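import Groth.Statements.S16231
import Mathlib
import Groth.Agent.S16230
-- import your own Groth.Agent.* helpers here

set_option autoImplicit false
universe u
open VanCyc

namespace Groth.Agent.S16231

open Groth.Agent.S16230 (V tau sum_tau V.tau V_X Q)

section alg
variable {A : Type u} [CommRing A] {n : ℕ}

/-- Coefficients graded by powers of an ideal. -/
def W (J : Ideal A) (r : ℕ) (g : MvPowerSeries (Fin n) A) : Prop :=
  ∀ e : Fin n →₀ ℕ, MvPowerSeries.coeff e g ∈ J ^ (r - e.degree)

lemma W.mul {J : Ideal A} {r s : ℕ} {g g' : MvPowerSeries (Fin n) A} (h : W J r g) (h' : W J s g') :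
    W J (r + s) (g * g') := by
  classical
  intro e
  rw [MvPowerSeries.coeff_mul]
  refine Ideal.sum_mem _ fun p hp => ?_
  rw [Finset.HasAntidiagonal.mem_antidiagonal] at hp
  refine Ideal.pow_le_pow_right ?_ (pow_add J _ _ ▸ Ideal.mul_mem_mul (h p.1) (h' p.2))
  rw [← hp, map_add]; omega

lemma W_zero (J : Ideal A) (g : MvPowerSeries (Fin n) A) : W J 0 g := fun e => by simp

lemma W_sum {J : Ideal A} {r : ℕ} {ι : Type*} {s : Finset ι} {g : ι → MvPowerSeries (Fin n) A}
    (h : ∀ i ∈ s, W J r (g i)) : W J r (∑ i ∈ s, g i) := fun e => by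
  rw [map_sum]; exact Ideal.sum_mem _ fun i hi => h i hi e

lemma W_X_add {J : Ideal A} (i : Fin n) {c : A} (hc : c ∈ J) :
    W J 1 (MvPowerSeries.X i + MvPowerSeries.C c : MvPowerSeries (Fin n) A) := by
  classical
  intro e
  by_cases he : e = 0
  · subst he
    simpa [MvPowerSeries.coeff_zero_eq_constantCoeff_apply] using hc
  · have : 1 ≤ e.degree := Nat.one_le_iff_ne_zero.mpr fun h => he ((Finsupp.degree_eq_zero_iff e).mp h)
    simp [Nat.sub_eq_zero_of_le this]

/-- The second order Taylor matrix. -/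
noncomputable def Hm (G : MvPowerSeries (Fin n) A) : Matrix (Fin n) (Fin n) A :=
  Matrix.of fun i j => MvPowerSeries.coeff (Finsupp.single i 1 + Finsupp.single j 1) G *
    (if i = j then 2 else 1)

lemma Hm_add (G G' : MvPowerSeries (Fin n) A) : Hm (G + G') = Hm G + Hm G' := by
  ext i j; simp only [Hm, Matrix.of_apply, Matrix.add_apply, map_add, add_mul]

lemma V3_coeff {R : MvPowerSeries (Fin n) A} (h : V 3 R) :
    MvPowerSeries.coeff 0 R = 0 ∧ (∀ i, MvPowerSeries.coeff (Finsupp.single i 1) R = 0) ∧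
      Hm R = 0 := by
  refine ⟨h 0 (by simp), fun i => h _ (by simp), ?_⟩
  ext i j
  simp [Hm, h _ (show (Finsupp.single i 1 + Finsupp.single j 1).degree < 3 by simp)]

/-- The polynomial part of degree at most two. -/
noncomputable def P2 (a : A) (u : Fin n → A) (w : Fin n → Fin n → A) : MvPowerSeries (Fin n) A :=
  MvPowerSeries.C a + ∑ l, MvPowerSeries.C (u l) * MvPowerSeries.X l + Q w MvPowerSeries.X

lemma XX_eq (a b : Fin n) : (MvPowerSeries.X a * MvPowerSeries.X b : MvPowerSeries (Fin n) A) =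
    MvPowerSeries.monomial (Finsupp.single a 1 + Finsupp.single b 1) 1 := by
  rw [MvPowerSeries.X, MvPowerSeries.X, MvPowerSeries.monomial_mul_monomial, one_mul]

lemma coeff_Q_X (w : Fin n → Fin n → A) (e : Fin n →₀ ℕ) :
    MvPowerSeries.coeff e (Q w MvPowerSeries.X) =
      ∑ a, ∑ b, if e = Finsupp.single a 1 + Finsupp.single b 1 then w a b else 0 := by
  classical
  simp [Q, XX_eq, MvPowerSeries.coeff_C_mul, MvPowerSeries.coeff_monomial]

lemma P2_coeff (a : A) (u : Fin n → A) (w : Fin n → Fin n → A) :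
    MvPowerSeries.coeff 0 (P2 a u w) = a ∧
    (∀ i, MvPowerSeries.coeff (Finsupp.single i 1) (P2 a u w) = u i) ∧
    Hm (P2 a u w) = Matrix.of fun i j => w i j + w j i := by
  classical
  have hd : ∀ {x y : Fin n →₀ ℕ}, x.degree ≠ y.degree → x ≠ y := fun h e => h (e ▸ rfl)
  refine ⟨?_, fun i => ?_, ?_⟩
  · have h0 : MvPowerSeries.coeff 0 (Q w (MvPowerSeries.X : Fin n → MvPowerSeries (Fin n) A)) = 0 := by
      rw [coeff_Q_X]
      exact Finset.sum_eq_zero fun a _ => Finset.sum_eq_zero fun b _ => if_neg (hd (by simp))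
    simp only [P2, map_add, h0, map_sum, MvPowerSeries.coeff_C, MvPowerSeries.coeff_C_mul, MvPowerSeries.coeff_X, if_true]
    rw [Finset.sum_eq_zero fun l _ => by rw [if_neg (hd (by simp)), mul_zero], add_zero, add_zero]
  · simp [P2, coeff_Q_X, MvPowerSeries.coeff_C, MvPowerSeries.coeff_X, Finsupp.single_left_inj,
      hd (show (Finsupp.single i 1).degree ≠ (Finsupp.single _ 1 + Finsupp.single _ 1).degree by simp)]
  · ext i j
    have e0 : Finsupp.single i 1 + Finsupp.single j 1 ≠ (0 : Fin n →₀ ℕ) := hd (by simp)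
    have e1 : ∀ l, Finsupp.single i 1 + Finsupp.single j 1 ≠ Finsupp.single l 1 := fun l => hd (by simp)
    simp only [Hm, Matrix.of_apply, P2, map_add, map_sum, MvPowerSeries.coeff_C, if_neg e0,
      MvPowerSeries.coeff_C_mul, MvPowerSeries.coeff_X, if_neg (e1 _), mul_zero,
      Finset.sum_const_zero, zero_add, coeff_Q_X]
    by_cases hij : i = j
    · subst hij
      have h1 : ∀ a b : Fin n, (Finsupp.single i 1 + Finsupp.single i 1 : Fin n →₀ ℕ) =
          Finsupp.single a 1 + Finsupp.single b 1 ↔ (a = i ∧ b = i) := by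
        intro a b
        refine ⟨fun h => ?_, by rintro ⟨rfl, rfl⟩; rfl⟩
        have := DFunLike.congr_fun h i
        simp [Finsupp.single_apply] at this
        grind
      simp [h1, ite_and, mul_two]
    · rw [if_neg hij, mul_one]
      have key : ∀ a b : Fin n, (Finsupp.single i 1 + Finsupp.single j 1 : Fin n →₀ ℕ) =
          Finsupp.single a 1 + Finsupp.single b 1 ↔ (a = i ∧ b = j) ∨ (a = j ∧ b = i) := by
        intro a b
        constructor
        · intro h
          have h1 := DFunLike.congr_fun h i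
          have h2 := DFunLike.congr_fun h j
          simp [Finsupp.single_apply, hij, Ne.symm hij] at h1 h2
          grind
        · rintro (⟨rfl, rfl⟩ | ⟨rfl, rfl⟩)
          · rfl
          · exact add_comm _ _
      simp only [key]
      rw [Finset.sum_eq_add i j hij]
      · simp [hij, Ne.symm hij]
      · intro a _ ha
        simp [ha.1, ha.2]
      · simp
      · simp

lemma exists_P2 (G : MvPowerSeries (Fin n) A) :
    ∃ (a : A) (u : Fin n → A) (w : Fin n → Fin n → A) (R : MvPowerSeries (Fin n) A),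
      V 3 R ∧ G = P2 a u w + R := by
  classical
  have hc : ∀ g : MvPowerSeries (Fin n) A, V 1 (g - MvPowerSeries.C (MvPowerSeries.constantCoeff g)) := by
    intro g e he
    rw [(Finsupp.degree_eq_zero_iff e).mp (by omega)]
    simp [MvPowerSeries.coeff_zero_eq_constantCoeff_apply]
  set G1 := G - MvPowerSeries.C (MvPowerSeries.constantCoeff G)
  set G2 : Fin n → MvPowerSeries (Fin n) A := fun l =>
    tau l G1 - MvPowerSeries.C (MvPowerSeries.constantCoeff (tau l G1))
  set G3 : Fin n → Fin n → MvPowerSeries (Fin n) A := fun l j =>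
    tau j (G2 l) - MvPowerSeries.C (MvPowerSeries.constantCoeff (tau j (G2 l)))
  refine ⟨MvPowerSeries.constantCoeff G, fun l => MvPowerSeries.constantCoeff (tau l G1),
    fun l j => MvPowerSeries.constantCoeff (tau j (G2 l)),
    ∑ l, ∑ j, MvPowerSeries.X l * MvPowerSeries.X j * G3 l j, ?_, ?_⟩
  · refine Groth.Agent.S16230.V_sum fun l _ => Groth.Agent.S16230.V_sum fun j _ => ?_
    exact ((V_X l).mul (V_X j)).mul (hc _)
  · have e1 : ∀ l, tau l G1 = MvPowerSeries.C (MvPowerSeries.constantCoeff (tau l G1)) + G2 l :=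
      fun l => by simp [G2]
    have e2 : ∀ l, G2 l = ∑ j, MvPowerSeries.X j * tau j (G2 l) := fun l => (sum_tau (hc _)).symm
    have e3 : G1 = ∑ l, MvPowerSeries.X l * tau l G1 := (sum_tau (hc _)).symm
    calc G = MvPowerSeries.C (MvPowerSeries.constantCoeff G) + G1 := by simp [G1]
      _ = MvPowerSeries.C (MvPowerSeries.constantCoeff G) + ∑ l,
          MvPowerSeries.X l * (MvPowerSeries.C (MvPowerSeries.constantCoeff (tau l G1)) +
            ∑ j, MvPowerSeries.X j * tau j (G2 l)) := by
        simp only [← e2, ← e1]; rw [← e3]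
      _ = _ := by
        simp only [P2, Q, G3, Finset.mul_sum, mul_add, mul_sub, Finset.sum_add_distrib,
          Finset.sum_sub_distrib]
        have : ∀ l j, (MvPowerSeries.X l * MvPowerSeries.X j) *
            MvPowerSeries.C (MvPowerSeries.constantCoeff (tau j (G2 l))) =
            MvPowerSeries.C (MvPowerSeries.constantCoeff (tau j (G2 l))) *
              (MvPowerSeries.X l * MvPowerSeries.X j) := fun l j => mul_comm _ _
        simp only [this, mul_assoc]
        simp only [mul_comm (MvPowerSeries.X _) (MvPowerSeries.C _)]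
        abel

/-- Translating the degree two part. -/
lemma P2_translate (a : A) (u : Fin n → A) (w : Fin n → Fin n → A) (d : Fin n → A) :
    MvPowerSeries.C a + ∑ l, MvPowerSeries.C (u l) * (MvPowerSeries.X l + MvPowerSeries.C (d l)) +
      Q w (fun l => MvPowerSeries.X l + MvPowerSeries.C (d l)) =
    P2 (a + ∑ l, u l * d l + ∑ i, ∑ j, w i j * (d i * d j))
      (fun l => u l + ∑ j, (w l j + w j l) * d j) w := by
  have lin : ∀ l, MvPowerSeries.C (u l) * (MvPowerSeries.X l + MvPowerSeries.C (d l) : MvPowerSeries (Fin n) A) =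
      MvPowerSeries.C (u l) * MvPowerSeries.X l + MvPowerSeries.C (u l * d l) := fun l => by
    rw [map_mul, mul_add]
  have quad : ∀ i j, MvPowerSeries.C (w i j) * ((MvPowerSeries.X i + MvPowerSeries.C (d i) :
      MvPowerSeries (Fin n) A) * (MvPowerSeries.X j + MvPowerSeries.C (d j))) =
      MvPowerSeries.C (w i j) * (MvPowerSeries.X i * MvPowerSeries.X j) +
      MvPowerSeries.C (w i j * d j) * MvPowerSeries.X i + MvPowerSeries.C (w i j * d i) * MvPowerSeries.X j +
      MvPowerSeries.C (w i j * (d i * d j)) := fun i j => by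
    simp only [map_mul]; ring
  have mid : ∑ l, MvPowerSeries.C (u l + ∑ j, (w l j + w j l) * d j) * (MvPowerSeries.X l : MvPowerSeries (Fin n) A) =
      (∑ l, MvPowerSeries.C (u l) * MvPowerSeries.X l) +
      ((∑ i, ∑ j, MvPowerSeries.C (w i j * d j) * MvPowerSeries.X i) +
        ∑ i, ∑ j, MvPowerSeries.C (w i j * d i) * MvPowerSeries.X j) := by
    rw [Finset.sum_comm (f := fun i j => MvPowerSeries.C (w i j * d i) * MvPowerSeries.X j),
      ← Finset.sum_add_distrib, ← Finset.sum_add_distrib]
    refine Finset.sum_congr rfl fun l _ => ?_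
    rw [map_add, map_sum, add_mul, Finset.sum_mul, ← Finset.sum_add_distrib]
    congr 1
    exact Finset.sum_congr rfl fun j _ => by rw [add_mul, map_add, add_mul]
  simp only [P2, Q, lin, quad, Finset.sum_add_distrib]
  rw [mid]
  simp only [map_add, map_sum]
  abel

end alg

section top
open scoped MvPowerSeries.WithPiTopology

variable {A : Type u} [CommRing A] [WithIdeal A] [CompleteSpace A] [T2Space A] {n : ℕ}

lemma hasEval_translate {c : Fin n → A} (hc : ∀ i, c i ∈ WithIdeal.i (R := A)) :
    MvPowerSeries.HasEval (fun i => MvPowerSeries.X i + MvPowerSeries.C (c i) :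
      Fin n → MvPowerSeries (Fin n) A) := by
  refine ⟨fun i => ?_, by simp [Filter.cofinite_eq_bot]⟩
  refine MvPowerSeries.LinearTopology.isTopologicallyNilpotent_of_constantCoeff ?_
  rw [map_add, MvPowerSeries.constantCoeff_X, zero_add, MvPowerSeries.constantCoeff_C]
  have hb : (nhds (0 : A)).HasBasis (fun _ => True) fun k : ℕ =>
      ((WithIdeal.i (R := A) ^ k : Ideal A) : Set A) := IsAdic.hasBasis_nhds_zero rfl
  rw [IsTopologicallyNilpotent, hb.tendsto_right_iff]
  intro k _
  rw [Filter.eventually_atTop]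
  exact ⟨k, fun N hN => Ideal.pow_le_pow_right hN (Ideal.pow_mem_pow (hc i) N)⟩

/-- Translation of power series by a vector of small elements. -/
noncomputable def T (c : Fin n → A) (hc : ∀ i, c i ∈ WithIdeal.i (R := A)) :
    MvPowerSeries (Fin n) A →ₐ[A] MvPowerSeries (Fin n) A :=
  MvPowerSeries.aeval (hasEval_translate hc)

lemma T_X (c : Fin n → A) (hc : ∀ i, c i ∈ WithIdeal.i (R := A)) (i : Fin n) :
    T c hc (MvPowerSeries.X i) = MvPowerSeries.X i + MvPowerSeries.C (c i) := by
  rw [T, ← MvPolynomial.coe_X, MvPowerSeries.aeval_coe, MvPolynomial.aeval_X, MvPolynomial.coe_X]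

lemma T_C (c : Fin n → A) (hc : ∀ i, c i ∈ WithIdeal.i (R := A)) (a : A) :
    T c hc (MvPowerSeries.C a) = MvPowerSeries.C a := by
  rw [MvPowerSeries.c_eq_algebraMap]; exact (T c hc).commutes a

lemma T_comp (c d : Fin n → A) (hc : ∀ i, c i ∈ WithIdeal.i (R := A))
    (hd : ∀ i, d i ∈ WithIdeal.i (R := A)) :
    (T d hd).comp (T c hc) = T (c + d) (fun i => Ideal.add_mem _ (hc i) (hd i)) := by
  rw [show T c hc = MvPowerSeries.aeval (hasEval_translate hc) from rfl, MvPowerSeries.comp_aeval (hasEval_translate hc)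
    (show Continuous (T d hd) from MvPowerSeries.continuous_aeval (hasEval_translate hd))]
  simp only [T]
  congr 1
  funext i
  show T d hd (MvPowerSeries.X i + MvPowerSeries.C (c i)) = _
  rw [map_add, T_X, T_C, Pi.add_apply, map_add]
  abel

lemma T_zero (c : Fin n → A) (hc : ∀ i, c i ∈ WithIdeal.i (R := A)) (h : c = 0) :
    T c hc = AlgHom.id A _ := by
  subst h
  rw [T, ← MvPowerSeries.aeval_unique (ε := AlgHom.id A (MvPowerSeries (Fin n) A)) continuous_id]
  congr 1
  funext i
  simp

lemma step {J : Ideal A} (d : Fin n → A) (hd : ∀ i, d i ∈ WithIdeal.i (R := A))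
    (hdJ : ∀ i, d i ∈ J) (G : MvPowerSeries (Fin n) A) :
    MvPowerSeries.coeff 0 (T d hd G) - MvPowerSeries.coeff 0 G ∈ J ∧
    (∀ i, MvPowerSeries.coeff (Finsupp.single i 1) (T d hd G) -
      (MvPowerSeries.coeff (Finsupp.single i 1) G + ∑ j, Hm G i j * d j) ∈ J ^ 2) ∧
    ∀ i j, Hm (T d hd G) i j - Hm G i j ∈ J := by
  obtain ⟨a, u, w, R, hR, rfl⟩ := exists_P2 G
  have hW : ∀ r (g : MvPowerSeries (Fin n) A), V r g → W J r (T d hd g) := by
    intro r
    induction r with
    | zero => intro g _; exact W_zero J _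
    | succ r ih =>
      intro g hg
      rw [← sum_tau (hg.mono (by omega)), map_sum]
      refine W_sum fun l _ => ?_
      rw [map_mul, T_X, add_comm r 1]
      exact (W_X_add l (hdJ l)).mul (ih _ (V.tau l hg))
  have hT : T d hd (P2 a u w + R) = P2 (a + ∑ l, u l * d l + ∑ i, ∑ j, w i j * (d i * d j))
      (fun l => u l + ∑ j, (w l j + w j l) * d j) w + T d hd R := by
    rw [map_add, ← P2_translate]
    simp only [P2, Q, map_add, map_sum, map_mul, T_X, T_C]
  obtain ⟨p0, p1, p2⟩ := P2_coeff (a + ∑ l, u l * d l + ∑ i, ∑ j, w i j * (d i * d j))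
      (fun l => u l + ∑ j, (w l j + w j l) * d j) w
  obtain ⟨q0, q1, q2⟩ := P2_coeff a u w
  obtain ⟨r0, r1, r2⟩ := V3_coeff hR
  have hW3 := hW 3 R hR
  refine ⟨?_, fun i => ?_, fun i j => ?_⟩
  · rw [hT, map_add, map_add, p0, q0, r0]
    have h3 := Ideal.pow_le_self (show 3 - (0 : Fin n →₀ ℕ).degree ≠ 0 by simp) (hW3 0)
    rw [show a + ∑ l, u l * d l + ∑ i, ∑ j, w i j * (d i * d j) +
        MvPowerSeries.coeff 0 (T d hd R) - (a + 0) =
        ∑ l, u l * d l + ∑ i, ∑ j, w i j * (d i * d j) + MvPowerSeries.coeff 0 (T d hd R) by ring]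
    exact Ideal.add_mem _ (Ideal.add_mem _ (Ideal.sum_mem _ fun l _ => Ideal.mul_mem_left _ _ (hdJ l))
      (Ideal.sum_mem _ fun i _ => Ideal.sum_mem _ fun j _ =>
        Ideal.mul_mem_left _ _ (Ideal.mul_mem_left _ _ (hdJ j)))) h3
  · rw [hT, map_add, map_add, p1, q1, r1, Hm_add, q2, r2, add_zero, add_zero]
    have h3 := hW3 (Finsupp.single i 1)
    simp only [Matrix.of_apply, Finsupp.degree_single] at h3 ⊢
    simpa using h3
  · have h3 := hW3 (Finsupp.single i 1 + Finsupp.single j 1)
    simp only [map_add, Finsupp.degree_single] at h3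
    rw [hT, Hm_add, Hm_add, p2, q2, r2, add_zero, Matrix.add_apply, add_sub_cancel_left]
    exact Ideal.mul_mem_right _ _ (by simpa using h3)

end top

/-- Let A be a local ring with maximal ideal m that is separated and complete for the m-adic topology (A
is not assumed Noetherian), n a natural number, q an n × n coefficient table over A whose quadratic
form Q(x) = Σ_{i≤j} q_ij x_i x_j is non-degenerate (unit Gram determinant of the polar bilinear
form), a and ℓ_1, …, ℓ_n elements of m, and F a formal power series in x_1, …, x_n over A whose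
coefficients in total degree at most 2 agree with those of a + Σ ℓ_i x_i + Q(x). Then there are an
element a' of m and a non-degenerate coefficient table q' such that A[[x]]/(F) and A[[x]]/(Q'(x) +
a') are isomorphic as A-algebras, Q' the quadratic form of q'. -/
theorem result
    (A : Type u) [CommRing A] [IsLocalRing A]
    [IsAdicComplete (IsLocalRing.maximalIdeal A) A] (n : ℕ)
    (q : Fin n → Fin n → A) (hq : VanCyc.QuadNondeg q)
    (a : A) (ha : a ∈ IsLocalRing.maximalIdeal A)
    (ℓ : Fin n → A) (hℓ : ∀ i, ℓ i ∈ IsLocalRing.maximalIdeal A)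
    (F : MvPowerSeries (Fin n) A)
    (hF : ∀ e : Fin n →₀ ℕ, e.degree ≤ 2 →
      MvPowerSeries.coeff e F = MvPowerSeries.coeff e ((VanCyc.quadPoly q + ∑ i, MvPolynomial.C (ℓ i) * MvPolynomial.X i + MvPolynomial.C a : MvPolynomial (Fin n) A) : MvPowerSeries (Fin n) A)) :
    ∃ (a' : A) (q' : Fin n → Fin n → A), a' ∈ IsLocalRing.maximalIdeal A ∧ VanCyc.QuadNondeg q' ∧
      Nonempty ((MvPowerSeries (Fin n) A ⧸ Ideal.span {F}) ≃ₐ[A]
        (MvPowerSeries (Fin n) A ⧸ Ideal.span {((VanCyc.quadPoly q' + MvPolynomial.C a' : MvPolynomial (Fin n) A) : MvPowerSeries (Fin n) A)})) := by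
  classical
  set M := IsLocalRing.maximalIdeal A with hM
  letI : WithIdeal A := ⟨M⟩
  obtain ⟨hcompl, hT2⟩ := (IsAdic.isAdicComplete_iff (R := A) (I := M) rfl).mp inferInstance
  set c : Fin n → Fin n → A := fun i j => if i ≤ j then q i j else 0 with hcdef
  have hH : ∀ (q : Fin n → Fin n → A) i j, VanCyc.polarMatrix q i j =
      (if i ≤ j then q i j else 0) + (if j ≤ i then q j i else 0) := by
    intro q i j
    simp only [VanCyc.polarMatrix]
    rcases lt_trichotomy i j with h | rfl | h
    · simp [h.ne, h, h.le, not_le.mpr h]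
    · simp [two_mul]
    · simp [h.ne', not_lt.mpr h.le, h.le, not_le.mpr h]
  have hpoly : ∀ (q : Fin n → Fin n → A) (u : Fin n → A) (a : A),
      ((VanCyc.quadPoly q + ∑ i, MvPolynomial.C (u i) * MvPolynomial.X i + MvPolynomial.C a :
        MvPolynomial (Fin n) A) : MvPowerSeries (Fin n) A) =
        P2 a u (fun i j => if i ≤ j then q i j else 0) := by
    intro q u a
    rw [← MvPolynomial.coeToMvPowerSeries.ringHom_apply]
    simp only [VanCyc.quadPoly, P2, Q, map_add, map_sum, apply_ite, map_zero, map_mul,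
      MvPolynomial.coeToMvPowerSeries.ringHom_apply, MvPolynomial.coe_C, MvPolynomial.coe_X,
      ite_mul, zero_mul, mul_assoc]
    abel
  have hF0 : ∀ e : Fin n →₀ ℕ, e.degree ≤ 2 → MvPowerSeries.coeff e F =
      MvPowerSeries.coeff e (P2 a ℓ c) := fun e he => by rw [hF e he, hpoly]
  obtain ⟨q0, q1, q2⟩ := P2_coeff a ℓ c
  have hF1 : ∀ i, MvPowerSeries.coeff (Finsupp.single i 1) F = ℓ i := fun i => by
    rw [hF0 _ (by simp), q1]
  have hFH : Hm F = VanCyc.polarMatrix q := by
    rw [← Matrix.ext_iff]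
    intro i j
    have := congr_fun (congr_fun q2 i) j
    simp only [Hm, Matrix.of_apply] at this ⊢
    rw [hF0 _ (by simp), this, hH]
  obtain ⟨P, hP⟩ := ((Matrix.isUnit_iff_isUnit_det _).mpr hq).exists_right_inv
  rw [← hFH] at hP
  have next_step : ∀ (k : ℕ) (x : Fin n → A), ∃ y : Fin n → A,
      ∀ hx : ∀ i, x i ∈ M, (∀ i, MvPowerSeries.coeff (Finsupp.single i 1) (T x hx F) ∈ M ^ (k + 1)) →
        ∃ hy : ∀ i, y i ∈ M, (∀ i, y i - x i ∈ M ^ (k + 1)) ∧
          ∀ i, MvPowerSeries.coeff (Finsupp.single i 1) (T y hy F) ∈ M ^ (k + 2) := by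
    intro k x
    by_cases hx : ∀ i, x i ∈ M
    swap
    · exact ⟨x, fun h => absurd h hx⟩
    set v : Fin n → A := fun i => MvPowerSeries.coeff (Finsupp.single i 1) (T x hx F) with hv
    set d : Fin n → A := fun i => -(P.mulVec v i) with hd
    refine ⟨x + d, fun _ hlin => ?_⟩
    have hdk : ∀ i, d i ∈ M ^ (k + 1) := fun i => by
      show -(∑ j, P i j * v j) ∈ M ^ (k + 1)
      exact neg_mem (Ideal.sum_mem _ fun j _ => Ideal.mul_mem_left _ _ (hlin j))
    have hdM : ∀ i, d i ∈ M := fun i => Ideal.pow_le_self (by omega) (hdk i)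
    refine ⟨fun i => Ideal.add_mem _ (hx i) (hdM i), fun i => by simpa using hdk i, fun i => ?_⟩
    rw [← T_comp x d hx hdM, AlgHom.comp_apply]
    have h1 := (step (J := M ^ (k + 1)) d hdM hdk (T x hx F)).2.1 i
    rw [← pow_mul] at h1
    have h2 : v i + ∑ j, Hm (T x hx F) i j * d j ∈ M ^ (k + 2) := by
      have e : ∑ j, Hm F i j * d j = -v i := by
        have := congr_fun (congr_arg (fun N => Matrix.mulVec N v) hP) i
        rw [← Matrix.mulVec_mulVec, Matrix.one_mulVec] at this
        simp only [hd, mul_neg, Finset.sum_neg_distrib, neg_inj]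
        exact this
      have : v i + ∑ j, Hm (T x hx F) i j * d j = ∑ j, (Hm (T x hx F) i j - Hm F i j) * d j := by
        simp only [sub_mul, Finset.sum_sub_distrib, e]; ring
      rw [this]
      refine Ideal.sum_mem _ fun j _ => ?_
      rw [show k + 2 = (k + 1) + 1 from rfl, pow_succ']
      exact Ideal.mul_mem_mul ((step (J := M) x hx hx F).2.2 i j) (hdk j)
    exact (Submodule.sub_mem_iff_left _ h2).mp (Ideal.pow_le_pow_right (by omega) h1)
  choose nxt hnxt using next_step
  let s : ℕ → Fin n → A := fun k => Nat.rec (fun _ => 0) (fun k x => nxt k x) k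
  have hs : ∀ k, ∃ h : ∀ i, s k i ∈ M,
      ∀ i, MvPowerSeries.coeff (Finsupp.single i 1) (T (s k) h F) ∈ M ^ (k + 1) := by
    intro k
    induction k with
    | zero =>
      refine ⟨fun _ => zero_mem _, fun i => ?_⟩
      rw [T_zero (s 0) _ rfl, AlgHom.id_apply, hF1, zero_add, pow_one]
      exact hℓ i
    | succ k ih =>
      obtain ⟨h, hl⟩ := ih
      obtain ⟨hy, -, hl'⟩ := hnxt k (s k) h hl
      exact ⟨hy, hl'⟩
  have hdiff : ∀ k i, s (k + 1) i - s k i ∈ M ^ (k + 1) := fun k i =>
    (hnxt k (s k) (hs k).1 (hs k).2).2.1 i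
  have hcauchy : ∀ i {a b : ℕ}, a ≤ b → s b i - s a i ∈ M ^ a := by
    intro i a b hab
    induction b, hab using Nat.le_induction with
    | base => simp
    | succ b hb ih =>
      rw [show s (b + 1) i - s a i = (s (b + 1) i - s b i) + (s b i - s a i) by ring]
      exact Ideal.add_mem _ (Ideal.pow_le_pow_right (by omega) (hdiff b i)) ih
  have hlim : ∀ i, ∃ L, ∀ k, s k i - L ∈ M ^ k := by
    intro i
    obtain ⟨L, hL⟩ := IsPrecomplete.prec (inferInstance : IsPrecomplete M A) (f := fun k => s k i)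
      (fun {a b} hab => by
        rw [SModEq.sub_mem, smul_eq_mul, Ideal.mul_top]
        simpa using neg_mem (hcauchy i hab))
    refine ⟨L, fun k => ?_⟩
    have := hL k
    rw [SModEq.sub_mem, smul_eq_mul, Ideal.mul_top] at this
    exact this
  choose L hL using hlim
  have hLM : ∀ i, L i ∈ M := fun i => by
    have h1 := hL i 1
    rw [pow_one] at h1
    exact (Submodule.sub_mem_iff_right _ ((hs 1).1 i)).mp h1
  have hlin : ∀ i, MvPowerSeries.coeff (Finsupp.single i 1) (T L hLM F) = 0 := by
    intro i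
    refine IsHausdorff.haus (inferInstance : IsHausdorff M A) _ fun k => ?_
    rw [SModEq.sub_mem, smul_eq_mul, Ideal.mul_top, sub_zero]
    obtain ⟨hk, hkl⟩ := hs k
    set d : Fin n → A := fun i => L i - s k i with hd
    have hdM : ∀ i, d i ∈ M := fun i => Ideal.sub_mem _ (hLM i) (hk i)
    have hdk : ∀ i, d i ∈ M ^ k := fun i => by simpa [hd] using neg_mem (hL i k)
    have e : T L hLM = (T d hdM).comp (T (s k) hk) := by
      rw [T_comp]
      congr 1
      funext i
      simp [hd]
    rw [e, AlgHom.comp_apply]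
    have h1 := (step (J := M ^ k) d hdM hdk (T (s k) hk F)).2.1 i
    refine (Submodule.sub_mem_iff_left _ ?_).mp (Ideal.pow_le_self two_ne_zero h1)
    exact Ideal.add_mem _ (Ideal.pow_le_pow_right (by omega) (hkl i))
      (Ideal.sum_mem _ fun j _ => Ideal.mul_mem_left _ _ (hdk j))
  obtain ⟨a', u', w', R, hR, hG⟩ := exists_P2 (T L hLM F)
  obtain ⟨p0, p1, p2⟩ := P2_coeff a' u' w'
  obtain ⟨r0, r1, r2⟩ := V3_coeff hR
  have hu' : u' = 0 := funext fun i => by simpa [hG, p1, r1] using hlin i
  let q' : Fin n → Fin n → A := fun i j => if i < j then w' i j + w' j i else if i = j then w' i i else 0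
  have hpol : VanCyc.polarMatrix q' = Hm (T L hLM F) := by
    rw [hG, Hm_add, p2, r2, add_zero]
    ext i j
    rw [hH]
    simp only [q', Matrix.of_apply]
    rcases lt_trichotomy i j with h | rfl | h
    · simp [h, h.le, not_le.mpr h]
    · simp
    · simp [h, h.le, not_le.mpr h, add_comm]
  have hq' : VanCyc.QuadNondeg q' := by
    show IsUnit _
    rw [hpol]
    refine IsUnit.of_map (IsLocalRing.residue A) _ ?_
    rw [RingHom.map_det]
    have e : (IsLocalRing.residue A).mapMatrix (Hm (T L hLM F)) =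
        (IsLocalRing.residue A).mapMatrix (VanCyc.polarMatrix q) := by
      ext i j
      rw [← hFH]
      exact Ideal.Quotient.eq.mpr ((step (J := M) L hLM hLM F).2.2 i j)
    rw [e, ← RingHom.map_det]
    exact RingHom.isUnit_map _ hq
  have ha' : a' ∈ M := by
    have h1 := (step (J := M) L hLM hLM F).1
    rw [hG, map_add, p0, r0, add_zero, hF0 0 (by simp), q0] at h1
    exact (Submodule.sub_mem_iff_left _ ha).mp h1
  have hQ : Q w' MvPowerSeries.X = Q (fun i j => if i ≤ j then q' i j else 0)
      (MvPowerSeries.X : Fin n → MvPowerSeries (Fin n) A) := by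
    have sym : ∀ v : Fin n → Fin n → A, Q v (MvPowerSeries.X : Fin n → MvPowerSeries (Fin n) A) =
        ∑ i, ∑ j, MvPowerSeries.C (if i < j then v i j + v j i else if i = j then v i i else 0) *
          (MvPowerSeries.X i * MvPowerSeries.X j) := by
      intro v
      have hsplit : ∀ i j, MvPowerSeries.C (if i < j then v i j + v j i else if i = j then v i i else 0) *
          (MvPowerSeries.X i * MvPowerSeries.X j : MvPowerSeries (Fin n) A) =
          (if i ≤ j then MvPowerSeries.C (v i j) * (MvPowerSeries.X i * MvPowerSeries.X j) else 0) +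
          (if i < j then MvPowerSeries.C (v j i) * (MvPowerSeries.X j * MvPowerSeries.X i) else 0) := by
        intro i j
        rcases lt_trichotomy i j with h | rfl | h
        · simp [h, h.le, add_mul, mul_comm (MvPowerSeries.X j)]
        · simp
        · simp [not_lt.mpr h.le, not_le.mpr h, h.ne']
      simp only [hsplit, Finset.sum_add_distrib, Q]
      rw [Finset.sum_comm (f := fun i j => if i < j then MvPowerSeries.C (v j i) * (MvPowerSeries.X j * MvPowerSeries.X i) else 0),
        ← Finset.sum_add_distrib]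
      refine Finset.sum_congr rfl fun i _ => ?_
      rw [← Finset.sum_add_distrib]
      refine Finset.sum_congr rfl fun j _ => ?_
      rcases le_or_gt i j with h | h
      · simp [h, not_lt.mpr h]
      · simp [h, not_le.mpr h]
    rw [sym w']
    refine Finset.sum_congr rfl fun i _ => Finset.sum_congr rfl fun j _ => ?_
    congr 2
    simp only [q']
    rcases lt_trichotomy i j with h | rfl | h
    · simp [h, h.le]
    · simp
    · simp [not_lt.mpr h.le, not_le.mpr h, h.ne']
  have hT2' : ∀ e : Fin n →₀ ℕ, e.degree ≤ 2 → MvPowerSeries.coeff e (T L hLM F) =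
      MvPowerSeries.coeff e ((VanCyc.quadPoly q' + MvPolynomial.C a' : MvPolynomial (Fin n) A) : MvPowerSeries (Fin n) A) := by
    intro e he
    rw [show (VanCyc.quadPoly q' + MvPolynomial.C a' : MvPolynomial (Fin n) A) =
      VanCyc.quadPoly q' + ∑ i, MvPolynomial.C ((0 : Fin n → A) i) * MvPolynomial.X i + MvPolynomial.C a' by simp,
      hpoly, hG, map_add, hR e (by omega), add_zero, hu']
    simp only [P2, hQ]
  obtain ⟨-, -, -, -, ⟨e2⟩⟩ := Groth.Agent.S16230.result A n 2 le_rfl q' hq' a' (T L hLM F) hT2'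
  refine ⟨a', q', ha', hq', ⟨AlgEquiv.trans ?_ e2⟩⟩
  let E : MvPowerSeries (Fin n) A ≃ₐ[A] MvPowerSeries (Fin n) A :=
    AlgEquiv.ofAlgHom (T L hLM) (T (-L) fun i => neg_mem (hLM i))
      (by rw [T_comp]; exact T_zero _ _ (neg_add_cancel L))
      (by rw [T_comp]; exact T_zero _ _ (add_neg_cancel L))
  refine Ideal.quotientEquivAlg _ _ E ?_
  rw [Ideal.map_span, Set.image_singleton]
  rfl

end Groth.Agent.S16231
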