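import Mathlib
import Groth.Agent.S4239
import Groth.Statements.S16233
-- import your own Groth.Agent.* helpers here

set_option autoImplicit false
open NCTr

namespace Groth.Agent.S16233

/-- Let Λ be a ring, not necessarily commutative, G a finite group, P a left Λ[G]-module with a finite
Λ[G]-basis b, regarded also as a Λ-module by restriction of scalars and equipped with any finite
Λ-basis c, and u a Λ[G]-linear endomorphism of P with diagonal matrix entries u_ii = (b.repr (u (b
i))) i in Λ[G]. Then the trace of u as a Λ-linear endomorphism, taken in Λ modulo additive
commutators with respect to c, equals |G| times the class of the sum over i of the coefficients of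
the identity element of G in the u_ii (that sum of coefficients is the value at the identity class
of the Λ[G]-trace of u, the G-trace of u). The source states this for P finitely generated
projective over Λ[G]; this row is the free case. -/
theorem result
    (Λ : Type*) [Ring Λ] (G : Type*) [Group G] [Fintype G]
    (P : Type*) [AddCommGroup P] [Module Λ P] [Module (MonoidAlgebra Λ G) P]
    [IsScalarTower Λ (MonoidAlgebra Λ G) P]
    {ι κ : Type*} [Fintype ι] [Fintype κ]
    (b : Module.Basis ι (MonoidAlgebra Λ G) P) (c : Module.Basis κ Λ P)
    (u : P →ₗ[MonoidAlgebra Λ G] P) :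
    NCTr.hsTrace c (u.restrictScalars Λ) =
      Fintype.card G • ∑ i, (QuotientAddGroup.mk ((b.repr (u (b i)) i).coeff 1) : NCTr.Abel Λ) := by
  classical
  let bb := (MonoidAlgebra.basis G Λ).smulTower b
  rw [Groth.Agent.S4239.result Λ P c bb, NCTr.hsTrace, Fintype.sum_prod_type, Finset.smul_sum]
  rw [show Fintype.card G = (Finset.univ : Finset G).card from rfl]
  simp only [← Finset.sum_const]
  rw [Finset.sum_comm]
  refine Finset.sum_congr rfl fun i _ => Finset.sum_congr rfl fun g _ => ?_
  congr 1
  simp only [bb, Module.Basis.smulTower_apply, LinearMap.coe_restrictScalars, map_smul,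
    Module.Basis.smulTower_repr_mk, Finsupp.smul_apply, smul_eq_mul, MonoidAlgebra.basis_apply]
  show (MonoidAlgebra.single g 1 * b.repr (u (b i)) i).coeff g = _
  rw [MonoidAlgebra.coeff_single_mul_apply, one_mul]
  congr 1
  group

end Groth.Agent.S16233
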