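import Mathlib
import Groth.Statements.S16234
-- import your own Groth.Agent.* helpers here

set_option autoImplicit false
universe u v
open CAlg

namespace Groth.Agent.S16234

/-- For a finitely generated module M over a Noetherian commutative ring A, every prime ideal in the
support of M is a maximal ideal if and only if M has finite length. -/
theorem result (A : Type u) [CommRing A] [IsNoetherianRing A]
    (M : Type v) [AddCommGroup M] [Module A M] [Module.Finite A M] :
    (∀ p ∈ Module.support A M, p.asIdeal.IsMaximal) ↔ IsFiniteLength A M := by
  induction ‹Module.Finite A M› using IsNoetherianRing.induction_on_isQuotientEquivQuotientPrime (A := A) with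
  | subsingleton N =>
    exact ⟨fun _ => .of_subsingleton, fun _ p hp => absurd hp (by simp [Module.support_eq_empty])⟩
  | quotient N p e =>
    rw [e.support_eq, ← Module.length_ne_top_iff, e.length_eq]
    constructor
    · intro h
      have hp : p.asIdeal.IsMaximal := h p (by simp [Module.support_eq_zeroLocus, Ideal.annihilator_quotient])
      haveI : IsSimpleModule A (A ⧸ p.asIdeal) := isSimpleModule_iff_isCoatom.2 (Ideal.isMaximal_def.1 hp)
      rw [Module.length_eq_one]; decide
    · intro h q hq
      rw [Module.support_eq_zeroLocus, Ideal.annihilator_quotient] at hq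
      haveI : IsArtinian A (A ⧸ p.asIdeal) := (isFiniteLength_iff_isNoetherian_isArtinian.1 (Module.length_ne_top_iff.1 h)).2
      haveI : IsArtinianRing (A ⧸ p.asIdeal) := isArtinian_of_tower A inferInstance
      have hp : p.asIdeal.IsMaximal := Ideal.Quotient.maximal_of_isField _ (IsArtinianRing.isField_of_isDomain _)
      exact hp.eq_of_le q.isPrime.ne_top hq ▸ hp
  | exact M₁ M₂ M₃ f g hf hg hfg h1 h3 =>
    rw [Module.support_of_exact hfg hf hg, ← Module.length_ne_top_iff, Module.length_eq_add_of_exact f g hf hg hfg,
      ne_eq, ENat.add_eq_top, not_or, ← ne_eq, ← ne_eq, Module.length_ne_top_iff, Module.length_ne_top_iff, ← h1, ← h3]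
    exact ⟨fun h => ⟨fun q hq => h q (Or.inl hq), fun q hq => h q (Or.inr hq)⟩, fun h q hq => hq.elim (h.1 q) (h.2 q)⟩

end Groth.Agent.S16234
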