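import Mathlib
import Groth.Statements.S16235
-- import your own Groth.Agent.* helpers here

set_option autoImplicit false
universe u
open CAlg

namespace Groth.Agent.S16235

/-- Let A be a Noetherian commutative ring and x_1, …, x_r a regular sequence on A (each x_i a
non-zero-divisor on A/(x_1, …, x_{i-1})) generating an ideal I ≠ A. Then the height of I, the
infimum of the heights of the minimal primes over I, equals r. -/
theorem result (A : Type u) [CommRing A] [IsNoetherianRing A]
    (r : ℕ) (x : Fin r → A) (hx : RingTheory.Sequence.IsWeaklyRegular A (List.ofFn x))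
    (hI : Ideal.span (Set.range x) ≠ ⊤) :
    (Ideal.span (Set.range x)).height = r := by
  classical
  set I := Ideal.span (Set.range x) with hIdef
  have hof : Ideal.ofList (List.ofFn x) = I := by
    rw [hIdef, Ideal.ofList]
    congr 1
    ext a
    simp [List.mem_ofFn']
  refine le_antisymm ?_ ?_
  · obtain ⟨J, hJ⟩ := Ideal.nonempty_minimalPrimes hI
    rw [I.height_eq_inf_minimalPrimes]
    refine (iInf₂_le J hJ).trans ((Ideal.height_le_card_of_mem_minimalPrimes_span (Set.finite_range x) hJ).trans ?_)
    rw [Set.ncard_eq_toFinset_card']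
    exact_mod_cast (le_of_le_of_eq (by simpa using Finset.card_image_le (s := Finset.univ) (f := x)) (Fintype.card_fin r))
  · rw [I.height_eq_inf_minimalPrimes]
    refine le_iInf₂ fun p hp => ?_
    haveI := hp.1.1
    have hmem : ∀ a ∈ List.ofFn x, a ∈ p := fun a ha => by
      obtain ⟨i, rfl⟩ := List.mem_ofFn.1 ha
      exact hp.1.2 (Ideal.subset_span ⟨i, rfl⟩)
    have hreg := hx.isRegular_of_isLocalization_of_mem (Localization.AtPrime p) p hmem
    have hd := ringKrullDim_add_length_eq_ringKrullDim_of_isRegular _ hreg
    rw [IsLocalization.AtPrime.ringKrullDim_eq_height p (Localization.AtPrime p), List.length_map, List.length_ofFn] at hd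
    haveI : Nontrivial (Localization.AtPrime p ⧸ Ideal.ofList ((List.ofFn x).map (algebraMap A (Localization.AtPrime p)))) :=
      Ideal.Quotient.nontrivial_iff.2 (fun e => hreg.2 (by rw [e]; simp))
    refine WithBot.coe_le_coe.1 (le_of_le_of_eq ?_ hd)
    exact le_add_of_nonneg_left ringKrullDim_nonneg_of_nontrivial

end Groth.Agent.S16235
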