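import Groth.Statements.S16240
import Groth.Agent.RegSyz.Basic
-- import your own Groth.Agent.* helpers here

set_option autoImplicit false
universe u
open CategoryTheory CategoryTheory.Limits AlgebraicGeometry
open Coh

namespace Groth.Agent.S16240

/-- Let X be a Noetherian scheme all of whose local rings are regular, of (topological Krull) dimension
at most m, and let S be an exact sequence of O_X-modules G ⟶ E_m ⟶ ⋯ ⟶ E_1 ⟶ F with m + 2 terms (G
in position 0, F in position m + 1), injective at the first map and surjective at the last, in which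
F is coherent and E_1, …, E_m are finite locally free. Then G is finite locally free. (The source
asks for p + 1 vector bundles with p ≥ dim X − 1, i.e. at least dim X of them, and finite dimension;
here m bounds the dimension.) -/
theorem result (X : Scheme.{u}) [IsNoetherian X]
    (hreg : ∀ x : X, IsRegularLocalRing (X.presheaf.stalk x)) (m : ℕ)
    (hdim : topologicalKrullDim ↥X ≤ (m : WithBot ℕ∞))
    (S : ComposableArrows X.Modules (m + 1)) (hS : S.Exact)
    (hmono : Mono (S.map' 0 1 (Nat.zero_le 1) (Nat.le_add_left 1 m)))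
    (hepi : Epi (S.map' m (m + 1) (Nat.le_succ m) (le_refl (m + 1))))
    (hE : ∀ i : Fin m, FlatMod.IsFinLocFree (S.obj ⟨i.1 + 1, Nat.succ_lt_succ (Nat.lt_succ_of_lt i.2)⟩))
    (hF : Coh.IsCoh (S.obj (Fin.last (m + 1)))) :
    FlatMod.IsFinLocFree (S.obj 0) := by
  have hEc : ∀ i : ℕ, ∀ h1 : 1 ≤ i, ∀ h : i ≤ m, FlatMod.IsFinLocFree (S.obj ⟨i, by omega⟩) := fun i h1 h => by
    have hh := hE ⟨i - 1, by omega⟩
    have e : (⟨i - 1 + 1, Nat.succ_lt_succ (Nat.lt_succ_of_lt (by omega : i - 1 < m))⟩ : Fin (m + 2)) = ⟨i, by omega⟩ :=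
      Fin.ext (show i - 1 + 1 = i by omega)
    exact e ▸ hh
  have hcoh : ∀ i : ℕ, 1 ≤ i → ∀ h : i ≤ m + 1, Coh.IsCoh (S.obj ⟨i, by omega⟩) := fun i h1 h => by
    by_cases hi : i ≤ m
    · exact DCohPerf.isCoh_finLocFree (hEc i h1 hi)
    · obtain rfl : i = m + 1 := by omega
      exact hF
  have hG : Coh.IsCoh (S.obj 0) := by
    cases m with
    | zero =>
      have := hmono
      have := hepi
      have : IsIso (S.map' 0 1 (Nat.zero_le 1) (le_refl 1)) := isIso_of_mono_of_epi _
      exact QCohLib.isCoh_of_iso (asIso (S.map' 0 1 (Nat.zero_le 1) (le_refl 1))).symm hF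
    | succ n =>
      have hk2 : (2 : ℕ) ≤ n + 1 + 1 := by omega
      have : Mono (S.sc hS.toIsComplex 0).f := hmono
      exact QCohLib.isCoh_of_iso
        ((kernelIsKernel (S.map' 1 2 (by omega) hk2)).conePointUniqueUpToIso (hS.exact 0 hk2).fIsKernel)
        (QCohLib.isCoh_kernel _ (hcoh 1 le_rfl (by omega)) (hcoh 2 (by omega) hk2).1)
  refine DCohPerf.isFinLocFree_of_isFP_flat (QCohLib.isCoh_iff_isFP.1 hG) fun x => ?_
  have := hreg x
  have := hmono
  have := hepi
  let Φ := DerSch.stalkFunctor X x
  have : PreservesFiniteLimits Φ := Φ.preservesFiniteLimits_of_preservesHomology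
  have : PreservesFiniteColimits Φ := Φ.preservesFiniteColimits_of_preservesHomology
  have hSx : ((Φ.mapComposableArrows (m + 1)).obj S).Exact :=
    { zero := fun i hi => by
        change Φ.map _ ≫ Φ.map _ = 0
        rw [← Φ.map_comp, hS.toIsComplex.zero i hi, Φ.map_zero]
      exact := fun i hi => (hS.exact i hi).map Φ }
  have h := RegSyz.first_projective ((Φ.mapComposableArrows (m + 1)).obj S) hSx (Φ.map_mono _) (Φ.map_epi _)
    (fun i h1 h => by
      let P := Φ.obj (S.obj ⟨i, by omega⟩)
      have : Module.Flat (X.presheaf.stalk x) P := ModGroth.Perf.isFlat_of_isFinLocFree (hEc i h1 h) x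
      have : Module.Finite (X.presheaf.stalk x) P := CohFinite.finite_stalk (DCohPerf.isCoh_finLocFree (hEc i h1 h)) x
      have : Module.Free (X.presheaf.stalk x) P := Module.free_of_flat_of_isLocalRing
      have : Projective P := (IsProjective.iff_projective (R := X.presheaf.stalk x) P).1 Module.Projective.of_free
      exact (projective_iff_hasProjectiveDimensionLT_one (X := P)).1 this)
    (RegSyz.gldim_le (X.presheaf.stalk x) m ((RegSyz.ringKrullDim_stalk_le x).trans hdim) _)
  have : Projective (Φ.obj (S.obj 0)) := projective_iff_hasProjectiveDimensionLT_one.2 h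
  have : Module.Projective (X.presheaf.stalk x) (Φ.obj (S.obj 0)) := (IsProjective.iff_projective _).2 this
  exact (inferInstance : Module.Flat (X.presheaf.stalk x) (Φ.obj (S.obj 0)))

end Groth.Agent.S16240
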