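import Groth.Statements.S16242
import Mathlib
import Groth.Agent.KGrp.Sub
-- import your own Groth.Agent.* helpers here

set_option autoImplicit false
universe u
open CategoryTheory
open KZero

namespace Groth.Agent.S16242

section
open CategoryTheory Groth.Agent

variable {A : Type u} [CommRing A]

abbrev FinP (A : Type u) [CommRing A] : ObjectProperty (ModuleCat.{u} A) := fun M => Module.Finite A M

theorem cl_exact {M N Q : Type u} [AddCommGroup M] [Module A M] [Module.Finite A M] [AddCommGroup N] [Module A N]
    [Module.Finite A N] [AddCommGroup Q] [Module A Q] [Module.Finite A Q] (f : M →ₗ[A] N) (g : N →ₗ[A] Q)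
    (hf : Function.Injective f) (hg : Function.Surjective g) (h : Function.Exact f g) :
    KZero.clSub (FinP A) (ModuleCat.of A N) =
      KZero.clSub (FinP A) (ModuleCat.of A M) + KZero.clSub (FinP A) (ModuleCat.of A Q) :=
  KGrp.clSub_add (S := ModuleCat.shortComplexOfCompEqZero f g h.linearMap_comp_eq_zero)
    (show Module.Finite A M from inferInstance) (show Module.Finite A N from inferInstance)
    (show Module.Finite A Q from inferInstance) (ModuleCat.shortComplex_shortExact _ h hf hg)

noncomputable def locRank (S : Submonoid A) (M : Type u) [AddCommGroup M] [Module A M] : ℤ :=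
  ((Module.length (Localization S) (LocalizedModule S M)).toNat : ℤ)

theorem locRank_subsingleton (S : Submonoid A) (M : Type u) [AddCommGroup M] [Module A M]
    [Subsingleton (LocalizedModule S M)] : locRank S M = 0 := by
  simp [locRank, Module.length_eq_zero]

theorem locRank_exact (S : Submonoid A) [IsArtinianRing (Localization S)]
    {M N Q : Type u} [AddCommGroup M] [Module A M] [Module.Finite A M] [AddCommGroup N] [Module A N]
    [Module.Finite A N] [AddCommGroup Q] [Module A Q] [Module.Finite A Q] (f : M →ₗ[A] N) (g : N →ₗ[A] Q)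
    (hf : Function.Injective f) (hg : Function.Surjective g) (h : Function.Exact f g) :
    locRank S N = locRank S M + locRank S Q := by
  haveI : Module.Finite (Localization S) (LocalizedModule S M) :=
    Module.Finite.of_isLocalizedModule S (LocalizedModule.mkLinearMap S M)
  haveI : Module.Finite (Localization S) (LocalizedModule S Q) :=
    Module.Finite.of_isLocalizedModule S (LocalizedModule.mkLinearMap S Q)
  unfold locRank
  rw [Module.length_eq_add_of_exact (LocalizedModule.map S f) (LocalizedModule.map S g)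
    (LocalizedModule.map_injective S f hf) (LocalizedModule.map_surjective S g hg)
    (LocalizedModule.map_exact S f g h),
    ENat.toNat_add Module.length_ne_top Module.length_ne_top]
  push_cast
  rfl

theorem cl_quot_eq_zero [IsNoetherianRing A] (a : A) [(Ideal.span {a}).IsPrime]
    [IsPrincipalIdealRing (A ⧸ Ideal.span {a})] (p : Ideal A) [p.IsPrime] (hp : a ∈ p)
    (hne : p ≠ Ideal.span {a}) :
    KZero.clSub (FinP A) (ModuleCat.of A (A ⧸ p)) = 0 := by
  have hle : Ideal.span {a} ≤ p := (Ideal.span_singleton_le_iff_mem _).2 hp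
  obtain ⟨g', hg'⟩ := (IsPrincipalIdealRing.principal (p.map (Ideal.Quotient.mk (Ideal.span {a})))).principal
  obtain ⟨g, rfl⟩ := Ideal.Quotient.mk_surjective g'
  have hgmem : ∀ y, y ∈ p ↔ ∃ c, y - c * g ∈ Ideal.span {a} := by
    intro y
    constructor
    · intro hy
      have := Ideal.mem_map_of_mem (Ideal.Quotient.mk (Ideal.span {a})) hy
      rw [hg', Ideal.submodule_span_eq, Ideal.mem_span_singleton'] at this
      obtain ⟨c, hc⟩ := this
      obtain ⟨c, rfl⟩ := Ideal.Quotient.mk_surjective c
      refine ⟨c, ?_⟩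
      rw [← Ideal.Quotient.eq, map_mul]
      exact hc.symm
    · rintro ⟨c, hc⟩
      have hg : g ∈ p := by
        have : Ideal.Quotient.mk (Ideal.span {a}) g ∈ p.map (Ideal.Quotient.mk (Ideal.span {a})) := by
          rw [hg', Ideal.submodule_span_eq]; exact Ideal.mem_span_singleton_self _
        rw [← Ideal.mem_comap, Ideal.comap_map_of_surjective _ Ideal.Quotient.mk_surjective,
          ← RingHom.ker_eq_comap_bot, Ideal.mk_ker, sup_eq_left.2 hle] at this
        exact this
      have := Ideal.add_mem _ (hle hc) (Ideal.mul_mem_left _ c hg)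
      simpa using this
  have hg0 : g ∉ Ideal.span {a} := fun hg => hne (le_antisymm (fun y hy => by
    obtain ⟨c, hc⟩ := (hgmem y).1 hy
    simpa using Ideal.add_mem _ hc (Ideal.mul_mem_left _ c hg)) hle)
  have h := cl_exact (A := A) ((LinearMap.lsmul A (A ⧸ Ideal.span {a})) g) (Submodule.factor hle)
    (fun x y hxy => by
      obtain ⟨x, rfl⟩ := Ideal.Quotient.mk_surjective x
      obtain ⟨y, rfl⟩ := Ideal.Quotient.mk_surjective y
      have : g * x - g * y ∈ Ideal.span {a} := Ideal.Quotient.eq.1 hxy
      rw [← mul_sub] at this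
      exact Ideal.Quotient.eq.2 ((Ideal.IsPrime.mem_or_mem inferInstance this).resolve_left hg0))
    (Submodule.factor_surjective hle)
    (fun x => by
      obtain ⟨x, rfl⟩ := Ideal.Quotient.mk_surjective x
      show Submodule.Quotient.mk x = (0 : A ⧸ p) ↔ _
      rw [Submodule.Quotient.mk_eq_zero, hgmem]
      constructor
      · rintro ⟨c, hc⟩
        exact ⟨Ideal.Quotient.mk _ c, (Ideal.Quotient.eq.2 (by rwa [mul_comm] at hc)).symm⟩
      · rintro ⟨c, hc⟩
        obtain ⟨c, rfl⟩ := Ideal.Quotient.mk_surjective c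
        exact ⟨c, by rw [mul_comm]; exact Ideal.Quotient.eq.1 hc.symm⟩)
  exact left_eq_add.1 h

theorem locRank_self [IsNoetherianRing A] (a b : A) (hab : a * b = 0) [(Ideal.span {a}).IsPrime]
    (hba : b ∉ Ideal.span {a}) :
    IsArtinianRing (Localization (Ideal.span {a}).primeCompl) ∧
      locRank (Ideal.span {a}).primeCompl (A ⧸ Ideal.span {a}) = 1 := by
  set S := (Ideal.span {a}).primeCompl with hS
  have hF : IsField (Localization S) := by
    rw [IsLocalRing.isField_iff_maximalIdeal_eq]
    show IsLocalRing.maximalIdeal (Localization.AtPrime (Ideal.span {a})) = ⊥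
    rw [← Localization.AtPrime.map_eq_maximalIdeal, Ideal.map_span, Set.image_singleton, Ideal.span_singleton_eq_bot,
      IsLocalization.map_eq_zero_iff (Ideal.span {a}).primeCompl]
    exact ⟨⟨b, hba⟩, by rw [mul_comm]; exact hab⟩
  letI := hF.toField
  haveI hA : IsArtinianRing (Localization S) := inferInstance
  refine ⟨hA, ?_⟩
  have h := locRank_exact S (Ideal.span {a} : Ideal A).subtype (Ideal.span {a} : Ideal A).mkQ
    (Submodule.injective_subtype _) (Submodule.mkQ_surjective _) (LinearMap.exact_subtype_mkQ _)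
  haveI : Subsingleton (LocalizedModule S (Ideal.span {a} : Ideal A)) := by
    rw [LocalizedModule.subsingleton_iff]
    rintro ⟨m, hm⟩
    obtain ⟨c, rfl⟩ := Ideal.mem_span_singleton'.1 hm
    exact ⟨b, hba, Subtype.ext (by simp [mul_left_comm b c a, mul_comm b a, hab])⟩
  rw [locRank_subsingleton S (Ideal.span {a} : Ideal A), zero_add] at h
  rw [← h, locRank,
    ((IsLocalizedModule.iso S (Algebra.linearMap A (Localization S))).extendScalarsOfIsLocalization S
      (Localization S)).length_eq, Module.length_eq_one]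
  rfl

theorem locRank_other (a b : A) [(Ideal.span {a}).IsPrime] (hba : b ∉ Ideal.span {a}) :
    locRank (Ideal.span {a}).primeCompl (A ⧸ Ideal.span {b}) = 0 := by
  haveI : Subsingleton (LocalizedModule (Ideal.span {a}).primeCompl (A ⧸ Ideal.span {b})) := by
    rw [LocalizedModule.subsingleton_iff]
    intro m
    obtain ⟨m, rfl⟩ := Ideal.Quotient.mk_surjective m
    exact ⟨b, hba, Ideal.Quotient.eq_zero_iff_mem.2 (Ideal.mul_mem_right m _ (Ideal.mem_span_singleton_self b))⟩
  exact locRank_subsingleton _ _

noncomputable def rankHom (S : Submonoid A) [IsArtinianRing (Localization S)] : KZero.K0sub (FinP A) →+ ℤ :=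
  KGrp.liftSub (FinP A) (fun M => locRank S M) (fun T hT h1 h2 h3 =>
    haveI : Module.Finite A T.X₁ := h1
    haveI : Module.Finite A T.X₂ := h2
    haveI : Module.Finite A T.X₃ := h3
    locRank_exact S T.f.hom T.g.hom hT.moduleCat_injective_f hT.moduleCat_surjective_g
      ((ShortComplex.ShortExact.moduleCat_exact_iff_function_exact T).1 hT.exact))

theorem node_bij [IsNoetherianRing A] (a b : A) (hab : a * b = 0) [(Ideal.span {a}).IsPrime]
    [(Ideal.span {b}).IsPrime] (pa : IsPrincipalIdealRing (A ⧸ Ideal.span {a}))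
    (pb : IsPrincipalIdealRing (A ⧸ Ideal.span {b})) (hba : b ∉ Ideal.span {a}) (hab' : a ∉ Ideal.span {b}) :
    Function.Bijective (fun z : ℤ × ℤ =>
      z.1 • KZero.clSub (FinP A) (ModuleCat.of A (A ⧸ Ideal.span {a})) +
      z.2 • KZero.clSub (FinP A) (ModuleCat.of A (A ⧸ Ideal.span {b}))) := by
  obtain ⟨hA1, ha1⟩ := locRank_self a b hab hba
  obtain ⟨hA2, hb1⟩ := locRank_self b a (by rw [mul_comm]; exact hab) hab'
  have hPa : FinP A (ModuleCat.of A (A ⧸ Ideal.span {a})) := show Module.Finite A (A ⧸ Ideal.span {a}) from inferInstance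
  have hPb : FinP A (ModuleCat.of A (A ⧸ Ideal.span {b})) := show Module.Finite A (A ⧸ Ideal.span {b}) from inferInstance
  refine ⟨fun z w hzw => ?_, fun x => ?_⟩
  · have e1 := congrArg (rankHom (Ideal.span {a}).primeCompl) hzw
    have e2 := congrArg (rankHom (Ideal.span {b}).primeCompl) hzw
    simp only [map_add, map_zsmul, rankHom, KGrp.liftSub_clSub _ _ hPa, KGrp.liftSub_clSub _ _ hPb] at e1 e2
    rw [show locRank _ ↑(ModuleCat.of A (A ⧸ Ideal.span {a})) = 1 from ha1,
      show locRank _ ↑(ModuleCat.of A (A ⧸ Ideal.span {b})) = 0 from locRank_other a b hba] at e1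
    rw [show locRank _ ↑(ModuleCat.of A (A ⧸ Ideal.span {a})) = 0 from locRank_other b a hab',
      show locRank _ ↑(ModuleCat.of A (A ⧸ Ideal.span {b})) = 1 from hb1] at e2
    exact Prod.ext (by simpa using e1) (by simpa using e2)
  · let Φ : ℤ × ℤ →+ KZero.K0sub (FinP A) :=
      ((smulAddHom ℤ _).flip (KZero.clSub (FinP A) (ModuleCat.of A (A ⧸ Ideal.span {a})))).coprod
      ((smulAddHom ℤ _).flip (KZero.clSub (FinP A) (ModuleCat.of A (A ⧸ Ideal.span {b}))))
    suffices x ∈ Φ.range by
      obtain ⟨z, rfl⟩ := this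
      exact ⟨z, rfl⟩
    refine KGrp.induction_sub x (zero_mem _) (fun X hX => ?_) (fun _ => neg_mem) (fun _ _ => add_mem)
    have hmain : ∀ (M : Type u) [AddCommGroup M] [Module A M] (_ : Module.Finite A M),
        KZero.clSub (FinP A) (ModuleCat.of A M) ∈ Φ.range := by
      intro M _ _ hM
      induction hM using IsNoetherianRing.induction_on_isQuotientEquivQuotientPrime A with
      | subsingleton N =>
        have h := cl_exact (A := A) (LinearMap.id : N →ₗ[A] N) (LinearMap.id : N →ₗ[A] N) Function.injective_id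
          Function.surjective_id (fun x => by simp [Subsingleton.elim x 0])
        rw [left_eq_add] at h
        rw [h]
        exact zero_mem _
      | quotient N p e =>
        have h := cl_exact (A := A) (0 : PUnit.{u + 1} →ₗ[A] N) e.toLinearMap (Function.injective_of_subsingleton _)
          e.surjective (fun x => ⟨fun hx => ⟨0, ((LinearEquiv.map_eq_zero_iff e).1 hx).symm⟩, by rintro ⟨_, rfl⟩; simp⟩)
        have h0 : KZero.clSub (FinP A) (ModuleCat.of A PUnit.{u + 1}) = 0 := left_eq_add.1
          (cl_exact (A := A) (LinearMap.id : PUnit.{u + 1} →ₗ[A] PUnit.{u + 1}) LinearMap.id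
            Function.injective_id Function.surjective_id (fun x => by simp [Subsingleton.elim x 0]))
        rw [h, h0, zero_add]
        haveI := p.isPrime
        rcases p.isPrime.mem_or_mem (show a * b ∈ p.asIdeal by rw [hab]; exact zero_mem _) with ha | hb
        · by_cases hp : p.asIdeal = Ideal.span {a}
          · rw [hp]
            exact ⟨(1, 0), by simp [Φ]⟩
          · haveI := pa
            rw [cl_quot_eq_zero a p.asIdeal ha hp]
            exact zero_mem _
        · by_cases hp : p.asIdeal = Ideal.span {b}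
          · rw [hp]
            exact ⟨(0, 1), by simp [Φ]⟩
          · haveI := pb
            rw [cl_quot_eq_zero b p.asIdeal hb hp]
            exact zero_mem _
      | exact N₁ N₂ N₃ f g hf hg h h1 h3 =>
        rw [cl_exact f g hf hg h]
        exact add_mem h1 h3
    exact hmain X hX

theorem axis {k : Type u} [Field k] (i j : Fin 2) (hij : i ≠ j)
    (I : Ideal (MvPolynomial (Fin 2) k)) (hI : I = Ideal.span {MvPolynomial.X 0 * MvPolynomial.X 1}) :
    (Ideal.span {Ideal.Quotient.mk I (MvPolynomial.X i)}).IsPrime ∧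
      IsPrincipalIdealRing ((MvPolynomial (Fin 2) k ⧸ I) ⧸ Ideal.span {Ideal.Quotient.mk I (MvPolynomial.X i)}) ∧
      Ideal.Quotient.mk I (MvPolynomial.X j) ∉ Ideal.span {Ideal.Quotient.mk I (MvPolynomial.X i)} := by
  classical
  let ev : MvPolynomial (Fin 2) k →ₐ[k] Polynomial k :=
    MvPolynomial.aeval fun l => if l = i then 0 else Polynomial.X
  have hcases : ∀ l, l = i ∨ l = j := fun l => by omega
  let inc : Polynomial k →ₐ[k] MvPolynomial (Fin 2) k := Polynomial.aeval (MvPolynomial.X j)
  have hker : ∀ f, f - inc (ev f) ∈ Ideal.span {(MvPolynomial.X i : MvPolynomial (Fin 2) k)} := by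
    intro f
    induction f using MvPolynomial.induction_on with
    | C c => simp [ev, inc]
    | add f g hf hg =>
      rw [map_add, map_add, add_sub_add_comm]
      exact Ideal.add_mem _ hf hg
    | mul_X f l hf =>
      rcases hcases l with rfl | rfl
      · simp only [map_mul, show ev (MvPolynomial.X l) = 0 by simp [ev], map_zero, mul_zero, sub_zero]
        exact Ideal.mul_mem_left _ _ (Ideal.mem_span_singleton_self _)
      · simp only [map_mul, show ev (MvPolynomial.X l) = Polynomial.X by simp [ev, hij.symm],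
          show inc Polynomial.X = MvPolynomial.X l by simp [inc], ← sub_mul]
        exact Ideal.mul_mem_right _ _ hf
  have hIev : ∀ z ∈ I, ev z = 0 := by
    intro z hz
    rw [hI, Ideal.mem_span_singleton'] at hz
    obtain ⟨c, rfl⟩ := hz
    rcases hcases 0 with h0 | h0 <;> rcases hcases 1 with h1 | h1 <;>
      first
        | exact absurd (h0.trans h1.symm) (by decide)
        | simp [ev, h0, h1]
  let ψ : MvPolynomial (Fin 2) k ⧸ I →+* Polynomial k := Ideal.Quotient.lift I ev.toRingHom hIev
  have hψs : Function.Surjective ψ := fun f => ⟨Ideal.Quotient.mk I (inc f), by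
    show ev (inc f) = f
    rw [← AlgHom.comp_apply, show ev.comp inc = AlgHom.id k _ from Polynomial.algHom_ext (by simp [ev, inc, hij.symm])]
    rfl⟩
  have hk : RingHom.ker ψ = Ideal.span {Ideal.Quotient.mk I (MvPolynomial.X i)} := by
    refine le_antisymm (fun z hz => ?_) ((Ideal.span_singleton_le_iff_mem _).2 ?_)
    · obtain ⟨z, rfl⟩ := Ideal.Quotient.mk_surjective z
      have hz' : ev z = 0 := hz
      have := hker z
      rw [hz', map_zero, sub_zero] at this
      have := Ideal.mem_map_of_mem (Ideal.Quotient.mk I) this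
      rwa [Ideal.map_span, Set.image_singleton] at this
    · show ev (MvPolynomial.X i) = 0
      simp [ev]
  rw [← hk]
  refine ⟨RingHom.ker_isPrime ψ, ?_, fun h => ?_⟩
  · exact IsPrincipalIdealRing.of_surjective (RingHom.quotientKerEquivOfSurjective hψs).symm.toRingHom
      (RingHom.quotientKerEquivOfSurjective hψs).symm.surjective
  · have : ev (MvPolynomial.X j) = 0 := h
    simp [ev, hij.symm] at this

end

/-- Let k be a field and A = k[x, y]/(xy) (polynomial ring in two variables x = X_0, y = X_1 modulo xy).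
In the Grothendieck group of finitely generated A-modules (free abelian group on them modulo short
exact sequences), the classes of A/(x) ≅ k[y] and A/(y) ≅ k[x] form a basis: the homomorphism ℤ × ℤ
⟶ K₀ sending (a, b) to a·[A/(x)] + b·[A/(y)] is bijective. -/
theorem result (k : Type u) [Field k] :
    Function.Bijective (fun p : ℤ × ℤ =>
      p.1 • KZero.clSub (fun M : ModuleCat.{u} (MvPolynomial (Fin 2) k ⧸ Ideal.span {(MvPolynomial.X 0 * MvPolynomial.X 1 : MvPolynomial (Fin 2) k)}) => Module.Finite (MvPolynomial (Fin 2) k ⧸ Ideal.span {(MvPolynomial.X 0 * MvPolynomial.X 1 : MvPolynomial (Fin 2) k)}) M)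
          (ModuleCat.of (MvPolynomial (Fin 2) k ⧸ Ideal.span {(MvPolynomial.X 0 * MvPolynomial.X 1 : MvPolynomial (Fin 2) k)}) ((MvPolynomial (Fin 2) k ⧸ Ideal.span {(MvPolynomial.X 0 * MvPolynomial.X 1 : MvPolynomial (Fin 2) k)}) ⧸ Ideal.span {Ideal.Quotient.mk (Ideal.span {(MvPolynomial.X 0 * MvPolynomial.X 1 : MvPolynomial (Fin 2) k)}) (MvPolynomial.X 0)})) +
        p.2 • KZero.clSub (fun M : ModuleCat.{u} (MvPolynomial (Fin 2) k ⧸ Ideal.span {(MvPolynomial.X 0 * MvPolynomial.X 1 : MvPolynomial (Fin 2) k)}) => Module.Finite (MvPolynomial (Fin 2) k ⧸ Ideal.span {(MvPolynomial.X 0 * MvPolynomial.X 1 : MvPolynomial (Fin 2) k)}) M)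
          (ModuleCat.of (MvPolynomial (Fin 2) k ⧸ Ideal.span {(MvPolynomial.X 0 * MvPolynomial.X 1 : MvPolynomial (Fin 2) k)}) ((MvPolynomial (Fin 2) k ⧸ Ideal.span {(MvPolynomial.X 0 * MvPolynomial.X 1 : MvPolynomial (Fin 2) k)}) ⧸ Ideal.span {Ideal.Quotient.mk (Ideal.span {(MvPolynomial.X 0 * MvPolynomial.X 1 : MvPolynomial (Fin 2) k)}) (MvPolynomial.X 1)}))) := by
  obtain ⟨hp0, hq0, hn0⟩ := axis (k := k) 0 1 (by decide) _ rfl
  obtain ⟨hp1, hq1, hn1⟩ := axis (k := k) 1 0 (by decide) _ rfl
  exact node_bij _ _ (by rw [← map_mul, Ideal.Quotient.eq_zero_iff_mem]; exact Ideal.mem_span_singleton_self _)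
    hq0 hq1 hn0 hn1

end Groth.Agent.S16242
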