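import Groth.Statements.S16243
import Mathlib
-- import your own Groth.Agent.* helpers here

set_option autoImplicit false
universe u
open CategoryTheory
open CAlg

namespace Groth.Agent.S16243

open CategoryTheory CategoryTheory.Limits MonoidalCategory
open scoped TensorProduct

variable {A : Type u} [CommRing A] (x y : A) (hxy : x * y = 0) (hx : ∀ f, x * f = 0 → y ∣ f)
  (hy : ∀ f, y * f = 0 → x ∣ f) (hsep : ∀ a b, a * x + b * y = 0 → a * x = 0)

/-- `(x, y)` -/
abbrev m : Ideal A := Ideal.span {x, y}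

/-- the residue module -/
abbrev kap : ModuleCat.{u} A := ModuleCat.of A (A ⧸ m x y)

/-- first differential -/
def d0 : (A × A) →ₗ[A] A := (LinearMap.toSpanSingleton A A x).coprod (LinearMap.toSpanSingleton A A y)

theorem d0_apply (p : A × A) : d0 x y p = p.1 * x + p.2 * y := by simp [d0]

/-- the alternating coefficients -/
def cf : ℕ → A × A
  | 0 => (y, x)
  | n + 1 => ((cf n).2, (cf n).1)

/-- higher differentials -/
def dd (n : ℕ) : (A × A) →ₗ[A] (A × A) :=
  ((cf x y n).1 • LinearMap.id).prodMap ((cf x y n).2 • LinearMap.id)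

theorem dd_apply (n : ℕ) (p : A × A) : dd x y n p = ((cf x y n).1 * p.1, (cf x y n).2 * p.2) := by simp [dd]

theorem cf_cases (n : ℕ) : cf x y n = (y, x) ∨ cf x y n = (x, y) := by
  induction n with
  | zero => exact Or.inl rfl
  | succ n ih => rcases ih with h | h <;> simp [cf, h]

include hxy in
theorem dd_dd (n : ℕ) (p : A × A) : dd x y n (dd x y (n + 1) p) = 0 := by
  rw [dd_apply, dd_apply, show cf x y (n + 1) = ((cf x y n).2, (cf x y n).1) from rfl]
  ext <;> simp only [Prod.fst_zero, Prod.snd_zero, ← mul_assoc] <;>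
    rcases cf_cases x y n with h | h <;> simp [h, hxy, mul_comm y x]

include hxy in
theorem d0_dd (p : A × A) : d0 x y (dd x y 0 p) = 0 := by
  rw [dd_apply, d0_apply, show cf x y 0 = (y, x) from rfl]
  linear_combination (p.1 + p.2) * hxy

include hxy hx hy in
theorem exact_dd (n : ℕ) (p : A × A) (hp : dd x y n p = 0) : ∃ q, dd x y (n + 1) q = p := by
  rw [dd_apply, Prod.ext_iff] at hp
  rcases cf_cases x y n with h | h <;> rw [h] at hp
  · obtain ⟨a, ha⟩ := hy _ hp.1
    obtain ⟨b, hb⟩ := hx _ hp.2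
    exact ⟨(a, b), by rw [dd_apply, show cf x y (n + 1) = ((cf x y n).2, (cf x y n).1) from rfl, h, ← ha, ← hb]⟩
  · obtain ⟨a, ha⟩ := hx _ hp.1
    obtain ⟨b, hb⟩ := hy _ hp.2
    exact ⟨(a, b), by rw [dd_apply, show cf x y (n + 1) = ((cf x y n).2, (cf x y n).1) from rfl, h, ← ha, ← hb]⟩

include hxy hx hy hsep in
theorem exact_d0 (p : A × A) (hp : d0 x y p = 0) : ∃ q, dd x y 0 q = p := by
  rw [d0_apply] at hp
  have h1 := hsep _ _ hp
  obtain ⟨a, ha⟩ := hx p.1 (by rw [mul_comm]; exact h1)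
  obtain ⟨b, hb⟩ := hy p.2 (by rw [h1, zero_add] at hp; rw [mul_comm]; exact hp)
  exact ⟨(a, b), by rw [dd_apply, show cf x y 0 = (y, x) from rfl, ← ha, ← hb]⟩

theorem mem_range_d0 (f : A) : f ∈ LinearMap.range (d0 x y) ↔ f ∈ m x y := by
  rw [m, Ideal.mem_span_pair, LinearMap.mem_range]
  exact ⟨fun ⟨p, hp⟩ => ⟨p.1, p.2, by rw [← hp, d0_apply]⟩, fun ⟨a, b, h⟩ => ⟨(a, b), by rw [d0_apply, h]⟩⟩

/-- terms -/
def X : ℕ → ModuleCat.{u} A
  | 0 => ModuleCat.of A A
  | _ + 1 => ModuleCat.of A (A × A)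

/-- differentials -/
noncomputable def d : ∀ n, X (A := A) (n + 1) ⟶ X n
  | 0 => ModuleCat.ofHom (d0 x y)
  | n + 1 => ModuleCat.ofHom (dd x y n)

include hxy in
theorem sq : ∀ n, d x y (n + 1) ≫ d x y n = 0
  | 0 => ModuleCat.hom_ext (LinearMap.ext fun p => d0_dd x y hxy p)
  | n + 1 => ModuleCat.hom_ext (LinearMap.ext fun p => dd_dd x y hxy n p)

/-- the complex -/
noncomputable abbrev K : ChainComplex (ModuleCat.{u} A) ℕ := ChainComplex.of X (d x y) (sq x y hxy)

theorem K_d (n : ℕ) : (K x y hxy).d (n + 1) n = d x y n := ChainComplex.of_d _ _ n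

/-- the resolution -/
noncomputable def res : ProjectiveResolution (kap x y) where
  complex := K x y hxy
  projective n := by
    cases n
    · exact (IsProjective.iff_projective _).1 (inferInstanceAs (Module.Projective A A))
    · exact (IsProjective.iff_projective _).1 (inferInstanceAs (Module.Projective A (A × A)))
  π := (ChainComplex.toSingle₀Equiv _ _).symm ⟨ModuleCat.ofHom (m x y).mkQ, by
    rw [K_d]
    exact ModuleCat.hom_ext (LinearMap.ext fun p => (Submodule.Quotient.mk_eq_zero _).2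
      ((mem_range_d0 x y _).1 ⟨p, rfl⟩))⟩
  quasiIso := ⟨fun n => by
    cases n with
    | succ n =>
      rw [quasiIsoAt_iff_exactAt']
      · rw [HomologicalComplex.exactAt_iff' _ (n + 2) (n + 1) n (by simp) (by simp), ShortComplex.moduleCat_exact_iff]
        intro p hp
        change ((K x y hxy).d (n + 1) n).hom p = 0 at hp
        rw [K_d] at hp
        cases n with
        | zero =>
          obtain ⟨q, hq⟩ := exact_d0 x y hxy hx hy hsep p hp
          exact ⟨q, by change ((K x y hxy).d 2 1).hom q = p; rw [K_d]; exact hq⟩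
        | succ n =>
          obtain ⟨q, hq⟩ := exact_dd x y hxy hx hy n p hp
          exact ⟨q, by change ((K x y hxy).d (n + 1 + 2) (n + 1 + 1)).hom q = p; rw [K_d]; exact hq⟩
      · exact ChainComplex.exactAt_succ_single_obj _ _
    | zero =>
      rw [ChainComplex.quasiIsoAt₀_iff, ShortComplex.quasiIso_iff_of_zeros']
      · refine ⟨?_, ?_⟩
        · rw [ShortComplex.moduleCat_exact_iff]
          intro p hp
          obtain ⟨q, hq⟩ := (mem_range_d0 x y p).2 ((Submodule.Quotient.mk_eq_zero _).1 hp)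
          exact ⟨q, by change ((K x y hxy).d 1 0).hom q = p; rw [K_d]; exact hq⟩
        · exact (ModuleCat.epi_iff_surjective _).2 (Submodule.mkQ_surjective _)
      all_goals first | rfl | (exact HomologicalComplex.shape _ 0 0 (fun h : 0 + 1 = 0 => Nat.succ_ne_zero 0 h))⟩

theorem lTensor_eq_zero {M N : Type u} [AddCommGroup M] [Module A M] [AddCommGroup N] [Module A N] (f : M →ₗ[A] N)
    (hf : ∀ p, ∃ q r, f p = x • q + y • r) : LinearMap.lTensor (A ⧸ m x y) f = 0 := by
  refine TensorProduct.ext' fun c p => ?_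
  obtain ⟨q, r, h⟩ := hf p
  have hc : ∀ z ∈ m x y, z • c = 0 := fun z hz => by
    obtain ⟨c, rfl⟩ := Submodule.Quotient.mk_surjective _ c
    rw [← Submodule.Quotient.mk_smul, Submodule.Quotient.mk_eq_zero]
    exact Ideal.mul_mem_right _ _ hz
  rw [LinearMap.lTensor_tmul, h, TensorProduct.tmul_add, TensorProduct.tmul_smul, TensorProduct.tmul_smul,
    TensorProduct.smul_tmul', TensorProduct.smul_tmul', hc x (Ideal.subset_span (by simp)),
    hc y (Ideal.subset_span (by simp)), TensorProduct.zero_tmul, TensorProduct.zero_tmul, add_zero, LinearMap.zero_apply]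

theorem d_map_eq_zero (n : ℕ) : (kap x y) ◁ d x y n = 0 := by
  refine ModuleCat.hom_ext ?_
  cases n with
  | zero => exact lTensor_eq_zero x y (d0 x y) fun p => ⟨p.1, p.2, by simp [d0_apply, mul_comm]⟩
  | succ n =>
    refine lTensor_eq_zero x y (dd x y n) fun p => ?_
    rcases cf_cases x y n with h | h <;> rw [dd_apply, h]
    · exact ⟨(0, p.2), (p.1, 0), by simp⟩
    · exact ⟨(p.1, 0), (0, p.2), by simp⟩

include hxy hx hy hsep in
theorem length_tor [(m x y).IsMaximal] (n : ℕ) :
    Module.length A ((((Tor (ModuleCat.{u} A)) (n + 1)).obj (kap x y)).obj (kap x y) : Type u) = 2 := by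
  let e1 := (res x y hxy hx hy hsep).isoLeftDerivedObj ((tensoringLeft (ModuleCat.{u} A)).obj (kap x y)) (n + 1)
  let C := (((tensoringLeft (ModuleCat.{u} A)).obj (kap x y)).mapHomologicalComplex (ComplexShape.down ℕ)).obj (K x y hxy)
  let S := C.sc' (n + 2) (n + 1) n
  have hf : S.f = 0 := by
    change (kap x y) ◁ (K x y hxy).d (n + 2) (n + 1) = 0
    rw [K_d]; exact d_map_eq_zero x y _
  have hg : S.g = 0 := by
    change (kap x y) ◁ (K x y hxy).d (n + 1) n = 0
    rw [K_d]; exact d_map_eq_zero x y _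
  let e2 : (HomologicalComplex.homologyFunctor _ _ (n + 1)).obj C ≅ kap x y ⊗ ModuleCat.of A (A × A) :=
    ShortComplex.homologyMapIso (C.isoSc' (n + 2) (n + 1) n (by simp) (by simp)) ≪≫
      (ShortComplex.HomologyData.ofZeros S hf hg).left.homologyIso
  let e := (e1 ≪≫ e2).toLinearEquiv
  let e3 : (A ⧸ m x y) ⊗[A] (A × A) ≃ₗ[A] (A ⧸ m x y) × (A ⧸ m x y) :=
    (TensorProduct.prodRight A A _ A A).trans ((TensorProduct.rid A _).prodCongr (TensorProduct.rid A _))
  haveI : IsSimpleModule A (A ⧸ m x y) := isSimpleModule_iff_isCoatom.2 ‹(m x y).IsMaximal›.out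
  refine (LinearEquiv.length_eq (e.trans e3)).trans ?_
  rw [Module.length_eq_add_of_exact (LinearMap.inl A (A ⧸ m x y) (A ⧸ m x y)) (LinearMap.snd A _ _)
    LinearMap.inl_injective LinearMap.snd_surjective Function.Exact.inl_snd, Module.length_eq_one_iff.2 ‹_›]
  rfl

include hxy hx in
theorem shortExact_mul : (ShortComplex.mk (ModuleCat.ofHom (Submodule.subtype (Ideal.span {y} : Ideal A)))
    (ModuleCat.ofHom ((LinearMap.toSpanSingleton A A x).codRestrict (Ideal.span {x} : Ideal A)
      fun f => Ideal.mem_span_singleton'.2 ⟨f, rfl⟩))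
    (ModuleCat.hom_ext (LinearMap.ext fun f => Subtype.ext (by
      obtain ⟨g, hg⟩ := Ideal.mem_span_singleton'.1 f.2
      change (f : A) * x = 0
      rw [← hg, mul_assoc, mul_comm y x, hxy, mul_zero])))).ShortExact := by
  refine ShortComplex.ShortExact.mk' ?_ ((ModuleCat.mono_iff_injective _).2 Subtype.val_injective)
    ((ModuleCat.epi_iff_surjective _).2 fun f => ?_)
  · rw [ShortComplex.moduleCat_exact_iff]
    intro (f : A) hf
    have hf' : f * x = 0 := congrArg Subtype.val hf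
    obtain ⟨g, hg⟩ := hx f (by rw [mul_comm]; exact hf')
    exact ⟨⟨f, Ideal.mem_span_singleton.2 ⟨g, hg⟩⟩, rfl⟩
  · obtain ⟨g, hg⟩ := Ideal.mem_span_singleton'.1 f.2
    exact ⟨g, Subtype.ext hg⟩

include hxy hx hy in
theorem not_lt_span (hm : (1 : A) ∉ m x y) (n : ℕ) :
    ¬ HasProjectiveDimensionLT (ModuleCat.of A (Ideal.span {x} : Ideal A)) (n + 1) := by
  induction n generalizing x y with
  | zero =>
    intro h
    haveI : Module.Projective A (Ideal.span {x} : Ideal A) := (IsProjective.iff_projective _).2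
      (projective_iff_hasProjectiveDimensionLT_one.2 h)
    let φ := (LinearMap.toSpanSingleton A A x).codRestrict (Ideal.span {x} : Ideal A)
      fun f => Ideal.mem_span_singleton'.2 ⟨f, rfl⟩
    obtain ⟨s, hs⟩ := Module.projective_lifting_property φ LinearMap.id fun f => by
      obtain ⟨g, hg⟩ := Ideal.mem_span_singleton'.1 f.2
      exact ⟨g, Subtype.ext hg⟩
    let x' : (Ideal.span {x} : Ideal A) := ⟨x, Ideal.mem_span_singleton_self x⟩
    have h1 : s x' * x = x := congrArg Subtype.val (LinearMap.congr_fun hs x')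
    have h2 : y * s x' = 0 := by
      rw [← smul_eq_mul, ← map_smul, show y • x' = 0 from Subtype.ext (by change y * x = 0; rw [mul_comm, hxy]), map_zero]
    obtain ⟨a, ha⟩ := hy _ h2
    obtain ⟨b, hb⟩ := hx (1 - s x') (by linear_combination -h1)
    refine hm (Ideal.mem_span_pair.2 ⟨a, b, ?_⟩)
    linear_combination -ha - hb
  | succ n ih =>
    intro h
    refine ih y x (by rw [mul_comm]; exact hxy) hy hx (by rwa [m, Set.pair_comm]) ?_
    exact ((shortExact_mul x y hxy hx).hasProjectiveDimensionLT_X₃_iff n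
      ((IsProjective.iff_projective _).1 (inferInstanceAs (Module.Projective A A)))).1 h

theorem shortExact_m : (ShortComplex.mk (ModuleCat.ofHom (Submodule.subtype (m x y)))
    (ModuleCat.ofHom (m x y).mkQ) (ModuleCat.hom_ext (LinearMap.ext fun f =>
      (Submodule.Quotient.mk_eq_zero _).2 f.2))).ShortExact := by
  refine ShortComplex.ShortExact.mk' ?_ ((ModuleCat.mono_iff_injective _).2 Subtype.val_injective)
    ((ModuleCat.epi_iff_surjective _).2 (Submodule.mkQ_surjective _))
  rw [ShortComplex.moduleCat_exact_iff]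
  intro (f : A) hf
  exact ⟨⟨f, (Submodule.Quotient.mk_eq_zero _).1 hf⟩, rfl⟩

include hxy hx hy hsep in
theorem not_lt (hm : (1 : A) ∉ m x y) (n : ℕ) : ¬ HasProjectiveDimensionLT (kap x y) n := by
  intro h
  haveI h2 : HasProjectiveDimensionLT (kap x y) (n + 2) := hasProjectiveDimensionLT_of_ge _ n _ (by omega)
  haveI h3 : HasProjectiveDimensionLT (ModuleCat.of A (m x y)) (n + 1) :=
    ((shortExact_m x y).hasProjectiveDimensionLT_X₃_iff n
      ((IsProjective.iff_projective _).1 (inferInstanceAs (Module.Projective A A)))).1 h2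
  let p : (A × A) →ₗ[A] m x y := (d0 x y).codRestrict _ fun q => (mem_range_d0 x y _).1 ⟨q, rfl⟩
  have hp : Function.Surjective p := fun f => by
    obtain ⟨q, hq⟩ := (mem_range_d0 x y _).2 f.2
    exact ⟨q, Subtype.ext hq⟩
  let φ : (A × A) →ₗ[A] (Ideal.span {x} : Ideal A) :=
    (LinearMap.toSpanSingleton A A x ∘ₗ LinearMap.fst A A A).codRestrict _
      fun q => Ideal.mem_span_singleton'.2 ⟨q.1, rfl⟩
  have hker : LinearMap.ker p ≤ LinearMap.ker φ := fun q hq => by
    refine Subtype.ext ?_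
    have := congrArg Subtype.val (LinearMap.mem_ker.1 hq)
    exact hsep q.1 q.2 (by rw [← d0_apply]; exact this)
  let r : m x y →ₗ[A] (Ideal.span {x} : Ideal A) :=
    (LinearMap.ker p).liftQ φ hker ∘ₗ (p.quotKerEquivOfSurjective hp).symm.toLinearMap
  let i : (Ideal.span {x} : Ideal A) →ₗ[A] m x y :=
    Submodule.inclusion ((Ideal.span_singleton_le_iff_mem _).2 (Ideal.subset_span (by simp)))
  have hri : r ∘ₗ i = LinearMap.id := LinearMap.ext fun f => by
    obtain ⟨g, hg⟩ := Ideal.mem_span_singleton'.1 f.2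
    have he : (p.quotKerEquivOfSurjective hp).symm (i f) = Submodule.Quotient.mk (g, (0 : A)) := by
      rw [LinearEquiv.symm_apply_eq]
      exact Subtype.ext (by change (f : A) = d0 x y (g, 0); rw [d0_apply, ← hg]; simp)
    simp only [r, LinearMap.comp_apply, LinearEquiv.coe_coe, he]
    exact Subtype.ext hg
  exact not_lt_span x y hxy hx hy hm n ((Retract.mk (ModuleCat.ofHom i) (ModuleCat.ofHom r)
    (ModuleCat.hom_ext hri) : Retract (ModuleCat.of A (Ideal.span {x} : Ideal A)) (ModuleCat.of A (m x y))).hasProjectiveDimensionLT _)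

/-- Let k be a field, A = k[x, y]/(xy) (x = X_0, y = X_1) and κ = A/(x, y) the residue field at the
origin, viewed as an A-module. Then for every i ≥ 1 the A-module Tor_i^A(κ, κ) has length 2 (it is a
two-dimensional κ-vector space; Tor_0 is κ), and κ admits no finite projective resolution over A:
for no n is its projective dimension less than n. -/
theorem result (k : Type u) [Field k] :
    (∀ i : ℕ, 1 ≤ i →
      Module.length (MvPolynomial (Fin 2) k ⧸ Ideal.span {(MvPolynomial.X 0 * MvPolynomial.X 1 : MvPolynomial (Fin 2) k)}) ((((Tor (ModuleCat.{u} (MvPolynomial (Fin 2) k ⧸ Ideal.span {(MvPolynomial.X 0 * MvPolynomial.X 1 : MvPolynomial (Fin 2) k)})) i).obj (ModuleCat.of (MvPolynomial (Fin 2) k ⧸ Ideal.span {(MvPolynomial.X 0 * MvPolynomial.X 1 : MvPolynomial (Fin 2) k)}) ((MvPolynomial (Fin 2) k ⧸ Ideal.span {(MvPolynomial.X 0 * MvPolynomial.X 1 : MvPolynomial (Fin 2) k)}) ⧸ Ideal.span {Ideal.Quotient.mk (Ideal.span {(MvPolynomial.X 0 * MvPolynomial.X 1 : MvPolynomial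 (Fin 2) k)}) (MvPolynomial.X 0), Ideal.Quotient.mk (Ideal.span {(MvPolynomial.X 0 * MvPolynomial.X 1 : MvPolynomial (Fin 2) k)}) (MvPolynomial.X 1)}))).obj (ModuleCat.of (MvPolynomial (Fin 2) k ⧸ Ideal.span {(MvPolynomial.X 0 * MvPolynomial.X 1 : MvPolynomial (Fin 2) k)}) ((MvPolynomial (Fin 2) k ⧸ Ideal.span {(MvPolynomial.X 0 * MvPolynomial.X 1 : MvPolynomial (Fin 2) k)}) ⧸ Ideal.span {Ideal.Quotient.mk (Ideal.span {(MvPolynomial.X 0 * MvPolynomial.X 1 : MvPolynomial (Fin 2) k)}) (MvPolynomial.X 0), Ideal.Quotient.mk (Ideal.span {(MvPolynomial.X 0 * MvPolynomial.X 1 : MvPolynomial (Fin 2) k)}) (MvPolynomial.X 1)}))) : Type u) = 2) ∧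
    ∀ n : ℕ, ¬ HasProjectiveDimensionLT (ModuleCat.of (MvPolynomial (Fin 2) k ⧸ Ideal.span {(MvPolynomial.X 0 * MvPolynomial.X 1 : MvPolynomial (Fin 2) k)}) ((MvPolynomial (Fin 2) k ⧸ Ideal.span {(MvPolynomial.X 0 * MvPolynomial.X 1 : MvPolynomial (Fin 2) k)}) ⧸ Ideal.span {Ideal.Quotient.mk (Ideal.span {(MvPolynomial.X 0 * MvPolynomial.X 1 : MvPolynomial (Fin 2) k)}) (MvPolynomial.X 0), Ideal.Quotient.mk (Ideal.span {(MvPolynomial.X 0 * MvPolynomial.X 1 : MvPolynomial (Fin 2) k)}) (MvPolynomial.X 1)})) n := by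
  set I : Ideal (MvPolynomial (Fin 2) k) := Ideal.span {(MvPolynomial.X 0 * MvPolynomial.X 1 : MvPolynomial (Fin 2) k)} with hI
  set π := Ideal.Quotient.mk I with hπ
  have h0 : ∀ f, π f = 0 ↔ MvPolynomial.X 0 * MvPolynomial.X 1 ∣ f := fun f => by
    rw [hπ, Ideal.Quotient.eq_zero_iff_mem, hI, Ideal.mem_span_singleton]
  have hX : ∀ i : Fin 2, (MvPolynomial.X i : MvPolynomial (Fin 2) k) ≠ 0 := fun i => MvPolynomial.X_ne_zero i
  have hxy : π (MvPolynomial.X 0) * π (MvPolynomial.X 1) = 0 := by rw [← map_mul, h0]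
  have hx : ∀ f, π (MvPolynomial.X 0) * f = 0 → π (MvPolynomial.X 1) ∣ f := fun f hf => by
    obtain ⟨f, rfl⟩ := Ideal.Quotient.mk_surjective f
    rw [← map_mul, h0, mul_dvd_mul_iff_left (hX 0)] at hf
    exact map_dvd π hf
  have hy : ∀ f, π (MvPolynomial.X 1) * f = 0 → π (MvPolynomial.X 0) ∣ f := fun f hf => by
    obtain ⟨f, rfl⟩ := Ideal.Quotient.mk_surjective f
    rw [← map_mul, h0, mul_comm (MvPolynomial.X 0), mul_dvd_mul_iff_left (hX 1)] at hf
    exact map_dvd π hf
  have hsep : ∀ a b, a * π (MvPolynomial.X 0) + b * π (MvPolynomial.X 1) = 0 → a * π (MvPolynomial.X 0) = 0 := by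
    intro a b h
    obtain ⟨a, rfl⟩ := Ideal.Quotient.mk_surjective a
    obtain ⟨b, rfl⟩ := Ideal.Quotient.mk_surjective b
    rw [← map_mul, ← map_mul, ← map_add, h0] at h
    rw [← map_mul, h0, mul_comm (MvPolynomial.X 0) (MvPolynomial.X 1), mul_dvd_mul_iff_right (hX 0)]
    have h1 : MvPolynomial.X 1 ∣ a * MvPolynomial.X 0 := by
      have h2 : MvPolynomial.X 1 ∣ a * MvPolynomial.X 0 + b * MvPolynomial.X 1 := (dvd_mul_left _ _).trans h
      exact (dvd_add_left (dvd_mul_left _ b)).1 h2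
    refine (MvPolynomial.X_prime (R := k) (i := (1 : Fin 2))).dvd_or_dvd h1 |>.resolve_right fun h3 => ?_
    rw [MvPolynomial.X_dvd_X] at h3
    exact absurd h3 (by simp)
  let ev : MvPolynomial (Fin 2) k ⧸ I →+* k := Ideal.Quotient.lift I MvPolynomial.constantCoeff fun f hf => by
    rw [hI, Ideal.mem_span_singleton] at hf
    obtain ⟨g, rfl⟩ := hf
    simp
  have hle : ∀ f, f - π (MvPolynomial.C (ev f)) ∈ Ideal.span {π (MvPolynomial.X 0), π (MvPolynomial.X 1)} := by
    intro f
    obtain ⟨f, rfl⟩ := Ideal.Quotient.mk_surjective f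
    rw [show ev (π f) = MvPolynomial.constantCoeff f from Ideal.Quotient.lift_mk _ _ _]
    induction f using MvPolynomial.induction_on with
    | C a => simp [hπ]
    | add f g hf hg => simpa [hπ, add_sub_add_comm] using add_mem hf hg
    | mul_X f i hf =>
      rw [show MvPolynomial.constantCoeff (f * MvPolynomial.X i) = 0 by simp, map_zero, map_zero, sub_zero, map_mul]
      refine Ideal.mul_mem_left _ _ (Ideal.subset_span ?_)
      fin_cases i <;> simp [hπ]
  have hker : Ideal.span {π (MvPolynomial.X 0), π (MvPolynomial.X 1)} = RingHom.ker ev := by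
    refine le_antisymm (Ideal.span_le.2 ?_) fun f hf => ?_
    · rintro _ (rfl | rfl) <;> simp [ev, hπ]
    · have := hle f
      rw [RingHom.mem_ker.1 hf, map_zero, map_zero, sub_zero] at this
      exact this
  haveI : (Ideal.span {π (MvPolynomial.X 0), π (MvPolynomial.X 1)}).IsMaximal := by
    rw [hker]
    exact RingHom.ker_isMaximal_of_surjective ev fun a => ⟨π (MvPolynomial.C a), by simp [ev, hπ]⟩
  refine ⟨fun i hi => ?_, fun n => not_lt _ _ hxy hx hy hsep ((Ideal.ne_top_iff_one _).1 (Ideal.IsMaximal.ne_top ‹_›)) n⟩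
  obtain ⟨j, rfl⟩ : ∃ j, i = j + 1 := ⟨i - 1, by omega⟩
  exact length_tor _ _ hxy hx hy hsep j

end Groth.Agent.S16243
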