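import Groth.Statements.S16244
import Mathlib.RingTheory.RootsOfUnity.AlgebraicallyClosed
import Mathlib.Tactic.LinearCombination
-- import your own Groth.Agent.* helpers here

set_option autoImplicit false
universe u
open Curves

namespace Groth.Agent.S16244

/-- Let k be an algebraically closed field in which 2 and 3 are nonzero, and W a short Weierstrass
equation y² = x³ + a₄x + a₆ over k with nonzero discriminant. The admissible changes of variables
(u, r, s, t) that fix W form a cyclic group, of order 6 when a₄ = 0, of order 4 when a₆ = 0, and of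
order 2 when a₄ and a₆ are both nonzero. (The published statement says the automorphism group of the
elliptic curve is cyclic of order 2, 4 or 6; the automorphisms are rendered here as the changes of
variables preserving the equation, and the case distinction is the one the computation gives.) -/
theorem result
    (k : Type u) [Field k] [IsAlgClosed k] (h2 : (2 : k) ≠ 0) (h3 : (3 : k) ≠ 0)
    (W : WeierstrassCurve k) [W.IsShortNF] (hΔ : W.Δ ≠ 0) :
    IsCyclic ↥(MulAction.stabilizer (WeierstrassCurve.VariableChange k) W) ∧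
      (W.a₄ = 0 → Nat.card ↥(MulAction.stabilizer (WeierstrassCurve.VariableChange k) W) = 6) ∧
      (W.a₆ = 0 → Nat.card ↥(MulAction.stabilizer (WeierstrassCurve.VariableChange k) W) = 4) ∧
      (W.a₄ ≠ 0 → W.a₆ ≠ 0 → Nat.card ↥(MulAction.stabilizer (WeierstrassCurve.VariableChange k) W) = 2) := by
  classical
  have h1 : W.a₁ = 0 := W.a₁_of_isShortNF
  have h2a : W.a₂ = 0 := W.a₂_of_isShortNF
  have h3a : W.a₃ = 0 := W.a₃_of_isShortNF
  have hne : ¬ (W.a₄ = 0 ∧ W.a₆ = 0) := by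
    rintro ⟨h4, h6⟩
    apply hΔ
    rw [W.Δ_of_isShortNF, h4, h6]; ring
  have hmem : ∀ C : WeierstrassCurve.VariableChange k,
      C ∈ MulAction.stabilizer (WeierstrassCurve.VariableChange k) W ↔
        C.r = 0 ∧ C.s = 0 ∧ C.t = 0 ∧
          ((C.u : k) ^ 4 * W.a₄ = W.a₄ ∧ (C.u : k) ^ 6 * W.a₆ = W.a₆) := by
    intro C
    rw [MulAction.mem_stabilizer_iff, WeierstrassCurve.variableChange_def, WeierstrassCurve.ext_iff]
    simp only [h1, h2a, h3a]
    have hu : ((C.u⁻¹ : kˣ) : k) ≠ 0 := Units.ne_zero _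
    have hinv : ((C.u⁻¹ : kˣ) : k) * (C.u : k) = 1 := Units.inv_mul _
    constructor
    · rintro ⟨e1, e2, e3, e4, e6⟩
      have hs : C.s = 0 := by simpa [hu, h2] using e1
      have ht : C.t = 0 := by simpa [hu, h2] using e3
      have hr : C.r = 0 := by simpa [hu, h3, hs] using e2
      refine ⟨hr, hs, ht, ?_, ?_⟩
      · simp only [hr, hs, ht] at e4
        ring_nf at e4
        linear_combination -(C.u : k) ^ 4 * e4
          + W.a₄ * ((((C.u⁻¹ : kˣ) : k) * (C.u : k)) ^ 3 + (((C.u⁻¹ : kˣ) : k) * (C.u : k)) ^ 2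
            + ((C.u⁻¹ : kˣ) : k) * (C.u : k) + 1) * hinv
      · simp only [hr, hs, ht] at e6
        ring_nf at e6
        linear_combination -(C.u : k) ^ 6 * e6
          + W.a₆ * ((((C.u⁻¹ : kˣ) : k) * (C.u : k)) ^ 5 + (((C.u⁻¹ : kˣ) : k) * (C.u : k)) ^ 4
            + (((C.u⁻¹ : kˣ) : k) * (C.u : k)) ^ 3 + (((C.u⁻¹ : kˣ) : k) * (C.u : k)) ^ 2
            + ((C.u⁻¹ : kˣ) : k) * (C.u : k) + 1) * hinv
    · rintro ⟨hr, hs, ht, e4, e6⟩
      simp only [hr, hs, ht]
      refine ⟨by ring, by ring, by ring, ?_, ?_⟩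
      · linear_combination -((C.u⁻¹ : kˣ) : k) ^ 4 * e4
          + W.a₄ * ((((C.u⁻¹ : kˣ) : k) * (C.u : k)) ^ 3 + (((C.u⁻¹ : kˣ) : k) * (C.u : k)) ^ 2
            + ((C.u⁻¹ : kˣ) : k) * (C.u : k) + 1) * hinv
      · linear_combination -((C.u⁻¹ : kˣ) : k) ^ 6 * e6
          + W.a₆ * ((((C.u⁻¹ : kˣ) : k) * (C.u : k)) ^ 5 + (((C.u⁻¹ : kˣ) : k) * (C.u : k)) ^ 4
            + (((C.u⁻¹ : kˣ) : k) * (C.u : k)) ^ 3 + (((C.u⁻¹ : kˣ) : k) * (C.u : k)) ^ 2
            + ((C.u⁻¹ : kˣ) : k) * (C.u : k) + 1) * hinv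
  have key : ∀ n : ℕ, 0 < n → (n : k) ≠ 0 →
      (∀ u : k, u ^ n = 1 ↔ (u ^ 4 * W.a₄ = W.a₄ ∧ u ^ 6 * W.a₆ = W.a₆)) →
      IsCyclic ↥(MulAction.stabilizer (WeierstrassCurve.VariableChange k) W) ∧
        Nat.card ↥(MulAction.stabilizer (WeierstrassCurve.VariableChange k) W) = n := by
    intro n hn hnk hiff
    haveI : NeZero n := ⟨hn.ne'⟩
    haveI : NeZero (n : k) := ⟨hnk⟩
    let e : ↥(MulAction.stabilizer (WeierstrassCurve.VariableChange k) W) ≃* rootsOfUnity n k :=
      { toFun := fun C => ⟨C.1.u, by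
          rw [mem_rootsOfUnity']
          exact (hiff _).mpr ((hmem C.1).mp C.2).2.2.2⟩
        invFun := fun u => ⟨⟨u.1, 0, 0, 0⟩, (hmem _).mpr ⟨rfl, rfl, rfl,
          (hiff _).mp ((mem_rootsOfUnity' n u.1).mp u.2)⟩⟩
        left_inv := fun C => by
          obtain ⟨hr, hs, ht, -⟩ := (hmem C.1).mp C.2
          apply Subtype.ext
          exact WeierstrassCurve.VariableChange.ext rfl hr.symm hs.symm ht.symm
        right_inv := fun u => rfl
        map_mul' := fun C C' => rfl }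
    exact ⟨isCyclic_of_surjective e.symm e.symm.surjective,
      (Nat.card_congr e.toEquiv).trans (HasEnoughRootsOfUnity.natCard_rootsOfUnity k n)⟩
  have h4k : ((4 : ℕ) : k) ≠ 0 := by
    rw [show (4 : ℕ) = 2 * 2 from rfl, Nat.cast_mul]; exact mul_ne_zero h2 h2
  have h6k : ((6 : ℕ) : k) ≠ 0 := by
    rw [show (6 : ℕ) = 2 * 3 from rfl, Nat.cast_mul]; exact mul_ne_zero h2 h3
  by_cases ha4 : W.a₄ = 0
  · have ha6 : W.a₆ ≠ 0 := fun h => hne ⟨ha4, h⟩
    obtain ⟨hc, hn⟩ := key 6 (by norm_num) h6k fun u => by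
      simp only [ha4, mul_zero, true_and]
      exact (mul_eq_right₀ ha6).symm
    exact ⟨hc, fun _ => hn, fun h => absurd h ha6, fun h => absurd ha4 h⟩
  · by_cases ha6 : W.a₆ = 0
    · obtain ⟨hc, hn⟩ := key 4 (by norm_num) h4k fun u => by
        simp only [ha6, mul_zero, and_true]
        exact (mul_eq_right₀ ha4).symm
      exact ⟨hc, fun h => absurd h ha4, fun _ => hn, fun _ h => absurd ha6 h⟩
    · obtain ⟨hc, hn⟩ := key 2 (by norm_num) (by exact_mod_cast h2) fun u => by
        rw [mul_eq_right₀ ha4, mul_eq_right₀ ha6]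
        constructor
        · intro h
          exact ⟨by linear_combination (u ^ 2 + 1) * h, by linear_combination (u ^ 4 + u ^ 2 + 1) * h⟩
        · rintro ⟨e4, e6⟩
          linear_combination e6 - u ^ 2 * e4
      exact ⟨hc, fun h => absurd h ha4, fun h => absurd h ha6, fun _ _ => hn⟩

end Groth.Agent.S16244
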