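import Groth.Statements.S16245
import Groth.Agent.EssFree.Apps
-- import your own Groth.Agent.* helpers here

set_option autoImplicit false
universe u
open CategoryTheory CategoryTheory.Limits AlgebraicGeometry
open SDiv

namespace Groth.Agent.S16245

/-- Let f : X → S be a morphism of schemes, D ⊆ X an effective Cartier divisor with ideal sheaf 𝓘, and
D' ⊆ X a closed subscheme with ideal sheaf 𝓘' such that D' → S is finite, flat and locally of finite
presentation (finite locally free). Then there is a closed subscheme Z ⊆ S such that a morphism g :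
T → S factors through Z exactly when, on X ×_S T, the inverse image ideal of 𝓘 is contained in the
inverse image ideal of 𝓘', that is, the pull-back of D' is a closed subscheme of the pull-back of D.
This universal property determines Z, and compatibility of Z with base change follows from it. (In
the source X is a family of elliptic curves and D, D' are relative effective Cartier divisors, D'
then being finite locally free over S; the argument uses only the hypotheses stated here.) -/
theorem result
    {X S : Scheme.{u}} (f : X ⟶ S) (𝓘 𝓘' : X.IdealSheafData) (hD : BlowUp.IsEffCartierIdeal 𝓘)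
    [IsFinite (𝓘'.subschemeι ≫ f)] [Flat (𝓘'.subschemeι ≫ f)]
    [LocallyOfFinitePresentation (𝓘'.subschemeι ≫ f)] :
    ∃ 𝓩 : S.IdealSheafData, ∀ (T : Scheme.{u}) (g : T ⟶ S),
      (∃ t : T ⟶ 𝓩.subscheme, t ≫ 𝓩.subschemeι = g) ↔
        𝓘.comap (pullback.fst f g) ≤ 𝓘'.comap (pullback.fst f g) := by
  have hf := Groth.Agent.EssFree.isEssentiallyFree_of_isFinite (𝓘'.subschemeι ≫ f)
  obtain ⟨Z, t, ht, -, hZ⟩ := Groth.Agent.EssFree.exists_closed_full
    (j := pullback.fst 𝓘'.subschemeι 𝓘.subschemeι) hf
  refine ⟨t.ker, fun T g => ?_⟩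
  have h1 : (∃ s : T ⟶ t.ker.subscheme, s ≫ t.ker.subschemeι = g) ↔ ∃ z : T ⟶ Z, z ≫ t = g := by
    constructor
    · rintro ⟨s, hs⟩
      exact ⟨IsClosedImmersion.lift t g
        (by rw [← hs]; refine le_trans ?_ (Scheme.Hom.le_ker_comp _ _); simp),
        IsClosedImmersion.lift_fac _ _ _⟩
    · rintro ⟨z, hz⟩
      exact ⟨IsClosedImmersion.lift t.ker.subschemeι g
        (by rw [← hz]; refine le_trans ?_ (Scheme.Hom.le_ker_comp _ _); simp),
        IsClosedImmersion.lift_fac _ _ _⟩
  rw [h1, hZ g]
  let a := pullback.fst f g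
  have h2 : 𝓘.comap a ≤ 𝓘'.comap a ↔ 𝓘 ≤ (pullback.fst a 𝓘'.subschemeι ≫ a).ker := by
    rw [Scheme.Hom.ker_comp, Scheme.IdealSheafData.le_map_iff_comap_le]
    rfl
  rw [h2]
  let φ : pullback a 𝓘'.subschemeι ⟶ pullback (𝓘'.subschemeι ≫ f) g :=
    pullback.lift (pullback.snd a 𝓘'.subschemeι) (pullback.fst a 𝓘'.subschemeι ≫ pullback.snd f g)
      (by rw [← pullback.condition_assoc, pullback.condition, Category.assoc])
  let ψ : pullback (𝓘'.subschemeι ≫ f) g ⟶ pullback a 𝓘'.subschemeι :=
    pullback.lift (pullback.lift (pullback.fst (𝓘'.subschemeι ≫ f) g ≫ 𝓘'.subschemeι)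
      (pullback.snd (𝓘'.subschemeι ≫ f) g) (by rw [Category.assoc, pullback.condition]))
      (pullback.fst (𝓘'.subschemeι ≫ f) g) (pullback.lift_fst _ _ _)
  constructor
  · rintro ⟨l, hl⟩
    have h3 : pullback.fst a 𝓘'.subschemeι ≫ a =
        (φ ≫ l ≫ pullback.snd 𝓘'.subschemeι 𝓘.subschemeι) ≫ 𝓘.subschemeι := by
      rw [Category.assoc, Category.assoc, ← pullback.condition (f := 𝓘'.subschemeι), reassoc_of% hl,
        pullback.lift_fst_assoc, ← pullback.condition]
    rw [h3]
    refine le_trans ?_ (Scheme.Hom.le_ker_comp _ _)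
    simp
  · intro h
    have h4 := IsClosedImmersion.lift_fac 𝓘.subschemeι (pullback.fst a 𝓘'.subschemeι ≫ a) (by simpa using h)
    refine ⟨pullback.lift (pullback.fst _ _) (ψ ≫ IsClosedImmersion.lift 𝓘.subschemeι
      (pullback.fst a 𝓘'.subschemeι ≫ a) (by simpa using h)) ?_, pullback.lift_fst _ _ _⟩
    rw [Category.assoc, h4, pullback.condition, pullback.lift_snd_assoc]

end Groth.Agent.S16245
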