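import Groth.Prelude.Def_ARSys
import Groth.Prelude.Def_PBC
import Mathlib.AlgebraicGeometry.Noetherian
import Mathlib.RingTheory.Ideal.Span
import Groth.Agent.EtSite.StrataNoeth
import Groth.Agent.EtSite.StrataAb
-- import your own Groth.Agent.* helpers here

set_option autoImplicit false
open CategoryTheory CategoryTheory.Limits AlgebraicGeometry Opposite
universe u

namespace Groth.Agent.S16251

/-- Let ℓ be a prime, X a locally Noetherian scheme and F = (F_n) an ℓ-adic projective system of abelian
sheaves on the small étale site of X, indexed from 0 (so ℓ^(n+1) F_n = 0 and, for n ≤ m, the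
transition map F_m ⟶ F_n is a quotient map modulo ℓ^(n+1)). If the first member F_0 is
constructible, then every member F_n is constructible. (The converse is trivial. The published
statement indexes the system from 1, with ℓ^n killing the n-th member; the statement here indexes it
from 0.) -/
theorem result (ℓ : ℕ) [Fact ℓ.Prime]
    (X : Scheme.{u}) [IsLocallyNoetherian X]
    (F : ARSys.PS (EtCoh.Ab X)) (hF : ARSys.IsAdic (Ideal.span {(ℓ : ℤ)}) F)
    (h0 : EtPBC.IsConstructible (F.obj (op 0))) (n : ℕ) :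
    EtPBC.IsConstructible (F.obj (op n)) := by
  induction n with
  | zero => exact h0
  | succ n ih =>
    let J : Ideal ℤ := Ideal.span {(ℓ : ℤ)}
    have hJ : ∀ k : ℕ, J ^ k = Ideal.span {(ℓ : ℤ) ^ k} := fun k => Ideal.span_singleton_pow _ _
    let A := F.obj (op (n + 1))
    let φ : A ⟶ A := ((ℓ : ℤ) ^ (n + 1)) • 𝟙 A
    have hkill : ∀ a ∈ J ^ (n + 2), (a • 𝟙 A : A ⟶ A) = 0 := hF.1 (n + 1)
    obtain ⟨q0, hq0⟩ := hF.2 0 (n + 1) (Nat.zero_le _)
    obtain ⟨ψ, hψ, -⟩ := hq0 A φ (fun a ha => by
      rw [show (0 + 1) = 1 from rfl, pow_one, Ideal.mem_span_singleton'] at ha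
      obtain ⟨c, rfl⟩ := ha
      rw [smul_smul, mul_assoc, ← pow_succ']
      exact hkill _ (by rw [hJ]; exact Ideal.mem_span_singleton'.2 ⟨c, rfl⟩))
    let p := ARSys.tr F (Nat.le_succ n)
    have hφp : φ ≫ p = 0 := by
      have := (hF.2 n (n + 1) (Nat.le_succ n)).1 ((ℓ : ℤ) ^ (n + 1)) (by
        rw [hJ]; exact Ideal.mem_span_singleton_self _)
      simp only [φ, Linear.smul_comp, Category.id_comp]
      rw [← Category.comp_id p, ← Linear.comp_smul, this, comp_zero]
    have hepi : ∀ (m k : ℕ) (h : m ≤ k), Epi (ARSys.tr F h) := fun m k h => ⟨fun {Z} a b e => by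
      obtain ⟨hQ, huniv⟩ := hF.2 m k h
      refine (huniv Z (ARSys.tr F h ≫ a) fun c hc => ?_).unique rfl e.symm
      rw [← Category.id_comp a, ← Linear.comp_smul, ← Linear.smul_comp, hQ c hc, zero_comp, comp_zero]⟩
    have : Epi p := hepi _ _ _
    have hc : ShortComplex.Exact (ShortComplex.mk φ p hφp) := by
      refine ShortComplex.exact_of_g_is_cokernel _ (CokernelCofork.IsColimit.ofπ _ _
        (fun g hg => ((hF.2 n (n + 1) (Nat.le_succ n)).2 _ g (fun a ha => ?_)).exists.choose)
        (fun g hg => ((hF.2 n (n + 1) (Nat.le_succ n)).2 _ g (fun a ha => ?_)).exists.choose_spec)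
        fun g hg m hm => (cancel_epi p).1 (hm.trans (((hF.2 n (n + 1) (Nat.le_succ n)).2 _ g
          (fun a ha => ?_)).exists.choose_spec).symm))
      all_goals
        rw [hJ, Ideal.mem_span_singleton'] at ha
        obtain ⟨c, rfl⟩ := ha
        rw [mul_smul, ← Category.id_comp g, ← Linear.smul_comp, hg, smul_zero]
    have hp0 : Epi (ARSys.tr F (Nat.zero_le (n + 1))) := hepi _ _ _
    have hK : kernel.lift p ψ (by
        rw [← cancel_epi (ARSys.tr F (Nat.zero_le (n + 1))), ← Category.assoc, hψ, hφp, comp_zero]) ≫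
        kernel.ι p = ψ := kernel.lift_ι _ _ _
    have : Epi (kernel.lift p φ hφp) := (ShortComplex.exact_iff_epi_kernel_lift _).1 hc
    have : Epi (kernel.lift p ψ (by
        rw [← cancel_epi (ARSys.tr F (Nat.zero_le (n + 1))), ← Category.assoc, hψ, hφp, comp_zero])) := by
      have e : ARSys.tr F (Nat.zero_le (n + 1)) ≫ kernel.lift p ψ (by
          rw [← cancel_epi (ARSys.tr F (Nat.zero_le (n + 1))), ← Category.assoc, hψ, hφp, comp_zero]) =
          kernel.lift p φ hφp := by
        rw [← cancel_mono (kernel.ι p), Category.assoc, hK, kernel.lift_ι, hψ]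
      have : Epi (ARSys.tr F (Nat.zero_le (n + 1)) ≫ kernel.lift p ψ (by
          rw [← cancel_epi (ARSys.tr F (Nat.zero_le (n + 1))), ← Category.assoc, hψ, hφp, comp_zero])) := by
        rw [e]; infer_instance
      exact epi_of_epi (ARSys.tr F (Nat.zero_le (n + 1))) _
    exact EtSite.StrataAb.isConstructible_of_shortExact
      (S := ShortComplex.mk (kernel.ι p) p (kernel.condition p))
      { exact := ShortComplex.exact_of_f_is_kernel _ (kernelIsKernel p) }
      (EtSite.StrataNoeth.isConstructible_of_epi (kernel.lift p ψ _) h0) ih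

end Groth.Agent.S16251
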