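import Mathlib
import Groth.Statements.S16259
-- import your own Groth.Agent.* helpers here

set_option autoImplicit false
open W4c3wronskmg

namespace Groth.Agent.S16259

open Polynomial in
/-- Over a field of characteristic zero, for positive integers `i, j` and a natural number `n`, the
polynomial `h(W) = ∑_{l=0}^{n} (i choose l) (j choose (n-l)) W^(n-l)`, the coefficient of
`X^(i+j-n)` in `(X+1)^i (X+W)^j`, has no multiple root other than possibly `0` and `1`: every `c ≠
0, 1` has root multiplicity at most one. -/
theorem result
    (k : Type*) [Field k] [CharZero k] (i j n : ℕ) (hi : 0 < i) (hj : 0 < j) (c : k) (hc0 : c ≠ 0) (hc1 : c ≠ 1) :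
    Polynomial.rootMultiplicity c
      (∑ l ∈ Finset.range (n + 1),
        Polynomial.C (((i.choose l) * (j.choose (n - l)) : ℕ) : k) * Polynomial.X ^ (n - l)) ≤ 1 := by
  classical
  set h : Polynomial k := ∑ l ∈ Finset.range (n + 1),
    Polynomial.C (((i.choose l) * (j.choose (n - l)) : ℕ) : k) * Polynomial.X ^ (n - l) with hh
  by_cases h0 : h = 0
  · simp [h0]
  have hcoef : ∀ m : ℕ, h.coeff m = if m ≤ n then ((i.choose (n - m) : ℕ) : k) * (j.choose m : ℕ) else 0 := by
    intro m
    rw [hh, Polynomial.finset_sum_coeff]
    simp only [Polynomial.coeff_C_mul_X_pow]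
    split_ifs with hm
    · rw [Finset.sum_eq_single (n - m)]
      · rw [if_pos (by omega), show n - (n - m) = m by omega, Nat.cast_mul]
      · intro l hl hne
        rw [if_neg]
        simp at hl; omega
      · intro hl; simp at hl
    · exact Finset.sum_eq_zero fun l _ => if_neg (by omega)
  have hch : ∀ a t : ℕ, ((a.choose (t + 1) : ℕ) : k) * ((t : k) + 1) = (a.choose t : ℕ) * ((a : k) - t) := by
    intro a t
    rcases le_or_gt t a with hta | hta
    · have := congrArg (Nat.cast : ℕ → k) (Nat.choose_succ_right_eq a t)
      push_cast [Nat.cast_sub hta] at this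
      exact this
    · simp [Nat.choose_eq_zero_of_lt hta, Nat.choose_eq_zero_of_lt (Nat.lt_succ_of_lt hta)]
  set cc : k := (i : k) - n + 1
  have hrec : ∀ m : ℕ, ((m : k) + 1) * ((m : k) + cc) * h.coeff (m + 1) = ((m : k) - j) * ((m : k) - n) * h.coeff m := by
    intro m
    rcases lt_or_ge m n with hm | hm
    · obtain ⟨t, rfl⟩ : ∃ t, n = m + 1 + t := ⟨n - (m + 1), by omega⟩
      rw [hcoef, hcoef, if_pos (by omega), if_pos (by omega), show m + 1 + t - (m + 1) = t by omega, show m + 1 + t - m = t + 1 by omega]
      have e1 := hch i t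
      have e2 := hch j m
      simp only [cc]
      push_cast
      linear_combination (((i.choose t : ℕ) : k) * ((i : k) - t)) * e2 - ((j.choose m : ℕ) : k) * ((j : k) - m) * e1
    · rw [hcoef (m + 1), if_neg (by omega)]
      rcases eq_or_lt_of_le hm with rfl | hm
      · simp
      · rw [hcoef, if_neg (by omega)]; simp
  have hode : Polynomial.X * (1 - Polynomial.X) * Polynomial.derivative (Polynomial.derivative h) +
      (Polynomial.C cc + Polynomial.C ((j : k) + n - 1) * Polynomial.X) * Polynomial.derivative h -
      Polynomial.C ((j : k) * n) * h = 0 := by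
    ext m
    rw [show Polynomial.X * (1 - Polynomial.X) * Polynomial.derivative (Polynomial.derivative h) +
      (Polynomial.C cc + Polynomial.C ((j : k) + n - 1) * Polynomial.X) * Polynomial.derivative h -
      Polynomial.C ((j : k) * n) * h = Polynomial.derivative (Polynomial.derivative h) * Polynomial.X -
        Polynomial.derivative (Polynomial.derivative h) * Polynomial.X ^ 2 + Polynomial.C cc * Polynomial.derivative h +
        Polynomial.C ((j : k) + n - 1) * (Polynomial.derivative h * Polynomial.X) - Polynomial.C ((j : k) * n) * h by ring]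
    simp only [Polynomial.coeff_sub, Polynomial.coeff_add, Polynomial.coeff_C_mul, Polynomial.coeff_zero]
    have hr := hrec m
    rcases m with _ | _ | m
    · simp [Polynomial.coeff_derivative, Polynomial.mul_coeff_zero] at hr ⊢
      linear_combination hr
    · simp [Polynomial.coeff_derivative, Polynomial.coeff_mul_X, sq, ← mul_assoc, Polynomial.mul_coeff_zero] at hr ⊢
      linear_combination hr
    · simp [Polynomial.coeff_derivative, Polynomial.coeff_mul_X, sq, ← mul_assoc] at hr ⊢
      linear_combination hr
  by_contra hcon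
  obtain ⟨s, hs⟩ : ∃ s, Polynomial.rootMultiplicity c h = s + 2 := ⟨Polynomial.rootMultiplicity c h - 2, by omega⟩
  obtain ⟨u, hu, hdvd⟩ := Polynomial.exists_eq_pow_rootMultiplicity_mul_and_not_dvd h h0 c
  rw [hs] at hu
  set L := Polynomial.X - Polynomial.C c
  have hL : Polynomial.derivative L = 1 := by simp [L]
  have hd1 : Polynomial.derivative h = L ^ (s + 1) * (Polynomial.C ((s : k) + 2) * u + L * Polynomial.derivative u) := by
    rw [hu, Polynomial.derivative_mul, Polynomial.derivative_pow, hL]
    simp only [Nat.add_sub_cancel, show s + 2 - 1 = s + 1 by omega, mul_one]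
    push_cast
    ring
  have hd2 : ∃ w, Polynomial.derivative (Polynomial.derivative h) = L ^ s * (Polynomial.C (((s : k) + 1) * ((s : k) + 2)) * u + L * w) := by
    refine ⟨Polynomial.C ((s : k) + 1) * Polynomial.derivative u + Polynomial.derivative (Polynomial.C ((s : k) + 2) * u + L * Polynomial.derivative u), ?_⟩
    rw [hd1, Polynomial.derivative_mul, Polynomial.derivative_pow, hL]
    simp only [Nat.add_sub_cancel, mul_one, map_mul]
    push_cast
    ring
  obtain ⟨w, hw⟩ := hd2
  rw [hw, hd1, hu] at hode
  have hfac : L ^ s * (Polynomial.X * (1 - Polynomial.X) * (Polynomial.C (((s : k) + 1) * ((s : k) + 2)) * u + L * w) +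
      L * ((Polynomial.C cc + Polynomial.C ((j : k) + n - 1) * Polynomial.X) * (Polynomial.C ((s : k) + 2) * u + L * Polynomial.derivative u) -
        Polynomial.C ((j : k) * n) * L * u)) = 0 := by
    rw [← hode]; ring
  have hev := congrArg (Polynomial.eval c) ((mul_eq_zero.1 hfac).resolve_left (pow_ne_zero _ (Polynomial.X_sub_C_ne_zero c)))
  simp [L] at hev
  rcases hev with (h' | h') | ((h' | h') | h')
  · exact hc0 h'
  · exact hc1 (sub_eq_zero.1 h').symm
  · exact Nat.cast_add_one_ne_zero s h'
  · norm_cast at h'
  · exact hdvd (Polynomial.dvd_iff_isRoot.2 (show Polynomial.IsRoot u c from h'))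

end Groth.Agent.S16259
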