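import Groth.Statements.S16262
import Mathlib.Algebra.Polynomial.Derivative
import Mathlib.Algebra.Polynomial.Monic
import Mathlib.RingTheory.Ideal.Span
import Mathlib.Tactic.LinearCombination
import Mathlib.Tactic.FieldSimp
import Mathlib.LinearAlgebra.Dimension.Constructions

set_option autoImplicit false
open W4c3wronskmg

namespace Groth.Agent.S16262

open Polynomial in
lemma not_consecutive_zero {k : Type*} [Field k] [CharZero k] {q : k} (hq : q ≠ 0) (i m : ℕ) {n : ℕ}
    (hn : n < i + m) :
    ((X + 1 : k[X]) ^ i * (X - C q) ^ m).coeff n ≠ 0 ∨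
      ((X + 1 : k[X]) ^ i * (X - C q) ^ m).coeff (n + 1) ≠ 0 := by
  set P : k[X] := (X + 1 : k[X]) ^ i * (X - C q) ^ m with hP
  have hd : ∀ (L : k[X]) (j : ℕ), L * derivative (L ^ j) = (j : k[X]) * L ^ j * derivative L := by
    intro L j
    induction j with
    | zero => simp
    | succ j ih =>
      rw [pow_succ L j, derivative_mul, mul_add, ← mul_assoc, ih]
      push_cast
      ring
  have hode : (X + 1) * (X - C q) * derivative P =
      ((i : k[X]) * (X - C q) + (m : k[X]) * (X + 1)) * P := by
    have h1 := hd (X + 1 : k[X]) i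
    have h2 := hd (X - C q) m
    simp only [derivative_add, derivative_X, derivative_one, derivative_sub, derivative_C, add_zero, sub_zero,
      mul_one] at h1 h2
    rw [hP, derivative_mul]
    linear_combination (X - C q) ^ m * (X - C q) * h1 + (X + 1 : k[X]) ^ i * (X + 1) * h2
  have hrec : ∀ j, P.coeff j = 0 → P.coeff (j + 1) = 0 → P.coeff (j + 2) = 0 := by
    intro j h0 h1
    have h := congrArg (fun f => Polynomial.coeff f (j + 1)) hode
    have e1 : (X + 1) * (X - C q) * derivative P =
        X * (X * derivative P) + C (1 - q) * (X * derivative P) - C q * derivative P := by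
      rw [C_sub, C_1]; ring
    have e2 : ((i : k[X]) * (X - C q) + (m : k[X]) * (X + 1)) * P =
        C ((i : k) + m) * (X * P) + C ((m : k) - i * q) * P := by
      rw [C_sub, C_add, C_mul, map_natCast, map_natCast]; ring
    have e3 : (X * derivative P).coeff j = 0 := by
      rcases j with _ | j
      · simp
      · rw [coeff_X_mul, coeff_derivative, h0, zero_mul]
    simp only [e1, e2, coeff_add, coeff_sub, coeff_C_mul, coeff_X_mul, coeff_derivative, h0, h1, e3,
      zero_mul, mul_zero, add_zero, zero_sub, neg_eq_zero, mul_eq_zero, hq, false_or] at h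
    exact h.resolve_right (by exact_mod_cast Nat.succ_ne_zero (j + 1))
  have hlead : P.coeff (i + m) = 1 := by
    have hm : P.Monic := ((monic_X_add_C (1 : k)).pow i).mul ((monic_X_sub_C q).pow m) |> fun h => by
      simpa [hP] using h
    have hdeg : P.natDegree = i + m := by
      have hx : (X + 1 : k[X]) = X + C 1 := by rw [C_1]
      rw [hP, hx, ((monic_X_add_C (1 : k)).pow i).natDegree_mul ((monic_X_sub_C q).pow m),
        natDegree_pow, natDegree_pow, natDegree_X_add_C, natDegree_X_sub_C, mul_one, mul_one]
    rw [← hdeg, hm.coeff_natDegree]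
  by_contra hcon
  push Not at hcon
  have hall : ∀ d, P.coeff (n + d) = 0 ∧ P.coeff (n + d + 1) = 0 := by
    intro d
    induction d with
    | zero => exact hcon
    | succ d ih => exact ⟨ih.2, hrec _ ih.1 ih.2⟩
  have := (hall (i + m - n)).1
  rw [Nat.add_sub_cancel' hn.le, hlead] at this
  exact one_ne_zero this


open Polynomial in
/-- Let `k` be a field of characteristic zero and `a, b, i` positive integers with `i < a + b`. On the
projective line with `A = 0`, `B = ∞`, `P = -1`, the system `V_{a,b} = H⁰(ω((1+a)A)) ⊕ H⁰(ω((1+b)B))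
⊆ H⁰(O(a+b))` is the space of polynomials of degree at most `a+b` with vanishing coefficient of
`X^a`, and `V = V_{a,b}(-iP)` (divided by `(X+1)^i`) is the space of `G` of degree at most `a+b-i`
such that the coefficient of `X^a` in `(X+1)^i G` vanishes; it is a linear system of dimension and
degree `a+b-i`. Then no point of the projective line other than `A` and `B` is a special
ramification point of `V` (a point of weight at least two); for such a system a point `q` of the
affine line is special exactly when two independent members are divisible by `(X-q)^(a+b-i-1)`, so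
the statement is that this fails for every `q ≠ 0`. (The published statement does not except `A` and
`B`, but `A` has weight `max(b-i, 0)` in `V`, which is `2` for `a = 1, b = 3, i = 1`: there `X^3`
and `X^2` both lie in `V`. It is stated over the complex numbers.) -/
theorem result
    (k : Type*) [Field k] [CharZero k] (a b i : ℕ) (ha : 0 < a) (hb : 0 < b) (hi : 0 < i) (hiab : i < a + b)
    (V : Submodule k (Polynomial k))
    (hV : V = Polynomial.degreeLE k ↑(a + b - i) ⊓
      LinearMap.ker ((Polynomial.lcoeff k a).comp (LinearMap.mulLeft k (((X : Polynomial k) + 1) ^ i))))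
    (q : k) (hq : q ≠ 0) :
    Module.finrank k ↥(V ⊓ (Ideal.span {(X - C q) ^ (a + b - i - 1)}).restrictScalars k) ≤ 1 := by
  set m := a + b - i - 1 with hm
  set P : k[X] := (X + 1 : k[X]) ^ i * (X - C q) ^ m with hP
  obtain ⟨a, rfl⟩ := Nat.exists_eq_add_of_le' ha
  set g : k[X] := (X - C q) ^ m with hg
  set h₀ : k[X] := g * (C (P.coeff (a + 1)) * X - C (P.coeff a)) with hh₀
  have hne := not_consecutive_zero hq i m (n := a) (by omega)
  refine (Submodule.finrank_mono (?_ : _ ≤ Submodule.span k {h₀})).trans
    ((finrank_span_le_card _).trans (by simp))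
  rintro h ⟨hh, hdvd⟩
  rw [hV] at hh
  obtain ⟨hdeg, hker⟩ := hh
  obtain ⟨l, rfl⟩ := Ideal.mem_span_singleton.mp hdvd
  have hl : l.natDegree ≤ 1 := by
    rcases eq_or_ne l 0 with rfl | hl0
    · simp
    have h1 : (g * l).natDegree ≤ a + 1 + b - i := natDegree_le_iff_degree_le.mpr (mem_degreeLE.mp hdeg)
    have h2 : g.natDegree = m := by rw [hg, natDegree_pow, natDegree_X_sub_C, mul_one]
    rw [((monic_X_sub_C q).pow m).natDegree_mul' hl0] at h1
    rw [h2] at h1
    omega
  obtain ⟨u, v, rfl⟩ := exists_eq_X_add_C_of_natDegree_le_one hl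
  have hc : u * P.coeff a + v * P.coeff (a + 1) = 0 := by
    have : (((X : k[X]) + 1) ^ i * (g * (C u * X + C v))).coeff (a + 1) = 0 := by simpa using hker
    rw [show ((X : k[X]) + 1) ^ i * (g * (C u * X + C v)) = C u * (X * P) + C v * P by rw [hP, hg]; ring,
      coeff_add, coeff_C_mul, coeff_C_mul, coeff_X_mul] at this
    exact this
  rw [Submodule.mem_span_singleton]
  by_cases h1 : P.coeff (a + 1) = 0
  · have h0 : P.coeff a ≠ 0 := hne.resolve_right (not_not.mpr h1)
    have hu : u = 0 := by simpa [h1, h0] using hc
    refine ⟨-v / P.coeff a, ?_⟩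
    rw [hh₀, smul_eq_C_mul, h1, hu]
    simp only [map_zero, zero_mul, zero_sub, zero_add]
    rw [mul_left_comm, mul_neg, ← map_mul, div_mul_cancel₀ _ h0, map_neg, neg_neg]
  · refine ⟨u / P.coeff (a + 1), ?_⟩
    have hv : v = -(u / P.coeff (a + 1) * P.coeff a) := by
      field_simp
      linear_combination hc
    rw [hh₀, smul_eq_C_mul, mul_left_comm, mul_sub, ← mul_assoc, ← map_mul, ← map_mul,
      div_mul_cancel₀ _ h1, hv, map_neg, sub_eq_add_neg]

end Groth.Agent.S16262
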