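import Mathlib
import Groth.Statements.S16263
-- import your own Groth.Agent.* helpers here

set_option autoImplicit false
open W4c3wronskmg

namespace Groth.Agent.S16263

open Polynomial in
/-- Let `k` be a field of characteristic zero and `a` a positive integer. On the projective line with `A
= 0`, `B = -1`, `C = ∞`, the `(a+1)`-dimensional system `V = H⁰(ω((1+a)C)) ⊕ H⁰(ω(A+B)) ⊆
H⁰(ω((1+a)C + A + B)) ≅ H⁰(O(a+1))` is, in the affine coordinate, the space of polynomials `c + X
(X+1) F` with `c` a constant and `deg F ≤ a - 1`. Then `V` has no special ramification point (no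
point of weight at least two): since the members have degree at most `a + 1`, this says that for
every point `p` of the affine line at most a one-dimensional subspace of `V` is divisible by
`(X-p)^a`, and at `C` that at most a one-dimensional subspace has degree at most one (degree less
than two). (The published statement carries two further positive integers `i, j` with `i + j = a -
1`, used only in its second assertion, and is over the complex numbers.) -/
theorem result
    (k : Type*) [Field k] [CharZero k] (a : ℕ) (ha : 0 < a)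
    (V : Submodule k (Polynomial k))
    (hV : V = Submodule.span k {(1 : Polynomial k)} ⊔
      ((Ideal.span {(X : Polynomial k) * (X + 1)}).restrictScalars k ⊓ Polynomial.degreeLE k ↑(a + 1))) :
    (∀ p : k, Module.finrank k ↥(V ⊓ (Ideal.span {(X - C p) ^ a}).restrictScalars k) ≤ 1) ∧
      Module.finrank k ↥(V ⊓ Polynomial.degreeLT k 2) ≤ 1 := by
  classical
  open Polynomial in
  have hmem : ∀ f ∈ V, f.eval 0 = f.eval (-1) ∧ f.natDegree ≤ a + 1 := by
    intro f hf
    rw [hV] at hf
    obtain ⟨u, hu, w, hw, rfl⟩ := Submodule.mem_sup.mp hf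
    obtain ⟨c, rfl⟩ := Submodule.mem_span_singleton.mp hu
    obtain ⟨hw1, hw2⟩ := hw
    obtain ⟨q, rfl⟩ := Ideal.mem_span_singleton.mp hw1
    refine ⟨by simp, (natDegree_add_le _ _).trans (max_le ?_ ?_)⟩
    · simp [natDegree_smul_le, Polynomial.smul_eq_C_mul]
    · exact natDegree_le_iff_degree_le.mpr (mem_degreeLE.mp hw2)
  constructor
  · intro p
    let ψ : k × k →ₗ[k] Polynomial k :=
      { toFun := fun uw => (X - C p) ^ a * (C uw.1 * X + C uw.2)
        map_add' := fun x y => by simp; ring
        map_smul' := fun c x => by simp [smul_eq_C_mul]; ring }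
    let ℓ : k × k →ₗ[k] k := (Polynomial.leval (0 : k)).comp ψ - (Polynomial.leval (-1 : k)).comp ψ
    have hℓ : LinearMap.range ℓ = ⊤ := by
      refine LinearMap.range_eq_top.mpr (LinearMap.surjective_of_ne_zero fun h => ?_)
      have h1 := LinearMap.congr_fun h (1, 0)
      have h2 := LinearMap.congr_fun h (0, 1)
      simp [ℓ, ψ, sub_eq_zero, zero_pow ha.ne'] at h1 h2
      rw [← h1.1] at h2
      simp [zero_pow ha.ne', sub_eq_zero] at h2
    have hle : V ⊓ (Ideal.span {(X - C p) ^ a}).restrictScalars k ≤ (LinearMap.ker ℓ).map ψ := by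
      rintro f ⟨hf1, hf2⟩
      obtain ⟨q, rfl⟩ := Ideal.mem_span_singleton.mp hf2
      obtain ⟨he, hd⟩ := hmem _ hf1
      have hq : q.natDegree ≤ 1 := by
        by_cases h0 : q = 0
        · simp [h0]
        rw [natDegree_mul (pow_ne_zero _ (X_sub_C_ne_zero p)) h0, natDegree_pow, natDegree_X_sub_C] at hd
        omega
      have hq' : q = C (q.coeff 1) * X + C (q.coeff 0) := eq_X_add_C_of_natDegree_le_one hq
      refine ⟨(q.coeff 1, q.coeff 0), ?_, ?_⟩
      · simp only [SetLike.mem_coe, LinearMap.mem_ker, ℓ, LinearMap.sub_apply, LinearMap.comp_apply, sub_eq_zero]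
        simp only [ψ, LinearMap.coe_mk, AddHom.coe_mk, Polynomial.leval_apply]
        rw [← hq']; exact he
      · change (X - C p) ^ a * _ = _
        rw [← hq']
    calc _ ≤ Module.finrank k ↥((LinearMap.ker ℓ).map ψ) := Submodule.finrank_mono hle
      _ ≤ Module.finrank k ↥(LinearMap.ker ℓ) := Submodule.finrank_map_le ψ _
      _ ≤ 1 := by
        have h := LinearMap.finrank_range_add_finrank_ker ℓ
        rw [hℓ] at h
        simp at h; omega
  · have hle : V ⊓ degreeLT k 2 ≤ Submodule.span k {(1 : Polynomial k)} := by
      rintro f ⟨hf1, hf2⟩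
      obtain ⟨he, -⟩ := hmem _ hf1
      have hd : f.natDegree ≤ 1 := by
        by_cases h0 : f = 0
        · simp [h0]
        have := (natDegree_lt_iff_degree_lt h0).mpr (mem_degreeLT.mp hf2)
        omega
      rw [eq_X_add_C_of_natDegree_le_one hd] at he ⊢
      simp at he
      refine Submodule.mem_span_singleton.mpr ⟨f.coeff 0, ?_⟩
      rw [he]
      simp [smul_eq_C_mul]
    refine (Submodule.finrank_mono hle).trans ?_
    rw [finrank_span_singleton one_ne_zero]

end Groth.Agent.S16263
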