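import Groth.Statements.S16264
import Mathlib.RingTheory.Polynomial.Basic
import Mathlib.Algebra.Polynomial.Inductions
import Mathlib.Algebra.Polynomial.Div
import Mathlib.Algebra.Polynomial.RingDivision
import Mathlib.Algebra.Polynomial.Eval.SMul
import Mathlib.LinearAlgebra.FiniteDimensional.Lemmas
import Mathlib.LinearAlgebra.Dimension.Constructions
import Mathlib.Tactic.LinearCombination

set_option autoImplicit false
open W4c3wronskmg

namespace Groth.Agent.S16264

open Polynomial in
/-- Let `k` be a field of characteristic zero and `a, i, j` positive integers with `i + j = a - 1`. With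
`A = 0`, `B = -1`, `C = ∞` on the projective line and `V` the `(a+1)`-dimensional system of
polynomials `c + X (X+1) F`, `deg F ≤ a - 1` (that is, `H⁰(ω((1+a)C)) ⊕ H⁰(ω(A+B)) ⊆ H⁰(O(a+1))`),
the pairs of points `(P, Q) = (p, q)` of the affine line with `dim V(-iP-jQ) ≥ 3`, i.e. with at
least a three-dimensional subspace of `V` divisible by `(X-p)^i (X-q)^j`, are exactly `(A, B)` and
`(B, A)`. (Here `P, Q` range over the points other than `C`; when one of them is `C` the dimension
is at most two for degree reasons. The published statement is over the complex numbers.) -/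
theorem result
    (k : Type*) [Field k] [CharZero k] (a i j : ℕ) (hi : 0 < i) (hj : 0 < j) (hij : i + j + 1 = a)
    (V : Submodule k (Polynomial k))
    (hV : V = Submodule.span k {(1 : Polynomial k)} ⊔
      ((Ideal.span {(X : Polynomial k) * (X + 1)}).restrictScalars k ⊓ Polynomial.degreeLE k ↑(a + 1)))
    (p q : k) :
    3 ≤ Module.finrank k ↥(V ⊓ (Ideal.span {(X - C p) ^ i * (X - C q) ^ j}).restrictScalars k) ↔
      (p = 0 ∧ q = -1) ∨ (p = -1 ∧ q = 0) := by
  set D : k[X] := (X - C p) ^ i * (X - C q) ^ j with hD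
  have hDm : D.Monic := ((monic_X_sub_C p).pow i).mul ((monic_X_sub_C q).pow j)
  have hDd : D.natDegree = i + j := by
    rw [hD, ((monic_X_sub_C p).pow i).natDegree_mul ((monic_X_sub_C q).pow j), natDegree_pow, natDegree_pow,
      natDegree_X_sub_C, natDegree_X_sub_C, mul_one, mul_one]
  have hmem : ∀ g : k[X], g ∈ V ↔ g.natDegree ≤ a + 1 ∧ g.eval 0 = g.eval (-1) := by
    intro g
    rw [hV, Submodule.mem_sup]
    constructor
    · rintro ⟨c, hc, h, ⟨hh, hhd⟩, rfl⟩
      obtain ⟨r, rfl⟩ := Submodule.mem_span_singleton.mp hc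
      obtain ⟨F, rfl⟩ := Ideal.mem_span_singleton.mp hh
      refine ⟨natDegree_add_le_of_degree_le ?_ (natDegree_le_iff_degree_le.mpr (mem_degreeLE.mp hhd)), by simp [Polynomial.eval_smul]⟩
      exact (natDegree_smul_le _ _).trans (by simp)
    · rintro ⟨hd, he⟩
      refine ⟨g.eval 0 • 1, Submodule.mem_span_singleton.mpr ⟨_, rfl⟩, g - g.eval 0 • 1, ⟨?_, ?_⟩, by abel⟩
      · show g - g.eval 0 • 1 ∈ Ideal.span {X * (X + 1)}
        rw [Ideal.mem_span_singleton]
        have h1 : X ∣ g - g.eval 0 • 1 := by
          rw [Polynomial.X_dvd_iff, coeff_zero_eq_eval_zero]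
          simp
        obtain ⟨F, hF⟩ := h1
        have h2 : F.eval (-1) = 0 := by
          have := congrArg (Polynomial.eval (-1 : k)) hF
          simp only [eval_sub, eval_smul, eval_one, smul_eq_mul, mul_one, eval_mul, eval_X] at this
          linear_combination this + he
        obtain ⟨G, hG⟩ := Polynomial.dvd_iff_isRoot.mpr h2
        exact ⟨G, by rw [hF, hG, map_neg, map_one, sub_neg_eq_add, mul_assoc]⟩
      · exact mem_degreeLE.mpr (natDegree_le_iff_degree_le.mp
          ((natDegree_sub_le _ _).trans (max_le hd ((natDegree_smul_le _ _).trans (by simp)))))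
  set Im : Submodule k k[X] := (degreeLT k 3).map (LinearMap.mulLeft k D) with hIm
  have hinj : Function.Injective (LinearMap.mulLeft k D) := fun x y h => mul_left_cancel₀ hDm.ne_zero h
  haveI : Module.Finite k (degreeLT k 3) := Module.Finite.equiv (degreeLTEquiv k 3).symm
  haveI : Module.Finite k Im := Module.Finite.map _ _
  have hImd : Module.finrank k Im = 3 := by
    rw [← LinearEquiv.finrank_eq (Submodule.equivMapOfInjective _ hinj _), (degreeLTEquiv k 3).finrank_eq]
    simp
  set W := V ⊓ (Ideal.span {D}).restrictScalars k with hW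
  have hWle : W ≤ Im := by
    rintro g ⟨hgV, hgD⟩
    obtain ⟨l, rfl⟩ := Ideal.mem_span_singleton.mp hgD
    refine ⟨l, mem_degreeLT.mpr ?_, rfl⟩
    rcases eq_or_ne l 0 with rfl | hl
    · rw [degree_zero]; exact WithBot.bot_lt_coe _
    have := ((hmem _).mp hgV).1
    rw [hDm.natDegree_mul' hl, hDd] at this
    rw [degree_eq_natDegree hl]
    exact WithBot.coe_lt_coe.mpr (by simp only [Nat.cast_id]; omega)
  have hroot : ∀ r : k, D.eval r = 0 ↔ r = p ∨ r = q := by
    intro r
    simp [hD, sub_eq_zero, hi.ne', hj.ne']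
  have hne : (0 : k) ≠ -1 := by simp
  constructor
  · intro h3
    have heq : W = Im := Submodule.eq_of_le_of_finrank_le hWle (by rw [hImd]; exact h3)
    have hin : ∀ l : k[X], l.degree < 3 → (D * l).eval 0 = (D * l).eval (-1) := fun l hl =>
      ((hmem _).mp (heq.ge (show D * l ∈ Im from ⟨l, mem_degreeLT.mpr hl, rfl⟩)).1).2
    have hX := hin X (degree_X_le.trans_lt (by norm_num))
    have h1 := hin 1 (degree_one_le.trans_lt (by norm_num))
    simp at hX h1
    have hm1 : D.eval (-1) = 0 := by simpa using hX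
    rw [hm1] at h1
    rcases (hroot 0).mp h1 with h0 | h0 <;> rcases (hroot (-1)).mp hm1 with h | h
    · exact absurd (h0.trans h.symm) hne
    · exact Or.inl ⟨h0.symm, h.symm⟩
    · exact Or.inr ⟨h.symm, h0.symm⟩
    · exact absurd (h0.trans h.symm) hne
  · intro hpq
    have h0 : D.eval 0 = 0 ∧ D.eval (-1) = 0 := by
      rcases hpq with ⟨rfl, rfl⟩ | ⟨rfl, rfl⟩ <;> simp [hroot]
    have hle : Im ≤ W := by
      rintro _ ⟨l, hl, rfl⟩
      refine ⟨(hmem _).mpr ⟨?_, ?_⟩, Ideal.mem_span_singleton.mpr ⟨l, rfl⟩⟩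
      · refine natDegree_mul_le.trans ?_
        have : l.natDegree ≤ 2 := by
          rw [natDegree_le_iff_coeff_eq_zero]
          intro n hn
          exact coeff_eq_zero_of_degree_lt ((mem_degreeLT.mp hl).trans_le (WithBot.coe_le_coe.mpr hn))
        omega
      · simp [h0]
    rw [← hImd, le_antisymm hWle hle]

end Groth.Agent.S16264
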