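import Groth.Statements.S16265
import Groth.Agent.FunFld.Pencils
-- import your own Groth.Agent.* helpers here

set_option autoImplicit false
open FunFld

namespace Groth.Agent.S16265

/-- Let `K/k` be a function field of one variable over an algebraically closed field `k` of
characteristic zero (the function field of a smooth projective curve), `D` a divisor and `V ⊆ L(D)`
a linear system of dimension `r + 1`; write `V(-mP-nQ) = V ∩ L(D - mP - nQ)` for the members
vanishing to the indicated orders. Assume `V` has no special ramification point, i.e. no place of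
weight at least two: for every place `R`, `dim V(-rR) ≤ 1` and `V(-(r+2)R) = 0`. Let `P ≠ Q` be
places and `a, b ≥ 1` with `a + b = r + 1` (so that `V(-aP)` and `V(-bQ)` have dimensions `b` and
`a`). Then the following are equivalent: (1) the system `V(-aP)` has weight at least two at `Q`,
that is `dim V(-aP-(b-1)Q) ≥ 2` or `dim V(-aP-(b+1)Q) ≥ 1`, and the system `V(-bQ)` has weight at
least two at `P`, that is `dim V(-(a-1)P-bQ) ≥ 2` or `dim V(-(a+1)P-bQ) ≥ 1`; (2) one of (a) `dim
V(-(a+1)P-(b+1)Q) ≥ 1`, (b) `dim V(-(a-1)P-(b-1)Q) ≥ 3`, (c) `dim V(-aP-(b+1)Q) ≥ 1` and `dim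
V(-(a-1)P-bQ) ≥ 2`, (d) `dim V(-(a+1)P-bQ) ≥ 1` and `dim V(-aP-(b-1)Q) ≥ 2`. (The published
statement is for a smooth curve over the complex numbers.) -/
theorem result
    (k K : Type*) [Field k] [IsAlgClosed k] [CharZero k] [Field K] [Algebra k K]
    (hK : FunFld.IsFunctionField k K) (D : FunFld.Divisor k K)
    (V : Submodule k K) (hVD : V ≤ FunFld.L D) (r : ℕ) (hr : Module.finrank k ↥V = r + 1)
    (hns : ∀ R : FunFld.Place k K,
      Module.finrank k ↥(V ⊓ FunFld.L (D - Finsupp.single R (r : ℤ))) ≤ 1 ∧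
        V ⊓ FunFld.L (D - Finsupp.single R ((r : ℤ) + 2)) = ⊥)
    (P Q : FunFld.Place k K) (hPQ : P ≠ Q) (a b : ℕ) (ha : 1 ≤ a) (hb : 1 ≤ b) (hab : a + b = r + 1) :
    ((2 ≤ Module.finrank k ↥(V ⊓ FunFld.L (D - Finsupp.single P (a : ℤ) - Finsupp.single Q ((b : ℤ) - 1 : ℤ))) ∨
        1 ≤ Module.finrank k ↥(V ⊓ FunFld.L (D - Finsupp.single P (a : ℤ) - Finsupp.single Q ((b : ℤ) + 1 : ℤ)))) ∧
      (2 ≤ Module.finrank k ↥(V ⊓ FunFld.L (D - Finsupp.single P ((a : ℤ) - 1 : ℤ) - Finsupp.single Q (b : ℤ))) ∨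
        1 ≤ Module.finrank k ↥(V ⊓ FunFld.L (D - Finsupp.single P ((a : ℤ) + 1 : ℤ) - Finsupp.single Q (b : ℤ))))) ↔
    (1 ≤ Module.finrank k ↥(V ⊓ FunFld.L (D - Finsupp.single P ((a : ℤ) + 1 : ℤ) - Finsupp.single Q ((b : ℤ) + 1 : ℤ))) ∨
      3 ≤ Module.finrank k ↥(V ⊓ FunFld.L (D - Finsupp.single P ((a : ℤ) - 1 : ℤ) - Finsupp.single Q ((b : ℤ) - 1 : ℤ))) ∨
      (1 ≤ Module.finrank k ↥(V ⊓ FunFld.L (D - Finsupp.single P (a : ℤ) - Finsupp.single Q ((b : ℤ) + 1 : ℤ))) ∧
        2 ≤ Module.finrank k ↥(V ⊓ FunFld.L (D - Finsupp.single P ((a : ℤ) - 1 : ℤ) - Finsupp.single Q (b : ℤ)))) ∨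
      (1 ≤ Module.finrank k ↥(V ⊓ FunFld.L (D - Finsupp.single P ((a : ℤ) + 1 : ℤ) - Finsupp.single Q (b : ℤ))) ∧
        2 ≤ Module.finrank k ↥(V ⊓ FunFld.L (D - Finsupp.single P (a : ℤ) - Finsupp.single Q ((b : ℤ) - 1 : ℤ))))) := by
  have step := fun (i j : ℤ) (i' j' : ℤ) (R : FunFld.Place k K)
      (h : (Finsupp.single P i' + Finsupp.single Q j' : FunFld.Divisor k K) =
        Finsupp.single P i + Finsupp.single Q j + Finsupp.single R 1) => show
      Module.finrank k ↥(V ⊓ FunFld.L (D - Finsupp.single P i - Finsupp.single Q j)) ≤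
        Module.finrank k ↥(V ⊓ FunFld.L (D - Finsupp.single P i' - Finsupp.single Q j')) + 1 by
    have := FunFldLib.finrank_inf_L_le hK V (D - Finsupp.single P i - Finsupp.single Q j)
      (P := R) (FunFldLib.deg_eq_one hK R)
    have e : D - Finsupp.single P i' - Finsupp.single Q j' =
        D - Finsupp.single P i - Finsupp.single Q j - Finsupp.single R 1 := by
      rw [sub_sub, h]; abel
    rwa [e]
  have sP := fun (i j i' : ℤ) (h : i' = i + 1) => step i j i' j P (by subst h; rw [Finsupp.single_add]; abel)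
  have sQ := fun (i j j' : ℤ) (h : j' = j + 1) => step i j i j' Q (by subst h; rw [Finsupp.single_add]; abel)
  have mono : ∀ i j i' j' : ℤ, i ≤ i' → j ≤ j' →
      V ⊓ FunFld.L (D - Finsupp.single P i' - Finsupp.single Q j') ≤
        V ⊓ FunFld.L (D - Finsupp.single P i - Finsupp.single Q j) := fun i j i' j' h h' =>
    inf_le_inf_left V (FunFldLib.L_mono (sub_le_sub (sub_le_sub_left (Finsupp.single_mono h) _)
      (Finsupp.single_mono h')))
  have hfin : ∀ i j : ℤ, FiniteDimensional k ↥(V ⊓ FunFld.L (D - Finsupp.single P i - Finsupp.single Q j)) :=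
    fun i j => have := FunFldLib.finiteDimensional_L hK (D - Finsupp.single P i - Finsupp.single Q j)
      Submodule.finiteDimensional_of_le inf_le_right
  have monr := fun i j i' j' h h' => (have := hfin i j; Submodule.finrank_mono (mono i j i' j' h h'))
  constructor
  · rintro ⟨h1 | h1, h2 | h2⟩
    · rcases lt_or_ge (Module.finrank k ↥(V ⊓ FunFld.L (D - Finsupp.single P ((a : ℤ) - 1) -
          Finsupp.single Q ((b : ℤ) - 1)))) 3 with h | h
      · have := hfin ((a : ℤ) - 1) ((b : ℤ) - 1)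
        have e1 := Submodule.eq_of_le_of_finrank_le (mono ((a : ℤ) - 1) ((b : ℤ) - 1) a ((b : ℤ) - 1) (by omega) le_rfl) (by omega)
        have e2 := Submodule.eq_of_le_of_finrank_le (mono ((a : ℤ) - 1) ((b : ℤ) - 1) ((a : ℤ) - 1) b le_rfl (by omega)) (by omega)
        have hle : V ⊓ FunFld.L (D - Finsupp.single P (a : ℤ) - Finsupp.single Q ((b : ℤ) - 1)) ≤
            V ⊓ FunFld.L (D - Finsupp.single P (a : ℤ) - Finsupp.single Q (b : ℤ)) := by
          intro v hv
          have hv' := hv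
          rw [e1, ← e2] at hv'
          refine ⟨hv.1, fun R => ?_⟩
          rcases eq_or_ne R Q with rfl | hR
          · simpa [Finsupp.single_eq_of_ne hPQ.symm] using hv'.2 R
          · simpa [Finsupp.single_eq_of_ne hR] using hv.2 R
        have := hfin (a : ℤ) (b : ℤ)
        have h3 := Submodule.finrank_mono hle
        have h4 := sP a b ((a : ℤ) + 1) rfl
        exact .inr (.inr (.inr ⟨by omega, h1⟩))
      · exact .inr (.inl h)
    · exact .inr (.inr (.inr ⟨h2, h1⟩))
    · exact .inr (.inr (.inl ⟨h1, h2⟩))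
    · rcases lt_or_ge (Module.finrank k ↥(V ⊓ FunFld.L (D - Finsupp.single P (a : ℤ) -
          Finsupp.single Q (b : ℤ)))) 2 with h | h
      · have := hfin a b
        have e1 := Submodule.eq_of_le_of_finrank_le (mono a b ((a : ℤ) + 1) b (by omega) le_rfl) (by omega)
        have e2 := Submodule.eq_of_le_of_finrank_le (mono a b a ((b : ℤ) + 1) le_rfl (by omega)) (by omega)
        refine .inl ((h1.trans ?_))
        have := hfin ((a : ℤ) + 1) ((b : ℤ) + 1)
        refine Submodule.finrank_mono fun v hv => ⟨hv.1, fun R => ?_⟩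
        have hv' := hv
        rw [e2, ← e1] at hv'
        rcases eq_or_ne R Q with rfl | hR
        · simpa [Finsupp.single_eq_of_ne hPQ.symm] using hv.2 R
        · simpa [Finsupp.single_eq_of_ne hR] using hv'.2 R
      · have := monr ((a : ℤ) - 1) (b : ℤ) (a : ℤ) (b : ℤ) (by omega) le_rfl
        exact .inr (.inr (.inl ⟨h1, by omega⟩))
  · rintro (h | h | ⟨h1, h2⟩ | ⟨h1, h2⟩)
    · have h1 := monr (a : ℤ) ((b : ℤ) + 1) ((a : ℤ) + 1) ((b : ℤ) + 1) (by omega) le_rfl
      have h2 := monr ((a : ℤ) + 1) (b : ℤ) ((a : ℤ) + 1) ((b : ℤ) + 1) le_rfl (by omega)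
      exact ⟨.inr (by omega), .inr (by omega)⟩
    · have h1 := sP ((a : ℤ) - 1) ((b : ℤ) - 1) a (by omega)
      have h2 := sQ ((a : ℤ) - 1) ((b : ℤ) - 1) b (by omega)
      exact ⟨.inl (by omega), .inl (by omega)⟩
    · exact ⟨.inr h1, .inl h2⟩
    · exact ⟨.inl h2, .inr h1⟩

end Groth.Agent.S16265
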