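import Groth.Statements.S16266
import Groth.Agent.FunFld.Pencils
-- import your own Groth.Agent.* helpers here

set_option autoImplicit false
open FunFld

namespace Groth.Agent.S16266

/-- Let `K/k` be a function field of one variable over an algebraically closed field `k` of
characteristic zero, `D` a divisor, `V ⊆ L(D)` a linear system of dimension `r + 1` with `r ≥ 1`,
and `P` a place with `V' = V(-P) = V ∩ L(D - P) ≠ V`, an `r`-dimensional system in `L(D - P)`.
Assume that neither `V` nor `V'` has a special ramification point (a place of weight at least two):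
for every place `R`, `dim V ∩ L(D - rR) ≤ 1`, `V ∩ L(D - (r+2)R) = 0`, `dim V' ∩ L(D - P - (r-1)R) ≤
1` and `V' ∩ L(D - P - (r+1)R) = 0`. Then no place `Q ≠ P` is a ramification point of both `V` and
`V'`: for no such `Q` are both `V ∩ L(D - (r+1)Q)` and `V' ∩ L(D - P - rQ)` nonzero. (The published
statement is for a smooth curve over the complex numbers.) -/
theorem result
    (k K : Type*) [Field k] [IsAlgClosed k] [CharZero k] [Field K] [Algebra k K]
    (hK : FunFld.IsFunctionField k K) (D : FunFld.Divisor k K)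
    (V : Submodule k K) (hVD : V ≤ FunFld.L D) (r : ℕ) (hr : Module.finrank k ↥V = r + 1) (hr1 : 1 ≤ r)
    (P : FunFld.Place k K) (hP : V ⊓ FunFld.L (D - Finsupp.single P 1) ≠ V)
    (hns : ∀ R : FunFld.Place k K,
      Module.finrank k ↥(V ⊓ FunFld.L (D - Finsupp.single R (r : ℤ))) ≤ 1 ∧
        V ⊓ FunFld.L (D - Finsupp.single R ((r : ℤ) + 2)) = ⊥)
    (hns' : ∀ R : FunFld.Place k K,
      Module.finrank k ↥(V ⊓ FunFld.L (D - Finsupp.single P 1 - Finsupp.single R ((r : ℤ) - 1))) ≤ 1 ∧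
        V ⊓ FunFld.L (D - Finsupp.single P 1 - Finsupp.single R ((r : ℤ) + 1)) = ⊥)
    (Q : FunFld.Place k K) (hQP : Q ≠ P) :
    ¬ (V ⊓ FunFld.L (D - Finsupp.single Q ((r : ℤ) + 1)) ≠ ⊥ ∧
       V ⊓ FunFld.L (D - Finsupp.single P 1 - Finsupp.single Q (r : ℤ)) ≠ ⊥) := by
  classical
  rintro ⟨hf, hg⟩
  obtain ⟨f, hf, hf0⟩ := (Submodule.ne_bot_iff _).1 hf
  obtain ⟨g, hg, hg0⟩ := (Submodule.ne_bot_iff _).1 hg
  have := FunFldLib.finiteDimensional_L hK (D - Finsupp.single Q (r : ℤ))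
  have : FiniteDimensional k ↥(V ⊓ FunFld.L (D - Finsupp.single Q (r : ℤ))) :=
    Submodule.finiteDimensional_of_le inf_le_right
  have hfr : f ∈ V ⊓ FunFld.L (D - Finsupp.single Q (r : ℤ)) :=
    ⟨hf.1, FunFldLib.L_sub_single_mono D Q (by omega) hf.2⟩
  have hgr : g ∈ V ⊓ FunFld.L (D - Finsupp.single Q (r : ℤ)) :=
    ⟨hg.1, FunFldLib.L_mono (sub_le_sub_right (sub_le_self _ (Finsupp.single_nonneg.2 zero_le_one)) _) hg.2⟩
  obtain ⟨v, hv⟩ := finrank_le_one_iff.1 (hns Q).1
  obtain ⟨c, hc⟩ := hv ⟨f, hfr⟩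
  obtain ⟨e, he⟩ := hv ⟨g, hgr⟩
  have hc' : c • (v : K) = f := congrArg Subtype.val hc
  have he' : e • (v : K) = g := congrArg Subtype.val he
  have he0 : e ≠ 0 := fun h => hg0 (by rw [← he', h, zero_smul])
  have hfg : f ∈ FunFld.L (D - Finsupp.single P 1 - Finsupp.single Q (r : ℤ)) := by
    have : f = (c * e⁻¹) • g := by rw [← he', smul_smul, inv_mul_cancel_right₀ he0, hc']
    rw [this]; exact Submodule.smul_mem _ _ hg.2
  refine hf0 ((Submodule.eq_bot_iff _).1 (hns' Q).2 f ⟨hf.1, fun R => ?_⟩)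
  rcases eq_or_ne R Q with rfl | hR
  · simpa [Finsupp.single_eq_of_ne hQP] using hf.2 R
  · simpa [Finsupp.single_eq_of_ne hR] using hfg R

end Groth.Agent.S16266
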