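import Groth.Statements.S16269
import Groth.Agent.FpqcTorsor.GaloisSheaf
import Groth.Agent.EtSite.Points
import Mathlib.AlgebraicGeometry.Sites.Etale
import Mathlib.AlgebraicGeometry.Limits
-- import your own Groth.Agent.* helpers here

set_option autoImplicit false
set_option linter.style.haveILetI false
set_option backward.isDefEq.respectTransparency false
universe u w
open CategoryTheory CategoryTheory.Limits AlgebraicGeometry Opposite
open EtCore

namespace Groth.Agent.S16269

/-- Let X be a scheme, Y an etale X-scheme with Y -> X surjective, and G a finite group acting on Y by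
X-automorphisms such that the morphisms (id, g) : Y -> Y x_X Y exhibit Y x_X Y as the coproduct of
copies of Y indexed by G (a Galois covering with group G). For an abelian sheaf F on the small etale
site of X, the restriction map F(X) -> F(Y) is injective and its image is the set of sections of F
over Y fixed by every element of G. -/
theorem result (X : Scheme.{u})
    (Y : X.Etale) (hY : Function.Surjective Y.hom.base)
    {G : Type u} [Group G] [Finite G] (σ : G →* Aut Y)
    (hgal : Nonempty (IsColimit (Cofan.mk (Y ⨯ Y) (fun g : G => prod.lift (𝟙 Y) (σ g).hom))))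
    (F : EtCoh.Ab X) :
    Function.Injective (F.obj.map ((EtCore.topIsTerminal X).from Y).op) ∧
      Set.range (F.obj.map ((EtCore.topIsTerminal X).from Y).op) =
        {s : EtCoh.sect F Y | ∀ g : G, F.obj.map (σ g).hom.op s = s} := by
  let Q : X.Etaleᵒᵖ ⥤ Type (u + 1) := F.obj ⋙ CategoryTheory.forget _
  have hQ : Presieve.IsSheaf X.smallEtaleTopology Q :=
    (isSheaf_iff_isSheaf_of_type _ _).1 ((Presheaf.isSheaf_iff_isSheaf_forget X.smallEtaleTopology F.obj (CategoryTheory.forget AddCommGrpCat.{u + 1})).1 F.property)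
  let gr : G → (Y ⟶ Y ⨯ Y) := fun g => prod.lift (𝟙 Y) (σ g).hom
  have hcov : Sieve.ofArrows (fun _ : G => Y) gr ∈ X.smallEtaleTopology (Y ⨯ Y) := by
    rw [Scheme.ofArrows_mem_smallEtaleTopology_iff]
    haveI : Etale (Sigma.desc fun _ : G => Y.hom) := IsZariskiLocalAtSource.sigmaDesc fun _ => Y.prop
    let S' : X.Etale := MorphismProperty.Over.mk ⊤ (Sigma.desc fun _ : G => Y.hom) this
    let ι : ∀ g : G, Y ⟶ S' := fun g => MorphismProperty.Over.homMk (Sigma.ι (fun _ : G => Y.left) g) (Limits.Sigma.ι_desc _ g)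
    let d : (Y ⨯ Y) ⟶ S' := hgal.some.desc (Cofan.mk S' ι)
    let c : S'.left ⟶ (Y ⨯ Y).left := Sigma.desc fun g => (gr g).left
    have hcd : d.left ≫ c = 𝟙 _ := by
      let c' : S' ⟶ (Y ⨯ Y) := MorphismProperty.Over.homMk c (Limits.Sigma.hom_ext _ _ fun g => by
        show Sigma.ι (fun _ : G => Y.left) g ≫ c ≫ (Y ⨯ Y).hom = Sigma.ι (fun _ : G => Y.left) g ≫ Sigma.desc (fun _ : G => Y.hom)
        rw [Limits.Sigma.ι_desc_assoc, Limits.Sigma.ι_desc]
        exact MorphismProperty.Over.w (gr g))
      have : d ≫ c' = 𝟙 _ := by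
        refine hgal.some.hom_ext fun ⟨g⟩ => ?_
        rw [IsColimit.fac_assoc]
        show ι g ≫ c' = gr g ≫ 𝟙 (Y ⨯ Y)
        rw [Category.comp_id]
        apply MorphismProperty.Over.Hom.ext
        exact Limits.Sigma.ι_desc _ g
      exact congrArg (fun k => k.left) this
    refine Set.eq_univ_of_forall fun z => Set.mem_iUnion.2 ?_
    obtain ⟨g, w, hw⟩ := (sigmaOpenCover (fun _ : G => Y.left)).exists_eq (d.left z)
    refine ⟨g, w, ?_⟩
    have h1 : c (Sigma.ι (fun _ : G => Y.left) g w) = (gr g).left w := by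
      exact (Scheme.Hom.comp_apply _ _ w).symm.trans
        (congrArg (fun k => k.base w) (Limits.Sigma.ι_desc (fun g : G => (gr g).left) g))
    rw [← h1]
    have h2 : Sigma.ι (fun _ : G => Y.left) g w = d.left z := hw
    rw [h2, ← Scheme.Hom.comp_apply, hcd]
    rfl
  have hinj : Function.Injective (fun s : Q.obj (op (Y ⨯ Y)) => fun g : G => Q.map (gr g).op s) := by
    intro s s' h
    refine (hQ.isSeparated _ hcov).ext fun V f hf => ?_
    obtain ⟨W, a, b, ⟨g⟩, rfl⟩ := hf
    rw [op_comp, Functor.map_comp_apply, Functor.map_comp_apply]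
    exact congrArg (Q.map a.op) (congrFun h g)
  have hsing : Presieve.IsSheafFor Q (Presieve.singleton ((EtCore.topIsTerminal X).from Y)) := by
    refine hQ.isSheafFor _ (EtSite.mem_smallEtaleTopology_of_points _ _ fun x => ?_)
    obtain ⟨v, hv⟩ := hY x
    refine ⟨Y, (EtCore.topIsTerminal X).from Y, v, Sieve.le_generate _ _ _ (Presieve.singleton_self _), ?_⟩
    have : ((EtCore.topIsTerminal X).from Y).left = Y.hom :=
      (Category.comp_id _).symm.trans (MorphismProperty.Over.w ((EtCore.topIsTerminal X).from Y))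
    rw [this]
    exact hv
  exact (FpqcTorsor.isSheafFor_singleton_iff_invariants (EtCore.topIsTerminal X) Q (fun g => (σ g).hom) hinj).1 hsing

end Groth.Agent.S16269
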