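import Mathlib
import Groth.Statements.S16311
-- import your own Groth.Agent.* helpers here

set_option autoImplicit false
universe u
open W4c3irrattreebun

namespace Groth.Agent.S16311

/-- For a field extension K/k with field of constants k' (the relative algebraic closure of k in K), the
separable covering gonality of K over k equals that of K over k'. (The published statement takes K
to be an algebraic function field over k; this row allows any field extension K/k.) -/
theorem result (k K : Type u) [Field k] [Field K] [Algebra k K] :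
    W4c3irrattreebun.scvg k K = W4c3irrattreebun.scvg (algebraicClosure k K) K := by
  classical
  have key1 : ∀ e, (∃ D : CovDiag.{u} k K e, Algebra.IsSeparable K D.KC) →
      ∃ e' ≤ e, ∃ D' : CovDiag.{u} (algebraicClosure k K) K e', Algebra.IsSeparable K D'.KC := by
    rintro e ⟨D, hD⟩
    let f : algebraicClosure k K →+* D.KC := algebraMap (algebraicClosure k K) D.KC
    let L : IntermediateField D.KB D.KC := IntermediateField.adjoin D.KB (Set.range f)
    have hf : ∀ x ∈ Set.range f, IsIntegral D.KB x := by
      rintro _ ⟨a, rfl⟩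
      have h1 : IsIntegral k (algebraMap K D.KC (a : K)) :=
        (IsIntegral.map (IsScalarTower.toAlgHom k K D.KC) ((mem_algebraicClosure_iff'.1 a.2)))
      exact h1.tower_top
    haveI : Algebra.IsAlgebraic D.KB L := IntermediateField.isAlgebraic_adjoin hf
    have hf' : ∀ a, f a ∈ L := fun a => IntermediateField.subset_adjoin D.KB _ ⟨a, rfl⟩
    letI a1 : Algebra (algebraicClosure k K) L := (f.codRestrict L hf').toAlgebra
    haveI : IsScalarTower (algebraicClosure k K) L D.KC := IsScalarTower.of_algebraMap_eq fun _ => rfl
    have htr : Transcendental L D.t := fun h => D.transc (h.restrictScalars D.KB)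
    have hle : IntermediateField.adjoin D.KB ({D.t} : Set D.KC) ≤
        (IntermediateField.adjoin L ({D.t} : Set D.KC)).restrictScalars D.KB :=
      IntermediateField.adjoin_le_iff.2 fun x hx => IntermediateField.subset_adjoin L _ hx
    let E := IntermediateField.extendScalars hle
    haveI : Module.Finite E D.KC := Module.Finite.right (IntermediateField.adjoin D.KB ({D.t} : Set D.KC)) E D.KC
    haveI hfin : Module.Finite (IntermediateField.adjoin L ({D.t} : Set D.KC)) D.KC :=
      inferInstanceAs (Module.Finite E D.KC)
    refine ⟨Module.finrank (IntermediateField.adjoin L ({D.t} : Set D.KC)) D.KC, ?_,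
      { KC := D.KC, KB := L, t := D.t, transc := htr, finrank_eq := rfl }, hD⟩
    refine le_of_le_of_eq ?_ D.finrank_eq
    show Module.finrank E D.KC ≤ _
    rw [← Module.finrank_mul_finrank (IntermediateField.adjoin D.KB ({D.t} : Set D.KC)) E D.KC]
    refine Nat.le_mul_of_pos_left _ ?_
    haveI : Module.Finite (IntermediateField.adjoin D.KB ({D.t} : Set D.KC)) E := Module.Finite.left _ _ D.KC
    exact Module.finrank_pos
  have key2 : ∀ e, (∃ D : CovDiag.{u} (algebraicClosure k K) K e, Algebra.IsSeparable K D.KC) →
      ∃ D' : CovDiag.{u} k K e, Algebra.IsSeparable K D'.KC := by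
    rintro e ⟨D, hD⟩
    let g := @algebraMap (algebraicClosure k K) D.KC _ _ D.algkC
    letI a1 : Algebra k D.KC := (g.comp (algebraMap k (algebraicClosure k K))).toAlgebra
    letI a2 : Algebra k D.KB := ((algebraMap (algebraicClosure k K) D.KB).comp (algebraMap k (algebraicClosure k K))).toAlgebra
    haveI : IsScalarTower k K D.KC := IsScalarTower.of_algebraMap_eq fun c =>
      (@IsScalarTower.algebraMap_apply (algebraicClosure k K) K D.KC _ _ _ _ D.algKC D.algkC D.towerK (algebraMap k (algebraicClosure k K) c) :)
    haveI : IsScalarTower k D.KB D.KC := IsScalarTower.of_algebraMap_eq fun c =>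
      (@IsScalarTower.algebraMap_apply (algebraicClosure k K) D.KB D.KC _ _ _ D.algkB D.algBC D.algkC D.towerB (algebraMap k (algebraicClosure k K) c) :)
    exact ⟨{ KC := D.KC, KB := D.KB, t := D.t, transc := D.transc, finrank_eq := D.finrank_eq }, hD⟩
  by_cases hne : {e : ℕ | ∃ D : CovDiag.{u} k K e, Algebra.IsSeparable K D.KC}.Nonempty
  · obtain ⟨e', he', hD'⟩ := key1 _ (Nat.sInf_mem hne)
    refine le_antisymm (Nat.sInf_le (key2 _ (Nat.sInf_mem (s := {e : ℕ | ∃ D : CovDiag.{u} (algebraicClosure k K) K e, Algebra.IsSeparable K D.KC}) ⟨e', hD'⟩))) ?_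
    exact le_trans (Nat.sInf_le hD') he'
  · have h1 : {e : ℕ | ∃ D : CovDiag.{u} (algebraicClosure k K) K e, Algebra.IsSeparable K D.KC} = ∅ :=
      Set.eq_empty_iff_forall_notMem.2 fun e he => hne ⟨e, key2 e he⟩
    show sInf _ = sInf _
    rw [h1, Set.not_nonempty_iff_eq_empty.1 hne]

end Groth.Agent.S16311
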