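import Groth.Statements.S16312
import Mathlib
-- import your own Groth.Agent.* helpers here

set_option autoImplicit false
universe u
open W4c3irrattreebun

namespace Groth.Agent.S16312

/-- Let N be a closed cone in real n-space, f a function continuous on N, positive at the nonzero points
of N and homogeneous of degree one under scaling by nonnegative reals, and Λ a discrete additive
subgroup. Then for every real c the set of points H of Λ lying in N with f(H) ≤ c is finite. (The
published statement takes Λ to be a lattice; this row allows any discrete additive subgroup.) -/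
theorem result (n : ℕ)
    (N : Set (EuclideanSpace ℝ (Fin n))) (hN : IsClosed N)
    (hcone : ∀ x ∈ N, ∀ r : ℝ, 0 ≤ r → r • x ∈ N)
    (f : EuclideanSpace ℝ (Fin n) → ℝ) (hf : ContinuousOn f N)
    (hpos : ∀ x ∈ N, x ≠ 0 → 0 < f x)
    (hhom : ∀ x ∈ N, ∀ r : ℝ, 0 ≤ r → f (r • x) = r * f x)
    (Λ : Submodule ℤ (EuclideanSpace ℝ (Fin n))) [DiscreteTopology Λ] (c : ℝ) :
    ({x : EuclideanSpace ℝ (Fin n) | x ∈ N ∧ f x ≤ c} ∩ (Λ : Set (EuclideanSpace ℝ (Fin n)))).Finite := by
  classical
  have hb : Bornology.IsBounded {x : EuclideanSpace ℝ (Fin n) | x ∈ N ∧ f x ≤ c} := by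
    have hu : ∀ x ∈ N, x ≠ 0 →
        ‖x‖⁻¹ • x ∈ N ∩ Metric.sphere (0 : EuclideanSpace ℝ (Fin n)) 1 := fun x hx hx0 =>
      ⟨hcone x hx _ (by positivity), by simp [norm_smul, hx0]⟩
    rcases (N ∩ Metric.sphere (0 : EuclideanSpace ℝ (Fin n)) 1).eq_empty_or_nonempty with hK | hK
    · refine (Bornology.isBounded_singleton (x := (0 : EuclideanSpace ℝ (Fin n)))).subset ?_
      rintro x ⟨hx, -⟩
      by_contra hx0
      have := hu x hx hx0
      rw [hK] at this
      exact this
    · obtain ⟨x0, hx0, hmin⟩ := ((isCompact_sphere _ _).inter_left hN).exists_isMinOn hK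
        (hf.mono Set.inter_subset_left)
      have hm : 0 < f x0 := hpos x0 hx0.1 (by rintro rfl; simpa using hx0.2)
      refine (Metric.isBounded_closedBall (x := (0 : EuclideanSpace ℝ (Fin n)))
        (r := max (c / f x0) 0)).subset ?_
      rintro x ⟨hx, hfx⟩
      rw [mem_closedBall_zero_iff]
      by_cases hx0' : x = 0
      · simp [hx0']
      refine le_trans ?_ (le_max_left _ _)
      have h1 : f x0 ≤ f (‖x‖⁻¹ • x) := hmin (hu x hx hx0')
      rw [hhom x hx _ (by positivity)] at h1
      rw [le_div_iff₀ hm]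
      have hn : 0 < ‖x‖ := norm_pos_iff.mpr hx0'
      calc ‖x‖ * f x0 ≤ ‖x‖ * (‖x‖⁻¹ * f x) := mul_le_mul_of_nonneg_left h1 hn.le
        _ = f x := by field_simp
        _ ≤ c := hfx
  haveI : DiscreteTopology Λ.toAddSubgroup := ‹DiscreteTopology Λ›
  refine Metric.finite_isBounded_inter_isClosed DiscreteTopology.isDiscrete hb ?_
  rw [← Submodule.coe_toAddSubgroup]
  exact AddSubgroup.isClosed_of_discrete

end Groth.Agent.S16312
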