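import Groth.Statements.S16321
import Mathlib
import Groth.Agent.GrInj.StdPoly
-- import your own Groth.Agent.* helpers here

set_option autoImplicit false
universe u
open GrSyz

namespace Groth.Agent.S16321

section
open GrInj GrLC

section Gen
variable {R : Type u} [CommRing R] [IsNoetherianRing R] {𝒜 : ℤ → AddSubgroup R} [GradedRing 𝒜]
  {a : HomogeneousIdeal 𝒜}

theorem exists_lift_free {V : GMod.{u} 𝒜} {m m' : ℕ} {deg : Fin m → ℤ} {deg' : Fin m' → ℤ}
    {p : (freeG 𝒜 deg).carrier →ₗ[R] V.carrier} {p' : (freeG 𝒜 deg').carrier →ₗ[R] V.carrier}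
    (hp : IsGrHom (freeG 𝒜 deg).gr V.gr p) (hp' : IsGrHom (freeG 𝒜 deg').gr V.gr p')
    (hle : LinearMap.range p ≤ LinearMap.range p') :
    ∃ φ : (freeG 𝒜 deg).carrier →ₗ[R] (freeG 𝒜 deg').carrier,
      IsGrHom (freeG 𝒜 deg).gr (freeG 𝒜 deg').gr φ ∧ ∀ v, p' (φ v) = p v := by
  choose w hw using fun b : Fin m => hle ⟨(Pi.single b 1 : Fin m → R), rfl⟩
  let img : Fin m → (freeG 𝒜 deg').carrier := fun b => pr (freeG 𝒜 deg').gr (deg b) (w b)
  refine ⟨Fintype.linearCombination R img, fun n v hv => ?_, fun v => ?_⟩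
  · show Fintype.linearCombination R img (v : Fin m → R) ∈ (freeG 𝒜 deg').gr n
    rw [Fintype.linearCombination_apply]
    refine sum_mem fun b _ => ?_
    have h := (freeG 𝒜 deg').gsmul.smul_mem (mem_freeGr.1 hv b) (pr_mem (ℳ := (freeG 𝒜 deg').gr) (deg b) (w b))
    rwa [vadd_eq_add, sub_add_cancel] at h
  · have h : p' ∘ₗ Fintype.linearCombination R img = p := LinearMap.pi_ext' fun b => LinearMap.ext_ring (by
      show p' (Fintype.linearCombination R img (Pi.single b 1)) = p (Pi.single b 1 : Fin m → R)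
      rw [Fintype.linearCombination_apply_single, one_smul]
      show p' (pr (freeG 𝒜 deg').gr (deg b) (w b)) = _
      rw [← pr_grHom hp', hw b]
      exact pr_of_mem (hp _ _ (single_mem_free deg b)))
    exact LinearMap.congr_fun h v

theorem bijective_of_sub_mem (hpos : ∀ n : ℤ, n < 0 → 𝒜 n = ⊥)
    (hhom : a.toIdeal = Ideal.span ((𝒜 1 : AddSubgroup R) : Set R)) {m : ℕ} {deg : Fin m → ℤ}
    {θ : (freeG 𝒜 deg).carrier →ₗ[R] (freeG 𝒜 deg).carrier}
    (hθ : IsGrHom (freeG 𝒜 deg).gr (freeG 𝒜 deg).gr θ)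
    (h : ∀ v, θ v - v ∈ a.toIdeal • (⊤ : Submodule R (freeG 𝒜 deg).carrier)) : Function.Bijective θ := by
  have hs : Function.Surjective θ := by
    have hT := hom_range hθ
    haveI : Module.Finite R (quoMod 𝒜 (LinearMap.range θ) hT).carrier :=
      Module.Finite.of_surjective (quoMk 𝒜 (LinearMap.range θ) hT) (Submodule.mkQ_surjective _)
    intro v
    have h0 : quoMk 𝒜 (LinearMap.range θ) hT v = 0 := by
      simpa using mem_span_low hpos hhom (quoMod 𝒜 (LinearMap.range θ) hT) (fun _ => False) (fun _ _ y _ => by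
        obtain ⟨z, hz⟩ : ∃ z, quoMk 𝒜 (LinearMap.range θ) hT z = y := Submodule.mkQ_surjective _ y
        have hm : quoMk 𝒜 (LinearMap.range θ) hT (θ z - z) ∈ a.toIdeal • (⊤ : Submodule R (quoMod 𝒜 (LinearMap.range θ) hT).carrier) :=
          Submodule.smul_mono le_rfl le_top ((Submodule.map_smul'' _ _ _).le (Submodule.mem_map_of_mem (h z)))
        rw [map_sub, hz, show quoMk 𝒜 (LinearMap.range θ) hT (θ z) = 0 from
          (Submodule.Quotient.mk_eq_zero _).2 ⟨z, rfl⟩, zero_sub] at hm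
        simpa using neg_mem hm) (quoMk 𝒜 (LinearMap.range θ) hT v)
    exact (Submodule.Quotient.mk_eq_zero _).1 h0
  haveI : IsNoetherian R (freeG 𝒜 deg).carrier := inferInstanceAs (IsNoetherian R (Fin m → R))
  exact ⟨IsNoetherian.injective_of_surjective_endomorphism θ hs, hs⟩

theorem exists_equiv_free (hpos : ∀ n : ℤ, n < 0 → 𝒜 n = ⊥)
    (hhom : a.toIdeal = Ideal.span ((𝒜 1 : AddSubgroup R) : Set R)) {V : GMod.{u} 𝒜} {m m' : ℕ}
    {deg : Fin m → ℤ} {deg' : Fin m' → ℤ}
    {p : (freeG 𝒜 deg).carrier →ₗ[R] V.carrier} {p' : (freeG 𝒜 deg').carrier →ₗ[R] V.carrier}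
    (hp : IsGrHom (freeG 𝒜 deg).gr V.gr p) (hp' : IsGrHom (freeG 𝒜 deg').gr V.gr p')
    (hmin : LinearMap.ker p ≤ a.toIdeal • (⊤ : Submodule R (freeG 𝒜 deg).carrier))
    (hmin' : LinearMap.ker p' ≤ a.toIdeal • (⊤ : Submodule R (freeG 𝒜 deg').carrier))
    (he : LinearMap.range p = LinearMap.range p') :
    ∃ φ : (freeG 𝒜 deg).carrier ≃ₗ[R] (freeG 𝒜 deg').carrier,
      IsGrHom (freeG 𝒜 deg).gr (freeG 𝒜 deg').gr φ.toLinearMap ∧
      IsGrHom (freeG 𝒜 deg').gr (freeG 𝒜 deg).gr φ.symm.toLinearMap ∧ ∀ v, p' (φ v) = p v := by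
  obtain ⟨φ, hφ, h1⟩ := exists_lift_free hp hp' he.le
  obtain ⟨ψ, hψ, h2⟩ := exists_lift_free hp' hp he.ge
  have ha := bijective_of_sub_mem (θ := ψ ∘ₗ φ) hpos hhom (fun n v hv => hψ n _ (hφ n v hv)) fun v => hmin (by
    rw [LinearMap.mem_ker, map_sub, LinearMap.comp_apply, h2, h1, sub_self])
  have hb := bijective_of_sub_mem (θ := φ ∘ₗ ψ) hpos hhom (fun n v hv => hφ n _ (hψ n v hv)) fun v => hmin' (by
    rw [LinearMap.mem_ker, map_sub, LinearMap.comp_apply, h1, h2, sub_self])
  have hinj : Function.Injective φ := Function.Injective.of_comp (f := ψ) ha.1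
  let e := LinearEquiv.ofBijective φ ⟨hinj, Function.Surjective.of_comp (g := ψ) hb.2⟩
  refine ⟨e, hφ, fun n y hy => inverse_grHom hφ hinj ?_, h1⟩
  show φ (e.symm y) ∈ (freeG 𝒜 deg').gr n
  rw [show φ (e.symm y) = e (e.symm y) from rfl, e.apply_symm_apply]
  exact hy

end Gen

variable {k : Type u} [Field k] {r : ℕ}
variable {M : Type u} [AddCommGroup M] [Module k M] [Module (MvPolynomial (Fin (r + 1)) k) M]
  [IsScalarTower k (MvPolynomial (Fin (r + 1)) k) M]
  {ℳ : ℤ → Submodule k M} [DirectSum.Decomposition ℳ] [SetLike.GradedSMul (GrSyz.stdGr k (Fin (r + 1))) ℳ]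
  (F F' : GrSyz.FreeRes (GrSyz.stdGr k (Fin (r + 1))) ℳ)

theorem range_le (hF : F.IsMinimal (GrSyz.irrel (GrSyz.stdGr k (Fin (r + 1)))).toIdeal) (i : ℕ) :
    LinearMap.range ((Std.resOf F).d i) ≤
      (Std.irr k r).toIdeal • (⊤ : Submodule (Std.S k r) (freeG (Std.gr k r) (F.deg i)).carrier) := by
  classical
  rintro _ ⟨v, rfl⟩
  let w : Fin (F.rk (i + 1)) → Std.S k r := v
  have h : ∀ b, F.dLin i w b ∈ (Std.irr k r).toIdeal := fun b => by
    show (∑ c, F.d i b c * w c) ∈ _
    exact Submodule.sum_mem _ fun c _ => Ideal.mul_mem_right _ _ (hF i b c)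
  show (F.dLin i w : Fin (F.rk i) → Std.S k r) ∈ (Std.irr k r).toIdeal • (⊤ : Submodule (Std.S k r) (Fin (F.rk i) → Std.S k r))
  rw [pi_eq_sum_univ (F.dLin i w)]
  exact Submodule.sum_mem _ fun b _ => Submodule.smul_mem_smul (h b) Submodule.mem_top

theorem exists_iso (hF : F.IsMinimal (GrSyz.irrel (GrSyz.stdGr k (Fin (r + 1)))).toIdeal)
    (hF' : F'.IsMinimal (GrSyz.irrel (GrSyz.stdGr k (Fin (r + 1)))).toIdeal) : ∀ i,
    ∃ φ : (freeG (Std.gr k r) (F.deg i)).carrier ≃ₗ[Std.S k r] (freeG (Std.gr k r) (F'.deg i)).carrier,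
      IsGrHom (freeG (Std.gr k r) (F.deg i)).gr (freeG (Std.gr k r) (F'.deg i)).gr φ.toLinearMap ∧
      IsGrHom (freeG (Std.gr k r) (F'.deg i)).gr (freeG (Std.gr k r) (F.deg i)).gr φ.symm.toLinearMap ∧
      (LinearMap.range ((Std.resOf F).d i)).map φ.toLinearMap = LinearMap.range ((Std.resOf F').d i) := by
  have hmap : ∀ (i : ℕ) (φ : (freeG (Std.gr k r) (F.deg i)).carrier ≃ₗ[Std.S k r] (freeG (Std.gr k r) (F'.deg i)).carrier)
      {V : GMod.{u} (Std.gr k r)} (p : (freeG (Std.gr k r) (F.deg i)).carrier →ₗ[Std.S k r] V.carrier)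
      (p' : (freeG (Std.gr k r) (F'.deg i)).carrier →ₗ[Std.S k r] V.carrier),
      (∀ v, p' (φ v) = p v) → (LinearMap.ker p).map φ.toLinearMap = LinearMap.ker p' := by
    intro i φ V p p' h
    refine Submodule.ext fun v => ⟨?_, fun hv => ⟨φ.symm v, ?_, φ.apply_symm_apply v⟩⟩
    · rintro ⟨u, hu, rfl⟩
      exact LinearMap.mem_ker.2 ((h u).trans (LinearMap.mem_ker.1 hu))
    · exact LinearMap.mem_ker.2 (((h (φ.symm v)).symm.trans (by rw [φ.apply_symm_apply])).trans (LinearMap.mem_ker.1 hv))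
  intro i
  induction i with
  | zero =>
    obtain ⟨φ, hφ, hφ', h⟩ := exists_equiv_free (Std.pos k r) (Std.irr_hom k r)
      (Std.resOf F).π_grHom (Std.resOf F').π_grHom ((Std.resOf F).exact_zero.le.trans (range_le F hF 0))
      ((Std.resOf F').exact_zero.le.trans (range_le F' hF' 0))
      ((LinearMap.range_eq_top.2 (Std.resOf F).π_surjective).trans (LinearMap.range_eq_top.2 (Std.resOf F').π_surjective).symm)
    refine ⟨φ, hφ, hφ', ?_⟩
    have h0 := hmap 0 φ _ _ h
    have e1 := (Std.resOf F).exact_zero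
    have e2 := (Std.resOf F').exact_zero
    exact (congrArg (Submodule.map φ.toLinearMap) e1.symm).trans (h0.trans e2)
  | succ i ih =>
    obtain ⟨φ, hφ, -, hr⟩ := ih
    have hk : LinearMap.ker (φ.toLinearMap ∘ₗ (Std.resOf F).d i) = LinearMap.ker ((Std.resOf F).d i) :=
      LinearEquiv.ker_comp φ _
    obtain ⟨ψ, hψ, hψ', h⟩ := exists_equiv_free (p := φ.toLinearMap ∘ₗ (Std.resOf F).d i) (p' := (Std.resOf F').d i)
      (Std.pos k r) (Std.irr_hom k r) (fun n v hv => hφ n _ ((Std.resOf F).d_grHom i n v hv)) ((Std.resOf F').d_grHom i)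
      (hk.le.trans (((Std.resOf F).exact_succ i).le.trans (range_le F hF (i + 1))))
      (((Std.resOf F').exact_succ i).le.trans (range_le F' hF' (i + 1)))
      ((LinearMap.range_comp _ _).trans hr)
    refine ⟨ψ, hψ, hψ', ?_⟩
    have h0 := hmap (i + 1) ψ _ _ h
    exact (congrArg (Submodule.map ψ.toLinearMap) ((Std.resOf F).exact_succ i).symm).trans
      ((congrArg (Submodule.map ψ.toLinearMap) hk.symm).trans (h0.trans ((Std.resOf F').exact_succ i)))

theorem betti_eq (i : ℕ)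
    (φ : (freeG (Std.gr k r) (F.deg i)).carrier ≃ₗ[Std.S k r] (freeG (Std.gr k r) (F'.deg i)).carrier)
    (hφ : IsGrHom (freeG (Std.gr k r) (F.deg i)).gr (freeG (Std.gr k r) (F'.deg i)).gr φ.toLinearMap)
    (hφ' : IsGrHom (freeG (Std.gr k r) (F'.deg i)).gr (freeG (Std.gr k r) (F.deg i)).gr φ.symm.toLinearMap)
    (j : ℤ) : F.betti i j = F'.betti i j := by
  classical
  let φ₀ : (Fin (F.rk i) → Std.S k r) ≃ₗ[Std.S k r] (Fin (F'.rk i) → Std.S k r) := φ
  have hrank : ∀ d, (∑ b : Fin (F.rk i), (if F.deg i b ≤ d then ((Nat.choose (r + (d - F.deg i b).toNat) r : ℕ) : ℤ) else 0)) =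
      ∑ b : Fin (F'.rk i), (if F'.deg i b ≤ d then ((Nat.choose (r + (d - F'.deg i b).toNat) r : ℕ) : ℤ) else 0) := by
    intro d
    rw [← GrSyzHilb.finrank_Pc, ← GrSyzHilb.finrank_Pc]
    refine congrArg Nat.cast ((φ₀.restrictScalars k).ofSubmodules _ _ (Submodule.ext fun v => ⟨?_, fun hv => ?_⟩)).finrank_eq
    · rintro ⟨u, hu, rfl⟩
      exact (GrSyzHilb.mem_Pc F' d).2 fun b => mem_freeGr.1 (hφ d u (mem_freeGr.2 fun b' => (GrSyzHilb.mem_Pc F d).1 hu b')) b
    · refine ⟨φ₀.symm v, (GrSyzHilb.mem_Pc F d).2 fun b => mem_freeGr.1 (hφ' d v (mem_freeGr.2 fun b' => (GrSyzHilb.mem_Pc F' d).1 hv b')) b, φ₀.apply_symm_apply v⟩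
  -- recover the multiplicities
  obtain ⟨D₁, hD₁⟩ := Finite.exists_le fun b => -F.deg i b
  obtain ⟨D₂, hD₂⟩ := Finite.exists_le fun b => -F'.deg i b
  let D : ℤ := -(max D₁ D₂)
  let G : {m : ℕ} → (Fin m → ℤ) → ℤ → ℕ := fun dg n => (Finset.univ.filter fun b => dg b = n).card
  suffices H : ∀ t : ℕ, ∀ n, n < D + t → G (F.deg i) n = G (F'.deg i) n from
    H (j - D + 1).toNat j (by omega)
  intro t
  induction t with
  | zero =>
    intro n hn
    have e1 : G (F.deg i) n = 0 := by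
      simp only [G, Finset.card_eq_zero, Finset.filter_eq_empty_iff]
      intro b _; have := hD₁ b; omega
    have e2 : G (F'.deg i) n = 0 := by
      simp only [G, Finset.card_eq_zero, Finset.filter_eq_empty_iff]
      intro b _; have := hD₂ b; omega
    rw [e1, e2]
  | succ t ih =>
    intro n hn
    rcases lt_or_eq_of_le (show n ≤ D + t by push_cast at hn; omega) with h | h
    · exact ih n h
    have hs : ∀ {m : ℕ} (dg : Fin m → ℤ), (∀ b, D ≤ dg b) →
        ∑ b : Fin m, (if dg b ≤ n then ((Nat.choose (r + (n - dg b).toNat) r : ℕ) : ℤ) else 0) =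
          (G dg n : ℤ) + ∑ q ∈ Finset.Ico D n, (G dg q : ℤ) * ((Nat.choose (r + (n - q).toNat) r : ℕ) : ℤ) := by
      intro m dg hdg
      rw [← Finset.sum_filter, ← Finset.sum_fiberwise_of_maps_to (t := Finset.Icc D n) (g := dg)
        (fun b hb => Finset.mem_Icc.2 ⟨hdg b, (Finset.mem_filter.1 hb).2⟩)]
      have hIcc : Finset.Icc D n = insert n (Finset.Ico D n) := by
        ext q; simp only [Finset.mem_Icc, Finset.mem_insert, Finset.mem_Ico]; omega
      have hterm : ∀ q, q ≤ n → ∑ b ∈ (Finset.univ.filter fun b => dg b ≤ n) with dg b = q,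
          ((Nat.choose (r + (n - dg b).toNat) r : ℕ) : ℤ) = (G dg q : ℤ) * ((Nat.choose (r + (n - q).toNat) r : ℕ) : ℤ) := by
        intro q hq
        rw [Finset.sum_congr rfl (fun b hb => by rw [(Finset.mem_filter.1 hb).2]), Finset.sum_const, nsmul_eq_mul]
        congr 2
        rw [Finset.filter_filter]
        congr 1
        exact Finset.filter_congr fun b _ => ⟨fun h => h.2, fun h => ⟨h ▸ hq, h⟩⟩
      rw [hIcc, Finset.sum_insert (by simp), hterm n le_rfl]
      congr 1
      · simp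
      · exact Finset.sum_congr rfl fun q hq => hterm q (le_of_lt (Finset.mem_Ico.1 hq).2)
    have e := hrank n
    rw [hs (F.deg i) (fun b => by have := hD₁ b; omega), hs (F'.deg i) (fun b => by have := hD₂ b; omega),
      Finset.sum_congr rfl (fun q hq => by rw [ih q (by have := Finset.mem_Ico.1 hq; omega)])] at e
    have := add_right_cancel e
    exact_mod_cast this

end

/-- Let k be an algebraically closed field of characteristic zero, S = k[x_0, …, x_n] graded by degree,
𝔪 = (x_0, …, x_n) its irrelevant ideal and M a finitely generated ℤ-graded S-module. Then any two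
minimal graded free resolutions F, F′ of M (by free modules of finite rank with homogeneous bases,
every matrix entry of every differential lying in 𝔪) have the same graded Betti numbers: for all i
and j, the number of basis vectors of F_i of degree j equals the number of basis vectors of F′_i of
degree j. (The published statement says that any two minimal resolutions are isomorphic as complexes
over the identity of M; this row states only the resulting equality of graded Betti numbers, which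
is the consequence the text itself draws.) -/
theorem result (k : Type u) [Field k] [IsAlgClosed k] [CharZero k] (n : ℕ)
    (M : Type u) [AddCommGroup M] [Module k M] [Module (MvPolynomial (Fin (n + 1)) k) M]
    [IsScalarTower k (MvPolynomial (Fin (n + 1)) k) M] [Module.Finite (MvPolynomial (Fin (n + 1)) k) M]
    (ℳ : ℤ → Submodule k M) [DirectSum.Decomposition ℳ] [SetLike.GradedSMul (GrSyz.stdGr k (Fin (n + 1))) ℳ]
    (F F' : GrSyz.FreeRes (GrSyz.stdGr k (Fin (n + 1))) ℳ)
    (hF : F.IsMinimal (GrSyz.irrel (GrSyz.stdGr k (Fin (n + 1)))).toIdeal)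
    (hF' : F'.IsMinimal (GrSyz.irrel (GrSyz.stdGr k (Fin (n + 1)))).toIdeal) (i : ℕ) (j : ℤ) :
    F.betti i j = F'.betti i j := by
  obtain ⟨φ, hφ, hφ', -⟩ := exists_iso F F' hF hF' i
  exact betti_eq F F' i φ hφ hφ' j

end Groth.Agent.S16321
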