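import Groth.Statements.S16325
import Groth.Agent.FreeQis.Basic
import Mathlib.LinearAlgebra.Isomorphisms
import Mathlib.Algebra.Exact.Basic
-- import your own Groth.Agent.* helpers here

set_option autoImplicit false
universe u v
open CategoryTheory
open W4c3biextchow

namespace Groth.Agent.S16325

/-- Let f : C ⟶ D be a chain map of ℕ-indexed chain complexes of modules over a ring R, and consider the
functor it induces between the groupoids attached to C and D (objects: degree-0 elements; morphisms
a ⟶ b: degree-1 elements with boundary b - a, modulo boundaries of degree-2 elements). This functor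
is faithful if and only if f is injective on homology in degree 1. (The published statement is for
complexes of abelian groups; this row allows modules over any ring R.) -/
theorem result
    (R : Type u) [Ring R] (C D : ChainComplex (ModuleCat.{v} R) ℕ) (f : C ⟶ D) :
    (W4c3biextchow.cxFunctor f).Faithful ↔ Mono (HomologicalComplex.homologyMap f 1) := by
  rw [Groth.Agent.FreeQis.mono_homologyMap_iff (r := 2) (q := 0) (by simp) (by simp) f]
  constructor
  · intro hF y hy hmem
    let o : Obj C := ⟨0⟩
    let φ : o ⟶ o := (⟨Submodule.Quotient.mk y, by rw [delta_mk]; simpa [o] using hy⟩ : Hom C o o)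
    have e : (cxFunctor f).map φ = (cxFunctor f).map (𝟙 o) := Hom.ext (by
      show q1Map f (Submodule.Quotient.mk y) = q1Map f 0
      rw [q1Map_mk, map_zero, Submodule.Quotient.mk_eq_zero]
      exact hmem)
    have := congrArg Hom.cl (hF.map_injective e)
    exact (Submodule.Quotient.mk_eq_zero _).mp this
  · intro h
    constructor
    intro a b φ ψ e
    apply Hom.ext
    obtain ⟨x, hx⟩ := Submodule.mkQ_surjective _ ((φ : Hom C a b).cl - (ψ : Hom C a b).cl)
    rw [← sub_eq_zero, ← hx, Submodule.mkQ_apply, Submodule.Quotient.mk_eq_zero]
    refine h x ?_ ?_
    · have := congrArg (delta C) hx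
      rw [map_sub, (φ : Hom C a b).delta_cl, (ψ : Hom C a b).delta_cl, sub_self] at this
      exact this
    · rw [← Submodule.Quotient.mk_eq_zero, ← q1Map_mk, ← Submodule.mkQ_apply, hx, map_sub, sub_eq_zero]
      exact congrArg Hom.cl e

end Groth.Agent.S16325
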