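import Mathlib
import Groth.Statements.S16326
-- import your own Groth.Agent.* helpers here

set_option autoImplicit false
universe u v
open CategoryTheory
open W4c3biextchow

namespace Groth.Agent.S16326

/-- Let f : C ⟶ D be a chain map of ℕ-indexed chain complexes of modules over a ring R, and consider the
functor it induces between the groupoids attached to C and D (objects: degree-0 elements; morphisms
a ⟶ b: degree-1 elements with boundary b - a, modulo boundaries of degree-2 elements). This functor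
is full if and only if f is surjective on homology in degree 1 and injective on homology in degree
0. (The published statement is for complexes of abelian groups; this row allows modules over any
ring R.) -/
theorem result
    (R : Type u) [Ring R] (C D : ChainComplex (ModuleCat.{v} R) ℕ) (f : C ⟶ D) :
    (W4c3biextchow.cxFunctor f).Full ↔
      Epi (HomologicalComplex.homologyMap f 1) ∧ Mono (HomologicalComplex.homologyMap f 0) := by
  have key : ∀ (K : ChainComplex (ModuleCat.{v} R) ℕ) (p i j : ℕ) (hp : (ComplexShape.down ℕ).prev i = p)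
      (hj : (ComplexShape.down ℕ).next i = j),
      Function.Surjective (K.homologyπ i) ∧ Function.Injective (K.iCycles i) ∧
      (∀ z, (K.d i j).hom ((K.iCycles i).hom z) = 0) ∧
      (∀ x, (K.d i j).hom x = 0 → ∃ z, (K.iCycles i).hom z = x) ∧
      (∀ z, (K.homologyπ i).hom z = 0 ↔ ∃ w, (K.d p i).hom w = (K.iCycles i).hom z) := by
    intro K p i j hp hj
    have inj : Function.Injective (K.iCycles i) := (ModuleCat.mono_iff_injective _).1 inferInstance
    have e2 := ShortComplex.exact_of_g_is_cokernel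
      (ShortComplex.mk (K.toCycles p i) (K.homologyπ i) (K.toCycles_comp_homologyπ p i)) (K.homologyIsCokernel p i hp)
    have e1 := ShortComplex.exact_of_f_is_kernel
      (ShortComplex.mk (K.iCycles i) (K.d i j) (K.iCycles_d i j)) (K.cyclesIsKernel i j hj)
    refine ⟨(ModuleCat.epi_iff_surjective _).1 inferInstance, inj, fun z => ?_, fun x hx => ?_, fun z => ⟨fun hz => ?_, ?_⟩⟩
    · exact congrArg (fun k => k.hom z) (K.iCycles_d i j)
    · exact (ShortComplex.moduleCat_exact_iff _).1 e1 x hx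
    · obtain ⟨w, hw⟩ := (ShortComplex.moduleCat_exact_iff _).1 e2 z hz
      refine ⟨w, ?_⟩
      rw [← hw]
      exact (congrArg (fun k => k.hom w) (K.toCycles_i p i)).symm
    · rintro ⟨w, hw⟩
      have : (K.toCycles p i).hom w = z := inj ((congrArg (fun k => k.hom w) (K.toCycles_i p i)).trans hw)
      rw [← this]
      exact congrArg (fun k => k.hom w) (K.toCycles_comp_homologyπ p i)
  have hp1 : (ComplexShape.down ℕ).prev 1 = 2 := ChainComplex.prev _ 1
  have hn1 : (ComplexShape.down ℕ).next 1 = 0 := ChainComplex.next_nat_succ 0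
  have hp0 : (ComplexShape.down ℕ).prev 0 = 1 := ChainComplex.prev _ 0
  have hn0 : (ComplexShape.down ℕ).next 0 = 0 := ChainComplex.next_nat_zero
  obtain ⟨sC1, iC1, dC1, cC1, eC1⟩ := key C 2 1 0 hp1 hn1
  obtain ⟨sD1, iD1, dD1, cD1, eD1⟩ := key D 2 1 0 hp1 hn1
  obtain ⟨sC0, iC0, dC0, cC0, eC0⟩ := key C 1 0 0 hp0 hn0
  obtain ⟨sD0, iD0, dD0, cD0, eD0⟩ := key D 1 0 0 hp0 hn0
  have nat : ∀ (i : ℕ) z, (HomologicalComplex.homologyMap f i).hom ((C.homologyπ i).hom z) =
      (D.homologyπ i).hom ((HomologicalComplex.cyclesMap f i).hom z) := fun i z =>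
    congrArg (fun k => k.hom z) (HomologicalComplex.homologyπ_naturality f i)
  have natc : ∀ (i : ℕ) z, (D.iCycles i).hom ((HomologicalComplex.cyclesMap f i).hom z) =
      (f.f i).hom ((C.iCycles i).hom z) := fun i z =>
    congrArg (fun k => k.hom z) (HomologicalComplex.cyclesMap_i f i)
  rw [ModuleCat.epi_iff_surjective, ModuleCat.mono_iff_injective]
  constructor
  · intro hfull
    refine ⟨fun η => ?_, (injective_iff_map_eq_zero _).2 fun ξ hξ => ?_⟩
    · obtain ⟨z, rfl⟩ := sD1 η
      let o : W4c3biextchow.Obj C := ⟨0⟩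
      obtain ⟨φ, hφ⟩ := hfull.map_surjective
        (⟨Submodule.Quotient.mk ((D.iCycles 1).hom z), by simp [o, dD1 z]⟩ :
          W4c3biextchow.Hom D ((W4c3biextchow.cxFunctor f).obj o) ((W4c3biextchow.cxFunctor f).obj o))
      have hcl := congrArg W4c3biextchow.Hom.cl hφ
      rw [W4c3biextchow.cxFunctor_map_cl] at hcl
      obtain ⟨x, hx⟩ := Submodule.Quotient.mk_surjective _ (φ : W4c3biextchow.Hom C o o).cl
      have hdx := (φ : W4c3biextchow.Hom C o o).delta_cl
      rw [← hx, W4c3biextchow.delta_mk, sub_self] at hdx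
      rw [← hx, W4c3biextchow.q1Map_mk] at hcl
      obtain ⟨y, rfl⟩ := cC1 x hdx
      refine ⟨(C.homologyπ 1).hom y, (nat 1 y).trans ?_⟩
      rw [← sub_eq_zero, ← map_sub, eD1, map_sub, natc]
      obtain ⟨w, hw⟩ := (Submodule.Quotient.eq _).1 hcl
      exact ⟨w, hw⟩
    · obtain ⟨z, rfl⟩ := sC0 ξ
      replace hξ : (D.homologyπ 0).hom ((HomologicalComplex.cyclesMap f 0).hom z) = 0 := (nat 0 z).symm.trans hξ
      rw [eD0, natc] at hξ
      obtain ⟨w, hw⟩ := hξ
      let a : W4c3biextchow.Obj C := ⟨0⟩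
      let b : W4c3biextchow.Obj C := ⟨(C.iCycles 0).hom z⟩
      obtain ⟨φ, hφ⟩ := hfull.map_surjective
        (⟨Submodule.Quotient.mk w, by simp [a, b, hw]⟩ :
          W4c3biextchow.Hom D ((W4c3biextchow.cxFunctor f).obj a) ((W4c3biextchow.cxFunctor f).obj b))
      obtain ⟨x, hx⟩ := Submodule.Quotient.mk_surjective _ (φ : W4c3biextchow.Hom C a b).cl
      have hdx := (φ : W4c3biextchow.Hom C a b).delta_cl
      rw [← hx, W4c3biextchow.delta_mk] at hdx
      exact (eC0 z).2 ⟨x, by simpa [a, b] using hdx⟩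
  · rintro ⟨hsur, hinj⟩
    refine ⟨fun {a b} ψ => ?_⟩
    obtain ⟨w, hw⟩ := Submodule.Quotient.mk_surjective _ (ψ : W4c3biextchow.Hom D _ _).cl
    have hdw := (ψ : W4c3biextchow.Hom D _ _).delta_cl
    rw [← hw, W4c3biextchow.delta_mk, W4c3biextchow.cxFunctor_obj_pt, W4c3biextchow.cxFunctor_obj_pt, ← map_sub] at hdw
    obtain ⟨u, hu⟩ := cC0 (b.pt - a.pt) (by rw [C.shape 0 0 (by simp)]; rfl)
    have h0 : (C.homologyπ 0).hom u = 0 := by
      apply hinj
      rw [map_zero]
      refine (nat 0 u).trans ((eD0 _).2 ⟨w, ?_⟩)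
      rw [natc, hu, hdw]
    obtain ⟨x₀, hx₀⟩ := (eC0 u).1 h0
    rw [hu] at hx₀
    have hd : (D.d 1 0).hom (w - (f.f 1).hom x₀) = 0 := by
      have h := congrArg (fun k => k.hom x₀) (f.comm 1 0)
      simp only [ModuleCat.hom_comp, LinearMap.comp_apply] at h
      rw [map_sub, hdw, h, hx₀, sub_self]
    obtain ⟨z, hz⟩ := cD1 _ hd
    obtain ⟨η, hη⟩ := hsur ((D.homologyπ 1).hom z)
    obtain ⟨y, rfl⟩ := sC1 η
    replace hη := (nat 1 y).symm.trans hη
    rw [← sub_eq_zero, ← map_sub, eD1] at hη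
    obtain ⟨v', hv⟩ := hη
    rw [map_sub, natc, hz] at hv
    refine ⟨(⟨Submodule.Quotient.mk (x₀ + (C.iCycles 1).hom y), ?_⟩ : W4c3biextchow.Hom C a b), ?_⟩
    · rw [W4c3biextchow.delta_mk, map_add, hx₀, dC1, add_zero]
    · apply W4c3biextchow.Hom.ext
      rw [W4c3biextchow.cxFunctor_map_cl, ← hw]
      show W4c3biextchow.q1Map f (Submodule.Quotient.mk (x₀ + (C.iCycles 1).hom y)) = _
      rw [W4c3biextchow.q1Map_mk, Submodule.Quotient.eq]
      refine ⟨v', hv.trans ?_⟩
      rw [map_add]; abel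

end Groth.Agent.S16326
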