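import Groth.Statements.S16327
import Groth.Agent.FreeQis.Basic
import Mathlib.LinearAlgebra.Isomorphisms
import Mathlib.Algebra.Exact.Basic
-- import your own Groth.Agent.* helpers here

set_option autoImplicit false
universe u v
open CategoryTheory
open W4c3biextchow

namespace Groth.Agent.S16327

/-- Let f : C ⟶ D be a chain map of ℕ-indexed chain complexes of modules over a ring R, and consider the
functor it induces between the groupoids attached to C and D (objects: degree-0 elements; morphisms
a ⟶ b: degree-1 elements with boundary b - a, modulo boundaries of degree-2 elements). This functor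
is essentially surjective if and only if f is surjective on homology in degree 0. (The published
statement is for complexes of abelian groups; this row allows modules over any ring R.) -/
theorem result
    (R : Type u) [Ring R] (C D : ChainComplex (ModuleCat.{v} R) ℕ) (f : C ⟶ D) :
    (W4c3biextchow.cxFunctor f).EssSurj ↔ Epi (HomologicalComplex.homologyMap f 0) := by
  rw [Groth.Agent.FreeQis.epi_homologyMap_iff (r := 1) (q := 0) (by simp) (by simp) f]
  constructor
  · intro hE x _
    obtain ⟨a, ⟨i⟩⟩ := hE.mem_essImage (⟨x⟩ : Obj D)
    obtain ⟨w, hw⟩ := Submodule.mkQ_surjective _ (i.hom : Hom D _ _).cl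
    refine ⟨a.pt, by simp, -w, ?_⟩
    have := (i.hom : Hom D _ _).delta_cl
    rw [← hw] at this
    change (D.d 1 0).hom w = x - f.f 0 a.pt at this
    rw [map_neg, this, neg_sub]
  · intro h
    constructor
    intro d
    obtain ⟨y, -, ⟨w, hw⟩⟩ := h d.pt (by simp)
    refine ⟨⟨y⟩, ⟨
      { hom := (⟨Submodule.Quotient.mk (-w), by rw [delta_mk, map_neg, hw]; exact neg_sub _ _⟩ : Hom D _ _)
        inv := (⟨Submodule.Quotient.mk w, by rw [delta_mk, hw]; rfl⟩ : Hom D _ _)
        hom_inv_id := Hom.ext (by show Submodule.Quotient.mk (-w) + Submodule.Quotient.mk w = (0 : Q1 D); rw [← Submodule.Quotient.mk_add, neg_add_cancel, Submodule.Quotient.mk_zero])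
        inv_hom_id := Hom.ext (by show Submodule.Quotient.mk w + Submodule.Quotient.mk (-w) = (0 : Q1 D); rw [← Submodule.Quotient.mk_add, add_neg_cancel, Submodule.Quotient.mk_zero]) }⟩⟩

end Groth.Agent.S16327
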