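import Groth.Statements.S16328
import Groth.Agent.FreeQis.Basic
import Groth.Agent.FreeQis.IntMod
import Mathlib.LinearAlgebra.Isomorphisms
import Mathlib.Algebra.Exact.Basic
-- import your own Groth.Agent.* helpers here

set_option autoImplicit false
universe v
open CategoryTheory
open W4c3biextchow

namespace Groth.Agent.S16328

/-- Let f : A' ⟶ A and p : A ⟶ A'' be chain maps of ℕ-indexed chain complexes of free abelian groups
forming a short exact sequence in every degree (f injective, p surjective, image of f equal to the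
kernel of p), and assume f is a quasi-isomorphism. Then there is a chain map h : A'' ⟶ A such that
in every degree q the map (a'', a') ↦ h(a'') + f(a') is a bijection from A''_q × A'_q onto A_q, so
that A is the direct sum of the subcomplexes f(A') and h(A''). (The source allows complexes indexed
by all integers; stated here for complexes in non-negative degrees.) -/
theorem result
    (A' A A'' : ChainComplex (ModuleCat.{v} ℤ) ℕ) (f : A' ⟶ A) (p : A ⟶ A'')
    [∀ q, Module.Free ℤ (A'.X q)] [∀ q, Module.Free ℤ (A.X q)] [∀ q, Module.Free ℤ (A''.X q)]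
    (hf : ∀ q, Function.Injective (f.f q).hom) (hp : ∀ q, Function.Surjective (p.f q).hom)
    (hfp : ∀ q, Function.Exact (f.f q).hom (p.f q).hom) [QuasiIso f] :
    ∃ h : A'' ⟶ A, ∀ q : ℕ,
      Function.Bijective (fun x : A''.X q × A'.X q => (h.f q).hom x.1 + (f.f q).hom x.2) := by
  obtain ⟨g, -, hg, -⟩ := Groth.Agent.FreeQis.exists_retraction f hf (fun q => by
    let e := ((hfp q).linearEquivOfSurjective (hp q)).symm
    exact Groth.Agent.FreeQis.projective_of_addEquiv_int _ _ (inferInstance : Module.Free ℤ (A''.X q))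
      (AddEquiv.mk' e.toEquiv (fun x y => e.map_add x y)))
  let l : ∀ q, A.X q →ₗ[ℤ] A.X q := fun q => LinearMap.id - (f.f q).hom ∘ₗ (g.f q).hom
  have hgf : ∀ q a', g.f q (f.f q a') = a' := fun q a' => congr($(congrArg (fun φ : A' ⟶ A' => φ.f q) hg) a')
  have hl : ∀ q a', l q (f.f q a') = 0 := fun q a' => by
    show f.f q a' - f.f q (g.f q (f.f q a')) = 0
    rw [hgf, sub_self]
  have hpf : ∀ q a', p.f q (f.f q a') = 0 := fun q a' => (hfp q).apply_apply_eq_zero a'
  have hwd : ∀ q a a', p.f q a = p.f q a' → l q a = l q a' := fun q a a' e => by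
    obtain ⟨z, hz⟩ := (hfp q (a - a')).mp (by rw [map_sub]; exact sub_eq_zero.mpr e)
    rw [← sub_eq_zero, ← map_sub, ← hz]
    exact hl q z
  let h₀ : ∀ q, A''.X q → A.X q := fun q x => l q (Function.surjInv (hp q) x)
  have h₀p : ∀ q a, h₀ q (p.f q a) = l q a := fun q a => hwd q _ _ (Function.surjInv_eq (hp q) _)
  let h : ∀ q, A''.X q →ₗ[ℤ] A.X q := fun q =>
    { toFun := h₀ q
      map_add' := fun x y => by
        obtain ⟨a, rfl⟩ := hp q x
        obtain ⟨b, rfl⟩ := hp q y
        rw [← map_add, h₀p, h₀p, h₀p, map_add]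
      map_smul' := fun c x => by
        have e := map_intCast_smul (AddMonoidHom.mk' (h₀ q) (fun x y => by
          obtain ⟨a, rfl⟩ := hp q x
          obtain ⟨b, rfl⟩ := hp q y
          rw [← map_add, h₀p, h₀p, h₀p, map_add])) ℤ ℤ c x
        simpa using e }
  have hh : ∀ q a, h q (p.f q a) = a - f.f q (g.f q a) := fun q a => h₀p q a
  refine ⟨{ f := fun q => ModuleCat.ofHom (h q), comm' := fun i j _ => ?_ }, fun q => ⟨?_, ?_⟩⟩
  · ext x
    obtain ⟨a, rfl⟩ := hp i x
    show A.d i j (h i (p.f i a)) = h j (A''.d i j (p.f i a))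
    rw [hh, Groth.Agent.FreeQis.comm_apply, hh, map_sub, Groth.Agent.FreeQis.comm_apply,
      Groth.Agent.FreeQis.comm_apply]
  · rintro ⟨x, y⟩ ⟨x', y'⟩ e
    change h q x + f.f q y = h q x' + f.f q y' at e
    obtain ⟨a, rfl⟩ := hp q x
    obtain ⟨a', rfl⟩ := hp q x'
    rw [hh, hh] at e
    have e1 := congrArg (g.f q) e
    simp only [map_add, map_sub, hgf, sub_self, zero_add] at e1
    have e2 := congrArg (p.f q) e
    simp only [map_add, map_sub, hpf, sub_zero, add_zero] at e2
    exact Prod.ext e2 e1
  · intro a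
    exact ⟨(p.f q a, g.f q a), by show h q (p.f q a) + f.f q (g.f q a) = a; rw [hh, sub_add_cancel]⟩

end Groth.Agent.S16328
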