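import Groth.Statements.S16331
import Groth.Agent.FreeQis.Basic
import Groth.Agent.FreeQis.IntMod
import Mathlib.LinearAlgebra.Isomorphisms
import Mathlib.Algebra.Exact.Basic
-- import your own Groth.Agent.* helpers here

set_option autoImplicit false
universe v
open CategoryTheory
open W4c3biextchow

namespace Groth.Agent.S16331

/-- Let f : A' ⟶ A be a chain map of ℕ-indexed chain complexes of free abelian groups which is injective
in every degree, with free degreewise quotients A_q / f(A'_q), and a quasi-isomorphism; let h' : A'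
⟶ B be a chain map to another complex of free abelian groups and g₁, g₂ : A ⟶ A' two chain maps with
f ≫ g₁ = f ≫ g₂ = 𝟙. Consider the functors induced by g₁ ≫ h' and g₂ ≫ h' between the groupoids
attached to A and B (objects: degree-0 elements; morphisms a ⟶ b: degree-1 elements with boundary b
- a, modulo boundaries of degree-2 elements). Then there is a natural isomorphism between these two
functors whose component at every object of the form f(a'), a' a degree-0 element of A', is the zero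
class, i.e. the identity morphism of h'(a'). -/
theorem result
    (A' A B : ChainComplex (ModuleCat.{v} ℤ) ℕ) (f : A' ⟶ A) (h' : A' ⟶ B)
    [∀ q, Module.Free ℤ (A'.X q)] [∀ q, Module.Free ℤ (A.X q)] [∀ q, Module.Free ℤ (B.X q)]
    (hf : ∀ q, Function.Injective (f.f q).hom)
    (hq : ∀ q, Module.Free ℤ ((A.X q) ⧸ LinearMap.range (f.f q).hom)) [QuasiIso f]
    (g₁ g₂ : A ⟶ A') (h₁ : f ≫ g₁ = 𝟙 A') (h₂ : f ≫ g₂ = 𝟙 A') :
    ∃ N : W4c3biextchow.cxFunctor (g₁ ≫ h') ≅ W4c3biextchow.cxFunctor (g₂ ≫ h'),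
      ∀ a : W4c3biextchow.Obj A',
        (N.hom.app ((W4c3biextchow.cxFunctor f).obj a) : W4c3biextchow.Hom B _ _).cl = 0 := by
  obtain ⟨H, hH⟩ := Groth.Agent.FreeQis.exists_homotopy f hf (fun q => Groth.Agent.FreeQis.projective_of_free_int _ (hq q)) g₁ g₂ h₁ h₂
  have c0 : ∀ a, g₁.f 0 a = A'.d 1 0 (H.hom 0 1 a) + g₂.f 0 a := fun a => by
    have e := H.comm 0
    rw [dNext_eq_zero _ _ (by simp), prevD_eq _ (show (ComplexShape.down ℕ).Rel 1 0 from rfl), zero_add] at e
    exact congr($e a)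
  have c1 : ∀ a, g₁.f 1 a = H.hom 0 1 (A.d 1 0 a) + A'.d 2 1 (H.hom 1 2 a) + g₂.f 1 a := fun a => by
    have e := H.comm 1
    rw [dNext_eq _ (show (ComplexShape.down ℕ).Rel 1 0 from rfl),
      prevD_eq _ (show (ComplexShape.down ℕ).Rel 2 1 from rfl)] at e
    exact congr($e a)
  let z : A.X 0 → Q1 B := fun a => Submodule.Quotient.mk (h'.f 1 (H.hom 0 1 a))
  have hz : ∀ a, delta B (z a) = h'.f 0 (g₁.f 0 a) - h'.f 0 (g₂.f 0 a) := fun a => by
    show delta B (Submodule.Quotient.mk (h'.f 1 (H.hom 0 1 a))) = _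
    rw [delta_mk, ← map_sub, c0, add_sub_cancel_right]
    exact Groth.Agent.FreeQis.comm_apply h' 1 0 _
  refine ⟨NatIso.ofComponents (fun a =>
    { hom := (⟨-z a.pt, by rw [map_neg, hz]; exact neg_sub _ _⟩ : Hom B _ _)
      inv := (⟨z a.pt, hz a.pt⟩ : Hom B _ _)
      hom_inv_id := Hom.ext (neg_add_cancel _)
      inv_hom_id := Hom.ext (add_neg_cancel _) }) ?_, fun a' => ?_⟩
  · intro a b φ
    apply Hom.ext
    obtain ⟨x, hx⟩ := Submodule.mkQ_surjective _ (φ : Hom A a b).cl
    have hdx : A.d 1 0 x = b.pt - a.pt := by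
      have := (φ : Hom A a b).delta_cl
      rw [← hx] at this
      exact this
    show q1Map (g₁ ≫ h') (φ : Hom A a b).cl + -z b.pt = -z a.pt + q1Map (g₂ ≫ h') (φ : Hom A a b).cl
    rw [← hx, Submodule.mkQ_apply, q1Map_mk, q1Map_mk]
    show Submodule.Quotient.mk (h'.f 1 (g₁.f 1 x)) + -z b.pt = -z a.pt + Submodule.Quotient.mk (h'.f 1 (g₂.f 1 x))
    have e2 : (Submodule.Quotient.mk (h'.f 1 (A'.d 2 1 (H.hom 1 2 x))) : Q1 B) = 0 := by
      rw [Submodule.Quotient.mk_eq_zero]
      exact ⟨h'.f 2 (H.hom 1 2 x), Groth.Agent.FreeQis.comm_apply h' 2 1 _⟩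
    have e1 : (Submodule.Quotient.mk (h'.f 1 (H.hom 0 1 (A.d 1 0 x))) : Q1 B) = z b.pt - z a.pt := by
      rw [hdx, map_sub, map_sub, Submodule.Quotient.mk_sub]
    rw [c1, map_add, map_add, Submodule.Quotient.mk_add, Submodule.Quotient.mk_add, e1, e2]
    abel
  · show -z (f.f 0 a'.pt) = 0
    rw [neg_eq_zero]
    show Submodule.Quotient.mk (h'.f 1 (H.hom 0 1 (f.f 0 a'.pt))) = 0
    rw [show H.hom 0 1 (f.f 0 a'.pt) = 0 from congr($(hH 0 1) a'.pt), map_zero, Submodule.Quotient.mk_zero]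

end Groth.Agent.S16331
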