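import Groth.Statements.S16332
import Groth.Agent.FreeQis.Tensor
-- import your own Groth.Agent.* helpers here

set_option autoImplicit false
universe v
open CategoryTheory MonoidalCategory
open W4c3biextchow

namespace Groth.Agent.S16332

open Groth.Agent.FreeQis HomologicalComplex CategoryTheory.Limits

section
variable {R : Type v} [CommRing R]

theorem subsingleton_tensor (A Z : ModuleCat.{v} R) (hZ : IsZero Z) (x : (A ⊗ Z : ModuleCat R)) :
    x = 0 := by
  have : Subsingleton Z := ModuleCat.subsingleton_of_isZero hZ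
  induction x using TensorProduct.induction_on with
  | zero => rfl
  | tmul a z => rw [Subsingleton.elim z 0, TensorProduct.tmul_zero]
  | add x y hx hy => erw [hx, hy]; exact add_zero _

variable {P : ChainComplex (ModuleCat.{v} R) ℕ} {G : ModuleCat.{v} R}
  (π : P ⟶ (ChainComplex.single₀ (ModuleCat.{v} R)).obj G) [QuasiIso π]

theorem π_surjective : Function.Surjective (π.f 0) := by
  intro x
  have h : Epi (homologyMap π 0) := inferInstance
  rw [epi_homologyMap_iff (r := 1) (q := 0) (by simp) (by simp)] at h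
  obtain ⟨y, -, v, hv⟩ := h x (by simp; rfl)
  refine ⟨y, sub_eq_zero.mp (hv.symm.trans ?_)⟩
  simp; rfl

theorem exact_zero : Function.Exact (P.d 1 0).hom (π.f 0).hom := by
  intro y
  constructor
  · intro hy
    have h : Mono (homologyMap π 0) := inferInstance
    rw [mono_homologyMap_iff (r := 1) (q := 0) (by simp) (by simp)] at h
    exact h y (by simp) ⟨0, by rw [map_zero]; exact hy.symm⟩
  · rintro ⟨x, rfl⟩
    exact (comm_apply π 1 0 x).symm.trans (by simp; rfl)

include π in
theorem exact_one : Function.Exact (P.d 2 1).hom (P.d 1 0).hom := by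
  intro y
  constructor
  · intro hy
    have h : Mono (homologyMap π 1) := inferInstance
    rw [mono_homologyMap_iff (r := 2) (q := 0) (by simp) (by simp)] at h
    have : Subsingleton (((ChainComplex.single₀ (ModuleCat.{v} R)).obj G).X 1) :=
      ModuleCat.subsingleton_of_isZero (isZero_single_obj_X _ _ _ _ one_ne_zero)
    exact h y hy ⟨0, Subsingleton.elim _ _⟩
  · rintro ⟨x, rfl⟩
    exact d_d_apply 2 1 0 x

end


/-- Let R be a commutative ring, C an ℕ-indexed chain complex of R-modules whose degree-0 term C_0 is a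
free R-module, G an R-module, and π : P ⟶ G[0] a quasi-isomorphism from an ℕ-indexed chain complex P
of free R-modules onto G placed in degree 0 (a free resolution of G), so that the tensor product of
complexes C ⊗ P represents the derived tensor product of C and G. Then the map induced by π on first
homology, H_1(C ⊗ P) → H_1(C ⊗ G[0]), is an isomorphism: in degree 1 the derived and the plain
tensor product with G have the same homology. (The published statement is over the integers, for
complexes vanishing in negative degrees with C_0 free abelian; this row allows any commutative ring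
R and R-modules in the same universe as R.) -/
theorem result
    (R : Type v) [CommRing R] (C P : ChainComplex (ModuleCat.{v} R) ℕ) (G : ModuleCat.{v} R)
    [Module.Free R (C.X 0)] [∀ q, Module.Free R (P.X q)]
    (π : P ⟶ (ChainComplex.single₀ (ModuleCat.{v} R)).obj G) [QuasiIso π] :
    IsIso (HomologicalComplex.homologyMap (C ◁ π) 1) := by
  let S := (ChainComplex.single₀ (ModuleCat.{v} R)).obj G
  have hZ : ∀ n, n ≠ 0 → IsZero (S.X n) := fun n hn => isZero_single_obj_X _ _ _ _ hn
  have hs : ∀ n, Function.Surjective ((C.X n) ◁ π.f 0) := fun n =>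
    LinearMap.lTensor_surjective _ (π_surjective π)
  have hx0 : ∀ n, Function.Exact ((C.X n) ◁ P.d 1 0) ((C.X n) ◁ π.f 0) := fun n =>
    lTensor_exact _ (exact_zero π) (π_surjective π)
  have hx1 : Function.Exact ((C.X 0) ◁ P.d 2 1) ((C.X 0) ◁ P.d 1 0) :=
    Module.Flat.lTensor_exact _ (exact_one π)
  have hzero : ∀ i j n (h : i + j = n), j ≠ 0 → ∀ x, tι C S i j n h x = 0 := fun i j n h hj x => by
    rw [subsingleton_tensor _ _ (hZ j hj) x, map_zero]
  have hm : ∀ i j n (h : i + j = n) x, (C ◁ π).f n (tι C P i j n h x) =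
      tι C S i j n h ((C.X i ◁ π.f j) x) := fun i j n h x => congr($(ι_map C P π i j n h) x)
  have hd01 : ∀ a, (C ⊗ P).d 1 0 (tι C P 0 1 1 rfl a) = tι C P 0 0 0 rfl ((C.X 0 ◁ P.d 1 0) a) :=
    fun a => congr($(d_ι_left C P 0) a)
  have hd10 : ∀ (Q : ChainComplex (ModuleCat.{v} R) ℕ) w, (C ⊗ Q).d 1 0 (tι C Q 1 0 1 rfl w) =
      tι C Q 0 0 0 rfl ((C.d 1 0 ▷ Q.X 0) w) := fun Q w => congr($(d_ι_right C Q 0) w)
  have hd20 : ∀ (Q : ChainComplex (ModuleCat.{v} R) ℕ) w, (C ⊗ Q).d 2 1 (tι C Q 2 0 2 rfl w) =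
      tι C Q 1 0 1 rfl ((C.d 2 1 ▷ Q.X 0) w) := fun Q w => congr($(d_ι_right C Q 1) w)
  have : Mono (homologyMap (C ◁ π) 1) := by
    rw [mono_homologyMap_iff (r := 2) (q := 0) (by simp) (by simp)]
    intro y hy hmem
    obtain ⟨a, w, rfl⟩ := exists_decomp C P y
    obtain ⟨v, hv⟩ := hmem
    obtain ⟨u, hu⟩ : ∃ u, (C ⊗ S).d 2 1 (tι C S 2 0 2 rfl u) = (C ⊗ S).d 2 1 v := by
      have : 𝟙 ((C ⊗ S).X 2) = mapBifunctorDesc (fun i j h =>
          if hi : i = 2 ∧ j = 0 then eqToHom (by obtain ⟨rfl, rfl⟩ := hi; rfl) else 0) ≫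
          tι C S 2 0 2 rfl := by
        refine mapBifunctor.hom_ext fun i j (h : i + j = 2) => ?_
        by_cases hj : j = 0
        · obtain ⟨rfl, rfl⟩ : i = 2 ∧ j = 0 := ⟨by omega, hj⟩
          simp; exact Category.comp_id _
        · ext x
          rw [subsingleton_tensor _ _ (hZ j hj) x]; simp
      exact ⟨_, congrArg _ (congr($this v)).symm⟩
    obtain ⟨u', rfl⟩ := hs 2 u
    replace hv := hu.trans hv
    rw [hd20, map_add, hm, hm, hzero 0 1 1 rfl one_ne_zero, zero_add] at hv
    have hw : (C.X 1 ◁ π.f 0) (w - (C.d 2 1 ▷ P.X 0) u') = 0 := by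
      rw [map_sub, ← ι10_injective C S hv, sub_eq_zero]
      exact congr($(whisker_exchange (C.d 2 1) (π.f 0)) u')
    obtain ⟨s, hs⟩ := (hx0 1 _).mp hw
    have h11 : (C ⊗ P).d 2 1 (tι C P 1 1 2 rfl s) =
        tι C P 0 1 1 rfl ((C.d 1 0 ▷ P.X 1) s) - tι C P 1 0 1 rfl ((C.X 1 ◁ P.d 1 0) s) :=
      congr($(d_ι11 C P) s)
    have e : tι C P 0 1 1 rfl a + tι C P 1 0 1 rfl w =
        tι C P 0 1 1 rfl (a + (C.d 1 0 ▷ P.X 1) s) +
          (C ⊗ P).d 2 1 (tι C P 2 0 2 rfl u' - tι C P 1 1 2 rfl s) := by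
      rw [map_sub, hd20, h11, hs, map_add, map_sub]; abel
    rw [e, map_add, d_d_apply, add_zero, hd01] at hy
    obtain ⟨t, ht⟩ := (hx1 _).mp (ι00_injective C P (hy.trans (map_zero _).symm))
    have h02 : (C ⊗ P).d 2 1 (tι C P 0 2 2 rfl t) = tι C P 0 1 1 rfl ((C.X 0 ◁ P.d 2 1) t) :=
      congr($(d_ι_left C P 1) t)
    exact ⟨_, (by rw [e, ← ht, ← h02, ← map_add] : _ = _).symm⟩
  have : Epi (homologyMap (C ◁ π) 1) := by
    rw [epi_homologyMap_iff (r := 2) (q := 0) (by simp) (by simp)]
    intro x hx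
    obtain ⟨a, y, rfl⟩ := exists_decomp C S x
    rw [hzero 0 1 1 rfl one_ne_zero, zero_add] at hx ⊢
    obtain ⟨w, rfl⟩ := hs 1 y
    rw [hd10] at hx
    have hw : (C.X 0 ◁ π.f 0) ((C.d 1 0 ▷ P.X 0) w) = 0 := by
      refine Eq.trans ?_ (ι00_injective C S (hx.trans (map_zero _).symm))
      exact congr($(whisker_exchange (C.d 1 0) (π.f 0)) w).symm
    obtain ⟨a', ha⟩ := (hx0 0 _).mp hw
    refine ⟨tι C P 1 0 1 rfl w - tι C P 0 1 1 rfl a', ?_, ?_⟩
    · rw [map_sub, hd10, hd01, ha, sub_self]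
    · rw [map_sub, hm, hm, hzero 0 1 1 rfl one_ne_zero, sub_zero, sub_self]
      exact zero_mem _
  exact isIso_of_mono_of_epi _

end Groth.Agent.S16332
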