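import Mathlib
import Groth.Statements.S16335
-- import your own Groth.Agent.* helpers here

set_option autoImplicit false
universe u v w w'
open TensorProduct
open InvTh

namespace Groth.Agent.S16335

/-- Let `R` be a commutative ring with an action of a finite group `Γ` by ring automorphisms such that
the order of `Γ` is invertible in `R`, and let `A → R` be injective with image exactly the
invariants `R^Γ`, the action being `A`-linear. Then for every commutative `A`-algebra `S`, with `Γ`
acting on `S ⊗_A R` through the factor `R`, the map `S → S ⊗_A R`, `s ↦ s ⊗ 1`, is injective and its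
image is exactly the set of `Γ`-fixed elements: `S ≅ (S ⊗_A R)^Γ`. No flatness of `S` over `A` is
assumed; the invertibility of the order of `Γ` replaces it. This is the affine statement that for a
tame quotient the coarse space commutes with arbitrary base change. (The published lemma is the
statement that the coarse moduli space of a tame Deligne–Mumford stack commutes with arbitrary base
change, whose proof reduces to this ring statement. The published lemma also asserts the analogous
statement for the reduced fibre product when the base-change scheme is reduced; that clause is not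
part of this row.) -/
theorem result
    (A : Type u) [CommRing A] (R : Type v) [CommRing R] [Algebra A R]
    (Γ : Type w) [Group Γ] [Finite Γ] [MulSemiringAction Γ R] [SMulCommClass Γ A R]
    [Algebra.IsInvariant A R Γ] (hinj : Function.Injective (algebraMap A R))
    (hΓ : IsUnit (Nat.card Γ : R))
    (S : Type w') [CommRing S] [Algebra A S] :
    Function.Injective (fun s : S => s ⊗ₜ[A] (1 : R)) ∧
      ∀ x : S ⊗[A] R,
        (∀ γ : Γ, Algebra.TensorProduct.map (AlgHom.id A S) (MulSemiringAction.toAlgHom A R γ) x = x) →
          x ∈ Set.range (fun s : S => s ⊗ₜ[A] (1 : R)) := by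
  classical
  haveI : Fintype Γ := Fintype.ofFinite _
  rw [Nat.card_eq_fintype_card] at hΓ
  have hfix : ∀ r : R, ∃ a : A, algebraMap A R a = ∑ γ : Γ, γ • r := fun r =>
    Algebra.IsInvariant.isInvariant (A := A) (G := Γ) _ fun g => by
      rw [Finset.smul_sum]
      exact Fintype.sum_equiv (Equiv.mulLeft g) _ _ fun γ => (mul_smul g γ r).symm
  choose T0 hT0 using hfix
  let T : R →ₗ[A] A :=
    { toFun := T0
      map_add' := fun r s => hinj (by simp only [map_add, hT0, smul_add, Finset.sum_add_distrib])
      map_smul' := fun c r => hinj (by simp only [hT0, RingHom.id_apply, smul_eq_mul, map_mul, Finset.mul_sum]; exact Finset.sum_congr rfl fun γ _ => by rw [smul_comm, Algebra.smul_def]) }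
  have hN : ∃ c : A, c * (Fintype.card Γ : A) = 1 := by
    obtain ⟨d, hd⟩ := hΓ.exists_left_inv
    obtain ⟨c, hc⟩ := Algebra.IsInvariant.isInvariant (A := A) (G := Γ) d fun g => by
      have h := congrArg (g • ·) hd
      simp only [smul_mul', smul_one] at h
      rw [show g • (Fintype.card Γ : R) = Fintype.card Γ from map_natCast (MulSemiringAction.toRingHom Γ R g) _] at h
      exact hΓ.mul_left_injective (h.trans hd.symm)
    exact ⟨c, hinj (by rw [map_mul, hc, map_natCast, hd, map_one])⟩
  obtain ⟨c, hc⟩ := hN
  have hT1 : T 1 = (Fintype.card Γ : A) := hinj (by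
    show algebraMap A R (T0 1) = _
    rw [hT0]; simp)
  let ε : S ⊗[A] R →ₗ[A] S := (TensorProduct.rid A S).toLinearMap.comp (T.lTensor S)
  have hε : ∀ s : S, ε (s ⊗ₜ 1) = (Fintype.card Γ : A) • s := fun s => by simp [ε, hT1]
  refine ⟨fun s t h => ?_, fun x hx => ⟨c • ε x, ?_⟩⟩
  · have := congrArg (fun z => c • ε z) h
    simpa [hε, smul_smul, hc] using this
  · have hsum : ∀ z : S ⊗[A] R, (∑ γ : Γ, Algebra.TensorProduct.map (AlgHom.id A S) (MulSemiringAction.toAlgHom A R γ) z) = ε z ⊗ₜ[A] (1 : R) := by
      intro z
      induction z using TensorProduct.induction_on with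
      | zero => simp
      | add u v hu hv => simp only [map_add, Finset.sum_add_distrib, hu, hv, TensorProduct.add_tmul]
      | tmul s r =>
        simp only [Algebra.TensorProduct.map_tmul, AlgHom.id_apply, ← TensorProduct.tmul_sum]
        show s ⊗ₜ[A] (∑ γ : Γ, γ • r) = _
        rw [← hT0 r, Algebra.algebraMap_eq_smul_one, TensorProduct.tmul_smul, TensorProduct.smul_tmul']
        simp [ε, T]
    have h := hsum x
    simp only [hx, Finset.sum_const, Finset.card_univ, ← Nat.cast_smul_eq_nsmul A] at h
    show (c • ε x) ⊗ₜ[A] (1 : R) = x
    rw [← TensorProduct.smul_tmul', ← h, smul_smul, hc, one_smul]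

end Groth.Agent.S16335
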