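import Mathlib
import Groth.Statements.S16337
-- import your own Groth.Agent.* helpers here

set_option autoImplicit false
universe u v w
open InvTh

namespace Groth.Agent.S16337

/-- Let `A` be a commutative ring, `Γ` a finite group whose order is invertible in `A`, `M` an
`A`-module with an `A`-linear action of `Γ`, and `I` an ideal of `A`. Then reduction modulo `I`
induces a bijection `M^Γ / I·M^Γ ≅ (M / IM)^Γ`: (a) an element of `M` fixed by `Γ` modulo `IM` is
congruent modulo `IM` to a `Γ`-fixed element, and (b) a `Γ`-fixed element lying in `IM` lies in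
`I·M^Γ`, where `M^Γ` is the submodule of `Γ`-fixed elements. (The published lemma says that
push-forward to the coarse space of a tame stack over a complete local base commutes with reduction
modulo powers of the maximal ideal; this row is the module statement its proof establishes, for an
arbitrary ideal.) -/
theorem result
    (A : Type u) [CommRing A] (Γ : Type v) [Group Γ] [Finite Γ] (hΓ : IsUnit (Nat.card Γ : A))
    (M : Type w) [AddCommGroup M] [Module A M] [DistribMulAction Γ M] [SMulCommClass Γ A M]
    (I : Ideal A) :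
    (∀ x : M, (∀ γ : Γ, γ • x - x ∈ I • (⊤ : Submodule A M)) →
        ∃ y : M, (∀ γ : Γ, γ • y = y) ∧ x - y ∈ I • (⊤ : Submodule A M)) ∧
      ∀ y : M, (∀ γ : Γ, γ • y = y) → y ∈ I • (⊤ : Submodule A M) →
        y ∈ I • Submodule.span A {m : M | ∀ γ : Γ, γ • m = m} := by
  classical
  have := Fintype.ofFinite Γ
  rw [Nat.card_eq_fintype_card] at hΓ
  obtain ⟨c, hc⟩ := hΓ.exists_left_inv
  set E : M →ₗ[A] M := c • ∑ γ : Γ, DistribSMul.toLinearMap A M γ with hE
  have hEx : ∀ x, E x = c • ∑ γ : Γ, γ • x := fun x => by simp [hE, LinearMap.sum_apply]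
  have hinv : ∀ x, ∀ γ : Γ, γ • E x = E x := by
    intro x γ
    rw [hEx, smul_comm, Finset.smul_sum]
    congr 1
    exact Fintype.sum_equiv (Equiv.mulLeft γ) _ _ fun δ => by simp [mul_smul]
  have hconst : ∀ x : M, c • ∑ _γ : Γ, x = x := fun x => by
    rw [Finset.sum_const, Finset.card_univ, ← Nat.cast_smul_eq_nsmul A, smul_smul, hc, one_smul]
  refine ⟨fun x hx => ⟨E x, hinv x, ?_⟩, fun y hy hyI => ?_⟩
  · rw [← neg_sub, hEx]
    nth_rewrite 2 [← hconst x]
    rw [← smul_sub, ← Finset.sum_sub_distrib]
    exact Submodule.neg_mem _ (Submodule.smul_mem _ _ (Submodule.sum_mem _ fun γ _ => hx γ))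
  · have hyE : E y = y := by
      rw [hEx, Finset.sum_congr rfl fun γ _ => hy γ, hconst]
    have h1 : Submodule.map E (I • (⊤ : Submodule A M)) ≤
        I • Submodule.span A {m : M | ∀ γ : Γ, γ • m = m} := by
      rw [Submodule.map_smul'']
      refine Submodule.smul_mono le_rfl ?_
      rintro _ ⟨x, -, rfl⟩
      exact Submodule.subset_span (hinv x)
    rw [← hyE]
    exact h1 ⟨y, hyI, rfl⟩

end Groth.Agent.S16337
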