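import Mathlib
import Groth.Statements.S16343
-- import your own Groth.Agent.* helpers here

set_option autoImplicit false
open KatoHom

namespace Groth.Agent.S16343

/-- Let P be a set of primes and π : A → T a surjection of abelian groups whose kernel is ℓ-divisible
for every ℓ ∈ P, with T a torsion group; let T(P) be the subgroup of elements of T killed by a
positive integer all of whose prime factors lie in P, and T' the subgroup of elements killed by a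
positive integer none of whose prime factors lies in P. Then the preimage π⁻¹(T') is ℓ-divisible for
every ℓ ∈ P, and π has a section s over T(P) for which (d, t) ↦ d + s(t) is a bijection from π⁻¹(T')
× T(P) onto A, so that A is the direct sum of π⁻¹(T') and a copy of T(P). (The decomposition is
expressed through a section of π over T(P).) -/
theorem result
    {A T : Type*} [AddCommGroup A] [AddCommGroup T] (P : Set ℕ) (hP : ∀ p ∈ P, p.Prime)
    (π : A →+ T) (hπ : Function.Surjective π) (hT : ∀ t : T, ∃ n : ℕ, 0 < n ∧ n • t = 0)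
    (hD : ∀ ℓ ∈ P, ∀ x ∈ π.ker, ∃ y ∈ π.ker, ℓ • y = x)
    (TP T' : AddSubgroup T)
    (hTP : ∀ t, t ∈ TP ↔ ∃ n : ℕ, 0 < n ∧ (∀ p : ℕ, p.Prime → p ∣ n → p ∈ P) ∧ n • t = 0)
    (hT' : ∀ t, t ∈ T' ↔ ∃ n : ℕ, 0 < n ∧ (∀ p : ℕ, p.Prime → p ∣ n → p ∉ P) ∧ n • t = 0) :
    (∀ ℓ ∈ P, ∀ x ∈ T'.comap π, ∃ y ∈ T'.comap π, ℓ • y = x) ∧
    ∃ s : TP →+ A, (∀ t : TP, π (s t) = (t : T)) ∧
      Function.Bijective (fun q : (T'.comap π) × TP => (q.1 : A) + s q.2) := by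
  classical
  have hcop : ∀ n m : ℕ, (∀ q : ℕ, q.Prime → q ∣ n → q ∈ P) → (∀ q : ℕ, q.Prime → q ∣ m → q ∉ P) → Nat.Coprime n m :=
    fun n m hn hm => Nat.coprime_of_dvd fun q hq h1 h2 => hm q hq h2 (hn q hq h1)
  have hdiv : ∀ n : ℕ, 0 < n → (∀ q : ℕ, q.Prime → q ∣ n → q ∈ P) → ∀ x ∈ π.ker, ∃ y ∈ π.ker, n • y = x := by
    intro n
    induction n using Nat.recOnMul with
    | zero => intro h; omega
    | one => intro _ _ x hx; exact ⟨x, hx, one_smul ℕ x⟩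
    | prime q hq => intro _ h x hx; exact hD q (h q hq dvd_rfl) x hx
    | mul u v hu hv =>
      intro h huv x hx
      obtain ⟨y, hy, rfl⟩ := hu (Nat.pos_of_mul_pos_right h) (fun q hq hd => huv q hq (hd.mul_right _)) x hx
      obtain ⟨z, hz, rfl⟩ := hv (Nat.pos_of_mul_pos_left h) (fun q hq hd => huv q hq (hd.mul_left _)) y hy
      exact ⟨z, hz, mul_smul u v z⟩
  have hsplit : ∀ n : ℕ, 0 < n → ∃ u v : ℕ, n = u * v ∧ (∀ q : ℕ, q.Prime → q ∣ u → q ∈ P) ∧ (∀ q : ℕ, q.Prime → q ∣ v → q ∉ P) := by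
    intro n
    induction n using Nat.recOnMul with
    | zero => intro h; omega
    | one => intro _; exact ⟨1, 1, rfl, fun q hq h => absurd h hq.not_dvd_one, fun q hq h => absurd h hq.not_dvd_one⟩
    | prime q hq =>
      intro _
      by_cases hqP : q ∈ P
      · exact ⟨q, 1, (mul_one q).symm, fun p' hp' h => ((Nat.prime_dvd_prime_iff_eq hp' hq).1 h) ▸ hqP, fun p' hp' h => absurd h hp'.not_dvd_one⟩
      · exact ⟨1, q, (one_mul q).symm, fun p' hp' h => absurd h hp'.not_dvd_one, fun p' hp' h => ((Nat.prime_dvd_prime_iff_eq hp' hq).1 h) ▸ hqP⟩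
    | mul x y hx hy =>
      intro h
      obtain ⟨u, v, rfl, hu, hv⟩ := hx (Nat.pos_of_mul_pos_right h)
      obtain ⟨u', v', rfl, hu', hv'⟩ := hy (Nat.pos_of_mul_pos_left h)
      exact ⟨u * u', v * v', by ring, fun q hq hd => (hq.dvd_mul.1 hd).elim (hu q hq) (hu' q hq),
        fun q hq hd => (hq.dvd_mul.1 hd).elim (hv q hq) (hv' q hq)⟩
  have hT'div : ∀ ℓ ∈ P, ∀ x ∈ T'.comap π, ∃ y ∈ T'.comap π, ℓ • y = x := by
    intro ℓ hℓ x hx
    obtain ⟨n, hn, hnP, hnx⟩ := (hT' (π x)).1 hx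
    have hc : Nat.Coprime ℓ n := hcop ℓ n (fun q hq hd => ((Nat.prime_dvd_prime_iff_eq hq (hP ℓ hℓ)).1 hd) ▸ hℓ) hnP
    obtain ⟨u, v, huv⟩ := Int.isCoprime_iff_gcd_eq_one.2 (by exact_mod_cast hc : Int.gcd (ℓ : ℤ) (n : ℤ) = 1)
    obtain ⟨a₀, ha₀⟩ := hπ (u • π x)
    have h1 : ℓ • π a₀ = π x := by
      rw [ha₀, ← natCast_zsmul, smul_smul]
      calc ((ℓ : ℤ) * u) • π x = ((ℓ : ℤ) * u) • π x + v • ((n : ℤ) • π x) := by rw [natCast_zsmul, hnx, smul_zero, add_zero]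
        _ = π x := by rw [smul_smul, ← add_smul, mul_comm (ℓ : ℤ), huv, one_smul]
    obtain ⟨y, hy, hy'⟩ := hD ℓ hℓ (x - ℓ • a₀) (by rw [AddMonoidHom.mem_ker, map_sub, map_nsmul, h1, sub_self])
    refine ⟨y + a₀, ?_, by rw [smul_add, hy', sub_add_cancel]⟩
    show π (y + a₀) ∈ T'
    rw [map_add, (AddMonoidHom.mem_ker).1 hy, zero_add, ha₀]
    exact T'.zsmul_mem hx u
  refine ⟨hT'div, ?_⟩
  let AP : AddSubgroup A :=
    { carrier := {a | ∃ n : ℕ, 0 < n ∧ (∀ q : ℕ, q.Prime → q ∣ n → q ∈ P) ∧ n • a = 0}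
      zero_mem' := ⟨1, one_pos, fun q hq h => absurd h hq.not_dvd_one, smul_zero _⟩
      add_mem' := by
        rintro a b ⟨n, hn, hnP, hna⟩ ⟨m, hm, hmP, hmb⟩
        refine ⟨n * m, Nat.mul_pos hn hm, fun q hq hd => (hq.dvd_mul.1 hd).elim (hnP q hq) (hmP q hq), ?_⟩
        rw [smul_add, mul_smul, mul_smul, hmb, smul_zero, add_zero, smul_comm, hna, smul_zero]
      neg_mem' := by
        rintro a ⟨n, hn, hnP, hna⟩
        exact ⟨n, hn, hnP, by rw [smul_neg, hna, neg_zero]⟩ }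
  let K : AddSubgroup A := AP ⊓ π.ker
  have hKdiv : ∀ {n : ℤ}, n ≠ 0 → Function.Surjective (fun y : K => n • y) := by
    intro n hn
    rintro ⟨x, ⟨m, hm, hmP, hmx⟩, hxk⟩
    obtain ⟨u, v, huv, hu, hv⟩ := hsplit n.natAbs (Int.natAbs_pos.2 hn)
    have hv0 : 0 < v := Nat.pos_of_mul_pos_left (huv ▸ Int.natAbs_pos.2 hn)
    have hu0 : 0 < u := Nat.pos_of_mul_pos_right (huv ▸ Int.natAbs_pos.2 hn)
    obtain ⟨z, hz, hzx⟩ := hdiv u hu0 hu x hxk
    obtain ⟨α, β, hαβ⟩ := Int.isCoprime_iff_gcd_eq_one.2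
      (by exact_mod_cast (hcop (m * u) v (fun q hq hd => (hq.dvd_mul.1 hd).elim (hmP q hq) (hu q hq)) hv) : Int.gcd ((m * u : ℕ) : ℤ) (v : ℤ) = 1)
    have hmz : (m * u) • z = 0 := by rw [mul_smul, hzx, hmx]
    have hvz : (v : ℤ) • (β • z) = z := by
      rw [smul_smul]
      calc ((v : ℤ) * β) • z = α • (((m * u : ℕ) : ℤ) • z) + ((v : ℤ) * β) • z := by rw [natCast_zsmul, hmz, smul_zero, zero_add]
        _ = z := by rw [smul_smul, ← add_smul, mul_comm (v : ℤ), hαβ, one_smul]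
    have hzK : z ∈ K := ⟨⟨m * u, Nat.mul_pos hm hu0, fun q hq hd => (hq.dvd_mul.1 hd).elim (hmP q hq) (hu q hq), hmz⟩, hz⟩
    refine ⟨n.sign • β • (⟨z, hzK⟩ : K), Subtype.ext ?_⟩
    show n • n.sign • β • z = x
    rw [smul_smul, mul_comm, Int.sign_mul_self_eq_natAbs, huv, Nat.cast_mul, mul_smul, hvz, natCast_zsmul, hzx]
  have : DivisibleBy K ℤ := divisibleByOfSMulRightSurj K ℤ hKdiv
  let πP : AP →+ TP := (π.comp AP.subtype).codRestrict TP (by
    rintro ⟨a, n, hn, hnP, hna⟩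
    refine (hTP _).2 ⟨n, hn, hnP, ?_⟩
    show n • π a = 0
    rw [← map_nsmul, hna, map_zero])
  have hπP : Function.Surjective πP := by
    rintro ⟨t, ht⟩
    obtain ⟨n, hn, hnP, hnt⟩ := (hTP t).1 ht
    obtain ⟨a, rfl⟩ := hπ t
    obtain ⟨y, hy, hy'⟩ := hdiv n hn hnP (n • a) (by rw [AddMonoidHom.mem_ker, map_nsmul, hnt])
    refine ⟨⟨a - y, n, hn, hnP, by rw [smul_sub, hy', sub_self]⟩, Subtype.ext ?_⟩
    show π (a - y) = π a
    rw [map_sub, (AddMonoidHom.mem_ker).1 hy, sub_zero]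
  let ι : K →+ AP := AddSubgroup.inclusion (inf_le_left : K ≤ AP)
  have hι : Function.Injective ι.toIntLinearMap := AddSubgroup.inclusion_injective (inf_le_left : K ≤ AP)
  obtain ⟨r, hr⟩ := (Module.Baer.of_divisible K).extension_property ι.toIntLinearMap hι LinearMap.id
  let q : AP →+ AP := AddMonoidHom.id AP - ι.comp r.toAddMonoidHom
  have hq : ∀ a : AP, πP a = 0 → q a = 0 := by
    intro a ha
    have haK : (a : A) ∈ K := ⟨a.2, congrArg Subtype.val ha⟩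
    have h1 : r (ι ⟨a, haK⟩) = ⟨a, haK⟩ := LinearMap.congr_fun hr ⟨a, haK⟩
    have h2 : ι ⟨a, haK⟩ = a := rfl
    show a - ι (r a) = 0
    rw [← h2, h1, sub_self]
  let s0 : TP →+ AP := AddMonoidHom.liftOfRightInverse πP (Function.surjInv hπP) (Function.rightInverse_surjInv hπP) ⟨q, hq⟩
  have hs0 : ∀ a, s0 (πP a) = q a := fun a => AddMonoidHom.liftOfRightInverse_comp_apply πP _ _ ⟨q, hq⟩ a
  refine ⟨AP.subtype.comp s0, fun t => ?_, ?_, ?_⟩
  · obtain ⟨a, rfl⟩ := hπP t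
    show π (s0 (πP a) : A) = _
    rw [hs0]
    show π ((a : A) - (r a : A)) = π (a : A)
    rw [map_sub, (AddMonoidHom.mem_ker).1 (r a).2.2, sub_zero]
  · have hsec : ∀ t : TP, π (s0 t : A) = t := by
      intro t
      obtain ⟨a, rfl⟩ := hπP t
      rw [hs0]
      show π ((a : A) - (r a : A)) = π (a : A)
      rw [map_sub, (AddMonoidHom.mem_ker).1 (r a).2.2, sub_zero]
    rintro ⟨⟨d₁, hd₁⟩, t₁⟩ ⟨⟨d₂, hd₂⟩, t₂⟩ heq
    have heq' : d₁ + (s0 t₁ : A) = d₂ + (s0 t₂ : A) := heq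
    have h1 : ((t₁ - t₂ : TP) : T) ∈ T' := by
      have h2 := congrArg π heq'
      rw [map_add, map_add, hsec, hsec] at h2
      have : ((t₁ - t₂ : TP) : T) = π d₂ - π d₁ := by
        rw [AddSubgroup.coe_sub, sub_eq_sub_iff_add_eq_add, add_comm, h2, add_comm]
      rw [this]
      exact T'.sub_mem hd₂ hd₁
    obtain ⟨n, hn, hnP, hn0⟩ := (hT' _).1 h1
    obtain ⟨m, hm, hmP, hm0⟩ := (hTP _).1 (t₁ - t₂).2
    have h3 : addOrderOf ((t₁ - t₂ : TP) : T) = 1 := Nat.eq_one_of_dvd_coprimes (hcop m n hmP hnP)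
      (addOrderOf_dvd_of_nsmul_eq_zero hm0) (addOrderOf_dvd_of_nsmul_eq_zero hn0)
    rw [AddMonoid.addOrderOf_eq_one_iff, ZeroMemClass.coe_eq_zero, sub_eq_zero] at h3
    subst h3
    have : d₁ = d₂ := add_right_cancel heq'
    subst this
    rfl
  · intro a
    obtain ⟨n, hn, hna⟩ := hT (π a)
    obtain ⟨u, v, rfl, hu, hv⟩ := hsplit n hn
    obtain ⟨α, β, hαβ⟩ := Int.isCoprime_iff_gcd_eq_one.2 (by exact_mod_cast (hcop u v hu hv) : Int.gcd (u : ℤ) (v : ℤ) = 1)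
    have ht : (β * v) • π a ∈ TP := by
      refine (hTP _).2 ⟨u, Nat.pos_of_mul_pos_right hn, hu, ?_⟩
      rw [← natCast_zsmul, smul_smul, ← mul_assoc, mul_comm (u : ℤ), mul_assoc, mul_smul, ← Nat.cast_mul, natCast_zsmul, hna, smul_zero]
    obtain ⟨a₁, ha₁⟩ := hπP ⟨_, ht⟩
    have hsec : π (s0 (πP a₁) : A) = (β * v) • π a := by
      rw [hs0]
      show π ((a₁ : A) - (r a₁ : A)) = _
      rw [map_sub, (AddMonoidHom.mem_ker).1 (r a₁).2.2, sub_zero]
      exact congrArg Subtype.val ha₁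
    refine ⟨(⟨a - (s0 (πP a₁) : A), ?_⟩, πP a₁), sub_add_cancel a _⟩
    show π (a - (s0 (πP a₁) : A)) ∈ T'
    rw [map_sub, hsec]
    refine (hT' _).2 ⟨v, Nat.pos_of_mul_pos_left hn, hv, ?_⟩
    have e : π a - (β * v) • π a = (α * u) • π a := by
      conv_lhs => arg 1; rw [← one_smul ℤ (π a), ← hαβ, add_smul]
      abel
    rw [e, ← natCast_zsmul, smul_smul, ← mul_assoc, mul_comm (v : ℤ), mul_assoc, mul_smul, ← Nat.cast_mul, mul_comm v u, natCast_zsmul, hna, smul_zero]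

end Groth.Agent.S16343
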