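import Groth.Statements.S16345
import Groth.Agent.ConnDiv.Main
import Groth.Agent.ConnDiv.Normality

set_option autoImplicit false
set_option backward.isDefEq.respectTransparency false
universe u
open KatoHom

namespace Groth.Agent.S16345

open AlgebraicGeometry CategoryTheory in
/-- Let X be a connected scheme, proper and smooth of relative dimension d ≥ 2 over a field L, and let D
⊆ X be a closed subscheme, smooth of relative dimension d − 1 over L (a smooth divisor), whose
complement in X is an affine open subset. Then D is connected (in particular non-empty). -/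
theorem result
    {L : Type u} [Field L] {X D : Scheme.{u}} (f : X ⟶ Spec (CommRingCat.of L)) (i : D ⟶ X)
    [IsProper f] (d : ℕ) (hd : 1 < d) [SmoothOfRelativeDimension d f]
    [IsClosedImmersion i] [SmoothOfRelativeDimension (d - 1) (i ≫ f)]
    [ConnectedSpace X] (U : X.Opens) (hU : IsAffineOpen U)
    (hDU : Set.range i.base = (U : Set X)ᶜ) : ConnectedSpace D := by
  haveI : Smooth f := SmoothOfRelativeDimension.smooth d f
  haveI : IsLocallyNoetherian X := LocallyOfFiniteType.isLocallyNoetherian f
  haveI : CompactSpace X := QuasiCompact.compactSpace_of_compactSpace f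
  haveI := Groth.Agent.ConnDiv.irreducibleSpace_of_isDomain_stalk X
    (Groth.Agent.ConnDiv.isDomain_stalk_of_smooth f)
  obtain ⟨x⟩ := (inferInstance : Nonempty X)
  have hdim : (2 : WithBot ℕ∞) ≤ topologicalKrullDim X :=
    le_trans (by exact_mod_cast hd) (Groth.Agent.ConnDiv.le_topologicalKrullDim_of_smoothOfRelativeDimension f d x)
  have hc : IsConnected ((U : Set X)ᶜ) := by
    by_cases hne : (U : Set X).Nonempty
    · exact Groth.Agent.ConnDiv.isConnected_compl_affineOpen f hdim hU hne
    · rw [Set.not_nonempty_iff_eq_empty.mp hne, Set.compl_empty]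
      exact isConnected_univ
  rw [← hDU] at hc
  haveI : PreconnectedSpace D := ⟨i.isEmbedding.isInducing.isPreconnected_image.mp
    (by rw [Set.image_univ]; exact hc.2)⟩
  obtain ⟨_, y, rfl⟩ := hc.nonempty
  exact { toNonempty := ⟨y⟩ }
end Groth.Agent.S16345
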