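import Mathlib
import Groth.Statements.S16346
-- import your own Groth.Agent.* helpers here

set_option autoImplicit false
universe u v
open KatoHom

namespace Groth.Agent.S16346

/-- Let P be a set of primes and I_P the set of positive integers all of whose prime factors lie in P.
Let A be an abelian group, (B_n)_{n ∈ I_P} an inverse system of abelian groups with transition maps
B_n → B_m for m ∣ n, and φ_n : A → B_n homomorphisms vanishing on nA and compatible with the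
transition maps, so that they induce φ̂ : Â → B̂ on the limits Â = lim A/nA and B̂ = lim B_n (limits
taken as compatible families). Suppose some N ∈ I_P kills the torsion subgroup of B̂ and kills the
kernel of φ̂ (the latter meaning: a compatible family of residues (a_n) with φ_n(a_n) = 0 for all n
has N a_n ∈ nA for all n). Then the subgroup ⋂_{n ∈ I_P} nA is ℓ-divisible for every ℓ ∈ P, and it
contains every subgroup of A that is ℓ-divisible for all ℓ ∈ P; that is, it is the largest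
P-divisible subgroup of A. -/
theorem result
    {A : Type u} [AddCommGroup A] (P : Set ℕ) (hP : ∀ p ∈ P, p.Prime)
    (IP : Set ℕ) (hIP : ∀ n, n ∈ IP ↔ 0 < n ∧ ∀ p : ℕ, p.Prime → p ∣ n → p ∈ P)
    (B : IP → Type v) [∀ n, AddCommGroup (B n)]
    (g : ∀ ⦃m n : IP⦄, (m : ℕ) ∣ (n : ℕ) → (B n →+ B m))
    (hgid : ∀ (n : IP) (b : B n), g (dvd_refl (n : ℕ)) b = b)
    (hgcomp : ∀ (k m n : IP) (hkm : (k : ℕ) ∣ (m : ℕ)) (hmn : (m : ℕ) ∣ (n : ℕ)) (b : B n),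
      g hkm (g hmn b) = g (hkm.trans hmn) b)
    (φ : ∀ n : IP, A →+ B n) (hφ : ∀ (n : IP) (a : A), φ n ((n : ℕ) • a) = 0)
    (hφg : ∀ (m n : IP) (h : (m : ℕ) ∣ (n : ℕ)) (a : A), g h (φ n a) = φ m a)
    (N : ℕ) (hN : N ∈ IP)
    (htor : ∀ b : ∀ n : IP, B n, (∀ (m n : IP) (h : (m : ℕ) ∣ (n : ℕ)), g h (b n) = b m) →
      (∃ k : ℕ, 0 < k ∧ ∀ n, k • b n = 0) → ∀ n, N • b n = 0)
    (hker : ∀ a : IP → A, (∀ m n : IP, (m : ℕ) ∣ (n : ℕ) → ∃ c : A, a n - a m = (m : ℕ) • c) →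
      (∀ n, φ n (a n) = 0) → ∀ n : IP, ∃ c : A, N • a n = (n : ℕ) • c) :
    (∀ ℓ ∈ P, ∀ x : A, (∀ n ∈ IP, ∃ y : A, x = n • y) →
        ∃ y : A, (∀ n ∈ IP, ∃ z : A, y = n • z) ∧ ℓ • y = x) ∧
    (∀ H : AddSubgroup A, (∀ ℓ ∈ P, ∀ x ∈ H, ∃ y ∈ H, ℓ • y = x) →
        ∀ x ∈ H, ∀ n ∈ IP, ∃ y : A, x = n • y) := by
  have hmul : ∀ {m n : ℕ}, m ∈ IP → n ∈ IP → m * n ∈ IP := fun {m n} hm hn => by
    rw [hIP] at hm hn ⊢
    exact ⟨Nat.mul_pos hm.1 hn.1, fun q hq hd => (hq.dvd_mul.1 hd).elim (hm.2 q hq) (hn.2 q hq)⟩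
  refine ⟨fun ℓ hℓ x hx => ?_, fun H hH x hx n hn => ?_⟩
  · have hl : ℓ ∈ IP := (hIP ℓ).2 ⟨(hP ℓ hℓ).pos, fun q hq hd => by rwa [(Nat.prime_dvd_prime_iff_eq hq (hP ℓ hℓ)).1 hd]⟩
    obtain ⟨z, hz⟩ := hx (ℓ * (N * N)) (hmul hl (hmul hN hN))
    refine ⟨(N * N) • z, fun n hn => ?_, by rw [hz]; simp only [mul_smul]⟩
    have h1 : ∀ k : IP, N • φ k z = 0 := htor (fun k => φ k z) (fun m k h => hφg m k h z)
      ⟨ℓ * (N * N), ((hIP _).1 (hmul hl (hmul hN hN))).1, fun k => by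
        obtain ⟨w, hw⟩ := hx k k.2
        rw [← map_nsmul, ← hz, hw, hφ]⟩
    obtain ⟨c, hc⟩ := hker (fun _ => N • z) (fun m k _ => ⟨0, by simp⟩) (fun k => by rw [map_nsmul]; exact h1 k) ⟨n, hn⟩
    exact ⟨c, by rw [mul_smul]; exact hc⟩
  · suffices ∀ n, n ∈ IP → ∀ x ∈ H, ∃ y ∈ H, x = n • y by
      obtain ⟨y, -, hy⟩ := this n hn x hx
      exact ⟨y, hy⟩
    intro n
    induction n using Nat.strong_induction_on with
    | _ n ih =>
      intro hn x hx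
      rw [hIP] at hn
      by_cases h1 : n = 1
      · exact ⟨x, hx, by simp [h1]⟩
      obtain ⟨q, hq, m, rfl⟩ := Nat.exists_prime_and_dvd h1
      have hm : m ∈ IP := (hIP m).2 ⟨Nat.pos_of_mul_pos_left hn.1, fun r hr hd => hn.2 r hr (hd.mul_left q)⟩
      obtain ⟨y, hy, hxy⟩ := ih m (lt_mul_left (Nat.pos_of_mul_pos_left hn.1) hq.one_lt) hm x hx
      obtain ⟨w, hw, hyw⟩ := hH q (hn.2 q hq (dvd_mul_right q m)) y hy
      exact ⟨w, hw, by rw [hxy, ← hyw, ← mul_smul, mul_comm]⟩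

end Groth.Agent.S16346
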