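import Groth.Statements.S16347
import Groth.Agent.Cubics.LinesSing
-- import your own Groth.Agent.* helpers here

set_option autoImplicit false
universe u
open Cubic

namespace Groth.Agent.S16347

/-- Let K be an algebraically closed field of characteristic zero and S = V(F) ⊂ P^3_K a cubic surface,
F a homogeneous cubic in four variables which is irreducible and not a cone (there is no nonzero
vector v with Σ_i v_i ∂F/∂x_i = 0). If a is a singular point of S (a nonzero vector with F(a) = 0
and every ∂F/∂x_i(a) = 0), then at most six lines through a lie on S; here a line through a on S is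
a 2-dimensional subspace of K^4 containing a on which F vanishes identically. -/
theorem result (K : Type u) [Field K] [IsAlgClosed K] [CharZero K]
    (F : MvPolynomial (Fin 4) K) (hF : F.IsHomogeneous 3) (hirr : Irreducible F)
    (hcone : ¬ ∃ v : Fin 4 → K, v ≠ 0 ∧ ∑ i : Fin 4, v i • MvPolynomial.pderiv i F = 0)
    (a : Fin 4 → K) (ha : a ≠ 0) (hFa : MvPolynomial.eval a F = 0)
    (hsing : ∀ i : Fin 4, MvPolynomial.eval a (MvPolynomial.pderiv i F) = 0) :
    {U : Submodule K (Fin 4 → K) | a ∈ U ∧ Module.finrank K ↥U = 2 ∧ ∀ u ∈ U, MvPolynomial.eval u F = 0}.encard ≤ 6 := by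
  obtain ⟨C₀, hC, hD⟩ := Groth.Agent.CubicODP.exists_tri F hF
  have ha' : ∀ x, C₀.T a a x = 0 := fun x => by
    rw [← Groth.Agent.CubicFive.sum_single (C₀.T a a) x]
    refine Finset.sum_eq_zero fun i _ => ?_
    have := hsing i
    rw [hD] at this
    rw [(mul_eq_zero.1 this).resolve_left three_ne_zero, smul_zero]
  have hcone' : ∀ w : Fin 4 → K, w ≠ 0 → ∃ x y, C₀.T x y w ≠ 0 :=
    Groth.Agent.CubicFive.notCone_extend (K := K) F hcone C₀ (fun v i => by
      rw [Algebra.algebraMap_self, MvPolynomial.map_id]; exact hD v i)
  have h := Groth.Agent.CubicFive.lines_through_singular C₀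
    (Groth.Agent.CubicFive.noPlane_of_irreducible F hirr C₀ hC) hcone' ha ha'
  simp only [hC]
  exact h


end Groth.Agent.S16347
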