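import Mathlib
import Groth.Statements.S16353
-- import your own Groth.Agent.* helpers here

set_option autoImplicit false
universe u
open DegLoci

namespace Groth.Agent.S16353

/-- Let k be a field of characteristic zero, R = k[y_0, …, y_{m−1}] acting on S = k[∂_0, …, ∂_{m−1}] by
apolarity (y_i acts as the derivative with respect to ∂_i), F ∈ S homogeneous of degree e and d ≤ e.
Then the degree-d part of the apolar ideal of F is the orthogonal complement of the partial
derivatives of F of order e − d: a homogeneous D ∈ R_d satisfies D(F) = 0 if and only if D(y^α(F)) =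
0 for every multi-index α with |α| = e − d (each D(y^α(F)) being a constant, the value of the
apolarity pairing of D with y^α(F)). -/
theorem result (k : Type u) [Field k] [CharZero k] (m : ℕ)
    (F : MvPolynomial (Fin m) k) (e : ℕ) (hF : F.IsHomogeneous e) (d : ℕ) (hd : d ≤ e)
    (D : MvPolynomial (Fin m) k) (hD : D.IsHomogeneous d) :
    W4c3degenlocivb.contract D F = 0 ↔
      ∀ α : Fin m →₀ ℕ, α.degree = e - d → W4c3degenlocivb.contract D (W4c3degenlocivb.contract (MvPolynomial.monomial α 1) F) = 0 := by
  classical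
  let w : (Fin m →₀ ℕ) → (Fin m →₀ ℕ) → ℕ := fun δ γ => ∏ i, Nat.descFactorial (δ i + γ i) (δ i)
  let fac : (Fin m →₀ ℕ) → ℕ := fun γ => ∏ i, (γ i).factorial
  have hwf : ∀ δ γ, fac γ * w δ γ = fac (δ + γ) := fun δ γ => by
    simp only [fac, w, ← Finset.prod_mul_distrib, Finsupp.add_apply]
    refine Finset.prod_congr rfl fun i _ => ?_
    have := Nat.factorial_mul_descFactorial (n := δ i + γ i) (k := δ i) (Nat.le_add_right _ _)
    rwa [Nat.add_sub_cancel_left] at this
  have hcoef : ∀ (D G : MvPolynomial (Fin m) k) γ, MvPolynomial.coeff γ (W4c3degenlocivb.contract D G) =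
      ∑ δ ∈ D.support, MvPolynomial.coeff δ D * MvPolynomial.coeff (δ + γ) G * (w δ γ : k) := by
    intro D G γ
    simp only [W4c3degenlocivb.contract, MvPolynomial.coeff_sum]
    refine Finset.sum_congr rfl fun δ _ => ?_
    rw [Finset.sum_eq_single (δ + γ)]
    · rw [if_pos le_self_add, add_tsub_cancel_left, MvPolynomial.coeff_monomial, if_pos rfl]
      congr 2
      refine Finset.prod_subset (Finset.subset_univ _) fun i _ hi => ?_
      have : (δ + γ) i = 0 := Finsupp.notMem_support_iff.1 hi
      rw [Finsupp.add_apply] at this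
      rw [Finsupp.add_apply, this, show δ i = 0 by omega]; rfl
    · intro β _ hβ
      split_ifs with hle
      · rw [MvPolynomial.coeff_monomial, if_neg]
        intro e; exact hβ (by rw [← e, add_tsub_cancel_of_le hle])
      · simp
    · intro h; simp [MvPolynomial.notMem_support_iff.1 h]
  have hmono : ∀ (α γ : Fin m →₀ ℕ), MvPolynomial.coeff γ (W4c3degenlocivb.contract (MvPolynomial.monomial α 1) F) = MvPolynomial.coeff (α + γ) F * (w α γ : k) := by
    intro α γ
    rw [hcoef]
    simp [MvPolynomial.support_monomial]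
  have hdeg : ∀ δ ∈ D.support, δ.degree = d := fun δ hδ => by
    rw [Finsupp.degree_eq_weight_one]; exact hD (MvPolynomial.mem_support_iff.1 hδ)
  have hFd : ∀ β, MvPolynomial.coeff β F ≠ 0 → β.degree = e := fun β hβ => by
    rw [Finsupp.degree_eq_weight_one]; exact hF hβ
  have hzero : ∀ α : Fin m →₀ ℕ, α.degree ≠ e - d → MvPolynomial.coeff α (W4c3degenlocivb.contract D F) = 0 := fun α hα => by
    rw [hcoef]
    refine Finset.sum_eq_zero fun δ hδ => ?_
    by_cases h : MvPolynomial.coeff (δ + α) F = 0
    · simp [h]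
    · have := hFd _ h; have := hdeg δ hδ; simp only [map_add] at *; omega
  have hrest : ∀ α γ : Fin m →₀ ℕ, α.degree = e - d → γ ≠ 0 →
      MvPolynomial.coeff γ (W4c3degenlocivb.contract D (W4c3degenlocivb.contract (MvPolynomial.monomial α 1) F)) = 0 := fun α γ hα hγ => by
    rw [hcoef]
    refine Finset.sum_eq_zero fun δ hδ => ?_
    rw [hmono]
    by_cases h : MvPolynomial.coeff (α + (δ + γ)) F = 0
    · simp [h]
    · have := hFd _ h; have := hdeg δ hδ
      have : γ.degree ≠ 0 := by simpa [Finsupp.degree_eq_zero_iff] using hγ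
      simp only [map_add] at *; omega
  have hkey : ∀ α : Fin m →₀ ℕ, MvPolynomial.coeff 0 (W4c3degenlocivb.contract D (W4c3degenlocivb.contract (MvPolynomial.monomial α 1) F)) = (fac α : k) * MvPolynomial.coeff α (W4c3degenlocivb.contract D F) := fun α => by
    rw [hcoef, hcoef, Finset.mul_sum]
    refine Finset.sum_congr rfl fun δ _ => ?_
    rw [hmono, add_zero, add_comm α δ]
    have h1 : ((w α δ : ℕ) : k) * (w δ 0 : k) = (fac α : k) * (w δ α : k) := by
      rw [← Nat.cast_mul, ← Nat.cast_mul, hwf δ α, add_comm δ α, ← hwf α δ]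
      have h0 : w δ 0 = fac δ := by simpa [fac] using hwf δ 0
      rw [h0, mul_comm]
    linear_combination MvPolynomial.coeff δ D * MvPolynomial.coeff (δ + α) F * h1
  constructor
  · intro h α hα
    ext γ
    by_cases hγ : γ = 0
    · subst hγ; rw [hkey, h]; simp
    · rw [hrest α γ hα hγ]; simp
  · intro h
    ext α
    by_cases hα : α.degree = e - d
    · have h1 := hkey α
      rw [h α hα, MvPolynomial.coeff_zero] at h1
      simpa [fac, Finset.prod_eq_zero_iff, Nat.factorial_ne_zero] using h1.symm
    · rw [hzero α hα]; simp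

end Groth.Agent.S16353
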