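import Groth.Statements.S16354
import Groth.Agent.Cubics.DescentApp
-- import your own Groth.Agent.* helpers here

set_option autoImplicit false
universe u
open Cubic

namespace Groth.Agent.S16354

/-- Let k be a subfield of ℝ (a field equipped with an embedding into the reals) and S = V(F) ⊂ P^3 the
cubic surface of a homogeneous cubic F ∈ k[x_0, …, x_3] which is geometrically irreducible and not a
cone (no nonzero vector v has Σ_i v_i ∂F/∂x_i = 0). Then S admits a linear Pfaffian representation
over a real intermediate field k ⊆ E ⊆ ℝ of degree [E : k] ≤ 3. A linear Pfaffian representation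
over E is a 6 × 6 alternating matrix M of linear forms in E[x_0, …, x_3] whose Pfaffian is a nonzero
constant multiple of F; since the determinant of an alternating matrix is the square of its Pfaffian
and the polynomial ring is factorial with no nonconstant units, this is the same as det M = c · F^2
for a nonzero constant c, which is how it is written here. -/
theorem result (k : Type u) [Field k] [Algebra k ℝ]
    (F : MvPolynomial (Fin 4) k) (hF : F.IsHomogeneous 3)
    (hirr : Irreducible (MvPolynomial.map (algebraMap k (AlgebraicClosure k)) F))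
    (hcone : ¬ ∃ v : Fin 4 → k, v ≠ 0 ∧ ∑ i : Fin 4, v i • MvPolynomial.pderiv i F = 0) :
    ∃ E : IntermediateField k ℝ, FiniteDimensional k ↥E ∧ Module.finrank k ↥E ≤ 3 ∧
      ∃ M : Matrix (Fin 6) (Fin 6) (MvPolynomial (Fin 4) ↥E), (∀ i j, (M i j).IsHomogeneous 1) ∧ M.transpose = -M ∧ (∀ i, M i i = 0) ∧
        ∃ c : ↥E, c ≠ 0 ∧ M.det = MvPolynomial.C c * (MvPolynomial.map (algebraMap k ↥E) F) ^ 2 := by
  haveI : CharZero k := (algebraMap k ℝ).charZero_iff (algebraMap k ℝ).injective |>.2 inferInstance
  obtain ⟨P, hP3, hP⟩ := Groth.Agent.CubicFive.exists_good_line F hF hirr hcone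
  have hP0 : P ≠ 0 := fun h => by simp [h] at hP3
  obtain ⟨t, ht⟩ := Groth.Agent.CubicFive.exists_real_root (P.map (algebraMap k ℝ))
    (by rw [Polynomial.natDegree_map, hP3])
  rw [Polynomial.IsRoot.def, Polynomial.eval_map, ← Polynomial.aeval_def] at ht
  have hint : IsIntegral k t := isAlgebraic_iff_isIntegral.1 ⟨P, hP0, ht⟩
  haveI : FiniteDimensional k ↥(IntermediateField.adjoin k {t}) := IntermediateField.adjoin.finiteDimensional hint
  refine ⟨IntermediateField.adjoin k {t}, inferInstance, ?_, ?_⟩
  · rw [IntermediateField.adjoin.finrank hint, ← hP3]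
    exact Polynomial.natDegree_le_of_dvd (minpoly.dvd k t ht) hP0
  · refine hP _ (IsAlgClosed.lift : ↥(IntermediateField.adjoin k {t}) →ₐ[k] AlgebraicClosure k)
      (IntermediateField.AdjoinSimple.gen k t) ?_
    apply (IntermediateField.adjoin k {t}).toSubfield.subtype.injective
    rw [map_zero]
    exact (Polynomial.aeval_algHom_apply (IntermediateField.adjoin k {t}).val _ P).symm.trans ht


end Groth.Agent.S16354
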