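import Groth.Statements.S16355
-- import your own Groth.Agent.* helpers here

set_option autoImplicit false
universe u
open DegLoci

namespace Groth.Agent.S16355

open MvPolynomial in
lemma pf_map {R S : Type*} [CommRing R] [CommRing S] (f : R →+* S) :
    ∀ (n : ℕ) (T : Matrix (Fin n) (Fin n) R),
      f (W4c3degenlocivb.pf n T) = W4c3degenlocivb.pf n (T.map f)
  | 0, _ => by simp [W4c3degenlocivb.pf]
  | 1, _ => by simp [W4c3degenlocivb.pf]
  | n + 2, T => by
    simp only [W4c3degenlocivb.pf, map_sum, map_mul, map_pow, map_neg, map_one]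
    refine Finset.sum_congr rfl fun j _ => ?_
    rw [pf_map f n]
    rfl

lemma pf_two_step {R : Type*} [CommRing R] (n : ℕ) (T : Matrix (Fin (n + 2)) (Fin (n + 2)) R) :
    W4c3degenlocivb.pf (n + 2) T = ∑ j : Fin (n + 1),
      (-1) ^ ((j : ℕ) + 1) * T (Fin.last (n + 1)) (Fin.castSucc j) *
        W4c3degenlocivb.pf n (T.submatrix (Fin.castSucc ∘ j.succAbove) (Fin.castSucc ∘ j.succAbove)) := rfl

lemma pf_homogeneous {R σ : Type*} [CommRing R] : ∀ (m : ℕ) (T : Matrix (Fin (2 * m)) (Fin (2 * m)) (MvPolynomial σ R)),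
    (∀ i j, (T i j).IsHomogeneous 1) → (W4c3degenlocivb.pf (2 * m) T).IsHomogeneous m
  | 0, _, _ => MvPolynomial.isHomogeneous_one σ R
  | m + 1, T, hT => by
    show (W4c3degenlocivb.pf (2 * m + 2) T).IsHomogeneous (m + 1)
    rw [pf_two_step]
    refine MvPolynomial.IsHomogeneous.sum _ _ _ fun j _ => ?_
    have h1 : ((-1 : MvPolynomial σ R) ^ ((j : ℕ) + 1)).IsHomogeneous 0 := by
      simpa using ((MvPolynomial.isHomogeneous_one σ R).neg).pow ((j : ℕ) + 1)
    have := (h1.mul (hT (Fin.last (2 * m + 1)) (Fin.castSucc j))).mul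
      (pf_homogeneous m (T.submatrix (Fin.castSucc ∘ j.succAbove) (Fin.castSucc ∘ j.succAbove)) fun i k => hT _ _)
    convert this using 1
    omega

lemma pf_tri {R : Type*} [CommRing R] : ∀ (m : ℕ) (T : Matrix (Fin (2 * m)) (Fin (2 * m)) R) (u : ℕ → R),
    (∀ i j, T i j = if (j : ℕ) + 1 = i then -u j else if (i : ℕ) + 1 = j then u i else 0) →
      W4c3degenlocivb.pf (2 * m) T = ∏ t ∈ Finset.range m, u (2 * t)
  | 0, _, _, _ => by simp [W4c3degenlocivb.pf]
  | m + 1, T, u, hT => by
    show W4c3degenlocivb.pf (2 * m + 2) T = _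
    rw [pf_two_step, Finset.sum_eq_single (Fin.last (2 * m))]
    · have hp := pf_tri m (T.submatrix (Fin.castSucc ∘ (Fin.last (2 * m)).succAbove)
        (Fin.castSucc ∘ (Fin.last (2 * m)).succAbove)) u
        (fun i j => by simp [Fin.succAbove_last, hT])
      rw [hp, hT, Finset.prod_range_succ]
      simp [pow_succ, pow_mul]
      ring
    · intro j _ hj
      rw [hT]
      have : (j : ℕ) ≠ 2 * m := fun h => hj (Fin.ext h)
      rw [if_neg (by simp; omega), if_neg (by simp; omega)]
      simp
    · simp

lemma tri_relabel {R : Type*} [Ring R] (g : ℕ → R) (c i j : ℕ) :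
    (if (if j < c then j else j + 1) + 1 = (if i < c then i else i + 1) then
        -g (if j < c then j else j + 1)
      else if (if i < c then i else i + 1) + 1 = (if j < c then j else j + 1) then
        g (if i < c then i else i + 1)
      else 0) =
    (if j + 1 = i then -(if j + 1 < c then g j else if j + 1 = c then 0 else g (j + 1))
      else if i + 1 = j then (if i + 1 < c then g i else if i + 1 = c then 0 else g (i + 1))
      else 0) := by
  rcases lt_or_ge i c with hi | hi <;> rcases lt_or_ge j c with hj | hj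
  · simp only [if_pos hi, if_pos hj]
    split_ifs <;> first | omega | rfl
  · simp only [if_pos hi, if_neg (Nat.not_lt.mpr hj)]
    split_ifs <;> first | omega | rfl | simp
  · simp only [if_neg (Nat.not_lt.mpr hi), if_pos hj]
    split_ifs <;> first | omega | rfl | simp
  · simp only [if_neg (Nat.not_lt.mpr hi), if_neg (Nat.not_lt.mpr hj)]
    split_ifs <;> first | omega | rfl

/-- The generic skew array used as witness. -/
noncomputable def witness (k : Type*) [Field k] (n : ℕ) : Fin n → Fin n → Fin 2 → k :=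
  fun a b l => (if (a : ℕ) + 1 = b ∧ (a : ℕ) % 2 = l then 1 else 0) -
    (if (b : ℕ) + 1 = a ∧ (b : ℕ) % 2 = l then 1 else 0)

lemma witness_linear (k : Type*) [Field k] (n : ℕ) (a b : Fin n) :
    ∑ l : Fin 2, MvPolynomial.C (witness k n a b l) * MvPolynomial.X l =
      if (b : ℕ) + 1 = a then -(if (b : ℕ) % 2 = 0 then MvPolynomial.X (0 : Fin 2) else MvPolynomial.X 1)
      else if (a : ℕ) + 1 = b then (if (a : ℕ) % 2 = 0 then MvPolynomial.X (0 : Fin 2) else MvPolynomial.X 1)
      else 0 := by
  rw [Fin.sum_univ_two]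
  by_cases h1 : (b : ℕ) + 1 = a
  · have h2 : ¬ (a : ℕ) + 1 = b := by omega
    rcases Nat.mod_two_eq_zero_or_one (b : ℕ) with h | h <;> simp [witness, h1, h2, h]
  · by_cases h2 : (a : ℕ) + 1 = b
    · rcases Nat.mod_two_eq_zero_or_one (a : ℕ) with h | h <;> simp [witness, h1, h2, h]
    · simp [witness, h1, h2]

/-- Let k be an algebraically closed field of characteristic zero and n = 2r + 1 ≥ 3 odd. For a general
n × n alternating matrix N of linear forms in k[y_0, y_1], the n principal sub-Pfaffians of size n −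
1 (delete row i and column i, take the Pfaffian) span the whole space k[y_0, y_1]_r of binary forms
of degree r. Here such matrices are parametrised by antisymmetric coefficient arrays c (entry (i, j)
of N is Σ_l c_{i j l} y_l with c_{j i l} = −c_{i j l}), and 'general' means: outside the zero set of
some polynomial Φ in the coefficients which does not vanish at every antisymmetric array. -/
theorem result (k : Type u) [Field k] [IsAlgClosed k] [CharZero k]
    (r : ℕ) (hr : 1 ≤ r) :
    ∃ Φ : MvPolynomial (Fin (2 * r + 1) × Fin (2 * r + 1) × Fin 2) k,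
      (∃ c : Fin (2 * r + 1) → Fin (2 * r + 1) → Fin 2 → k, (∀ i j l, c j i l = -c i j l) ∧
        MvPolynomial.eval (fun p => c p.1 p.2.1 p.2.2) Φ ≠ 0) ∧
      ∀ c : Fin (2 * r + 1) → Fin (2 * r + 1) → Fin 2 → k, (∀ i j l, c j i l = -c i j l) →
        MvPolynomial.eval (fun p => c p.1 p.2.1 p.2.2) Φ ≠ 0 →
        Submodule.span k (Set.range fun i : Fin (2 * r + 1) =>
            W4c3degenlocivb.pf (2 * r) ((Matrix.of fun a b => ∑ l : Fin 2, MvPolynomial.C (c a b l) * MvPolynomial.X l).submatrix i.succAbove i.succAbove)) =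
          MvPolynomial.homogeneousSubmodule (Fin 2) k r := by
  let idx : Fin (r + 1) → Fin (2 * r + 1) := fun s => ⟨2 * (s : ℕ), by omega⟩
  let e : Fin (r + 1) → (Fin 2 →₀ ℕ) := fun t =>
    Finsupp.single 0 (t : ℕ) + Finsupp.single 1 (r - (t : ℕ))
  let G : Matrix (Fin (2 * r + 1)) (Fin (2 * r + 1))
      (MvPolynomial (Fin 2) (MvPolynomial (Fin (2 * r + 1) × Fin (2 * r + 1) × Fin 2) k)) :=
    Matrix.of fun a b => ∑ l : Fin 2, MvPolynomial.C (MvPolynomial.X (a, b, l)) * MvPolynomial.X l
  let A : Matrix (Fin (r + 1)) (Fin (r + 1)) (MvPolynomial (Fin (2 * r + 1) × Fin (2 * r + 1) × Fin 2) k) :=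
    Matrix.of fun s t => (W4c3degenlocivb.pf (2 * r) (G.submatrix (idx s).succAbove (idx s).succAbove)).coeff (e t)
  let M : (Fin (2 * r + 1) → Fin (2 * r + 1) → Fin 2 → k) → Fin (2 * r + 1) → MvPolynomial (Fin 2) k :=
    fun c i => W4c3degenlocivb.pf (2 * r)
      ((Matrix.of fun a b => ∑ l : Fin 2, MvPolynomial.C (c a b l) * MvPolynomial.X l).submatrix i.succAbove i.succAbove)
  have heval : ∀ c, MvPolynomial.eval (fun p => c p.1 p.2.1 p.2.2) A.det =
      (Matrix.of fun s t => (M c (idx s)).coeff (e t)).det := by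
    intro c
    rw [RingHom.map_det]
    congr 1
    ext s t
    simp only [RingHom.mapMatrix_apply, Matrix.map_apply, A, M, Matrix.of_apply]
    rw [← MvPolynomial.coeff_map, pf_map]
    congr 2
    ext a b
    simp [G]
  have hwit : ∀ s : Fin (r + 1), M (witness k _) (idx s) =
      MvPolynomial.X 0 ^ (s : ℕ) * MvPolynomial.X 1 ^ (r - (s : ℕ)) := by
    intro s
    simp only [M]
    rw [pf_tri r _ (fun a => if a + 1 < 2 * (s : ℕ) then (if a % 2 = 0 then MvPolynomial.X (0 : Fin 2) else MvPolynomial.X 1)
        else if a + 1 = 2 * (s : ℕ) then 0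
        else (if (a + 1) % 2 = 0 then MvPolynomial.X (0 : Fin 2) else MvPolynomial.X 1))]
    · have hr' : r = (s : ℕ) + (r - (s : ℕ)) := by omega
      rw [show Finset.range r = Finset.range ((s : ℕ) + (r - (s : ℕ))) by rw [← hr'], Finset.prod_range_add]
      congr 1
      · rw [Finset.pow_eq_prod_const]
        refine Finset.prod_congr rfl fun t ht => ?_
        rw [Finset.mem_range] at ht
        rw [if_pos (by omega), if_pos (by omega)]
      · rw [Finset.pow_eq_prod_const]
        refine Finset.prod_congr rfl fun t ht => ?_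
        rw [if_neg (by omega), if_neg (by omega), if_neg (by omega)]
    · intro i j
      have hv : ∀ a : Fin (2 * r), (((idx s).succAbove a : Fin (2 * r + 1)) : ℕ) =
          if (a : ℕ) < 2 * (s : ℕ) then (a : ℕ) else (a : ℕ) + 1 := by
        intro a
        simp only [Fin.succAbove, idx, Fin.lt_def, Fin.val_castSucc]
        split_ifs <;> simp
      rw [Matrix.submatrix_apply, Matrix.of_apply, witness_linear, hv i, hv j]
      exact tri_relabel (fun a => if a % 2 = 0 then MvPolynomial.X (0 : Fin 2) else MvPolynomial.X 1) _ _ _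
  have hhom : ∀ c i, (M c i).IsHomogeneous r := fun c i => pf_homogeneous r _ fun a b =>
    MvPolynomial.IsHomogeneous.sum (Finset.univ : Finset (Fin 2))
      (fun l => MvPolynomial.C (c (i.succAbove a) (i.succAbove b) l) * MvPolynomial.X l) 1
      fun l _ => (MvPolynomial.isHomogeneous_X k l).C_mul _
  refine ⟨A.det, ⟨witness k _, fun i j l => by simp [witness], ?_⟩, fun c _ hΦ => ?_⟩
  · rw [heval, show (Matrix.of fun s t => (M (witness k _) (idx s)).coeff (e t)) = 1 from ?_, Matrix.det_one]
    · exact one_ne_zero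
    ext s t
    rw [Matrix.of_apply, hwit, MvPolynomial.X_pow_eq_monomial, MvPolynomial.X_pow_eq_monomial,
      MvPolynomial.monomial_mul, one_mul, MvPolynomial.coeff_monomial, Matrix.one_apply]
    refine if_congr ⟨fun h => Fin.ext (by simpa [e] using DFunLike.congr_fun h 0), fun h => by simp [e, h]⟩ rfl rfl
  · rw [heval] at hΦ
    change Submodule.span k (Set.range (M c)) = _
    refine le_antisymm (Submodule.span_le.mpr (by rintro _ ⟨i, rfl⟩; exact hhom c i)) fun p hp => ?_
    rw [MvPolynomial.mem_homogeneousSubmodule] at hp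
    set B := (Matrix.of fun s t => (M c (idx s)).coeff (e t)) with hB
    let v : Fin (r + 1) → k := fun t => p.coeff (e t)
    let w := Matrix.vecMul v B⁻¹
    have hw : Matrix.vecMul w B = v := by
      rw [Matrix.vecMul_vecMul, Matrix.nonsing_inv_mul _ (isUnit_iff_ne_zero.mpr hΦ), Matrix.vecMul_one]
    have hpe : p = ∑ s, w s • M c (idx s) := by
      apply MvPolynomial.ext
      intro d
      by_cases hd : d 0 + d 1 = r
      · have hde : d = e ⟨d 0, by omega⟩ := by
          ext a
          fin_cases a <;> simp [e] <;> omega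
        rw [hde, MvPolynomial.coeff_sum]
        calc p.coeff (e ⟨d 0, by omega⟩) = Matrix.vecMul w B ⟨d 0, by omega⟩ := by rw [hw]
          _ = _ := by simp [Matrix.vecMul, dotProduct, hB, smul_eq_mul]
      · have hd' : d.degree ≠ r := by simpa [Finsupp.degree_eq_sum, Fin.sum_univ_two] using hd
        rw [hp.coeff_eq_zero hd', MvPolynomial.coeff_sum]
        refine (Finset.sum_eq_zero fun s _ => ?_).symm
        rw [MvPolynomial.coeff_smul, (hhom c (idx s)).coeff_eq_zero hd', smul_zero]
    rw [hpe]
    exact Submodule.sum_mem _ fun s _ => Submodule.smul_mem _ _ (Submodule.subset_span ⟨idx s, rfl⟩)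

end Groth.Agent.S16355
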