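import Mathlib
import Groth.Statements.S16356
-- import your own Groth.Agent.* helpers here

set_option autoImplicit false
universe u
open OrdAV

namespace Groth.Agent.S16356

/-- For an odd prime p and a perfect field k of characteristic p, a root of unity in the ring of Witt
vectors W(k) whose residue in k is 1 is itself 1: if x ^ n = 1 with n ≥ 1 and the zeroth Witt
component of x is 1, then x = 1. (For p = 2 this fails: -1 in W(F_2).) -/
theorem result (p : ℕ) [Fact p.Prime] (hp : p ≠ 2)
    (k : Type u) [Field k] [CharP k p] [PerfectRing k p]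
    (x : WittVector p k) (n : ℕ) (hn : 0 < n) (hx : x ^ n = 1) (h0 : x.coeff 0 = 1) : x = 1 := by
  revert x
  induction n using Nat.strong_induction_on with
  | _ n ih =>
  intro x hx h0
  rcases Nat.lt_or_ge n 2 with hn1 | hn1
  · obtain rfl : n = 1 := by omega
    simpa using hx
  set q := n.minFac
  have hq : q.Prime := Nat.minFac_prime (by omega)
  obtain ⟨r, hr⟩ : q ∣ n := n.minFac_dvd
  have hr0 : 0 < r := by
    rcases Nat.eq_zero_or_pos r with h | h
    · subst h; omega
    · exact h
  have hrn : r < n := by
    calc r < 2 * r := by omega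
      _ ≤ n := by rw [hr]; exact Nat.mul_le_mul_right r hq.two_le
  refine ih r hrn hr0 x ?_ h0
  have hcc : ∀ z : WittVector p k, WittVector.constantCoeff z = z.coeff 0 := fun z => rfl
  set y := x ^ r with hy
  have hy0 : WittVector.constantCoeff y = 1 := by rw [hy, map_pow, hcc, h0, one_pow]
  have hyq : y ^ q = 1 := by rw [hy, ← pow_mul, mul_comm, ← hr, hx]
  have hgeom := geom_sum_mul y q
  rw [hyq, sub_self] at hgeom
  rcases mul_eq_zero.1 hgeom with hS | hS
  · exfalso
    by_cases hqp : q = p
    · rw [hqp] at hS
      have hp' : Odd p := (Fact.out : p.Prime).odd_of_ne_two hp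
      obtain ⟨b, hb⟩ : (p : WittVector p k) ∣ y - 1 := by
        have : y - 1 ∈ Ideal.span {(p : WittVector p k)} := by
          rw [← WittVector.ker_constantCoeff, RingHom.mem_ker, map_sub, hy0, map_one, sub_self]
        exact Ideal.mem_span_singleton.1 this
      have hd := odd_sq_dvd_geom_sum₂_sub (p := p) (1 : WittVector p k) b hp'
      rw [← hb] at hd
      simp only [add_sub_cancel, one_pow, mul_one] at hd
      rw [hS, zero_sub, dvd_neg, sq] at hd
      obtain ⟨c, hc⟩ := hd
      have hpne : (p : WittVector p k) ≠ 0 := WittVector.p_nonzero p k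
      have h1 : (p : WittVector p k) * c = 1 := mul_left_cancel₀ hpne (by rw [← mul_assoc, ← hc, mul_one])
      have := congrArg WittVector.constantCoeff h1
      rw [map_mul, map_one, map_natCast, CharP.cast_eq_zero, zero_mul] at this
      exact zero_ne_one this
    · have := congrArg WittVector.constantCoeff hS
      rw [map_sum, map_zero] at this
      simp only [map_pow, hy0, one_pow, Finset.sum_const, Finset.card_range, nsmul_eq_mul, mul_one] at this
      rw [CharP.cast_eq_zero_iff k p] at this
      exact hqp ((Nat.prime_dvd_prime_iff_eq Fact.out hq).1 this).symm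
  · exact sub_eq_zero.1 hS

end Groth.Agent.S16356
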