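import Mathlib
import Groth.Statements.S16357
-- import your own Groth.Agent.* helpers here

set_option autoImplicit false
universe u
open OrdAV

namespace Groth.Agent.S16357

/-- Over a field L of characteristic zero, a monic polynomial h whose square has rational coefficients
has rational coefficients itself. -/
theorem result (L : Type u) [Field L] [CharZero L]
    (h : Polynomial L) (hm : h.Monic) (f : Polynomial ℚ)
    (hf : h ^ 2 = Polynomial.map (algebraMap ℚ L) f) :
    ∃ g : Polynomial ℚ, Polynomial.map (algebraMap ℚ L) g = h := by
  let S : Subfield L := (algebraMap ℚ L).fieldRange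
  set d := h.natDegree
  have hc : ∀ k, (h ^ 2).coeff k ∈ S := fun k => by rw [hf, Polynomial.coeff_map]; exact ⟨_, rfl⟩
  have main : ∀ t j, d - j = t → h.coeff j ∈ S := by
    intro t
    induction t using Nat.strong_induction_on with
    | _ t ih =>
      intro j hjt
      rcases lt_trichotomy d j with hj | hj | hj
      · rw [Polynomial.coeff_eq_zero_of_natDegree_lt hj]; exact zero_mem S
      · subst hj; rw [hm.coeff_natDegree]; exact one_mem S
      · have hsum := hc (d + j)
        rw [sq, Polynomial.coeff_mul] at hsum
        have h1 : (d, j) ∈ Finset.HasAntidiagonal.antidiagonal (d + j) := by simp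
        have h2 : (j, d) ∈ (Finset.HasAntidiagonal.antidiagonal (d + j)).erase (d, j) := by
          simp [Nat.add_comm]; omega
        rw [← Finset.add_sum_erase _ _ h1, ← Finset.add_sum_erase _ _ h2, hm.coeff_natDegree] at hsum
        have hrest : ∑ x ∈ ((Finset.HasAntidiagonal.antidiagonal (d + j)).erase (d, j)).erase (j, d),
            h.coeff x.1 * h.coeff x.2 ∈ S := by
          refine sum_mem fun x hx => ?_
          obtain ⟨u, v⟩ := x
          simp [Prod.ext_iff] at hx
          by_cases ha : d < u
          · rw [Polynomial.coeff_eq_zero_of_natDegree_lt ha, zero_mul]; exact zero_mem S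
          by_cases hb : d < v
          · rw [Polynomial.coeff_eq_zero_of_natDegree_lt hb, mul_zero]; exact zero_mem S
          exact mul_mem (ih (d - u) (by omega) _ rfl) (ih (d - v) (by omega) _ rfl)
        have h3 : (2 : L) * h.coeff j ∈ S := by
          have := sub_mem hsum hrest
          convert this using 1
          ring
        have h4 := mul_mem (inv_mem (ofNat_mem S 2)) h3
        rwa [← mul_assoc, inv_mul_cancel₀ two_ne_zero, one_mul] at h4
  exact (Polynomial.lifts_iff_coeff_lifts h).2 (fun j => main _ j rfl)

end Groth.Agent.S16357
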