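import Groth.Statements.S16358
import Mathlib
-- import your own Groth.Agent.* helpers here

set_option autoImplicit false
universe u v w
open OrdAV

namespace Groth.Agent.S16358

open scoped TensorProduct in
theorem injective_invariants_quot {W : Type u} [CommRing W] [IsDomain W] (q : W) (hq : q ≠ 0) {M : Type v}
    [AddCommGroup M] [Module W M] [Module.Free W M] {G : Type w} [Group G] (ρ : Representation W G M) :
    Function.Injective (LinearMap.lTensor (W ⧸ Ideal.span {q}) ρ.invariants.subtype) := by
  rw [injective_iff_map_eq_zero]
  intro z hz
  obtain ⟨n, rfl⟩ : ∃ n : ρ.invariants, z = Ideal.Quotient.mk _ (1 : W) ⊗ₜ n := by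
    clear hz
    induction z using TensorProduct.induction_on with
    | zero => exact ⟨0, by simp⟩
    | tmul a b =>
      obtain ⟨a, rfl⟩ := Ideal.Quotient.mk_surjective a
      exact ⟨a • b, by rw [TensorProduct.tmul_smul, TensorProduct.smul_tmul']; congr 1; simp [Algebra.smul_def]⟩
    | add x y hx hy =>
      obtain ⟨a, rfl⟩ := hx
      obtain ⟨b, rfl⟩ := hy
      exact ⟨a + b, (TensorProduct.tmul_add _ _ _).symm⟩
  rw [LinearMap.lTensor_tmul] at hz
  have h1 : (n : M) ∈ Ideal.span {q} • (⊤ : Submodule W M) := by
    have := congrArg (TensorProduct.quotTensorEquivQuotSMul M (Ideal.span {q})) hz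
    rw [map_zero] at this
    exact (Submodule.Quotient.mk_eq_zero _).1 (by simpa using this)
  rw [Submodule.ideal_span_singleton_smul] at h1
  obtain ⟨m, -, hm⟩ := h1
  have hmG : m ∈ ρ.invariants := fun g => by
    have h2 : q • ρ g m = q • m := by
      rw [← map_smul, show q • m = (n : M) from hm]
      exact n.2 g
    exact smul_right_injective M hq h2
  rw [show n = q • (⟨m, hmG⟩ : ρ.invariants) from Subtype.ext hm.symm, TensorProduct.tmul_smul,
    TensorProduct.smul_tmul']
  convert TensorProduct.zero_tmul (W ⧸ Ideal.span {q}) (⟨m, hmG⟩ : ρ.invariants) using 2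
  rw [Algebra.smul_def, Ideal.Quotient.algebraMap_eq, ← map_mul, mul_one, Ideal.Quotient.eq_zero_iff_mem]
  exact Ideal.subset_span rfl

/-- Let k be a perfect field of characteristic p > 0 and W = W(k); let M be a finitely generated free
W-module on which a finite group G acts W-linearly, with invariant submodule M^G. Then the map
(W/pW) ⊗ M^G → (W/pW) ⊗ M induced by the inclusion is injective. Since M^G is free, this implies
rank_W M^G ≤ dim_k (M/pM)^G; the published statement is that inequality, and this row states the
stronger injectivity. -/
theorem result (p : ℕ) [Fact p.Prime]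
    (k : Type u) [Field k] [CharP k p] [PerfectRing k p]
    (M : Type v) [AddCommGroup M] [Module (WittVector p k) M]
    [Module.Free (WittVector p k) M] [Module.Finite (WittVector p k) M]
    (G : Type w) [Group G] [Finite G] (ρ : Representation (WittVector p k) G M) :
    Function.Injective
      (LinearMap.lTensor (WittVector p k ⧸ Ideal.span {(p : WittVector p k)}) ρ.invariants.subtype) := by
  exact injective_invariants_quot _ (WittVector.p_nonzero p k) ρ

end Groth.Agent.S16358
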