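import Mathlib
import Groth.Statements.S16362
-- import your own Groth.Agent.* helpers here

set_option autoImplicit false
universe u
open MovLem

namespace Groth.Agent.S16362

/-- Let A be a commutative ring, p a prime ideal of A, and ζ, u elements of A with u not in p. Then the
quotient of the classes of ζ and u in the fraction field of the domain A ⧸ p is integral over A ⧸ p
if and only if there exist a natural number N and elements a_1, …, a_N of A such that ζ^N + a_1
ζ^(N-1) u + ⋯ + a_N u^N lies in p; equivalently, some binary form of degree N with coefficients in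
A, monic in the first variable, evaluated at (ζ, u), lies in p. -/
theorem result
    {A : Type u} [CommRing A] (p : Ideal A) [p.IsPrime] (ζ u : A) (hu : u ∉ p) :
    IsIntegral (A ⧸ p)
        (algebraMap (A ⧸ p) (FractionRing (A ⧸ p)) (Ideal.Quotient.mk p ζ) /
          algebraMap (A ⧸ p) (FractionRing (A ⧸ p)) (Ideal.Quotient.mk p u)) ↔
      ∃ (N : ℕ) (a : ℕ → A),
        ζ ^ N + ∑ i ∈ Finset.Icc 1 N, a i * ζ ^ (N - i) * u ^ i ∈ p := by
  classical
  set K := FractionRing (A ⧸ p)
  set φ : A →+* K := (algebraMap (A ⧸ p) K).comp (Ideal.Quotient.mk p)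
  show IsIntegral (A ⧸ p) (φ ζ / φ u) ↔ _
  have hφ : ∀ z, φ z = 0 ↔ z ∈ p := fun z => by
    rw [← Ideal.Quotient.eq_zero_iff_mem]
    exact map_eq_zero_iff _ (IsFractionRing.injective (A ⧸ p) K)
  have hu0 : φ u ≠ 0 := fun e => hu ((hφ u).1 e)
  have key : ∀ (N : ℕ) (a : ℕ → A), φ (ζ ^ N + ∑ i ∈ Finset.Icc 1 N, a i * ζ ^ (N - i) * u ^ i) =
      φ u ^ N * ((φ ζ / φ u) ^ N + ∑ i ∈ Finset.Icc 1 N, φ (a i) * (φ ζ / φ u) ^ (N - i)) := by
    intro N a
    rw [map_add, map_pow, map_sum, mul_add, ← mul_pow, mul_div_cancel₀ _ hu0, Finset.mul_sum]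
    congr 1
    refine Finset.sum_congr rfl fun i hi => ?_
    have hi' := Finset.mem_Icc.1 hi
    rw [map_mul, map_mul, map_pow, map_pow]
    conv_rhs => rw [show φ u ^ N = φ u ^ (N - i) * φ u ^ i by rw [← pow_add, Nat.sub_add_cancel hi'.2]]
    rw [show φ u ^ (N - i) * φ u ^ i * (φ (a i) * (φ ζ / φ u) ^ (N - i)) = φ (a i) * (φ u * (φ ζ / φ u)) ^ (N - i) * φ u ^ i by
      rw [mul_pow]; ring, mul_div_cancel₀ _ hu0]
  constructor
  · rintro ⟨P, hP, hP0⟩
    choose a ha using fun i => Ideal.Quotient.mk_surjective (P.coeff (P.natDegree - i))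
    refine ⟨P.natDegree, a, (hφ _).1 ?_⟩
    rw [key]
    refine mul_eq_zero_of_right _ ?_
    rw [Polynomial.eval₂_eq_sum_range, Finset.sum_range_succ, hP.coeff_natDegree, map_one, one_mul, add_comm] at hP0
    rw [← hP0]
    congr 1
    refine Finset.sum_nbij' (fun i => P.natDegree - i) (fun i => P.natDegree - i) ?_ ?_ ?_ ?_ ?_
    · intro i hi; simp only [Finset.mem_Icc, Finset.mem_coe, Finset.mem_range] at hi ⊢; omega
    · intro i hi; simp only [Finset.mem_Icc, Finset.mem_coe, Finset.mem_range] at hi ⊢; omega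
    · intro i hi; simp only [Finset.mem_Icc, Finset.mem_coe] at hi; omega
    · intro i hi; simp only [Finset.mem_coe, Finset.mem_range] at hi; omega
    · intro i hi; rw [← ha i]; rfl
  · rintro ⟨N, a, ha⟩
    rcases Nat.eq_zero_or_pos N with rfl | hN
    · simp at ha
      exact absurd ((Ideal.eq_top_iff_one p).2 ha) (Ideal.IsPrime.ne_top inferInstance)
    rw [← hφ, key, mul_eq_zero, or_iff_right (pow_ne_zero _ hu0)] at ha
    refine ⟨Polynomial.X ^ N + ∑ i ∈ Finset.Icc 1 N, Polynomial.C (Ideal.Quotient.mk p (a i)) * Polynomial.X ^ (N - i),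
      Polynomial.monic_X_pow_add (lt_of_le_of_lt (Polynomial.degree_sum_le _ _) ?_), ?_⟩
    · rw [Finset.sup_lt_iff (by exact_mod_cast WithBot.bot_lt_coe N)]
      intro i hi
      exact lt_of_le_of_lt (Polynomial.degree_C_mul_X_pow_le _ _) (by have := Finset.mem_Icc.1 hi; exact_mod_cast (by omega : N - i < N))
    · simp only [Polynomial.eval₂_add, Polynomial.eval₂_X_pow, Polynomial.eval₂_finsetSum, Polynomial.eval₂_mul, Polynomial.eval₂_C]
      exact ha

end Groth.Agent.S16362
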