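import Mathlib
import Mathlib.RingTheory.Ideal.Quotient.Operations
import Mathlib.Algebra.Polynomial.Basic
import Groth.Statements.S16367
-- import your own Groth.Agent.* helpers here

set_option autoImplicit false
universe u
open MovLem

namespace Groth.Agent.S16367

/-- The chart computation of its proof: let k be a commutative ring, P = k[x_1, …, x_d, w_1, …, w_n] a
polynomial ring in two groups of variables, u a polynomial in the x-variables alone, v a vector in
k^d, J a set of indices among the w-variables with ζ = ∏_{j ∈ J} w_j, and N ≤ s natural numbers. Let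
(f_λ) be a finite family of elements of P, each of total degree at most N in the x-variables, and
assume that ζ^N + c_1 ζ^(N-1) u + ⋯ + c_N u^N lies in the ideal generated by the f_λ for some c_1,
…, c_N ∈ P. For each λ let φ_λ ∈ P[τ] be the polynomial τ^N · f_λ(x + u^s v/τ, w), written out
monomial by monomial: a monomial a·x^m·w^m' of x-degree e = |m| contributes a · τ^(N-e) · ∏_i (τ x_i
+ u^s v_i)^(m_i) · w^m'. Then there are c'_1, …, c'_N ∈ P[τ] with (τζ)^N + c'_1 (τζ)^(N-1) u + ⋯ +
c'_N u^N in the ideal of P[τ] generated by the φ_λ. (This identity is what shows that translating a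
cycle by t·u^s·v preserves the modulus condition on the chart whose coordinates are the z_i and the
1/z_j, with τ = 1/t; integrality of ζ/u, resp. τζ/u, is expressed by such monic binary forms.) -/
theorem result
    {k : Type u} [CommRing k] (d n : ℕ) (u : MvPolynomial (Fin d) k) (v : Fin d → k)
    (J : Finset (Fin n)) (N s : ℕ) (hs : N ≤ s)
    {Λ : Type u} [Fintype Λ] (f : Λ → MvPolynomial (Fin d ⊕ Fin n) k)
    (hdeg : ∀ l, ∀ m ∈ (f l).support, ∑ i : Fin d, m (Sum.inl i) ≤ N)
    (c : ℕ → MvPolynomial (Fin d ⊕ Fin n) k)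
    (hE : (∏ j ∈ J, MvPolynomial.X (Sum.inr j)) ^ N +
        ∑ i ∈ Finset.Icc 1 N, c i * (∏ j ∈ J, MvPolynomial.X (Sum.inr j)) ^ (N - i) *
          MvPolynomial.rename Sum.inl u ^ i ∈ Ideal.span (Set.range f)) :
    ∃ c' : ℕ → Polynomial (MvPolynomial (Fin d ⊕ Fin n) k),
      (Polynomial.X * Polynomial.C (∏ j ∈ J, MvPolynomial.X (Sum.inr j))) ^ N +
        ∑ i ∈ Finset.Icc 1 N, c' i *
          (Polynomial.X * Polynomial.C (∏ j ∈ J, MvPolynomial.X (Sum.inr j))) ^ (N - i) *
            Polynomial.C (MvPolynomial.rename Sum.inl u) ^ i ∈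
      Ideal.span (Set.range fun l : Λ =>
        ∑ m ∈ (f l).support,
          Polynomial.C (MvPolynomial.C (MvPolynomial.coeff m (f l))) *
            Polynomial.X ^ (N - ∑ i : Fin d, m (Sum.inl i)) *
            (∏ i : Fin d, (Polynomial.X * Polynomial.C (MvPolynomial.X (Sum.inl i)) +
                Polynomial.C (MvPolynomial.rename Sum.inl u ^ s * MvPolynomial.C (v i))) ^ m (Sum.inl i)) *
            ∏ j : Fin n, Polynomial.C (MvPolynomial.X (Sum.inr j)) ^ m (Sum.inr j)) := by
  classical
  let U : MvPolynomial (Fin d ⊕ Fin n) k := MvPolynomial.rename Sum.inl u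
  let P : MvPolynomial (Fin d ⊕ Fin n) k := ∏ j ∈ J, MvPolynomial.X (Sum.inr j)
  set H : Λ → Polynomial (MvPolynomial (Fin d ⊕ Fin n) k) := fun l : Λ =>
        ∑ m ∈ (f l).support,
          Polynomial.C (MvPolynomial.C (MvPolynomial.coeff m (f l))) *
            Polynomial.X ^ (N - ∑ i : Fin d, m (Sum.inl i)) *
            (∏ i : Fin d, (Polynomial.X * Polynomial.C (MvPolynomial.X (Sum.inl i)) +
                Polynomial.C (MvPolynomial.rename Sum.inl u ^ s * MvPolynomial.C (v i))) ^ m (Sum.inl i)) *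
            ∏ j : Fin n, Polynomial.C (MvPolynomial.X (Sum.inr j)) ^ m (Sum.inr j) with hH
  let I : Ideal (Polynomial (MvPolynomial (Fin d ⊕ Fin n) k)) := Ideal.span (Set.range H)
  let W : Ideal (Polynomial (MvPolynomial (Fin d ⊕ Fin n) k)) := Ideal.span {Polynomial.C U ^ N}
  have h1 : ∀ l, H l - Polynomial.X ^ N * Polynomial.C (f l) ∈ W := by
    intro l
    rw [← Ideal.Quotient.eq]
    set q := Ideal.Quotient.mk W with hq
    have hlin : ∀ i, q (Polynomial.X * Polynomial.C (MvPolynomial.X (Sum.inl i)) + Polynomial.C U ^ s * Polynomial.C (MvPolynomial.C (v i))) = q Polynomial.X * q (Polynomial.C (MvPolynomial.X (Sum.inl i))) := by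
      intro i
      rw [← map_mul, Ideal.Quotient.eq, add_sub_cancel_left]
      exact Ideal.mul_mem_right _ _ (Ideal.mem_span_singleton.2 (pow_dvd_pow _ hs))
    conv_rhs => rw [(f l).as_sum, map_sum, Finset.mul_sum]
    rw [map_sum, map_sum]
    refine Finset.sum_congr rfl fun m hm => ?_
    simp only [map_mul, map_prod, map_pow]
    simp only [U] at hlin
    simp only [hlin]
    rw [MvPolynomial.monomial_eq, Finsupp.prod_fintype _ _ (fun i => pow_zero _), Fintype.prod_sum_type]
    simp only [map_mul, map_prod, map_pow, mul_pow, Finset.prod_mul_distrib, Finset.prod_pow_eq_pow_sum]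
    have e := pow_sub_mul_pow (q Polynomial.X) (hdeg l m hm)
    rw [← e]
    erw [Finset.prod_congr (s₁ := Finset.univ) rfl (fun i _ => mul_pow (q Polynomial.X) (q (Polynomial.C (MvPolynomial.X (Sum.inl i)))) (m (Sum.inl i)))]
    erw [Finset.prod_mul_distrib, Finset.prod_pow_eq_pow_sum]
    ring
  have h2 : Polynomial.X ^ N * Polynomial.C (P ^ N + ∑ i ∈ Finset.Icc 1 N, c i * P ^ (N - i) * U ^ i) ∈ I ⊔ W := by
    have h3 := Ideal.mem_map_of_mem (Polynomial.C : MvPolynomial (Fin d ⊕ Fin n) k →+* _) hE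
    rw [Ideal.map_span, ← Set.range_comp] at h3
    refine Submodule.span_induction (p := fun z _ => Polynomial.X ^ N * z ∈ I ⊔ W) ?_ (by simp) (fun a b _ _ ha hb => by rw [mul_add]; exact add_mem ha hb) (fun a b _ hb => by rw [smul_eq_mul, mul_left_comm]; exact Ideal.mul_mem_left _ a hb) h3
    rintro _ ⟨l, rfl⟩
    rw [show Polynomial.X ^ N * (Polynomial.C ∘ f) l = H l - (H l - Polynomial.X ^ N * Polynomial.C (f l)) by simp]
    exact sub_mem (Ideal.mem_sup_left (Ideal.subset_span ⟨l, rfl⟩)) (Ideal.mem_sup_right (h1 l))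
  obtain ⟨a, ha, b, hb, hab⟩ := Submodule.mem_sup.1 h2
  obtain ⟨t, rfl⟩ := Ideal.mem_span_singleton'.1 hb
  refine ⟨fun i => Polynomial.C (c i) * Polynomial.X ^ i - if i = N then t else 0, ?_⟩
  have hsum : ∑ i ∈ Finset.Icc 1 N, (Polynomial.C (c i) * Polynomial.X ^ i - if i = N then t else 0) * (Polynomial.X * Polynomial.C P) ^ (N - i) * Polynomial.C U ^ i
      = Polynomial.X ^ N * Polynomial.C (∑ i ∈ Finset.Icc 1 N, c i * P ^ (N - i) * U ^ i) - if 1 ≤ N then t * Polynomial.C U ^ N else 0 := by
    simp only [sub_mul, Finset.sum_sub_distrib, map_sum, Finset.mul_sum]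
    congr 1
    · refine Finset.sum_congr rfl fun i hi => ?_
      rw [← pow_sub_mul_pow (Polynomial.X : Polynomial (MvPolynomial (Fin d ⊕ Fin n) k)) (Finset.mem_Icc.1 hi).2]
      simp only [map_mul, map_pow, mul_pow]; ring
    · simp [ite_mul]
  rcases Nat.eq_zero_or_pos N with hN | hN
  · subst hN
    simp at hE ⊢
    have h3 := Ideal.mem_map_of_mem (Polynomial.C : MvPolynomial (Fin d ⊕ Fin n) k →+* _) hE
    rw [map_one, Ideal.map_span, ← Set.range_comp] at h3
    convert h3 using 3
    funext l
    simp only [hH, Function.comp_apply]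
    conv_rhs => rw [(f l).as_sum, map_sum]
    refine Finset.sum_congr rfl fun m hm => ?_
    have h0 : ∀ i, m (Sum.inl i) = 0 := fun i => Nat.le_zero.1 ((Finset.single_le_sum (fun j _ => Nat.zero_le _) (Finset.mem_univ i)).trans (hdeg l m hm))
    rw [MvPolynomial.monomial_eq, Finsupp.prod_fintype _ _ (fun i => pow_zero _), Fintype.prod_sum_type]
    simp [h0]
  rw [hsum, if_pos (show 1 ≤ N from hN)]
  convert ha using 1
  rw [map_add, mul_add] at hab
  simp only [map_pow, mul_pow] at hab ⊢
  linear_combination -hab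

end Groth.Agent.S16367
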