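import Groth.Statements.S16368
import Mathlib
-- import your own Groth.Agent.* helpers here

set_option autoImplicit false
universe u v
open TensorProduct
open FrobAlg

namespace Groth.Agent.S16368


/-- Let R be a local ring of prime characteristic p and M a finitely presented R-module. Write R' for R
regarded as an R-algebra through its Frobenius a ↦ a^p, so that R' ⊗_R M is the pull-back of M along
the absolute Frobenius of Spec R, an R'-module. If this pull-back is isomorphic to M — there is a
bijective map e : R' ⊗_R M → M, additive and semilinear for the identification R' = R — then M is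
free. -/
theorem result
    (p : ℕ) [Fact p.Prime] (R : Type u) [CommRing R] [IsLocalRing R] [CharP R p]
    (M : Type v) [AddCommGroup M] [Module R M] [Module.FinitePresentation R M]
    (e : (FrobAlg.Twist p R ⊗[R] M) →ₛₗ[((FrobAlg.toTwist p R).symm : FrobAlg.Twist p R →+* R)] M)
    (he : Function.Bijective e) :
    Module.Free R M := by
  classical
  let m := IsLocalRing.maximalIdeal R
  let τ := FrobAlg.toTwist p R
  -- minimal generators
  obtain ⟨s, hs, hsp⟩ := Submodule.FG.exists_span_finset_card_eq_spanFinrank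
    (Module.Finite.fg_top (R := R) (M := M))
  let n := s.card
  let g : Fin n → M := fun i => (s.equivFin.symm i : M)
  have hgr : Set.range g = (s : Set M) := by
    rw [show g = Subtype.val ∘ s.equivFin.symm from rfl, s.equivFin.symm.surjective.range_comp,
      Subtype.range_coe]
  let π : (Fin n → R) →ₗ[R] M := Fintype.linearCombination R g
  have hπ : Function.Surjective π := by
    rw [← LinearMap.range_eq_top, Fintype.range_linearCombination, hgr]
    exact hsp
  have hKfg : (LinearMap.ker π).FG := Module.FinitePresentation.fg_ker π hπ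
  obtain ⟨S, hS⟩ := hKfg
  let J : Ideal R := Ideal.span (Set.range fun x : S × Fin n => (x.1 : Fin n → R) x.2)
  have hJ : ∀ k ∈ LinearMap.ker π, ∀ i, k i ∈ J := by
    intro k hk i
    rw [← hS] at hk
    induction hk using Submodule.span_induction generalizing i with
    | mem x hx => exact Ideal.subset_span ⟨(⟨x, hx⟩, i), rfl⟩
    | zero => exact J.zero_mem
    | add x y _ _ hx hy => exact add_mem (hx i) (hy i)
    | smul r x _ hx => exact Ideal.mul_mem_left _ r (hx i)
  -- relations lie in `m`
  have hKm : ∀ k ∈ LinearMap.ker π, ∀ i, k i ∈ m := by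
    intro k hk i
    by_contra hu
    rw [IsLocalRing.mem_maximalIdeal, mem_nonunits_iff, not_not] at hu
    obtain ⟨u, hu⟩ := hu
    have h0 : ∑ l, k l • g l = 0 := hk
    rw [← Finset.add_sum_erase _ _ (Finset.mem_univ i), add_eq_zero_iff_eq_neg] at h0
    have hspan : Submodule.span R (g '' (Finset.univ.erase i : Finset (Fin n))) = ⊤ := by
      rw [eq_top_iff, ← hsp, ← hgr, Submodule.span_le]
      rintro _ ⟨l, rfl⟩
      by_cases hl : l = i
      · subst hl
        have : g l = (↑u⁻¹ : R) • (-∑ x ∈ Finset.univ.erase l, k x • g x) := by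
          rw [← h0, ← mul_smul, ← hu, Units.inv_mul, one_smul]
        rw [this]
        refine Submodule.smul_mem _ _ (Submodule.neg_mem _ (Submodule.sum_mem _ fun x hx => ?_))
        exact Submodule.smul_mem _ _ (Submodule.subset_span ⟨x, hx, rfl⟩)
      · exact Submodule.subset_span ⟨l, by simp [hl], rfl⟩
    have h1 := Submodule.spanFinrank_span_le_ncard_of_finite (R := R)
      ((Finset.univ.erase i).finite_toSet.image g)
    rw [hspan, ← hs] at h1
    have h2 := h1.trans (Set.ncard_image_le (Finset.finite_toSet _))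
    rw [Set.ncard_coe_finset, Finset.card_erase_of_mem (Finset.mem_univ i), Finset.card_univ,
      Fintype.card_fin] at h2
    have := i.2
    change s.card ≤ n - 1 at h2
    omega
  have hJm : J ≤ m := Ideal.span_le.2 (by
    rintro _ ⟨⟨x, i⟩, rfl⟩
    exact hKm x (hS ▸ Submodule.subset_span x.2) i)
  -- the twisted module is free modulo `J^{[p]}`
  let I : Ideal (FrobAlg.Twist p R) := J.map (algebraMap R (FrobAlg.Twist p R))
  let φ : (Fin n → R) →ₗ[R] (Fin n → FrobAlg.Twist p R ⧸ I) := LinearMap.pi fun i =>
    ((Submodule.mkQ I).restrictScalars R).comp ((Algebra.linearMap R (FrobAlg.Twist p R)).comp (LinearMap.proj i))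
  have hφ : ∀ k ∈ LinearMap.ker π, φ k = 0 := by
    intro k hk
    funext i
    exact (Submodule.Quotient.mk_eq_zero I).2 (Ideal.mem_map_of_mem _ (hJ k hk i))
  let ψ : M →ₗ[R] (Fin n → FrobAlg.Twist p R ⧸ I) :=
    ((LinearMap.ker π).liftQ φ hφ).comp (π.quotKerEquivOfSurjective hπ).symm.toLinearMap
  have hψ : ∀ l, ψ (g l) = φ (Pi.single l 1) := by
    intro l
    have e1 : π.quotKerEquivOfSurjective hπ (Submodule.Quotient.mk (Pi.single l 1)) = g l := by
      change π (Pi.single l 1) = g l
      simp [π]
    simp only [ψ, LinearMap.comp_apply, LinearEquiv.coe_coe, ← e1, LinearEquiv.symm_apply_apply]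
    rfl
  let Ψ : (FrobAlg.Twist p R) ⊗[R] M →ₗ[(FrobAlg.Twist p R)] (Fin n → FrobAlg.Twist p R ⧸ I) := ψ.liftBaseChange (FrobAlg.Twist p R)
  let g' : Fin n → M := fun l => e ((1 : (FrobAlg.Twist p R)) ⊗ₜ[R] g l)
  -- relations of `g'`
  have hrel : ∀ c : Fin n → R, ∑ l, c l • g' l = 0 → ∀ l, τ (c l) ∈ I := by
    intro c hc l
    have h0 : e (∑ l, τ (c l) • ((1 : (FrobAlg.Twist p R)) ⊗ₜ[R] g l)) = 0 := by
      simp only [map_sum, map_smulₛₗ]
      simpa [τ, g'] using hc
    have h1 : ∑ l, τ (c l) • ((1 : (FrobAlg.Twist p R)) ⊗ₜ[R] g l) = 0 := he.1 (h0.trans (map_zero e).symm)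
    have h2 := congrFun (congrArg Ψ h1) l
    simp only [map_sum, map_smul, map_zero, Ψ, LinearMap.liftBaseChange_tmul, one_smul, hψ,
      Finset.sum_apply, Pi.smul_apply, Pi.zero_apply] at h2
    rw [Finset.sum_eq_single l (fun x _ hx => by simp [φ, Pi.single_eq_of_ne (Ne.symm hx)])
      (fun h => absurd (Finset.mem_univ l) h)] at h2
    rw [← Ideal.Quotient.eq_zero_iff_mem]
    have h3 : τ (c l) • (1 : FrobAlg.Twist p R ⧸ I) = 0 := by simpa [φ] using h2
    rwa [Algebra.smul_def, mul_one] at h3
  -- express each system of generators by the other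
  have hA : ∀ l, ∃ a : Fin n → R, π a = g' l := fun l => hπ (g' l)
  have hB : ∀ i, ∃ b : Fin n → R, ∑ l, b l • g' l = g i := by
    intro i
    obtain ⟨y, hy⟩ := he.2 (g i)
    have hspanT : y ∈ Submodule.span (FrobAlg.Twist p R) (Set.range fun l => (1 : (FrobAlg.Twist p R)) ⊗ₜ[R] g l) := by
      clear hy
      induction y using TensorProduct.induction_on with
      | zero => exact zero_mem _
      | add a b ha hb => exact add_mem ha hb
      | tmul t x =>
        obtain ⟨a, rfl⟩ := hπ x
        rw [show t ⊗ₜ[R] π a = t • ((1 : (FrobAlg.Twist p R)) ⊗ₜ[R] π a) by rw [TensorProduct.smul_tmul', smul_eq_mul, mul_one]]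
        refine Submodule.smul_mem _ _ ?_
        rw [Fintype.linearCombination_apply, TensorProduct.tmul_sum]
        refine Submodule.sum_mem _ fun l _ => ?_
        rw [TensorProduct.tmul_smul, ← algebraMap_smul (FrobAlg.Twist p R)]
        exact Submodule.smul_mem _ _ (Submodule.subset_span ⟨l, rfl⟩)
    obtain ⟨d, rfl⟩ := Submodule.mem_span_range_iff_exists_fun (FrobAlg.Twist p R) |>.1 hspanT
    refine ⟨fun l => τ.symm (d l), ?_⟩
    rw [← hy, map_sum]
    simp only [map_smulₛₗ]
    rfl
  choose a ha using hA
  choose b hb using hB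
  let A : Matrix (Fin n) (Fin n) R := Matrix.of a
  let B : Matrix (Fin n) (Fin n) R := Matrix.of b
  have hBA : ∀ i j, (B * A - 1) i j ∈ m := by
    intro i j
    refine hKm (fun j => (B * A - 1) i j) ?_ j
    rw [LinearMap.mem_ker]
    simp only [π, Fintype.linearCombination_apply, Matrix.sub_apply, sub_smul, Finset.sum_sub_distrib,
      Matrix.mul_apply, Finset.sum_smul, mul_smul]
    rw [Finset.sum_comm, sub_eq_zero]
    simp only [← Finset.smul_sum]
    have : ∀ x, ∑ y, A x y • g y = g' x := fun x => ha x
    simp only [this]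
    rw [show (∑ x, B i x • g' x) = g i from hb i]
    simp [Matrix.one_apply]
  have hdet : IsUnit B.det := by
    have h1 : (B * A).map (IsLocalRing.residue R) = 1 := by
      ext i j
      have h := (IsLocalRing.residue_eq_zero_iff _).2 (hBA i j)
      rw [Matrix.sub_apply, map_sub, sub_eq_zero] at h
      rw [Matrix.map_apply, h]
      by_cases hij : i = j <;> simp [Matrix.one_apply, hij]
    have h2 : IsLocalRing.residue R ((B * A).det) = 1 := by
      rw [RingHom.map_det]; simp [RingHom.mapMatrix_apply, h1]
    by_contra h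
    rw [Matrix.det_mul, map_mul, (IsLocalRing.residue_eq_zero_iff _).2 h, zero_mul] at h2
    exact zero_ne_one h2
  -- hence `J ≤ J^{[p]}`
  have hkey : J ≤ (J.map (frobenius R p)) := by
    refine Ideal.span_le.2 ?_
    rintro _ ⟨⟨⟨k, hkS⟩, i⟩, rfl⟩
    have hk : k ∈ LinearMap.ker π := hS ▸ Submodule.subset_span hkS
    have hkB : ∀ l, τ (Matrix.vecMul k B l) ∈ I := by
      refine hrel _ ?_
      simp only [Matrix.vecMul, dotProduct, Finset.sum_smul, mul_smul]
      rw [Finset.sum_comm]
      simp only [← Finset.smul_sum]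
      have : ∀ x, ∑ y, B x y • g' y = g x := fun x => hb x
      simp only [this]
      exact hk
    have hI : ∀ x : R, τ x ∈ I → x ∈ J.map (frobenius R p) := by
      intro x hx
      have : I = (J.map (frobenius R p)).map (τ : R →+* (FrobAlg.Twist p R)) := by
        rw [Ideal.map_map]; rfl
      rw [this] at hx
      replace hx := (Ideal.mem_map_iff_of_surjective (τ : R →+* FrobAlg.Twist p R) τ.surjective).1 hx
      obtain ⟨x', hx', hxe⟩ := hx
      exact τ.injective hxe ▸ hx'
    have hki : k = Matrix.vecMul (Matrix.vecMul k B) B⁻¹ := by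
      rw [Matrix.vecMul_vecMul, Matrix.mul_nonsing_inv B hdet, Matrix.vecMul_one]
    change k i ∈ J.map (frobenius R p)
    rw [hki]
    simp only [Matrix.vecMul, dotProduct]
    exact Ideal.sum_mem _ fun l _ => Ideal.mul_mem_right _ _ (hI _ (hkB l))
  have hJ0 : J = ⊥ := by
    refine Submodule.eq_bot_of_le_smul_of_le_jacobson_bot m J ?_ ?_ (IsLocalRing.maximalIdeal_le_jacobson _)
    · exact Submodule.fg_span (Set.finite_range _)
    · refine hkey.trans (Ideal.map_le_iff_le_comap.2 fun x hx => ?_)
      rw [Ideal.mem_comap, frobenius_def, smul_eq_mul]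
      obtain ⟨q, hq⟩ := Nat.exists_eq_add_of_le (Fact.out : p.Prime).two_le
      rw [hq, show 2 + q = (q + 1) + 1 by ring, pow_succ]
      exact Ideal.mul_mem_mul (Ideal.pow_mem_of_mem _ (hJm hx) _ q.succ_pos) hx
  have hinj : Function.Injective π := (injective_iff_map_eq_zero π).2 fun k hk => funext fun i => by
    have := hJ k hk i
    rwa [hJ0, Submodule.mem_bot] at this
  exact Module.Free.of_equiv (LinearEquiv.ofBijective π ⟨hinj, hπ⟩)

end Groth.Agent.S16368
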