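import Groth.Statements.S16370
import Mathlib.CategoryTheory.Sites.SheafCohomology.Basic
import Mathlib.Algebra.Homology.DerivedCategory.Ext.ExactSequences
-- import your own Groth.Agent.* helpers here

set_option autoImplicit false
universe u
open CategoryTheory AlgebraicGeometry Opposite
open FrobSch

namespace Groth.Agent.S16370

/-- (ii) ⇒ (iii): let X be a reduced scheme of prime characteristic p, φ the p-th power map on the sheaf
of additive groups underlying O_X (a monomorphism, X being reduced) and B its cokernel in abelian
sheaves. If H^i(X, B) = 0 for all i ≥ 0, then the endomorphism of H^i(X, O_X) induced by φ — the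
Hasse–Witt operation — is bijective for all i. (The source has X normal and proper over a perfect
field; only reducedness enters this implication.) -/
theorem result
    (p : ℕ) [Fact p.Prime] (X : Scheme.{u}) [IsReduced X] (hp : (p : Γ(X, ⊤)) = 0)
    (φ : Coh.toAb (Coh.structureModule X) ⟶ Coh.toAb (Coh.structureModule X))
    (hφ : ∀ (U : X.Opens) (t : Γ(X, U)), φ.hom.app (op U) t = t ^ p)
    (hB : ∀ i : ℕ, Subsingleton (Sheaf.H (Limits.cokernel φ) i))
    (i : ℕ) : Function.Bijective (Sheaf.H.map φ i) := by
    have hmono : Mono φ := by
      have : ∀ U, Mono (φ.hom.app U) := fun U => (AddCommGrpCat.mono_iff_injective _).2 (by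
        refine (injective_iff_map_eq_zero _).2 fun t ht => ?_
        have h := (hφ U.unop t).symm.trans ht
        exact (show IsNilpotent (show Γ(X, U.unop) from t) from ⟨p, h⟩).eq_zero)
      haveI : Mono φ.hom := NatTrans.mono_of_mono_app φ.hom
      exact (sheafToPresheaf _ _).mono_of_mono_map (show Mono ((sheafToPresheaf _ _).map φ) from this)
    have hS : (ShortComplex.mk φ (Limits.cokernel.π φ) (Limits.cokernel.condition φ)).ShortExact :=
      { exact := ShortComplex.exact_cokernel φ, mono_f := hmono, epi_g := inferInstance }
    refine ⟨(injective_iff_map_eq_zero _).2 fun x hx => ?_, fun x => ?_⟩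
    · cases i with
      | zero =>
        apply Abelian.Ext.addEquiv₀.injective
        rw [map_zero, ← cancel_mono φ, Limits.zero_comp]
        exact (Sheaf.H.addEquiv₀_map φ x).symm.trans ((congrArg _ hx).trans (map_zero _))
      | succ n =>
        obtain ⟨y, rfl⟩ := Abelian.Ext.covariant_sequence_exact₁ _ hS x hx (n₀ := n) rfl
        haveI := hB n
        rw [Subsingleton.elim y 0, Abelian.Ext.zero_comp]
    · haveI := hB i
      obtain ⟨y, hy⟩ := Abelian.Ext.covariant_sequence_exact₂ _ hS x (Subsingleton.elim (α := Sheaf.H _ i) _ _)
      exact ⟨y, hy⟩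

end Groth.Agent.S16370
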