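import Mathlib
import Groth.Statements.S16371
-- import your own Groth.Agent.* helpers here

set_option autoImplicit false
universe u v w
open FrobAlg

namespace Groth.Agent.S16371

/-- Let p be a prime, A a commutative ring and B, C commutative A-algebras with p² = 0 in B. If two
A-algebra maps g₁, g₂ : C → B agree modulo p, then they agree on every element of C which is
congruent modulo p to an element of the A-subalgebra generated by the p-th powers. (The source
states this for liftings over a flat ℤ/p²-thickening of two smooth schemes and the subsheaf of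
functions whose reduction lies in the image of the relative Frobenius; the smoothness and lifting
hypotheses are not needed for the identity.) -/
theorem result
    (p : ℕ) [Fact p.Prime] (A : Type u) [CommRing A] (B : Type v) [CommRing B] [Algebra A B]
    (C : Type w) [CommRing C] [Algebra A C] (hp : (p : B) ^ 2 = 0)
    (g₁ g₂ : C →ₐ[A] B) (hg : ∀ x : C, g₁ x - g₂ x ∈ Ideal.span ({(p : B)} : Set B))
    (x y : C) (hy : y ∈ Algebra.adjoin A (Set.range fun c : C => c ^ p))
    (hxy : x - y ∈ Ideal.span ({(p : C)} : Set C)) :
    g₁ x = g₂ x := by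
  have h2 : ∀ c : C, g₁ (c ^ p) = g₂ (c ^ p) := by
    intro c
    have := dvd_sub_pow_of_dvd_sub (p := p) (Ideal.mem_span_singleton.1 (hg c)) 1
    rw [pow_one, one_add_one_eq_two, hp, zero_dvd_iff, sub_eq_zero] at this
    rw [map_pow, map_pow, this]
  have hy' : g₁ y = g₂ y := by
    have hle : Algebra.adjoin A (Set.range fun c : C => c ^ p) ≤ AlgHom.equalizer g₁ g₂ :=
      Algebra.adjoin_le (by rintro _ ⟨c, rfl⟩; exact h2 c)
    exact hle hy
  obtain ⟨c, hc⟩ := Ideal.mem_span_singleton'.1 hxy
  obtain ⟨e, he⟩ := Ideal.mem_span_singleton'.1 (hg c)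
  have : g₁ x - g₂ x = (g₁ c - g₂ c) * (p : B) := by
    have hx : x = c * (p : C) + y := by rw [hc, sub_add_cancel]
    rw [hx, map_add, map_add, map_mul, map_mul, map_natCast, map_natCast, hy']
    ring
  rw [← sub_eq_zero, this, ← he, mul_assoc, ← pow_two, hp, mul_zero]

end Groth.Agent.S16371
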