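import Mathlib
import Mathlib.RingTheory.WittVector.Identities
import Groth.Statements.S16373
-- import your own Groth.Agent.* helpers here

set_option autoImplicit false
universe u
open FrobAlg

namespace Groth.Agent.S16373

open CategoryTheory

set_option backward.isDefEq.respectTransparency false
set_option backward.isDefEq.respectTransparency.types false

/-- Let p be a prime, m ≥ 1, R a commutative ring with p = 0 in R and σ : W_m(R) → R a quasi-F-splitting
of level m (additive, σ(1) = 1, σ(F(x)·y) = x₀·σ(y) with F the componentwise p-th power). Let I ⊆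
W_{m+1}(R) be the ideal generated by the shifts V(x) of the x with σ(x) = 0, and Q = W_{m+1}(R)/I.
Then Q is a flat lifting of R modulo p²: an element of Q lies in pQ exactly when the first Witt
component of a representative vanishes (so Q/pQ is R through the first component), and an element of
Q is killed by p exactly when it lies in pQ. (Stated for a ring; the source has a scheme over the
prime field. For m = 1 this is the lifting attached to a Frobenius splitting.) -/
theorem result
    (p : ℕ) [Fact p.Prime] (m : ℕ) (hm : 0 < m) (R : Type u) [CommRing R] (hp : (p : R) = 0)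
    (σ : TruncatedWittVector p m R →+ R) (h1 : σ 1 = 1)
    (hF : ∀ x y : TruncatedWittVector p m R, σ (WittGrp.frob p m hp x * y) = x.coeff ⟨0, hm⟩ * σ y)
    (I : Ideal (TruncatedWittVector p (m + 1) R))
    (hI : I = Ideal.span (WittGrp.shift p (Nat.le_succ m) '' {x : TruncatedWittVector p m R | σ x = 0})) :
    (∀ w : TruncatedWittVector p (m + 1) R,
        Ideal.Quotient.mk I w ∈ Ideal.span ({(p : TruncatedWittVector p (m + 1) R ⧸ I)} : Set _) ↔
          w.coeff 0 = 0) ∧
    (∀ q : TruncatedWittVector p (m + 1) R ⧸ I,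
        (p : TruncatedWittVector p (m + 1) R ⧸ I) * q = 0 ↔
          q ∈ Ideal.span ({(p : TruncatedWittVector p (m + 1) R ⧸ I)} : Set _)) := by
  classical
  haveI hnt : Subsingleton R ∨ CharP R p := by
    rcases subsingleton_or_nontrivial R with h | h
    · exact Or.inl h
    · exact Or.inr ((CharP.charP_iff_prime_eq_zero (Fact.out : p.Prime)).mpr hp)
  rcases hnt with hs | hc
  · haveI : Subsingleton (TruncatedWittVector p (m + 1) R) := ⟨fun a b => TruncatedWittVector.ext fun i => Subsingleton.elim _ _⟩
    haveI : Subsingleton (TruncatedWittVector p (m + 1) R ⧸ I) := Ideal.Quotient.mk_surjective.subsingleton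
    exact ⟨fun w => ⟨fun _ => Subsingleton.elim _ _, fun _ => by rw [Subsingleton.elim (Ideal.Quotient.mk I w) 0]; exact Ideal.zero_mem _⟩,
      fun q => ⟨fun _ => by rw [Subsingleton.elim q 0]; exact Ideal.zero_mem _, fun _ => Subsingleton.elim _ _⟩⟩
  have hsF : ∀ (a : TruncatedWittVector p (m + 1) R) (x : TruncatedWittVector p m R),
      a * WittGrp.shift p (Nat.le_succ m) x = WittGrp.shift p (Nat.le_succ m) (WittGrp.frob p m hp (TruncatedWittVector.truncate (Nat.le_succ m) a) * x) := by
    intro a x
    obtain ⟨A, rfl⟩ := WittVector.truncate_surjective p (m + 1) R a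
    obtain ⟨Y, rfl⟩ := WittVector.truncate_surjective p m R x
    rw [TruncatedWittVector.truncate_wittVector_truncate, WittGrp.frob_truncate, ← map_mul, WittGrp.shift_truncate, WittGrp.shift_truncate, ← map_mul]
    simp only [show m.succ - m = 1 by omega, Function.iterate_one]
    rw [mul_comm A, ← WittVector.verschiebung_mul_frobenius, mul_comm Y]
  have hone : (p : TruncatedWittVector p (m + 1) R) = WittGrp.shift p (Nat.le_succ m) 1 := by
    rw [← map_one (WittVector.truncate (p := p) (R := R) m), WittGrp.shift_truncate, ← map_natCast (WittVector.truncate (p := p) (R := R) (m + 1)) p]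
    simp only [show m.succ - m = 1 by omega, Function.iterate_one]
    rw [← map_one (WittVector.frobenius (p := p) (R := R)), WittVector.verschiebung_frobenius, one_mul]
  have hpa : ∀ a : TruncatedWittVector p (m + 1) R, a * (p : TruncatedWittVector p (m + 1) R) = WittGrp.shift p (Nat.le_succ m) (WittGrp.frob p m hp (TruncatedWittVector.truncate (Nat.le_succ m) a)) := by
    intro a; rw [hone, hsF, mul_one]
  have hσF : ∀ a : TruncatedWittVector p (m + 1) R, σ (WittGrp.frob p m hp (TruncatedWittVector.truncate (Nat.le_succ m) a)) = a.coeff 0 := by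
    intro a
    have h := hF (TruncatedWittVector.truncate (Nat.le_succ m) a) 1
    rw [mul_one, h1, mul_one, TruncatedWittVector.coeff_truncate] at h
    exact h
  have hmem : ∀ w, w ∈ I → ∃ x, σ x = 0 ∧ w = WittGrp.shift p (Nat.le_succ m) x := by
    intro w hw
    rw [hI] at hw
    induction hw using Submodule.span_induction with
    | mem y hy => obtain ⟨x, hx, rfl⟩ := hy; exact ⟨x, hx, rfl⟩
    | zero => exact ⟨0, map_zero σ, (map_zero _).symm⟩
    | add a b _ _ ha hb => obtain ⟨x, hx, rfl⟩ := ha; obtain ⟨y, hy, rfl⟩ := hb; exact ⟨x + y, by rw [map_add, hx, hy, add_zero], (map_add _ x y).symm⟩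
    | smul a b _ hb => obtain ⟨x, hx, rfl⟩ := hb; exact ⟨_, by rw [hF, hx, mul_zero], hsF a x⟩
  have hinj : Function.Injective (WittGrp.shift p (R := R) (Nat.le_succ m)) := by
    intro x y h
    refine TruncatedWittVector.ext fun i => ?_
    have h' := congrArg (TruncatedWittVector.coeff (⟨(i : ℕ) + 1, by omega⟩ : Fin (m + 1))) h
    rw [WittGrp.coeff_shift, WittGrp.coeff_shift, dif_pos (by show m.succ - m ≤ (i : ℕ) + 1; omega), dif_pos (by show m.succ - m ≤ (i : ℕ) + 1; omega)] at h'
    convert h' using 2 <;> exact Fin.ext (by show (i : ℕ) = (i : ℕ) + 1 - (m.succ - m); omega)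
  have hsh0 : ∀ x : TruncatedWittVector p m R, (WittGrp.shift p (Nat.le_succ m) x).coeff 0 = 0 := by
    intro x; rw [WittGrp.coeff_shift, dif_neg (by show ¬ m.succ - m ≤ 0; omega)]
  have key : ∀ w : TruncatedWittVector p (m + 1) R, Ideal.Quotient.mk I w ∈ Ideal.span ({(p : TruncatedWittVector p (m + 1) R ⧸ I)} : Set _) ↔ w.coeff 0 = 0 := by
    intro w
    rw [Ideal.mem_span_singleton]
    constructor
    · rintro ⟨q, hq⟩
      obtain ⟨a, rfl⟩ := Ideal.Quotient.mk_surjective q
      rw [← map_natCast (Ideal.Quotient.mk I) p, ← map_mul, Ideal.Quotient.eq] at hq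
      obtain ⟨x, -, hx⟩ := hmem _ hq
      rw [sub_eq_iff_eq_add, mul_comm, hpa, ← map_add] at hx
      rw [hx]; exact hsh0 _
    · intro hw
      obtain ⟨y, rfl⟩ : ∃ y, w = WittGrp.shift p (Nat.le_succ m) y := ⟨TruncatedWittVector.mk p fun i => w.coeff ⟨(i : ℕ) + 1, by omega⟩, TruncatedWittVector.ext fun i => by
        rw [WittGrp.coeff_shift]
        split_ifs with hi
        · rw [TruncatedWittVector.coeff_mk]; congr 1; exact Fin.ext (by show (i : ℕ) = (i : ℕ) - (m.succ - m) + 1; omega)
        · rw [← hw]; congr 1; exact Fin.ext (by show (i : ℕ) = 0; omega)⟩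
      let a : TruncatedWittVector p (m + 1) R := TruncatedWittVector.mk p fun _ => σ y
      refine ⟨Ideal.Quotient.mk I a, ?_⟩
      rw [← map_natCast (Ideal.Quotient.mk I) p, ← map_mul, Ideal.Quotient.eq, mul_comm, hpa, ← map_sub, hI]
      refine Ideal.subset_span ⟨_, ?_, rfl⟩
      show σ _ = 0
      rw [map_sub, hσF, TruncatedWittVector.coeff_mk, sub_self]
  refine ⟨key, fun q => ?_⟩
  obtain ⟨w, rfl⟩ := Ideal.Quotient.mk_surjective q
  rw [key, ← map_natCast (Ideal.Quotient.mk I) p, ← map_mul, Ideal.Quotient.eq_zero_iff_mem, mul_comm, hpa]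
  constructor
  · intro h
    obtain ⟨x, hx, hxe⟩ := hmem _ h
    rw [← hσF, hinj hxe, hx]
  · intro h
    rw [hI]
    exact Ideal.subset_span ⟨_, (hσF w).trans h, rfl⟩

end Groth.Agent.S16373
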