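import Groth.Statements.S16390
import Mathlib.NumberTheory.Padics.Hensel
import Mathlib.Algebra.Polynomial.SpecificDegree
import Mathlib.Analysis.Complex.Norm
import Mathlib.Tactic.LinearCombination
import Mathlib.Tactic.Linarith

set_option autoImplicit false
open AbVar

namespace Groth.Agent.S16390

/-- Let p be a prime number, r > 2 and q = p^r. The polynomial x² − p x + q is irreducible over ℚ, each
of its complex roots has absolute value √q (so its roots are Weil q-numbers), and it has two
distinct roots in ℚ_p, of p-adic valuations 1 and r − 1. The published lemma also computes the index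
of the endomorphism algebra of the simple abelian variety attached to a root; this row does not
state that part. -/
theorem result (p r : ℕ) [Fact p.Prime] (hr : 2 < r) :
    Irreducible (Polynomial.X ^ 2 - Polynomial.C (p : ℚ) * Polynomial.X + Polynomial.C ((p : ℚ) ^ r)) ∧
      (∀ π : ℂ, π ^ 2 - (p : ℂ) * π + (p : ℂ) ^ r = 0 → ‖π‖ = Real.sqrt ((p : ℝ) ^ r)) ∧
      ∃ a b : ℚ_[p], a ≠ b ∧ a ^ 2 - (p : ℚ_[p]) * a + (p : ℚ_[p]) ^ r = 0 ∧
        b ^ 2 - (p : ℚ_[p]) * b + (p : ℚ_[p]) ^ r = 0 ∧ a.valuation = 1 ∧ b.valuation = (r : ℤ) - 1 := by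
  have hp : p.Prime := Fact.out
  have hp2 : (2:ℝ) ≤ p := by exact_mod_cast hp.two_le
  have hlt : (p:ℝ)^2 < 4 * (p:ℝ)^r := by
    have h : (p:ℝ)^2 ≤ (p:ℝ)^r := pow_le_pow_right₀ (by linarith) hr.le
    have : (0:ℝ) < (p:ℝ)^2 := by positivity
    linarith
  refine ⟨?_, ?_, ?_⟩
  · have hd : (Polynomial.X ^ 2 - Polynomial.C (p : ℚ) * Polynomial.X + Polynomial.C ((p : ℚ) ^ r)).natDegree = 2 := by
      compute_degree!
    rw [Polynomial.irreducible_iff_roots_eq_zero_of_degree_le_three hd.ge (by rw [hd]; norm_num)]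
    refine Multiset.eq_zero_of_forall_notMem fun x hx => ?_
    have h := (Polynomial.mem_roots'.mp hx).2
    simp only [Polynomial.IsRoot.def, Polynomial.eval_add, Polynomial.eval_sub, Polynomial.eval_mul, Polynomial.eval_pow, Polynomial.eval_X, Polynomial.eval_C] at h
    have h' : (x:ℝ)^2 - (p:ℝ) * x + (p:ℝ)^r = 0 := by exact_mod_cast h
    nlinarith [sq_nonneg (2 * (x:ℝ) - p)]
  · intro π hπ
    have hre := congrArg Complex.re hπ
    have him := congrArg Complex.im hπ
    have e : ((p:ℂ)^r) = (((p:ℝ)^r : ℝ) : ℂ) := by push_cast; rfl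
    have ep : ((p:ℂ)) = (((p:ℝ) : ℝ) : ℂ) := by norm_cast
    rw [e, ep] at hre him
    simp only [pow_two, Complex.add_re, Complex.sub_re, Complex.mul_re, Complex.ofReal_re, Complex.ofReal_im, Complex.zero_re,
      Complex.add_im, Complex.sub_im, Complex.mul_im, Complex.zero_im] at hre him
    rw [Complex.norm_def, Complex.normSq_apply]
    congr 1
    have hx : π.im * (2 * π.re - p) = 0 := by linarith
    rcases mul_eq_zero.mp hx with h0 | h0
    · rw [h0] at hre
      nlinarith [sq_nonneg (2 * π.re - p)]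
    · have hre2 : π.re * 2 = p := by linarith
      rw [← hre2] at hre ⊢
      nlinarith
  · obtain ⟨k, rfl⟩ : ∃ k, r = k + 3 := ⟨r - 3, by omega⟩
    let F : Polynomial ℤ_[p] := Polynomial.X ^ 2 - Polynomial.X + Polynomial.C ((p : ℤ_[p]) ^ (k+1))
    have hF : F.aeval (1 : ℤ_[p]) = (p : ℤ_[p]) ^ (k+1) := by simp [F]
    have hF' : F.derivative.aeval (1 : ℤ_[p]) = 1 := by
      simp only [F, Polynomial.derivative_add, Polynomial.derivative_sub, Polynomial.derivative_X_pow, Polynomial.derivative_X, Polynomial.derivative_C]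
      simp; norm_num
    have hlt1 : ‖(p : ℤ_[p]) ^ (k+1)‖ < 1 := by
      rw [norm_pow]; exact pow_lt_one₀ (norm_nonneg _) (by rw [PadicInt.norm_p]; exact inv_lt_one_of_one_lt₀ (by exact_mod_cast hp.one_lt)) (by omega)
    obtain ⟨z, hz, hz1, -⟩ := hensels_lemma (F := F) (a := (1 : ℤ_[p])) (by rw [hF, hF']; simpa using hlt1)
    rw [hF', norm_one] at hz1
    have hzu : IsUnit z := by
      rw [PadicInt.isUnit_iff]
      by_contra h
      have hzlt : ‖z‖ < 1 := lt_of_le_of_ne (PadicInt.norm_le_one z) h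
      have h2 := PadicInt.nonarchimedean z (-(z - 1))
      rw [norm_neg, show z + -(z - 1) = 1 by ring, norm_one] at h2
      exact absurd h2 (not_le.mpr (max_lt hzlt hz1))
    have hzv : (z : ℚ_[p]).valuation = 0 := by
      obtain ⟨w, rfl⟩ := hzu
      rw [PadicInt.valuation_coe]
      have := PadicInt.valuation_mul (p := p) w.ne_zero (w⁻¹).ne_zero
      rw [Units.mul_inv, PadicInt.valuation_one] at this
      omega
    have hz' : (z : ℚ_[p])^2 - z + (p:ℚ_[p])^(k+1) = 0 := by
      have h := congrArg (fun t : ℤ_[p] => (t : ℚ_[p])) hz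
      simpa [F] using h
    have hp0 : (p : ℚ_[p]) ≠ 0 := by simp [hp.ne_zero]
    have hz0 : (z : ℚ_[p]) ≠ 0 := by simpa using hzu.ne_zero
    have hb : (p : ℚ_[p]) * (1 - z) = (p : ℚ_[p]) ^ (k+2) / z := by
      rw [eq_div_iff hz0]; linear_combination (-(p : ℚ_[p])) * hz'
    refine ⟨p * z, p * (1 - z), ?_, by linear_combination (p:ℚ_[p])^2 * hz', by linear_combination (p:ℚ_[p])^2 * hz', ?_, ?_⟩
    · intro h
      have hv := congrArg Padic.valuation h
      rw [hb, div_eq_mul_inv, Padic.valuation_mul hp0 hz0, Padic.valuation_mul (pow_ne_zero _ hp0) (inv_ne_zero hz0),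
        Padic.valuation_pow, Padic.valuation_inv, Padic.valuation_p, hzv] at hv
      push_cast at hv; omega
    · rw [Padic.valuation_mul hp0 hz0, Padic.valuation_p, hzv]; norm_num
    · rw [hb, div_eq_mul_inv, Padic.valuation_mul (pow_ne_zero _ hp0) (inv_ne_zero hz0), Padic.valuation_pow,
        Padic.valuation_inv, Padic.valuation_p, hzv]
      push_cast; omega

end Groth.Agent.S16390
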