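import Mathlib
import Groth.Statements.S16396
-- import your own Groth.Agent.* helpers here

set_option autoImplicit false
universe u
open CAlg

namespace Groth.Agent.S16396

open Polynomial in
/-- For a commutative ℚ-algebra A, a ℚ-subalgebra B of the polynomial algebra A[X] that contains X and
is closed under d/dX consists exactly of the polynomials each of whose coefficients is the value at
0 of some element of B; in other words B = ev(B)[X], with ev the evaluation at 0. -/
theorem result
    (A : Type u) [CommRing A] [Algebra ℚ A] (B : Subalgebra ℚ A[X])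
    (hX : (X : A[X]) ∈ B) (hD : ∀ P ∈ B, Polynomial.derivative P ∈ B) (P : A[X]) :
    P ∈ B ↔ ∀ i : ℕ, ∃ Q ∈ B, Polynomial.eval 0 Q = P.coeff i := by
  have hsm : ∀ (c : ℚ) (x : A[X]), x ∈ B → c • x ∈ B := fun c x hx => B.smul_mem hx c
  have key : ∀ d : ℕ, ∀ Q ∈ B, Q.natDegree ≤ d → ∀ i, Polynomial.C (Q.coeff i) ∈ B := by
    intro d
    induction d with
    | zero =>
      intro Q hQ hd i
      have hQ' := Polynomial.eq_C_of_natDegree_le_zero hd
      cases i with
      | zero => rwa [← hQ']
      | succ i => rw [Polynomial.coeff_eq_zero_of_natDegree_lt (by omega)]; simp [zero_mem]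
    | succ d ih =>
      intro Q hQ hd i
      have hs : ∀ i, Polynomial.C (Q.coeff (i + 1)) ∈ B := fun i => by
        have h := hsm (((i + 1 : ℕ) : ℚ)⁻¹) _ (ih _ (hD Q hQ) ((Polynomial.natDegree_derivative_le Q).trans (by omega)) i)
        rw [Polynomial.coeff_derivative, Polynomial.smul_C, mul_comm,
          show ((i : A) + 1) * Q.coeff (i + 1) = ((i + 1 : ℕ) : ℚ) • Q.coeff (i + 1) by
            rw [Algebra.smul_def, map_natCast]; push_cast; ring,
          smul_smul, inv_mul_cancel₀ (by exact_mod_cast Nat.succ_ne_zero i), one_smul] at h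
        exact h
      cases i with
      | succ i => exact hs i
      | zero =>
        have h0 : Polynomial.C (Q.coeff 0) = Q - ∑ k ∈ Finset.range (d + 1), Polynomial.C (Q.coeff (k + 1)) * Polynomial.X ^ (k + 1) := by
          conv_rhs => arg 1; rw [Q.as_sum_range_C_mul_X_pow' (show Q.natDegree < d + 2 by omega), Finset.sum_range_succ']
          simp
        rw [h0]
        exact sub_mem hQ (sum_mem fun k _ => mul_mem (hs k) (pow_mem hX _))
  constructor
  · intro hP i
    exact ⟨_, key P.natDegree P hP le_rfl i, by simp⟩
  · intro h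
    rw [P.as_sum_range_C_mul_X_pow]
    refine sum_mem fun i _ => mul_mem ?_ (pow_mem hX _)
    obtain ⟨Q, hQ, hQi⟩ := h i
    rw [← hQi, ← Polynomial.coeff_zero_eq_eval_zero]
    exact key Q.natDegree Q hQ le_rfl 0

end Groth.Agent.S16396
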