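import Mathlib
import Groth.Statements.S16400
-- import your own Groth.Agent.* helpers here

set_option autoImplicit false
universe u v
open CAlgX

namespace Groth.Agent.S16400

/-- Let K be a field, N a finite index set and A a square matrix over K indexed by N whose linear map on
column vectors has kernel equal to its range (so A composed with A is zero and the three-term
sequence it defines is exact in the middle). Then there are subsets N₁₂, N₂₁, N₃₁ of N such that the
block of A with rows in N₃₁ and columns in N₂₁, and the block of A with rows outside N₂₁ and columns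
in N₁₂, both act bijectively on column vectors. (In the original setting K is the prime field and
middle exactness is supplied by the Cartier isomorphism; here exactness is the hypothesis and K is
any field.) -/
theorem result
    {K : Type u} [Field K] {N : Type v} [Fintype N] [DecidableEq N]
    (A : Matrix N N K)
    (hA : LinearMap.ker A.mulVecLin = LinearMap.range A.mulVecLin) :
    ∃ N₁₂ N₂₁ N₃₁ : Finset N,
      Function.Bijective (A.submatrix (Subtype.val : ↥N₃₁ → N) (Subtype.val : ↥N₂₁ → N)).mulVecLin ∧
      Function.Bijective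
        (A.submatrix (Subtype.val : {x : N // x ∉ N₂₁} → N) (Subtype.val : ↥N₁₂ → N)).mulVecLin := by
  classical
  set W := LinearMap.ker A.mulVecLin with hW
  obtain ⟨κ, a, ha, hsp, hli⟩ := exists_linearIndependent' K (fun i : N => W.mkQ (Pi.single i 1))
  have : Fintype κ := Fintype.ofInjective a ha
  let J : Finset N := Finset.univ.image a
  have hmk : ∀ z : N → K, W.mkQ z = ∑ i, z i • W.mkQ (Pi.single i 1) := fun z => by
    conv_lhs => rw [pi_eq_sum_univ' z]
    simp [map_sum]
  have hinj : ∀ z : N → K, (∀ i ∉ J, z i = 0) → z ∈ W → z = 0 := by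
    intro z hz hzW
    have h0 : ∑ k, z (a k) • W.mkQ (Pi.single (a k) 1) = 0 := by
      rw [← (Submodule.Quotient.mk_eq_zero W).2 hzW]
      refine Eq.trans ?_ (hmk z).symm
      rw [← Finset.sum_image (f := fun i => z i • W.mkQ (Pi.single i 1)) (fun x _ y _ e => ha e)]
      refine Finset.sum_subset (Finset.subset_univ _) fun i _ hi => ?_
      rw [hz i hi, zero_smul]
    have := Fintype.linearIndependent_iff.1 hli (fun k => z (a k)) h0
    funext i
    by_cases hi : i ∈ J
    · obtain ⟨k, -, rfl⟩ := Finset.mem_image.1 hi
      exact this k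
    · exact hz i hi
  have hdec : ∀ z : N → K, ∃ j : N → K, (∀ i ∉ J, j i = 0) ∧ z - j ∈ W := by
    intro z
    have hmem : W.mkQ z ∈ Submodule.span K (Set.range ((fun i : N => W.mkQ (Pi.single i 1)) ∘ a)) := by
      rw [hsp, hmk z]
      exact Submodule.sum_mem _ fun i _ => Submodule.smul_mem _ _ (Submodule.subset_span ⟨i, rfl⟩)
    obtain ⟨c, hc⟩ := Submodule.mem_span_range_iff_exists_fun K |>.1 hmem
    refine ⟨∑ k, c k • Pi.single (a k) 1, fun i hi => ?_, ?_⟩
    · rw [Finset.sum_apply]
      refine Finset.sum_eq_zero fun k _ => ?_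
      have : i ≠ a k := fun e => hi (e ▸ Finset.mem_image_of_mem a (Finset.mem_univ k))
      simp [this]
    · rw [← Submodule.Quotient.mk_eq_zero, ← Submodule.mkQ_apply, map_sub, map_sum, sub_eq_zero, ← hc]
      simp
  have hvec : ∀ (z : N → K), (∀ i ∉ J, z i = 0) → ∀ r, ∑ c : ↥J, A r c * z c = A.mulVecLin z r := by
    intro z hz r
    rw [Matrix.mulVecLin_apply]
    simp only [Matrix.mulVec, dotProduct]
    rw [Finset.sum_coe_sort J (fun c => A r c * z c)]
    exact Finset.sum_subset (Finset.subset_univ _) fun i _ hi => by rw [hz i hi, mul_zero]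
  have hM : Function.Bijective
      (A.submatrix (Subtype.val : {x : N // x ∉ J} → N) (Subtype.val : ↥J → N)).mulVecLin := by
    constructor
    · refine (injective_iff_map_eq_zero _).2 fun v hv => ?_
      let z : N → K := fun i => if h : i ∈ J then v ⟨i, h⟩ else 0
      have hz : ∀ i ∉ J, z i = 0 := fun i hi => dif_neg hi
      have h1 : A.mulVecLin z = 0 := by
        refine hinj _ (fun i hi => ?_) (hA ▸ LinearMap.mem_range_self _ z)
        have := congrFun hv ⟨i, hi⟩
        rw [← hvec z hz]
        simpa [Matrix.mulVec, dotProduct, z] using this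
      funext c
      have := congrFun (hinj z hz h1) c
      simpa [z] using this
    · intro y
      let y' : N → K := fun i => if h : i ∈ J then 0 else y ⟨i, h⟩
      obtain ⟨j, hj, hw⟩ := hdec y'
      rw [hA] at hw
      obtain ⟨u, hu⟩ := hw
      obtain ⟨j₂, hj₂, hw₂⟩ := hdec u
      refine ⟨fun c => j₂ c, funext fun r => ?_⟩
      have e : A.mulVecLin j₂ = y' - j := by
        rw [← hu, eq_comm, ← sub_eq_zero, ← map_sub]
        exact hw₂
      have := congrFun e r
      rw [Pi.sub_apply, hj _ r.2, sub_zero, ← hvec j₂ hj₂] at this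
      simpa [Matrix.mulVec, dotProduct, y', r.2] using this
  refine ⟨J, J, Finset.univ \ J, ?_, hM⟩
  let e : ↥(Finset.univ \ J) ≃ {x : N // x ∉ J} := Equiv.subtypeEquivRight (by simp)
  constructor
  · intro v w h
    refine hM.1 (funext fun r => ?_)
    exact congrFun h (e.symm r)
  · intro y
    obtain ⟨v, hv⟩ := hM.2 (y ∘ e.symm)
    refine ⟨v, funext fun r => ?_⟩
    have := congrFun hv (e r)
    simpa [e, Matrix.mulVec, dotProduct] using this

end Groth.Agent.S16400
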