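import Groth.Statements.S16401
import Mathlib
-- import your own Groth.Agent.* helpers here

set_option autoImplicit false
universe u v
open CAlgX

namespace Groth.Agent.S16401

theorem det_mem {R : Type u} [CommRing R] {ι : Type v} [AddCommGroup ι]
    (E : ι → AddSubgroup R) (h0 : E 0 = ⊤)
    (hmul : ∀ a b : ι, ∀ x ∈ E a, ∀ y ∈ E b, x * y ∈ E (a + b))
    {r : ℕ} (wβ wγ : Fin r → ι) (M : Matrix (Fin r) (Fin r) R) (hM : ∀ i j, M i j ∈ E (wγ i - wβ j)) :
    M.det ∈ E (∑ i, wγ i - ∑ j, wβ j) := by
  classical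
  rw [Matrix.det_apply]
  refine sum_mem fun σ _ => ?_
  have hprod : ∀ s : Finset (Fin r), ∏ l ∈ s, M (σ l) l ∈ E (∑ l ∈ s, (wγ (σ l) - wβ l)) := by
    intro s
    induction s using Finset.induction_on with
    | empty => rw [Finset.prod_empty, Finset.sum_empty, h0]; trivial
    | insert a s ha ih => rw [Finset.prod_insert ha, Finset.sum_insert ha]; exact hmul _ _ _ (hM _ _) _ ih
  have h := hprod Finset.univ
  rw [Finset.sum_sub_distrib, Equiv.sum_comp σ wγ] at h
  rcases Int.units_eq_one_or (Equiv.Perm.sign σ) with hs | hs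
  · rw [hs, one_smul]; exact h
  · rw [hs, Units.neg_smul, one_smul]; exact neg_mem h


/-- Let R be a commutative ring and (E_a), a ∈ ι, a family of additive subgroups of R indexed by an
additive commutative group ι, with E_0 = R and E_a · E_b ⊆ E_{a+b}. Let β, γ : Fin r → ι be weight
vectors with Σ_j β_j = Σ_i γ_i, and let ϑ be an r × r matrix over R with ϑ_{ij} ∈ E_{γ_i − β_j} for
all i, j and with unit determinant. Then a column vector u satisfies u_j ∈ E_{β_j} for every j if
and only if (ϑ u)_i ∈ E_{γ_i} for every i; since ϑ is invertible this says that ϑ maps the box Π_j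
E_{β_j} bijectively onto the box Π_i E_{γ_i}. -/
theorem result
    {R : Type u} [CommRing R] {ι : Type v} [AddCommGroup ι]
    (E : ι → AddSubgroup R) (h0 : E 0 = ⊤)
    (hmul : ∀ a b : ι, ∀ x ∈ E a, ∀ y ∈ E b, x * y ∈ E (a + b))
    {r : ℕ} (wβ wγ : Fin r → ι) (hsum : ∑ j, wβ j = ∑ i, wγ i)
    (ϑ : Matrix (Fin r) (Fin r) R) (hϑ : ∀ i j, ϑ i j ∈ E (wγ i - wβ j))
    (hdet : IsUnit ϑ.det) (u : Fin r → R) :
    (∀ j, u j ∈ E (wβ j)) ↔ ∀ i, ϑ.mulVec u i ∈ E (wγ i) := by
  classical
  constructor
  · intro hu i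
    rw [Matrix.mulVec, dotProduct]
    refine sum_mem fun j _ => ?_
    have := hmul _ _ _ (hϑ i j) _ (hu j)
    rwa [sub_add_cancel] at this
  · intro hv j
    have hu : u = ϑ⁻¹.mulVec (ϑ.mulVec u) := by
      rw [Matrix.mulVec_mulVec, Matrix.nonsing_inv_mul ϑ hdet, Matrix.one_mulVec]
    rw [hu, Matrix.mulVec, dotProduct]
    refine sum_mem fun i _ => ?_
    have hadj : ϑ.adjugate j i ∈ E (wβ j - wγ i) := by
      rw [Matrix.adjugate_apply]
      have h := det_mem E h0 hmul wβ (Function.update wγ i (wβ j)) (ϑ.updateRow i (Pi.single j 1)) (fun k l => by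
        by_cases hk : k = i
        · subst hk
          rw [Matrix.updateRow_self, Function.update_self]
          by_cases hl : l = j
          · subst hl; rw [Pi.single_eq_same, sub_self, h0]; trivial
          · rw [Pi.single_eq_of_ne hl]; exact zero_mem _
        · rw [Matrix.updateRow_ne hk, Function.update_of_ne hk]; exact hϑ k l)
      rw [Finset.sum_update_of_mem (Finset.mem_univ i), hsum,
        ← Finset.add_sum_erase Finset.univ wγ (Finset.mem_univ i), Finset.sdiff_singleton_eq_erase,
        add_sub_add_right_eq_sub] at h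
      exact h
    have hinv : ϑ⁻¹ j i ∈ E (wβ j - wγ i) := by
      rw [Matrix.inv_def, Matrix.smul_apply, smul_eq_mul]
      have := hmul 0 _ (Ring.inverse ϑ.det) (by rw [h0]; trivial) _ hadj
      rwa [zero_add] at this
    have := hmul _ _ _ hinv _ (hv i)
    rwa [sub_add_cancel] at this

end Groth.Agent.S16401
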