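import Groth.Statements.S16402
import Groth.Agent.SymStair.Basic

set_option autoImplicit false
open SymBasis

namespace Groth.Agent.S16402

/-- For n ≥ 2, the polynomial ring ℤ[t_1, …, t_n] is a free module of rank n! over ℤ[c_1, …, c_n] acting
through c_i ↦ e_i(t), the i-th elementary symmetric polynomial in the t_j, and the monomials
t_1^{d_1} ⋯ t_n^{d_n} with 0 ≤ d_i ≤ n − i form a basis: every polynomial is in exactly one way a
sum Σ_d f(p_d) · t^d with p_d ∈ ℤ[c_1, …, c_n], f the substitution c_i ↦ e_i(t). The published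
statement is phrased for the Chow ring of the classifying stack of the diagonal torus as a module
over that of the classifying stack of GL_n, identified with ℤ[t_1, …, t_n] ⊇ ℤ[c_1, …, c_n] in this
way. -/
theorem result (n : ℕ) (hn : 2 ≤ n) :
    Function.Bijective (fun p : (Π i : Fin n, Fin (n - (i : ℕ))) → MvPolynomial (Fin n) ℤ =>
      ∑ d : (Π i : Fin n, Fin (n - (i : ℕ))),
        (MvPolynomial.aeval (fun i : Fin n => MvPolynomial.esymm (Fin n) ℤ ((i : ℕ) + 1))) (p d) *
          ∏ i : Fin n, MvPolynomial.X i ^ ((d i : ℕ))) := by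
  classical
  -- `R = ℤ[c]`, acting on `ℤ[t]` through the elementary symmetric polynomials
  let φ : MvPolynomial (Fin n) ℤ →+* MvPolynomial (Fin n) ℤ :=
    (MvPolynomial.aeval (fun i : Fin n => MvPolynomial.esymm (Fin n) ℤ ((i : ℕ) + 1))).toRingHom
  let ψ : MvPolynomial (Fin n) (MvPolynomial (Fin n) ℤ) →+* MvPolynomial (Fin n) ℤ :=
    MvPolynomial.eval₂Hom φ MvPolynomial.X
  let I : Ideal (MvPolynomial (Fin n) (MvPolynomial (Fin n) ℤ)) :=
    Ideal.span (Set.range fun i : Fin n => MvPolynomial.esymm (Fin n) (MvPolynomial (Fin n) ℤ) ((i : ℕ) + 1) -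
      MvPolynomial.C (MvPolynomial.X i))
  have hψesymm : ∀ k, ψ (MvPolynomial.esymm (Fin n) (MvPolynomial (Fin n) ℤ) k) =
      MvPolynomial.esymm (Fin n) ℤ k := by
    intro k
    simp [ψ, MvPolynomial.esymm]
  have hψI : ∀ z ∈ I, ψ z = 0 := by
    intro z hz
    have hle : I ≤ RingHom.ker ψ := by
      rw [Ideal.span_le]
      rintro _ ⟨i, rfl⟩
      rw [SetLike.mem_coe, RingHom.mem_ker, map_sub, hψesymm]
      simp [ψ, φ]
    exact hle hz
  -- the inverse `ℤ[t] → ℤ[c][t]/I`
  let χ : MvPolynomial (Fin n) ℤ →+* MvPolynomial (Fin n) (MvPolynomial (Fin n) ℤ) :=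
    MvPolynomial.map MvPolynomial.C
  have hχψ : (Ideal.Quotient.mk I).comp (χ.comp ψ) = Ideal.Quotient.mk I := by
    refine MvPolynomial.ringHom_ext (fun c => ?_) (fun i => by simp [ψ, χ])
    have : (((Ideal.Quotient.mk I).comp (χ.comp ψ)).comp MvPolynomial.C) =
        (Ideal.Quotient.mk I).comp MvPolynomial.C := by
      refine MvPolynomial.ringHom_ext (fun c => by simp [ψ, φ, χ]) (fun i => ?_)
      simp only [RingHom.comp_apply]
      rw [show ψ (MvPolynomial.C (MvPolynomial.X i)) = MvPolynomial.esymm (Fin n) ℤ ((i : ℕ) + 1) by simp [ψ, φ]]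
      rw [show χ (MvPolynomial.esymm (Fin n) ℤ ((i : ℕ) + 1)) =
        MvPolynomial.esymm (Fin n) (MvPolynomial (Fin n) ℤ) ((i : ℕ) + 1) from MvPolynomial.map_esymm _ _ _ _]
      exact Ideal.Quotient.eq.mpr (Ideal.subset_span ⟨i, rfl⟩)
    exact RingHom.congr_fun this c
  obtain ⟨hex, huniq⟩ := SymStair.exists_unique_coords (n := n) (R := MvPolynomial (Fin n) ℤ) MvPolynomial.X
  have hsum : ∀ p : (Π i : Fin n, Fin (n - (i : ℕ))) → MvPolynomial (Fin n) ℤ,
      ψ (∑ d, MvPolynomial.C (p d) * ∏ i : Fin n, MvPolynomial.X i ^ ((d i : ℕ))) =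
      ∑ d, φ (p d) * ∏ i : Fin n, MvPolynomial.X i ^ ((d i : ℕ)) := by
    intro p
    simp [ψ]
  constructor
  · intro p p' h
    have h0 : ψ (∑ d, MvPolynomial.C (p d - p' d) * ∏ i : Fin n, MvPolynomial.X i ^ ((d i : ℕ))) = 0 := by
      rw [hsum]
      simp only [map_sub, sub_mul, Finset.sum_sub_distrib, sub_eq_zero]
      exact h
    have := huniq (fun d => p d - p' d) (Ideal.Quotient.eq_zero_iff_mem.mp (by
      rw [← hχψ, RingHom.comp_apply, RingHom.comp_apply, h0, map_zero, map_zero]))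
    funext d
    exact sub_eq_zero.mp (congrFun this d)
  · intro y
    obtain ⟨α, hα⟩ := hex (χ y)
    refine ⟨α, ?_⟩
    have := hψI _ hα
    rw [map_sub, hsum, sub_eq_zero] at this
    show ∑ d, φ (α d) * _ = y
    rw [← this]
    show ψ (χ y) = y
    have hid : ψ.comp χ = RingHom.id _ := MvPolynomial.ringHom_ext (fun c => by simp [ψ, χ, φ]) (fun i => by simp [ψ, χ])
    exact RingHom.congr_fun hid y

end Groth.Agent.S16402
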