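import Groth.Statements.S16404
import Groth.Agent.SymStair.Basic

set_option autoImplicit false
universe u
open SymBasis

namespace Groth.Agent.S16404

/-- Let R be a commutative ring and a_1, …, a_n ∈ R with n ≥ 2; write I for the ideal of R[t_1, …, t_n]
generated by the elements e_i(t) − a_i (e_i the i-th elementary symmetric polynomial), so that
R[t_1, …, t_n]/I is the base change R ⊗ ℤ[t_1, …, t_n] over ℤ[c_1, …, c_n] (c_i ↦ a_i on one side,
c_i ↦ e_i(t) on the other). For an ideal J of R, a polynomial x lies in I + J·R[t], i.e. its class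
lies in the extension of J to R[t]/I, if and only if x ≡ Σ_d j_d t^d mod I for some family (j_d) of
elements of J indexed by the exponent vectors d with 0 ≤ d_i ≤ n − i. With the companion uniqueness
statement this says the extension of J is the direct sum of the submodules t^d · J. The published
statement takes R positively graded over ℤ[c_1, …, c_n]; this row takes any commutative ring R with
chosen elements a_1, …, a_n. -/
theorem result {R : Type u} [CommRing R] (n : ℕ) (hn : 2 ≤ n)
    (a : Fin n → R) (J : Ideal R) (x : MvPolynomial (Fin n) R) :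
    x ∈ Ideal.span (Set.range fun i : Fin n => MvPolynomial.esymm (Fin n) R ((i : ℕ) + 1) - MvPolynomial.C (a i))
        ⊔ Ideal.map (MvPolynomial.C : R →+* MvPolynomial (Fin n) R) J
    ↔ ∃ j : (Π i : Fin n, Fin (n - (i : ℕ))) → R, (∀ d : (Π i : Fin n, Fin (n - (i : ℕ))), j d ∈ J) ∧
        x - (∑ d : (Π i : Fin n, Fin (n - (i : ℕ))), MvPolynomial.C (j d) * ∏ i : Fin n, MvPolynomial.X i ^ ((d i : ℕ)))
          ∈ Ideal.span (Set.range fun i : Fin n => MvPolynomial.esymm (Fin n) R ((i : ℕ) + 1) - MvPolynomial.C (a i)) := by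
  classical
  obtain ⟨hex, -⟩ := SymStair.exists_unique_coords a
  constructor
  · intro hx
    obtain ⟨u, hu, v, hv, rfl⟩ := Submodule.mem_sup.mp hx
    suffices key : ∀ v ∈ Ideal.map (MvPolynomial.C : R →+* MvPolynomial (Fin n) R) J, ∀ y,
        ∃ j : (Π i : Fin n, Fin (n - (i : ℕ))) → R, (∀ d, j d ∈ J) ∧
          y * v - (∑ d, MvPolynomial.C (j d) * ∏ i : Fin n, MvPolynomial.X i ^ ((d i : ℕ))) ∈
            Ideal.span (Set.range fun i : Fin n => MvPolynomial.esymm (Fin n) R ((i : ℕ) + 1) - MvPolynomial.C (a i)) by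
      obtain ⟨j, hj, h⟩ := key v hv 1
      refine ⟨j, hj, ?_⟩
      rw [one_mul] at h
      rw [add_sub_assoc]
      exact Ideal.add_mem _ hu h
    intro v hv
    rw [Ideal.map] at hv
    induction hv using Submodule.span_induction with
    | mem v hv =>
      obtain ⟨c, hc, rfl⟩ := hv
      intro y
      obtain ⟨α, hα⟩ := hex y
      refine ⟨fun d => α d * c, fun d => J.mul_mem_left _ hc, ?_⟩
      convert Ideal.mul_mem_right (MvPolynomial.C c) _ hα using 1
      rw [sub_mul, Finset.sum_mul]
      congr 1
      refine Finset.sum_congr rfl fun d _ => ?_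
      rw [map_mul]; ring
    | zero => exact fun y => ⟨0, fun d => J.zero_mem, by simp⟩
    | add v w _ _ hv hw =>
      intro y
      obtain ⟨j, hj, h⟩ := hv y
      obtain ⟨j', hj', h'⟩ := hw y
      refine ⟨j + j', fun d => J.add_mem (hj d) (hj' d), ?_⟩
      convert Ideal.add_mem _ h h' using 1
      simp only [Pi.add_apply, map_add, add_mul, Finset.sum_add_distrib]
      ring
    | smul z v _ hv =>
      intro y
      obtain ⟨j, hj, h⟩ := hv (y * z)
      exact ⟨j, hj, by rwa [smul_eq_mul, ← mul_assoc]⟩
  · rintro ⟨j, hj, h⟩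
    rw [← sub_add_cancel x (∑ d : (Π i : Fin n, Fin (n - (i : ℕ))), MvPolynomial.C (j d) * ∏ i : Fin n, MvPolynomial.X i ^ ((d i : ℕ)))]
    exact Submodule.add_mem_sup h (Ideal.sum_mem _ fun d _ => Ideal.mul_mem_right _ _ (Ideal.mem_map_of_mem _ (hj d)))

end Groth.Agent.S16404
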