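import Mathlib
import Groth.Statements.S16405
-- import your own Groth.Agent.* helpers here

set_option autoImplicit false
universe u v
open InvQ

namespace Groth.Agent.S16405

/-- In weight form. Let b : L → ℤ^r be an injective homomorphism of abelian groups (the case in view: L
the character group of a maximal torus T of a semisimple group over ℂ and b the map dual to the
surjection of the rank-r split torus T' onto T that sends the i-th coordinate cocharacter to the
primitive generator of the i-th ray of the Weyl chamber; only the injectivity of b is used, and ℂ is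
replaced by any commutative ring k). Grade the monoid algebra k[L × ℕ^r] (the coordinate ring of T ×
𝔸^r) by ℤ^r, the monomial (w, n) having weight b(w) + n (the weights of the T'-action u·(t, v) =
(b^∨(u) t, u v)), and grade k[ℕ^r] by ℤ^r/b(L), the monomial n having weight the class of n (the
weights of the action on 𝔸^r of the diagonalizable kernel Z of T' → T, a finite group in the case in
view). For a diagonalizable group acting on an affine scheme the ring of invariants is the
weight-zero part, so the two weight-zero parts are the coordinate rings of the quotients (T ×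
𝔸^r)//T' and 𝔸^r//Z. The statement: the algebra map k[L × ℕ^r] → k[ℕ^r] induced by the projection L
× ℕ^r → ℕ^r (restriction to the slice 1 × 𝔸^r) maps the weight-zero part of k[L × ℕ^r] bijectively
onto the weight-zero part of k[ℕ^r]; hence it induces an isomorphism of k-algebras between them. -/
theorem result
    (k : Type u) [CommRing k] (r : ℕ) (L : Type v) [AddCommGroup L]
    (b : L →+ (Fin r → ℤ)) (hb : Function.Injective b) :
    Set.BijOn
      (AddMonoidAlgebra.mapDomainAlgHom k k (AddMonoidHom.snd L (Fin r → ℕ)))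
      (AddMonoidAlgebra.gradeBy k
        (b.comp (AddMonoidHom.fst L (Fin r → ℕ)) +
          (AddMonoidHom.compLeft (Nat.castAddMonoidHom ℤ) (Fin r)).comp (AddMonoidHom.snd L (Fin r → ℕ))) 0 :
        Set (AddMonoidAlgebra k (L × (Fin r → ℕ))))
      (AddMonoidAlgebra.gradeBy k
        ((QuotientAddGroup.mk' b.range).comp (AddMonoidHom.compLeft (Nat.castAddMonoidHom ℤ) (Fin r))) 0 :
        Set (AddMonoidAlgebra k (Fin r → ℕ))) := by
  classical
  set cst : (Fin r → ℕ) →+ (Fin r → ℤ) := AddMonoidHom.compLeft (Nat.castAddMonoidHom ℤ) (Fin r)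
  set deg := b.comp (AddMonoidHom.fst L (Fin r → ℕ)) + cst.comp (AddMonoidHom.snd L (Fin r → ℕ))
  set π := AddMonoidHom.snd L (Fin r → ℕ)
  have hco : ∀ x : AddMonoidAlgebra k (L × (Fin r → ℕ)),
      (AddMonoidAlgebra.mapDomainAlgHom k k π x).coeff = Finsupp.mapDomain π x.coeff := fun x => by
    simp [AddMonoidAlgebra.mapDomainAlgHom]
  have hq : ∀ a, (QuotientAddGroup.mk' b.range).comp cst a = 0 ↔ ∃ l, b l = cst a := fun a => by
    rw [AddMonoidHom.comp_apply, ← AddMonoidHom.mem_ker, QuotientAddGroup.ker_mk']; rfl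
  refine ⟨fun x hx => ?_, fun x hx y hy he => ?_, fun y hy => ?_⟩
  · rw [SetLike.mem_coe, AddMonoidAlgebra.mem_gradeBy_iff] at hx ⊢
    intro a ha
    rw [hco] at ha
    obtain ⟨⟨l, a'⟩, hla, rfl⟩ := Finset.mem_image.mp (Finsupp.mapDomain_support (Finset.mem_coe.mp ha))
    have h := hx hla
    simp only [Set.mem_preimage, Set.mem_singleton_iff, deg, AddMonoidHom.add_apply, AddMonoidHom.comp_apply] at h
    refine (hq _).mpr ⟨-l, ?_⟩
    rw [map_neg]
    exact neg_eq_of_add_eq_zero_right h
  · rw [SetLike.mem_coe, AddMonoidAlgebra.mem_gradeBy_iff] at hx hy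
    have hinj : Set.InjOn π (deg ⁻¹' {0}) := by
      rintro ⟨l, a⟩ h1 ⟨l', a'⟩ h2 (rfl : a = a')
      simp only [Set.mem_preimage, Set.mem_singleton_iff, deg, AddMonoidHom.add_apply, AddMonoidHom.comp_apply] at h1 h2
      exact Prod.ext (hb (add_right_cancel (h1.trans h2.symm))) rfl
    exact AddMonoidAlgebra.coeff_inj.mp (Finsupp.mapDomain_injOn _ hinj hx hy (by rw [← hco, ← hco, he]))
  · rw [SetLike.mem_coe, AddMonoidAlgebra.mem_gradeBy_iff] at hy
    have hl : ∀ a ∈ (y.coeff.support : Set (Fin r → ℕ)), ∃ l : L, b l = cst a := fun a ha => (hq a).mp (hy ha)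
    choose! l hl using hl
    let s : (Fin r → ℕ) → L × (Fin r → ℕ) := fun a => (-l a, a)
    refine ⟨AddMonoidAlgebra.ofCoeff (Finsupp.mapDomain s y.coeff), ?_, ?_⟩
    · rw [SetLike.mem_coe, AddMonoidAlgebra.mem_gradeBy_iff, AddMonoidAlgebra.coeff_ofCoeff]
      intro z hz
      obtain ⟨a, ha, rfl⟩ := Finset.mem_image.mp (Finsupp.mapDomain_support (Finset.mem_coe.mp hz))
      simp [deg, s, π, hl a ha]
    · refine AddMonoidAlgebra.coeff_inj.mp ?_
      rw [hco, AddMonoidAlgebra.coeff_ofCoeff, ← Finsupp.mapDomain_comp,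
        show (⇑π ∘ s) = id from funext fun a => rfl, Finsupp.mapDomain_id]

end Groth.Agent.S16405
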