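import Groth.Statements.S16409
import Groth.Agent.MVTri.Basic
import Mathlib.CategoryTheory.Adjunction.Additive
-- import your own Groth.Agent.* helpers here

set_option autoImplicit false
universe v u
open CategoryTheory CategoryTheory.Limits CategoryTheory.Pretriangulated
open W4c3perfectstacks W4c3perfectstacks.MVSq

namespace Groth.Agent.S16409

/-- In a Mayer–Vietoris square of triangulated categories (single-square form), let M be an object over
X' whose restriction to U' is zero and let N be any object over X. Then the pullback functor along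
X' → X is bijective on morphisms f_* M ⟶ N; since the counit f^* f_* M ⟶ M is invertible for such M,
composing with its inverse gives a bijection Hom(f_* M, N) ≃ Hom(M, f^* N). (The four categories are
taken in common universes.) -/
theorem result
    (S S' R R' : Type u) [Category.{v} S] [Category.{v} S'] [Category.{v} R] [Category.{v} R']
    [Preadditive S] [Preadditive S'] [Preadditive R] [Preadditive R']
    [HasZeroObject S] [HasZeroObject S'] [HasZeroObject R] [HasZeroObject R']
    [HasShift S ℤ] [HasShift S' ℤ] [HasShift R ℤ] [HasShift R' ℤ]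
    [∀ n : ℤ, (shiftFunctor S n).Additive] [∀ n : ℤ, (shiftFunctor S' n).Additive]
    [∀ n : ℤ, (shiftFunctor R n).Additive] [∀ n : ℤ, (shiftFunctor R' n).Additive]
    [Pretriangulated S] [Pretriangulated S'] [Pretriangulated R] [Pretriangulated R']
    [IsTriangulated S] [IsTriangulated S'] [IsTriangulated R] [IsTriangulated R']
    (q : W4c3perfectstacks.MVSq S S' R R')
    [q.jst.CommShift ℤ] [q.fst.CommShift ℤ] [q.jpst.CommShift ℤ] [q.gst.CommShift ℤ]
    [q.jst.IsTriangulated] [q.fst.IsTriangulated] [q.jpst.IsTriangulated] [q.gst.IsTriangulated]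
    (hq : q.IsMV) (M : S') (hM : IsZero (q.jpst.obj M)) (N : S) :
    Function.Bijective (fun g : q.fls.obj M ⟶ N => q.fst.map g) := by
  open Groth.Agent.MVTri in
  have hcJ := hq.isIso_counitJ
  let K := q.fls.obj M
  have hK : IsZero (q.jst.obj K) := by
    have := hq.isIso_bcApp M
    have := q.adjG.right_adjoint_additive
    exact IsZero.of_iso (q.gls.map_isZero hM) (asIso (q.bcApp M))
  have hK' : IsZero (q.jpst.obj (q.fst.obj K)) :=
    (q.gst.map_isZero hK).of_iso (q.e.app K).symm
  obtain ⟨Z, i, d, hT⟩ := distinguished_cocone_triangle₁ (q.adjJ.unit.app N)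
  have hZ : IsZero (q.jst.obj Z) := by
    refine Triangle.isZero₁_of_isIso₂ _ (q.jst.map_distinguished _ hT) ?_
    show IsIso (q.jst.map (q.adjJ.unit.app N))
    have h0 := q.adjJ.left_triangle_components N
    rw [← IsIso.eq_comp_inv (q.adjJ.counit.app _)] at h0
    rw [h0]
    exact IsIso.comp_isIso' (IsIso.id _) inferInstance
  have hu : IsIso (q.adjF.unit.app Z) := hq.isIso_unitF Z hZ
  have hshift : ∀ {X : S}, IsZero (q.jst.obj X) → IsZero (q.jst.obj ((shiftFunctor S (1 : ℤ)).obj X)) :=
    fun {X} hX => ((shiftFunctor R (1 : ℤ)).map_isZero hX).of_iso ((q.jst.commShiftIso (1 : ℤ)).app X)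
  have hshift' : ∀ {X : S'}, IsZero (q.jpst.obj X) → IsZero (q.jpst.obj ((shiftFunctor S' (1 : ℤ)).obj X)) :=
    fun {X} hX => ((shiftFunctor R' (1 : ℤ)).map_isZero hX).of_iso ((q.jpst.commShiftIso (1 : ℤ)).app X)
  have := q.adjF.right_adjoint_additive
  have hfT := q.fst.map_distinguished _ hT
  have hback : ∀ (α : K ⟶ Z), α ≫ i = 0 → α = 0 := by
    intro α hα
    obtain ⟨β, hβ⟩ := Triangle.coyoneda_exact₃ _ (rot_of_distTriang _ hT)
      ((shiftFunctor S (1 : ℤ)).map α) (by
        show (shiftFunctor S (1 : ℤ)).map α ≫ (-((shiftFunctor S (1 : ℤ)).map i)) = 0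
        rw [Preadditive.comp_neg, ← Functor.map_comp, hα, Functor.map_zero, neg_zero])
    apply (shiftFunctor S (1 : ℤ)).map_injective
    rw [Functor.map_zero]
    exact hβ.trans ((congrArg (· ≫ d) (eq_zero_of_isZero_left q.adjJ (hshift hK) β)).trans zero_comp)
  have hback' : ∀ (α : q.fst.obj K ⟶ q.fst.obj Z), α ≫ q.fst.map i = 0 → α = 0 := by
    intro α hα
    obtain ⟨β, hβ⟩ := Triangle.coyoneda_exact₃ _ (rot_of_distTriang _ hfT)
      ((shiftFunctor S' (1 : ℤ)).map α) (by
        show (shiftFunctor S' (1 : ℤ)).map α ≫ (-((shiftFunctor S' (1 : ℤ)).map (q.fst.map i))) = 0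
        rw [Preadditive.comp_neg, ← Functor.map_comp, hα, Functor.map_zero, neg_zero])
    apply (shiftFunctor S' (1 : ℤ)).map_injective
    rw [Functor.map_zero]
    exact hβ.trans ((congrArg (· ≫ _) (eq_zero_to_fst_jls q hq (hshift' hK') β)).trans zero_comp)
  have hlift : ∀ g : K ⟶ N, ∃ α : K ⟶ Z, g = α ≫ i := fun g =>
    Triangle.coyoneda_exact₂ _ hT g (eq_zero_of_isZero_left q.adjJ hK _)
  constructor
  · intro g₁ g₂ e
    obtain ⟨α, hα⟩ := hlift (g₁ - g₂)
    have h1 : q.fst.map α = 0 := by
      apply hback'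
      rw [← Functor.map_comp, ← hα, Functor.map_sub]
      exact sub_eq_zero.2 e
    have h2 : α = 0 := by
      rw [← cancel_mono (q.adjF.unit.app Z), zero_comp]
      refine (q.adjF.unit.naturality α).trans ?_
      simp only [Functor.comp_map, h1, Functor.map_zero, comp_zero]
    rw [← sub_eq_zero, hα, h2, zero_comp]
  · intro h
    obtain ⟨α, hα⟩ := Triangle.coyoneda_exact₂ _ hfT h (eq_zero_to_fst_jls q hq hK' _)
    let w : q.fls.obj (q.fst.obj Z) ⟶ N := @inv _ _ _ _ (q.adjF.unit.app Z) hu ≫ i
    refine ⟨q.adjF.homEquiv K (q.fst.obj Z) α ≫ w, ?_⟩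
    show q.fst.map _ = h
    simp only [w, Functor.map_comp]
    refine (Category.assoc _ _ _).symm.trans (Eq.trans ?_ hα.symm)
    congr 1
    have hc : IsIso (q.adjF.counit.app (q.fst.obj Z)) :=
      hq.isIso_counitF _ ((q.gst.map_isZero hZ).of_iso (q.e.app Z).symm)
    rw [← cancel_mono (q.fst.map (q.adjF.unit.app Z)), Category.assoc, ← Functor.map_comp,
      IsIso.inv_hom_id, CategoryTheory.Functor.map_id, Category.comp_id,
      ← cancel_mono (q.adjF.counit.app (q.fst.obj Z))]
    erw [Category.assoc, q.adjF.left_triangle_components, Category.comp_id]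
    exact (q.adjF.homEquiv_counit _ _ _).symm.trans ((q.adjF.homEquiv K _).symm_apply_apply α)

end Groth.Agent.S16409
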