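import Groth.Statements.S16414
import Mathlib.Tactic

set_option autoImplicit false
open Dieud

namespace Groth.Agent.S16414

/-- Let μ be a rational number with 0 < μ ≤ 1 and i an integer, and put f(i,j) = max(−i−j, −j, 0) for
integers j. Then min over all integers j of f(i,j) + jμ exists and equals max(−iμ, 0). -/
theorem result (μ : ℚ) (hμ0 : 0 < μ) (hμ1 : μ ≤ 1) (i : ℤ) :
    IsLeast (Set.range fun j : ℤ => ((max (max (-i - j) (-j)) 0 : ℤ) : ℚ) + (j : ℚ) * μ)
      (max (-(i : ℚ) * μ) 0) := by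
  constructor
  · by_cases hi : 0 ≤ i
    · refine ⟨0, ?_⟩
      have : (0:ℚ) ≤ i := by exact_mod_cast hi
      rw [max_eq_right (by nlinarith : -(i:ℚ) * μ ≤ 0)]
      simp only [Int.cast_zero, zero_mul, add_zero, neg_zero, sub_zero]
      rw [show max (max (-i) 0) (0:ℤ) = 0 by omega]; simp
    · refine ⟨-i, ?_⟩
      have : (i:ℚ) ≤ 0 := by exact_mod_cast (by omega : i ≤ 0)
      rw [max_eq_left (by nlinarith : (0:ℚ) ≤ -(i:ℚ) * μ)]
      simp only
      rw [show max (max (-i - -i) (- -i)) (0:ℤ) = 0 by omega]; push_cast; ring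
  · rintro _ ⟨j, rfl⟩
    simp only
    set f := max (max (-i - j) (-j)) 0 with hf
    have h1 : (-(i:ℚ) - j) ≤ f := by exact_mod_cast (show -i - j ≤ f by omega)
    have h2 : (-(j:ℚ)) ≤ f := by exact_mod_cast (show -j ≤ f by omega)
    have h3 : (0:ℚ) ≤ f := by exact_mod_cast (show 0 ≤ f by omega)
    refine max_le ?_ ?_
    · have e : (f:ℚ) + j * μ = μ * (f + j) + (1 - μ) * f := by ring
      rw [e]
      nlinarith [mul_le_mul_of_nonneg_left (show -(i:ℚ) ≤ f + j by linarith) hμ0.le, mul_nonneg (show (0:ℚ) ≤ 1 - μ by linarith) h3]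
    · have e : (f:ℚ) + j * μ = μ * (f + j) + (1 - μ) * f := by ring
      rw [e]
      exact add_nonneg (mul_nonneg hμ0.le (by linarith)) (mul_nonneg (by linarith) h3)

end Groth.Agent.S16414
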