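import Groth.Statements.S16416
import Mathlib
-- import your own Groth.Agent.* helpers here

set_option autoImplicit false
universe u v w
open Dieud

namespace Groth.Agent.S16416

/-- For a prime p and a perfect field k of characteristic p, write W = W(k) for the ring of Witt vectors
and σ for its Frobenius; let M and N be free W-modules of finite rank, each with additive maps F
(σ-semilinear) and V (with V(σ(a)m) = aV(m)) satisfying FV = VF = p, and H = Hom_W(M, N). On H the
operator F acts through h ↦ F ∘ h ∘ V, and V acts partially: V·h is the W-linear map h' with h'(V m)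
= V(h(m)) for all m, when it exists. Let H₁ be the largest W-submodule of H stable under both (it
contains every submodule stable under both). Then H₁ ∩ V·H = V·H₁: if y ∈ H and V·y exists and lies
in H₁, then y ∈ H₁, so that H₁/VH₁ → H/(H ∩ VH) is injective. (The published statement is for the
Cartier modules of two p-divisible formal groups over k, every slope of the first below every slope
of the second; only the structure just listed is used, so connectedness and the slope condition are
not assumed.) -/
theorem result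
    (p : ℕ) [Fact p.Prime] (k : Type u) [Field k] [CharP k p] [PerfectRing k p]
    (M : Type v) [AddCommGroup M] [Module (WittVector p k) M]
    [Module.Free (WittVector p k) M] [Module.Finite (WittVector p k) M]
    (N : Type w) [AddCommGroup N] [Module (WittVector p k) N]
    [Module.Free (WittVector p k) N] [Module.Finite (WittVector p k) N]
    (FM VM : M →+ M) (FN VN : N →+ N)
    (hFM : ∀ (a : WittVector p k) (m : M), FM (a • m) = WittVector.frobenius a • FM m)
    (hVM : ∀ (a : WittVector p k) (m : M), VM (WittVector.frobenius a • m) = a • VM m)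
    (hFVM : ∀ m : M, FM (VM m) = (p : WittVector p k) • m)
    (hVFM : ∀ m : M, VM (FM m) = (p : WittVector p k) • m)
    (hFN : ∀ (a : WittVector p k) (n : N), FN (a • n) = WittVector.frobenius a • FN n)
    (hVN : ∀ (a : WittVector p k) (n : N), VN (WittVector.frobenius a • n) = a • VN n)
    (hFVN : ∀ n : N, FN (VN n) = (p : WittVector p k) • n)
    (hVFN : ∀ n : N, VN (FN n) = (p : WittVector p k) • n)
    (H₁ : Submodule (WittVector p k) (M →ₗ[WittVector p k] N))
    (hF : ∀ h ∈ H₁, ∃ h' ∈ H₁, ∀ m : M, h' m = FN (h (VM m)))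
    (hV : ∀ h ∈ H₁, ∃ h' ∈ H₁, ∀ m : M, h' (VM m) = VN (h m))
    (hmax : ∀ S : Submodule (WittVector p k) (M →ₗ[WittVector p k] N),
      (∀ h ∈ S, ∃ h' ∈ S, ∀ m : M, h' m = FN (h (VM m))) →
      (∀ h ∈ S, ∃ h' ∈ S, ∀ m : M, h' (VM m) = VN (h m)) → S ≤ H₁)
    (y : M →ₗ[WittVector p k] N) (x : M →ₗ[WittVector p k] N) (hx : x ∈ H₁)
    (hxy : ∀ m : M, x (VM m) = VN (y m)) :
    y ∈ H₁ := by
  have hσ := (WittVector.frobenius_bijective p k).surjective
  have hex : ∀ h : M →ₗ[WittVector p k] N, ∃ h' : M →ₗ[WittVector p k] N, ∀ m, h' m = FN (h (VM m)) := by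
    intro h
    refine ⟨{ toFun := fun m => FN (h (VM m)), map_add' := fun a b => by simp [map_add],
              map_smul' := fun c m => ?_ }, fun m => rfl⟩
    obtain ⟨b, rfl⟩ := hσ c
    simp only [hVM, map_smul, hFN, RingHom.id_apply]
  choose Fop hFop using hex
  let S := H₁ ⊔ Submodule.span (WittVector p k) (Set.range fun n : ℕ => Fop^[n] y)
  have hS1 : H₁ ≤ S := le_sup_left
  have hgen : ∀ n, Fop^[n] y ∈ S := fun n =>
    Submodule.mem_sup_right (Submodule.subset_span ⟨n, rfl⟩)
  suffices hS : S ≤ H₁ from hS (hgen 0)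
  refine hmax S ?_ ?_
  · intro h hh
    obtain ⟨a, ha, b, hb, rfl⟩ := Submodule.mem_sup.mp hh
    obtain ⟨a', ha', ha''⟩ := hF a ha
    have hb' : ∃ h' ∈ S, ∀ m : M, h' m = FN (b (VM m)) := by
      induction hb using Submodule.span_induction with
      | mem x hx =>
        obtain ⟨n, rfl⟩ := hx
        refine ⟨Fop^[n + 1] y, hgen (n + 1), fun m => ?_⟩
        rw [Function.iterate_succ_apply', hFop]
      | zero => exact ⟨0, S.zero_mem, fun m => by simp⟩
      | add u v _ _ hu hv =>
        obtain ⟨u', hu', hu''⟩ := hu (Submodule.mem_sup.mpr ⟨a, ha, u, by assumption, rfl⟩)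
        obtain ⟨v', hv', hv''⟩ := hv (Submodule.mem_sup.mpr ⟨a, ha, v, by assumption, rfl⟩)
        exact ⟨u' + v', S.add_mem hu' hv', fun m => by simp [hu'', hv'']⟩
      | smul c u _ hu =>
        obtain ⟨u', hu', hu''⟩ := hu (Submodule.mem_sup.mpr ⟨a, ha, u, by assumption, rfl⟩)
        exact ⟨WittVector.frobenius c • u', S.smul_mem _ hu', fun m => by simp [hu'', hFN]⟩
    obtain ⟨b', hb', hb''⟩ := hb'
    exact ⟨a' + b', S.add_mem (hS1 ha') hb', fun m => by simp [ha'', hb'']⟩
  · intro h hh
    obtain ⟨a, ha, b, hb, rfl⟩ := Submodule.mem_sup.mp hh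
    obtain ⟨a', ha', ha''⟩ := hV a ha
    have hb' : ∃ h' ∈ S, ∀ m : M, h' (VM m) = VN (b m) := by
      induction hb using Submodule.span_induction with
      | mem u hu =>
        obtain ⟨n, rfl⟩ := hu
        cases n with
        | zero => exact ⟨x, hS1 hx, hxy⟩
        | succ n =>
          refine ⟨(p : WittVector p k) • Fop^[n] y, S.smul_mem _ (hgen n), fun m => ?_⟩
          show (p : WittVector p k) • (Fop^[n] y) (VM m) = VN ((Fop^[n + 1] y) m)
          rw [Function.iterate_succ_apply', hFop, hVFN]
      | zero => exact ⟨0, S.zero_mem, fun m => by simp⟩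
      | add u v _ _ hu hv =>
        obtain ⟨u', hu', hu''⟩ := hu (Submodule.mem_sup.mpr ⟨a, ha, u, by assumption, rfl⟩)
        obtain ⟨v', hv', hv''⟩ := hv (Submodule.mem_sup.mpr ⟨a, ha, v, by assumption, rfl⟩)
        exact ⟨u' + v', S.add_mem hu' hv', fun m => by simp [hu'', hv'']⟩
      | smul c u _ hu =>
        obtain ⟨u', hu', hu''⟩ := hu (Submodule.mem_sup.mpr ⟨a, ha, u, by assumption, rfl⟩)
        obtain ⟨d, rfl⟩ := hσ c
        exact ⟨d • u', S.smul_mem _ hu', fun m => by simp [hu'', hVN]⟩
    obtain ⟨b', hb', hb''⟩ := hb'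
    exact ⟨a' + b', S.add_mem (hS1 ha') hb', fun m => by simp [ha'', hb'']⟩

end Groth.Agent.S16416
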