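import Groth.Statements.S16418
import Mathlib
-- import your own Groth.Agent.* helpers here

set_option autoImplicit false
universe u v
open Dieud

namespace Groth.Agent.S16418

/-- Step of the proof: for a prime p and a perfect field k of characteristic p, write W = W(k) and σ for
its Frobenius; let M be a W-module with additive maps F (σ-semilinear) and V (with V(σ(a)m) = aV(m))
such that FV = VF = p, V is injective, ⋂_n V^n M = 0 and M/VM is finitely generated over W. Put M₁ =
{x ∈ M : for every n there is m with V^m x ∈ F^n M} and M₂ = {x ∈ M : F^n x = 0 for some n}. Then M₂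
is killed by a single power of F, and F is injective on M₁. (The published text makes these
assertions inside a proof, for the V-reduced Cartier module of a connected smooth formal group of
finite dimension over k; only the listed structure is used, and V-adic completeness is not needed.) -/
theorem result
    (p : ℕ) [Fact p.Prime] (k : Type u) [Field k] [CharP k p] [PerfectRing k p]
    (M : Type v) [AddCommGroup M] [Module (WittVector p k) M]
    (F V : M →+ M)
    (hF : ∀ (a : WittVector p k) (m : M), F (a • m) = WittVector.frobenius a • F m)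
    (hV : ∀ (a : WittVector p k) (m : M), V (WittVector.frobenius a • m) = a • V m)
    (hFV : ∀ m : M, F (V m) = (p : WittVector p k) • m)
    (hVF : ∀ m : M, V (F m) = (p : WittVector p k) • m)
    (hVinj : Function.Injective V)
    (hsep : ∀ x : M, (∀ n : ℕ, ∃ y : M, x = (⇑V)^[n] y) → x = 0)
    (hfin : Module.Finite (WittVector p k) (M ⧸ Submodule.span (WittVector p k) (Set.range V))) :
    (∃ c : ℕ, ∀ x : M, (∃ n : ℕ, (⇑F)^[n] x = 0) → (⇑F)^[c] x = 0) ∧
    (∀ x : M, (∀ n : ℕ, ∃ (m : ℕ) (y : M), (⇑V)^[m] x = (⇑F)^[n] y) → F x = 0 → x = 0) := by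
  haveI : IsNoetherianRing (WittVector p k) := inferInstance
  haveI := hfin
  have hFit : ∀ (n : ℕ) (a : WittVector p k) (x : M), (⇑F)^[n] x = 0 → (⇑F)^[n] (a • x) = 0 := by
    intro n
    induction n with
    | zero => intro a x hx; simp only [Function.iterate_zero, id_eq] at hx ⊢; rw [hx, smul_zero]
    | succ n ih =>
      intro a x hx
      rw [Function.iterate_succ_apply] at hx ⊢
      rw [hF]
      exact ih _ _ hx
  let K : ℕ → Submodule (WittVector p k) M := fun n =>
    { carrier := {x | (⇑F)^[n] x = 0}
      zero_mem' := iterate_map_zero F n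
      add_mem' := fun {a b} ha hb => by
        simp only [Set.mem_setOf_eq] at ha hb ⊢
        rw [iterate_map_add, ha, hb, add_zero]
      smul_mem' := fun a x hx => hFit n a x hx }
  let Q := Submodule.span (WittVector p k) (Set.range V)
  have hQ : ∀ x ∈ Q, ∃ y, V y = x := by
    intro x hx
    induction hx using Submodule.span_induction with
    | mem x h => exact h
    | zero => exact ⟨0, map_zero V⟩
    | add x y _ _ hx hy =>
      obtain ⟨a, rfl⟩ := hx; obtain ⟨b, rfl⟩ := hy
      exact ⟨a + b, map_add V a b⟩
    | smul c x _ hx =>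
      obtain ⟨a, rfl⟩ := hx
      exact ⟨WittVector.frobenius c • a, hV c a⟩
  have hcomm : ∀ x, F (V x) = V (F x) := fun x => by rw [hFV, hVF]
  have hcommn : ∀ (n : ℕ) x, (⇑F)^[n] (V x) = V ((⇑F)^[n] x) := by
    intro n
    induction n with
    | zero => intro x; rfl
    | succ n ih => intro x; rw [Function.iterate_succ_apply, Function.iterate_succ_apply, hcomm, ih]
  have hmono : Monotone fun n => (K n).map Q.mkQ := by
    refine monotone_nat_of_le_succ fun n => Submodule.map_mono fun x hx => ?_
    show (⇑F)^[n + 1] x = 0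
    rw [Function.iterate_succ_apply', show (⇑F)^[n] x = 0 from hx, map_zero]
  obtain ⟨c, hc⟩ := monotone_stabilizes_iff_noetherian.mpr
    (inferInstance : IsNoetherian (WittVector p k) (M ⧸ Q)) ⟨_, hmono⟩
  have hkey : ∀ n, c ≤ n → ∀ x : M, (⇑F)^[n] x = 0 → ∃ y : M, (⇑F)^[n] y = 0 ∧ (⇑F)^[c] x = V ((⇑F)^[c] y) := by
    intro n hn x hx
    have h1 : Q.mkQ x ∈ (K n).map Q.mkQ := ⟨x, hx, rfl⟩
    rw [← (show (K c).map Q.mkQ = (K n).map Q.mkQ from hc n hn)] at h1
    obtain ⟨a, ha, hax⟩ := h1
    obtain ⟨y, hy⟩ := hQ (x - a) ((Submodule.Quotient.eq Q).mp hax.symm)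
    have han : (⇑F)^[n] a = 0 := by
      obtain ⟨d, rfl⟩ := Nat.exists_eq_add_of_le hn
      rw [add_comm, Function.iterate_add_apply, show (⇑F)^[c] a = 0 from ha, iterate_map_zero]
    refine ⟨y, hVinj ?_, ?_⟩
    · rw [← hcommn, hy, iterate_map_sub, hx, han, sub_zero, map_zero]
    · rw [← hcommn, hy, iterate_map_sub, show (⇑F)^[c] a = 0 from ha, sub_zero]
  have part1 : ∀ x : M, (∃ n : ℕ, (⇑F)^[n] x = 0) → (⇑F)^[c] x = 0 := by
    rintro x ⟨n, hx⟩
    by_cases hn : c ≤ n
    · apply hsep
      intro j
      induction j generalizing x with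
      | zero => exact ⟨_, rfl⟩
      | succ j ih =>
        obtain ⟨y, hy, hxy⟩ := hkey n hn x hx
        obtain ⟨z, hz⟩ := ih y hy
        exact ⟨z, by rw [hxy, hz, Function.iterate_succ_apply']⟩
    · obtain ⟨d, rfl⟩ := Nat.exists_eq_add_of_le (le_of_not_ge hn)
      rw [add_comm, Function.iterate_add_apply, hx, iterate_map_zero]
  refine ⟨⟨c, part1⟩, fun x hx hFx => ?_⟩
  obtain ⟨m, y, hy⟩ := hx c
  have hVm : (⇑F)^[c + 1] y = 0 := by
    rw [Function.iterate_succ_apply', ← hy]
    cases m with
    | zero => exact hFx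
    | succ m =>
      have hp : (p : WittVector p k) • x = 0 := by rw [← hVF, hFx, map_zero]
      have hVp : ∀ (j : ℕ) (z : M), (p : WittVector p k) • z = 0 → (p : WittVector p k) • (⇑V)^[j] z = 0 := by
        intro j
        induction j with
        | zero => intro z hz; exact hz
        | succ j ih =>
          intro z hz
          rw [Function.iterate_succ_apply, ih]
          have h2 := congrArg V hz
          rw [map_zero] at h2
          rw [← map_natCast (WittVector.frobenius (p := p) (R := k)) p, hV] at h2
          exact h2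
      rw [Function.iterate_succ_apply', hFV]
      exact hVp m x hp
  have h0 : (⇑V)^[m] x = 0 := by rw [hy, part1 y ⟨c + 1, hVm⟩]
  exact (hVinj.iterate m) (by rw [h0, iterate_map_zero])

end Groth.Agent.S16418
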