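import Groth.Statements.S16420
import Mathlib

set_option autoImplicit false
universe u v
open CAlg

namespace Groth.Agent.S16420

section helper

open TensorProduct

variable {R : Type u} [CommRing R] {𝔫 : Ideal R} {H : Type v} [AddCommGroup H] [Module R H]

theorem one_tmul_eq_zero_iff (h : H) :
    ((1 : R ⧸ 𝔫) ⊗ₜ[R] h) = 0 ↔ h ∈ (𝔫 • ⊤ : Submodule R H) := by
  rw [← (TensorProduct.quotTensorEquivQuotSMul H 𝔫).map_eq_zero_iff, ← map_one (Ideal.Quotient.mk 𝔫),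
    TensorProduct.quotTensorEquivQuotSMul_mk_tmul, one_smul, Submodule.Quotient.mk_eq_zero]

theorem mem_baseChange_iff (F : Submodule R H) (z : (R ⧸ 𝔫) ⊗[R] H) :
    z ∈ F.baseChange (R ⧸ 𝔫) ↔ ∃ h ∈ F, (1 : R ⧸ 𝔫) ⊗ₜ[R] h = z := by
  refine ⟨fun hz => ?_, fun ⟨h, hh, e⟩ => e ▸ Submodule.tmul_mem_baseChange_of_mem _ hh⟩
  rw [Submodule.baseChange_eq_span] at hz
  induction hz using Submodule.span_induction with
  | mem x hx => exact hx
  | zero => exact ⟨0, F.zero_mem, by simp⟩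
  | add a b _ _ ha hb =>
    obtain ⟨x, hx, rfl⟩ := ha
    obtain ⟨y, hy, rfl⟩ := hb
    exact ⟨x + y, F.add_mem hx hy, tmul_add _ _ _⟩
  | smul c a _ ha =>
    obtain ⟨x, hx, rfl⟩ := ha
    obtain ⟨c, rfl⟩ := Ideal.Quotient.mk_surjective c
    exact ⟨c • x, F.smul_mem c hx, by
      rw [tmul_smul]; exact (algebraMap_smul (R ⧸ 𝔫) c _).symm⟩

theorem exists_proj (F : Submodule R H) [Module.Free R (H ⧸ F)] :
    ∃ p : H →ₗ[R] H, (∀ h, p h ∈ F) ∧ ∀ h ∈ F, p h = h := by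
  obtain ⟨s, hs⟩ := Module.projective_lifting_property F.mkQ LinearMap.id F.mkQ_surjective
  refine ⟨LinearMap.id - s ∘ₗ F.mkQ, fun h => ?_, fun h hh => ?_⟩
  · refine (Submodule.Quotient.mk_eq_zero F).mp ?_
    show F.mkQ (h - s (F.mkQ h)) = 0
    rw [map_sub, show F.mkQ (s (F.mkQ h)) = F.mkQ h from LinearMap.congr_fun hs _, sub_self]
  · show h - s (F.mkQ h) = h
    rw [show F.mkQ h = 0 from (Submodule.Quotient.mk_eq_zero F).mpr hh, map_zero, sub_zero]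

end helper

open TensorProduct in
/-- For a commutative local Artinian ring R and an exact sequence 0 → H₁ → H → H₂ → 0 of finite free
R-modules, let F₁ ⊆ H₁ and F₂ ⊆ H₂ be submodules with free quotients, 𝔫 an ideal of R of square
zero, R̄ = R/𝔫, and F̄ ⊆ H̄ = R̄ ⊗ H an R̄-submodule with free quotient meeting the image of R̄ ⊗ H₁
in the image of R̄ ⊗ F₁ and mapping onto the image of R̄ ⊗ F₂; let L be the set of direct summands F
of H with F ∩ H₁ = F₁, with image F̄ in H̄ and with image F₂ in H₂. Then L is a torsor under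
Hom_R(F₂, 𝔫(H₁/F₁)), acting as follows: an R-linear u : H₂ → H₁ with u(H₂) ⊆ 𝔫H₁ moves F ∈ L to the
image of F under x ↦ x + f(u(g(x))). Precisely, for F ∈ L: (1) that image again lies in L; (2) it
equals F if and only if u(F₂) ⊆ 𝔫F₁; (3) every F' ∈ L is obtained from F in this way for some such
u. (The published statement phrases the torsor under the R̄-linear maps from F̄₂ to 𝔫 ⊗ (H̄₁/F̄₁), a
group identified with the maps u as above modulo those with u(F₂) ⊆ 𝔫F₁, and describes the action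
through a lift F₂ → 𝔫 ⊗ H₁ composed with F → F/F₁ ≅ F₂; restricted to F this is x ↦ f(u(g(x))).) -/
theorem result
    (R : Type u) [CommRing R] [IsArtinianRing R] [IsLocalRing R]
    (H₁ : Type v) (H : Type v) (H₂ : Type v)
    [AddCommGroup H₁] [Module R H₁] [AddCommGroup H] [Module R H] [AddCommGroup H₂] [Module R H₂]
    [Module.Free R H₁] [Module.Finite R H₁] [Module.Free R H] [Module.Finite R H]
    [Module.Free R H₂] [Module.Finite R H₂]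
    (f : H₁ →ₗ[R] H) (g : H →ₗ[R] H₂) (hf : Function.Injective f) (hg : Function.Surjective g)
    (hfg : Function.Exact f g)
    (F₁ : Submodule R H₁) (F₂ : Submodule R H₂) [Module.Free R (H₁ ⧸ F₁)] [Module.Free R (H₂ ⧸ F₂)]
    (𝔫 : Ideal R) (hn : 𝔫 * 𝔫 = ⊥)
    (Fb : Submodule (R ⧸ 𝔫) ((R ⧸ 𝔫) ⊗[R] H))
    [Module.Free (R ⧸ 𝔫) (((R ⧸ 𝔫) ⊗[R] H) ⧸ Fb)]
    (h1 : Fb ⊓ LinearMap.range (f.baseChange (R ⧸ 𝔫)) =
      Submodule.map (f.baseChange (R ⧸ 𝔫)) (F₁.baseChange (R ⧸ 𝔫)))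
    (h2 : Submodule.map (g.baseChange (R ⧸ 𝔫)) Fb = F₂.baseChange (R ⧸ 𝔫))
    (F F' : Submodule R H)
    (hF : (∃ C : Submodule R H, IsCompl (F) C) ∧
      (F) ⊓ LinearMap.range f = Submodule.map f F₁ ∧
      Submodule.baseChange (R ⧸ 𝔫) (F) = Fb ∧ Submodule.map g (F) = F₂)
    (hF' : (∃ C : Submodule R H, IsCompl (F') C) ∧
      (F') ⊓ LinearMap.range f = Submodule.map f F₁ ∧
      Submodule.baseChange (R ⧸ 𝔫) (F') = Fb ∧ Submodule.map g (F') = F₂) :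
    (∀ u : H₂ →ₗ[R] H₁, (∀ y : H₂, u y ∈ 𝔫 • (⊤ : Submodule R H₁)) →
      (∃ C : Submodule R H, IsCompl (Submodule.map (LinearMap.id + f ∘ₗ u ∘ₗ g) F) C) ∧
      (Submodule.map (LinearMap.id + f ∘ₗ u ∘ₗ g) F) ⊓ LinearMap.range f = Submodule.map f F₁ ∧
      Submodule.baseChange (R ⧸ 𝔫) (Submodule.map (LinearMap.id + f ∘ₗ u ∘ₗ g) F) = Fb ∧ Submodule.map g (Submodule.map (LinearMap.id + f ∘ₗ u ∘ₗ g) F) = F₂) ∧
    (∀ u : H₂ →ₗ[R] H₁, (∀ y : H₂, u y ∈ 𝔫 • (⊤ : Submodule R H₁)) →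
      (Submodule.map (LinearMap.id + f ∘ₗ u ∘ₗ g) F = F ↔ ∀ y ∈ F₂, u y ∈ 𝔫 • F₁)) ∧
    (∃ u : H₂ →ₗ[R] H₁, (∀ y : H₂, u y ∈ 𝔫 • (⊤ : Submodule R H₁)) ∧
      F' = Submodule.map (LinearMap.id + f ∘ₗ u ∘ₗ g) F) := by
  have hgf : ∀ a, g (f a) = 0 := hfg.apply_apply_eq_zero
  have hnH : ∀ a ∈ (𝔫 • ⊤ : Submodule R H₁), f a ∈ (𝔫 • ⊤ : Submodule R H) := fun a ha =>
    Submodule.smul_mono le_rfl le_top ((Submodule.map_smul'' 𝔫 ⊤ f).le (Submodule.mem_map_of_mem ha))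
  obtain ⟨p₁, hp₁, hp₁'⟩ := exists_proj F₁
  have hint : ∀ a ∈ (𝔫 • ⊤ : Submodule R H₁), p₁ a ∈ 𝔫 • F₁ := fun a ha => by
    refine Submodule.smul_mono le_rfl ?_ ((Submodule.map_smul'' 𝔫 ⊤ p₁).le (Submodule.mem_map_of_mem ha))
    rintro _ ⟨b, -, rfl⟩
    exact hp₁ b
  obtain ⟨⟨C, hC⟩, hFi, hFb, hFg⟩ := hF
  let e : (H₂ →ₗ[R] H₁) → (H ≃ₗ[R] H) := fun u => LinearEquiv.ofLinear (LinearMap.id + f ∘ₗ u ∘ₗ g)
    (LinearMap.id - f ∘ₗ u ∘ₗ g) (LinearMap.ext fun x => by simp [hgf]) (LinearMap.ext fun x => by simp [hgf])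
  refine ⟨fun u hu => ⟨⟨C.map (e u).toLinearMap, ?_⟩, ?_, ?_, ?_⟩, fun u hu => ⟨fun h y hy => ?_, fun h => ?_⟩, ?_⟩
  · exact hC.map (Submodule.orderIsoMapComap (e u))
  · have hr : LinearMap.range f = Submodule.map (e u).toLinearMap (LinearMap.range f) := by
      rw [← LinearMap.range_comp]
      congr 1
      ext a
      simp [e, hgf]
    show Submodule.map (e u).toLinearMap F ⊓ _ = _
    rw [hr, ← Submodule.map_inf (e u).toLinearMap (e u).injective, hFi, ← Submodule.map_comp]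
    congr 1
    ext a
    simp [e, hgf]
  · rw [← hFb, Submodule.baseChange_eq_span, Submodule.baseChange_eq_span, ← Submodule.map_comp]
    congr 3
    refine LinearMap.ext fun x => ?_
    show (1 : R ⧸ 𝔫) ⊗ₜ[R] (x + f (u (g x))) = 1 ⊗ₜ x
    rw [TensorProduct.tmul_add, (one_tmul_eq_zero_iff _).mpr (hnH _ (hu _)), add_zero]
  · rw [← Submodule.map_comp]
    conv_rhs => rw [← hFg]
    congr 1
    ext x
    simp [hgf]
  · obtain ⟨x, hx, rfl⟩ : y ∈ Submodule.map g F := hFg.ge hy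
    have h1 : x + f (u (g x)) ∈ F := h.le ⟨x, hx, rfl⟩
    have h2 : f (u (g x)) ∈ F ⊓ LinearMap.range f := ⟨by simpa using F.sub_mem h1 hx, _, rfl⟩
    rw [hFi] at h2
    obtain ⟨a, ha, hae⟩ := h2
    rw [← hp₁' (u (g x)) (hf hae ▸ ha)]
    exact hint _ (hu _)
  · have hmem : ∀ x ∈ F, f (u (g x)) ∈ F := fun x hx =>
      (hFi.ge ⟨_, Submodule.smul_le_right (h (g x) (hFg.le ⟨x, hx, rfl⟩)), rfl⟩).1
    refine le_antisymm ?_ fun x hx => ⟨x - f (u (g x)), F.sub_mem hx (hmem x hx), by simp [hgf]⟩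
    rintro _ ⟨x, hx, rfl⟩
    exact F.add_mem hx (hmem x hx)
  obtain ⟨-, hF'i, hF'b, hF'g⟩ := hF'
  obtain ⟨q, hq, hq'⟩ := exists_proj F₂
  haveI : Module.Projective R F₂ := Module.Projective.of_split F₂.subtype (q.codRestrict F₂ hq)
    (LinearMap.ext fun y => Subtype.ext (hq' y.1 y.2))
  have hlift : ∀ G : Submodule R H, Submodule.map g G = F₂ →
      ∃ s : F₂ →ₗ[R] H, (∀ y, s y ∈ G) ∧ ∀ y, g (s y) = y := by
    intro G hG
    let g' : G →ₗ[R] F₂ := (g ∘ₗ G.subtype).codRestrict F₂ fun x => hG.le ⟨x, x.2, rfl⟩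
    obtain ⟨s, hs⟩ := Module.projective_lifting_property g' LinearMap.id fun y => by
      obtain ⟨x, hx, hxe⟩ := hG.ge y.2
      exact ⟨⟨x, hx⟩, Subtype.ext hxe⟩
    exact ⟨G.subtype ∘ₗ s, fun y => (s y).2, fun y => congrArg Subtype.val (LinearMap.congr_fun hs y)⟩
  obtain ⟨s, hs, hsg⟩ := hlift F hFg
  obtain ⟨s', hs', hsg'⟩ := hlift F' hF'g
  obtain ⟨σ, hσ⟩ := Module.projective_lifting_property g LinearMap.id hg
  have hr : ∀ x, x - σ (g x) ∈ LinearMap.range f := fun x => by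
    refine (hfg _).mp ?_
    rw [map_sub, show g (σ (g x)) = g x from LinearMap.congr_fun hσ _, sub_self]
  let ef := LinearEquiv.ofInjective f hf
  let r : H →ₗ[R] H₁ := ef.symm.toLinearMap ∘ₗ (LinearMap.id - σ ∘ₗ g).codRestrict (LinearMap.range f) hr
  have hrf : ∀ a, r (f a) = a := fun a => by
    apply ef.injective
    show ef (ef.symm _) = ef a
    rw [LinearEquiv.apply_symm_apply]
    apply Subtype.ext
    simp [ef, hgf]
  have hfr : ∀ x, g x = 0 → f (r x) = x := fun x hx => by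
    obtain ⟨a, rfl⟩ := (hfg x).mp hx
    rw [hrf]
  let d : F₂ →ₗ[R] H₁ := r ∘ₗ (s' - s)
  have hd : ∀ y, f (d y) = s' y - s y := fun y => hfr _ (by simp [hsg, hsg'])
  have hd1 : ∀ y, d y - p₁ (d y) ∈ (𝔫 • ⊤ : Submodule R H₁) := by
    intro y
    have h3 : (1 : R ⧸ 𝔫) ⊗ₜ[R] f (d y) ∈ Fb ⊓ LinearMap.range (f.baseChange (R ⧸ 𝔫)) := by
      refine ⟨?_, (1 : R ⧸ 𝔫) ⊗ₜ[R] d y, LinearMap.baseChange_tmul (A := R ⧸ 𝔫) f 1 (d y)⟩
      rw [hd, TensorProduct.tmul_sub]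
      exact Fb.sub_mem (hF'b.le (Submodule.tmul_mem_baseChange_of_mem _ (hs' y)))
        (hFb.le (Submodule.tmul_mem_baseChange_of_mem _ (hs y)))
    rw [h1] at h3
    obtain ⟨w, hw, hwe⟩ := h3
    obtain ⟨a, ha, rfl⟩ := (mem_baseChange_iff F₁ w).mp hw
    rw [LinearMap.baseChange_tmul] at hwe
    have h4 : f (d y - a) ∈ (𝔫 • ⊤ : Submodule R H) := (one_tmul_eq_zero_iff _).mp (by
      rw [map_sub, TensorProduct.tmul_sub, hwe, sub_self])
    have h5 : d y - a ∈ (𝔫 • ⊤ : Submodule R H₁) := by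
      have := Submodule.smul_mono le_rfl le_top ((Submodule.map_smul'' 𝔫 ⊤ r).le (Submodule.mem_map_of_mem h4))
      rwa [hrf] at this
    have h6 : d y - p₁ (d y) = (d y - a) - p₁ (d y - a) := by rw [map_sub, hp₁' a ha]; abel
    rw [h6]
    exact sub_mem h5 (Submodule.smul_mono le_rfl le_top (hint _ h5))
  let u : H₂ →ₗ[R] H₁ := (d - p₁ ∘ₗ d) ∘ₗ q.codRestrict F₂ hq
  refine ⟨u, fun y => hd1 _, le_antisymm ?_ ?_⟩
  · intro x hx
    have hy : g x ∈ F₂ := hF'g.le ⟨x, hx, rfl⟩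
    have hu : u (g x) = d ⟨g x, hy⟩ - p₁ (d ⟨g x, hy⟩) := by
      show d (q.codRestrict F₂ hq (g x)) - p₁ (d (q.codRestrict F₂ hq (g x))) = _
      rw [show q.codRestrict F₂ hq (g x) = ⟨g x, hy⟩ from Subtype.ext (hq' _ hy)]
    obtain ⟨a, ha, hae⟩ : x - s' ⟨g x, hy⟩ ∈ Submodule.map f F₁ := hF'i.le
      ⟨F'.sub_mem hx (hs' _), (hfg _).mp (by rw [map_sub, hsg', sub_self])⟩
    refine ⟨s ⟨g x, hy⟩ + f (p₁ (d ⟨g x, hy⟩) + a), F.add_mem (hs _) (hFi.ge ⟨_, F₁.add_mem (hp₁ _) ha, rfl⟩).1, ?_⟩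
    show (s ⟨g x, hy⟩ + f _) + f (u (g (s ⟨g x, hy⟩ + f _))) = x
    rw [map_add g, hgf, add_zero, hsg, hu, map_sub, hd, map_add, hae]
    abel
  · rintro _ ⟨x, hx, rfl⟩
    have hy : g x ∈ F₂ := hFg.le ⟨x, hx, rfl⟩
    have hu : u (g x) = d ⟨g x, hy⟩ - p₁ (d ⟨g x, hy⟩) := by
      show d (q.codRestrict F₂ hq (g x)) - p₁ (d (q.codRestrict F₂ hq (g x))) = _
      rw [show q.codRestrict F₂ hq (g x) = ⟨g x, hy⟩ from Subtype.ext (hq' _ hy)]
    obtain ⟨a, ha, hae⟩ : x - s ⟨g x, hy⟩ ∈ Submodule.map f F₁ := hFi.le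
      ⟨F.sub_mem hx (hs _), (hfg _).mp (by rw [map_sub, hsg, sub_self])⟩
    have h7 : (LinearMap.id (R := R) (M := H) + f ∘ₗ u ∘ₗ g) x = s' ⟨g x, hy⟩ + f (a - p₁ (d ⟨g x, hy⟩)) := by
      show x + f (u (g x)) = _
      rw [hu, map_sub, hd, map_sub, hae]
      abel
    rw [h7]
    exact F'.add_mem (hs' _) (hF'i.ge ⟨_, F₁.sub_mem ha (hp₁ _), rfl⟩).1

end Groth.Agent.S16420
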