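import Groth.Statements.S16421
import Mathlib

set_option autoImplicit false
universe u
open FrobAlg

namespace Groth.Agent.S16421

section aux

lemma flat_of_bijective {R S : Type u} [CommRing R] [CommRing S] (φ : R →+* S) {E : Type u} (m : E → S)
    (h : Function.Bijective (fun c : E →₀ R => c.sum (fun e r => φ r * m e))) : φ.Flat := by
  let := φ.toAlgebra
  have h' : Function.Bijective (Finsupp.linearCombination R m) := by
    convert h using 1
    funext c
    simp [Finsupp.linearCombination_apply, Algebra.smul_def, RingHom.algebraMap_toAlgebra]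
  change Module.Flat R S
  have : Module.Free R S :=
    .of_basis (Module.Basis.ofRepr (LinearEquiv.ofBijective _ h').symm)
  infer_instance

/-- The monomials are a basis for the Frobenius module structure. -/
lemma frobenius_flat (p : ℕ) [Fact p.Prime] (R : Type u) [CommRing R] [CharP R p] (ι : Type u)
    (x : ι → R) (hx : Function.Bijective
      (fun c : {e : ι →₀ ℕ // ∀ i, e i < p} →₀ R =>
        c.sum (fun e r => r ^ p * e.1.prod (fun i n => x i ^ n)))) :
    (frobenius R p).Flat := by
  exact flat_of_bijective (frobenius R p) (fun e : {e : ι →₀ ℕ // ∀ i, e i < p} => e.1.prod (fun i n => x i ^ n)) hx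

lemma trivialRelation {R S : Type*} [CommRing R] [CommRing S] {φ : R →+* S} (hφ : φ.Flat) {l : ℕ}
    {f : Fin l → R} {r : Fin l → S} (h : ∑ i, φ (f i) * r i = 0) :
    ∃ (k : ℕ) (a : Fin l → Fin k → R) (y : Fin k → S),
      (∀ i, r i = ∑ j, φ (a i j) * y j) ∧ ∀ j, ∑ i, f i * a i j = 0 := by
  letI := φ.toAlgebra
  have : Module.Flat R S := hφ
  obtain ⟨k, a, y, h1, h2⟩ := Module.Flat.iff_forall_isTrivialRelation.1 this (f := f) (x := r)
    (by simpa [Algebra.smul_def, RingHom.algebraMap_toAlgebra] using h)
  exact ⟨k, a, y, fun i => by simpa [Algebra.smul_def, RingHom.algebraMap_toAlgebra] using h1 i, h2⟩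

lemma iterateFrobenius_flat {p : ℕ} [Fact p.Prime] {R : Type u} [CommRing R] [CharP R p]
    (h : (frobenius R p).Flat) : ∀ n, (iterateFrobenius R p n).Flat
  | 0 => by
    rw [iterateFrobenius_zero]
    exact RingHom.Flat.id R
  | n + 1 => by
    rw [iterateFrobenius_add, iterateFrobenius_one]
    exact (h.comp (iterateFrobenius_flat h n))

end aux

/-- Let p be a prime and R a commutative ring of characteristic p with a p-basis (x_i), meaning that the
monomials ∏ x_i^(e i) with every exponent e i < p form a basis of R as a module over itself through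
the Frobenius, i.e. the map sending a finitely supported family of coefficients c to ∑_e (c e)^p · ∏
x_i^(e i) is a bijection onto R. Then the canonical ring map from R to its perfect closure is
faithfully flat. -/
theorem result (p : ℕ) [Fact p.Prime]
    (R : Type u) [CommRing R] [CharP R p] (ι : Type u) (x : ι → R)
    (hx : Function.Bijective
      (fun c : {e : ι →₀ ℕ // ∀ i, e i < p} →₀ R =>
        c.sum (fun e r => r ^ p * e.1.prod (fun i n => x i ^ n)))) :
    (PerfectClosure.of R p).FaithfullyFlat := by
  have hflat := frobenius_flat p R ι x hx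
  have hpr : (PerfectClosure.of R p).Flat ∧
      Function.Surjective (PrimeSpectrum.comap (PerfectClosure.of R p)) := by
    have hp : (p : ℕ) ≠ 0 := (Fact.out : p.Prime).ne_zero
    have hFinj : Function.Injective (frobenius R p) := by
      intro r s hrs
      have key : ∀ t : R, t ^ p = 0 → t = 0 := fun t ht => by
        have h1 : (Finsupp.single (⟨0, fun i => by simpa using (Fact.out : p.Prime).pos⟩ :
            {e : ι →₀ ℕ // ∀ i, e i < p}) t) = 0 := hx.1 (by
          simp only [Finsupp.sum_zero_index]
          rw [Finsupp.sum_single_index (by simp [zero_pow hp])]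
          simp [ht])
        simpa using h1
      exact sub_eq_zero.1 (key _ (by
        rw [← frobenius_def, map_sub, hrs, sub_self]))
    have hred : IsReduced R := (isReduced_iff_pow_one_lt p (Fact.out : p.Prime).one_lt).2 fun t ht => hFinj (by simpa [frobenius_def] using ht.trans (zero_pow hp).symm)
    have hinj : Function.Injective (PerfectClosure.of R p) := by
      refine (injective_iff_map_eq_zero _).2 fun r hr => ?_
      obtain ⟨n, hn⟩ := mem_pNilradical.1 (IsPRadical.ker_le (PerfectClosure.of R p) p hr)
      exact IsReduced.eq_zero r ⟨_, hn⟩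
    have hpow := IsPRadical.pow_mem (PerfectClosure.of R p) p
    refine ⟨?_, RingHom.IsIntegral.comap_surjective (fun z => ?_) hinj⟩
    · letI := (PerfectClosure.of R p).toAlgebra
      change Module.Flat R (PerfectClosure R p)
      rw [Module.Flat.iff_forall_isTrivialRelation]
      intro l f z hz
      choose n r hr using fun i => hpow (z i)
      set N := ∑ i, n i with hN
      have hr' : ∀ i, PerfectClosure.of R p (r i ^ p ^ (N - n i)) = z i ^ p ^ N := fun i => by
        rw [map_pow, hr, ← pow_mul, ← pow_add,
          Nat.add_sub_cancel' (Finset.single_le_sum (fun j _ => Nat.zero_le _) (Finset.mem_univ i))]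
      have h0 : ∑ i, iterateFrobenius R p N (f i) * r i ^ p ^ (N - n i) = 0 := hinj (by
        rw [map_sum, map_zero]
        simp only [map_mul, hr', iterateFrobenius_def, map_pow (PerfectClosure.of R p) (f _) _,
          ← mul_pow]
        rw [← sum_pow_char_pow]
        have : ∑ i, PerfectClosure.of R p (f i) * z i = 0 := hz
        rw [this, zero_pow (pow_ne_zero _ hp)])
      obtain ⟨k, a, y, h1, h2⟩ := trivialRelation (iterateFrobenius_flat hflat N) h0
      choose w hw using fun j =>
        (iterateFrobeniusEquiv (PerfectClosure R p) p N).surjective (PerfectClosure.of R p (y j))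
      refine ⟨k, a, w, fun i => ?_, h2⟩
      refine (iterateFrobeniusEquiv (PerfectClosure R p) p N).injective ?_
      simp only [Algebra.smul_def, RingHom.algebraMap_toAlgebra, map_sum, map_mul, hw]
      rw [iterateFrobeniusEquiv_apply, iterateFrobenius_def, ← hr' i, h1 i]
      simp [iterateFrobeniusEquiv_apply, iterateFrobenius_def]
    · obtain ⟨n, r, hr⟩ := hpow z
      refine ⟨Polynomial.X ^ p ^ n - Polynomial.C r, Polynomial.monic_X_pow_sub_C _ (pow_ne_zero _ hp), ?_⟩
      simp [hr]
  exact RingHom.FaithfullyFlat.iff_flat_and_comap_surjective.2 hpr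

end Groth.Agent.S16421
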