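import Groth.Statements.S16422
import Mathlib.RingTheory.GradedAlgebra.Homogeneous.Ideal
import Mathlib.Algebra.Module.Projective
import Mathlib.RingTheory.Finiteness.Basic
import Mathlib.Algebra.Module.GradedModule
import Mathlib.LinearAlgebra.TensorProduct.Submodule
-- import your own Groth.Agent.* helpers here

set_option autoImplicit false
universe u
open GrMod

namespace Groth.Agent.S16422

theorem decompose_smul {S : Type u} [CommRing S] {𝒜 : ℤ → AddSubgroup S} [GradedRing 𝒜]
    {M : Type u} [AddCommGroup M] [Module S M] {ℳ : ℤ → AddSubgroup M} [DirectSum.Decomposition ℳ]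
    [SetLike.GradedSMul 𝒜 ℳ] (s : S) {d : ℤ} {e : M} (he : e ∈ ℳ d) (n : ℤ) :
    ((DirectSum.decompose ℳ (s • e) n : ℳ n) : M) = ((DirectSum.decompose 𝒜 s (n - d) : 𝒜 (n - d)) : S) • e := by
  classical
  induction s using DirectSum.Decomposition.inductionOn 𝒜 with
  | zero => simp
  | @homogeneous i s =>
    have hmem : (s : S) • e ∈ ℳ (i + d) := SetLike.GradedSMul.smul_mem s.2 he
    by_cases h : i + d = n
    · subst h
      rw [DirectSum.decompose_of_mem_same ℳ hmem, show i + d - d = i by ring, DirectSum.decompose_of_mem_same 𝒜 s.2]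
    · rw [DirectSum.decompose_of_mem_ne ℳ hmem h,
        DirectSum.decompose_of_mem_ne 𝒜 s.2 (show i ≠ n - d by omega), zero_smul]
  | add a b ha hb => simp only [add_smul, DirectSum.decompose_add, DirectSum.add_apply, AddSubgroup.coe_add, ha, hb]


/-- Let S be a commutative ring graded by ℤ with pieces 𝒜 n, and V a decreasing sequence of homogeneous
ideals for which S is graded-complete, i.e. for each degree n the map from 𝒜 n to the inverse limit
of the quotients 𝒜 n / (𝒜 n ∩ V m) is bijective (stated as: a degree-n element in every V m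
vanishes, and every sequence in 𝒜 n whose consecutive differences lie in the V m has a limit in 𝒜
n). Then every graded S-module M which is finitely generated and projective as an S-module is
graded-complete in the same sense for the submodules V m · M: for each n the map from ℳ n to the
inverse limit of ℳ n / (ℳ n ∩ V m · M) is bijective. -/
theorem result
    (S : Type u) [CommRing S] (𝒜 : ℤ → AddSubgroup S) [GradedRing 𝒜]
    (V : ℕ → HomogeneousIdeal 𝒜) (hV : ∀ m, (V (m + 1)).toIdeal ≤ (V m).toIdeal)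
    (hsep : ∀ (n : ℤ) (s : S), s ∈ 𝒜 n → (∀ m, s ∈ (V m).toIdeal) → s = 0)
    (hcpl : ∀ (n : ℤ) (f : ℕ → S), (∀ m, f m ∈ 𝒜 n) →
      (∀ m, f (m + 1) - f m ∈ (V m).toIdeal) → ∃ s ∈ 𝒜 n, ∀ m, s - f m ∈ (V m).toIdeal)
    (M : Type u) [AddCommGroup M] [Module S M] (ℳ : ℤ → AddSubgroup M)
    [DirectSum.Decomposition ℳ] [SetLike.GradedSMul 𝒜 ℳ]
    [Module.Finite S M] [Module.Projective S M] :
    (∀ (n : ℤ) (x : M), x ∈ ℳ n → (∀ m, x ∈ (V m).toIdeal • (⊤ : Submodule S M)) → x = 0) ∧
    (∀ (n : ℤ) (g : ℕ → M), (∀ m, g m ∈ ℳ n) →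
      (∀ m, g (m + 1) - g m ∈ (V m).toIdeal • (⊤ : Submodule S M)) →
      ∃ x ∈ ℳ n, ∀ m, x - g m ∈ (V m).toIdeal • (⊤ : Submodule S M)) := by
  classical
  obtain ⟨T, hT⟩ := (Module.Finite.fg_top : (⊤ : Submodule S M).FG)
  let ι := Σ t : T, (DirectSum.decompose ℳ (t : M)).support
  let d : ι → ℤ := fun j => j.2
  let e : ι → M := fun j => (DirectSum.decompose ℳ (j.1 : M) (d j) : M)
  have he : ∀ j, e j ∈ ℳ (d j) := fun j => (DirectSum.decompose ℳ (j.1 : M) (d j)).2
  let π : (ι → S) →ₗ[S] M := Fintype.linearCombination S e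
  have hπ : Function.Surjective π := by
    rw [← LinearMap.range_eq_top, Fintype.range_linearCombination, eq_top_iff, ← hT, Submodule.span_le]
    intro t ht
    rw [SetLike.mem_coe, ← DirectSum.sum_support_decompose ℳ t]
    exact Submodule.sum_mem _ fun i hi => Submodule.subset_span ⟨⟨⟨t, ht⟩, ⟨i, hi⟩⟩, rfl⟩
  obtain ⟨σ, hσ⟩ := Module.projective_lifting_property π LinearMap.id hπ
  have hσ' : ∀ x, ∑ j, σ x j • e j = x := fun x => by
    simpa [π, Fintype.linearCombination_apply] using LinearMap.congr_fun hσ x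
  let c : ℤ → M → ι → S := fun n x j => (DirectSum.decompose 𝒜 (σ x j) (n - d j) : S)
  have hc : ∀ (n : ℤ) (x : M), x ∈ ℳ n → ∑ j, c n x j • e j = x := fun n x hx => by
    conv_rhs => rw [← DirectSum.decompose_of_mem_same ℳ hx, ← hσ' x]
    rw [DirectSum.decompose_sum, DFinsupp.finsetSum_apply, AddSubmonoidClass.coe_finsetSum]
    exact Finset.sum_congr rfl fun j _ => (decompose_smul (𝒜 := 𝒜) _ (he j) n).symm
  have hcV : ∀ (m : ℕ) (n : ℤ) (x : M), x ∈ (V m).toIdeal • (⊤ : Submodule S M) → ∀ j, c n x j ∈ (V m).toIdeal := by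
    intro m n x hx j
    refine (V m).isHomogeneous _ ?_
    have h1 : (LinearMap.proj j ∘ₗ σ) x ∈ ((V m).toIdeal • (⊤ : Submodule S M)).map (LinearMap.proj j ∘ₗ σ) :=
      Submodule.mem_map_of_mem hx
    rw [Submodule.map_smul''] at h1
    exact (Submodule.smul_le (P := (V m).toIdeal)).2 (fun r hr z _ => (V m).toIdeal.mul_mem_right z hr) h1
  refine ⟨fun n x hx hV' => ?_, fun n g hg hg' => ?_⟩
  · rw [← hc n x hx]
    refine Finset.sum_eq_zero fun j _ => ?_
    rw [hsep (n - d j) (c n x j) (DirectSum.decompose 𝒜 (σ x j) (n - d j)).2 fun m => hcV m n x (hV' m) j, zero_smul]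
  · have hsub : ∀ m j, c n (g (m + 1) - g m) j = c n (g (m + 1)) j - c n (g m) j := fun m j => by
      simp only [c, map_sub, Pi.sub_apply, DirectSum.decompose_sub, DirectSum.sub_apply, AddSubgroup.coe_sub]
    choose s hs hs' using fun j => hcpl (n - d j) (fun m => c n (g m) j)
      (fun m => (DirectSum.decompose 𝒜 (σ (g m) j) (n - d j)).2) fun m => by rw [← hsub m j]; exact hcV m n _ (hg' m) j
    refine ⟨∑ j, s j • e j, sum_mem fun j _ => ?_, fun m => ?_⟩
    · have := SetLike.GradedSMul.smul_mem (hs j) (he j)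
      rwa [vadd_eq_add, sub_add_cancel] at this
    · suffices h : ∑ j, s j • e j - ∑ j, c n (g m) j • e j ∈ (V m).toIdeal • (⊤ : Submodule S M) by
        rwa [hc n (g m) (hg m)] at h
      rw [← Finset.sum_sub_distrib]
      refine Submodule.sum_mem _ fun j _ => ?_
      rw [← sub_smul]
      exact Submodule.smul_mem_smul (hs' j m) Submodule.mem_top

end Groth.Agent.S16422
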