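import Groth.Statements.S16430
import Groth.Agent.HenselLib.LiftEtaleField

set_option autoImplicit false
universe u
open Hensel

namespace Groth.Agent.S16430

/-- For a Noetherian local ring A with residue field k and a finite separable field extension l of k,
there is a local ring E, finite and etale over A with local structure map, whose residue field is
k-isomorphic to l. -/
theorem result (A : Type u)
    [CommRing A] [IsLocalRing A] [IsNoetherianRing A] (l : Type u) [Field l]
    [Algebra (IsLocalRing.ResidueField A) l] [FiniteDimensional (IsLocalRing.ResidueField A) l]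
    [Algebra.IsSeparable (IsLocalRing.ResidueField A) l] :
    ∃ (E : Type u) (_ : CommRing E) (_ : IsLocalRing E) (_ : Algebra A E)
      (_ : IsLocalHom (algebraMap A E)),
      Module.Finite A E ∧ Algebra.Etale A E ∧
        Nonempty (IsLocalRing.ResidueField E ≃ₐ[IsLocalRing.ResidueField A] l) := by
  letI : Algebra A l :=
    ((algebraMap (IsLocalRing.ResidueField A) l).comp (IsLocalRing.residue A)).toAlgebra
  haveI : IsScalarTower A (IsLocalRing.ResidueField A) l := .of_algebraMap_eq' rfl
  obtain ⟨E, _, _, π, hfin, het, hsurj, hker⟩ :=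
    Groth.Agent.HenselLib.exists_lift_field (R := A) l
  set J := (IsLocalRing.maximalIdeal A).map (algebraMap A E) with hJ
  have hJker : RingHom.ker π.toRingHom = J := le_antisymm hker (Ideal.map_le_iff_le_comap.mpr
    fun a ha => by
      rw [Ideal.mem_comap, RingHom.mem_ker]
      show π (algebraMap A E a) = 0
      rw [π.commutes, IsScalarTower.algebraMap_apply A (IsLocalRing.ResidueField A) l,
        IsLocalRing.ResidueField.algebraMap_eq, (IsLocalRing.residue_eq_zero_iff a).mpr ha, map_zero])
  haveI hJmax : J.IsMaximal := hJker ▸ RingHom.ker_isMaximal_of_surjective π.toRingHom hsurj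
  haveI : IsLocalRing E := IsLocalRing.of_unique_max_ideal ⟨J, hJmax, fun M hM =>
    (hJmax.eq_of_le hM.ne_top (by haveI := hM; exact Groth.Agent.HenselLib.map_maximalIdeal_le M)).symm⟩
  have hmax : IsLocalRing.maximalIdeal E = J := (IsLocalRing.eq_maximalIdeal hJmax).symm
  haveI hloc : IsLocalHom (algebraMap A E) := ⟨fun a ha => by
    by_contra hnu
    exact hJmax.ne_top (Ideal.eq_top_of_isUnit_mem _
      (Ideal.mem_map_of_mem _ ((IsLocalRing.mem_maximalIdeal a).mpr hnu)) ha)⟩
  let r : IsLocalRing.ResidueField E →+* l := Ideal.Quotient.lift _ π.toRingHom fun x hx => by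
    rw [hmax, ← hJker] at hx
    exact hx
  have hr : ∀ x, r (IsLocalRing.residue E x) = π x := fun x => Ideal.Quotient.lift_mk _ _ _
  let r' : IsLocalRing.ResidueField E →ₐ[IsLocalRing.ResidueField A] l :=
    { r with
      commutes' := fun y => by
        obtain ⟨a, rfl⟩ := IsLocalRing.residue_surjective y
        show r (IsLocalRing.residue E (algebraMap A E a)) = algebraMap _ l _
        rw [hr, π.commutes]
        rfl }
  exact ⟨E, inferInstance, inferInstance, inferInstance, hloc, hfin, het,
    ⟨AlgEquiv.ofBijective r' ⟨r.injective, fun y => by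
      obtain ⟨x, rfl⟩ := hsurj y
      exact ⟨IsLocalRing.residue E x, hr x⟩⟩⟩⟩

end Groth.Agent.S16430
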