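import Groth.Statements.S2136
import Groth.Agent.UnibFib.UnramUnib

set_option autoImplicit false
universe u
open CAlg

namespace Groth.Agent.S2136

/-- Let `A` be a domain, `A → B` a ring map of finite type, and `𝔮` a prime of `B` lying over `𝔭 ⊆ A`,
with `A_𝔭` geometrically unibranch, `A → B` unramified at `𝔮` and `A_𝔭 → B_𝔮` injective. Then `B_g`
is étale over `A` for some `g ∉ 𝔮`. (`B` is assumed of finite type over `A` throughout; the
published statement needs this only after inverting an element outside `𝔮`.) -/
theorem result {A B : Type u} [CommRing A] [IsDomain A] [CommRing B]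
    [Algebra A B] (q : Ideal B) [q.IsPrime] (p : Ideal A) [p.IsPrime] [q.LiesOver p]
    (hA : CAlg2.IsGeomUnibranch (Localization.AtPrime p)) [Algebra.FiniteType A B] [Algebra.IsUnramifiedAt A q]
    (hinj : Function.Injective (Localization.localRingHom p q (algebraMap A B) (q.over_def p))) :
    ∃ g : B, g ∉ q ∧ Algebra.Etale A (Localization.Away g) := by
  haveI : IsDomain (Localization.AtPrime p) :=
    IsLocalization.isDomain_localization (Ideal.primeCompl_le_nonZeroDivisors p)
  obtain ⟨P, hP, hP0⟩ := Ideal.exists_comap_eq_of_mem_minimalPrimes_of_injective hinj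
    (⊥ : Ideal (Localization.AtPrime p)) ⟨⟨Ideal.isPrime_bot, bot_le⟩, fun _ _ _ => bot_le⟩
  let T := Localization.AtPrime q
  let m : Ideal B := P.comap (algebraMap B T)
  haveI : m.IsPrime := Ideal.IsPrime.comap _
  have hmq : m ≤ q := fun x hx =>
    (IsLocalization.AtPrime.to_map_mem_maximal_iff T q x).1 (IsLocalRing.le_maximalIdeal hP.ne_top hx)
  have hm : m.comap (algebraMap A B) = ⊥ := by
    rw [Ideal.comap_comap, show (algebraMap B T).comp (algebraMap A B) =
      (Localization.localRingHom p q (algebraMap A B) (q.over_def p)).comp (algebraMap A (Localization.AtPrime p)) from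
      RingHom.ext fun r => (Localization.localRingHom_to_map p q (algebraMap A B) (q.over_def p) r).symm,
      ← Ideal.comap_comap, hP0, ← RingHom.ker_eq_comap_bot, RingHom.ker_eq_bot_iff_eq_zero]
    exact fun a ha => (IsLocalization.injective (Localization.AtPrime p) (Ideal.primeCompl_le_nonZeroDivisors p)) (ha.trans (map_zero _).symm)
  have hq : CAlg2.IsGeomUnibranch (Localization.AtPrime (q.comap (algebraMap A B))) := by
    have e : q.comap (algebraMap A B) = p := (q.over_def p).symm
    subst e
    exact hA
  exact Groth.Agent.UnibFib.exists_etale_away_of_unramified q hq m hmq hm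

end Groth.Agent.S2136
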