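import Groth.Statements.S16433
import Groth.Agent.SHensel17.NormalInter

set_option autoImplicit false
universe u
open EGA4loc

namespace Groth.Agent.S16433

/-- Let A be an excellent normal local domain and S a strict henselization of A; let D be an
A-subalgebra of S which is a local ring dominated by S (the inclusion is a local homomorphism) and
an integrally closed domain. Then D is a directed union of local etale extensions of A: every finite
subset of D is contained in an A-subalgebra D' of S with D' contained in D, D' a local ring whose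
inclusion into S is local, and D' an essentially etale local A-algebra (a localization of an etale
A-algebra at a prime over the maximal ideal). -/
theorem result
    (A S : Type u) [CommRing A] [IsLocalRing A] [IsDomain A] [IsIntegrallyClosed A]
    (hA : EGA4.IsExcellent A) [CommRing S] [IsLocalRing S] [Algebra A S] [IsLocalHom (algebraMap A S)]
    [Hensel.IsStrictHenselization A S] (D : Subalgebra A S) [IsLocalRing D]
    [IsLocalHom (algebraMap D S)] [IsDomain D] [IsIntegrallyClosed D]
    (s : Finset S) (hs : (s : Set S) ⊆ (D : Set S)) :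
    ∃ D' : Subalgebra A S, D' ≤ D ∧ (s : Set S) ⊆ (D' : Set S) ∧
      ∃ _ : IsLocalRing D', IsLocalHom (algebraMap D' S) ∧ EGA4loc.IsEssentiallyEtale A D' := by
  classical
  haveI : IsNoetherianRing A := hA.1
  let F := FractionRing D
  let L : Subfield F := Subfield.closure (Set.range (algebraMap A F) ∪
    (algebraMap D F) '' {d : D | (d : S) ∈ s})
  have hA' : ∀ a : A, algebraMap A F a ∈ L := fun a => Subfield.subset_closure (Or.inl ⟨a, rfl⟩)
  let D₁ : Subalgebra A D :=
    { L.toSubring.toSubsemiring.comap (algebraMap D F) with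
      algebraMap_mem' := fun a => by
        show algebraMap D F (algebraMap A D a) ∈ L
        rw [← IsScalarTower.algebraMap_apply]
        exact hA' a }
  let D' : Subalgebra A S := D₁.map D.val
  have hmem : ∀ d : D, (d : S) ∈ D' ↔ algebraMap D F d ∈ L := fun d =>
    ⟨fun ⟨d', hd', h⟩ => by obtain rfl : d' = d := Subtype.ext h; exact hd', fun h => ⟨d, h, rfl⟩⟩
  have hle : D' ≤ D := fun x ⟨d, _, h⟩ => h ▸ d.2
  have hinv : ∀ x : D', IsUnit (x : S) → IsUnit x := fun x hx => by
    have hx' : IsUnit (⟨x.1, hle x.2⟩ : D) := (isUnit_map_iff (algebraMap D S) _).1 hx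
    obtain ⟨v, huv⟩ := hx'.exists_right_inv
    have hv : algebraMap D F v ∈ L := by
      rw [eq_inv_of_mul_eq_one_right (show algebraMap D F ⟨x.1, hle x.2⟩ * algebraMap D F v = 1 by
        rw [← map_mul, huv, map_one])]
      exact inv_mem ((hmem _).1 x.2)
    exact .of_mul_eq_one ⟨v.1, (hmem v).2 hv⟩ (Subtype.ext (congrArg (Subtype.val : D → S) huv))
  haveI : Nontrivial D' := (algebraMap D' S).domain_nontrivial
  haveI hloc : IsLocalRing D' := .of_nonunits_add fun {a b} ha hb hab =>
    (IsLocalRing.nonunits_add (a := (a : S)) (b := (b : S)) (fun h => ha (hinv a h)) (fun h => hb (hinv b h)))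
      (hab.map D'.val)
  haveI : IsLocalHom (algebraMap D' S) := ⟨fun x hx => hinv x hx⟩
  let inc : D' →ₐ[A] D := Subalgebra.inclusion hle
  have hinc : Function.Injective inc := Subalgebra.inclusion_injective hle
  haveI : IsDomain D' := Function.Injective.isDomain inc.toRingHom hinc
  let g : FractionRing D' →+* F :=
    IsFractionRing.lift (g := (algebraMap D F).comp inc.toRingHom)
      ((IsFractionRing.injective D F).comp hinc)
  have hg : ∀ x : D', g (algebraMap D' (FractionRing D') x) = algebraMap D F (inc x) :=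
    fun x => IsFractionRing.lift_algebraMap _ x
  haveI : IsIntegrallyClosed D' := (isIntegrallyClosed_iff (FractionRing D')).2 fun {z} hz => by
    have h1 : IsIntegral D (g z) := by
      obtain ⟨p, hp, hpz⟩ := hz
      refine ⟨p.map inc.toRingHom, hp.map _, ?_⟩
      rw [Polynomial.eval₂_map]
      have := congrArg g hpz
      rw [map_zero, Polynomial.hom_eval₂] at this
      rwa [show g.comp (algebraMap D' (FractionRing D')) = (algebraMap D F).comp inc.toRingHom from
        RingHom.ext hg] at this
    obtain ⟨d, hd⟩ := IsIntegrallyClosed.isIntegral_iff.1 h1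
    have hgL : g z ∈ L := by
      obtain ⟨a, b, -, rfl⟩ := IsFractionRing.div_surjective D' z
      rw [map_div₀, hg, hg]
      exact div_mem ((hmem _).1 a.2) ((hmem _).1 b.2)
    have hdL : (d : S) ∈ D' := (hmem d).2 (hd ▸ hgL)
    exact ⟨⟨d, hdL⟩, g.injective (by rw [hg, ← hd]; rfl)⟩
  refine ⟨D', hle, fun x hx => (hmem ⟨x, hs hx⟩).2 (Subfield.subset_closure (Or.inr ⟨_, hx, rfl⟩)),
    hloc, inferInstance, ?_⟩
  have hsD : ∀ x ∈ s, x ∈ D' := fun x hx =>
    (hmem ⟨x, hs hx⟩).2 (Subfield.subset_closure (Or.inr ⟨_, hx, rfl⟩))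
  refine Groth.Agent.SHensel17.essEtale_of_normal_fg A S D'
    ⟨s.attach.image fun x => ⟨x.1, hsD x.1 x.2⟩, eq_top_iff.2 fun z _ => ?_⟩
  let G : Subfield (FractionRing D') := Subfield.closure (Set.range (algebraMap A (FractionRing D')) ∪
    (algebraMap D' (FractionRing D')) '' ((s.attach.image fun x => (⟨x.1, hsD x.1 x.2⟩ : D') : Finset D') : Set D'))
  have hL : L ≤ G.map g := by
    refine Subfield.closure_le.2 ?_
    rintro y (⟨a, rfl⟩ | ⟨d, hd, rfl⟩)
    · refine ⟨_, Subfield.subset_closure (Or.inl ⟨a, rfl⟩), ?_⟩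
      rw [IsScalarTower.algebraMap_apply A D' (FractionRing D'), hg, inc.commutes,
        ← IsScalarTower.algebraMap_apply]
    · refine ⟨_, Subfield.subset_closure (Or.inr ⟨⟨d.1, hsD _ hd⟩,
        Finset.mem_image.2 ⟨⟨d.1, hd⟩, Finset.mem_attach _ _, rfl⟩, rfl⟩), ?_⟩
      rw [hg]
      rfl
  obtain ⟨w, hw, hwz⟩ := hL (show g z ∈ L by
    obtain ⟨a, b, -, rfl⟩ := IsFractionRing.div_surjective D' z
    rw [map_div₀, hg, hg]
    exact div_mem ((hmem _).1 a.2) ((hmem _).1 b.2))
  exact g.injective hwz ▸ hw

end Groth.Agent.S16433
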