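import Groth.Statements.S16448
import Mathlib

set_option autoImplicit false
universe u
open EGA4loc

namespace Groth.Agent.S16448

open TensorProduct

/-- The total ring of fractions of a reduced ring with finitely many minimal primes is Artinian. -/
theorem isArtinianRing_fractionRing (T : Type u) [CommRing T] [IsReduced T] (hfin : (minimalPrimes T).Finite) :
    IsArtinianRing (FractionRing T) := by
  let Q := FractionRing T
  haveI : IsReduced Q := inferInstance
  have key : ∀ P : Ideal Q, P.IsPrime → P.comap (algebraMap T Q) ∈ minimalPrimes T := by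
    intro P hP
    have hsub : (P.comap (algebraMap T Q) : Set T) ⊆ ⋃ q ∈ minimalPrimes T, (q : Set T) := by
      intro x hx
      rw [Set.mem_iUnion₂]
      by_contra! h
      have hx' : x ∈ nonZeroDivisors T := mem_nonZeroDivisors_iff_right.mpr fun z hz => IsNilpotent.eq_zero (by
        rw [← mem_nilradical, nilradical, ← Ideal.sInf_minimalPrimes]
        exact Ideal.mem_sInf.mpr fun {q} hq => (hq.1.1.mem_or_mem (hz ▸ q.zero_mem)).resolve_right (h q hq))
      exact hP.ne_top (P.eq_top_of_isUnit_mem hx (IsLocalization.map_units Q (⟨x, hx'⟩ : nonZeroDivisors T)))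
    obtain ⟨q, hq, hle⟩ := (Ideal.subset_union_prime_finite hfin (f := id) ⊥ ⊥ fun i hi _ _ => hi.1.1).mp hsub
    exact le_antisymm hle (hq.2 ⟨hP.comap _, bot_le⟩ hle) ▸ hq
  have hmax : ∀ P : Ideal Q, P.IsPrime → P.IsMaximal := fun P hP => by
    obtain ⟨M, hM, hPM⟩ := Ideal.exists_le_maximal P hP.ne_top
    have h1 : P.comap (algebraMap T Q) = M.comap (algebraMap T Q) :=
      le_antisymm (Ideal.comap_mono hPM) ((key M hM.isPrime).2 (key P hP).1 (Ideal.comap_mono hPM))
    have h2 : P = M := by
      rw [← IsLocalization.map_under (nonZeroDivisors T) Q P, ← IsLocalization.map_under (nonZeroDivisors T) Q M]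
      exact congrArg (Ideal.map (algebraMap T Q)) h1
    exact h2 ▸ hM
  have hinj : Function.Injective fun P : {P : Ideal Q // P.IsPrime} =>
      (⟨P.1.comap (algebraMap T Q), key P.1 P.2⟩ : minimalPrimes T) := fun P P' h => Subtype.ext (by
    rw [← IsLocalization.map_under (nonZeroDivisors T) Q P.1, ← IsLocalization.map_under (nonZeroDivisors T) Q P'.1]
    exact congrArg (Ideal.map (algebraMap T Q)) (congrArg Subtype.val h))
  haveI := hfin.to_subtype
  haveI : Finite {P : Ideal Q // P.IsPrime} := Finite.of_injective _ hinj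
  let f : {P : Ideal Q // P.IsPrime} → Ideal Q := Subtype.val
  have hf : Pairwise (Function.onFun IsCoprime f) := fun P P' h => Ideal.isCoprime_iff_sup_eq.2
    ((hmax P.1 P.2).coprime_of_ne (hmax P'.1 P'.2) fun h' => h (Subtype.ext h'))
  have hinf : ⨅ P, f P = ⊥ := le_bot_iff.1 fun x hx => by
    rw [Ideal.mem_bot]
    refine IsNilpotent.eq_zero (nilpotent_iff_mem_prime.2 fun P hP => ?_)
    exact (Ideal.mem_iInf.1 hx) ⟨P, hP⟩
  haveI : ∀ P, IsArtinianRing (Q ⧸ f P) := fun P =>
    haveI := hmax P.1 P.2
    letI := Ideal.Quotient.field (f P)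
    inferInstance
  exact (((RingEquiv.quotientBot Q).symm.trans (Ideal.quotEquivOfEq hinf.symm)).trans
    (Ideal.quotientInfRingEquivPiQuotient f hf)).symm.isArtinianRing


/-- Let A be a reduced local ring with finitely many minimal prime ideals and E a local ring which is an
essentially etale local A-algebra with local structure map. Then the total ring of fractions K_E of
E is the localization of E at the images of the non-zero-divisors of A — that is, K_E = E ⊗_A K_A —
and K_E is finite over K_A: for some finite subset t of K_E, every element of K_E multiplied by the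
image of a suitable non-zero-divisor of A lies in the A-span of t. (The published statement is for a
reduced semilocal ring and a semilocal etale extension; this row treats a local ring and a local
etale extension.) -/
theorem result
    (A E : Type u) [CommRing A] [IsLocalRing A] [IsReduced A] (hmin : (minimalPrimes A).Finite)
    [CommRing E] [IsLocalRing E] [Algebra A E] [IsLocalHom (algebraMap A E)]
    (hE : EGA4loc.IsEssentiallyEtale A E) :
    IsLocalization ((nonZeroDivisors A).map (algebraMap A E)) (FractionRing E) ∧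
      ∃ t : Finset (FractionRing E), ∀ x : FractionRing E, ∃ a ∈ nonZeroDivisors A,
        algebraMap A (FractionRing E) a * x ∈ Submodule.span A (t : Set (FractionRing E)) := by
  obtain ⟨C, _, _, q, _, hC, hq, ⟨e⟩⟩ := hE
  letI : Algebra C E := (e.symm.toRingHom.comp (algebraMap C (Localization.AtPrime q))).toAlgebra
  haveI : IsScalarTower A C E := IsScalarTower.of_algebraMap_eq fun a => by
    show algebraMap A E a = e.symm (algebraMap C (Localization.AtPrime q) (algebraMap A C a))
    rw [← IsScalarTower.algebraMap_apply, AlgEquiv.commutes]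
  let eC : Localization.AtPrime q ≃ₐ[C] E := AlgEquiv.ofRingEquiv (f := e.symm.toRingEquiv) fun _ => rfl
  haveI : IsLocalization q.primeCompl E := IsLocalization.isLocalization_of_algEquiv q.primeCompl eC
  haveI : Module.Flat C E := IsLocalization.flat E q.primeCompl
  haveI : Module.Flat A E := Module.Flat.trans A C E
  let K := FractionRing A
  haveI : IsArtinianRing K := isArtinianRing_fractionRing A hmin
  let M' := (nonZeroDivisors A).map (algebraMap A E)
  have hM' : M' ≤ nonZeroDivisors E := by
    rintro _ ⟨a, ha, rfl⟩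
    have h1 : IsSMulRegular E a := Module.Flat.isSMulRegular_of_nonZeroDivisors ha
    refine mem_nonZeroDivisors_iff_right.2 fun z hz => h1 ?_
    show a • z = a • (0 : E)
    rw [smul_zero, Algebra.smul_def, mul_comm, hz]
  let EK := Localization M'
  have hinjEK : Function.Injective (algebraMap E EK) := IsLocalization.injective EK hM'
  have hunit : ∀ a : nonZeroDivisors A, IsUnit (algebraMap A EK a) := fun a => by
    rw [IsScalarTower.algebraMap_apply A E EK]
    exact IsLocalization.map_units EK (⟨_, Submonoid.mem_map_of_mem _ a.2⟩ : M')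
  let κ : K →ₐ[A] EK := IsLocalization.liftAlgHom (M := nonZeroDivisors A) (f := Algebra.ofId A EK) hunit
  let ψ : K ⊗[A] C →ₐ[A] EK := Algebra.TensorProduct.lift κ (IsScalarTower.toAlgHom A C EK) fun _ _ => Commute.all _ _
  haveI : Algebra.QuasiFinite K (K ⊗[A] C) := inferInstance
  haveI : Module.Finite K (K ⊗[A] C) := Module.Finite.of_quasiFinite
  haveI : IsArtinianRing (K ⊗[A] C) := IsArtinianRing.of_finite K _
  let R₀ := ψ.toRingHom.range
  haveI : IsArtinianRing R₀ := ψ.toRingHom.rangeRestrict_surjective.isArtinianRing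
  have hψC : ∀ c : C, ψ (1 ⊗ₜ c) = algebraMap C EK c := fun c => by simp [ψ]
  have hψK : ∀ x : K, ψ (x ⊗ₜ 1) = κ x := fun x => by simp [ψ]
  have hsurj : Function.Surjective ψ := by
    intro y
    obtain ⟨z, ⟨_, a, ha, rfl⟩, rfl⟩ := IsLocalization.exists_mk'_eq M' y
    obtain ⟨c, s, rfl⟩ := IsLocalization.exists_mk'_eq q.primeCompl z
    have hs : IsUnit (algebraMap C EK s) := by
      rw [IsScalarTower.algebraMap_apply C E EK]
      exact (IsLocalization.map_units E s).map _
    have hnzd : (⟨algebraMap C EK s, _, hψC s⟩ : R₀) ∈ nonZeroDivisors R₀ :=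
      mem_nonZeroDivisors_iff_right.2 fun r hr => Subtype.ext (hs.mul_left_eq_zero.1 (congrArg Subtype.val hr))
    obtain ⟨⟨⟨w, t, ht⟩, hw⟩⟩ :
        Nonempty {r : R₀ // r * ⟨algebraMap C EK s, _, hψC s⟩ = 1} := by
      obtain ⟨r, hr⟩ := (IsArtinianRing.isUnit_of_mem_nonZeroDivisors hnzd).exists_left_inv
      exact ⟨r, hr⟩
    have hw' : w * algebraMap C EK s = 1 := congrArg Subtype.val hw
    refine ⟨(IsLocalization.mk' K 1 (⟨a, ha⟩ : nonZeroDivisors A) ⊗ₜ c) * t, ?_⟩
    rw [map_mul, show ψ t = w from ht, IsLocalization.eq_mk'_iff_mul_eq]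
    have e1 : ψ (IsLocalization.mk' K 1 (⟨a, ha⟩ : nonZeroDivisors A) ⊗ₜ c) * algebraMap A EK a =
        algebraMap C EK c := by
      have e2 : κ (IsLocalization.mk' K 1 (⟨a, ha⟩ : nonZeroDivisors A)) * algebraMap A EK a = 1 := by
        rw [← κ.commutes a, ← map_mul, IsLocalization.mk'_spec, map_one, map_one]
      simp only [ψ, Algebra.TensorProduct.lift_tmul]
      rw [mul_right_comm, e2, one_mul]
      rfl
    apply hs.mul_right_cancel
    rw [mul_right_comm _ w, ← IsScalarTower.algebraMap_apply A E EK, e1, mul_assoc, hw', mul_one,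
      IsScalarTower.algebraMap_apply C E EK (s : C), ← map_mul, IsLocalization.mk'_spec,
      ← IsScalarTower.algebraMap_apply]
  haveI : IsArtinianRing EK := Function.Surjective.isArtinianRing (f := ψ.toRingHom) hsurj
  haveI : IsFractionRing E EK :=
    IsLocalization.of_le_of_exists_dvd M' (nonZeroDivisors E) hM' fun d hd => by
      have h1 : algebraMap E EK d ∈ nonZeroDivisors EK :=
        IsLocalization.map_nonZeroDivisors_le M' EK (Submonoid.mem_map_of_mem _ hd)
      obtain ⟨w, hw⟩ := (IsArtinianRing.isUnit_of_mem_nonZeroDivisors h1).exists_left_inv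
      obtain ⟨z, m, rfl⟩ := IsLocalization.exists_mk'_eq M' w
      refine ⟨m, m.2, z, hinjEK ?_⟩
      rw [map_mul, ← IsLocalization.mk'_spec EK z m, ← mul_assoc, mul_comm _ (IsLocalization.mk' EK z m), hw, one_mul]
  let Φ : EK ≃ₐ[E] FractionRing E := (FractionRing.algEquiv E EK).symm
  refine ⟨IsLocalization.isLocalization_of_algEquiv M' Φ, ?_⟩
  classical
  obtain ⟨g, hg⟩ := (inferInstance : Module.Finite K (K ⊗[A] C)).fg_top
  refine ⟨g.image fun i => Φ (ψ i), fun x => ?_⟩
  obtain ⟨u, hu⟩ := hsurj (Φ.symm x)
  have hu' : u ∈ Submodule.span K (g : Set (K ⊗[A] C)) := hg ▸ Submodule.mem_top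
  obtain ⟨k, hk⟩ := Submodule.mem_span_finset'.1 hu'
  obtain ⟨b, hb⟩ := IsLocalization.exist_integer_multiples (nonZeroDivisors A) Finset.univ k
  refine ⟨b, b.2, ?_⟩
  have hbu : b.1 • u ∈ Submodule.span A (g : Set (K ⊗[A] C)) := by
    rw [← hk, Finset.smul_sum]
    refine sum_mem fun i _ => ?_
    obtain ⟨a', ha'⟩ := hb i (Finset.mem_univ _)
    rw [← smul_assoc, ← ha', algebraMap_smul]
    exact Submodule.smul_mem _ _ (Submodule.subset_span i.2)
  have h2 := Submodule.mem_map_of_mem (f := ((Φ.toAlgHom.restrictScalars A).comp ψ).toLinearMap) hbu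
  rw [Submodule.map_span] at h2
  simp only [map_smul, AlgHom.toLinearMap_apply, AlgHom.comp_apply] at h2
  rw [← Algebra.smul_def]
  simpa [hu] using h2

end Groth.Agent.S16448
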