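import Groth.Statements.S16441
import Groth.Agent.SHensel17.EssEtale
import Groth.Agent.S16448

set_option autoImplicit false
universe u
open EGA4loc

namespace Groth.Agent.S16441

open TensorProduct IsLocalRing

/-- Denominators can be cleared in `Frac A ⊗ X`. -/
theorem exists_smul_eq_tmul {A X : Type u} [CommRing A] [CommRing X] [Algebra A X]
    (t : FractionRing A ⊗[A] X) : ∃ a ∈ nonZeroDivisors A, ∃ w : X, a • t = 1 ⊗ₜ w := by
  induction t using TensorProduct.induction_on with
  | zero => exact ⟨1, one_mem _, 0, by simp⟩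
  | tmul k x =>
    obtain ⟨⟨b, a⟩, h⟩ := IsLocalization.surj (nonZeroDivisors A) k
    refine ⟨a, a.2, b • x, ?_⟩
    rw [smul_tmul', Algebra.smul_def, mul_comm, h, Algebra.algebraMap_eq_smul_one, smul_tmul]
  | add t₁ t₂ h₁ h₂ =>
    obtain ⟨a, ha, w, hw⟩ := h₁
    obtain ⟨b, hb, v, hv⟩ := h₂
    refine ⟨a * b, mul_mem ha hb, b • w + a • v, ?_⟩
    rw [tmul_add, tmul_smul, tmul_smul, ← hw, ← hv, smul_add, smul_smul, smul_smul, mul_comm b a]

/-- An integral regular element over an Artinian ring is a unit. -/
theorem isUnit_of_isIntegral {K T : Type u} [CommRing K] [IsArtinianRing K] [CommRing T] [Algebra K T]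
    {d : T} (hd : IsIntegral K d) (hr : d ∈ nonZeroDivisors T) : IsUnit d := by
  haveI : Module.Finite K (Algebra.adjoin K {d}) := Module.Finite.iff_fg.2 hd.fg_adjoin_singleton
  haveI : IsArtinianRing (Algebra.adjoin K {d}) := IsArtinianRing.of_finite K _
  exact (IsArtinianRing.isUnit_of_mem_nonZeroDivisors (a := (⟨d, Algebra.self_mem_adjoin_singleton K d⟩ : Algebra.adjoin K {d}))
    (mem_nonZeroDivisors_iff_right.2 fun z hz => Subtype.ext
      (mem_nonZeroDivisors_iff_right.1 hr z.1 (congrArg Subtype.val hz)))).map (Algebra.adjoin K {d}).val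

/-- A localization of an étale algebra is finite after passing to an Artinian ring. -/
theorem finite_tensor_localization {A K C X : Type u} [CommRing A] [CommRing K] [Algebra A K]
    [IsArtinianRing K] [CommRing C] [Algebra A C] [Algebra.Etale A C] [CommRing X] [Algebra A X]
    [Algebra C X] [IsScalarTower A C X] (N : Submonoid C) [IsLocalization N X] :
    Module.Finite K (K ⊗[A] X) := by
  let ψ : K ⊗[A] C →ₐ[K] K ⊗[A] X := Algebra.TensorProduct.map (AlgHom.id K K) (IsScalarTower.toAlgHom A C X)
  haveI : Algebra.QuasiFinite K (K ⊗[A] C) := inferInstance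
  haveI : Module.Finite K (K ⊗[A] C) := Module.Finite.of_quasiFinite
  haveI : IsArtinianRing (K ⊗[A] C) := IsArtinianRing.of_finite K _
  haveI : IsArtinianRing ψ.toRingHom.range := ψ.toRingHom.rangeRestrict_surjective.isArtinianRing
  refine Module.Finite.of_surjective ψ.toLinearMap fun y => ?_
  show y ∈ ψ.toRingHom.range
  induction y using TensorProduct.induction_on with
  | zero => exact zero_mem _
  | add y₁ y₂ h₁ h₂ => exact add_mem h₁ h₂
  | tmul k x =>
    obtain ⟨c, s, rfl⟩ := IsLocalization.exists_mk'_eq N x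
    have hs : IsUnit ((1 : K) ⊗ₜ[A] algebraMap C X s) :=
      (IsLocalization.map_units X s).map (Algebra.TensorProduct.includeRight : X →ₐ[A] K ⊗[A] X)
    have hmem : (1 : K) ⊗ₜ[A] algebraMap C X s ∈ ψ.toRingHom.range := ⟨1 ⊗ₜ (s : C), by simp [ψ]⟩
    obtain ⟨r, hr⟩ := (IsArtinianRing.isUnit_of_mem_nonZeroDivisors (a := (⟨_, hmem⟩ : ψ.toRingHom.range))
      (mem_nonZeroDivisors_iff_right.2 fun z hz => Subtype.ext
        (hs.mul_left_eq_zero.1 (congrArg Subtype.val hz)))).exists_left_inv
    have hk : k ⊗ₜ[A] IsLocalization.mk' X c s = k ⊗ₜ[A] algebraMap C X c * r.1 := by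
      apply hs.mul_right_cancel
      rw [mul_assoc, show r.1 * ((1 : K) ⊗ₜ[A] algebraMap C X s) = 1 from congrArg Subtype.val hr,
        mul_one, Algebra.TensorProduct.tmul_mul_tmul, mul_one, IsLocalization.mk'_spec]
    rw [hk]
    exact mul_mem ⟨k ⊗ₜ c, by simp [ψ]⟩ r.2

/-- A strict henselization is a union of faithfully flat local rings of étale algebras. -/
theorem exists_etale_local (A S : Type u) [CommRing A] [IsLocalRing A] [CommRing S] [IsLocalRing S]
    [Algebra A S] [IsLocalHom (algebraMap A S)] [Hensel.IsStrictHenselization A S] (Z : Finset S) :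
    ∃ (C : Type u) (_ : CommRing C) (_ : Algebra A C) (q : Ideal C) (_ : q.IsPrime)
      (θ : Localization.AtPrime q →ₐ[A] S), Algebra.Etale A C ∧ q.comap (algebraMap A C) = maximalIdeal A ∧
      Function.Injective θ ∧ θ.toRingHom.FaithfullyFlat ∧ ∀ z ∈ Z, z ∈ θ.range := by
  obtain ⟨C, _, _, _, τ, hτ⟩ := (HenselLib.exists_colim_of_isStrictHenselization A S).common_rep Z
  obtain ⟨q, _, θ, hq, hinj, hloc, hθ⟩ := SHensel17.exists_localAlgHom A S τ
  refine ⟨C, _, _, q, ‹_›, θ, ‹_›, hq, hinj, ?_, fun z hz => ?_⟩
  · haveI := SHensel17.weaklyEtale_of_isStrictHenselization A S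
    letI : Algebra C S := τ.toRingHom.toAlgebra
    haveI : IsScalarTower A C S := .of_algebraMap_eq fun a => (τ.commutes a).symm
    haveI : Algebra.WeaklyEtale C S := S7127.result A C S
    letI : Algebra (Localization.AtPrime q) S := θ.toRingHom.toAlgebra
    haveI : IsScalarTower C (Localization.AtPrime q) S := .of_algebraMap_eq fun c => (hθ c).symm
    haveI : Algebra.WeaklyEtale C (Localization.AtPrime q) := WEtaleVal.weaklyEtale_of_isLocalization q.primeCompl
    haveI : Algebra.WeaklyEtale (Localization.AtPrime q) S := S7127.result C (Localization.AtPrime q) S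
    haveI : IsLocalHom (algebraMap (Localization.AtPrime q) S) := hloc
    exact RingHom.faithfullyFlat_algebraMap_iff.2 Module.FaithfullyFlat.of_flat_of_isLocalHom
  · obtain ⟨c, rfl⟩ := hτ z hz
    exact ⟨algebraMap C _ c, hθ c⟩


/-- Let A be a reduced local ring with finitely many minimal prime ideals, S a strict henselization of
A, and D an A-subalgebra of S which is a local ring dominated by S (local inclusion). Then the total
ring of fractions K_D of D is finitely generated over that of A — there is a finite subset t of K_D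
such that every element of K_D, multiplied by (the image of) some non-zero-divisor of A, is a
polynomial expression in t with coefficients from A — if and only if D is contained in some
A-subalgebra E of S which is a local ring and an essentially etale local A-algebra (a localization
of an etale A-algebra at a prime over the maximal ideal). -/
theorem result
    (A S : Type u) [CommRing A] [IsLocalRing A] [IsReduced A] (hmin : (minimalPrimes A).Finite)
    [CommRing S] [IsLocalRing S] [Algebra A S] [IsLocalHom (algebraMap A S)]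
    [Hensel.IsStrictHenselization A S] (D : Subalgebra A S) [IsLocalRing D]
    [IsLocalHom (algebraMap D S)] :
    (∃ t : Finset (FractionRing D), ∀ x : FractionRing D, ∃ a ∈ nonZeroDivisors A,
        algebraMap A (FractionRing D) a * x ∈ Algebra.adjoin A (t : Set (FractionRing D))) ↔
      ∃ E : Subalgebra A S, D ≤ E ∧ ∃ _ : IsLocalRing E, EGA4loc.IsEssentiallyEtale A E := by
  classical
  let K := FractionRing A
  haveI : IsArtinianRing K := S16448.isArtinianRing_fractionRing A hmin
  haveI : Module.Flat A K := IsLocalization.flat K (nonZeroDivisors A)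
  haveI := SHensel17.weaklyEtale_of_isStrictHenselization A S
  haveI : Module.Flat A S := inferInstance
  have hregS : ∀ a ∈ nonZeroDivisors A, IsSMulRegular S a := fun a ha =>
    Module.Flat.isSMulRegular_of_nonZeroDivisors ha
  have haD : ∀ a ∈ nonZeroDivisors A, algebraMap A D a ∈ nonZeroDivisors D := fun a ha =>
    mem_nonZeroDivisors_iff_right.2 fun z hz => Subtype.ext (hregS a ha (by
      show a • (z : S) = a • (0 : S)
      rw [smul_zero, Algebra.smul_def, mul_comm]
      exact congrArg Subtype.val hz))
  -- every element is integral over `K`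
  have hint : ∀ x : S, IsIntegral K ((1 : K) ⊗ₜ[A] x) := fun x => by
    obtain ⟨C, _, _, q, _, θ, hC, -, -, -, hZ⟩ := exists_etale_local A S {x}
    obtain ⟨z, rfl⟩ := hZ x (Finset.mem_singleton_self x)
    haveI : Module.Finite K (K ⊗[A] Localization.AtPrime q) := finite_tensor_localization q.primeCompl
    have h := (IsIntegral.of_finite K ((1 : K) ⊗ₜ[A] z)).map (Algebra.TensorProduct.map (AlgHom.id K K) θ)
    simpa using h
  let ι : K ⊗[A] D →ₐ[K] K ⊗[A] S := Algebra.TensorProduct.map (AlgHom.id K K) D.val
  have hι : Function.Injective ι := Module.Flat.lTensor_preserves_injective_linearMap (M := K)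
    D.val.toLinearMap Subtype.val_injective
  have hunit : ∀ d ∈ nonZeroDivisors D, IsUnit ((1 : K) ⊗ₜ[A] d) := fun d hd => by
    refine isUnit_of_isIntegral ((isIntegral_algHom_iff ι hι).1 (by simpa [ι] using hint d)) ?_
    have hinj : Function.Injective ((LinearMap.mulRight A d).lTensor K) :=
      Module.Flat.lTensor_preserves_injective_linearMap _ ((injective_iff_map_eq_zero _).2 fun z hz =>
        mem_nonZeroDivisors_iff_right.1 hd z hz)
    have heq : ∀ y, (LinearMap.mulRight A d).lTensor K y = y * (1 ⊗ₜ d) := fun y => by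
      induction y using TensorProduct.induction_on with
      | zero => simp
      | add y₁ y₂ h₁ h₂ => simp [h₁, h₂, add_mul]
      | tmul k z => simp
    exact mem_nonZeroDivisors_iff_right.2 fun y hy => hinj (by rw [heq, hy, map_zero])
  let F := FractionRing D
  have hinjF : Function.Injective (algebraMap D F) := IsFractionRing.injective D F
  let κ : K →ₐ[A] F := IsLocalization.liftAlgHom (M := nonZeroDivisors A) (f := Algebra.ofId A F) fun a => by
    show IsUnit (algebraMap A F a)
    rw [IsScalarTower.algebraMap_apply A D F]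
    exact IsLocalization.map_units F (⟨_, haD _ a.2⟩ : nonZeroDivisors D)
  let Λ : K ⊗[A] D →ₐ[A] F := Algebra.TensorProduct.lift κ (IsScalarTower.toAlgHom A D F) fun _ _ => Commute.all _ _
  have hΛ : ∀ d : D, Λ (1 ⊗ₜ d) = algebraMap D F d := fun d => by simp [Λ]
  have hden : ∀ x : F, ∃ a ∈ nonZeroDivisors A, ∃ w : D, algebraMap A F a * x = algebraMap D F w := fun x => by
    obtain ⟨d, s, rfl⟩ := IsLocalization.exists_mk'_eq (nonZeroDivisors D) x
    obtain ⟨u, hu⟩ := (hunit s.1 s.2).exists_left_inv
    obtain ⟨a, ha, w, hw⟩ := exists_smul_eq_tmul (u * (1 ⊗ₜ[A] d))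
    refine ⟨a, ha, w, (IsLocalization.map_units F s).mul_right_cancel ?_⟩
    rw [mul_assoc, IsLocalization.mk'_spec, ← hΛ w, ← hw, map_smul, Algebra.smul_def, map_mul, hΛ,
      mul_assoc, mul_comm (Λ u), mul_assoc, ← hΛ s.1, ← map_mul, hu, map_one, mul_one]
  constructor
  · rintro ⟨t, ht⟩
    choose den hden₁ num hnum using hden
    obtain ⟨C, _, _, q, _, θ, hC, hq, hθinj, hθff, hZ⟩ :=
      exists_etale_local A S (t.image fun x => (num x : S))
    let e : Localization.AtPrime q ≃ₐ[A] θ.range := AlgEquiv.ofInjective θ hθinj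
    haveI : IsLocalRing θ.range := e.toRingEquiv.isLocalRing
    refine ⟨θ.range, fun x hx => ?_, inferInstance, C, _, _, q, ‹_›, hC, hq, ⟨e.symm⟩⟩
    let W : Subalgebra A F := (θ.range.comap D.val).map (IsScalarTower.toAlgHom A D F)
    have hgen : ∀ y ∈ Algebra.adjoin A (t : Set F),
        ∃ b ∈ nonZeroDivisors A, algebraMap A F b * y ∈ W := by
      intro y hy
      induction hy using Algebra.adjoin_induction with
      | mem y hy => exact ⟨den y, hden₁ y, num y, hZ _ (Finset.mem_image_of_mem _ hy), (hnum y).symm⟩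
      | algebraMap r => exact ⟨1, one_mem _, by simpa using W.algebraMap_mem r⟩
      | add y z _ _ hy hz =>
        obtain ⟨b, hb, hby⟩ := hy
        obtain ⟨c, hc, hcz⟩ := hz
        refine ⟨b * c, mul_mem hb hc, ?_⟩
        convert add_mem (mul_mem (W.algebraMap_mem c) hby) (mul_mem (W.algebraMap_mem b) hcz) using 1
        rw [map_mul]; ring
      | mul y z _ _ hy hz =>
        obtain ⟨b, hb, hby⟩ := hy
        obtain ⟨c, hc, hcz⟩ := hz
        refine ⟨b * c, mul_mem hb hc, ?_⟩
        convert mul_mem hby hcz using 1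
        rw [map_mul]; ring
    obtain ⟨a, ha, hax⟩ := ht (algebraMap D F ⟨x, hx⟩)
    obtain ⟨b, hb, w, hw, hwe⟩ := hgen _ hax
    obtain ⟨z, hz⟩ := (hw : (w : S) ∈ θ.range)
    have hval : (w : S) = algebraMap A S (b * a) * x := by
      have h1 : w = algebraMap A D (b * a) * ⟨x, hx⟩ := hinjF (by
        rw [map_mul, ← IsScalarTower.algebraMap_apply, map_mul (algebraMap A F), mul_assoc]
        exact hwe)
      exact congrArg Subtype.val h1
    letI : Algebra (Localization.AtPrime q) S := θ.toRingHom.toAlgebra
    haveI : Module.FaithfullyFlat (Localization.AtPrime q) S := RingHom.faithfullyFlat_algebraMap_iff.1 hθff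
    let I : Ideal (Localization.AtPrime q) := Ideal.span {algebraMap A _ (b * a)}
    have hzI : z ∈ I := by
      rw [← Ideal.comap_map_eq_self_of_faithfullyFlat (B := S) I, Ideal.mem_comap, Ideal.map_span,
        Set.image_singleton, Ideal.mem_span_singleton]
      show θ (algebraMap A _ (b * a)) ∣ θ z
      rw [θ.commutes]
      exact ⟨x, hz.trans hval⟩
    obtain ⟨y, rfl⟩ := Ideal.mem_span_singleton.1 hzI
    refine ⟨y, hregS _ (mul_mem hb ha) ?_⟩
    show (b * a) • θ y = (b * a) • x
    rw [Algebra.smul_def, Algebra.smul_def, ← hval]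
    calc algebraMap A S (b * a) * θ y = θ (algebraMap A _ (b * a) * y) := by rw [map_mul θ, θ.commutes]
      _ = (w : S) := hz
  · rintro ⟨E, hDE, _, C, _, _, q, _, hC, -, ⟨e⟩⟩
    haveI : Module.Finite K (K ⊗[A] Localization.AtPrime q) := finite_tensor_localization q.primeCompl
    let j : K ⊗[A] D →ₐ[K] K ⊗[A] Localization.AtPrime q :=
      Algebra.TensorProduct.map (AlgHom.id K K) (e.toAlgHom.comp (Subalgebra.inclusion hDE))
    have hj : Function.Injective j := Module.Flat.lTensor_preserves_injective_linearMap (M := K)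
      (e.toAlgHom.comp (Subalgebra.inclusion hDE)).toLinearMap
      (e.injective.comp (Subalgebra.inclusion_injective hDE))
    haveI : Module.Finite K (K ⊗[A] D) := Module.Finite.of_injective j.toLinearMap hj
    obtain ⟨g, hg⟩ := (inferInstance : Module.Finite K (K ⊗[A] D)).fg_top
    refine ⟨g.image Λ, fun x => ?_⟩
    obtain ⟨a, ha, w, hw⟩ := hden x
    obtain ⟨k, hk⟩ := Submodule.mem_span_finset'.1 (hg ▸ Submodule.mem_top :
      (1 : K) ⊗ₜ[A] w ∈ Submodule.span K (g : Set (K ⊗[A] D)))
    obtain ⟨b, hb⟩ := IsLocalization.exist_integer_multiples (nonZeroDivisors A) Finset.univ k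
    refine ⟨b * a, mul_mem b.2 ha, ?_⟩
    rw [map_mul, mul_assoc, hw, ← hΛ w, ← Algebra.smul_def, ← map_smul, ← hk, Finset.smul_sum, map_sum]
    refine sum_mem fun i _ => ?_
    obtain ⟨c, hc⟩ := hb i (Finset.mem_univ _)
    rw [← smul_assoc, ← hc, algebraMap_smul, map_smul]
    exact Subalgebra.smul_mem _ (Algebra.subset_adjoin (Finset.mem_image_of_mem _ i.2)) _

end Groth.Agent.S16441
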