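import Mathlib
import Groth.Statements.S16452
-- import your own Groth.Agent.* helpers here

set_option autoImplicit false
universe u
open CAlg

namespace Groth.Agent.S16452

/-- Let R → S be formally étale and J an ideal of S such that the composite R → S → S/J is surjective;
let I ⊆ R be its kernel, the preimage of J in R. Then the homomorphism of associated graded rings ⊕ₙ
Iⁿ/Iⁿ⁺¹ → ⊕ₙ Jⁿ/Jⁿ⁺¹ induced by R → S (which carries I into J) is bijective. -/
theorem result (R : Type u) [CommRing R] (S : Type u)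
    [CommRing S] [Algebra R S] [Algebra.FormallyEtale R S] (J : Ideal S)
    (hJ : Function.Surjective (algebraMap R (S ⧸ J))) :
    Function.Bijective (AssocGr.map (AssocGr.IsFiltHom.adic
      (Ideal.map_comap_le : (J.comap (algebraMap R S)).map (algebraMap R S) ≤ J))) := by
  classical
  set φ := algebraMap R S with hφ
  set I := J.comap φ with hI
  have hle : ∀ n : ℕ, I ^ n ≤ (J ^ n).comap φ := fun n =>
    (Ideal.le_comap_pow φ n)
  have key : ∀ n : ℕ, (∀ a : R, φ a ∈ J ^ n → a ∈ I ^ n) ∧ (∀ s : S, ∃ a : R, s - φ a ∈ J ^ n) := by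
    intro n
    rcases Nat.eq_zero_or_pos n with rfl | hn
    · exact ⟨fun a _ => by simp, fun s => ⟨0, by simp⟩⟩
    have h1 : ∀ a ∈ I ^ n, (Algebra.ofId R (S ⧸ J)) a = 0 := fun a ha => by
      have : a ∈ I := Ideal.pow_le_self hn.ne' ha
      exact Ideal.Quotient.eq_zero_iff_mem.mpr this
    let g : (R ⧸ I ^ n) →ₐ[R] S ⧸ J := Ideal.Quotient.liftₐ (I ^ n) (Algebra.ofId R (S ⧸ J)) h1
    have hg : Function.Surjective g := fun x => by
      obtain ⟨a, rfl⟩ := hJ x
      exact ⟨Ideal.Quotient.mk _ a, rfl⟩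
    have hgk : IsNilpotent (RingHom.ker (g : (R ⧸ I ^ n) →+* S ⧸ J)) := by
      refine ⟨n, ?_⟩
      have : RingHom.ker (g : (R ⧸ I ^ n) →+* S ⧸ J) ≤ I.map (Ideal.Quotient.mk (I ^ n)) := by
        intro x hx
        obtain ⟨a, rfl⟩ := Ideal.Quotient.mk_surjective x
        exact Ideal.mem_map_of_mem _ ((Ideal.Quotient.eq_zero_iff_mem (I := J)).mp (show Ideal.Quotient.mk J (φ a) = 0 from hx))
      refine le_bot_iff.mp ((Ideal.pow_right_mono this n).trans ?_)
      rw [← Ideal.map_pow, Ideal.map_quotient_self]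
    let ψ : S →ₐ[R] (R ⧸ I ^ n) :=
      Algebra.FormallySmooth.liftOfSurjective (Ideal.Quotient.mkₐ R J) g hg hgk
    have hψ : g.comp ψ = Ideal.Quotient.mkₐ R J :=
      Algebra.FormallySmooth.comp_liftOfSurjective _ g hg hgk
    have hψJ : J ^ n ≤ RingHom.ker ψ.toRingHom := by
      have h2 : J.map ψ.toRingHom ≤ RingHom.ker (g : (R ⧸ I ^ n) →+* S ⧸ J) := by
        rw [Ideal.map_le_iff_le_comap]
        intro x hx
        change g (ψ x) = 0
        rw [show g (ψ x) = Ideal.Quotient.mk J x from AlgHom.congr_fun hψ x]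
        exact Ideal.Quotient.eq_zero_iff_mem.mpr hx
      have h3 : RingHom.ker (g : (R ⧸ I ^ n) →+* S ⧸ J) ≤ I.map (Ideal.Quotient.mk (I ^ n)) := by
        intro x hx
        obtain ⟨a, rfl⟩ := Ideal.Quotient.mk_surjective x
        exact Ideal.mem_map_of_mem _ ((Ideal.Quotient.eq_zero_iff_mem (I := J)).mp (show Ideal.Quotient.mk J (φ a) = 0 from hx))
      intro x hx
      have h4 : ψ.toRingHom x ∈ (J ^ n).map ψ.toRingHom := Ideal.mem_map_of_mem _ hx
      rw [Ideal.map_pow] at h4
      have h5 := Ideal.pow_right_mono (h2.trans h3) n h4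
      rw [← Ideal.map_pow, Ideal.map_quotient_self] at h5
      exact h5
    refine ⟨fun a ha => ?_, fun s => ?_⟩
    · have : ψ (φ a) = 0 := hψJ ha
      rw [hφ, AlgHom.commutes] at this
      exact Ideal.Quotient.eq_zero_iff_mem.mp this
    · obtain ⟨a, ha⟩ := Ideal.Quotient.mk_surjective (ψ s)
      refine ⟨a, ?_⟩
      have h6 : ∀ b ∈ I ^ n, (Algebra.ofId R (S ⧸ J ^ n)) b = 0 := fun b hb =>
        Ideal.Quotient.eq_zero_iff_mem.mpr (hle n hb)
      let θ : (R ⧸ I ^ n) →ₐ[R] S ⧸ J ^ n := Ideal.Quotient.liftₐ (I ^ n) (Algebra.ofId R (S ⧸ J ^ n)) h6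
      let q : (S ⧸ J ^ n) →ₐ[R] S ⧸ J := Ideal.Quotient.factorₐ R (Ideal.pow_le_self hn.ne')
      have hqk : IsNilpotent (RingHom.ker (q : (S ⧸ J ^ n) →+* S ⧸ J)) := by
        refine ⟨n, ?_⟩
        have : RingHom.ker (q : (S ⧸ J ^ n) →+* S ⧸ J) ≤ J.map (Ideal.Quotient.mk (J ^ n)) := by
          intro x hx
          obtain ⟨b, rfl⟩ := Ideal.Quotient.mk_surjective x
          exact Ideal.mem_map_of_mem _ (Ideal.Quotient.eq_zero_iff_mem.mp (show Ideal.Quotient.mk J b = 0 from hx))
        refine le_bot_iff.mp ((Ideal.pow_right_mono this n).trans ?_)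
        rw [← Ideal.map_pow, Ideal.map_quotient_self]
      have hcomp : q.comp θ = g := Ideal.Quotient.algHom_ext R (AlgHom.ext fun b => rfl)
      have heq : θ.comp ψ = Ideal.Quotient.mkₐ R (J ^ n) :=
        Algebra.FormallyUnramified.lift_unique' q hqk _ _ (by
          rw [← AlgHom.comp_assoc, hcomp, hψ]; rfl)
      have h7 : θ (ψ s) = Ideal.Quotient.mk (J ^ n) s := AlgHom.congr_fun heq s
      rw [← ha] at h7
      exact Ideal.Quotient.eq.mp (show Ideal.Quotient.mk (J ^ n) s = Ideal.Quotient.mk (J ^ n) (φ a) from h7.symm)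
  constructor
  · rw [injective_iff_map_eq_zero]
    intro x hx
    obtain ⟨f, rfl⟩ := AssocGr.mkG_surjective _ x
    rw [AssocGr.map_mkG, AssocGr.mkG_eq_zero_iff, AssocGr.mem_succIdeal_iff] at hx
    rw [AssocGr.mkG_eq_zero_iff, AssocGr.mem_succIdeal_iff]
    intro n
    have h := hx n
    rw [AssocGr.coe_reesMap, Polynomial.coeff_map] at h
    exact (key (n + 1)).1 _ h
  · intro y
    obtain ⟨g, rfl⟩ := AssocGr.mkG_surjective _ y
    choose a ha using fun n => (key (n + 1)).2 ((g : Polynomial S).coeff n)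
    let a' : ℕ → R := fun n => if n ∈ (g : Polynomial S).support then a n else 0
    let fp : Polynomial R := ∑ n ∈ (g : Polynomial S).support, Polynomial.monomial n (a n)
    have hcoeff : ∀ n, fp.coeff n = a' n := fun n => by
      simp [fp, a', Polynomial.coeff_monomial, Finset.sum_ite_eq']
    have hdiff : ∀ n, (g : Polynomial S).coeff n - φ (a' n) ∈ J ^ (n + 1) := fun n => by
      simp only [a']
      split_ifs with h
      · exact ha n
      · rw [Polynomial.notMem_support_iff.mp h, map_zero, sub_zero]; exact Ideal.zero_mem _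
    have hfp : fp ∈ (FiltBl.IdealFiltration.adic I).rees := by
      rw [AssocGr.mem_rees_iff]
      intro n
      rw [hcoeff]
      refine (key n).1 _ ?_
      have h := (J ^ n).sub_mem (g.2 n) (Ideal.pow_le_pow_right (Nat.le_succ n) (hdiff n))
      rwa [sub_sub_cancel] at h
    refine ⟨AssocGr.mkG _ ⟨fp, hfp⟩, ?_⟩
    rw [AssocGr.map_mkG, ← sub_eq_zero, ← map_sub, AssocGr.mkG_eq_zero_iff, AssocGr.mem_succIdeal_iff]
    intro n
    rw [Subalgebra.coe_sub, Polynomial.coeff_sub, AssocGr.coe_reesMap, Polynomial.coeff_map]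
    change φ (fp.coeff n) - (g : Polynomial S).coeff n ∈ J ^ (n + 1)
    rw [hcoeff, ← neg_sub]
    exact neg_mem (hdiff n)

end Groth.Agent.S16452
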