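import Mathlib
import Groth.Statements.S16453
-- import your own Groth.Agent.* helpers here

set_option autoImplicit false
universe u
open AdicGr

namespace Groth.Agent.S16453

/-- Let A be a commutative ring, I an ideal and Â the I-adic completion, filtered by the kernels Âₙ of
the projections Â → A/Iⁿ. Then the homomorphism of associated graded rings ⊕ₙ Iⁿ/Iⁿ⁺¹ → ⊕ₙ Âₙ/Âₙ₊₁
induced by the canonical map A → Â is bijective. No hypothesis on A or I is needed. (The published
statement is for an arbitrary filtered ring and also asserts the analogous isomorphism for a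
compatibly filtered module; this row is the ring assertion for the filtration by the powers of one
ideal.) -/
theorem result (A : Type u) [CommRing A] (I : Ideal A) :
    Function.Bijective (AssocGr.map (AssocGr.isFiltHom_kerFilt I)) := by
  have hval : ∀ (m : ℕ) (a : A), (algebraMap A (AdicCompletion I A) a).val m = 0 ↔ a ∈ I ^ m := by
    intro m a
    rw [AdicCompletion.algebraMap_apply, Algebra.algebraMap_self, RingHom.id_apply, AdicCompletion.of_apply,
      Submodule.mkQ_apply, Submodule.Quotient.mk_eq_zero]
    show a ∈ (I ^ m • ⊤ : Ideal A) ↔ _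
    rw [AssocGr.pow_smul_top]
  constructor
  · rw [injective_iff_map_eq_zero]
    intro x hx
    obtain ⟨f, rfl⟩ := AssocGr.mkG_surjective _ x
    rw [AssocGr.map_mkG, AssocGr.mkG_eq_zero_iff, AssocGr.mem_succIdeal_iff] at hx
    rw [AssocGr.mkG_eq_zero_iff, AssocGr.mem_succIdeal_iff]
    intro n
    have h := hx n
    rw [AssocGr.coe_reesMap, Polynomial.coeff_map, AssocGr.mem_kerFilt_iff_val, hval] at h
    exact h
  · intro y
    obtain ⟨g, rfl⟩ := AssocGr.mkG_surjective _ y
    rw [← AssocGr.sum_term _ g, map_sum]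
    refine Subring.sum_mem (AssocGr.map (AssocGr.isFiltHom_kerFilt I)).range fun n _ => ?_
    rw [AssocGr.mkG_term]
    refine (fun (H : ∀ c (hc : c ∈ (AssocGr.kerFilt I).F n), (AssocGr.inDeg (AssocGr.kerFilt I) n ⟨c, hc⟩ : AssocGr.GrRing _) ∈
      (AssocGr.map (AssocGr.isFiltHom_kerFilt I)).range) => H _ (g.2 n)) fun c hcmem => ?_
    obtain ⟨a, ha⟩ := Submodule.mkQ_surjective _ (c.val (n + 1))
    have h1 := AdicCompletion.transitionMap_comp_eval_apply I A (Nat.le_succ n) c
    have han : a ∈ I ^ n := by
      have hc0 := (AssocGr.mem_kerFilt_iff_val I n c).1 hcmem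
      rw [← ha, hc0] at h1
      change Submodule.Quotient.mk (p := (I ^ n • ⊤ : Ideal A)) a = 0 at h1
      rwa [Submodule.Quotient.mk_eq_zero, AssocGr.pow_smul_top] at h1
    refine ⟨(AssocGr.inDeg (FiltBl.IdealFiltration.adic I) n ⟨a, han⟩ : AssocGr.GrRing _), ?_⟩
    rw [AssocGr.map_inDeg]
    refine congrArg Subtype.val (sub_eq_zero.1 ?_)
    rw [← map_sub, AssocGr.inDeg_eq_zero_iff, AssocGr.mem_kerFilt_iff_val]
    show (algebraMap A (AdicCompletion I A) a).val (n + 1) - c.val (n + 1) = 0
    rw [sub_eq_zero, ← ha, AdicCompletion.algebraMap_apply, Algebra.algebraMap_self, RingHom.id_apply, AdicCompletion.of_apply]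

end Groth.Agent.S16453
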