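import Groth.Statements.S16455
import Mathlib
-- import your own Groth.Agent.* helpers here

set_option autoImplicit false
universe u
open EGA4

namespace Groth.Agent.S16455

section Aux
variable {A : Type u} [CommRing A] (I : Ideal A) (M : Type u) [AddCommGroup M] [Module A M]

private abbrev piece (n : ℕ) : Type u :=
  ↥(I ^ n • (⊤ : Submodule A M)) ⧸ (I • (⊤ : Submodule A ↥(I ^ n • (⊤ : Submodule A M))))

private lemma mem_piece_iff (n : ℕ) (x : ↥(I ^ n • (⊤ : Submodule A M))) :
    x ∈ I • (⊤ : Submodule A ↥(I ^ n • (⊤ : Submodule A M))) ↔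
      (x : M) ∈ (Rees.powFilt I M).N (n + 1) := by
  have hmap : Submodule.map (I ^ n • (⊤ : Submodule A M)).subtype
      (I • (⊤ : Submodule A ↥(I ^ n • (⊤ : Submodule A M)))) = I ^ (n + 1) • (⊤ : Submodule A M) := by
    rw [Submodule.map_smul'', Submodule.map_subtype_top, ← Submodule.mul_smul, pow_succ']
  constructor
  · intro hx
    show (x : M) ∈ I ^ (n + 1) • (⊤ : Submodule A M)
    rw [← hmap]
    exact ⟨x, hx, rfl⟩
  · intro hx
    have : (x : M) ∈ Submodule.map (I ^ n • (⊤ : Submodule A M)).subtype
        (I • (⊤ : Submodule A ↥(I ^ n • (⊤ : Submodule A M)))) := by rw [hmap]; exact hx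
    obtain ⟨y, hy, hyx⟩ := this
    rwa [← Subtype.ext hyx]

private noncomputable def inc (n : ℕ) :
    piece I M n →ₗ[A] AssocGr.GrMod (Rees.powFilt I M) :=
  Submodule.liftQ _
    { toFun := fun x => AssocGr.mkGM _ (AssocGr.monomM (Rees.powFilt I M) n x)
      map_add' := fun x y => by
        rw [← map_add]; congr 1
        refine AssocGr.ReesM.ext _ fun m => ?_
        simp only [AssocGr.ReesM.coeff_add, AssocGr.ReesM.coeff_monomM]
        split_ifs <;> simp
      map_smul' := fun a x => by
        rw [RingHom.id_apply, ← map_smul]; congr 1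
        refine AssocGr.ReesM.ext _ fun m => ?_
        simp only [AssocGr.ReesM.coeff_smul_base, AssocGr.ReesM.coeff_monomM]
        split_ifs <;> simp }
    (fun x hx => by
      rw [LinearMap.mem_ker]
      show AssocGr.mkGM _ _ = 0
      rw [AssocGr.mkGM_eq_zero_iff]
      intro m
      rw [AssocGr.ReesM.coeff_monomM]
      split_ifs with h
      · subst h; exact (mem_piece_iff I M n x).mp hx
      · exact zero_mem _)

private noncomputable def proj (n : ℕ) :
    AssocGr.GrMod (Rees.powFilt I M) →ₗ[A] piece I M n :=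
  let g : AssocGr.ReesM (Rees.powFilt I M) →ₗ[A] piece I M n :=
    { toFun := fun y => Submodule.Quotient.mk
        (⟨AssocGr.ReesM.coeff _ y n, AssocGr.ReesM.coeff_mem _ y n⟩ :
          ↥(I ^ n • (⊤ : Submodule A M)))
      map_add' := fun x y => by
        exact congr_arg Submodule.Quotient.mk (Subtype.ext (AssocGr.ReesM.coeff_add _ x y n))
      map_smul' := fun a x => by
        exact congr_arg Submodule.Quotient.mk (Subtype.ext (AssocGr.ReesM.coeff_smul_base _ a x n)) }
  (Submodule.liftQ ((AssocGr.succMod (Rees.powFilt I M)).restrictScalars A) g (fun y hy => by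
    rw [LinearMap.mem_ker]
    show Submodule.Quotient.mk _ = 0
    rw [Submodule.Quotient.mk_eq_zero, mem_piece_iff]
    exact hy n)) ∘ₗ
    (Submodule.Quotient.restrictScalarsEquiv A (AssocGr.succMod (Rees.powFilt I M))).symm.toLinearMap

private lemma proj_mkGM (n : ℕ) (y : AssocGr.ReesM (Rees.powFilt I M)) :
    proj I M n (AssocGr.mkGM _ y) = Submodule.Quotient.mk
      (⟨AssocGr.ReesM.coeff _ y n, AssocGr.ReesM.coeff_mem _ y n⟩ :
        ↥(I ^ n • (⊤ : Submodule A M))) := rfl

private lemma inc_mk (n : ℕ) (x : ↥(I ^ n • (⊤ : Submodule A M))) :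
    inc I M n (Submodule.Quotient.mk x) = AssocGr.mkGM _ (AssocGr.monomM (Rees.powFilt I M) n x) :=
  rfl

private lemma proj_inc (m n : ℕ) (q : piece I M n) :
    proj I M m (inc I M n q) = if h : n = m then h ▸ q else 0 := by
  obtain ⟨x, rfl⟩ := Submodule.Quotient.mk_surjective _ q
  rw [inc_mk, proj_mkGM]
  split_ifs with h
  · subst h
    refine congr_arg Submodule.Quotient.mk (Subtype.ext ?_)
    show AssocGr.ReesM.coeff _ _ n = (x : M)
    rw [AssocGr.ReesM.coeff_monomM, if_pos rfl]
  · refine (congr_arg Submodule.Quotient.mk (Subtype.ext ?_ :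
      _ = (0 : ↥(I ^ m • (⊤ : Submodule A M))))).trans (Submodule.Quotient.mk_zero _)
    show AssocGr.ReesM.coeff _ _ m = (0 : M)
    rw [AssocGr.ReesM.coeff_monomM, if_neg h]

end Aux

/-- For a commutative ring A, an ideal I of A and an A-module M, the following are equivalent: every
quotient IⁿM/Iⁿ⁺¹M (n ≥ 0) is a flat A/I-module; the associated graded module gr_I(M) = ⊕ₙ
IⁿM/Iⁿ⁺¹M, as one module over A/I, is flat. Either condition says that M is normally flat along I.
(The source defines normal flatness for a coherent module on a locally Noetherian scheme through the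
second condition and notes it amounts to the first; the equivalence holds for every ring and
module.) -/
theorem result (A : Type u) [CommRing A] (I : Ideal A) (M : Type u)
    [AddCommGroup M] [Module A M] :
    EGA4.IsNormallyFlat I M ↔ Module.Flat (A ⧸ I) (AssocGr.GrMod (Rees.powFilt I M)) := by
  classical
  have hs : Function.Surjective (algebraMap A (A ⧸ I)) := Ideal.Quotient.mk_surjective
  let incQ : ∀ n, piece I M n →ₗ[A ⧸ I] AssocGr.GrMod (Rees.powFilt I M) := fun n =>
    LinearMap.extendScalarsOfSurjective hs (inc I M n)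
  let projQ : ∀ n, AssocGr.GrMod (Rees.powFilt I M) →ₗ[A ⧸ I] piece I M n := fun n =>
    LinearMap.extendScalarsOfSurjective hs (proj I M n)
  have hpi : ∀ m n (q : piece I M n), projQ m (incQ n q) = if h : n = m then h ▸ q else 0 := proj_inc I M
  constructor
  · intro h
    haveI : ∀ n, Module.Flat (A ⧸ I) (piece I M n) := h
    let Φ : (DirectSum ℕ fun n => piece I M n) →ₗ[A ⧸ I] AssocGr.GrMod (Rees.powFilt I M) :=
      DirectSum.toModule (A ⧸ I) ℕ _ incQ
    have hΦ : ∀ n z, projQ n (Φ z) = z n := by
      intro n z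
      induction z using DirectSum.induction_on with
      | zero => simp
      | of i q =>
        rw [← DirectSum.lof_eq_of (A ⧸ I), DirectSum.toModule_lof, hpi]
        split_ifs with hin
        · subst hin; rw [DirectSum.lof_apply]
        · rw [DirectSum.lof_eq_of, DirectSum.of_eq_of_ne _ _ _ (Ne.symm hin)]
      | add x y hx hy => simp [hx, hy]
    have hbij : Function.Bijective Φ := by
      refine ⟨fun a b hab => DFinsupp.ext fun n => by rw [← hΦ n a, ← hΦ n b, hab], fun z => ?_⟩
      obtain ⟨y, rfl⟩ := AssocGr.mkGM_surjective _ z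
      refine ⟨∑ n ∈ ((AssocGr.toReesM (Rees.powFilt I M)).symm y : PolynomialModule A M).coeff.support,
        DirectSum.lof (A ⧸ I) ℕ _ n (Submodule.Quotient.mk
          (⟨AssocGr.ReesM.coeff _ y n, AssocGr.ReesM.coeff_mem _ y n⟩ :
            ↥(I ^ n • (⊤ : Submodule A M)))), ?_⟩
      rw [map_sum]
      conv_rhs => rw [← AssocGr.sum_termM (Rees.powFilt I M) y]
      rw [map_sum]
      refine Finset.sum_congr rfl fun n _ => ?_
      exact DirectSum.toModule_lof _ _ _
    exact Module.Flat.of_linearEquiv (LinearEquiv.ofBijective Φ hbij).symm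
  · intro h n
    refine Module.Flat.of_retract (incQ n) (projQ n) ?_
    exact LinearMap.ext fun q => by simpa using hpi n n q

end Groth.Agent.S16455
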