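import Groth.Statements.S16456
import Mathlib
-- import your own Groth.Agent.* helpers here

set_option autoImplicit false
universe u
open AdicGr

namespace Groth.Agent.S16456

/-- Let φ : A → B be a ring homomorphism, I ⊆ A and J ⊆ B ideals with φ(I)B ⊆ J, so that φ is a
homomorphism of filtered rings for the I-adic and J-adic filtrations. Assume that A is I-adically
complete in the sense that every I-adically Cauchy sequence has a limit, that B is J-adically
separated, and that the induced homomorphism of associated graded rings ⊕ₙ Iⁿ/Iⁿ⁺¹ → ⊕ₙ Jⁿ/Jⁿ⁺¹ is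
surjective. Then φ is surjective, φ is strict (Jⁿ = φ(Iⁿ)B for all n, that is J = φ(I)B), and B is
J-adically separated and complete. (The published statement is for a homomorphism of filtered
modules over a filtered ring, with arbitrary compatible filtrations; this row is its case of a ring
homomorphism with adic filtrations.) -/
theorem result (A : Type u) [CommRing A] (B : Type u)
    [CommRing B] (φ : A →+* B) (I : Ideal A) (J : Ideal B) (hIJ : I.map φ ≤ J)
    [IsPrecomplete I A] [IsHausdorff J B]
    (h : Function.Surjective (AssocGr.map (AssocGr.IsFiltHom.adic hIJ))) :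
    Function.Surjective φ ∧ I.map φ = J ∧ IsAdicComplete J B := by
  classical
  have hmapn : ∀ n, ∀ x ∈ I ^ n, φ x ∈ J ^ n := fun n x hx =>
    Ideal.pow_right_mono hIJ n (by rw [← Ideal.map_pow]; exact Ideal.mem_map_of_mem φ hx)
  have hstep : ∀ n, ∀ b ∈ J ^ n, ∃ a ∈ I ^ n, b - φ a ∈ J ^ (n + 1) := by
    intro n b hb
    obtain ⟨y, hy⟩ := h (AssocGr.inDeg (FiltBl.IdealFiltration.adic J) n ⟨b, hb⟩ : AssocGr.GrRing _)
    obtain ⟨f, rfl⟩ := AssocGr.mkG_surjective (FiltBl.IdealFiltration.adic I) y
    rw [AssocGr.map_mkG, AssocGr.coe_inDeg, ← sub_eq_zero, ← map_sub, AssocGr.mkG_eq_zero_iff] at hy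
    refine ⟨(f : Polynomial A).coeff n, f.2 n, ?_⟩
    have h2 := hy n
    simp only [AddSubgroupClass.coe_sub, AssocGr.coe_reesMap, AssocGr.coe_coe_monom, Polynomial.coeff_sub, Polynomial.coeff_map, Polynomial.coeff_monomial_same] at h2
    rw [← neg_sub]
    exact neg_mem h2
  have hmain : ∀ n, ∀ b ∈ J ^ n, ∃ a ∈ I ^ n, φ a = b := by
    intro n b hb
    choose! g hg1 hg2 using hstep
    let s : ℕ → A := fun k => Nat.rec (0 : A) (fun m a => a + g (n + m) (b - φ a)) k
    have hs : ∀ k, s k ∈ I ^ n ∧ b - φ (s k) ∈ J ^ (n + k) := by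
      intro k
      induction k with
      | zero => exact ⟨zero_mem _, by simpa [s] using hb⟩
      | succ k ih =>
        refine ⟨add_mem ih.1 (Ideal.pow_le_pow_right (Nat.le_add_right n k) (hg1 _ _ ih.2)), ?_⟩
        show b - φ (s k + g (n + k) (b - φ (s k))) ∈ _
        rw [map_add, ← sub_sub]
        exact hg2 _ _ ih.2
    have hdiff : ∀ k l, k ≤ l → s k - s l ∈ I ^ k := by
      intro k l hkl
      induction l, hkl using Nat.le_induction with
      | base => simp
      | succ l hl ih =>
        show s k - (s l + g (n + l) (b - φ (s l))) ∈ _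
        rw [← sub_sub]
        exact sub_mem ih (Ideal.pow_le_pow_right (le_add_left hl) (hg1 _ _ (hs l).2))
    obtain ⟨L, hL⟩ := IsPrecomplete.prec (I := I) (M := A) inferInstance (f := s) (fun {k l} hkl => by
      rw [SModEq.sub_mem, smul_eq_mul, Ideal.mul_top]
      exact hdiff k l hkl)
    have hL' : ∀ k, s k - L ∈ I ^ k := fun k => by
      simpa [SModEq.sub_mem] using hL k
    refine ⟨L, ?_, ?_⟩
    · simpa using sub_mem (hs n).1 (hL' n)
    · rw [← sub_eq_zero]
      refine IsHausdorff.haus (I := J) inferInstance _ (fun k => ?_)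
      rw [SModEq.sub_mem, sub_zero, smul_eq_mul, Ideal.mul_top]
      have h1 := add_mem (Ideal.pow_le_pow_right (Nat.le_add_left k n) (hs k).2) (hmapn k _ (hL' k))
      have he : φ L - b = -(b - φ (s k) + φ (s k - L)) := by rw [map_sub]; ring
      rw [he]
      exact neg_mem h1
  have hJn : ∀ n, ∀ b ∈ J ^ n, ∃ a ∈ I ^ n, φ a = b := hmain
  have hsurj : Function.Surjective φ := fun b => by
    obtain ⟨a, -, ha⟩ := hmain 0 b (by simp)
    exact ⟨a, ha⟩
  have hJ : I.map φ = J := le_antisymm hIJ (fun b hb => by
    obtain ⟨a, ha, rfl⟩ := hmain 1 b (by simpa using hb)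
    exact Ideal.mem_map_of_mem φ (by simpa using ha))
  have : IsPrecomplete J B := by
    refine ⟨fun f hf => ?_⟩
    have hf' : ∀ m, f (m + 1) - f m ∈ J ^ m := fun m => by
      have h1 := (SModEq.sub_mem.1 (hf (Nat.le_succ m)).symm)
      simpa using h1
    choose d hd hd' using fun m => hmain m _ (hf' m)
    obtain ⟨a0, ha0⟩ := hsurj (f 0)
    let s : ℕ → A := fun m => a0 + ∑ i ∈ Finset.range m, d i
    have hφs : ∀ m, φ (s m) = f m := by
      intro m
      induction m with
      | zero => simp [s, ha0]
      | succ m ih =>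
        have : s (m + 1) = s m + d m := by simp only [s, Finset.sum_range_succ, add_assoc]
        rw [this, map_add, ih, hd', add_sub_cancel]
    obtain ⟨L, hL⟩ := IsPrecomplete.prec (I := I) (M := A) inferInstance (f := s) (fun {k l} hkl => by
      rw [SModEq.sub_mem, smul_eq_mul, Ideal.mul_top]
      induction l, hkl using Nat.le_induction with
      | base => simp
      | succ l hl ih =>
        have : s (l + 1) = s l + d l := by simp only [s, Finset.sum_range_succ, add_assoc]
        rw [this, ← sub_sub]
        exact sub_mem ih (Ideal.pow_le_pow_right hl (hd l)))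
    refine ⟨φ L, fun m => ?_⟩
    rw [SModEq.sub_mem, smul_eq_mul, Ideal.mul_top, ← hφs, ← map_sub]
    exact hmapn m _ (by simpa [SModEq.sub_mem] using hL m)
  exact ⟨hsurj, hJ, { toIsHausdorff := inferInstance, toIsPrecomplete := inferInstance }⟩

end Groth.Agent.S16456
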