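import Groth.Statements.S16457
import Mathlib
-- import your own Groth.Agent.* helpers here

set_option autoImplicit false
universe u
open AdicGr

namespace Groth.Agent.S16457

/-- Let A be a commutative ring and I an ideal such that every I-adically Cauchy sequence in A has a
limit; let M be an A-module with an I-filtration M = N₀ ⊇ N₁ ⊇ N₂ ⊇ … (I·Nₙ ⊆ Nₙ₊₁) which is
separated, ⋂ₙ Nₙ = 0; and let x₁, …, x_k be finitely many elements of M with x_i ∈ N_{d_i}. If the
classes of the x_i in degrees d_i generate the associated graded module gr(M) = ⊕ₙ Nₙ/Nₙ₊₁ as a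
module over the associated graded ring ⊕ₙ Iⁿ/Iⁿ⁺¹, then the x_i generate M. (The published statement
allows any complete filtered ring and also concludes that M is complete; this row takes the I-adic
filtration on A and states the generation.) -/
theorem result (A : Type u) [CommRing A] (I : Ideal A)
    [IsPrecomplete I A] (M : Type u) [AddCommGroup M] [Module A M] (F : I.Filtration M)
    (h0 : F.N 0 = ⊤) (hsep : ⨅ n, F.N n = ⊥) {k : ℕ} (d : Fin k → ℕ) (x : (i : Fin k) → ↥(F.N (d i)))
    (hgen : Submodule.span (AssocGr.GrRing (FiltBl.IdealFiltration.adic I))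
      (Set.range fun i => (AssocGr.inDegM F (d i) (x i) : AssocGr.GrMod F)) = ⊤) :
    Submodule.span A (Set.range fun i => ((x i : ↥(F.N (d i))) : M)) = ⊤ := by
  classical
  let T := Fin k
  let x' : T → M := fun t => (x t : M)
  have hx : ∀ t, x' t ∈ F.N (d t) := fun t => (x t).2
  let gen : T → AssocGr.GrMod F := fun t => AssocGr.mkGM F (AssocGr.monomM F (d t) ⟨x' t, hx t⟩)
  have hstep : ∀ n, ∀ z ∈ F.N n, ∃ a : T → A, (∀ t, a t ∈ I ^ (n - d t)) ∧ z - ∑ t, a t • x' t ∈ F.N (n + 1) := by
    intro n z hz
    obtain ⟨c, hc⟩ := (Submodule.mem_span_range_iff_exists_fun _).1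
      (show AssocGr.mkGM F (AssocGr.monomM F n ⟨z, hz⟩) ∈ Submodule.span _ (Set.range gen) by rw [show Submodule.span (AssocGr.GrRing (FiltBl.IdealFiltration.adic I)) (Set.range gen) = ⊤ from hgen]; trivial)
    choose f hf using fun t => AssocGr.mkG_surjective (FiltBl.IdealFiltration.adic I) (c t)
    simp only [← hf, gen, AssocGr.mkG_smul_mkGM, ← map_sum] at hc
    rw [eq_comm, ← sub_eq_zero, ← map_sub, AssocGr.mkGM_eq_zero_iff] at hc
    refine ⟨fun t => if d t ≤ n then (f t : Polynomial A).coeff (n - d t) else 0, fun t => ?_, ?_⟩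
    · by_cases h : d t ≤ n
      · dsimp only; rw [if_pos h]; exact (f t).2 (n - d t)
      · dsimp only; rw [if_neg h]; exact zero_mem _
    · have h := hc n
      rw [← AssocGr.ReesM.coeffHom_apply, map_sub, map_sum] at h
      simp only [AssocGr.ReesM.coeffHom_apply, AssocGr.ReesM.coeff_monomM, if_true, AssocGr.ReesM.coeff_smul] at h
      convert h using 2
      refine Finset.sum_congr rfl fun t _ => ?_
      simp only [smul_ite, smul_zero]
      by_cases hdn : d t ≤ n
      · rw [if_pos hdn, Finset.sum_eq_single (n - d t, d t)]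
        · simp
        · intro p hp hne
          rw [Finset.HasAntidiagonal.mem_antidiagonal] at hp
          rw [if_neg]
          intro e
          exact hne (Prod.ext (by omega) e.symm)
        · intro hp
          exact absurd (Finset.HasAntidiagonal.mem_antidiagonal.2 (by omega)) hp
      · rw [if_neg hdn, zero_smul, Finset.sum_eq_zero]
        intro p hp
        rw [Finset.HasAntidiagonal.mem_antidiagonal] at hp
        rw [if_neg (by omega)]
  choose! a ha hr using hstep
  rw [eq_top_iff]
  intro z _
  let r : ℕ → M := fun k => Nat.rec z (fun n q => q - ∑ t, a n q t • x' t) k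
  have hrn : ∀ n, r n ∈ F.N n := by
    intro n
    induction n with
    | zero => rw [h0]; trivial
    | succ n ih => exact hr n _ ih
  have hrsum : ∀ n, r n = z - ∑ t, (∑ i ∈ Finset.range n, a i (r i) t) • x' t := by
    intro n
    induction n with
    | zero => simp [r]
    | succ n ih =>
      show r n - ∑ t, a n (r n) t • x' t = _
      simp only [Finset.sum_range_succ, add_smul, Finset.sum_add_distrib]
      conv_lhs => arg 1; rw [ih]
      abel
  let D := Finset.univ.sup d
  let S : T → ℕ → A := fun t m => ∑ i ∈ Finset.range (m + D), a i (r i) t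
  have hL : ∀ t, ∃ L, ∀ m, S t m - L ∈ I ^ m := by
    intro t
    obtain ⟨L, hL⟩ := IsPrecomplete.prec (I := I) (M := A) inferInstance (f := S t) (fun {k l} hkl => by
      rw [SModEq.sub_mem, smul_eq_mul, Ideal.mul_top]
      induction l, hkl using Nat.le_induction with
      | base => simp
      | succ l hl ih =>
        have hS : S t (l + 1) = S t l + a (l + D) (r (l + D)) t := by
          simp only [S, show l + 1 + D = l + D + 1 by omega, Finset.sum_range_succ]
        rw [hS, ← sub_sub]
        have hdD : d t ≤ D := Finset.le_sup (Finset.mem_univ t)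
        exact sub_mem ih (Ideal.pow_le_pow_right (by omega) (ha _ _ (hrn _) t)))
    exact ⟨L, fun m => by simpa [SModEq.sub_mem] using hL m⟩
  choose L hL using hL
  have hfin : z - ∑ t, L t • x' t ∈ ⨅ n, F.N n := by
    rw [Submodule.mem_iInf]
    intro m
    have he : z - ∑ t, L t • x' t = r (m + D) + ∑ t, (S t m - L t) • x' t := by
      rw [hrsum]
      simp only [S, sub_smul, Finset.sum_sub_distrib]
      abel
    rw [he]
    refine Submodule.add_mem _ (F.antitone (Nat.le_add_right m D) (hrn _)) (Submodule.sum_mem _ fun t _ => ?_)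
    exact F.pow_smul_le m 0 (Submodule.smul_mem_smul (hL t m) (by rw [h0]; trivial))
  rw [hsep, Submodule.mem_bot, sub_eq_zero] at hfin
  rw [hfin]
  exact Submodule.sum_mem _ fun t _ => Submodule.smul_mem _ _ (Submodule.subset_span ⟨t, rfl⟩)

end Groth.Agent.S16457
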