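import Groth.Statements.S16459
import Mathlib
-- import your own Groth.Agent.* helpers here

set_option autoImplicit false
universe u
open AdicGr

namespace Groth.Agent.S16459

/-- Let A be a commutative ring and I an ideal such that every I-adically Cauchy sequence in A has a
limit, and let M be an A-module with an I-filtration M = N₀ ⊇ N₁ ⊇ … (I·Nₙ ⊆ Nₙ₊₁) which is
separated, ⋂ₙ Nₙ = 0. If the associated graded module gr(M) = ⊕ₙ Nₙ/Nₙ₊₁ is a Noetherian module over
the associated graded ring ⊕ₙ Iⁿ/Iⁿ⁺¹, then M is a Noetherian A-module and every submodule M' of M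
is closed for the topology defined by the filtration, that is ⋂ₙ (M' + Nₙ) = M'. (The published
statement allows any complete filtered ring; this row takes the I-adic filtration on A.) -/
theorem result (A : Type u) [CommRing A]
    (I : Ideal A) [IsPrecomplete I A] (M : Type u) [AddCommGroup M] [Module A M] (F : I.Filtration M)
    (h0 : F.N 0 = ⊤) (hsep : ⨅ n, F.N n = ⊥)
    [IsNoetherian (AssocGr.GrRing (FiltBl.IdealFiltration.adic I)) (AssocGr.GrMod F)] :
    IsNoetherian A M ∧ ∀ M' : Submodule A M, ⨅ n, M' ⊔ F.N n = M' := by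
  classical
  suffices main : ∀ M' : Submodule A M, ∃ s : Finset M, (↑s : Set M) ⊆ M' ∧ (⨅ n, M' ⊔ F.N n) ≤ Submodule.span A (↑s : Set M) by
    refine ⟨⟨fun M' => ?_⟩, fun M' => le_antisymm ?_ (le_iInf fun n => le_sup_left)⟩
    · obtain ⟨s, hs, hle⟩ := main M'
      exact ⟨s, le_antisymm (Submodule.span_le.2 hs) ((le_iInf fun n => le_sup_left).trans hle)⟩
    · obtain ⟨s, hs, hle⟩ := main M'
      exact hle.trans (Submodule.span_le.2 hs)
  intro M'
  set C : Submodule A M := ⨅ n, M' ⊔ F.N n with hCdef
  have hMC : M' ≤ C := le_iInf fun n => le_sup_left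
  let W : Set (AssocGr.GrMod F) := {g | ∃ (n : ℕ) (x : F.N n), (x : M) ∈ M' ∧ AssocGr.mkGM F (AssocGr.monomM F n x) = g}
  obtain ⟨s, hsW, hs⟩ := Submodule.fg_span_iff_fg_span_finset_subset W |>.1
    (IsNoetherian.noetherian (Submodule.span (AssocGr.GrRing (FiltBl.IdealFiltration.adic I)) W))
  have hmem : ∀ g : s, ∃ (n : ℕ) (x : F.N n), (x : M) ∈ M' ∧ AssocGr.mkGM F (AssocGr.monomM F n x) = (g : AssocGr.GrMod F) := fun g => hsW g.2
  choose d x0 hx0M hx0 using hmem
  let T := s
  let x : T → M := fun t => x0 t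
  have hxM : ∀ t, x t ∈ M' := hx0M
  have hx : ∀ t, x t ∈ F.N (d t) := fun t => (x0 t).2
  let gen : T → AssocGr.GrMod F := fun t => AssocGr.mkGM F (AssocGr.monomM F (d t) ⟨x t, hx t⟩)
  have hgen : Submodule.span (AssocGr.GrRing (FiltBl.IdealFiltration.adic I)) W ≤ Submodule.span _ (Set.range gen) := by
    rw [hs, Submodule.span_le]
    intro g hg
    exact Submodule.subset_span ⟨⟨g, hg⟩, hx0 ⟨g, hg⟩⟩
  have hstep : ∀ n, ∀ z ∈ C ⊓ F.N n, ∃ a : T → A, (∀ t, a t ∈ I ^ (n - d t)) ∧ z - ∑ t, a t • x t ∈ C ⊓ F.N (n + 1) := by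
    rintro n z₀ ⟨hzC, hz0⟩
    obtain ⟨z, hzM, q, hq, rfl⟩ := Submodule.mem_sup.1 ((Submodule.mem_iInf _).1 hzC (n + 1))
    have hz : z ∈ F.N n := by simpa using sub_mem hz0 (F.antitone (Nat.le_succ n) hq)
    obtain ⟨c, hc⟩ := (Submodule.mem_span_range_iff_exists_fun _).1
      (hgen (Submodule.subset_span ⟨n, ⟨z, hz⟩, hzM, rfl⟩))
    choose f hf using fun t => AssocGr.mkG_surjective (FiltBl.IdealFiltration.adic I) (c t)
    simp only [← hf, gen, AssocGr.mkG_smul_mkGM, ← map_sum] at hc
    rw [eq_comm, ← sub_eq_zero, ← map_sub, AssocGr.mkGM_eq_zero_iff] at hc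
    refine ⟨fun t => if d t ≤ n then (f t : Polynomial A).coeff (n - d t) else 0, fun t => ?_, ?_⟩
    · by_cases h : d t ≤ n
      · dsimp only; rw [if_pos h]; exact (f t).2 (n - d t)
      · dsimp only; rw [if_neg h]; exact zero_mem _
    · refine ⟨sub_mem hzC (hMC (Submodule.sum_mem _ fun t _ => Submodule.smul_mem _ _ (hxM t))), ?_⟩
      rw [add_sub_right_comm]
      refine Submodule.add_mem _ ?_ hq
      have h := hc n
      rw [← AssocGr.ReesM.coeffHom_apply, map_sub, map_sum] at h
      simp only [AssocGr.ReesM.coeffHom_apply, AssocGr.ReesM.coeff_monomM, if_true, AssocGr.ReesM.coeff_smul] at h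
      convert h using 2
      refine Finset.sum_congr rfl fun t _ => ?_
      simp only [smul_ite, smul_zero]
      by_cases hdn : d t ≤ n
      · rw [if_pos hdn, Finset.sum_eq_single (n - d t, d t)]
        · simp
        · intro p hp hne
          rw [Finset.HasAntidiagonal.mem_antidiagonal] at hp
          rw [if_neg]
          intro e
          exact hne (Prod.ext (by omega) e.symm)
        · intro hp
          exact absurd (Finset.HasAntidiagonal.mem_antidiagonal.2 (by omega)) hp
      · rw [if_neg hdn, zero_smul, Finset.sum_eq_zero]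
        intro p hp
        rw [Finset.HasAntidiagonal.mem_antidiagonal] at hp
        rw [if_neg (by omega)]
  choose! a ha hr using hstep
  refine ⟨Finset.univ.image x, ?_, ?_⟩
  · intro y hy
    obtain ⟨t, -, rfl⟩ := Finset.mem_image.1 (Finset.mem_coe.1 hy)
    exact hxM t
  rw [Finset.coe_image, Finset.coe_univ, Set.image_univ]
  intro z hzC
  let r : ℕ → M := fun k => Nat.rec z (fun n q => q - ∑ t, a n q t • x t) k
  have hrC : ∀ n, r n ∈ C ⊓ F.N n := by
    intro n
    induction n with
    | zero => exact ⟨hzC, by rw [h0]; trivial⟩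
    | succ n ih => exact hr n _ ih
  have hrn : ∀ n, r n ∈ F.N n := fun n => (hrC n).2
  have hrsum : ∀ n, r n = z - ∑ t, (∑ i ∈ Finset.range n, a i (r i) t) • x t := by
    intro n
    induction n with
    | zero => simp [r]
    | succ n ih =>
      show r n - ∑ t, a n (r n) t • x t = _
      simp only [Finset.sum_range_succ, add_smul, Finset.sum_add_distrib]
      conv_lhs => arg 1; rw [ih]
      abel
  let D := Finset.univ.sup d
  let S : T → ℕ → A := fun t m => ∑ i ∈ Finset.range (m + D), a i (r i) t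
  have hL : ∀ t, ∃ L, ∀ m, S t m - L ∈ I ^ m := by
    intro t
    obtain ⟨L, hL⟩ := IsPrecomplete.prec (I := I) (M := A) inferInstance (f := S t) (fun {k l} hkl => by
      rw [SModEq.sub_mem, smul_eq_mul, Ideal.mul_top]
      induction l, hkl using Nat.le_induction with
      | base => simp
      | succ l hl ih =>
        have hS : S t (l + 1) = S t l + a (l + D) (r (l + D)) t := by
          simp only [S, show l + 1 + D = l + D + 1 by omega, Finset.sum_range_succ]
        rw [hS, ← sub_sub]
        have hdD : d t ≤ D := Finset.le_sup (Finset.mem_univ t)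
        exact sub_mem ih (Ideal.pow_le_pow_right (by omega) (ha _ _ (hrC _) t)))
    exact ⟨L, fun m => by simpa [SModEq.sub_mem] using hL m⟩
  choose L hL using hL
  have hfin : z - ∑ t, L t • x t ∈ ⨅ n, F.N n := by
    rw [Submodule.mem_iInf]
    intro m
    have he : z - ∑ t, L t • x t = r (m + D) + ∑ t, (S t m - L t) • x t := by
      rw [hrsum]
      simp only [S, sub_smul, Finset.sum_sub_distrib]
      abel
    rw [he]
    refine Submodule.add_mem _ (F.antitone (Nat.le_add_right m D) (hrn _)) (Submodule.sum_mem _ fun t _ => ?_)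
    exact F.pow_smul_le m 0 (Submodule.smul_mem_smul (hL t m) (by rw [h0]; trivial))
  rw [hsep, Submodule.mem_bot, sub_eq_zero] at hfin
  rw [hfin]
  exact Submodule.sum_mem _ fun t _ => Submodule.smul_mem _ _ (Submodule.subset_span ⟨t, rfl⟩)

end Groth.Agent.S16459
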