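import Mathlib
import Groth.Statements.S16460
-- import your own Groth.Agent.* helpers here

set_option autoImplicit false
universe u
open AdicGr

namespace Groth.Agent.S16460

/-- Let A be a commutative ring with a decreasing filtration by ideals A = F₀ ⊇ F₁ ⊇ F₂ ⊇ … satisfying
F_m·F_n ⊆ F_{m+n}, and assume the filtration is separated, ⋂ₙ Fₙ = 0. If the associated graded ring
⊕ₙ Fₙ/Fₙ₊₁ is an integral domain, then A is an integral domain. -/
theorem result (A : Type u) [CommRing A]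
    (𝓕 : FiltBl.IdealFiltration A) (hsep : ⨅ n, 𝓕.F n = ⊥) [IsDomain (AssocGr.GrRing 𝓕)] :
    IsDomain A := by
  have key : ∀ a : A, a ≠ 0 → ∃ m, a ∈ 𝓕.F m ∧ a ∉ 𝓕.F (m + 1) := by
    intro a ha
    by_contra! hc
    refine ha ?_
    have hall : ∀ k, a ∈ 𝓕.F k := by
      intro k
      induction k with
      | zero => rw [𝓕.zero_eq]; trivial
      | succ k ih => exact hc k ih
    have h2 : a ∈ ⨅ k, 𝓕.F k := Submodule.mem_iInf _ |>.2 hall
    rwa [hsep, Submodule.mem_bot] at h2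
  haveI : Nontrivial A := by
    refine not_subsingleton_iff_nontrivial.1 fun hA => ?_
    have h10 : (1 : A) = 0 := Subsingleton.elim _ _
    refine one_ne_zero (α := AssocGr.GrRing 𝓕) ?_
    rw [← map_one (algebraMap A (AssocGr.GrRing 𝓕)), h10, map_zero]
  haveI : NoZeroDivisors A := ⟨fun {a b} hab => by
    by_contra! hc
    obtain ⟨i, hi, hi'⟩ := key a hc.1
    obtain ⟨j, hj, hj'⟩ := key b hc.2
    have h := AssocGr.coe_inDeg_mul 𝓕 i j ⟨a, hi⟩ ⟨b, hj⟩
    have h0 : AssocGr.inDeg 𝓕 (i + j) ⟨a * b, 𝓕.mul_le i j (Ideal.mul_mem_mul hi hj)⟩ = 0 :=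
      (AssocGr.inDeg_eq_zero_iff 𝓕 _ _).2 (by show a * b ∈ _; rw [hab]; exact zero_mem _)
    rw [h0, Submodule.coe_zero] at h
    rcases mul_eq_zero.1 h with h1 | h1
    · exact hi' ((AssocGr.inDeg_eq_zero_iff 𝓕 i ⟨a, hi⟩).1 (Subtype.ext h1))
    · exact hj' ((AssocGr.inDeg_eq_zero_iff 𝓕 j ⟨b, hj⟩).1 (Subtype.ext h1))⟩
  exact NoZeroDivisors.to_isDomain A

end Groth.Agent.S16460
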