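import Groth.Statements.S16469
import Groth.Agent.CurveVB.MaxSlope
import Groth.Agent.CurveVB.Preimage
-- import your own Groth.Agent.* helpers here

set_option autoImplicit false
set_option backward.isDefEq.respectTransparency false
universe u
open CategoryTheory CategoryTheory.Limits AlgebraicGeometry
open VBCurve

namespace Groth.Agent.S16469
open Groth.Agent

/-- Let X be a smooth proper integral curve (integral, smooth and proper of dimension one) over an
algebraically closed field k, and let E, F be finite locally free O_X-modules of ranks r ≥ 1, s ≥ 1,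
both slope-semistable (deg G · rank ≤ deg · rank G on finite locally free submodules G of positive
rank; degree = χ − rank·χ(O_X)) and of the same slope μ: deg E · s = deg F · r. Then for every
homomorphism f : E → F the kernel and the cokernel of f, taken in the abelian category of
O_X-modules, are finite locally free of some ranks r₀ and s₀, have slope μ when nonzero (deg(ker f)
· r = deg E · r₀ and deg(coker f) · s = deg F · s₀) and are slope-semistable: deg G · r₀ ≤ deg(ker
f) · n for every finite locally free submodule G ⊂ ker f of rank n ≥ 1, and likewise for coker f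
with s₀. In other words the semistable bundles of slope μ form an abelian subcategory, and the image
of f is a sub-bundle of F. -/
theorem result (k : Type u) [Field k] [IsAlgClosed k] (X : Scheme.{u}) [X.Over (Spec (CommRingCat.of k))]
    [IsIntegral X] [IsProper (X ↘ Spec (CommRingCat.of k))] [Smooth (X ↘ Spec (CommRingCat.of k))]
    (hdim : topologicalKrullDim X = 1)
    (r s : ℕ) (hr : 0 < r) (hs : 0 < s) (E F : X.Modules)
    (hE : FlatMod.IsFinLocFreeOfRank r E) (hF : FlatMod.IsFinLocFreeOfRank s F)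
    (hEss : ModFun.IsSlopeSemistable k X E r) (hFss : ModFun.IsSlopeSemistable k X F s)
    (hμ : Curv2.deg k X E r * (s : ℤ) = Curv2.deg k X F s * (r : ℤ)) (f : E ⟶ F) :
    (∃ r₀ : ℕ, FlatMod.IsFinLocFreeOfRank r₀ (kernel f) ∧
        Curv2.deg k X (kernel f) r₀ * (r : ℤ) = Curv2.deg k X E r * (r₀ : ℤ) ∧
        ∀ (G : X.Modules) (n : ℕ) (j : G ⟶ kernel f), Mono j → 0 < n → FlatMod.IsFinLocFreeOfRank n G →
          Curv2.deg k X G n * (r₀ : ℤ) ≤ Curv2.deg k X (kernel f) r₀ * (n : ℤ)) ∧
      (∃ s₀ : ℕ, FlatMod.IsFinLocFreeOfRank s₀ (cokernel f) ∧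
        Curv2.deg k X (cokernel f) s₀ * (s : ℤ) = Curv2.deg k X F s * (s₀ : ℤ) ∧
        ∀ (G : X.Modules) (n : ℕ) (j : G ⟶ cokernel f), Mono j → 0 < n → FlatMod.IsFinLocFreeOfRank n G →
          Curv2.deg k X G n * (s₀ : ℤ) ≤ Curv2.deg k X (cokernel f) s₀ * (n : ℤ)) := by
  haveI : IsLocallyNoetherian X := LocallyOfFiniteType.isLocallyNoetherian (X ↘ Spec (CommRingCat.of k))
  have hcE := DCohPerf.isCoh_finLocFree (CurveVB.finLocFree_of_rank hE)
  have hcF := DCohPerf.isCoh_finLocFree (CurveVB.finLocFree_of_rank hF)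
  have hcI : Coh.IsCoh (cokernel (kernel.ι f)) :=
    QCohLib.isCoh_cokernel _ (QCohLib.isCoh_kernel f hcE hcF.1).1 hcE
  let j : cokernel (kernel.ι f) ⟶ F := cokernel.desc (kernel.ι f) f (kernel.condition f)
  haveI hj : Mono j := inferInstanceAs (Mono (Abelian.factorThruCoimage f))
  have hjf : cokernel.π (kernel.ι f) ≫ j = f := cokernel.π_desc _ _ _
  obtain ⟨q, -, hq⟩ := CurveVB.exists_rank_sub k hdim (QCohLib.isCoh_kernel f hcE hcF.1) hE (kernel.ι f)
  obtain ⟨t, -, ht⟩ := CurveVB.exists_rank_sub k hdim hcI hF j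
  have hS : (ShortComplex.mk (kernel.ι f) (cokernel.π _) (cokernel.condition _)).ShortExact :=
    { exact := ShortComplex.exact_of_g_is_cokernel _ (cokernelIsCokernel _) }
  have hrqt : r = q + t := CurveVB.rank_add _ hS hq hE ht
  have hdeg : Curv2.deg k X E r = Curv2.deg k X (kernel f) q + Curv2.deg k X (cokernel (kernel.ι f)) t :=
    S7643.result k X hdim.le _ hS q r t hq hE ht
  have hsub : ∀ {E' : X.Modules} {r' : ℕ}, ModFun.IsSlopeSemistable k X E' r' → ∀ {A : X.Modules} {a : ℕ} (l : A ⟶ E'),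
      Mono l → FlatMod.IsFinLocFreeOfRank a A → Curv2.deg k X A a * (r' : ℤ) ≤ Curv2.deg k X E' r' * (a : ℤ) :=
    fun {E' r'} hss {A a} l hl hA => by
      rcases Nat.eq_zero_or_pos a with h0 | h0
      · subst h0
        rw [CurveVB.deg_zero k hdim hA]
        simp
      · exact hss A a l hl h0 hA
  have b1 := hsub hEss (kernel.ι f) inferInstance hq
  have b2 := hsub hFss j inferInstance ht
  have hr' : (0 : ℤ) < r := by exact_mod_cast hr
  have hs' : (0 : ℤ) < s := by exact_mod_cast hs
  have b3 : Curv2.deg k X (cokernel (kernel.ι f)) t * (r : ℤ) ≤ Curv2.deg k X E r * (t : ℤ) := by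
    refine le_of_mul_le_mul_right ?_ hs'
    nlinarith [mul_le_mul_of_nonneg_right b2 hr'.le]
  have hsum : Curv2.deg k X (kernel f) q * (r : ℤ) + Curv2.deg k X (cokernel (kernel.ι f)) t * (r : ℤ) =
      Curv2.deg k X E r * (q : ℤ) + Curv2.deg k X E r * (t : ℤ) := by
    rw [← add_mul, ← hdeg, ← mul_add, hrqt]
    push_cast
    ring
  have hKeq : Curv2.deg k X (kernel f) q * (r : ℤ) = Curv2.deg k X E r * (q : ℤ) := by linarith
  have hIeq : Curv2.deg k X (cokernel (kernel.ι f)) t * (s : ℤ) = Curv2.deg k X F s * (t : ℤ) := by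
    refine mul_right_cancel₀ hr'.ne' ?_
    have hI : Curv2.deg k X (cokernel (kernel.ι f)) t * (r : ℤ) = Curv2.deg k X E r * (t : ℤ) := by linarith
    linear_combination (s : ℤ) * hI + (t : ℤ) * hμ
  refine ⟨⟨q, hq, hKeq, fun G n l hl hn hG => ?_⟩, ?_⟩
  · have b := hEss G n (l ≫ kernel.ι f) inferInstance hn hG
    refine le_of_mul_le_mul_right ?_ hr'
    nlinarith [mul_le_mul_of_nonneg_right b (Int.natCast_nonneg q)]
  have hmax : ∀ (G : X.Modules) (l : G ⟶ F), Mono l → FlatMod.IsFinLocFreeOfRank t G →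
      Curv2.deg k X G t ≤ Curv2.deg k X (cokernel (kernel.ι f)) t := fun G l hl hG =>
    le_of_mul_le_mul_right (hIeq.symm ▸ hsub hFss l hl hG) hs'
  obtain ⟨s₀, hst, hC, -⟩ := CurveVB.exists_rank_cokernel k hdim ht hF j hmax
  have hz : j ≫ cokernel.π f = 0 := by
    rw [← cancel_epi (cokernel.π (kernel.ι f)), ← Category.assoc, hjf, cokernel.condition, comp_zero]
  let T : ShortComplex X.Modules := ShortComplex.mk j (cokernel.π f) hz
  have hT : T.ShortExact :=
    { exact := ShortComplex.exact_of_g_is_cokernel _ (CokernelCofork.IsColimit.ofπ' (cokernel.π f) hz fun {W} a ha =>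
        ⟨cokernel.desc f a (by rw [← hjf, Category.assoc, ha, comp_zero]), cokernel.π_desc _ _ _⟩) }
  let e : cokernel f ≅ cokernel j := ((cokernelIsCokernel j).coconePointUniqueUpToIso hT.gIsCokernel).symm
  have hCf : FlatMod.IsFinLocFreeOfRank s₀ (cokernel f) := fun x => by
    obtain ⟨U, hx, ⟨a⟩⟩ := hC x
    exact ⟨U, hx, ⟨(Scheme.Modules.restrictFunctor U.ι).mapIso e ≪≫ a⟩⟩
  have hd : Curv2.deg k X F s = Curv2.deg k X (cokernel (kernel.ι f)) t + Curv2.deg k X (cokernel f) s₀ :=
    S7643.result k X hdim.le T hT t s s₀ ht hF hCf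
  have hCeq : Curv2.deg k X (cokernel f) s₀ * (s : ℤ) = Curv2.deg k X F s * (s₀ : ℤ) := by
    have hst' : (s : ℤ) = t + s₀ := by exact_mod_cast hst
    linear_combination (-(s : ℤ)) * hd - hIeq + Curv2.deg k X F s * hst'
  refine ⟨s₀, hCf, hCeq, fun G n l hl hn hG => ?_⟩
  obtain ⟨P, l', hl', hP, hdP⟩ := CurveVB.exists_preimage k hdim (T := T) hT ht hF
    (DCohPerf.isCoh_finLocFree (CurveVB.finLocFree_of_rank hCf)) hG l
  have b := hFss P (t + n) l' hl' (by omega) hP
  rw [hdP] at b
  dsimp only [T] at b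
  push_cast at b
  have b' : Curv2.deg k X G n * (s : ℤ) ≤ Curv2.deg k X F s * (n : ℤ) := by linarith
  refine le_of_mul_le_mul_right ?_ hs'
  nlinarith [mul_le_mul_of_nonneg_right b' (Int.natCast_nonneg s₀)]

end Groth.Agent.S16469
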