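import Groth.Statements.S16470
import Groth.Agent.CurveVB.MaxSlope
-- import your own Groth.Agent.* helpers here

set_option autoImplicit false
set_option backward.isDefEq.respectTransparency false
universe u
open CategoryTheory CategoryTheory.Limits AlgebraicGeometry
open VBCurve

namespace Groth.Agent.S16470
open Groth.Agent

/-- Let X be a smooth proper integral curve (integral, smooth and proper of dimension one) over an
algebraically closed field k and E a finite locally free O_X-module of rank r ≥ 1 (degree = χ −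
rank·χ(O_X), slope = degree / rank). There is a finite locally free submodule E₁ ⊂ E (a monomorphism
of O_X-modules) of some rank r₁ ≥ 1, the destabilising sub-bundle, such that: every finite locally
free submodule F ⊂ E of rank r' ≥ 1 has slope at most that of E₁ (deg F · r₁ ≤ deg E₁ · r'); and the
maximal slope drops in the quotient, i.e. every finite locally free submodule G of rank r' ≥ 1 of
the cokernel E/E₁ has deg G · r₁ < deg E₁ · r'. Moreover a submodule with these two properties is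
unique: any two are the same subobject of E. (Such an E₁ is slope-semistable, every submodule of E₁
being a submodule of E; the published statement lists semistability of E₁ as a third property, which
is therefore omitted here.) -/
theorem result (k : Type u) [Field k] [IsAlgClosed k] (X : Scheme.{u}) [X.Over (Spec (CommRingCat.of k))]
    [IsIntegral X] [IsProper (X ↘ Spec (CommRingCat.of k))] [Smooth (X ↘ Spec (CommRingCat.of k))]
    (hdim : topologicalKrullDim X = 1)
    (r : ℕ) (hr : 0 < r) (E : X.Modules) (hE : FlatMod.IsFinLocFreeOfRank r E) :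
    (∃ (E₁ : X.Modules) (r₁ : ℕ) (i₁ : E₁ ⟶ E), Mono i₁ ∧ 0 < r₁ ∧ FlatMod.IsFinLocFreeOfRank r₁ E₁ ∧
      (∀ (F : X.Modules) (r' : ℕ) (j : F ⟶ E), Mono j → 0 < r' → FlatMod.IsFinLocFreeOfRank r' F →
        Curv2.deg k X F r' * (r₁ : ℤ) ≤ Curv2.deg k X E₁ r₁ * (r' : ℤ)) ∧
      (∀ (Q : X.Modules) (s : ℕ) (j : Q ⟶ cokernel i₁), Mono j → 0 < s → FlatMod.IsFinLocFreeOfRank s Q →
        Curv2.deg k X Q s * (r₁ : ℤ) < Curv2.deg k X E₁ r₁ * (s : ℤ))) ∧
    (∀ (E₁ E₁' : X.Modules) (r₁ r₁' : ℕ) (i₁ : E₁ ⟶ E) (i₁' : E₁' ⟶ E),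
      Mono i₁ → 0 < r₁ → FlatMod.IsFinLocFreeOfRank r₁ E₁ →
      (∀ (F : X.Modules) (r' : ℕ) (j : F ⟶ E), Mono j → 0 < r' → FlatMod.IsFinLocFreeOfRank r' F →
        Curv2.deg k X F r' * (r₁ : ℤ) ≤ Curv2.deg k X E₁ r₁ * (r' : ℤ)) →
      (∀ (Q : X.Modules) (s : ℕ) (j : Q ⟶ cokernel i₁), Mono j → 0 < s → FlatMod.IsFinLocFreeOfRank s Q →
        Curv2.deg k X Q s * (r₁ : ℤ) < Curv2.deg k X E₁ r₁ * (s : ℤ)) →
      Mono i₁' → 0 < r₁' → FlatMod.IsFinLocFreeOfRank r₁' E₁' →
      (∀ (F : X.Modules) (r' : ℕ) (j : F ⟶ E), Mono j → 0 < r' → FlatMod.IsFinLocFreeOfRank r' F →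
        Curv2.deg k X F r' * (r₁' : ℤ) ≤ Curv2.deg k X E₁' r₁' * (r' : ℤ)) →
      (∀ (Q : X.Modules) (s : ℕ) (j : Q ⟶ cokernel i₁'), Mono j → 0 < s → FlatMod.IsFinLocFreeOfRank s Q →
        Curv2.deg k X Q s * (r₁' : ℤ) < Curv2.deg k X E₁' r₁' * (s : ℤ)) →
      ∃ e : E₁ ≅ E₁', e.hom ≫ i₁' = i₁) := by
  haveI : IsLocallyNoetherian X := LocallyOfFiniteType.isLocallyNoetherian (X ↘ Spec (CommRingCat.of k))
  refine ⟨?_, ?_⟩
  · obtain ⟨E₁, r₁, i₁, hi₁, hr₁, hE₁, hmax, hrk, -⟩ := CurveVB.exists_maxSlope k hdim hr hE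
    refine ⟨E₁, r₁, i₁, hi₁, hr₁, hE₁, hmax, fun Q s j hj hs hQ => ?_⟩
    have hcE := DCohPerf.isCoh_finLocFree (CurveVB.finLocFree_of_rank hE)
    have hcQ := DCohPerf.isCoh_finLocFree (CurveVB.finLocFree_of_rank hQ)
    have hcC := QCohLib.isCoh_cokernel i₁ (DCohPerf.isCoh_finLocFree (CurveVB.finLocFree_of_rank hE₁)).1 hcE
    let T : ShortComplex X.Modules := ShortComplex.mk i₁ (cokernel.π i₁) (cokernel.condition i₁)
    have hT : T.ShortExact := { exact := ShortComplex.exact_of_g_is_cokernel _ (cokernelIsCokernel _) }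
    have hcK : Coh.IsCoh (kernel (cokernel.π i₁ ≫ cokernel.π j)) :=
      QCohLib.isCoh_kernel _ hcE (QCohLib.isCoh_cokernel j hcQ.1 hcC).1
    obtain ⟨m, -, hm⟩ := CurveVB.exists_rank_sub k hdim hcK hE (kernel.ι (cokernel.π i₁ ≫ cokernel.π j))
    let w : kernel (cokernel.π i₁ ≫ cokernel.π j) ⟶ Q :=
      Abelian.monoLift j (kernel.ι (cokernel.π i₁ ≫ cokernel.π j) ≫ cokernel.π i₁)
        (by rw [Category.assoc]; exact kernel.condition _)
    have hw : w ≫ j = kernel.ι (cokernel.π i₁ ≫ cokernel.π j) ≫ cokernel.π i₁ := Abelian.monoLift_comp _ _ _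
    have hP : IsPullback w (kernel.ι (cokernel.π i₁ ≫ cokernel.π j)) j (cokernel.π i₁) := by
      refine IsPullback.of_isLimit' ⟨hw⟩ (PullbackCone.IsLimit.mk _
        (fun c => kernel.lift _ c.snd (by rw [← Category.assoc, ← c.condition, Category.assoc, cokernel.condition, comp_zero]))
        (fun c => ?_) (fun c => kernel.lift_ι _ _ _)
        (fun c e _ he => by rw [← cancel_mono (kernel.ι (cokernel.π i₁ ≫ cokernel.π j)), he, kernel.lift_ι]))
      rw [← cancel_mono j, Category.assoc, hw, kernel.lift_ι_assoc, c.condition]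
    haveI : Epi w := Abelian.epi_fst_of_isLimit _ _ hP.isLimit
    let f' : E₁ ⟶ kernel (cokernel.π i₁ ≫ cokernel.π j) := kernel.lift _ i₁ (by rw [cokernel.condition_assoc, zero_comp])
    have hf' : f' ≫ kernel.ι (cokernel.π i₁ ≫ cokernel.π j) = i₁ := kernel.lift_ι _ _ _
    haveI : Mono f' := mono_of_mono_fac hf'
    let U : ShortComplex X.Modules := ShortComplex.mk f' w
      (by rw [← cancel_mono j, Category.assoc, hw, ← Category.assoc, hf', cokernel.condition, zero_comp])
    have hU : U.ShortExact :=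
      { exact := ShortComplex.exact_of_f_is_kernel _ (KernelFork.IsLimit.ofι' f' U.zero fun {W} a ha =>
          ⟨hT.exact.lift (a ≫ kernel.ι (cokernel.π i₁ ≫ cokernel.π j))
              (by rw [Category.assoc]; show a ≫ kernel.ι (cokernel.π i₁ ≫ cokernel.π j) ≫ cokernel.π i₁ = 0
                  rw [← hw, ← Category.assoc, ha, zero_comp]),
            by
              rw [← cancel_mono (kernel.ι (cokernel.π i₁ ≫ cokernel.π j)), Category.assoc, hf']
              exact hT.exact.lift_f _ _⟩) }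
    have hmn : m = r₁ + s := CurveVB.rank_add U hU hE₁ hm hQ
    have hd := S7643.result k X hdim.le U hU r₁ m s hE₁ hm hQ
    dsimp only [U] at hd
    have b1 := hmax _ m (kernel.ι (cokernel.π i₁ ≫ cokernel.π j)) inferInstance (by omega) hm
    have b2 := hrk _ m (kernel.ι (cokernel.π i₁ ≫ cokernel.π j)) inferInstance (by omega) hm
    refine lt_of_le_of_ne ?_ fun he => ?_
    · rw [hd, hmn] at b1
      push_cast at b1
      linarith
    · have := b2 (by rw [hd, hmn]; push_cast; linarith)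
      omega
  · intro E₁ E₁' r₁ r₁' i₁ i₁' hi hr₁ hE₁ hmax hdrop hi' hr₁' hE₁' hmax' hdrop'
    have hle : ∀ (A B : X.Modules) (a b : ℕ) (i : A ⟶ E) (i' : B ⟶ E), Mono i → 0 < a → FlatMod.IsFinLocFreeOfRank a A →
        (∀ (F : X.Modules) (r' : ℕ) (j : F ⟶ E), Mono j → 0 < r' → FlatMod.IsFinLocFreeOfRank r' F →
          Curv2.deg k X F r' * (a : ℤ) ≤ Curv2.deg k X A a * (r' : ℤ)) →
        (∀ (Q : X.Modules) (s : ℕ) (j : Q ⟶ cokernel i), Mono j → 0 < s → FlatMod.IsFinLocFreeOfRank s Q →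
          Curv2.deg k X Q s * (a : ℤ) < Curv2.deg k X A a * (s : ℤ)) →
        Mono i' → 0 < b → FlatMod.IsFinLocFreeOfRank b B →
        (∀ (F : X.Modules) (r' : ℕ) (j : F ⟶ E), Mono j → 0 < r' → FlatMod.IsFinLocFreeOfRank r' F →
          Curv2.deg k X F r' * (b : ℤ) ≤ Curv2.deg k X B b * (r' : ℤ)) →
        i' ≫ cokernel.π i = 0 := by
      intro A B a b i i' hi ha hA hAmax hAdrop hi' hb hB hBmax
      have hmax0 : ∀ (G : X.Modules) (j : G ⟶ E), Mono j → FlatMod.IsFinLocFreeOfRank a G →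
          Curv2.deg k X G a ≤ Curv2.deg k X A a := fun G j hj hG =>
        le_of_mul_le_mul_right (hAmax G a j hj ha hG) (by exact_mod_cast ha)
      obtain ⟨n, -, hn, -⟩ := CurveVB.exists_rank_cokernel k hdim hA hE i hmax0
      obtain ⟨K, I, q, t, c, p, j, hc, hj, -, -, hq, ht, hbqt, -, hdeg, -, hz⟩ :=
        CurveVB.exists_split k hdim hB hn (i' ≫ cokernel.π i)
      by_contra hne
      have ht0 : 0 < t := Nat.pos_of_ne_zero fun h => hne (hz h)
      have e1 := hAdrop I t j hj ht0 ht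
      have e2 : Curv2.deg k X K q * (a : ℤ) ≤ Curv2.deg k X A a * (q : ℤ) := by
        rcases Nat.eq_zero_or_pos q with h0 | h0
        · subst h0
          rw [CurveVB.deg_zero k hdim hq]
          simp
        · exact hAmax K q (c ≫ i') inferInstance h0 hq
      have e3 := hBmax A a i hi ha hA
      rw [hdeg, hbqt] at e3
      push_cast at e3
      linarith
    have h1 := hle E₁ E₁' r₁ r₁' i₁ i₁' hi hr₁ hE₁ hmax hdrop hi' hr₁' hE₁' hmax'
    have h2 := hle E₁' E₁ r₁' r₁ i₁' i₁ hi' hr₁' hE₁' hmax' hdrop' hi hr₁ hE₁ hmax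
    refine ⟨⟨Abelian.monoLift i₁' i₁ h2, Abelian.monoLift i₁ i₁' h1, ?_, ?_⟩, Abelian.monoLift_comp _ _ _⟩
    · rw [← cancel_mono i₁, Category.assoc, Abelian.monoLift_comp, Abelian.monoLift_comp, Category.id_comp]
    · rw [← cancel_mono i₁', Category.assoc, Abelian.monoLift_comp, Abelian.monoLift_comp, Category.id_comp]

end Groth.Agent.S16470
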