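import Groth.Statements.S16478
import Mathlib
-- import your own Groth.Agent.* helpers here

set_option autoImplicit false
universe u
open GaDual

namespace Groth.Agent.S16478

open scoped TensorProduct

/-- Let A be a commutative ring of prime characteristic p and n ≥ 1, and let φ be the comorphism of the
closed immersion α_{p^n} → G_a over A: the bialgebra map from the Hopf algebra of the additive group
(generator t primitive) to A[x]/(x^(p^n)) (x primitive) sending t to x. Then the restriction map on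
characters, from those of the additive group over A to those of α_{p^n} over A, is surjective: every
group-like element of A[x]/(x^(p^n)) is the image under φ of a group-like element of the Hopf
algebra of the additive group. -/
theorem result (p : ℕ) [Fact p.Prime] (A : Type u) [CommRing A] [CharP A p]
    (n : ℕ) (hn : 1 ≤ n) (φ : SekSuwa.A A 0 →ₐc[A] AlphaPn.A p n A) (hφ : φ SekSuwa.A.t = AlphaPn.x p n A)
    (u : AlphaPn.A p n A) (hu : IsGroupLikeElem A u) :
    ∃ g : SekSuwa.A A 0, IsGroupLikeElem A g ∧ φ g = u := by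
  classical
  haveI : Nontrivial A := CharP.nontrivial_of_char_ne_one (R := A) (v := p) (Fact.out : p.Prime).ne_one
  let b := AlphaPn.basis p n A
  let s : AlphaPn.A p n A →ₗ[A] SekSuwa.A A 0 :=
    b.constr A fun i => (SekSuwa.A.t : SekSuwa.A A 0) ^ (i : ℕ)
  have hsb : ∀ j : Fin (p ^ n), s (AlphaPn.x p n A ^ (j : ℕ)) = (SekSuwa.A.t : SekSuwa.A A 0) ^ (j : ℕ) := fun j => by
    rw [← AlphaPn.basis_apply]; exact b.constr_basis A _ j
  have hφs : ∀ v, φ (s v) = v := by
    intro v
    have : (φ : SekSuwa.A A 0 →ₗ[A] AlphaPn.A p n A) ∘ₗ s = LinearMap.id := b.ext fun i => by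
      rw [LinearMap.comp_apply, AlphaPn.basis_apply, LinearMap.id_apply, hsb]
      show φ (SekSuwa.A.t ^ (i : ℕ)) = _
      rw [map_pow, hφ]
    exact DFunLike.congr_fun this v
  let Φ := TensorProduct.map (φ : SekSuwa.A A 0 →ₗ[A] AlphaPn.A p n A) (φ : SekSuwa.A A 0 →ₗ[A] AlphaPn.A p n A)
  let SS := TensorProduct.map s s
  have hPS : ∀ z, Φ (SS z) = z := by
    intro z
    induction z with
    | zero => simp
    | tmul a c =>
      show Φ (SS (a ⊗ₜ[A] c)) = _
      simp only [SS, Φ, TensorProduct.map_tmul]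
      exact congrArg₂ (fun a c => a ⊗ₜ[A] c) (hφs a) (hφs c)
    | add a c ha hc => rw [map_add, map_add, ha, hc]
  have hrange : ∀ v, ∃ z, CoalgebraStruct.comul (R := A) (s v) = SS z := by
    intro v
    have hv : v ∈ Submodule.span A (Set.range b) := by rw [b.span_eq]; exact Submodule.mem_top
    induction hv using Submodule.span_induction with
    | mem w hw =>
      obtain ⟨i, rfl⟩ := hw
      rw [AlphaPn.basis_apply, hsb,
        show CoalgebraStruct.comul (R := A) ((SekSuwa.A.t : SekSuwa.A A 0) ^ (i : ℕ)) =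
          Bialgebra.comulAlgHom A (SekSuwa.A A 0) (SekSuwa.A.t ^ (i : ℕ)) from rfl,
        map_pow, show Bialgebra.comulAlgHom A (SekSuwa.A A 0) SekSuwa.A.t =
          CoalgebraStruct.comul (R := A) (SekSuwa.A.t : SekSuwa.A A 0) from rfl,
        SekSuwa.A.comul_t, zero_smul, add_zero, add_pow]
      refine ⟨∑ m ∈ Finset.range ((i : ℕ) + 1),
        ((i : ℕ).choose m : A) • ((AlphaPn.x p n A ^ m) ⊗ₜ[A] (AlphaPn.x p n A ^ ((i : ℕ) - m))), ?_⟩
      rw [map_sum]
      refine Finset.sum_congr rfl fun m hm => ?_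
      have hm' : m < (i : ℕ) + 1 := Finset.mem_range.mp hm
      have h1 : m < p ^ n := lt_of_le_of_lt (Nat.lt_succ_iff.mp hm') i.2
      have h2 : (i : ℕ) - m < p ^ n := lt_of_le_of_lt (Nat.sub_le _ _) i.2
      rw [map_smul, Algebra.TensorProduct.tmul_pow, Algebra.TensorProduct.tmul_pow, one_pow, one_pow,
        Algebra.TensorProduct.tmul_mul_tmul, one_mul, mul_one, Nat.cast_smul_eq_nsmul, nsmul_eq_mul, mul_comm]
      show _ = ((i : ℕ).choose m : SekSuwa.A A 0 ⊗[A] SekSuwa.A A 0) *
        (s (AlphaPn.x p n A ^ (⟨m, h1⟩ : Fin (p ^ n)).1) ⊗ₜ[A] s (AlphaPn.x p n A ^ (⟨_, h2⟩ : Fin (p ^ n)).1))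
      rw [hsb, hsb]
    | zero => exact ⟨0, by simp⟩
    | add w w' _ _ hw hw' =>
      obtain ⟨z, hz⟩ := hw
      obtain ⟨z', hz'⟩ := hw'
      exact ⟨z + z', by rw [map_add, map_add, hz, hz', map_add]⟩
    | smul c w _ hw =>
      obtain ⟨z, hz⟩ := hw
      exact ⟨c • z, by rw [map_smul, map_smul, hz, map_smul]⟩
  refine ⟨s u, ⟨?_, ?_⟩, hφs u⟩
  · rw [← CoalgHomClass.counit_comp_apply φ (s u), hφs u]
    exact hu.counit_eq_one
  · obtain ⟨z, hz⟩ := hrange u
    have h1 : z = u ⊗ₜ[A] u := by
      rw [← hPS z, ← hz]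
      show TensorProduct.map _ _ (CoalgebraStruct.comul (R := A) (s u)) = _
      rw [CoalgHomClass.map_comp_comul_apply φ (s u), hφs u]
      exact hu.comul_eq_tmul_self
    rw [hz, h1]
    rfl

end Groth.Agent.S16478
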