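import Groth.Statements.S16482
-- import your own Groth.Agent.* helpers here

set_option autoImplicit false
open CategoryTheory CategoryTheory.Limits AlgebraicGeometry
universe u
open FrobSch

namespace Groth.Agent.S16482

/-- Let p be a prime and S a reduced scheme on which p = 0 whose absolute Frobenius is flat; let Y be a
reduced S-scheme with structure map a, Z an S-scheme with structure map b, and g₁, g₂ : Y ⟶ Z two
S-morphisms. For i = 1, 2 let h_i : Y ⟶ Z^(p) be the relative Frobenius F_{Y/S} : Y ⟶ Y^(p) followed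
by the base change Y^(p) ⟶ Z^(p) of g_i along the absolute Frobenius of S. If h₁ = h₂, then g₁ = g₂.
(The published statement works over the reduced special fibre of a flat formal scheme of finite type
over the Witt vectors of a perfect field; only reducedness of S and flatness of its absolute
Frobenius are kept here.) -/
theorem result (p : ℕ) [Fact p.Prime]
    {Y Z S : Scheme.{u}} [FrobSch.IsCharP S p] [IsReduced S] [Flat (FrobSch.frob S p)]
    [IsReduced Y] (a : Y ⟶ S) (b : Z ⟶ S) (g₁ g₂ : Y ⟶ Z) (hg₁ : g₁ ≫ b = a) (hg₂ : g₂ ≫ b = a)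
    (h : FrobSch.relFrob a p ≫ pullback.map a (FrobSch.frob S p) b (FrobSch.frob S p) g₁ (𝟙 S) (𝟙 S)
        ((Category.comp_id a).trans hg₁.symm) ((Category.comp_id _).trans (Category.id_comp _).symm) =
      FrobSch.relFrob a p ≫ pullback.map a (FrobSch.frob S p) b (FrobSch.frob S p) g₂ (𝟙 S) (𝟙 S)
        ((Category.comp_id a).trans hg₂.symm) ((Category.comp_id _).trans (Category.id_comp _).symm)) :
    g₁ = g₂ := by
  haveI : FrobSch.IsCharP Y p := FrobSch.IsCharP.of_hom a p
  have e := congrArg (fun t => t ≫ pullback.fst b (FrobSch.frob S p)) h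
  simp only [Category.assoc, pullback.lift_fst] at e
  rw [FrobSch.relFrob_fst_assoc, FrobSch.relFrob_fst_assoc] at e
  have hb : g₁.base = g₂.base := by
    have := congrArg (fun t : Y ⟶ Z => t.base) e
    simpa using this
  refine Scheme.Hom.ext hb fun U => ?_
  have h2 := Scheme.Hom.congr_app e U
  ext s
  have h3 := congrArg (fun t : Γ(Z, U) ⟶ _ => t s) h2
  change (g₁.app U s) ^ p = Y.presheaf.map _ ((g₂.app U s) ^ p) at h3
  rw [map_pow] at h3
  have h4 := congrArg (Y.presheaf.map (eqToHom (congrArg (fun t => (TopologicalSpace.Opens.map t).obj U) hb.symm)).op) h3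
  simp only [map_pow, ← ConcreteCategory.comp_apply, ← Functor.map_comp, ← op_comp, eqToHom_trans] at h4
  haveI : _root_.IsReduced Γ(Y, g₂ ⁻¹ᵁ U) := IsReduced.component_reduced _
  let φ := FrobSch.powHom p Γ(Y, g₂ ⁻¹ᵁ U) (FrobSch.natCast_eq_zero_app Y p _)
  have hφ : ∀ x y : Γ(Y, g₂ ⁻¹ᵁ U), x ^ p = y ^ p → x = y := fun x y hxy =>
    sub_eq_zero.1 (IsNilpotent.eq_zero ⟨p, by
      show φ (x - y) = 0
      rw [map_sub, FrobSch.powHom_apply, FrobSch.powHom_apply, hxy, sub_self]⟩)
  refine (hφ _ _ h4).trans ?_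
  exact congrArg (fun t : Γ(Y, g₂ ⁻¹ᵁ U) ⟶ _ => t (g₂.app U s))
    ((Y.presheaf.map_comp _ _).symm.trans ((congrArg _ (Subsingleton.elim _ (𝟙 _))).trans (Y.presheaf.map_id _)))

end Groth.Agent.S16482
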