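import Groth.Statements.S16491
import Groth.Agent.Ref1.Main
import Groth.Agent.DivDepth.Cycle
import Groth.Agent.AuslBuchs.Ufd
import Mathlib


set_option autoImplicit false
universe u
open CategoryTheory CategoryTheory.Limits AlgebraicGeometry TopologicalSpace
open VBPn

namespace Groth.Agent.S16491

section
open CategoryTheory CategoryTheory.Limits AlgebraicGeometry TopologicalSpace Order

variable {X : Scheme.{u}} [IsIntegral X] [IsLocallyNoetherian X]

theorem pr_mul {Z Z' : X → ℤ} {x : X} (h : Groth.Agent.DivDepth.Pr Z x) (h' : Groth.Agent.DivDepth.Pr Z' x) :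
    Groth.Agent.DivDepth.Pr (fun y => Z y + Z' y) x := by
  obtain ⟨f, hf⟩ := h
  obtain ⟨g, hg⟩ := h'
  exact ⟨f * g, fun y hy hy1 => by rw [Units.val_mul, Scheme.ord_mul f.ne_zero g.ne_zero, hf y hy hy1, hg y hy hy1]⟩

theorem pr_neg {Z : X → ℤ} {x : X} (h : Groth.Agent.DivDepth.Pr Z x) :
    Groth.Agent.DivDepth.Pr (fun y => -Z y) x := by
  obtain ⟨f, hf⟩ := h
  exact ⟨f⁻¹, fun y hy hy1 => by rw [Units.val_inv_eq_inv_val, Groth.Agent.Ref1.ord_inv f.ne_zero, hf y hy hy1]⟩

theorem pr_zero (x : X) : Groth.Agent.DivDepth.Pr (fun _ => (0 : ℤ)) x :=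
  ⟨1, fun y _ _ => by rw [Units.val_one, Groth.Agent.Ref1.ord_one]⟩

theorem pr_smul {Z : X → ℤ} {x : X} (h : Groth.Agent.DivDepth.Pr Z x) (n : ℤ) :
    Groth.Agent.DivDepth.Pr (fun y => n * Z y) x := by
  induction n using Int.induction_on with
  | zero => simpa using pr_zero x
  | succ i ih => simpa [add_mul, add_comm] using pr_mul ih h
  | pred i ih =>
    obtain ⟨f, hf⟩ := pr_mul ih (pr_neg h)
    exact ⟨f, fun y hy hy1 => (hf y hy hy1).trans (by ring)⟩

/-- On a factorial stalk every divisor is principal. -/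
theorem pr_of_fin (hX : Pi1.IsNormalScheme X) {D : X → ℤ} (hD : Groth.Agent.Ref1.Fin D) (x : X)
    (hufd : UniqueFactorizationMonoid (X.presheaf.stalk x)) : Groth.Agent.DivDepth.Pr D x := by
  classical
  obtain ⟨W, hW, hxW, -⟩ := exists_isAffineOpen_mem_and_subset (X := X) (x := x) (U := ⊤) trivial
  have key : ∀ S : Finset X, (∀ y ∈ S, coheight y = 1) →
      Groth.Agent.DivDepth.Pr (fun y => if y ∈ S then D y else 0) x := by
    intro S
    induction S using Finset.induction_on with
    | empty => exact fun _ => by simpa using pr_zero x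
    | insert a s ha ih =>
      intro hS
      have h1 := pr_mul (ih fun y hy => hS y (Finset.mem_insert_of_mem hy))
        (pr_smul (Groth.Agent.DivDepth.pr_delta_of_ufd hX (x₀ := a) (x := x) (hS a (Finset.mem_insert_self a s)) hufd) (D a))
      obtain ⟨f, hf⟩ := h1
      refine ⟨f, fun y hy hy1 => (hf y hy hy1).trans ?_⟩
      by_cases e : y = a
      · subst e; simp [ha, Groth.Agent.DivDepth.delta]
      · simp [e, Groth.Agent.DivDepth.delta]
  obtain ⟨f, hf⟩ := key (hD W hW).toFinset (fun y hy => by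
    simp only [Set.Finite.mem_toFinset, Set.mem_ofPred_eq] at hy
    exact hy.2.1)
  refine ⟨f, fun y hy hy1 => (hf y hy hy1).trans ?_⟩
  by_cases hz : D y = 0
  · simp [hz]
  · beta_reduce
    rw [if_pos]
    simp only [Set.Finite.mem_toFinset, Set.mem_ofPred_eq]
    exact ⟨hy.mem_open W.isOpen hxW, hy1, hz⟩

open Groth.Agent.Ref1 in
/-- A module represented by a divisor has a basis near a point where the divisor vanishes. -/
theorem exists_basis {F : X.Modules} {s : F.presheaf.stalk (genericPoint ↥X)} {D : X → ℤ}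
    (hX : Pi1.IsNormalScheme X) (hF : Rep F s D) (U : X.Opens) (hU : ∀ y ∈ U, coheight y = 1 → D y = 0)
    {x₀ : X} (hxU : x₀ ∈ U) :
    ∃ (V : X.Opens) (_ : x₀ ∈ V) (ℓ : Γ(F, V)), InvBasic.IsBasis F ℓ := by
  obtain ⟨m, hm⟩ := (hF.img x₀ 1).mpr ((inLat_zero_iff hX x₀ 1
    (fun y hy hy1 => hU y (hy.mem_open U.2 hxU) hy1)).mpr ⟨1, map_one _⟩)
  obtain ⟨V₀, huV₀, n, rfl⟩ := F.presheaf.exists_germ_eq m
  rw [one_smul, sp_germ] at hm
  let V : X.Opens := V₀ ⊓ U
  let ℓ : Γ(F, V) := F.presheaf.map (homOfLE inf_le_left).op n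
  have hℓ : ∀ (h : genericPoint ↥X ∈ V), F.presheaf.germ V _ h ℓ = s := fun h => by
    rw [TopCat.Presheaf.germ_res_apply]; exact hm
  have hb : InvBasic.IsBasis F ℓ := by
    intro W hW
    refine ⟨fun r r' h => ?_, fun σ => ?_⟩
    · by_cases hne : ∃ w, w ∈ W
      · obtain ⟨w, hw⟩ := hne
        have e := congrArg (F.presheaf.germ W (genericPoint ↥X) (eta_mem hw)) h
        dsimp only at e
        rw [QCohLib.germ_smul, QCohLib.germ_smul, TopCat.Presheaf.germ_res_apply,
          hℓ (hW (eta_mem hw))] at e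
        exact germ_injective_of_isIntegral X _ (eta_mem hw) (hF.cancel e)
      · exact TopCat.Presheaf.section_ext X.sheaf W r r' fun w hw => absurd ⟨w, hw⟩ hne
    · by_cases hne : ∃ w, w ∈ W
      · obtain ⟨w, hw⟩ := hne
        obtain ⟨c, hc⟩ := hF.span (F.presheaf.germ W _ (eta_mem hw) σ)
        obtain ⟨r, hr⟩ := exists_section_of_forall_range hw c fun x hx =>
          (inLat_zero_iff hX x c (fun y hy hy1 => hU y (hy.mem_open U.2 (hW hx).2) hy1)).mp
            ((hF.img x c).mp ⟨F.presheaf.germ W x hx σ, by rw [sp_germ, hc]⟩)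
        refine ⟨r, QCohLib.section_ext _ _ fun x hx => hF.inj x ?_⟩
        rw [sp_germ, sp_germ, hc, QCohLib.germ_smul, hr, TopCat.Presheaf.germ_res_apply,
          hℓ (hW (eta_mem hx))]
      · exact ⟨0, QCohLib.section_ext _ _ fun w hw => absurd ⟨w, hw⟩ hne⟩
  exact ⟨V, ⟨huV₀, hxU⟩, ℓ, hb⟩

end

/-- Let X be an integral locally Noetherian scheme all of whose local rings are regular, and F a
coherent O_X-module which is reflexive (the canonical map F → F^** is an isomorphism) and of rank 1
(F restricts to an invertible module on some dense open subset of X). Then F is invertible: every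
point has an open neighbourhood on which F is isomorphic to the structure sheaf. The published
statement is for reflexive coherent analytic sheaves of rank 1 on a complex manifold; this row is
its statement on a regular integral locally Noetherian scheme, whose local rings are factorial as
the argument requires. -/
theorem result (X : Scheme.{u}) [IsIntegral X] [IsLocallyNoetherian X]
    (hreg : ∀ x : X, IsRegularLocalRing (X.presheaf.stalk x)) (F : X.Modules) (hF : Coh.IsCoh F)
    (hrefl : RefHull.IsReflexive F) (hrk : RefHull.GenInvertible F) :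
    PicF.IsInvertible F := by
  have hufd : ∀ x : X, UniqueFactorizationMonoid (X.presheaf.stalk x) := fun x => by
    haveI := hreg x
    exact Groth.Agent.AuslBuchs.uniqueFactorizationMonoid_of_isRegularLocalRing _
  have hX : Pi1.IsNormalScheme X := fun x => ⟨inferInstance, by haveI := hufd x; infer_instance⟩
  obtain ⟨t, D, hD, -, hR⟩ := Groth.Agent.Ref1.exists_rep_of_isRef1 hX ⟨hF, hrefl, hrk⟩
  refine Groth.Agent.InvBasic.isInvertible_of_isBasis fun x => ?_
  obtain ⟨f, hf⟩ := pr_neg (pr_of_fin hX hD x (hufd x))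
  obtain ⟨W, hW, hxW, -⟩ := exists_isAffineOpen_mem_and_subset (X := X) (x := x) (U := ⊤) trivial
  obtain ⟨V, hxV, hV⟩ := Groth.Agent.Ref1.exists_open_avoiding
    (S := {y : X | y ∈ W ∧ Order.coheight y = 1 ∧ D y + Scheme.ord (f : X.functionField) y ≠ 0})
    (((hD W hW).union (Groth.Agent.Ref1.finite_ord_ne_zero hW (f : X.functionField))).subset fun y hy => by
      by_contra hh
      simp only [Set.mem_union, Set.mem_ofPred_eq, not_or, not_and, not_not] at hh
      exact hy.2.2 (by rw [hh.1 hy.1 hy.2.1, hh.2 hy.1 hy.2.1, add_zero]))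
    (x := x) (fun y hy hyx => hy.2.2 (by rw [hf y hyx hy.2.1, add_neg_cancel]))
  exact exists_basis hX (hR.rescale f.ne_zero) (W ⊓ V) (fun y hy hy1 => by
    by_contra hne
    exact hV y ⟨hy.1, hy1, hne⟩ hy.2) ⟨hxW, hxV⟩

end Groth.Agent.S16491
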