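import Groth.Statements.S16498
import Mathlib.Data.Nat.Choose.Lucas
import Mathlib.Algebra.Polynomial.Taylor
import Mathlib.Algebra.Polynomial.BigOperators
import Mathlib.Algebra.CharP.Basic
import Mathlib.Tactic.Ring
-- import your own Groth.Agent.* helpers here

set_option autoImplicit false
universe u
open Curves

namespace Groth.Agent.S16498

/-- Let k be a field of odd characteristic p, g ≤ p a natural number, f ∈ k[x] of degree at most 2g + 2,
and α ∈ k. Write f^((p-1)/2) = Σ_l c_l x^l and f(x + α)^((p-1)/2) = Σ_l d_l x^l, and form the g × g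
Cartier–Manin matrices (c_{ip-j}) and (d_{ip-j}), indices i, j = 1, …, g (below written with i, j
ranging over Fin g, so that the entry at (i, j) is the coefficient of x^((i+1)p-(j+1))). Then
(d_{ip-j}) = L · (c_{ip-j}) · U with L_{i,I} = binom(I-1, i-1) α^((I-i)p) and U_{J,j} = binom(p-J,
p-j) α^(j-J); both L and U are unitriangular since a binomial coefficient vanishes when its lower
index exceeds its upper index. (The source works over a perfect field, with f separable of degree 2g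
+ 2 and α ∈ k^* a root of f, hypotheses this identity does not use.) -/
theorem result (k : Type u) [Field k] (p : ℕ) [Fact p.Prime] (hp : p ≠ 2) [CharP k p]
    (g : ℕ) (hg : g ≤ p) (f : Polynomial k) (hf : f.natDegree ≤ 2 * g + 2) (α : k) :
    (Matrix.of fun i j : Fin g =>
        ((f.comp (Polynomial.X + Polynomial.C α)) ^ ((p - 1) / 2)).coeff (((i : ℕ) + 1) * p - ((j : ℕ) + 1))) =
      (Matrix.of fun i I : Fin g => (((I : ℕ).choose (i : ℕ) : ℕ) : k) * α ^ (((I : ℕ) - (i : ℕ)) * p)) *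
        (Matrix.of fun i j : Fin g => (f ^ ((p - 1) / 2)).coeff (((i : ℕ) + 1) * p - ((j : ℕ) + 1))) *
        (Matrix.of fun J j : Fin g => (((p - ((J : ℕ) + 1)).choose (p - ((j : ℕ) + 1)) : ℕ) : k) * α ^ ((j : ℕ) - (J : ℕ))) := by
  classical
  have hp2 : 2 ≤ p := (Fact.out : p.Prime).two_le
  -- index arithmetic
  have hidx : ∀ a b : ℕ, b < g → (a + 1) * p - (b + 1) = a * p + (p - (b + 1)) ∧
      ((a + 1) * p - (b + 1)) % p = p - (b + 1) ∧ ((a + 1) * p - (b + 1)) / p = a := by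
    intro a b hb
    have h1 : (a + 1) * p - (b + 1) = a * p + (p - (b + 1)) := by rw [add_mul, one_mul]; omega
    have h2 : p - (b + 1) < p := by omega
    refine ⟨h1, ?_, ?_⟩
    · rw [h1, add_comm, Nat.add_mul_mod_self_right, Nat.mod_eq_of_lt h2]
    · rw [h1, add_comm, Nat.add_mul_div_right _ _ (by omega : 0 < p), Nat.div_eq_of_lt h2, zero_add]
  obtain ⟨m, hm⟩ : ∃ m, m = (p - 1) / 2 := ⟨_, rfl⟩
  have h2m : 2 * m ≤ p - 1 := by omega
  obtain ⟨F, hF⟩ : ∃ F : Polynomial k, F = f ^ m := ⟨_, rfl⟩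
  have hFdeg : F.natDegree ≤ (g + 1) * (p - 1) := by
    rw [hF]
    refine Polynomial.natDegree_pow_le.trans ((Nat.mul_le_mul_left m hf).trans ?_)
    calc m * (2 * g + 2) = (g + 1) * (2 * m) := by ring
      _ ≤ (g + 1) * (p - 1) := Nat.mul_le_mul_left _ h2m
  obtain ⟨ι, hι⟩ : ∃ ι : Fin g × Fin g → ℕ, ι = fun IJ => ((IJ.1 : ℕ) + 1) * p - ((IJ.2 : ℕ) + 1) :=
    ⟨_, rfl⟩
  ext i j
  obtain ⟨L, hL⟩ : ∃ L : ℕ, L = ((i : ℕ) + 1) * p - ((j : ℕ) + 1) := ⟨_, rfl⟩
  obtain ⟨hL1, hL2, hL3⟩ := hidx i j j.2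
  rw [← hL] at hL1 hL2 hL3
  obtain ⟨T, hT⟩ : ∃ T : ℕ → k, T = fun l => F.coeff l * α ^ (l - L) * ((l.choose L : ℕ) : k) :=
    ⟨_, rfl⟩
  -- left hand side
  have hlhs : ((f.comp (Polynomial.X + Polynomial.C α)) ^ m).coeff L =
      ∑ l ∈ Finset.range ((g + 1) * (p - 1) + 1), T l := by
    rw [← Polynomial.pow_comp, ← hF]
    conv_lhs => rw [F.as_sum_range' ((g + 1) * (p - 1) + 1) (by omega)]
    rw [Polynomial.sum_comp, Polynomial.finsetSum_coeff]
    refine Finset.sum_congr rfl fun l _ => ?_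
    rw [hT, Polynomial.monomial_comp, Polynomial.coeff_C_mul, Polynomial.coeff_X_add_C_pow]
    exact (mul_assoc _ _ _).symm
  -- the right hand side, as one double sum
  have hterm : ∀ I J : Fin g, T (ι (I, J)) =
      (((I : ℕ).choose (i : ℕ) : ℕ) : k) * α ^ (((I : ℕ) - (i : ℕ)) * p) * F.coeff (ι (I, J)) *
        ((((p - ((J : ℕ) + 1)).choose (p - ((j : ℕ) + 1)) : ℕ) : k) * α ^ ((j : ℕ) - (J : ℕ))) := by
    intro I J
    obtain ⟨h1, h2, h3⟩ := hidx I J J.2
    have hlucas : (((ι (I, J)).choose L : ℕ) : k) =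
        (((p - ((J : ℕ) + 1)).choose (p - ((j : ℕ) + 1)) : ℕ) : k) * (((I : ℕ).choose (i : ℕ) : ℕ) : k) := by
      rw [← Nat.cast_mul]
      apply CharP.natCast_eq_natCast' k p
      have := Choose.choose_modEq_choose_mod_mul_choose_div_nat (n := ι (I, J)) (k := L) (p := p)
      rw [hι, hL2, hL3, h2, h3] at this
      rw [hι]
      exact this
    rw [hT]
    simp only [hlucas]
    by_cases hI : (i : ℕ) ≤ (I : ℕ)
    swap
    · rw [Nat.choose_eq_zero_of_lt (Nat.lt_of_not_le hI)]; simp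
    by_cases hJ : (J : ℕ) ≤ (j : ℕ)
    swap
    · rw [Nat.choose_eq_zero_of_lt (n := p - ((J : ℕ) + 1)) (k := p - ((j : ℕ) + 1)) (by omega)]
      simp
    have hexp : ι (I, J) - L = ((I : ℕ) - (i : ℕ)) * p + ((j : ℕ) - (J : ℕ)) := by
      rw [hι, hL1]
      simp only [h1]
      have := Nat.mul_le_mul_right p hI
      rw [Nat.sub_mul]
      omega
    rw [hexp, pow_add]
    ring
  simp only [Matrix.mul_apply, Matrix.of_apply, Finset.sum_mul]
  rw [← hm, ← hL, hlhs, ← hF, Finset.sum_comm, ← Fintype.sum_prod_type']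
  -- both sums run over the same nonzero terms
  symm
  have hnz : ∀ l, T l ≠ 0 → ∃ IJ, ι IJ = l := by
    intro l hl
    rw [hT] at hl
    have hFl : F.coeff l ≠ 0 := left_ne_zero_of_mul (left_ne_zero_of_mul hl)
    have hle : l ≤ (g + 1) * (p - 1) := (Polynomial.le_natDegree_of_ne_zero hFl).trans hFdeg
    have hc := CharP.natCast_eq_natCast' k p
      (Choose.choose_modEq_choose_mod_mul_choose_div_nat (n := l) (k := L) (p := p))
    have hc' : ((l.choose L : ℕ) : k) ≠ 0 := right_ne_zero_of_mul hl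
    rw [hc, hL2, hL3, Nat.cast_mul] at hc'
    have hr : p - ((j : ℕ) + 1) ≤ l % p := by
      by_contra hlt
      exact left_ne_zero_of_mul hc' (by rw [Nat.choose_eq_zero_of_lt (Nat.lt_of_not_le hlt), Nat.cast_zero])
    have hlp : l % p < p := Nat.mod_lt _ (by omega)
    have hdm := Nat.div_add_mod l p
    have hq : l / p < g := by
      by_contra hge
      have h1 : g * p ≤ p * (l / p) := by
        rw [Nat.mul_comm g p]; exact Nat.mul_le_mul_left p (Nat.le_of_not_lt hge)
      have h2 : (g + 1) * (p - 1) + g + 1 = g * p + p := by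
        obtain ⟨q, rfl⟩ : ∃ q, p = q + 1 := ⟨p - 1, by omega⟩
        simp only [Nat.add_sub_cancel]; ring
      have := j.2
      omega
    refine ⟨(⟨l / p, hq⟩, ⟨p - 1 - l % p, by have := j.2; omega⟩), ?_⟩
    rw [hι]
    show (l / p + 1) * p - (p - 1 - l % p + 1) = l
    rw [add_mul, one_mul, Nat.mul_comm (l / p) p]
    omega
  refine Finset.sum_bij_ne_zero (fun IJ _ _ => ι IJ) ?_ ?_ ?_ ?_
  · intro IJ _ h
    rw [Finset.mem_range]
    have hc : F.coeff (ι IJ) ≠ 0 := by
      intro h0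
      exact h (by simp [hι] at h0 ⊢; simp [h0])
    have := (Polynomial.le_natDegree_of_ne_zero hc).trans hFdeg
    omega
  · rintro ⟨I, J⟩ _ _ ⟨I', J'⟩ _ _ h
    rw [hι] at h
    have hI : (I : ℕ) = I' := by
      have := congrArg (· / p) h
      simpa [(hidx I J J.2).2.2, (hidx I' J' J'.2).2.2] using this
    have hJ : p - ((J : ℕ) + 1) = p - ((J' : ℕ) + 1) := by
      have := congrArg (· % p) h
      simpa [(hidx I J J.2).2.1, (hidx I' J' J'.2).2.1] using this
    exact Prod.ext (Fin.ext hI) (Fin.ext (show (J : ℕ) = J' by have := J.2; have := J'.2; omega))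
  · intro l _ hl
    obtain ⟨IJ, rfl⟩ := hnz l hl
    refine ⟨IJ, Finset.mem_univ _, ?_, rfl⟩
    rw [hterm IJ.1 IJ.2, hι] at hl
    exact hl
  · rintro ⟨I, J⟩ _ _
    rw [hterm I J, hι]

end Groth.Agent.S16498
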