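import Groth.Statements.S16500
import Mathlib.Tactic
import Mathlib.Algebra.Polynomial.Reverse

set_option autoImplicit false
universe u
open Curves

namespace Groth.Agent.S16500

/-- Let k be a field of odd characteristic p, g ≤ p a natural number and f ∈ k[x] of degree at most 2g +
2. Let F be f with its coefficients reversed in degrees 0, …, 2g + 2, i.e. F(X) = X^(2g+2) f(1/X)
(Mathlib's reflect (2g+2) f), and write f^((p-1)/2) = Σ_l c_l x^l and F^((p-1)/2) = Σ_l C_l X^l.
Then C_{ip-j} = c_{(g+1-i)p-(g+1-j)} for all i, j = 1, …, g; that is, the g × g Cartier–Manin matrix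
of F is that of f with the order of both rows and columns reversed (below the indices run over Fin
g, the entry at (i, j) being the coefficient of degree (i+1)p-(j+1), and reversal is Fin.rev). In
particular the two matrices have the same determinant. (The source applies this to f with f(0) = 0,
separable of degree 2g + 2 over a perfect field, so that F has odd degree 2g + 1; the identity uses
none of that.) -/
theorem result (k : Type u) [Field k] (p : ℕ) [Fact p.Prime] (hp : p ≠ 2) [CharP k p]
    (g : ℕ) (hg : g ≤ p) (f : Polynomial k) (hf : f.natDegree ≤ 2 * g + 2) :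
    (Matrix.of fun i j : Fin g =>
        ((Polynomial.reflect (2 * g + 2) f) ^ ((p - 1) / 2)).coeff (((i : ℕ) + 1) * p - ((j : ℕ) + 1))) =
      Matrix.of fun i j : Fin g =>
        (f ^ ((p - 1) / 2)).coeff (((Fin.rev i : ℕ) + 1) * p - ((Fin.rev j : ℕ) + 1)) := by
  obtain ⟨m, hm⟩ : ∃ m, p = 2 * m + 1 := (Fact.out : p.Prime).odd_of_ne_two hp
  have hm2 : (p - 1) / 2 = m := by omega
  rw [hm2]
  have key : ∀ n : ℕ, Polynomial.reflect (2 * g + 2) f ^ n = Polynomial.reflect ((2 * g + 2) * n) (f ^ n) := by
    intro n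
    induction n with
    | zero => rw [pow_zero, pow_zero, Nat.mul_zero, ← Polynomial.C_1, Polynomial.reflect_C, pow_zero, mul_one]
    | succ n ih =>
      rw [pow_succ, ih, pow_succ, Nat.mul_succ, Polynomial.reflect_mul _ _ ?_ hf]
      calc (f ^ n).natDegree ≤ n * f.natDegree := Polynomial.natDegree_pow_le
        _ ≤ n * (2 * g + 2) := Nat.mul_le_mul_left _ hf
        _ = _ := mul_comm _ _
  ext i j
  simp only [Matrix.of_apply, key, Polynomial.coeff_reflect]
  congr 1
  have hi : (i : ℕ) < g := i.isLt
  have hj : (j : ℕ) < g := j.isLt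
  rw [Fin.val_rev, Fin.val_rev]
  obtain ⟨c, hc⟩ := Nat.exists_eq_add_of_lt hi
  have e2 : g - ((i : ℕ) + 1) + 1 = c + 1 := by omega
  rw [e2]
  have e1 : (2 * g + 2) * m = (g + 1) * (p - 1) := by rw [show p - 1 = 2 * m by omega]; ring
  rw [e1]
  have e3 : (g + 1) * (p - 1) + (g + 1) = ((i : ℕ) + 1) * p + (c + 1) * p := by
    have : p - 1 + 1 = p := by omega
    calc (g + 1) * (p - 1) + (g + 1) = (g + 1) * (p - 1 + 1) := by ring
      _ = ((i : ℕ) + c + 1 + 1) * p := by rw [this, ← hc]
      _ = _ := by ring
  have l1 : p ≤ ((i : ℕ) + 1) * p := Nat.le_mul_of_pos_left p (by omega)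
  have l2 : p ≤ (c + 1) * p := Nat.le_mul_of_pos_left p (by omega)
  rw [Polynomial.revAt_le (by omega)]
  omega

end Groth.Agent.S16500
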