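import Groth.Statements.S16515
import Mathlib
-- import your own Groth.Agent.* helpers here

set_option autoImplicit false
universe u
open RatCurv

namespace Groth.Agent.S16515

/-- If C ⊂ P^n is a rational normal curve and P ⊂ P^n a linear r-plane with (r + 2) k ≥ (r + 1)(n + 1),
then P is contained in a k-secant (k − 1)-plane of C, i.e. in the span of some effective divisor of
degree k on C. Stated through the identification of the linear forms on P^n with the binary forms of
degree n on C ≅ P^1: the r-plane P is recorded by the space U of degree-n binary forms vanishing on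
it (of codimension r + 1), an effective divisor of degree k on C by a nonzero binary form g of
degree k, and P ⊂ span(div g) says that every degree-n form divisible by g lies in U. Here k ≤ n,
and the ground field is arbitrary (the source works over the complex numbers). -/
theorem result (K : Type u) [Field K] (n r k : ℕ)
    (hkn : k ≤ n) (hineq : (r + 1) * (n + 1) ≤ (r + 2) * k)
    (U : Submodule K (MvPolynomial (Fin 2) K))
    (hU : U ≤ MvPolynomial.homogeneousSubmodule (Fin 2) K n)
    (hcodim : Module.finrank K ↥U + (r + 1) = n + 1) :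
    ∃ g ∈ MvPolynomial.homogeneousSubmodule (Fin 2) K k, g ≠ 0 ∧
      ∀ h ∈ MvPolynomial.homogeneousSubmodule (Fin 2) K (n - k), g * h ∈ U := by
  classical
  let H : ℕ → Submodule K (MvPolynomial (Fin 2) K) := fun d => MvPolynomial.homogeneousSubmodule (Fin 2) K d
  have hdim : ∀ d, Module.Finite K (H d) ∧ Module.finrank K (H d) = d + 1 := by
    intro d
    have hsum : ∀ x : Fin 2 →₀ ℕ, Finsupp.degree x = x 0 + x 1 := fun x => by
      rw [Finsupp.degree_eq_sum, Fin.sum_univ_two]
    let e : {x : Fin 2 →₀ ℕ | Finsupp.degree x = d} ≃ Fin (d + 1) :=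
      { toFun := fun x => ⟨(x : Fin 2 →₀ ℕ) 0, by have h : Finsupp.degree (x : Fin 2 →₀ ℕ) = d := x.2; rw [hsum] at h; omega⟩
        invFun := fun i => ⟨Finsupp.equivFunOnFinite.symm ![(i : ℕ), d - i], by
          show Finsupp.degree _ = d
          rw [hsum]; simp only [Finsupp.equivFunOnFinite_symm_apply_apply, Matrix.cons_val_zero, Matrix.cons_val_one]; omega⟩
        left_inv := fun x => by
          have h : Finsupp.degree (x : Fin 2 →₀ ℕ) = d := x.2
          rw [hsum] at h
          refine Subtype.ext (Finsupp.ext fun i => ?_)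
          fin_cases i
          · simp
          · simp; omega
        right_inv := fun i => by simp }
    let b := (MvPolynomial.basisRestrictSupport K {x : Fin 2 →₀ ℕ | Finsupp.degree x = d}).reindex e
    let eq : H d ≃ₗ[K] MvPolynomial.restrictSupport K {x : Fin 2 →₀ ℕ | Finsupp.degree x = d} :=
      LinearEquiv.ofEq _ _ (MvPolynomial.homogeneousSubmodule_eq_finsupp_supported (Fin 2) K d)
    let b' := b.map eq.symm
    exact ⟨Module.Finite.of_basis b', by rw [Module.finrank_eq_card_basis b', Fintype.card_fin]⟩
  haveI := (hdim k).1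
  haveI := (hdim (n - k)).1
  haveI := (hdim n).1
  let U' : Submodule K (H n) := U.comap (H n).subtype
  have hmul : ∀ (g : H k) (h : H (n - k)), (g : MvPolynomial (Fin 2) K) * h ∈ H n := fun g h => by
    have := MvPolynomial.homogeneousSubmodule_mul k (n - k) (Submodule.mul_mem_mul g.2 h.2)
    rwa [Nat.add_sub_cancel' hkn] at this
  let Φ : H k →ₗ[K] (H (n - k) →ₗ[K] (H n ⧸ U')) :=
    LinearMap.mk₂ K (fun g h => U'.mkQ ⟨(g : MvPolynomial (Fin 2) K) * h, hmul g h⟩)
      (fun g g' h => by rw [← map_add]; congr 1; exact Subtype.ext (by simp [add_mul]))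
      (fun c g h => by rw [← map_smul]; congr 1; exact Subtype.ext (by simp))
      (fun g h h' => by rw [← map_add]; congr 1; exact Subtype.ext (by simp [mul_add]))
      (fun c g h => by rw [← map_smul]; congr 1; exact Subtype.ext (by simp))
  have hq : Module.finrank K (H n ⧸ U') = r + 1 := by
    have h1 := U'.finrank_quotient_add_finrank
    have h2 : Module.finrank K U' = Module.finrank K U := (Submodule.comapSubtypeEquivOfLe (show U ≤ H n from hU)).finrank_eq
    rw [h2, (hdim n).2] at h1
    omega
  have hlt : Module.finrank K (H (n - k) →ₗ[K] (H n ⧸ U')) < Module.finrank K (H k) := by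
    rw [Module.finrank_linearMap, hq, (hdim (n - k)).2, (hdim k).2]
    obtain ⟨t, rfl⟩ := Nat.exists_eq_add_of_le hkn
    simp only [Nat.add_sub_cancel_left]
    nlinarith
  have hker := LinearMap.ker_ne_bot_of_finrank_lt (f := Φ) hlt
  obtain ⟨g, hg, hg0⟩ := Submodule.exists_mem_ne_zero_of_ne_bot hker
  refine ⟨g, g.2, fun h => hg0 (Subtype.ext h), fun h hh => ?_⟩
  have h3 := DFunLike.congr_fun (LinearMap.mem_ker.1 hg) ⟨h, hh⟩
  exact (Submodule.Quotient.mk_eq_zero U').1 h3

end Groth.Agent.S16515
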