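import Groth.Statements.S16517
import Groth.Agent.GorLib.Linkage
import Groth.Agent.FlatAscent.Local
import Groth.Agent.Miracle.Basic

set_option autoImplicit false
universe u
open CAlg

namespace Groth.Agent.S16517

open IsLocalRing in
theorem flat_quotient {R A : Type u} [CommRing R] [IsRegularLocalRing R] [CommRing A] [Algebra R A]
    [IsLocalRing A] [IsNoetherianRing A] [IsLocalHom (algebraMap R A)] [Module.Flat R A] (K : Ideal A)
    [LocCoh.IsCohenMacaulayLocalRing (A ⧸ K)] (hK : ringKrullDim (A ⧸ K) = ringKrullDim A) :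
    Module.Flat R (A ⧸ K) := by
  haveI : IsLocalHom (algebraMap R (A ⧸ K)) := by
    refine ⟨fun a ha => ?_⟩
    by_contra h
    have h1 : algebraMap R A a ∈ maximalIdeal A := fun hu => h ((isUnit_map_iff (algebraMap R A) a).1 hu)
    have h2 : Ideal.Quotient.mk K (algebraMap R A a) ∈ maximalIdeal (A ⧸ K) := by
      rw [← IsLocalRing.map_maximalIdeal_of_surjective (Ideal.Quotient.mk K) Ideal.Quotient.mk_surjective]
      exact Ideal.mem_map_of_mem _ h1
    exact h2 ha
  refine Miracle.flat _ rfl ?_
  refine le_antisymm Miracle.ringKrullDim_le_add ?_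
  conv_rhs => rw [hK, FlatAscent.ringKrullDim_eq_add R A]
  refine add_le_add le_rfl (ringKrullDim_le_of_surjective
    (Ideal.quotientMap ((maximalIdeal R).map (algebraMap R (A ⧸ K))) (Ideal.Quotient.mk K) ?_) ?_)
  · rw [← Ideal.map_le_iff_le_comap, Ideal.map_map]
    rfl
  · exact Ideal.quotientMap_surjective Ideal.Quotient.mk_surjective

/-- Let R be a regular local ring, A a Gorenstein local ring which is a flat R-algebra through a local
homomorphism, I ⊂ A an ideal of codimension zero (the Krull dimension of A/I equals that of A) with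
A/I Cohen–Macaulay, and J = (0 : I) the annihilator of I in A (the ideal of the residual subscheme).
Then A/I and A/J are flat over R. -/
theorem result (R A : Type u)
    [CommRing R] [IsRegularLocalRing R] [CommRing A] [Algebra R A] [LocCoh.IsGorensteinLocalRing A]
    [IsLocalHom (algebraMap R A)] [Module.Flat R A] (I : Ideal A)
    (hI : ringKrullDim (A ⧸ I) = ringKrullDim A) [LocCoh.IsCohenMacaulayLocalRing (A ⧸ I)] :
    Module.Flat R (A ⧸ I) ∧ Module.Flat R (A ⧸ (Submodule.annihilator I)) := by
  refine ⟨flat_quotient I hI, ?_⟩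
  rcases eq_or_ne I ⊥ with rfl | hne
  · rw [Submodule.annihilator_bot]
    haveI : Subsingleton (A ⧸ (⊤ : Ideal A)) := Ideal.Quotient.subsingleton_iff.2 rfl
    haveI : Module.Free R (A ⧸ (⊤ : Ideal A)) := Module.Free.of_subsingleton R _
    exact inferInstance
  obtain ⟨d, hd⟩ : ∃ d : ℕ, ringKrullDim A = d := by
    obtain ⟨d, hd⟩ := DepthLib.exists_nat_supportDim (R := A) A
    exact ⟨d, (Module.supportDim_self_eq_ringKrullDim (R := A)).symm.trans hd⟩
  obtain ⟨h1, h2⟩ := GorLib.isCohenMacaulayModule_quotient_annihilator hd (hI.trans hd) hne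
  haveI := GorLib.isCohenMacaulayLocalRing_quotient_of_module h1
  refine flat_quotient _ ?_
  rw [← Module.supportDim_quotient_eq_ringKrullDim, h2, hd]

end Groth.Agent.S16517
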