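import Groth.Statements.S16519
import Mathlib
-- import your own Groth.Agent.* helpers here

set_option autoImplicit false
open CubicSurf

namespace Groth.Agent.S16519

def F : Finset (Fin 5 × (Fin 6 → Fin 3)) := Finset.univ.filter fun q =>
  3 * (q.1.val + 1) = 3 + ∑ i, (q.2 i).val ∧ (q.1.val + 1) ^ 2 = 1 + ∑ i, (q.2 i).val ^ 2

theorem card_F : F.card = 72 := by decide +kernel

def e (q : Fin 5 × (Fin 6 → Fin 3)) : ℤ × (Fin 6 → ℤ) :=
  ((q.1.val : ℤ) + 1, fun i => ((q.2 i).val : ℤ))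

theorem e_injective : Function.Injective e := fun a b h => by
  simp only [e, Prod.mk.injEq] at h
  refine Prod.ext (Fin.ext ?_) (funext fun i => Fin.ext ?_)
  · have := h.1; omega
  · have := congrFun h.2 i; omega

theorem bound {a : ℤ} {b : Fin 6 → ℤ} (h1 : 3 * a - ∑ i, b i = 3) (h2 : a ^ 2 - ∑ i, b i ^ 2 = 1) :
    (1 ≤ a ∧ a ≤ 5) ∧ ∀ i, 0 ≤ b i ∧ b i ≤ 2 := by
  have hc := sq_sum_le_card_mul_sum_sq (s := (Finset.univ : Finset (Fin 6))) (f := b)
  simp only [Finset.card_univ, Fintype.card_fin] at hc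
  push_cast at hc
  rw [show ∑ i, b i = 3 * a - 3 by omega, show ∑ i, b i ^ 2 = a ^ 2 - 1 by omega] at hc
  have ha : 1 ≤ a ∧ a ≤ 5 := ⟨by nlinarith, by nlinarith⟩
  refine ⟨ha, fun i => ?_⟩
  have hi := sq_sum_le_card_mul_sum_sq (s := (Finset.univ : Finset (Fin 6)).erase i) (f := b)
  rw [Finset.card_erase_of_mem (Finset.mem_univ i), Finset.card_univ, Fintype.card_fin,
    Finset.sum_erase_eq_sub (Finset.mem_univ i), Finset.sum_erase_eq_sub (Finset.mem_univ i)] at hi
  push_cast at hi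
  rw [show ∑ i, b i = 3 * a - 3 by omega, show ∑ i, b i ^ 2 = a ^ 2 - 1 by omega] at hi
  obtain ⟨h₁, h₅⟩ := ha
  interval_cases a <;> constructor <;> nlinarith


/-- On a smooth cubic surface there are exactly 72 divisor classes L with L² = 1 and L · K = −3. Stated
in the lattice ℤ^{1,6} with basis l, e_1, …, e_6 (l² = 1, e_i² = −1, K = −3l + Σ e_i): the integer
vectors (a, b) ∈ ℤ × ℤ^6, standing for a·l − Σ b_i e_i, with 3a − Σ b_i = 3 and a² − Σ b_i² = 1 form
a set of exactly 72 elements. -/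
theorem result :
    {p : ℤ × (Fin 6 → ℤ) | 3 * p.1 - (Finset.univ.sum fun i => p.2 i) = 3 ∧
        p.1 ^ 2 - (Finset.univ.sum fun i => p.2 i ^ 2) = 1}.ncard = 72 := by
  rw [show {p : ℤ × (Fin 6 → ℤ) | 3 * p.1 - (Finset.univ.sum fun i => p.2 i) = 3 ∧
      p.1 ^ 2 - (Finset.univ.sum fun i => p.2 i ^ 2) = 1} = e '' (F : Set _) from ?_,
    Set.ncard_image_of_injective _ e_injective, Set.ncard_coe_finset, card_F]
  ext ⟨a, b⟩
  constructor
  · rintro ⟨h1, h2⟩
    obtain ⟨⟨h₁, h₅⟩, hb⟩ := bound (a := a) (b := b) h1 h2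
    have hA : ((a - 1).toNat : ℤ) + 1 = a := by omega
    have hB : ∀ i, ((b i).toNat : ℤ) = b i := fun i => Int.toNat_of_nonneg (hb i).1
    refine ⟨⟨⟨(a - 1).toNat, by omega⟩, fun i => ⟨(b i).toNat, by have := hb i; omega⟩⟩, ?_, ?_⟩
    · simp only [Finset.mem_coe, F, Finset.mem_filter, Finset.mem_univ, true_and]
      constructor <;> zify <;> simp only [hA, hB] <;> linarith
    · exact Prod.ext hA (funext hB)
  · rintro ⟨q, hq, hqe⟩
    simp only [Finset.mem_coe, F, Finset.mem_filter, Finset.mem_univ, true_and] at hq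
    obtain ⟨hq1, hq2⟩ := hq
    zify at hq1 hq2
    simp only [e, Prod.mk.injEq] at hqe
    obtain ⟨rfl, rfl⟩ := hqe
    simp only [Set.mem_setOf_eq]
    constructor <;> linarith

end Groth.Agent.S16519
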