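import Groth.Statements.S1652
import Groth.Agent.S14808
-- import your own Groth.Agent.* helpers here

set_option autoImplicit false
universe u
open CategoryTheory CategoryTheory.Limits AlgebraicGeometry
open Variety

namespace Groth.Agent.S1652

/-- On a proper curve over a field, if L and M are invertible modules with L ⊗ M ≅ O_X and both L and M
have a nonzero global section, then L is isomorphic to the structure sheaf. -/
theorem result (k : Type u) [Field k] (X : Scheme.{u}) [X.Over (Spec (CommRingCat.of k))]
    [IsIntegral X] [IsProper (X ↘ (Spec (CommRingCat.of k)))] (hdim : topologicalKrullDim X = 1)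
    (L M : X.Modules) (hL : PicF.IsInvertible L) (hM : PicF.IsInvertible M) (hLM : ClSub.IsInverseOf L M)
    (s : Coh.structureModule X ⟶ L) (hs : s ≠ 0) (t : Coh.structureModule X ⟶ M) (ht : t ≠ 0) :
    Nonempty (L ≅ Coh.structureModule X) := by
  obtain ⟨e⟩ := hLM
  let σ := s.app ⊤ (show Γ(Coh.structureModule X, ⊤) from (1 : Γ(X, ⊤)))
  let τ := t.app ⊤ (show Γ(Coh.structureModule X, ⊤) from (1 : Γ(X, ⊤)))
  have hσ : σ ≠ 0 := fun h => hs (Groth.Agent.S14808.hom_eq_zero s h)
  have hτ : τ ≠ 0 := fun h => ht (Groth.Agent.S14808.hom_eq_zero t h)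
  haveI : Mono (Groth.Agent.HilbPoly.mulSection L τ) :=
    Groth.Agent.CurveDeg.mono_mulSection_invertible hL hM τ (Groth.Agent.CurveDeg.genOpen_nonempty_of_ne_zero hM hτ)
  refine Groth.Agent.S14808.key (AlgebraicGeometry.isField_of_universallyClosed k (X ↘ Spec (CommRingCat.of k))) L hL σ hσ
    (Groth.Agent.HilbPoly.mulSection L τ ≫ e.hom) fun h0 => ?_
  have h1 : (𝟙 L : L ⟶ L) = 0 := by
    rw [← cancel_mono (Groth.Agent.HilbPoly.mulSection L τ), zero_comp, Category.id_comp,
      ← cancel_mono e.hom, zero_comp]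
    exact h0
  exact hs (by rw [← Category.comp_id s, h1, comp_zero])

end Groth.Agent.S1652
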