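import Groth.Statements.S16539
import Groth.Agent.DispTwenty.Nilp
-- import your own Groth.Agent.* helpers here

set_option autoImplicit false
universe u v
open Disp

namespace Groth.Agent.S16539

theorem isDisplay_iff (p : ℕ) [Fact p.Prime] (k : Type u) [CommRing k] [CharP k p] [PerfectRing k p]
    (M : Type v) [AddCommGroup M] [Module (WittVector p k) M] [Module.Finite (WittVector p k) M]
    [Module.Projective (WittVector p k) M] (Dm : Dieu.DieuMod p k M) (D : W4c1extbt610.Display3n p k M)
    (hQ : ∀ x : M, x ∈ D.Q ↔ x ∈ Set.range Dm.V) (hF : D.F = Dm.F)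
    (hV : ∀ (m : M) (h : Dm.V m ∈ D.Q), D.Vinv ⟨Dm.V m, h⟩ = m) :
    Dieu.IsDisplay D ↔ Dm.VTopNilp := by
  let σ : WittVector p k →+* WittVector p k := WittVector.frobenius
  let P : Ideal (WittVector p k) := Ideal.span {(p : WittVector p k)}
  let Vs : M →ₗ[WittVector p k] Dieu.BC σ M :=
    { toFun := fun x => Dieu.BC.tmul σ 1 (Dm.V x)
      map_add' := fun x y => by rw [map_add, Dieu.BC.tmul_add]
      map_smul' := fun a x => by
        rw [map_smulₛₗ, Groth.Agent.DispTwenty.tmul_smul_right, one_mul, RingHom.id_apply]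
        exact congrArg (· • _) ((WittVector.frobeniusEquiv p k).apply_symm_apply a) }
  have hp : IsNilpotent (p : k) := ⟨1, by rw [pow_one, CharP.cast_eq_zero]⟩
  have hVs : Dieu.IsVSharp D Vs := by
    refine ⟨fun w x => ?_, fun w y => ?_⟩
    · rw [map_smul, hF]
      show w • Dieu.BC.tmul σ 1 (Dm.V (Dm.F x)) = _
      rw [Dm.V_F, Groth.Agent.DispTwenty.tmul_smul_right, one_mul, map_natCast, smul_comm, Dieu.BC.smul_tmul, mul_one]
    · obtain ⟨y, hy⟩ := y
      obtain ⟨m, rfl⟩ := (hQ y).1 hy
      rw [map_smul, hV]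
      show w • Dieu.BC.tmul σ 1 (Dm.V m) = _
      rw [Dieu.BC.smul_tmul, mul_one]
  have hpow : ∀ n x, Dieu.vSharpPow Vs n x = Dieu.BC.tmul (σ ^ (n + 1)) 1 ((⇑Dm.V)^[n + 1] x) := by
    intro n
    induction n with
    | zero =>
      intro x
      rw [Dieu.vSharpPow_zero_apply]
      exact Dieu.BC.castHom_tmul _ _ _ _
    | succ n ih =>
      intro x
      rw [Dieu.vSharpPow_succ_apply,
        show Vs x = Dieu.BC.tmul σ 1 (Dm.V x) from rfl, Dieu.BC.map_tmul, ih, Dieu.BC.lift_tmul, one_smul,
        Dieu.BC.push_tmul, map_one, Dieu.BC.castHom_tmul, ← Function.iterate_succ_apply]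
  have hJ : Groth.Agent.DispTwenty.JV p k = P := by
    refine le_antisymm (sup_le (fun a ha => ?_) le_rfl) le_sup_right
    obtain ⟨b, rfl⟩ := Groth.Agent.DispTwenty.exists_verschiebung ha
    rw [← (WittVector.frobeniusEquiv p k).symm_apply_apply (WittVector.verschiebung b),
      show (WittVector.frobeniusEquiv p k) (WittVector.verschiebung b) = b * (p : WittVector p k) from
        WittVector.frobenius_verschiebung b, map_mul, map_natCast]
    exact Ideal.mul_mem_left _ _ (Ideal.subset_span rfl)
  obtain ⟨r, π, s, h⟩ := Groth.Agent.DispTwenty.exists_coords (WittVector p k) M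
  have hmem : ∀ (n : ℕ) (y : M), Dieu.BC.tmul (σ ^ n) 1 y ∈ P • (⊤ : Submodule (WittVector p k) (Dieu.BC (σ ^ n) M))
      ↔ y ∈ P • (⊤ : Submodule (WittVector p k) M) := by
    intro n y
    rw [Groth.Agent.DispTwenty.mem_smul_top_iff _ h]
    have hb : Function.Bijective (σ ^ n) := by
      rw [RingHom.coe_pow]
      exact (WittVector.frobenius_bijective p k).iterate n
    refine ⟨fun hy => ?_, fun hy j => ?_⟩
    · rw [← Groth.Agent.DispTwenty.sum_smul_gen h y]
      refine Submodule.sum_mem _ fun j _ => Submodule.smul_mem_smul ?_ Submodule.mem_top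
      obtain ⟨a, ha⟩ := Ideal.mem_span_singleton'.1 (hy j)
      obtain ⟨a, rfl⟩ := hb.2 a
      rw [Groth.Agent.DispTwenty.coord_tmul, one_mul, ← map_natCast (σ ^ n) p, ← map_mul] at ha
      exact Ideal.mem_span_singleton'.2 ⟨a, hb.1 ha⟩
    · rw [Groth.Agent.DispTwenty.coord_tmul, one_mul]
      refine Submodule.smul_induction_on hy (fun a ha x _ => ?_) (fun x x' hx hx' => ?_)
      · obtain ⟨a, rfl⟩ := Ideal.mem_span_singleton'.1 ha
        rw [map_smul, Pi.smul_apply, smul_eq_mul, map_mul, map_mul, map_natCast]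
        exact Ideal.mul_mem_right _ _ (Ideal.mul_mem_left _ _ (Ideal.subset_span rfl))
      · rw [map_add, Pi.add_apply, map_add]
        exact add_mem hx hx'
  refine ⟨?_, fun ht => ?_⟩
  · rintro ⟨Vs', hVs', n, hn⟩ e
    obtain ⟨V₀, -, huniq⟩ := Groth.Agent.DispTwenty.existsUnique_isVSharp hp D
    obtain rfl : Vs' = Vs := (huniq _ hVs').trans (huniq _ hVs).symm
    refine ⟨e * (n + 1), ?_⟩
    induction e with
    | zero => simp
    | succ e ih =>
      intro m
      have hfirst : (⇑Dm.V)^[n + 1] m ∈ P • (⊤ : Submodule (WittVector p k) M) := by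
        have h1 := hn m
        rw [hpow] at h1
        exact (hmem (n + 1) _).1 (hJ ▸ h1)
      rw [show (e + 1) * (n + 1) = e * (n + 1) + (n + 1) by ring, Function.iterate_add_apply, pow_succ']
      have key : ∀ (i : ℕ) (x : M), (⇑Dm.V)^[i] ((p : WittVector p k) • x) = (p : WittVector p k) • (⇑Dm.V)^[i] x := by
        intro i
        induction i with
        | zero => exact fun x => rfl
        | succ i hi =>
          intro x
          rw [Function.iterate_succ_apply, Function.iterate_succ_apply, map_smulₛₗ, map_natCast, hi]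
      obtain ⟨z, hz⟩ : ∃ z, (⇑Dm.V)^[n + 1] m = (p : WittVector p k) • z := by
        refine Submodule.smul_induction_on hfirst (fun a ha x _ => ?_) (fun x x' hx hx' => ?_)
        · obtain ⟨b, rfl⟩ := Ideal.mem_span_singleton'.1 ha
          exact ⟨b • x, by rw [smul_smul, mul_comm]⟩
        · obtain ⟨z, rfl⟩ := hx
          obtain ⟨z', rfl⟩ := hx'
          exact ⟨z + z', (smul_add _ _ _).symm⟩
      rw [hz, key, Submodule.mul_smul]
      exact Submodule.smul_mem_smul (Ideal.subset_span rfl) (ih z)
  · obtain ⟨n, hn⟩ := ht 1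
    refine ⟨Vs, hVs, n, fun x => ?_⟩
    have h1 := hn (Dm.V x)
    rw [pow_one, ← Function.iterate_succ_apply] at h1
    rw [show W4c1extbt610.IV p k ⊔ Ideal.span {(p : WittVector p k)} = P from hJ, hpow]
    exact (hmem (n + 1) _).2 h1

/-- Let p be a prime, k a perfect commutative ring of characteristic p, W = W(k) with Frobenius
automorphism σ, and M a finitely generated projective W-module carrying a Dieudonné module
structure, a σ-semilinear F and a σ⁻¹-semilinear V with FV = VF = p. Let D be the associated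
3n-display (M, VM, F, V⁻¹): the 3n-display structure on M whose submodule is the image of V, whose
Frobenius operator is F and whose inverse operator sends V m to m. Then D is a display, i.e. its
operator V# satisfies the nilpotence condition, if and only if V is topologically nilpotent for the
p-adic topology on M: for every e some power of V maps M into p^e M. -/
theorem result (p : ℕ) [Fact p.Prime] (k : Type u) [CommRing k]
    [CharP k p] [PerfectRing k p]
    (M : Type v) [AddCommGroup M] [Module (WittVector p k) M] [Module.Finite (WittVector p k) M]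
    [Module.Projective (WittVector p k) M] (Dm : Dieu.DieuMod p k M) (D : W4c1extbt610.Display3n p k M)
    (hF : D.F = Dm.F) (hQ : ∀ x : M, x ∈ D.Q ↔ x ∈ Set.range Dm.V)
    (hV : ∀ (m : M) (h : Dm.V m ∈ D.Q), D.Vinv ⟨Dm.V m, h⟩ = m) :
    Dieu.IsDisplay D ↔ Dm.VTopNilp := by
  exact isDisplay_iff p k M Dm D hQ hF hV

end Groth.Agent.S16539
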