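import Groth.Statements.S16542
import Groth.Agent.DispTwenty.BaseChange
-- import your own Groth.Agent.* helpers here

set_option autoImplicit false
universe u v
open Disp

namespace Groth.Agent.S16542

theorem mem_Q_iff (p : ℕ) [Fact p.Prime] (S R : Type u) [CommRing S] [CommRing R] (f : S →+* R)
    (hf : Function.Injective f) (P : Type v) [AddCommGroup P] [Module (WittVector p S) P]
    (D : W4c1extbt610.Display3n p S P) (x : P)
    (h : Dieu.BC.tmul (WittVector.map f : WittVector p S →+* WittVector p R) 1 x ∈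
      LinearMap.ker (Dieu.bcQuotMap f D.Q)) : x ∈ D.Q := by
  haveI := D.finite
  haveI := D.projective
  obtain ⟨Sp⟩ := Groth.Agent.DispTwenty.exists_split D
  obtain ⟨r, π, s, hπ⟩ := Groth.Agent.DispTwenty.exists_coords (WittVector p S) P
  rw [← Sp.sum_eq x, ← Groth.Agent.DispTwenty.sum_smul_gen hπ (Sp.πT x)]
  refine add_mem (Sp.memQ x) (Submodule.sum_mem _ fun j _ => Groth.Agent.DispTwenty.mem_Q_smul D ?_ _)
  refine Groth.Agent.DispTwenty.mem_IV_of_coeff_zero (hf ?_)
  have h1 := Groth.Agent.DispTwenty.coeff_zero_of_mem_IV (Groth.Agent.DispTwenty.coord_T_mem f Sp s h j)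
  rw [Dieu.BC.map_tmul, Groth.Agent.DispTwenty.coord_tmul, one_mul, WittVector.map_coeff] at h1
  rw [map_zero]
  exact h1

/-- Let p be a prime, S → R a faithfully flat homomorphism of commutative rings with p nilpotent in S,
(P, Q, F, V⁻¹) a display over S, and (P_R, Q_R, F_R, V_R⁻¹) a 3n-display structure on P_R = W(R)
⊗_{W(S)} P which is its base change along S → R (Q_R the kernel of P_R → R ⊗_S (P/Q), F_R(w ⊗ x) =
σ(w) ⊗ F x, V_R⁻¹(w ⊗ y) = σ(w) ⊗ V⁻¹ y for y ∈ Q, V_R⁻¹(V(w) ⊗ x) = w ⊗ F x). Then for x ∈ P one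
has x ∈ Q if and only if 1 ⊗ x ∈ Q_R: together with the exactness of 0 → P → P_R ⇉ P_{R ⊗ R} this is
the exactness of 0 → Q → Q_R ⇉ Q_{R ⊗ R} at Q. -/
theorem result (p : ℕ) [Fact p.Prime]
    (S R : Type u) [CommRing S] [CommRing R] [Algebra S R] [Module.FaithfullyFlat S R] (hp : IsNilpotent (p : S))
    (P : Type v) [AddCommGroup P] [Module (WittVector p S) P] (D : W4c1extbt610.Display3n p S P)
    (hD : Dieu.IsDisplay D)
    (DR : W4c1extbt610.Display3n p R (Dieu.BC (WittVector.map (algebraMap S R) : WittVector p S →+* WittVector p R) P))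
    (hDR : Dieu.IsDispBaseChange (algebraMap S R) D DR) (x : P) :
    x ∈ D.Q ↔ Dieu.BC.ι (WittVector.map (algebraMap S R) : WittVector p S →+* WittVector p R) P x ∈ DR.Q := by
  rw [Dieu.BC.ι_apply, hDR.Q_eq]
  exact ⟨fun h => Groth.Agent.DispTwenty.tmul_mem_ker _ 1 h,
    mem_Q_iff p S R _ (FaithfulSMul.algebraMap_injective S R) P D x⟩

end Groth.Agent.S16542
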