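import Groth.Statements.S16544
import Groth.Agent.DispRigid.Inj
-- import your own Groth.Agent.* helpers here

set_option autoImplicit false
universe u v
open Disp

namespace Groth.Agent.S16544

theorem eq_zero_of_p_smul {p : ℕ} [Fact p.Prime] {S : Type u} [CommRing S] (hp : IsNilpotent (p : S))
    (hn : IsNilpotent (nilradical S))
    {P P' : Type v} [AddCommGroup P] [Module (WittVector p S) P] [AddCommGroup P'] [Module (WittVector p S) P']
    {D : W4c1extbt610.Display3n p S P} {D' : W4c1extbt610.Display3n p S P'} (hD : Dieu.IsDisplay D)
    {ψ : P →ₗ[WittVector p S] P'} (hψ : W4c1extbt610.IsHom D D' ψ)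
    (h : (p : WittVector p S) • ψ = 0) : ψ = 0 := by
  haveI := D.finite
  haveI := D.projective
  haveI := D'.finite
  haveI := D'.projective
  obtain ⟨r, π, s, hs⟩ := Groth.Agent.DispTwenty.exists_coords (WittVector p S) P
  obtain ⟨r', π', s', hs'⟩ := Groth.Agent.DispTwenty.exists_coords (WittVector p S) P'
  refine Groth.Agent.DispRigid.hom_eq_zero hp hD hs hs' hn hψ fun i j => ?_
  rw [Groth.Agent.DispRigid.inW_iff, RingHom.mem_ker]
  set x := Groth.Agent.DispRigid.homMat ψ π s' i j with hx
  have h1 : (p : WittVector p S) * x = 0 := by
    rw [hx, Groth.Agent.DispRigid.homMat, Matrix.of_apply, ← smul_eq_mul, ← Pi.smul_apply, ← map_smul,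
      ← LinearMap.smul_apply, h]
    simp
  rcases subsingleton_or_nontrivial (S ⧸ nilradical S) with hs0 | hs0
  · exact WittVector.ext fun n => Subsingleton.elim _ _
  haveI : IsReduced (S ⧸ nilradical S) := (Ideal.isRadical_iff_quotient_reduced _).1 (Ideal.radical_isRadical _)
  haveI : CharP (S ⧸ nilradical S) p := (CharP.charP_iff_prime_eq_zero Fact.out).2 (by
    rw [← map_natCast (Ideal.Quotient.mk (nilradical S)), Ideal.Quotient.eq_zero_iff_mem]
    exact hp)
  have h2 := congrArg (WittVector.map (Ideal.Quotient.mk (nilradical S))) h1
  rw [map_mul, map_natCast, map_zero, mul_comm, ← WittVector.frobenius_verschiebung] at h2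
  refine WittVector.verschiebung_injective p _ (WittVector.ext fun n => ?_)
  have h3 := congrArg (fun w => WittVector.coeff w n) h2
  simp only [WittVector.coeff_frobenius_charP, WittVector.zero_coeff] at h3
  rw [map_zero, WittVector.zero_coeff]
  exact pow_eq_zero_iff (Fact.out : p.Prime).ne_zero |>.1 h3

/-- Let p be a prime and S a commutative ring in which p is nilpotent and whose nilradical (the ideal of
nilpotent elements) is a nilpotent ideal; let (P, Q, F, V⁻¹) and (P', Q', F', V'⁻¹) be displays over
S, i.e. 3n-displays whose operators V# satisfy the nilpotence condition. Then the group of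
homomorphisms of displays from P to P' has no p-torsion: a W(S)-linear ψ : P → P' which is a
homomorphism of 3n-displays and satisfies p·ψ = 0 is zero. (The published statement says
torsion-free; primes other than p are units in S, and the published proof treats the prime p.) -/
theorem result (p : ℕ) [Fact p.Prime]
    (S : Type u) [CommRing S] (hp : IsNilpotent (p : S)) (hn : IsNilpotent (nilradical S))
    (P P' : Type v) [AddCommGroup P] [Module (WittVector p S) P] [AddCommGroup P'] [Module (WittVector p S) P']
    (D : W4c1extbt610.Display3n p S P) (D' : W4c1extbt610.Display3n p S P')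
    (hD : Dieu.IsDisplay D) (hD' : Dieu.IsDisplay D')
    (ψ : P →ₗ[WittVector p S] P') (hψ : W4c1extbt610.IsHom D D' ψ)
    (h : (p : WittVector p S) • ψ = 0) : ψ = 0 := by
  exact eq_zero_of_p_smul hp hn hD hψ h

end Groth.Agent.S16544
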