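import Groth.Statements.S16545
import Groth.Agent.WittExact.Basic
import Groth.Agent.S16542
import Groth.Agent.DispTwenty.BaseChange
-- import your own Groth.Agent.* helpers here

set_option autoImplicit false
universe u v
open Disp

namespace Groth.Agent.S16545

theorem flat_of_projective_aux {A : Type u} [CommRing A] {M : Type v} [AddCommGroup M] [Module A M]
    (h : Module.Projective A M) : Module.Flat A M := inferInstance

theorem existsUnique_desc {p : ℕ} [Fact p.Prime] {S R : Type u} [CommRing S] [CommRing R] {f : S →+* R}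
    (hf : Function.Injective f) {P P' : Type v} [AddCommGroup P] [Module (WittVector p S) P] [AddCommGroup P']
    [Module (WittVector p S) P'] {D : W4c1extbt610.Display3n p S P} {D' : W4c1extbt610.Display3n p S P'}
    {DR : W4c1extbt610.Display3n p R (Dieu.BC (WittVector.map f : WittVector p S →+* WittVector p R) P)}
    {DR' : W4c1extbt610.Display3n p R (Dieu.BC (WittVector.map f : WittVector p S →+* WittVector p R) P')}
    (hDR : Dieu.IsDispBaseChange f D DR) (hDR' : Dieu.IsDispBaseChange f D' DR')
    (hι : Function.Injective (Dieu.BC.ι (WittVector.map f : WittVector p S →+* WittVector p R) P'))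
    (χ : Dieu.BC (WittVector.map f : WittVector p S →+* WittVector p R) P →ₗ[WittVector p R]
      Dieu.BC (WittVector.map f : WittVector p S →+* WittVector p R) P')
    (hχ : W4c1extbt610.IsHom DR DR' χ)
    (hrange : ∀ x, χ (Dieu.BC.tmul _ 1 x) ∈ Set.range (Dieu.BC.ι (WittVector.map f : WittVector p S →+* WittVector p R) P')) :
    ∃! ψ : P →ₗ[WittVector p S] P', W4c1extbt610.IsHom D D' ψ ∧
      Dieu.BC.map (WittVector.map f : WittVector p S →+* WittVector p R) ψ = χ := by
  choose ψ₀ hψ₀ using hrange
  let ψ : P →ₗ[WittVector p S] P' :=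
    { toFun := ψ₀
      map_add' := fun x y => hι (by rw [map_add, hψ₀, hψ₀, hψ₀, Dieu.BC.tmul_add, map_add])
      map_smul' := fun a x => hι (by
        rw [map_smulₛₗ, hψ₀, hψ₀, Groth.Agent.DispTwenty.tmul_smul_right, map_smul, one_mul, RingHom.id_apply]) }
  have hψ : ∀ x, Dieu.BC.tmul (WittVector.map f : WittVector p S →+* WittVector p R) 1 (ψ x) =
      χ (Dieu.BC.tmul _ 1 x) := hψ₀
  have hmem : ∀ y ∈ D.Q, Dieu.BC.tmul (WittVector.map f : WittVector p S →+* WittVector p R) 1 y ∈ DR.Q := fun y hy =>
    hDR.Q_eq ▸ Groth.Agent.DispTwenty.tmul_mem_ker f 1 hy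
  have hQ : ∀ y ∈ D.Q, ψ y ∈ D'.Q := fun y hy => by
    refine Groth.Agent.S16542.mem_Q_iff p S R f hf P' D' _ ?_
    rw [← hDR'.Q_eq, hψ]
    exact hχ.mapsTo _ (hmem y hy)
  refine ⟨ψ, ⟨⟨hQ, fun x => hι ?_, fun y => hι ?_⟩, Dieu.BC.ext _ fun x => ?_⟩, fun ψ' h' => ?_⟩
  · rw [Dieu.BC.ι_apply, Dieu.BC.ι_apply, hψ]
    have h1 := hDR.F_tmul 1 x
    rw [map_one] at h1
    rw [← h1, hχ.comm_F, ← hψ, hDR'.F_tmul, map_one]
  · rw [Dieu.BC.ι_apply, Dieu.BC.ι_apply, hψ]
    have h1 := hDR.Vinv_tmul 1 y (hmem _ y.2)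
    rw [map_one] at h1
    have hm : Dieu.BC.tmul (WittVector.map f : WittVector p S →+* WittVector p R) 1 (ψ y) ∈ DR'.Q :=
      hDR'.Q_eq ▸ Groth.Agent.DispTwenty.tmul_mem_ker f 1 (hQ _ y.2)
    have h2 := hDR'.Vinv_tmul 1 ⟨ψ y, hQ _ y.2⟩ hm
    rw [map_one] at h2
    rw [← h1, hχ.comm_Vinv, ← h2]
    exact congrArg DR'.Vinv (Subtype.ext (hψ y).symm)
  · rw [Dieu.BC.map_tmul, hψ]
  · refine LinearMap.ext fun x => hι ?_
    rw [Dieu.BC.ι_apply, Dieu.BC.ι_apply, hψ, ← h'.2, Dieu.BC.map_tmul]

/-- Let p be a prime, S → R a faithfully flat homomorphism of commutative rings with p nilpotent in S,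
ι₁, ι₂ : R → R ⊗_S R the two coprojections, and (P, Q, F, V⁻¹), (P', Q', F', V'⁻¹) displays over S
with base changes (P_R, Q_R, F_R, V_R⁻¹) and (P'_R, Q'_R, F'_R, V'_R⁻¹) along S → R (the 3n-display
structures on W(R) ⊗_{W(S)} P and W(R) ⊗_{W(S)} P' with Q_R = ker(P_R → R ⊗_S P/Q), F_R(w ⊗ x) =
σ(w) ⊗ F x, V_R⁻¹(w ⊗ y) = σ(w) ⊗ V⁻¹ y for y ∈ Q, V_R⁻¹(V(w) ⊗ x) = w ⊗ F x, and likewise for P').
Let χ : P_R → P'_R be a homomorphism of 3n-displays whose two scalar extensions along W(ι₁) and
W(ι₂) agree, after the modules W(R ⊗_S R) ⊗_{W(ι_i),W(R)} (W(R) ⊗_{W(S)} P) are mapped to W(R ⊗_S R)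
⊗_{W(S)} P by the canonical maps u ⊗ (w ⊗ x) ↦ u·W(ι_i)(w) ⊗ x (and likewise for P'). Then there is
exactly one homomorphism of 3n-displays ψ : P → P' over S with id ⊗ ψ = χ: the sequence 0 → Hom(P,
P') → Hom(P_R, P'_R) ⇉ Hom(P_{R⊗R}, P'_{R⊗R}) is exact. The hypotheses e₁, e₂ record that both
composite ring maps W(S) → W(R) → W(R ⊗_S R) equal W(S → R ⊗_S R); they serve to identify targets. -/
theorem result (p : ℕ) [Fact p.Prime]
    (S R : Type u) [CommRing S] [CommRing R] [Algebra S R] [Module.FaithfullyFlat S R] (hp : IsNilpotent (p : S))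
    (e₁ : (WittVector.map (Algebra.TensorProduct.includeLeftRingHom : R →+* TensorProduct S R R) : WittVector p R →+* WittVector p (TensorProduct S R R)).comp (WittVector.map (algebraMap S R) : WittVector p S →+* WittVector p R) = (WittVector.map (algebraMap S (TensorProduct S R R)) : WittVector p S →+* WittVector p (TensorProduct S R R)))
    (e₂ : (WittVector.map ((Algebra.TensorProduct.includeRight : R →ₐ[S] TensorProduct S R R) : R →+* TensorProduct S R R) : WittVector p R →+* WittVector p (TensorProduct S R R)).comp (WittVector.map (algebraMap S R) : WittVector p S →+* WittVector p R) = (WittVector.map (algebraMap S (TensorProduct S R R)) : WittVector p S →+* WittVector p (TensorProduct S R R)))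
    (P P' : Type v) [AddCommGroup P] [Module (WittVector p S) P] [AddCommGroup P'] [Module (WittVector p S) P']
    (D : W4c1extbt610.Display3n p S P) (D' : W4c1extbt610.Display3n p S P')
    (hD : Dieu.IsDisplay D) (hD' : Dieu.IsDisplay D')
    (DR : W4c1extbt610.Display3n p R (Dieu.BC (WittVector.map (algebraMap S R) : WittVector p S →+* WittVector p R) P)) (hDR : Dieu.IsDispBaseChange (algebraMap S R) D DR)
    (DR' : W4c1extbt610.Display3n p R (Dieu.BC (WittVector.map (algebraMap S R) : WittVector p S →+* WittVector p R) P')) (hDR' : Dieu.IsDispBaseChange (algebraMap S R) D' DR')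
    (χ : Dieu.BC (WittVector.map (algebraMap S R) : WittVector p S →+* WittVector p R) P →ₗ[WittVector p R] Dieu.BC (WittVector.map (algebraMap S R) : WittVector p S →+* WittVector p R) P') (hχ : W4c1extbt610.IsHom DR DR' χ)
    (hdesc : ∀ (z₁ : Dieu.BC (WittVector.map (Algebra.TensorProduct.includeLeftRingHom : R →+* TensorProduct S R R) : WittVector p R →+* WittVector p (TensorProduct S R R)) (Dieu.BC (WittVector.map (algebraMap S R) : WittVector p S →+* WittVector p R) P)) (z₂ : Dieu.BC (WittVector.map ((Algebra.TensorProduct.includeRight : R →ₐ[S] TensorProduct S R R) : R →+* TensorProduct S R R) : WittVector p R →+* WittVector p (TensorProduct S R R)) (Dieu.BC (WittVector.map (algebraMap S R) : WittVector p S →+* WittVector p R) P)),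
      (Dieu.BC.castHom (P := P) e₁).comp (Dieu.BC.lift (WittVector.map (Algebra.TensorProduct.includeLeftRingHom : R →+* TensorProduct S R R) : WittVector p R →+* WittVector p (TensorProduct S R R)) (Dieu.BC.push (WittVector.map (algebraMap S R) : WittVector p S →+* WittVector p R) (WittVector.map (Algebra.TensorProduct.includeLeftRingHom : R →+* TensorProduct S R R) : WittVector p R →+* WittVector p (TensorProduct S R R)))) z₁ = (Dieu.BC.castHom (P := P) e₂).comp (Dieu.BC.lift (WittVector.map ((Algebra.TensorProduct.includeRight : R →ₐ[S] TensorProduct S R R) : R →+* TensorProduct S R R) : WittVector p R →+* WittVector p (TensorProduct S R R)) (Dieu.BC.push (WittVector.map (algebraMap S R) : WittVector p S →+* WittVector p R) (WittVector.map ((Algebra.TensorProduct.includeRight : R →ₐ[S] TensorProduct S R R) : R →+* TensorProduct S R R) : WittVector p R →+* WittVector p (TensorProduct S R R)))) z₂ →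
        (Dieu.BC.castHom (P := P') e₁).comp (Dieu.BC.lift (WittVector.map (Algebra.TensorProduct.includeLeftRingHom : R →+* TensorProduct S R R) : WittVector p R →+* WittVector p (TensorProduct S R R)) (Dieu.BC.push (WittVector.map (algebraMap S R) : WittVector p S →+* WittVector p R) (WittVector.map (Algebra.TensorProduct.includeLeftRingHom : R →+* TensorProduct S R R) : WittVector p R →+* WittVector p (TensorProduct S R R)))) (Dieu.BC.map (WittVector.map (Algebra.TensorProduct.includeLeftRingHom : R →+* TensorProduct S R R) : WittVector p R →+* WittVector p (TensorProduct S R R)) χ z₁) =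
          (Dieu.BC.castHom (P := P') e₂).comp (Dieu.BC.lift (WittVector.map ((Algebra.TensorProduct.includeRight : R →ₐ[S] TensorProduct S R R) : R →+* TensorProduct S R R) : WittVector p R →+* WittVector p (TensorProduct S R R)) (Dieu.BC.push (WittVector.map (algebraMap S R) : WittVector p S →+* WittVector p R) (WittVector.map ((Algebra.TensorProduct.includeRight : R →ₐ[S] TensorProduct S R R) : R →+* TensorProduct S R R) : WittVector p R →+* WittVector p (TensorProduct S R R)))) (Dieu.BC.map (WittVector.map ((Algebra.TensorProduct.includeRight : R →ₐ[S] TensorProduct S R R) : R →+* TensorProduct S R R) : WittVector p R →+* WittVector p (TensorProduct S R R)) χ z₂)) :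
    ∃! ψ : P →ₗ[WittVector p S] P', W4c1extbt610.IsHom D D' ψ ∧ Dieu.BC.map (WittVector.map (algebraMap S R) : WittVector p S →+* WittVector p R) ψ = χ := by
  haveI : Module.Flat (WittVector p S) P' := flat_of_projective_aux D'.projective
  have he := e₁.trans e₂.symm
  obtain ⟨hι, hrange⟩ := Groth.Agent.WittExact.bc_equalizer (M := P') _ _ _ he
    (WittVector.map_injective _ (FaithfulSMul.algebraMap_injective S R))
    (Groth.Agent.WittExact.witt_equalizer p S R)
  refine existsUnique_desc (FaithfulSMul.algebraMap_injective S R) hDR hDR' hι χ hχ fun x => (hrange _).1 ?_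
  have h := hdesc (Dieu.BC.tmul _ 1 (Dieu.BC.tmul _ 1 x)) (Dieu.BC.tmul _ 1 (Dieu.BC.tmul _ 1 x)) (by simp)
  simp only [LinearMap.comp_apply, Dieu.BC.map_tmul, Dieu.BC.lift_tmul, one_smul] at h
  have h' := congrArg (Dieu.BC.castHom e₂.symm) h
  rw [Groth.Agent.WittExact.castHom_castHom, Groth.Agent.WittExact.castHom_castHom] at h'
  exact h'

end Groth.Agent.S16545
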