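import Groth.Statements.S16546
import Groth.Agent.DispTwenty.Nilp
-- import your own Groth.Agent.* helpers here

set_option autoImplicit false
universe u v w
open Disp

namespace Groth.Agent.S16546

variable {p : ℕ} [Fact p.Prime] {R : Type u} [CommRing R]

/-- The reduction `W(R) → R / p`. -/
noncomputable def red (p : ℕ) [Fact p.Prime] (R : Type u) [CommRing R] :
    WittVector p R →+* R ⧸ Ideal.span {(p : R)} :=
  (Ideal.Quotient.mk _).comp WittVector.constantCoeff

theorem red_eq_zero_iff (x : WittVector p R) : red p R x = 0 ↔ x ∈ Groth.Agent.DispTwenty.JV p R := by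
  refine ⟨fun h => ?_, fun h => ?_⟩
  · obtain ⟨a, ha⟩ := Ideal.mem_span_singleton'.1 (Ideal.Quotient.eq_zero_iff_mem.1 h)
    rw [← sub_add_cancel x ((p : WittVector p R) * WittVector.teichmuller p a)]
    refine add_mem (Submodule.mem_sup_left (Groth.Agent.DispTwenty.mem_IV_of_coeff_zero ?_))
      (Submodule.mem_sup_right (Ideal.mul_mem_right _ _ (Ideal.subset_span rfl)))
    show (WittVector.constantCoeff : WittVector p R →+* R) (x - _) = 0
    rw [map_sub, map_mul, map_natCast,
      show (WittVector.constantCoeff : WittVector p R →+* R) (WittVector.teichmuller p a) = a from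
        WittVector.teichmuller_coeff_zero p a, mul_comm]
    exact sub_eq_zero.2 ha.symm
  · have hle : Groth.Agent.DispTwenty.JV p R ≤ RingHom.ker (red p R) := by
      refine sup_le (fun y hy => ?_) ?_
      · show Ideal.Quotient.mk _ (WittVector.constantCoeff y) = 0
        rw [show (WittVector.constantCoeff : WittVector p R →+* R) y = 0 from
          Groth.Agent.DispTwenty.coeff_zero_of_mem_IV hy, map_zero]
      · rw [Ideal.span_le, Set.singleton_subset_iff, SetLike.mem_coe, RingHom.mem_ker, map_natCast,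
          ← map_natCast (Ideal.Quotient.mk (Ideal.span {(p : R)})), Ideal.Quotient.eq_zero_iff_mem]
        exact Ideal.subset_span rfl
    exact hle h

theorem red_frobenius (x : WittVector p R) :
    red p R (WittVector.frobenius x) = red p R x ^ p := by
  show Ideal.Quotient.mk _ ((WittVector.frobenius x).coeff 0) = Ideal.Quotient.mk _ (x.coeff 0) ^ p
  rw [WittVector.coeff_frobenius, WittVector.frobeniusPoly, map_add, map_pow, MvPolynomial.aeval_X, map_mul,
    MvPolynomial.aeval_C, map_add, map_pow, map_mul, add_eq_left]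
  refine mul_eq_zero_of_left ?_ _
  rw [eq_intCast, Int.cast_natCast, Ideal.Quotient.eq_zero_iff_mem]
  exact Ideal.subset_span rfl

theorem isDisplay_iff_prod {P : Type v} [AddCommGroup P] [Module (WittVector p R) P] (hp : IsNilpotent (p : R))
    (D : W4c1extbt610.Display3n p R P) (L T : Submodule (WittVector p R) P) (hLT : IsCompl L T) (hLQ : L ≤ D.Q)
    (ιT ιL : Type w) [Fintype ιT] [Fintype ιL] [DecidableEq ιT] [DecidableEq ιL]
    (bT : Module.Basis ιT (WittVector p R) T) (bL : Module.Basis ιL (WittVector p R) L)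
    (α β : Matrix (ιT ⊕ ιL) (ιT ⊕ ιL) (WittVector p R)) (hαβ : α * β = 1)
    (hF : ∀ j : ιT, D.F (bT j : P) =
      Finset.univ.sum fun i : ιT ⊕ ιL => α i (Sum.inl j) • Sum.elim (fun a : ιT => (bT a : P)) (fun a : ιL => (bL a : P)) i)
    (hV : ∀ k : ιL, D.Vinv ⟨(bL k : P), hLQ (bL k).2⟩ =
      Finset.univ.sum fun i : ιT ⊕ ιL => α i (Sum.inr k) • Sum.elim (fun a : ιT => (bT a : P)) (fun a : ιL => (bL a : P)) i) :
    Dieu.IsDisplay D ↔
      ∃ N : ℕ, 0 < N ∧
        (((List.range N).reverse.map fun i : ℕ =>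
            (Matrix.of fun k l : ιL =>
                Ideal.Quotient.mk (Ideal.span {(p : R)}) (WittVector.constantCoeff (β (Sum.inr k) (Sum.inr l)))).map
              fun x : R ⧸ Ideal.span {(p : R)} => x ^ p ^ i).prod
          = 0) := by
  classical
  obtain ⟨Vs, hVs, huniq⟩ := Groth.Agent.DispTwenty.existsUnique_isVSharp hp D
  set Rb := R ⧸ Ideal.span {(p : R)}
  set B : Matrix ιL ιL Rb := Matrix.of fun k l : ιL =>
    Ideal.Quotient.mk (Ideal.span {(p : R)}) (WittVector.constantCoeff (β (Sum.inr k) (Sum.inr l))) with hB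
  have hiff : Dieu.IsDisplay D ↔ Dieu.IsVNilpotent Vs := by
    refine ⟨?_, fun h => ⟨Vs, hVs, h⟩⟩
    rintro ⟨V', h', hn⟩
    exact huniq V' h' ▸ hn
  rw [hiff]
  rcases subsingleton_or_nontrivial Rb with hsub | hnt
  · refine iff_of_true ⟨0, fun x => ?_⟩ ⟨1, one_pos, Subsingleton.elim _ _⟩
    rw [show W4c1extbt610.IV p R ⊔ Ideal.span {(p : WittVector p R)} = ⊤ from
      eq_top_iff.2 fun y _ => (red_eq_zero_iff y).1 (Subsingleton.elim _ _), Submodule.top_smul]
    exact Submodule.mem_top
  haveI : CharP Rb p := (CharP.charP_iff_prime_eq_zero Fact.out).2 (by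
    rw [← map_natCast (Ideal.Quotient.mk (Ideal.span {(p : R)})), Ideal.Quotient.eq_zero_iff_mem]
    exact Ideal.subset_span rfl)
  let e : Module.Basis (ιT ⊕ ιL) (WittVector p R) P :=
    (bT.prod bL).map (Submodule.prodEquivOfIsCompl T L hLT.symm)
  have he : ∀ i, e i = Sum.elim (fun a : ιT => (bT a : P)) (fun a : ιL => (bL a : P)) i := by
    rintro (i | i) <;> simp [e]
  let q : (ιT ⊕ ιL) ≃ Fin (Fintype.card (ιT ⊕ ιL)) := Fintype.equivFin _
  let eq := e.reindex q
  let π : (Fin (Fintype.card (ιT ⊕ ιL)) → WittVector p R) →ₗ[WittVector p R] P := eq.equivFun.symm.toLinearMap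
  let s : P →ₗ[WittVector p R] (Fin (Fintype.card (ιT ⊕ ιL)) → WittVector p R) := eq.equivFun.toLinearMap
  have h : π ∘ₗ s = LinearMap.id := LinearMap.ext fun x => eq.equivFun.symm_apply_apply x
  have hgen : ∀ i, Groth.Agent.DispTwenty.gen π (q i) = e i := fun i => by
    simp [Groth.Agent.DispTwenty.gen, π, eq, Module.Basis.equivFun_symm_apply, Pi.single_apply]
  let c : ιT ⊕ ιL → WittVector p R := Sum.elim (fun _ => (p : WittVector p R)) (fun _ => 1)
  let u : ιT ⊕ ιL → Dieu.BC (WittVector.frobenius : WittVector p R →+* WittVector p R) P :=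
    fun k => Dieu.BC.tmul _ 1 (e k)
  have hcol : ∀ k, ∑ i, α i k • Vs (e i) = c k • u k := by
    intro k
    rw [← (funext fun i => (map_smul Vs (α i k) (e i))), ← map_sum]
    rcases k with j | k
    · have h1 := hVs.app_smul_F 1 (bT j : P)
      rw [one_smul, hF] at h1
      simp only [he, c, u, Sum.elim_inl]
      exact h1
    · have h1 := hVs.app_smul_Vinv 1 ⟨(bL k : P), hLQ (bL k).2⟩
      rw [one_smul, hV] at h1
      simp only [he, c, u, Sum.elim_inr, one_smul]
      exact h1
  have hVe : ∀ i, Vs (e i) = ∑ k, (β k i * c k) • u k := by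
    intro i
    simp only [mul_smul, ← hcol, Finset.smul_sum]
    rw [Finset.sum_comm]
    simp only [smul_smul, ← Finset.sum_smul]
    have h1 : ∀ l, ∑ k, β k i * α l k = (1 : Matrix (ιT ⊕ ιL) (ιT ⊕ ιL) (WittVector p R)) l i := fun l => by
      rw [← hαβ, Matrix.mul_apply]
      exact Finset.sum_congr rfl fun k _ => mul_comm _ _
    simp [h1, Matrix.one_apply]
  let Z : ℕ → Matrix (ιT ⊕ ιL) (ιT ⊕ ιL) Rb := fun n =>
    ((Groth.Agent.DispTwenty.mat Vs π s n).map (red p R)).submatrix q q
  have hZ0 : Z 0 = Matrix.fromBlocks 0 (Matrix.of fun i k => red p R (β (Sum.inr k) (Sum.inl i))) 0 B.transpose := by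
    have hm : ∀ i k, Z 0 i k = red p R (β k i * c k) := fun i k => by
      show red p R (Groth.Agent.DispTwenty.mat Vs π s 0 (q i) (q k)) = _
      congr 1
      simp only [Groth.Agent.DispTwenty.mat, Matrix.of_apply, Dieu.vSharpPow_zero_apply,
        Groth.Agent.DispTwenty.coord_castHom, hgen, hVe, map_sum, map_smul, Finset.sum_apply, Pi.smul_apply,
        Groth.Agent.DispTwenty.coord_tmul, u, one_mul, smul_eq_mul]
      rw [Finset.sum_eq_single k]
      · simp [s, eq, Finsupp.single_apply]
      · intro l _ hl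
        simp [s, eq, Finsupp.single_apply, hl]
      · simp
    have hp0 : red p R (p : WittVector p R) = 0 := (map_natCast (red p R) p).trans (CharP.cast_eq_zero Rb p)
    ext (i | i) (k | k) <;> rw [hm] <;> simp [c, hp0, B] <;> rfl
  have hstep : ∀ n, Z (n + 1) = Z 0 * (Z n).map (frobenius Rb p) := by
    intro n
    show ((Groth.Agent.DispTwenty.mat Vs π s (n + 1)).map (red p R)).submatrix q q = _
    rw [Groth.Agent.DispTwenty.mat_succ h, Matrix.map_mul, ← Matrix.submatrix_mul_equiv _ _ _ q]
    congr 1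
    ext i k
    simp [Z, red_frobenius, frobenius_def]
  let E : ℕ → Matrix ιL ιL Rb := fun n =>
    ((List.range (n + 1)).reverse.map fun i : ℕ => B.map fun x : Rb => x ^ p ^ i).prod
  have hE : ∀ n, E (n + 1) = (E n).map (frobenius Rb p) * B := by
    intro n
    simp only [E]
    rw [List.range_succ_eq_map, List.reverse_cons, List.map_append, List.prod_append, List.map_singleton,
      List.prod_singleton, ← List.map_reverse, List.map_map,
      ← RingHom.mapMatrix_apply, map_list_prod, List.map_map]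
    refine congrArg₂ (· * ·) (congrArg List.prod (List.map_congr_left fun i _ => ?_)) (Matrix.ext fun a b => ?_)
    · ext a b
      simp [frobenius_def, ← pow_mul, pow_succ]
    · simp
  have hE0 : E 0 = B := by
    ext a b
    simp [E]
  have hZ : ∀ n, ∃ G, Z n = Matrix.fromBlocks 0 G 0 (E n).transpose ∧
      ∀ m, n = m + 1 → E m = 0 → G = 0 := by
    intro n
    induction n with
    | zero => exact ⟨_, by rw [hZ0, hE0], fun m hm => absurd hm (by omega)⟩
    | succ n ih =>
      obtain ⟨G, hG, -⟩ := ih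
      refine ⟨(Matrix.of fun i k => red p R (β (Sum.inr k) (Sum.inl i))) * (E n).transpose.map (frobenius Rb p),
        ?_, fun m hm hm0 => ?_⟩
      · rw [hstep, hZ0, hG, Matrix.fromBlocks_map, Matrix.fromBlocks_multiply, hE, Matrix.transpose_mul,
          Matrix.transpose_map]
        simp [Matrix.map_zero]
      · obtain rfl : m = n := by omega
        rw [hm0]
        simp [Matrix.map_zero]
  have hnil : Dieu.IsVNilpotent Vs ↔ ∃ n, Z n = 0 := by
    refine exists_congr fun n => (Groth.Agent.DispTwenty.forall_mem_iff h (Groth.Agent.DispTwenty.JV p R) n).trans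
      ⟨fun hn => Matrix.ext fun i k => (red_eq_zero_iff _).2 (hn _ _), fun hn i k => ?_⟩
    have := congrFun (congrFun hn (q.symm i)) (q.symm k)
    simp only [Z, Matrix.submatrix_apply, Matrix.map_apply, Equiv.apply_symm_apply, Matrix.zero_apply] at this
    exact (red_eq_zero_iff _).1 this
  rw [hnil]
  refine ⟨fun ⟨n, hn⟩ => ⟨n + 1, n.succ_pos, ?_⟩, fun ⟨N, hN, hN0⟩ => ?_⟩
  · obtain ⟨G, hG, -⟩ := hZ n
    rw [hn, eq_comm, ← Matrix.fromBlocks_zero, Matrix.fromBlocks_inj] at hG
    exact Matrix.transpose_eq_zero.1 hG.2.2.2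
  · obtain ⟨n, rfl⟩ := Nat.exists_eq_succ_of_ne_zero hN.ne'
    obtain ⟨G, hG, hG0⟩ := hZ (n + 1)
    refine ⟨n + 1, ?_⟩
    have hn0 : E n = 0 := hN0
    rw [hG, hG0 n rfl hn0, hE, hn0]
    simp [Matrix.map_zero]

/-- Let p be a prime and R a commutative ring in which p is nilpotent (in particular every prime number
other than p is a unit in R); write W = W(R) with Frobenius σ, Verschiebung V, I_R = V(W) and w₀ : W
→ R for the zeroth Witt component. Let (P, Q, F, V⁻¹) be a 3n-display over R with a normal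
decomposition P = L ⊕ T, Q = L + I_R·T in which T and L are free with finite bases (t_j) and (l_k).
Let α be the square matrix over W, indexed by the disjoint union of the two index sets, such that
F(t_j) = Σ_i α_{i,j} e_i and V⁻¹(l_k) = Σ_i α_{i,k} e_i, where (e_i) is the basis of P formed by the
t_j followed by the l_k, and let β be a two-sided inverse of α. Let B be the square block of β on
the L-indices, reduced to R/pR through w₀, and write B^{(p^i)} for the matrix whose entries are the
p^i-th powers of those of B. Then (P, Q, F, V⁻¹) is a display, i.e. its operator V# satisfies the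
nilpotence condition, if and only if B^{(p^{N-1})} ⋯ B^{(p)} · B = 0 for some N ≥ 1. -/
theorem result (p : ℕ) [Fact p.Prime] (R : Type u) [CommRing R]
    (hR : ∀ ℓ : ℕ, ℓ.Prime → ℓ ≠ p → IsUnit (ℓ : R)) (hp : IsNilpotent (p : R))
    (P : Type v) [AddCommGroup P] [Module (WittVector p R) P] (D : W4c1extbt610.Display3n p R P)
    (L T : Submodule (WittVector p R) P) (hLT : IsCompl L T)
    (hQ : D.Q = L ⊔ W4c1extbt610.IV p R • T) (hLQ : L ≤ D.Q)
    (ιT ιL : Type w) [Fintype ιT] [Fintype ιL] [DecidableEq ιT] [DecidableEq ιL]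
    (bT : Module.Basis ιT (WittVector p R) T) (bL : Module.Basis ιL (WittVector p R) L)
    (α β : Matrix (ιT ⊕ ιL) (ιT ⊕ ιL) (WittVector p R)) (hαβ : α * β = 1) (hβα : β * α = 1)
    (hF : ∀ j : ιT, D.F (bT j : P) =
      Finset.univ.sum fun i : ιT ⊕ ιL => α i (Sum.inl j) • Sum.elim (fun a : ιT => (bT a : P)) (fun a : ιL => (bL a : P)) i)
    (hV : ∀ k : ιL, D.Vinv ⟨(bL k : P), hLQ (bL k).2⟩ =
      Finset.univ.sum fun i : ιT ⊕ ιL => α i (Sum.inr k) • Sum.elim (fun a : ιT => (bT a : P)) (fun a : ιL => (bL a : P)) i) :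
    Dieu.IsDisplay D ↔
      ∃ N : ℕ, 0 < N ∧
        (((List.range N).reverse.map fun i : ℕ =>
            (Matrix.of fun k l : ιL =>
                Ideal.Quotient.mk (Ideal.span {(p : R)}) (WittVector.constantCoeff (β (Sum.inr k) (Sum.inr l)))).map
              fun x : R ⧸ Ideal.span {(p : R)} => x ^ p ^ i).prod
          = 0) := by
  exact isDisplay_iff_prod hp D L T hLT hLQ ιT ιL bT bL α β hαβ hF hV

end Groth.Agent.S16546
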