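import Groth.Statements.S16572
import Mathlib
-- import your own Groth.Agent.* helpers here

set_option autoImplicit false
universe u
open CAlg

namespace Groth.Agent.S16572

open Polynomial in
theorem core (A : Type u) [CommRing A] (ι : Type u) (Pf : ι → A[X]) (hPf : ∀ i, (Pf i).Monic ∧ 0 < (Pf i).natDegree)
    (hall : ∀ P : A[X], P.Monic → 0 < P.natDegree → ∃ i, Pf i = P)
    (T : Type u) [CommRing T] [Algebra A T] (z : ι → T) (hz : ∀ i, aeval (z i) (Pf i) = 0)
    (hgen : Algebra.adjoin A (Set.range z) = ⊤)
    (huniv : ∀ (K : Type u) [CommRing K] [Algebra A K] (w : ι → K), (∀ i, aeval (w i) (Pf i) = 0) → Nonempty (T →ₐ[A] K)) :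
    Function.Surjective (PrimeSpectrum.comap (algebraMap A T)) ∧
      ∀ (Q : Ideal T) [Q.IsPrime], IsAlgClosed Q.ResidueField ∧
        (Ideal.ResidueField.map (Q.comap (algebraMap A T)) Q (algebraMap A T) rfl).IsIntegral := by
  have hint : Algebra.IsIntegral A T := by
    refine ⟨fun t => ?_⟩
    have h1 : Algebra.adjoin A (Set.range z) ≤ integralClosure A T :=
      Algebra.adjoin_le (by rintro _ ⟨i, rfl⟩; exact ⟨Pf i, (hPf i).1, hz i⟩)
    exact h1 (hgen ▸ Algebra.mem_top)
  constructor
  · intro p
    let K := AlgebraicClosure p.asIdeal.ResidueField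
    have hw : ∀ i, ∃ w : K, aeval w (Pf i) = 0 := fun i => by
      obtain ⟨w, hw⟩ := IsAlgClosed.exists_root ((Pf i).map (algebraMap A K)) (by
        rw [degree_eq_natDegree ((hPf i).1.map _).ne_zero, (hPf i).1.natDegree_map]
        exact_mod_cast (hPf i).2.ne')
      exact ⟨w, by rwa [IsRoot, eval_map, ← aeval_def] at hw⟩
    choose w hw using hw
    obtain ⟨φ⟩ := huniv K w hw
    refine ⟨⟨RingHom.ker φ.toRingHom, RingHom.ker_isPrime _⟩, PrimeSpectrum.ext (Ideal.ext fun a => ?_)⟩
    show φ (algebraMap A T a) = 0 ↔ _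
    rw [AlgHom.commutes, IsScalarTower.algebraMap_apply A p.asIdeal.ResidueField K, map_eq_zero,
      Ideal.algebraMap_residueField_eq_zero]
  · intro Q _
    set q := Q.comap (algebraMap A T) with hq
    let ρ := Ideal.ResidueField.map q Q (algebraMap A T) rfl
    letI : Algebra q.ResidueField Q.ResidueField := ρ.toAlgebra
    have hρ : ∀ a : A, algebraMap q.ResidueField Q.ResidueField (algebraMap A q.ResidueField a) =
        algebraMap T Q.ResidueField (algebraMap A T a) := fun a => Ideal.ResidueField.map_algebraMap _ _ _ _ a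
    haveI : IsScalarTower A q.ResidueField Q.ResidueField := IsScalarTower.of_algebraMap_eq fun a => by
      rw [hρ, ← IsScalarTower.algebraMap_apply]
    have hT : ∀ t : T, IsIntegral q.ResidueField (algebraMap T Q.ResidueField t) := fun t =>
      ((hint.isIntegral t).map (IsScalarTower.toAlgHom A T Q.ResidueField)).tower_top
    haveI halg : Algebra.IsAlgebraic q.ResidueField Q.ResidueField := ⟨fun x => by
      obtain ⟨a, b, -, rfl⟩ := IsFractionRing.div_surjective (T ⧸ Q) x
      obtain ⟨a, rfl⟩ := Ideal.Quotient.mk_surjective a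
      obtain ⟨b, rfl⟩ := Ideal.Quotient.mk_surjective b
      rw [div_eq_mul_inv]
      exact (hT a).isAlgebraic.mul (hT b).isAlgebraic.inv⟩
    refine ⟨?_, fun x => (halg.isAlgebraic x).isIntegral⟩
    haveI : IsAlgClosure q.ResidueField Q.ResidueField := IsAlgClosure.of_exists_root fun p hp hirr => by
      have h1 := IsLocalization.scaleRoots_commonDenom_mem_lifts (nonZeroDivisors (A ⧸ q)) p
        ⟨1, by rw [map_one, hp.leadingCoeff]⟩
      set s := algebraMap (A ⧸ q) q.ResidueField
        (IsLocalization.commonDenom (nonZeroDivisors (A ⧸ q)) p.support p.coeff) with hs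
      have hs0 : s ≠ 0 := (IsLocalization.map_units q.ResidueField
        (IsLocalization.commonDenom (nonZeroDivisors (A ⧸ q)) p.support p.coeff)).ne_zero
      have h2 : p.scaleRoots s ∈ lifts (algebraMap A q.ResidueField) := by
        rw [lifts_iff_coeff_lifts] at h1 ⊢
        intro n
        obtain ⟨c, hc⟩ := h1 n
        obtain ⟨a, rfl⟩ := Ideal.Quotient.mk_surjective c
        exact ⟨a, by rw [← hc]; rfl⟩
      obtain ⟨P, hP, hPd, hPm⟩ := lifts_and_natDegree_eq_and_monic h2 ((monic_scaleRoots_iff s).mpr hp)
      obtain ⟨i, hi⟩ := hall P hPm (by rw [hPd, natDegree_scaleRoots]; exact hirr.natDegree_pos)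
      set y := algebraMap T Q.ResidueField (z i) with hy
      have hy0 : aeval y (p.scaleRoots s) = 0 := by
        rw [← hP, aeval_map_algebraMap, hy, aeval_algebraMap_apply, ← hi, hz, map_zero]
      refine ⟨(algebraMap q.ResidueField Q.ResidueField s)⁻¹ * y, ?_⟩
      have h3 := scaleRoots_eval₂_mul (p := p) (algebraMap q.ResidueField Q.ResidueField)
        ((algebraMap q.ResidueField Q.ResidueField s)⁻¹ * y) s
      rw [mul_inv_cancel_left₀ ((_root_.map_ne_zero _).mpr hs0), ← aeval_def, hy0] at h3
      exact (mul_eq_zero.mp h3.symm).resolve_left (pow_ne_zero _ ((_root_.map_ne_zero _).mpr hs0))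
    exact IsAlgClosure.isAlgClosed q.ResidueField

/-- Let A be a commutative ring and T the quotient of the polynomial ring over A in indeterminates X_P,
one for each monic polynomial P over A of positive degree, by the ideal generated by the elements
P(X_P). Then the map on prime spectra Spec T → Spec A is surjective, and for every prime ideal Q of
T, with p its contraction to A, the residue field of Q is algebraically closed and integral over the
residue field of p under the induced map of residue fields (so it is an algebraic closure of it). -/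
theorem result (A : Type u) [CommRing A] :
    Function.Surjective (PrimeSpectrum.comap (algebraMap A (MvPolynomial {P : Polynomial A // P.Monic ∧ 0 < P.natDegree} A ⧸
      Ideal.span (Set.range fun P : {P : Polynomial A // P.Monic ∧ 0 < P.natDegree} =>
        Polynomial.aeval (MvPolynomial.X (R := A) P) P.1)))) ∧
    ∀ (Q : Ideal (MvPolynomial {P : Polynomial A // P.Monic ∧ 0 < P.natDegree} A ⧸
      Ideal.span (Set.range fun P : {P : Polynomial A // P.Monic ∧ 0 < P.natDegree} =>
        Polynomial.aeval (MvPolynomial.X (R := A) P) P.1))) [Q.IsPrime],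
      IsAlgClosed Q.ResidueField ∧
      (Ideal.ResidueField.map (Q.comap (algebraMap A (MvPolynomial {P : Polynomial A // P.Monic ∧ 0 < P.natDegree} A ⧸
      Ideal.span (Set.range fun P : {P : Polynomial A // P.Monic ∧ 0 < P.natDegree} =>
        Polynomial.aeval (MvPolynomial.X (R := A) P) P.1)))) Q (algebraMap A (MvPolynomial {P : Polynomial A // P.Monic ∧ 0 < P.natDegree} A ⧸
      Ideal.span (Set.range fun P : {P : Polynomial A // P.Monic ∧ 0 < P.natDegree} =>
        Polynomial.aeval (MvPolynomial.X (R := A) P) P.1))) rfl).IsIntegral := by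
  set ι := {P : Polynomial A // P.Monic ∧ 0 < P.natDegree}
  set I := Ideal.span (Set.range fun P : ι => Polynomial.aeval (MvPolynomial.X (R := A) P) P.1)
  refine core A ι (fun P => P.1) (fun P => P.2) (fun P h1 h2 => ⟨⟨P, h1, h2⟩, rfl⟩) (MvPolynomial ι A ⧸ I)
    (fun P => Ideal.Quotient.mk I (MvPolynomial.X P)) ?_ ?_ ?_
  · intro P
    rw [show Ideal.Quotient.mk I (MvPolynomial.X P) = Ideal.Quotient.mkₐ A I (MvPolynomial.X P) from rfl,
      Polynomial.aeval_algHom_apply]
    exact Ideal.Quotient.eq_zero_iff_mem.mpr (Ideal.subset_span ⟨P, rfl⟩)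
  · rw [Set.range_comp' (Ideal.Quotient.mk I) (MvPolynomial.X (R := A)),
      show (Ideal.Quotient.mk I : MvPolynomial ι A → _) = Ideal.Quotient.mkₐ A I from rfl,
      ← AlgHom.map_adjoin, MvPolynomial.adjoin_range_X, Algebra.map_top, AlgHom.range_eq_top]
    exact Ideal.Quotient.mkₐ_surjective A I
  · intro K _ _ w hw
    refine ⟨Ideal.Quotient.liftₐ I (MvPolynomial.aeval w) fun t ht => ?_⟩
    refine (show I ≤ RingHom.ker (MvPolynomial.aeval (R := A) w) from Ideal.span_le.mpr ?_) ht
    rintro _ ⟨P, rfl⟩
    show MvPolynomial.aeval w (Polynomial.aeval _ _) = 0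
    rw [← Polynomial.aeval_algHom_apply, MvPolynomial.aeval_X, hw]

end Groth.Agent.S16572
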