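import Groth.Statements.S16602
import Groth.Agent.LGLib.Rank
-- import your own Groth.Agent.* helpers here

set_option autoImplicit false
universe u v w
open Brauer

namespace Groth.Agent.S16602

/-- Let R be an LG-ring with Spec R connected and A an Azumaya R-algebra. Then any two indecomposable
finitely generated projective left A-modules are isomorphic (a module is indecomposable when it is
non-zero and the only idempotents of its endomorphism ring are 0 and 1). (This extends the semilocal
case.) -/
theorem result {R : Type u} [CommRing R]
    (hR : LGRing.IsLGRing R) [ConnectedSpace (PrimeSpectrum R)] {A : Type v} [Ring A] [Algebra R A] [IsAzumaya R A]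
    (P Q : Type w) [AddCommGroup P] [Module A P] [Module.Finite A P] [Module.Projective A P] [Nontrivial P]
    [AddCommGroup Q] [Module A Q] [Module.Finite A Q] [Module.Projective A Q] [Nontrivial Q]
    (hP : ∀ e : Module.End A P, IsIdempotentElem e → e = 0 ∨ e = 1)
    (hQ : ∀ e : Module.End A Q, IsIdempotentElem e → e = 0 ∨ e = 1) : Nonempty (P ≃ₗ[A] Q) := by
  letI : Module R P := Module.compHom P (algebraMap R A)
  letI : Module R Q := Module.compHom Q (algebraMap R A)
  haveI : IsScalarTower R A P := IsScalarTower.of_algebraMap_smul fun _ _ => rfl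
  haveI : IsScalarTower R A Q := IsScalarTower.of_algebraMap_smul fun _ _ => rfl
  haveI : Module.Finite R P := Module.Finite.trans A P
  haveI : Module.Finite R Q := Module.Finite.trans A Q
  haveI := Groth.Agent.LGLib.projective_restrict (R := R) (A := A) P
  haveI := Groth.Agent.LGLib.projective_restrict (R := R) (A := A) Q
  haveI := Module.finitePresentation_of_projective R P
  haveI := Module.finitePresentation_of_projective R Q
  have key : ∀ (X Y : Type w) [AddCommGroup X] [Module A X] [Nontrivial Y] [AddCommGroup Y] [Module A Y]
      [Module.Projective A Y], (∀ e : Module.End A X, IsIdempotentElem e → e = 0 ∨ e = 1) →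
      (∃ f : X →ₗ[A] Y, Function.Surjective f) → Nonempty (X ≃ₗ[A] Y) := by
    intro X Y _ _ _ _ _ _ hX ⟨f, hf⟩
    obtain ⟨g, hg⟩ := Module.projective_lifting_property f LinearMap.id hf
    have hfg : ∀ y, f (g y) = y := LinearMap.congr_fun hg
    rcases hX (g.comp f) (LinearMap.ext fun x => congrArg g (hfg (f x))) with h | h
    · obtain ⟨y, hy⟩ := exists_ne (0 : Y)
      obtain ⟨x, rfl⟩ := hf y
      have : g (f x) = 0 := LinearMap.congr_fun h x
      exact absurd (by rw [← hfg (f x), this, map_zero]) hy
    · exact ⟨LinearEquiv.ofLinear f g hg h⟩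
  obtain ⟨a, ha⟩ := Module.isLocallyConstant_rankAtStalk (R := R) (M := P) |>.exists_eq_const
  obtain ⟨b, hb⟩ := Module.isLocallyConstant_rankAtStalk (R := R) (M := Q) |>.exists_eq_const
  rcases le_total b a with h | h
  · exact key P Q hP (Groth.Agent.LGLib.exists_surj (R := R) hR P Q fun p => by rw [ha, hb]; exact h)
  · obtain ⟨e⟩ := key Q P hQ (Groth.Agent.LGLib.exists_surj (R := R) hR Q P fun p => by rw [ha, hb]; exact h)
    exact ⟨e.symm⟩


end Groth.Agent.S16602
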