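import Groth.Statements.S16607
import Groth.Agent.LGLib.Corner
-- import your own Groth.Agent.* helpers here

set_option autoImplicit false
universe u v
open Brauer

open scoped TensorProduct

namespace Groth.Agent.S16607

/-- Let R be an LG-ring, A and B Azumaya R-algebras and n ≥ 1. If Mₙ(A) ≅ Mₙ(B) as R-algebras then A ≅ B
as R-algebras (cancellation of Azumaya algebras). -/
theorem result {R : Type u} [CommRing R]
    (hR : LGRing.IsLGRing R) (A B : Type v) [Ring A] [Algebra R A] [IsAzumaya R A] [Ring B] [Algebra R B]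
    [IsAzumaya R B] (n : ℕ) (hn : 0 < n)
    (e : Matrix (Fin n) (Fin n) A ≃ₐ[R] Matrix (Fin n) (Fin n) B) : Nonempty (A ≃ₐ[R] B) := by
  classical
  haveI : Nonempty (Fin n) := ⟨⟨0, hn⟩⟩
  let E : ∀ (X : Type v) [Ring X] [Algebra R X],
      Matrix (Fin n) (Fin n) X ≃ₐ[R] X ⊗[R] Module.End R (Fin n → R) := fun X _ _ =>
    (matrixEquivTensor (Fin n) R X).trans (Algebra.TensorProduct.congr AlgEquiv.refl algEquivMatrix'.symm)
  have hdeg : ∀ p : PrimeSpectrum R, Module.rankAtStalk A p = Module.rankAtStalk B p := fun p => by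
    haveI := p.nontrivial
    have h := congrFun (Module.rankAtStalk_eq_of_equiv (((E A).symm.trans e).trans (E B)).toLinearEquiv) p
    rw [Module.rankAtStalk_tensorProduct, Module.rankAtStalk_tensorProduct, Pi.mul_apply, Pi.mul_apply] at h
    refine Nat.eq_of_mul_eq_mul_right ?_ h
    rw [Groth.Agent.LGLib.rankAtStalk_end, Module.rankAtStalk_eq_finrank_of_free]
    simp [hn]
  haveI : FaithfulSMul R (Fin n → R) := ⟨fun {a b} h => by simpa using congrFun (h 1) ⟨0, hn⟩⟩
  exact Groth.Agent.LGLib.nonempty_algEquiv hR A B hdeg (Fin n → R) (Fin n → R)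
    (((E A).symm.trans e).trans (E B))


end Groth.Agent.S16607
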