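import Groth.Statements.S16627
import Groth.Agent.ProjCoh.Exact
-- import your own Groth.Agent.* helpers here

set_option autoImplicit false
universe u
open Variety

namespace Groth.Agent.S16627

open AlgebraicGeometry CategoryTheory CategoryTheory.Limits in
/-- Let k be a field, F a coherent module on projective n-space P^n_k which is m-regular, and ι : F ⊗
O(-1) → F a monomorphism of O-modules (such as multiplication by a linear form that is a
nonzerodivisor on F, i.e. a hyperplane avoiding the associated points of F). Then the cokernel of ι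
— the restriction of F to the hyperplane, as a module on P^n_k — is again m-regular. (Stated for an
arbitrary monomorphism F(-1) → F and an arbitrary ground field.) -/
theorem result (k : Type u) [Field k] (n : ℕ)
    (F : (CohB1.ProjSpace n k).Modules) (hF : Coh.IsCoh F) (m : ℤ) (hreg : Curv2.IsMRegular k n F m)
    (ι : CohB1.tensorMod F (Twist.twistProjSpace n k (-1)) ⟶ F) [Mono ι] :
    Curv2.IsMRegular k n (cokernel ι) m := by
  intro i hi hin
  let F' : (Proj (CohB1.polyGrading n k)).Modules := F
  let L := CohB1.tensorMod F' (Twist.twist (CohB1.polyGrading n k) (-1))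
  let ι' : L ⟶ F' := ι
  haveI : Mono ι' := (inferInstance : Mono ι)
  haveI hFq : F'.IsQuasicoherent := hF.1
  haveI hLq : L.IsQuasicoherent :=
    ProjCoh.isQuasicoherent_tensor_of_gen F' (ProjCoh.locFreeGen_twist (n := n) (R := k) (-1))
  haveI : (cokernel ι').IsQuasicoherent := QCohLib.isQuasicoherent_cokernel ι'
  let S : ShortComplex (Proj (CohB1.polyGrading n k)).Modules :=
    ShortComplex.mk ι' (cokernel.π ι') (cokernel.condition ι')
  have hS : S.ShortExact :=
    { exact := ShortComplex.exact_of_g_is_cokernel _ (cokernelIsCokernel ι') }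
  haveI : S.X₁.IsQuasicoherent := hLq
  haveI : S.X₂.IsQuasicoherent := hFq
  haveI : S.X₃.IsQuasicoherent := (inferInstance : (cokernel ι').IsQuasicoherent)
  have hses := ProjCoh.ses_twSecHom hS (m - i)
  have hall : ∀ (j : ℕ) (r : ℤ), 1 ≤ j → m - j ≤ r → Subsingleton (((ProjCoh.ofModule F').twSys r).H j) :=
    fun j r hj hr => (ProjCoh.subsingleton_twist_iff F' r j).1 (ProjCoh.regular_propagates F hF.1 m hreg j r hj hr)
  haveI : Subsingleton (((ProjCoh.ofModule S.X₂).twSys (m - i)).H i) := hall i _ hi le_rfl
  haveI : Subsingleton (((ProjCoh.ofModule S.X₁).twSys (m - i)).H (i + 1)) := by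
    haveI := hall (i + 1) (-1 + (m - i)) (by omega) (by push_cast; omega)
    exact (ProjCoh.bijective_mapH (ProjCoh.twTwHom F' (-1) (m - i) hLq)
      (fun s hs => ProjCoh.twModHom_bijective F' (-1) s hs) (i + 1)).2.subsingleton
  exact (ProjCoh.subsingleton_twist_iff (cokernel ι') (m - i) i).2 (hses.subsingleton_right i)

end Groth.Agent.S16627
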