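import Groth.Statements.S1664
import Groth.Agent.InvPow.GGSections
import Groth.Agent.InvPow.VeryAmpleTwist
-- import your own Groth.Agent.* helpers here

set_option autoImplicit false
universe u
open CategoryTheory CategoryTheory.Limits AlgebraicGeometry
open Variety

namespace Groth.Agent.S1664

/-- Let X be quasi-compact. Suppose every point of X lies in the locus where some global section s of
some globally generated invertible module L generates L, with that locus affine. Then X has an ample
invertible module. -/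
theorem result (X : Scheme.{u}) [CompactSpace X]
    (h : ∀ x : X, ∃ (L : X.Modules) (s : Coh.structureModule X ⟶ L), PicF.IsInvertible L ∧ Curv2.IsGloballyGenerated L ∧
      x ∈ CohB1.genLocus L s ∧ IsAffineOpen (CohB1.genLocus L s)) :
    ∃ M : X.Modules, CohB1.IsAmple M := by
  classical
  choose L s hL hGG hxs haff using h
  choose σ hσ using fun x => InvPow.exists_globalHom_eq (s x)
  have hloc : ∀ x, CohB1.genLocus (L x) (s x) = ProjUniv.genOpen (hL x) (σ x) := fun x => by
    rw [← hσ x, InvPow.genLocus_globalHom (hL x)]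
  obtain ⟨S, hS⟩ := isCompact_univ.elim_finite_subcover (fun x => (CohB1.genLocus (L x) (s x) : Set X))
    (fun x => (CohB1.genLocus (L x) (s x)).2) (fun x _ => Set.mem_iUnion.mpr ⟨x, hxs x⟩)
  have key : ∀ T : Finset X, ∃ (M : X.Modules) (hM : PicF.IsInvertible M),
      (∀ y, ∃ g : Γ(M, ⊤), y ∈ ProjUniv.genOpen hM g) ∧
      ∀ x ∈ T, ∀ y ∈ CohB1.genLocus (L x) (s x), ∃ g : Γ(M, ⊤), y ∈ ProjUniv.genOpen hM g ∧
        IsAffineOpen (ProjUniv.genOpen hM g) := by
    intro T
    induction T using Finset.induction_on with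
    | empty =>
      have hb : InvBasic.IsBasis (Coh.structureModule X) (U := ⊤) (1 : Γ(X, ⊤)) := fun W hW => by
        have e : (fun r : Γ(X, W) => r • ((Coh.structureModule X).presheaf.map (homOfLE hW).op (1 : Γ(X, ⊤)) :
            Γ(Coh.structureModule X, W))) = fun r : Γ(X, W) => r := funext fun r => by
          show r * (X.presheaf.map (homOfLE hW).op (1 : Γ(X, ⊤)) : Γ(X, W)) = r
          rw [map_one, mul_one]
        rw [e]
        exact Function.bijective_id
      have hO : PicF.IsInvertible (Coh.structureModule X) :=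
        InvBasic.isInvertible_of_isBasis fun x => ⟨⊤, trivial, _, hb⟩
      refine ⟨_, hO, fun y => ⟨(1 : Γ(X, ⊤)), ?_⟩, fun x hx => absurd hx (Finset.notMem_empty x)⟩
      have hb' : InvBasic.IsBasis (Coh.structureModule X) (ProjUniv.gres (Coh.structureModule X) (1 : Γ(X, ⊤)) ⊤) := by
        show InvBasic.IsBasis _ ((Coh.structureModule X).presheaf.map _ _)
        rw [QCohLib.map_self]
        exact hb
      exact ProjUniv.gen_of_isBasis hb' (U := ⊤) trivial
    | insert a T haT ih =>
      obtain ⟨M, hM, hcov, hgood⟩ := ih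
      refine ⟨_, InvPow.isInvertible_tensorMod hM (hL a), fun y => ?_, fun x hx y hy => ?_⟩
      · obtain ⟨g, hg⟩ := hcov y
        obtain ⟨g', hg'⟩ := InvPow.exists_gen_of_isGloballyGenerated (hL a) (hGG a) y
        exact ⟨_, (InvPow.genOpen_tmul hM (hL a) g g').ge ⟨hg, hg'⟩⟩
      · rcases Finset.mem_insert.mp hx with rfl | hx
        · obtain ⟨g, hg⟩ := hcov y
          rw [hloc x] at hy
          refine ⟨_, (InvPow.genOpen_tmul hM (hL x) g (σ x)).ge ⟨hg, hy⟩, ?_⟩
          rw [InvPow.genOpen_tmul hM (hL x)]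
          exact InvPow.isAffineOpen_genOpen_inf hM g (hloc x ▸ haff x)
        · obtain ⟨g, hg, hga⟩ := hgood x hx y hy
          obtain ⟨g', hg'⟩ := InvPow.exists_gen_of_isGloballyGenerated (hL a) (hGG a) y
          refine ⟨_, (InvPow.genOpen_tmul hM (hL a) g g').ge ⟨hg, hg'⟩, ?_⟩
          rw [InvPow.genOpen_tmul hM (hL a), inf_comm]
          exact InvPow.isAffineOpen_genOpen_inf (hL a) g' hga
  obtain ⟨M, hM, -, hgood⟩ := key S
  refine ⟨M, InvPow.isAmple_of_affLoci hM fun y => ?_⟩
  obtain ⟨x, hxS, hyx⟩ := Set.mem_iUnion₂.mp (hS (Set.mem_univ y))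
  obtain ⟨g, hg, hga⟩ := hgood x hxS y hyx
  obtain ⟨g', hg'⟩ := InvPow.exists_gen_pow_one hM g
  exact ⟨1, Nat.one_pos, g', hg'.ge hg, hg' ▸ hga⟩

end Groth.Agent.S1664
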