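import Mathlib
import Groth.Statements.S16644
-- import your own Groth.Agent.* helpers here

set_option autoImplicit false
open QuadZ

namespace Groth.Agent.S16644

/-- For odd n, the discriminant of the universal quadratic form Σ_{i ≤ j} A_{ij} x_i x_j in n variables
(variables A_{ij} indexed by unordered pairs), i.e. the determinant of the symmetric matrix with
diagonal entries 2 A_{ii} and off-diagonal entries A_{ij}, is divisible by 2 in the integral
polynomial ring ℤ[A_{ij}] (so the half-discriminant is an integral polynomial). -/
theorem result (n : ℕ) (hn : Odd n) :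
    (2 : MvPolynomial (Sym2 (Fin n)) ℤ) ∣
      (Matrix.of fun i j : Fin n =>
        if i = j then 2 * MvPolynomial.X (R := ℤ) (σ := Sym2 (Fin n)) (Sym2.mk i j)
        else MvPolynomial.X (R := ℤ) (σ := Sym2 (Fin n)) (Sym2.mk i j)).det := by
  classical
  set R := MvPolynomial (Sym2 (Fin n)) ℤ
  let B : Matrix (Fin n) (Fin n) R := Matrix.of fun i j =>
    if i = j then 0 else if i < j then MvPolynomial.X (Sym2.mk i j) else -MvPolynomial.X (Sym2.mk i j)
  have hB : B.det = 0 := by
    have hT : B.transpose = -B := by
      refine Matrix.ext fun i j => ?_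
      simp only [B, Matrix.transpose_apply, Matrix.neg_apply, Matrix.of_apply]
      rcases lt_trichotomy i j with h | h | h
      · simp [h, h.ne, h.ne', h.not_gt, Sym2.eq_swap]
      · simp [h]
      · simp [h, h.ne, h.ne', h.not_gt, Sym2.eq_swap]
        all_goals ring
    have h := congrArg Matrix.det hT
    rw [Matrix.det_transpose, Matrix.det_neg, Fintype.card_fin, hn.neg_one_pow, neg_one_mul] at h
    exact self_eq_neg.1 h
  rw [← Ideal.mem_span_singleton, ← Ideal.Quotient.eq_zero_iff_mem]
  conv_rhs => rw [← map_zero (Ideal.Quotient.mk (Ideal.span {(2 : R)})), ← hB]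
  rw [RingHom.map_det, RingHom.map_det]
  congr 1
  ext i j
  simp only [B, RingHom.mapMatrix_apply, Matrix.map_apply, Matrix.of_apply]
  rw [Ideal.Quotient.eq, Ideal.mem_span_singleton]
  split_ifs with h h'
  · simp
  · simp
  · exact ⟨MvPolynomial.X (Sym2.mk i j), by ring⟩

end Groth.Agent.S16644
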