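import Groth.Statements.S1665
import Groth.Agent.KrullAkizuki.Semilocal

set_option autoImplicit false
universe u
open Variety

namespace Groth.Agent.S1665

/-- Let B be a Noetherian domain of dimension one with finitely many maximal ideals and B' its integral
closure in its fraction field. Then B' is a Dedekind domain with finitely many maximal ideals, and
for every nonzero x in the Jacobson radical of B' and every y ∈ B' some power x^n satisfies x^n y ∈
B. -/
theorem result (B : Type u) [CommRing B] [IsDomain B] [IsNoetherianRing B]
    (hdim : ringKrullDim B = 1) (hsl : Finite (MaximalSpectrum B)) :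
    IsDedekindDomain (integralClosure B (FractionRing B)) ∧ Finite (MaximalSpectrum (integralClosure B (FractionRing B))) ∧
      ∀ x : integralClosure B (FractionRing B), x ≠ 0 → x ∈ (⊥ : Ideal (integralClosure B (FractionRing B))).jacobson →
        ∀ y : integralClosure B (FractionRing B), ∃ n : ℕ, (x ^ n * y).1 ∈ (algebraMap B (FractionRing B)).range := by
  haveI := Groth.Agent.KrullAkizuki.krullDimLE_one_of_eq hdim
  have hnf := Groth.Agent.KrullAkizuki.not_isField_of_dim_one hdim
  haveI := hsl
  obtain ⟨j, hj⟩ := Groth.Agent.KrullAkizuki.exists_embedding (R := B) (K := FractionRing B)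
    (A := integralClosure B (FractionRing B)) (L := FractionRing B) Subtype.val_injective
  haveI := Groth.Agent.KrullAkizuki.isNoetherianRing_of_injective j hj
  haveI := Groth.Agent.KrullAkizuki.dimensionLEOne_of_injective j hj
  haveI : IsFractionRing (integralClosure B (FractionRing B)) (FractionRing B) :=
    IsIntegralClosure.isFractionRing_of_finite_extension B (FractionRing B) (FractionRing B) _
  haveI : IsIntegrallyClosed (integralClosure B (FractionRing B)) :=
    (isIntegrallyClosed_iff (FractionRing B)).mpr fun {x} hx =>
      IsIntegralClosure.isIntegral_iff.mp (isIntegral_trans (R := B) x hx)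
  classical
  have hinj : Function.Injective (algebraMap B (integralClosure B (FractionRing B))) := fun a b h =>
    IsFractionRing.injective B (FractionRing B) (congrArg Subtype.val h)
  obtain ⟨x₀, hx₀, hx₀J⟩ : ∃ x : B, x ≠ 0 ∧ ∀ m : Ideal B, m.IsMaximal → x ∈ m := by
    haveI := Fintype.ofFinite (MaximalSpectrum B)
    have hne : ∀ m : MaximalSpectrum B, ∃ a ∈ m.asIdeal, a ≠ 0 := fun m => by
      obtain ⟨a, ha, ha0⟩ := Submodule.exists_mem_ne_zero_of_ne_bot
        (fun h : m.asIdeal = ⊥ => hnf (by
          have := m.isMaximal
          rw [h] at this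
          exact MulEquiv.isField ((Ideal.Quotient.maximal_ideal_iff_isField_quotient _).mp this)
            (RingEquiv.quotientBot B).symm.toMulEquiv))
      exact ⟨a, ha, ha0⟩
    choose a ha ha0 using hne
    exact ⟨∏ m, a m, Finset.prod_ne_zero_iff.mpr fun m _ => ha0 m,
      fun m hm => Ideal.mem_of_dvd m (Finset.dvd_prod_of_mem a (Finset.mem_univ (⟨m, hm⟩ : MaximalSpectrum B))) (ha ⟨m, hm⟩)⟩
  have hcon : ∀ Q : Ideal (integralClosure B (FractionRing B)), Q.IsMaximal →
      algebraMap B (integralClosure B (FractionRing B)) x₀ ∈ Q := by
    intro Q hQ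
    haveI := hQ
    exact Ideal.mem_comap.mp (hx₀J _ (Ideal.isMaximal_comap_of_isIntegral_of_isMaximal Q))
  refine ⟨{}, ?_, ?_⟩
  · haveI := (Groth.Agent.KrullAkizuki.finite_primes_containing j hj x₀ hx₀).to_subtype
    exact Finite.of_injective
      (fun M : MaximalSpectrum (integralClosure B (FractionRing B)) =>
        (⟨M.asIdeal, M.isMaximal.isPrime, hcon _ M.isMaximal⟩ :
          {P : Ideal (integralClosure B (FractionRing B)) |
            P.IsPrime ∧ algebraMap B (integralClosure B (FractionRing B)) x₀ ∈ P}))
      fun M M' h => MaximalSpectrum.ext (congrArg Subtype.val h)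
  · intro x _ hxJ y
    let B₀ : Subring (FractionRing B) := (algebraMap B (FractionRing B)).range
    let e : B ≃+* B₀ := RingEquiv.ofBijective (algebraMap B (FractionRing B)).rangeRestrict
      ⟨fun a b h => IsFractionRing.injective B (FractionRing B) (congrArg Subtype.val h),
       RingHom.rangeRestrict_surjective _⟩
    haveI : IsNoetherianRing B₀ := isNoetherianRing_of_ringEquiv B e
    haveI : Ring.KrullDimLE 1 B₀ :=
      Groth.Agent.KrullAkizuki.krullDimLE_one_of_eq ((ringKrullDim_eq_of_ringEquiv e).symm.trans hdim)
    haveI : IsFractionRing B₀ (FractionRing B) := by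
      refine IsFractionRing.of_field B₀ (FractionRing B) fun f => ?_
      obtain ⟨a, b, -, hab⟩ := IsFractionRing.div_surjective (A := B) f
      exact ⟨e a, e b, hab.symm⟩
    letI : Algebra B B₀ := e.toRingHom.toAlgebra
    haveI : IsScalarTower B B₀ (FractionRing B) := IsScalarTower.of_algebraMap_eq fun b => rfl
    have hmem : ∀ w : integralClosure B (FractionRing B),
        (w : FractionRing B) ∈ integralClosure B₀ (FractionRing B) := fun w =>
      (show IsIntegral B (w : FractionRing B) from w.2).tower_top
    have hmem' : ∀ w : integralClosure B₀ (FractionRing B),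
        (w : FractionRing B) ∈ integralClosure B (FractionRing B) := fun w => by
      haveI : Algebra.IsIntegral B B₀ := ⟨fun b => by
        obtain ⟨b', rfl⟩ := e.surjective b
        exact isIntegral_algebraMap⟩
      exact isIntegral_trans (R := B) (w : FractionRing B) w.2
    let φ : integralClosure B₀ (FractionRing B) ≃+* integralClosure B (FractionRing B) :=
      { toFun := fun w => ⟨w, hmem' w⟩
        invFun := fun w => ⟨w, hmem w⟩
        left_inv := fun w => rfl
        right_inv := fun w => rfl
        map_mul' := fun a b => rfl
        map_add' := fun a b => rfl }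
    obtain ⟨n, hn⟩ := Groth.Agent.KrullAkizuki.exists_pow_mul_mem B₀ ⟨x, hmem x⟩ ⟨y, hmem y⟩
      (fun Q hQ => by
        haveI := hQ
        have hx' : x ∈ Q.comap φ.symm.toRingHom :=
          Ideal.mem_sInf.mp hxJ ⟨bot_le, Ideal.comap_isMaximal_of_surjective _ φ.symm.surjective⟩
        exact hx')
    exact ⟨n, hn n le_rfl⟩

end Groth.Agent.S1665
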