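import Groth.Statements.S16651
import Groth.Agent.CliffSmooth.EvenMatrix

set_option autoImplicit false
universe u v
open scoped TensorProduct
open QuadZ

namespace Groth.Agent.S16651

/-- For a free module over an affine base, let Q be a non-degenerate quadratic form (polar form a
perfect pairing) on a free module V of even rank 2m ≥ 2 over a commutative ring A. Then fppf-locally
on A the Clifford algebra C(V,Q) is a matrix algebra of size 2^m and its even part a product of two
matrix algebras of size 2^(m-1) (there is a faithfully flat finitely presented A-algebra A'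
realising both), the centre of C(V,Q) is A, the map V → C(V,Q) is injective onto a direct summand,
and the even part is the centralizer in C(V,Q) of its own centre. -/
theorem result (A : Type u) [CommRing A] (V : Type u)
    [AddCommGroup V] [Module A V] [Module.Free A V] [Module.Finite A V] (m : ℕ) (hm : 1 ≤ m)
    (hV : Module.finrank A V = 2 * m) (Q : QuadraticForm A V) (hQ : Function.Bijective (QuadraticMap.polarBilin Q)) :
    (∃ (A' : Type u) (_ : CommRing A') (_ : Algebra A A'), Module.FaithfullyFlat A A' ∧ Algebra.FinitePresentation A A' ∧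
        Nonempty ((A' ⊗[A] CliffordAlgebra Q) ≃ₐ[A'] Matrix (Fin (2 ^ m)) (Fin (2 ^ m)) A') ∧
        Nonempty ((A' ⊗[A] ↥(CliffordAlgebra.even Q)) ≃ₐ[A']
          (Matrix (Fin (2 ^ (m - 1))) (Fin (2 ^ (m - 1))) A' × Matrix (Fin (2 ^ (m - 1))) (Fin (2 ^ (m - 1))) A'))) ∧
    Subalgebra.center A (CliffordAlgebra Q) = ⊥ ∧
    (Function.Injective (CliffordAlgebra.ι Q) ∧
      ∃ W : Submodule A (CliffordAlgebra Q), IsCompl (LinearMap.range (CliffordAlgebra.ι Q)) W) ∧
    Subalgebra.centralizer A
        ((CliffordAlgebra.even Q).val '' (Subalgebra.center A ↥(CliffordAlgebra.even Q) : Set ↥(CliffordAlgebra.even Q))) =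
      CliffordAlgebra.even Q := by
  obtain ⟨k, rfl⟩ : ∃ k, m = k + 1 := ⟨m - 1, by omega⟩
  have hnt : Nontrivial A := by
    by_contra h
    rw [not_nontrivial_iff_subsingleton] at h
    have : Module.finrank A V = 1 := Module.finrank_eq_of_rank_eq (rank_subsingleton A V)
    omega
  let b : Module.Basis (Fin (2 * (k + 1))) A V := Module.finBasisOfFinrankEq A V hV
  obtain ⟨A', _, _, hA, hM, hE⟩ := Groth.Agent.CliffSmooth.exists_even_matrix b hQ
  exact ⟨⟨A', inferInstance, inferInstance, hA.1, hA.2, hM, hE⟩, Groth.Agent.CliffSmooth.center_eq_bot b hQ,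
    ⟨Groth.Agent.CliffSmooth.ι_injective Q, LinearMap.ker (Groth.Agent.CliffSmooth.vecPart Q),
      ⟨disjoint_iff.2 (eq_bot_iff.2 fun x hx => by
          obtain ⟨⟨v, rfl⟩, hv⟩ := hx
          have := LinearMap.mem_ker.1 hv
          rw [Groth.Agent.CliffSmooth.vecPart_ι] at this
          simp [this]),
       codisjoint_iff.2 (eq_top_iff.2 fun x _ => Submodule.mem_sup.2
          ⟨CliffordAlgebra.ι Q (Groth.Agent.CliffSmooth.vecPart Q x), ⟨_, rfl⟩,
            x - CliffordAlgebra.ι Q (Groth.Agent.CliffSmooth.vecPart Q x), by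
              rw [LinearMap.mem_ker, map_sub, Groth.Agent.CliffSmooth.vecPart_ι, sub_self], by abel⟩)⟩⟩,
    Groth.Agent.CliffSmooth.centralizer_center_even b hQ⟩

end Groth.Agent.S16651
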