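import Mathlib
import Groth.Agent.ConnHorizontal.Basic
import Groth.Statements.S16662
-- import your own Groth.Agent.* helpers here

set_option autoImplicit false
universe v u
open TensorProduct
open Conn

namespace Groth.Agent.S16662

/-- Let B be an A-algebra with a receptacle of differentials (Ω, δ), Ω a finite free B-module, and let
E, F, G be B-modules with connections ∇_E, ∇_F, ∇_G, with E and F finitely presented. Equip
Hom_B(E,F), Hom_B(F,G) and Hom_B(E,G) with the induced connections (the connection ∇'' on Hom_B(X,Y)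
being the one with (ev_x ⊗ 1)(∇'' φ) = ∇_Y(φ x) − (φ ⊗ 1)(∇_X x)), and Hom_B(F,G) ⊗ Hom_B(E,F) with
the tensor product of these connections. Then the composition map Hom_B(F,G) ⊗ Hom_B(E,F) →
Hom_B(E,G), ψ ⊗ φ ↦ ψ ∘ φ, is horizontal. -/
theorem result {A : Type v} {B Ω E F G : Type u}
    [CommRing A] [CommRing B] [Algebra A B]
    [AddCommGroup Ω] [Module B Ω] [Module A Ω] [IsScalarTower A B Ω] [Module.Finite B Ω] [Module.Free B Ω]
    [AddCommGroup E] [Module B E] [Module A E] [IsScalarTower A B E] [Module.FinitePresentation B E]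
    [AddCommGroup F] [Module B F] [Module A F] [IsScalarTower A B F] [Module.FinitePresentation B F]
    [AddCommGroup G] [Module B G] [Module A G] [IsScalarTower A B G]
    (δ : Derivation A B Ω)
    (nE : E →ₗ[A] E ⊗[B] Ω) (hcE : Conn.IsConn δ nE)
    (nF : F →ₗ[A] F ⊗[B] Ω) (hcF : Conn.IsConn δ nF)
    (nG : G →ₗ[A] G ⊗[B] Ω) (hcG : Conn.IsConn δ nG)
    (nEF : (E →ₗ[B] F) →ₗ[A] (E →ₗ[B] F) ⊗[B] Ω) (hEF : Conn.IsHomConn nE nF nEF)
    (nFG : (F →ₗ[B] G) →ₗ[A] (F →ₗ[B] G) ⊗[B] Ω) (hFG : Conn.IsHomConn nF nG nFG)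
    (nEG : (E →ₗ[B] G) →ₗ[A] (E →ₗ[B] G) ⊗[B] Ω) (hEG : Conn.IsHomConn nE nG nEG)
    (nT : (F →ₗ[B] G) ⊗[B] (E →ₗ[B] F) →ₗ[A] ((F →ₗ[B] G) ⊗[B] (E →ₗ[B] F)) ⊗[B] Ω)
    (hT : Conn.IsTensorConn nFG nEF nT) :
    Conn.IsHorizontal nT nEG (TensorProduct.lift (LinearMap.llcomp B E F G)) := by
  intro x
  induction x using TensorProduct.induction_on with
  | zero => simp
  | add a b ha hb => simp only [map_add, ha, hb]
  | tmul ψ φ =>
    apply Groth.Agent.ConnHorizontal.hom_tensor_ext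
    intro e
    rw [hEG, hT, map_add, map_add, ConnHorizontal.map_map_id, ConnHorizontal.map_map_id,
      ConnHorizontal.map_swapR, ConnHorizontal.map_assoc_symm]
    have h1 : (LinearMap.applyₗ e ∘ₗ TensorProduct.lift (LinearMap.llcomp B E F G)) ∘ₗ
        (TensorProduct.mk B (F →ₗ[B] G) (E →ₗ[B] F)).flip φ = LinearMap.applyₗ (φ e) :=
      LinearMap.ext fun ψ' => by simp
    have h2 : (LinearMap.applyₗ e ∘ₗ TensorProduct.lift (LinearMap.llcomp B E F G)) ∘ₗ
        TensorProduct.mk B (F →ₗ[B] G) (E →ₗ[B] F) ψ = ψ ∘ₗ LinearMap.applyₗ e :=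
      LinearMap.ext fun φ' => by simp
    rw [h1, h2, hFG, ← ConnHorizontal.map_map_id ψ (LinearMap.applyₗ e), hEF, map_sub,
      ConnHorizontal.map_map_id]
    simp
    rfl

end Groth.Agent.S16662
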