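import Mathlib
import Groth.Agent.ConnHorizontal.Basic
import Groth.Statements.S16663
-- import your own Groth.Agent.* helpers here

set_option autoImplicit false
universe v u
open TensorProduct
open Conn

namespace Groth.Agent.S16663

/-- Let B be an A-algebra with a receptacle of differentials (Ω, δ), Ω a finite free B-module (the local
form of a weakly smooth scheme), and let M be a finitely ℤ-graded B-module presented as a finite
family of finite free B-modules M_i with integer degrees deg i (the local form of a graded vector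
bundle), with total module Π_i M_i. Let ∇ be a connection on Π_i M_i preserving the grading, in the
sense that (pr_j ⊗ 1)(∇(ι_i m)) = 0 for m ∈ M_i whenever deg i ≠ deg j, and let ∇_E be the induced
connection on the B-linear endomorphisms, the one with (ev_m ⊗ 1)(∇_E φ) = ∇(φ m) − (φ ⊗ 1)(∇ m).
Give B the connection b ↦ 1 ⊗ δ b. Then the supertrace, φ ↦ tr(ε ∘ φ) with ε = Σ_i (−1)^{deg i} ι_i
∘ pr_i the grading involution, is a horizontal map End_B(Π_i M_i) → B. -/
theorem result {A : Type v} {B Ω ι : Type u}
    [CommRing A] [CommRing B] [Algebra A B]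
    [AddCommGroup Ω] [Module B Ω] [Module A Ω] [IsScalarTower A B Ω] [Module.Finite B Ω] [Module.Free B Ω]
    [Fintype ι] [DecidableEq ι] (deg : ι → ℤ) (M : ι → Type u)
    [∀ i, AddCommGroup (M i)] [∀ i, Module B (M i)] [∀ i, Module A (M i)] [∀ i, IsScalarTower A B (M i)]
    [∀ i, Module.Free B (M i)] [∀ i, Module.Finite B (M i)]
    (δ : Derivation A B Ω) (nabla : (Π k, M k) →ₗ[A] (Π k, M k) ⊗[B] Ω) (hc : Conn.IsConn δ nabla)
    (hgr : ∀ i j : ι, deg i ≠ deg j → ∀ m : M i,
      TensorProduct.map (LinearMap.proj j : (Π k, M k) →ₗ[B] M j) LinearMap.id (nabla (LinearMap.single B M i m)) = 0)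
    (nablaE : ((Π k, M k) →ₗ[B] (Π k, M k)) →ₗ[A] ((Π k, M k) →ₗ[B] (Π k, M k)) ⊗[B] Ω)
    (hE : Conn.IsHomConn nabla nabla nablaE) :
    Conn.IsHorizontal nablaE (Conn.triv δ)
      (LinearMap.trace B (Π k, M k) ∘ₗ LinearMap.llcomp B (Π k, M k) (Π k, M k) (Π k, M k)
        (∑ i : ι, (LinearMap.single B M i) ∘ₗ (((-1 : B) ^ (deg i).natAbs) • (LinearMap.proj i : (Π k, M k) →ₗ[B] M i)))) := by
  set ε : (Π k, M k) →ₗ[B] (Π k, M k) :=
    ∑ i : ι, (LinearMap.single B M i) ∘ₗ (((-1 : B) ^ (deg i).natAbs) •
      (LinearMap.proj i : (Π k, M k) →ₗ[B] M i)) with hεd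
  have hεs : ∀ (i : ι) (m : M i), ε (Pi.single i m) = ((-1 : B) ^ (deg i).natAbs) • Pi.single i m := by
    intro i m
    simp only [hεd, LinearMap.sum_apply, LinearMap.comp_apply, LinearMap.smul_apply, map_smul,
      LinearMap.proj_apply, LinearMap.coe_single]
    rw [Finset.sum_eq_single i]
    · simp
    · intro j _ hj; simp [hj]
    · simp
  have hεh : Conn.IsHorizontal nabla nabla ε := by
    intro v
    rw [← Finset.univ_sum_single v]
    simp only [map_sum]
    refine Finset.sum_congr rfl fun i _ => ?_
    rw [hεs, ConnHorizontal.conn_neg_one_pow_smul δ nabla hc]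
    have hdec : ∀ x : (Π k, M k) ⊗[B] Ω, x = ∑ j, TensorProduct.map (LinearMap.single B M j) LinearMap.id
        (TensorProduct.map (LinearMap.proj j : (Π k, M k) →ₗ[B] M j) LinearMap.id x) := by
      intro x
      induction x using TensorProduct.induction_on with
      | zero => simp
      | tmul w ω => simp [← TensorProduct.sum_tmul, Finset.univ_sum_single]
      | add a b ha hb => simp only [map_add, Finset.sum_add_distrib, ← ha, ← hb]
    conv_rhs => rw [hdec (nabla (Pi.single i (v i))), map_sum]
    conv_lhs => rw [hdec (nabla (Pi.single i (v i))), Finset.smul_sum]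
    refine Finset.sum_congr rfl fun j _ => ?_
    by_cases hd : deg i = deg j
    · rw [ConnHorizontal.map_map_id ε]
      have : ε ∘ₗ LinearMap.single B M j = ((-1 : B) ^ (deg i).natAbs) • LinearMap.single B M j :=
        LinearMap.ext fun m => by simp [hεs, hd]
      rw [this, TensorProduct.map_smul_left, LinearMap.smul_apply]
    · have h0 := hgr i j hd (v i)
      rw [LinearMap.coe_single] at h0
      rw [h0, map_zero, map_zero, smul_zero]
  have h1 := ConnHorizontal.isHorizontal_llcomp_left nabla nabla nabla nablaE hE nablaE hE ε hεh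
  have h2 := ConnHorizontal.isHorizontal_trace δ nabla hc nablaE hE
  intro φ
  rw [LinearMap.comp_apply, h2, h1, ConnHorizontal.map_map_id]

end Groth.Agent.S16663
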