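import Mathlib
import Groth.Agent.ConnHorizontal.Basic
import Groth.Statements.S16666
-- import your own Groth.Agent.* helpers here

set_option autoImplicit false
universe v u
open TensorProduct
open Conn

namespace Groth.Agent.S16666

/-- Let B be an A-algebra with a receptacle of differentials (Ω, δ), Ω a finite free B-module, and let
E, F, G be B-modules with connections ∇_E, ∇_F, ∇_G, E finitely presented. Equip Hom_B(E,F) and
Hom_B(E, F ⊗ G) with the induced connections (the connection ∇'' on Hom_B(E,Y) being the one with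
(ev_e ⊗ 1)(∇'' φ) = ∇_Y(φ e) − (φ ⊗ 1)(∇_E e)), and F ⊗ G and Hom_B(E,F) ⊗ G with the tensor-product
connections. Then the canonical map Hom_B(E,F) ⊗ G → Hom_B(E, F ⊗ G), φ ⊗ g ↦ (e ↦ φ(e) ⊗ g), is
horizontal. (The published statement is for bounded complexes with termwise connections, the Hom
complex and the tensor-product complex; this row is the case of single modules, that is, complexes
concentrated in one degree.) -/
theorem result {A : Type v} {B Ω E F G : Type u}
    [CommRing A] [CommRing B] [Algebra A B]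
    [AddCommGroup Ω] [Module B Ω] [Module A Ω] [IsScalarTower A B Ω] [Module.Finite B Ω] [Module.Free B Ω]
    [AddCommGroup E] [Module B E] [Module A E] [IsScalarTower A B E] [Module.FinitePresentation B E]
    [AddCommGroup F] [Module B F] [Module A F] [IsScalarTower A B F]
    [AddCommGroup G] [Module B G] [Module A G] [IsScalarTower A B G]
    (δ : Derivation A B Ω)
    (nE : E →ₗ[A] E ⊗[B] Ω) (hcE : Conn.IsConn δ nE)
    (nF : F →ₗ[A] F ⊗[B] Ω) (hcF : Conn.IsConn δ nF)
    (nG : G →ₗ[A] G ⊗[B] Ω) (hcG : Conn.IsConn δ nG)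
    (nEF : (E →ₗ[B] F) →ₗ[A] (E →ₗ[B] F) ⊗[B] Ω) (hEF : Conn.IsHomConn nE nF nEF)
    (nFG : F ⊗[B] G →ₗ[A] (F ⊗[B] G) ⊗[B] Ω) (hFG : Conn.IsTensorConn nF nG nFG)
    (nH : (E →ₗ[B] F ⊗[B] G) →ₗ[A] (E →ₗ[B] F ⊗[B] G) ⊗[B] Ω) (hH : Conn.IsHomConn nE nFG nH)
    (nS : (E →ₗ[B] F) ⊗[B] G →ₗ[A] ((E →ₗ[B] F) ⊗[B] G) ⊗[B] Ω) (hS : Conn.IsTensorConn nEF nG nS) :
    Conn.IsHorizontal nS nH (TensorProduct.rTensorHomToHomRTensor (RingHom.id B) E F G) := by
  intro x
  induction x using TensorProduct.induction_on with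
  | zero => simp
  | add a b ha hb => simp only [map_add, ha, hb]
  | tmul φ g =>
    apply Groth.Agent.ConnHorizontal.hom_tensor_ext
    intro e
    rw [hH, hS, map_add, map_add, ConnHorizontal.map_map_id, ConnHorizontal.map_map_id,
      ConnHorizontal.map_swapR, ConnHorizontal.map_assoc_symm]
    have h1 : (LinearMap.applyₗ e ∘ₗ TensorProduct.rTensorHomToHomRTensor (RingHom.id B) E F G) ∘ₗ
        (TensorProduct.mk B (E →ₗ[B] F) G).flip g =
          (TensorProduct.mk B F G).flip g ∘ₗ LinearMap.applyₗ e :=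
      LinearMap.ext fun φ' => by simp
    have h2 : (LinearMap.applyₗ e ∘ₗ TensorProduct.rTensorHomToHomRTensor (RingHom.id B) E F G) ∘ₗ
        TensorProduct.mk B (E →ₗ[B] F) G φ = TensorProduct.mk B F G (φ e) :=
      LinearMap.ext fun g' => by simp
    have h3 : TensorProduct.rTensorHomToHomRTensor (RingHom.id B) E F G (φ ⊗ₜ g) =
        (TensorProduct.mk B F G).flip g ∘ₗ φ :=
      LinearMap.ext fun e' => by simp
    rw [h1, h2, h3, ← ConnHorizontal.map_map_id ((TensorProduct.mk B F G).flip g)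
      (LinearMap.applyₗ e), hEF, map_sub, ConnHorizontal.map_map_id]
    have h4 := hFG (φ e) g
    simp only [LinearMap.comp_apply, LinearMap.flip_apply, TensorProduct.mk_apply]
    rw [h4]
    have h5 : ∀ y : F ⊗[B] Ω, Conn.swapR (y ⊗ₜ[B] g) =
        TensorProduct.map ((TensorProduct.mk B F G).flip g) LinearMap.id y := fun y => by
      simpa using ConnHorizontal.map_swapR (LinearMap.id : F ⊗[B] G →ₗ[B] F ⊗[B] G) y g
    have h6 : ∀ y : G ⊗[B] Ω, (TensorProduct.assoc B F G Ω).symm (φ e ⊗ₜ[B] y) =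
        TensorProduct.map (TensorProduct.mk B F G (φ e)) LinearMap.id y := fun y => by
      simpa using ConnHorizontal.map_assoc_symm (LinearMap.id : F ⊗[B] G →ₗ[B] F ⊗[B] G) (φ e) y
    rw [h5, h6]
    abel

end Groth.Agent.S16666
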