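import Groth.Statements.S16684
import Mathlib
import Groth.Agent.QuotShEff.Local
import Groth.Agent.GrpSchField.Orbit
-- import your own Groth.Agent.* helpers here

set_option autoImplicit false
universe u
open CategoryTheory CategoryTheory.Limits MonoidalCategory CartesianMonoidalCategory MonObj AlgebraicGeometry
open GIT

open Topology
set_option backward.isDefEq.respectTransparency false

namespace Groth.Agent.S16684

section Aux
variable {S : Scheme.{u}} {G X Y : Over S} [GrpObj G] (a : AlgGrp.Action G X)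

theorem act_mul' {T : Over S} (g h : T ⟶ G) (x : T ⟶ X) :
    lift (g * h) x ≫ a.act = lift g (lift h x ≫ a.act) ≫ a.act :=
  Groth.Agent.GrpSchField.lift_act_mul a g h x

/-- The orbit relation on points. -/
def orbitRel (T : Over S) : Setoid (T ⟶ X) where
  r x y := ∃ g : T ⟶ G, lift g y ≫ a.act = x
  iseqv :=
    ⟨fun x => ⟨1, Groth.Agent.GrpSchField.lift_act_one a x⟩,
      fun {x y} ⟨g, hg⟩ => ⟨g⁻¹, by
        rw [← hg, ← act_mul', inv_mul_cancel, Groth.Agent.GrpSchField.lift_act_one]⟩,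
      fun {x y z} ⟨g, hg⟩ ⟨h, hh⟩ => ⟨g * h, by rw [act_mul', hh, hg]⟩⟩

theorem orbitRel_comp {T T' : Over S} (φ : T' ⟶ T) (x y : T ⟶ X) (h : (orbitRel a T).r x y) :
    (orbitRel a T').r (φ ≫ x) (φ ≫ y) := by
  obtain ⟨g, hg⟩ := h
  exact ⟨φ ≫ g, by rw [← hg, ← Category.assoc, comp_lift]⟩

theorem orbitRel_gen {T : Over S} (z : T ⟶ G ⊗ X) :
    (orbitRel a T).r (z ≫ a.act) (z ≫ snd G X) :=
  ⟨z ≫ fst G X, by rw [← comp_lift, lift_fst_snd, Category.comp_id]⟩

variable (q : X ⟶ Y) (hq : QuotSh.IsQuotient Scheme.fppfPrecoverage a.act (snd G X) q)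

include hq in
theorem orbit_surjective (inv : GIT.IsInvariant a q) :
    Function.Surjective (GIT.PsiY a q inv).base := by
  intro z
  let P := Limits.pullback q.left q.left
  let ξ := P.fromSpecResidueField z
  let x : Spec (P.residueField z) ⟶ X.left := ξ ≫ pullback.fst q.left q.left
  let y : Spec (P.residueField z) ⟶ X.left := ξ ≫ pullback.snd q.left q.left
  have hxy : x ≫ q.left = y ≫ q.left := by simp only [x, y, Category.assoc, pullback.condition]
  let T : Over S := Over.mk (x ≫ X.hom)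
  let x' : T ⟶ X := Over.homMk x rfl
  let y' : T ⟶ X := Over.homMk y (by
    change y ≫ X.hom = x ≫ X.hom
    rw [← Over.w q, reassoc_of% hxy])
  obtain ⟨E, hE, hrel⟩ := Groth.Agent.QuotShEff.exists_locally_rel a.act (snd G X) q hq
    (orbitRel a) (orbitRel_comp a) (orbitRel_gen a) x' y' (Over.OverMorphism.ext hxy)
  obtain ⟨W, f, w, hf, hw⟩ := Groth.Agent.QuotShEff.exists_point_of_covering hE
    (IsLocalRing.closedPoint (P.residueField z))
  obtain ⟨g, hg⟩ := hrel f hf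
  let m : W ⟶ G ⊗ X := lift g (f ≫ y')
  have hm : m.left ≫ GIT.PsiY a q inv = f.left ≫ ξ := by
    apply pullback.hom_ext
    · simp only [GIT.PsiY, Category.assoc, pullback.lift_fst]
      exact congrArg CommaMorphism.left hg
    · simp only [GIT.PsiY, Category.assoc, pullback.lift_snd]
      exact congrArg CommaMorphism.left (lift_snd g (f ≫ y'))
  refine ⟨m.left w, ?_⟩
  change GIT.PsiY a q inv (m.left w) = z
  rw [← Scheme.Hom.comp_apply, hm, Scheme.Hom.comp_apply, hw]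
  exact Scheme.fromSpecResidueField_apply z _

include hq in
theorem eq_of_invariant {U : Y.left.Opens} {Z : Scheme.{u}}
    (ψ : ((q.left ⁻¹ᵁ U : X.left.Opens) : Scheme.{u}) ⟶ Z)
    (hψ : a.act.left.resLE (q.left ⁻¹ᵁ U)
        (a.act.left ⁻¹ᵁ (q.left ⁻¹ᵁ U) ⊓ (snd G X).left ⁻¹ᵁ (q.left ⁻¹ᵁ U)) inf_le_left ≫ ψ =
      (snd G X).left.resLE (q.left ⁻¹ᵁ U)
        (a.act.left ⁻¹ᵁ (q.left ⁻¹ᵁ U) ⊓ (snd G X).left ⁻¹ᵁ (q.left ⁻¹ᵁ U)) inf_le_right ≫ ψ)
    {W : Scheme.{u}} (x y : W ⟶ ((q.left ⁻¹ᵁ U : X.left.Opens) : Scheme.{u}))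
    (h : x ≫ (q.left ⁻¹ᵁ U).ι ≫ q.left = y ≫ (q.left ⁻¹ᵁ U).ι ≫ q.left) : x ≫ ψ = y ≫ ψ := by
  let T : Over S := Over.mk (x ≫ (q.left ⁻¹ᵁ U).ι ≫ X.hom)
  let x' : T ⟶ X := Over.homMk (x ≫ (q.left ⁻¹ᵁ U).ι) (Category.assoc _ _ _)
  let y' : T ⟶ X := Over.homMk (y ≫ (q.left ⁻¹ᵁ U).ι) (by
    change (y ≫ (q.left ⁻¹ᵁ U).ι) ≫ X.hom = x ≫ (q.left ⁻¹ᵁ U).ι ≫ X.hom
    rw [← Over.w q, Category.assoc, ← reassoc_of% h])
  obtain ⟨E, hE, hrel⟩ := Groth.Agent.QuotShEff.exists_locally_rel a.act (snd G X) q hq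
    (orbitRel a) (orbitRel_comp a) (orbitRel_gen a) x' y'
    (Over.OverMorphism.ext ((Category.assoc _ _ _).trans (h.trans (Category.assoc _ _ _).symm)))
  refine Groth.Agent.QuotShEff.eq_of_covering hE (T := T) (x ≫ ψ) (y ≫ ψ) fun W' f hf => ?_
  obtain ⟨g, hg⟩ := hrel f hf
  let m : W' ⟶ G ⊗ X := lift g (f ≫ y')
  have hma : m.left ≫ a.act.left = f.left ≫ x ≫ (q.left ⁻¹ᵁ U).ι := congrArg CommaMorphism.left hg
  have hms : m.left ≫ (snd G X).left = f.left ≫ y ≫ (q.left ⁻¹ᵁ U).ι :=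
    congrArg CommaMorphism.left (lift_snd g (f ≫ y'))
  let O := a.act.left ⁻¹ᵁ (q.left ⁻¹ᵁ U) ⊓ (snd G X).left ⁻¹ᵁ (q.left ⁻¹ᵁ U)
  have hl : Set.range m.left ⊆ Set.range O.ι := by
    rintro _ ⟨w, rfl⟩
    rw [Scheme.Opens.range_ι]
    constructor
    · change a.act.left (m.left w) ∈ q.left ⁻¹ᵁ U
      rw [← Scheme.Hom.comp_apply, hma, Scheme.Hom.comp_apply, Scheme.Hom.comp_apply]
      exact (x (f.left w)).2
    · change (snd G X).left (m.left w) ∈ q.left ⁻¹ᵁ U
      rw [← Scheme.Hom.comp_apply, hms, Scheme.Hom.comp_apply, Scheme.Hom.comp_apply]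
      exact (y (f.left w)).2
  let m' := IsOpenImmersion.lift O.ι m.left hl
  have hm' : m' ≫ O.ι = m.left := IsOpenImmersion.lift_fac _ _ _
  have e1 : m' ≫ a.act.left.resLE (q.left ⁻¹ᵁ U) O inf_le_left = f.left ≫ x := by
    rw [← cancel_mono (q.left ⁻¹ᵁ U).ι, Category.assoc, Category.assoc, Scheme.Hom.resLE_comp_ι,
      reassoc_of% hm']
    exact hma
  have e2 : m' ≫ (snd G X).left.resLE (q.left ⁻¹ᵁ U) O inf_le_right = f.left ≫ y := by
    rw [← cancel_mono (q.left ⁻¹ᵁ U).ι, Category.assoc, Category.assoc, Scheme.Hom.resLE_comp_ι,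
      reassoc_of% hm']
    exact hms
  have := congrArg (m' ≫ ·) hψ
  simp only [← Category.assoc] at this
  rw [e1, e2] at this
  simpa only [Category.assoc] using this

include hq in
theorem exists_unique_desc (U : Y.left.Opens) {Z : Scheme.{u}} :
    (∀ χ₁ χ₂ : (U : Scheme.{u}) ⟶ Z, (q.left ∣_ U) ≫ χ₁ = (q.left ∣_ U) ≫ χ₂ → χ₁ = χ₂) ∧
    ∀ ψ : ((q.left ⁻¹ᵁ U : X.left.Opens) : Scheme.{u}) ⟶ Z,
      a.act.left.resLE (q.left ⁻¹ᵁ U)
        (a.act.left ⁻¹ᵁ (q.left ⁻¹ᵁ U) ⊓ (snd G X).left ⁻¹ᵁ (q.left ⁻¹ᵁ U)) inf_le_left ≫ ψ =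
      (snd G X).left.resLE (q.left ⁻¹ᵁ U)
        (a.act.left ⁻¹ᵁ (q.left ⁻¹ᵁ U) ⊓ (snd G X).left ⁻¹ᵁ (q.left ⁻¹ᵁ U)) inf_le_right ≫ ψ →
      ∃ χ, (q.left ∣_ U) ≫ χ = ψ := by
  obtain ⟨V, f, l, hf1, hf2, hf3, hlf⟩ := Groth.Agent.QuotShEff.exists_cover _ _ q hq
  subst hlf
  have hfU : Flat ((l ≫ q.left) ∣_ U) := IsZariskiLocalAtTarget.restrict hf1 U
  have hfU2 : LocallyOfFinitePresentation ((l ≫ q.left) ∣_ U) := IsZariskiLocalAtTarget.restrict hf2 U
  have hfU3 : Surjective ((l ≫ q.left) ∣_ U) := IsZariskiLocalAtTarget.restrict hf3 U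
  haveI : EffectiveEpi ((l ≫ q.left) ∣_ U) := Groth.Agent.FppfEpi.effectiveEpi_of_fppf _
  refine ⟨fun χ₁ χ₂ h => ?_, fun ψ hψ => ?_⟩
  · rw [← cancel_epi ((l ≫ q.left) ∣_ U), morphismRestrict_comp, Category.assoc, Category.assoc, h]
  · have hd : ∀ {W : Scheme.{u}} (p₁ p₂ : W ⟶ ((l ≫ q.left) ⁻¹ᵁ U : V.Opens).toScheme),
        p₁ ≫ ((l ≫ q.left) ∣_ U) = p₂ ≫ ((l ≫ q.left) ∣_ U) →
        p₁ ≫ (l ∣_ (q.left ⁻¹ᵁ U)) ≫ ψ = p₂ ≫ (l ∣_ (q.left ⁻¹ᵁ U)) ≫ ψ := by
      intro W p₁ p₂ h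
      rw [← Category.assoc, ← Category.assoc]
      refine eq_of_invariant a q hq ψ hψ _ _ ?_
      have h' := congrArg (· ≫ U.ι) h
      simp only [morphismRestrict_comp, Category.assoc, morphismRestrict_ι] at h' ⊢
      exact h'
    refine ⟨EffectiveEpi.desc ((l ≫ q.left) ∣_ U) ((l ∣_ (q.left ⁻¹ᵁ U)) ≫ ψ) hd, ?_⟩
    haveI : Flat (pullback.fst (q.left ∣_ U) ((l ≫ q.left) ∣_ U)) := inferInstance
    haveI : Surjective (pullback.fst (q.left ∣_ U) ((l ≫ q.left) ∣_ U)) := inferInstance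
    haveI : LocallyOfFinitePresentation (pullback.fst (q.left ∣_ U) ((l ≫ q.left) ∣_ U)) :=
      inferInstance
    haveI : EffectiveEpi (pullback.fst (q.left ∣_ U) ((l ≫ q.left) ∣_ U)) :=
      Groth.Agent.FppfEpi.effectiveEpi_of_fppf _
    rw [← cancel_epi (pullback.fst (q.left ∣_ U) ((l ≫ q.left) ∣_ U)), pullback.condition_assoc,
      EffectiveEpi.fac, ← Category.assoc]
    refine (eq_of_invariant a q hq ψ hψ _ _ ?_).symm
    have h' := congrArg (· ≫ U.ι) (pullback.condition (f := q.left ∣_ U) (g := (l ≫ q.left) ∣_ U))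
    simp only [Category.assoc, morphismRestrict_ι] at h' ⊢
    rw [morphismRestrict_ι_assoc]
    exact h'

/-- Functions as morphisms. -/
noncomputable def secHom {T : Scheme.{u}} (f : Γ(T, ⊤)) :
    T ⟶ Spec (CommRingCat.of (MvPolynomial PUnit.{u + 1} (ULift.{u} ℤ))) :=
  (AffineSpace.toSpecMvPolyIntEquiv PUnit.{u + 1}).symm fun _ => f

theorem secHom_comp {T T' : Scheme.{u}} (g : T' ⟶ T) (f : Γ(T, ⊤)) :
    g ≫ secHom f = secHom (g.appTop f) := by
  apply (AffineSpace.toSpecMvPolyIntEquiv PUnit.{u + 1}).injective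
  funext i
  rw [AffineSpace.toSpecMvPolyIntEquiv_comp, secHom, secHom, Equiv.apply_symm_apply,
    Equiv.apply_symm_apply]

theorem secHom_injective {T : Scheme.{u}} : Function.Injective (secHom (T := T)) := fun f g h => by
  have := congrArg (fun k => AffineSpace.toSpecMvPolyIntEquiv PUnit.{u + 1} k PUnit.unit) h
  simpa only [secHom, Equiv.apply_symm_apply] using this

theorem exists_secHom {T : Scheme.{u}}
    (χ : T ⟶ Spec (CommRingCat.of (MvPolynomial PUnit.{u + 1} (ULift.{u} ℤ)))) :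
    ∃ f, secHom f = χ :=
  ⟨AffineSpace.toSpecMvPolyIntEquiv PUnit.{u + 1} χ PUnit.unit,
    (AffineSpace.toSpecMvPolyIntEquiv PUnit.{u + 1}).injective (by
      funext i; rw [secHom, Equiv.apply_symm_apply])⟩

theorem resLE_secHom {A B : Scheme.{u}} (g : A ⟶ B) (U : B.Opens) (O : A.Opens) (e : O ≤ g ⁻¹ᵁ U)
    (f : Γ(B, U)) :
    g.resLE U O e ≫ secHom (U.topIso.inv f) = secHom (O.topIso.inv (g.appLE U O e f)) := by
  rw [secHom_comp]
  congr 1
  change (g.resLE U O e).app ⊤ (U.topIso.inv f) = _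
  rw [Scheme.Hom.resLE_app_top]
  have e' : U.topIso.hom (U.topIso.inv f) = f :=
    congrArg (fun φ => φ f) U.topIso.inv_hom_id
  exact congrArg (fun z => O.topIso.inv (g.appLE U O e z)) e'

include hq in
theorem sections_iff (inv : GIT.IsInvariant a q) (U : Y.left.Opens) :
    Function.Injective (q.left.app U) ∧
      Set.range (q.left.app U) = {f | GIT.IsInvSection a q U f} := by
  obtain ⟨huniq, hex⟩ := exists_unique_desc a q hq U
    (Z := Spec (CommRingCat.of (MvPolynomial PUnit.{u + 1} (ULift.{u} ℤ))))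
  have hres : ∀ g : Γ(Y.left, U), (q.left ∣_ U) ≫ secHom (U.topIso.inv g) =
      secHom ((q.left ⁻¹ᵁ U).topIso.inv (q.left.app U g)) := by
    intro g
    rw [← Scheme.Hom.resLE_eq_morphismRestrict, resLE_secHom, ← Scheme.Hom.app_eq_appLE]
  have hinj : ∀ {T : Scheme.{u}} (O : T.Opens), Function.Injective (O.topIso.inv) := fun O =>
    (ConcreteCategory.bijective_of_isIso O.topIso.inv).1
  refine ⟨fun g₁ g₂ h => hinj U (secHom_injective (huniq _ _ (by rw [hres, hres, h]))), ?_⟩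
  ext f
  constructor
  · rintro ⟨g, rfl⟩
    change a.act.left.appLE _ _ _ (q.left.app U g) = (snd G X).left.appLE _ _ _ (q.left.app U g)
    simp only [← CommRingCat.comp_apply, Scheme.Hom.app_eq_appLE, Scheme.Hom.appLE_comp_appLE]
    simp only [inv.left]
  · intro hf
    obtain ⟨χ, hχ⟩ := hex (secHom ((q.left ⁻¹ᵁ U).topIso.inv f)) (by
      rw [resLE_secHom, resLE_secHom]
      exact congrArg (fun z => secHom (Scheme.Opens.topIso _ |>.inv z)) hf)
    obtain ⟨g, rfl⟩ := exists_secHom χ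
    refine ⟨U.topIso.hom g, hinj _ (secHom_injective ?_)⟩
    rw [← hres, ← CommRingCat.comp_apply, Iso.hom_inv_id, ← hχ]
    rfl

include hq in
theorem univSubmersive : GIT.IsUnivSubmersive q.left := by
  obtain ⟨V, f, l, hf1, hf2, hf3, hlf⟩ := Groth.Agent.QuotShEff.exists_cover _ _ q hq
  intro X' Y' g' g q' hsq
  have hsq' : (pullback.snd g f ≫ l) ≫ q.left = pullback.fst g f ≫ g := by
    rw [Category.assoc, hlf, pullback.condition]
  let l' : pullback g f ⟶ X' := hsq.lift (pullback.fst g f) (pullback.snd g f ≫ l) hsq'.symm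
  have hl' : l' ≫ q' = pullback.fst g f := hsq.lift_fst _ _ _
  haveI := hf1
  haveI := hf2
  haveI := hf3
  have hopen : IsQuotientMap (pullback.fst g f).base :=
    IsOpenMap.isQuotientMap (pullback.fst g f).isOpenMap (pullback.fst g f).continuous
      (pullback.fst g f).surjective
  rw [← hl', Scheme.Hom.comp_base, TopCat.coe_comp] at hopen
  exact IsQuotientMap.of_comp l'.continuous q'.continuous hopen

end Aux

/-- Let S be a scheme, G a group scheme over S acting through σ : G ×_S X → X on an S-scheme X, and q :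
X → Y an S-morphism which is an fppf quotient of X by G: q coequalises σ and the second projection
and the induced map from the quotient sheaf G\X (coequalizer of the two maps h_{G × X} ⇉ h_X of fppf
sheaves of sets on schemes over S) to h_Y is an isomorphism. Then q is also a geometric quotient: q
is invariant and surjective, the map G ×_S X → X ×_Y X is surjective, q is universally submersive,
and for every open U of Y the sections of O_Y over U map injectively onto the G-invariant sections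
of O_X over q⁻¹U. No freeness of the action is assumed. -/
theorem result {S : Scheme.{u}} (G X Y : Over S) [GrpObj G]
    (a : AlgGrp.Action G X) (q : X ⟶ Y)
    (hq : QuotSh.IsQuotient Scheme.fppfPrecoverage a.act (snd G X) q) :
    GIT.IsGeomQuot a q := by
  have inv : GIT.IsInvariant a q := hq.choose
  obtain ⟨V, f, l, hf1, hf2, hf3, hlf⟩ := Groth.Agent.QuotShEff.exists_cover _ _ q hq
  exact ⟨inv, fun y => ⟨l (hf3.surj y).choose, by
      rw [← Scheme.Hom.comp_apply, hlf]; exact (hf3.surj y).choose_spec⟩,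
    orbit_surjective a q hq inv, univSubmersive a q hq, sections_iff a q hq inv⟩

end Groth.Agent.S16684
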