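import Groth.Statements.S16685
import Groth.Agent.FinHopf.HeightOne
import Groth.Agent.ComodBasic.Cartier


set_option autoImplicit false
universe u
open HopfRep

namespace Groth.Agent.S16685

/-- The description of the kernel of Frobenius established in the course of the proof. Let k be a field
of characteristic p > 0 and A a finite-dimensional commutative Hopf algebra over k which is a local
ring, the coordinate ring of a connected finite k-group scheme G; let I be the augmentation ideal
(the kernel of the counit), d = dim_k I/I² the dimension of the tangent space at the identity, and J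
⊆ A the ideal generated by the p-th powers of the elements of I, so that A/J is the coordinate ring
of the kernel G[F] of the relative Frobenius. Then A/J is isomorphic as a k-algebra to k[X_1, …,
X_d]/(X_1^p, …, X_d^p) (existence of an isomorphism; it depends on the choice of elements of I
lifting a basis of I/I²); in particular G[F] has rank p^d. -/
theorem result (k : Type u) [Field k] (p : ℕ) [Fact p.Prime] [CharP k p]
    (A : Type u) [CommRing A] [HopfAlgebra k A] [FiniteDimensional k A] [IsLocalRing A]
    (d : ℕ) (hd : Module.finrank k (RingHom.ker (Bialgebra.counitAlgHom k A).toRingHom).Cotangent = d) :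
    Nonempty ((A ⧸ Ideal.span ((fun a : A => a ^ p) '' (RingHom.ker (Bialgebra.counitAlgHom k A).toRingHom : Set A))) ≃ₐ[k]
      (MvPolynomial (Fin d) k ⧸ Ideal.span (Set.range fun i : Fin d => (MvPolynomial.X i : MvPolynomial (Fin d) k) ^ p))) := by
  open TensorProduct Groth.Agent.ComodBasic CoalgebraStruct in
  exact (by
    classical
    have hp : p.Prime := Fact.out
    let I := RingHom.ker (Bialgebra.counitAlgHom k A).toRingHom
    let J : Ideal A := Ideal.span ((fun a : A => a ^ p) '' (I : Set A))
    have hJI : J ≤ RingHom.ker (Bialgebra.counitAlgHom k A) ^ 2 := Ideal.span_le.2 (by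
      rintro _ ⟨a, ha, rfl⟩
      exact Ideal.pow_le_pow_right hp.two_le (Ideal.pow_mem_pow ha p))
    let q := Ideal.Quotient.mkₐ k J
    haveI : Nontrivial A := (Bialgebra.counitAlgHom k A).toRingHom.domain_nontrivial
    haveI : CharP A p := charP_of_injective_algebraMap (algebraMap k A).injective p
    let εQ : (A ⧸ J) →ₐ[k] k := Ideal.Quotient.liftₐ J (Bialgebra.counitAlgHom k A)
      (fun a ha => (Ideal.pow_le_self two_ne_zero (hJI ha) : a ∈ RingHom.ker (Bialgebra.counitAlgHom k A)))
    haveI : Nontrivial (A ⧸ J) := εQ.toRingHom.domain_nontrivial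
    haveI : CharP (A ⧸ J) p := charP_of_injective_algebraMap (algebraMap k (A ⧸ J)).injective p
    let εε : (A ⧸ J) ⊗[k] (A ⧸ J) →ₐ[k] k := Algebra.TensorProduct.lift εQ εQ fun _ _ => Commute.all _ _
    haveI : Nontrivial ((A ⧸ J) ⊗[k] (A ⧸ J)) := εε.toRingHom.domain_nontrivial
    haveI : CharP ((A ⧸ J) ⊗[k] (A ⧸ J)) p := charP_of_injective_algebraMap (algebraMap k _).injective p
    have hpow : ∀ a : A, q a ^ p = algebraMap k (A ⧸ J) (counit (R := k) a ^ p) := by
      intro a
      have h : q ((a - algebraMap k A (counit (R := k) a)) ^ p) = 0 :=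
        Ideal.Quotient.eq_zero_iff_mem.2 (Ideal.subset_span ⟨_, sub_counit_mem (k := k) a, rfl⟩)
      rw [map_pow, map_sub, AlgHom.commutes, sub_pow_char, sub_eq_zero] at h
      rw [h, map_pow]
    have hpow2 : ∀ z : (A ⧸ J) ⊗[k] (A ⧸ J), z ^ p = algebraMap k _ (εε z ^ p) := by
      intro z
      induction z using TensorProduct.induction_on with
      | zero => simp [hp.ne_zero]
      | add x y hx hy => rw [add_pow_char, hx, hy, map_add, add_pow_char, map_add]
      | tmul x y =>
        obtain ⟨a, rfl⟩ := Ideal.Quotient.mk_surjective x
        obtain ⟨b, rfl⟩ := Ideal.Quotient.mk_surjective y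
        rw [Algebra.TensorProduct.tmul_pow]
        change (q a ^ p) ⊗ₜ[k] (q b ^ p) = algebraMap k _ ((counit (R := k) a * counit (R := k) b) ^ p)
        rw [hpow, hpow, mul_pow, Algebra.TensorProduct.algebraMap_apply, Algebra.algebraMap_eq_smul_one,
          Algebra.algebraMap_eq_smul_one, Algebra.algebraMap_eq_smul_one, ← smul_tmul', tmul_smul, smul_smul,
          ← smul_tmul', mul_comm]
    haveI : J.IsHopfIdeal k := by
      have hc : (J.restrictScalars k).IsCoideal := by
        refine ⟨fun x hx => (Ideal.pow_le_self two_ne_zero (hJI hx) : x ∈ RingHom.ker (Bialgebra.counitAlgHom k A)),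
          fun x hx => ?_⟩
        let P : A →ₐ[k] (A ⧸ J) ⊗[k] (A ⧸ J) := (Algebra.TensorProduct.map q q).comp (Bialgebra.comulAlgHom k A)
        have h : J ≤ RingHom.ker P := Ideal.span_le.2 (by
          rintro _ ⟨a, ha, rfl⟩
          show P (a ^ p) = 0
          rw [map_pow, hpow2]
          have e : εε (P a) = counit (R := k) a := by
            change εε (Algebra.TensorProduct.map q q (comul (R := k) a)) = _
            conv_rhs => rw [← act_counit (k := k) (C := A) a]
            rw [act_apply]
            change _ = counit (R := k) (slice (counit (R := k)) (comul (R := k) a))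
            generalize comul (R := k) a = z
            induction z using TensorProduct.induction_on with
            | zero => simp
            | add x y hx hy => simp only [map_add, hx, hy]
            | tmul x y =>
              simp [εε, εQ, q, mul_comm]
          rw [e, show counit (R := k) a = 0 from ha, zero_pow hp.ne_zero, map_zero])
        exact h hx
      refine @Ideal.IsHopfIdeal.mk k A _ _ _ J hc fun x hx => ?_
      have h : J ≤ Ideal.comap (HopfAlgebra.antipodeAlgHom k A) J := Ideal.span_le.2 (by
        rintro _ ⟨a, ha, rfl⟩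
        show HopfAlgebra.antipodeAlgHom k A (a ^ p) ∈ J
        rw [map_pow]
        refine Ideal.subset_span ⟨_, ?_, rfl⟩
        show counit (R := k) (HopfAlgebra.antipode k a) = 0
        rw [HopfAlgebra.counit_antipode]; exact ha)
      exact h hx
    have h1 : ∀ y : A ⧸ J, Bialgebra.counitAlgHom k (A ⧸ J) y = 0 → y ^ p = 0 := by
      intro y hy
      obtain ⟨a, rfl⟩ := Ideal.Quotient.mk_surjective y
      change q a ^ p = 0
      rw [hpow, show counit (R := k) a = 0 from hy, zero_pow hp.ne_zero, map_zero]
    haveI : Algebra.FinitePresentation k (A ⧸ J) :=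
      Algebra.FinitePresentation.of_finiteType.1 inferInstance
    obtain ⟨n, ⟨e⟩⟩ := Groth.Agent.FinHopf.exists_equiv_truncated (R := k) (A := A ⧸ J) p h1
    suffices n = d by subst this; exact ⟨e⟩
    let Jn : Ideal (MvPolynomial (Fin n) k) :=
      Ideal.span (Set.range fun i : Fin n => (MvPolynomial.X i : MvPolynomial (Fin n) k) ^ p)
    let t : Fin n → (A ⧸ J) := fun i => e.symm (Ideal.Quotient.mk Jn (MvPolynomial.X i))
    have haev : ∀ P : MvPolynomial (Fin n) k, MvPolynomial.aeval t P = e.symm (Ideal.Quotient.mk Jn P) := by
      intro P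
      induction P using MvPolynomial.induction_on with
      | C c =>
        rw [MvPolynomial.aeval_C]
        exact (e.symm.commutes c).symm
      | add P Q hP hQ => rw [map_add, hP, hQ, map_add, map_add]
      | mul_X P i hP => rw [map_mul, hP, MvPolynomial.aeval_X, map_mul, map_mul]
    have hεt : ∀ i, Bialgebra.counitAlgHom k (A ⧸ J) (t i) = 0 := by
      intro i
      have h : t i ^ p = 0 := by
        rw [← map_pow e.symm, ← map_pow (Ideal.Quotient.mk Jn),
          Ideal.Quotient.eq_zero_iff_mem.2 (Ideal.subset_span ⟨i, rfl⟩ : (MvPolynomial.X i : MvPolynomial (Fin n) k) ^ p ∈ Jn), map_zero]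
      have h2 := congrArg (Bialgebra.counitAlgHom k (A ⧸ J)) h
      rw [map_pow, map_zero] at h2
      exact eq_zero_of_pow_eq_zero h2
    let m' := RingHom.ker (Bialgebra.counitAlgHom k (A ⧸ J))
    have hcot : Module.finrank k m'.Cotangent = d := by
      rw [← hd]
      have hcomap : RingHom.ker (Bialgebra.counitAlgHom k A) = m'.comap q := Ideal.ext fun x => Iff.rfl
      have hmap : (RingHom.ker (Bialgebra.counitAlgHom k A)).map q = m' := by
        rw [hcomap]
        exact Ideal.map_comap_of_surjective q Ideal.Quotient.mk_surjective m'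
      let f : (RingHom.ker (Bialgebra.counitAlgHom k A)).Cotangent →ₗ[k] m'.Cotangent :=
        Ideal.mapCotangent _ m' q hcomap.le
      have hbij : Function.Bijective f := by
        constructor
        · rw [injective_iff_map_eq_zero]
          intro y hy
          obtain ⟨x, rfl⟩ := Ideal.toCotangent_surjective _ y
          rw [Ideal.mapCotangent_toCotangent, Ideal.toCotangent_eq_zero] at hy
          rw [Ideal.toCotangent_eq_zero]
          have h1 : (x : A) ∈ (((RingHom.ker (Bialgebra.counitAlgHom k A)) ^ 2).map q).comap q := by
            rw [Ideal.map_pow, hmap]; exact hy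
          rw [Ideal.comap_map_of_surjective q Ideal.Quotient.mk_surjective] at h1
          refine (sup_le le_rfl ?_ : (RingHom.ker (Bialgebra.counitAlgHom k A)) ^ 2 ⊔ _ ≤ _) h1
          intro z hz
          exact hJI (Ideal.Quotient.eq_zero_iff_mem.1 hz)
        · intro y
          obtain ⟨⟨y, hy⟩, rfl⟩ := m'.toCotangent_surjective y
          obtain ⟨x, rfl⟩ := Ideal.Quotient.mk_surjective y
          exact ⟨Ideal.toCotangent _ ⟨x, hcomap.ge hy⟩, Ideal.mapCotangent_toCotangent _ _ _ _ _⟩
      exact ((LinearEquiv.ofBijective f hbij).finrank_eq).symm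
    rw [← hcot]
    have hspan : ∀ P : MvPolynomial (Fin n) k, cotProj (k := k) (MvPolynomial.aeval t P) ∈
        Submodule.span k (Set.range fun i => cotProj (k := k) (t i)) := by
      intro P
      induction P using MvPolynomial.induction_on with
      | C c =>
        rw [MvPolynomial.aeval_C]
        have : cotProj (k := k) (algebraMap k (A ⧸ J) c) = 0 := by
          change Ideal.toCotangent _ _ = 0
          rw [Ideal.toCotangent_eq_zero]
          simp
        rw [this]; exact zero_mem _
      | add P Q hP hQ => rw [map_add, map_add]; exact add_mem hP hQ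
      | mul_X P i hP =>
        rw [map_mul, MvPolynomial.aeval_X, cotProj_mul]
        exact add_mem (Submodule.smul_mem _ _ (Submodule.subset_span ⟨i, rfl⟩)) (Submodule.smul_mem _ _ hP)
    have htop : Submodule.span k (Set.range fun i => cotProj (k := k) (t i)) = ⊤ := by
      rw [eq_top_iff]
      intro y _
      obtain ⟨x, rfl⟩ := Ideal.toCotangent_surjective _ y
      obtain ⟨P, hP⟩ := Ideal.Quotient.mk_surjective (e (x : A ⧸ J))
      have := hspan P
      rwa [haev, hP, e.symm_apply_apply, cotProj_mem x.2] at this
    have hind : LinearIndependent k (fun i => cotProj (k := k) (t i)) := by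
      rw [Fintype.linearIndependent_iff]
      intro c hc j
      let L : MvPolynomial (Fin n) k →ₗ[k] k :=
        (MvPolynomial.aeval (fun _ : Fin n => (0 : k))).toLinearMap ∘ₗ (MvPolynomial.pderiv j).toLinearMap
      have hLdef : ∀ P, L P = MvPolynomial.aeval (fun _ : Fin n => (0 : k)) (MvPolynomial.pderiv j P) :=
        fun P => rfl
      have hL : ∀ a b, L (a * b) = MvPolynomial.aeval (fun _ : Fin n => (0 : k)) a * L b +
          MvPolynomial.aeval (fun _ : Fin n => (0 : k)) b * L a := fun a b => by
        simp only [hLdef, Derivation.leibniz, map_add, smul_eq_mul, map_mul]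
      let ε0 : MvPolynomial (Fin n) k →ₐ[k] k :=
        (Bialgebra.counitAlgHom k (A ⧸ J)).comp (MvPolynomial.aeval t)
      have hε0 : ε0 = MvPolynomial.aeval (fun _ : Fin n => (0 : k)) :=
        MvPolynomial.algHom_ext fun i => by
          simp only [ε0, AlgHom.comp_apply, MvPolynomial.aeval_X]
          exact hεt i
      have hLJ : ∀ P ∈ Jn, L P = 0 := by
        intro P hP
        induction hP using Submodule.span_induction with
        | mem x hx =>
          obtain ⟨i, rfl⟩ := hx
          simp only [hLdef, Derivation.leibniz_pow, map_nsmul]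
          rw [nsmul_eq_mul, CharP.cast_eq_zero, zero_mul]
        | zero => exact map_zero L
        | add a b _ _ ha hb => rw [map_add, ha, hb, add_zero]
        | smul a b hb' hb =>
          rw [smul_eq_mul, hL, hb, mul_zero, zero_add]
          have h0 : MvPolynomial.aeval (fun _ : Fin n => (0 : k)) b = 0 := by
            rw [← hε0]
            simp only [ε0, AlgHom.comp_apply]
            rw [haev, Ideal.Quotient.eq_zero_iff_mem.2 hb', map_zero, map_zero]
          rw [h0, zero_mul]
      -- lift the relation
      let z : MvPolynomial (Fin n) k := ∑ i, c i • MvPolynomial.X i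
      have hεz : counit (R := k) (MvPolynomial.aeval t z) = 0 := by
        simp only [z, map_sum, map_smul, MvPolynomial.aeval_X]
        exact Finset.sum_eq_zero fun i _ => by
          rw [show counit (R := k) (t i) = 0 from hεt i, smul_zero]
      have hz : MvPolynomial.aeval t z ∈ m' ^ 2 := by
        rw [← Ideal.toCotangent_eq_zero m' ⟨_, hεz⟩, ← cotProj_mem (k := k)]
        simp only [z, map_sum, map_smul, MvPolynomial.aeval_X]
        exact hc
      have hLz : ∀ P, MvPolynomial.aeval t P ∈ m' ^ 2 → L P = 0 := by
        have hbase : ∀ y ∈ m' ^ 2, ∃ P, MvPolynomial.aeval t P = y ∧ L P = 0 := by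
          intro y hy
          rw [pow_two] at hy
          refine Submodule.mul_induction_on hy (fun a ha b hb => ?_) fun a b ⟨P, hP, hP'⟩ ⟨Q, hQ, hQ'⟩ =>
            ⟨P + Q, by rw [map_add, hP, hQ], by rw [map_add, hP', hQ', add_zero]⟩
          obtain ⟨P, hP⟩ := Ideal.Quotient.mk_surjective (e a)
          obtain ⟨Q, hQ⟩ := Ideal.Quotient.mk_surjective (e b)
          refine ⟨P * Q, by rw [map_mul, haev, haev, hP, hQ, e.symm_apply_apply, e.symm_apply_apply], ?_⟩
          rw [hL, ← hε0]
          simp only [ε0, AlgHom.comp_apply]
          rw [haev P, haev Q, hP, hQ, e.symm_apply_apply, e.symm_apply_apply,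
            show Bialgebra.counitAlgHom k (A ⧸ J) a = 0 from ha,
            show Bialgebra.counitAlgHom k (A ⧸ J) b = 0 from hb, zero_mul, zero_mul, add_zero]
        intro P hP
        obtain ⟨P', hP', hL'⟩ := hbase _ hP
        have h0 : P - P' ∈ Jn := Ideal.Quotient.eq.1 (e.symm.injective (by rw [← haev, ← haev, hP']))
        have := hLJ _ h0
        rwa [map_sub, hL', sub_zero] at this
      have h := hLz z hz
      rw [hLdef] at h
      simp only [z, map_sum, Derivation.map_smul, map_smul, MvPolynomial.pderiv_X] at h
      rw [Finset.sum_eq_single j (fun b _ hb => by rw [Pi.single_eq_of_ne hb]; simp) (by simp)] at h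
      simpa using h
    rw [Module.finrank_eq_card_basis (Module.Basis.mk hind htop.ge), Fintype.card_fin])

end Groth.Agent.S16685
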