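import Mathlib
import Groth.Agent.ComodBasic.Integral
import Groth.Statements.S16689
-- import your own Groth.Agent.* helpers here

set_option autoImplicit false
universe u v w
open ComodSub

namespace Groth.Agent.S16689

/-- Let `k` be a commutative ring, `A` a commutative Hopf algebra over `k` with antipode `S`, and `M` a
`k`-module with a right `A`-comodule structure `m ↦ Σ m₀ ⊗ m₁`. Then the map `M → A ⊗ M`, `m ↦ Σ
S(m₁) ⊗ m₀`, is coassociative and counital: it is the coaction of a left `A`-comodule structure on
`M` (a left structure is determined by its coaction, so this structure is unique). -/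
theorem result (k : Type u) [CommRing k]
    (A : Type v) [CommRing A] [HopfAlgebra k A]
    (M : Type w) [AddCommGroup M] [Module k M] (c : HopfRep.Comod k A M) :
    ∃ l : ComodSub.LComod k A M, l.coact = ComodSub.lcoactOfRight c := by
  let S := HopfAlgebraStruct.antipode (R := k) (A := A)
  refine ⟨{ coact := ComodSub.lcoactOfRight c, coassoc := ?_, counit_comp := ?_ }, rfl⟩
  · refine LinearMap.ext fun m => ?_
    let Φ : TensorProduct k (TensorProduct k M A) A →ₗ[k] TensorProduct k A (TensorProduct k A M) :=
      (TensorProduct.assoc k A A M).toLinearMap ∘ₗ
        LinearMap.rTensor M ((TensorProduct.comm k A A).toLinearMap ∘ₗ TensorProduct.map S S) ∘ₗ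
        (TensorProduct.comm k M (TensorProduct k A A)).toLinearMap ∘ₗ (TensorProduct.assoc k M A A).toLinearMap
    have hL : ∀ z : TensorProduct k M A,
        (ComodSub.lcoactOfRight c).lTensor A (TensorProduct.comm k M A (S.lTensor M z)) =
          Φ (c.coact.rTensor A z) := by
      intro z
      induction z using TensorProduct.induction_on with
      | zero => simp
      | add a b ha hb => simp only [map_add, ha, hb]
      | tmul v a =>
        simp only [LinearMap.rTensor_tmul, TensorProduct.comm_tmul, LinearMap.lTensor_tmul, ComodSub.lcoactOfRight_apply]
        generalize c.coact v = w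
        induction w using TensorProduct.induction_on with
        | zero => simp
        | add p q hp hq => simp only [map_add, TensorProduct.add_tmul, TensorProduct.tmul_add, hp, hq]
        | tmul u b => simp [Φ, S]
    have hR : ∀ z : TensorProduct k M A,
        TensorProduct.assoc k A A M
          ((CoalgebraStruct.comul (R := k) (A := A)).rTensor M (TensorProduct.comm k M A (S.lTensor M z))) =
          Φ ((TensorProduct.assoc k M A A).symm ((CoalgebraStruct.comul (R := k) (A := A)).lTensor M z)) := by
      intro z
      induction z using TensorProduct.induction_on with
      | zero => simp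
      | add a b ha hb => simp only [map_add, ha, hb]
      | tmul v a =>
        simp only [LinearMap.rTensor_tmul, TensorProduct.comm_tmul, LinearMap.lTensor_tmul, S]
        rw [show HopfAlgebraStruct.antipode (R := k) a = HopfAlgebra.antipode k a from rfl, Groth.Agent.ComodBasic.comul_antipode]
        generalize CoalgebraStruct.comul (R := k) a = y
        induction y using TensorProduct.induction_on with
        | zero => simp
        | add p q hp hq => simp only [map_add, TensorProduct.add_tmul, TensorProduct.tmul_add, hp, hq]
        | tmul b c' => simp [Φ, S]
    simp only [LinearMap.comp_apply, LinearEquiv.coe_coe]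
    rw [ComodSub.lcoactOfRight_apply, hL, hR]
    refine congrArg Φ ((TensorProduct.assoc k M A A).injective ?_)
    rw [LinearEquiv.apply_symm_apply]
    exact LinearMap.congr_fun c.coassoc m
  · refine LinearMap.ext fun m => ?_
    have h : ∀ z : TensorProduct k M A,
        (CoalgebraStruct.counit (R := k) (A := A)).rTensor M (TensorProduct.comm k M A (S.lTensor M z)) =
          TensorProduct.comm k M k ((CoalgebraStruct.counit (R := k) (A := A)).lTensor M z) := by
      intro z
      induction z using TensorProduct.induction_on with
      | zero => simp
      | add a b ha hb => simp only [map_add, ha, hb]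
      | tmul v a => simp [S]
    simp only [LinearMap.comp_apply]
    rw [ComodSub.lcoactOfRight_apply, h]
    rw [show (CoalgebraStruct.counit (R := k) (A := A)).lTensor M (c.coact m) = m ⊗ₜ[k] (1 : k) from
      LinearMap.congr_fun c.counit_comp m]
    rfl

end Groth.Agent.S16689
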