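import Groth.Statements.S1670
import Groth.Agent.GeomIrr.Orbit
-- import your own Groth.Agent.* helpers here

set_option autoImplicit false
universe u
open CategoryTheory CategoryTheory.Limits AlgebraicGeometry
open Variety

namespace Groth.Agent.S1670

/-- Let X be locally of finite type over k, K a separable closure of k, and T an irreducible component
of X. Then the inverse image of T in X_K is the union of the finitely many irreducible components of
X_K mapping into T, and these form a single orbit under the action of the k-automorphisms of K on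
X_K. -/
theorem result (k : Type u) [Field k] (X : Scheme.{u}) [X.Over (Spec (CommRingCat.of k))] [LocallyOfFiniteType (X ↘ (Spec (CommRingCat.of k)))]
    (T : Set X) (hT : T ∈ irreducibleComponents (X : Type u)) :
    {T' : Set (Curv2.bc k X (SeparableClosure k)) | T' ∈ irreducibleComponents (Curv2.bc k X (SeparableClosure k) : Type u) ∧
        (Curv2.bcFst k X (SeparableClosure k)).base '' T' ⊆ T}.Finite ∧
      (Curv2.bcFst k X (SeparableClosure k)).base ⁻¹' T = ⋃₀ {T' : Set (Curv2.bc k X (SeparableClosure k)) | T' ∈ irreducibleComponents (Curv2.bc k X (SeparableClosure k) : Type u) ∧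
        (Curv2.bcFst k X (SeparableClosure k)).base '' T' ⊆ T} ∧
      ∀ T' T'' : Set (Curv2.bc k X (SeparableClosure k)), T' ∈ irreducibleComponents (Curv2.bc k X (SeparableClosure k) : Type u) →
        T'' ∈ irreducibleComponents (Curv2.bc k X (SeparableClosure k) : Type u) →
        (Curv2.bcFst k X (SeparableClosure k)).base '' T' ⊆ T → (Curv2.bcFst k X (SeparableClosure k)).base '' T'' ⊆ T →
        ∃ σ : (SeparableClosure k) ≃ₐ[k] (SeparableClosure k), (Curv2.galAct k X (SeparableClosure k) σ).base '' T' = T'' := by
  let f := X ↘ Spec (CommRingCat.of k)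
  let K := SeparableClosure k
  let η := genericPoints.ofComponent (⟨T, hT⟩ : irreducibleComponents ↥X)
  have hη : closure {η.1} = T := genericPoints.isGenericPoint_ofComponent _
  have key : ∀ T' ∈ irreducibleComponents (Curv2.bc k X K : Type u), (Curv2.bcFst k X K).base '' T' ⊆ T →
      ∃ g ∈ genericPoints ↥(pullback f (FieldExtConn.ext k K)), closure {g} = T' ∧ pullback.fst f (FieldExtConn.ext k K) g = η.1 := by
    intro T' hT' hsub
    let g := genericPoints.ofComponent (⟨T', hT'⟩ : irreducibleComponents ↥(pullback f (FieldExtConn.ext k K)))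
    have hg : closure {g.1} = T' := genericPoints.isGenericPoint_ofComponent _
    refine ⟨g.1, g.2, hg, ?_⟩
    have h1 : η.1 ⤳ pullback.fst f (FieldExtConn.ext k K) g.1 := by
      rw [specializes_iff_mem_closure, hη]
      exact hsub ⟨g.1, hg ▸ subset_closure rfl, rfl⟩
    exact ((GeomIrr.mem_genericPoints_iff.1 (GeomIrr.fst_mem_genericPoints f g.2) _ h1).antisymm h1).eq
  refine ⟨?_, ?_, fun T' T'' hT' hT'' hs' hs'' => ?_⟩
  · obtain ⟨φ, hφ, hfd⟩ := GeomIrr.residue_finiteDimensional f η.1
    refine ((GeomIrr.finite_genericPoints_over f η.2 hφ hfd K).image (fun g => closure {g})).subset ?_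
    rintro T' ⟨hT', hsub⟩
    obtain ⟨g, hg, hgT, hgη⟩ := key T' hT' hsub
    exact ⟨g, ⟨hg, hgη⟩, hgT⟩
  · refine (GeomIrr.preimage_component_eq f K hT).trans ?_
    congr 1
    refine Set.ext fun T' => and_congr_right fun _ => ?_
    exact Set.image_subset_iff.symm
  · obtain ⟨g', hg', rfl, h'⟩ := key T' hT' hs'
    obtain ⟨g'', hg'', rfl, h''⟩ := key T'' hT'' hs''
    obtain ⟨σ, hσ⟩ := GeomIrr.exists_galois_of_fst_eq f g' g'' (h'.trans h''.symm)
    refine ⟨σ, ?_⟩
    have heq : Curv2.galAct k X K σ = FieldExtConn.baseMap f (σ : K →ₐ[k] K) := by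
      apply pullback.hom_ext
      · rw [FieldExtConn.baseMap_fst]; exact (pullback.lift_fst _ _ _).trans (Category.comp_id _)
      · rw [FieldExtConn.baseMap_snd]; exact pullback.lift_snd _ _ _
    rw [heq, GeomIrr.image_closure_baseMap_equiv, hσ]

end Groth.Agent.S1670
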