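import Mathlib
import Groth.Statements.S16707
-- import your own Groth.Agent.* helpers here

set_option autoImplicit false
universe u v
open CAlg

namespace Groth.Agent.S16707

open TensorProduct in
/-- Let A be a commutative ring, I a nilpotent ideal of A and f : M → N a homomorphism of A-modules with
N flat over A (no finiteness assumption on M or N). If the base change of f to A/I, that is M/IM →
N/IN, is bijective, then f is bijective. -/
theorem result (A : Type u) [CommRing A] (I : Ideal A)
    (hI : IsNilpotent I) (M N : Type v) [AddCommGroup M] [Module A M] [AddCommGroup N] [Module A N]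
    [Module.Flat A N] (f : M →ₗ[A] N)
    (hf : Function.Bijective (f.baseChange (A ⧸ I))) :
    Function.Bijective f := by
  obtain ⟨hinj, hsurj⟩ := hf
  obtain ⟨n, hn⟩ := hI
  have hmkN : ∀ y : N, ∃ x : M, y - f x ∈ I • (⊤ : Submodule A N) := by
    intro y
    obtain ⟨z, hz⟩ := hsurj (1 ⊗ₜ y)
    obtain ⟨x, rfl⟩ : ∃ x : M, (1 : A ⧸ I) ⊗ₜ[A] x = z := TensorProduct.mk_surjective A M (A ⧸ I) Ideal.Quotient.mk_surjective z
    refine ⟨x, ?_⟩
    rw [← Submodule.Quotient.eq]
    have := congrArg (TensorProduct.quotTensorEquivQuotSMul N I) hz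
    simp only [LinearMap.baseChange_tmul, ← map_one (Ideal.Quotient.mk I),
      TensorProduct.quotTensorEquivQuotSMul_mk_tmul, one_smul] at this
    exact this.symm
  have hs : Function.Surjective f := by
    have hk : ∀ k, (⊤ : Submodule A N) ≤ LinearMap.range f ⊔ I ^ k • ⊤ := by
      intro k
      induction k with
      | zero => rw [pow_zero, Ideal.one_eq_top, Submodule.top_smul]; exact le_sup_right
      | succ k ih =>
        have h1 : (⊤ : Submodule A N) ≤ LinearMap.range f ⊔ I • ⊤ := fun y _ => by
          obtain ⟨x, hx⟩ := hmkN y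
          exact Submodule.mem_sup.2 ⟨f x, ⟨x, rfl⟩, y - f x, hx, add_sub_cancel _ _⟩
        refine h1.trans (sup_le le_sup_left ((Submodule.smul_mono le_rfl ih).trans ?_))
        rw [Submodule.smul_sup, pow_succ' I k, ← smul_eq_mul, Submodule.smul_assoc]
        exact sup_le (Submodule.smul_le_right.trans le_sup_left) le_sup_right
    rw [← LinearMap.range_eq_top, eq_top_iff]
    have := hk n
    rwa [hn, Ideal.zero_eq_bot, Submodule.bot_smul, sup_bot_eq] at this
  refine ⟨?_, hs⟩
  rw [← LinearMap.ker_eq_bot]
  set K := LinearMap.ker f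
  have hK : K ≤ I • K := by
    intro x hx
    have hxI : x ∈ I • (⊤ : Submodule A M) := by
      have h0 : (1 : A ⧸ I) ⊗ₜ[A] x = 0 := hinj (by rw [LinearMap.baseChange_tmul, LinearMap.mem_ker.1 hx, TensorProduct.tmul_zero, map_zero])
      rw [← Submodule.Quotient.mk_eq_zero]
      have := congrArg (TensorProduct.quotTensorEquivQuotSMul M I) h0
      simp only [map_zero, ← map_one (Ideal.Quotient.mk I), TensorProduct.quotTensorEquivQuotSMul_mk_tmul, one_smul] at this
      exact this
    have key : ∀ (P : Type v) [AddCommGroup P] [Module A P], ∀ z ∈ I • (⊤ : Submodule A P),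
        ∃ η : I ⊗[A] P, TensorProduct.lid A P (I.subtype.rTensor P η) = z := by
      intro P _ _ z hz
      refine Submodule.smul_induction_on hz (fun a ha m _ => ⟨⟨a, ha⟩ ⊗ₜ m, by simp⟩)
        (fun a b ⟨η, hη⟩ ⟨θ, hθ⟩ => ⟨η + θ, by rw [map_add, map_add, hη, hθ]⟩)
    obtain ⟨η, hη⟩ := key M x hxI
    have hnat : ∀ (P Q : Type v) [AddCommGroup P] [Module A P] [AddCommGroup Q] [Module A Q] (g : P →ₗ[A] Q) (θ : I ⊗[A] P),
        TensorProduct.lid A Q (I.subtype.rTensor Q (g.lTensor I θ)) = g (TensorProduct.lid A P (I.subtype.rTensor P θ)) := by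
      intro P Q _ _ _ _ g θ
      induction θ using TensorProduct.induction_on with
      | zero => simp
      | tmul a m => simp
      | add a b ha hb => simp [map_add, ha, hb]
    have h0 : f.lTensor I η = 0 := by
      apply Module.Flat.rTensor_preserves_injective_linearMap (M := N) I.subtype Subtype.val_injective
      apply (TensorProduct.lid A N).injective
      rw [hnat, hη, LinearMap.mem_ker.1 hx, map_zero, map_zero]
    have hex := lTensor_exact I (f.exact_subtype_ker_map) hs
    obtain ⟨θ, rfl⟩ := (hex η).1 h0
    rw [hnat] at hη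
    rw [← hη]
    generalize θ = θ'
    induction θ' using TensorProduct.induction_on with
    | zero => simp
    | tmul a m =>
      simp only [LinearMap.rTensor_tmul, Submodule.subtype_apply, TensorProduct.lid_tmul, SetLike.val_smul]
      exact Submodule.smul_mem_smul a.2 m.2
    | add a b ha hb => rw [map_add, map_add, map_add]; exact add_mem ha hb
  have hKn : ∀ k, K ≤ I ^ k • K := by
    intro k
    induction k with
    | zero => rw [pow_zero, Ideal.one_eq_top, Submodule.top_smul]
    | succ k ih =>
      refine ih.trans ?_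
      rw [pow_succ, ← smul_eq_mul, Submodule.smul_assoc]
      exact Submodule.smul_mono le_rfl hK
  exact le_bot_iff.1 (by simpa [hn] using hKn n)

end Groth.Agent.S16707
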