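import Groth.Statements.S16708
import Groth.Agent.ComodBasic.Integral


set_option autoImplicit false
universe u
open HopfRep

namespace Groth.Agent.S16708

/-- Let G be a finite group and k a field in which the order of G is a nonzero element. Then the
constant group scheme of G over k is linearly reductive: every finite-dimensional comodule over its
coordinate Hopf algebra (the algebra of functions G → k with the Hopf structure of the constant
group) is semisimple, i.e. every subcomodule admits a complementary subcomodule. -/
theorem result (k : Type u) [Field k] (G : Type u) [Group G]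
    [Fintype G] [DecidableEq G] (hG : ((Fintype.card G : ℕ) : k) ≠ 0) :
    HopfRep.IsLinearlyReductive k (ConstGrp.F k G) := by
  open Groth.Agent.ComodBasic CoalgebraStruct in
  exact (by
    classical
    intro V _ _ _ _
    let c : k := ((Fintype.card G : ℕ) : k)⁻¹
    let α : ConstGrp.F k G →ₗ[k] k := c • ∑ g : G, (LinearMap.proj g : (G → k) →ₗ[k] k)
    have hα : ∀ f, α f = c * ∑ g : G, (f : G → k) g := fun f => by
      show (c • ∑ g : G, (LinearMap.proj g : (G → k) →ₗ[k] k)) (f : G → k) = _
      simp only [LinearMap.smul_apply, LinearMap.coe_sum, Finset.sum_apply, LinearMap.proj_apply, smul_eq_mul]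
    have hint : IsLeftInt α := fun f => by
      rw [show comul (R := k) f = _ from ConstGrp.comul_eq_sum (R := k) (G := G) f]
      simp only [map_sum, map_smul, slice_tmul]
      funext x
      show (∑ a : G, ∑ b : G, f (a * b) • α (ConstGrp.e k b) • (ConstGrp.e k a : G → k)) x = α f • (1 : k)
      simp only [Finset.sum_apply, Pi.smul_apply, hα, smul_eq_mul, mul_one]
      simp [ConstGrp.e, Pi.single_apply, Finset.mul_sum]
      erw [Finset.sum_apply]
      rw [Finset.sum_eq_single x]
      · erw [Finset.sum_apply]
        refine Fintype.sum_equiv (Equiv.mulLeft x) _ _ fun b => ?_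
        simp [mul_comm]
      · intro a _ hax
        erw [Finset.sum_apply]
        simp [Ne.symm hax]
      · simp
    have h1 : α 1 = 1 := by
      rw [hα]
      show c * ∑ _g : G, (1 : k) = 1
      simp [c, inv_mul_cancel₀ hG]
    exact isSemisimpleComod_iff.2 (isSemisimpleModule_of_isLeftInt hint h1))

end Groth.Agent.S16708
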