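import Groth.Statements.S16717
import Groth.Agent.ComodBasic.Reductive
import Groth.Agent.ComodBasic.Dual


set_option autoImplicit false
universe u v
open HopfRep

namespace Groth.Agent.S16717
open Groth.Agent.ComodBasic

open TensorProduct in
/-- Equivalence of the exactness of invariants with complete reducibility of finite-dimensional
representations. Let k be a field and A a finitely generated commutative Hopf algebra over k (the
coordinate ring of an affine algebraic group G). Then every finite-dimensional A-comodule is
semisimple if and only if taking fixed vectors is exact, i.e. for every surjective comodule map φ :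
V → W between A-comodules (of any dimension; φ k-linear with (φ ⊗ id) ∘ ρ_V = ρ_W ∘ φ) every fixed
vector of W is the image of a fixed vector of V. -/
theorem result (k : Type u) [Field k] (A : Type v)
    [CommRing A] [HopfAlgebra k A] (hA : Algebra.FiniteType k A) :
    HopfRep.IsLinearlyReductive k A ↔
      ∀ (V W : Type v) [AddCommGroup V] [Module k V] [HopfRep.Comod k A V]
        [AddCommGroup W] [Module k W] [HopfRep.Comod k A W] (φ : V →ₗ[k] W),
        LinearMap.rTensor A φ ∘ₗ HopfRep.Comod.coact (k := k) (A := A) (V := V) =
            HopfRep.Comod.coact (k := k) (A := A) (V := W) ∘ₗ φ →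
          Function.Surjective φ →
            ∀ w ∈ HopfRep.fixedPts k A W, ∃ v ∈ HopfRep.fixedPts k A V, φ v = w := by
  constructor
  · intro hG V W _ _ _ _ _ _ φ hφ hsurj w hw
    haveI : IsSemisimpleModule (Cv k A) V := isSemisimpleModule_of_finite hG V
    exact exists_fixed_lift (toLin φ hφ.symm) hsurj hw
  · intro hex V _ _ cV hV U hU
    haveI := hV
    letI cU : HopfRep.Comod k A U := ComodSub.Comod.restr cV U hU
    have hi : Hoch.IsComodHom A U.subtype := ComodSub.isComodHom_subtype cV U hU
    -- move the two Hom comodules to the universe of `A`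
    let eX : Module.Dual k V ⊗[k] U ≃ₗ[k] (Fin (Module.finrank k V) → U) :=
      (dualTensorHomEquiv k V U).trans ((Module.finBasis k V).constr k).symm
    let eY : Module.Dual k U ⊗[k] U ≃ₗ[k] (Fin (Module.finrank k U) → U) :=
      (dualTensorHomEquiv k U U).trans ((Module.finBasis k U).constr k).symm
    let cX := ComodTens.Comod.ofEquiv eX (ComodTens.Comod.tensor (dualComod k A V) cU)
    let cY := ComodTens.Comod.ofEquiv eY (ComodTens.Comod.tensor (dualComod k A U) cU)
    let res : (Fin (Module.finrank k V) → U) →ₗ[k] (Fin (Module.finrank k U) → U) :=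
      eY.toLinearMap ∘ₗ U.subtype.dualMap.rTensor U ∘ₗ eX.symm.toLinearMap
    have hres : res.rTensor A ∘ₗ cX.coact = cY.coact ∘ₗ res := by
      refine LinearMap.ext fun z => ?_
      obtain ⟨x, rfl⟩ := eX.surjective z
      have h1 : res ∘ₗ eX.toLinearMap = eY.toLinearMap ∘ₗ U.subtype.dualMap.rTensor U := by
        refine LinearMap.ext fun t => ?_
        simp [res]
      rw [LinearMap.comp_apply, LinearMap.comp_apply, ComodTens.ofEquiv_coact_apply,
        ← LinearMap.comp_apply (res.rTensor A), ← LinearMap.rTensor_comp]
      have h2 : res (eX x) = eY (U.subtype.dualMap.rTensor U x) := LinearMap.congr_fun h1 x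
      rw [h1, h2, ComodTens.ofEquiv_coact_apply, rTensor_dualMap_coact U.subtype hi,
        LinearMap.rTensor_comp]
      rfl
    have hsurj : Function.Surjective res :=
      eY.surjective.comp ((LinearMap.rTensor_surjective U
        (LinearMap.dualMap_surjective_of_injective U.subtype_injective)).comp eX.symm.surjective)
    obtain ⟨y, hy⟩ : ∃ y, dualTensorHom k U U y = LinearMap.id :=
      (dualTensorHom_bijective (R := k) (M := U) (N := U)).2 _
    have hyfix : (ComodTens.Comod.tensor (dualComod k A U) cU).coact y = y ⊗ₜ[k] (1 : A) := by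
      rw [mem_fixedPts_iff_isComodHom, hy, Hoch.IsComodHom, LinearMap.rTensor_id, LinearMap.comp_id,
        LinearMap.id_comp]
    have hw : eY y ∈ @HopfRep.fixedPts k A _ _ _ _ _ _ cY := by
      show cY.coact (eY y) = eY y ⊗ₜ[k] (1 : A)
      rw [ComodTens.ofEquiv_coact_apply, hyfix, LinearMap.rTensor_tmul]
      rfl
    obtain ⟨v, hv, hvy⟩ := @hex _ _ _ _ cX _ _ cY res hres hsurj (eY y) hw
    obtain ⟨x, rfl⟩ := eX.surjective v
    have hx : (ComodTens.Comod.tensor (dualComod k A V) cU).coact x = x ⊗ₜ[k] (1 : A) := by
      have h : cX.coact (eX x) = eX x ⊗ₜ[k] (1 : A) := hv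
      rw [ComodTens.ofEquiv_coact_apply] at h
      exact (eX.rTensor A).injective (h.trans (LinearMap.rTensor_tmul _ _ _ _).symm)
    have hp : Hoch.IsComodHom A (dualTensorHom k V U x) := (mem_fixedPts_iff_isComodHom x).1 hx
    have hpi : dualTensorHom k V U x ∘ₗ U.subtype = LinearMap.id := by
      have h : U.subtype.dualMap.rTensor U x = y := by
        apply eY.injective
        simpa [res] using hvy
      rw [← hy, ← h]
      clear hvy hx hp h hv
      induction x using TensorProduct.induction_on with
      | zero => simp
      | add a b ha hb => simp [LinearMap.add_comp, ha, hb]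
      | tmul g u => exact LinearMap.ext fun w => by simp
    refine ⟨(LinearMap.ker (toLin _ hp)).restrictScalars k, isSubcomod_restrict _, ?_⟩
    exact LinearMap.isCompl_of_proj (f := dualTensorHom k V U x) fun w => LinearMap.congr_fun hpi w

end Groth.Agent.S16717
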