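import Groth.Statements.S16709
import Groth.Agent.ComodBasic.Reductive
import Groth.Agent.S16717
import Groth.Prelude.Def_ComodSub


set_option autoImplicit false
universe u v
open HopfRep

namespace Groth.Agent.S16709
open Groth.Agent.ComodBasic

open TensorProduct in
/-- The equivalence of complete reducibility of finite-dimensional representations with the
invariant-section criterion. Let k be a field and A a finitely generated commutative Hopf algebra
over k, the coordinate ring of an affine algebraic group G. Then G is linearly reductive (every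
finite-dimensional A-comodule is semisimple) if and only if for every finite-dimensional A-comodule
V and every surjective k-linear map π : V → k which is a comodule map to the trivial comodule (that
is, (π ⊗ id) ∘ ρ_V = (c ↦ c ⊗ 1) ∘ π for the coaction ρ_V) there is a fixed vector v of V with π v ≠
0. (The published fourth condition is phrased with all G-fixed points of the projective space of V
and G-invariant linear forms; it fails for a fixed point on which G acts through a non-trivial
character, for instance the multiplicative group acting on a line with weight one, and this row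
states the condition in the form the published proof uses: surjections onto the trivial
one-dimensional comodule.) -/
theorem result (k : Type u) [Field k] (A : Type v)
    [CommRing A] [HopfAlgebra k A] (hA : Algebra.FiniteType k A) :
    HopfRep.IsLinearlyReductive k A ↔
      ∀ (V : Type v) [AddCommGroup V] [Module k V] [HopfRep.Comod k A V], Module.Finite k V →
        ∀ π : V →ₗ[k] k, Function.Surjective π →
          LinearMap.rTensor A π ∘ₗ HopfRep.Comod.coact (k := k) (A := A) (V := V) =
            (TensorProduct.mk k k A).flip (1 : A) ∘ₗ π →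
          ∃ v ∈ HopfRep.fixedPts k A V, π v ≠ 0 := by
  constructor
  · intro hG V _ _ cV hV π hπ hhom
    letI : HopfRep.Comod k A k := HopfRep.Comod.trivial k A k
    haveI : IsSemisimpleModule (Cv k A) V := isSemisimpleModule_of_finite hG V
    have hh : Hoch.IsComodHom A π := hhom.symm
    have h1 : (1 : k) ∈ HopfRep.fixedPts k A k := rfl
    obtain ⟨v, hv, hv1⟩ := exists_fixed_lift (toLin π hh) hπ h1
    exact ⟨v, hv, by rw [show π v = 1 from hv1]; exact one_ne_zero⟩
  · intro h
    refine (S16717.result k A hA).2 fun V W _ _ cV _ _ cW φ hφ hsurj w hw => ?_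
    have hφ' : Hoch.IsComodHom A φ := hφ.symm
    by_cases hw0 : w = 0
    · exact ⟨0, Submodule.zero_mem _, by rw [map_zero, hw0]⟩
    obtain ⟨v₀, rfl⟩ := hsurj w
    obtain ⟨η, hη⟩ := Module.Projective.exists_dual_ne_zero k hw0
    let ξ : W →ₗ[k] k := (η (φ v₀))⁻¹ • η
    have hξw : ξ (φ v₀) = 1 := inv_mul_cancel₀ hη
    obtain ⟨M, hM, hMv⟩ := exists_finite_subcomod_of_finite (k := k) (C := A) (V := V) {v₀} (Set.finite_singleton _)
    let φl : V →ₗ[Cv k A] W := toLin φ hφ'
    have hwfix : ∀ θ : Cv k A, θ • φ v₀ = θ.ofConv 1 • φ v₀ := mem_fixedPts_iff.1 hw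
    let S : Submodule (Cv k A) V := M ⊓ (Submodule.span (Cv k A) {φl v₀}).comap φl
    haveI : Module.Finite k (S.restrictScalars k) := by
      haveI := hM
      exact Submodule.finiteDimensional_of_le (S₂ := M.restrictScalars k) fun x hx => hx.1
    letI : HopfRep.Comod k A (S.restrictScalars k) := ComodSub.Comod.restr cV _ (isSubcomod_restrict S)
    have hsub : Hoch.IsComodHom A (S.restrictScalars k).subtype :=
      ComodSub.isComodHom_subtype cV _ (isSubcomod_restrict S)
    have hspan : ∀ x : V, x ∈ S → φ x = ξ (φ x) • φ v₀ := by
      intro x hx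
      obtain ⟨θ, hθ⟩ := Submodule.mem_span_singleton.1 hx.2
      rw [show φ x = θ • φ v₀ from hθ.symm, hwfix, map_smul, hξw, smul_eq_mul, mul_one]
    let π : (S.restrictScalars k) →ₗ[k] k := ξ ∘ₗ φ ∘ₗ (S.restrictScalars k).subtype
    have hS : v₀ ∈ S := ⟨hMv rfl, Submodule.mem_span_singleton_self (φl v₀)⟩
    have hπ1 : π ⟨v₀, hS⟩ = 1 := hξw
    obtain ⟨x, hx, hx0⟩ := h (S.restrictScalars k) inferInstance π
      (fun c => ⟨c • ⟨v₀, hS⟩, by rw [map_smul, hπ1, smul_eq_mul, mul_one]⟩) (by
        refine LinearMap.ext fun x => ?_
        rw [LinearMap.comp_apply, LinearMap.comp_apply, LinearMap.flip_apply, TensorProduct.mk_apply]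
        refine eq_of_slice fun θ => ?_
        rw [slice_rTensor, slice_tmul]
        have hθ := (isComodHom_iff _).1 hsub (WithConv.toConv θ) x
        change π (act θ x) = _
        rw [show π (act θ x) = ξ (φ ((act θ x : S.restrictScalars k) : V)) from rfl,
          show ((act θ x : S.restrictScalars k) : V) = (WithConv.toConv θ : Cv k A) • (x : V) from hθ,
          show φ ((WithConv.toConv θ : Cv k A) • (x : V)) = (WithConv.toConv θ : Cv k A) • φ (x : V) from
            φl.map_smul _ _,
          show φ (x : V) = ξ (φ (x : V)) • φ v₀ from hspan _ x.2, smul_comm, hwfix, map_smul, map_smul,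
          hξw]
        change _ = θ 1 * π x
        simp [π, mul_comm])
    refine ⟨(π x)⁻¹ • (x : V), Submodule.smul_mem _ _ (map_mem_fixedPts (toLin _ hsub) hx), ?_⟩
    rw [map_smul, hspan _ x.2, smul_smul]
    change ((π x)⁻¹ * π x) • φ v₀ = φ v₀
    rw [inv_mul_cancel₀ hx0, one_smul]

end Groth.Agent.S16709
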