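import Groth.Statements.S16711
import Groth.Agent.IntTh.Criteria

set_option autoImplicit false
set_option backward.isDefEq.respectTransparency false
universe u
open CategoryTheory CategoryTheory.Limits AlgebraicGeometry TopologicalSpace
open Variety

namespace Groth.Agent.S16711

/-- The implication from the fourth condition to ampleness. Fix an algebraically closed field k, a
proper k-scheme X and an invertible O_X-module L. Assume that L is strictly nef, meaning χ(O_C ⊗ L)
- χ(O_C) > 0 for every integral closed subscheme C ⊆ X of dimension one, and that for every integral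
closed subscheme Z ⊆ X some positive tensor power of the pullback L|_Z has a nonzero global section
O_Z → L|_Z^{⊗ m}. Then L is ample. -/
theorem result (k : Type u) [Field k] [IsAlgClosed k]
    (X : Scheme.{u}) [X.Over (Spec (CommRingCat.of k))] [IsProper (X ↘ (Spec (CommRingCat.of k)))]
    (L : X.Modules) (hL : PicF.IsInvertible L)
    (hnef : ∀ C : X.IdealSheafData, IsIntegral C.subscheme →
      topologicalKrullDim (C.support : Set X) = 1 →
        0 < Curv2.euler k X (CohB1.tensorMod (ClSub.quotMod C) L) - Curv2.euler k X (ClSub.quotMod C))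
    (heff : ∀ Z : X.IdealSheafData, IsIntegral Z.subscheme →
      ∃ (m : ℕ) (s : Coh.structureModule Z.subscheme ⟶
          CohB1.tensorPow ((Scheme.Modules.pullback Z.subschemeι).obj L) (m + 1)), s ≠ 0) :
    CohB1.IsAmple L := by
  refine IntTh.isAmple_of_strictNef_of_sections k hL (IntTh.strictNef_of_ideal k hL hnef) fun W j _ _ => ?_
  let Z : TopologicalSpace.Closeds X := ⟨Set.range j, j.isClosedEmbedding.isClosed_range⟩
  have hirr : IsIrreducible (Z : Set X) := by
    show IsIrreducible (Set.range j)
    rw [← Set.image_univ]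
    exact (IrreducibleSpace.isIrreducible_univ W).image _ j.continuous.continuousOn
  let J := Scheme.IdealSheafData.vanishingIdeal Z
  have hI : IsIntegral J.subscheme := CohFinite.isIntegral_vanishingIdeal Z.isClosed hirr
  obtain ⟨m, s, hs⟩ := heff J hI
  have hk : J.subschemeι.ker = j.ker := by
    rw [HilbPoly.ker_eq_vanishingIdeal j (C := Z) rfl]
    exact Scheme.IdealSheafData.ker_subschemeι _
  let a := IsClosedImmersion.lift J.subschemeι j hk.le
  have ha : a ≫ J.subschemeι = j := IsClosedImmersion.lift_fac _ _ _
  haveI : IsIso a := IsClosedImmersion.isIso_lift J.subschemeι j hk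
  haveI := hI
  obtain ⟨σ, hσ⟩ := IntTh.globalHom_ne_zero hs
  have hJ := ProjUniv.isInvertible_pullback J.subschemeι hL
  have hJm := InvPow.isInvertible_tensorPow hJ (m + 1)
  obtain ⟨z, hz⟩ := CurveDeg.genOpen_nonempty_of_ne_zero hJm hσ
  let e : (Scheme.Modules.pullback a).obj ((Scheme.Modules.pullback J.subschemeι).obj L) ≅ (Scheme.Modules.pullback j).obj L :=
    (Scheme.Modules.pullbackComp a J.subschemeι).app L ≪≫ (Scheme.Modules.pullbackCongr ha).app L
  obtain ⟨τ, hτ⟩ := (InvPow.trPull a hJ).exists_map hJ (one_mul (m + 1)) σ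
  obtain ⟨τ', hτ'⟩ := (InvPow.trIso e).exists_map (ProjUniv.isInvertible_pullback a hJ) (one_mul (m + 1)) τ
  obtain ⟨y, hy⟩ := a.homeomorph.surjective z
  refine ⟨m + 1, Nat.succ_pos m, τ', IntTh.ne_zero_of_mem_genOpen
    (InvPow.isInvertible_tensorPow (ProjUniv.isInvertible_pullback j hL) (m + 1)) (x := y) ?_⟩
  rw [hτ', hτ]
  show a y ∈ ProjUniv.genOpen hJm σ
  exact hy ▸ hz
end Groth.Agent.S16711
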