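import Groth.Statements.S16713
import Groth.Agent.NL17.LCI
import Groth.Agent.GorLib.RingLevel
import Groth.Agent.GrInj.GorCrit
import Groth.Agent.SegreOne.Poly

set_option autoImplicit false
universe u
open CotT

namespace Groth.Agent.S16713

/-- The final assertion, in the case where the base is a field. Let k be a field and A a k-algebra which
is a local complete intersection over k (of finite type, presented by a polynomial algebra in
finitely many variables with Koszul-regular kernel) and generically smooth over k, in the sense that
the localization of A at each of its minimal primes is formally smooth over k. Then H^1 of the naive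
cotangent complex L_{A/k} vanishes: for the presentation A = P/I by the polynomial k-algebra P on
the elements of A, the conormal map I/I² → Ω_{P/k} ⊗_P A is injective, so that L_{A/k} is
quasi-isomorphic to Ω_{A/k}. (The published statement is for a generically smooth syntomic morphism
over an arbitrary base, where it fails when the base has embedded points: over B = k[s,t]/(s², st)
with 2 invertible in k, the algebra B[x]/(x² − t) is a relative complete intersection, free of rank
two and smooth where x is invertible, yet the class of s·x·(x² − t) is a non-zero element of the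
kernel of its conormal map. This row states the case of an algebra of finite type over a field.) -/
theorem result (k : Type u) [Field k]
    (A : Type u) [CommRing A] [Algebra k A] (hlci : LCI.IsLCI k A)
    (hgs : ∀ (p : Ideal A) [p.IsPrime], p ∈ minimalPrimes A → Algebra.FormallySmooth k (Localization.AtPrime p)) :
    Subsingleton (Algebra.H1Cotangent k A) := by
  haveI : IsNoetherianRing A := by
    haveI := hlci.1
    exact Algebra.FiniteType.isNoetherianRing k A
  haveI := Groth.Agent.GorLib.isGorensteinRing_field k
  haveI : LocCoh.IsGorensteinRing A := Groth.Agent.GorLib.isGorensteinRing_of_isLCI (A := k) hlci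
  haveI : LocCoh.IsCohenMacaulayRing A := Groth.Agent.GrInj.isCohenMacaulayRing_of_gorenstein
  obtain ⟨n, v, hv, hk⟩ := Groth.Agent.KRIdeal.exists_pker hlci
  let G : Algebra.Generators k A (ULift.{u} (Fin n)) :=
    Algebra.Generators.ofSurjective _ (Groth.Agent.NL17.surjective_ulift v hv)
  obtain ⟨-, hproj⟩ := Groth.Agent.NL17.finite_projective_genCotangent G
    (Groth.Agent.NL17.isKRI_ulift v hk)
  haveI := hproj
  suffices h : Subsingleton G.toExtension.H1Cotangent from G.equivH1Cotangent.symm.toEquiv.subsingleton
  refine subsingleton_of_forall_eq 0 fun x => ?_
  have hs : ∀ (p : Ideal A) [p.IsPrime], p ∈ minimalPrimes A → ∃ s ∉ p, s • x.1 = 0 := by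
    intro p _ hp
    haveI := hgs p hp
    haveI : Subsingleton (Algebra.H1Cotangent k (Localization.AtPrime p)) :=
      Algebra.FormallySmooth.subsingleton_h1Cotangent
    obtain ⟨s, hs⟩ := (IsLocalizedModule.eq_iff_exists p.primeCompl
      (Algebra.H1Cotangent.map k k A (Localization.AtPrime p))
      (x₁ := G.equivH1Cotangent x) (x₂ := 0)).1 (Subsingleton.elim _ _)
    rw [Submonoid.smul_def, Submonoid.smul_def, smul_zero, ← map_smul,
      LinearEquiv.map_eq_zero_iff] at hs
    exact ⟨s.1, s.2, congrArg Subtype.val hs⟩
  refine Subtype.ext ((Module.forall_dual_apply_eq_zero_iff A x.1).1 fun φ => ?_)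
  by_contra hc
  obtain ⟨P, hP, hle⟩ := exists_le_isAssociatedPrime_of_isNoetherianRing A (φ x.1) hc
  haveI := hP.isPrime
  obtain ⟨s, hsP, hsx⟩ := hs P (Groth.Agent.SegreOne.mem_minimalPrimes_of_mem_associatedPrimes hP)
  exact hsP (hle (Submodule.mem_colon_singleton.2 ((Submodule.mem_bot A).2
    (by rw [← map_smul, hsx, map_zero]))))

end Groth.Agent.S16713
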