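import Groth.Statements.S16718
import Groth.Agent.ComodBasic.Basic
import Mathlib.RingTheory.FiniteType


set_option autoImplicit false
universe u v w
open TensorProduct
open GLin

namespace Groth.Agent.S16718
open Groth.Agent.ComodBasic

/-- Let k be a field, A a finitely generated commutative Hopf algebra over k (an affine algebraic group
G), R a finitely generated commutative k-algebra carrying an A-comodule structure whose coaction is
an algebra homomorphism (an action of G on X = Spec R), and I an ideal of R which is a subcomodule
(a G-invariant closed subscheme Z of X). Then there is a finite-dimensional subcomodule W of R with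
W ⊆ I generating I as an ideal; equivalently there is a G-equivariant morphism f from X to the
affine space of a finite-dimensional G-representation with f⁻¹(0) = Z as closed subschemes. -/
theorem result (k : Type u) [Field k]
    (A : Type v) [CommRing A] [HopfAlgebra k A] (hA : Algebra.FiniteType k A)
    (R : Type w) [CommRing R] [Algebra k R] [HopfRep.Comod k A R] [GLin.IsCoactAlg k A R]
    (hR : Algebra.FiniteType k R) (I : Ideal R)
    (hI : HopfRep.IsSubcomod (k := k) (A := A) (I.restrictScalars k)) :
    ∃ W : Submodule k R, Module.Finite k W ∧ HopfRep.IsSubcomod (k := k) (A := A) W ∧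
      W ≤ I.restrictScalars k ∧ Ideal.span (W : Set R) = I := by
  haveI : IsNoetherianRing R := Algebra.FiniteType.isNoetherianRing k R
  obtain ⟨s, hs⟩ := (IsNoetherian.noetherian I : I.FG)
  obtain ⟨M, hM, hsM⟩ := exists_finite_subcomod_of_finite (k := k) (C := A) (V := R) (↑s) s.finite_toSet
  have hsI : (↑s : Set R) ⊆ I := hs ▸ Submodule.subset_span
  refine ⟨(M ⊓ toSub (I.restrictScalars k) hI).restrictScalars k, ?_, isSubcomod_restrict _, fun w hw => hw.2, ?_⟩
  · haveI := hM
    exact Submodule.finiteDimensional_of_le (S₂ := M.restrictScalars k) fun w hw => hw.1
  · refine le_antisymm (Ideal.span_le.2 fun w hw => hw.2) ?_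
    exact hs.ge.trans (Submodule.span_mono fun w hw => ⟨hsM hw, hsI hw⟩)

end Groth.Agent.S16718
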