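import Groth.Statements.S16742
import Groth.Agent.MLMod.NilFlat
-- import your own Groth.Agent.* helpers here

set_option autoImplicit false
universe u
open CAlg
open scoped TensorProduct

namespace Groth.Agent.S16742

section Aux
open TensorProduct

lemma zmod_ann (p : ℕ) [Fact p.Prime] (c : ZMod (p ^ 2)) (h : (p : ZMod (p ^ 2)) * c = 0) :
    ∃ d : ZMod (p ^ 2), c = (p : ZMod (p ^ 2)) * d := by
  have hp : p.Prime := Fact.out
  haveI : NeZero (p ^ 2) := ⟨pow_ne_zero 2 hp.ne_zero⟩
  obtain ⟨n, rfl⟩ : ∃ n : ℕ, (n : ZMod (p ^ 2)) = c := ⟨c.val, ZMod.natCast_zmod_val c⟩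
  rw [← Nat.cast_mul, ZMod.natCast_eq_zero_iff, sq] at h
  obtain ⟨m, rfl⟩ := Nat.dvd_of_mul_dvd_mul_left hp.pos h
  exact ⟨m, by push_cast; ring⟩

lemma ann_base (p : ℕ) [Fact p.Prime] (A : Type u) [CommRing A] [Algebra (ZMod (p ^ 2)) A]
    [Module.Flat (ZMod (p ^ 2)) A] (a : A) (h : (p : A) * a = 0) : ∃ d : A, a = (p : A) * d := by
  obtain ⟨k, c, y, hx, hc⟩ := (Module.Flat.isTrivialRelation_of_sum_smul_eq_zero
    (f := fun _ : Fin 1 => (p : ZMod (p ^ 2))) (x := fun _ => a) (by simpa [Algebra.smul_def] using h))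
  have hd : ∀ j, ∃ d, c 0 j = (p : ZMod (p ^ 2)) * d := fun j => zmod_ann p _ (by simpa using hc j)
  choose d hd using hd
  refine ⟨∑ j, d j • y j, ?_⟩
  rw [show a = _ from hx 0, Finset.mul_sum]
  refine Finset.sum_congr rfl fun j _ => ?_
  rw [hd j, Algebra.smul_def, Algebra.smul_def, map_mul, map_natCast, mul_assoc]

end Aux

/-- The equivalence in affine form, with flatness of the reduction in place of smoothness. Let p be a
prime, A~ a commutative ring flat over Z/p^2 and B~ an A~-algebra such that B~/pB~ is flat over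
A~/pA~. Then B~ is flat over A~ if and only if every element of B~ killed by p is a multiple of p;
equivalently multiplication by p identifies B~/pB~ with pB~. (The published statement assumes the
reduction smooth over A~/pA~ and the schemes noetherian, and phrases (b) as B~ being a lifting, that
is flat over A~; the statement here assumes only that the reduction is flat, where the equivalence
still holds by the local flatness criterion for the square-zero ideal generated by p.) -/
theorem result (p : ℕ) [Fact p.Prime]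
    (Al : Type u) [CommRing Al] [Algebra (ZMod (p ^ 2)) Al] [Module.Flat (ZMod (p ^ 2)) Al]
    (Bl : Type u) [CommRing Bl] [Algebra Al Bl]
    (hB : Module.Flat (Al ⧸ Ideal.span {(p : Al)})
      (Bl ⧸ (Ideal.span {(p : Al)}).map (algebraMap Al Bl))) :
    Module.Flat Al Bl ↔ ∀ b : Bl, (p : Bl) * b = 0 → b ∈ Ideal.span {(p : Bl)} := by
  set I : Ideal Al := Ideal.span {(p : Al)} with hI
  have hp2 : (p : Al) * (p : Al) = 0 := by
    rw [← Nat.cast_mul, ← sq, ← map_natCast (algebraMap (ZMod (p ^ 2)) Al), ZMod.natCast_self,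
      map_zero]
  constructor
  · intro hflat b hb
    obtain ⟨k, c, y, hx, hc⟩ := (Module.Flat.isTrivialRelation_of_sum_smul_eq_zero
      (f := fun _ : Fin 1 => (p : Al)) (x := fun _ => b) (by simpa [Algebra.smul_def] using hb))
    rw [show b = _ from hx 0]
    refine Ideal.sum_mem _ fun j _ => ?_
    obtain ⟨d, hd⟩ := ann_base p Al (c 0 j) (by simpa using hc j)
    rw [hd, Algebra.smul_def, map_mul, map_natCast, mul_assoc]
    exact Ideal.mul_mem_right _ _ (Ideal.subset_span rfl)
  · intro htors
    let e₀ : ((Al ⧸ I) ⊗[Al] Bl) ≃ₗ[Al] Bl ⧸ I.map (algebraMap Al Bl) :=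
      TensorProduct.quotTensorEquivQuotSMul Bl I ≪≫ₗ
        Submodule.quotEquivOfEq _ _ (Ideal.smul_top_eq_map I) ≪≫ₗ
          Submodule.Quotient.restrictScalarsEquiv Al (I.map (algebraMap Al Bl))
    haveI : Module.Flat (Al ⧸ I) ((Al ⧸ I) ⊗[Al] Bl) := by
      haveI := hB
      exact Module.Flat.of_linearEquiv
        (LinearEquiv.extendScalarsOfSurjective Ideal.Quotient.mk_surjective e₀)
    refine Groth.MLMod.flat_of_torZero_nilpotent I ⟨2, ?_⟩ ?_
    · rw [hI, Ideal.span_singleton_pow, sq, hp2]
      simp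
    · rw [injective_iff_map_eq_zero]
      intro x
      let π : I := ⟨(p : Al), Ideal.subset_span rfl⟩
      have hrep : ∀ x : I ⊗[Al] Bl, ∃ b, x = π ⊗ₜ b := by
        intro x
        induction x with
        | zero => exact ⟨0, (TensorProduct.tmul_zero _ _).symm⟩
        | tmul i m =>
          obtain ⟨r, hr⟩ := Ideal.mem_span_singleton.1 i.2
          refine ⟨r • m, ?_⟩
          rw [← TensorProduct.smul_tmul, show r • π = i from Subtype.ext (by simp [π, hr, mul_comm])]
        | add u v hu hv =>
          obtain ⟨a, rfl⟩ := hu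
          obtain ⟨b, rfl⟩ := hv
          exact ⟨a + b, (TensorProduct.tmul_add _ _ _).symm⟩
      intro hx
      obtain ⟨b, rfl⟩ := hrep x
      have h0 : (p : Bl) * b = 0 := by
        have := congrArg (TensorProduct.lid Al Bl) hx
        simpa [π, Algebra.smul_def] using this
      obtain ⟨c, rfl⟩ := Ideal.mem_span_singleton.1 (htors b h0)
      rw [show (p : Bl) * c = (p : Al) • c by simp [Algebra.smul_def], ← TensorProduct.smul_tmul,
        show (p : Al) • π = 0 from Subtype.ext hp2, TensorProduct.zero_tmul]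

end Groth.Agent.S16742
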