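import Groth.Statements.S16762
import Groth.Agent.MLMod.Scalar

set_option autoImplicit false
universe u
open CAlgX

namespace Groth.Agent.S16762

/-- Let A → A' be faithfully flat and u : M → N a map of A-modules. Then u is universally injective (u ⊗
id_Q injective for every A-module Q) if and only if its base change A' ⊗_A M → A' ⊗_A N is
universally injective as a map of A'-modules. -/
theorem result (A A' : Type u) [CommRing A] [CommRing A']
    [Algebra A A'] [Module.FaithfullyFlat A A'] {M N : Type u} [AddCommGroup M] [Module A M]
    [AddCommGroup N] [Module A N] (u : M →ₗ[A] N) :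
    CAlgX.UniversallyInjective A u ↔ CAlgX.UniversallyInjective A' (u.baseChange A') := by
  have hcomm : ∀ (Q : Type u) (_ : AddCommGroup Q) (_ : Module A Q) (_ : Module A' Q)
      (_ : IsScalarTower A A' Q) (z : TensorProduct A' (TensorProduct A A' M) Q),
      Groth.MLMod.theta (S := A') N Q ((u.baseChange A').rTensor Q z) =
        u.rTensor Q (Groth.MLMod.theta M Q z) := by
    intro Q _ _ _ _ z
    induction z with
    | zero => simp
    | tmul w q =>
      induction w with
      | zero => simp
      | tmul s m => simp [Groth.MLMod.theta_tmul]
      | add a b ha hb => simp only [TensorProduct.add_tmul, map_add, ha, hb]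
    | add a b ha hb => simp only [map_add, ha, hb]
  rw [Groth.MLMod.ui_iff, Groth.MLMod.ui_iff]
  constructor
  · intro h Q _ _ z hz
    letI : Module A Q := Module.compHom Q (algebraMap A A')
    haveI : IsScalarTower A A' Q := IsScalarTower.of_compHom A A' Q
    apply (Groth.MLMod.theta (S := A') M Q).injective
    rw [map_zero]
    exact h Q _ (by rw [← hcomm Q inferInstance inferInstance inferInstance inferInstance, hz, map_zero])
  · intro h Q _ _ x hx
    apply Groth.MLMod.ui_lTensor (Groth.MLMod.ui_mk_one (S := A') Q) M
    rw [map_zero]
    obtain ⟨z, hz⟩ := (Groth.MLMod.theta (S := A') M (TensorProduct A A' Q)).surjective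
      ((TensorProduct.mk A A' Q 1).lTensor M x)
    rw [← hz]
    have : z = 0 := h _ z ((Groth.MLMod.theta (S := A') N (TensorProduct A A' Q)).injective (by
      rw [map_zero, hcomm _ inferInstance inferInstance inferInstance inferInstance, hz,
        ← Groth.MLMod.lTensor_rTensor, hx, map_zero]))
    rw [this, map_zero]

end Groth.Agent.S16762
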