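import Groth.Statements.S16784
import Groth.Agent.SmoothWeil.Main
import Groth.Agent.EssFree.Apps

set_option autoImplicit false
open CategoryTheory MonoidalCategory CartesianMonoidalCategory MonObj GrpObj AlgebraicGeometry
universe u
open SGA3x

namespace Groth.Agent.S16784

/-- Let G be a smooth affine group scheme over a scheme S, Y ⊆ G a closed subscheme of finite
presentation which is smooth over S with non-empty geometrically connected fibres, and Y' ⊆ G a
closed subscheme of finite presentation. Then the transporter of Y into Y' is representable by a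
closed subscheme of G of finite presentation over S. -/
theorem result {S : Scheme.{u}} (G Y Y' : Over S) [GrpObj G]
    (hG : Smooth G.hom) (hGa : IsAffineHom G.hom)
    (y : Y ⟶ G) (hy : IsClosedImmersion y.left) (hYs : Smooth Y.hom) (hYfp : LocallyOfFinitePresentation Y.hom)
    (hYc : ∀ s : S, ConnectedSpace ↥(Red.geomFibre s Y).left)
    (y' : Y' ⟶ G) (hy' : IsClosedImmersion y'.left) (hY'fp : LocallyOfFinitePresentation Y'.hom) :
    ∃ (C : Over S) (c : C ⟶ G), IsClosedImmersion c.left ∧ LocallyOfFinitePresentation C.hom ∧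
      ∀ (X : Over S) (g : X ⟶ G), (∃ z : X ⟶ C, z ≫ c = g) ↔
        ∀ (X' : Over S) (x : X' ⟶ X) (a : X' ⟶ Y), ∃ a' : X' ⟶ Y', (x ≫ g) * (a ≫ y) * (x ≫ g)⁻¹ = a' ≫ y' := by
  haveI := hy'
  haveI := hG
  haveI := hYs
  haveI := hY'fp
  haveI := SmoothWeil.geometricallyConnected_of_geomPt (f := Y.hom) hYc
  let Φ : Y ⊗ G ⟶ G := EssFree.conjMap y
  let j := CategoryTheory.Limits.pullback.snd y'.left Φ.left
  obtain ⟨T, t, ht, hfp, hT⟩ := SmoothWeil.exists_closed_full_smooth
    (f := CategoryTheory.Limits.pullback.snd Y.hom G.hom) (j := j)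
  obtain ⟨C, c, hc, hcfp, hC⟩ := EssFree.exists_closed_factLocus_of (X := Y) (Q := LocallyOfFinitePresentation y'.left) Φ y'
    ⟨T, t, ht, fun h => hfp (by haveI := h; infer_instance), hT⟩
  haveI : LocallyOfFinitePresentation y'.left :=
    FibrewiseCrit.locallyOfFinitePresentation_of_comp _ G.hom (by rw [Over.w y']; exact hY'fp) inferInstance
  haveI : LocallyOfFinitePresentation c.left := hcfp inferInstance
  refine ⟨C, c, hc, by rw [← Over.w c]; infer_instance, fun X g => (hC X g).trans ?_⟩
  simp only [Φ, EssFree.lift_conjMap, eq_comm]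

end Groth.Agent.S16784
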