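import Mathlib
import Groth.Agent.ConnHorizontal.Basic
import Groth.Statements.S16793
-- import your own Groth.Agent.* helpers here

set_option autoImplicit false
universe v u
open PCurv

namespace Groth.Agent.S16793

open TensorProduct in
/-- Let B be a commutative algebra over a commutative ring A whose module Ω of Kähler differentials over
A is free of rank one on a form ω, and let ∇ be a connection on the free module B^r whose connection
matrix with respect to the standard basis e₁, …, e_r and ω is T, that is ∇(e_j) = Σ_i T_{ij} e_i ⊗
ω. Then for every A-derivation θ of B, writing f_θ ∈ B for the value on ω of the B-linear functional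
Ω → B attached to θ, the covariant derivative along θ is given by ∇_θ(s) = f_θ · (T s) + θ(s) for
all s ∈ B^r, where θ(s) is θ applied to each coordinate of s. -/
theorem result {A : Type v} {B : Type u} [CommRing A] [CommRing B] [Algebra A B]
    (bΩ : Module.Basis (Fin 1) B (KaehlerDifferential A B)) {r : ℕ} (T : Matrix (Fin r) (Fin r) B)
    (nabla : (Fin r → B) →ₗ[A] (Fin r → B) ⊗[B] KaehlerDifferential A B)
    (hc : Conn.IsConn (KaehlerDifferential.D A B) nabla)
    (hT : ∀ j : Fin r, nabla (Pi.single j 1) = ∑ i : Fin r, T i j • (Pi.single i (1 : B) ⊗ₜ[B] bΩ 0))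
    (θ : Derivation A B B) (s : Fin r → B) :
    Conn.alongDer nabla θ s = θ.liftKaehlerDifferential (bΩ 0) • T.mulVec s + (fun i => θ (s i)) := by
  set L := θ.liftKaehlerDifferential with hL
  have hD : ∀ b : B, L (KaehlerDifferential.D A B b) = θ b := fun b =>
    Derivation.liftKaehlerDifferential_comp_D θ b
  have hs : s = ∑ j, s j • Pi.single j (1 : B) := by
    ext i; simp [Pi.single_apply]
  show Conn.along nabla L s = _
  conv_lhs => rw [hs, map_sum]
  simp only [ConnHorizontal.along_smul _ nabla hc, hD, Finset.sum_add_distrib]
  congr 1
  · have he : ∀ j, Conn.along nabla L (Pi.single j (1 : B)) =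
        L (bΩ 0) • ∑ i, T i j • Pi.single i (1 : B) := by
      intro j
      rw [Conn.along_apply, hT j]
      rw [map_sum, map_sum, Finset.smul_sum]
      refine Finset.sum_congr rfl fun i _ => ?_
      rw [map_smul, map_smul, TensorProduct.map_tmul, TensorProduct.rid_tmul, LinearMap.id_apply,
        smul_comm]
    simp only [he]
    ext i
    simp [Matrix.mulVec, dotProduct, Pi.single_apply, Finset.mul_sum, mul_comm, mul_left_comm]
    rw [Finset.sum_mul]
    refine Finset.sum_congr rfl fun x _ => ?_
    ring
  · ext i
    simp [Pi.single_apply]

end Groth.Agent.S16793
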