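import Groth.Statements.S1681
import Groth.Agent.BlowUpLib.Props

set_option autoImplicit false
universe u
open CategoryTheory CategoryTheory.Limits AlgebraicGeometry TopologicalSpace
open SDiv

namespace Groth.Agent.S1681

/-- Let b : X' ⟶ X be a blowing-up of X along the quasi-coherent ideal sheaf 𝓘. Then b restricts to a
bijection from the maximal points of X' (points with no proper generization) onto the maximal points
of X not lying in the support of 𝓘. -/
theorem result {X X' : Scheme.{u}} (𝓘 : X.IdealSheafData) (b : X' ⟶ X) (hb : BlowUp.IsBlowUp b 𝓘) :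
    Set.BijOn (fun x' => b x') {x' : ↥X' | ∀ y : ↥X', y ⤳ x' → y = x'}
      {x : ↥X | (∀ y : ↥X, y ⤳ x → y = x) ∧ x ∉ 𝓘.support} := by
  have hiso := Groth.Agent.BlowUpLib.isIso_restrict hb 𝓘.support.compl (fun x hx => hx)
  have hout : ∀ x' : ↥X', (∀ y : ↥X', y ⤳ x' → y = x') → b x' ∉ 𝓘.support := fun x' hx' hmem => by
    refine Groth.Agent.BlowUpLib.not_mem_support_of_maximal hb.1 hx' ?_
    rw [← SetLike.mem_coe, Scheme.IdealSheafData.support_comap]
    exact hmem
  let e := (b ∣_ 𝓘.support.compl).homeomorph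
  have he : ∀ z, (e z).1 = b z.1 := fun z => morphismRestrict_base_coe b _ z
  refine ⟨fun x' hx' => ⟨fun y hy => ?_, hout x' hx'⟩, fun x₁ h₁ x₂ h₂ hb' => ?_, fun x hx => ?_⟩
  · have hyU : y ∈ 𝓘.support.compl := hy.mem_open 𝓘.support.compl.isOpen (hout x' hx')
    obtain ⟨z, hz⟩ := e.surjective ⟨y, hyU⟩
    let x0 : (b ⁻¹ᵁ 𝓘.support.compl).toScheme := ⟨x', hout x' hx'⟩
    have hspec : e z ⤳ e x0 := by
      refine (Scheme.Opens.ι (𝓘.support.compl : X.Opens)).isOpenEmbedding.isInducing.specializes_iff.mp ?_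
      show (e z).1 ⤳ (e x0).1
      rw [he x0, hz]
      exact hy
    have hz2 : z ⤳ x0 := e.isInducing.specializes_iff.mp hspec
    have h3 : z.1 = x' := hx' z.1 (hz2.map (Scheme.Opens.ι (b ⁻¹ᵁ 𝓘.support.compl)).continuous)
    show y = b x'
    rw [← h3, ← he z, hz]
  · let a₁ : (b ⁻¹ᵁ 𝓘.support.compl).toScheme := ⟨x₁, hout x₁ h₁⟩
    let a₂ : (b ⁻¹ᵁ 𝓘.support.compl).toScheme := ⟨x₂, hout x₂ h₂⟩
    have : e a₁ = e a₂ := Subtype.ext ((he a₁).trans (hb'.trans (he a₂).symm))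
    exact congrArg Subtype.val (e.injective this)
  · obtain ⟨z, hz⟩ := e.surjective ⟨x, hx.2⟩
    have hzx : b z.1 = x := by rw [← he z, hz]
    refine ⟨z.1, fun y hy => ?_, hzx⟩
    have hyU : y ∈ b ⁻¹ᵁ 𝓘.support.compl := hy.mem_open (b ⁻¹ᵁ 𝓘.support.compl).isOpen z.2
    let y0 : (b ⁻¹ᵁ 𝓘.support.compl).toScheme := ⟨y, hyU⟩
    have hy' : b y = x := hx.1 _ (hzx ▸ hy.map b.continuous)
    have : e y0 = e z := Subtype.ext (by rw [he y0, he z]; exact hy'.trans hzx.symm)
    exact congrArg Subtype.val (e.injective this)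

end Groth.Agent.S1681
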