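import Groth.Statements.S16836
import Mathlib

set_option autoImplicit false
universe u v
open scoped Classical
open AbVar

namespace Groth.Agent.S16836

open Polynomial UniqueFactorizationMonoid in
/-- Let K ⊆ L be a field extension and f₁, f₂ non-zero polynomials in K[t]. For a field F and
polynomials g₁, g₂ over F put r_F(g₁, g₂) = Σ_P mult_P(g₁) · mult_P(g₂) · deg P, the sum running
over the monic irreducible polynomials P in F[t] (mult_P the multiplicity of P as an irreducible
factor). Assume K is perfect. Then r_K(f₁, f₂) = r_L(f₁, f₂): the number does not depend on the
field over which the factorisations are taken. (Perfectness of K cannot be dropped: for K = F_p(s),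
L = K(s^{1/p}) and f₁ = f₂ = t^p − s the number is p over K and p² over L, since the irreducible t^p
− s becomes a p-th power over L; the published statement has no restriction on K, and its proof
requires the relevant K[t]-modules to remain semisimple after base change, which holds when every
irreducible factor stays squarefree over L, in particular for K perfect.) -/
theorem result (K : Type u) (L : Type v) [Field K] [PerfectField K] [Field L] [Algebra K L]
    (f₁ f₂ : K[X]) (h₁ : f₁ ≠ 0) (h₂ : f₂ ≠ 0) :
    ∑ P ∈ (normalizedFactors (f₁.map (algebraMap K L))).toFinset,
        (normalizedFactors (f₁.map (algebraMap K L))).count P *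
          (normalizedFactors (f₂.map (algebraMap K L))).count P * P.natDegree =
      ∑ P ∈ (normalizedFactors f₁).toFinset,
        (normalizedFactors f₁).count P * (normalizedFactors f₂).count P * P.natDegree := by
  classical
  have hnf : ∀ f : K[X], f ≠ 0 → normalizedFactors (f.map (algebraMap K L)) =
      (normalizedFactors f).bind fun P => normalizedFactors (P.map (algebraMap K L)) := by
    intro f hf
    have ha : Associated ((normalizedFactors f).prod) f := prod_normalizedFactors hf
    have ha' := ha.map (Polynomial.mapRingHom (algebraMap K L))
    rw [map_multiset_prod] at ha'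
    simp only [Polynomial.coe_mapRingHom] at ha'
    rw [← ha'.normalizedFactors_eq, normalizedFactors_multiset_prod]
    · simp [Multiset.bind, Multiset.join, Multiset.map_map]
    · intro h
      obtain ⟨P, hP, h0⟩ := Multiset.mem_map.1 h
      exact (irreducible_of_normalized_factor P hP).ne_zero
        ((Polynomial.map_eq_zero_iff (algebraMap K L).injective).1 h0)
  have hne : ∀ f : K[X], ∀ P ∈ normalizedFactors f, P.map (algebraMap K L) ≠ 0 := fun f P hP h0 =>
    (irreducible_of_normalized_factor P hP).ne_zero
      ((Polynomial.map_eq_zero_iff (algebraMap K L).injective).1 h0)
  set m₁ := normalizedFactors f₁ with hm₁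
  set m₂ := normalizedFactors f₂ with hm₂
  let h : K[X] → Multiset L[X] := fun P => normalizedFactors (P.map (algebraMap K L))
  have key : ∀ P ∈ m₁, ((h P).map fun R => (m₂.bind h).count R * R.natDegree).sum =
      m₂.count P * P.natDegree := by
    intro P hP
    have hirr := irreducible_of_normalized_factor P hP
    have hsq : Squarefree (P.map (algebraMap K L)) :=
      (PerfectField.separable_of_irreducible hirr).map.squarefree
    have hnd : (h P).Nodup := (squarefree_iff_nodup_normalizedFactors (hne f₁ P hP)).1 hsq
    have hcount : ∀ R ∈ h P, (m₂.bind h).count R = m₂.count P := by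
      intro R hR
      rw [Multiset.count_bind]
      have hQ : ∀ Q ∈ m₂, (h Q).count R = if P = Q then 1 else 0 := by
        intro Q hQ
        split_ifs with he
        · rw [← he]; exact Multiset.count_eq_one_of_mem hnd hR
        · rw [Multiset.count_eq_zero]
          intro hRQ
          have hne' : ¬ Associated P Q := fun ha => he (by
            rw [← normalize_normalized_factor P hP, ← normalize_normalized_factor Q hQ]
            exact normalize_eq_normalize_iff_associated.2 ha)
          have hco : IsCoprime P Q := (hirr.coprime_iff_not_dvd).2 fun hd =>
            hne' (hirr.associated_of_dvd (irreducible_of_normalized_factor Q hQ) hd)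
          exact (irreducible_of_normalized_factor R hR).not_isUnit
            ((hco.map (Polynomial.mapRingHom (algebraMap K L))).isUnit_of_dvd'
              (dvd_of_mem_normalizedFactors hR) (dvd_of_mem_normalizedFactors hRQ))
      rw [Multiset.map_congr rfl hQ]
      clear hQ
      induction m₂ using Multiset.induction_on with
      | empty => simp
      | cons a s ih => simp [Multiset.count_cons, ih, add_comm]
    have hdeg : ((h P).map Polynomial.natDegree).sum = P.natDegree := by
      rw [← Polynomial.natDegree_multiset_prod _ (fun h0 => (irreducible_of_normalized_factor _ h0).ne_zero rfl),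
        Polynomial.natDegree_eq_of_degree_eq (Polynomial.degree_eq_degree_of_associated
          (prod_normalizedFactors (hne f₁ P hP))), Polynomial.natDegree_map]
    rw [Multiset.map_congr rfl (fun R hR => by rw [hcount R hR]), Multiset.sum_map_mul_left, hdeg]
  rw [hnf f₁ h₁, hnf f₂ h₂]
  change ∑ R ∈ (m₁.bind h).toFinset, (m₁.bind h).count R * (m₂.bind h).count R * R.natDegree =
    ∑ P ∈ m₁.toFinset, m₁.count P * m₂.count P * P.natDegree
  simp only [mul_assoc]
  have e1 := Finset.sum_multiset_map_count (m₁.bind h) (fun R => (m₂.bind h).count R * R.natDegree)
  have e2 := Finset.sum_multiset_map_count m₁ (fun P => m₂.count P * P.natDegree)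
  simp only [smul_eq_mul] at e1 e2
  rw [← e1, ← e2, Multiset.map_bind, Multiset.sum_bind, Multiset.map_congr rfl key]

end Groth.Agent.S16836
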