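import Groth.Statements.S1684
import Groth.Agent.InvExtend.CartierCriterion

set_option autoImplicit false
set_option linter.style.haveILetI false
universe u
open CategoryTheory CategoryTheory.Limits AlgebraicGeometry TopologicalSpace
open SDiv

namespace Groth.Agent.S1684

/-- Let X be a locally Noetherian scheme and 𝓘 a quasi-coherent ideal sheaf whose closed subscheme D is
integral, of codimension 1 in X (the local ring of X at the generic point of D has dimension 1), and
such that the local ring of X at every point of D is a unique factorisation domain. Then 𝓘 is the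
ideal sheaf of an effective Cartier divisor. -/
theorem result (X : Scheme.{u}) [IsLocallyNoetherian X] (𝓘 : X.IdealSheafData)
    [IsIntegral 𝓘.subscheme]
    (hcodim : ringKrullDim (X.presheaf.stalk (𝓘.subschemeι (genericPoint ↥𝓘.subscheme))) = 1)
    (hufd : ∀ x : ↥X, x ∈ 𝓘.support → IsDomain (X.presheaf.stalk x) ∧ UniqueFactorizationMonoid (X.presheaf.stalk x)) :
    BlowUp.IsEffCartierIdeal 𝓘 := by
  refine Groth.Agent.InvExtend.isEffCartierIdeal_of_associatedPrimes 𝓘 hufd fun W q hq _ => ?_
  haveI : IsNoetherianRing Γ(X, W.1) := IsLocallyNoetherian.component_noetherian (X := X) W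
  obtain ⟨z, hz, hass⟩ := Groth.Agent.InvExtend.exists_assoc_point_subscheme 𝓘 W q hq
  rw [← hz, show z = genericPoint ↥𝓘.subscheme from ?_]
  · exact hcodim
  obtain ⟨_, ⟨V, (hV : IsAffineOpen V), rfl⟩, (hzV : z ∈ V), -⟩ :=
    𝓘.subscheme.isBasis_affineOpens.exists_subset_of_mem_open (Set.mem_univ z) isOpen_univ
  haveI : IsDomain (𝓘.subscheme.presheaf.stalk z) := inferInstance
  have hbot : IsLocalRing.maximalIdeal (𝓘.subscheme.presheaf.stalk z) = ⊥ := by
    obtain ⟨hp, a, ha⟩ := hass
    refine eq_bot_iff.mpr fun r hr => ?_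
    obtain ⟨n, hn⟩ := ha.le hr
    rw [Submodule.mem_colon_singleton, Submodule.mem_bot, smul_eq_mul, mul_eq_zero] at hn
    rcases hn with hn | hn
    · exact (pow_eq_zero_iff'.mp hn).1
    · refine absurd ((Ideal.eq_top_iff_one _).mpr (ha.ge ⟨1, ?_⟩)) hp.ne_top
      rw [Submodule.mem_colon_singleton, Submodule.mem_bot, hn, smul_zero]
  haveI : Nonempty (V : Scheme.{u}) := ⟨⟨z, hzV⟩⟩
  letI := TopCat.Presheaf.algebra_section_stalk 𝓘.subscheme.presheaf (⟨z, hzV⟩ : V)
  haveI := hV.isLocalization_stalk ⟨z, hzV⟩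
  have hgp : genericPoint ↥𝓘.subscheme ∈ V :=
    (genericPoint_specializes z).mem_open V.2 hzV
  have hz0 : (hV.primeIdealOf ⟨z, hzV⟩).asIdeal = ⊥ := by
    rw [← IsLocalization.AtPrime.under_maximalIdeal (𝓘.subscheme.presheaf.stalk z) (hV.primeIdealOf ⟨z, hzV⟩).asIdeal,
      hbot]
    haveI : IsDomain Γ(𝓘.subscheme, V) := IsIntegral.component_integral V
    exact Ideal.comap_bot_of_injective _ (IsLocalization.injective _ (M := (hV.primeIdealOf ⟨z, hzV⟩).asIdeal.primeCompl) (Ideal.primeCompl_le_nonZeroDivisors _))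
  have hsp : z ⤳ genericPoint ↥𝓘.subscheme := by
    rw [Groth.Agent.InvExtend.specializes_iff hV hgp hzV, hz0]
    exact bot_le
  exact (hsp.antisymm (genericPoint_specializes z)).eq

end Groth.Agent.S1684
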