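import Groth.Statements.S1685
import Groth.Agent.RegEmbed.Scheme
import Groth.Agent.DepthLib.RegularLocal
import Groth.Agent.FlatAscent.AtPrime

set_option autoImplicit false
universe u
open CategoryTheory CategoryTheory.Limits AlgebraicGeometry TopologicalSpace
open SDiv

namespace Groth.Agent.S1685

theorem min_sub_one_le {k : ℕ} {a : WithBot ℕ∞} {b : ℕ∞}
    (h : min (k : WithBot ℕ∞) (a + 1) ≤ ((b + 1 : ℕ∞) : WithBot ℕ∞)) :
    min ((k - 1 : ℕ) : WithBot ℕ∞) a ≤ (b : WithBot ℕ∞) := by
  induction a with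
  | bot => simp
  | coe a =>
    induction b with
    | top => simp
    | coe b =>
      induction a with
      | top =>
        rw [min_le_iff] at h ⊢
        refine Or.inl ?_
        rcases h with h | h
        · norm_cast at h
          rw [← WithBot.coe_natCast (k - 1)]; exact WithBot.coe_le_coe.mpr (Nat.cast_le.mpr (by omega))
        · exact absurd h (by rw [← WithBot.coe_one, ← WithBot.coe_add, WithBot.coe_le_coe]; simp)
      | coe a =>
        rw [min_le_iff] at h ⊢
        norm_cast at h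
        rcases h with h | h
        · norm_cast at h
          refine Or.inl ?_
          rw [← WithBot.coe_natCast (k - 1)]; exact WithBot.coe_le_coe.mpr (Nat.cast_le.mpr (by omega))
        · exact Or.inr (by exact_mod_cast (show a ≤ b by norm_cast at h; omega))

/-- Let X be a locally Noetherian scheme all of whose local rings satisfy Serre's condition (S_k), and
let D be the closed subscheme of an effective Cartier divisor. Then all local rings of D satisfy
(S_{k-1}). -/
theorem result (X : Scheme.{u}) [IsLocallyNoetherian X] (k : ℕ)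
    (hX : ∀ x : ↥X, min (k : WithBot ℕ∞) (ringKrullDim (X.presheaf.stalk x)) ≤
      ((LocCoh.depth (X.presheaf.stalk x) (X.presheaf.stalk x) : ℕ∞) : WithBot ℕ∞))
    (𝓘 : X.IdealSheafData) (h𝓘 : BlowUp.IsEffCartierIdeal 𝓘) (d : ↥𝓘.subscheme) :
    min ((k - 1 : ℕ) : WithBot ℕ∞) (ringKrullDim (𝓘.subscheme.presheaf.stalk d)) ≤
      ((LocCoh.depth (𝓘.subscheme.presheaf.stalk d) (𝓘.subscheme.presheaf.stalk d) : ℕ∞) : WithBot ℕ∞) := by
  obtain ⟨U, hxU, f, hf, hI⟩ := h𝓘 (𝓘.subschemeι d)
  set R := X.presheaf.stalk (𝓘.subschemeι d)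
  have hker := Groth.Agent.RegEmbed.ker_stalkMap 𝓘.subschemeι d U.1 U.2 hxU
  rw [𝓘.ker_subschemeι_app U, hI, Ideal.map_span, Set.image_singleton] at hker
  set t : R := (X.presheaf.germ U.1 (𝓘.subschemeι d) hxU).hom f
  have ht : t ∈ nonZeroDivisors R := by
    letI := TopCat.Presheaf.algebra_section_stalk X.presheaf (⟨𝓘.subschemeι d, hxU⟩ : U.1)
    haveI := U.2.isLocalization_stalk ⟨𝓘.subschemeι d, hxU⟩
    exact IsLocalization.map_nonZeroDivisors_le (U.2.primeIdealOf ⟨𝓘.subschemeι d, hxU⟩).asIdeal.primeCompl R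
      ⟨f, hf, rfl⟩
  have htm : t ∈ IsLocalRing.maximalIdeal R :=
    IsLocalRing.le_maximalIdeal (RingHom.ker_ne_top _) (hker.ge (Ideal.mem_span_singleton_self t))
  have hreg : IsSMulRegular R t := fun a b h => (mem_nonZeroDivisors_iff_right.mp ht |> fun H => sub_eq_zero.mp (H (a - b) (by
    simp only [smul_eq_mul] at h
    rw [sub_mul, mul_comm a, mul_comm b, h, sub_self])))
  let e : R ⧸ Ideal.span {t} ≃+* 𝓘.subscheme.presheaf.stalk d := (Ideal.quotEquivOfEq hker.symm).trans
    (RingHom.quotientKerEquivOfSurjective (𝓘.subschemeι.stalkMap_surjective d))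
  haveI : IsLocalRing (R ⧸ Ideal.span {t}) := e.symm.isLocalRing
  rw [← ringKrullDim_eq_of_ringEquiv e, Groth.Agent.FlatAscent.depth_eq_of_ringEquiv e]
  have h := hX (𝓘.subschemeι d)
  have e' : QuotSMulTop t R ≃ₗ[R] R ⧸ Ideal.span {t} := Submodule.quotEquivOfEq _ _ (by
    rw [← Submodule.ideal_span_singleton_smul, smul_eq_mul, Ideal.mul_top])
  have hdep : LocCoh.depth R R = LocCoh.depth (R ⧸ Ideal.span {t}) (R ⧸ Ideal.span {t}) + 1 := by
    rw [show LocCoh.depth R R = LocCoh.depth R (QuotSMulTop t R) + 1 from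
        (Groth.Agent.DepthLib.idealDepth_quotSMulTop_add_one htm hreg).symm, Groth.Agent.DepthLib.depth_congr e',
      ← Groth.Agent.DepthLib.depth_eq_of_surjective (S := R ⧸ Ideal.span {t}) Ideal.Quotient.mk_surjective]
  rw [show ringKrullDim (X.presheaf.stalk (𝓘.subschemeι d)) = ringKrullDim (R ⧸ Ideal.span {t}) + 1 from
    (ringKrullDim_quotient_span_singleton_succ_eq_ringKrullDim hreg htm).symm,
    show LocCoh.depth (X.presheaf.stalk (𝓘.subschemeι d)) (X.presheaf.stalk (𝓘.subschemeι d)) = _ from hdep] at h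
  exact min_sub_one_le h

end Groth.Agent.S1685
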