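import Groth.Statements.S16854
import Groth.Agent.SigmaLang.Basic
import Mathlib.RingTheory.WittVector.Complete
import Mathlib.RingTheory.WittVector.DiscreteValuationRing
import Mathlib.RingTheory.Nakayama

set_option autoImplicit false
universe u v
open CAlg

namespace Groth.Agent.S16854

open Groth.Agent in
private theorem exists_limit {W : Type u} [CommRing W] (π : W) [IsAdicComplete (Ideal.span {π}) W]
    (f : ℕ → W) (hf : ∀ n, π ^ n ∣ f (n + 1) - f n) : ∃ L, ∀ n, π ^ n ∣ L - f n := by
  have hI : ∀ n, ∀ x : W, x ∈ (Ideal.span {π} ^ n • ⊤ : Submodule W W) ↔ π ^ n ∣ x := fun n x => by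
    rw [smul_eq_mul, Ideal.mul_top, Ideal.span_singleton_pow, Ideal.mem_span_singleton]
  have hmn : ∀ m n, m ≤ n → π ^ m ∣ f n - f m := by
    intro m n h
    induction h with
    | refl => simp
    | step h ih =>
      rename_i n
      rw [← sub_add_sub_cancel (f (n + 1)) (f n) (f m)]
      exact dvd_add ((pow_dvd_pow π h).trans (hf n)) ih
  obtain ⟨L, hL⟩ := IsPrecomplete.prec (inferInstance : IsPrecomplete (Ideal.span {π}) W) (f := f)
    (fun {m n} h => by
      rw [SModEq.sub_mem, hI, ← dvd_neg, neg_sub]
      exact hmn m n h)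
  refine ⟨L, fun n => ?_⟩
  have h := hL n
  rw [SModEq.sub_mem, hI, ← dvd_neg, neg_sub] at h
  exact h

private theorem eq_zero_of_dvd {W : Type u} [CommRing W] (π : W) [IsAdicComplete (Ideal.span {π}) W]
    (x : W) (h : ∀ n, π ^ n ∣ x) : x = 0 :=
  IsHausdorff.haus (inferInstance : IsHausdorff (Ideal.span {π}) W) x fun n => by
    rw [SModEq.zero, smul_eq_mul, Ideal.mul_top, Ideal.span_singleton_pow, Ideal.mem_span_singleton]
    exact h n

/-- Let k be an algebraically closed field of characteristic p > 0, ν ≥ 1, W = W(k) the ring of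
p-typical Witt vectors with its Frobenius endomorphism σ, M a finitely generated free W-module and F
: M → M a bijective additive map that is σ^ν-semilinear, F(a·m) = σ^ν(a)·F(m). Then M admits a
W-basis consisting of F-fixed elements; in particular M is spanned over W by M₀ = {m | F(m) = m}, a
module over the Witt vectors of F_{p^ν}. (The copy allows ν < 0 as well, reducing to F⁻¹; stated
here for ν ≥ 1.) -/
theorem result (k : Type u) [Field k] [IsAlgClosed k]
    (p : ℕ) [Fact p.Prime] [CharP k p] (ν : ℕ) (hν : 1 ≤ ν)
    (M : Type v) [AddCommGroup M] [Module (WittVector p k) M]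
    [Module.Finite (WittVector p k) M] [Module.Free (WittVector p k) M]
    (F : M →+ M)
    (hF : ∀ (a : WittVector p k) (m : M), F (a • m) = ((⇑(WittVector.frobenius : WittVector p k →+* WittVector p k))^[ν] a) • F m)
    (hbij : Function.Bijective F) :
    ∃ (ι : Type v) (b : Module.Basis ι (WittVector p k) M), ∀ i, F (b i) = b i := by
  classical
  set W := WittVector p k
  let σW : W →+* W := (WittVector.frobenius : W →+* W) ^ ν
  have hσW : ∀ a, σW a = (⇑(WittVector.frobenius : W →+* W))^[ν] a := fun a => by rw [RingHom.coe_pow]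
  have hF' : ∀ (a : W) (m : M), F (a • m) = σW a • F m := fun a m => by rw [hσW, hF]
  have hFp : ∀ (n : ℕ) (m : M), F ((p : W) ^ n • m) = (p : W) ^ n • F m := fun n m => by
    rw [hF', map_pow, map_natCast]
  have hc0 : ∀ a : W, WittVector.constantCoeff (σW a) = iterateFrobenius k p ν (WittVector.constantCoeff a) := by
    intro a
    rw [hσW, iterateFrobenius_def]
    clear hσW hF' hF hν
    induction ν with
    | zero => simp
    | succ n ih =>
      rw [Function.iterate_succ_apply', pow_succ, pow_mul, ← ih]
      exact WittVector.coeff_frobenius_charP (p := p) _ 0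
  have hdvd : ∀ a : W, (p : W) ∣ a ↔ WittVector.constantCoeff a = 0 := fun a => by
    rw [← Ideal.mem_span_singleton, WittVector.mem_span_p_iff_coeff_zero_eq_zero]
    rfl
  let b := Module.Free.chooseBasis W M
  set ι := Module.Free.ChooseBasisIndex W M
  -- reduction modulo `p`
  let red : M →+ (ι → k) :=
    { toFun := fun m i => WittVector.constantCoeff (b.repr m i)
      map_zero' := by ext i; simp
      map_add' := fun x y => funext fun i => by
        show WittVector.constantCoeff (b.repr (x + y) i) = WittVector.constantCoeff (b.repr x i) + WittVector.constantCoeff (b.repr y i)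
        rw [map_add, Finsupp.add_apply, map_add] }
  have hred_smul : ∀ (a : W) m, red (a • m) = WittVector.constantCoeff a • red m := fun a m => by
    refine funext fun i => ?_
    show WittVector.constantCoeff (b.repr (a • m) i) = WittVector.constantCoeff a * WittVector.constantCoeff (b.repr m i)
    rw [map_smul, Finsupp.smul_apply, smul_eq_mul, map_mul]
  have hred0 : ∀ m, red m = 0 → ∃ z : M, m = (p : W) • z := by
    intro m hm
    choose z hz using fun i => (hdvd (b.repr m i)).2 (congrFun hm i)
    refine ⟨∑ i, z i • b i, ?_⟩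
    rw [Finset.smul_sum]
    conv_lhs => rw [← b.sum_repr m]
    simp only [smul_smul, hz]
  have hred_surj : Function.Surjective red := by
    intro v
    choose w hw using fun i => WittVector.constantCoeff_surjective p (v i)
    refine ⟨∑ i, w i • b i, funext fun i => ?_⟩
    show WittVector.constantCoeff (b.repr _ i) = v i
    rw [b.repr_sum_self, hw]
  choose sec hsec using hred_surj
  have hTwd : ∀ m m', red m = red m' → red (F m) = red (F m') := by
    intro m m' h
    obtain ⟨z, hz⟩ := hred0 (m - m') (by rw [map_sub, h, sub_self])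
    have := congrArg (fun x => red (F x)) hz
    simp only [map_sub] at this
    rw [← pow_one (p : W), hFp, hred_smul, pow_one, (hdvd _).1 dvd_rfl] at this
    simpa [sub_eq_zero] using this
  let T : (ι → k) →ₛₗ[iterateFrobenius k p ν] (ι → k) :=
    { toFun := fun v => red (F (sec v))
      map_add' := fun v w => by
        rw [← map_add, ← map_add]
        exact hTwd _ _ (by rw [map_add, hsec, hsec, hsec])
      map_smul' := fun c v => by
        obtain ⟨a, ha⟩ := WittVector.constantCoeff_surjective p c
        rw [hTwd (sec (c • v)) (a • sec v) (by rw [hred_smul, hsec, hsec, ha]), hF', hred_smul, hc0, ha] }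
  have hT : ∀ m, T (red m) = red (F m) := fun m => hTwd _ _ (hsec _)
  have hspan : Submodule.span k (Set.range ⇑T) = ⊤ := by
    rw [eq_top_iff]
    intro v _
    obtain ⟨m, hm⟩ := hbij.surjective (sec v)
    exact Submodule.subset_span ⟨red m, by rw [hT, hm, hsec]⟩
  have hσ : ∀ x, iterateFrobenius k p ν x = x ^ p ^ ν := fun x => iterateFrobenius_def ..
  have h2 := Groth.Agent.SigmaLang.twistRoots_powq p hν hσ
  have h3 := Groth.Agent.SigmaLang.subSurj_powq p hν hσ
  -- `F - 1` is surjective
  have hsurj : ∀ m, ∃ y, F y - y = m := by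
    intro m
    have step : ∀ z : M, ∃ y z' : M, z - (F y - y) = (p : W) • z' := by
      intro z
      obtain ⟨v, hv⟩ := Groth.Agent.SigmaLang.sub_surjective h2 h3 T hspan (-red z)
      simp only at hv
      refine ⟨sec v, hred0 _ ?_⟩
      rw [map_sub, map_sub, ← hT, hsec, ← neg_sub v, hv]
      simp
    choose g g' hg using step
    let Y : ℕ → M := fun n => g'^[n] m
    let A : ℕ → M := fun n => ∑ t ∈ Finset.range n, (p : W) ^ t • g (Y t)
    have hA : ∀ n, m - (F (A n) - A n) = (p : W) ^ n • Y n := by
      intro n
      induction n with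
      | zero => simp [A, Y]
      | succ n ih =>
        have hY : Y (n + 1) = g' (Y n) := Function.iterate_succ_apply' _ _ _
        simp only [A, Finset.sum_range_succ, map_add] at ih ⊢
        rw [hY, pow_succ, mul_smul, ← hg, hFp, smul_sub, smul_sub, ← ih]
        abel
    choose L hL using fun i => exists_limit (p : W) (fun n => b.repr (A n) i) (fun n => by
      simp [A, Finset.sum_range_succ, dvd_mul_right])
    let y : M := ∑ i, L i • b i
    refine ⟨y, b.ext_elem fun i => sub_eq_zero.1 (eq_zero_of_dvd (p : W) _ fun n => ?_)⟩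
    obtain ⟨z, hz⟩ : ∃ z, y - A n = (p : W) ^ n • z := by
      choose c hc using fun i => hL i n
      refine ⟨∑ i, c i • b i, ?_⟩
      conv_lhs => rw [← b.sum_repr (A n)]
      simp only [y, ← Finset.sum_sub_distrib, ← sub_smul, hc, Finset.smul_sum, smul_smul]
    have hkey : F y - y - m = (p : W) ^ n • (F z - z - Y n) := by
      rw [smul_sub, smul_sub, ← hFp, ← hz, ← hA, map_sub]
      abel
    rw [← Finsupp.sub_apply, ← map_sub, hkey, map_smul, Finsupp.smul_apply, smul_eq_mul]
    exact dvd_mul_right _ _
  -- lift a basis of fixed vectors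
  obtain ⟨β, hβ⟩ := Groth.Agent.SigmaLang.exists_basis_fixed h2 h3 T hspan
  have hcard : Fintype.card (Fin (Module.finrank k (ι → k))) = Fintype.card ι := by simp
  let e := Fintype.equivOfCardEq hcard
  have hfix : ∀ i, ∃ u : M, F u = u ∧ red u = β (e.symm i) := by
    intro i
    set f := β (e.symm i)
    obtain ⟨z, hz⟩ := hred0 (F (sec f) - sec f) (by rw [map_sub, ← hT, hsec, hβ, sub_self])
    obtain ⟨y, hy⟩ := hsurj z
    refine ⟨sec f - (p : W) • y, ?_, ?_⟩
    · rw [map_sub, show (p : W) • y = (p : W) ^ 1 • y by rw [pow_one], hFp, pow_one, ← sub_eq_zero]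
      calc F (sec f) - (p : W) • F y - (sec f - (p : W) • y)
          = (F (sec f) - sec f) - (p : W) • (F y - y) := by rw [smul_sub]; abel
        _ = 0 := by rw [hy, hz, sub_self]
    · rw [map_sub, hred_smul, (hdvd _).1 dvd_rfl, zero_smul, sub_zero, hsec]
  choose u hu hu' using hfix
  have htop : (⊤ : Submodule W M) ≤ Submodule.span W (Set.range u) := by
    refine Submodule.le_of_le_smul_of_le_jacobson_bot (I := Ideal.span {(p : W)}) Module.Finite.fg_top ?_ ?_
    · rw [IsLocalRing.jacobson_eq_maximalIdeal _ bot_ne_top, Ideal.span_le, Set.singleton_subset_iff]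
      show (p : W) ∈ IsLocalRing.maximalIdeal W
      rw [IsLocalRing.mem_maximalIdeal, mem_nonunits_iff]
      intro h
      have := h.map (WittVector.constantCoeff : W →+* k)
      rw [(hdvd _).1 dvd_rfl] at this
      exact not_isUnit_zero this
    · intro m _
      choose c hc using fun i => WittVector.constantCoeff_surjective p (β.repr (red m) (e.symm i))
      obtain ⟨z, hz⟩ := hred0 (m - ∑ i, c i • u i) (by
        rw [map_sub, map_sum, sub_eq_zero]
        simp only [hred_smul, hc, hu']
        rw [e.symm.sum_comp (fun j => β.repr (red m) j • β j), β.sum_repr])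
      rw [sub_eq_iff_eq_add'] at hz
      rw [hz]
      exact Submodule.add_mem_sup (Submodule.sum_mem _ fun i _ => Submodule.smul_mem _ _ (Submodule.subset_span ⟨i, rfl⟩))
        (Submodule.smul_mem_smul (Ideal.mem_span_singleton_self _) Submodule.mem_top)
  refine ⟨ι, basisOfTopLeSpanOfCardEqFinrank u htop (Module.finrank_eq_card_basis b).symm, fun i => ?_⟩
  rw [coe_basisOfTopLeSpanOfCardEqFinrank]
  exact hu i

end Groth.Agent.S16854
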