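import Groth.Statements.S1688
import Groth.Agent.DCohPerf.FlatFP
import Groth.Agent.QCohLib.Coherent
import Groth.Agent.SmoothDense.Apps

set_option autoImplicit false
universe u
open CategoryTheory CategoryTheory.Limits AlgebraicGeometry TopologicalSpace
open SDiv

namespace Groth.Agent.S1688

/-- Let X be a locally Noetherian integral scheme of dimension at most 1 all of whose local rings are
regular, and F a coherent module on X. Then F is torsion free (every stalk is a torsion-free module
over the local ring) if and only if F is finite locally free. -/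
theorem result (X : Scheme.{u}) [IsIntegral X] [IsLocallyNoetherian X] (hreg : ∀ x : ↥X, IsRegularLocalRing (X.presheaf.stalk x))
    (hdim : topologicalKrullDim ↥X ≤ 1) (F : X.Modules) (hF : Coh.IsCoh F) :
    (∀ x : ↥X, NoZeroSMulDivisors (X.presheaf.stalk x) (F.presheaf.stalk x)) ↔ FlatMod.IsFinLocFree F := by
  refine ⟨fun h => Groth.Agent.DCohPerf.isFinLocFree_of_isFP_flat (Groth.Agent.QCohLib.isCoh_iff_isFP.mp hF) fun x => ?_,
    fun h x => ?_⟩
  · haveI := hreg x
    haveI := Groth.Agent.DepthLib.isDomain_of_isRegularLocalRing (X.presheaf.stalk x)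
    haveI : IsBezout (X.presheaf.stalk x) := by
      by_cases hf : IsField (X.presheaf.stalk x)
      · let _ := hf.toField
        haveI : IsPrincipalIdealRing (X.presheaf.stalk x) := by
          refine ⟨fun I => ?_⟩
          rcases Ideal.eq_bot_or_top I with rfl | rfl
          · exact bot_isPrincipal
          · exact top_isPrincipal
        infer_instance
      · haveI := Groth.Agent.SmoothDense.isDiscreteValuationRing_of_regular (X.presheaf.stalk x)
          ((Groth.Agent.SmoothDense.ringKrullDim_stalk_le x).trans hdim) hf
        infer_instance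
    show Module.Flat (X.presheaf.stalk x) (F.presheaf.stalk x)
    rw [Module.Flat.flat_iff_torsion_eq_bot_of_isBezout, Submodule.eq_bot_iff]
    rintro m ⟨a, ha⟩
    haveI := h x
    exact (smul_eq_zero.mp ha).resolve_left (nonZeroDivisors.ne_zero a.2)
  · haveI : Module.Flat (X.presheaf.stalk x) (F.presheaf.stalk x) := Groth.Agent.ModGroth.Perf.isFlat_of_isFinLocFree h x
    haveI : IsDomain (X.presheaf.stalk x) := inferInstance
    exact ⟨fun {c m} hcm => smul_eq_zero.mp hcm⟩

end Groth.Agent.S1688
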