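import Groth.Statements.S1689
import Groth.Agent.DCohPerf.FlatFP
import Groth.Agent.QCohLib.Coherent
import Groth.Agent.SmoothDense.Apps
import Groth.Agent.NegVanish.Syzygy
import Groth.Agent.DepthLib.CMModule
import Groth.Agent.DepthSections.ReflexiveLemmas
import Groth.Agent.RegCoprod.Basic

set_option autoImplicit false
universe u
open CategoryTheory CategoryTheory.Limits AlgebraicGeometry TopologicalSpace
open SDiv

namespace Groth.Agent.S1689

open IsLocalRing RingTheory.Sequence in
theorem flat_of_isReflexive (A : Type u) [CommRing A] [IsRegularLocalRing A] (hdim : ringKrullDim A ≤ 2)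
    (M : Type u) [AddCommGroup M] [Module A M] [Module.Finite A M] [Module.IsReflexive A M] :
    Module.Flat A M := by
  haveI := Groth.Agent.DepthLib.isDomain_of_isRegularLocalRing A
  rcases subsingleton_or_nontrivial M with h | h
  · infer_instance
  rcases le_or_gt (ringKrullDim A) 1 with h1 | h1
  · haveI : IsBezout A := by
      by_cases hf : IsField A
      · let _ := hf.toField
        haveI : IsPrincipalIdealRing A := by
          refine ⟨fun I => ?_⟩
          rcases Ideal.eq_bot_or_top I with rfl | rfl
          · exact bot_isPrincipal
          · exact top_isPrincipal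
        infer_instance
      · haveI := Groth.Agent.SmoothDense.isDiscreteValuationRing_of_regular A h1 hf
        infer_instance
    haveI : Module.IsTorsionFree A M := by
      haveI := Groth.Agent.DepthLib.isTorsionFree_linearMap (R := A) (Module.Dual A M) A
      exact (Module.evalEquiv A M).injective.moduleIsTorsionFree _ fun r x => map_smul _ r x
    rw [Module.Flat.flat_iff_torsion_eq_bot_of_isBezout, Submodule.eq_bot_iff]
    rintro m ⟨a, ha⟩
    exact (nonZeroDivisors.ne_zero a.2 |> fun hne => (smul_eq_zero.mp ha).resolve_left hne)
  · have h2 : ringKrullDim A = 2 := le_antisymm hdim (Order.succ_le_of_lt h1)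
    have hA : LocCoh.IsCohenMacaulayModule A A := by
      haveI := Groth.Agent.DepthLib.isCohenMacaulayLocalRing_of_isRegularLocalRing A
      exact Groth.Agent.DepthLib.isCohenMacaulayModule_self
    have hdA : (2 : ℕ∞) ≤ LocCoh.depth A A := by
      rw [LocCoh.IsCohenMacaulayModule, Module.supportDim_self_eq_ringKrullDim, h2] at hA
      exact WithBot.coe_le_coe.mp hA.le
    have hdM : (2 : ℕ∞) ≤ LocCoh.depth A M :=
      Groth.Agent.DepthSections.two_le_depth_of_isReflexive hdA
    have hdM' : (2 : WithBot ℕ∞) ≤ ((LocCoh.depth A M : ℕ∞) : WithBot ℕ∞) := WithBot.coe_le_coe.mpr hdM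
    have hle := Groth.Agent.DepthLib.depth_le_supportDim (R := A) (M := M)
    have hsd : Module.supportDim A M ≤ 2 := (Module.supportDim_le_ringKrullDim A M).trans hdim
    have hCM : LocCoh.IsCohenMacaulayModule A M :=
      le_antisymm (hsd.trans hdM') hle
    obtain ⟨G, hGc, hGs⟩ : ∃ G : List A, G.length = (maximalIdeal A).spanFinrank ∧
        Ideal.ofList G = maximalIdeal A := by
      have hfg : (maximalIdeal A).FG := IsNoetherian.noetherian _
      refine ⟨(Submodule.FG.finite_generators hfg).toFinset.toList, ?_, ?_⟩
      · rw [Finset.length_toList, ← Submodule.FG.generators_ncard hfg,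
          Set.ncard_eq_toFinset_card _ (Submodule.FG.finite_generators hfg)]
      · rw [Ideal.ofList]
        simp only [Finset.mem_toList, Set.Finite.mem_toFinset, Set.setOf_mem_eq]
        exact (maximalIdeal A).span_generators
    haveI : Module.Free A M := by
      refine Groth.Agent.RegCoprod.free_of_isWeaklyRegular G hGs M ?_
      refine Groth.Agent.DepthLib.isWeaklyRegular_of_supportDim_drop G M hCM (fun r hr => ?_) ?_
      · rw [← hGs]; exact Ideal.subset_span hr
      · have hlen : (G.length : WithBot ℕ∞) = 2 := by
          rw [hGc, IsRegularLocalRing.spanFinrank_maximalIdeal, h2]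
        have h0 : Module.supportDim A (M ⧸ (Ideal.ofList G • ⊤ : Submodule A M)) ≤ 0 := by
          rw [hGs]
          haveI : Subsingleton (Module.support A (M ⧸ (maximalIdeal A • ⊤ : Submodule A M))) := by
            have key : ∀ p ∈ Module.support A (M ⧸ (maximalIdeal A • ⊤ : Submodule A M)),
                p.asIdeal = maximalIdeal A := fun p hp => by
              refine le_antisymm (le_maximalIdeal p.isPrime.ne_top)
                (le_trans (fun a ha => ?_) (Module.annihilator_le_of_mem_support hp))
              rw [Module.mem_annihilator]
              intro m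
              obtain ⟨m, rfl⟩ := Submodule.Quotient.mk_surjective _ m
              rw [← Submodule.Quotient.mk_smul, Submodule.Quotient.mk_eq_zero]
              exact Submodule.smul_mem_smul ha Submodule.mem_top
            exact ⟨fun p q => Subtype.ext (PrimeSpectrum.ext ((key p p.2).trans (key q q.2).symm))⟩
          exact Order.krullDim_nonpos_of_subsingleton
        rw [hlen]
        calc _ ≤ (0 : WithBot ℕ∞) + 2 := add_le_add h0 le_rfl
          _ = 2 := zero_add _
          _ ≤ _ := hdM'.trans hle
    infer_instance


/-- Let X be a locally Noetherian scheme of dimension at most 2 all of whose local rings are regular,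
and F a coherent module on X. Then F is reflexive (every stalk is a reflexive module over the local
ring) if and only if F is finite locally free. -/
theorem result (X : Scheme.{u}) [IsLocallyNoetherian X]
    (hreg : ∀ x : ↥X, IsRegularLocalRing (X.presheaf.stalk x)) (hdim : topologicalKrullDim ↥X ≤ 2) (F : X.Modules)
    (hF : Coh.IsCoh F) : (∀ x : ↥X, Module.IsReflexive (X.presheaf.stalk x) (F.presheaf.stalk x)) ↔ FlatMod.IsFinLocFree F := by
  refine ⟨fun h => Groth.Agent.DCohPerf.isFinLocFree_of_isFP_flat (Groth.Agent.QCohLib.isCoh_iff_isFP.mp hF) fun x => ?_,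
    fun h x => ?_⟩
  · haveI := hreg x
    haveI := Groth.Agent.NegVanish.finite_stalk hF x
    haveI := h x
    exact flat_of_isReflexive _ ((Groth.Agent.SmoothDense.ringKrullDim_stalk_le x).trans hdim) _
  · haveI : Module.Flat (X.presheaf.stalk x) (F.presheaf.stalk x) :=
      Groth.Agent.ModGroth.Perf.isFlat_of_isFinLocFree h x
    haveI := Groth.Agent.NegVanish.finite_stalk hF x
    haveI : Module.Free (X.presheaf.stalk x) (F.presheaf.stalk x) := Module.free_of_flat_of_isLocalRing
    infer_instance

end Groth.Agent.S1689
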