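import Groth.Statements.S16894
import Groth.Agent.IntTh.Criteria

set_option autoImplicit false
set_option backward.isDefEq.respectTransparency false
universe u
open CategoryTheory CategoryTheory.Limits AlgebraicGeometry
open Vanish

namespace Groth.Agent.S16894

/-- Let k be an algebraically closed field and X an irreducible proper smooth k-scheme of dimension n
with an ample invertible O_X-module A (a projective manifold), and let L be an invertible
O_X-module. Then L is numerically effective, i.e. the degree of the pullback of L to every integral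
one-dimensional closed subscheme Y ⊆ X is non-negative, if and only if L^⊗ν ⊗ A is ample for every ν
> 0. (The published lemma says 'for an ample sheaf A'; the equivalence is stated here for any given
ample A, which is what the argument gives.) -/
theorem result (k : Type u) [Field k] [IsAlgClosed k]
    (X : Scheme.{u}) [X.Over (Spec (CommRingCat.of k))] [IsProper (X ↘ Spec (CommRingCat.of k))]
    [Smooth (X ↘ Spec (CommRingCat.of k))] [IrreducibleSpace X] (n : ℕ) (hn : topologicalKrullDim X = n)
    (A : X.Modules) (hA : CohB1.IsAmple A) (L : X.Modules) (hL : PicF.IsInvertible L) :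
    (∀ (Y : Scheme.{u}) (i : Y ⟶ X) [IsClosedImmersion i], IsIntegral Y → topologicalKrullDim Y = 1 →
      0 ≤ Pic13.curveDeg k (i ≫ (X ↘ Spec (CommRingCat.of k))) ((Scheme.Modules.pullback i).obj L)) ↔
      ∀ ν : ℕ, 0 < ν → CohB1.IsAmple (CohB1.tensorMod (CohB1.tensorPow L ν) A) := by
  constructor
  · intro h ν hν
    have hnef := IntTh.nef_of_curveDeg k hL h
    have hamp := IntTh.isAmple_tensor_of_nef k hL hA hnef hν one_pos
    obtain ⟨o⟩ := InvPow.nonempty_pow_one_iso hA.1
    exact InvPow.isAmple_of_iso (ProjTwist.nonempty_tensorMod_iso (Iso.refl _) o).some hamp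
  · intro h Y i _ hYi hY
    haveI := hYi
    rw [IntTh.curveDeg_eq_inumOn k hL i hY]
    by_contra hneg
    push Not at hneg
    letI : Y.Over (Spec (CommRingCat.of k)) := ⟨i ≫ (X ↘ Spec (CommRingCat.of k))⟩
    haveI : IsProper (Y ↘ Spec (CommRingCat.of k)) :=
      inferInstanceAs (IsProper (i ≫ (X ↘ Spec (CommRingCat.of k))))
    haveI := CurveDeg.isNoetherian_of_proper (X := Y) k
    let ν : ℕ := (IntTh.inumOn k i [A]).toNat + 1
    have hamp := h ν (Nat.succ_pos _)
    have hpos := IntTh.inumOn_pos_of_isAmple k hamp i (d := 1) hY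
    have hL' := ProjUniv.isInvertible_pullback i hL
    have hA' := ProjUniv.isInvertible_pullback i hA.1
    obtain ⟨t⟩ := InvPow.nonempty_pullback_tensor_iso i (InvPow.isInvertible_tensorPow hL ν) hA.1
    obtain ⟨p⟩ := InvPow.nonempty_pullback_pow_iso i hL ν
    have hnil : IntTh.Inv ([] : List Y.Modules) := fun _ h => absurd h List.not_mem_nil
    have hO : Coh.IsCoh (Coh.structureModule Y) :=
      InvPow.isCoh_of_isInvertible (HilbPoly.isInvertible_structureModule Y)
    have hd1 : topologicalKrullDim (CohB1.support (Coh.structureModule Y)) ≤ ((([] : List Y.Modules).length + 1 : ℕ) : WithBot ℕ∞) :=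
      (topologicalKrullDim_subspace_le Y _).trans (by simpa using hY.le)
    unfold IntTh.inumOn at hneg hpos
    simp only [List.map_cons, List.map_nil, List.replicate_one] at hneg hpos
    rw [IntTh.inum_head_congr k (t ≪≫ (ProjTwist.nonempty_tensorMod_iso p (Iso.refl _)).some),
      IntTh.inum_head_tensor k (InvPow.isInvertible_tensorPow hL' ν) hA' hnil hO hd1,
      IntTh.inum_head_pow k hL' hnil hO hd1] at hpos
    have hν : (ν : ℤ) = ((IntTh.inumOn k i [A]).toNat : ℤ) + 1 := by simp [ν]
    have hA0 := IntTh.inumOn k i [A]
    have hle := Int.self_le_toNat (IntTh.inumOn k i [A])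
    unfold IntTh.inumOn at hν hle
    simp only [List.map_cons, List.map_nil] at hν hle
    nlinarith [hneg, hpos, hν, hle]
end Groth.Agent.S16894
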