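import Groth.Statements.S1690
import Groth.Agent.DepthSections.FlatExtend
import Groth.Agent.DepthSections.ReflexivePush
import Groth.Agent.FlatDescent.Sheaf
import Groth.Agent.DCohPerf.FlatFP
import Groth.Agent.QCohLib.Pullback
import Groth.Agent.ModGroth.FinLocFree
import Mathlib
-- import your own Groth.Agent.* helpers here

set_option autoImplicit false
universe u
open CategoryTheory CategoryTheory.Limits AlgebraicGeometry TopologicalSpace
open SDiv

namespace Groth.Agent.S1690

open AlgebraicGeometry CategoryTheory in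
theorem isCoh_restrict' {X Y : Scheme.{u}} [IsLocallyNoetherian X] (j : Y ⟶ X) [IsOpenImmersion j]
    {M : X.Modules} (hM : Coh.IsCoh M) : Coh.IsCoh (M.restrict j) :=
  Groth.Agent.QCohLib.isCoh_of_iso ((Scheme.Modules.restrictFunctorIsoPullback j).app M).symm
    (Groth.Agent.QCohLib.isCoh_pullback j M hM)

open AlgebraicGeometry CategoryTheory in
theorem flat_of_id {X : Scheme.{u}} (F : X.Modules) (x : X) :
    FlatMod.IsFlatOverAt (𝟙 X) F x ↔ FlatMod.IsFlatAt F x := by
  have e : FlatMod.moduleStalkOver (𝟙 X) F x = (inferInstance : Module (X.presheaf.stalk x) (F.presheaf.stalk x)) := by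
    refine Module.ext' _ _ fun r m => ?_
    show ((𝟙 X : X ⟶ X).stalkMap x).hom r • m = _
    rw [Scheme.Hom.stalkMap_id]
    rfl
  show @Module.Flat (X.presheaf.stalk x) (F.presheaf.stalk x) _ _ (FlatMod.moduleStalkOver (𝟙 X) F x) ↔ _
  rw [e]
  rfl

open AlgebraicGeometry CategoryTheory in
theorem isPrincipalIdealRing_of_regular {A : Type u} [CommRing A] [IsDomain A] [IsRegularLocalRing A]
    (hdim : ringKrullDim A ≤ 1) : IsPrincipalIdealRing A := by
  rw [← IsRegularLocalRing.spanFinrank_maximalIdeal] at hdim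
  have hle : (IsLocalRing.maximalIdeal A).spanFinrank ≤ 1 := by exact_mod_cast hdim
  refine ((tfae_of_isNoetherianRing_of_isLocalRing_of_isDomain A).out 4 0 rfl rfl).mp ?_
  rcases Nat.le_one_iff_eq_zero_or_eq_one.mp hle with h0 | h1
  · rw [(Submodule.spanFinrank_eq_zero_iff_eq_bot (IsNoetherian.noetherian _)).mp h0]
    exact ⟨⟨0, by simp⟩⟩
  · exact ((Submodule.spanFinrank_eq_one_iff _).mp h1).1

open AlgebraicGeometry CategoryTheory in
theorem flat_stalk_of_dim_le_one (X : Scheme.{u}) [IsLocallyNoetherian X] (hX : Pi1.IsNormalScheme X)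
    (F : X.Modules) (hF : Coh.IsCoh F) (x : X)
    (hr : Module.IsReflexive (X.presheaf.stalk x) (F.presheaf.stalk x))
    (hdim : ringKrullDim (X.presheaf.stalk x) ≤ 1) : FlatMod.IsFlatAt F x := by
  haveI := (hX x).1
  haveI := (hX x).2
  haveI := Groth.Agent.CohFinite.finite_stalk hF x
  haveI := Groth.Agent.DepthLib.isRegularLocalRing_of_isIntegrallyClosed (A := X.presheaf.stalk x) hdim
  haveI : Module.IsTorsionFree (X.presheaf.stalk x) (F.presheaf.stalk x) := by
    refine ⟨fun r hreg m m' e => (Module.bijective_dual_eval (X.presheaf.stalk x) (F.presheaf.stalk x)).1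
      (LinearMap.ext fun φ => ?_)⟩
    refine mul_left_cancel₀ hreg.ne_zero ?_
    have h2 := congrArg φ e
    rw [map_smul, map_smul, smul_eq_mul, smul_eq_mul] at h2
    exact h2
  haveI : IsPrincipalIdealRing (X.presheaf.stalk x) := isPrincipalIdealRing_of_regular hdim
  show Module.Flat _ _
  infer_instance

open AlgebraicGeometry CategoryTheory in
theorem flat_restrict (X : Scheme.{u}) [IsLocallyNoetherian X] (U : X.Opens) (F : X.Modules) (hF : Coh.IsCoh F)
    (y : (U : Scheme.{u})) (h : FlatMod.IsFlatAt F (U.ι y)) : FlatMod.IsFlatAt (F.restrict U.ι) y := by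
  haveI := Groth.Agent.CohFinite.finite_stalk hF (U.ι y)
  haveI : Module.Flat (X.presheaf.stalk (U.ι y)) (F.presheaf.stalk (U.ι y)) := h
  haveI : Module.Free (X.presheaf.stalk (U.ι y)) (F.presheaf.stalk (U.ι y)) := Module.free_of_flat_of_isLocalRing
  let σ : X.presheaf.stalk (U.ι y) ≃+* (U : Scheme.{u}).presheaf.stalk y :=
    (asIso (U.ι.stalkMap y)).commRingCatIsoToRingEquiv
  let e : ((Scheme.Modules.restrictFunctor U.ι).obj F).presheaf.stalk y ≃+ F.presheaf.stalk (U.ι y) :=
    AddEquiv.ofBijective (Groth.Agent.QCohLib.restrictStalkIso U.ι F y).hom.hom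
      (Groth.Agent.QCohLib.restrictStalkIso_bijective U.ι F y)
  haveI := RingHomInvPair.of_ringEquiv σ
  haveI := RingHomInvPair.of_ringEquiv σ.symm
  let e' : F.presheaf.stalk (U.ι y) ≃ₛₗ[(σ : X.presheaf.stalk (U.ι y) →+* (U : Scheme.{u}).presheaf.stalk y)] ((Scheme.Modules.restrictFunctor U.ι).obj F).presheaf.stalk y :=
    { e.symm with
      map_smul' := fun r m => by
        apply e.injective
        show e (e.symm (r • m)) = e (σ r • e.symm m)
        rw [e.apply_symm_apply]
        exact (congrArg (r • ·) (e.apply_symm_apply m)).symm.trans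
          (Groth.FlatDescent.restrictStalk_smul U.ι F y r (e.symm m)).symm }
  haveI : Module.Free ((U : Scheme.{u}).presheaf.stalk y) (((Scheme.Modules.restrictFunctor U.ι).obj F).presheaf.stalk y) :=
    Module.Free.of_equiv e'
  show Module.Flat _ _
  exact inferInstanceAs (Module.Flat _ (((Scheme.Modules.restrictFunctor U.ι).obj F).presheaf.stalk y))


/-- (1) if and only if (3): let X be an integral locally Noetherian normal scheme and F a coherent
module. Then F is reflexive (stalkwise) if and only if there is an open subscheme j : U ⟶ X such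
that every point outside U has local ring of dimension at least 2, the restriction of F to U is
finite locally free, and the canonical map F ⟶ j_* j^* F is an isomorphism. -/
theorem result (X : Scheme.{u}) [IsIntegral X] [IsLocallyNoetherian X] (hX : Pi1.IsNormalScheme X)
    (F : X.Modules) (hF : Coh.IsCoh F) :
    (∀ x : ↥X, Module.IsReflexive (X.presheaf.stalk x) (F.presheaf.stalk x)) ↔
      ∃ U : X.Opens, (∀ x : ↥X, x ∉ U → (2 : WithBot ℕ∞) ≤ ringKrullDim (X.presheaf.stalk x)) ∧
        FlatMod.IsFinLocFree (F.restrict U.ι) ∧ IsIso ((Scheme.Modules.restrictAdjunction U.ι).unit.app F) := by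
  constructor
  · intro hr
    haveI : IsLocallyNoetherian X := inferInstance
    have hopen : IsOpen {x : X | FlatMod.IsFlatOverAt (𝟙 X) F x} := by
      haveI := hF.1
      exact Groth.FlatDescent.isOpen_flatLocus_sheaf (𝟙 X) F (Groth.Agent.QCohLib.isCoh_iff_isFP.mp hF)
    let U : X.Opens := ⟨_, hopen⟩
    have hUflat : ∀ x : X, x ∈ U ↔ FlatMod.IsFlatAt F x := by
      intro x
      exact flat_of_id F x
    have hcodim : ∀ x : X, x ∉ U → (2 : WithBot ℕ∞) ≤ ringKrullDim (X.presheaf.stalk x) := by
      intro x hx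
      by_contra hlt
      refine hx ((hUflat x).mpr (flat_stalk_of_dim_le_one X hX F hF x (hr x) ?_))
      exact ENat.WithBot.lt_add_one_iff.mp (lt_of_lt_of_le (not_le.mp hlt) (le_of_eq (by norm_num)))
    refine ⟨U, hcodim, ?_, Groth.Agent.ParaFLib.isIso_unit_app U.ι ?_⟩
    · refine Groth.Agent.DCohPerf.isFinLocFree_of_isFP_flat (Groth.Agent.QCohLib.isCoh_iff_isFP.mp
        (isCoh_restrict' U.ι hF)) fun y => ?_
      have hy : FlatMod.IsFlatOverAt (𝟙 X) F (U.ι y) := y.2
      exact flat_restrict X U F hF y ((hUflat _).mp hy)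
    · rw [Scheme.Opens.opensRange_ι]
      refine Groth.Agent.DepthSections.bijective_restrict F hF U fun x hx => ?_
      haveI := hr x
      exact Groth.Agent.DepthSections.two_le_depth_stalk_of_isReflexive F hF x
        (Groth.Agent.DepthSections.two_le_depth_of_normal hX x (lt_of_lt_of_le (by norm_num) (hcodim x hx)))
  · rintro ⟨U, hcodim, hfree, hiso⟩ x
    have hG : Coh.IsCoh (F.restrict U.ι) := isCoh_restrict' U.ι hF
    have hr : ∀ y : (U : Scheme.{u}), Module.IsReflexive ((U : Scheme.{u}).presheaf.stalk y)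
        ((F.restrict U.ι).presheaf.stalk y) := by
      intro y
      haveI := Groth.Agent.CohFinite.finite_stalk hG y
      haveI : Module.Flat ((U : Scheme.{u}).presheaf.stalk y) ((F.restrict U.ι).presheaf.stalk y) :=
        Groth.Agent.ModGroth.Perf.isFlat_of_isFinLocFree hfree y
      haveI : Module.Free ((U : Scheme.{u}).presheaf.stalk y) ((F.restrict U.ι).presheaf.stalk y) :=
        Module.free_of_flat_of_isLocalRing
      infer_instance
    have hp := (Groth.Agent.DepthSections.isCoh_isReflexive_pushforward U (fun z hz =>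
      Groth.Agent.DepthSections.two_le_depth_of_normal hX z (lt_of_lt_of_le (by norm_num) (hcodim z hz)))
      (F.restrict U.ι) hG hr).2 x
    haveI := hiso
    haveI := hp
    exact @Groth.Agent.DepthSections.isReflexive_stalk_of_iso _ _ _
      (asIso ((Scheme.Modules.restrictAdjunction U.ι).unit.app F)).symm x hp

end Groth.Agent.S1690
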