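import Groth.Statements.S16903
import Groth.Agent.IntTh.NumTrivial
import Groth.Agent.IntTh.Positive
import Groth.Agent.SmoothWeil.Geom

set_option autoImplicit false
set_option backward.isDefEq.respectTransparency false
set_option backward.isDefEq.respectTransparency false
universe u
open CategoryTheory CategoryTheory.Limits AlgebraicGeometry
open Vanish
open Groth.Agent Groth.Agent.InvBasic Groth.Agent.ProjUniv Groth.Agent.InvPow Groth.Agent.QCohLib Groth.Agent.HilbPoly Groth.Agent.CurveDeg Groth.Agent.CohFinite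

namespace Groth.Agent.S16903

/-- Let k be an algebraically closed field of characteristic zero and X an irreducible proper smooth
k-scheme of dimension n with an ample invertible O_X-module (a projective manifold); let L be a
numerically effective invertible O_X-module with tensor inverse L⁻¹ and m a natural number such that
c_1(L)^m is numerically trivial, i.e. the intersection number (L^m · V) = ∫ c_1(L)^m [O_V] vanishes
for every integral closed subscheme V ⊆ X of dimension m. Then κ(L) < m, in the growth form: there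
are no ν > 0 and a > 0 with μ^m ≤ a · dim_k H^0(X, L^⊗νμ) for all μ ≥ 1. (This expresses ν(L) ≥
κ(L); only the characteristic-zero case is stated.) -/
theorem result (k : Type u) [Field k] [IsAlgClosed k] [CharZero k]
    (X : Scheme.{u}) [X.Over (Spec (CommRingCat.of k))] [IsProper (X ↘ Spec (CommRingCat.of k))]
    [Smooth (X ↘ Spec (CommRingCat.of k))] [IrreducibleSpace X] (n : ℕ) (hn : topologicalKrullDim X = n)
    (H : X.Modules) (hH : CohB1.IsAmple H) (L Linv : X.Modules) (hL : PicF.IsInvertible L) (hLinv : ClSub.IsInverseOf Linv L)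
    (hnef : (∀ (Y : Scheme.{u}) (i : Y ⟶ X) [IsClosedImmersion i], IsIntegral Y → topologicalKrullDim Y = 1 →
      0 ≤ Pic13.curveDeg k (i ≫ (X ↘ Spec (CommRingCat.of k))) ((Scheme.Modules.pullback i).obj L)))
    (m : ℕ) (hm : (∀ (V : Scheme.{u}) (i : V ⟶ X) [IsClosedImmersion i], IsIntegral V → topologicalKrullDim V = (m : ℕ) →
      FGA.intNum k X n (fun _ : Fin m => Linv) ((Scheme.Modules.pushforward i).obj (Coh.structureModule V)) = 0)) :
    ¬ (∃ ν a : ℕ, 0 < ν ∧ 0 < a ∧ ∀ μ : ℕ, 1 ≤ μ →
        μ ^ m ≤ a * Module.finrank k (Coh.HH X (CohB1.tensorPow L (ν * μ)) 0)) := by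
  haveI : AlgebraicGeometry.IsReduced X := Groth.Agent.UnitProd.isReduced_left_of_smooth (X ↘ Spec (CommRingCat.of k))
  haveI : AlgebraicGeometry.IsIntegral X := isIntegral_of_irreducibleSpace_of_isReduced _
  haveI := Groth.Agent.CurveDeg.isNoetherian_of_proper (X := X) k
  rintro ⟨ν, a, hν, -, hgrow⟩
  have hnef' := Groth.Agent.IntTh.nef_of_curveDeg k hL hnef
  have hLL' : ClSub.IsInverseOf L Linv := ⟨(Groth.Agent.ProjTwist.nonempty_tensorMod_comm L Linv).some ≪≫ hLinv.some⟩
  have hLi := Groth.Agent.NegVanish.isInvertible_of_inverse hL hLL'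
  have hpt : Groth.Agent.IntTh.PowTrivial k L m := fun V i _ hV' hV => by
    have h := hm V i hV' hV
    letI : V.Over (Spec (CommRingCat.of k)) := ⟨i ≫ (X ↘ Spec (CommRingCat.of k))⟩
    haveI : IsProper (V ↘ Spec (CommRingCat.of k)) :=
      inferInstanceAs (IsProper (i ≫ (X ↘ Spec (CommRingCat.of k))))
    have hF : Coh.IsCoh ((Scheme.Modules.pushforward i).obj (Coh.structureModule V)) :=
      Groth.Agent.CohFinite.isCoh_push_ideal i (𝟙 _) (Groth.Agent.InvBasic.isQuasicoherent_structureModule _)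
    have hd : topologicalKrullDim (CohB1.support ((Scheme.Modules.pushforward i).obj (Coh.structureModule V))) ≤
        ((m : ℕ) : WithBot ℕ∞) :=
      (Groth.Agent.HilbPoly.dim_mono (support_pushforward_subset i _)).trans
        ((Groth.Agent.CurveDeg.dim_source i).symm.trans hV).le
    rw [Groth.Agent.IntTh.intNum_eq k hn.le (fun _ => hLi) hF, List.ofFn_const] at h
    have hflip := Groth.Agent.IntTh.inum_inverses k hF (lL := List.replicate m L) (lM := List.replicate m Linv)
      (p := []) (by
        clear hm h hd hV hgrow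
        induction m with
        | zero => exact List.Forall₂.nil
        | succ m ih => exact List.Forall₂.cons ⟨hL, hLL'⟩ ih)
      (fun _ h => absurd h List.not_mem_nil) (by simpa using hd)
    rw [List.append_nil, List.append_nil, List.length_replicate] at hflip
    rw [hflip, ← mul_assoc, ← pow_add, ← two_mul, pow_mul, neg_one_sq, one_pow, one_mul] at h
    rw [Groth.Agent.IntTh.inum_push k i (Groth.Agent.IntTh.Inv.replicate hL m) _
      (Groth.Agent.InvBasic.isQuasicoherent_structureModule _)] at h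
    exact h
  have hO : Coh.IsCoh (Coh.structureModule X) :=
    isCoh_of_isInvertible (Groth.Agent.HilbPoly.isInvertible_structureModule X)
  rcases Nat.eq_zero_or_pos m with rfl | hm0
  · have hptH : Groth.Agent.IntTh.PowTrivial k H 0 := hpt
    have h0 := Groth.Agent.IntTh.inum_pow_eq_zero k n X H hH.1 hptH _ hO
      ((topologicalKrullDim_subspace_le X _).trans (by rw [hn, zero_add]))
    rw [zero_add] at h0
    have := Groth.Agent.IntTh.inum_pos_of_isAmple k hH hn
    omega
  obtain ⟨C, hC, h⟩ := Groth.Agent.IntTh.exists_hdim_pow_le_of_powTrivial k hm0 (n + 1) X H L hH hL hnef' hpt _ hO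
    ((topologicalKrullDim_subspace_le X _).trans_lt (by rw [hn]; exact_mod_cast Nat.lt_succ_self n))
  obtain ⟨μ, hμ⟩ := exists_nat_gt ((a : ℝ) * C * (ν : ℝ) ^ (m - 1))
  have hμ' : (μ : ℝ) < ((μ + 1 : ℕ) : ℝ) := by exact_mod_cast Nat.lt_succ_self μ
  have h1 := h (ν * (μ + 1)) (Nat.mul_pos hν μ.succ_pos)
  have e : Groth.Agent.HilbPoly.hdim k X (CohB1.tensorMod (Coh.structureModule X) (CohB1.tensorPow L (ν * (μ + 1)))) 0 =
      (Module.finrank k (Coh.HH X (CohB1.tensorPow L (ν * (μ + 1))) 0) : ℤ) :=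
    Groth.Agent.CurveDeg.hdim_congr k ((Groth.Agent.ProjTwist.nonempty_tensorMod_comm _ _).some ≪≫
      SecTwist.unitorR _) 0
  rw [e] at h1
  have h2 : ((μ + 1 : ℕ) : ℝ) ^ m ≤
      (a : ℝ) * (Module.finrank k (Coh.HH X (CohB1.tensorPow L (ν * (μ + 1))) 0) : ℝ) := by
    exact_mod_cast hgrow (μ + 1) (Nat.le_add_left 1 μ)
  push_cast at h1
  rw [mul_pow] at h1
  have h3 := h2.trans (mul_le_mul_of_nonneg_left h1 (Nat.cast_nonneg a))
  obtain ⟨m', rfl⟩ : ∃ m', m = m' + 1 := ⟨m - 1, by omega⟩
  push_cast at h3 hμ'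
  simp only [Nat.add_sub_cancel] at h3 hμ
  rw [pow_succ] at h3
  have hp : (0 : ℝ) < ((μ : ℝ) + 1) ^ m' := by positivity
  have h4 : ((μ : ℝ) + 1) ^ m' * ((μ : ℝ) + 1) ≤ ((μ : ℝ) + 1) ^ m' * ((a : ℝ) * C * (ν : ℝ) ^ m') :=
    h3.trans (le_of_eq (by ring))
  linarith [le_of_mul_le_mul_left h4 hp]
end Groth.Agent.S16903
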