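import Groth.Statements.S16904
import Groth.Agent.IntTh.SemiampleGrowth
import Groth.Agent.IntTh.Positive
import Groth.Agent.S16903

set_option autoImplicit false
set_option backward.isDefEq.respectTransparency false
set_option linter.style.haveILetI false
set_option backward.isDefEq.respectTransparency false
universe u
open CategoryTheory CategoryTheory.Limits AlgebraicGeometry
open Vanish

open Groth.Agent.InvBasic Groth.Agent.ProjUniv Groth.Agent.InvPow Groth.Agent.QCohLib Groth.Agent.HilbPoly Groth.Agent.CurveDeg Groth.Agent.CohFinite Groth.Agent.IntTh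

namespace Groth.Agent.S16904

theorem intNum_push_eq (k : Type u) [Field k] {X : Scheme.{u}} [X.Over (Spec (CommRingCat.of k))]
    [IsProper (X ↘ Spec (CommRingCat.of k))] {n m : ℕ} (hn : topologicalKrullDim X ≤ (n : WithBot ℕ∞))
    {L Linv : X.Modules} (hL : PicF.IsInvertible L) (hLinv : ClSub.IsInverseOf Linv L) {V : Scheme.{u}} (i : V ⟶ X)
    [IsClosedImmersion i] (hV : topologicalKrullDim V = (m : WithBot ℕ∞)) :
    FGA.intNum k X n (fun _ : Fin m => Linv) ((Scheme.Modules.pushforward i).obj (Coh.structureModule V)) =
      inumOn k i (List.replicate m L) := by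
  haveI := isNoetherian_of_proper (X := X) k
  have hLL' : ClSub.IsInverseOf L Linv := ⟨(Groth.Agent.ProjTwist.nonempty_tensorMod_comm L Linv).some ≪≫ hLinv.some⟩
  have hLi := Groth.Agent.NegVanish.isInvertible_of_inverse hL hLL'
  have hF : Coh.IsCoh ((Scheme.Modules.pushforward i).obj (Coh.structureModule V)) :=
    isCoh_push_ideal i (𝟙 _) (Groth.Agent.InvBasic.isQuasicoherent_structureModule _)
  have hd : topologicalKrullDim (CohB1.support ((Scheme.Modules.pushforward i).obj (Coh.structureModule V))) ≤
      ((m : ℕ) : WithBot ℕ∞) :=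
    (HilbPoly.dim_mono (support_pushforward_subset i _)).trans ((dim_source i).symm.trans hV).le
  rw [intNum_eq k hn (fun _ => hLi) hF, List.ofFn_const]
  have hflip := inum_inverses k hF (lL := List.replicate m L) (lM := List.replicate m Linv)
    (p := []) (by
      clear hd hV
      induction m with
      | zero => exact List.Forall₂.nil
      | succ m ih => exact List.Forall₂.cons ⟨hL, hLL'⟩ ih)
    (fun _ h => absurd h List.not_mem_nil) (by simpa using hd)
  rw [List.append_nil, List.append_nil, List.length_replicate] at hflip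
  rw [hflip, ← mul_assoc, ← pow_add, ← two_mul, pow_mul, neg_one_sq, one_pow, one_mul,
    inum_push k i (Inv.replicate hL m) _ (Groth.Agent.InvBasic.isQuasicoherent_structureModule _)]
  rfl

theorem inumOn_pow (k : Type u) [Field k] {X : Scheme.{u}} [X.Over (Spec (CommRingCat.of k))]
    [IsProper (X ↘ Spec (CommRingCat.of k))] {m : ℕ}
    {L : X.Modules} (hL : PicF.IsInvertible L) {V : Scheme.{u}} (i : V ⟶ X)
    [IsClosedImmersion i] (hV : topologicalKrullDim V = (m : WithBot ℕ∞)) (q : ℕ) :
    inumOn k i (List.replicate m (CohB1.tensorPow L q)) = (q : ℤ) ^ m * inumOn k i (List.replicate m L) := by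
  haveI := isNoetherian_of_proper (X := X) k
  let F := (Scheme.Modules.pushforward i).obj (Coh.structureModule V)
  have hF : Coh.IsCoh F := isCoh_push_ideal i (𝟙 _) (Groth.Agent.InvBasic.isQuasicoherent_structureModule _)
  have hd : topologicalKrullDim (CohB1.support F) ≤ ((m : ℕ) : WithBot ℕ∞) :=
    (HilbPoly.dim_mono (support_pushforward_subset i _)).trans ((dim_source i).symm.trans hV).le
  have hM := isInvertible_tensorPow hL q
  have key : ∀ a b : ℕ, a + b = m →
      inum k (List.replicate a (CohB1.tensorPow L q) ++ List.replicate b L) F =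
        (q : ℤ) ^ a * inum k (List.replicate m L) F := by
    intro a
    induction a with
    | zero =>
      intro b hb
      obtain rfl : b = m := by omega
      simp
    | succ a ih =>
      intro b hb
      have hl : Inv (List.replicate a (CohB1.tensorPow L q) ++ List.replicate b L) := fun B hB => by
        rcases List.mem_append.mp hB with h | h
        exacts [Inv.replicate hM a B h, Inv.replicate hL b B h]
      have hd' : topologicalKrullDim (CohB1.support F) ≤
          (((List.replicate a (CohB1.tensorPow L q) ++ List.replicate b L).length + 1 : ℕ) : WithBot ℕ∞) :=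
        hd.trans (by simp; exact_mod_cast (show m ≤ a + b + 1 by omega))
      rw [List.replicate_succ, List.cons_append, inum_head_pow k hL hl hF hd' q,
        ← inum_perm k (List.perm_middle (a := L)) (fun B hB => by
          rcases List.mem_append.mp hB with h | h
          · exact Inv.replicate hM a B h
          · exact ((Inv.replicate hL b).cons hL) B h), ← List.replicate_succ, ih (b + 1) (by omega), pow_succ]
      ring
  have h := key m 0 rfl
  rw [List.replicate_zero, List.append_nil] at h
  rw [inum_push k i (Inv.replicate hM m) _ (Groth.Agent.InvBasic.isQuasicoherent_structureModule _),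
    inum_push k i (Inv.replicate hL m) _ (Groth.Agent.InvBasic.isQuasicoherent_structureModule _)] at h
  exact h

theorem nef_of_globallyGenerated (k : Type u) [Field k] {X : Scheme.{u}} [X.Over (Spec (CommRingCat.of k))]
    [IsProper (X ↘ Spec (CommRingCat.of k))] {L : X.Modules} (hL : PicF.IsInvertible L) {q : ℕ} (hq : 0 < q)
    (hgg : Curv2.IsGloballyGenerated (CohB1.tensorPow L q)) (W : Scheme.{u}) (j : W ⟶ X) [IsClosedImmersion j]
    [IsIntegral W] (hW : topologicalKrullDim W = 1) : 0 ≤ inumOn k j [L] := by
  haveI := isNoetherian_of_proper (X := X) k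
  have hM := isInvertible_tensorPow hL q
  let F := (Scheme.Modules.pushforward j).obj (Coh.structureModule W)
  have hF : Coh.IsCoh F := isCoh_push_ideal j (𝟙 _) (Groth.Agent.InvBasic.isQuasicoherent_structureModule _)
  obtain ⟨σ, hx⟩ := exists_gen_of_isGloballyGenerated hM hgg (j (genericPoint W))
  haveI := mono_mulSection_push j hM σ ⟨_, hx⟩
  let Q := cokernel (mulSection F σ)
  have hFM := isCoh_tensorMod hF hM
  have hQ : Coh.IsCoh Q := QCohLib.isCoh_cokernel _ hF.1 hFM
  have hQsub : CohB1.support Q ⊆ Set.range j :=
    (support_subset_of_epi (cokernel.π (mulSection F σ))).trans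
      (((HilbPoly.support_tensorMod F hM).subset).trans (support_pushforward_subset j _))
  have hQd : topologicalKrullDim (CohB1.support Q) ≤ ((0 : ℕ) : WithBot ℕ∞) := by
    have h1 := dim_le_of_disjoint (X := W) (e := 0) (by simpa using hW.le) ((QCohLib.isClosed_support hQ.2).preimage j.continuous)
      (U := j ⁻¹ᵁ genOpen hM σ) ⟨genericPoint W, hx⟩ ((disjoint_support_cokernel_mulSection F hM σ).preimage j)
    rwa [← FibreDim.dim_image j.isClosedEmbedding.isEmbedding, Set.image_preimage_eq_of_subset hQsub] at h1
  have hnn : 0 ≤ inum k [] Q := inum_nonneg k (l := []) (fun _ h => absurd h List.not_mem_nil) hQ (by simpa using hQd)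
    fun V v _ _ _ hV => by
      letI : V.Over (Spec (CommRingCat.of k)) := ⟨v ≫ (X ↘ Spec (CommRingCat.of k))⟩
      haveI : IsProper (V ↘ Spec (CommRingCat.of k)) :=
        inferInstanceAs (IsProper (v ≫ (X ↘ Spec (CommRingCat.of k))))
      exact inum_nonneg_of_ample k 0 V [] rfl (fun _ h => absurd h List.not_mem_nil) hV
  have h := inum_additive k (l := []) (fun _ h => absurd h List.not_mem_nil)
    (Groth.Agent.CohFinite.shortExact_cokernel (mulSection F σ)) hF hFM hQ
  change inum k [] (CohB1.tensorMod F _) = inum k [] F + inum k [] Q at h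
  have hd : topologicalKrullDim (CohB1.support F) ≤ ((([] : List X.Modules).length + 1 : ℕ) : WithBot ℕ∞) :=
    (HilbPoly.dim_mono (support_pushforward_subset j _)).trans (by simpa using ((dim_source j).symm.trans hW).le)
  have h2 := inum_head_pow k hL (l := []) (fun _ h => absurd h List.not_mem_nil) hF hd q
  rw [inum, h] at h2
  rw [inum_push k j (Inv.cons hL fun _ h => absurd h List.not_mem_nil) _
    (Groth.Agent.InvBasic.isQuasicoherent_structureModule _)] at h2
  change _ = (q : ℤ) * inumOn k j [L] at h2
  have : 0 ≤ (q : ℤ) * inumOn k j [L] := by linarith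
  exact (mul_nonneg_iff_of_pos_left (by exact_mod_cast hq)).mp this

/-- Let k be an algebraically closed field of characteristic zero and X an irreducible proper smooth
k-scheme of dimension n with an ample invertible O_X-module (a projective manifold); let L be a
semi-ample invertible O_X-module (some L^⊗μ with μ > 0 is globally generated; such L is numerically
effective) with tensor inverse L⁻¹. Then for every natural number m, c_1(L)^m is numerically trivial
— (L^m · V) = 0 for every integral closed subscheme V ⊆ X of dimension m — if and only if κ(L) < m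
in the growth form: there are no ν > 0 and a > 0 with μ^m ≤ a · dim_k H^0(X, L^⊗νμ) for all μ ≥ 1.
(This expresses ν(L) = κ(L) for semi-ample L; characteristic zero only.) -/
theorem result (k : Type u) [Field k] [IsAlgClosed k] [CharZero k]
    (X : Scheme.{u}) [X.Over (Spec (CommRingCat.of k))] [IsProper (X ↘ Spec (CommRingCat.of k))]
    [Smooth (X ↘ Spec (CommRingCat.of k))] [IrreducibleSpace X] (n : ℕ) (hn : topologicalKrullDim X = n)
    (H : X.Modules) (hH : CohB1.IsAmple H) (L Linv : X.Modules) (hL : PicF.IsInvertible L) (hLinv : ClSub.IsInverseOf Linv L)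
    (hsa : ∃ μ : ℕ, 0 < μ ∧ Curv2.IsGloballyGenerated (CohB1.tensorPow L μ))
    (m : ℕ) :
    (∀ (V : Scheme.{u}) (i : V ⟶ X) [IsClosedImmersion i], IsIntegral V → topologicalKrullDim V = (m : ℕ) →
      FGA.intNum k X n (fun _ : Fin m => Linv) ((Scheme.Modules.pushforward i).obj (Coh.structureModule V)) = 0) ↔ ¬ (∃ ν a : ℕ, 0 < ν ∧ 0 < a ∧ ∀ μ : ℕ, 1 ≤ μ →
        μ ^ m ≤ a * Module.finrank k (Coh.HH X (CohB1.tensorPow L (ν * μ)) 0)) := by
  haveI : AlgebraicGeometry.IsReduced X := Groth.Agent.UnitProd.isReduced_left_of_smooth (X ↘ Spec (CommRingCat.of k))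
  haveI : AlgebraicGeometry.IsIntegral X := isIntegral_of_irreducibleSpace_of_isReduced _
  obtain ⟨q, hq, hgg⟩ := hsa
  have hM := isInvertible_tensorPow hL q
  constructor
  · intro hm
    refine Groth.Agent.S16903.result k X n hn H hH L Linv hL hLinv (fun Y i hi hY hY1 => ?_) m hm
    haveI := hY
    rw [curveDeg_eq_inumOn k hL i hY1]
    exact nef_of_globallyGenerated k hL hq hgg Y i hY1
  · intro hno V i hi hV' hVd
    haveI := hV'
    rw [intNum_push_eq k hn.le hL hLinv i (m := m) hVd]
    by_contra hne
    apply hno
    have hMne : inumOn k i (List.replicate m (CohB1.tensorPow L q)) ≠ 0 := by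
      rw [inumOn_pow k hL i hVd q]
      exact mul_ne_zero (pow_ne_zero _ (by exact_mod_cast hq.ne')) hne
    refine ⟨q, m.factorial, hq, Nat.factorial_pos m, fun μ _ => ?_⟩
    have h := choose_le_hdim k hM hgg i hVd hMne μ
    obtain ⟨e⟩ := nonempty_pow_mul_iso hL q μ
    rw [Groth.Agent.CurveDeg.hdim_congr k e 0] at h
    have h' : (μ + m).choose m ≤ Module.finrank k (Coh.HH X (CohB1.tensorPow L (q * μ)) 0) := by
      change _ ≤ (Module.finrank k (Coh.HH X (CohB1.tensorPow L (q * μ)) 0) : ℤ) at h
      exact_mod_cast h
    refine le_trans ?_ (Nat.mul_le_mul_left _ h')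
    rw [← Nat.descFactorial_eq_factorial_mul_choose]
    refine le_trans (Nat.pow_le_pow_left (Nat.le_succ μ) m) (le_trans ?_ (Nat.pow_sub_le_descFactorial (μ + m) m))
    exact Nat.pow_le_pow_left (by omega) m
end Groth.Agent.S16904
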