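import Groth.Statements.S16909
-- import your own Groth.Agent.* helpers here
import Groth.Agent.InvPow.GGSections
import Groth.Agent.ConormalSection.Ideal
import Groth.Agent.S8914

set_option autoImplicit false
universe u
open CategoryTheory CategoryTheory.Limits AlgebraicGeometry
open ResProp

namespace Groth.Agent.S16909

/-- Let `X` be a quasi-compact and quasi-separated scheme on which every quasi-coherent module is
globally generated (a quotient of a free module on some index type, i.e. the structure sheaf is a
generating family). Then `X` is quasi-affine. No separatedness hypothesis is made; it follows. (The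
published statement is for an algebraic stack over an algebraic space with affine stabilizer groups
at closed points and concludes that it is representable by a quasi-affine morphism; that general
case rests on results outside this text, and this row is the final step of its proof, the case of a
scheme.) -/
theorem result (X : Scheme.{u}) [CompactSpace X]
    [QuasiSeparatedSpace X] (h : ∀ M : X.Modules, Coh.IsQCoh M → Curv2.IsGloballyGenerated M) :
    X.IsQuasiAffine := by
  refine Scheme.IsQuasiAffine.of_forall_exists_mem_basicOpen X fun x => ?_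
  obtain ⟨V, hV, hxV, -⟩ := exists_isAffineOpen_mem_and_subset (TopologicalSpace.Opens.mem_top x : x ∈ (⊤ : X.Opens))
  let C : TopologicalSpace.Closeds X := ⟨(V : Set X)ᶜ, V.2.isClosed_compl⟩
  let I := Scheme.IdealSheafData.vanishingIdeal C
  have hsupp : (I.support : Set X) = (V : Set X)ᶜ := by
    exact Scheme.IdealSheafData.coe_support_vanishingIdeal C
  obtain ⟨J, p, hp⟩ := h (ClSub.idealMod I) (ConormalSection.isQuasicoherent_idealMod (K := I))
  have key : ∃ f : Γ(X, ⊤), x ∈ X.basicOpen f ∧ ∀ y ∈ X.basicOpen f, y ∈ V := by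
    by_contra hne
    push Not at hne
    let i := X.fromSpecResidueField x
    have hi : ∀ y, i y = x := fun y => Scheme.fromSpecResidueField_apply x y
    let g := ClSub.idealModι I ≫ ClSub.unitToPush i
    have hvan : ∀ m : Γ(ClSub.idealMod I, ⊤), x ∉ X.basicOpen (OmegaSh.idealSect I ⊤ m) := fun m hm => by
      obtain ⟨y, hy, hyV⟩ := hne _ hm
      obtain ⟨B, hB, hyB, -⟩ := exists_isAffineOpen_mem_and_subset (TopologicalSpace.Opens.mem_top y : y ∈ (⊤ : X.Opens))
      have h1 := ConormalSection.idealSect_mem (K := I) ⟨B, hB⟩ (ProjUniv.res (ClSub.idealMod I) le_top m)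
      rw [show OmegaSh.idealSect I B (ProjUniv.res (ClSub.idealMod I) le_top m) = ProjUniv.resR le_top (OmegaSh.idealSect I ⊤ m) from
        S8914.idealSect_map I le_top m] at h1
      have h2 : y ∈ (I.support : Set X) := hsupp.ge hyV
      rw [SetLike.mem_coe, Scheme.IdealSheafData.mem_support_iff_of_mem (U := ⟨B, hB⟩) hyB, Scheme.mem_zeroLocus_iff] at h2
      exact h2 _ h1 (by
        rw [show X.basicOpen (ProjUniv.resR (le_top : B ≤ ⊤) (OmegaSh.idealSect I ⊤ m)) = B ⊓ X.basicOpen (OmegaSh.idealSect I ⊤ m) from
          X.basicOpen_res _ _]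
        exact ⟨hyB, hy⟩)
    have hg0 : p ≫ g = 0 := by
      refine Cofan.IsColimit.hom_ext (SheafOfModules.isColimitFreeCofan J) _ _ fun j => ?_
      show SheafOfModules.ιFree j ≫ p ≫ g = SheafOfModules.ιFree j ≫ 0
      rw [comp_zero, ← Category.assoc]
      obtain ⟨σ, hσ⟩ := InvPow.exists_globalHom_eq (show Coh.structureModule X ⟶ ClSub.idealMod I from SheafOfModules.ιFree j ≫ p)
      rw [← show ProjTwist.globalHom (ClSub.idealMod I) σ = SheafOfModules.ιFree j ≫ p from hσ]
      refine Scheme.Modules.hom_ext _ _ fun W => ?_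
      ext r
      show g.app W ((ProjTwist.globalHom (ClSub.idealMod I) σ).app W (show Γ(X, W) from r)) = 0
      rw [ProjTwist.globalHom_app]
      refine (Scheme.Modules.Hom.app_smul g _ _).trans ?_
      have hz : g.app W (ProjUniv.res (ClSub.idealMod I) le_top σ) = 0 := by
        refine (QCohLib.app_map g (le_top : W ≤ ⊤) σ).trans ?_
        have h0 : g.app ⊤ σ = 0 := by
          show i.app ⊤ (OmegaSh.idealSect I ⊤ σ) = 0
          rw [← basicOpen_eq_bot_iff, ← Scheme.preimage_basicOpen]
          exact TopologicalSpace.Opens.ext (Set.eq_empty_iff_forall_notMem.mpr fun y hy => hvan σ ((hi y) ▸ hy))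
        rw [h0, map_zero]
      erw [hz]
      exact smul_zero _
    haveI := hp
    have hgz : g = 0 := (cancel_epi p).mp (hg0.trans comp_zero.symm)
    obtain ⟨A, hA, hxA, hAV⟩ := exists_isAffineOpen_mem_and_subset hxV
    have hone : (1 : Γ(X, A)) ∈ I.ideal ⟨A, hA⟩ := by
      have : I.ideal ⟨A, hA⟩ = ⊤ := by
        by_contra hne'
        obtain ⟨M, hM, hle⟩ := Ideal.exists_le_maximal _ hne'
        let q : PrimeSpectrum Γ(X, A) := ⟨M, hM.isPrime⟩
        have hq : hA.fromSpec q ∈ (I.support : Set X) := by
          have : hA.fromSpec q ∈ hA.fromSpec '' PrimeSpectrum.zeroLocus (I.ideal ⟨A, hA⟩ : Set Γ(X, A)) := ⟨q, hle, rfl⟩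
          rw [hA.fromSpec_image_zeroLocus, ← I.coe_support_inter ⟨A, hA⟩] at this
          exact this.1
        exact (hsupp.le hq) (hAV (hA.range_fromSpec.le ⟨q, rfl⟩))
      rw [this]; trivial
    obtain ⟨m, hm⟩ := ConormalSection.exists_idealSect_eq I ⟨A, hA⟩ 1 hone
    have h1 : i.app A (OmegaSh.idealSect I A m) = 0 :=
      ConcreteCategory.congr_hom (congrArg (fun q => Scheme.Modules.Hom.app q A) hgz) m
    rw [hm, map_one] at h1
    haveI : Nonempty (i ⁻¹ᵁ A : (Spec (X.residueField x)).Opens) := by
      obtain ⟨y⟩ := (inferInstance : Nonempty (Spec (X.residueField x)))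
      exact ⟨⟨y, show i y ∈ A by rw [hi y]; exact hxA⟩⟩
    exact one_ne_zero h1
  obtain ⟨f, hxf, hfV⟩ := key
  refine ⟨f, ?_, hxf⟩
  have h2 := hV.basicOpen (ProjUniv.resR (le_top : V ≤ ⊤) f)
  rw [show X.basicOpen (ProjUniv.resR (le_top : V ≤ ⊤) f) = V ⊓ X.basicOpen f from X.basicOpen_res _ _, inf_eq_right.2 hfV] at h2
  exact h2

end Groth.Agent.S16909
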