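import Mathlib
import Groth.Statements.S16919
-- import your own Groth.Agent.* helpers here

set_option autoImplicit false
universe u
open TensorProduct
open CAlg

namespace Groth.Agent.S16919

open scoped Cardinal in
theorem exists_algEquiv (F K L : Type u) [Field F] [Field K] [Field L] [Algebra F K] [Algebra F L]
    [IsAlgClosed K] [IsAlgClosed L] (h : Algebra.trdeg F K = Algebra.trdeg F L) :
    ∃ e : K ≃+* L, ∀ x, e (algebraMap F K x) = algebraMap F L x := by
  obtain ⟨s, hs⟩ := exists_isTranscendenceBasis F K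
  obtain ⟨t, ht⟩ := exists_isTranscendenceBasis F L
  have hst : #s = #t := by rw [hs.cardinalMk_eq_trdeg, ht.cardinalMk_eq_trdeg, h]
  obtain ⟨σ⟩ := Cardinal.eq.mp hst
  let v : s → K := Subtype.val
  let w : t → L := Subtype.val
  letI := IsAlgClosed.isAlgClosure_of_transcendence_basis v hs
  letI := IsAlgClosed.isAlgClosure_of_transcendence_basis w ht
  let e : Algebra.adjoin F (Set.range v) ≃ₐ[F] Algebra.adjoin F (Set.range w) :=
    hs.1.aevalEquiv.symm.trans ((MvPolynomial.renameEquiv F σ).trans ht.1.aevalEquiv)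
  refine ⟨IsAlgClosure.equivOfEquiv K L e.toRingEquiv, fun x => ?_⟩
  rw [IsScalarTower.algebraMap_apply F (Algebra.adjoin F (Set.range v)) K, IsAlgClosure.equivOfEquiv_algebraMap]
  show algebraMap _ L (e (algebraMap F _ x)) = _
  rw [e.commutes, ← IsScalarTower.algebraMap_apply]


theorem key (k₀ K L R₀ : Type u) [Field k₀] [Field K] [Field L] [Algebra k₀ K] [Algebra k₀ L] [IsAlgClosed K] [IsAlgClosed L]
    [CommRing R₀] [Algebra k₀ R₀] [Algebra.FiniteType k₀ R₀] (φ : R₀ →ₐ[k₀] K) (ψ : R₀ →ₐ[k₀] L)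
    (hφ : Function.Injective φ) (hψ : Function.Injective ψ) (h : Algebra.trdeg k₀ K = Algebra.trdeg k₀ L) :
    ∃ e : L ≃+* K, ∀ r, e (ψ r) = φ r := by
  have : IsDomain R₀ := hφ.isDomain φ.toRingHom
  let F := FractionRing R₀
  let fK : F →ₐ[k₀] K := IsFractionRing.liftAlgHom hφ
  let fL : F →ₐ[k₀] L := IsFractionRing.liftAlgHom hψ
  letI := fK.toRingHom.toAlgebra
  letI := fL.toRingHom.toAlgebra
  have : IsScalarTower k₀ F K := IsScalarTower.of_algebraMap_eq fun c => (fK.commutes c).symm
  have : IsScalarTower k₀ F L := IsScalarTower.of_algebraMap_eq fun c => (fL.commutes c).symm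
  have hd : Algebra.trdeg k₀ F < Cardinal.aleph0 := by
    have := trdeg_add_eq k₀ R₀ (A := F)
    have hz : Algebra.IsAlgebraic R₀ F := IsLocalization.isAlgebraic F (nonZeroDivisors R₀)
    rw [trdeg_eq_zero (R := R₀) (A := F), add_zero] at this
    rw [← this]
    exact trdeg_lt_aleph0_of_finiteType
  have hk := trdeg_add_eq k₀ F (A := K)
  have hL := trdeg_add_eq k₀ F (A := L)
  obtain ⟨e, he⟩ := exists_algEquiv F L K (Cardinal.eq_of_add_eq_add_left (hL.trans (h.symm.trans hk.symm)) hd)
  refine ⟨e, fun r => ?_⟩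
  have h1 : algebraMap F L (algebraMap R₀ F r) = ψ r := IsFractionRing.lift_algebraMap hψ r
  rw [← h1, he]
  exact IsFractionRing.lift_algebraMap hφ r

open TensorProduct in
/-- Let k₀ → k be an extension of fields with k algebraically closed and of infinite transcendence
degree over k₀, R₀ a finitely generated k₀-algebra whose base change R = k ⊗ R₀ is an integral
domain (so Spec R is an integral affine k-scheme of finite type with the model Spec R₀ over k₀), and
P a k-point of Spec R, i.e. a k-algebra homomorphism ev : R → k, lying over the generic point of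
Spec R₀, i.e. with ev injective on R₀. Then there is a field isomorphism e from an algebraic closure
of the fraction field of R (the function field of Spec R) onto k such that e(1 ⊗ r) = ev(1 ⊗ r) for
every r in R₀: e extends evaluation at P on R₀. (The published setting has k algebraically closed of
characteristic zero and of infinite transcendence degree over its prime field, and k₀ the subfield
generated by the coefficients of equations of Spec R, which is finitely generated over the prime
field, so that k has infinite transcendence degree over k₀; only this last property and no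
characteristic assumption enter here. The isomorphism is not canonical.) -/
theorem result (k₀ k : Type u)
    [Field k₀] [Field k] [Algebra k₀ k] [IsAlgClosed k] (hinf : ∃ x : ℕ → k, AlgebraicIndependent k₀ x)
    (R₀ : Type u) [CommRing R₀] [Algebra k₀ R₀] [Algebra.FiniteType k₀ R₀] [IsDomain (k ⊗[k₀] R₀)]
    (ev : k ⊗[k₀] R₀ →ₐ[k] k) (hP : Function.Injective fun r : R₀ => ev (1 ⊗ₜ[k₀] r)) :
    ∃ e : AlgebraicClosure (FractionRing (k ⊗[k₀] R₀)) ≃+* k,
      ∀ r : R₀, e (algebraMap (k ⊗[k₀] R₀) (AlgebraicClosure (FractionRing (k ⊗[k₀] R₀)))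
        (1 ⊗ₜ[k₀] r)) = ev (1 ⊗ₜ[k₀] r) := by
  obtain ⟨x, hx⟩ := hinf
  let φ : R₀ →ₐ[k₀] k := (ev.restrictScalars k₀).comp Algebra.TensorProduct.includeRight
  let ψ : R₀ →ₐ[k₀] AlgebraicClosure (FractionRing (k ⊗[k₀] R₀)) :=
    (IsScalarTower.toAlgHom k₀ (k ⊗[k₀] R₀) _).comp Algebra.TensorProduct.includeRight
  have hinjL : Function.Injective (algebraMap (k ⊗[k₀] R₀) (AlgebraicClosure (FractionRing (k ⊗[k₀] R₀)))) := by
    rw [IsScalarTower.algebraMap_eq (k ⊗[k₀] R₀) (FractionRing (k ⊗[k₀] R₀))]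
    exact (algebraMap (FractionRing (k ⊗[k₀] R₀)) _).injective.comp (IsFractionRing.injective _ _)
  have hd' : Algebra.trdeg k (AlgebraicClosure (FractionRing (k ⊗[k₀] R₀))) < Cardinal.aleph0 := by
    have : FaithfulSMul (k ⊗[k₀] R₀) (AlgebraicClosure (FractionRing (k ⊗[k₀] R₀))) :=
      (faithfulSMul_iff_algebraMap_injective _ _).mpr hinjL
    have h := trdeg_add_eq k (k ⊗[k₀] R₀) (A := AlgebraicClosure (FractionRing (k ⊗[k₀] R₀)))
    have hz : Algebra.IsAlgebraic (k ⊗[k₀] R₀) (FractionRing (k ⊗[k₀] R₀)) :=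
      IsLocalization.isAlgebraic _ (nonZeroDivisors (k ⊗[k₀] R₀))
    have : Algebra.IsAlgebraic (k ⊗[k₀] R₀) (AlgebraicClosure (FractionRing (k ⊗[k₀] R₀))) :=
      Algebra.IsAlgebraic.trans (k ⊗[k₀] R₀) (FractionRing (k ⊗[k₀] R₀)) _
    rw [trdeg_eq_zero (R := k ⊗[k₀] R₀) (A := AlgebraicClosure (FractionRing (k ⊗[k₀] R₀))), add_zero] at h
    rw [← h]
    exact trdeg_lt_aleph0_of_finiteType
  have hinf : Cardinal.aleph0 ≤ Algebra.trdeg k₀ k := by
    simpa using hx.lift_cardinalMk_le_trdeg
  have hL' := trdeg_add_eq k₀ k (A := AlgebraicClosure (FractionRing (k ⊗[k₀] R₀)))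
  rw [Cardinal.add_eq_left hinf (hd'.le.trans hinf)] at hL'
  exact key k₀ k _ R₀ φ ψ hP (fun a b h => hP (congrArg ev (hinjL h))) hL'

end Groth.Agent.S16919
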