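import Groth.Statements.S16962
import Mathlib
-- import your own Groth.Agent.* helpers here

set_option autoImplicit false
universe u
open ConstAct

namespace Groth.Agent.S16962

open TensorProduct in
theorem core (R : Type u) [CommRing R]
    (B : Type u) [CommRing B] [Algebra R B] (Γ : Type u) [Group Γ] [Fintype Γ] [DecidableEq Γ]
    [HopfRep.Comod R (ConstGrp.F R Γ) B] [GLin.IsCoactAlg R (ConstGrp.F R Γ) B] :
    ∃! a : MulSemiringAction Γ B, ∃ _ : SMulCommClass Γ R B,
      ConstAct.coactLin R B Γ = HopfRep.Comod.coact (k := R) (A := ConstGrp.F R Γ) (V := B) ∧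
        GLin.invariants R (ConstGrp.F R Γ) B = ConstAct.inv R B Γ := by
  classical
  let co : B →ₗ[R] B ⊗[R] ConstGrp.F R Γ := HopfRep.Comod.coact
  let π : Γ → (B ⊗[R] ConstGrp.F R Γ →ₐ[R] B) := fun g =>
    Algebra.TensorProduct.lift (AlgHom.id R B) ((Algebra.ofId R B).comp (ConstGrp.ev R g))
      (fun _ _ => Commute.all _ _)
  have hπ : ∀ g (a : B) (f : ConstGrp.F R Γ), π g (a ⊗ₜ[R] f) = f g • a := fun g a f => by
    simp [π, Algebra.smul_def, mul_comm]
  have hrec : ∀ t : B ⊗[R] ConstGrp.F R Γ, t = ∑ g, π g t ⊗ₜ[R] ConstGrp.e R g := by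
    intro t
    induction t with
    | zero => simp
    | add x y hx hy =>
      simp only [map_add, TensorProduct.add_tmul, Finset.sum_add_distrib]
      rw [← hx, ← hy]
    | tmul a f =>
      simp only [hπ, TensorProduct.smul_tmul, ← TensorProduct.tmul_sum, ← ConstGrp.eq_sum_smul_e]
  let act : Γ → (B →ₐ[R] B) := fun g => (π g).comp (GLin.coactAlgHom R (ConstGrp.F R Γ) B)
  have hact : ∀ g b, act g b = π g (co b) := fun g b => rfl
  have hone : ∀ b, act 1 b = b := by
    intro b
    have h1 := LinearMap.congr_fun (HopfRep.Comod.counit_comp (k := R) (A := ConstGrp.F R Γ) (V := B)) b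
    have h2 : ∀ t : B ⊗[R] ConstGrp.F R Γ,
        TensorProduct.rid R B ((CoalgebraStruct.counit (R := R) (A := ConstGrp.F R Γ)).lTensor B t) = π 1 t := by
      intro t
      induction t with
      | zero => simp
      | add x y hx hy => simp only [map_add, hx, hy]
      | tmul a f =>
        rw [LinearMap.lTensor_tmul, TensorProduct.rid_tmul, hπ]
        rfl
    rw [hact, ← h2]
    have h3 := congrArg (TensorProduct.rid R B) h1
    exact h3.trans (by simp)
  have hmul : ∀ g h b, act (g * h) b = act g (act h b) := by
    intro g h b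
    let Φ : B ⊗[R] (ConstGrp.F R Γ ⊗[R] ConstGrp.F R Γ) →ₗ[R] B :=
      (TensorProduct.rid R B).toLinearMap ∘ₗ
        (((ConstGrp.ev R (g, h)).comp (ConstGrp.pair R Γ)).toLinearMap).lTensor B
    have hΦ : ∀ a t, Φ (a ⊗ₜ[R] t) = ConstGrp.pair R Γ t (g, h) • a := fun a t => by simp [Φ]
    have hl : ∀ s : B ⊗[R] ConstGrp.F R Γ,
        Φ (TensorProduct.assoc R B (ConstGrp.F R Γ) (ConstGrp.F R Γ) (co.rTensor _ s)) = π g (co (π h s)) := by
      intro s
      induction s with
      | zero => simp
      | add x y hx hy => simp only [map_add, hx, hy]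
      | tmul a f =>
        rw [hπ h, map_smul, map_smul, LinearMap.rTensor_tmul]
        generalize co a = t
        induction t with
        | zero => simp
        | add x y hx hy => simp only [TensorProduct.add_tmul, map_add, smul_add, hx, hy]
        | tmul a' f' =>
          rw [TensorProduct.assoc_tmul, hΦ, ConstGrp.pair_tmul, hπ, smul_smul, mul_comm]
    have hr : ∀ s : B ⊗[R] ConstGrp.F R Γ,
        Φ ((CoalgebraStruct.comul (R := R) (A := ConstGrp.F R Γ)).lTensor B s) = π (g * h) s := by
      intro s
      induction s with
      | zero => simp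
      | add x y hx hy => simp only [map_add, hx, hy]
      | tmul a f =>
        rw [LinearMap.lTensor_tmul, hΦ, hπ]
        congr 1
        exact ConstGrp.pair_comul R Γ f g h
    have hc := congrArg Φ (LinearMap.congr_fun (HopfRep.Comod.coassoc (k := R) (A := ConstGrp.F R Γ) (V := B)) b)
    exact ((hl (co b)).symm.trans (hc.trans (hr (co b)))).symm
  let A : MulSemiringAction Γ B :=
    { smul := fun g b => act g b
      one_smul := hone
      mul_smul := hmul
      smul_zero := fun g => map_zero (act g)
      smul_add := fun g => map_add (act g)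
      smul_one := fun g => map_one (act g)
      smul_mul := fun g => map_mul (act g) }
  refine ⟨A, ⟨⟨fun g r b => ?_⟩, ?_, ?_⟩, ?_⟩
  · exact map_smul (act g) r b
  · letI := A
    haveI : SMulCommClass Γ R B := ⟨fun g r b => map_smul (act g) r b⟩
    ext b
    rw [ConstAct.coactLin_apply]
    exact (hrec (co b)).symm
  · letI := A
    haveI : SMulCommClass Γ R B := ⟨fun g r b => map_smul (act g) r b⟩
    ext b
    constructor
    · intro (hb : co b = b ⊗ₜ[R] 1) g
      show act g b = b
      rw [hact, hb, hπ]
      exact one_smul R b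
    · intro hb
      show co b = b ⊗ₜ[R] 1
      rw [hrec (co b), ← ConstGrp.sum_e (R := R) (G := Γ), TensorProduct.tmul_sum]
      exact Finset.sum_congr rfl fun g _ => by rw [← hact, show act g b = b from hb g]
  · rintro a ⟨hcomm, hco, -⟩
    have key : ∀ g b, @HSMul.hSMul Γ B B _ g b = act g b := ?_
    · obtain @⟨@⟨@⟨@⟨⟨sm⟩, _⟩, _⟩, _, _⟩, _, _⟩ := a
      obtain rfl : sm = fun g b => act g b := funext₂ key
      rfl
    intro g b
    show @HSMul.hSMul Γ B B _ g b = act g b
    rw [hact]
    show _ = π g ((HopfRep.Comod.coact (k := R) (A := ConstGrp.F R Γ) (V := B)) b)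
    rw [← hco, ConstAct.coactLin_apply, map_sum]
    rw [Finset.sum_eq_single g]
    · rw [hπ, ConstGrp.e_apply_self, one_smul]
    · intro k _ hk
      rw [hπ, ConstGrp.e_apply, if_neg (Ne.symm hk), zero_smul]
    · intro h; exact absurd (Finset.mem_univ _) h

open TensorProduct in
/-- Let R be a commutative ring, Γ a finite group and B a commutative R-algebra equipped with a comodule
structure over the Hopf algebra of R-valued functions on Γ (the coordinate ring of the constant
group scheme of Γ over Spec R, with basis the indicator functions e_γ) whose coaction B → B ⊗ Fun(Γ,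
R) is a homomorphism of algebras, i.e. an action of the constant group scheme on Spec B. Then there
is exactly one action of Γ on B by R-algebra automorphisms whose associated coaction b ↦ Σ_γ (γ · b)
⊗ e_γ is the given coaction; and for that action the ring of invariants of the comodule algebra (the
b whose coaction is b ⊗ 1) equals the ring of elements fixed by Γ. (That the coaction associated
with an action is a comodule algebra structure is the other direction of the published equivalence
and is a construction here.) -/
theorem result (R : Type u) [CommRing R]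
    (B : Type u) [CommRing B] [Algebra R B] (Γ : Type u) [Group Γ] [Fintype Γ] [DecidableEq Γ]
    [HopfRep.Comod R (ConstGrp.F R Γ) B] [GLin.IsCoactAlg R (ConstGrp.F R Γ) B] :
    ∃! a : MulSemiringAction Γ B, ∃ _ : SMulCommClass Γ R B,
      ConstAct.coactLin R B Γ = HopfRep.Comod.coact (k := R) (A := ConstGrp.F R Γ) (V := B) ∧
        GLin.invariants R (ConstGrp.F R Γ) B = ConstAct.inv R B Γ := by
  exact core R B Γ

end Groth.Agent.S16962
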