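import Groth.Statements.S16963
import Mathlib
-- import your own Groth.Agent.* helpers here

set_option autoImplicit false
universe u
open scoped BigOperators
open ConstAct

namespace Groth.Agent.S16963

open TensorProduct in
/-- Let R be a commutative ring and Γ a finite group acting on a commutative R-algebra B by R-algebra
automorphisms; regard B as a comodule algebra over the Hopf algebra of R-valued functions on Γ (the
constant group scheme of Γ acting on Spec B) through the coaction b ↦ Σ_γ (γ · b) ⊗ e_γ. Then the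
action is tame — there is a comodule map α from the Hopf algebra, with its regular coaction, to B
with α(1) = 1 (a total integral) — if and only if the trace b ↦ Σ_γ γ · b, which takes values in the
ring of invariants B^Γ, maps B onto B^Γ. -/
theorem result (R : Type u) [CommRing R]
    (B : Type u) [CommRing B] [Algebra R B] (Γ : Type u) [Group Γ] [Fintype Γ] [DecidableEq Γ]
    [MulSemiringAction Γ B] [SMulCommClass Γ R B] :
    letI := ConstAct.comod R B Γ
    (∃ α : ConstGrp.F R Γ →ₗ[R] B, Hoch.IsComodHom (ConstGrp.F R Γ) α ∧ α 1 = 1) ↔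
      ∀ c : B, c ∈ ConstAct.inv R B Γ → ∃ b : B, ∑ γ : Γ, γ • b = c := by
  letI := ConstAct.comod R B Γ
  classical
  let π : Γ → (B ⊗[R] ConstGrp.F R Γ →ₗ[R] B) := fun g =>
    (TensorProduct.rid R B).toLinearMap ∘ₗ ((ConstGrp.ev R g).toLinearMap).lTensor B
  have hπ : ∀ g (a : B) (f : ConstGrp.F R Γ), π g (a ⊗ₜ[R] f) = f g • a := fun g a f => by simp [π]
  have hπc : ∀ g (x : B), π g (ConstAct.coactLin R B Γ x) = g • x := by
    intro g x
    rw [ConstAct.coactLin_apply, map_sum, Finset.sum_eq_single g]
    · rw [hπ, ConstGrp.e_apply_self, one_smul]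
    · intro k _ hk; rw [hπ, ConstGrp.e_apply, if_neg (Ne.symm hk), zero_smul]
    · intro h; exact absurd (Finset.mem_univ _) h
  constructor
  · rintro ⟨α, hα, h1⟩ c hc
    refine ⟨α (ConstGrp.e R 1) * c, ?_⟩
    have key : ∀ g : Γ, g • α (ConstGrp.e R 1) = α (ConstGrp.e R g⁻¹) := by
      intro g
      have h := congrArg (π g) (LinearMap.congr_fun hα (ConstGrp.e R 1))
      change π g (ConstAct.coactLin R B Γ (α _)) = π g (α.rTensor _ (Coalgebra.comul (R := R) (ConstGrp.e R (1 : Γ)))) at h
      rw [hπc, ConstGrp.comul_e, map_sum, map_sum] at h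
      rw [h, Finset.sum_eq_single g⁻¹]
      · rw [LinearMap.rTensor_tmul, hπ, inv_inv, mul_one, ConstGrp.e_apply_self, one_smul]
      · intro k _ hk
        rw [LinearMap.rTensor_tmul, hπ, mul_one, ConstGrp.e_apply, if_neg, zero_smul]
        intro hg; exact hk (by rw [hg, inv_inv])
      · intro h; exact absurd (Finset.mem_univ _) h
    have hfix : ∀ g : Γ, g • c = c := hc
    simp only [smul_mul', hfix, ← Finset.sum_mul, key]
    rw [Fintype.sum_equiv (Equiv.inv Γ) (fun g => α (ConstGrp.e R g⁻¹)) (fun g => α (ConstGrp.e R g)) (fun g => rfl),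
      ← map_sum, ConstGrp.sum_e, h1, one_mul]
  · intro h
    obtain ⟨b, hb⟩ := h 1 (one_mem _)
    refine ⟨(ConstGrp.basis R Γ).constr R (fun k => k⁻¹ • b), ?_, ?_⟩
    · refine ConstGrp.linearMap_ext (R := R) (G := Γ) fun k => ?_
      have he : ∀ a : Γ, (ConstGrp.basis R Γ).constr R (fun k => k⁻¹ • b) (ConstGrp.e R a) = a⁻¹ • b := by
        intro a; rw [← ConstGrp.basis_apply, Module.Basis.constr_basis]
      change ConstAct.coactLin R B Γ (_) = LinearMap.rTensor _ _ (Coalgebra.comul (R := R) (ConstGrp.e R k))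
      rw [he, ConstAct.coactLin_apply, ConstGrp.comul_e, map_sum]
      refine Fintype.sum_equiv ((Equiv.inv Γ).trans (Equiv.mulLeft k)) _ _ fun g => ?_
      rw [LinearMap.rTensor_tmul]
      simp only [Equiv.trans_apply, Equiv.inv_apply, Equiv.coe_mulLeft]
      rw [he]
      congr 1
      · rw [smul_smul, mul_inv_rev, inv_inv]
      · congr 1; group
    · rw [← ConstGrp.sum_e (R := R) (G := Γ), map_sum, ← hb]
      simp only [← ConstGrp.basis_apply, Module.Basis.constr_basis]
      exact Fintype.sum_equiv (Equiv.inv Γ) _ _ (fun g => rfl)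

end Groth.Agent.S16963
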