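import Mathlib
import Groth.Statements.S16979
-- import your own Groth.Agent.* helpers here

set_option autoImplicit false
universe u v
open CAlg

namespace Groth.Agent.S16979

/-- Let R be an integral domain with fraction field K and φ a square matrix over R whose characteristic
polynomial becomes separable in K[T] (equivalently, K[T] modulo the characteristic polynomial is
geometrically reduced over K). Then a polynomial f over R satisfies f(φ) = 0 exactly when the
characteristic polynomial of φ divides f in R[T]: the kernel of evaluation at φ (the minimal ideal
of φ) is the principal ideal generated by the characteristic polynomial. -/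
theorem result
    {R : Type u} [CommRing R] [IsDomain R] {n : Type v} [Fintype n] [DecidableEq n]
    (φ : Matrix n n R)
    (hsep : (φ.charpoly.map (algebraMap R (FractionRing R))).Separable) :
    RingHom.ker (Polynomial.aeval (R := R) φ) = Ideal.span {φ.charpoly} := by
  classical
  let K := FractionRing R
  let i : R →+* K := algebraMap R K
  let M := φ.map i
  have hc : φ.charpoly.map i = M.charpoly := (Matrix.charpoly_map φ i).symm
  have hroot : ∀ q : Polynomial K, Irreducible q → q ∣ M.charpoly → q ∣ minpoly K M := by
    intro q hq hqc
    have := Fact.mk hq
    let L := AdjoinRoot q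
    let ML := M.map (algebraMap K L)
    have h1 : ML.charpoly.IsRoot (AdjoinRoot.root q) := by
      rw [Matrix.charpoly_map, Polynomial.IsRoot, Polynomial.eval_map, ← Polynomial.aeval_def]
      exact Polynomial.aeval_eq_zero_of_dvd_aeval_eq_zero hqc (AdjoinRoot.eval₂_root q)
    have h2 : AdjoinRoot.root q ∈ spectrum L ML := Matrix.mem_spectrum_iff_isRoot_charpoly.2 h1
    have h3 := spectrum.subset_polynomial_aeval (a := ML) ((minpoly K M).map (algebraMap K L)) ⟨_, h2, rfl⟩
    have h4 : Polynomial.aeval ML ((minpoly K M).map (algebraMap K L)) = 0 := by
      rw [Polynomial.aeval_map_algebraMap]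
      have := Polynomial.aeval_algHom_apply (Algebra.ofId K L).mapMatrix M (minpoly K M)
      rw [minpoly.aeval, map_zero] at this
      exact this
    rw [h4] at h3
    have : Nonempty n := by
      by_contra hne
      have := not_nonempty_iff.1 hne
      have h5 : M.charpoly = 1 := by rw [Matrix.charpoly]; exact Matrix.det_isEmpty
      exact hq.not_isUnit (isUnit_of_dvd_one (h5 ▸ hqc))
    rw [spectrum.zero_eq, Set.mem_singleton_iff] at h3
    dsimp only at h3
    rw [Polynomial.eval_map, ← Polynomial.aeval_def] at h3
    have h6 := minpoly.dvd K _ h3
    exact ((minpoly.irreducible (AdjoinRoot.isIntegral_root hq.ne_zero)).dvd_symm hq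
      (minpoly.dvd K _ (AdjoinRoot.eval₂_root q))).trans h6
  have hMi : IsIntegral K M := Matrix.isIntegral M
  have hdvd : M.charpoly ∣ minpoly K M := by
    have hsq : Squarefree M.charpoly := by rw [← hc]; exact hsep.squarefree
    obtain ⟨k, hk⟩ : ∃ k, M.charpoly ∣ minpoly K M ^ k := by
      have : ∀ s : Multiset (Polynomial K), (∀ q ∈ s, q ∣ minpoly K M) → s.prod ∣ minpoly K M ^ Multiset.card s := by
        intro s
        induction s using Multiset.induction with
        | empty => simp
        | cons q s ih =>
          intro h
          rw [Multiset.prod_cons, Multiset.card_cons, pow_succ']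
          exact mul_dvd_mul (h q (Multiset.mem_cons_self _ _)) (ih fun x hx => h x (Multiset.mem_cons_of_mem hx))
      have hne := hsq.ne_zero
      exact ⟨_, (UniqueFactorizationMonoid.prod_normalizedFactors hne).symm.dvd.trans
        (this _ fun q hq => hroot q (UniqueFactorizationMonoid.irreducible_of_normalized_factor q hq)
          (UniqueFactorizationMonoid.dvd_of_mem_normalizedFactors hq))⟩
    exact hsq.isRadical k _ hk
  ext f
  rw [RingHom.mem_ker, Ideal.mem_span_singleton]
  constructor
  · intro hf
    have : Polynomial.aeval M (f.map i) = 0 := by
      rw [Polynomial.aeval_map_algebraMap]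
      have := Polynomial.aeval_algHom_apply (Algebra.ofId R K).mapMatrix φ f
      rw [hf, map_zero] at this
      exact this
    have h7 := hdvd.trans (minpoly.dvd K M this)
    rw [← hc] at h7
    exact (Polynomial.map_dvd_map i (IsFractionRing.injective R K) (Matrix.charpoly_monic φ)).1 h7
  · rintro ⟨g, rfl⟩
    simp [Matrix.aeval_self_charpoly]

end Groth.Agent.S16979
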