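import Groth.Statements.S16981
import Mathlib
-- import your own Groth.Agent.* helpers here

set_option autoImplicit false
universe u v
open CAlg

namespace Groth.Agent.S16981

/-- Let A be a complete Noetherian local ring and f : E → A a surjective ring homomorphism whose kernel
has square zero and is finitely generated (equivalently, is a finite A-module for the induced module
structure). Then E is separated and complete for the adic topology of the inverse image of the
maximal ideal of A. (The published statement takes A to be the completion of a local ring of a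
scheme of finite type over an Artinian local ring and the kernel the completion of a finite module;
this row assumes only that A is complete Noetherian local and the kernel finitely generated.) -/
theorem result
    {A : Type u} {E : Type v} [CommRing A] [CommRing E] [IsNoetherianRing A] [IsLocalRing A]
    [IsAdicComplete (IsLocalRing.maximalIdeal A) A]
    (f : E →+* A) (hf : Function.Surjective f)
    (hsq : RingHom.ker f ^ 2 = ⊥) (hfg : (RingHom.ker f).FG) :
    IsAdicComplete ((IsLocalRing.maximalIdeal A).comap f) E := by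
  classical
  set J := (IsLocalRing.maximalIdeal A).comap f with hJ
  set K := RingHom.ker f with hK
  have hKsq : ∀ a ∈ K, ∀ b ∈ K, a * b = 0 := fun a ha b hb => by
    rw [← Ideal.mem_bot, ← hsq, pow_two]; exact Ideal.mul_mem_mul ha hb
  have hKJ : K ≤ J := fun x hx => by
    rw [hJ, Ideal.mem_comap, RingHom.mem_ker.1 hx]; exact zero_mem _
  have hKprime : ∀ P : Ideal E, P.IsPrime → K ≤ P := fun P hP x hx =>
    hP.mem_of_pow_mem 2 (by rw [pow_two, hKsq x hx x hx]; exact zero_mem _)
  have : IsNoetherianRing E := IsNoetherianRing.of_prime fun P hP => by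
    obtain ⟨t, ht⟩ := IsNoetherian.noetherian (P.map f)
    obtain ⟨s, hs⟩ := hfg
    choose g hg using hf
    refine ⟨s ∪ t.image g, le_antisymm (Submodule.span_le.2 fun x hx => ?_) fun x hx => ?_⟩
    · rcases Finset.mem_union.1 (Finset.mem_coe.1 hx) with hx | hx
      · exact hKprime P hP (hs ▸ Submodule.subset_span hx)
      · obtain ⟨a, ha, rfl⟩ := Finset.mem_image.1 hx
        have : g a ∈ (P.map f).comap f := by rw [Ideal.mem_comap, hg, ← ht]; exact Submodule.subset_span ha
        rw [Ideal.comap_map_of_surjective f (fun y => ⟨g y, hg y⟩)] at this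
        exact (sup_le le_rfl (hKprime P hP)) this
    · have h1 : f x ∈ Ideal.map f (Ideal.span ((s ∪ t.image g : Finset E) : Set E)) := by
        rw [Ideal.map_span]
        refine Ideal.span_mono ?_ (ht.ge (Ideal.mem_map_of_mem f hx) : f x ∈ Ideal.span (t : Set A))
        intro a ha
        exact ⟨g a, Finset.mem_coe.2 (Finset.mem_union_right _ (Finset.mem_image_of_mem g ha)), hg a⟩
      obtain ⟨y, hy, hxy⟩ := (Ideal.mem_map_iff_of_surjective f (fun y => ⟨g y, hg y⟩)).1 h1
      have hk : x - y ∈ Ideal.span (s : Set E) := by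
        change x - y ∈ Submodule.span E (s : Set E)
        rw [show Submodule.span E (s : Set E) = K from hs, hK, RingHom.mem_ker, map_sub, hxy, sub_self]
      simpa using add_mem (Ideal.span_mono (by simp) hk) hy
  have hfpow : ∀ n, (J ^ n).map f = IsLocalRing.maximalIdeal A ^ n := fun n => by
    rw [Ideal.map_pow, hJ, Ideal.map_comap_of_surjective f hf]
  have : IsHausdorff J E := by
    refine ⟨fun x hx => ?_⟩
    have hx' : ∀ n, x ∈ J ^ n := fun n => by simpa [SModEq.sub_mem] using hx n
    have : IsLocalRing E := by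
      have : Nontrivial E := f.domain_nontrivial
      refine IsLocalRing.of_unique_max_ideal ⟨J, Ideal.comap_isMaximal_of_surjective f hf, fun M hM => ?_⟩
      have h1 : K ≤ M := hKprime M hM.isPrime
      have h2 : M.map f ≠ ⊤ := fun h => hM.ne_top (by
        rw [← sup_of_le_left h1, hK, RingHom.ker_eq_comap_bot, ← Ideal.comap_map_of_surjective f hf, h, Ideal.comap_top])
      refine hM.eq_of_le (Ideal.comap_ne_top f (IsLocalRing.maximalIdeal.isMaximal A).ne_top) ?_
      exact Ideal.map_le_iff_le_comap.1 (IsLocalRing.le_maximalIdeal h2)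
    have : x ∈ ⨅ n : ℕ, J ^ n := Ideal.mem_iInf.2 hx'
    rwa [Ideal.iInf_pow_eq_bot_of_isLocalRing J (Ideal.comap_ne_top f (IsLocalRing.maximalIdeal.isMaximal A).ne_top), Ideal.mem_bot] at this
  have : IsPrecomplete J E := by
    refine ⟨fun x hx => ?_⟩
    have hx' : ∀ {m n}, m ≤ n → x m - x n ∈ J ^ m := fun {m n} h => by simpa [SModEq.sub_mem] using hx h
    obtain ⟨a, ha⟩ := IsPrecomplete.prec (I := IsLocalRing.maximalIdeal A) (M := A) inferInstance
      (f := fun n => f (x n)) (fun {m n} h => by
        rw [SModEq.sub_mem, smul_eq_mul, Ideal.mul_top, ← map_sub, ← hfpow]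
        exact Ideal.mem_map_of_mem f (hx' h))
    obtain ⟨e, rfl⟩ := hf a
    have hy : ∀ n, ∃ j ∈ J ^ n, x n - e - j ∈ K := fun n => by
      have h1 : f (x n - e) ∈ (J ^ n).map f := by
        rw [hfpow, map_sub]; simpa [SModEq.sub_mem] using ha n
      obtain ⟨j, hj, hje⟩ := (Ideal.mem_map_iff_of_surjective f hf).1 h1
      exact ⟨j, hj, by rw [hK, RingHom.mem_ker, map_sub f (x n - e) j, hje, sub_self]⟩
    choose j hj hk using hy
    obtain ⟨c, hc⟩ := Ideal.exists_pow_inf_eq_pow_smul J (K : Submodule E E)
    let z : ℕ → E := fun n => x (n + c) - e - j (n + c)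
    have hz : ∀ n, z (n + 1) - z n ∈ J ^ n • (K : Submodule E E) := fun n => by
      have h1 : z (n + 1) - z n ∈ J ^ (n + c) • (⊤ : Submodule E E) ⊓ K := by
        refine ⟨?_, sub_mem (hk _) (hk _)⟩
        show z (n + 1) - z n ∈ (J ^ (n + c) • (⊤ : Submodule E E))
        rw [smul_eq_mul, Ideal.mul_top]
        have e1 : z (n + 1) - z n = -(x (n + c) - x (n + 1 + c)) - (j (n + 1 + c) - j (n + c)) := by
          simp only [z]; ring
        rw [e1]
        exact sub_mem (neg_mem (hx' (by omega))) (sub_mem (Ideal.pow_le_pow_right (by omega) (hj (n + 1 + c))) (hj (n + c)))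
      rw [hc (n + c) (by omega), Nat.add_sub_cancel] at h1
      exact Submodule.smul_mono le_rfl inf_le_right h1
    obtain ⟨r, k, hkK⟩ := Submodule.fg_iff_exists_fin_generating_family.1 hfg
    have hdec : ∀ n, ∃ co : Fin r → E, (∀ i, co i ∈ J ^ n) ∧ ∑ i, co i * k i = z (n + 1) - z n := fun n => by
      refine Submodule.smul_induction_on (hz n) ?_ ?_
      · intro b hb m hm
        obtain ⟨d, hd⟩ := (Submodule.mem_span_range_iff_exists_fun E).1 (hkK.ge hm)
        exact ⟨fun i => b * d i, fun i => Ideal.mul_mem_right _ _ hb, by simp [← hd, Finset.mul_sum, mul_assoc]⟩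
      · rintro u v ⟨c1, h1, e1⟩ ⟨c2, h2, e2⟩
        exact ⟨c1 + c2, fun i => add_mem (h1 i) (h2 i), by simp [add_mul, Finset.sum_add_distrib, e1, e2]⟩
    choose co hco hsum using hdec
    have hS : ∀ i, ∃ l, ∀ n, (∑ m ∈ Finset.range n, co m i) - l ∈ J ^ n ⊔ K := fun i => by
      obtain ⟨L, hL⟩ := IsPrecomplete.prec (I := IsLocalRing.maximalIdeal A) (M := A) inferInstance
        (f := fun n => f (∑ m ∈ Finset.range n, co m i)) (fun {m n} h => by
          rw [SModEq.sub_mem, smul_eq_mul, Ideal.mul_top, ← map_sub, ← hfpow]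
          refine Ideal.mem_map_of_mem f ?_
          rw [← neg_sub, ← Finset.sum_Ico_eq_sub _ h]
          exact neg_mem (Ideal.sum_mem _ fun l hl => Ideal.pow_le_pow_right (Finset.mem_Ico.1 hl).1 (hco l i)))
      obtain ⟨l, rfl⟩ := hf L
      refine ⟨l, fun n => ?_⟩
      have h1 : f ((∑ m ∈ Finset.range n, co m i) - l) ∈ (J ^ n).map f := by
        rw [hfpow, map_sub]; simpa [SModEq.sub_mem] using hL n
      rw [hK, RingHom.ker_eq_comap_bot, ← Ideal.comap_map_of_surjective f hf]
      exact h1
    choose l hl using hS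
    have hkmem : ∀ i, k i ∈ K := fun i => hkK ▸ Submodule.subset_span ⟨i, rfl⟩
    refine ⟨e + z 0 + ∑ i, l i * k i, fun n => ?_⟩
    rw [SModEq.sub_mem, smul_eq_mul, Ideal.mul_top]
    have hzn : z n = z 0 + ∑ i, (∑ m ∈ Finset.range n, co m i) * k i := by
      simp only [Finset.sum_mul]
      rw [Finset.sum_comm, Finset.sum_congr rfl fun m _ => hsum m, Finset.sum_range_sub, add_sub_cancel]
    have he : x n - (e + z 0 + ∑ i, l i * k i) =
        (x n - x (n + c)) + j (n + c) + ∑ i, ((∑ m ∈ Finset.range n, co m i) - l i) * k i := by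
      simp only [sub_mul, Finset.sum_sub_distrib]
      linear_combination hzn
    rw [he]
    refine add_mem (add_mem (hx' (by omega)) (Ideal.pow_le_pow_right (by omega) (hj _))) (Ideal.sum_mem _ fun i _ => ?_)
    obtain ⟨p, hp, q, hq, hpq⟩ := Submodule.mem_sup.1 (hl i n)
    rw [← hpq, add_mul, hKsq q hq (k i) (hkmem i), add_zero]
    exact Ideal.mul_mem_right _ _ hp
  exact { toIsHausdorff := inferInstance, toIsPrecomplete := inferInstance }

end Groth.Agent.S16981
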