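import Groth.Statements.S16982
import Mathlib
import Groth.Agent.S16981
-- import your own Groth.Agent.* helpers here

set_option autoImplicit false
universe u v w w'
open CAlg

namespace Groth.Agent.S16982

theorem mem_span_X_pow {R : Type u} [CommRing R] {σ : Type v} [Finite σ] (n : ℕ) :
    ∀ F : MvPowerSeries σ R, (∀ x : σ →₀ ℕ, x.degree < n → MvPowerSeries.coeff x F = 0) →
      F ∈ (Ideal.span (Set.range (MvPowerSeries.X : σ → MvPowerSeries σ R))) ^ n := by
  classical
  cases nonempty_fintype σ
  induction n with
  | zero => intro F _; simp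
  | succ n ih =>
    intro F hF
    let ch : (σ →₀ ℕ) → Option σ := fun x => if h : x.support.Nonempty then some h.choose else none
    let G : σ → MvPowerSeries σ R := fun i y =>
      if ch (Finsupp.single i 1 + y) = some i then MvPowerSeries.coeff (Finsupp.single i 1 + y) F else 0
    have hG : F = ∑ i, MvPowerSeries.X i * G i := by
      ext x
      rw [map_sum]
      simp only [MvPowerSeries.X, MvPowerSeries.coeff_monomial_mul, one_mul]
      by_cases h : x.support.Nonempty
      · rw [Finset.sum_eq_single h.choose]
        · have hle : Finsupp.single h.choose 1 ≤ x := by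
            rw [Finsupp.single_le_iff]
            exact Nat.one_le_iff_ne_zero.2 (Finsupp.mem_support_iff.1 h.choose_spec)
          rw [if_pos hle]
          show _ = G h.choose (x - Finsupp.single h.choose 1)
          simp only [G, add_tsub_cancel_of_le hle, ch, dif_pos h, if_true]
        · intro i _ hne
          by_cases hle : Finsupp.single i 1 ≤ x
          · rw [if_pos hle]
            show G i (x - Finsupp.single i 1) = 0
            simp only [G, add_tsub_cancel_of_le hle, ch, dif_pos h, Option.some.injEq]
            rw [if_neg hne.symm]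
          · rw [if_neg hle]
        · simp
      · have hx : x = 0 := by simpa using h
        subst hx
        rw [hF 0 (by simp), Finset.sum_eq_zero]
        intro i _
        rw [if_neg]
        simp [Finsupp.single_le_iff]
    rw [hG, pow_succ']
    refine Ideal.sum_mem _ fun i _ => Ideal.mul_mem_mul (Ideal.subset_span ⟨i, rfl⟩) (ih (G i) fun x hx => ?_)
    show G i x = 0
    simp only [G]
    rw [hF (Finsupp.single i 1 + x) (by rw [map_add, Finsupp.degree_single]; omega)]
    simp


/-- Let R be a commutative ring, A a complete Noetherian local R-algebra written as a quotient of a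
power series ring over R in finitely many variables by a surjective R-algebra map π, and f : E → A a
surjective R-algebra map whose kernel has square zero and is finitely generated. Then π lifts along
f to an R-algebra map λ from the power series ring to E with f ∘ λ = π. (The published statement
takes R Artinian local and asks for a lift that is continuous for the adic topologies; this row
allows any commutative R and asks for any lift.) -/
theorem result
    {R : Type u} [CommRing R] {σ : Type v} [Finite σ]
    {A : Type w} {E : Type w'} [CommRing A] [CommRing E] [Algebra R A] [Algebra R E]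
    [IsNoetherianRing A] [IsLocalRing A] [IsAdicComplete (IsLocalRing.maximalIdeal A) A]
    (π : MvPowerSeries σ R →ₐ[R] A) (hπ : Function.Surjective π)
    (f : E →ₐ[R] A) (hf : Function.Surjective f)
    (hsq : RingHom.ker f.toRingHom ^ 2 = ⊥) (hfg : (RingHom.ker f.toRingHom).FG) :
    ∃ l : MvPowerSeries σ R →ₐ[R] E, f.comp l = π := by
  classical
  have hcomp := Groth.Agent.S16981.result f.toRingHom hf hsq hfg
  set 𝔪 := IsLocalRing.maximalIdeal A with h𝔪
  set J := 𝔪.comap f.toRingHom with hJ
  have := hcomp
  have hπX : ∀ i, π (MvPowerSeries.X i) ∈ 𝔪 := by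
    intro i
    by_contra hn
    obtain ⟨u, hu⟩ := IsLocalRing.notMem_maximalIdeal.1 hn
    obtain ⟨G, hG⟩ := hπ (-↑u⁻¹)
    have h1 : IsUnit (1 + MvPowerSeries.X i * G) := by
      rw [MvPowerSeries.isUnit_iff_constantCoeff]
      simp
    have h2 := h1.map π
    rw [map_add, map_one, map_mul, hG, ← hu, mul_neg, Units.mul_inv, add_neg_cancel] at h2
    exact not_isUnit_zero h2
  choose e he using fun i => hf (π (MvPowerSeries.X i))
  have heJ : ∀ i, e i ∈ J := fun i => by
    show f (e i) ∈ 𝔪
    rw [he]; exact hπX i
  let φ : MvPolynomial σ R →ₐ[R] E := MvPolynomial.aeval e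
  have hφJ : ∀ n, ∀ P ∈ MvPolynomial.idealOfVars σ R ^ n, φ P ∈ J ^ n := by
    intro n P hP
    have h1 : (MvPolynomial.idealOfVars σ R).map φ ≤ J := by
      rw [MvPolynomial.idealOfVars, Ideal.map_span, Ideal.span_le]
      rintro _ ⟨_, ⟨i, rfl⟩, rfl⟩
      simpa [φ] using heJ i
    exact Ideal.pow_right_mono h1 n (by rw [← Ideal.map_pow]; exact Ideal.mem_map_of_mem _ hP)
  let g : (n : ℕ) → MvPowerSeries σ R →+* E ⧸ J ^ n := fun n =>
    (Ideal.Quotient.lift (MvPolynomial.idealOfVars σ R ^ n) ((Ideal.Quotient.mk (J ^ n)).comp φ.toRingHom)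
      (fun P hP => Ideal.Quotient.eq_zero_iff_mem.2 (hφJ n P hP))).comp (MvPowerSeries.truncTotalAlgHom σ R n).toRingHom
  have hg : ∀ n F, g n F = Ideal.Quotient.mk (J ^ n) (φ (MvPowerSeries.truncTotal n F)) := fun n F => rfl
  have hcompat : ∀ {m n : ℕ} (hle : m ≤ n), (Ideal.Quotient.factorPow J hle).comp (g n) = g m := fun {m n} hle => by
    refine RingHom.ext fun F => ?_
    rw [RingHom.comp_apply, hg, hg]
    show Ideal.Quotient.mk (J ^ m) (φ _) = _
    rw [Ideal.Quotient.eq, ← map_sub]
    exact hφJ m _ (MvPowerSeries.truncTotal_sub_truncTotal_mem_pow_idealOfVars hle le_rfl F)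
  let l0 : MvPowerSeries σ R →+* E := IsAdicComplete.liftRingHom J g hcompat
  have hl0 : ∀ n F, Ideal.Quotient.mk (J ^ n) (l0 F) = Ideal.Quotient.mk (J ^ n) (φ (MvPowerSeries.truncTotal n F)) :=
    fun n F => (IsAdicComplete.mk_liftRingHom J g hcompat n F).trans (hg n F)
  have htruncC : ∀ n (r : R), MvPowerSeries.truncTotal n (algebraMap R (MvPowerSeries σ R) r) - MvPolynomial.C r ∈ MvPolynomial.idealOfVars σ R ^ n := by
    intro n r
    rw [MvPolynomial.mem_pow_idealOfVars_iff']
    intro x hx
    rw [MvPolynomial.coeff_sub, sub_eq_zero, MvPowerSeries.coeff_truncTotal _ hx, MvPowerSeries.algebraMap_apply,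
      ← MvPolynomial.coe_C, MvPolynomial.coeff_coe]
    simp
  let l : MvPowerSeries σ R →ₐ[R] E :=
    { l0 with
      commutes' := fun r => by
        show l0 _ = _
        rw [← sub_eq_zero]
        refine IsHausdorff.haus (I := J) inferInstance _ fun n => ?_
        rw [SModEq.sub_mem, sub_zero, smul_eq_mul, Ideal.mul_top, ← Ideal.Quotient.eq, hl0, Ideal.Quotient.eq]
        have := hφJ n _ (htruncC n r)
        simpa [φ, map_sub] using this }
  refine ⟨l, AlgHom.ext fun F => ?_⟩
  show f (l0 F) = π F
  rw [← sub_eq_zero]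
  refine IsHausdorff.haus (I := 𝔪) inferInstance _ fun n => ?_
  rw [SModEq.sub_mem, sub_zero, smul_eq_mul, Ideal.mul_top]
  set P := MvPowerSeries.truncTotal n F with hP
  have h1 : f (l0 F - φ P) ∈ 𝔪 ^ n := by
    have h2 : l0 F - φ P ∈ J ^ n := (Ideal.Quotient.eq).1 (hl0 n F)
    have h3 := Ideal.mem_map_of_mem f.toRingHom h2
    rw [Ideal.map_pow, hJ, Ideal.map_comap_of_surjective f.toRingHom hf] at h3
    exact h3
  have h4 : f (φ P) = π (P : MvPowerSeries σ R) := by
    have : f.comp φ = π.comp (MvPolynomial.coeToMvPowerSeries.algHom R) := by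
      ext i
      simp [φ, he]
    simpa [MvPolynomial.coeToMvPowerSeries.algHom_apply] using DFunLike.congr_fun this P
  have h5 : π (F - (P : MvPowerSeries σ R)) ∈ 𝔪 ^ n := by
    have h6 := mem_span_X_pow n (F - (P : MvPowerSeries σ R)) (fun x hx => by
      rw [map_sub, MvPolynomial.coeff_coe, hP, MvPowerSeries.coeff_truncTotal _ hx, sub_self])
    have h7 : (Ideal.span (Set.range (MvPowerSeries.X : σ → MvPowerSeries σ R))).map π ≤ 𝔪 := by
      rw [Ideal.map_span, Ideal.span_le]
      rintro _ ⟨_, ⟨i, rfl⟩, rfl⟩
      exact hπX i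
    exact Ideal.pow_right_mono h7 n (by rw [← Ideal.map_pow]; exact Ideal.mem_map_of_mem _ h6)
  have he' : f (l0 F) - π F = f (l0 F - φ P) - π (F - (P : MvPowerSeries σ R)) := by
    rw [map_sub, map_sub, h4]; ring
  rw [he']
  exact sub_mem h1 h5

end Groth.Agent.S16982
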