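import Mathlib
import Groth.Statements.S16983
-- import your own Groth.Agent.* helpers here

set_option autoImplicit false
universe u
open DeformData

namespace Groth.Agent.S16983

/-- Let p be a prime, s ≥ 1, B a finite index set with a subset B₀ of exactly three elements, m_j ≥ 1
integers coprime to p, and σ_{i,j} (i < s, j ∈ B) rational numbers with m_j σ_{i,j} an integer, such
that Σ_j (σ_{i,j} − 1) = −2 for every i, the fractional part of σ_{i,j} equals that of p^i σ_{0,j},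
no σ_{i,j} equals 1, and the minimum over i of ⌊σ_{i,j}⌋ is 0 for j ∈ B₀ and 1 for j ∉ B₀. Then for
every i the fractional parts ⟨σ_{i,j}⟩ sum over j to 1 (purity), and ⌊σ_{i,j}⌋ is 0 on B₀ and 1 off
B₀ for every i. (The hypotheses are exactly the properties of the signature of a special deformation
datum on the projective line: each entry is an integer divided by a stabilizer order m_j in a group
of order prime to p, the degree identity coming from Riemann–Hurwitz, the Frobenius-twist relation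
between fractional parts, and the speciality conditions; the statement is given here for any such
tuple.) -/
theorem result
    {B : Type u} [Fintype B] [DecidableEq B] (B₀ : Finset B) (hB₀ : B₀.card = 3)
    (p : ℕ) (hp : p.Prime) (s : ℕ) (hs : 0 < s)
    (m : B → ℕ) (hm : ∀ j, 0 < m j) (hmp : ∀ j, Nat.Coprime (m j) p)
    (σ : Fin s → B → ℚ) (hint : ∀ i j, ∃ h : ℤ, σ i j = (h : ℚ) / (m j : ℚ))
    (hsum : ∀ i, ∑ j, (σ i j - 1) = -2)
    (hfract : ∀ i j, Int.fract (σ i j) = Int.fract ((p : ℚ) ^ (i : ℕ) * σ ⟨0, hs⟩ j))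
    (hne : ∀ i j, σ i j ≠ 1)
    (hB₀min : ∀ j ∈ B₀, (∃ i, ⌊σ i j⌋ = 0) ∧ ∀ i, 0 ≤ ⌊σ i j⌋)
    (hBmin : ∀ j ∉ B₀, (∃ i, ⌊σ i j⌋ = 1) ∧ ∀ i, 1 ≤ ⌊σ i j⌋) :
    (∀ i, ∑ j, Int.fract (σ i j) = 1) ∧ (∀ i j, ⌊σ i j⌋ = if j ∈ B₀ then 0 else 1) := by
  have hfl : ∀ i j, (if j ∈ B₀ then (0:ℤ) else 1) ≤ ⌊σ i j⌋ := fun i j => by
    split_ifs with h
    · exact (hB₀min j h).2 i
    · exact (hBmin j h).2 i
  have hσ : ∀ i, ∑ j, σ i j = (Fintype.card B : ℚ) - 2 := fun i => by
    have := hsum i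
    simp [Finset.sum_sub_distrib] at this
    linarith
  have hlow : ∑ j : B, (if j ∈ B₀ then (0:ℤ) else 1) = (Fintype.card B : ℤ) - 3 := by
    have h1 : ∑ j : B, (if j ∈ B₀ then (1:ℤ) else 0) = 3 := by simp [hB₀]
    have h2 : ∑ j : B, ((if j ∈ B₀ then (0:ℤ) else 1) + (if j ∈ B₀ then 1 else 0)) = Fintype.card B := by
      rw [show (Fintype.card B : ℤ) = ∑ _j : B, 1 by simp]
      exact Finset.sum_congr rfl fun j _ => by split_ifs <;> rfl
    rw [Finset.sum_add_distrib, h1] at h2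
    linarith
  have hz : ∀ i, (∑ j, ⌊σ i j⌋) = (Fintype.card B : ℤ) - 3 ∧ ∑ j, Int.fract (σ i j) = 1 := by
    intro i
    have h1 : (∑ j, Int.fract (σ i j)) + ((∑ j, ⌊σ i j⌋ : ℤ) : ℚ) = (Fintype.card B : ℚ) - 2 := by
      push_cast
      rw [← Finset.sum_add_distrib, ← hσ i]
      exact Finset.sum_congr rfl fun j _ => Int.fract_add_floor _
    have h2 : (Fintype.card B : ℤ) - 3 ≤ ∑ j, ⌊σ i j⌋ := hlow ▸ Finset.sum_le_sum fun j _ => hfl i j
    have h3 : (0 : ℚ) ≤ ∑ j, Int.fract (σ i j) := Finset.sum_nonneg fun j _ => Int.fract_nonneg _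
    have h4 : (∑ j, ⌊σ i j⌋) ≤ (Fintype.card B : ℤ) - 2 := by
      have : ((∑ j, ⌊σ i j⌋ : ℤ) : ℚ) ≤ (((Fintype.card B : ℤ) - 2 : ℤ) : ℚ) := by push_cast at h1 ⊢; linarith
      exact_mod_cast this
    rcases h2.lt_or_eq with h5 | h5
    · exfalso
      have h6 : ∑ j, ⌊σ i j⌋ = (Fintype.card B : ℤ) - 2 := by omega
      have h7 : ∑ j, Int.fract (σ i j) = 0 := by rw [h6] at h1; push_cast at h1; linarith
      rw [Finset.sum_eq_zero_iff_of_nonneg fun j _ => Int.fract_nonneg _] at h7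
      have hint0 : ∀ j, ∃ z : ℤ, σ ⟨0, hs⟩ j = z := fun j => by
        obtain ⟨h, hh⟩ := hint ⟨0, hs⟩ j
        have h8 := hfract i j
        rw [h7 j (Finset.mem_univ j), hh] at h8
        obtain ⟨z, hz⟩ := Int.fract_eq_zero_iff.1 h8.symm
        have hm0 : (m j : ℚ) ≠ 0 := by exact_mod_cast (hm j).ne'
        rw [← mul_div_assoc, eq_div_iff hm0] at hz
        have hz' : z * (m j : ℤ) = (p : ℤ) ^ (i : ℕ) * h := by exact_mod_cast hz
        obtain ⟨w, hw⟩ : (m j : ℤ) ∣ h := by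
          refine Int.dvd_of_dvd_mul_right_of_gcd_one ⟨z, by rw [← hz']; ring⟩ ?_
          rw [← Int.natCast_pow]
          exact (hmp j).pow_right _
        exact ⟨w, by rw [hh, hw]; push_cast; field_simp⟩
      have hint' : ∀ k j, (⌊σ k j⌋ : ℚ) = σ k j := fun k j => by
        obtain ⟨z, hz⟩ := hint0 j
        have h8 := hfract k j
        rw [hz, show (p : ℚ) ^ (k : ℕ) * (z : ℚ) = (((p : ℤ) ^ (k : ℕ) * z : ℤ) : ℚ) by push_cast; ring, Int.fract_intCast] at h8
        have := Int.fract_add_floor (σ k j)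
        rw [h8, zero_add] at this
        exact this
      by_cases hall : ∀ j, j ∈ B₀
      · have hcard : Fintype.card B = 3 := by rw [← hB₀, Finset.eq_univ_of_forall hall, Finset.card_univ]
        rw [hcard] at h6
        obtain ⟨j, -, hj⟩ : ∃ j ∈ Finset.univ, ⌊σ i j⌋ ≠ 0 := Finset.exists_ne_zero_of_sum_ne_zero (by rw [h6]; norm_num)
        have hle : ⌊σ i j⌋ ≤ 1 := by
          have := Finset.single_le_sum (f := fun j => ⌊σ i j⌋) (fun j _ => (hB₀min j (hall j)).2 i) (Finset.mem_univ j)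
          rw [h6] at this
          exact le_trans this (by norm_num)
        exact hne i j (by rw [← hint' i j, show ⌊σ i j⌋ = 1 by have := (hB₀min j (hall j)).2 i; omega]; simp)
      · push Not at hall
        obtain ⟨j, hj⟩ := hall
        obtain ⟨k, hk⟩ := (hBmin j hj).1
        exact hne k j (by rw [← hint' k j, hk]; simp)
    · refine ⟨h5.symm, ?_⟩
      rw [← h5] at h1; push_cast at h1; linarith
  refine ⟨fun i => (hz i).2, fun i j => ?_⟩
  have := (Finset.sum_eq_sum_iff_of_le fun j _ => hfl i j).1 (by rw [hlow, (hz i).1]) j (Finset.mem_univ j)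
  exact this.symm

end Groth.Agent.S16983
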