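import Groth.Statements.S16984
import Mathlib
-- import your own Groth.Agent.* helpers here

set_option autoImplicit false
universe u v w
open Hoch

namespace Groth.Agent.S16984

open TensorProduct in
/-- Let k be a commutative ring, A a commutative k-bialgebra that is flat over k (the coordinate ring of
a flat affine group scheme over Spec k; flatness and commutativity are the standing hypotheses of
the appendix and are not needed for the assertion) and P a k-module. Then p ↦ p ⊗ 1 is an injection
of P into the induced comodule P ⊗ A (coaction id ⊗ Δ) whose image is exactly the submodule of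
invariants, i.e. the elements with coaction x ↦ x ⊗ 1. (The published statement writes the
coordinate-ring factor on the left and calls this module coinduced; this row is its degree-zero
part, the identification of P with the invariants of the coinduced module.) -/
theorem result (k : Type u) [CommRing k] (A : Type v) [CommRing A] [Bialgebra k A]
    [Module.Flat k A] (P : Type w) [AddCommGroup P] [Module k P] :
    Function.Injective ((Hoch.Ind.equiv k A P).toLinearMap ∘ₗ (TensorProduct.mk k P A).flip (1 : A)) ∧
    LinearMap.range ((Hoch.Ind.equiv k A P).toLinearMap ∘ₗ (TensorProduct.mk k P A).flip (1 : A)) =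
      HopfRep.fixedPts k A (Hoch.Ind k A P) := by
  let ρ : P ⊗[k] A →ₗ[k] P :=
    (TensorProduct.rid k P).toLinearMap ∘ₗ (Coalgebra.counit (R := k) (A := A)).lTensor P
  have hρ : ∀ p : P, ρ (p ⊗ₜ[k] (1 : A)) = p := fun p => by simp [ρ]
  constructor
  · intro p q h
    have := congrArg (fun z : Hoch.Ind k A P => ρ ((Hoch.Ind.equiv k A P).symm z)) h
    simpa [hρ] using this
  have key : ∀ z : P ⊗[k] A, LinearMap.rTensor A ρ (Hoch.Ind.coactAux k A P z) = z := by
    intro z
    induction z using TensorProduct.induction_on with
    | zero => simp
    | add x y hx hy => simp [map_add, hx, hy]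
    | tmul p a =>
      rw [Hoch.Ind.coactAux_tmul]
      have h : ∀ y : A ⊗[k] A, LinearMap.rTensor A ρ ((TensorProduct.assoc k P A A).symm (p ⊗ₜ y)) =
          p ⊗ₜ[k] (TensorProduct.lid k A ((Coalgebra.counit (R := k) (A := A)).rTensor A y)) := by
        intro y
        induction y using TensorProduct.induction_on with
        | zero => simp
        | add x y hx hy => simp [TensorProduct.tmul_add, map_add, hx, hy]
        | tmul x y => simp [ρ, TensorProduct.smul_tmul]
      rw [h, Coalgebra.rTensor_counit_comul, TensorProduct.lid_tmul, one_smul]
  ext z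
  constructor
  · rintro ⟨p, rfl⟩
    show Hoch.Ind.coactAux k A P (p ⊗ₜ (1 : A)) = (p ⊗ₜ[k] (1 : A)) ⊗ₜ[k] (1 : A)
    simp [Hoch.Ind.coactAux_tmul, Algebra.TensorProduct.one_def]
  · intro hz
    let z' : P ⊗[k] A := (Hoch.Ind.equiv k A P).symm z
    have hz' : Hoch.Ind.coactAux k A P z' = z' ⊗ₜ[k] (1 : A) := hz
    refine ⟨ρ z', ?_⟩
    have := key z'
    rw [hz', LinearMap.rTensor_tmul] at this
    exact this

end Groth.Agent.S16984
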