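import Mathlib
import Groth.Statements.S16985
-- import your own Groth.Agent.* helpers here

set_option autoImplicit false
universe u v
open Hoch

namespace Groth.Agent.S16985

open scoped TensorProduct

open TensorProduct in
/-- Let k be a commutative ring, A a commutative k-bialgebra flat over k (the coordinate ring of a flat
affine group scheme over Spec k; flatness and commutativity are the standing hypotheses of the
appendix and are not needed for the assertion) and P a k-module. Then the cochain complex of the
induced comodule P ⊗ A (coaction id ⊗ Δ), with n-cochains (P ⊗ A) ⊗ A ⊗ ⋯ ⊗ A, has every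
(n+1)-cocycle an (n+1)-coboundary, for all n. (The published statement is the vanishing of the
higher derived functors of invariants on coinduced modules; this row states the vanishing in
positive degrees of the cohomology of the cochain complex above, which the same appendix identifies
with those derived functors. P is taken in the universe of A, as the cochain modules require.) -/
theorem result (k : Type u) [CommRing k] (A : Type v) [CommRing A]
    [Bialgebra k A] [Module.Flat k A] (P : Type v) [AddCommGroup P] [Module k P] (n : ℕ) :
    Hoch.cocycles k A (Hoch.Ind k A P) (n + 1) ≤ Hoch.coboundaries k A (Hoch.Ind k A P) (n + 1) := by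
  let V := Hoch.Ind k A P
  let h₀ : V ⊗[k] A →ₗ[k] V := (Hoch.Ind.equiv k A P).toLinearMap ∘ₗ (Hoch.Ind.counit k A P).rTensor A
  have tail_nat : ∀ (M N : Type v) [AddCommGroup M] [Module k M] [AddCommGroup N] [Module k N] (g : M →ₗ[k] N) (x : M ⊗[k] A),
      Hoch.tail k A N (g.rTensor A x) = (g.rTensor A).rTensor A (Hoch.tail k A M x) := by
    intro M N _ _ _ _ g x
    induction x with
    | zero => simp
    | add a b ha hb => simp only [map_add, ha, hb]
    | tmul m a =>
      rw [LinearMap.rTensor_tmul, Hoch.tail_tmul, Hoch.tail_tmul]
      generalize Coalgebra.comul (R := k) a - a ⊗ₜ 1 - 1 ⊗ₜ a = w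
      induction w with
      | zero => simp
      | add a b ha hb => simp only [TensorProduct.tmul_add, map_add, ha, hb]
      | tmul b c => simp
  have main : ∀ n : ℕ, ∃ (h : (Hoch.cochain k A V (n + 1) : Type v) →ₗ[k] (Hoch.cochain k A V n : Type v)),
      ∀ x, Hoch.d k A V n (h x) + h.rTensor A (Hoch.d k A V (n + 1) x) = x := by
    intro n
    induction n with
    | zero =>
      refine ⟨h₀, fun x => ?_⟩
      induction x using TensorProduct.induction_on with
      | zero => simp
      | add a b ha hb =>
        rw [map_add, map_add, map_add, map_add, add_add_add_comm, ha, hb]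
      | tmul x a =>
        obtain ⟨y, rfl⟩ := (Hoch.Ind.equiv k A P).surjective x
        induction y with
        | zero => simp
        | add y z hy hz =>
          rw [map_add, TensorProduct.add_tmul, map_add, map_add, map_add, map_add, add_add_add_comm, hy, hz]
        | tmul p b =>
          have hh : h₀ (Hoch.Ind.equiv k A P (p ⊗ₜ b) ⊗ₜ a) = Coalgebra.counit (R := k) b • Hoch.Ind.equiv k A P (p ⊗ₜ a) := by
            simp only [h₀, LinearMap.comp_apply, LinearMap.rTensor_tmul, Hoch.Ind.counit_equiv_tmul, LinearEquiv.coe_coe]
            rw [← TensorProduct.smul_tmul']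
            exact map_smul (Hoch.Ind.equiv k A P) _ _
          have key1 : ∀ w : A ⊗[k] A, h₀.rTensor A ((TensorProduct.assoc k V A A).symm (Hoch.Ind.equiv k A P (p ⊗ₜ b) ⊗ₜ w)) =
              Coalgebra.counit (R := k) b • ((Hoch.Ind.equiv k A P).toLinearMap.rTensor A ((TensorProduct.assoc k P A A).symm (p ⊗ₜ w))) := by
            intro w
            induction w with
            | zero => simp
            | add u v hu hv => simp only [TensorProduct.tmul_add, map_add, hu, hv, smul_add]
            | tmul c d =>
              simp only [TensorProduct.assoc_symm_tmul, h₀, LinearMap.comp_apply, LinearMap.rTensor_tmul, Hoch.Ind.counit_equiv_tmul, LinearEquiv.coe_coe]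
              rw [show (Coalgebra.counit (R := k) b • p) ⊗ₜ[k] c = Coalgebra.counit (R := k) b • (p ⊗ₜ[k] c) from (TensorProduct.smul_tmul' _ _ _).symm,
                map_smul]
              exact (TensorProduct.smul_tmul' _ _ _).symm
          have key2 : ∀ w : A ⊗[k] A, h₀.rTensor A (((Hoch.Ind.equiv k A P).toLinearMap.rTensor A ((TensorProduct.assoc k P A A).symm (p ⊗ₜ w))) ⊗ₜ a) =
              Hoch.Ind.equiv k A P (p ⊗ₜ (TensorProduct.lid k A ((Coalgebra.counit (R := k) (A := A)).rTensor A w))) ⊗ₜ a := by
            intro w
            induction w with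
            | zero => simp
            | add u v hu hv => simp only [TensorProduct.tmul_add, TensorProduct.add_tmul, map_add, hu, hv]
            | tmul c d => simp [h₀, TensorProduct.smul_tmul', TensorProduct.tmul_smul]
          have hρ : (HopfRep.Comod.coact (k := k) (A := A) (V := V) (Hoch.Ind.equiv k A P (p ⊗ₜ b)) : V ⊗[k] A) =
              (Hoch.Ind.equiv k A P).toLinearMap.rTensor A ((TensorProduct.assoc k P A A).symm (p ⊗ₜ Coalgebra.comul (R := k) b)) := by
            exact (LinearMap.congr_fun (LinearMap.rTensor_id A (P ⊗[k] A)) _).symm
          have hρ' : (HopfRep.Comod.coact (k := k) (A := A) (V := V) (Hoch.Ind.equiv k A P (p ⊗ₜ a)) : V ⊗[k] A) =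
              (Hoch.Ind.equiv k A P).toLinearMap.rTensor A ((TensorProduct.assoc k P A A).symm (p ⊗ₜ Coalgebra.comul (R := k) a)) := by
            exact (LinearMap.congr_fun (LinearMap.rTensor_id A (P ⊗[k] A)) _).symm
          rw [hh, Hoch.d_succ, LinearMap.add_apply, LinearMap.smul_apply, LinearMap.rTensor_tmul, Hoch.tail_tmul,
            map_smul, map_add, map_smul, Hoch.d_zero_apply, Hoch.d_zero_apply, TensorProduct.sub_tmul, map_sub, hρ, hρ', key1, key2,
            Coalgebra.rTensor_counit_comul]
          simp [h₀, map_sub, TensorProduct.tmul_sub, smul_sub]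
          simp only [← TensorProduct.smul_tmul', map_smul]
          abel
    | succ n ih =>
      obtain ⟨h, hh⟩ := ih
      refine ⟨h.rTensor A, fun x => ?_⟩
      have e1 : (Hoch.d k A V n).rTensor A (h.rTensor A x) + (h.rTensor A).rTensor A ((Hoch.d k A V (n + 1)).rTensor A x) = x := by
        induction x using TensorProduct.induction_on with
        | zero => simp
        | add a b ha hb => rw [map_add, map_add, map_add, map_add, add_add_add_comm, ha, hb]
        | tmul y a => rw [LinearMap.rTensor_tmul, LinearMap.rTensor_tmul, LinearMap.rTensor_tmul, LinearMap.rTensor_tmul, ← TensorProduct.add_tmul, hh]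
      rw [Hoch.d_succ, Hoch.d_succ k A V (n + 1), LinearMap.add_apply, LinearMap.add_apply, LinearMap.smul_apply, LinearMap.smul_apply,
        map_add, map_smul, tail_nat _ _ h x, add_add_add_comm, e1, ← add_smul, show (-1 : k) ^ (n + 1) + (-1 : k) ^ (n + 1 + 1) = 0 by ring, zero_smul, add_zero]
  intro z hz
  obtain ⟨h, hh⟩ := main n
  refine ⟨h z, ?_⟩
  have := hh z
  rwa [LinearMap.mem_ker.mp hz, map_zero, add_zero] at this

end Groth.Agent.S16985
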