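import Groth.Statements.S16986
import Groth.Agent.OrthSmooth.Main

set_option autoImplicit false
universe u
open CategoryTheory AlgebraicGeometry
open QuadGrp
open scoped TensorProduct

namespace Groth.Agent.S16986

/-- Let Q be a quadratic form on R^n, n ≥ 1, over a commutative ring R, non-degenerate in the sense that
its polar form is a perfect pairing when n is even and its half-discriminant (in the standard basis)
is a unit when n is odd, and let G be a group scheme over Spec R which is the orthogonal group of Q
(its A-valued points are the isometries of the base change Q_A, naturally in the R-algebra A). Then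
G is smooth over Spec R if and only if n is even or 2 is a unit in R. (The published statement is
for a line-bundle-valued form on a vector bundle over an arbitrary scheme; the case of a free module
over an affine base with trivialised values is stated.) -/
theorem result (R : Type u) [CommRing R] (n : ℕ) (hn : 1 ≤ n)
    (Q : QuadraticForm R (Fin n → R))
    (hQ : QuadGrp.IsNondeg (Pi.basisFun R (Fin n)) (LinearEquiv.refl R R) Q)
    (G : Over (Spec (CommRingCat.of R))) [GrpObj G] (D : QuadGrp.OrthRep Q G) :
    AlgebraicGeometry.Smooth G.hom ↔ (Even n ∨ IsUnit (2 : R)) := by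
  classical
  have hmem : ∀ (A : Type u) [CommRing A] [Algebra R A] (g : (A ⊗[R] (Fin n → R)) ≃ₗ[A] (A ⊗[R] (Fin n → R))),
      g ∈ QuadGrp.orth Q A ↔ OrthSmooth.IsSol Q ∅
        (LinearMap.toMatrix (OrthSmooth.bA A) (OrthSmooth.bA A) g.toLinearMap) := fun A _ _ g =>
    (OrthSmooth.mem_orth_iff Q A g).trans (OrthSmooth.isSol_empty_iff _).symm
  have hdet : ∀ (A : Type u) [CommRing A] [Algebra R A] (g : Matrix (Fin n) (Fin n) A),
      OrthSmooth.IsSol Q ∅ g → IsUnit g.det := fun A _ _ g hg =>
    IsUnit.of_mul_eq_one g.det (by rw [← sq]; exact OrthSmooth.det_sq_eq_one hQ g ((OrthSmooth.isSol_empty_iff g).1 hg))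
  rw [OrthSmooth.smooth_iff (OrthSmooth.affRepOf Q D ∅ hmem hdet)]
  constructor
  · intro hs
    by_contra hc
    rw [not_or, Nat.not_even_iff_odd] at hc
    exact OrthSmooth.not_formallySmooth_orth hc.1 hQ hc.2 hs.formallySmooth
  · intro h
    exact { formallySmooth := OrthSmooth.formallySmooth_orth hQ h, finitePresentation := inferInstance }

end Groth.Agent.S16986
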