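import Groth.Statements.S16991
import Mathlib
-- import your own Groth.Agent.* helpers here

set_option autoImplicit false
universe u v
open QuadGrp

namespace Groth.Agent.S16991

open Matrix

section
variable {R : Type u} [CommRing R]

/-- A symplectic basis: `B` is in standard form with respect to `b`. -/
def IsSympl {M : Type u} [AddCommGroup M] [Module R M] {ι : Type} [DecidableEq ι]
    (B : M →ₗ[R] M →ₗ[R] R) (b : Module.Basis (ι ⊕ ι) R M) : Prop :=
  ∀ i j, B (b (Sum.inl i)) (b (Sum.inl j)) = 0 ∧ B (b (Sum.inr i)) (b (Sum.inr j)) = 0 ∧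
    B (b (Sum.inl i)) (b (Sum.inr j)) = if i = j then 1 else 0

lemma exists_sympl [IsLocalRing R] : ∀ (n : ℕ) (M : Type u) [AddCommGroup M] [Module R M] [Module.Free R M]
    [Module.Finite R M], Module.finrank R M = n → ∀ B : M →ₗ[R] M →ₗ[R] R, (∀ v, B v v = 0) →
    Function.Bijective B → ∃ (ι : Type) (_ : Fintype ι) (_ : DecidableEq ι) (b : Module.Basis (ι ⊕ ι) R M),
      IsSympl B b := by
  intro n
  induction n using Nat.strong_induction_on with
  | _ n ih =>
  intro M _ _ _ _ hn B halt hB
  by_cases h0 : Subsingleton M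
  · exact ⟨Empty, inferInstance, inferInstance, Module.Basis.empty M, fun i => i.elim⟩
  haveI : Nontrivial M := not_subsingleton_iff_nontrivial.1 h0
  let b₀ := Module.Free.chooseBasis R M
  obtain ⟨i₀⟩ := b₀.index_nonempty
  obtain ⟨f, hf⟩ := hB.2 (b₀.coord i₀)
  let e := b₀ i₀
  have hfe : B f e = 1 := by simp [hf, e]
  have hskew : ∀ v w, B v w = - B w v := fun v w => by
    have := halt (v + w)
    simp [halt] at this
    linear_combination this
  have hef : B e f = -1 := by rw [hskew, hfe]
  let P : M →ₗ[R] R × R := (B f).prod (B.flip e)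
  let s : R × R →ₗ[R] M := (LinearMap.toSpanSingleton R M e).coprod (LinearMap.toSpanSingleton R M f)
  have hPs : ∀ z, P (s z) = z := fun z => by simp [P, s, hfe, halt]
  let N := LinearMap.ker P
  let π : M →ₗ[R] N := (LinearMap.id - s ∘ₗ P).codRestrict N fun v => by simp [N, hPs]
  have hπ : ∀ x : N, π x = x := fun x => Subtype.ext (by simp [π, (x.2 : P x = 0)])
  let E : M ≃ₗ[R] N × (R × R) := LinearEquiv.ofLinearMap (π.prod P) (N.subtype.coprod s)
    (LinearMap.ext fun z => by
      have h1 : P (z.1 : M) = 0 := z.1.2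
      refine Prod.ext (Subtype.ext ?_) ?_ <;> simp [π, hPs, h1])
    (LinearMap.ext fun v => by simp [π])
  haveI : Module.Finite R (N × (R × R)) := Module.Finite.equiv E
  haveI : Module.Finite R N := Module.Finite.of_surjective π fun x => ⟨x, hπ x⟩
  haveI : Module.Projective R N := Module.Projective.of_split N.subtype π (LinearMap.ext hπ)
  haveI : Module.Free R N := Module.free_of_flat_of_isLocalRing
  have hrank : Module.finrank R N < n := by
    rw [← hn, E.finrank_eq, Module.finrank_prod, Module.finrank_prod, Module.finrank_self]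
    omega
  let B' : N →ₗ[R] N →ₗ[R] R := B.compl₁₂ N.subtype N.subtype
  have hN : ∀ x : N, B f x = 0 ∧ B x e = 0 := fun x => by
    have : P x = 0 := x.2
    exact ⟨congrArg Prod.fst this, congrArg Prod.snd this⟩
  have hB' : Function.Bijective B' := by
    refine ⟨?_, fun φ => ?_⟩
    · rw [injective_iff_map_eq_zero]
      intro x hx
      have : B (x : M) = 0 := by
        refine LinearMap.ext fun v => ?_
        have hv : (N.subtype.coprod s) ((π.prod P) v) = v := E.symm_apply_apply v
        rw [← hv]
        have h1 : B (x : M) (π v : M) = 0 := LinearMap.congr_fun hx (π v)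
        have h2 : B (x : M) f = 0 := by rw [hskew, (hN x).1, neg_zero]
        simp [s, h1, h2, (hN x).2]
      exact Subtype.ext (hB.1 (this.trans (map_zero B).symm))
    · obtain ⟨v, hv⟩ := hB.2 (φ ∘ₗ π)
      refine ⟨π v, LinearMap.ext fun x => ?_⟩
      have h1 : B v x = φ x := by rw [hv, LinearMap.comp_apply, hπ]
      have hx' : B e (x : M) = 0 := by rw [hskew, (hN x).2, neg_zero]
      rw [← h1]
      simp [B', π, s, (hN x).1, hx']
  obtain ⟨ι, _, _, b, hb⟩ := ih _ hrank N rfl B' (fun x => halt x) hB'
  let c : Module.Basis (Unit ⊕ Unit) R (R × R) :=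
    ((Module.Basis.singleton Unit R).prod (Module.Basis.singleton Unit R)).reindex (Equiv.sumComm Unit Unit)
  let b' : Module.Basis ((ι ⊕ Unit) ⊕ (ι ⊕ Unit)) R M :=
    ((b.prod c).map E.symm).reindex (Equiv.sumSumSumComm ι ι Unit Unit)
  have hll : ∀ i, b' (Sum.inl (Sum.inl i)) = b (Sum.inl i) := fun i => by simp [b', E, c]
  have hrl : ∀ i, b' (Sum.inr (Sum.inl i)) = b (Sum.inr i) := fun i => by simp [b', E, c]
  have hlr : b' (Sum.inl (Sum.inr ())) = f := by simp [b', E, c, s]
  have hrr : b' (Sum.inr (Sum.inr ())) = e := by simp [b', E, c, s]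
  have h1 : ∀ x : N, B f (x : M) = 0 ∧ B (x : M) e = 0 ∧ B e (x : M) = 0 ∧ B (x : M) f = 0 := fun x =>
    ⟨(hN x).1, (hN x).2, by rw [hskew, (hN x).2, neg_zero], by rw [hskew, (hN x).1, neg_zero]⟩
  refine ⟨ι ⊕ Unit, inferInstance, inferInstance, b', ?_⟩
  rintro (i | ⟨⟩) (j | ⟨⟩)
  · rw [hll, hll, hrl, hrl]
    simpa [B'] using hb i j
  · rw [hll, hlr, hrl, hrr]
    simp [(h1 _).2.1, (h1 _).2.2.2]
  · rw [hll, hlr, hrl, hrr]
    simp [(h1 _).1, (h1 _).2.2.1]
  · rw [hlr, hrr]
    simp [halt, hfe]

lemma det_eq_one_local [IsLocalRing R] {n : Type} [Fintype n] [DecidableEq n] (G A : Matrix n n R)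
    (hdiag : ∀ i, G i i = 0) (hskew : Gᵀ = -G) (hG : IsUnit G.det) (hA : Aᵀ * G * A = G) : A.det = 1 := by
  classical
  let B : (n → R) →ₗ[R] (n → R) →ₗ[R] R := Matrix.toLinearMap₂' R G
  have hval : ∀ v w, B v w = v ⬝ᵥ (G *ᵥ w) := fun v w => Matrix.toLinearMap₂'_apply' G v w
  have halt : ∀ v, B v v = 0 := fun v => by
    rw [hval]
    simp only [dotProduct, Matrix.mulVec, Finset.mul_sum]
    rw [← Finset.sum_product']
    refine Finset.sum_involution (fun p _ => (p.2, p.1)) ?_ ?_ (by simp) (by simp)
    · rintro ⟨i, j⟩ _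
      have : G j i = - G i j := congrFun (congrFun hskew i) j
      rw [this]; ring
    · rintro ⟨i, j⟩ _ hne heq
      obtain rfl : j = i := congrArg Prod.fst heq
      exact hne (by simp [hdiag])
  have hB : Function.Bijective B := by
    refine ⟨(injective_iff_map_eq_zero B).2 fun v hv => ?_, fun φ => ?_⟩
    · have h : v ᵥ* G = 0 := funext fun j => by
        have := LinearMap.congr_fun hv (Pi.single j 1)
        rwa [hval, Matrix.dotProduct_mulVec, dotProduct_single, mul_one] at this
      simpa [Matrix.vecMul_vecMul, Matrix.mul_nonsing_inv _ hG] using congrArg (· ᵥ* G⁻¹) h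
    · refine ⟨(fun j => φ (Pi.single j 1)) ᵥ* G⁻¹, LinearMap.pi_ext' fun j => LinearMap.ext_ring ?_⟩
      change B _ (Pi.single j 1) = _
      rw [hval, Matrix.dotProduct_mulVec, Matrix.vecMul_vecMul, Matrix.nonsing_inv_mul _ hG, Matrix.vecMul_one,
        dotProduct_single, mul_one]
      rfl
  obtain ⟨ι, _, _, b, hb⟩ := exists_sympl _ (n → R) rfl B halt hB
  have hG' : LinearMap.toMatrix₂ b b B = - Matrix.J ι R := by
    ext x y
    rw [LinearMap.toMatrix₂_apply]
    rcases x with i | i <;> rcases y with j | j <;>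
      simp only [Matrix.J, Matrix.neg_apply, Matrix.fromBlocks_apply₁₁, Matrix.fromBlocks_apply₁₂,
        Matrix.fromBlocks_apply₂₁, Matrix.fromBlocks_apply₂₂, Matrix.zero_apply, neg_zero, neg_neg,
        Matrix.one_apply]
    · exact (hb i j).1
    · exact (hb i j).2.2
    · have h2 := (hb j i).2.2
      have h3 := halt (b (Sum.inr i) + b (Sum.inl j))
      simp [halt] at h3
      rw [h2] at h3
      rcases eq_or_ne i j with rfl | hne
      · simp at h3 ⊢; linear_combination h3
      · simp [hne, hne.symm] at h3 ⊢; linear_combination h3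
    · exact (hb i j).2.1
  let g := Matrix.toLin' A
  have hg : B.compl₁₂ g g = B := LinearMap.ext fun v => LinearMap.ext fun w => by
    rw [LinearMap.compl₁₂_apply, hval, hval, Matrix.toLin'_apply, Matrix.toLin'_apply,
      Matrix.dotProduct_mulVec, Matrix.vecMul_mulVec, ← Matrix.dotProduct_mulVec, Matrix.mulVec_mulVec, hA]
  have hmem : LinearMap.toMatrix b b g ∈ Matrix.symplecticGroup ι R := by
    rw [SymplecticGroup.mem_iff']
    have := LinearMap.toMatrix₂_compl₁₂ b b b b B g g
    rw [hg, hG', Matrix.mul_neg, Matrix.neg_mul, neg_inj] at this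
    exact this.symm
  rw [← LinearMap.det_toLin' A, ← LinearMap.det_toMatrix b]
  exact SymplecticGroup.det_eq_one hmem

end


/-- Over a commutative ring in which 2 = 0, for a quadratic form Q on a finite free module of even rank
2m ≥ 2 whose polar form is a perfect pairing, every isometry of Q has determinant one. (The
published statement is the equality of the naive special orthogonal group with the orthogonal group
on fibres in characteristic 2; its proof gives this equality over every base of characteristic 2,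
which is the form stated.) -/
theorem result {R : Type u} [CommRing R] [CharP R 2]
    {M : Type v} [AddCommGroup M] [Module R M] [Module.Free R M] [Module.Finite R M]
    (m : ℕ) (hm : 1 ≤ m) (hM : Module.finrank R M = 2 * m) (Q : QuadraticForm R M) (hQ : QuadGrp.IsRegular Q) :
    QuadGrp.O Q = QuadGrp.SO' Q := by
  refine le_antisymm (fun g hg => ?_) inf_le_left
  refine Subgroup.mem_inf.2 ⟨hg, ?_⟩
  rw [MonoidHom.mem_ker]
  refine Units.ext ?_
  rw [LinearEquiv.coe_det, Units.val_one]
  haveI : Nontrivial R := CharP.nontrivial_of_char_ne_one (R := R) (v := 2) (by decide)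
  let b := Module.finBasis R M
  let B := QuadraticMap.polarBilin Q
  let G := LinearMap.toMatrix₂ b b B
  let A := LinearMap.toMatrix b b g.toLinearMap
  rw [← LinearMap.det_toMatrix b]
  have h2 : (2 : R) = 0 := CharP.ofNat_eq_zero R 2
  have hdiag : ∀ i, G i i = 0 := fun i => by
    simp [G, B, QuadraticMap.polar_self, two_nsmul, ← two_mul, h2]
  have hskew : Gᵀ = -G := by
    ext i j
    have h : G i j + G i j = 0 := by rw [← two_mul, h2, zero_mul]
    simp only [Matrix.transpose_apply, Matrix.neg_apply]
    rw [show G j i = G i j by simp [G, B, QuadraticMap.polar_comm]]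
    exact eq_neg_of_add_eq_zero_left h
  have hdetG : IsUnit G.det := by
    let Be : M ≃ₗ[R] Module.Dual R M := LinearEquiv.ofBijective B hQ
    have h : G = (LinearMap.toMatrix b b.dualBasis Be.toLinearMap)ᵀ := by
      ext i j
      simp [G, Be, LinearMap.toMatrix_apply]
    rw [h, Matrix.det_transpose]
    exact LinearEquiv.isUnit_det Be b b.dualBasis
  have hA : Aᵀ * G * A = G := by
    have hgB : B.compl₁₂ g.toLinearMap g.toLinearMap = B := LinearMap.ext fun v => LinearMap.ext fun w => by
      have hQg : ∀ z, Q (g z) = Q z := hg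
      simp [B, QuadraticMap.polar, ← map_add, hQg]
    have := LinearMap.toMatrix₂_compl₁₂ b b b b B g.toLinearMap g.toLinearMap
    rw [hgB] at this
    exact this.symm
  refine sub_eq_zero.1 <| eq_zero_of_localization _ fun P _ => ?_
  let φ := algebraMap R (Localization.AtPrime P)
  have := det_eq_one_local (G.map φ) (A.map φ) (fun i => by simp [hdiag])
    (by rw [← Matrix.transpose_map, hskew]; ext i j; simp)
    (by have e := hdetG.map φ; rw [RingHom.map_det] at e; exact e)
    (by rw [← Matrix.transpose_map, ← Matrix.map_mul, ← Matrix.map_mul, hA])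
  rw [map_sub, map_one, RingHom.map_det]
  exact sub_eq_zero.2 this

end Groth.Agent.S16991
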