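import Groth.Statements.S16999
import Groth.Agent.CliffSmooth.OddCentre
-- import your own Groth.Agent.* helpers here

set_option autoImplicit false
universe u v
open QuadGrp

namespace Groth.Agent.S16999

/-- Centre over a local base: over a local ring R, let Q be a quadratic form on a free module M with a
basis indexed by Fin (2m+1) whose half-discriminant in that basis is a unit. Then the centre of the
Clifford algebra C(Q) is generated by the square root of a unit: there is a central unit z, odd for
the ℤ/2-grading, with z² a scalar, such that 1, z are linearly independent and span the centre. (The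
published statement: the centre is a ℤ/2-graded locally free module of rank 2 with degree-0 part the
structure sheaf and degree-1 part an invertible sheaf squaring to it; over a local base this is the
form stated.) -/
theorem result {R : Type u} [CommRing R] [IsLocalRing R]
    {M : Type v} [AddCommGroup M] [Module R M]
    (m : ℕ) (b : Module.Basis (Fin (2 * m + 1)) R M) (Q : QuadraticForm R M)
    (hQ : QuadGrp.IsSemiregular b (LinearEquiv.refl R R) Q) :
    ∃ z : CliffordAlgebra Q, z ∈ Subalgebra.center R (CliffordAlgebra Q) ∧ z ∈ CliffordAlgebra.evenOdd Q 1 ∧ IsUnit z ∧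
      z * z ∈ (algebraMap R (CliffordAlgebra Q)).range ∧ LinearIndependent R ![(1 : CliffordAlgebra Q), z] ∧
      Subalgebra.toSubmodule (Subalgebra.center R (CliffordAlgebra Q)) = Submodule.span R {1, z} := by
  haveI : Module.Free R M := Module.Free.of_basis b
  obtain ⟨z, c, hcom, hz1, hzu, hcu, hc, hspan⟩ := CliffSmooth.exists_centre_gen b hQ
  have hz : z ∈ Subalgebra.center R (CliffordAlgebra Q) := Subalgebra.mem_center_iff.2 hcom
  have hzero : ∀ s : R, s • z = 0 → s = 0 := fun s hs => by
    obtain ⟨u, rfl⟩ := hzu
    apply CliffSmooth.algebraMap_injective Q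
    rw [map_zero, Algebra.algebraMap_eq_smul_one, ← Units.mul_inv u, ← smul_mul_assoc, hs, zero_mul]
  refine ⟨z, hz, hz1, hzu, ⟨c, hc⟩, ?_, le_antisymm (fun x hx => ?_) ?_⟩
  · rw [LinearIndependent.pair_iff]
    intro r s hrs
    have h1 := congrArg (CliffSmooth.par Q 1) hrs
    rw [map_add, CliffSmooth.par_of_mem_ne Q (Submodule.smul_mem _ r (SetLike.one_mem_graded _)) (by decide),
      CliffSmooth.par_of_mem Q (Submodule.smul_mem _ s hz1), zero_add, map_zero] at h1
    have hs := hzero s h1
    refine ⟨?_, hs⟩
    apply CliffSmooth.algebraMap_injective Q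
    rw [hs, zero_smul, add_zero, ← Algebra.algebraMap_eq_smul_one] at hrs
    rw [hrs, map_zero]
  · obtain ⟨r, s, rfl⟩ := hspan x fun v => Subalgebra.mem_center_iff.1 ((Subalgebra.mem_toSubmodule _).1 hx) _
    rw [Algebra.algebraMap_eq_smul_one]
    exact Submodule.mem_span_pair.2 ⟨r, s, rfl⟩
  · rw [Submodule.span_le]
    rintro _ (rfl | rfl)
    · exact Subalgebra.one_mem _
    · exact hz

end Groth.Agent.S16999
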