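import Groth.Statements.S17000
import Groth.Agent.OrthSmooth.SplitInt

set_option autoImplicit false
open CategoryTheory AlgebraicGeometry
open QuadGrp

namespace Groth.Agent.S17000

/-- For m ≥ 1, a group scheme over Spec ℤ which is the naive special orthogonal group (kernel of the
determinant on the orthogonal group) of the standard split quadratic form in 2m variables is a
reduced scheme and is not flat over ℤ. (The published statement also identifies the complement of
the Dickson special orthogonal group inside it with the non-identity component of the orthogonal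
group in characteristic 2.) -/
theorem result (m : ℕ) (hm : 1 ≤ m)
    (G : Over (Spec (CommRingCat.of ℤ))) [GrpObj G] (D : QuadGrp.SOrth'Rep (QuadGrp.splitForm ℤ (2 * m)) G) :
    AlgebraicGeometry.IsReduced G.left ∧ ¬ AlgebraicGeometry.Flat G.hom := by
  obtain ⟨e, he⟩ := OrthSmooth.exists_iso (OrthSmooth.affRepSOrth' D)
  obtain ⟨h1, h2⟩ := OrthSmooth.coord_split m hm
  constructor
  · haveI : AlgebraicGeometry.IsReduced (Spec (CommRingCat.of (OrthSmooth.Coord (QuadGrp.splitForm ℤ (2 * m)) (OrthSmooth.detEq (2 * m))))) :=
      (AlgebraicGeometry.affine_isReduced_iff _).2 h1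
    exact AlgebraicGeometry.isReduced_of_isOpenImmersion e.hom
  · rw [he, MorphismProperty.cancel_left_of_respectsIso (@AlgebraicGeometry.Flat),
      HasRingHomProperty.Spec_iff (P := @AlgebraicGeometry.Flat)]
    exact fun h => h2 (RingHom.flat_algebraMap_iff.1 h)

end Groth.Agent.S17000
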