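import Groth.Statements.S17002
import Groth.Agent.OrthSmooth.SOrthOdd

set_option autoImplicit false
universe u
open CategoryTheory AlgebraicGeometry
open QuadGrp

namespace Groth.Agent.S17002

/-- Let Q be a quadratic form on R^{2m+1} over a commutative ring R whose half-discriminant in the
standard basis is a unit, and let G be a group scheme over Spec R which is its special orthogonal
group (for odd rank: the isometries of determinant one; its A-valued points are those of Q_A,
naturally in A). Then G is smooth over Spec R of relative dimension m(2m+1), with connected fibres.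
(The published statement is over an arbitrary base scheme; the affine free case is stated. Its
assertions on the centre are stated separately.) -/
theorem result (R : Type u) [CommRing R] (m : ℕ)
    (Q : QuadraticForm R (Fin (2 * m + 1) → R))
    (hQ : QuadGrp.IsSemiregular (Pi.basisFun R (Fin (2 * m + 1))) (LinearEquiv.refl R R) Q)
    (G : Over (Spec (CommRingCat.of R))) [GrpObj G] (D : QuadGrp.SOrthRep Q G) :
    AlgebraicGeometry.SmoothOfRelativeDimension (m * (2 * m + 1)) G.hom ∧
      ∀ s : ↥(Spec (CommRingCat.of R)), ConnectedSpace ↥(G.hom.fiber s) := by
  classical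
  have hn : Odd (2 * m + 1) := odd_two_mul_add_one m
  obtain ⟨e, he⟩ := OrthSmooth.exists_iso (OrthSmooth.affRepSOrth hn D)
  refine ⟨?_, OrthSmooth.connectedSpace_fiber hn (OrthSmooth.halfDisc_eq Q ▸ hQ) e he⟩
  rw [he, MorphismProperty.cancel_left_of_respectsIso (@AlgebraicGeometry.SmoothOfRelativeDimension (m * (2 * m + 1)))]
  exact OrthSmooth.smoothOfRelativeDimension_coord hQ

end Groth.Agent.S17002
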