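import Groth.Statements.S17003
import Groth.Agent.CliffSmooth.SplitIso
-- import your own Groth.Agent.* helpers here

set_option autoImplicit false
universe u
open scoped TensorProduct
open QuadGrp

namespace Groth.Agent.S17003

/-- Let Q be a quadratic form on R^{2m+1} over a commutative ring R whose half-discriminant in the
standard basis is a unit. Then fppf-locally on R the form Q is isometric to the standard split form
in 2m+1 variables: there is a faithfully flat finitely presented R-algebra A and an isometry between
the base changes to A of Q and of the split form. (For even rank the étale-local statement is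
already available; for odd rank with 2 not a unit the fppf topology is needed.) -/
theorem result (R : Type u) [CommRing R] (m : ℕ)
    (Q : QuadraticForm R (Fin (2 * m + 1) → R))
    (hQ : QuadGrp.IsSemiregular (Pi.basisFun R (Fin (2 * m + 1))) (LinearEquiv.refl R R) Q) :
    ∃ (A : Type u) (_ : CommRing A) (_ : Algebra R A), Module.FaithfullyFlat R A ∧ Algebra.FinitePresentation R A ∧
      Nonempty ((QuadGrp.baseChangeForm A Q).IsometryEquiv
        (QuadGrp.baseChangeForm A (QuadGrp.splitForm R (2 * m + 1)))) := by
  obtain ⟨A, _, _, hA, ⟨F⟩⟩ := CliffSmooth.exists_fullFrame (Pi.basisFun R (Fin (2 * m + 1))) hQ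
  obtain ⟨fb, hfb⟩ := F.exists_basis _ (CliffSmooth.isSemiregular_baseChange Q _ hQ A)
  obtain ⟨G, gb, hgb⟩ := CliffSmooth.exists_split_frame R A m
  exact ⟨A, _, _, hA.1, hA.2, CliffSmooth.isometry_of_frames F G fb gb hfb hgb⟩

end Groth.Agent.S17003
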