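import Groth.Statements.S1701
import Groth.Agent.FlatDescent.DivFlat.Basic
import Groth.Agent.DivCodimTwo.StalkIdeal
import Groth.Agent.Div38.Glue
import Mathlib.RingTheory.TensorProduct.Quotient

set_option autoImplicit false
universe u
open CategoryTheory CategoryTheory.Limits AlgebraicGeometry TopologicalSpace
open SDiv

namespace Groth.Agent.S1701

open scoped TensorProduct

/-- Let f : X ⟶ S be a morphism, 𝓘 the ideal sheaf of an effective Cartier divisor D ⊂ X such that D ⟶ S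
is flat (a relative effective Cartier divisor), and x a point of D at which the local ring of X is
Noetherian. Then f is flat at x. -/
theorem result {X S : Scheme.{u}} (f : X ⟶ S) (𝓘 : X.IdealSheafData)
    (hD : (BlowUp.IsEffCartierIdeal 𝓘 ∧ Flat (𝓘.subschemeι ≫ f))) (d : ↥𝓘.subscheme) [IsNoetherianRing (X.presheaf.stalk (𝓘.subschemeι d))] :
    (f.stalkMap (𝓘.subschemeι d)).hom.Flat := by

  haveI := hD.2
  let x := 𝓘.subschemeι d
  obtain ⟨V, hV, hxV, -⟩ := exists_isAffineOpen_mem_and_subset (U := (⊤ : S.Opens)) (x := f x) trivial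
  obtain ⟨U, hx, e, a, ha, hI⟩ := Groth.FlatDescent.DivFlat.exists_chart_le hD.1 (O := f ⁻¹ᵁ V) (x := x) hxV
  letI : Algebra Γ(S, V) Γ(X, U.1) := (f.appLE V U.1 e).hom.toAlgebra
  haveI : Module.Flat Γ(S, V) (Γ(X, U.1) ⧸ 𝓘.ideal U) := Groth.FlatDescent.DivFlat.flat_quot f 𝓘 hV U e
  letI := TopCat.Presheaf.algebra_section_stalk X.presheaf (⟨x, hx⟩ : U.1)
  haveI := U.2.isLocalization_stalk ⟨x, hx⟩
  letI := TopCat.Presheaf.algebra_section_stalk S.presheaf (⟨f x, e hx⟩ : V)
  haveI := hV.isLocalization_stalk ⟨f x, e hx⟩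
  let T := X.presheaf.stalk x
  let R := S.presheaf.stalk (f x)
  letI : Algebra Γ(S, V) T := ((X.presheaf.germ U.1 x hx).hom.comp (f.appLE V U.1 e).hom).toAlgebra
  haveI : IsScalarTower Γ(S, V) Γ(X, U.1) T := IsScalarTower.of_algebraMap_eq fun _ => rfl
  letI : Algebra R T := (f.stalkMap x).hom.toAlgebra
  haveI : IsScalarTower Γ(S, V) R T :=
    IsScalarTower.of_algebraMap_eq fun r => Groth.Agent.Div38.germ_appLE e hx r
  haveI : Module.Flat Γ(X, U.1) T := IsLocalization.flat T (U.2.primeIdealOf ⟨x, hx⟩).asIdeal.primeCompl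
  haveI : Module.Flat Γ(S, V) (T ⊗[Γ(X, U.1)] (Γ(X, U.1) ⧸ 𝓘.ideal U)) :=
    Groth.FlatDescent.SheafBC.flat_tensor_of_flat
  let t : T := algebraMap Γ(X, U.1) T a
  have hq : Module.Flat Γ(S, V) (T ⧸ Ideal.span {t}) := by
    have h := Module.Flat.of_linearEquiv
      (((Algebra.TensorProduct.quotIdealMapEquivTensorQuot T (𝓘.ideal U)).toLinearEquiv).restrictScalars Γ(S, V))
    rwa [hI, Ideal.map_span, Set.image_singleton] at h
  have htm : t ∈ IsLocalRing.maximalIdeal T := by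
    have hs : x ∈ 𝓘.support := 𝓘.range_subschemeι.le ⟨d, rfl⟩
    have hne : Groth.Agent.DivCodimTwo.gI 𝓘 x ≠ ⊤ :=
      fun h => ((Groth.Agent.DivCodimTwo.gI_eq_top_iff 𝓘 x).mp h) hs
    apply IsLocalRing.le_maximalIdeal hne
    rw [Groth.Agent.DivCodimTwo.gI_eq 𝓘 U hx]
    exact Ideal.mem_map_of_mem _ (hI ▸ Ideal.mem_span_singleton_self a)
  haveI : Module.Flat Γ(S, V) T := Groth.FlatDescent.DivFlat.flat_of_regular_of_flat_quot
    (IsLocalization.map_nonZeroDivisors_le (U.2.primeIdealOf ⟨x, hx⟩).asIdeal.primeCompl T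
      (Submonoid.mem_map_of_mem _ ha)) htm hq
  show Module.Flat R T
  exact (Module.flat_iff_of_isLocalization R (hV.primeIdealOf ⟨f x, e hx⟩).asIdeal.primeCompl T).mpr inferInstance

end Groth.Agent.S1701
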