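import Groth.Statements.S17015
import Groth.Agent.CliffSmooth.Splitting
import Groth.Agent.CliffSmooth.FieldPairs
import Groth.Agent.QuadHalfDisc
import Groth.Agent.OrthSmooth.Mat

set_option autoImplicit false
universe u v
open QuadGrp TensorProduct

namespace Groth.Agent.S17015

theorem halfDisc_baseChange {R : Type u} [CommRing R] {M : Type v} [AddCommGroup M] [Module R M]
    [Module.Free R M] {n : ℕ} (b : Module.Basis (Fin n) R M) (Q : QuadraticForm R M)
    (A : Type u) [CommRing A] [Algebra R A] :
    halfDisc (Algebra.TensorProduct.basis A b) (LinearEquiv.refl A A) (baseChangeForm A Q) =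
      algebraMap R A (halfDisc b (LinearEquiv.refl R R) Q) := by
  have hc : coeffs (Algebra.TensorProduct.basis A b) (LinearEquiv.refl A A) (baseChangeForm A Q) =
      algebraMap R A ∘ coeffs b (LinearEquiv.refl R R) Q := by
    funext s
    induction s using Sym2.ind with
    | _ i j =>
      simp only [Function.comp_apply, coeffs_mk, LinearEquiv.refl_apply, Algebra.TensorProduct.basis_apply]
      by_cases h : i = j
      · simp [h, baseChangeForm, baseChange_tmul, Algebra.smul_def]
      · rw [if_neg h, if_neg h]
        simp only [QuadraticMap.polar, ← TensorProduct.tmul_add]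
        simp [baseChangeForm, baseChange_tmul, Algebra.smul_def]
  rw [halfDisc, halfDisc, hc]
  exact (OrthSmooth.map_hd (algebraMap R A) _).symm

section Field

variable {K : Type u} [Field K] {V : Type v} [AddCommGroup V] [Module K V] {n : ℕ}

theorem up_polar (b : Module.Basis (Fin n) K V) (q : QuadraticForm K V) (a l : Fin n) :
    (QuadHalfDisc.up (coeffs b (LinearEquiv.refl K K) q) +
      (QuadHalfDisc.up (coeffs b (LinearEquiv.refl K K) q)).transpose) a l =
      QuadraticMap.polar q (b a) (b l) := by
  simp only [QuadHalfDisc.up, Matrix.add_apply, Matrix.transpose_apply, Matrix.of_apply, coeffs_mk,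
    LinearEquiv.refl_apply]
  rcases lt_trichotomy a l with h | h | h
  · simp [h.le, h.ne, h.not_ge]
  · subst h; simp [QuadraticMap.polar_self, two_smul]
  · simp [h.le, h.ne, h.not_ge, QuadraticMap.polar_comm (⇑q) (b a) (b l)]

theorem mem_ker (b : Module.Basis (Fin n) K V) (q : QuadraticForm K V) (x : V)
    (h : ∀ l, QuadraticMap.polar q (b l) x = 0) : x ∈ LinearMap.ker q.polarBilin := by
  rw [LinearMap.mem_ker]
  refine b.ext fun l => ?_
  rw [QuadraticMap.polarBilin_apply_apply, QuadraticMap.polar_comm, h l, LinearMap.zero_apply]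

theorem polar_sum (b : Module.Basis (Fin n) K V) (q : QuadraticForm K V) (a : V) (v : Fin n → K) :
    QuadraticMap.polar q a (∑ l, v l • b l) = ∑ l, v l * QuadraticMap.polar q a (b l) := by
  rw [← QuadraticMap.polarBilin_apply_apply, map_sum]
  simp

theorem nondegenerate_iff (hn : Odd n) (b : Module.Basis (Fin n) K V) (q : QuadraticForm K V) :
    halfDisc b (LinearEquiv.refl K K) q ≠ 0 ↔ QuadraticMap.Nondegenerate (Q := q) := by
  classical
  constructor
  · intro h
    obtain ⟨hR, ψ, hψ⟩ := CliffSmooth.semiregular_radical (b := b) (q := q) hn h.isUnit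
    have hk : ∀ x ∈ LinearMap.ker q.polarBilin, ∀ y, QuadraticMap.polar q x y = 0 := fun x hx y => by
      rw [← QuadraticMap.polarBilin_apply_apply, LinearMap.mem_ker.1 hx, LinearMap.zero_apply]
    refine ⟨?_, ?_⟩
    · rw [eq_bot_iff]
      intro x hx
      rw [Submodule.mem_bot]
      exact hR x (hk x (QuadraticMap.radical_le_ker_polarBilin hx)) (QuadraticMap.mem_radical_iff'.1 hx).1
    · have hinj : Function.Injective (ψ.comp (LinearMap.ker q.polarBilin).subtype) := by
        rw [injective_iff_map_eq_zero]
        intro x hx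
        exact Subtype.ext (hψ x (hk _ x.2) hx)
      have := LinearMap.lift_rank_le_of_injective _ hinj
      simpa using this
  · rintro ⟨hrad, hrank⟩ h0
    set U := QuadHalfDisc.up (coeffs b (LinearEquiv.refl K K) q) with hU
    have hdet : (U + U.transpose).det = 0 := by
      rw [← OrthSmooth.two_hd hn U, hU, QuadHalfDisc.co_up,
        show OrthSmooth.hd (coeffs b (LinearEquiv.refl K K) q) = 0 from h0, mul_zero]
    obtain ⟨v, hv, hPv⟩ := Matrix.exists_mulVec_eq_zero_iff.2 hdet
    set x := ∑ l, v l • b l with hx
    have hxi : ∀ l, b.repr x l = v l := fun l => by rw [hx, b.repr_sum_self]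
    have hxpol : ∀ a, QuadraticMap.polar q (b a) x = 0 := fun a => by
      have := congrFun hPv a
      rw [Pi.zero_apply, Matrix.mulVec, dotProduct] at this
      rw [hx, polar_sum, ← this]
      exact Finset.sum_congr rfl fun l _ => by rw [up_polar, mul_comm]
    have hxker := mem_ker b q x hxpol
    have hxy : ∀ y, QuadraticMap.polar q x y = 0 := fun y => by
      rw [← QuadraticMap.polarBilin_apply_apply, LinearMap.mem_ker.1 hxker, LinearMap.zero_apply]
    obtain ⟨i, hi⟩ : ∃ i, v i ≠ 0 := Function.ne_iff.1 hv
    have hqx : q x ≠ 0 := by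
      intro hq
      have hx0 : x = 0 := by
        have : x ∈ q.radical := ⟨hq, hxker⟩
        simpa [hrad] using this
      exact hi (by rw [← hxi i, hx0]; simp)
    let g : V →ₗ[K] V := b.constr K (Function.update (fun l => b l) i x)
    have hgi : g (b i) = x := by simp [g]
    have hgl : ∀ l, l ≠ i → g (b l) = b l := fun l hl => by simp [g, hl]
    set c := coeffs b (LinearEquiv.refl K K) (q.comp g) with hc
    have hpg : ∀ a l, QuadraticMap.polar (q.comp g) (b a) (b l) = QuadraticMap.polar q (g (b a)) (g (b l)) :=
      fun a l => by simp [QuadraticMap.polar, map_add]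
    have hrow : ∀ l, l ≠ i → QuadHalfDisc.up c i l = 0 ∧ QuadHalfDisc.up c l i = 0 := by
      intro l hl
      have h1 : c (Sym2.mk i l) = 0 := by
        rw [hc, coeffs_mk, if_neg (Ne.symm hl), LinearEquiv.refl_apply, hpg, hgi, hxy]
      have h2 : c (Sym2.mk l i) = 0 := by rwa [Sym2.eq_swap]
      simp [QuadHalfDisc.up, h1, h2]
    have hh : QuadHalfDisc.up c i i * (QuadHalfDisc.up c + (QuadHalfDisc.up c).transpose).adjugate i i = 0 := by
      rw [← OrthSmooth.hd_block hn i _ (fun l hl => (hrow l hl).1) (fun l hl => (hrow l hl).2),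
        QuadHalfDisc.co_up]
      change halfDisc b (LinearEquiv.refl K K) (q.comp g) = 0
      rw [QuadHalfDisc.halfDisc_comp hn, h0, mul_zero]
    have hii : QuadHalfDisc.up c i i = q x := by
      simp [QuadHalfDisc.up, hc, coeffs_mk, hgi]
    rw [hii, mul_eq_zero, or_iff_right hqx, Matrix.adjugate_apply] at hh
    obtain ⟨w, hw, hPw⟩ := Matrix.exists_mulVec_eq_zero_iff.2 hh
    have hwi : w i = 0 := by
      have := congrFun hPw i
      simpa [Matrix.mulVec, dotProduct, Pi.single_apply] using this
    set z := ∑ l, w l • b l with hz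
    have hgz : g z = z := by
      rw [hz, map_sum]
      refine Finset.sum_congr rfl fun l _ => ?_
      by_cases hl : l = i
      · simp [hl, hwi]
      · rw [map_smul, hgl l hl]
    have hzpol : ∀ a, a ≠ i → QuadraticMap.polar q (b a) z = 0 := by
      intro a ha
      have := congrFun hPw a
      rw [Pi.zero_apply, Matrix.mulVec, dotProduct] at this
      rw [hz, polar_sum, ← this]
      refine Finset.sum_congr rfl fun l _ => ?_
      rw [Matrix.updateRow_ne ha, hc, up_polar, hpg, hgl a ha]
      by_cases hl : l = i
      · simp [hl, hwi]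
      · rw [hgl l hl, mul_comm]
    have hzker : z ∈ LinearMap.ker q.polarBilin := mem_ker b q z fun a => by
      by_cases ha : a = i
      · subst ha
        have h := hxy z
        rw [QuadraticMap.polar_comm, hx, polar_sum,
          Finset.sum_eq_single a (fun l _ hl => by rw [QuadraticMap.polar_comm, hzpol l hl, mul_zero])
            (by simp), QuadraticMap.polar_comm] at h
        exact (mul_eq_zero.1 h).resolve_left hi
      · exact hzpol a ha
    have hzi : ∀ l, b.repr z l = w l := fun l => by rw [hz, b.repr_sum_self]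
    obtain ⟨v₀, hv₀⟩ := (rank_submodule_le_one_iff' _).1 hrank
    obtain ⟨s, hs⟩ := Submodule.mem_span_singleton.1 (hv₀ hxker)
    obtain ⟨t, ht⟩ := Submodule.mem_span_singleton.1 (hv₀ hzker)
    have e1 := hxi i
    have e2 := hzi i
    rw [← hs, map_smul, Finsupp.smul_apply, smul_eq_mul] at e1
    rw [← ht, map_smul, Finsupp.smul_apply, smul_eq_mul, hwi] at e2
    have ht0 : t = 0 := by
      rcases mul_eq_zero.1 e2 with h | h
      · exact h
      · exact absurd (e1.symm.trans (by rw [h, mul_zero])) hi
    exact hw (funext fun l => by rw [← hzi l, ← ht, ht0]; simp)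

end Field

theorem result {R : Type u} [CommRing R]
    {M : Type v} [AddCommGroup M] [Module R M] [Module.Free R M]
    (m : ℕ) (b : Module.Basis (Fin (2 * m + 1)) R M) (Q : QuadraticForm R M) :
    IsUnit (QuadGrp.halfDisc b (LinearEquiv.refl R R) Q) ↔
      ∀ (p : Ideal R) [p.IsPrime], QuadraticMap.Nondegenerate (Q := QuadGrp.baseChangeForm p.ResidueField Q) := by
  have key : ∀ (p : Ideal R) [p.IsPrime],
      QuadraticMap.Nondegenerate (Q := QuadGrp.baseChangeForm p.ResidueField Q) ↔
        QuadGrp.halfDisc b (LinearEquiv.refl R R) Q ∉ p := fun p _ => by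
    rw [← nondegenerate_iff (odd_two_mul_add_one m) (Algebra.TensorProduct.basis p.ResidueField b),
      halfDisc_baseChange, ne_eq, Ideal.algebraMap_residueField_eq_zero]
  constructor
  · intro h p hp
    exact (key p).2 fun hm => hp.ne_top (Ideal.eq_top_of_isUnit_mem p hm h)
  · intro h
    by_contra hu
    obtain ⟨p, hp, hm⟩ := exists_max_ideal_of_mem_nonunits hu
    exact (key p).1 (h p) hm

end Groth.Agent.S17015
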