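import Mathlib
import Groth.Statements.S17016
-- import your own Groth.Agent.* helpers here

set_option autoImplicit false
universe u
open QuadGrp

namespace Groth.Agent.S17016

/-- For the standard split quadratic form Σ x_{2i} x_{2i+1} on R^{2m} over any commutative ring R, with
standard basis vectors e_j in the Clifford algebra, the product w of the elements 1 − 2 e_{2i}
e_{2i+1} (i < m, which pairwise commute) satisfies w² = 1 and anticommutes with every e_j. (Hence w
is central in the even Clifford algebra; over rings in which 2 is invertible (1 − w)/2 is the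
non-trivial central idempotent of the even part.) -/
theorem result (R : Type u) [CommRing R] (m : ℕ) :
    let Q := QuadGrp.splitForm R (m * 2)
    let e : Fin (m * 2) → CliffordAlgebra Q := fun j => CliffordAlgebra.ι Q (Pi.single j 1)
    let w : CliffordAlgebra Q :=
      ((List.finRange m).map fun i => 1 - 2 * (e (finProdFinEquiv (i, 0)) * e (finProdFinEquiv (i, 1)))).prod
    w * w = 1 ∧ ∀ j : Fin (m * 2), e j * w = -(w * e j) := by
  intro Q e w
  have hQ : ∀ v : Fin (m * 2) → R, Q v = ∑ i : Fin m, v (finProdFinEquiv (i, 0)) * v (finProdFinEquiv (i, 1)) := by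
    intro v
    have h2 : ¬ (m * 2) % 2 = 1 := by omega
    simp only [Q, QuadGrp.splitForm, dif_neg h2, add_zero, QuadraticMap.sum_apply, QuadraticMap.linMulLin_apply, LinearMap.proj_apply]
    refine Fintype.sum_equiv (finCongr (by omega)) _ _ fun i => ?_
    congr 1 <;> congr 1 <;> ext <;> simp [finProdFinEquiv] <;> omega
  have hQe : ∀ (i : Fin m) (a : Fin 2), Q (Pi.single (finProdFinEquiv (i, a)) 1) = 0 := by
    intro i a
    rw [hQ]
    refine Finset.sum_eq_zero fun k _ => ?_
    fin_cases a <;> simp [Pi.single_apply]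
  have hpol : ∀ (i k : Fin m) (a b : Fin 2), QuadraticMap.polar Q (Pi.single (finProdFinEquiv (i, a)) 1)
      (Pi.single (finProdFinEquiv (k, b)) 1) = if i = k ∧ a ≠ b then 1 else 0 := by
    intro i k a b
    simp only [QuadraticMap.polar, hQe, sub_zero]
    rw [hQ]
    fin_cases a <;> fin_cases b <;> simp [Pi.single_apply, Finset.sum_ite_eq', Finset.filter_eq', ite_and] <;> simp only [eq_comm]
  let x : Fin m → CliffordAlgebra Q := fun i => e (finProdFinEquiv (i, 0))
  let y : Fin m → CliffordAlgebra Q := fun i => e (finProdFinEquiv (i, 1))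
  let u : Fin m → CliffordAlgebra Q := fun i => 1 - 2 * (x i * y i)
  have sq : ∀ i a, e (finProdFinEquiv (i, a)) * e (finProdFinEquiv (i, a)) = 0 := fun i a => by
    simp [e, CliffordAlgebra.ι_sq_scalar, hQe]
  have swap : ∀ i k a b, e (finProdFinEquiv (i, a)) * e (finProdFinEquiv (k, b)) =
      (if i = k ∧ a ≠ b then 1 else 0) - e (finProdFinEquiv (k, b)) * e (finProdFinEquiv (i, a)) := fun i k a b => by
    simp only [e]
    rw [CliffordAlgebra.ι_mul_ι_comm, hpol]
    split_ifs <;> simp
  have hyx : ∀ i, y i * x i = 1 - x i * y i := fun i => by simpa [x, y] using swap i i 1 0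
  have hxx : ∀ i, x i * x i = 0 := fun i => sq i 0
  have hyy : ∀ i, y i * y i = 0 := fun i => sq i 1
  have haa : ∀ i, (x i * y i) * (x i * y i) = x i * y i := fun i => by
    calc _ = x i * (y i * x i) * y i := by noncomm_ring
      _ = x i * y i - (x i * x i) * (y i * y i) := by rw [hyx]; noncomm_ring
      _ = _ := by rw [hxx, zero_mul, sub_zero]
  have huu : ∀ i, u i * u i = 1 := fun i => by
    show (1 - 2 * (x i * y i)) * (1 - 2 * (x i * y i)) = 1
    rw [two_mul]
    calc _ = 1 - 4 • (x i * y i) + 4 • ((x i * y i) * (x i * y i)) := by noncomm_ring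
      _ = _ := by rw [haa]; noncomm_ring
  have hxa : ∀ i, x i * u i = -(u i * x i) := fun i => by
    show x i * (1 - 2 * (x i * y i)) = -((1 - 2 * (x i * y i)) * x i)
    rw [two_mul]
    calc _ = x i - 2 • ((x i * x i) * y i) := by noncomm_ring
      _ = -(x i - 2 • (x i * (1 - x i * y i))) - 2 • ((x i * x i) * y i) * 0 := by
        rw [mul_sub, mul_one, ← mul_assoc, hxx]; noncomm_ring
      _ = _ := by rw [← hyx]; noncomm_ring
  have hya : ∀ i, y i * u i = -(u i * y i) := fun i => by
    show y i * (1 - 2 * (x i * y i)) = -((1 - 2 * (x i * y i)) * y i)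
    rw [two_mul]
    calc _ = y i - 2 • ((y i * x i) * y i) := by noncomm_ring
      _ = y i - 2 • (y i - x i * (y i * y i)) := by rw [hyx]; noncomm_ring
      _ = -(y i - 2 • (x i * (y i * y i))) := by rw [hyy]; noncomm_ring
      _ = _ := by noncomm_ring
  have hoth : ∀ i k b, i ≠ k → e (finProdFinEquiv (k, b)) * u i = u i * e (finProdFinEquiv (k, b)) := by
    intro i k b hik
    have h0 : ∀ a, e (finProdFinEquiv (k, b)) * e (finProdFinEquiv (i, a)) = -(e (finProdFinEquiv (i, a)) * e (finProdFinEquiv (k, b))) := fun a => by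
      rw [swap, if_neg (fun h => hik h.1.symm), zero_sub]
    have h1 : e (finProdFinEquiv (k, b)) * (x i * y i) = (x i * y i) * e (finProdFinEquiv (k, b)) := by
      rw [← mul_assoc, h0, neg_mul, mul_assoc, h0, mul_neg, neg_neg, mul_assoc]
    show e _ * (1 - 2 * (x i * y i)) = (1 - 2 * (x i * y i)) * e _
    rw [mul_sub, sub_mul, mul_one, one_mul, two_mul (x i * y i), mul_add, add_mul, h1]
  have hcomm : ∀ i k, u i * u k = u k * u i := by
    intro i k
    rcases eq_or_ne i k with rfl | hik
    · rfl
    have c1 : Commute (x k) (u i) := hoth i k 0 hik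
    have c2 : Commute (y k) (u i) := hoth i k 1 hik
    exact ((Commute.one_left (u i)).sub_left ((Commute.ofNat_left 2 (u i)).mul_left (c1.mul_left c2))).symm.eq
  have key : ∀ l : List (Fin m), l.Nodup → (l.map u).prod * (l.map u).prod = 1 ∧
      ∀ k b, e (finProdFinEquiv (k, b)) * (l.map u).prod =
        if k ∈ l then -((l.map u).prod * e (finProdFinEquiv (k, b))) else (l.map u).prod * e (finProdFinEquiv (k, b)) := by
    intro l
    induction l with
    | nil => intro _; simp
    | cons i l ih =>
      intro hnd
      obtain ⟨hi, hl⟩ := List.nodup_cons.1 hnd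
      obtain ⟨h1, h2⟩ := ih hl
      have hc : Commute (u i) (l.map u).prod := Commute.list_prod_right _ _ (by
        simp only [List.mem_map]
        rintro z ⟨k, -, rfl⟩
        exact hcomm i k)
      simp only [List.map_cons, List.prod_cons]
      refine ⟨?_, fun k b => ?_⟩
      · rw [hc.symm.mul_mul_mul_comm, huu, h1, one_mul]
      · rcases eq_or_ne k i with rfl | hki
        · rw [if_pos List.mem_cons_self]
          have : e (finProdFinEquiv (k, b)) * u k = -(u k * e (finProdFinEquiv (k, b))) := by
            fin_cases b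
            · exact hxa k
            · exact hya k
          rw [← mul_assoc, this, neg_mul, mul_assoc, h2 k b, if_neg hi, mul_assoc]
        · rw [← mul_assoc, hoth i k b hki.symm, mul_assoc, h2 k b]
          simp only [List.mem_cons, hki, false_or]
          split_ifs <;> simp [mul_assoc]
  obtain ⟨h1, h2⟩ := key _ (List.nodup_finRange m)
  refine ⟨h1, fun j => ?_⟩
  obtain ⟨⟨k, b⟩, rfl⟩ := finProdFinEquiv.surjective j
  rw [show w = ((List.finRange m).map u).prod from rfl, h2, if_pos (List.mem_finRange k)]

end Groth.Agent.S17016
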