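import Groth.Statements.S17017
import Mathlib
-- import your own Groth.Agent.* helpers here

set_option autoImplicit false
universe u
open QuadGrp

namespace Groth.Agent.S17017

set_option maxHeartbeats 1000000 in
open CliffordAlgebra QuadGrp in
theorem main (k : Type u) [Field k] (ι' : (Fin 3 → k) →ₗ[k] CliffordAlgebra (splitForm k 3))
    (h00 : ι (splitForm k 3) (Pi.single 0 1) * ι (splitForm k 3) (Pi.single 0 1) = 1)
    (h11 : ι (splitForm k 3) (Pi.single 1 1) * ι (splitForm k 3) (Pi.single 1 1) = 0)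
    (h22 : ι (splitForm k 3) (Pi.single 2 1) * ι (splitForm k 3) (Pi.single 2 1) = 0)
    (h10 : ι (splitForm k 3) (Pi.single 1 1) * ι (splitForm k 3) (Pi.single 0 1) =
      -(ι (splitForm k 3) (Pi.single 0 1) * ι (splitForm k 3) (Pi.single 1 1)))
    (h20 : ι (splitForm k 3) (Pi.single 2 1) * ι (splitForm k 3) (Pi.single 0 1) =
      -(ι (splitForm k 3) (Pi.single 0 1) * ι (splitForm k 3) (Pi.single 2 1)))
    (h21 : ι (splitForm k 3) (Pi.single 2 1) * ι (splitForm k 3) (Pi.single 1 1) =
      1 - ι (splitForm k 3) (Pi.single 1 1) * ι (splitForm k 3) (Pi.single 2 1))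
    : evenUnits (splitForm k 3) ≤ GPin' (splitForm k 3) := by
  set Q := splitForm k 3
  set e0 := ι Q (Pi.single 0 1) with he0
  set e1 := ι Q (Pi.single 1 1) with he1
  set e2 := ι Q (Pi.single 2 1) with he2
  have k00 : ∀ z, e0 * (e0 * z) = z := fun z => by rw [← mul_assoc, h00, one_mul]
  have k11 : ∀ z, e1 * (e1 * z) = 0 := fun z => by rw [← mul_assoc, h11, zero_mul]
  have k22 : ∀ z, e2 * (e2 * z) = 0 := fun z => by rw [← mul_assoc, h22, zero_mul]
  have k10 : ∀ z, e1 * (e0 * z) = -(e0 * (e1 * z)) := fun z => by rw [← mul_assoc, h10, neg_mul, mul_assoc]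
  have k20 : ∀ z, e2 * (e0 * z) = -(e0 * (e2 * z)) := fun z => by rw [← mul_assoc, h20, neg_mul, mul_assoc]
  have k21 : ∀ z, e2 * (e1 * z) = z - e1 * (e2 * z) := fun z => by rw [← mul_assoc, h21, sub_mul, one_mul, mul_assoc]
  have hι : ∀ m, ι Q m = m 0 • e0 + m 1 • e1 + m 2 • e2 := fun m => by
    rw [he0, he1, he2, ← map_smul, ← map_smul, ← map_smul, ← map_add, ← map_add]
    congr 1
    ext i; fin_cases i <;> simp [Pi.single_apply]
  have hpar : ∀ x ∈ evenOdd Q 0, ∃ a b c d : k,
      x = a • 1 + b • (e0 * e1) + c • (e0 * e2) + d • (e1 * e2) := by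
    intro x hx
    refine CliffordAlgebra.even_induction Q ?_ ?_ ?_ x hx
    · exact fun r => ⟨r, 0, 0, 0, by rw [Algebra.algebraMap_eq_smul_one]; simp⟩
    · intro x y _ _ hx hy
      obtain ⟨a, b, c, d, rfl⟩ := hx
      obtain ⟨a', b', c', d', rfl⟩ := hy
      exact ⟨a + a', b + b', c + c', d + d', by module⟩
    · intro m m' x _ hx
      obtain ⟨a, b, c, d, rfl⟩ := hx
      rw [hι m, hι m']
      let S := Submodule.span k ({1, e0 * e1, e0 * e2, e1 * e2} : Set (CliffordAlgebra Q))
      have g1 : (1 : CliffordAlgebra Q) ∈ S := Submodule.subset_span (by simp)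
      have g2 : e0 * e1 ∈ S := Submodule.subset_span (by simp)
      have g3 : e0 * e2 ∈ S := Submodule.subset_span (by simp)
      have g4 : e1 * e2 ∈ S := Submodule.subset_span (by simp)
      suffices hmem : (m 0 • e0 + m 1 • e1 + m 2 • e2) * (m' 0 • e0 + m' 1 • e1 + m' 2 • e2) *
          (a • 1 + b • (e0 * e1) + c • (e0 * e2) + d • (e1 * e2)) ∈ S by
        simp only [S, Submodule.mem_span_insert, Submodule.mem_span_singleton] at hmem
        obtain ⟨a', _, ⟨b', _, ⟨c', _, ⟨d', rfl⟩, rfl⟩, rfl⟩, h⟩ := hmem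
        exact ⟨a', b', c', d', by rw [h]; module⟩
      simp only [mul_assoc, add_mul, mul_add, smul_mul_assoc, mul_smul_comm, mul_one, k00, k11, k22, k10, k20, k21,
        h00, h11, h22, h10, h20, h21, mul_sub, mul_neg, one_mul, zero_mul, neg_mul, sub_mul, neg_neg, smul_sub, smul_neg, smul_zero, mul_zero, smul_add, sub_zero]
      repeat' first
        | apply Submodule.add_mem
        | apply Submodule.sub_mem
        | apply Submodule.neg_mem
        | apply Submodule.smul_mem
        | exact Submodule.zero_mem _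
        | assumption
  have hstep : ∀ v : (CliffordAlgebra Q)ˣ, v ∈ evenUnits Q → ∀ m,
      (v : CliffordAlgebra Q) * ι Q m * ((v⁻¹ : (CliffordAlgebra Q)ˣ) : CliffordAlgebra Q) ∈ LinearMap.range (ι Q) := by
    intro v hv m
    obtain ⟨a, b, c, d, hx⟩ := hpar _ ((mem_evenUnits _ v).1 hv)
    set xs : CliffordAlgebra Q := (a + d) • 1 - b • (e0 * e1) - c • (e0 * e2) - d • (e1 * e2) with hxs
    have hN : (v : CliffordAlgebra Q) * xs = (a * a + a * d + b * c) • 1 := by
      rw [hx, hxs]
      simp only [mul_assoc, add_mul, mul_add, smul_mul_assoc, mul_smul_comm, mul_one, one_mul, k00, k11, k22, k10, k20, k21,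
        h00, h11, h22, h10, h20, h21, mul_sub, sub_mul, mul_neg, zero_mul, neg_mul, neg_neg, smul_sub, smul_neg, smul_zero, mul_zero, smul_add, sub_zero]
      module
    by_cases hN0 : a * a + a * d + b * c = 0
    · rw [hN0, zero_smul] at hN
      have hxs0 : xs = 0 := v.mul_right_eq_zero.1 hN
      have hsc : (v : CliffordAlgebra Q) = algebraMap k _ (2 * a + d) := by
        rw [← add_zero (v : CliffordAlgebra Q), ← hxs0, hx, hxs, Algebra.algebraMap_eq_smul_one]
        module
      rw [hsc, Algebra.commutes, ← hsc, mul_assoc, Units.mul_inv, mul_one]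
      exact ⟨m, rfl⟩
    have hinv : ((v⁻¹ : (CliffordAlgebra Q)ˣ) : CliffordAlgebra Q) = (a * a + a * d + b * c)⁻¹ • xs := by
      rw [← v.mul_right_inj, Units.mul_inv, mul_smul_comm, hN, smul_smul, inv_mul_cancel₀ hN0, one_smul]
    rw [hinv, mul_smul_comm]
    refine Submodule.smul_mem _ _ ?_
    rw [hι m, mul_add, mul_add, add_mul, add_mul, mul_smul_comm, mul_smul_comm, mul_smul_comm, smul_mul_assoc,
      smul_mul_assoc, smul_mul_assoc]
    have k0 : (v : CliffordAlgebra Q) * e0 * xs =
        (a * a + a * d - b * c) • e0 + (-2 * a * b - 2 * b * d) • e1 + (-2 * a * c) • e2 := by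
      rw [hx, hxs]
      simp only [mul_assoc, add_mul, mul_add, smul_mul_assoc, mul_smul_comm, mul_one, one_mul, k00, k11, k22, k10, k20, k21,
        h00, h11, h22, h10, h20, h21, mul_sub, sub_mul, mul_neg, zero_mul, neg_mul, neg_neg, smul_sub, smul_neg, smul_zero, mul_zero, smul_add, sub_zero]
      module
    have k1 : (v : CliffordAlgebra Q) * e1 * xs =
        (a * c + c * d) • e0 + (a * a + 2 * a * d + d * d) • e1 + (-c * c) • e2 := by
      rw [hx, hxs]
      simp only [mul_assoc, add_mul, mul_add, smul_mul_assoc, mul_smul_comm, mul_one, one_mul, k00, k11, k22, k10, k20, k21,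
        h00, h11, h22, h10, h20, h21, mul_sub, sub_mul, mul_neg, zero_mul, neg_mul, neg_neg, smul_sub, smul_neg, smul_zero, mul_zero, smul_add, sub_zero]
      module
    have k2 : (v : CliffordAlgebra Q) * e2 * xs = (a * b) • e0 + (-b * b) • e1 + (a * a) • e2 := by
      rw [hx, hxs]
      simp only [mul_assoc, add_mul, mul_add, smul_mul_assoc, mul_smul_comm, mul_one, one_mul, k00, k11, k22, k10, k20, k21,
        h00, h11, h22, h10, h20, h21, mul_sub, sub_mul, mul_neg, zero_mul, neg_mul, neg_neg, smul_sub, smul_neg, smul_zero, mul_zero, smul_add, sub_zero]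
      module
    rw [k0, k1, k2]
    repeat' first
        | apply Submodule.add_mem
        | apply Submodule.smul_mem
        | exact ⟨_, rfl⟩
  intro w hw
  open Pointwise in
  refine MulAction.mem_stabilizer_iff.2 (le_antisymm ?_ ?_)
  · rintro _ ⟨_, ⟨m, rfl⟩, rfl⟩
    exact hstep w hw m
  · rintro _ ⟨m, rfl⟩
    refine ⟨((w⁻¹ : (CliffordAlgebra Q)ˣ) : CliffordAlgebra Q) * ι Q m * (w : CliffordAlgebra Q), ?_, ?_⟩
    · simpa using hstep w⁻¹ (inv_mem hw) m
    · change (w : CliffordAlgebra Q) * _ * ((w⁻¹ : (CliffordAlgebra Q)ˣ) : CliffordAlgebra Q) = _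
      simp [mul_assoc]

/-- Over a field k, for the standard split quadratic form x₀² + x₁x₂ on k³, every even unit of the
Clifford algebra normalises the subspace k³, i.e. lies in the naive Clifford group; so the even
Clifford group is the whole unit group of the even Clifford algebra. (The published claim is made
over fields of characteristic different from 2; here it is stated for every field.) -/
theorem result (k : Type u) [Field k] :
    QuadGrp.evenUnits (QuadGrp.splitForm k 3) ≤ QuadGrp.GPin' (QuadGrp.splitForm k 3) := by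
  refine main k (CliffordAlgebra.ι (QuadGrp.splitForm k 3)) ?_ ?_ ?_ ?_ ?_ ?_
  · rw [CliffordAlgebra.ι_sq_scalar, show QuadGrp.splitForm k 3 (Pi.single 0 1) = 1 by simp [QuadGrp.splitForm],
      map_one]
  · rw [CliffordAlgebra.ι_sq_scalar, show QuadGrp.splitForm k 3 (Pi.single 1 1) = 0 by simp [QuadGrp.splitForm],
      map_zero]
  · rw [CliffordAlgebra.ι_sq_scalar, show QuadGrp.splitForm k 3 (Pi.single 2 1) = 0 by simp [QuadGrp.splitForm],
      map_zero]
  · rw [eq_neg_iff_add_eq_zero, CliffordAlgebra.ι_mul_ι_add_swap, show QuadraticMap.polar (QuadGrp.splitForm k 3) (Pi.single 1 1) (Pi.single 0 1) = 0 by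
        simp [QuadGrp.splitForm, QuadraticMap.polar],
      map_zero]
  · rw [eq_neg_iff_add_eq_zero, CliffordAlgebra.ι_mul_ι_add_swap, show QuadraticMap.polar (QuadGrp.splitForm k 3) (Pi.single 2 1) (Pi.single 0 1) = 0 by
        simp [QuadGrp.splitForm, QuadraticMap.polar],
      map_zero]
  · rw [eq_sub_iff_add_eq, CliffordAlgebra.ι_mul_ι_add_swap, show QuadraticMap.polar (QuadGrp.splitForm k 3) (Pi.single 2 1) (Pi.single 1 1) = 1 by
        simp [QuadGrp.splitForm, QuadraticMap.polar],
      map_one]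

end Groth.Agent.S17017
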