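import Mathlib
import Groth.Statements.S17023
import Groth.Agent.S0549
-- import your own Groth.Agent.* helpers here

set_option autoImplicit false
universe u
open FlatMor

namespace Groth.Agent.S17023

/-- A map from a formally smooth algebra to `B/m` lifts to the `m`-adic completion. -/
lemma exists_lift_completion {B : Type u} [CommRing B] (m : Ideal B) {L : Type u} [CommRing L] [Algebra B L]
    [Algebra.FormallySmooth B L] (f0 : L →ₐ[B] B ⧸ m ^ 1) :
    ∃ Ψ : L →+* AdicCompletion m B, (∀ b, Ψ (algebraMap B L b) = algebraMap B (AdicCompletion m B) b) ∧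
      ∀ x, AdicCompletion.evalₐ m 1 (Ψ x) = f0 x := by
  classical
  have step : ∀ n (g : L →ₐ[B] B ⧸ m ^ (n + 1)), ∃ g' : L →ₐ[B] B ⧸ m ^ (n + 1 + 1),
      ∀ x, Ideal.Quotient.factorPow m (Nat.le_add_right (n + 1) 1) (g' x) = g x := by
    intro n g
    let q : (B ⧸ m ^ (n + 1 + 1)) →ₐ[B] B ⧸ m ^ (n + 1) :=
      Ideal.Quotient.factorₐ B (Ideal.pow_le_pow_right (Nat.le_add_right (n + 1) 1))
    have hnil : IsNilpotent (RingHom.ker (q : (B ⧸ m ^ (n + 1 + 1)) →+* B ⧸ m ^ (n + 1))) := by
      refine ⟨2, ?_⟩
      rw [show RingHom.ker (q : (B ⧸ m ^ (n + 1 + 1)) →+* B ⧸ m ^ (n + 1)) = (m ^ (n + 1)).map (Ideal.Quotient.mk _)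
        from Ideal.Quotient.factor_ker (Ideal.pow_le_pow_right (Nat.le_add_right (n + 1) 1)), Ideal.zero_eq_bot, ← Ideal.map_pow, ← le_bot_iff,
        ← Ideal.map_quotient_self (m ^ (n + 1 + 1))]
      refine Ideal.map_mono ?_
      rw [← pow_mul]
      exact Ideal.pow_le_pow_right (by omega)
    have hq : Function.Surjective q :=
      Ideal.Quotient.factor_surjective (Ideal.pow_le_pow_right (Nat.le_add_right (n + 1) 1))
    exact ⟨Algebra.FormallySmooth.liftOfSurjective g q hq hnil,
      fun x => Algebra.FormallySmooth.liftOfSurjective_apply g q hq hnil x⟩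
  choose next hnext using step
  let f : (n : ℕ) → L →ₐ[B] B ⧸ m ^ (n + 1) := fun n => Nat.rec f0 next n
  have hf : ∀ n x, Ideal.Quotient.factorPow m (Nat.le_add_right (n + 1) 1) (f (n + 1) x) = f n x := fun n x => hnext n (f n) x
  let F : (n : ℕ) → L →+* B ⧸ m ^ n := fun n => (Ideal.Quotient.factorPow m (Nat.le_add_right n 1)).comp (f n).toRingHom
  have hFs : ∀ n x, Ideal.Quotient.factorPow m (Nat.le_add_right n 1) (F (n + 1) x) = F n x := fun n x => by
    simp only [F, RingHom.comp_apply, AlgHom.toRingHom_eq_coe, RingHom.coe_coe, hf]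
  have hFc : ∀ {k n : ℕ} (hle : k ≤ n), (Ideal.Quotient.factorPow m hle).comp (F n) = F k := by
    intro k n hle
    induction hle with
    | refl =>
      refine RingHom.ext fun x => ?_
      obtain ⟨b, hb⟩ := Ideal.Quotient.mk_surjective (F k x)
      simp [← hb]
    | @step n hle ih =>
      refine RingHom.ext fun x => ?_
      rw [← ih]
      change Ideal.Quotient.factorPow m (le_trans hle (Nat.le_add_right n 1)) (F (n + 1) x) = Ideal.Quotient.factorPow m hle (F n x)
      rw [← hFs n x]
      obtain ⟨b, hb⟩ := Ideal.Quotient.mk_surjective (F (n + 1) x)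
      simp [← hb]
  let Ψ : L →+* AdicCompletion m B := AdicCompletion.liftRingHom m F hFc
  have hev : ∀ n x, AdicCompletion.evalₐ m n (Ψ x) = F n x := fun n x => AdicCompletion.evalₐ_liftRingHom m F hFc n x
  have hFB : ∀ n b, F n (algebraMap B L b) = Ideal.Quotient.mk _ b := fun n b => by
    simp only [F, RingHom.comp_apply, AlgHom.toRingHom_eq_coe, RingHom.coe_coe, AlgHom.commutes]
    rfl
  have hΨB : ∀ b, Ψ (algebraMap B L b) = algebraMap B (AdicCompletion m B) b := fun b =>
    AdicCompletion.ext_evalₐ fun n => by rw [hev, hFB, AlgHom.commutes]; rfl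
  exact ⟨Ψ, hΨB, fun x => (hev 1 x).trans (hf 0 x)⟩

/-- Let B be a discrete valuation ring, A a B-algebra of finite type and p a prime ideal of A which lies
over the maximal ideal of B (a point of the special fibre), at which A is smooth over B (the
localization A_p is formally smooth over B), and such that B maps onto the residue field κ(p). Then
there are a discrete valuation ring B' and a ring map ψ : A → B' pulling the maximal ideal of B'
back to p, such that the composite B → A → B' is injective, the maximal ideal of B generates the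
maximal ideal of B', and B maps onto the residue field of B'; in other words Spec B' → Spec A → Spec
B is surjective and unramified with trivial residue field extension. (The published statement does
not say that the closed point of Spec B' goes to p; it is required here. The published setting takes
A essentially of finite type over a field of characteristic zero; here A is taken of finite type
over B, with no ground field.) -/
theorem result
    (B : Type u) [CommRing B] [IsDomain B] [IsDiscreteValuationRing B]
    (A : Type u) [CommRing A] [Algebra B A] [Algebra.FiniteType B A]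
    (p : Ideal A) [p.IsPrime] (hp : p.comap (algebraMap B A) = IsLocalRing.maximalIdeal B)
    [Algebra.IsSmoothAt B p]
    (hres : Function.Surjective ((algebraMap A p.ResidueField).comp (algebraMap B A))) :
    ∃ (B' : Type u) (_ : CommRing B') (_ : IsDomain B') (_ : IsDiscreteValuationRing B') (ψ : A →+* B'),
      Ideal.comap ψ (IsLocalRing.maximalIdeal B') = p ∧
      Function.Injective (ψ.comp (algebraMap B A)) ∧
      Ideal.map (ψ.comp (algebraMap B A)) (IsLocalRing.maximalIdeal B) = IsLocalRing.maximalIdeal B' ∧
      Function.Surjective ((IsLocalRing.residue B').comp (ψ.comp (algebraMap B A))) := by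
  classical
  let m := IsLocalRing.maximalIdeal B
  obtain ⟨hdom, hdvr⟩ := (Groth.Agent.S0549.result B).1 ⟨inferInstance, inferInstance⟩
  let Λ := AdicCompletion m B
  let L := Localization.AtPrime p
  let γ : B →ₐ[B] p.ResidueField := Algebra.ofId B p.ResidueField
  have hγ : ∀ b, γ b = algebraMap A p.ResidueField (algebraMap B A b) := fun b =>
    IsScalarTower.algebraMap_apply B A p.ResidueField b
  have hγker : RingHom.ker γ = m ^ 1 := by
    ext b
    rw [pow_one, RingHom.mem_ker, hγ, Ideal.algebraMap_residueField_eq_zero, ← Ideal.mem_comap, hp]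
  have hγsurj : Function.Surjective γ := fun z => by
    obtain ⟨b, hb⟩ := hres z
    exact ⟨b, (hγ b).trans hb⟩
  let e0 : (B ⧸ m ^ 1) ≃ₐ[B] p.ResidueField :=
    (Ideal.quotientEquivAlgOfEq B hγker.symm).trans (Ideal.quotientKerAlgEquivOfSurjective hγsurj)
  let f0 : L →ₐ[B] B ⧸ m ^ 1 := e0.symm.toAlgHom.comp (IsScalarTower.toAlgHom B L p.ResidueField)
  obtain ⟨Ψ, hΨB, hΨ1⟩ := exists_lift_completion m f0
  let ev1 : Λ →+* B ⧸ m ^ 1 := (AdicCompletion.evalₐ m 1).toRingHom
  have hev1 : Function.Surjective ev1 := fun z => by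
    obtain ⟨b, rfl⟩ := Ideal.Quotient.mk_surjective z
    exact ⟨algebraMap B Λ b, (AdicCompletion.evalₐ m 1).commutes b⟩
  have hker : RingHom.ker ev1 = IsLocalRing.maximalIdeal Λ := by
    haveI : (m ^ 1).IsMaximal := by rw [pow_one]; infer_instance
    letI := Ideal.Quotient.field (m ^ 1)
    exact IsLocalRing.eq_maximalIdeal (RingHom.ker_isMaximal_of_surjective ev1 hev1)
  refine ⟨Λ, inferInstance, hdom, hdvr, Ψ.comp (algebraMap A L), ?_, ?_, ?_, ?_⟩
  · ext a
    rw [← hker, Ideal.mem_comap, RingHom.mem_ker]
    change AdicCompletion.evalₐ m 1 (Ψ (algebraMap A L a)) = 0 ↔ _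
    rw [hΨ1]
    simp only [f0, AlgHom.comp_apply, IsScalarTower.coe_toAlgHom']
    rw [← IsScalarTower.algebraMap_apply A L p.ResidueField]
    simp
  · intro b b' h
    simp only [RingHom.comp_apply, ← IsScalarTower.algebraMap_apply B A L, hΨB] at h
    exact AdicCompletion.of_injective m B h
  · refine Eq.trans ?_ AdicCompletion.maximalIdeal_eq_map.symm
    congr 1
    exact RingHom.ext fun b => by
      simp only [RingHom.comp_apply, ← IsScalarTower.algebraMap_apply B A L, hΨB]
      rfl
  · intro z
    obtain ⟨z, rfl⟩ := IsLocalRing.residue_surjective z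
    obtain ⟨b, hb⟩ := Ideal.Quotient.mk_surjective (ev1 z)
    refine ⟨b, ?_⟩
    simp only [RingHom.comp_apply, ← IsScalarTower.algebraMap_apply B A L, hΨB]
    refine Ideal.Quotient.eq.2 ?_
    rw [← hker, RingHom.mem_ker, map_sub, sub_eq_zero, ← hb]
    exact (AdicCompletion.evalₐ m 1).commutes b

end Groth.Agent.S17023
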