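import Groth.Statements.S1703
import Groth.Agent.FlatDescent.DivFlatFP.Basic
import Groth.Agent.FlatDescent.Scheme

set_option autoImplicit false
universe u
open CategoryTheory CategoryTheory.Limits AlgebraicGeometry TopologicalSpace
open SDiv

namespace Groth.Agent.S1703

/-- Let f : X ⟶ S be locally of finite presentation and 𝓘 the ideal sheaf of an effective Cartier
divisor D ⊂ X with D ⟶ S flat. Then there is an open subscheme U of X containing D such that U ⟶ S
is flat. -/
theorem result {X S : Scheme.{u}} (f : X ⟶ S) [LocallyOfFinitePresentation f] (𝓘 : X.IdealSheafData)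
    (hD : (BlowUp.IsEffCartierIdeal 𝓘 ∧ Flat (𝓘.subschemeι ≫ f))) : ∃ U : X.Opens, (𝓘.support : Set ↥X) ⊆ U ∧ Flat (U.ι ≫ f) := by
  obtain ⟨hE, hflat⟩ := hD
  let U : X.Opens := ⟨{x : X | (f.stalkMap x).hom.Flat}, Groth.FlatDescent.isOpen_flatLocus_hom f⟩
  refine ⟨U, fun x hx => Groth.FlatDescent.DivFlatFP.flat_stalkMap f 𝓘 hE hx, ?_⟩
  rw [Flat.iff_flat_stalkMap]
  intro x
  rw [Scheme.Hom.stalkMap_comp]
  exact RingHom.Flat.comp x.2 (RingHom.Flat.of_bijective (ConcreteCategory.bijective_of_isIso (U.ι.stalkMap x)))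

end Groth.Agent.S1703
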