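import Groth.Statements.S17065
import Mathlib.RingTheory.Filtration

set_option autoImplicit false
universe u
open CAlg

namespace Groth.Agent.S17065

/-- The local algebraic statement its proof establishes: let A be a Noetherian ring, I ≤ J radical
ideals and Â the J-adic completion of A. If J^n Â ⊆ I Â for some n, then the closed set V(J) is open
inside V(I) ⊆ Spec A. (Globally: if X₂ ⊆ X₁ are the completions of a locally Noetherian scheme along
nested closed subsets Z₂ ⊆ Z₁ and the ideal of Z₁ generates an ideal of definition of X₂, then X₂ is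
a union of connected components of X₁.) -/
theorem result (A : Type u) [CommRing A] [IsNoetherianRing A]
    (I J : Ideal A) (hIJ : I ≤ J) (hI : I.IsRadical) (hJ : J.IsRadical) (n : ℕ)
    (h : (J ^ n).map (algebraMap A (AdicCompletion J A)) ≤ I.map (algebraMap A (AdicCompletion J A))) :
    IsOpen ((fun x : PrimeSpectrum.zeroLocus (I : Set A) => (x : PrimeSpectrum A)) ⁻¹'
      PrimeSpectrum.zeroLocus (J : Set A)) := by
  classical
  have hkey : ∀ x ∈ J ^ n, ∃ r ∈ J, (1 - r) * x ∈ I := by
    intro x hx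
    have hx' : algebraMap A (AdicCompletion J A) x ∈ I.map (algebraMap A (AdicCompletion J A)) :=
      h (Ideal.mem_map_of_mem _ hx)
    have hall : Ideal.Quotient.mk I x ∈ ⨅ k : ℕ, J ^ k • (⊤ : Submodule A (A ⧸ I)) := by
      rw [Submodule.mem_iInf]
      intro k
      have hk := Ideal.mem_map_of_mem (AdicCompletion.evalₐ J k).toRingHom hx'
      rw [Ideal.map_map, AlgHom.toRingHom_eq_coe, AlgHom.comp_algebraMap] at hk
      have hk' : Ideal.Quotient.mk (J ^ k) x ∈ I.map (Ideal.Quotient.mk (J ^ k)) := by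
        simpa using hk
      have hmem : x ∈ I ⊔ J ^ k := by
        have := Ideal.mem_comap.mpr hk'
        rwa [Ideal.comap_map_of_surjective _ Ideal.Quotient.mk_surjective, ← RingHom.ker_eq_comap_bot,
          Ideal.mk_ker] at this
      obtain ⟨a, ha, b, hb, rfl⟩ := Submodule.mem_sup.mp hmem
      rw [map_add, Ideal.Quotient.eq_zero_iff_mem.mpr ha, zero_add, ← mul_one b, map_mul, map_one]
      exact Submodule.smul_mem_smul (n := (1 : A ⧸ I)) hb Submodule.mem_top
    obtain ⟨r, hr⟩ := (Ideal.mem_iInf_smul_pow_eq_bot_iff J (Ideal.Quotient.mk I x)).mp hall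
    refine ⟨r, r.2, ?_⟩
    rw [← Ideal.Quotient.eq_zero_iff_mem, sub_mul, one_mul, map_sub, sub_eq_zero]
    exact hr.symm
  obtain ⟨s, hs⟩ := IsNoetherian.noetherian (J ^ n)
  choose r hrJ hrI using fun i : s => hkey i.1 (hs ▸ Ideal.subset_span i.2)
  let g : A := ∏ i, (1 - r i)
  have hg1 : g - 1 ∈ J := by
    rw [← Ideal.Quotient.eq_zero_iff_mem, map_sub, map_prod, map_one, sub_eq_zero]
    refine Finset.prod_eq_one fun i _ => ?_
    rw [map_sub, map_one, Ideal.Quotient.eq_zero_iff_mem.mpr (hrJ i), sub_zero]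
  have hgI : ∀ x ∈ J ^ n, g * x ∈ I := by
    intro x hx
    rw [← hs] at hx
    induction hx using Submodule.span_induction with
    | mem y hy =>
      show (∏ i, (1 - r i)) * y ∈ I
      rw [← Finset.prod_erase_mul _ _ (Finset.mem_univ ⟨y, hy⟩), mul_assoc]
      exact I.mul_mem_left _ (hrI _)
    | zero => simp
    | add a b _ _ ha hb => rw [mul_add]; exact add_mem ha hb
    | smul c a _ ha => rw [smul_eq_mul, mul_left_comm]; exact I.mul_mem_left _ ha
  refine isOpen_induced_iff.mpr ⟨(PrimeSpectrum.basicOpen g : Set (PrimeSpectrum A)),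
    (PrimeSpectrum.basicOpen g).2, ?_⟩
  ext ⟨x, hx⟩
  simp only [Set.mem_preimage, SetLike.mem_coe, PrimeSpectrum.mem_basicOpen,
    PrimeSpectrum.mem_zeroLocus, SetLike.coe_subset_coe]
  rw [PrimeSpectrum.mem_zeroLocus, SetLike.coe_subset_coe] at hx
  constructor
  · intro hgx
    refine fun a ha => x.isPrime.mem_of_pow_mem n ?_
    exact (x.isPrime.mem_or_mem (hx (hgI _ (Ideal.pow_mem_pow ha n)))).resolve_left hgx
  · intro hJx hgx
    exact x.isPrime.ne_top ((Ideal.eq_top_iff_one _).mpr (by simpa using sub_mem hgx (hJx hg1)))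

end Groth.Agent.S17065
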