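import Mathlib
import Groth.Statements.S17077
-- import your own Groth.Agent.* helpers here

set_option autoImplicit false
universe u
open RatCurve

namespace Groth.Agent.S17077

/-- Let k be an algebraically closed field and F_0, …, F_{n-1} homogeneous polynomials in k[u, v] (of
possibly different degrees). Then the F_i have a common factor which is not a unit if and only if
they have a common zero (a, b) ≠ (0, 0) in k², that is, a common zero in the projective line. -/
theorem result
    {k : Type u} [Field k] [IsAlgClosed k] {n : ℕ} (F : Fin n → MvPolynomial (Fin 2) k)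
    (d : Fin n → ℕ) (hF : ∀ i, (F i).IsHomogeneous (d i)) :
    (∃ H : MvPolynomial (Fin 2) k, ¬ IsUnit H ∧ ∀ i, H ∣ F i) ↔
      ∃ a : Fin 2 → k, a ≠ 0 ∧ ∀ i, MvPolynomial.eval a (F i) = 0 := by
  classical
  constructor
  · rintro ⟨H, hH, hdvd⟩
    by_contra hno
    push_neg at hno
    have hX : ∀ j : Fin 2, ∃ N, H ∣ (MvPolynomial.X j : MvPolynomial (Fin 2) k) ^ N := by
      intro j
      have hmem : (MvPolynomial.X j : MvPolynomial (Fin 2) k) ∈ (Ideal.span (Set.range F)).radical := by
        rw [← MvPolynomial.vanishingIdeal_zeroLocus_eq_radical (K := k)]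
        intro x hx
        by_contra hxj
        have hx0 : x ≠ 0 := by
          rintro rfl
          simp at hxj
        obtain ⟨i, hi⟩ := hno x hx0
        apply hi
        have := hx (F i) (Ideal.subset_span ⟨i, rfl⟩)
        rwa [MvPolynomial.aeval_eq_eval] at this
      obtain ⟨N, hN⟩ := hmem
      refine ⟨N, Ideal.mem_span_singleton.1 ((Ideal.span_le.2 ?_) hN)⟩
      rintro _ ⟨i, rfl⟩
      exact Ideal.mem_span_singleton.2 (hdvd i)
    obtain ⟨N₀, h₀⟩ := hX 0
    obtain ⟨N₁, h₁⟩ := hX 1
    obtain ⟨i, -, hi⟩ := (dvd_prime_pow (MvPolynomial.X_prime (i := (0 : Fin 2))) N₀).1 h₀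
    apply hH
    rcases Nat.eq_zero_or_pos i with h | h
    · subst h
      rw [pow_zero] at hi
      exact hi.symm.isUnit isUnit_one
    · exfalso
      have h2 : (MvPolynomial.X 0 : MvPolynomial (Fin 2) k) ∣ MvPolynomial.X 1 ^ N₁ :=
        ((dvd_pow_self _ h.ne').trans hi.symm.dvd).trans h₁
      have h3 := map_dvd (MvPolynomial.eval ![(0 : k), 1]) h2
      simp at h3
  · rintro ⟨a, ha, hz⟩
    obtain ⟨q, hq⟩ : ∃ q, a q ≠ 0 := by
      by_contra h
      push_neg at h
      exact ha (funext h)
    obtain ⟨p, hp⟩ : ∃ p : Fin 2, ∀ j, j ≠ q → j = p := by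
      fin_cases q
      · exact ⟨1, fun j hj => by fin_cases j <;> simp_all⟩
      · exact ⟨0, fun j hj => by fin_cases j <;> simp_all⟩
    let c : Fin 2 → k := fun j => (a q)⁻¹ * a j
    let H : MvPolynomial (Fin 2) k := MvPolynomial.X p - MvPolynomial.C (c p) * MvPolynomial.X q
    refine ⟨H, fun hu => ?_, fun i => ?_⟩
    · have := hu.map (MvPolynomial.eval a)
      simp [H, c, hq, mul_comm] at this
      exact this (by field_simp; ring)
    · let Q := MvPolynomial (Fin 2) k ⧸ Ideal.span {H}
      have hc : (Ideal.Quotient.mkₐ k (Ideal.span {H})) = MvPolynomial.aeval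
          (fun j => algebraMap k Q (c j) * Ideal.Quotient.mk _ (MvPolynomial.X q)) := by
        apply MvPolynomial.algHom_ext
        intro j
        rw [MvPolynomial.aeval_X]
        show Ideal.Quotient.mk _ (MvPolynomial.X j) = _
        rw [show algebraMap k Q (c j) = Ideal.Quotient.mk _ (MvPolynomial.C (c j)) from rfl, ← map_mul,
          Ideal.Quotient.eq, Ideal.mem_span_singleton]
        by_cases hj : j = q
        · subst hj; simp [c, hq]
        · rw [hp j hj]
      have hom : ∀ (R : Type u) [CommRing R] [Algebra k R] (y : R),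
          MvPolynomial.aeval (fun j => algebraMap k R (c j) * y) (F i) =
            algebraMap k R (MvPolynomial.eval c (F i)) * y ^ d i := by
        intro R _ _ y
        rw [MvPolynomial.aeval_def, MvPolynomial.eval₂_eq, MvPolynomial.eval_eq, map_sum, Finset.sum_mul]
        refine Finset.sum_congr rfl fun e he => ?_
        have hdeg : ∑ j ∈ e.support, e j = d i := by
          have h1 := hF i (MvPolynomial.mem_support_iff.1 he)
          rw [Finsupp.weight_apply, Finsupp.sum] at h1
          simpa using h1
        rw [map_mul, map_prod, mul_assoc, ← hdeg, ← Finset.prod_pow_eq_pow_sum, ← Finset.prod_mul_distrib]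
        simp [mul_pow]
      have h0 : MvPolynomial.eval c (F i) = 0 := by
        have h1 := hom k (a q)
        have e1 : (fun j => algebraMap k k (c j) * a q) = a := funext fun j => by
          simp [c, hq, mul_comm, ← mul_assoc]
        rw [e1, MvPolynomial.aeval_eq_eval] at h1
        have h2 : MvPolynomial.eval a (F i) = MvPolynomial.eval c (F i) * a q ^ d i := by simpa using h1
        rw [hz i] at h2
        exact (mul_eq_zero.1 h2.symm).resolve_right (pow_ne_zero _ hq)
      rw [← Ideal.mem_span_singleton, ← Ideal.Quotient.eq_zero_iff_mem]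
      show Ideal.Quotient.mkₐ k (Ideal.span {H}) (F i) = 0
      rw [hc, hom, h0, map_zero, zero_mul]

end Groth.Agent.S17077
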