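import Mathlib
import Groth.Statements.S17079
-- import your own Groth.Agent.* helpers here

set_option autoImplicit false
universe u
open CategoryTheory CategoryTheory.Limits AlgebraicGeometry
open MorSch

namespace Groth.Agent.S17079

set_option backward.isDefEq.respectTransparency false
set_option backward.isDefEq.respectTransparency.types false

/-- Let gX : X → S and gY : Y → S be morphisms and suppose the functor Mor_S(X, Y) — sending an S-scheme
T to the set of S-morphisms T ×_S X → Y, with base change as transition maps — is represented by an
S-scheme M. Then for every morphism h : S' → S the functor Mor_{S'}(X ×_S S', Y ×_S S') on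
S'-schemes is represented by M ×_S S'. (The published statement assumes X and Y projective over S
with X flat and S, S' locally Noetherian; this row assumes only that the functor is represented by
M. Only the existence of a representing structure on M ×_S S' is asserted, not its compatibility
with the one on M.) -/
theorem result
    {X Y S S' : Scheme.{u}} (gX : X ⟶ S) (gY : Y ⟶ S) (h : S' ⟶ S)
    (M : Over S) (e : (Flatn.morS gX gY).RepresentableBy M) :
    Nonempty ((Flatn.morS (pullback.snd gX h) (pullback.snd gY h)).RepresentableBy
      (Over.mk (pullback.snd M.hom h))) := by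
  let adj := Over.mapPullbackAdj h
  let α : ∀ T : Over S', pullback T.hom (pullback.snd gX h) ⟶ pullback (T.hom ≫ h) gX := fun T =>
    pullback.lift (pullback.fst _ _) (pullback.snd _ _ ≫ pullback.fst gX h) (by
      rw [Category.assoc, pullback.condition, reassoc_of% (pullback.condition (f := T.hom) (g := pullback.snd gX h))])
  let β : ∀ T : Over S', pullback (T.hom ≫ h) gX ⟶ pullback T.hom (pullback.snd gX h) := fun T =>
    pullback.lift (pullback.fst _ _) (pullback.lift (pullback.snd _ _) (pullback.fst _ _ ≫ T.hom)
      (by rw [Category.assoc]; exact pullback.condition.symm)) (by rw [pullback.lift_snd])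
  have αβ : ∀ T, α T ≫ β T = 𝟙 _ := fun T => by
    apply pullback.hom_ext
    · simp [α, β]
    · apply pullback.hom_ext
      · simp [α, β]
      · simp [α, β, pullback.condition]
  have βα : ∀ T, β T ≫ α T = 𝟙 _ := fun T => by
    apply pullback.hom_ext <;> simp [α, β]
  let ev : ∀ T : Over S', (Flatn.morS gX gY).obj (Opposite.op ((Over.map h).obj T)) ≃
      (Flatn.morS (pullback.snd gX h) (pullback.snd gY h)).obj (Opposite.op T) := fun T =>
    { toFun := fun b => Over.homMk (pullback.lift (α T ≫ b.left) (pullback.snd _ _ ≫ pullback.snd gX h) (by
        rw [Category.assoc, show b.left ≫ gY = pullback.snd (T.hom ≫ h) gX ≫ gX from Over.w b]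
        simp [α, pullback.condition])) (pullback.lift_snd _ _ _)
      invFun := fun c => Over.homMk (β T ≫ c.left ≫ pullback.fst gY h) (by
        show (β T ≫ c.left ≫ pullback.fst gY h) ≫ gY = pullback.snd (T.hom ≫ h) gX ≫ gX
        rw [Category.assoc, Category.assoc, pullback.condition,
          reassoc_of% (show c.left ≫ pullback.snd gY h = pullback.snd T.hom (pullback.snd gX h) ≫ pullback.snd gX h from Over.w c)]
        simp [β, pullback.condition])
      left_inv := fun b => Over.OverMorphism.ext (by
        show β T ≫ pullback.lift _ _ _ ≫ pullback.fst gY h = b.left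
        rw [pullback.lift_fst, ← Category.assoc, βα, Category.id_comp])
      right_inv := fun c => Over.OverMorphism.ext (pullback.hom_ext
        (by
          show pullback.lift _ _ _ ≫ pullback.fst gY h = _
          rw [pullback.lift_fst]
          show α T ≫ β T ≫ c.left ≫ pullback.fst gY h = _
          rw [← Category.assoc, αβ, Category.id_comp])
        (by
          show pullback.lift _ _ _ ≫ pullback.snd gY h = _
          rw [pullback.lift_snd]
          exact (Over.w c).symm)) }
  have hnat : ∀ {T T' : Over S'} (φ : T' ⟶ T) (b : (Flatn.morS gX gY).obj (Opposite.op ((Over.map h).obj T))),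
      ev T' ((Flatn.morS gX gY).map ((Over.map h).map φ).op b) = (Flatn.morS (pullback.snd gX h) (pullback.snd gY h)).map φ.op (ev T b) := by
    intro T T' φ b
    refine Over.OverMorphism.ext (pullback.hom_ext ?_ ?_)
    · show pullback.lift (α T' ≫ ((Over.pullback gX).map ((Over.map h).map φ)).left ≫ b.left) _ _ ≫ pullback.fst gY h =
        (((Over.pullback (pullback.snd gX h)).map φ).left ≫ pullback.lift (α T ≫ b.left) _ _) ≫ pullback.fst gY h
      rw [pullback.lift_fst, Category.assoc, pullback.lift_fst, ← Category.assoc, ← Category.assoc]
      congr 1
      apply pullback.hom_ext <;> simp [α]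
    · show pullback.lift _ _ _ ≫ pullback.snd gY h =
        (((Over.pullback (pullback.snd gX h)).map φ).left ≫ pullback.lift (α T ≫ b.left) _ _) ≫ pullback.snd gY h
      rw [pullback.lift_snd, Category.assoc, pullback.lift_snd]
      simp
  refine ⟨{
    homEquiv := fun {T} => ((adj.homEquiv T M).symm.trans e.homEquiv).trans (ev T)
    homEquiv_comp := fun {T' T} φ g => ?_ }⟩
  show ev T' (e.homEquiv ((adj.homEquiv T' M).symm (φ ≫ g))) = (Flatn.morS _ _).map φ.op (ev T (e.homEquiv ((adj.homEquiv T M).symm g)))
  rw [adj.homEquiv_naturality_left_symm, e.homEquiv_comp, hnat]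

end Groth.Agent.S17079
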