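import Groth.Statements.S17083
import Groth.Agent.BlowUpLib.Props
import Groth.Agent.ModPairBasic.Open
import Groth.Agent.ModPairBasic.Limit
import Groth.Agent.ModPairBasic.Mul
import Groth.Agent.DivCodimTwo.StalkIdeal
-- import your own Groth.Agent.* helpers here

set_option autoImplicit false
universe u
open CategoryTheory CategoryTheory.Limits AlgebraicGeometry
open MorSch

namespace Groth.Agent.S17083

/-- The closed immersion constructed in its proof, as follows. Let X be a scheme, I₁ and I₂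
quasi-coherent ideal sheaves on X with I₁ + I₂ = O_X, so that they cut out disjoint closed
subschemes Z₁ and Z₂, let σ : B → X be a blow-up of X in the ideal I₁ ∩ I₂ of Z₁ ∪ Z₂, and let σ₁ :
B₁ → X and σ₂ : B₂ → X be blow-ups of X in Z₁ and in Z₂ (blow-up in the sense of the universal
property: the inverse image ideal is effective Cartier, finally so). Then there is a morphism ι : B
→ B₁ ×_X B₂ over X which is a closed immersion; the components B → B_i are necessarily the unique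
X-morphisms given by the universal properties. (Published for X a projective space over an
algebraically closed field, Z₂ a closed point and Z₁ a finite set of closed points not containing
it, and iterated there to embed the blow-up at r distinct points as a closed subscheme of the fibre
product over X of the r blow-ups at single points.) -/
theorem result
    {X B B₁ B₂ : Scheme.{u}} (I₁ I₂ : X.IdealSheafData) (hdisj : I₁ ⊔ I₂ = ⊤)
    (σ : B ⟶ X) (hσ : BlowUp.IsBlowUp σ (I₁ ⊓ I₂))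
    (σ₁ : B₁ ⟶ X) (hσ₁ : BlowUp.IsBlowUp σ₁ I₁) (σ₂ : B₂ ⟶ X) (hσ₂ : BlowUp.IsBlowUp σ₂ I₂) :
    ∃ ι : B ⟶ pullback σ₁ σ₂, IsClosedImmersion ι ∧ ι ≫ pullback.fst σ₁ σ₂ ≫ σ₁ = σ := by
  classical
  have hmul : I₁ ⊓ I₂ = I₁ * I₂ := by
    ext1
    rw [Scheme.IdealSheafData.ideal_inf, Scheme.IdealSheafData.ideal_mul]
    funext U
    simp only [Pi.inf_apply, Pi.mul_apply]
    refine (Ideal.mul_eq_inf_of_coprime ?_).symm
    rw [← Pi.sup_apply, ← Scheme.IdealSheafData.ideal_sup, hdisj, Scheme.IdealSheafData.ideal_top]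
    rfl
  have he := hσ.1
  rw [hmul, Groth.Agent.BlowUpLib.comap_mul] at he
  obtain ⟨h1, hh1, -⟩ := hσ₁.2 B σ (Groth.Agent.BlowUpLib.ec_of_mul he)
  obtain ⟨h2, hh2, -⟩ := hσ₂.2 B σ (Groth.Agent.BlowUpLib.ec_of_mul (by rw [mul_comm]; exact he))
  let P := pullback σ₁ σ₂
  let π : P ⟶ X := pullback.fst σ₁ σ₂ ≫ σ₁
  have hcov : ∀ x : X, x ∉ I₁.support ∨ x ∉ I₂.support := by
    intro x
    by_contra hc
    push Not at hc
    obtain ⟨W, hW, hxW, -⟩ := exists_isAffineOpen_mem_and_subset (U := (⊤ : X.Opens)) (x := x) trivial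
    have h1' := (Groth.Agent.DivCodimTwo.mem_support_iff_le I₁ ⟨W, hW⟩ hxW).mp hc.1
    have h2' := (Groth.Agent.DivCodimTwo.mem_support_iff_le I₂ ⟨W, hW⟩ hxW).mp hc.2
    have h3 := congrArg (fun K : X.IdealSheafData => K.ideal ⟨W, hW⟩) hdisj
    simp only [Scheme.IdealSheafData.ideal_sup, Scheme.IdealSheafData.ideal_top, Pi.sup_apply, Pi.top_apply] at h3
    exact (hW.primeIdealOf ⟨x, hxW⟩).isPrime.ne_top (top_le_iff.mp (h3.ge.trans (sup_le h1' h2')))
  have hloc : ∀ {C : Scheme.{u}} (q : P ⟶ C) (c : C ⟶ X) (D D' : X.IdealSheafData) {C' : Scheme.{u}} (q' : P ⟶ C')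
      (c' : C' ⟶ X), IsPullback q q' c c' → BlowUp.IsEffCartierIdeal (D.comap c) →
      BlowUp.IsBlowUp c' D' → (∀ x, x ∉ D.support ∨ x ∉ D'.support) →
      BlowUp.IsEffCartierIdeal (D.comap (q ≫ c)) := by
    intro C q c D D' C' q' c' hsq hD hbl hc
    refine Groth.Agent.ModPairBasic.ec_of_openCover _ fun p => ?_
    rcases hc ((q ≫ c) p) with hx | hx
    · let V : X.Opens := D.support.compl
      let O : P.Opens := (q ≫ c) ⁻¹ᵁ V
      refine ⟨O, O.ι, inferInstance, ⟨⟨p, hx⟩, rfl⟩, ?_⟩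
      rw [← Scheme.IdealSheafData.comap_comp, Groth.Agent.BlowUpLib.comap_eq_top_of_range fun w => ?_]
      · exact Groth.Agent.BlowUpLib.ec_top
      · rw [Scheme.Hom.comp_apply]
        exact w.2
    · let V : X.Opens := D'.support.compl
      haveI : IsIso (c' ∣_ V) := Groth.Agent.BlowUpLib.isIso_restrict hbl V (fun x hx => hx)
      let U : C.Opens := c ⁻¹ᵁ V
      haveI : IsIso (q ∣_ U) := by
        have h0 : (q ⁻¹ᵁ U).ι ≫ q' ≫ c' = ((q ∣_ U) ≫ (c ∣_ V)) ≫ V.ι := by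
          rw [Category.assoc, morphismRestrict_ι, ← Category.assoc (q ∣_ U), morphismRestrict_ι,
            Category.assoc, hsq.w]
        have hmem : Set.range ((q ⁻¹ᵁ U).ι ≫ q') ⊆ Set.range (c' ⁻¹ᵁ V).ι := by
          rw [Scheme.Opens.range_ι]
          rintro _ ⟨w, rfl⟩
          show c' (((q ⁻¹ᵁ U).ι ≫ q') w) ∈ V
          rw [← Scheme.Hom.comp_apply, Category.assoc, h0, Scheme.Hom.comp_apply]
          exact ((((q ∣_ U) ≫ (c ∣_ V))) w).2
        let k := IsOpenImmersion.lift (c' ⁻¹ᵁ V).ι ((q ⁻¹ᵁ U).ι ≫ q') hmem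
        have hk : k ≫ (c' ⁻¹ᵁ V).ι = (q ⁻¹ᵁ U).ι ≫ q' := IsOpenImmersion.lift_fac _ _ _
        have hsq1 : k ≫ (c' ∣_ V) = (q ∣_ U) ≫ (c ∣_ V) := by
          rw [← cancel_mono V.ι, Category.assoc, morphismRestrict_ι, reassoc_of% hk, h0]
        have hbig : IsPullback (q ∣_ U) (k ≫ (c' ⁻¹ᵁ V).ι) ((c ∣_ V) ≫ V.ι) c' := by
          rw [hk, morphismRestrict_ι]
          exact (isPullback_morphismRestrict q U).paste_vert hsq
        have := IsPullback.of_bot hbig hsq1.symm (isPullback_morphismRestrict c' V).flip.flip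
        exact MorphismProperty.of_isPullback (P := MorphismProperty.isomorphisms Scheme) this.flip
          (inferInstanceAs (IsIso (c' ∣_ V)))
      refine ⟨(q ⁻¹ᵁ U : P.Opens), (q ⁻¹ᵁ U).ι, inferInstance, ⟨⟨p, ?_⟩, rfl⟩, ?_⟩
      · show c (q p) ∈ V
        rw [← Scheme.Hom.comp_apply]; exact hx
      · rw [← Scheme.IdealSheafData.comap_comp, ← Category.assoc, Scheme.IdealSheafData.comap_comp]
        haveI : Flat ((q ⁻¹ᵁ U).ι ≫ q) := by
          rw [← morphismRestrict_ι]; infer_instance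
        exact Groth.Agent.ModPairBasic.ec_comap_flat hD _
  have e1 : BlowUp.IsEffCartierIdeal (I₁.comap π) :=
    hloc (pullback.fst σ₁ σ₂) σ₁ I₁ I₂ (pullback.snd σ₁ σ₂) σ₂ (IsPullback.of_hasPullback _ _) hσ₁.1 hσ₂ hcov
  have e2 : BlowUp.IsEffCartierIdeal (I₂.comap π) := by
    rw [show π = pullback.snd σ₁ σ₂ ≫ σ₂ from pullback.condition]
    exact hloc (pullback.snd σ₁ σ₂) σ₂ I₂ I₁ (pullback.fst σ₁ σ₂) σ₁ (IsPullback.of_hasPullback _ _).flip hσ₂.1 hσ₁
      (fun x => (hcov x).symm)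
  obtain ⟨k, hk, -⟩ := hσ.2 P π (by
    rw [hmul, Groth.Agent.BlowUpLib.comap_mul]
    exact Groth.Agent.ModPairBasic.ec_mul e1 e2)
  let ι : B ⟶ P := pullback.lift h1 h2 (hh1.trans hh2.symm)
  have hι : ι ≫ π = σ := by
    show pullback.lift h1 h2 _ ≫ pullback.fst σ₁ σ₂ ≫ σ₁ = σ
    rw [pullback.lift_fst_assoc, hh1]
  have hι1 : ι ≫ k = 𝟙 B := by
    obtain ⟨m, -, hm⟩ := hσ.2 B σ hσ.1
    exact (hm (ι ≫ k) (by show (ι ≫ k) ≫ σ = σ; rw [Category.assoc, hk, hι])).trans (hm (𝟙 B) (Category.id_comp σ)).symm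
  have hι2 : k ≫ ι = 𝟙 P := by
    apply pullback.hom_ext
    · obtain ⟨m, -, hm⟩ := hσ₁.2 P π e1
      rw [Category.id_comp, Category.assoc, pullback.lift_fst]
      exact (hm (k ≫ h1) (by show (k ≫ h1) ≫ σ₁ = π; rw [Category.assoc, hh1, hk])).trans
        (hm (pullback.fst σ₁ σ₂) rfl).symm
    · obtain ⟨m, -, hm⟩ := hσ₂.2 P π e2
      rw [Category.id_comp, Category.assoc, pullback.lift_snd]
      exact (hm (k ≫ h2) (by show (k ≫ h2) ≫ σ₂ = π; rw [Category.assoc, hh2, hk])).trans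
        (hm (pullback.snd σ₁ σ₂) pullback.condition.symm).symm
  haveI : IsIso ι := ⟨k, hι1, hι2⟩
  exact ⟨ι, inferInstance, hι⟩

end Groth.Agent.S17083
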