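import Groth.Statements.S17084
-- import your own Groth.Agent.* helpers here

set_option autoImplicit false
universe u
open CategoryTheory CategoryTheory.Limits AlgebraicGeometry
open MorSch

namespace Groth.Agent.S17084

/-- Let (X_i)_{i ∈ ι} be a finite family of schemes over S with structure morphisms g_i : X_i → S, let Y
→ S be a scheme over S and T an S-scheme. Then for every family of S-morphisms a_i : T ×_S X_i → Y
there is a unique S-morphism b : T ×_S (∐_i X_i) → Y whose restriction along each T ×_S X_i → T ×_S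
(∐_i X_i) is a_i. In other words the canonical map Mor_S(∐_i X_i, Y) → ∏_i Mor_S(X_i, Y) of functors
on S-schemes is an isomorphism. -/
theorem result
    {S Y : Scheme.{u}} {ι : Type u} [Finite ι] (X : ι → Scheme.{u}) (g : ∀ i, X i ⟶ S)
    (gY : Y ⟶ S) (T : Over S) (a : ∀ i, (Flatn.morS (g i) gY).obj (Opposite.op T)) :
    ∃! b : (Flatn.morS (Sigma.desc g) gY).obj (Opposite.op T),
      ∀ i, pullback.map T.hom (g i) T.hom (Sigma.desc g) (𝟙 T.left) (Sigma.ι X i) (𝟙 S)
          ((Category.comp_id _).trans (Category.id_comp _).symm)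
          ((Category.comp_id _).trans (Sigma.ι_desc g i).symm) ≫ b.left = (a i).left := by
  classical
  let m : ∀ i, pullback T.hom (g i) ⟶ pullback T.hom (Sigma.desc g) := fun i =>
    pullback.map T.hom (g i) T.hom (Sigma.desc g) (𝟙 T.left) (Sigma.ι X i) (𝟙 S)
      ((Category.comp_id _).trans (Category.id_comp _).symm)
      ((Category.comp_id _).trans (Sigma.ι_desc g i).symm)
  have hm : ∀ i, IsOpenImmersion (m i) := fun i => by
    show IsOpenImmersion (pullback.map _ _ _ _ _ _ _ _ _)
    infer_instance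
  have hcov : ∀ z, ∃ i y, m i y = z := by
    intro z
    obtain ⟨i, y, hy⟩ := (sigmaOpenCover X).exists_eq (pullback.snd T.hom (Sigma.desc g) z)
    refine ⟨i, ?_⟩
    have hr : Set.range (m i) = pullback.fst T.hom (Sigma.desc g) ⁻¹' Set.range (𝟙 T.left : T.left ⟶ T.left) ∩
        pullback.snd T.hom (Sigma.desc g) ⁻¹' Set.range (Sigma.ι X i) :=
      Scheme.Pullback.range_map _ _ _ _ _ _ _ _ _
    show z ∈ Set.range (m i)
    rw [hr]
    exact ⟨⟨_, rfl⟩, y, hy⟩
  let 𝒰 : (pullback T.hom (Sigma.desc g)).OpenCover :=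
    { I₀ := ι, X := fun i => pullback T.hom (g i), f := m,
      mem₀ := by
        rw [Scheme.presieve₀_mem_precoverage_iff]
        exact ⟨hcov, hm⟩ }
  have hmsnd : ∀ i, m i ≫ pullback.snd T.hom (Sigma.desc g) = pullback.snd T.hom (g i) ≫ Sigma.ι X i :=
    fun i => pullback.lift_snd _ _ _
  let b : pullback T.hom (Sigma.desc g) ⟶ Y := 𝒰.glueMorphisms (fun i => (a i).left) fun i j => by
    by_cases hij : i = j
    · subst hij
      have h : pullback.fst (m i) (m i) = pullback.snd (m i) (m i) := by
        haveI := hm i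
        rw [← cancel_mono (m i)]
        exact pullback.condition
      exact congrArg (· ≫ (a i).left) h
    · haveI : IsEmpty ↑(pullback (m i) (m j)) := isEmpty_of_commSq_sigmaι_of_ne
        (a := pullback.fst (m i) (m j) ≫ pullback.snd T.hom (g i))
        (b := pullback.snd (m i) (m j) ≫ pullback.snd T.hom (g j))
        ⟨by rw [Category.assoc, Category.assoc, ← hmsnd, ← hmsnd, pullback.condition_assoc]⟩ hij
      exact isInitialOfIsEmpty.hom_ext _ _
  have hb : ∀ i, m i ≫ b = (a i).left := fun i => Scheme.Cover.ι_glueMorphisms 𝒰 _ _ i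
  refine ⟨Over.homMk b ?_, hb, fun c hc => Over.OverMorphism.ext (Scheme.Cover.hom_ext 𝒰 _ _ fun i => ?_)⟩
  · refine Scheme.Cover.hom_ext 𝒰 _ _ fun i => ?_
    show m i ≫ b ≫ gY = m i ≫ pullback.snd T.hom (Sigma.desc g) ≫ Sigma.desc g
    rw [reassoc_of% hb, reassoc_of% hmsnd, Sigma.ι_desc]
    exact Over.w (a i)
  · exact (hc i).trans (hb i).symm

end Groth.Agent.S17084
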