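import Groth.Statements.S1712
import Groth.Agent.DualCx.LocEH
-- import your own Groth.Agent.* helpers here

set_option autoImplicit false
universe u
open CategoryTheory
attribute [local instance] HasDerivedCategory.standard
open Dual

namespace Groth.Agent.S1712

/-- Let A be a Noetherian local ring with a normalized dualizing complex ω, M a finite A-module and E^j
the A-module of maps M → ω[-j] in D(A). A prime p is in the support of one of E^0, …, E^i if and
only if the depth of M_p over A_p plus the dimension of A/p is at most i. -/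
theorem result (A : Type u) [CommRing A] [IsLocalRing A] [IsNoetherianRing A] (ω : Dual.D A) (hω : Dual.IsDualizing A ω) (hn : Dual.IsNormalized A ω) (M : Type u) [AddCommGroup M] [Module A M] [Module.Finite A M] (i : ℕ) (p : PrimeSpectrum A) : (∃ j : ℕ, j ≤ i ∧ p ∈ Module.support A (Dual.inD A M ⟶ ω⟦(-(j : ℤ))⟧)) ↔ ((LocCoh.depth (Localization.AtPrime p.asIdeal) (LocalizedModule p.asIdeal.primeCompl M) : ℕ∞) : WithBot ℕ∞) + ringKrullDim (A ⧸ p.asIdeal) ≤ (i : WithBot ℕ∞) := by
  obtain ⟨W, a, b, hW, hres, hzero, ⟨e⟩⟩ := Groth.Agent.DualCx.exists_residual hω hn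
  haveI := hW
  haveI := hres.injective
  let B := Localization.AtPrime p.asIdeal
  let N := LocalizedModule p.asIdeal.primeCompl M
  haveI : IsNoetherianRing B := IsLocalization.isNoetherianRing p.asIdeal.primeCompl _ inferInstance
  haveI : Module.Finite B N := Module.Finite.of_isLocalizedModule p.asIdeal.primeCompl (LocalizedModule.mkLinearMap p.asIdeal.primeCompl M)
  obtain ⟨c, hc, -, -⟩ := Groth.Agent.DualCx.exists_residual_at a b hω hzero e p.asIdeal
  have hiff : ∀ j : ℕ, p ∈ Module.support A (Dual.inD A M ⟶ ω⟦(-(j : ℤ))⟧) ↔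
      Nontrivial (Groth.Agent.DualCx.EH (Groth.Agent.DualCx.WAt W p.asIdeal) N (-(j : ℤ))) := fun j => by
    rw [LinearEquiv.support_eq (Groth.Agent.DualCx.homIso W e (ModuleCat.of A M) (-(j : ℤ)))]
    exact Groth.Agent.DualCx.mem_support_EH_iff W M p _
  simp only [hiff]
  obtain ⟨d, hd⟩ := Groth.Agent.DepthLib.exists_nat_supportDim (R := A) (A ⧸ p.asIdeal)
  haveI : Nontrivial (A ⧸ p.asIdeal) := Ideal.Quotient.nontrivial_iff.2 p.isPrime.ne_top
  rw [Module.supportDim_quotient_eq_ringKrullDim] at hd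
  obtain rfl := Groth.Agent.DualCx.residual_degree_eq hres p.asIdeal hc hd
  rcases subsingleton_or_nontrivial N with hN | hN
  · refine iff_of_false ?_ ?_
    · rintro ⟨j, -, hj⟩
      haveI : Subsingleton (Groth.Agent.DualCx.EH (Groth.Agent.DualCx.WAt W p.asIdeal) N (-(j : ℤ))) :=
        subsingleton_of_forall_eq 0 fun x => by
          have := Groth.Agent.DualCx.smul_eq_zero_of_killed (Groth.Agent.DualCx.WAt W p.asIdeal) (ModuleCat.of B N)
            (a := 1) (fun x => @Subsingleton.elim _ hN _ _) _ x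
          rwa [one_smul] at this
      exact not_nontrivial _ hj
    · rw [Groth.Agent.DepthLib.depth_eq_top_of_subsingleton (R := B) (M := N), hd]
      exact fun h => ENat.natCast_ne_top i (top_le_iff.1 (WithBot.coe_le_coe.1 (h : ((⊤ : ℕ∞) : WithBot ℕ∞) ≤ _)))
  obtain ⟨k, hk⟩ := Groth.Agent.DepthLib.exists_nat_depth (R := B) N
  obtain ⟨h1, h2⟩ := hc.depth_spec k N hk
  rw [hk, hd, show (((k : ℕ∞) : WithBot ℕ∞) + (d : WithBot ℕ∞) ≤ (i : WithBot ℕ∞)) ↔ k + d ≤ i by norm_cast]
  refine ⟨fun ⟨j, hj, hnt⟩ => ?_, fun h => ⟨k + d, h, ?_⟩⟩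
  · by_contra hlt
    haveI := h1 (-(j : ℤ)) (by omega)
    exact not_nontrivial _ hnt
  · rw [show (-(((k + d : ℕ) : ℤ))) = -(d : ℤ) - (k : ℤ) by omega]
    exact h2

end Groth.Agent.S1712
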