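import Groth.Statements.S1713
import Groth.Agent.DualCx.Bidual
-- import your own Groth.Agent.* helpers here

set_option autoImplicit false
universe u
open CategoryTheory
attribute [local instance] HasDerivedCategory.standard
open Dual

namespace Groth.Agent.S1713

/-- Let A be a Noetherian local ring with maximal ideal m and a normalized dualizing complex ω, and M a
finite A-module. For every i ≥ 0 the annihilator of the A-module of maps M → ω[-i] in D(A) equals
the annihilator of the local cohomology module H^i_m(M). -/
theorem result (A : Type u) [CommRing A] [IsLocalRing A] [IsNoetherianRing A] (ω : Dual.D A) (hω : Dual.IsDualizing A ω) (hn : Dual.IsNormalized A ω) (M : Type u) [AddCommGroup M] [Module A M] [Module.Finite A M] (i : ℕ) : Module.annihilator A (Dual.inD A M ⟶ ω⟦(-(i : ℤ))⟧) = Module.annihilator A (LocCoh.H (IsLocalRing.maximalIdeal A) i M) := by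
  haveI : DRing.HasRgammaI (IsLocalRing.maximalIdeal A) := Groth.Agent.RGamma.hasRgammaI _
  obtain ⟨E, _, _, f, hf⟩ := Groth.Agent.MatlisLib.exists_hull (R := A) (IsLocalRing.ResidueField A)
  have hfin : ∀ q : ℤ, Module.Finite A (Dual.HD A (Dual.inD A M) q) := fun q => by
    by_cases hq : q = 0
    · subst hq
      haveI : Module.Finite A ((𝟭 (ModuleCat.{u} A)).obj (ModuleCat.of A M)) := ‹Module.Finite A M›
      exact Module.Finite.equiv ((DerivedCategory.singleFunctorCompHomologyFunctorIso (ModuleCat.{u} A) 0).app
        (ModuleCat.of A M)).toLinearEquiv.symm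
    · haveI : Subsingleton (Dual.HD A (Dual.inD A M) q) := ModuleCat.subsingleton_of_isZero (by
        rcases lt_or_gt_of_ne hq with h | h
        · exact DerivedCategory.isZero_of_isGE _ 0 q h
        · exact DerivedCategory.isZero_of_isLE _ 0 q h)
      exact Module.Finite.of_finite
  obtain ⟨g0⟩ := Groth.Agent.DualCx.LD.nonempty_H_HDI (IsLocalRing.maximalIdeal A) M i
  obtain ⟨hH, ⟨g⟩⟩ := Groth.Agent.DualCx.local_duality hω hn E f hf (Dual.inD A M) hfin (i : ℤ)
  haveI := hH
  rw [(g0 ≪≫ₗ g).annihilator_eq]
  exact Groth.Agent.DualCx.annihilator_dual_eq hf _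

end Groth.Agent.S1713
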