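import Groth.Statements.S17139
import Groth.Agent.IsocLib.Effective
-- import your own Groth.Agent.* helpers here

set_option autoImplicit false
universe u v
open Isoc

namespace Groth.Agent.S17139

/-- Let k be a perfect field of characteristic p, a ∈ ℤ, and (N, F) a non-zero σ^a-F-isocrystal over k
of height h, with b an L-basis of N indexed by Fin h and d the p-adic order of the determinant
coefficient of F in the basis b. If M is a W(k)-lattice in N and r ∈ ℤ, s > 0 satisfy F^s(M) = p^r ·
M, then the first Newton slope λ₁(N, F) equals r/s, and r · h = s · d. (The published statement adds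
that F^h(M) = p^d · M for the same lattice M; that clause is not established by the published proof
and fails when gcd(r, s) ≠ 1 — for a = 0, N = L², M = W², F with matrix rows (p, 1), (0, p) and p
odd one has F^p(M) = p^p · M, h = d = 2, but F²(M) ≠ p² · M — so it is omitted here; the converse
direction is a separate statement.) -/
theorem result (p : ℕ) [Fact p.Prime] (k : Type u) [Field k] [CharP k p] [PerfectRing k p] (a : ℤ)
    (N : Type v) [AddCommGroup N] [Module (WittVector p k) N] [Module (FractionRing (WittVector p k)) N]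
    [IsScalarTower (WittVector p k) (FractionRing (WittVector p k)) N]
    [Nontrivial N] (F : N →ₛₗ[Isoc.frob p k a] N) (hF : Isoc.IsIsoc F)
    (h : ℕ) (b : Module.Basis (Fin h) (FractionRing (WittVector p k)) N)
    (d : ℤ) (hd : Isoc.IsOrdP (Isoc.detCoeff b F) d)
    (M : Submodule (WittVector p k) N) (hM : M.IsLattice (FractionRing (WittVector p k)))
    (r : ℤ) (s : ℕ) (hs : 0 < s) (hFM : Isoc.latImg F s M = Isoc.pPow r M) :
    Isoc.IsFirstSlope F ((r : ℝ) / s) ∧ r * h = s * d := by
  open Groth.Agent.IsocLib Filter in
  haveI := hF.finite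
  have hd' : DetOrd F d := ⟨h, b, hd⟩
  have hh : Module.finrank _ N = h := (Module.finrank_eq_card_basis b).trans (Fintype.card_fin h)
  refine ⟨?_, hh ▸ mul_eq_of_latImg_eq hF.bijective hM hd' hFM⟩
  obtain ⟨lam, hlam⟩ := exists_tendsto_ordFun hF.bijective hM
  have hS := isFirstSlope_of_tendsto hF.bijective hM hlam
  have hpow : ∀ j : ℕ, Isoc.latImg F (j * s) M = Isoc.pPow ((j : ℤ) * r) M := by
    intro j
    induction j with
    | zero => simp [latImg_zero, pPow_zero]
    | succ j ih =>
      rw [Nat.succ_mul, ← latImg_latImg, hFM, latImg_pPow, ih, pPow_pPow]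
      congr 1
      push_cast
      ring
  have hord : ∀ j : ℕ, ordFun hF.bijective hM (j * s) = (j : ℤ) * r := fun j =>
    ordFun_eq _ _ ⟨(hpow j).le, fun h2 => by
      rw [hpow j, add_comm, ← pPow_pPow, show Isoc.pPow 1 (Isoc.pPow ((j : ℤ) * r) M) =
        Isoc.pPow ((j : ℤ) * r) (Isoc.pPow 1 M) by rw [pPow_pPow, pPow_pPow, add_comm],
        pPow_le_pPow_iff] at h2
      exact (isOrd_zero hF.bijective hM).2 (by rwa [latImg_zero, zero_add])⟩
  have hl : lam = (r : ℝ) / s := by
    refine tendsto_nhds_unique (hlam.comp (tendsto_id.atTop_mul_const' hs)) ?_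
    refine tendsto_const_nhds.congr' ((eventually_ge_atTop 1).mono fun j hj => ?_)
    have hj' : (j : ℝ) ≠ 0 := by positivity
    simp only [Function.comp_apply, id, hord]
    push_cast
    field_simp
  exact hl ▸ hS

end Groth.Agent.S17139
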