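import Groth.Statements.S17157
import Groth.Agent.IsocLib.Split
-- import your own Groth.Agent.* helpers here

set_option autoImplicit false
universe u
open Isoc

namespace Groth.Agent.S17157

/-- Let k be a finite field of characteristic p, W = W(k), L its fraction field with Frobenius σ, and
let U be the σ-semilinear endomorphism of L² = (Fin 2 → L) determined by U(e₀) = e₀ and U(e₁) = e₀ +
e₁ on the standard basis. Then (L², U) is an F-isocrystal in which the sub-isocrystal L · e₀ admits
no U-stable complementary L-subspace; in particular the category of F-isocrystals over a finite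
field is not semisimple. (Over an algebraically closed field a complement exists.) -/
theorem result
    (p : ℕ) [Fact p.Prime] (k : Type u) [Field k] [CharP k p] [PerfectRing k p] [Finite k]
    (U : (Fin 2 → (FractionRing (WittVector p k))) →ₛₗ[Isoc.frob p k 1] (Fin 2 → (FractionRing (WittVector p k))))
    (hU0 : U (Pi.single 0 1) = Pi.single 0 1)
    (hU1 : U (Pi.single 1 1) = Pi.single 0 1 + Pi.single 1 1)
    (Q : Submodule (FractionRing (WittVector p k)) (Fin 2 → (FractionRing (WittVector p k)))) (hQ : ∀ x ∈ Q, U x ∈ Q) :
    ¬ IsCompl (Submodule.span (FractionRing (WittVector p k)) {(Pi.single 0 1 : Fin 2 → (FractionRing (WittVector p k)))}) Q := by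
  open Groth.Agent.IsocLib in
  intro hc
  obtain ⟨y, hy, q, hq, hsum⟩ := Submodule.mem_sup.1
    (hc.sup_eq_top.symm ▸ Submodule.mem_top : (Pi.single 1 1 : Fin 2 → _) ∈
      Submodule.span _ {(Pi.single 0 1 : Fin 2 → FractionRing (WittVector p k))} ⊔ Q)
  obtain ⟨c, rfl⟩ := Submodule.mem_span_singleton.1 hy
  have hq' : q = Pi.single 1 1 - c • Pi.single 0 1 := eq_sub_of_add_eq' hsum
  subst hq'
  have hU := Q.sub_mem (hQ _ hq) hq
  rw [map_sub, LinearMap.map_smulₛₗ, hU0, hU1] at hU
  have hcoef : (1 - Isoc.frob p k 1 c + c) • (Pi.single 0 1 : Fin 2 → FractionRing (WittVector p k)) = 0 := by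
    refine (Submodule.mem_bot _).1 (hc.disjoint.le_bot ⟨Submodule.smul_mem _ _ (Submodule.mem_span_singleton_self _), ?_⟩)
    rw [SetLike.mem_coe]
    convert hU using 1
    rw [add_smul, sub_smul, one_smul]
    abel
  have hstep : Isoc.frob p k 1 c = c + 1 := by
    have := congrFun hcoef 0
    simp at this
    linear_combination -this
  have hiter : ∀ n : ℕ, (⇑(Isoc.frob p k 1))^[n] c = c + n := by
    intro n
    induction n with
    | zero => simp
    | succ n ih => rw [Function.iterate_succ_apply', ih, map_add, hstep, map_natCast]; push_cast; ring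
  haveI := Fintype.ofFinite k
  obtain ⟨m, -, hm⟩ := FiniteField.card k p
  have hfix : ∀ x : FractionRing (WittVector p k), (⇑(Isoc.frob p k 1))^[(m : ℕ)] x = x := by
    intro x
    have : (Isoc.frob p k 1) ^ (m : ℕ) = RingHom.id (FractionRing (WittVector p k)) := by
      refine IsLocalization.ringHom_ext (nonZeroDivisors (WittVector p k)) (RingHom.ext fun w => ?_)
      simp only [RingHom.comp_apply, RingHom.id_apply, RingHom.coe_pow]
      have hw : ∀ n : ℕ, (⇑(Isoc.frob p k 1))^[n] (algebraMap (WittVector p k) _ w) =
          algebraMap (WittVector p k) (FractionRing (WittVector p k))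
            ((⇑(WittVector.frobenius : WittVector p k →+* WittVector p k))^[n] w) := by
        intro n
        induction n with
        | zero => rfl
        | succ n ih =>
          rw [Function.iterate_succ_apply', ih, Function.iterate_succ_apply', Isoc.frob_algebraMap,
            zpow_one]
          rfl
      rw [hw]
      congr 1
      ext n
      rw [WittVector.iterate_frobenius_coeff, ← hm, FiniteField.pow_card]
    exact (congrFun (RingHom.coe_pow _ _) x).symm.trans (DFunLike.congr_fun this x)
  have h0 := (hiter m).symm.trans (hfix c)
  haveI : CharZero (WittVector p k) := charZero_of_inj_zero fun n hn => by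
    by_contra h0'
    obtain ⟨e, b, hb, rfl⟩ := Nat.exists_eq_pow_mul_and_not_dvd h0' p (Fact.out : p.Prime).ne_one
    push_cast at hn
    rcases mul_eq_zero.1 hn with h | h
    · exact pow_ne_zero e (WittVector.p_nonzero p k) h
    · have := congrArg (WittVector.constantCoeff : WittVector p k →+* k) h
      rw [map_natCast, map_zero] at this
      exact hb ((CharP.cast_eq_zero_iff k p b).1 this)
  haveI : CharZero (FractionRing (WittVector p k)) := IsFractionRing.charZero (WittVector p k)
  exact m.pos.ne' (Nat.cast_eq_zero.1 (add_eq_left.1 h0))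

end Groth.Agent.S17157
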