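import Groth.Statements.S1717
import Groth.Agent.DepthLib.Sk
import Groth.Agent.DepthLib.CMModule
import Groth.Agent.Hironaka.Catenary

set_option autoImplicit false
universe u
open LocCoh

namespace Groth.Agent.S1717

namespace Aux1717
open IsLocalRing
open Pointwise

/-- If `x` is regular and `y` is regular modulo `x`, then `y` is regular modulo `x ^ n`. -/
theorem dvd_of_pow_dvd {R : Type*} [CommRing R] {x y : R} (hx : IsSMulRegular R x)
    (hy : ∀ r, x ∣ y * r → x ∣ r) : ∀ (n : ℕ) (r : R), x ^ n ∣ y * r → x ^ n ∣ r := by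
  intro n
  induction n with
  | zero => intro r _; simp
  | succ k ih =>
    intro r hr
    obtain ⟨s, hs⟩ := hr
    obtain ⟨r', rfl⟩ := hy r ⟨x ^ k * s, by rw [hs]; ring⟩
    obtain ⟨t, ht⟩ := ih r' ⟨s, hx (by simp only [smul_eq_mul]; linear_combination hs)⟩
    exact ⟨t, by rw [ht]; ring⟩

theorem dvd_of_pow_mul {R : Type*} [CommRing R] {x y : R}
    (hy : ∀ r, x ∣ y * r → x ∣ r) : ∀ (n : ℕ) (r : R), x ∣ y ^ n * r → x ∣ r := by
  intro n
  induction n with
  | zero => intro r h; simpa using h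
  | succ k ih => intro r h; exact ih r (hy _ (by rwa [← mul_assoc, ← pow_succ']))

/-- Hartshorne: in a local ring of depth at least two, two ideals with zero product whose sum
contains a power of the regular pair cannot both be nonzero. -/
theorem core {R : Type*} [CommRing R] [IsLocalRing R] {I J : Ideal R} (hIJ : I * J = ⊥)
    (hI : I ≠ ⊥) (hJ : J ≠ ⊥) {x y : R} (hxm : x ∈ I ⊔ J) (hym : y ∈ I ⊔ J)
    (hx : IsSMulRegular R x) (hy : ∀ r, x ∣ y * r → x ∣ r) : False := by
  have h0 : ∀ i ∈ I, ∀ j ∈ J, i * j = 0 := fun i hi j hj =>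
    (Submodule.mem_bot R).mp (hIJ ▸ Ideal.mul_mem_mul hi hj)
  have hreg : ∀ z, x * z = 0 → z = 0 := fun z hz => hx (by simpa using hz)
  obtain ⟨a, ha, b, hb, hab⟩ := Submodule.mem_sup.mp hxm
  obtain ⟨i, hi, j, hj, hij⟩ := Submodule.mem_sup.mp hym
  have hdvd : x ∣ y * a := ⟨i, by
    have h1 := h0 i hi b hb
    have h2 := h0 a ha j hj
    rw [← hab, ← hij]; linear_combination h2 - h1⟩
  obtain ⟨c, hc⟩ := hy a hdvd
  rcases IsLocalRing.isUnit_or_isUnit_of_add_one (show c + (1 - c) = 1 by ring) with hu | hu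
  · obtain ⟨d, hd⟩ := hu.exists_left_inv
    have hbI : b ∈ I := by
      have hb' : b = a * (d * (1 - c)) := by
        rw [← hab] at hc
        linear_combination (-b) * hd - d * hc
      rw [hb']; exact I.mul_mem_right _ ha
    have hb0 : b = 0 := hreg b (by
      rw [← hab]; linear_combination h0 a ha b hb + h0 b hbI b hb)
    rw [hb0, add_zero] at hab
    exact hJ ((Submodule.eq_bot_iff _).mpr fun z hz => hreg z (by rw [← hab]; exact h0 a ha z hz))
  · obtain ⟨d, hd⟩ := hu.exists_left_inv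
    have haJ : a ∈ J := by
      have ha' : a = b * (d * c) := by
        rw [← hab] at hc
        linear_combination (-a) * hd + d * hc
      rw [ha']; exact J.mul_mem_right _ hb
    have ha0 : a = 0 := hreg a (by
      rw [← hab]; linear_combination h0 a ha b hb + h0 a ha a haJ)
    rw [ha0, zero_add] at hab
    exact hI ((Submodule.eq_bot_iff _).mpr fun z hz =>
      hreg z (by rw [← hab, mul_comm]; exact h0 z hz b hb))

/-- The punctured spectrum of a local ring of depth at least two is connected. -/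
theorem false_of_disconnected {R : Type u} [CommRing R] [IsLocalRing R] [IsNoetherianRing R]
    (hd : 2 ≤ LocCoh.depth R R) {I J : Ideal R} (hn : I * J ≤ nilradical R)
    (hI : ¬ I ≤ nilradical R) (hJ : ¬ J ≤ nilradical R)
    (hm : maximalIdeal R ≤ (I ⊔ J).radical) : False := by
  obtain ⟨n, hnil⟩ := IsNoetherianRing.isNilpotent_nilradical R
  have hne : ∀ K : Ideal R, ¬ K ≤ nilradical R → K ^ n ≠ ⊥ := fun K hK h => hK fun z hz =>
    ⟨n, (Submodule.mem_bot R).mp (h ▸ Ideal.pow_mem_pow hz n)⟩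
  have hprod : I ^ n * J ^ n = ⊥ := by
    rw [← mul_pow, ← le_bot_iff]
    exact (Ideal.pow_right_mono hn n).trans (le_of_eq hnil)
  have hrad : maximalIdeal R ≤ (I ^ n ⊔ J ^ n).radical := fun z hz => by
    obtain ⟨k, hk⟩ := hm hz
    exact ⟨k * (n + n), by
      rw [pow_mul]; exact Ideal.sup_pow_add_le_pow_sup_pow (Ideal.pow_mem_pow hk (n + n))⟩
  obtain ⟨x, hxm, hx, y, hym, hy⟩ := Groth.Agent.DepthLib.two_le_idealDepth_iff.mp
    (show 2 ≤ LocCoh.idealDepth (maximalIdeal R) R from hd)
  obtain ⟨k, hk⟩ := hrad hxm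
  obtain ⟨l, hl⟩ := hrad hym
  have hy' : ∀ r, x ∣ y * r → x ∣ r := by
    intro r hr
    obtain ⟨s, hs⟩ := hr
    have h0 : Submodule.Quotient.mk (p := x • (⊤ : Submodule R R)) r = 0 := by
      refine hy ?_
      simp only [smul_zero]
      change y • Submodule.Quotient.mk (p := x • (⊤ : Submodule R R)) r = 0
      rw [← Submodule.Quotient.mk_smul, Submodule.Quotient.mk_eq_zero,
        Submodule.mem_smul_pointwise_iff_exists]
      exact ⟨s, trivial, by simp [hs]⟩
    rw [Submodule.Quotient.mk_eq_zero, Submodule.mem_smul_pointwise_iff_exists] at h0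
    obtain ⟨t, -, ht⟩ := h0
    exact ⟨t, by simpa using ht.symm⟩
  refine core hprod (hne I hI) (hne J hJ) hk hl (hx.pow k) ?_
  intro r hr
  exact dvd_of_pow_mul (fun r => dvd_of_pow_dvd hx hy' k r) l r hr

theorem equidim (A : Type u) [CommRing A] [IsLocalRing A] [IsNoetherianRing A]
    (hc : CAlg.IsCatenary A) (hS : LocCoh.HasSk 2 A A) (p : Ideal A) (hp : p ∈ minimalPrimes A)
    (q : Ideal A) (hq : q ∈ minimalPrimes A) : ringKrullDim (A ⧸ q) = ringKrullDim (A ⧸ p) := by
  by_contra hne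
  set S : Set (Ideal A) := {r ∈ minimalPrimes A | ringKrullDim (A ⧸ r) = ringKrullDim (A ⧸ p)}
  set T : Set (Ideal A) := {r ∈ minimalPrimes A | ringKrullDim (A ⧸ r) ≠ ringKrullDim (A ⧸ p)}
  have hfin : (minimalPrimes A).Finite := minimalPrimes.finite_of_isNoetherianRing A
  have hSf : S.Finite := hfin.subset fun r hr => hr.1
  have hTf : T.Finite := hfin.subset fun r hr => hr.1
  set I := hSf.toFinset.inf id with hIdef
  set J := hTf.toFinset.inf id with hJdef
  have hIle : ∀ r ∈ S, I ≤ r := fun r hr => Finset.inf_le (f := id) (hSf.mem_toFinset.mpr hr)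
  have hJle : ∀ r ∈ T, J ≤ r := fun r hr => Finset.inf_le (f := id) (hTf.mem_toFinset.mpr hr)
  have hle : I ⊔ J ≤ maximalIdeal A := sup_le
    ((hIle p ⟨hp, rfl⟩).trans (le_maximalIdeal hp.isPrime.ne_top))
    ((hJle q ⟨hq, hne⟩).trans (le_maximalIdeal hq.isPrime.ne_top))
  obtain ⟨P, hP, -⟩ := Ideal.exists_minimalPrimes_le hle
  have hPp : P.IsPrime := hP.isPrime
  have hPle : I ⊔ J ≤ P := hP.1.2
  obtain ⟨s, hs, hsP⟩ := (Ideal.IsPrime.inf_le' hPp).mp (le_sup_left.trans hPle : I ≤ P)
  obtain ⟨t, ht, htP⟩ := (Ideal.IsPrime.inf_le' hPp).mp (le_sup_right.trans hPle : J ≤ P)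
  replace hs := hSf.mem_toFinset.mp hs
  replace ht := hTf.mem_toFinset.mp ht
  simp only [id] at hsP htP
  have hst : s ≠ t := fun h => ht.2 (h ▸ hs.2)
  -- the height of `P` is at least two
  have hht : (2 : ℕ∞) ≤ P.height := by
    by_contra hlt
    rw [not_le] at hlt
    have hcov : ∀ r ∈ minimalPrimes A, ∀ hr : r.IsPrime, r < P →
        (⟨r, hr⟩ : PrimeSpectrum A) ⋖ ⟨P, hPp⟩ := by
      intro r _ hr hlt'
      refine ⟨hlt', fun m h1 h2 => ?_⟩
      have := m.2
      have e0 : (1 : ℕ∞) ≤ m.asIdeal.height :=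
        (by simp : (1 : ℕ∞) ≤ r.height + 1).trans (Ideal.height_add_one_le_of_lt_of_isPrime h1)
      have e1 : (2 : ℕ∞) ≤ P.height :=
        (show (2 : ℕ∞) ≤ m.asIdeal.height + 1 from by
          rw [← one_add_one_eq_two]; exact add_le_add e0 le_rfl).trans
          (Ideal.height_add_one_le_of_lt_of_isPrime h2)
      exact hlt.not_ge e1
    have hsP' : s < P := lt_of_le_of_ne hsP fun h => hst (le_antisymm
      (hs.1.2 ⟨ht.1.isPrime, bot_le⟩ (htP.trans h.ge)) (htP.trans h.ge))
    have htP' : t < P := lt_of_le_of_ne htP fun h => hst (le_antisymm (hsP.trans h.ge)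
      (ht.1.2 ⟨hs.1.isPrime, bot_le⟩ (hsP.trans h.ge)))
    have e1 := Groth.Agent.Hironaka.coheight_of_covBy hc (hcov s hs.1 hs.1.isPrime hsP')
    have e2 := Groth.Agent.Hironaka.coheight_of_covBy hc (hcov t ht.1 ht.1.isPrime htP')
    have e3 := congrArg (fun z : ℕ∞ => (z : WithBot ℕ∞)) (e1.trans e2.symm)
    simp only [Groth.Agent.Hironaka.coheight_eq_ringKrullDim_quotient] at e3
    exact ht.2 (e3 ▸ hs.2)
  -- the depth at `P` is at least two
  have hdepth : 2 ≤ LocCoh.depth (Localization.AtPrime P) (Localization.AtPrime P) := by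
    have h := hS P
    let e : LocalizedModule P.primeCompl A ≃ₗ[Localization.AtPrime P] Localization.AtPrime P :=
      (IsLocalizedModule.linearEquiv P.primeCompl (LocalizedModule.mkLinearMap P.primeCompl A)
        (Algebra.linearMap A (Localization.AtPrime P))).extendScalarsOfIsLocalization P.primeCompl _
    rw [Groth.Agent.DepthLib.depth_congr e, Module.supportDim_eq_of_equiv e,
      Module.supportDim_self_eq_ringKrullDim, IsLocalization.AtPrime.ringKrullDim_eq_height P] at h
    exact WithBot.coe_le_coe.mp ((le_min le_rfl (WithBot.coe_le_coe.mpr hht)).trans h)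
  let f := algebraMap A (Localization.AtPrime P)
  have hcap : I * J ≤ nilradical A := by
    rw [nilradical, Ideal.radical_eq_sInf]
    refine le_sInf fun r hr => ?_
    have := hr.2
    obtain ⟨m, hm, hmr⟩ := Ideal.exists_minimalPrimes_le (I := ⊥) (J := r) bot_le
    by_cases h : ringKrullDim (A ⧸ m) = ringKrullDim (A ⧸ p)
    · exact ((Ideal.mul_le_inf.trans inf_le_left).trans (hIle m ⟨hm, h⟩)).trans hmr
    · exact ((Ideal.mul_le_inf.trans inf_le_right).trans (hJle m ⟨hm, h⟩)).trans hmr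
  have hnot : ∀ (K : Ideal A) (r : Ideal A), r.IsPrime → r ≤ P → ¬ K ≤ r →
      ¬ K.map f ≤ nilradical (Localization.AtPrime P) := by
    intro K r hr hrP hKr hK
    have hdisj : Disjoint (P.primeCompl : Set A) (r : Set A) :=
      Set.disjoint_left.mpr fun z hz hz' => hz (hrP hz')
    have := IsLocalization.isPrime_of_isPrime_disjoint P.primeCompl (Localization.AtPrime P) r hr hdisj
    have h1 := Ideal.map_le_iff_le_comap.mp (hK.trans (nilradical_le_prime (r.map f)))
    exact hKr (h1.trans (le_of_eq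
      (IsLocalization.under_map_of_isPrime_disjoint P.primeCompl (Localization.AtPrime P) hr hdisj)))
  have hIt : ¬ I ≤ t := fun h => by
    obtain ⟨r, hr, hrt⟩ := (Ideal.IsPrime.inf_le' ht.1.isPrime).mp h
    replace hr := hSf.mem_toFinset.mp hr
    simp only [id] at hrt
    exact ht.2 (le_antisymm hrt (ht.1.2 ⟨hr.1.isPrime, bot_le⟩ hrt) ▸ hr.2)
  have hJs : ¬ J ≤ s := fun h => by
    obtain ⟨r, hr, hrs⟩ := (Ideal.IsPrime.inf_le' hs.1.isPrime).mp h
    replace hr := hTf.mem_toFinset.mp hr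
    simp only [id] at hrs
    exact hr.2 (le_antisymm hrs (hs.1.2 ⟨hr.1.isPrime, bot_le⟩ hrs) ▸ hs.2)
  refine false_of_disconnected hdepth (I := I.map f) (J := J.map f) ?_
    (hnot I t ht.1.isPrime htP hIt) (hnot J s hs.1.isPrime hsP hJs) ?_
  · rw [← Ideal.map_mul]
    refine (Ideal.map_mono hcap).trans (Ideal.map_le_iff_le_comap.mpr fun z hz => ?_)
    exact IsNilpotent.map hz f
  · rw [← Ideal.map_sup, Ideal.radical_eq_sInf]
    refine le_sInf fun r hr => ?_
    have := hr.2
    have h1 : r.comap f ≤ P := by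
      exact (Ideal.comap_mono (le_maximalIdeal hr.2.ne_top)).trans
        (le_of_eq Localization.AtPrime.under_maximalIdeal)
    have h2 : P ≤ r.comap f := hP.2 ⟨inferInstance, Ideal.map_le_iff_le_comap.mp hr.1⟩ h1
    rw [← Localization.AtPrime.map_eq_maximalIdeal]
    exact Ideal.map_le_iff_le_comap.mpr h2

end Aux1717


/-- Let A be a catenary Noetherian local ring satisfying Serre's condition (S_2). Then Spec A is
equidimensional: for every minimal prime p of A the dimension of A/p equals the dimension of A. -/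
theorem result (A : Type u) [CommRing A] [IsLocalRing A] [IsNoetherianRing A] (hc : CAlg.IsCatenary A) (hS : LocCoh.HasSk 2 A A) (p : Ideal A) (hp : p ∈ minimalPrimes A) : ringKrullDim (A ⧸ p) = ringKrullDim A := by
  obtain ⟨q, hq, hqd⟩ := Groth.Agent.DepthLib.exists_mem_support_ringKrullDim_eq (R := A) (M := A)
  rw [Module.supportDim_self_eq_ringKrullDim] at hqd
  obtain ⟨m, hm, hmq⟩ := Ideal.exists_minimalPrimes_le (I := ⊥) (J := q.asIdeal) bot_le
  have := hm.isPrime
  have h1 : ringKrullDim (A ⧸ q.asIdeal) ≤ ringKrullDim (A ⧸ m) :=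
    ringKrullDim_le_of_surjective _ (Ideal.Quotient.factor_surjective hmq)
  rw [Aux1717.equidim A hc hS m hm p hp]
  exact le_antisymm (ringKrullDim_quotient_le m) (hqd ▸ h1)


end Groth.Agent.S1717
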