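import Groth.Statements.S17171
set_option linter.style.setOption false
set_option linter.unusedVariables false

set_option autoImplicit false
open QSymFn

namespace Groth.Agent.S17171

/-- The ring QSym of quasisymmetric functions over ℤ, with its restriction maps to the polynomial rings
in finitely many ordered variables, is the limit of the diagram S ↦ ℤ[α_s : s ∈ S] over finite
ordered sets S and order-preserving injections (an injection φ : S → T acting by α_t ↦ α_s when t =
φ s and α_t ↦ 0 otherwise), the limit being taken in graded rings. Stated here on degree-d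
components, with the variables indexed by ℕ in place of the positive integers and the finite ordered
sets taken to be the Fin n: (a) if F is a formal power series over ℤ in variables indexed by ℕ which
is quasisymmetric (for strictly increasing i, j : Fin ℓ → ℕ and positive exponents a, the
coefficients of ∏ x_{i t}^{a t} and ∏ x_{j t}^{a t} agree) and all of whose monomials have degree d,
then its restrictions to the initial segments Fin n ⊂ ℕ are compatible with every order embedding
Fin n ↪o Fin m; (b) every family of degree-d homogeneous polynomials f n ∈ ℤ[x_s : s ∈ Fin n],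
compatible with all order embeddings Fin n ↪o Fin m in this sense, is the family of restrictions of
exactly one such quasisymmetric F of degree d. -/
theorem result (d : ℕ) :
    (∀ F : MvPowerSeries ℕ ℤ,
      (∀ (ℓ : ℕ) (i j : Fin ℓ → ℕ) (a : Fin ℓ → ℕ), StrictMono i → StrictMono j → (∀ t, 0 < a t) →
        MvPowerSeries.coeff (∑ t : Fin ℓ, Finsupp.single (i t) (a t)) F =
          MvPowerSeries.coeff (∑ t : Fin ℓ, Finsupp.single (j t) (a t)) F) →
      (∀ e : ℕ →₀ ℕ, MvPowerSeries.coeff e F ≠ 0 → e.degree = d) →
      ∀ (n m : ℕ) (φ : Fin n ↪o Fin m) (e : Fin n →₀ ℕ),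
        MvPowerSeries.coeff (Finsupp.mapDomain Fin.val e) F =
          MvPowerSeries.coeff (Finsupp.mapDomain Fin.val (Finsupp.mapDomain φ e)) F) ∧
    (∀ f : (n : ℕ) → MvPolynomial (Fin n) ℤ,
      (∀ n, (f n).IsHomogeneous d) →
      (∀ (n m : ℕ) (φ : Fin n ↪o Fin m) (e : Fin n →₀ ℕ),
        MvPolynomial.coeff e (f n) = MvPolynomial.coeff (Finsupp.mapDomain φ e) (f m)) →
      ∃! F : MvPowerSeries ℕ ℤ,
        (∀ (ℓ : ℕ) (i j : Fin ℓ → ℕ) (a : Fin ℓ → ℕ), StrictMono i → StrictMono j → (∀ t, 0 < a t) →
          MvPowerSeries.coeff (∑ t : Fin ℓ, Finsupp.single (i t) (a t)) F =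
            MvPowerSeries.coeff (∑ t : Fin ℓ, Finsupp.single (j t) (a t)) F) ∧
        (∀ e : ℕ →₀ ℕ, MvPowerSeries.coeff e F ≠ 0 → e.degree = d) ∧
        (∀ (n : ℕ) (e : Fin n →₀ ℕ),
          MvPowerSeries.coeff (Finsupp.mapDomain Fin.val e) F = MvPolynomial.coeff e (f n))) := by
  classical
  have hsum : ∀ {α : Type} (e : α →₀ ℕ) {g : α → ℕ}, Finsupp.mapDomain g e
      = ∑ a ∈ e.support, Finsupp.single (g a) (e a) := fun e g => rfl
  constructor
  · intro F hF _ n m φ e
    let em := e.support.orderEmbOfFin (rfl : e.support.card = e.support.card)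
    have key : ∀ g : Fin n → ℕ, Finsupp.mapDomain g e
        = ∑ t : Fin e.support.card, Finsupp.single (g (em t)) (e (em t)) := by
      intro g
      rw [hsum e]
      have himg : Finset.image em Finset.univ = e.support := Finset.image_orderEmbOfFin_univ _ _
      conv_lhs => rw [← himg]
      rw [Finset.sum_image (fun a _ b _ h => em.injective h)]
    rw [← Finsupp.mapDomain_comp, key, key]
    refine hF _ _ _ (fun t => e (em t)) ?_ ?_ ?_
    · exact fun a b h => em.strictMono h
    · exact fun a b h => φ.strictMono (em.strictMono h)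
    · intro t
      have := Finset.orderEmbOfFin_mem e.support rfl t
      rw [Finsupp.mem_support_iff] at this
      exact Nat.pos_of_ne_zero this
  · intro f hf hc
    let N : (ℕ →₀ ℕ) → ℕ := fun E => E.support.sup id + 1
    let C : (E : ℕ →₀ ℕ) → Fin (N E) →₀ ℕ := fun E =>
      Finsupp.comapDomain Fin.val E (Fin.val_injective.injOn)
    have hC : ∀ E, Finsupp.mapDomain Fin.val (C E) = E := by
      intro E
      refine Finsupp.mapDomain_comapDomain _ Fin.val_injective _ ?_
      intro x hx
      have : x ≤ E.support.sup id := Finset.le_sup (f := id) hx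
      exact ⟨⟨x, by simp only [N]; omega⟩, rfl⟩
    let F : MvPowerSeries ℕ ℤ := fun E => MvPolynomial.coeff (C E) (f (N E))
    have hFc : ∀ E, MvPowerSeries.coeff E F = MvPolynomial.coeff (C E) (f (N E)) := fun E => rfl
    have K : ∀ (n : ℕ) (e : Fin n →₀ ℕ),
        MvPowerSeries.coeff (Finsupp.mapDomain Fin.val e) F = MvPolynomial.coeff e (f n) := by
      intro n e
      set E := Finsupp.mapDomain Fin.val e with hE
      rw [hFc, hc _ (max n (N E)) (Fin.castLEOrderEmb (le_max_right _ _)),
        hc n (max n (N E)) (Fin.castLEOrderEmb (le_max_left _ _)) e]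
      congr 1
      apply Finsupp.mapDomain_injective Fin.val_injective
      rw [← Finsupp.mapDomain_comp, ← Finsupp.mapDomain_comp]
      exact (hC E).trans hE
    refine ⟨F, ⟨?_, ?_, K⟩, ?_⟩
    · intro l i j a hi hj _
      let n := (Finset.univ.image i ∪ Finset.univ.image j).sup id + 1
      have key : ∀ k : Fin l → ℕ, StrictMono k → (∀ t, k t < n) →
          MvPowerSeries.coeff (∑ t, Finsupp.single (k t) (a t)) F
            = MvPolynomial.coeff (∑ t, Finsupp.single t (a t)) (f l) := by
        intro k hk hkn
        let k' : Fin l ↪o Fin n := OrderEmbedding.ofStrictMono (fun t => ⟨k t, hkn t⟩) (fun _ _ h => hk h)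
        rw [hc l n k', ← K n]
        congr 1
        simp only [Finsupp.mapDomain_finset_sum, Finsupp.mapDomain_single]
        rfl
      rw [key i hi ?_, key j hj ?_]
      · intro t
        have : j t ≤ (Finset.univ.image i ∪ Finset.univ.image j).sup id :=
          Finset.le_sup (f := id) (by simp)
        omega
      · intro t
        have : i t ≤ (Finset.univ.image i ∪ Finset.univ.image j).sup id :=
          Finset.le_sup (f := id) (by simp)
        omega
    · intro E hE
      rw [hFc] at hE
      have h1 := hf (N E) hE
      rw [← hC E, Finsupp.degree_mapDomain]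
      rw [Finsupp.degree_eq_weight_one]
      exact h1
    · rintro G ⟨_, _, hG⟩
      ext E
      rw [hFc, ← hG, hC]

end Groth.Agent.S17171
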