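import Groth.Statements.S17174
import Groth.Agent.GraphBI.Basic

set_option autoImplicit false
universe u
open LabGraph

namespace Groth.Agent.S17174

open LabGraph in
/-- Let Γ be the weighted dual graph of a Deligne–Mumford semistable curve X of genus g ≥ 3 over an
algebraically closed field (connected; every weight-zero vertex without loop is joined to the other
vertices by at least two edges), and let d, d' be two multidegrees of the same (arbitrary) total
degree D (g ≥ 3 being the paper's standing assumption) which both satisfy the Basic Inequality and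
lie in the same degree class (d - d' is a twist). Then d - d' can be written in normal form: there
is a labelling h of the vertices by natural numbers taking exactly the values 0, 1, …, q, with d -
d' equal to the twist of h (that is, d - d' = Σ_v h(v)·c_v with c_v the multidegree of O(C_v)), such
that for distinct levels i ≠ j in {0, …, q} the subcurves on h⁻¹(i) and h⁻¹(j) meet (some edge joins
the two levels) exactly when |i - j| = 1. -/
theorem result {V E : Type u} [Fintype V] [Fintype E]
    [DecidableEq V] [DecidableEq E] (ends : E → V × V) (w : V → ℕ) (hX : IsSemistableGraph ends w)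
    (hg : 3 ≤ genus ends w) (d d' : V → ℤ)
    (hBI : SatisfiesBI ends w d) (hBI' : SatisfiesBI ends w d') (heq : TwistEquiv ends d d') :
    ∃ (q : ℕ) (h : V → ℕ), (∀ v : V, h v ≤ q) ∧ (∀ i : ℕ, i ≤ q → ∃ v : V, h v = i) ∧
      (∀ v : V, d v - d' v = twist ends (fun u => (h u : ℤ)) v) ∧
      (∀ i j : ℕ, i ≤ q → j ≤ q → i ≠ j →
        ((∃ e : E, (h (ends e).1 = i ∧ h (ends e).2 = j) ∨ (h (ends e).1 = j ∧ h (ends e).2 = i)) ↔
          (i + 1 = j ∨ j + 1 = i))) := by
  obtain ⟨φ, hφ⟩ := heq
  obtain ⟨hG, -⟩ := hX
  haveI := hG.1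
  have hC : 0 < canDeg ends w Finset.univ := by rw [GraphBI.canDeg_univ]; omega
  have hD : ∑ v, d v = ∑ v, d' v := by
    have : ∑ v, (d v - d' v) = 0 := by simp only [hφ]; exact GraphBI.sum_twist ends φ
    rw [Finset.sum_sub_distrib] at this; linarith
  obtain ⟨u0, -, hu0⟩ := Finset.exists_min_image Finset.univ φ Finset.univ_nonempty
  let h : V → ℕ := fun v => (φ v - φ u0).toNat
  have hh : ∀ v, (h v : ℤ) = φ v - φ u0 := fun v => Int.toNat_of_nonneg (by linarith [hu0 v (Finset.mem_univ v)])
  have htw : ∀ v, d v - d' v = twist ends (fun u => (h u : ℤ)) v := fun v => by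
    rw [hφ v]
    simp only [hh, twist, sub_sub_sub_cancel_right]
  -- adjacent levels differ by at most one
  have hstep : ∀ e : E, |GraphBI.dif ends (fun u => (h u : ℤ)) e| ≤ 1 := by
    intro e
    by_contra hne
    push Not at hne
    set b : ℕ := max (h (ends e).1) (h (ends e).2) with hb
    let Y : Finset V := Finset.univ.filter fun v => b ≤ h v
    have hY : ∑ v ∈ Y, (d v - d' v) = -∑ d, GraphBI.dif ends (GraphBI.ind Y) d * GraphBI.dif ends (fun u => (h u : ℤ)) d := by
      simp only [htw]; exact GraphBI.sum_twist_set ends Y _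
    have hmono : ∀ x, GraphBI.dif ends (GraphBI.ind Y) x ^ 2 ≤
        GraphBI.dif ends (GraphBI.ind Y) x * GraphBI.dif ends (fun u => (h u : ℤ)) x := by
      intro x
      by_cases h1 : b ≤ h (ends x).1 <;> by_cases h2 : b ≤ h (ends x).2 <;>
        simp [GraphBI.dif, GraphBI.ind, Y, h1, h2] <;> omega
    have hstrict : GraphBI.dif ends (GraphBI.ind Y) e ^ 2 <
        GraphBI.dif ends (GraphBI.ind Y) e * GraphBI.dif ends (fun u => (h u : ℤ)) e := by
      simp only [GraphBI.dif] at hne
      by_cases h1 : b ≤ h (ends e).1 <;> by_cases h2 : b ≤ h (ends e).2 <;>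
        simp [GraphBI.dif, GraphBI.ind, Y, h1, h2] <;>
        rcases abs_cases (((h (ends e).2 : ℤ)) - h (ends e).1) with ⟨h3, h4⟩ | ⟨h3, h4⟩ <;> omega
    have hsum := Finset.sum_lt_sum (s := Finset.univ) (fun x _ => hmono x) ⟨e, Finset.mem_univ e, hstrict⟩
    rw [← GraphBI.cut_eq] at hsum
    have b1 := hBI Y
    have b2 := hBI' Y
    rw [← GraphBI.sum_pot] at b1 b2
    have e1 : ∑ v ∈ Y, GraphBI.pot ends w d v - ∑ v ∈ Y, GraphBI.pot ends w d' v =
        canDeg ends w Finset.univ * ∑ v ∈ Y, (d v - d' v) := by
      rw [GraphBI.sum_pot, GraphBI.sum_pot, ← hD, Finset.sum_sub_distrib]; ring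
    rw [hY] at e1
    have a1 := neg_abs_le (∑ v ∈ Y, GraphBI.pot ends w d v)
    have a2 := le_abs_self (∑ v ∈ Y, GraphBI.pot ends w d' v)
    nlinarith
  obtain ⟨u1, -, hu1⟩ := Finset.exists_max_image Finset.univ h Finset.univ_nonempty
  refine ⟨h u1, h, fun v => hu1 v (Finset.mem_univ v), ?_, htw, ?_⟩
  all_goals
    have hcross : ∀ i, i < h u1 → ∃ e : E, (h (ends e).1 = i ∧ h (ends e).2 = i + 1) ∨
        (h (ends e).1 = i + 1 ∧ h (ends e).2 = i) := by
      intro i hi
      by_contra hno
      push Not at hno
      have : ∀ v, Relation.ReflTransGen (Adj ends) u0 v → h v ≤ i := by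
        intro v hv
        induction hv with
        | refl => simp [h]
        | @tail a c _ hs ih =>
          obtain ⟨e, he⟩ := hs
          have h1 := hstep e
          rw [abs_le] at h1
          have h2 := hno e
          simp only [GraphBI.dif] at h1
          rcases he with he | he <;> simp only [he] at h1 h2 <;> omega
      exact absurd (this u1 (hG.2 u0 u1)) (by omega)
  · intro i hi
    rcases hi.lt_or_eq with hi | rfl
    · obtain ⟨e, he | he⟩ := hcross i hi
      · exact ⟨_, he.1⟩
      · exact ⟨_, he.2⟩
    · exact ⟨u1, rfl⟩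
  · intro i j hi hj hij
    constructor
    · rintro ⟨e, he⟩
      have h1 := hstep e
      rw [abs_le] at h1
      simp only [GraphBI.dif] at h1
      omega
    · rintro (rfl | rfl)
      · obtain ⟨e, he⟩ := hcross i (by omega); exact ⟨e, he⟩
      · obtain ⟨e, he⟩ := hcross j (by omega); exact ⟨e, he.symm⟩

end Groth.Agent.S17174
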