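import Mathlib
import Groth.Statements.S17175
-- import your own Groth.Agent.* helpers here

set_option autoImplicit false
universe u
open CAlg

namespace Groth.Agent.S17175

open PowerSeries in
/-- Let k be a field, O₀ = k[[x, y]]/(xy) the complete local ring of a node and Õ₀ = k[[x]] × k[[y]] its
normalization, O₀ being embedded in Õ₀ by h ↦ (h(x, 0), h(0, y)) as the subring of pairs with equal
constant coefficients. Regard Õ₀ as an O₀-module: it is the rank-one torsion-free O₀-module that is
not free. Then every O₀-linear endomorphism of this module is Õ₀-linear, i.e. it is multiplication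
by a unique element of Õ₀; consequently its O₀-endomorphism ring is Õ₀ and its O₀-automorphism group
is the unit group of Õ₀. Here an O₀-linear endomorphism is an additive map of k[[X]] × k[[X]]
commuting with multiplication by every pair whose two constant coefficients agree. (The source works
over an algebraically closed field; only the field structure is used.) -/
theorem result (k : Type u) [Field k]
    (φ : (k⟦X⟧ × k⟦X⟧) →+ (k⟦X⟧ × k⟦X⟧))
    (hφ : ∀ a s : k⟦X⟧ × k⟦X⟧, constantCoeff a.1 = constantCoeff a.2 → φ (a * s) = a * φ s) :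
    ∃! b : k⟦X⟧ × k⟦X⟧, ∀ s : k⟦X⟧ × k⟦X⟧, φ s = b * s := by
  set e : k⟦X⟧ × k⟦X⟧ := (1, 0) with he
  have h1 : ∀ a : k⟦X⟧ × k⟦X⟧, constantCoeff a.1 = constantCoeff a.2 → φ a = a * φ 1 := fun a ha => by
    have := hφ a 1 ha
    rwa [mul_one] at this
  have hX := h1 (PowerSeries.X, 0) (by simp)
  have hX' := hφ (PowerSeries.X, 0) e (by simp)
  rw [show ((PowerSeries.X, 0) : k⟦X⟧ × k⟦X⟧) * e = (PowerSeries.X, 0) by simp [he], hX] at hX'
  have hY := hφ (0, PowerSeries.X) e (by simp)
  rw [show ((0, PowerSeries.X) : k⟦X⟧ × k⟦X⟧) * e = 0 by simp [he], map_zero] at hY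
  have hu : (φ 1).1 = (φ e).1 := mul_left_cancel₀ PowerSeries.X_ne_zero (congrArg Prod.fst hX')
  have hv : (φ e).2 = 0 := (mul_eq_zero.1 (congrArg Prod.snd hY).symm).resolve_left PowerSeries.X_ne_zero
  have hφe : φ e = e * φ 1 := Prod.ext (by rw [Prod.fst_mul, show e.1 = 1 from rfl, one_mul, hu]) (by rw [hv, Prod.snd_mul, show e.2 = 0 from rfl, zero_mul])
  refine ⟨φ 1, fun s => ?_, fun b hb => by rw [hb 1, mul_one]⟩
  let c : k⟦X⟧ × k⟦X⟧ := (PowerSeries.C (constantCoeff s.1 - constantCoeff s.2), PowerSeries.C (constantCoeff s.1 - constantCoeff s.2))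
  have hs : s = (s - c * e) + c * e := by abel
  conv_lhs => rw [hs, map_add, hφ c e rfl, h1 (s - c * e) (by simp [c, he]), hφe]
  conv_rhs => rw [hs]
  ring

end Groth.Agent.S17175
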