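import Groth.Statements.S17176
import Mathlib.Tactic
import Mathlib.Algebra.Order.Chebyshev

set_option autoImplicit false
open Curves

namespace Groth.Agent.S17176

/-- Fix integers g ≥ 3 and d. For a complete subcurve Y of arithmetic genus g_Y of a nodal curve of
genus g, meeting the rest of the curve in k points, the lower extreme of the Basic Inequality for
line bundles of degree d is m = d(2g_Y - 2 + k)/(2g - 2) - k/2, which is an integer exactly when 2(g
- 1) divides d(2g_Y - 2 + k) - k(g - 1). Then gcd(d - g + 1, 2g - 2) = 1 if and only if m is not an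
integer for all integers g_Y, k with 0 < g_Y < g - 1, k ≥ 1 and k + 2g_Y - 2 < 2g - 2. (The row
makes explicit the bound 2g_Y - 2 + k < 2g - 2, which is automatic for subcurves of stable curves
and is satisfied by every subcurve to which the source applies the lemma; the source leaves the
ambient curve's class implicit.) -/
theorem result (g d : ℤ) (hg : 3 ≤ g) :
    Int.gcd (d - g + 1) (2 * g - 2) = 1 ↔
      ∀ gY k : ℤ, 0 < gY → gY < g - 1 → 1 ≤ k → k + 2 * gY - 2 < 2 * g - 2 →
        ¬ (2 * (g - 1) ∣ d * (2 * gY - 2 + k) - k * (g - 1)) := by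
  constructor
  · intro hco gY k hY0 hY1 hk hb hdvd
    have h1 : (2 * g - 2) ∣ (d - g + 1) * (2 * gY - 2 + k) := by
      have he : (d - g + 1) * (2 * gY - 2 + k) =
          (d * (2 * gY - 2 + k) - k * (g - 1)) - (2 * g - 2) * (gY - 1) := by ring
      rw [he]
      have h2 : (2 * g - 2) ∣ d * (2 * gY - 2 + k) - k * (g - 1) := by
        rwa [show (2 * g - 2 : ℤ) = 2 * (g - 1) by ring]
      exact dvd_sub h2 (dvd_mul_right _ _)
    have h3 : (2 * g - 2) ∣ (2 * gY - 2 + k) :=
      Int.dvd_of_dvd_mul_right_of_gcd_one h1 (by rw [Int.gcd_comm]; exact hco)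
    have := Int.le_of_dvd (by omega) h3
    omega
  · intro h
    by_contra hne
    have hG1 : 1 < Int.gcd (d - g + 1) (2 * g - 2) := by
      have : Int.gcd (d - g + 1) (2 * g - 2) ≠ 0 := by
        intro h0; rw [Int.gcd_eq_zero_iff] at h0; omega
      omega
    obtain ⟨e, he⟩ : (Int.gcd (d - g + 1) (2 * g - 2) : ℤ) ∣ 2 * g - 2 := Int.gcd_dvd_right _ _
    obtain ⟨q, hq⟩ : (Int.gcd (d - g + 1) (2 * g - 2) : ℤ) ∣ d - g + 1 := Int.gcd_dvd_left _ _
    have hG : (2 : ℤ) ≤ (Int.gcd (d - g + 1) (2 * g - 2) : ℤ) := by exact_mod_cast hG1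
    have he0 : 1 ≤ e := by nlinarith
    have he1 : e < 2 * g - 2 := by nlinarith
    refine h 1 e one_pos (by omega) he0 (by omega) ?_
    refine ⟨q, ?_⟩
    linear_combination e * hq - q * he

end Groth.Agent.S17176
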