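import Groth.Statements.S17179
import Groth.Agent.GraphBI.Basic

set_option autoImplicit false
universe u
open LabGraph

namespace Groth.Agent.S17179

open LabGraph in
/-- Let Γ be the weighted dual graph of a Deligne–Mumford semistable curve X of genus g ≥ 3 (connected;
every weight-zero vertex without loop joined to the other vertices by at least two edges), d a
multidegree of total degree D satisfying the Basic Inequality, and Z a set of vertices whose degree
equals the upper extreme M_Z of the inequality, that is 2((2g - 2)·d_Z - D·canDeg Z) = cut Z·(2g -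
2). Then d + z again satisfies the Basic Inequality, where z, the multidegree of O(Z) on the total
space of a regular smoothing, is the twist of the indicator function of Z (it lowers the degree on Z
by cut Z and raises it on each outside vertex by its number of edges to Z). -/
theorem result {V E : Type u} [Fintype V] [Fintype E]
    [DecidableEq V] [DecidableEq E] (ends : E → V × V) (w : V → ℕ) (hX : IsSemistableGraph ends w)
    (hg : 3 ≤ genus ends w) (d : V → ℤ) (hBI : SatisfiesBI ends w d) (Z : Finset V)
    (hZ : 2 * (canDeg ends w Finset.univ * (∑ v ∈ Z, d v) - (∑ v : V, d v) * canDeg ends w Z) =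
      (cut ends Z : ℤ) * canDeg ends w Finset.univ) :
    SatisfiesBI ends w (fun v => d v + twist ends (fun u => if u ∈ Z then 1 else 0) v) := by
  rw [GraphBI.bi_iff] at hBI ⊢
  intro Y
  rw [← GraphBI.sum_pot] at hZ
  simp only [GraphBI.pot_twist, Finset.sum_add_distrib, ← Finset.mul_sum, GraphBI.sum_twist_set]
  have hind : (fun u => if u ∈ Z then (1 : ℤ) else 0) = GraphBI.ind Z := rfl
  rw [hind]
  have h1 := hBI (Y ∪ Z)
  have h2 := hBI (Y ∩ Z)
  have hmod := Finset.sum_union_inter (s₁ := Y) (s₂ := Z) (f := GraphBI.pot ends w d)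
  simp only [GraphBI.cut_eq] at h1 h2 hZ ⊢
  have key : ∑ e, GraphBI.dif ends (GraphBI.ind (Y ∪ Z)) e ^ 2 + ∑ e, GraphBI.dif ends (GraphBI.ind (Y ∩ Z)) e ^ 2 -
      2 * ∑ e, GraphBI.dif ends (GraphBI.ind Y) e * GraphBI.dif ends (GraphBI.ind Z) e ≤
      ∑ e, GraphBI.dif ends (GraphBI.ind Y) e ^ 2 + ∑ e, GraphBI.dif ends (GraphBI.ind Z) e ^ 2 := by
    simp only [Finset.mul_sum, ← Finset.sum_add_distrib, ← Finset.sum_sub_distrib]
    refine Finset.sum_le_sum fun e _ => ?_
    by_cases a : (ends e).1 ∈ Y <;> by_cases b : (ends e).2 ∈ Y <;> by_cases c : (ends e).1 ∈ Z <;>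
      by_cases c' : (ends e).2 ∈ Z <;>
      simp [GraphBI.dif, GraphBI.ind, Finset.mem_union, Finset.mem_inter, a, b, c, c']
  have hC : 0 ≤ canDeg ends w Finset.univ := by rw [GraphBI.canDeg_univ]; omega
  nlinarith [mul_le_mul_of_nonneg_right key hC]

end Groth.Agent.S17179
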