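import Groth.Statements.S1722
import Groth.Agent.DualCx.DimFun
-- import your own Groth.Agent.* helpers here

set_option autoImplicit false
universe u
open CategoryTheory
attribute [local instance] HasDerivedCategory.standard
open Dual

namespace Groth.Agent.S1722

/-- Let ω be a dualizing complex over a Noetherian ring A. There is a function δ from Spec A to the
integers such that, for every prime p and every integer i, the localization at p of the A-module of
maps A/p → ω[i] in D(A) is nonzero exactly when i = −δ(p); and δ is a dimension function: δ(p) =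
δ(q) + 1 whenever q covers p in Spec A (p ⊂ q with no prime strictly in between). -/
theorem result (A : Type u) [CommRing A] [IsNoetherianRing A] (ω : Dual.D A) (hω : Dual.IsDualizing A ω) : ∃ δ : PrimeSpectrum A → ℤ, (∀ (p : PrimeSpectrum A) (i : ℤ), Nontrivial (LocalizedModule p.asIdeal.primeCompl (Dual.inD A (A ⧸ p.asIdeal) ⟶ ω⟦i⟧)) ↔ i = -δ p) ∧ ∀ p q : PrimeSpectrum A, p ⋖ q → δ p = δ q + 1 := by
  obtain ⟨W, a, b, hW, hinj, hzero, ⟨e⟩⟩ := Groth.Agent.DualCx.exists_model hω.finite_injective_dimension
  haveI := hW
  haveI := hinj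
  choose δ hδ using fun p : PrimeSpectrum A => Groth.Agent.DualCx.exists_residual_at a b hω hzero e p.asIdeal
  refine ⟨fun p => -δ p, fun p i => ?_, fun p q hpq => ?_⟩
  · rw [neg_neg, ← Groth.Agent.DualCx.degree_support_iff (hδ p).1 i, ← Module.mem_support_iff (p := p)]
    rw [LinearEquiv.support_eq (Groth.Agent.DualCx.homIso W e (ModuleCat.of A (A ⧸ p.asIdeal)) i)]
  · have h := Groth.Agent.DualCx.degree_covBy (W := W) (p := p.asIdeal) (q := q.asIdeal) hpq.lt
      (fun r hr hlt hle => hle.eq_or_lt.resolve_right fun hlt2 => hpq.2 (c := ⟨r, hr⟩) hlt hlt2) (hδ p).1 (hδ q).1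
    show -δ p = -δ q + 1
    omega

end Groth.Agent.S1722
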