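import Groth.Statements.S17243
import Mathlib
import Groth.Agent.PolyOsc.Basic
-- import your own Groth.Agent.* helpers here

set_option autoImplicit false
open W4c4effdivwronsk2

namespace Groth.Agent.S17243

open Polynomial

open Polynomial in
/-- Let `k` be a field of characteristic zero and take, on the projective line over `k`, the point `∞`
and `m` further distinct points `r_1, …, r_m` of the affine line, with positive integers `b` (at
`∞`) and `a_1, …, a_m`; put `N = b + ∑ a_j`. The sum of the spaces of differentials with a single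
pole, of order at most `b + 1` at `∞`, resp. at most `a_j + 1` at `r_j`, `V = H⁰(ω((b+1)∞)) + ∑_j
H⁰(ω((a_j+1)r_j)) ⊆ H⁰(ω((b+1)∞ + ∑_j (a_j+1)r_j)) ≅ H⁰(O(d))`, `d = b - 1 + ∑ (a_j+1)`, becomes,
after multiplying by `dX⁻¹ ∏_j (X - r_j)^(a_j+1)`, the subspace of `k[X]_{≤ d}` spanned by
`D·k[X]_{<b}` and the `D_i·k[X]_{<a_i}`, where `D = ∏_j (X - r_j)^(a_j+1)` and `D_i` omits the
`i`-th factor; a member `h` vanishes to order `n` at a point `q` of the affine line when `(X - q)^n
∣ h`, and to order `d - deg h` at `∞`. Let `V₁ ⊆ V` be a hyperplane (`dim V₁ = N - 1`) containing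
`H⁰(ω((b-1)∞)) + ∑_j H⁰(ω((a_j+1)r_j))`, i.e. containing `D·k[X]_{<b-2}` and every
`D_i·k[X]_{<a_i}`. Then `V₁` has at most one ramification point off the marked points, and that
point is simple: at every point `q` of the affine line other than the `r_j` the weight of `V₁` is at
most one (no nonzero member divisible by `(X - q)^N`, at most a line of members divisible by `(X -
q)^(N-2)`), and at most one such `q` has positive weight (a nonzero member divisible by `(X -
q)^(N-1)`). (The published statement is over the complex numbers with the distinguished marked point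
arbitrary; it is placed at `∞` here, so that the unmarked points are the points of the affine line
other than the `r_j`.) -/
theorem result
    (k : Type*) [Field k] [CharZero k] (m : ℕ) (r : Fin m → k) (hr : Function.Injective r)
    (a : Fin m → ℕ) (ha : ∀ j, 1 ≤ a j) (b : ℕ) (hb : 1 ≤ b) (N d : ℕ)
    (hN : N = (∑ j, a j) + b) (hd : d + 1 = (∑ j, (a j + 1)) + b)
    (V : Submodule k (Polynomial k))
    (hV : V = (Polynomial.degreeLT k b).map (LinearMap.mulLeft k (∏ j, (X - C (r j)) ^ (a j + 1))) ⊔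
      ⨆ i, (Polynomial.degreeLT k (a i)).map
        (LinearMap.mulLeft k (∏ j ∈ Finset.univ.erase i, (X - C (r j)) ^ (a j + 1))))
    (V₁ : Submodule k (Polynomial k)) (hV₁ : V₁ ≤ V) (hfin : Module.finrank k ↥V₁ + 1 = N)
    (hU : (Polynomial.degreeLT k (b - 2)).map (LinearMap.mulLeft k (∏ j, (X - C (r j)) ^ (a j + 1))) ⊔
      (⨆ i, (Polynomial.degreeLT k (a i)).map
        (LinearMap.mulLeft k (∏ j ∈ Finset.univ.erase i, (X - C (r j)) ^ (a j + 1)))) ≤ V₁) :
    (∀ q : k, (∀ j, q ≠ r j) →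
      (V₁ ⊓ (Ideal.span {(X - C q) ^ N}).restrictScalars k) = ⊥ ∧
      Module.finrank k ↥(V₁ ⊓ (Ideal.span {(X - C q) ^ (N - 2)}).restrictScalars k) ≤ 1) ∧
    (∀ q q' : k, (∀ j, q ≠ r j) → (∀ j, q' ≠ r j) →
      (V₁ ⊓ (Ideal.span {(X - C q) ^ (N - 1)}).restrictScalars k) ≠ ⊥ →
      (V₁ ⊓ (Ideal.span {(X - C q') ^ (N - 1)}).restrictScalars k) ≠ ⊥ → q = q') := by
  classical
  have hV' : V = (degreeLT k (N + 1)).map (Groth.Agent.PolyOsc.Φ r a) := by
    rw [hV, Groth.Agent.PolyOsc.map_eq r a hr b (N + 1) (by omega)]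
  have hN' : (∑ j, a j) < N := by omega
  have hle : V₁ ≤ (degreeLT k (N + 1)).map (Groth.Agent.PolyOsc.Φ r a) := hV' ▸ hV₁
  haveI : Module.Finite k ↥(degreeLT k (N + 1)) := Module.Finite.equiv (degreeLTEquiv k (N + 1)).symm
  have hdim : Module.finrank k ↥V + 1 = N + 1 := by
    rw [hV']; exact Groth.Agent.PolyOsc.finrank_map r a (N + 1) (by omega)
  -- a functional cutting out `V₁`
  let W : Submodule k (Polynomial k) := degreeLT k (N + 1) ⊓ V₁.comap (Groth.Agent.PolyOsc.Φ r a)
  obtain ⟨P₀, hP₀, hP₀W⟩ : ∃ P₀ ∈ degreeLT k (N + 1), P₀ ∉ W := by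
    by_contra! hc
    have : V ≤ V₁ := by
      rw [hV']
      rintro _ ⟨P, hP, rfl⟩
      exact (hc P hP).2
    have h2 : Module.finrank k ↥V = Module.finrank k ↥V₁ := by rw [le_antisymm this hV₁]
    omega
  obtain ⟨lam, hlam0, hlamW⟩ := Submodule.exists_dual_map_eq_bot_of_notMem hP₀W inferInstance
  have hW : ∀ P ∈ W, lam P = 0 := fun P hP => by
    have := Submodule.mem_map_of_mem (f := lam) hP
    rwa [hlamW, Submodule.mem_bot] at this
  have hlam : ∀ P ∈ degreeLT k (N + 1), Groth.Agent.PolyOsc.Φ r a P ∈ V₁ → lam P = 0 :=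
    fun P hP hPV => hW P ⟨hP, hPV⟩
  have hlamB : lam (Groth.Agent.PolyOsc.pB r a) = 0 := hlam _ (by
    rw [mem_degreeLT, degree_eq_natDegree (Groth.Agent.PolyOsc.pB_monic r a).ne_zero, Groth.Agent.PolyOsc.pB_natDegree]
    exact_mod_cast (by omega : ∑ j, a j < N + 1)) (by rw [Groth.Agent.PolyOsc.Φ_pB]; exact V₁.zero_mem)
  have hlow : ∀ P ∈ degreeLT k ((∑ j, a j) + (b - 2) + 1), lam P = 0 := fun P hP => by
    refine hlam P (degreeLT_mono (by omega) hP) (hU ?_)
    rw [← Groth.Agent.PolyOsc.map_eq r a hr (b - 2) _ rfl]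
    exact Submodule.mem_map_of_mem hP
  obtain ⟨n, rfl⟩ : ∃ n, N = n + 1 := ⟨N - 1, by omega⟩
  have hlow' : ∀ P ∈ degreeLT k n, lam P = 0 := fun P hP => hlow P (degreeLT_mono (by omega) hP)
  set α := lam (X ^ (n + 1))
  set β := lam (X ^ n)
  have hexp : ∀ P ∈ degreeLT k (n + 1 + 1), lam P = P.coeff (n + 1) * α + P.coeff n * β := by
    intro P hP
    have hrest : P - C (P.coeff (n + 1)) * X ^ (n + 1) - C (P.coeff n) * X ^ n ∈ degreeLT k n := by
      rw [mem_degreeLT, degree_lt_iff_coeff_zero]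
      intro l hl
      simp only [coeff_sub, coeff_C_mul, coeff_X_pow]
      rcases eq_or_lt_of_le hl with h | h
      · subst h; simp
      rcases eq_or_lt_of_le (Nat.succ_le_of_lt h) with h' | h'
      · subst h'; simp
      · have h0 : P.coeff l = 0 := coeff_eq_zero_of_degree_lt (lt_of_lt_of_le (mem_degreeLT.mp hP) (by exact_mod_cast h'))
        rw [h0, if_neg (by omega), if_neg (by omega)]; simp
    have := hlow' _ hrest
    rw [map_sub, map_sub, ← smul_eq_C_mul, ← smul_eq_C_mul, map_smul, map_smul, smul_eq_mul, smul_eq_mul] at this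
    linear_combination this
  have hαβ : ¬ (α = 0 ∧ β = 0) := fun h => hlam0 (by rw [hexp P₀ hP₀, h.1, h.2]; ring)
  have hq1 : ∀ q : k, lam ((X - C q) ^ (n + 1)) = α - (n + 1 : k) * q * β := by
    intro q
    rw [hexp _ (Groth.Agent.PolyOsc.sub_pow_mem_degreeLT q (by omega)),
      show (X - C q : Polynomial k) = X + C (-q) by simp [sub_eq_add_neg], coeff_X_add_C_pow, coeff_X_add_C_pow]
    simp [Nat.choose_succ_self_right, Nat.sub_self]
    ring
  have hq2 : ∀ q : k, lam ((X - C q) ^ n) = β := by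
    intro q
    rw [hexp _ (Groth.Agent.PolyOsc.sub_pow_mem_degreeLT q (by omega)),
      show (X - C q : Polynomial k) = X + C (-q) by simp [sub_eq_add_neg], coeff_X_add_C_pow, coeff_X_add_C_pow]
    simp
  refine ⟨fun q hq => ?_, fun q q' hq hq' h h' => ?_⟩
  · obtain ⟨h1, h2, -⟩ := Groth.Agent.PolyOsc.main r a (n + 1) hN' V₁ hle lam hlam hlamB q hq
    refine ⟨h1, h2 fun h => hαβ ?_⟩
    have hb0 := h.2 (by omega)
    rw [Nat.add_sub_cancel, hq2] at hb0
    have ha0 := h.1
    rw [hq1, hb0, mul_zero, sub_zero] at ha0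
    exact ⟨ha0, hb0⟩
  · have e := (Groth.Agent.PolyOsc.main r a (n + 1) hN' V₁ hle lam hlam hlamB q hq).2.2 h
    have e' := (Groth.Agent.PolyOsc.main r a (n + 1) hN' V₁ hle lam hlam hlamB q' hq').2.2 h'
    rw [hq1] at e e'
    have hβ : β ≠ 0 := fun h0 => hαβ ⟨by rwa [h0, mul_zero, sub_zero] at e, h0⟩
    have : ((n + 1 : k) * β) * (q - q') = 0 := by linear_combination e' - e
    exact sub_eq_zero.mp ((mul_eq_zero.mp this).resolve_left (mul_ne_zero (Nat.cast_add_one_ne_zero n) hβ))

end Groth.Agent.S17243
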