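import Groth.Statements.S17245
import Mathlib
import Groth.Agent.PolyOsc.Basic
-- import your own Groth.Agent.* helpers here

set_option autoImplicit false
open W4c4effdivwronsk2

namespace Groth.Agent.S17245

open Polynomial

open Polynomial in
/-- Let `k` be a field of characteristic zero and take, on the projective line over `k`, the point `∞`
and `m` further distinct points `r_1, …, r_m` of the affine line, with positive integers `b` (at
`∞`) and `a_1, …, a_m`; put `N = b + ∑ a_j`. The sum of the spaces of differentials with a single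
pole, of order at most `b + 1` at `∞`, resp. at most `a_j + 1` at `r_j`, `V = H⁰(ω((b+1)∞)) + ∑_j
H⁰(ω((a_j+1)r_j)) ⊆ H⁰(ω((b+1)∞ + ∑_j (a_j+1)r_j)) ≅ H⁰(O(d))`, `d = b - 1 + ∑ (a_j+1)`, becomes,
after multiplying by `dX⁻¹ ∏_j (X - r_j)^(a_j+1)`, the subspace of `k[X]_{≤ d}` spanned by
`D·k[X]_{<b}` and the `D_i·k[X]_{<a_i}`, where `D = ∏_j (X - r_j)^(a_j+1)` and `D_i` omits the
`i`-th factor; a member `h` vanishes to order `n` at a point `q` of the affine line when `(X - q)^n
∣ h`, and to order `d - deg h` at `∞`. Let `p` be a further point of the affine line, distinct from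
the `r_j`, and `V₁ = V(-p)` the members divisible by `X - p`, an `(N-1)`-dimensional system in the
line bundle twisted down by `p` (its vanishing orders at points `q ≠ p`, and at `∞`, are read off
exactly as for `V`; at `p` itself they are one less than the order of divisibility by `X - p`). Then
`dim V₁ = N - 1`, the point `p` is not a ramification point of `V₁` (no nonzero member of `V₁` is
divisible by `(X - p)^N`), and `V₁` has at most one ramification point off the marked points, a
simple one: at every `q` other than `p` and the `r_j`, no nonzero member is divisible by `(X - q)^N`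
and at most a line of members is divisible by `(X - q)^(N-2)`, and at most one such `q` has a
nonzero member divisible by `(X - q)^(N-1)`. (The published statement is over the complex numbers
with all points arbitrary; one marked point is placed at `∞` here and `p` is taken distinct from the
marked points.) -/
theorem result
    (k : Type*) [Field k] [CharZero k] (m : ℕ) (r : Fin m → k) (hr : Function.Injective r)
    (a : Fin m → ℕ) (ha : ∀ j, 1 ≤ a j) (b : ℕ) (hb : 1 ≤ b) (N d : ℕ)
    (hN : N = (∑ j, a j) + b) (hd : d + 1 = (∑ j, (a j + 1)) + b)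
    (V : Submodule k (Polynomial k))
    (hV : V = (Polynomial.degreeLT k b).map (LinearMap.mulLeft k (∏ j, (X - C (r j)) ^ (a j + 1))) ⊔
      ⨆ i, (Polynomial.degreeLT k (a i)).map
        (LinearMap.mulLeft k (∏ j ∈ Finset.univ.erase i, (X - C (r j)) ^ (a j + 1))))
    (p : k) (hp : ∀ j, p ≠ r j) (V₁ : Submodule k (Polynomial k))
    (hV₁ : V₁ = V ⊓ (Ideal.span {X - C p}).restrictScalars k) :
    Module.finrank k ↥V₁ + 1 = N ∧
    (V₁ ⊓ (Ideal.span {(X - C p) ^ N}).restrictScalars k) = ⊥ ∧
    (∀ q : k, (∀ j, q ≠ r j) → q ≠ p →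
      (V₁ ⊓ (Ideal.span {(X - C q) ^ N}).restrictScalars k) = ⊥ ∧
      Module.finrank k ↥(V₁ ⊓ (Ideal.span {(X - C q) ^ (N - 2)}).restrictScalars k) ≤ 1) ∧
    (∀ q q' : k, (∀ j, q ≠ r j) → q ≠ p → (∀ j, q' ≠ r j) → q' ≠ p →
      (V₁ ⊓ (Ideal.span {(X - C q) ^ (N - 1)}).restrictScalars k) ≠ ⊥ →
      (V₁ ⊓ (Ideal.span {(X - C q') ^ (N - 1)}).restrictScalars k) ≠ ⊥ → q = q') := by
  classical
  have hV' : V = (degreeLT k (N + 1)).map (Groth.Agent.PolyOsc.Φ r a) := by
    rw [hV, Groth.Agent.PolyOsc.map_eq r a hr b (N + 1) (by omega)]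
  have hN' : (∑ j, a j) < N := by omega
  let lam : Polynomial k →ₗ[k] k := (Polynomial.leval p).comp (Groth.Agent.PolyOsc.Φ r a)
  have hlamB : lam (Groth.Agent.PolyOsc.pB r a) = 0 := by
    simp [lam, Groth.Agent.PolyOsc.Φ_pB]
  have hle : V₁ ≤ (degreeLT k (N + 1)).map (Groth.Agent.PolyOsc.Φ r a) := by
    rw [hV₁, ← hV']; exact inf_le_left
  have hlam : ∀ P ∈ degreeLT k (N + 1), Groth.Agent.PolyOsc.Φ r a P ∈ V₁ → lam P = 0 := by
    intro P _ hP
    rw [hV₁] at hP
    have := dvd_iff_isRoot.mp (Ideal.mem_span_singleton.mp hP.2)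
    simpa [lam] using this
  have hlamq : ∀ (q : k) (n : ℕ), lam ((X - C q) ^ (n + 1)) =
      (p - q) ^ n * ((n + 1 : k) * (Groth.Agent.PolyOsc.pR r).eval p - (p - q) * (Groth.Agent.PolyOsc.pS r a).eval p) := by
    intro q n
    rw [show lam ((X - C q) ^ (n + 1)) = (Groth.Agent.PolyOsc.Φ r a ((X - C q) ^ (n + 1))).eval p from rfl,
      Groth.Agent.PolyOsc.Φ_apply, derivative_pow_succ]
    simp [pow_succ]
    ring
  have hR := Groth.Agent.PolyOsc.eval_pR_ne r p hp
  have hdim : Module.finrank k ↥V + 1 = N + 1 := by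
    rw [hV']; exact Groth.Agent.PolyOsc.finrank_map r a (N + 1) (by omega)
  haveI : Module.Finite k ↥(degreeLT k (N + 1)) := Module.Finite.equiv (degreeLTEquiv k (N + 1)).symm
  haveI : Module.Finite k ↥V := by rw [hV']; infer_instance
  -- an element of `V` not vanishing at `p`
  have hex : ∃ f ∈ V, f.eval p ≠ 0 := by
    by_contra! hc
    have hz : ∀ P ∈ degreeLT k (N + 1), lam P = 0 := fun P hP => by
      have := hc (Groth.Agent.PolyOsc.Φ r a P) (hV' ▸ Submodule.mem_map_of_mem hP)
      simpa [lam] using this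
    have h1 := hz _ (Groth.Agent.PolyOsc.sub_pow_mem_degreeLT p (by omega : 0 + 1 < N + 1))
    rw [hlamq] at h1
    simp at h1
    exact hR h1
  refine ⟨?_, (Groth.Agent.PolyOsc.main r a N hN' V₁ hle lam hlam hlamB p hp).1, fun q hq hqp => ?_,
    fun q q' hq hqp hq' hqp' h h' => ?_⟩
  · have h1 : V₁ = (LinearMap.ker ((Polynomial.leval p).domRestrict V)).map V.subtype := by
      rw [hV₁]
      ext f
      simp [Submodule.mem_inf, Ideal.mem_span_singleton, dvd_iff_isRoot, and_comm]
    rw [h1, Submodule.finrank_map_subtype_eq]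
    have h2 := LinearMap.finrank_range_add_finrank_ker ((Polynomial.leval p).domRestrict V)
    have h3 : LinearMap.range ((Polynomial.leval p).domRestrict V) = ⊤ := by
      obtain ⟨f, hf, hf0⟩ := hex
      refine LinearMap.range_eq_top.mpr (LinearMap.surjective fun h => hf0 ?_)
      exact LinearMap.congr_fun h ⟨f, hf⟩
    rw [h3, finrank_top, Module.finrank_self] at h2
    omega
  · obtain ⟨h1, h2, -⟩ := Groth.Agent.PolyOsc.main r a N hN' V₁ hle lam hlam hlamB q hq
    refine ⟨h1, h2 ?_⟩
    rintro ⟨ha0, hb0⟩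
    obtain ⟨n, rfl⟩ : ∃ n, N = n + 1 := ⟨N - 1, by omega⟩
    have hb' := hb0 (by omega)
    rw [hlamq, mul_eq_zero] at ha0
    have ha' := ha0.resolve_left (pow_ne_zero _ (sub_ne_zero.mpr hqp.symm))
    rw [Nat.add_sub_cancel] at hb'
    cases n with
    | zero =>
      simp [lam, Groth.Agent.PolyOsc.Φ_apply] at hb'
      rw [hb', mul_zero, sub_zero, mul_eq_zero] at ha'
      exact hR (ha'.resolve_left (by simp))
    | succ n =>
      rw [hlamq, mul_eq_zero] at hb'
      have hb'' := hb'.resolve_left (pow_ne_zero _ (sub_ne_zero.mpr hqp.symm))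
      push_cast at ha'
      exact hR (by linear_combination ha' - hb'')
  · have e := (Groth.Agent.PolyOsc.main r a N hN' V₁ hle lam hlam hlamB q hq).2.2 h
    have e' := (Groth.Agent.PolyOsc.main r a N hN' V₁ hle lam hlam hlamB q' hq').2.2 h'
    obtain ⟨n, rfl⟩ : ∃ n, N = n + 1 := ⟨N - 1, by omega⟩
    rw [hlamq, mul_eq_zero] at e e'
    have e1 := e.resolve_left (pow_ne_zero _ (sub_ne_zero.mpr hqp.symm))
    have e2 := e'.resolve_left (pow_ne_zero _ (sub_ne_zero.mpr hqp'.symm))
    have hS : (Groth.Agent.PolyOsc.pS r a).eval p ≠ 0 := fun h0 => by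
      rw [h0, mul_zero, sub_zero, mul_eq_zero] at e1
      exact hR (e1.resolve_left (Nat.cast_add_one_ne_zero n))
    have : (q - q') * (Groth.Agent.PolyOsc.pS r a).eval p = 0 := by linear_combination e1 - e2
    exact sub_eq_zero.mp ((mul_eq_zero.mp this).resolve_right hS)

end Groth.Agent.S17245
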