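import Groth.Statements.S17247
import Groth.Agent.FunFld.Pencils
-- import your own Groth.Agent.* helpers here

set_option autoImplicit false
open FunFld

namespace Groth.Agent.S17247

/-- Let `K/k` be a function field of one variable of genus one over an algebraically closed field `k` of
characteristic zero (an elliptic curve `E`), `A` a place, and `g ≥ 3` an odd integer. Inside
`H⁰(O_E((2g-2)A)) = L((2g-2)A)` consider `V = L(gA)` (dimension `g`) and any hyperplane `V₁` of it
containing `L((g-2)A)`: `L((g-2)A) ⊆ V₁ ⊆ L(gA)`, `dim V₁ = g - 1`. Vanishing orders are those of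
sections of `O_E((2g-2)A)`: a member `f` vanishes to order at least `n` at a place `Q` when `f ∈
L((2g-2)A - nQ)`, and the weight of `V₁` at `Q` is `∑_{n=1}^{2g-2} dim (V₁ ∩ L((2g-2)A - nQ)) - (g-1
choose 2)` (the sum of the `g - 1` vanishing orders minus `0 + 1 + ⋯ + (g-2)`). Then the weight of
`V₁` at every place `Q ≠ A` is at most `2`. (The published statement is for a smooth elliptic curve
over the complex numbers and allows every odd positive `g`; for `g = 1` the inclusion `O(gA) ⊆
O((2g-2)A)` it uses fails, so `g ≥ 3` here.) -/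
theorem result
    (k K : Type*) [Field k] [IsAlgClosed k] [CharZero k] [Field K] [Algebra k K]
    (hK : FunFld.IsFunctionField k K) (hg1 : FunFld.genus k K = 1)
    (g : ℕ) (hodd : Odd g) (h3 : 3 ≤ g) (A : FunFld.Place k K)
    (V₁ : Submodule k K) (hlo : FunFld.L (Finsupp.single A ((g : ℤ) - 2)) ≤ V₁)
    (hhi : V₁ ≤ FunFld.L (Finsupp.single A (g : ℤ))) (hdim : Module.finrank k ↥V₁ + 1 = g)
    (Q : FunFld.Place k K) (hQ : Q ≠ A) :
    (∑ n ∈ Finset.range (2 * g - 2), Module.finrank k
        ↥(V₁ ⊓ FunFld.L (Finsupp.single A (2 * (g : ℤ) - 2) - Finsupp.single Q ((n : ℤ) + 1)))) ≤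
      (g - 1).choose 2 + 2 := by
  classical
  obtain ⟨t, rfl⟩ : ∃ t, g = t + 3 := ⟨g - 3, by omega⟩
  have hA := FunFldLib.deg_eq_one hK A
  have hd := fun R : FunFld.Place k K => FunFldLib.deg_eq_one hK R
  set G : ℕ → ℕ → FunFld.Divisor k K := fun i j => Finsupp.single A (i : ℤ) - Finsupp.single Q (j : ℤ) with hG
  have hfL := fun E => FunFldLib.finiteDimensional_L hK (D := E)
  have hGd : ∀ i j, (G i j).deg = (i : ℤ) - j := fun i j => by
    simp only [hG, FunFldLib.deg_sub, FunFldLib.deg_single, hd]; push_cast; ring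
  have hell : ∀ i j, j < i → Module.finrank k ↥(FunFld.L (G i j)) + j = i := fun i j h => by
    have h1 := FunFldLib.ell_eq_of_deg_ge hK (D := G i j) (by rw [hGd, hg1]; push_cast; omega)
    rw [hGd, hg1, FunFld.ell] at h1
    omega
  have hL0 : ∀ i, G i 0 = Finsupp.single A (i : ℤ) := fun i => by simp [hG]
  have hfV : FiniteDimensional k V₁ :=
    have := hfL (Finsupp.single A ((t + 3 : ℕ) : ℤ)); Submodule.finiteDimensional_of_le hhi
  -- the two kinds of intersections
  have hcap : ∀ i j : ℕ, i ≤ t + 3 → FunFld.L (G (t + 3) j) ⊓ FunFld.L (Finsupp.single A (i : ℤ)) ≤ FunFld.L (G i j) := by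
    intro i j hi v hv R
    rcases eq_or_ne R A with rfl | hR
    · simpa [hG, Finsupp.single_eq_of_ne hQ.symm] using hv.2 R
    · simpa [hG, Finsupp.single_eq_of_ne hR] using hv.1 R
  set f := fun j : ℕ => Module.finrank k ↥(V₁ ⊓ FunFld.L (G (t + 3) j)) with hf
  have heq : ∀ n : ℕ, Module.finrank k ↥(V₁ ⊓ FunFld.L (Finsupp.single A (2 * ((t + 3 : ℕ) : ℤ) - 2) -
      Finsupp.single Q ((n : ℤ) + 1))) = f (n + 1) := fun n => by
    have e : V₁ ⊓ FunFld.L (Finsupp.single A (2 * ((t + 3 : ℕ) : ℤ) - 2) - Finsupp.single Q ((n : ℤ) + 1)) =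
        V₁ ⊓ FunFld.L (G (t + 3) (n + 1)) := by
      apply le_antisymm
      · intro v hv
        refine ⟨hv.1, fun R => ?_⟩
        rcases eq_or_ne R A with rfl | hR
        · simpa [hG, Finsupp.single_eq_of_ne hQ.symm] using hhi hv.1 R
        · simpa [hG, Finsupp.single_eq_of_ne hR] using hv.2 R
      · refine inf_le_inf_left _ (FunFldLib.L_mono ?_)
        simp only [hG]; push_cast
        exact sub_le_sub_right (Finsupp.single_mono (by omega)) _
    rw [e]
  have hsup : ∀ j, f j + (t + 1) ≤ t + 2 + Module.finrank k ↥(FunFld.L (G (t + 1) j)) := by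
    intro j
    have := hfL (G (t + 3) j)
    have := hfL (Finsupp.single A ((t + 1 : ℕ) : ℤ))
    have := hfL (G (t + 1) j)
    have : FiniteDimensional k ↥(V₁ ⊓ FunFld.L (G (t + 3) j)) := Submodule.finiteDimensional_of_le inf_le_left
    have hlo' : FunFld.L (Finsupp.single A ((t + 1 : ℕ) : ℤ)) ≤ V₁ :=
      le_trans (FunFldLib.L_mono (Finsupp.single_mono (by push_cast; omega))) hlo
    have h1 := Submodule.finrank_sup_add_finrank_inf_eq (V₁ ⊓ FunFld.L (G (t + 3) j))
      (FunFld.L (Finsupp.single A ((t + 1 : ℕ) : ℤ)))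
    have h2 : Module.finrank k ↥(V₁ ⊓ FunFld.L (G (t + 3) j) ⊔ FunFld.L (Finsupp.single A ((t + 1 : ℕ) : ℤ))) ≤
        Module.finrank k V₁ := Submodule.finrank_mono (sup_le inf_le_left hlo')
    have h3 := Submodule.finrank_mono ((inf_le_inf_right _ inf_le_right).trans (hcap (t + 1) j (by omega)) :
      V₁ ⊓ FunFld.L (G (t + 3) j) ⊓ FunFld.L (Finsupp.single A ((t + 1 : ℕ) : ℤ)) ≤ FunFld.L (G (t + 1) j))
    have h4 := hell (t + 1) 0 (by omega)
    rw [hL0] at h4
    simp only [hf]
    omega
  have hle : ∀ j, f j ≤ Module.finrank k ↥(FunFld.L (G (t + 3) j)) := fun j =>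
    have := hfL (G (t + 3) j); Submodule.finrank_mono inf_le_right
  have hone : ∀ i, Module.finrank k ↥(FunFld.L (G i i)) ≤ 1 := fun i => by
    have h1 := FunFldLib.ell_le_add_deg hK (G i i) A
    rw [hA, FunFld.ell, FunFld.ell, FunFldLib.L_eq_bot_of_deg_neg hK (D := G i i - Finsupp.single A 1)
      (by rw [FunFldLib.deg_sub, hGd, FunFldLib.deg_single, hA]; omega), finrank_bot] at h1
    omega
  have hbig : ∀ j, t + 3 < j → f j = 0 := fun j hj => by
    simp only [hf]
    rw [FunFldLib.L_eq_bot_of_deg_neg hK (D := G (t + 3) j) (by rw [hGd]; omega), inf_bot_eq, finrank_bot]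
  have hsmall : ∀ n ∈ Finset.range t, f (n + 1) ≤ t + 1 - n := fun n hn => by
    rw [Finset.mem_range] at hn
    have := hsup (n + 1)
    have := hell (t + 1) (n + 1) (by omega)
    omega
  have htop : f (t + 1) + f (t + 2) + f (t + 3) ≤ 3 := by
    have a1 := hell (t + 3) (t + 1) (by omega)
    have a2 := hell (t + 3) (t + 2) (by omega)
    have b1 := hle (t + 1); have b2 := hle (t + 2); have b3 := hle (t + 3)
    have c3 := hone (t + 3)
    by_contra hlt
    have c1 := hsup (t + 1)
    obtain ⟨x, hx0, hx⟩ := FunFldLib.exists_div_eq_of_ell_pos hK (E := G (t + 1) (t + 1))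
      (by rw [hGd]; omega) (by simp only [FunFld.ell]; omega)
    obtain ⟨y, hy0, hy⟩ := FunFldLib.exists_div_eq_of_ell_pos hK (E := G (t + 3) (t + 3))
      (by rw [hGd]; omega) (by simp only [FunFld.ell]; omega)
    obtain ⟨u, hu⟩ : Even t := by
      rcases Nat.even_or_odd t with h | h
      · exact h
      · exfalso; obtain ⟨w, hw⟩ := h; obtain ⟨w', hw'⟩ := hodd; omega
    have hq : y / x ≠ 0 := div_ne_zero hy0 hx0
    set z := x / (y / x) ^ u with hz
    have hz0 : z ≠ 0 := div_ne_zero hx0 (pow_ne_zero _ hq)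
    have hord : ∀ R : FunFld.Place k K, R.ord z = Finsupp.single Q (1 : ℤ) R - Finsupp.single A (1 : ℤ) R := by
      intro R
      have h1 := DFunLike.congr_fun hx R
      have h2 := DFunLike.congr_fun hy R
      simp only [hG, Finsupp.add_apply, Finsupp.sub_apply, FunFldLib.div_apply hK, Finsupp.zero_apply] at h1 h2
      rw [hz, FunFldLib.ord_div R hx0 (pow_ne_zero _ hq), FunFldLib.ord_pow, FunFldLib.ord_div R hy0 hx0]
      have hut : (t : ℤ) = u + u := by exact_mod_cast hu
      rcases eq_or_ne R A with rfl | hRA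
      · simp only [Finsupp.single_eq_same, Finsupp.single_eq_of_ne hQ.symm] at h1 h2 ⊢
        push_cast at h1 h2
        have e1 : R.ord x = -((t : ℤ) + 1) := by omega
        have e2 : R.ord y = -((t : ℤ) + 3) := by omega
        rw [e1, e2, hut]; ring
      rcases eq_or_ne R Q with rfl | hRQ
      · simp only [Finsupp.single_eq_same, Finsupp.single_eq_of_ne hQ] at h1 h2 ⊢
        push_cast at h1 h2
        have e1 : R.ord x = (t : ℤ) + 1 := by omega
        have e2 : R.ord y = (t : ℤ) + 3 := by omega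
        rw [e1, e2, hut]; ring
      · simp only [Finsupp.single_eq_of_ne hRA, Finsupp.single_eq_of_ne hRQ] at h1 h2 ⊢
        have e1 : R.ord x = 0 := by omega
        have e2 : R.ord y = 0 := by omega
        rw [e1, e2]; ring
    have hzL : z ∈ FunFld.L (Finsupp.single A 1 : FunFld.Divisor k K) := (FunFldLib.mem_L_iff hz0).2 fun R => by
      rw [hord R]
      have : (0 : ℤ) ≤ Finsupp.single Q (1 : ℤ) R := by rw [Finsupp.single_apply]; split_ifs <;> norm_num
      omega
    have he : FunFld.L (0 : FunFld.Divisor k K) = FunFld.L (Finsupp.single A 1) := by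
      have := hfL (Finsupp.single A 1)
      refine Submodule.eq_of_le_of_finrank_le (FunFldLib.L_mono (Finsupp.single_nonneg.2 zero_le_one)) ?_
      have h1 := FunFldLib.ell_single_eq_one hK (by omega) hA
      have h2 := FunFldLib.ell_zero hK
      simp only [FunFld.ell] at h1 h2
      omega
    rw [← he] at hzL
    have h3 := (FunFldLib.mem_L_iff hz0).1 hzL A
    rw [hord A, Finsupp.single_eq_same, Finsupp.single_eq_of_ne hQ.symm] at h3
    simp at h3
  have hch : ∀ s : ℕ, (s + 2).choose 2 = (∑ n ∈ Finset.range s, (s + 1 - n)) + 1 := by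
    intro s
    induction s with
    | zero => simp
    | succ s ih =>
      rw [Finset.sum_range_succ', Nat.choose_succ_succ' (s + 2) 1, Nat.choose_one_right, ih]
      simp only [Nat.sub_zero, show ∀ n, s + 1 + 1 - (n + 1) = s + 1 - n from fun n => by omega]
      omega
  rw [Finset.sum_congr rfl fun n _ => heq n, show 2 * (t + 3) - 2 = t + 3 + (t + 1) by omega,
    Finset.sum_range_add, Finset.sum_eq_zero fun j (_ : j ∈ Finset.range (t + 1)) => hbig (t + 3 + j + 1) (by omega),
    Finset.sum_range_succ, Finset.sum_range_succ, Finset.sum_range_succ, show t + 3 - 1 = t + 2 by omega, hch t]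
  have := Finset.sum_le_sum hsmall
  simp only [show t + 1 + 1 = t + 2 from rfl, show t + 2 + 1 = t + 3 from rfl]
  omega

end Groth.Agent.S17247
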