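import Groth.Statements.S17248
import Groth.Agent.FunFld.Pencils
-- import your own Groth.Agent.* helpers here

set_option autoImplicit false
open FunFld

namespace Groth.Agent.S17248

/-- Let `K/k` be a function field of one variable of genus one over an algebraically closed field `k` of
characteristic zero (an elliptic curve `E`), `A` a place, and `g ≥ 3` an integer. Inside
`H⁰(O_E((2g-2)A)) = L((2g-2)A)` consider `V = L(gA)` (dimension `g`) and any hyperplane `V₁` of it
containing `L((g-2)A)`: `L((g-2)A) ⊆ V₁ ⊆ L(gA)`, `dim V₁ = g - 1`. Vanishing orders are those of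
sections of `O_E((2g-2)A)`: a member `f` vanishes to order at least `n` at a place `Q` when `f ∈
L((2g-2)A - nQ)`, and the weight of `V₁` at `Q` is `∑_{n=1}^{2g-2} dim (V₁ ∩ L((2g-2)A - nQ)) - (g-1
choose 2)` (the sum of the `g - 1` vanishing orders minus `0 + 1 + ⋯ + (g-2)`). Then the weight of
`V₁` at `A` is `(g-1)² + ε` with `ε ∈ {0, 1}`. (The published statement is for a smooth elliptic
curve over the complex numbers and `g` odd positive; `g ≥ 3` here since the ambient inclusion needs
it; this row does not assume `g` odd.) -/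
theorem result
    (k K : Type*) [Field k] [IsAlgClosed k] [CharZero k] [Field K] [Algebra k K]
    (hK : FunFld.IsFunctionField k K) (hg1 : FunFld.genus k K = 1)
    (g : ℕ) (h3 : 3 ≤ g) (A : FunFld.Place k K)
    (V₁ : Submodule k K) (hlo : FunFld.L (Finsupp.single A ((g : ℤ) - 2)) ≤ V₁)
    (hhi : V₁ ≤ FunFld.L (Finsupp.single A (g : ℤ))) (hdim : Module.finrank k ↥V₁ + 1 = g) :
    ∃ ε : ℕ, ε ≤ 1 ∧
      (∑ n ∈ Finset.range (2 * g - 2), Module.finrank k
        ↥(V₁ ⊓ FunFld.L (Finsupp.single A (2 * (g : ℤ) - 2) - Finsupp.single A ((n : ℤ) + 1)))) =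
      (g - 1).choose 2 + (g - 1) ^ 2 + ε := by
  obtain ⟨t, rfl⟩ : ∃ t, g = t + 3 := ⟨g - 3, by omega⟩
  have hA := FunFldLib.deg_eq_one hK A
  have hmono : ∀ {i j : ℤ}, i ≤ j → FunFld.L (Finsupp.single A i) ≤ FunFld.L (Finsupp.single A j : FunFld.Divisor k K) :=
    fun h => FunFldLib.L_mono (Finsupp.single_mono h)
  have hell : ∀ j : ℕ, Module.finrank k ↥(FunFld.L (Finsupp.single A (j : ℤ))) = max j 1 := by
    intro j
    rcases Nat.eq_zero_or_pos j with rfl | hj
    · rw [Nat.cast_zero, Finsupp.single_zero]; exact FunFldLib.ell_zero hK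
    · have h := FunFldLib.ell_eq_of_deg_ge hK (D := Finsupp.single A (j : ℤ))
        (by rw [FunFldLib.deg_single, hA, hg1]; push_cast; omega)
      rw [FunFldLib.deg_single, hA, hg1, FunFld.ell] at h
      omega
  have hfin : FiniteDimensional k ↥(FunFld.L (Finsupp.single A ((t + 3 : ℕ) : ℤ))) :=
    FunFldLib.finiteDimensional_L hK _
  have hfV : FiniteDimensional k V₁ := Submodule.finiteDimensional_of_le hhi
  set f := fun j : ℕ => Module.finrank k ↥(V₁ ⊓ FunFld.L (Finsupp.single A (j : ℤ))) with hf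
  have hlow : ∀ j, j < t + 2 → f j = max j 1 := fun j hj => by
    simp only [hf]
    rw [inf_eq_right.2 ((hmono (by push_cast; omega)).trans hlo), hell]
  have hhigh : ∀ j, t + 3 ≤ j → f j = t + 2 := fun j hj => by
    simp only [hf]
    rw [inf_eq_left.2 (hhi.trans (hmono (by push_cast; omega)))]
    omega
  have hmid : t + 1 ≤ f (t + 2) ∧ f (t + 2) ≤ t + 2 := by
    constructor
    · have : FunFld.L (Finsupp.single A ((t + 1 : ℕ) : ℤ)) ≤
          V₁ ⊓ FunFld.L (Finsupp.single A ((t + 2 : ℕ) : ℤ)) :=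
        le_inf ((hmono (by push_cast; omega)).trans hlo) (hmono (by push_cast; omega))
      have : FiniteDimensional k ↥(V₁ ⊓ FunFld.L (Finsupp.single A ((t + 2 : ℕ) : ℤ))) :=
        Submodule.finiteDimensional_of_le inf_le_left
      have h := Submodule.finrank_mono ‹FunFld.L (Finsupp.single A ((t + 1 : ℕ) : ℤ)) ≤ _›
      rw [hell] at h
      simp only [hf]; omega
    · have := Submodule.finrank_mono (inf_le_left : V₁ ⊓ FunFld.L (Finsupp.single A ((t + 2 : ℕ) : ℤ)) ≤ V₁)
      simp only [hf]; omega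
  have hsum : ∀ m : ℕ, ∑ j ∈ Finset.range (m + 1), max j 1 = (m + 1).choose 2 + 1 := by
    intro m
    induction m with
    | zero => simp
    | succ m ih =>
      have h := Nat.choose_succ_succ' (m + 1) 1
      simp only [Nat.choose_one_right, show (1 : ℕ) + 1 = 2 from rfl] at h
      rw [Finset.sum_range_succ, ih, h]
      omega
  refine ⟨f (t + 2) - (t + 1), by omega, ?_⟩
  have e : ∀ n ∈ Finset.range (2 * (t + 3) - 2), Module.finrank k
      ↥(V₁ ⊓ FunFld.L (Finsupp.single A (2 * ((t + 3 : ℕ) : ℤ) - 2) - Finsupp.single A ((n : ℤ) + 1))) =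
      f (2 * (t + 3) - 2 - 1 - n) := fun n hn => by
    rw [Finset.mem_range] at hn
    simp only [hf]
    rw [← Finsupp.single_sub,
      show 2 * ((t + 3 : ℕ) : ℤ) - 2 - ((n : ℤ) + 1) = ((2 * (t + 3) - 2 - 1 - n : ℕ) : ℤ) by omega]
  rw [Finset.sum_congr rfl e, Finset.sum_range_reflect f, show 2 * (t + 3) - 2 = t + 3 + (t + 1) by omega,
    Finset.sum_range_add, Finset.sum_range_succ,
    Finset.sum_congr rfl fun j hj => hlow j (Finset.mem_range.1 hj),
    Finset.sum_congr rfl fun j _ => hhigh (t + 3 + j) (by omega),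
    show t + 2 = t + 1 + 1 from rfl, hsum, Finset.sum_const, Finset.card_range, smul_eq_mul,
    show t + 3 - 1 = t + 1 + 1 by omega]
  rw [show t + 2 = t + 1 + 1 from rfl] at hmid
  have h4 : (t + 1 + 1) ^ 2 = (t + 1) * (t + 1 + 1) + (t + 1 + 1) := by ring
  omega

end Groth.Agent.S17248
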