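import Groth.Statements.S17249
import Groth.Agent.FunFld.Pencils
-- import your own Groth.Agent.* helpers here

set_option autoImplicit false
open FunFld

namespace Groth.Agent.S17249

/-- Let `K/k` be a function field of one variable of genus two over an algebraically closed field `k` of
characteristic zero (a smooth curve `X` of genus `2`), `C` a canonical divisor, `A` a place with
`ℓ(2A) = 1` (not a Weierstrass point), and `P`, `Q` places with `Q ≠ A`. Then `ℓ(C + 2A - P - 3Q) =
1` and `ℓ(C + 2A - P - Q) = 2` do not both hold: the two-dimensional complete system `H⁰(ω_X(2A -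
P))` (of degree `3`) has no point `Q ≠ A` of weight three. (The published statement concerns a
general pointed curve `(X, A)` of genus two over the complex numbers and a point `P` of `X`; this
row assumes only `ℓ(2A) = 1`.) -/
theorem result
    (k K : Type*) [Field k] [IsAlgClosed k] [CharZero k] [Field K] [Algebra k K]
    (hK : FunFld.IsFunctionField k K) (hg : FunFld.genus k K = 2)
    (C : FunFld.Divisor k K) (hC : FunFld.IsCanonical k K C)
    (A P Q : FunFld.Place k K) (hA : Module.finrank k ↥(FunFld.L (Finsupp.single A (2 : ℤ))) = 1) (hQ : Q ≠ A) :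
    ¬ (Module.finrank k ↥(FunFld.L (C + Finsupp.single A (2 : ℤ) - Finsupp.single P (1 : ℤ) - Finsupp.single Q (3 : ℤ))) = 1 ∧
       Module.finrank k ↥(FunFld.L (C + Finsupp.single A (2 : ℤ) - Finsupp.single P (1 : ℤ) - Finsupp.single Q (1 : ℤ))) = 2) := by
  classical
  rintro ⟨-, h2⟩
  have hd := fun R : FunFld.Place k K => FunFldLib.deg_eq_one hK R
  obtain ⟨hl, hdC⟩ := FunFldLib.canonical_ell_deg hK hC
  have hrr := FunFldLib.riemann_roch hK hC (C + Finsupp.single A (2 : ℤ) - Finsupp.single P (1 : ℤ) - Finsupp.single Q (1 : ℤ))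
  have e : C - (C + Finsupp.single A (2 : ℤ) - Finsupp.single P (1 : ℤ) - Finsupp.single Q (1 : ℤ)) =
      Finsupp.single P (1 : ℤ) + Finsupp.single Q (1 : ℤ) - Finsupp.single A (2 : ℤ) := by abel
  simp only [FunFldLib.deg_add, FunFldLib.deg_sub, FunFldLib.deg_single, hd, hdC, hg, e] at hrr
  simp only [FunFld.ell, h2] at hrr
  have hE : FunFld.Divisor.deg (Finsupp.single P (1 : ℤ) + Finsupp.single Q (1 : ℤ) - Finsupp.single A (2 : ℤ) : FunFld.Divisor k K) = 0 := by
    simp only [FunFldLib.deg_add, FunFldLib.deg_sub, FunFldLib.deg_single, hd]; norm_num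
  have hpos : 0 < FunFld.ell (Finsupp.single P (1 : ℤ) + Finsupp.single Q (1 : ℤ) - Finsupp.single A (2 : ℤ) : FunFld.Divisor k K) := by
    simp only [FunFld.ell]; push_cast at hrr; omega
  have h3 := FunFldLib.ell_add_of_ell_pos hK hE hpos (Finsupp.single A (2 : ℤ))
  rw [add_sub_cancel] at h3
  have h4 : (Finsupp.single P (1 : ℤ) + Finsupp.single Q (1 : ℤ) - Finsupp.single A (2 : ℤ) : FunFld.Divisor k K) A < 0 := by
    rw [Finsupp.sub_apply, Finsupp.add_apply, Finsupp.single_eq_same, Finsupp.single_eq_of_ne hQ.symm,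
      add_zero]
    rcases eq_or_ne A P with rfl | hAP
    · simp
    · simp [Finsupp.single_eq_of_ne hAP]
  have h5 := FunFldLib.ell_lt_of_neg hK (F := Finsupp.single P (1 : ℤ) + Finsupp.single Q (1 : ℤ) - Finsupp.single A (2 : ℤ))
    (G := Finsupp.single P (1 : ℤ) + Finsupp.single Q (1 : ℤ))
    (sub_le_self _ (Finsupp.single_nonneg.2 (by norm_num)))
    (add_nonneg (Finsupp.single_nonneg.2 zero_le_one) (Finsupp.single_nonneg.2 zero_le_one)) h4
  rw [h3] at h5
  simp only [FunFld.ell, hA] at h5
  omega

end Groth.Agent.S17249
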