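import Groth.Statements.S17250
import Groth.Agent.FunFld.Pencils
-- import your own Groth.Agent.* helpers here

set_option autoImplicit false
open FunFld

namespace Groth.Agent.S17250

/-- Let `K/k` be a function field of one variable of genus two over an algebraically closed field `k` of
characteristic zero (a smooth curve `X` of genus `2`), `C` a canonical divisor, `A` a place with
`ℓ(2A) = 1`, and `P`, `Q` places different from `A`. Then `ℓ(C + 3A - P - 4Q) = 1` and `ℓ(C + 3A - P
- 2Q) = 2` do not both hold (the three-dimensional complete system `H⁰(ω_X(3A - P))`, of degree `4`,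
has no point `Q ≠ A` with two independent sections vanishing to order at least `2` there and one
vanishing to order at least `4`). (The published statement concerns a general pointed curve `(X, A)`
of genus two over the complex numbers and a point `P ≠ A`; this row assumes `ℓ(2A) = 1` in place of
generality.) -/
theorem result
    (k K : Type*) [Field k] [IsAlgClosed k] [CharZero k] [Field K] [Algebra k K]
    (hK : FunFld.IsFunctionField k K) (hg : FunFld.genus k K = 2)
    (C : FunFld.Divisor k K) (hC : FunFld.IsCanonical k K C)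
    (A P Q : FunFld.Place k K) (hA : Module.finrank k ↥(FunFld.L (Finsupp.single A (2 : ℤ))) = 1) (hP : P ≠ A) (hQ : Q ≠ A) :
    ¬ (Module.finrank k ↥(FunFld.L (C + Finsupp.single A (3 : ℤ) - Finsupp.single P (1 : ℤ) - Finsupp.single Q (4 : ℤ))) = 1 ∧
       Module.finrank k ↥(FunFld.L (C + Finsupp.single A (3 : ℤ) - Finsupp.single P (1 : ℤ) - Finsupp.single Q (2 : ℤ))) = 2) := by
  classical
  rintro ⟨h1, h2⟩
  have hd := fun R : FunFld.Place k K => FunFldLib.deg_eq_one hK R
  obtain ⟨hl, hdC⟩ := FunFldLib.canonical_ell_deg hK hC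
  have hrr := FunFldLib.riemann_roch hK hC (C + Finsupp.single A (3 : ℤ) - Finsupp.single P (1 : ℤ) - Finsupp.single Q (2 : ℤ))
  set G : FunFld.Divisor k K := Finsupp.single P (1 : ℤ) + Finsupp.single Q (2 : ℤ) - Finsupp.single A (3 : ℤ) with hG
  have e : C - (C + Finsupp.single A (3 : ℤ) - Finsupp.single P (1 : ℤ) - Finsupp.single Q (2 : ℤ)) = G := by
    rw [hG]; abel
  simp only [FunFldLib.deg_add, FunFldLib.deg_sub, FunFldLib.deg_single, hd, hdC, hg, e] at hrr
  have hGd : G.deg = 0 := by
    simp only [hG, FunFldLib.deg_add, FunFldLib.deg_sub, FunFldLib.deg_single, hd]; norm_num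
  simp only [FunFld.ell, h2] at hrr
  have hGpos : 0 < FunFld.ell G := by simp only [FunFld.ell]; push_cast at hrr; omega
  set E := C + Finsupp.single A (3 : ℤ) - Finsupp.single P (1 : ℤ) - Finsupp.single Q (4 : ℤ) with hE
  have hEd : E.deg = 0 := by
    simp only [hE, FunFldLib.deg_add, FunFldLib.deg_sub, FunFldLib.deg_single, hd, hdC, hg]; norm_num
  -- `3A - P`, `2Q` and `C` have the same dimension
  have t1 := FunFldLib.ell_add_of_ell_pos hK hGd hGpos (Finsupp.single A (3 : ℤ) - Finsupp.single P (1 : ℤ))
  have t2 := FunFldLib.ell_add_of_ell_pos hK hGd hGpos (Finsupp.single Q (2 : ℤ) + E)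
  have t3 := FunFldLib.ell_add_of_ell_pos hK hEd (by rw [FunFld.ell, h1]; omega) (Finsupp.single Q (2 : ℤ))
  rw [show Finsupp.single A (3 : ℤ) - Finsupp.single P (1 : ℤ) + G = Finsupp.single Q (2 : ℤ) by rw [hG]; abel] at t1
  rw [show Finsupp.single Q (2 : ℤ) + E + G = C by
    rw [hG, hE, show (4 : ℤ) = 2 + 2 by norm_num, Finsupp.single_add]; abel] at t2
  have h3 := FunFldLib.ell_eq_of_deg_ge hK (D := Finsupp.single A (3 : ℤ))
    (by rw [FunFldLib.deg_single, hd, hg]; norm_num)
  rw [FunFldLib.deg_single, hd, hg] at h3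
  have h5 := FunFldLib.ell_lt_of_neg hK (F := Finsupp.single A (3 : ℤ) - Finsupp.single P (1 : ℤ))
    (G := Finsupp.single A (3 : ℤ)) (sub_le_self _ (Finsupp.single_nonneg.2 zero_le_one))
    (Finsupp.single_nonneg.2 (by norm_num)) (R := P) (by simp [Finsupp.single_eq_of_ne hP])
  push_cast at h3
  omega

end Groth.Agent.S17250
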