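import Groth.Statements.S17251
import Groth.Agent.FunFld.Pencils
-- import your own Groth.Agent.* helpers here

set_option autoImplicit false
open FunFld

namespace Groth.Agent.S17251

/-- Let `K/k` be a function field of one variable of genus two over an algebraically closed field `k` of
characteristic zero (a smooth curve `Y` of genus `2`), `C` a canonical divisor, `B` a place with
`ℓ(2B) = 1` (not a Weierstrass point) and `Q ≠ B` a place. Then `ℓ(C + B - 2Q) = 1` and `ℓ(C + 3B -
4Q) = 1` do not both hold: the complete systems `H⁰(ω_Y(B))` (dimension `2`, degree `3`) and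
`H⁰(ω_Y(3B))` (dimension `4`, degree `5`) have no ramification point in common on `Y` minus `B`.
(The published statement concerns a general pointed curve `(Y, B)` of genus two over the complex
numbers; this row assumes only `ℓ(2B) = 1`.) -/
theorem result
    (k K : Type*) [Field k] [IsAlgClosed k] [CharZero k] [Field K] [Algebra k K]
    (hK : FunFld.IsFunctionField k K) (hg : FunFld.genus k K = 2)
    (C : FunFld.Divisor k K) (hC : FunFld.IsCanonical k K C)
    (B Q : FunFld.Place k K) (hB : Module.finrank k ↥(FunFld.L (Finsupp.single B (2 : ℤ))) = 1) (hQ : Q ≠ B) :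
    ¬ (Module.finrank k ↥(FunFld.L (C + Finsupp.single B (1 : ℤ) - Finsupp.single Q (2 : ℤ))) = 1 ∧
       Module.finrank k ↥(FunFld.L (C + Finsupp.single B (3 : ℤ) - Finsupp.single Q (4 : ℤ))) = 1) := by
  classical
  rintro ⟨h1, h2⟩
  have hd := fun R : FunFld.Place k K => FunFldLib.deg_eq_one hK R
  obtain ⟨hl, hdC⟩ := FunFldLib.canonical_ell_deg hK hC
  -- effective representatives
  obtain ⟨z, hz0, hz⟩ := FunFldLib.exists_ne_zero_of_ell_pos
    (D := C + Finsupp.single B (1 : ℤ) - Finsupp.single Q (2 : ℤ)) (by rw [FunFld.ell, h1]; omega)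
  set F := C + Finsupp.single B (1 : ℤ) - Finsupp.single Q (2 : ℤ) + FunFld.div k z with hF
  have hF0 : 0 ≤ F := FunFldLib.nonneg_of_mem_L hK hz0 hz
  have hFd : F.deg = 1 := by
    simp only [hF, FunFldLib.deg_add, FunFldLib.deg_sub, FunFldLib.deg_single, hd, hdC, hg, FunFldLib.deg_div hK]; norm_num
  have hFB : F B ≠ 0 := by
    intro h0
    have e1 := FunFldLib.ell_add_div hK (C + Finsupp.single B (1 : ℤ)) hz0
    have e2 := FunFldLib.ell_add_div hK C hz0
    have h5 := FunFldLib.ell_lt_of_neg hK (F := C + FunFld.div k z) (G := C + Finsupp.single B (1 : ℤ) + FunFld.div k z)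
      (by rw [add_right_comm C]; exact le_add_of_nonneg_right (Finsupp.single_nonneg.2 zero_le_one))
      (by
        rw [show C + Finsupp.single B (1 : ℤ) + FunFld.div k z = F + Finsupp.single Q (2 : ℤ) by rw [hF]; abel]
        exact add_nonneg hF0 (Finsupp.single_nonneg.2 (by norm_num)))
      (R := B) (by simp [hF, Finsupp.single_eq_of_ne hQ.symm] at h0 ⊢; omega)
    have h6 := FunFldLib.ell_eq_of_deg_ge hK (D := C + Finsupp.single B (1 : ℤ))
      (by rw [FunFldLib.deg_add, FunFldLib.deg_single, hd, hdC, hg]; norm_num)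
    rw [FunFldLib.deg_add, FunFldLib.deg_single, hd, hdC, hg] at h6
    push_cast at h6
    omega
  have hCQ : C + FunFld.div k z = Finsupp.single Q (2 : ℤ) := by
    have h := FunFldLib.eq_single_of_deg_one hK hF0 hFd hFB
    rw [hF] at h
    calc C + FunFld.div k z = (C + Finsupp.single B (1 : ℤ) - Finsupp.single Q (2 : ℤ) + FunFld.div k z) +
          (Finsupp.single Q (2 : ℤ) - Finsupp.single B (1 : ℤ)) := by abel
      _ = _ := by rw [h]; abel
  set E := C + Finsupp.single B (3 : ℤ) - Finsupp.single Q (4 : ℤ) with hE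
  obtain ⟨w, hw0, hw⟩ := FunFldLib.exists_ne_zero_of_ell_pos (D := E) (by rw [FunFld.ell, h2]; omega)
  set H := E + FunFld.div k w with hH
  have hH0 : 0 ≤ H := FunFldLib.nonneg_of_mem_L hK hw0 hw
  have hHd : H.deg = 1 := by
    simp only [hH, hE, FunFldLib.deg_add, FunFldLib.deg_sub, FunFldLib.deg_single, hd, hdC, hg, FunFldLib.deg_div hK]; norm_num
  have key : Finsupp.single B (3 : ℤ) - H + FunFld.div k w =
      C + FunFld.div k z + FunFld.div k z := by
    rw [hH, hE, show (4 : ℤ) = 2 + 2 by norm_num, Finsupp.single_add, ← hCQ]; abel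
  have hlC : FunFld.ell (Finsupp.single B (3 : ℤ) - H) = 2 := by
    rw [← FunFldLib.ell_add_div hK _ hw0, key, FunFldLib.ell_add_div hK _ hz0, FunFldLib.ell_add_div hK _ hz0]
    omega
  by_cases hHB : H B = 0
  · obtain ⟨R, hR⟩ : ∃ R, H R ≠ 0 := by
      by_contra hall
      push Not at hall
      rw [show H = 0 from Finsupp.ext hall, FunFldLib.deg_zero] at hHd
      exact zero_ne_one hHd
    have hRB : R ≠ B := fun h => hR (h ▸ hHB)
    have h5 := FunFldLib.ell_lt_of_neg hK (F := Finsupp.single B (3 : ℤ) - H) (G := Finsupp.single B (3 : ℤ))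
      (sub_le_self _ hH0) (Finsupp.single_nonneg.2 (by norm_num)) (R := R)
      (by
        have h0 : (0 : ℤ) ≤ H R := hH0 R
        rw [Finsupp.sub_apply, Finsupp.single_eq_of_ne hRB]; omega)
    have h6 := FunFldLib.ell_eq_of_deg_ge hK (D := Finsupp.single B (3 : ℤ))
      (by rw [FunFldLib.deg_single, hd, hg]; norm_num)
    rw [FunFldLib.deg_single, hd, hg] at h6
    push_cast at h6
    omega
  · have h := FunFldLib.eq_single_of_deg_one hK hH0 hHd hHB
    rw [h, ← Finsupp.single_sub, show (3 : ℤ) - 1 = 2 by norm_num, FunFld.ell, hB] at hlC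
    omega

end Groth.Agent.S17251
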