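import Groth.Statements.S17252
import Groth.Agent.S7789
import Groth.Agent.UnitProd.SmoothReduced

set_option autoImplicit false
universe u
open CategoryTheory CategoryTheory.Limits MonoidalCategory CartesianMonoidalCategory MonObj GrpObj AlgebraicGeometry
open AbSch

set_option backward.isDefEq.respectTransparency false
set_option linter.style.haveILetI false

namespace Groth.Agent.S17252

/-- Let S be a scheme, A an abelian scheme over S (an S-group scheme whose structure morphism is smooth
and proper with geometrically connected fibres) and m an integer whose image in Γ(S, O_S) is a unit.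
Then multiplication by m, the m-th power [m] of the identity in the group of S-endomorphisms of A,
is surjective locally for the étale topology: for every S-scheme T and every α ∈ A(T) there are an
étale surjective S-morphism φ : T′ → T and β ∈ A(T′) with [m] ∘ β = α ∘ φ. With A[m] the kernel of
[m], this is the exactness on the right of the Kummer sequence 0 → A[m] → A → A → 0 of étale
sheaves; in particular it holds for every étale S-scheme T, the case expressing exactness on the
small étale site of S, and it is stated here for all S-schemes T. -/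
theorem result {S : Scheme.{u}} (A : Over S) [GrpObj A]
    [Smooth A.hom] [IsProper A.hom] [GeometricallyConnected A.hom]
    (m : ℤ) (hm : IsUnit (m : Γ(S, ⊤))) (T : Over S) (α : T ⟶ A) :
    ∃ (T' : Over S) (φ : T' ⟶ T) (β : T' ⟶ A),
      Etale φ.left ∧ Surjective φ.left ∧ β ≫ (𝟙 A ^ m) = φ ≫ α := by
  haveI : GeometricallyReduced A.hom := ⟨fun K _ y Z fst snd h => by
    haveI : Smooth snd := MorphismProperty.of_isPullback h inferInstance
    exact Groth.Agent.UnitProd.isReduced_left_of_smooth snd⟩
  haveI : LocallyOfFinitePresentation A.hom := inferInstance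
  haveI : Flat A.hom := inferInstance
  obtain ⟨hfin, het⟩ := Groth.Agent.S7789.result A m hm
  let f : A.left ⟶ A.left := (𝟙 A ^ m).left
  haveI : IsFinite f := hfin
  haveI : Etale f := het
  have hue : η[A] ≫ (𝟙 A ^ m) = η[A] := by
    rw [GrpObj.comp_zpow, Category.comp_id, show (η[A] : 𝟙_ _ ⟶ A) = 1 by simp [Hom.one_def], one_zpow]
  haveI : Surjective f := ⟨fun x => by
    have hc : IsClopen (Set.range f) := ⟨f.isClosedMap.isClosed_range, f.isOpenMap.isOpen_range⟩
    have h1 : A.hom.fiberι (A.hom x) ⁻¹' Set.range f = Set.univ := by
      refine (hc.preimage (A.hom.fiberι _).continuous).eq_univ ?_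
      obtain ⟨z, hz⟩ : η[A].left (A.hom x) ∈ Set.range (A.hom.fiberι (A.hom x)) := by
        rw [Scheme.Hom.range_fiberι, Set.mem_preimage, Set.mem_singleton_iff, ← Scheme.Hom.comp_apply, Over.w η[A]]
        rfl
      refine ⟨z, η[A].left (A.hom x), ?_⟩
      rw [← Scheme.Hom.comp_apply, hz]
      exact congr((Over.Hom.left $hue) (A.hom x))
    have := h1.ge (Set.mem_univ (A.hom.asFiber x))
    rwa [Set.mem_preimage, Scheme.Hom.fiberι_asFiber] at this⟩
  refine ⟨Over.mk (pullback.snd f α.left ≫ T.hom), Over.homMk (pullback.snd f α.left), Over.homMk (pullback.fst f α.left) ?_, ?_, ?_, ?_⟩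
  · show pullback.fst f α.left ≫ A.hom = pullback.snd f α.left ≫ T.hom
    calc pullback.fst f α.left ≫ A.hom = pullback.fst f α.left ≫ f ≫ A.hom := by rw [Over.w (𝟙 A ^ m)]
      _ = pullback.snd f α.left ≫ α.left ≫ A.hom := by rw [pullback.condition_assoc]
      _ = pullback.snd f α.left ≫ T.hom := by rw [Over.w α]
  · exact inferInstanceAs (Etale (pullback.snd f α.left))
  · exact inferInstanceAs (Surjective (pullback.snd f α.left))
  · ext : 1
    exact pullback.condition

end Groth.Agent.S17252
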