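import Mathlib
import Groth.Statements.S17259
-- import your own Groth.Agent.* helpers here

set_option autoImplicit false
open CAlg

namespace Groth.Agent.S17259

/-- Let A, B, C be rings, f : B → A and g : B → C ring homomorphisms, and φ : A → B a homomorphism of
additive groups such that the sequence A → B → C → 0 (maps φ, g) is exact and f ∘ φ is
multiplication by a central element a of A which is not a zero divisor. Then the projection p : A →
A/(a) composed with f factors through g as a ring homomorphism q : C → A/(a), the homomorphism (f,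
g) : B → A × C is injective, and its image is the fibre product of A and C over A/(a) along p and q;
thus (f, g) is a ring isomorphism from B onto that fibre product. (The two-sidedness of the ideal
generated by a, automatic for a central element, is carried as an instance hypothesis.) -/
theorem result {A B C : Type*} [Ring A] [Ring B] [Ring C]
    (f : B →+* A) (g : B →+* C) (φ : A →+ B) (a : A)
    (hc : ∀ x : A, Commute a x) (ha : a ∈ nonZeroDivisors A)
    (hex : Function.Exact φ g) (hg : Function.Surjective g)
    (hφ : ∀ x : A, f (φ x) = a * x)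
    [(Ideal.span ({a} : Set A)).IsTwoSided] :
    ∃ q : C →+* A ⧸ Ideal.span ({a} : Set A),
      q.comp g = (Ideal.Quotient.mk (Ideal.span ({a} : Set A))).comp f ∧
      Function.Injective (f.prod g) ∧
      (f.prod g).range = (Ideal.Quotient.mk (Ideal.span ({a} : Set A))).pullback q := by
  have hker : RingHom.ker g ≤ RingHom.ker ((Ideal.Quotient.mk (Ideal.span ({a} : Set A))).comp f) := by
    intro b hb
    obtain ⟨x, rfl⟩ := (hex b).1 hb
    rw [RingHom.mem_ker, RingHom.comp_apply, hφ, Ideal.Quotient.eq_zero_iff_mem, (hc x).eq]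
    exact Ideal.mul_mem_left _ x (Ideal.mem_span_singleton_self a)
  refine ⟨g.liftOfSurjective hg ⟨_, hker⟩, g.liftOfSurjective_comp hg ⟨_, hker⟩, ?_, ?_⟩
  · rw [injective_iff_map_eq_zero]
    intro b hb
    rw [RingHom.prod_apply, Prod.mk_eq_zero] at hb
    obtain ⟨x, rfl⟩ := (hex b).1 hb.2
    rw [hφ] at hb
    rw [(mem_nonZeroDivisors_iff.1 ha).1 x hb.1, map_zero]
  · have hqg : ∀ b, g.liftOfSurjective hg ⟨_, hker⟩ (g b) = Ideal.Quotient.mk (Ideal.span ({a} : Set A)) (f b) :=
      fun b => RingHom.congr_fun (g.liftOfSurjective_comp hg ⟨_, hker⟩) b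
    apply le_antisymm
    · rintro _ ⟨b, rfl⟩
      exact (hqg b).symm
    · rintro ⟨α, γ⟩ h
      obtain ⟨b, rfl⟩ := hg γ
      have h' : Ideal.Quotient.mk (Ideal.span ({a} : Set A)) α = _ := h.trans (hqg b)
      rw [Ideal.Quotient.eq, Ideal.mem_span_singleton'] at h'
      obtain ⟨x, hx⟩ := h'
      refine ⟨b + φ x, Prod.ext ?_ ?_⟩
      · change f (b + φ x) = α
        rw [map_add, hφ, (hc x).eq, hx, add_sub_cancel]
      · change g (b + φ x) = g b
        rw [map_add, (hex (φ x)).2 ⟨x, rfl⟩, add_zero]

end Groth.Agent.S17259
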