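import Groth.Statements.S17265
import Groth.Agent.AlgStLib.QcRules
-- import your own Groth.Agent.* helpers here

set_option autoImplicit false
open CategoryTheory AlgebraicGeometry
universe u
open AlgSt

namespace Groth.Agent.S17265

/-- Let S be a scheme and let f : 𝒳 → 𝒴 and g : 𝒴 → 𝒵 be functors over (Sch/S) between categories fibred
in groupoids over (Sch/S). If the composite g ∘ f is representable by algebraic spaces and the
diagonal 𝒴 → 𝒴 ×_𝒵 𝒴 of g is representable by algebraic spaces, then f is representable by algebraic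
spaces. This is the case of the source's lemma in which the class of test objects is the class of
algebraic spaces over S (fppf sheaves on (Sch/S) with representable diagonal and an etale surjective
map from a scheme). -/
theorem result {S : Scheme.{u}} {𝒳 𝒴 𝒵 : AlgSt.Cat S}
    (h𝒳 : FibCat.IsFibGrpd 𝒳.p) (h𝒴 : FibCat.IsFibGrpd 𝒴.p) (h𝒵 : FibCat.IsFibGrpd 𝒵.p)
    (f : 𝒳 ⥤ᵇ 𝒴) (g : 𝒴 ⥤ᵇ 𝒵)
    (hgf : AlgSt.RepByAlgSp1 (BasedFunctor.comp f g))
    (hΔ : AlgSt.RepByAlgSp1 (FibCat.diag g)) :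
    AlgSt.RepByAlgSp1 f := by
  have e : BasedFunctor.comp (BasedFunctor.id 𝒳) (BasedFunctor.comp f g) ≅ BasedFunctor.comp f g :=
    eqToIso (Groth.Agent.FibBasics.based_ext rfl)
  have hγ : AlgSt.RepByAlgSp1 (BasedFunctor.comp (FibCat.fpLift (BasedFunctor.id 𝒳) f e)
      (Groth.Agent.AlgStLib.fpSwap (BasedFunctor.comp f g) g)) :=
    Groth.Agent.AlgStLib.rep1_iff.2 ((Groth.Agent.AlgStLib.repWith_equiv_comp
      (Groth.Agent.AlgStLib.fpSwap_isEquivOver _ g)).2
        (Groth.Agent.AlgStLib.repWith_graph e (Groth.Agent.AlgStLib.rep1_iff.1 hΔ)))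
  have hp : AlgSt.RepByAlgSp1 (FibCat.fpFst g (BasedFunctor.comp f g)) :=
    Groth.Agent.AlgStLib.rep1_iff.2 (Groth.Agent.AlgStLib.repWith_fpFst g (Groth.Agent.AlgStLib.rep1_iff.1 hgf))
  have h := Groth.Agent.AlgStLib.repByAlgSp1_comp h𝒳 (Groth.Agent.FibBasics.fp_isFibGrpd h𝒴 h𝒳 h𝒵) hγ hp
  exact Groth.Agent.AlgStLib.rep1_iff.2 (Groth.Agent.AlgStLib.repWith_of_iso
    (eqToIso (Groth.Agent.FibBasics.based_ext rfl)) (Groth.Agent.AlgStLib.rep1_iff.1 h))

end Groth.Agent.S17265
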