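import Mathlib
import Groth.Agent.FibBasics.Whisker
import Groth.Statements.S17266
-- import your own Groth.Agent.* helpers here

set_option autoImplicit false
open CategoryTheory
universe v u
open Stk

namespace Groth.Agent.S17266

/-- Let C be a category with a Grothendieck topology J and let F : 𝒳 → 𝒴, G : 𝒴 → 𝒵 be functors over C
between categories fibred in groupoids over C. Say that a functor H : 𝒜 → ℬ over C is covering when
for every object U of C and every functor b : C/U → ℬ over C there is a J-covering sieve of U such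
that for each of its arrows h : V → U the composite of C/V → C/U with b is 2-isomorphic over C to H
∘ a for some functor a : C/V → 𝒜 over C (locally on the base every object of ℬ lifts to 𝒜 up to
isomorphism). If F and G are covering, then the composite G ∘ F is covering. -/
theorem result {C : Type u} [Category.{v} C] (J : GrothendieckTopology C)
    {𝒳 𝒴 𝒵 : BasedCategory.{v, max u v} C}
    (h𝒳 : FibCat.IsFibGrpd 𝒳.p) (h𝒴 : FibCat.IsFibGrpd 𝒴.p) (h𝒵 : FibCat.IsFibGrpd 𝒵.p)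
    (F : 𝒳 ⥤ᵇ 𝒴) (G : 𝒴 ⥤ᵇ 𝒵)
    (hF : (∀ (U : C) (y : FibCat.overCat U ⥤ᵇ 𝒴), ∃ R ∈ J U, ∀ ⦃V : C⦄ (h : V ⟶ U), R.arrows h →
        ∃ x : FibCat.overCat V ⥤ᵇ 𝒳,
          Nonempty (BasedFunctor.comp x F ≅ BasedFunctor.comp (⟨Over.map h, Over.mapForget_eq h⟩ : FibCat.overCat V ⥤ᵇ FibCat.overCat U) y)))
    (hG : (∀ (U : C) (y : FibCat.overCat U ⥤ᵇ 𝒵), ∃ R ∈ J U, ∀ ⦃V : C⦄ (h : V ⟶ U), R.arrows h →
        ∃ x : FibCat.overCat V ⥤ᵇ 𝒴,
          Nonempty (BasedFunctor.comp x G ≅ BasedFunctor.comp (⟨Over.map h, Over.mapForget_eq h⟩ : FibCat.overCat V ⥤ᵇ FibCat.overCat U) y))) :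
    (∀ (U : C) (y : FibCat.overCat U ⥤ᵇ 𝒵), ∃ R ∈ J U, ∀ ⦃V : C⦄ (h : V ⟶ U), R.arrows h →
        ∃ x : FibCat.overCat V ⥤ᵇ 𝒳,
          Nonempty (BasedFunctor.comp x (BasedFunctor.comp F G) ≅ BasedFunctor.comp (⟨Over.map h, Over.mapForget_eq h⟩ : FibCat.overCat V ⥤ᵇ FibCat.overCat U) y)) := by
  intro U y
  obtain ⟨R, hR, hx⟩ := hG U y
  choose xf hxf using @hx
  have hb : ∀ ⦃V : C⦄ (h : V ⟶ U), R.arrows h → ∃ Q : Sieve V, Q ∈ J V ∧ ∀ ⦃W : C⦄ (k : W ⟶ V), Q.arrows k →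
      ∃ x : FibCat.overCat W ⥤ᵇ 𝒳, ∃ y' : FibCat.overCat V ⥤ᵇ 𝒴,
        Nonempty (BasedFunctor.comp y' G ≅ BasedFunctor.comp (⟨Over.map h, Over.mapForget_eq h⟩ : FibCat.overCat V ⥤ᵇ FibCat.overCat U) y) ∧
        Nonempty (BasedFunctor.comp x F ≅ BasedFunctor.comp (⟨Over.map k, Over.mapForget_eq k⟩ : FibCat.overCat W ⥤ᵇ FibCat.overCat V) y') := by
    intro V h hh
    obtain ⟨Q, hQ, hk⟩ := hF V (xf h hh)
    refine ⟨Q, hQ, fun W k hk' => ?_⟩
    obtain ⟨x, hx⟩ := hk k hk'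
    exact ⟨x, xf h hh, hxf h hh, hx⟩
  choose Q hQ hk using hb
  refine ⟨Sieve.bind R.arrows Q, J.bind_covering hR fun V h hh => hQ h hh, ?_⟩
  rintro W m ⟨V, k, h, hh, hk', rfl⟩
  obtain ⟨x, y', ⟨e1⟩, ⟨e2⟩⟩ := hk h hh k hk'
  refine ⟨x, ⟨?_⟩⟩
  let mk : FibCat.overCat W ⥤ᵇ FibCat.overCat V := ⟨Over.map k, Over.mapForget_eq k⟩
  let mh : FibCat.overCat V ⥤ᵇ FibCat.overCat U := ⟨Over.map h, Over.mapForget_eq h⟩
  let e3 : BasedFunctor.comp mk mh ≅
      (⟨Over.map (k ≫ h), Over.mapForget_eq (k ≫ h)⟩ : FibCat.overCat W ⥤ᵇ FibCat.overCat U) :=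
    BasedNatIso.mkNatIso (Over.mapComp k h).symm (fun a => by
      have : ((Over.mapComp k h).symm.hom.app a).left = 𝟙 a.left := by
        first | rfl | (simp [Over.mapComp]; rfl)
      refine IsHomLift.of_fac _ _ _ rfl rfl ?_
      show 𝟙 a.left = eqToHom rfl ≫ ((Over.mapComp k h).symm.hom.app a).left ≫ eqToHom rfl
      simp only [eqToHom_refl, Category.id_comp, Category.comp_id]
      exact this.symm)
  exact Groth.Agent.FibBasics.bWhiskerR e2 G ≪≫ Groth.Agent.FibBasics.bWhiskerL mk e1 ≪≫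
    Groth.Agent.FibBasics.bWhiskerR e3 y

end Groth.Agent.S17266
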