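import Groth.Statements.S17276
-- import your own Groth.Agent.* helpers here
import Groth.Agent.IntTh.Criteria
import Groth.Agent.IntTh.Subvar

set_option autoImplicit false
universe u
open CategoryTheory CategoryTheory.Limits AlgebraicGeometry TopologicalSpace
open Variety

namespace Groth.Agent.S17276

/-- Let X be a proper scheme over a field k of dimension one (possibly reducible or non-reduced) and L
an invertible O_X-module that is nef, meaning χ(O_C ⊗ L) - χ(O_C) ≥ 0 for every integral closed
subscheme C ⊆ X of dimension one. Then the degree of L on X, namely χ(L) - χ(O_X), is nonnegative. -/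
theorem result (k : Type u) [Field k] (X : Scheme.{u})
    [X.Over (Spec (CommRingCat.of k))] [IsProper (X ↘ (Spec (CommRingCat.of k)))]
    (hdim : topologicalKrullDim X = 1) (L : X.Modules) (hL : PicF.IsInvertible L)
    (hnef : ∀ C : X.IdealSheafData, IsIntegral C.subscheme →
      topologicalKrullDim (C.support : Set X) = 1 →
        0 ≤ Curv2.euler k X (CohB1.tensorMod (ClSub.quotMod C) L) - Curv2.euler k X (ClSub.quotMod C)) :
    0 ≤ Curv2.deg k X L 1 := by
  haveI : IsLocallyNoetherian X := LocallyOfFiniteType.isLocallyNoetherian (X ↘ Spec (CommRingCat.of k))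
  have hl : IntTh.Inv [L] := fun A hA => by rw [List.mem_singleton.1 hA]; exact hL
  have hO : Coh.IsCoh (Coh.structureModule X) := InvPow.isCoh_of_isInvertible (HilbPoly.isInvertible_structureModule X)
  obtain ⟨ι, hι, m, W, j, hj, -, hsum⟩ := IntTh.inum_eq_sum_subvarieties k hl hO
    ((topologicalKrullDim_subspace_le X _).trans hdim.le)
  have h := hsum [L] hl rfl
  obtain ⟨c⟩ := ProjTwist.nonempty_tensorMod_comm (Coh.structureModule X) L
  simp only [IntTh.inum] at h
  rw [HilbPoly.euler_congr (k := k) (c ≪≫ SecTwist.unitorR L)] at h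
  have hd : Curv2.deg k X L 1 = Curv2.euler k X L - Curv2.euler k X (Coh.structureModule X) := by
    rw [Curv2.deg]; push_cast; ring
  rw [hd, h]
  refine Finset.sum_nonneg fun i _ => mul_nonneg (Int.natCast_nonneg _) ?_
  obtain ⟨h1, h2, -, h4⟩ := hj i
  haveI := h1
  haveI := h2
  obtain ⟨C, c1, c2, c3⟩ := IntTh.exists_ideal_of_curve k hL (j i) h4
  exact (hnef C c1 c2).trans c3.ge

end Groth.Agent.S17276
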