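import Groth.Statements.S17287
-- import your own Groth.Agent.* helpers here
import Groth.Agent.WeilLib.Var
import Groth.Agent.FibreTrdeg.Basic
import Groth.Agent.CohFinite.Generic

set_option autoImplicit false
universe u
open CategoryTheory CategoryTheory.Limits AlgebraicGeometry TopologicalSpace
open Variety

namespace Groth.Agent.S17287

/-- Let f : Y → X be a surjective k-morphism of proper schemes over a field k and C ⊆ X an integral
closed subscheme of dimension one. Then there is an integral closed subscheme C' ⊆ Y of dimension
one with f(C') = C as closed subsets. (The source states this for proper algebraic spaces over k;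
this is the case of schemes.) -/
theorem result (k : Type u) [Field k] (X Y : Scheme.{u})
    [X.Over (Spec (CommRingCat.of k))] [IsProper (X ↘ (Spec (CommRingCat.of k)))] [Y.Over (Spec (CommRingCat.of k))] [IsProper (Y ↘ (Spec (CommRingCat.of k)))]
    (f : Y ⟶ X) (hf : f ≫ (X ↘ (Spec (CommRingCat.of k))) = Y ↘ (Spec (CommRingCat.of k))) [Surjective f]
    (C : X.IdealSheafData) [IsIntegral C.subscheme] (hC : topologicalKrullDim (C.support : Set X) = 1) :
    ∃ C' : Y.IdealSheafData, IsIntegral C'.subscheme ∧ topologicalKrullDim (C'.support : Set Y) = 1 ∧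
      f.base '' (C'.support : Set Y) = (C.support : Set X) := by
  haveI hfp : IsProper f := by
    have : IsProper (f ≫ (X ↘ (Spec (CommRingCat.of k)))) := by rw [hf]; infer_instance
    exact IsProper.of_comp f (X ↘ (Spec (CommRingCat.of k)))
  let g := X ↘ (Spec (CommRingCat.of k))
  let η : X := C.subschemeι (genericPoint C.subscheme)
  have hη : closure ({η} : Set X) = (C.support : Set X) := by
    have h := C.subschemeι.isClosedEmbedding.isClosedMap.closure_image_eq_of_continuous
      C.subschemeι.continuous {genericPoint C.subscheme}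
    rw [Set.image_singleton, (genericPoint_spec C.subscheme).def] at h
    rw [h, Set.image_univ, Scheme.IdealSheafData.range_subschemeι]
  obtain ⟨y₀, hy₀⟩ := f.surjective η
  haveI : Nonempty (f.fiber (f y₀)) := ⟨f.asFiber y₀⟩
  haveI : QuasiCompact (f.fiberToSpecResidueField (f y₀)) :=
    MorphismProperty.pullback_snd _ _ inferInstance
  haveI : CompactSpace (f.fiber (f y₀)) := QuasiCompact.compactSpace_of_compactSpace (f.fiberToSpecResidueField (f y₀))
  obtain ⟨x₀, -, hx₀⟩ := isClosed_univ.exists_closed_singleton (X := f.fiber (f y₀)) Set.univ_nonempty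
  let y : Y := f.fiberι (f y₀) x₀
  have hfy : f y = η := by
    have : y ∈ f ⁻¹' {f y₀} := (f.range_fiberι (f y₀)).le ⟨x₀, rfl⟩
    exact Eq.trans this hy₀
  obtain ⟨n, hn, hn'⟩ := FibreTrdeg.exists_trdeg_fibre f (f y₀) x₀
  have hn0 : n = 0 := by
    haveI : Subsingleton (closure ({x₀} : Set (f.fiber (f y₀)))) := by
      rw [hx₀.closure_eq]
      infer_instance
    have h := topologicalKrullDim_zero_of_discreteTopology (closure ({x₀} : Set (f.fiber (f y₀))))
    rw [hn'] at h
    have h2 : n ≤ 0 := by exact_mod_cast h
    omega
  subst hn0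
  have key : WeilLib.td (f ≫ g) y = WeilLib.td g (f y) := by
    letI := (g.residueFieldMap (f y)).hom.toAlgebra
    letI := (f.residueFieldMap y).hom.toAlgebra
    letI : Algebra ((Spec (CommRingCat.of k)).residueField (g (f y))) (Y.residueField y) :=
      ((f ≫ g).residueFieldMap y).hom.toAlgebra
    haveI : IsScalarTower ((Spec (CommRingCat.of k)).residueField (g (f y))) (X.residueField (f y))
        (Y.residueField y) :=
      IsScalarTower.of_algebraMap_eq' (congrArg CommRingCat.Hom.hom
        (Scheme.residueFieldMap_comp f g y))
    show Algebra.trdeg ((Spec (CommRingCat.of k)).residueField (g (f y))) (Y.residueField y) = Algebra.trdeg ((Spec (CommRingCat.of k)).residueField (g (f y))) (X.residueField (f y))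
    rw [← trdeg_add_eq ((Spec (CommRingCat.of k)).residueField (g (f y))) (X.residueField (f y)) (A := Y.residueField y)]
    have hn2 : Algebra.trdeg (X.residueField (f y)) (Y.residueField y) = 0 := by simpa using hn
    rw [hn2, add_zero]
  haveI : LocallyOfFiniteType (f ≫ g) := inferInstance
  obtain ⟨a, ha, ha'⟩ := DimTrdeg.exists_dim_closure_eq_trdeg (f ≫ g) y
  obtain ⟨b, hb, hb'⟩ := DimTrdeg.exists_dim_closure_eq_trdeg g (f y)
  have hab : (a : Cardinal.{u}) = (b : Cardinal.{u}) := ha.symm.trans (key.trans hb)
  have hab' : a = b := by exact_mod_cast hab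
  rw [hfy, hη, hC] at hb'
  have hirr : IsIrreducible (closure ({y} : Set Y)) := isIrreducible_singleton.closure
  refine ⟨Scheme.IdealSheafData.vanishingIdeal ⟨closure {y}, isClosed_closure⟩,
    CohFinite.isIntegral_vanishingIdeal isClosed_closure hirr, ?_, ?_⟩
  · rw [Scheme.IdealSheafData.coe_support_vanishingIdeal]
    change topologicalKrullDim (closure ({y} : Set Y)) = 1
    rw [ha', hab', ← hb']
  · rw [Scheme.IdealSheafData.coe_support_vanishingIdeal]
    change f.base '' closure ({y} : Set Y) = _
    rw [← (Scheme.Hom.isClosedMap f).closure_image_eq_of_continuous f.continuous, Set.image_singleton]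
    rw [show f.base y = η from hfy, hη]

end Groth.Agent.S17287
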