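import Groth.Statements.S1729
import Mathlib.RingTheory.LocalRing.Module
-- import your own Groth.Agent.* helpers here

set_option autoImplicit false
universe u
open Dual2

namespace Groth.Agent.S1729

/-- Over a local ring, every finite module M admits a projective cover: a surjection from a projective
module P onto M such that no proper submodule of P maps onto M. -/
theorem result (R : Type u) [CommRing R] [IsLocalRing R] (M : Type u) [AddCommGroup M] [Module R M] [Module.Finite R M] : ∃ (P : Type u) (_ : AddCommGroup P) (_ : Module R P) (f : P →ₗ[R] M), Dual2.IsProjectiveCover f := by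
  classical
  open TensorProduct in
  let k := IsLocalRing.ResidueField R
  let b := Module.finBasis k (TensorProduct R k M)
  choose v hv using fun i => TensorProduct.mk_surjective R M k Ideal.Quotient.mk_surjective (b i)
  let P := Fin (Module.finrank k (TensorProduct R k M)) → R
  let f : P →ₗ[R] M := Fintype.linearCombination R v
  have hf : Function.Surjective f := by
    rw [← LinearMap.range_eq_top, Fintype.range_linearCombination]
    exact IsLocalRing.span_eq_top_of_tmul_eq_basis v b hv
  refine ⟨P, inferInstance, inferInstance, f, inferInstance, hf, fun N hN => ?_⟩
  let F := f.baseChange k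
  have hFs : Function.Surjective F := LinearMap.lTensor_surjective k hf
  have hd : Module.finrank k (TensorProduct R k P) = Module.finrank k (TensorProduct R k M) := by
    rw [Module.finrank_baseChange]
    simp [P]
  have hFi : Function.Injective F := (LinearMap.injective_iff_surjective_of_finrank_eq_finrank hd).2 hFs
  refine IsLocalRing.map_tensorProduct_mk_eq_top.1 (eq_top_iff.2 fun z _ => ?_)
  obtain ⟨m, hm⟩ := TensorProduct.mk_surjective R M k Ideal.Quotient.mk_surjective (F z)
  obtain ⟨p, hp, rfl⟩ : m ∈ N.map f := hN ▸ trivial
  exact ⟨p, hp, hFi ((LinearMap.baseChange_tmul f 1 p).trans hm)⟩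

end Groth.Agent.S1729
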