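import Groth.Statements.S1731
import Groth.Agent.TorsionBC.Ext

set_option autoImplicit false
universe u
open CategoryTheory
open scoped TensorProduct
attribute [local instance] HasDerivedCategory.standard
open LocCoh

namespace Groth.Agent.S1731

/-- Statement for modules: let A → B be a flat ring map and I a finitely generated ideal of A such that
A → B/IB is surjective with kernel I (so A/I ≅ B/IB). If M is an I-power torsion A-module, then for
every A-module N and every integer i the group of maps M → N[i] in D(A) is isomorphic to the group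
of maps B ⊗_A M → (B ⊗_A N)[i] in D(B). (Only the existence of an isomorphism is asserted; the
published statement shows that the base-change map is one.) -/
theorem result (A B : Type u) [CommRing A] [CommRing B] [Algebra A B] [Module.Flat A B] (I : Ideal A) (hI : I.FG) (hs : Function.Surjective ((Ideal.Quotient.mk (I.map (algebraMap A B))).comp (algebraMap A B))) (hk : RingHom.ker ((Ideal.Quotient.mk (I.map (algebraMap A B))).comp (algebraMap A B)) = I) (M N : Type u) [AddCommGroup M] [Module A M] [AddCommGroup N] [Module A N] (hM : LocCoh.IsPowerTorsion I M) (i : ℤ) : Nonempty ((Dual.inD A M ⟶ (Dual.inD A N)⟦i⟧) ≃+ (Dual.inD B (B ⊗[A] M) ⟶ (Dual.inD B (B ⊗[A] N))⟦i⟧)) := by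
  let φ := algebraMap A B
  haveI : Limits.PreservesFiniteLimits (ModuleCat.extendScalars.{u, u, u} φ) :=
    ModuleCat.preservesFiniteLimits_extendScalars_of_flat.{u} (RingHom.flat_algebraMap_iff.2 inferInstance)
  let adj := ModuleCat.extendRestrictScalarsAdj.{u, u, u} φ
  let LM : ModuleCat.{u} B := (ModuleCat.extendScalars.{u, u, u} φ).obj (ModuleCat.of A M)
  let LN : ModuleCat.{u} B := (ModuleCat.extendScalars.{u, u, u} φ).obj (ModuleCat.of A N)
  let eM : ModuleCat.of B (B ⊗[A] M) ≅ LM := (DRingPC.extendLEquiv A B M).toModuleIso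
  let eN : ModuleCat.of B (B ⊗[A] N) ≅ LN := (DRingPC.extendLEquiv A B N).toModuleIso
  rcases lt_or_ge i 0 with hi | hi
  · have hz : ∀ (R : Type u) [CommRing R] (X Y : ModuleCat.{u} R) (f :
        (DerivedCategory.singleFunctor _ 0).obj X ⟶ ((DerivedCategory.singleFunctor _ 0).obj Y)⟦i⟧), f = 0 := by
      intro R _ X Y f
      haveI := (DerivedCategory.TStructure.t (C := ModuleCat.{u} R)).isGE_shift
        ((DerivedCategory.singleFunctor _ 0).obj Y) 0 i (-i) (by lia)
      exact (DerivedCategory.TStructure.t (C := ModuleCat.{u} R)).zero f 0 (-i) (by lia)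
    exact ⟨{ toFun := fun _ => 0, invFun := fun _ => 0
             left_inv := fun f => (hz A _ _ f).symm
             right_inv := fun f => (hz B _ _ f).symm
             map_add' := fun _ _ => (add_zero 0).symm }⟩
  · obtain ⟨n, rfl⟩ : ∃ n : ℕ, i = n := ⟨i.toNat, by lia⟩
    have hb := TorsionBC.bijective_ψ (B := B) ⟨hs, hk⟩ hI n (ModuleCat.of A M) (fun m => hM m) (ModuleCat.of A N)
    have hΦ := EtMV.Φ_bijective adj (ModuleCat.of A M) LN n
    let e₁ := AddEquiv.ofBijective _ hb
    let e₂ := AddEquiv.ofBijective _ hΦ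
    let sh : ∀ {R : Type u} [CommRing R] {X X' Y Y' : ModuleCat.{u} R} (a : X ≅ X') (b : Y ≅ Y'),
        ((DerivedCategory.singleFunctor _ 0).obj X ⟶ ((DerivedCategory.singleFunctor _ 0).obj Y)⟦(n : ℤ)⟧) ≃+
        ((DerivedCategory.singleFunctor _ 0).obj X' ⟶ ((DerivedCategory.singleFunctor _ 0).obj Y')⟦(n : ℤ)⟧) :=
      fun {R} _ {X X' Y Y'} a b =>
        let A' := (DerivedCategory.singleFunctor (ModuleCat.{u} R) 0).mapIso a
        let B' := (shiftFunctor _ (n : ℤ)).mapIso ((DerivedCategory.singleFunctor (ModuleCat.{u} R) 0).mapIso b)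
        { toFun := fun f => A'.inv ≫ f ≫ B'.hom
          invFun := fun f => A'.hom ≫ f ≫ B'.inv
          left_inv := fun f => by simp
          right_inv := fun f => by simp
          map_add' := fun f g => by simp }
    exact ⟨Abelian.Ext.homAddEquiv.symm.trans (e₁.trans (e₂.symm.trans
      (Abelian.Ext.homAddEquiv.trans (sh eM.symm eN.symm))))⟩

end Groth.Agent.S1731
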