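import Mathlib
import Groth.Statements.S17321
-- import your own Groth.Agent.* helpers here

set_option autoImplicit false
universe u v
open CAlg

namespace Groth.Agent.S17321

/-- Let k be an algebraically closed field and A a commutative k-algebra which is finite-dimensional as
a k-vector space (the coordinate ring of a finite k-scheme). Then the space Der(A) of k-derivations
A → A is zero if and only if A is reduced. -/
theorem result (k : Type u) [Field k] [IsAlgClosed k]
    (A : Type v) [CommRing A] [Algebra k A] [Module.Finite k A] :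
    Subsingleton (Derivation k A A) ↔ IsReduced A := by
  haveI : IsArtinianRing A := IsArtinianRing.of_finite k A
  constructor
  · intro hs
    by_contra hred
    obtain ⟨m, hm, hne⟩ : ∃ m : Ideal A, m.IsMaximal ∧ m ^ 2 ≠ m := by
      by_contra! hall
      refine hred ⟨fun x hx => ?_⟩
      by_contra x0
      obtain ⟨m, hm, hle⟩ := Ideal.exists_le_maximal (LinearMap.ker (LinearMap.toSpanSingleton A A x))
        (fun ht => x0 (by simpa using (Ideal.eq_top_iff_one _).1 ht))
      obtain ⟨e, he, hme⟩ := (Ideal.isIdempotentElem_iff_of_fg m (IsNoetherian.noetherian m)).1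
        (by have := hall m hm; rwa [sq] at this)
      have hxm : x ∈ m := by
        obtain ⟨j, hj⟩ := hx
        exact hm.isPrime.mem_of_pow_mem j (hj ▸ m.zero_mem)
      rw [hme, Submodule.mem_span_singleton] at hxm
      obtain ⟨b, hb⟩ := hxm
      have h1 : 1 - e ∈ m := hle (by
        rw [LinearMap.mem_ker, LinearMap.toSpanSingleton_apply, smul_eq_mul, ← hb, smul_eq_mul]
        linear_combination (-b) * he.eq)
      have h2 : e ∈ m := hme ▸ Submodule.mem_span_singleton_self e
      exact hm.ne_top ((Ideal.eq_top_iff_one _).2 (by simpa using m.add_mem h1 h2))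
    obtain ⟨t, ht0, ht⟩ : ∃ t : A, t ≠ 0 ∧ ∀ y ∈ m, y * t = 0 := by
      obtain ⟨j, hj⟩ := IsArtinian.monotone_stabilizes
        (⟨fun i => OrderDual.toDual (m ^ i), fun a b hab => Ideal.pow_le_pow_right hab⟩ : ℕ →o (Submodule A A)ᵒᵈ)
      have hidem : IsIdempotentElem (m ^ (j + 1)) := by
        have h1 : m ^ j = m ^ (j + 1) := OrderDual.toDual.injective (hj (j + 1) (Nat.le_succ j))
        have h2 : m ^ j = m ^ ((j + 1) + (j + 1)) := OrderDual.toDual.injective (hj ((j + 1) + (j + 1)) (by omega))
        show m ^ (j + 1) * m ^ (j + 1) = m ^ (j + 1)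
        rw [← pow_add, ← h2, h1]
      obtain ⟨e, he, hme⟩ := (Ideal.isIdempotentElem_iff_of_fg _ (IsNoetherian.noetherian (m ^ (j + 1)))).1 hidem
      have hem : e ∈ m := Ideal.pow_le_self (Nat.succ_ne_zero j) (hme ▸ Submodule.mem_span_singleton_self e)
      have hex : ∃ i, ∀ y ∈ m ^ i, y * (1 - e) = 0 := ⟨j + 1, fun y hy => by
        rw [hme, Submodule.mem_span_singleton] at hy
        obtain ⟨b, rfl⟩ := hy
        rw [smul_eq_mul]
        linear_combination (-b) * he.eq⟩
      classical
      rcases hi : Nat.find hex with _ | i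
      · have := Nat.find_spec hex
        rw [hi] at this
        have h0 := this 1 (by simp)
        rw [one_mul, sub_eq_zero] at h0
        exact absurd ((Ideal.eq_top_iff_one _).2 (h0 ▸ hem)) hm.ne_top
      · have hmin := Nat.find_min hex (m := i) (by omega)
        push Not at hmin
        obtain ⟨y, hy, hy0⟩ := hmin
        refine ⟨y * (1 - e), hy0, fun z hz => ?_⟩
        have := Nat.find_spec hex
        rw [hi] at this
        rw [← mul_assoc]
        exact this _ (pow_succ' m i ▸ Ideal.mul_mem_mul hz hy)
    obtain ⟨x, hx, hx2⟩ := SetLike.exists_of_lt (lt_of_le_of_ne (Ideal.pow_le_self two_ne_zero) hne)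
    obtain ⟨φ, hφx, hφ⟩ := Submodule.exists_le_ker_of_notMem (p := (m ^ 2).restrictScalars k) (v := x) (by simpa using hx2)
    haveI := hm
    letI : Field (A ⧸ m) := Ideal.Quotient.field m
    have hbij : Function.Bijective (algebraMap k (A ⧸ m)) := IsAlgClosed.algebraMap_bijective_of_isIntegral
    let ε : A →ₐ[k] k := ((AlgEquiv.ofBijective (Algebra.ofId k (A ⧸ m)) hbij).symm.toAlgHom).comp (Ideal.Quotient.mkₐ k m)
    have hε : ∀ b, b - algebraMap k A (ε b) ∈ m := by
      intro b
      rw [← Ideal.Quotient.eq_zero_iff_mem, map_sub, sub_eq_zero]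
      exact ((AlgEquiv.ofBijective (Algebra.ofId k (A ⧸ m)) hbij).apply_symm_apply (Ideal.Quotient.mk m b)).symm
    have hεx : ε x = 0 := by
      show (AlgEquiv.ofBijective (Algebra.ofId k (A ⧸ m)) hbij).symm (Ideal.Quotient.mk m x) = 0
      rw [Ideal.Quotient.eq_zero_iff_mem.2 hx, map_zero]
    let D : A →ₗ[k] A := (φ.comp (LinearMap.id - (Algebra.linearMap k A).comp ε.toLinearMap)).smulRight t
    have hD : ∀ b, D b = φ (b - algebraMap k A (ε b)) • t := fun b => rfl
    have key : ∀ a b : A, D (a * b) = a • D b + b • D a := by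
      intro a b
      have e1 : ∀ c d : A, c • φ d • t = (ε c * φ d) • t := by
        intro c d
        have := ht _ (hε c)
        rw [sub_mul, sub_eq_zero] at this
        rw [smul_eq_mul, Algebra.mul_smul_comm, this, ← Algebra.smul_def, smul_smul, mul_comm (φ d)]
      rw [hD, hD, hD, e1, e1, ← add_smul]
      congr 1
      have h2 : φ ((a - algebraMap k A (ε a)) * (b - algebraMap k A (ε b))) = 0 := hφ (by
        rw [Submodule.restrictScalars_mem, sq]
        exact Ideal.mul_mem_mul (hε a) (hε b))
      rw [show a * b - algebraMap k A (ε (a * b)) = (a - algebraMap k A (ε a)) * (b - algebraMap k A (ε b)) + ε a • (b - algebraMap k A (ε b)) + ε b • (a - algebraMap k A (ε a)) by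
        simp only [Algebra.smul_def, map_mul]; ring, map_add, map_add, h2, zero_add, map_smul, map_smul, smul_eq_mul, smul_eq_mul]
    have h0 : Derivation.mk' D key = 0 := Subsingleton.elim _ _
    have := DFunLike.congr_fun h0 x
    simp only [Derivation.coe_mk', Derivation.zero_apply, hD, hεx, map_zero, sub_zero] at this
    exact ht0 ((smul_eq_zero.1 this).resolve_left hφx)
  · intro _
    refine subsingleton_of_forall_eq 0 fun D => Derivation.ext fun a => ?_
    have hint : IsIntegral k a := IsIntegral.of_finite k a
    have hsq : Squarefree (minpoly k a) := by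
      intro d hd
      obtain ⟨r, hr⟩ := hd
      have hdr : d * r ≠ 0 := fun h0 => minpoly.ne_zero hint (by rw [hr, mul_assoc, h0, mul_zero])
      have hz : Polynomial.aeval a (d * r) = 0 := IsReduced.eq_zero _ ⟨2, by
        rw [← map_pow, sq, show d * r * (d * r) = (d * d * r) * r by ring, ← hr, map_mul, minpoly.aeval, zero_mul]⟩
      have hdeg := minpoly.degree_le_of_ne_zero k a hdr hz
      have hd0 := left_ne_zero_of_mul hdr
      have hr0 := right_ne_zero_of_mul hdr
      rw [hr, mul_assoc, Polynomial.degree_mul, Polynomial.degree_mul, Polynomial.degree_eq_natDegree hd0,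
        Polynomial.degree_eq_natDegree hr0, ← Nat.cast_add, ← Nat.cast_add, Nat.cast_le] at hdeg
      exact Polynomial.isUnit_iff_degree_eq_zero.2 (by rw [Polynomial.degree_eq_natDegree hd0]; exact_mod_cast (by omega : d.natDegree = 0))
    obtain ⟨u, v, huv⟩ := PerfectField.separable_iff_squarefree.2 hsq
    have h1 : Polynomial.aeval a v * Polynomial.aeval a (Polynomial.derivative (minpoly k a)) = 1 := by
      have := congrArg (Polynomial.aeval a) huv
      simpa using this
    have h2 := D.map_aeval (minpoly k a) a
    rw [minpoly.aeval, map_zero, smul_eq_mul] at h2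
    rw [Derivation.zero_apply, ← one_mul (D a), ← h1, mul_assoc, ← h2, mul_zero]

end Groth.Agent.S17321
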