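import Mathlib
import Groth.Statements.S17323
-- import your own Groth.Agent.* helpers here

set_option autoImplicit false
universe u v
open CAlg

namespace Groth.Agent.S17323

/-- Let k be an algebraically closed field and A a commutative k-algebra which is finite-dimensional as
a k-vector space. Then A has a largest reduced subalgebra: a k-subalgebra B which is reduced and
contains every reduced k-subalgebra of A; moreover the composite of the inclusion B → A with the
projection A → A/nilradical(A) is bijective. -/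
theorem result (k : Type u) [Field k] [IsAlgClosed k]
    (A : Type v) [CommRing A] [Algebra k A] [Module.Finite k A] :
    ∃ B : Subalgebra k A, IsReduced ↥B ∧ (∀ C : Subalgebra k A, IsReduced ↥C → C ≤ B) ∧
      Function.Bijective ((Ideal.Quotient.mkₐ k (nilradical A)).comp B.val) := by
  classical
  haveI : IsArtinianRing A := IsArtinianRing.of_finite k A
  set q := Ideal.Quotient.mkₐ k (nilradical A)
  haveI : IsReduced (A ⧸ nilradical A) := (Ideal.isRadical_iff_quotient_reduced _).1 (Ideal.radical_isRadical _)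
  have split : ∀ (C : Type v) [CommRing C] [Algebra k C] [Module.Finite k C] [IsReduced C],
      ∃ (ι : Type v) (_ : Fintype ι), Nonempty (C ≃ₐ[k] (ι → k)) := by
    intro C _ _ _ _
    haveI : IsArtinianRing C := IsArtinianRing.of_finite k C
    haveI : Fintype (MaximalSpectrum C) := Fintype.ofFinite _
    have hb : ∀ I : MaximalSpectrum C, Function.Bijective (algebraMap k (C ⧸ I.asIdeal)) := fun I => by
      haveI : Field (C ⧸ I.asIdeal) := Ideal.Quotient.field _
      haveI : Algebra.IsIntegral k (C ⧸ I.asIdeal) := Algebra.IsIntegral.of_finite k _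
      exact IsAlgClosed.algebraMap_bijective_of_isIntegral
    exact ⟨MaximalSpectrum C, inferInstance, ⟨((IsArtinianRing.equivPi C).restrictScalars k).trans
      (AlgEquiv.piCongrRight fun I => (AlgEquiv.ofBijective (Algebra.ofId k _) (hb I)).symm)⟩⟩
  obtain ⟨ι, _, ⟨ψ⟩⟩ := split (A ⧸ nilradical A)
  have hnil : ∀ x ∈ RingHom.ker (q : A →+* A ⧸ nilradical A), IsNilpotent x := fun x hx => by
    have : x ∈ nilradical A := Ideal.Quotient.eq_zero_iff_mem.1 hx
    exact mem_nilradical.1 this
  have hqs : Function.Surjective q := Ideal.Quotient.mk_surjective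
  have hcomp : OrthogonalIdempotents fun i => ψ.symm (Pi.single i (1 : k)) :=
    (CompleteOrthogonalIdempotents.single (fun _ : ι => k)).toOrthogonalIdempotents.map ψ.symm.toAlgHom.toRingHom
  obtain ⟨f, hf, hqf⟩ := hcomp.lift_of_isNilpotent_ker (q : A →+* A ⧸ nilradical A) hnil (fun i => hqs _)
  let L : (ι → k) →ₗ[k] A := ∑ i, (LinearMap.proj i).smulRight (f i)
  have hL : ∀ v, L v = ∑ i, v i • f i := fun v => by simp [L]
  have hqL : ∀ v, q (L v) = ψ.symm v := fun v => by
    rw [hL, map_sum]
    conv_rhs => rw [pi_eq_sum_univ' v, map_sum]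
    refine Finset.sum_congr rfl fun i _ => ?_
    rw [map_smul, map_smul]
    exact congrArg _ (congr_fun hqf i)
  have hmul : ∀ v w, L (v * w) = L v * L w := fun v w => by
    simp only [hL, Finset.sum_mul, Finset.mul_sum, Algebra.smul_mul_assoc, Algebra.mul_smul_comm, smul_smul, hf.mul_eq, smul_ite, smul_zero, Finset.sum_ite_eq', Finset.mem_univ, if_true, Pi.mul_apply]
    exact Finset.sum_congr rfl fun x _ => by rw [mul_comm]
  have hone : L 1 = 1 := by
    have h0 : q (L 1) = q 1 := by rw [hqL, map_one, map_one]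
    have hi : IsIdempotentElem (L 1) := by rw [IsIdempotentElem, ← hmul, one_mul]
    exact (existsUnique_isIdempotentElem_eq_of_ker_isNilpotent (q : A →+* A ⧸ nilradical A) hnil 1 ⟨1, map_one _⟩ IsIdempotentElem.one).unique
      ⟨hi, h0.trans (map_one _)⟩ ⟨IsIdempotentElem.one, map_one _⟩
  let Φ : (ι → k) →ₐ[k] A := AlgHom.ofLinearMap L hone hmul
  have hinj : Function.Injective Φ := fun v w h => ψ.symm.injective (by rw [← hqL, ← hqL]; exact congrArg q h)
  let e := AlgEquiv.ofInjective Φ hinj
  refine ⟨Φ.range, isReduced_of_injective e.symm.toAlgHom e.symm.injective, fun C hC => ?_, ?_⟩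
  · obtain ⟨κ, _, ⟨χ⟩⟩ := split C
    intro c hc
    have hid : ∀ t : A, IsIdempotentElem t → t ∈ Φ.range := fun t ht => by
      obtain ⟨v, hv⟩ := ψ.symm.surjective (q t)
      have hvi : IsIdempotentElem v := ψ.symm.injective (by rw [map_mul, hv, ← map_mul, ht.eq])
      refine ⟨v, (existsUnique_isIdempotentElem_eq_of_ker_isNilpotent (q : A →+* A ⧸ nilradical A) hnil (q t) ⟨t, rfl⟩ (ht.map q)).unique
        ⟨hvi.map Φ, (hqL v).trans hv⟩ ⟨ht, rfl⟩⟩
    have : (⟨c, hc⟩ : C) = ∑ i, χ ⟨c, hc⟩ i • χ.symm (Pi.single i 1) := χ.injective (by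
      rw [map_sum]
      conv_lhs => rw [pi_eq_sum_univ' (χ ⟨c, hc⟩)]
      refine Finset.sum_congr rfl fun i _ => ?_
      rw [map_smul, AlgEquiv.apply_symm_apply])
    have h2 : c = ∑ i, χ ⟨c, hc⟩ i • (χ.symm (Pi.single i 1) : A) := by
      simpa using congrArg (fun z : C => (z : A)) this
    rw [h2]
    refine Subalgebra.sum_mem _ fun i _ => Subalgebra.smul_mem _ (hid _ ?_) _
    exact (((CompleteOrthogonalIdempotents.single (fun _ : κ => k)).idem i).map χ.symm).map C.val
  · constructor
    · rintro ⟨_, v, rfl⟩ ⟨_, w, rfl⟩ h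
      have : v = w := ψ.symm.injective (by rw [← hqL, ← hqL]; exact h)
      subst this; rfl
    · intro z
      exact ⟨⟨Φ (ψ z), ψ z, rfl⟩, (hqL _).trans (ψ.symm_apply_apply z)⟩

end Groth.Agent.S17323
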