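import Groth.Statements.S17324
import Mathlib
-- import your own Groth.Agent.* helpers here

set_option autoImplicit false
universe u v
open CAlg

namespace Groth.Agent.S17324

/-- (i) ⟺ (ii): let k be an algebraically closed field, A a commutative k-algebra which is
finite-dimensional as a k-vector space and is a local ring with maximal ideal m, and a_1, …, a_m ∈
m. Then A is generated as a k-algebra by a_1, …, a_m if and only if m is generated as an ideal by
a_1, …, a_m. (The printed lemma has a third equivalent condition, that the images of the a_i span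
m/m²; its equivalence with (ii) is Nakayama's lemma.) -/
theorem result (k : Type u) [Field k] [IsAlgClosed k]
    (A : Type v) [CommRing A] [Algebra k A] [Module.Finite k A] [IsLocalRing A]
    (m : ℕ) (a : Fin m → A) (ha : ∀ i, a i ∈ IsLocalRing.maximalIdeal A) :
    Algebra.adjoin k (Set.range a) = ⊤ ↔ Ideal.span (Set.range a) = IsLocalRing.maximalIdeal A := by
  let M := IsLocalRing.maximalIdeal A
  let S := Algebra.adjoin k (Set.range a)
  have hconst : ∀ c : k, algebraMap k A c ∈ M → c = 0 := fun c hc => by
    by_contra h
    exact (IsLocalRing.maximalIdeal.isMaximal A).ne_top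
      (Ideal.eq_top_of_isUnit_mem _ hc ((IsUnit.mk0 c h).map (algebraMap k A)))
  constructor
  · intro hS
    refine le_antisymm (Ideal.span_le.mpr (by rintro _ ⟨i, rfl⟩; exact ha i)) fun x hx => ?_
    have hdec : ∀ y ∈ S, ∃ c : k, y - algebraMap k A c ∈ Ideal.span (Set.range a) := fun y hy => by
      induction hy using Algebra.adjoin_induction with
      | mem z hz => exact ⟨0, by simpa using Ideal.subset_span hz⟩
      | algebraMap c => exact ⟨c, by simp⟩
      | add u v _ _ hu hv =>
        obtain ⟨c, hc⟩ := hu; obtain ⟨d, hd⟩ := hv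
        exact ⟨c + d, by rw [map_add, add_sub_add_comm]; exact add_mem hc hd⟩
      | mul u v _ _ hu hv =>
        obtain ⟨c, hc⟩ := hu; obtain ⟨d, hd⟩ := hv
        refine ⟨c * d, ?_⟩
        rw [map_mul, show u * v - algebraMap k A c * algebraMap k A d =
          (u - algebraMap k A c) * v + algebraMap k A c * (v - algebraMap k A d) by ring]
        exact add_mem (Ideal.mul_mem_right _ _ hc) (Ideal.mul_mem_left _ _ hd)
    obtain ⟨c, hc⟩ := hdec x (show x ∈ Algebra.adjoin k (Set.range a) by rw [hS]; trivial)
    have hle : Ideal.span (Set.range a) ≤ M := Ideal.span_le.mpr (by rintro _ ⟨i, rfl⟩; exact ha i)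
    have h0 := hconst c (by have := sub_mem hx (hle hc); rwa [sub_sub_cancel] at this)
    simpa [h0] using hc
  · intro hM
    haveI : IsArtinianRing A := IsArtinianRing.of_finite k A
    have hres : ∀ x : A, ∃ c : k, x - algebraMap k A c ∈ M := fun x => by
      have hb : Function.Bijective (algebraMap k (IsLocalRing.ResidueField A)) :=
        IsAlgClosed.algebraMap_bijective_of_isIntegral
      obtain ⟨c, hc⟩ := hb.2 (IsLocalRing.residue A x)
      refine ⟨c, (IsLocalRing.residue_eq_zero_iff _).mp ?_⟩
      rw [map_sub, ← hc, IsScalarTower.algebraMap_apply k A (IsLocalRing.ResidueField A)]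
      exact sub_self _
    have step : ∀ n, ∀ y ∈ M ^ n, ∃ s ∈ S, y - s ∈ M ^ (n + 1) := by
      intro n
      induction n with
      | zero =>
        intro y _
        obtain ⟨c, hc⟩ := hres y
        exact ⟨_, S.algebraMap_mem c, by simpa using hc⟩
      | succ n ih =>
        intro y hy
        rw [pow_succ] at hy
        refine Submodule.mul_induction_on hy (fun u hu v hv => ?_) ?_
        · obtain ⟨s, hs, hus⟩ := ih u hu
          have hv' : v ∈ Ideal.span (Set.range a) := hM ▸ hv
          obtain ⟨c, hc⟩ := Submodule.mem_span_range_iff_exists_fun A |>.mp hv'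
          choose t ht using fun i => hres (c i)
          refine ⟨s * ∑ i, algebraMap k A (t i) * a i, S.mul_mem hs (S.sum_mem fun i _ =>
            S.mul_mem (S.algebraMap_mem _) (Algebra.subset_adjoin ⟨i, rfl⟩)), ?_⟩
          rw [show u * v - s * ∑ i, algebraMap k A (t i) * a i =
            (u - s) * v + s * (v - ∑ i, algebraMap k A (t i) * a i) by ring]
          refine add_mem ?_ ?_
          · rw [pow_succ]; exact Ideal.mul_mem_mul hus hv
          · have hsn : s ∈ M ^ n := by
              simpa using sub_mem hu (Ideal.pow_le_pow_right (Nat.le_succ n) hus)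
            rw [show n + 1 + 1 = n + 2 from rfl, pow_add, pow_two]
            refine Ideal.mul_mem_mul hsn ?_
            rw [← hc, ← Finset.sum_sub_distrib]
            refine Submodule.sum_mem _ fun i _ => ?_
            rw [smul_eq_mul, ← sub_mul]
            exact Ideal.mul_mem_mul (ht i) (ha i)
        · rintro u v ⟨s, hs, hu⟩ ⟨t, ht, hv⟩
          exact ⟨s + t, S.add_mem hs ht, by rw [add_sub_add_comm]; exact add_mem hu hv⟩
    have approx : ∀ n, ∀ x : A, ∃ s ∈ S, x - s ∈ M ^ n := by
      intro n
      induction n with
      | zero => exact fun x => ⟨0, S.zero_mem, by simp⟩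
      | succ n ih =>
        intro x
        obtain ⟨s, hs, hx⟩ := ih x
        obtain ⟨t, ht, hy⟩ := step n _ hx
        exact ⟨s + t, S.add_mem hs ht, by rwa [← sub_sub]⟩
    obtain ⟨N, hN⟩ : IsNilpotent M := by
      have := IsArtinianRing.isNilpotent_jacobson_bot (R := A)
      rwa [IsLocalRing.jacobson_eq_maximalIdeal ⊥ bot_ne_top] at this
    rw [eq_top_iff]
    intro x _
    obtain ⟨s, hs, hx⟩ := approx N x
    rw [hN, Ideal.zero_eq_bot, Ideal.mem_bot, sub_eq_zero] at hx
    exact hx ▸ hs

end Groth.Agent.S17324
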