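import Groth.Statements.S17325
import Mathlib
-- import your own Groth.Agent.* helpers here

set_option autoImplicit false
universe u v
open LieAlg

namespace Groth.Agent.S17325

/-- Let k be an algebraically closed field of characteristic p > 0, V a finite-dimensional k-vector
space and g a nonzero k-linear subspace of End_k(V) closed under the p-th power map u ↦ u^p. Then g
contains a nonzero u with u^p = c u for some c ∈ k, i.e. a line k u closed under p-th powers. (The
published lemma concerns an abstract nonzero finite-dimensional restricted Lie algebra; this row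
concerns subspaces of End_k(V) closed under p-th powers, a class that contains every restricted Lie
subalgebra of gl(V).) -/
theorem result (k : Type u) [Field k] [IsAlgClosed k]
    (p : ℕ) [Fact p.Prime] [CharP k p] (V : Type v) [AddCommGroup V] [Module k V] [FiniteDimensional k V]
    (g : Submodule k (Module.End k V)) (hg : ∀ u ∈ g, u ^ p ∈ g) (hne : g ≠ ⊥) :
    ∃ u ∈ g, u ≠ 0 ∧ ∃ c : k, u ^ p = c • u := by
  classical
  by_cases hnil : ∃ z ∈ g, z ≠ 0 ∧ z ^ p = 0
  · obtain ⟨z, hz, hz0, hzp⟩ := hnil
    exact ⟨z, hz, hz0, 0, by rw [hzp, zero_smul]⟩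
  push Not at hnil
  obtain ⟨u, hu, hu0⟩ := Submodule.exists_mem_ne_zero_of_ne_bot hne
  let w : ℕ → Module.End k V := fun j => u ^ p ^ j
  have hwg : ∀ j, w j ∈ g := by
    intro j
    induction j with
    | zero => simpa [w] using hu
    | succ j ih => simpa [w, pow_succ, pow_mul] using hg _ ih
  have hw0 : ∀ j, w j ≠ 0 := by
    intro j
    induction j with
    | zero => simpa [w] using hu0
    | succ j ih => simpa [w, pow_succ, pow_mul] using hnil _ (hwg j) ih
  have hex : ∃ n, w n ∈ Submodule.span k (Set.range fun i : Fin n => w i) := by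
    by_contra! hall
    have hli : ∀ n, LinearIndependent k (fun i : Fin n => w i) := by
      intro n
      induction n with
      | zero => exact linearIndependent_empty_type
      | succ n ih => exact linearIndependent_fin_succ'.2 ⟨by simpa [Fin.init_def] using ih, by simpa [Fin.init_def] using hall n⟩
    have := (hli (Module.finrank k (Module.End k V) + 1)).fintype_card_le_finrank
    simp at this
  set n := Nat.find hex with hn
  have hli : ∀ j ≤ n, LinearIndependent k (fun i : Fin j => w i) := by
    intro j hj
    induction j with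
    | zero => exact linearIndependent_empty_type
    | succ j ih => exact linearIndependent_fin_succ'.2 ⟨by simpa [Fin.init_def] using ih (by omega), by simpa [Fin.init_def] using Nat.find_min hex (show j < n by omega)⟩
  obtain ⟨n', hn'⟩ : ∃ n', n = n' + 1 := by
    rcases Nat.eq_zero_or_pos n with h | h
    · exfalso
      have h0 := Nat.find_spec hex
      rw [← hn, h, Set.range_eq_empty, Submodule.span_empty, Submodule.mem_bot] at h0
      exact hw0 0 h0
    · exact ⟨n - 1, by omega⟩
  have hspec := Nat.find_spec hex
  rw [← hn, hn'] at hspec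
  obtain ⟨a, ha⟩ := (Submodule.mem_span_range_iff_exists_fun k).1 hspec
  have hliN : LinearIndependent k (fun i : Fin (n' + 1) => w i) := hli _ hn'.ge
  let vec : (Fin (n' + 1) → k) → Module.End k V := fun b => ∑ i, b i • w i
  have hvg : ∀ b, vec b ∈ g := fun b => Submodule.sum_mem _ fun i _ => Submodule.smul_mem _ _ (hwg i)
  have hpow : ∀ b, vec b ^ p = ∑ i, b i ^ p • w ((i : ℕ) + 1) := by
    intro b
    have h1 : vec b = Polynomial.aeval u (∑ i : Fin (n' + 1), Polynomial.C (b i) * Polynomial.X ^ p ^ (i : ℕ)) := by
      simp [vec, w, map_sum, Algebra.smul_def]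
    rw [h1, ← map_pow, sum_pow_char]
    simp only [w, map_sum, mul_pow, map_mul, map_pow, Polynomial.aeval_C, Polynomial.aeval_X, Algebra.smul_def, ← pow_mul, pow_succ]
  have ha0 : a 0 ≠ 0 := by
    intro h0
    choose r hr using fun i => IsAlgClosed.exists_pow_nat_eq (a i) (Fact.out : p.Prime).pos
    let b : Fin (n' + 1) → k := Fin.snoc (fun i : Fin n' => r i.succ) (-1)
    have hb : vec b ^ p = 0 := by
      rw [hpow, Fin.sum_univ_castSucc]
      simp only [b, Fin.snoc_castSucc, Fin.snoc_last, hr, Fin.val_castSucc, Fin.val_last]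
      rw [neg_one_pow_char k p, ← ha, Fin.sum_univ_succ, h0, zero_smul, zero_add, neg_smul, one_smul]
      simp
    have hbz : vec b = 0 := by
      by_contra hne'
      exact hnil _ (hvg b) hne' hb
    have := Fintype.linearIndependent_iff.1 hliN b hbz (Fin.last n')
    simp [b] at this
  let A : ℕ → k := fun j => if h : j < n' + 1 then a ⟨j, h⟩ else 0
  let B : ℕ → Polynomial k := fun j => Nat.rec (Polynomial.C (A 0) * Polynomial.X ^ p)
    (fun m q => q ^ p + Polynomial.C (A (m + 1)) * Polynomial.X ^ p) j
  have hp1 : 1 < p := (Fact.out : p.Prime).one_lt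
  have hA0 : A 0 ≠ 0 := by simpa [A] using ha0
  have hBdeg : ∀ j, (B j).natDegree = p ^ (j + 1) := by
    intro j
    induction j with
    | zero => simp [B, Polynomial.natDegree_C_mul_X_pow _ _ hA0]
    | succ j ih =>
      show (B j ^ p + Polynomial.C (A (j + 1)) * Polynomial.X ^ p).natDegree = _
      rw [Polynomial.natDegree_add_eq_left_of_natDegree_lt, Polynomial.natDegree_pow, ih, pow_succ' p (j + 1)]
      refine lt_of_le_of_lt (Polynomial.natDegree_C_mul_X_pow_le _ _) ?_
      rw [Polynomial.natDegree_pow, ih]
      exact lt_mul_of_one_lt_right (by omega) (Nat.one_lt_pow (by omega) hp1)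
  have hBdvd : ∀ j, Polynomial.X ^ 2 ∣ B j := by
    intro j
    have h2 : (Polynomial.X : Polynomial k) ^ 2 ∣ Polynomial.X ^ p := pow_dvd_pow _ hp1
    induction j with
    | zero => exact dvd_mul_of_dvd_right h2 _
    | succ j ih => exact dvd_add (ih.trans (dvd_pow_self _ (by omega))) (dvd_mul_of_dvd_right h2 _)
  obtain ⟨Q, hQ⟩ := hBdvd n'
  obtain ⟨t, ht⟩ : ∃ t : k, (Polynomial.X * Q - 1).IsRoot t := by
    apply IsAlgClosed.exists_root
    intro hdeg
    have hQ0 : Q ≠ 0 := fun h => by have := hBdeg n'; rw [hQ, h, mul_zero, Polynomial.natDegree_zero] at this; exact absurd this.symm (pow_ne_zero _ (by omega))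
    have h1 : (Polynomial.X * Q - 1).natDegree = (Polynomial.X * Q).natDegree := by
      apply Polynomial.natDegree_sub_eq_left_of_natDegree_lt
      simp [Polynomial.natDegree_mul Polynomial.X_ne_zero hQ0]
    have h2 := Polynomial.natDegree_eq_zero_iff_degree_le_zero.2 hdeg.le
    rw [h1, Polynomial.natDegree_mul Polynomial.X_ne_zero hQ0, Polynomial.natDegree_X] at h2
    omega
  simp only [Polynomial.IsRoot, Polynomial.eval_sub, Polynomial.eval_mul, Polynomial.eval_X, Polynomial.eval_one, sub_eq_zero] at ht
  let b : Fin (n' + 1) → k := fun i => (B i).eval t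
  have hlast : (B n').eval t = t := by
    rw [hQ, Polynomial.eval_mul, Polynomial.eval_pow, Polynomial.eval_X, pow_two, mul_assoc, ht, mul_one]
  have hb0 : b 0 = t ^ p * a 0 := by
    show (Polynomial.C (A 0) * Polynomial.X ^ p).eval t = _
    rw [Polynomial.eval_mul, Polynomial.eval_C, Polynomial.eval_pow, Polynomial.eval_X, mul_comm]
    simp [A]
  have hbs : ∀ i : Fin n', b i.succ = b i.castSucc ^ p + t ^ p * a i.succ := by
    intro i
    show (B ((i : ℕ) + 1)).eval t = _
    show (B i ^ p + Polynomial.C (A ((i : ℕ) + 1)) * Polynomial.X ^ p).eval t = _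
    rw [Polynomial.eval_add, Polynomial.eval_mul, Polynomial.eval_C, Polynomial.eval_pow, Polynomial.eval_pow, Polynomial.eval_X, mul_comm (A _) _]
    simp [A, b, Fin.succ]
  refine ⟨vec b, hvg b, fun hz => ?_, 1, ?_⟩
  · have := Fintype.linearIndependent_iff.1 hliN b hz (Fin.last n')
    rw [show b (Fin.last n') = t from hlast] at this
    rw [this, zero_mul] at ht
    exact zero_ne_one ht
  · rw [one_smul, hpow, Fin.sum_univ_castSucc]
    simp only [Fin.val_last, Fin.val_castSucc]
    rw [show b (Fin.last n') = t from hlast, ← ha, Finset.smul_sum, Fin.sum_univ_succ]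
    show _ = ∑ i, b i • w i
    rw [Fin.sum_univ_succ, hb0]
    simp only [hbs, add_smul, smul_smul, Finset.sum_add_distrib, Fin.val_succ]
    abel

end Groth.Agent.S17325
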