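import Mathlib
import Groth.Statements.S17326
-- import your own Groth.Agent.* helpers here

set_option autoImplicit false
universe u v
open CAlg

namespace Groth.Agent.S17326

/-- Let k be an algebraically closed field of characteristic p > 0, A a commutative k-algebra which is
finite-dimensional as a k-vector space (a finite k-scheme X), and n ≥ 1. The n-th iterated relative
Frobenius morphism X → X^(p^n) is an isomorphism if and only if X is reduced; on rings: the map a ↦
a^(p^n) of A to itself (which is the ring homomorphism underlying the relative Frobenius, the twist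
A^(p^n) having the same underlying ring as A) is bijective if and only if A is reduced. -/
theorem result (k : Type u) [Field k] [IsAlgClosed k]
    (p : ℕ) [Fact p.Prime] [CharP k p] (A : Type v) [CommRing A] [Algebra k A] [Module.Finite k A]
    (n : ℕ) (hn : 1 ≤ n) :
    Function.Bijective (fun a : A => a ^ p ^ n) ↔ IsReduced A := by
  have hq : p ^ n ≠ 0 := pow_ne_zero _ (Fact.out : p.Prime).ne_zero
  constructor
  · intro h
    refine isReduced_iff_pow_one_lt (p ^ n) (Nat.one_lt_pow (by omega) (Fact.out : p.Prime).one_lt) |>.2 fun a ha => ?_
    exact h.1 (by simpa [zero_pow hq] using ha)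
  · intro h
    rcases subsingleton_or_nontrivial A with hA | hA
    · exact ⟨fun a b _ => Subsingleton.elim a b, fun a => ⟨0, Subsingleton.elim _ _⟩⟩
    haveI : CharP A p := charP_of_injective_algebraMap (algebraMap k A).injective p
    haveI : ExpChar A p := ExpChar.prime Fact.out
    have hinj : Function.Injective (fun a : A => a ^ p ^ n) := fun a b hab => by
      refine sub_eq_zero.1 (IsReduced.eq_zero _ ⟨p ^ n, ?_⟩)
      rw [sub_pow_expChar_pow]
      exact sub_eq_zero.2 hab
    refine ⟨hinj, fun a => ?_⟩
    let b := Module.finBasis k A
    have hroot : ∀ c : k, ∃ d : k, d ^ p ^ n = c := fun c => IsAlgClosed.exists_pow_nat_eq c (Nat.pos_of_ne_zero hq)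
    have hsum : ∀ d : Fin (Module.finrank k A) → k,
        (∑ i, d i • b i) ^ p ^ n = ∑ i, d i ^ p ^ n • b i ^ p ^ n := fun d => by
      rw [sum_pow_char_pow]
      simp only [smul_pow]
    have hli : LinearIndependent k (fun i => b i ^ p ^ n) := by
      rw [Fintype.linearIndependent_iff]
      intro c hc i
      choose d hd using fun i => hroot (c i)
      have h0 : ∑ i, d i • b i = 0 := hinj (show (∑ i, d i • b i) ^ p ^ n = (0 : A) ^ p ^ n by
        rw [hsum, zero_pow hq]; simpa only [hd] using hc)
      rw [← hd i, Fintype.linearIndependent_iff.1 b.linearIndependent d h0 i, zero_pow hq]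
    obtain ⟨c, hc⟩ := Submodule.mem_span_range_iff_exists_fun k |>.1
      (show a ∈ Submodule.span k (Set.range fun i => b i ^ p ^ n) by
        rw [hli.span_eq_top_of_card_eq_finrank' (by simp)]; trivial)
    choose d hd using fun i => hroot (c i)
    exact ⟨∑ i, d i • b i, show (∑ i, d i • b i) ^ p ^ n = a by rw [hsum]; simpa only [hd] using hc⟩

end Groth.Agent.S17326
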