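import Groth.Statements.S17327
import Groth.Agent.FinHopf.DualPoints
import Groth.Agent.FinHopf.MuAlpha


set_option autoImplicit false
universe u v
open Hopf

namespace Groth.Agent.S17327

/-- Let k be an algebraically closed field of characteristic p > 0, A a commutative Hopf algebra over k
which is finite-dimensional as a k-vector space (a finite group scheme G = Spec A), I the
augmentation ideal (kernel of the counit) and n ≥ 1. The n-th Frobenius kernel G_n is the closed
subgroup scheme cut out by the ideal generated by the p^n-th powers f^(p^n), f ∈ I; it is trivial,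
i.e. that ideal equals I, if and only if G is reduced. -/
theorem result (k : Type u) [Field k] [IsAlgClosed k]
    (p : ℕ) [Fact p.Prime] [CharP k p] (A : Type v) [CommRing A] [HopfAlgebra k A] [Module.Finite k A]
    (n : ℕ) (hn : 1 ≤ n) :
    Ideal.span ((fun f : A => f ^ p ^ n) '' (RingHom.ker (Bialgebra.counitAlgHom k A) : Set A)) =
      RingHom.ker (Bialgebra.counitAlgHom k A) ↔ IsReduced A := by
  let I : Ideal A := RingHom.ker (Bialgebra.counitAlgHom k A)
  have hp : 2 ≤ p := (Fact.out : p.Prime).two_le
  refine ⟨fun h => ?_, fun h => ?_⟩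
  · by_contra hr
    obtain ⟨φ, hφ, hne⟩ := Groth.Agent.FinHopf.MuAlpha.exists_isDer_ne_zero (k := k) hr
    refine hne (WithConv.ext (LinearMap.ext fun a => ?_))
    have h1 : φ 1 = 0 := by simpa using hφ 1 1
    have hI : ∀ b ∈ I * I, φ b = 0 := fun b hb => by
      refine Submodule.mul_induction_on hb (fun s hs t ht => ?_) (fun s t hs ht => by rw [map_add, hs, ht, add_zero])
      rw [hφ, show Coalgebra.counit (R := k) s = 0 from hs, show Coalgebra.counit (R := k) t = 0 from ht]
      ring
    have hle : I ≤ I * I := by
      intro b hb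
      have hb' : b ∈ Ideal.span ((fun f : A => f ^ p ^ n) '' (I : Set A)) := by rw [h]; exact hb
      refine (Ideal.span_le.2 ?_) hb'
      rintro _ ⟨f, hf, rfl⟩
      have h2 : 2 ≤ p ^ n := le_trans hp (Nat.le_self_pow (by omega) p)
      rw [← pow_two]
      exact Ideal.pow_le_pow_right h2 (Ideal.pow_mem_pow hf _)
    have := hI _ (hle (show a - algebraMap k A (Coalgebra.counit (R := k) a) ∈ I by
      show Bialgebra.counitAlgHom k A _ = 0
      simp))
    simpa [Algebra.algebraMap_eq_smul_one, h1] using this
  · haveI : IsArtinianRing A := IsArtinianRing.of_finite k A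
    refine le_antisymm (Ideal.span_le.2 ?_) fun f hf => ?_
    · rintro _ ⟨f, hf, rfl⟩
      exact Ideal.pow_mem_of_mem _ hf _ (Nat.pow_pos (by omega))
    · obtain ⟨y, hy⟩ := Groth.Agent.FinHopf.DualPoints.exists_mem_sq_of_isReduced f
      have hm : ∀ m, f = f ^ (m + 1) * y ^ m := fun m => by
        induction m with
        | zero => simp
        | succ m ih => calc f = f ^ (m + 1) * y ^ m := ih
            _ = f ^ m * f * y ^ m := by ring
            _ = f ^ m * (f ^ 2 * y) * y ^ m := by rw [← hy]
            _ = f ^ (m + 1 + 1) * y ^ (m + 1) := by ring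
      have hq := hm (p ^ n - 1)
      rw [Nat.sub_add_cancel (Nat.one_le_pow _ _ (by omega))] at hq
      rw [hq]
      exact Ideal.mul_mem_right _ _ (Ideal.subset_span ⟨f, hf, rfl⟩)

end Groth.Agent.S17327
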