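import Groth.Statements.S17328
import Groth.Agent.FinHopf.HeightOne


set_option autoImplicit false
universe u v
open Hopf

namespace Groth.Agent.S17328

/-- Let k be an algebraically closed field of characteristic p > 0 and A a commutative Hopf algebra over
k, finite-dimensional as a k-vector space, with augmentation ideal I (kernel of the counit), such
that f^p = 0 for every f ∈ I (the finite group scheme G = Spec A is infinitesimal of height at most
one: A is then a local ring with maximal ideal I). Then the order of G is dim_k A = p^n where n =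
dim_k I/I² is the dimension of the Lie algebra of G. -/
theorem result (k : Type u) [Field k] [IsAlgClosed k]
    (p : ℕ) [Fact p.Prime] [CharP k p] (A : Type v) [CommRing A] [HopfAlgebra k A] [Module.Finite k A]
    (h1 : ∀ f : A, Bialgebra.counitAlgHom k A f = 0 → f ^ p = 0) :
    Module.finrank k A = p ^ Module.finrank k (RingHom.ker (Bialgebra.counitAlgHom k A)).Cotangent := by
  classical
  haveI : Nontrivial A := (Bialgebra.counitAlgHom k A).toRingHom.domain_nontrivial
  let d : Groth.Agent.FinHopf.Datum k A :=
    Groth.Agent.FinHopf.hopfDatum fun y hy => ⟨p, h1 y hy⟩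
  obtain ⟨r, x, hx0, hgen, hdim⟩ := Groth.Agent.FinHopf.exists_gens_of_height_one d p h1
  have hst : Groth.Agent.FinHopf.Stable d (⊤ : Subalgebra k A) := fun x _ => by
    show d.δ x ∈ _
    induction d.δ x using TensorProduct.induction_on with
    | zero => exact zero_mem _
    | tmul a b => exact ⟨(⟨a, trivial⟩ : (⊤ : Subalgebra k A)) ⊗ₜ ⟨b, trivial⟩, rfl⟩
    | add s t hs ht => exact add_mem hs ht
  obtain ⟨r', x', E, hE, hx0', hgen'⟩ := Groth.Agent.FinHopf.exists_coords d hst
  let I : Ideal A := RingHom.ker (Bialgebra.counitAlgHom k A)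
  haveI : Module.Finite k I.Cotangent :=
    Module.Finite.of_surjective (I.toCotangent.restrictScalars k) I.toCotangent_surjective
  have hm : ∀ {n : ℕ} (y : Fin n → A), (∀ j, d.ε (y j) = 0) → ∀ j, y j ∈ I := fun y hy j => hy j
  -- spanning
  have hspan : ∀ {n : ℕ} (y : Fin n → A) (hy : ∀ j, d.ε (y j) = 0), Algebra.adjoin k (Set.range y) = ⊤ →
      ⊤ ≤ Submodule.span k (Set.range fun j => I.toCotangent ⟨y j, hm y hy j⟩) := by
    intro n y hy hg c _
    obtain ⟨⟨a, ha⟩, rfl⟩ := I.toCotangent_surjective c
    set S := Submodule.span k (Set.range fun j => I.toCotangent ⟨y j, hm y hy j⟩)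
    suffices ∀ a : A, I.toCotangent ⟨a - algebraMap k A (Bialgebra.counitAlgHom k A a), by simp [I]⟩ ∈ S by
      have h := this a
      have e : (⟨a - algebraMap k A (Bialgebra.counitAlgHom k A a), by simp [I]⟩ : I) = ⟨a, ha⟩ :=
        Subtype.ext (by simp [RingHom.mem_ker.1 ha])
      rwa [e] at h
    intro a
    have ha' : a ∈ Algebra.adjoin k (Set.range y) := by rw [hg]; trivial
    induction ha' using Algebra.adjoin_induction with
    | mem z hz =>
      obtain ⟨j, rfl⟩ := hz
      refine Submodule.subset_span ⟨j, congrArg I.toCotangent (Subtype.ext ?_)⟩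
      have : Bialgebra.counitAlgHom k A (y j) = 0 := hy j
      simp [this]
    | algebraMap c =>
      have e : (⟨algebraMap k A c - algebraMap k A (Bialgebra.counitAlgHom k A (algebraMap k A c)),
          by simp [I]⟩ : I) = 0 := Subtype.ext (by simp)
      rw [e, map_zero]
      exact zero_mem _
    | add u w _ _ hu hw =>
      have e : (⟨u + w - algebraMap k A (Bialgebra.counitAlgHom k A (u + w)), by simp [I]⟩ : I) =
          ⟨u - algebraMap k A (Bialgebra.counitAlgHom k A u), by simp [I]⟩ +
          ⟨w - algebraMap k A (Bialgebra.counitAlgHom k A w), by simp [I]⟩ :=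
        Subtype.ext (by simp only [Submodule.coe_add, map_add]; abel)
      rw [e, map_add]
      exact add_mem hu hw
    | mul u w _ _ hu hw =>
      set eu := Bialgebra.counitAlgHom k A u
      set ew := Bialgebra.counitAlgHom k A w
      let u' : I := ⟨u - algebraMap k A eu, by simp [I, eu]⟩
      let w' : I := ⟨w - algebraMap k A ew, by simp [I, ew]⟩
      have e : (⟨u * w - algebraMap k A (Bialgebra.counitAlgHom k A (u * w)), by simp [I]⟩ : I) =
          (u' : A) • w' + eu • w' + ew • u' :=
        Subtype.ext (by
          simp only [Submodule.coe_add, Submodule.coe_smul_of_tower, smul_eq_mul, Algebra.smul_def, map_mul,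
            u', w', eu, ew]
          ring)
      have h0 : I.toCotangent ((u' : A) • w') = 0 := by
        rw [Ideal.toCotangent_eq_zero, pow_two]
        exact Ideal.mul_mem_mul u'.2 w'.2
      rw [e, map_add, map_add, h0, zero_add, LinearMap.map_smul_of_tower, LinearMap.map_smul_of_tower]
      exact add_mem (S.smul_mem _ hw) (S.smul_mem _ hu)
  -- independence
  have hli : LinearIndependent k (fun j => I.toCotangent ⟨(x' j : A), hm (fun j => (x' j : A)) hx0' j⟩) := by
    rw [Fintype.linearIndependent_iff]
    intro g hg i
    have hz : ∑ j, g j • (x' j : A) ∈ I ^ 2 := by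
      have : I.toCotangent (∑ j, g j • (⟨(x' j : A), hm (fun j => (x' j : A)) hx0' j⟩ : I)) = 0 := by
        rw [map_sum]
        simp only [LinearMap.map_smul_of_tower]
        exact hg
      rw [Ideal.toCotangent_eq_zero] at this
      simpa using this
    let θ : A →ₗ[k] k := (d.ε.toLinearMap ∘ₗ (⊤ : Subalgebra k A).val.toLinearMap) ∘ₗ (E i).toLinearMap ∘ₗ
      (Subalgebra.topEquiv : (⊤ : Subalgebra k A) ≃ₐ[k] A).symm.toLinearEquiv.toLinearMap
    have hθ0 : ∀ z ∈ I ^ 2, θ z = 0 := by
      intro z hz
      rw [pow_two] at hz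
      refine Submodule.mul_induction_on hz (fun a ha b hb => ?_) (fun a b ha hb => by rw [map_add, ha, hb, add_zero])
      show d.ε ((E i ((⟨a, trivial⟩ : (⊤ : Subalgebra k A)) * ⟨b, trivial⟩) : (⊤ : Subalgebra k A)) : A) = 0
      rw [(E i).leibniz]
      have ha' : d.ε a = 0 := ha
      have hb' : d.ε b = 0 := hb
      simp [ha', hb']
    have h := hθ0 _ hz
    rw [map_sum, Finset.sum_eq_single i] at h
    · have h2 : θ (x' i : A) = 1 := by
        show d.ε ((E i (x' i) : (⊤ : Subalgebra k A)) : A) = 1
        rw [hE, if_pos rfl]; simp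
      simpa [map_smul, h2] using h
    · intro j _ hj
      have h2 : θ (x' j : A) = 0 := by
        show d.ε ((E i (x' j) : (⊤ : Subalgebra k A)) : A) = 0
        rw [hE, if_neg (Ne.symm hj)]; simp
      simp [map_smul, h2]
    · simp
  have hgenA : Algebra.adjoin k (Set.range fun j => (x' j : A)) = ⊤ := by
    have h := congrArg (Subalgebra.map (⊤ : Subalgebra k A).val) hgen'
    rw [AlgHom.map_adjoin, ← Set.range_comp, Algebra.map_top, Subalgebra.range_val] at h
    exact h
  have hn : Module.finrank k I.Cotangent = r' := by
    rw [Module.finrank_eq_card_basis (Module.Basis.mk hli (hspan _ hx0' hgenA)), Fintype.card_fin]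
  have hp1 : 1 < p := (Fact.out : p.Prime).one_lt
  have hle : r' ≤ r := by
    rw [← hn]
    have := finrank_range_le_card (R := k) (b := fun j => I.toCotangent ⟨x j, hm x hx0 j⟩)
    rw [Set.finrank, top_le_iff.1 (hspan x hx0 hgen), finrank_top, Fintype.card_fin] at this
    exact this
  have hge : p ^ r ≤ p ^ r' := by
    let m : (Fin r' → Fin p) → A := fun f => ∏ j, (x' j : A) ^ (f j : ℕ)
    have hm' : ⊤ ≤ Submodule.span k (Set.range m) := by
      intro a _
      have ha : a ∈ Algebra.adjoin k (Set.range fun j => (x' j : A)) := by rw [hgenA]; trivial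
      rw [Algebra.adjoin_range_eq_range_aeval] at ha
      obtain ⟨q, rfl⟩ := ha
      induction q using MvPolynomial.induction_on' with
      | add u w hu hw => rw [map_add]; exact add_mem (hu trivial) (hw trivial)
      | monomial n c =>
        show MvPolynomial.aeval _ (MvPolynomial.monomial n c) ∈ _
        rw [MvPolynomial.aeval_monomial, ← Algebra.smul_def, Finsupp.prod_fintype _ _ (by simp)]
        refine Submodule.smul_mem _ _ ?_
        by_cases h : ∀ j, n j < p
        · exact Submodule.subset_span ⟨fun j => ⟨n j, h j⟩, rfl⟩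
        · push Not at h
          obtain ⟨j, hj⟩ := h
          rw [Finset.prod_eq_zero (f := fun j => (x' j : A) ^ n j) (Finset.mem_univ j) (pow_eq_zero_of_le hj (h1 _ (hx0' j)))]
          exact zero_mem _
    have := finrank_range_le_card (R := k) (b := m)
    rw [Set.finrank, top_le_iff.1 hm', finrank_top, hdim] at this
    simpa using this
  have hr : r = r' := le_antisymm ((Nat.pow_le_pow_iff_right hp1).1 hge) hle
  rw [hdim, hn, hr]

end Groth.Agent.S17328
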