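import Groth.Statements.S1733
import Mathlib
-- import your own Groth.Agent.* helpers here

set_option autoImplicit false
universe u
open LocCoh

namespace Groth.Agent.S1733

/-- Let f_1, …, f_r and g be elements of a ring (r ≥ 1). If the family f_1, …, f_{r-1}, f_r g is
independent (every linear relation has coefficients in the ideal the family generates), then f_1, …,
f_r is independent. -/
theorem result (A : Type u) [CommRing A] (r : ℕ) (f : Fin (r + 1) → A) (g : A) (h : Dual2.Independent (Function.update f (Fin.last r) (f (Fin.last r) * g))) : Dual2.Independent f := by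
  classical
  intro a ha i
  have hle : Ideal.span (Set.range (Function.update f (Fin.last r) (f (Fin.last r) * g))) ≤
      Ideal.span (Set.range f) := by
    rw [Ideal.span_le]
    rintro _ ⟨j, rfl⟩
    by_cases hj : j = Fin.last r
    · subst hj; rw [Function.update_self]
      exact Ideal.mul_mem_right _ _ (Ideal.subset_span ⟨_, rfl⟩)
    · rw [Function.update_of_ne hj]; exact Ideal.subset_span ⟨j, rfl⟩
  have hlast : a (Fin.last r) ∈ Ideal.span (Set.range (Function.update f (Fin.last r) (f (Fin.last r) * g))) := by
    have h1 := h (Function.update (fun j => g * a j) (Fin.last r) (a (Fin.last r))) ?_ (Fin.last r)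
    · rwa [Function.update_self] at h1
    · rw [Fin.sum_univ_castSucc] at ha ⊢
      simp only [Function.update_self, Function.update_of_ne (Fin.castSucc_ne_last _)]
      linear_combination (norm := (simp only [mul_assoc, ← Finset.mul_sum]; ring)) g * ha
  by_cases hi : i = Fin.last r
  · exact hle (hi ▸ hlast)
  obtain ⟨c, hc⟩ := Ideal.mem_span_range_iff_exists_fun.1 hlast
  rw [Fin.sum_univ_castSucc] at hc ha
  simp only [Function.update_self, Function.update_of_ne (Fin.castSucc_ne_last _)] at hc
  have h2 := h (fun j => if j = Fin.last r then c (Fin.last r) * f (Fin.last r) else a j + c j * f (Fin.last r)) ?_ i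
  · rw [if_neg hi] at h2
    have := Ideal.sub_mem _ (hle h2) (Ideal.mul_mem_left _ (c i) (Ideal.subset_span ⟨Fin.last r, rfl⟩))
    simpa using this
  · rw [Fin.sum_univ_castSucc]
    simp only [Function.update_self, Function.update_of_ne (Fin.castSucc_ne_last _), Fin.castSucc_ne_last, if_false, if_true, add_mul, Finset.sum_add_distrib]
    have e : ∑ x : Fin r, c x.castSucc * f (Fin.last r) * f x.castSucc =
        f (Fin.last r) * ∑ x : Fin r, c x.castSucc * f x.castSucc := by
      rw [Finset.mul_sum]; exact Finset.sum_congr rfl fun x _ => by ring
    rw [e]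
    linear_combination ha + f (Fin.last r) * hc

end Groth.Agent.S1733
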