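import Groth.Statements.S17331
import Groth.Agent.FinHopf.MuAlpha


set_option autoImplicit false
universe u v
open Hopf

namespace Groth.Agent.S17331

/-- Let k be an algebraically closed field of characteristic p > 0, ℓ a prime, and A a commutative Hopf
algebra over k of dimension ℓ as a k-vector space (a finite group scheme G of prime order ℓ). If ℓ ≠
p then G ≅ ℤ/ℓ: A is isomorphic as a bialgebra to the algebra of k-valued functions on the cyclic
group of order ℓ. If ℓ = p then G is isomorphic to ℤ/p, μ_p or α_p: A is isomorphic as a bialgebra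
to the algebra of functions on the cyclic group of order p, to its group algebra (group elements
group-like), or to k[X]/(X^p) with X primitive. -/
theorem result (k : Type u) [Field k] [IsAlgClosed k]
    (p : ℕ) [Fact p.Prime] [CharP k p] (A : Type v) [CommRing A] [HopfAlgebra k A]
    (ℓ : ℕ) [Fact ℓ.Prime] (hA : Module.finrank k A = ℓ) :
    (ℓ ≠ p → Nonempty (A ≃ₐc[k] ConstGrp.F k (Multiplicative (ZMod ℓ)))) ∧
      (ℓ = p → Nonempty (A ≃ₐc[k] ConstGrp.F k (Multiplicative (ZMod p))) ∨
        Nonempty (A ≃ₐc[k] MonoidAlgebra k (Multiplicative (ZMod p))) ∨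
        Nonempty (A ≃ₐc[k] AlphaP.A p k)) := by
  haveI : Module.Finite k A := Module.finite_of_finrank_pos (by rw [hA]; exact (Fact.out : ℓ.Prime).pos)
  refine ⟨fun h => ?_, fun h => ?_⟩
  · haveI : IsReduced A := Groth.Agent.FinHopf.isReduced_of_isAlgClosed (k := k) (by
      rw [hA]
      intro h0
      rw [CharP.cast_eq_zero_iff k p, Nat.prime_dvd_prime_iff_eq Fact.out Fact.out] at h0
      exact h h0.symm)
    exact Groth.Agent.FinHopf.MuAlpha.exists_equiv_constGrp ℓ hA
  · subst h
    by_cases hr : IsReduced A
    · exact Or.inl (Groth.Agent.FinHopf.MuAlpha.exists_equiv_constGrp ℓ hA)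
    · right
      obtain ⟨φ, hφ, hne, h | h⟩ := Groth.Agent.FinHopf.MuAlpha.exists_isDer_pow (k := k) (A := A) ℓ hr
      · right
        obtain ⟨f, hf⟩ := Groth.Agent.FinHopf.MuAlpha.exists_alphaP ℓ hφ hne h
        have hd : Module.finrank k A = Module.finrank k (AlphaP.A ℓ k) := by rw [hA, AlphaP.finrank_eq]
        exact ⟨BialgEquiv.ofBijective f ⟨(LinearMap.injective_iff_surjective_of_finrank_eq_finrank hd).2
          (show Function.Surjective (f : A →ₐ[k] AlphaP.A ℓ k).toLinearMap from hf), hf⟩⟩
      · left
        obtain ⟨f, hf⟩ := Groth.Agent.FinHopf.MuAlpha.exists_mu ℓ hφ hne h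
        have hd : Module.finrank k A = Module.finrank k (MonoidAlgebra k (Multiplicative (ZMod ℓ))) := by
          rw [hA, Module.finrank_eq_card_basis (MonoidAlgebra.basis (Multiplicative (ZMod ℓ)) k)]
          simp
        haveI : Module.Finite k (MonoidAlgebra k (Multiplicative (ZMod ℓ))) :=
          Module.Finite.of_basis (MonoidAlgebra.basis (Multiplicative (ZMod ℓ)) k)
        exact ⟨BialgEquiv.ofBijective f ⟨(LinearMap.injective_iff_surjective_of_finrank_eq_finrank hd).2
          (show Function.Surjective (f : A →ₐ[k] MonoidAlgebra k (Multiplicative (ZMod ℓ))).toLinearMap from hf), hf⟩⟩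

end Groth.Agent.S17331
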