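import Groth.Statements.S17332
import Mathlib
-- import your own Groth.Agent.* helpers here

set_option autoImplicit false
universe u v w
open CAlg

namespace Groth.Agent.S17332

/-- Let k be a field, E and F finite sets, and O(E), O(F) the k-algebras of k-valued functions with
pointwise operations. Then every k-algebra homomorphism u : O(F) → O(E) is pull-back along a unique
map φ : E → F, i.e. u(g) = g ∘ φ for all g. (In the source k is algebraically closed; the printed
argument only uses that k is a field.) -/
theorem result (k : Type u) [Field k] (E : Type v) [Finite E]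
    (F : Type w) [Finite F] (u : (F → k) →ₐ[k] (E → k)) :
    ∃! φ : E → F, ∀ g : F → k, u g = g ∘ φ := by
  classical
  cases nonempty_fintype F
  have hex : ∀ e : E, ∃ f : F, ∀ g : F → k, u g e = g f := by
    intro e
    let χ : (F → k) →ₐ[k] k := (Pi.evalAlgHom k (fun _ : E => k) e).comp u
    obtain ⟨f, hf⟩ : ∃ f : F, χ (Pi.single f 1) ≠ 0 := by
      by_contra! h
      have h1 : (1 : k) = χ (∑ f : F, Pi.single f 1) := by
        rw [show (∑ f : F, Pi.single f (1 : k)) = 1 from Finset.univ_sum_single (1 : F → k), map_one]
      rw [map_sum, Finset.sum_eq_zero fun f _ => h f] at h1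
      exact one_ne_zero h1
    refine ⟨f, fun g => mul_right_cancel₀ hf ?_⟩
    have h2 : g * Pi.single f 1 = g f • Pi.single f 1 := by
      ext i; by_cases hi : i = f
      · subst hi; simp
      · simp [hi]
    change χ g * χ (Pi.single f 1) = g f * χ (Pi.single f 1)
    rw [← map_mul, h2, map_smul, smul_eq_mul]
  choose φ hφ using hex
  refine ⟨φ, fun g => funext fun e => hφ e g, fun ψ hψ => funext fun e => ?_⟩
  have h := congrFun (hψ (Pi.single (ψ e) 1)) e
  rw [hφ e] at h
  by_contra hne
  simp [Pi.single_eq_of_ne (Ne.symm hne)] at h

end Groth.Agent.S17332
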