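import Groth.Statements.S17333
import Mathlib
-- import your own Groth.Agent.* helpers here

set_option autoImplicit false
universe u v w
open CAlg

namespace Groth.Agent.S17333

/-- Let k be a field and A = B × C a decomposable commutative k-algebra. Then the natural map Der(B) ×
Der(C) → Der(A) is bijective: every k-derivation D : A → A is (b, c) ↦ (D₁ b, D₂ c) for a unique
pair of k-derivations D₁ : B → B, D₂ : C → C. Compatibility with brackets is not stated. (The
published statement takes k algebraically closed; this row takes any field.) -/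
theorem result (k : Type u) [Field k] (B : Type v) [CommRing B] [Algebra k B]
    (C : Type w) [CommRing C] [Algebra k C] (D : Derivation k (B × C) (B × C)) :
    ∃! P : Derivation k B B × Derivation k C C, ∀ (b : B) (c : C), D (b, c) = (P.1 b, P.2 c) := by
  have hz : D (1, 0) = 0 := by
    have h := D.leibniz (1, 0) (1, 0)
    simp only [Prod.mk_mul_mk, mul_one, mul_zero, smul_eq_mul] at h
    ext
    · have := congrArg Prod.fst h
      simp at this
      exact this
    · have := congrArg Prod.snd h
      simp at this
      exact this
  have h1 : D (0, 1) = 0 := by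
    have h := D.map_one_eq_zero
    rw [show (1 : B × C) = (1, 0) + (0, 1) by ext <;> simp, map_add, hz, zero_add] at h
    exact h
  have hB : ∀ b : B, (D (b, 0)).2 = 0 := fun b => by
    have h := D.leibniz (1, 0) (b, 0)
    simp only [Prod.mk_mul_mk, one_mul, mul_zero, hz, smul_zero, add_zero, smul_eq_mul] at h
    rw [h]; simp
  have hC : ∀ c : C, (D (0, c)).1 = 0 := fun c => by
    have h := D.leibniz (0, 1) (0, c)
    simp only [Prod.mk_mul_mk, one_mul, mul_zero, h1, smul_zero, add_zero, smul_eq_mul] at h
    rw [h]; simp
  have hsplit : ∀ b c, D (b, c) = ((D (b, 0)).1, (D (0, c)).2) := fun b c => by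
    rw [show ((b, c) : B × C) = (b, 0) + (0, c) by simp, map_add]
    ext <;> simp [hB, hC]
  refine ⟨(Derivation.mk' (LinearMap.fst k B C ∘ₗ D.toLinearMap ∘ₗ LinearMap.inl k B C) fun a b => ?_,
    Derivation.mk' (LinearMap.snd k B C ∘ₗ D.toLinearMap ∘ₗ LinearMap.inr k B C) fun a b => ?_),
    fun b c => by rw [hsplit]; rfl, ?_⟩
  · have h := congrArg Prod.fst (D.leibniz (a, 0) (b, 0))
    simpa using h
  · have h := congrArg Prod.snd (D.leibniz (0, a) (0, b))
    simpa using h
  · rintro ⟨P, Q⟩ hPQ
    ext x
    · simpa using (congrArg Prod.fst (hPQ x 0)).symm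
    · simpa using (congrArg Prod.snd (hPQ 0 x)).symm

end Groth.Agent.S17333
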