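import Groth.Statements.S17334
import Mathlib
-- import your own Groth.Agent.* helpers here

set_option autoImplicit false
universe u v
open CAlg

namespace Groth.Agent.S17334

/-- Let k be a field and A a nonzero commutative k-algebra which is finite-dimensional as a k-vector
space. Then A is indecomposable (no decomposition as a product of two nonzero rings, i.e. no
idempotent other than 0 and 1) if and only if A is a local ring. (In the source k is algebraically
closed and the lemma adds that the maximal ideal is then the nilradical, is nilpotent, and has
residue field k; the equivalence itself uses only that k is a field, and the zero algebra is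
excluded here explicitly.) -/
theorem result (k : Type u) [Field k]
    (A : Type v) [CommRing A] [Algebra k A] [Module.Finite k A] [Nontrivial A] :
    (∀ e : A, IsIdempotentElem e → e = 0 ∨ e = 1) ↔ IsLocalRing A := by
  refine ⟨fun h => ?_, fun h e he => ?_⟩
  · have : IsArtinianRing A := IsArtinianRing.of_finite k A
    refine IsLocalRing.of_isUnit_or_isUnit_one_sub_self fun a => ?_
    obtain ⟨n, x, hx⟩ := IsArtinian.exists_pow_succ_smul_dvd a (1 : A)
    simp only [smul_eq_mul, mul_one, Nat.succ_eq_add_one] at hx
    have hidem : ∀ k, a ^ n = a ^ (n + k) * x ^ k := by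
      intro k
      induction k with
      | zero => simp
      | succ k ih => calc a ^ n = a ^ (n + k) * x ^ k := ih
          _ = a ^ n * (a ^ k * x ^ k) := by ring
          _ = a ^ (n + 1) * x * (a ^ k * x ^ k) := by rw [hx]
          _ = a ^ (n + (k + 1)) * x ^ (k + 1) := by ring
    have he : IsIdempotentElem (a ^ n * x ^ n) := by
      change a ^ n * x ^ n * (a ^ n * x ^ n) = a ^ n * x ^ n
      conv_rhs => rw [hidem n]
      ring
    rcases h _ he with h0 | h1
    · right
      refine IsNilpotent.isUnit_one_sub ⟨n, ?_⟩
      calc a ^ n = a ^ n * (a ^ n * x ^ n) := by rw [← mul_assoc, ← pow_add, ← hidem n]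
        _ = 0 := by rw [h0, mul_zero]
    · rcases n with _ | n
      · left; exact IsUnit.of_mul_eq_one x (by simpa using hx)
      · left; exact (isUnit_pow_iff (Nat.succ_ne_zero n)).mp (IsUnit.of_mul_eq_one _ h1)
  · have h0 : e * (1 - e) = 0 := by rw [mul_sub, mul_one, he.eq, sub_self]
    rcases IsLocalRing.isUnit_or_isUnit_one_sub_self e with hu | hu
    · exact Or.inr (sub_eq_zero.mp (hu.mul_right_eq_zero.mp h0)).symm
    · exact Or.inl (hu.mul_left_eq_zero.mp h0)

end Groth.Agent.S17334
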