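import Mathlib
import Groth.Statements.S17335
-- import your own Groth.Agent.* helpers here

set_option autoImplicit false
universe u v
open CAlg

namespace Groth.Agent.S17335

/-- Let k be an algebraically closed field and A a commutative k-algebra which is finite-dimensional as
a k-vector space, and let E be the set of k-algebra homomorphisms A → k. Then E is finite, and the
evaluation homomorphism A → O(E) = (E → k), a ↦ (f ↦ f(a)), is surjective with kernel the nilradical
of A; it therefore induces an isomorphism of A_red = A/nilradical(A) onto O(E). -/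
theorem result (k : Type u) [Field k]
    [IsAlgClosed k] (A : Type v) [CommRing A] [Algebra k A] [Module.Finite k A] :
    Finite (A →ₐ[k] k) ∧
      Function.Surjective (AlgHom.pi (R := k) (fun f : A →ₐ[k] k => f)) ∧
      RingHom.ker (AlgHom.pi (R := k) (fun f : A →ₐ[k] k => f)) = nilradical A := by
  classical
  haveI : IsArtinianRing A := IsArtinianRing.of_finite k A
  have hfix : ∀ (f : A →ₐ[k] k) (a : A), a - algebraMap k A (f a) ∈ RingHom.ker f := fun f a => by simp
  have hinj : Function.Injective (fun f : A →ₐ[k] k => RingHom.ker f) := by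
    intro f g h
    ext a
    have := hfix f a
    simp only at h
    rw [h, RingHom.mem_ker, map_sub, AlgHom.commutes, sub_eq_zero] at this
    exact this.symm
  have hmax : ∀ f : A →ₐ[k] k, (RingHom.ker f).IsMaximal := fun f =>
    RingHom.ker_isMaximal_of_surjective f fun c => ⟨algebraMap k A c, f.commutes c⟩
  haveI : Finite (A →ₐ[k] k) :=
    Finite.of_injective (fun f => (⟨RingHom.ker f, hmax f⟩ : MaximalSpectrum A)) fun f g h => hinj (congrArg MaximalSpectrum.asIdeal h)
  refine ⟨inferInstance, ?_, ?_⟩
  · intro x
    have hcop : Pairwise fun f g : A →ₐ[k] k => IsCoprime (RingHom.ker f) (RingHom.ker g) := fun f g hfg =>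
      (Ideal.isCoprime_iff_sup_eq).2 ((hmax f).coprime_of_ne (hmax g) fun e => hfg (hinj e))
    obtain ⟨r, hr⟩ := Ideal.exists_forall_sub_mem_ideal hcop (fun f => algebraMap k A (x f))
    refine ⟨r, funext fun f => ?_⟩
    have := hr f
    rw [RingHom.mem_ker, map_sub, AlgHom.commutes, sub_eq_zero] at this
    exact this
  · ext a
    rw [RingHom.mem_ker, nilradical_eq_sInf, Ideal.mem_sInf]
    constructor
    · intro h P hP
      haveI : P.IsPrime := hP
      haveI : P.IsMaximal := IsArtinianRing.isMaximal_of_isPrime P
      letI := Ideal.Quotient.field P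
      let e : k ≃ₐ[k] (A ⧸ P) := AlgEquiv.ofBijective (Algebra.ofId k (A ⧸ P))
        ⟨(algebraMap k (A ⧸ P)).injective, IsAlgClosed.algebraMap_bijective_of_isIntegral.2⟩
      have h1 := congrFun h (e.symm.toAlgHom.comp (Ideal.Quotient.mkₐ k P))
      rw [← Ideal.Quotient.eq_zero_iff_mem]
      apply e.symm.injective
      rw [map_zero]
      exact h1
    · intro h
      funext f
      exact h (hmax f).isPrime

end Groth.Agent.S17335
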