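import Groth.Statements.S17338
import Groth.Agent.PBW.RestrictedHopf
import Groth.Prelude.Def_CartDual
import Mathlib.RingTheory.Derivation.Lie


set_option autoImplicit false
universe u v
open Hopf

namespace Groth.Agent.S17338

open Module TensorProduct PLie WithConv Groth.Agent.PBW

set_option maxHeartbeats 1000000
set_option synthInstance.maxHeartbeats 200000

theorem eq_zero_of_ev {k : Type*} [Field k] {U : Type*} [AddCommGroup U] [Module k U] [Module.Finite k U]
    {z : U ⊗[k] U} (h : ∀ f g : CartDual.D k U, CartDual.ev₂ k U (f ⊗ₜ g) z = 0) : z = 0 := by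
  refine (Module.forall_dual_apply_eq_zero_iff k z).1 fun θ => ?_
  obtain ⟨y, rfl⟩ := (CartDual.ev₂ k U).surjective θ
  induction y using TensorProduct.induction_on with
  | zero => simp
  | add a c ha hc => rw [map_add, LinearMap.add_apply, ha, hc, add_zero]
  | tmul f g => exact h f g


/-- Let k be an algebraically closed field of characteristic p > 0 and (L, x ↦ x^[p]) a
finite-dimensional restricted Lie algebra over k. Then L is the Lie algebra of an infinitesimal
group scheme of height at most one: there are a commutative Hopf algebra A over k,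
finite-dimensional as a k-vector space, with f^p = 0 for every f in the augmentation ideal, and an
injective k-linear map e from L to the k-derivations of A whose image is exactly the set of
left-invariant derivations (those D with Δ ∘ D = (id ⊗ D) ∘ Δ), such that e takes brackets to
commutators of derivations and x^[p] to the p-th power of e(x) as an endomorphism of A. (The
assignment G ↦ Lie(G) is moreover fully faithful on height ≤ 1 groups; that half is not stated
here.) -/
theorem result (k : Type u) [Field k]
    [IsAlgClosed k] (p : ℕ) [Fact p.Prime] [CharP k p]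
    (L : Type u) [LieRing L] [LieAlgebra k L] [Module.Finite k L] (φ : PLie.PMap k p L) :
    ∃ (A : Type u) (_ : CommRing A) (_ : HopfAlgebra k A), Module.Finite k A ∧
      (∀ f : A, Bialgebra.counitAlgHom k A f = 0 → f ^ p = 0) ∧
      ∃ e : L →ₗ[k] Derivation k A A, Function.Injective e ∧
        Set.range e = {D : Derivation k A A | CoalgebraStruct.comul (R := k) (A := A) ∘ₗ D.toLinearMap =
          LinearMap.lTensor A D.toLinearMap ∘ₗ CoalgebraStruct.comul (R := k) (A := A)} ∧
        (∀ x y : L, e ⁅x, y⁆ = ⁅e x, e y⁆) ∧
        (∀ x : L, (e (φ x)).toLinearMap = (e x).toLinearMap ^ p) := by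
  let b := Module.finBasis k L
  letI := Res.hopf φ b
  haveI := Res.finite_alg φ b
  let U := Res.Alg φ b
  haveI : Coalgebra.IsCocomm k U := ⟨LinearMap.ext (Res.comm_delta φ b)⟩
  let A := CartDual.D k U
  let xb := fun x : L => Res.iL φ b x
  have hΔ : ∀ x : L, CoalgebraStruct.comul (R := k) (xb x) = xb x ⊗ₜ[k] 1 + 1 ⊗ₜ[k] xb x :=
    Res.delta_iL φ b
  have hmul : ∀ (f g : A) (w : U) (x : L), (f * g).ofConv (w * xb x) =
      (toConv (f.ofConv ∘ₗ LinearMap.mulRight k (xb x)) * g).ofConv w +
        (f * toConv (g.ofConv ∘ₗ LinearMap.mulRight k (xb x))).ofConv w := by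
    intro f g w x
    show LinearMap.mul' k k (TensorProduct.map f.ofConv g.ofConv (CoalgebraStruct.comul (R := k) (w * xb x))) =
      LinearMap.mul' k k (TensorProduct.map (f.ofConv ∘ₗ LinearMap.mulRight k (xb x)) g.ofConv
          (CoalgebraStruct.comul (R := k) w)) +
        LinearMap.mul' k k (TensorProduct.map f.ofConv (g.ofConv ∘ₗ LinearMap.mulRight k (xb x))
          (CoalgebraStruct.comul (R := k) w))
    rw [Bialgebra.comul_mul, hΔ]
    generalize CoalgebraStruct.comul (R := k) w = z
    induction z using TensorProduct.induction_on with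
    | zero => simp
    | add p q hp hq => simp only [add_mul, map_add, hp, hq]; abel
    | tmul p q => simp [mul_add, Algebra.TensorProduct.tmul_mul_tmul]
  let mk : L → Derivation k A A := fun x =>
    Derivation.mk' ((WithConv.linearEquiv k (U →ₗ[k] k)).symm.toLinearMap ∘ₗ
        (LinearMap.mulRight k (xb x)).dualMap ∘ₗ (WithConv.linearEquiv k (U →ₗ[k] k)).toLinearMap)
      fun f g => by
        apply (WithConv.equiv (U →ₗ[k] k)).injective
        refine LinearMap.ext fun w => ?_
        show (f * g).ofConv (w * xb x) = (f • toConv (g.ofConv ∘ₗ LinearMap.mulRight k (xb x)) +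
          g • toConv (f.ofConv ∘ₗ LinearMap.mulRight k (xb x))).ofConv w
        rw [hmul, smul_eq_mul, smul_eq_mul, mul_comm g, WithConv.ofConv_add, LinearMap.add_apply, add_comm]
  have hmk : ∀ (x : L) (f : A) (w : U), (mk x f).ofConv w = f.ofConv (w * xb x) := fun _ _ _ => rfl
  have hext : ∀ {f g : A}, (∀ w : U, f.ofConv w = g.ofConv w) → f = g := fun h =>
    (WithConv.equiv (U →ₗ[k] k)).injective (LinearMap.ext h)
  let e : L →ₗ[k] Derivation k A A :=
    { toFun := mk
      map_add' := fun x y => Derivation.ext fun f => hext fun w => by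
        show f.ofConv (w * Res.iL φ b (x + y)) = f.ofConv (w * Res.iL φ b x) + f.ofConv (w * Res.iL φ b y)
        simp only [map_add, mul_add]
      map_smul' := fun c x => Derivation.ext fun f => hext fun w => by
        show f.ofConv (w * Res.iL φ b (c • x)) = c • f.ofConv (w * Res.iL φ b x)
        simp only [map_smul, mul_smul_comm] }
  have he : ∀ (x : L) (f : A) (w : U), (e x f).ofConv w = f.ofConv (w * xb x) := fun _ _ _ => rfl
  refine ⟨A, inferInstance, inferInstance, inferInstance, ?_, e, ?_, ?_, ?_, ?_⟩
  · intro f hf
    have hf1 : f.ofConv 1 = 0 := hf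
    haveI : CharP A p := by
      haveI : Nontrivial A := ⟨⟨0, 1, fun h => by
        have := DFunLike.congr_fun (congrArg WithConv.ofConv h) (1 : U)
        simp [LinearMap.convOne_apply] at this⟩⟩
      exact charP_of_injective_algebraMap (algebraMap k A).injective p
    refine hext fun w => ?_
    rw [WithConv.ofConv_zero, LinearMap.zero_apply]
    have hD : ∀ (x : L) (w : U), (f ^ p).ofConv (w * xb x) = 0 := by
      intro x w
      rw [← he]
      rw [Derivation.leibniz_pow, ← Nat.cast_smul_eq_nsmul A, CharP.cast_eq_zero, zero_smul (M₀ := A),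
        WithConv.ofConv_zero, LinearMap.zero_apply]
    suffices h : ∀ w v : U, (f ^ p).ofConv v = 0 → (f ^ p).ofConv (v * w) = 0 by
      rw [← one_mul w]
      refine h w 1 ?_
      show Bialgebra.counitAlgHom k A (f ^ p) = 0
      rw [map_pow, hf, zero_pow (Fact.out : p.Prime).ne_zero]
    intro w
    induction w using Res.induction' φ b with
    | hr r => intro v hv; rw [← Algebra.commutes, ← Algebra.smul_def, map_smul, hv, smul_zero]
    | hi x => intro v _; exact hD x v
    | hm a c ha hc => intro v hv; rw [← mul_assoc]; exact hc _ (ha _ hv)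
    | ha a c ha hc => intro v hv; rw [mul_add, map_add, ha v hv, hc v hv, add_zero]
  · refine (injective_iff_map_eq_zero _).2 fun x hx => Res.iL_injective φ b (?_ : xb x = Res.iL φ b 0)
    rw [map_zero]
    refine (Module.forall_dual_apply_eq_zero_iff k (xb x)).1 fun θ => ?_
    have := he x (toConv θ) 1
    rw [hx, one_mul] at this
    exact this.symm
  · ext D
    constructor
    · rintro ⟨x, rfl⟩
      refine LinearMap.ext fun f => (CartDual.ev₂ k U).injective (TensorProduct.ext' fun a c => ?_)
      simp only [LinearMap.comp_apply]
      rw [CartDual.ev₂_coalgebra_comul_tmul, CartDual.coe_apply]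
      refine (he x f (a * c)).trans ?_
      rw [mul_assoc]
      have key : ∀ y : A ⊗[k] A, CartDual.ev₂ k U (((e x : Derivation k A A) : A →ₗ[k] A).lTensor A y) (a ⊗ₜ c) =
          CartDual.ev₂ k U y (a ⊗ₜ (c * xb x)) := by
        intro y
        induction y using TensorProduct.induction_on with
        | zero => simp
        | add p q hp hq => simp only [map_add, LinearMap.add_apply, hp, hq]
        | tmul p q =>
          rw [LinearMap.lTensor_tmul, CartDual.ev₂_tmul, CartDual.ev₂_tmul]
          exact congrArg _ (he x q c)
      rw [key, CartDual.ev₂_coalgebra_comul_tmul, CartDual.coe_apply]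
    · intro hD
      let δ : A →ₗ[k] k := CartDual.counit k U ∘ₗ (D : A →ₗ[k] A)
      obtain ⟨t, ht⟩ := (Module.bijective_dual_eval k U).2 (δ ∘ₗ (WithConv.linearEquiv k (U →ₗ[k] k)).symm.toLinearMap)
      have htf : ∀ f : A, f.ofConv t = (D f).ofConv 1 := fun f => LinearMap.congr_fun ht f.ofConv
      have hDf : ∀ (f : A) (a : U), (D f).ofConv a = f.ofConv (a * t) := by
        intro f a
        have h1 := congrArg (fun y => CartDual.ev₂ k U y (a ⊗ₜ (1 : U))) (LinearMap.congr_fun hD f)
        simp only [LinearMap.comp_apply] at h1
        rw [CartDual.ev₂_coalgebra_comul_tmul, mul_one, CartDual.coe_apply] at h1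
        refine h1.trans ?_
        have key : ∀ y : A ⊗[k] A, CartDual.ev₂ k U ((D : A →ₗ[k] A).lTensor A y) (a ⊗ₜ (1 : U)) =
            CartDual.ev₂ k U y (a ⊗ₜ t) := by
          intro y
          induction y using TensorProduct.induction_on with
          | zero => simp
          | add p q hp hq => simp only [map_add, LinearMap.add_apply, hp, hq]
          | tmul p q =>
            rw [LinearMap.lTensor_tmul, CartDual.ev₂_tmul, CartDual.ev₂_tmul]
            exact congrArg _ (htf q).symm
        rw [key, CartDual.ev₂_coalgebra_comul_tmul, CartDual.coe_apply]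
      have hprim : CoalgebraStruct.comul (R := k) t = t ⊗ₜ[k] 1 + 1 ⊗ₜ[k] t := by
        rw [← sub_eq_zero]
        refine eq_zero_of_ev fun f g => ?_
        have h1 : (f * g).ofConv t = (D (f * g)).ofConv 1 := htf _
        rw [Derivation.leibniz, smul_eq_mul, smul_eq_mul, WithConv.ofConv_add, LinearMap.add_apply,
          LinearMap.convMul_apply, LinearMap.convMul_apply, LinearMap.convMul_apply, Bialgebra.comul_one,
          Algebra.TensorProduct.one_def, TensorProduct.map_tmul, TensorProduct.map_tmul,
          LinearMap.mul'_apply, LinearMap.mul'_apply, ← htf, ← htf] at h1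
        have h2 : CartDual.ev₂ k U (f ⊗ₜ g) (CoalgebraStruct.comul (R := k) t) =
            LinearMap.mul' k k (TensorProduct.map f.ofConv g.ofConv (CoalgebraStruct.comul (R := k) t)) := by
          generalize CoalgebraStruct.comul (R := k) t = z
          induction z using TensorProduct.induction_on with
          | zero => simp
          | add p q hp hq => simp only [map_add, hp, hq]
          | tmul p q => simp [CartDual.coe_apply]
        rw [map_sub, map_add, h2, h1, CartDual.ev₂_tmul, CartDual.ev₂_tmul]
        simp only [CartDual.coe_apply]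
        ring
      obtain ⟨x, hx⟩ := Res.eq_iL_of_primitive φ b hprim
      exact ⟨x, Derivation.ext fun f => hext fun w => by rw [he, hDf]; exact congrArg _ (congrArg _ hx)⟩
  · intro x y
    refine Derivation.ext fun f => hext fun w => ?_
    rw [Derivation.commutator_apply, WithConv.ofConv_sub, LinearMap.sub_apply, he, he, he, he, he]
    simp only [xb, Res.iL_lie, mul_sub, map_sub, mul_assoc]
  · intro x
    refine LinearMap.ext fun f => hext fun w => ?_
    have key : ∀ (m : ℕ) (f : A) (w : U), ((((e x).toLinearMap) ^ m) f).ofConv w = f.ofConv (w * xb x ^ m) := by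
      intro m
      induction m with
      | zero => intro f w; simp
      | succ m ih =>
        intro f w
        rw [pow_succ ((e x).toLinearMap), Module.End.mul_apply, ih]
        show (e x f).ofConv _ = _
        rw [he, mul_assoc, ← pow_succ]
    rw [key]
    show (e (φ x) f).ofConv w = _
    rw [he]
    simp only [xb, Res.iL_pow]

end Groth.Agent.S17338
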