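import Groth.Statements.S1734
-- import your own Groth.Agent.* helpers here

set_option autoImplicit false
universe u
open LocCoh

namespace Groth.Agent.S1734

section Aux
open Submodule

lemma range_eq_insert {A : Type u} [CommRing A] {r : ℕ} (f : Fin (r + 1) → A) (y : A) :
    Ideal.span (Set.range (Function.update f (Fin.last r) y)) =
      Ideal.span (Set.range (fun i : Fin r => f i.castSucc)) ⊔ Ideal.span {y} := by
  rw [← Ideal.span_union]
  congr 1
  ext z
  simp only [Set.mem_range, Set.mem_union, Set.mem_singleton_iff]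
  constructor
  · rintro ⟨i, rfl⟩
    induction i using Fin.lastCases with
    | last => exact Or.inr (Function.update_self _ _ _)
    | cast i => exact Or.inl ⟨i, (Function.update_of_ne (Fin.castSucc_lt_last i).ne _ _).symm⟩
  · rintro (⟨i, rfl⟩ | rfl)
    · exact ⟨i.castSucc, Function.update_of_ne (Fin.castSucc_lt_last i).ne _ _⟩
    · exact ⟨Fin.last r, Function.update_self _ _ _⟩

lemma split {A : Type u} [CommRing A] (J : Ideal A) (u g : A)
    (hind : ∀ a, a * u ∈ J ⊔ Ideal.span {u * g} → a ∈ J ⊔ Ideal.span {g}) :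
    Module.length A (A ⧸ (J ⊔ Ideal.span {u * g})) =
      Module.length A (A ⧸ (J ⊔ Ideal.span {u})) + Module.length A (A ⧸ (J ⊔ Ideal.span {g})) := by
  set P := J ⊔ Ideal.span {u * g}
  set U := J ⊔ Ideal.span {u}
  set G := J ⊔ Ideal.span {g}
  have hPU : P ≤ U := sup_le_sup_left (Ideal.span_singleton_le_span_singleton.2 ⟨g, rfl⟩) J
  have hGP : G ≤ Submodule.comap (LinearMap.mulRight A u) P := by
    refine sup_le (fun x hx => ?_) ?_
    · exact Ideal.mem_sup_left (J.mul_mem_right u hx)
    · rw [Ideal.span_le]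
      rintro x rfl
      refine Ideal.mem_sup_right ?_
      rw [Ideal.mem_span_singleton]
      exact ⟨1, by simp [mul_comm]⟩
  let φ : (A ⧸ G) →ₗ[A] A ⧸ P := Submodule.mapQ G P (LinearMap.mulRight A u) hGP
  let ψ : (A ⧸ P) →ₗ[A] A ⧸ U := Submodule.factor hPU
  have hinj : Function.Injective φ := by
    rw [injective_iff_map_eq_zero]
    intro z hz
    obtain ⟨a, rfl⟩ := Submodule.Quotient.mk_surjective _ z
    exact (Submodule.Quotient.mk_eq_zero _).2 (hind a ((Submodule.Quotient.mk_eq_zero _).1 hz))
  have hsur : Function.Surjective ψ := Submodule.factor_surjective hPU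
  have hex : Function.Exact φ ψ := by
    intro z
    obtain ⟨a, rfl⟩ := Submodule.Quotient.mk_surjective _ z
    constructor
    · intro hz
      have ha : a ∈ U := (Submodule.Quotient.mk_eq_zero _).1 hz
      obtain ⟨j, hj, w, hw, rfl⟩ := Submodule.mem_sup.1 ha
      obtain ⟨c, rfl⟩ := Ideal.mem_span_singleton'.1 hw
      refine ⟨Submodule.Quotient.mk c, ?_⟩
      refine (Submodule.Quotient.eq _).2 ?_
      show c * u - (j + c * u) ∈ P
      rw [sub_add_cancel_right]
      exact P.neg_mem (Ideal.mem_sup_left hj)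
    · rintro ⟨w, hw⟩
      obtain ⟨c, rfl⟩ := Submodule.Quotient.mk_surjective _ w
      rw [← hw]
      exact (Submodule.Quotient.mk_eq_zero _).2
        (Ideal.mem_sup_right (Ideal.mem_span_singleton'.2 ⟨c, rfl⟩))
  rw [Module.length_eq_add_of_exact φ ψ hinj hsur hex, add_comm]

end Aux

/-- Let f_1, …, f_r, g be elements of a ring A (r ≥ 1) such that f_1, …, f_{r-1}, f_r g is independent
and A/(f_1, …, f_{r-1}, f_r g) has finite length. Then length A/(f_1, …, f_{r-1}, f_r g) = length
A/(f_1, …, f_r) + length A/(f_1, …, f_{r-1}, g). -/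
theorem result (A : Type u) [CommRing A] (r : ℕ) (f : Fin (r + 1) → A) (g : A) (h : Dual2.Independent (Function.update f (Fin.last r) (f (Fin.last r) * g))) (hfin : IsFiniteLength A (A ⧸ Ideal.span (Set.range (Function.update f (Fin.last r) (f (Fin.last r) * g))))) : Module.length A (A ⧸ Ideal.span (Set.range (Function.update f (Fin.last r) (f (Fin.last r) * g)))) = Module.length A (A ⧸ Ideal.span (Set.range f)) + Module.length A (A ⧸ Ideal.span (Set.range (Function.update f (Fin.last r) g))) := by
  have hf : f = Function.update f (Fin.last r) (f (Fin.last r)) := (Function.update_eq_self _ f).symm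
  conv_rhs => arg 1; rw [hf]
  rw [range_eq_insert, range_eq_insert, range_eq_insert]
  refine split _ _ _ fun a ha => ?_
  obtain ⟨j, hj, w, hw, hjw⟩ := Submodule.mem_sup.1 ha
  obtain ⟨c, rfl⟩ := Ideal.mem_span_singleton'.1 hw
  obtain ⟨k, hk⟩ := Ideal.mem_span_range_iff_exists_fun.1 hj
  let b : Fin (r + 1) → A := Fin.snoc (fun i => -(k i * g)) (a - c * g)
  have hb := h b (by
    rw [Fin.sum_univ_castSucc]
    simp only [b, Fin.snoc_castSucc, Fin.snoc_last, Function.update_self,
      Function.update_of_ne (Fin.castSucc_lt_last _).ne, neg_mul]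
    rw [Finset.sum_neg_distrib]
    have : ∑ x, k x * g * f (Fin.castSucc x) = g * j := by
      rw [← hk, Finset.mul_sum]
      exact Finset.sum_congr rfl fun x _ => by ring
    rw [this]
    linear_combination (g * (-1 : A)) * hjw) (Fin.last r)
  rw [range_eq_insert, show b (Fin.last r) = a - c * g from Fin.snoc_last ..] at hb
  have hle : Ideal.span (Set.range fun i : Fin r => f i.castSucc) ⊔ Ideal.span {f (Fin.last r) * g}
      ≤ Ideal.span (Set.range fun i : Fin r => f i.castSucc) ⊔ Ideal.span {g} :=
    sup_le_sup_left (Ideal.span_singleton_le_span_singleton.2 ⟨f (Fin.last r), mul_comm _ _⟩) _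
  have := Submodule.add_mem _ (hle hb) (Ideal.mem_sup_right (Ideal.mem_span_singleton'.2 ⟨c, rfl⟩))
  simpa using this

end Groth.Agent.S1734
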