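import Groth.Statements.S1735
import Mathlib
-- import your own Groth.Agent.* helpers here

set_option autoImplicit false
universe u
open LocCoh

namespace Groth.Agent.S1735

open IsLocalRing in
/-- Chevalley's lemma. -/
theorem chevalley {A : Type u} [CommRing A] [IsLocalRing A] [IsNoetherianRing A]
    [IsAdicComplete (maximalIdeal A) A] (J : ℕ → Ideal A) (hJ : Antitone J) (h0 : ⨅ m, J m = ⊥) (k : ℕ) :
    ∃ m, J m ≤ maximalIdeal A ^ k := by
  rcases Nat.eq_zero_or_pos k with rfl | hk
  · exact ⟨0, by simp⟩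
  have hstab : ∀ i : ℕ, ∃ N : ℕ, ∀ m ≥ N, J N ≤ J m ⊔ maximalIdeal A ^ i := by
    intro i
    rcases Nat.eq_zero_or_pos i with rfl | hi
    · exact ⟨0, fun m _ => by simp⟩
    haveI : IsArtinianRing (A ⧸ maximalIdeal A ^ i) := by
      haveI : Nontrivial (A ⧸ maximalIdeal A ^ i) :=
        Ideal.Quotient.nontrivial_iff.mpr fun h => (maximalIdeal.isMaximal A).ne_top
          (top_le_iff.mp (h ▸ (Ideal.pow_le_self hi.ne' : maximalIdeal A ^ i ≤ maximalIdeal A)))
      haveI : Ring.KrullDimLE 0 (A ⧸ maximalIdeal A ^ i) := by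
        refine Ring.KrullDimLE.mk₀ fun P hP => ?_
        have hc := hP.comap (Ideal.Quotient.mk (maximalIdeal A ^ i))
        have hle : maximalIdeal A ≤ P.comap (Ideal.Quotient.mk (maximalIdeal A ^ i)) :=
          hc.le_of_pow_le (fun x hx => by
            rw [Ideal.mem_comap, Ideal.Quotient.eq_zero_iff_mem.mpr hx]; exact P.zero_mem)
        have hM : (P.comap (Ideal.Quotient.mk (maximalIdeal A ^ i))).IsMaximal :=
          ((maximalIdeal.isMaximal A).eq_of_le hc.ne_top hle) ▸ maximalIdeal.isMaximal A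
        have := (Ideal.map_eq_top_or_isMaximal_of_surjective (Ideal.Quotient.mk (maximalIdeal A ^ i)) Ideal.Quotient.mk_surjective hM)
        rw [Ideal.map_comap_of_surjective _ Ideal.Quotient.mk_surjective] at this
        exact this.resolve_left hP.ne_top
      exact IsNoetherianRing.isArtinianRing_of_krullDimLE_zero
    obtain ⟨N, hN⟩ := IsArtinian.monotone_stabilizes
      (R := A ⧸ maximalIdeal A ^ i) (M := A ⧸ maximalIdeal A ^ i)
      ⟨fun m => OrderDual.toDual ((J m).map (Ideal.Quotient.mk (maximalIdeal A ^ i))),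
        fun a b hab => Ideal.map_mono (hJ hab)⟩
    refine ⟨N, fun m hm => ?_⟩
    have h := hN m hm
    simp only [OrderHom.coe_mk, OrderDual.toDual_inj] at h
    have h' := congrArg (Ideal.comap (Ideal.Quotient.mk (maximalIdeal A ^ i))) h
    rw [Ideal.comap_map_of_surjective _ Ideal.Quotient.mk_surjective,
      Ideal.comap_map_of_surjective _ Ideal.Quotient.mk_surjective, ← RingHom.ker_eq_comap_bot, Ideal.mk_ker] at h'
    exact h' ▸ le_sup_left
  choose N hN using hstab
  refine ⟨N k, fun x hx => ?_⟩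
  have hstep : ∀ i (y : A), y ∈ J (N i) → ∃ y' ∈ J (N (i + 1)), y' - y ∈ maximalIdeal A ^ i := by
    intro i y hy
    obtain ⟨j, hj, r, hr, rfl⟩ := Submodule.mem_sup.mp (hN i (max (N i) (N (i + 1))) (le_max_left _ _) hy)
    exact ⟨j, hJ (le_max_right _ _) hj, by rw [show j - (j + r) = -r by ring]; exact neg_mem hr⟩
  let s : ℕ → {p : ℕ × A // p.2 ∈ J (N p.1)} := fun n => Nat.rec ⟨(k, x), hx⟩
    (fun _ p => ⟨(p.1.1 + 1, (hstep p.1.1 p.1.2 p.2).choose), (hstep p.1.1 p.1.2 p.2).choose_spec.1⟩) n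
  have hs1 : ∀ n, (s n).1.1 = k + n := fun n => by
    induction n with
    | zero => rfl
    | succ n ih => show (s n).1.1 + 1 = _; omega
  have hsd : ∀ n, (s (n + 1)).1.2 - (s n).1.2 ∈ maximalIdeal A ^ (k + n) := fun n => by
    rw [← hs1 n]; exact (hstep (s n).1.1 (s n).1.2 (s n).2).choose_spec.2
  have hcum : ∀ a n, a ≤ n → (s n).1.2 - (s a).1.2 ∈ maximalIdeal A ^ (k + a) := by
    intro a n han
    induction n, han using Nat.le_induction with
    | base => simp
    | succ n hn ih =>
      rw [show (s (n + 1)).1.2 - (s a).1.2 = ((s (n + 1)).1.2 - (s n).1.2) + ((s n).1.2 - (s a).1.2) by ring]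
      exact add_mem (Ideal.pow_le_pow_right (by omega) (hsd n)) ih
  obtain ⟨L, hL⟩ := IsPrecomplete.prec' (I := maximalIdeal A) (fun n => (s n).1.2) (fun {a b} hab => by
    rw [SModEq.sub_mem, smul_eq_mul, Ideal.mul_top, ← neg_sub]
    exact neg_mem (Ideal.pow_le_pow_right (by omega) (hcum a b hab)))
  have hL' : ∀ n, L - (s n).1.2 ∈ maximalIdeal A ^ (k + n) := fun n => by
    have h1 := hL (k + n)
    rw [SModEq.sub_mem, smul_eq_mul, Ideal.mul_top] at h1
    have h2 := hcum n (k + n) (by omega)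
    rw [show L - (s n).1.2 = ((s (k + n)).1.2 - (s n).1.2) - ((s (k + n)).1.2 - L) by ring]
    exact sub_mem h2 h1
  have hbot : ∀ (P : Ideal A) (y : A), (∀ n, y ∈ P ⊔ maximalIdeal A ^ n) → y ∈ P := by
    intro P y hy
    by_cases hP : P = ⊤
    · simp [hP]
    rw [← Ideal.Quotient.eq_zero_iff_mem]
    haveI : Nontrivial (A ⧸ P) := Ideal.Quotient.nontrivial_iff.mpr hP
    haveI : IsLocalRing (A ⧸ P) := IsLocalRing.of_surjective' (Ideal.Quotient.mk P) Ideal.Quotient.mk_surjective
    have hne : (maximalIdeal A).map (Ideal.Quotient.mk P) ≠ ⊤ := by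
      rw [Ne, ← Ideal.comap_eq_top_iff (f := Ideal.Quotient.mk P),
        Ideal.comap_map_of_surjective _ Ideal.Quotient.mk_surjective, ← RingHom.ker_eq_comap_bot, Ideal.mk_ker]
      exact fun h => (maximalIdeal.isMaximal A).ne_top (top_le_iff.mp (h ▸ sup_le le_rfl (le_maximalIdeal hP)))
    rw [← Ideal.mem_bot, ← Ideal.iInf_pow_eq_bot_of_isLocalRing _ hne]
    refine Ideal.mem_iInf.mpr fun n => ?_
    rw [← Ideal.map_pow]
    obtain ⟨a, ha, b, hb, rfl⟩ := Submodule.mem_sup.mp (hy n)
    rw [map_add, Ideal.Quotient.eq_zero_iff_mem.mpr ha, zero_add]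
    exact Ideal.mem_map_of_mem _ hb
  have hLJ : L ∈ ⨅ m, J m := by
    refine Ideal.mem_iInf.mpr fun m => hbot _ _ fun n => ?_
    obtain ⟨a, ha, b, hb, hab⟩ := Submodule.mem_sup.mp
      (hN ((s n).1.1) (max m (N (s n).1.1)) (le_max_right _ _) (s n).2)
    rw [show L = a + (b + (L - (s n).1.2)) by rw [← hab]; ring]
    refine add_mem (Submodule.mem_sup_left (hJ (le_max_left _ _) ha)) (Submodule.mem_sup_right (add_mem ?_ ?_))
    · exact Ideal.pow_le_pow_right (by rw [hs1]; omega) hb
    · exact Ideal.pow_le_pow_right (by omega) (hL' n)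
  rw [h0, Ideal.mem_bot] at hLJ
  have := hL' 0
  rw [hLJ, zero_sub, add_zero, Ideal.neg_mem_iff] at this
  exact this

/-- Let A be a complete Noetherian local domain and p a prime ideal with dim(A/p) = 1. For every n ≥ 1
there is m ≥ n such that the m-th symbolic power of p (the contraction of p^m A_p to A) is contained
in p^n. -/
theorem result (A : Type u) [CommRing A] [IsDomain A] [IsLocalRing A] [IsNoetherianRing A] [IsAdicComplete (IsLocalRing.maximalIdeal A) A] (p : Ideal A) [p.IsPrime] (hp : ringKrullDim (A ⧸ p) = 1) (n : ℕ) (hn : 1 ≤ n) : ∃ m : ℕ, n ≤ m ∧ ((Ideal.map (algebraMap A (Localization.AtPrime p)) p) ^ m).comap (algebraMap A (Localization.AtPrime p)) ≤ p ^ n := by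
  classical
  let Jf : ℕ → Ideal A := fun m => ((Ideal.map (algebraMap A (Localization.AtPrime p)) p) ^ m).comap (algebraMap A (Localization.AtPrime p))
  have hanti : Antitone Jf := fun a b hab => Ideal.comap_mono (Ideal.pow_le_pow_right hab)
  haveI : IsNoetherianRing (Localization.AtPrime p) := IsLocalization.isNoetherianRing p.primeCompl _ inferInstance
  have h0 : ⨅ m, Jf m = ⊥ := by
    rw [← Ideal.comap_iInf]
    have hne : Ideal.map (algebraMap A (Localization.AtPrime p)) p ≠ ⊤ := by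
      rw [Localization.AtPrime.map_eq_maximalIdeal]
      exact (IsLocalRing.maximalIdeal.isMaximal _).ne_top
    rw [Ideal.iInf_pow_eq_bot_of_isLocalRing _ hne, ← RingHom.ker_eq_comap_bot, RingHom.ker_eq_bot_iff_eq_zero]
    intro x hx
    exact IsLocalization.injective (Localization.AtPrime p) p.primeCompl_le_nonZeroDivisors (hx.trans (map_zero _).symm)
  set Q := Jf n
  let C : Ideal A := (p ^ n).colon (Q : Set A)
  have hCp : ¬ C ≤ p := by
    obtain ⟨gs, hgs⟩ := Q.fg_of_isNoetherianRing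
    change Submodule.span A (gs : Set A) = Q at hgs
    have hq : ∀ q ∈ gs, ∃ s : A, s ∉ p ∧ s * q ∈ p ^ n := fun q hq => by
      have h1 : q ∈ Jf n := show q ∈ Q from hgs ▸ Submodule.subset_span hq
      rw [Ideal.mem_comap, ← Ideal.map_pow, IsLocalization.algebraMap_mem_map_algebraMap_iff p.primeCompl] at h1
      obtain ⟨s, hs, h⟩ := h1
      exact ⟨s, hs, h⟩
    choose s hs hs' using hq
    intro hle
    have hprod : ∏ q ∈ gs.attach, s q.1 q.2 ∈ C := by
      rw [Submodule.mem_colon]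
      intro x hx
      have hx' : x ∈ Submodule.span A (gs : Set A) := by rw [hgs]; exact hx
      rw [smul_eq_mul]
      induction hx' using Submodule.span_induction with
      | mem q hq =>
        rw [← Finset.prod_erase_mul _ _ (Finset.mem_attach gs ⟨q, hq⟩), mul_assoc]
        exact Ideal.mul_mem_left _ _ (hs' q hq)
      | zero => rw [mul_zero]; exact zero_mem _
      | add a b ha hb h1 h2 => rw [mul_add]; exact add_mem (h1 (by rw [hgs] at ha; exact ha)) (h2 (by rw [hgs] at hb; exact hb))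
      | smul r a ha h1 => rw [smul_eq_mul, mul_left_comm]; exact Ideal.mul_mem_left _ _ (h1 (by rw [hgs] at ha; exact ha))
    obtain ⟨q, -, hq⟩ := (Ideal.IsPrime.prod_mem_iff (p := p)).mp (hle hprod)
    exact hs q.1 q.2 hq
  have hrad : IsLocalRing.maximalIdeal A ≤ C.radical := by
    rw [Ideal.radical_eq_sInf]
    refine le_sInf ?_
    rintro P ⟨hCP, hP⟩
    have hpP : p ≤ P := hP.le_of_pow_le (le_trans (fun x hx => Submodule.mem_colon.mpr fun y _ => Ideal.mul_mem_right _ _ hx) hCP)
    haveI : Ring.KrullDimLE 1 (A ⧸ p) := Ring.krullDimLE_iff.mpr hp.le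
    have hne : P.map (Ideal.Quotient.mk p) ≠ ⊥ := by
      rw [Ne, Ideal.map_eq_bot_iff_le_ker, Ideal.mk_ker]
      exact fun h => hCp (hCP.trans h)
    have hPr : (P.map (Ideal.Quotient.mk p)).IsPrime :=
      Ideal.map_isPrime_of_surjective Ideal.Quotient.mk_surjective (by rw [Ideal.mk_ker]; exact hpP)
    have hM := Ideal.IsPrime.isMaximal_of_ne_bot hPr hne
    have h2 := Ideal.comap_isMaximal_of_surjective (Ideal.Quotient.mk p) Ideal.Quotient.mk_surjective (K := P.map (Ideal.Quotient.mk p))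
    rw [Ideal.comap_map_of_surjective _ Ideal.Quotient.mk_surjective, ← RingHom.ker_eq_comap_bot, Ideal.mk_ker,
      sup_eq_left.mpr hpP] at h2
    rw [IsLocalRing.eq_maximalIdeal h2]
  obtain ⟨N, hN⟩ := Ideal.exists_pow_le_of_le_radical_of_fg hrad (IsLocalRing.maximalIdeal A).fg_of_isNoetherianRing
  obtain ⟨c, hc⟩ := (IsLocalRing.maximalIdeal A).exists_pow_inf_eq_pow_smul (Q : Submodule A A)
  obtain ⟨m, hm⟩ := chevalley Jf hanti h0 (c + N)
  refine ⟨max m n, le_max_right _ _, fun x hx => ?_⟩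
  have h1 : x ∈ IsLocalRing.maximalIdeal A ^ (c + N) • (⊤ : Submodule A A) ⊓ Q := by
    refine ⟨?_, hanti (le_max_right m n) hx⟩
    rw [smul_eq_mul, Ideal.mul_top]
    exact hm (hanti (le_max_left m n) hx)
  rw [hc _ (by omega), Nat.add_sub_cancel_left] at h1
  refine (Submodule.smul_le.mpr fun a ha y hy => ?_) h1
  exact Submodule.mem_colon.mp (hN ha) y hy.2

end Groth.Agent.S1735
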