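import Groth.Statements.S17354
import Groth.Agent.AzInvLib.Exchange
import Groth.Agent.CSA.AzumayaSplitEtale
import Groth.Agent.CSA.AzumayaCharpoly
import Mathlib.Algebra.Algebra.Shrink
import Mathlib.RingTheory.Finiteness.Small
import Mathlib.Data.Matrix.Basic
-- import your own Groth.Agent.* helpers here

set_option autoImplicit false
universe u v w
open scoped TensorProduct
open AzInv

namespace Groth.Agent.S17354

/-- Let `R` be a quadratic etale `S`-algebra with an involution `lam` whose fixed ring is exactly `S`
(the unramified case), and assume that units have square roots locally for the etale topology of `S`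
(every unit of an etale `S`-algebra becomes a square in some etale faithfully flat extension). Then
every `lam`-involution `t` of an Azumaya `R`-algebra `A` of degree `n ≥ 1` has the same type as the
involution `lam` of `R` itself: for some positive sizes `m`, `m'` the matrix algebras of size `m`
over `A` and of size `m'` over `R`, with the involutions induced by `t` and by `lam`, become
isomorphic as `R`-algebras with involution after an etale faithfully flat base change of `S`; in
other words there is a single type. (The source states this for an exact quotient of a locally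
ringed topos with involution; the row is the affine case `Spec R → Spec S`, with etale coverings of
`Spec S` replaced by a single etale faithfully flat `S`-algebra.) -/
theorem result (S : Type u) (R : Type v) [CommRing S] [CommRing R] [Algebra S R]
    (lam : R ≃ₐ[S] R) (hlam : ∀ r, lam (lam r) = r) (hfix : RInv.IsFixedRing S R lam.toRingEquiv)
    (hq : RInv.IsQuadEtale S R)
    (hsq : ∀ (S₁ : Type u) [CommRing S₁] [Algebra S S₁] [Algebra.Etale S S₁] (x : S₁ˣ),
      ∃ (S₂ : Type u) (_ : CommRing S₂) (_ : Algebra S₁ S₂) (_ : Algebra.Etale S₁ S₂)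
        (_ : Module.FaithfullyFlat S₁ S₂) (y : S₂), y * y = algebraMap S₁ S₂ ↑x)
    (A : Type w) [Ring A] [Algebra S A] [Algebra R A] [IsScalarTower S R A]
    (n : ℕ) (hn : 0 < n) (hA : AzInv.IsAzumayaDeg R A n) (t : AzInv.LamInv R A lam) :
    AzInv.SameType S lam t (AzInv.LamInv.self lam hlam) := by
  classical
  haveI hSR : Algebra.Etale S R := Groth.Agent.AzInvLib.QEt.etale hq
  haveI : Module.FaithfullyFlat S R := Groth.Agent.AzInvLib.QEt.faithfullyFlat hq
  haveI := hA.1
  obtain ⟨S₁, i₁, i₂, het, hff, ⟨φ₁⟩⟩ := Groth.Agent.CSA.Azu.exists_etale_splitting R A n hA.2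
  letI : Algebra S S₁ := ((algebraMap R S₁).comp (algebraMap S R)).toAlgebra
  haveI : IsScalarTower S R S₁ := IsScalarTower.of_algebraMap_eq' rfl
  haveI : Algebra.Etale S S₁ := Algebra.Etale.comp S R S₁
  haveI : Module.FaithfullyFlat S S₁ := Module.FaithfullyFlat.trans S R S₁
  haveI : Small.{u} S₁ := Algebra.FiniteType.small (R := S)
  let e : Shrink.{u} S₁ ≃ₐ[S] S₁ := Shrink.algEquiv S S₁
  let g : S₁ →ₐ[R] Shrink.{u} S₁ := (Shrink.algEquiv R S₁).symm.toAlgHom
  haveI : IsScalarTower S R (Shrink.{u} S₁) := IsScalarTower.of_algebraMap_eq fun s => by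
    apply (Shrink.ringEquiv S₁).injective
    show Shrink.algEquiv S S₁ _ = Shrink.algEquiv R S₁ _
    rw [AlgEquiv.commutes, AlgEquiv.commutes]
    exact IsScalarTower.algebraMap_apply S R S₁ s
  haveI : Algebra.Etale S (Shrink.{u} S₁) := Algebra.Etale.of_equiv e.symm
  haveI : Module.FaithfullyFlat S (Shrink.{u} S₁) :=
    Module.FaithfullyFlat.of_linearEquiv _ _ e.toLinearEquiv
  obtain ⟨φ, -⟩ := Groth.Agent.CSA.Azu.exists_splitting_baseChange R A S₁ φ₁ (Shrink.{u} S₁) g
  let e₁ : Matrix (Fin 1) (Fin 1) A ≃ₐ[R] A :=
    { toFun := fun M => M 0 0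
      invFun := fun a => Matrix.of fun _ _ => a
      left_inv := fun M => by
        ext i j
        rw [Subsingleton.elim i 0, Subsingleton.elim j 0]
        rfl
      right_inv := fun a => rfl
      map_mul' := fun M N => by simp [Matrix.mul_apply]
      map_add' := fun M N => rfl
      commutes' := fun r => by simp [Matrix.algebraMap_matrix_apply] }
  let φA : Shrink.{u} S₁ ⊗[R] Matrix (Fin 1) (Fin 1) A ≃ₐ[Shrink.{u} S₁]
      Matrix (Fin n) (Fin n) (Shrink.{u} S₁) :=
    (Algebra.TensorProduct.congr AlgEquiv.refl e₁).trans φ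
  obtain ⟨φR, -⟩ := Groth.Agent.CSA.Azu.exists_splitting_baseChange R (Matrix (Fin n) (Fin n) R) R
    (Algebra.TensorProduct.lid R (Matrix (Fin n) (Fin n) R)) (Shrink.{u} S₁) (Algebra.ofId R _)
  obtain ⟨f, hf₁, hf₂⟩ := Groth.Agent.AzInvLib.Exchange.exists_iso φA (t.matrix (Fin 1)) φR
    ((AzInv.LamInv.self lam hlam).matrix (Fin n)) hlam hfix hq
  exact ⟨1, n, one_pos, hn, Shrink.{u} S₁, inferInstance, inferInstance, inferInstance, inferInstance,
    f, hf₁, hf₂⟩


end Groth.Agent.S17354
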