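import Groth.Statements.S17355
import Groth.Agent.AzInvLib.Conj
-- import your own Groth.Agent.* helpers here

set_option autoImplicit false
universe u v w
open scoped TensorProduct
open AzInv

namespace Groth.Agent.S17355

/-- Let `R` be a commutative ring with an involution `lam` whose fixed ring is exactly `S`, assume that
units have square roots locally for the etale topology of `S` (every unit of an etale `S`-algebra
becomes a square in some etale faithfully flat extension), and let `A` be an Azumaya `R`-algebra of
degree `n ≥ 1` with a `lam`-involution `t`. Then every `R`-algebra automorphism `ψ` of `A` that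
commutes with `t` is, locally for the etale topology of `S`, conjugation by a unitary element: there
are an etale faithfully flat `S`-algebra `S'` and a unit `u` of `S' ⊗_S A` with `(id ⊗ t)(u) * u =
1` such that `id ⊗ ψ` is `x ↦ u x u⁻¹` (the map from the unitary group to the automorphism sheaf of
`(A, t)` is an epimorphism). This row states the surjectivity part only; the published statement
also identifies the kernel of the map from the unitary group as the group of norm-one elements of
`R` (the units `r` of `R` with `lam r * r = 1`), so that the projective unitary group of `(A, t)` is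
its automorphism sheaf. (The source states this for an exact quotient of a locally ringed topos with
involution; the row is the affine case `Spec R → Spec S`, with etale coverings of `Spec S` replaced
by a single etale faithfully flat `S`-algebra.) -/
theorem result (S : Type u) (R : Type v) [CommRing S] [CommRing R] [Algebra S R]
    (lam : R ≃ₐ[S] R) (hlam : ∀ r, lam (lam r) = r) (hfix : RInv.IsFixedRing S R lam.toRingEquiv)
    (hsq : ∀ (S₁ : Type u) [CommRing S₁] [Algebra S S₁] [Algebra.Etale S S₁] (x : S₁ˣ),
      ∃ (S₂ : Type u) (_ : CommRing S₂) (_ : Algebra S₁ S₂) (_ : Algebra.Etale S₁ S₂)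
        (_ : Module.FaithfullyFlat S₁ S₂) (y : S₂), y * y = algebraMap S₁ S₂ ↑x)
    (A : Type w) [Ring A] [Algebra S A] [Algebra R A] [IsScalarTower S R A]
    (n : ℕ) (hn : 0 < n) (hA : AzInv.IsAzumayaDeg R A n) (t : AzInv.LamInv R A lam)
    (ψ : A ≃ₐ[R] A) (hψ : AzInv.IsInvHom t t ψ) :
    ∃ (S' : Type u) (_ : CommRing S') (_ : Algebra S S') (_ : Algebra.Etale S S')
      (_ : Module.FaithfullyFlat S S') (u : (S' ⊗[S] A)ˣ),
      t.bc S lam S' (↑u : S' ⊗[S] A) * ↑u = 1 ∧
        ∀ x : S' ⊗[S] A,
          Algebra.TensorProduct.congr (AlgEquiv.refl : S' ≃ₐ[S'] S') (ψ.restrictScalars S) x =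
            ↑u * x * ↑u⁻¹ := by
  haveI := hA.1
  haveI : Nonempty (Fin n) := ⟨⟨0, hn⟩⟩
  obtain ⟨S', i₁, i₂, i₃, i₄, u, v, huv, htu⟩ := Groth.Agent.AzInvLib.Conj.exists_global (S := S)
    (some t) ψ (fun K _ _ _ H _ _ ρ h => by
      classical
      have hhen := h.henselian
      obtain ⟨w, hw⟩ := Groth.Agent.AzInvLib.Main.exists_inner h hlam hfix hA ψ
      obtain ⟨e, he⟩ := Groth.Agent.AzInvLib.Main.hasUnits h hlam hfix hA
      obtain ⟨G, hG⟩ := Groth.Agent.AzInvLib.Units.exists_equiv (C := H)
        (show AzInv.IsAzumayaDeg R A (Fintype.card (Fin n)) by rwa [Fintype.card_fin]) e he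
      have hscal : ∀ z, G (Matrix.scalar (Fin n) z) = Groth.Agent.AzInvLib.Units.jC H A z := fun z => by
        rw [hG]
        simp [Matrix.scalar_apply, Matrix.diagonal, apply_ite, ite_mul, ← Finset.mul_sum, he.sum]
      let U : H ⊗[S] A := ↑w
      let V : H ⊗[S] A := ↑w⁻¹
      have hUV : U * V = 1 := w.mul_inv
      have hVU : V * U = 1 := w.inv_mul
      let T := t.bc S lam H
      let Ψ := Algebra.TensorProduct.congr (AlgEquiv.refl : H ≃ₐ[H] H) (ψ.restrictScalars S)
      have hΨ : ∀ x, Ψ x = U * x * V := hw
      have hcomm : ∀ x, Ψ (T x) = T (Ψ x) := fun x => by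
        induction x using TensorProduct.induction_on with
        | zero => simp
        | add a b ha hb => rw [map_add, map_add, ha, hb, map_add, map_add]
        | tmul c a => simp [Ψ, T, hψ a]
      have hbm := Groth.Agent.AzInvLib.Std.bc_mul H t
      have hTUV : T U * T V = 1 := by
        rw [← hbm, hVU]; exact Groth.Agent.AzInvLib.Std.bc_one H t
      have hTVU : T V * T U = 1 := by
        rw [← hbm, hUV]; exact Groth.Agent.AzInvLib.Std.bc_one H t
      have hcen : ∀ y, y * (T U * U) = (T U * U) * y := fun y => by
        obtain ⟨x, hx⟩ : ∃ x, T x = y := ⟨T y, Groth.Agent.AzInvLib.Std.bc_bc H t y⟩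
        have h1 := hcomm x
        rw [hΨ, hΨ, hbm, hbm, hx] at h1
        change U * y * V = T V * (y * T U) at h1
        calc y * (T U * U) = T U * (T V * (y * T U)) * U := by
              rw [← mul_assoc (T U) (T V), hTUV, one_mul, mul_assoc]
          _ = T U * (U * y * V) * U := by rw [h1]
          _ = T U * U * y := by
              rw [mul_assoc, mul_assoc (U * y), hVU, mul_one, mul_assoc]
      obtain ⟨z, hz⟩ : ∃ z, Groth.Agent.AzInvLib.Units.jC H A z = T U * U := by
        obtain ⟨M, hM⟩ := G.surjective (T U * U)
        obtain ⟨z, hz⟩ : M ∈ Set.range (Matrix.scalar (Fin n)) :=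
          Matrix.mem_range_scalar_of_commute_single fun i j _ => G.injective (by
            rw [map_mul, map_mul, hM]; exact hcen _)
        exact ⟨z, by rw [← hscal, hz, hM]⟩
      have hjinj : Function.Injective (Groth.Agent.AzInvLib.Units.jC (S := S) (R := R) H A) := fun a b hab => by
        rw [← hscal, ← hscal] at hab
        exact Matrix.scalar_inj.1 (G.injective hab)
      have hzfix : Groth.Agent.AzInvLib.Std.lamC H lam z = z := hjinj (by
        rw [← Groth.Agent.AzInvLib.Std.bc_jC H t, hz, hbm, Groth.Agent.AzInvLib.Std.bc_bc])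
      have hzu : IsUnit z := by
        have h1 : IsUnit (G (Matrix.scalar (Fin n) z)) := by
          rw [hscal, hz]
          exact IsUnit.mul (⟨⟨T U, T V, hTUV, hTVU⟩, rfl⟩ : IsUnit (T U)) w.isUnit
        have h2 : IsUnit (Matrix.scalar (Fin n) z) := by
          have := h1.map G.symm
          rwa [G.symm_apply_apply] at this
        rw [Matrix.isUnit_iff_isUnit_det, Matrix.scalar_apply, Matrix.det_diagonal, Finset.prod_const,
          Finset.card_univ, Fintype.card_fin] at h2
        exact (isUnit_pow_iff hn.ne').1 h2
      obtain ⟨s, hs, hss⟩ := Groth.Agent.AzInvLib.Main.exists_fixed_sq h hfix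
        (Groth.Agent.AzInvLib.PointFacts.exists_sq_of_local h hsq) z hzfix hzu
      obtain ⟨s', hs'⟩ := (isUnit_of_mul_isUnit_left (hss ▸ hzu)).exists_right_inv
      have hs'f : Groth.Agent.AzInvLib.Std.lamC H lam s' = s' := by
        calc Groth.Agent.AzInvLib.Std.lamC H lam s'
            = Groth.Agent.AzInvLib.Std.lamC H lam s' * (s * s') := by rw [hs', mul_one]
          _ = Groth.Agent.AzInvLib.Std.lamC H lam (s * s') * s' := by rw [map_mul, hs]; ring
          _ = s' := by rw [hs', map_one, one_mul]
      let j := Groth.Agent.AzInvLib.Units.jC (S := S) (R := R) H A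
      have hjc : ∀ (a : _) (b : H ⊗[S] A), j a * b = b * j a := Groth.Agent.AzInvLib.Units.jC_comm
      refine ⟨j s' * U, V * j s, ⟨?_, ?_, fun a => ?_⟩, fun t' ht' => ?_⟩
      · rw [mul_assoc, ← mul_assoc U, hUV, one_mul, ← map_mul, mul_comm, hs', map_one]
      · rw [mul_assoc, ← mul_assoc (j s), ← map_mul, hs', map_one, one_mul, hVU]
      · have := hΨ ((1 : H) ⊗ₜ[S] a)
        simp [Ψ] at this
        rw [this, hjc s' U, mul_assoc (U * _) V, ← mul_assoc V U, hVU, one_mul, mul_assoc U,
          ← hjc s', ← mul_assoc]
      · cases ht'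
        show T (j s' * U) * (j s' * U) = 1
        rw [hbm, show T (j s') = j s' by
          show t.bc S lam H _ = _
          rw [Groth.Agent.AzInvLib.Std.bc_jC, hs'f], ← hjc s' (T U), mul_assoc, ← mul_assoc (T U),
          ← hjc s' (T U), mul_assoc (j s'), ← hz, ← map_mul, ← map_mul, ← hss,
          show s' * (s' * (s * s)) = (s * s') * (s * s') by ring, hs', mul_one, map_one])
  exact ⟨S', i₁, i₂, i₃, i₄, ⟨u, v, huv.uv, huv.vu⟩, htu t rfl,
    fun x => Groth.Agent.AzInvLib.Conj.conj_eq huv x⟩


end Groth.Agent.S17355
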