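import Groth.Statements.S17358
import Groth.Agent.AzInvLib.ConjModel
import Groth.Agent.AzInvLib.QuadSplit
-- import your own Groth.Agent.* helpers here

set_option autoImplicit false
universe u v w
open scoped TensorProduct
open AzInv

namespace Groth.Agent.S17358

/-- Let `R` be a commutative ring with an involution `lam` whose fixed ring is exactly `S`; assume that
units have square roots locally for the etale topology of `S` (every unit of an etale `S`-algebra
becomes a square in some etale faithfully flat extension), and that either `2` is a unit in `S` and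
the quotient `Spec R → Spec S` is everywhere ramified (for no prime `p` of `S` is `S_p ⊗_S R` a
quadratic etale `S_p`-algebra; the case `R = S` is included), or `R` is a quadratic etale
`S`-algebra (the unramified case). Then every `lam`-involution `t` of an Azumaya `R`-algebra `A` of
degree `n ≥ 1` is ordinary: there are a global invertible `n × n` matrix `w` over `R` and an element
`e` of `R` with `lam`-transpose of `w` equal to `e • w` and `lam e * e = 1`, such that `(A, t)`
becomes isomorphic, after an etale faithfully flat base change of `S`, to the matrix algebra over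
`R` with the involution `x ↦ w * (lam-transpose of x) * w⁻¹` (equivalently `x ↦ (a x a⁻¹)` followed
by the `lam`-transpose, for the global matrix `a` whose `lam`-transpose is `w⁻¹`). (The source
states this for an exact quotient of a locally ringed topos with involution; the row is the affine
case `Spec R → Spec S`, with etale coverings of `Spec S` replaced by a single etale faithfully flat
`S`-algebra.) -/
theorem result (S : Type u) (R : Type v) [CommRing S] [CommRing R] [Algebra S R]
    (lam : R ≃ₐ[S] R) (hlam : ∀ r, lam (lam r) = r) (hfix : RInv.IsFixedRing S R lam.toRingEquiv)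
    (hsq : ∀ (S₁ : Type u) [CommRing S₁] [Algebra S S₁] [Algebra.Etale S S₁] (x : S₁ˣ),
      ∃ (S₂ : Type u) (_ : CommRing S₂) (_ : Algebra S₁ S₂) (_ : Algebra.Etale S₁ S₂)
        (_ : Module.FaithfullyFlat S₁ S₂) (y : S₂), y * y = algebraMap S₁ S₂ ↑x)
    (hram : (IsUnit (2 : S) ∧ ∀ p : PrimeSpectrum S,
        ¬ RInv.IsQuadEtale (Localization.AtPrime p.asIdeal) (Localization.AtPrime p.asIdeal ⊗[S] R)) ∨
      RInv.IsQuadEtale S R)
    (A : Type w) [Ring A] [Algebra S A] [Algebra R A] [IsScalarTower S R A]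
    (n : ℕ) (hn : 0 < n) (hA : AzInv.IsAzumayaDeg R A n) (t : AzInv.LamInv R A lam) :
    ∃ (w : (Matrix (Fin n) (Fin n) R)ˣ) (e : R)
      (hw : AzInv.LamInv.transpose lam (Fin n) hlam (↑w : Matrix (Fin n) (Fin n) R) = e • (↑w : Matrix (Fin n) (Fin n) R))
      (he : lam e * e = 1),
      AzInv.LocIsoEt S lam t ((AzInv.LamInv.transpose lam (Fin n) hlam).conj w e hw he) := by
  classical
  haveI : Nonempty (Fin n) := ⟨⟨0, hn⟩⟩
  have hdegM : AzInv.IsAzumayaDeg R (Matrix (Fin n) (Fin n) R) n := by
    have := Groth.Agent.AzInvLib.Models.isAzumayaDeg_matrix (R := R) n hn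
      (Groth.Agent.AzInvLib.Models.isAzumayaDeg_self (R := R))
    rwa [mul_one] at this
  -- the neutral model
  have hone : (∀ (p : PrimeSpectrum S) (K : Type u) [Field K] [Algebra S K] [IsSepClosed K] (H : Type u)
      [CommRing H] [Algebra S H] (ρ : H →ₐ[S] K), RingHom.ker (algebraMap S K) = p.asIdeal →
      Groth.Agent.HenselLib.IsNbhdColim S K H ρ →
      Groth.Agent.AzInvLib.Std.HasStd H t (1 : Matrix (Fin n) (Fin n) ℤ) 1) →
      ∃ (w : (Matrix (Fin n) (Fin n) R)ˣ) (e : R)
      (hw : AzInv.LamInv.transpose lam (Fin n) hlam (↑w : Matrix (Fin n) (Fin n) R) = e • (↑w : Matrix (Fin n) (Fin n) R))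
      (he : lam e * e = 1),
      AzInv.LocIsoEt S lam t ((AzInv.LamInv.transpose lam (Fin n) hlam).conj w e hw he) := by
    intro hall
    refine ⟨1, 1, ?_, by simp, Groth.Agent.AzInvLib.Types.locIsoEt_of_points hn hA hdegM _ _
      fun p K _ _ _ H _ _ ρ hker h => ⟨1, 1, hall p K H ρ hker h, ?_⟩⟩
    · simp
    · refine Groth.Agent.AzInvLib.ConjModel.hasStd_conj hlam _ _ _ _ 1 1 (fun i j => ?_) (fun i j => ?_) <;>
        · by_cases hij : i = j
          · subst hij; simp [Algebra.TensorProduct.one_def]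
          · simp [hij, Matrix.one_apply]
  rcases hram with ⟨h2, hram⟩ | hq
  swap
  · refine hone fun p K _ _ _ H _ _ ρ hker h => ?_
    have hnr := Groth.Agent.AzInvLib.Main.not_ramified h hlam hfix hq
    rcases Groth.Agent.AzInvLib.Main.hasStd h hlam hfix
      (Groth.Agent.AzInvLib.PointFacts.exists_sq_of_local h hsq) hn hA t (Or.inr (Or.inr hnr)) with
      hs | ⟨-, -, hr, -⟩
    · exact hs
    · exact absurd hr hnr
  have hram' : ∀ (K : Type u) [Field K] [Algebra S K] [IsSepClosed K] (H : Type u) [CommRing H]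
      [Algebra S H] (ρ : H →ₐ[S] K), Groth.Agent.HenselLib.IsNbhdColim S K H ρ →
      Groth.Agent.AzInvLib.RamPoint.IsRamified lam K := by
    intro K _ _ _ H _ _ ρ h r δ hδ
    by_contra hδK
    let p : PrimeSpectrum S := ⟨RingHom.ker (algebraMap S K), RingHom.ker_isPrime _⟩
    haveI : p.asIdeal.IsPrime := p.2
    exact hram p (Groth.Agent.AzInvLib.QuadSplit.isQuadEtale hlam hfix (Localization.AtPrime p.asIdeal)
      r δ hδ (IsLocalization.map_units (Localization.AtPrime p.asIdeal)
        (⟨δ, hδK⟩ : p.asIdeal.primeCompl)))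
  obtain ⟨ε, hε, hsign⟩ := Groth.Agent.AzInvLib.Types.exists_sign_idem hlam hfix h2 hram' hn hA t
  by_cases heven : Even n
  swap
  · refine hone fun p K _ _ _ H _ _ ρ hker h => ?_
    rcases Groth.Agent.AzInvLib.Main.hasStd h hlam hfix
      (Groth.Agent.AzInvLib.PointFacts.exists_sq_of_local h hsq) hn hA t
      (Or.inl (Groth.Agent.AzInvLib.Types.isUnit_two h2)) with hs | ⟨he, -, -, -⟩
    · exact hs
    · exact absurd he heven
  let E : R := algebraMap S R ε
  let J : Matrix (Fin n) (Fin n) R := Groth.Agent.AzInvLib.Herm.stdJ R n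
  have hJJ : J * -J = 1 := by
    obtain ⟨k, hk⟩ := heven
    obtain rfl : n = 2 * k := by omega
    exact Groth.Agent.AzInvLib.Herm.stdJ_sq k
  have hJJ' : -J * J = 1 := by rw [neg_mul, ← mul_neg, hJJ]
  have hEE : E * E = E := by rw [← map_mul, hε.eq]
  let W : Matrix (Fin n) (Fin n) R := E • 1 + (1 - E) • J
  let W' : Matrix (Fin n) (Fin n) R := E • 1 + (1 - E) • -J
  have h1E : (1 - E) * (1 - E) = 1 - E := by linear_combination hEE
  have hE1 : E * (1 - E) = 0 := by linear_combination -hEE
  have hprod : ∀ X Y : Matrix (Fin n) (Fin n) R, X * Y = 1 →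
      (E • 1 + (1 - E) • X) * (E • 1 + (1 - E) • Y) = 1 := by
    intro X Y hXY
    simp only [mul_add, add_mul, smul_mul_smul_comm, one_mul, mul_one, hEE, h1E, hE1,
      mul_comm (1 - E) E, zero_smul, add_zero, zero_add, hXY, ← add_smul]
    rw [add_sub_cancel, one_smul]
  let e : R := E - (1 - E)
  have hlE : lam E = E := AlgEquiv.commutes lam ε
  have hw : AzInv.LamInv.transpose lam (Fin n) hlam W = e • W := by
    have hJt : AzInv.lamTr lam J = -J :=
      Groth.Agent.AzInvLib.Herm.lamTr_stdJ (lam : R ≃ₐ[S] R).toAlgHom.toRingHom n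
    ext i j
    have hJij : lam (J j i) = -J i j := congrFun (congrFun hJt i) j
    have h1ij : lam ((1 : Matrix (Fin n) (Fin n) R) j i) = (1 : Matrix (Fin n) (Fin n) R) i j := by
      by_cases hij : i = j
      · subst hij; simp
      · simp [Matrix.one_apply, hij, Ne.symm hij]
    simp only [AzInv.LamInv.transpose_apply, W, Matrix.add_apply, Matrix.smul_apply, smul_eq_mul,
      map_add, map_mul, map_sub, map_one, hlE, hJij, h1ij, e]
    linear_combination (-(2 : R) * (1 : Matrix (Fin n) (Fin n) R) i j + 2 * J i j) * hEE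
  have he : lam e * e = 1 := by
    simp only [e, map_sub, map_one, hlE]
    linear_combination 4 * hEE
  refine ⟨⟨W, W', hprod J (-J) hJJ, hprod (-J) J hJJ'⟩, e, hw, he,
    Groth.Agent.AzInvLib.Types.locIsoEt_of_points hn hA hdegM _ _ fun p K _ _ _ H _ _ ρ hker h => ?_⟩
  have hcast : ∀ z : ℤ, (1 : H) ⊗ₜ[S] ((z : ℤ) : R) = ((z : ℤ) : TensorProduct S H R) := fun z =>
    map_intCast (Algebra.TensorProduct.includeRight (R := S) (A := H) (B := R)) z
  have hJc : ∀ i j, J i j = ((Groth.Agent.AzInvLib.Herm.stdJ ℤ n i j : ℤ) : R) := fun i j =>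
    (congrFun (congrFun (Groth.Agent.AzInvLib.Herm.stdJ_map (Int.castRingHom R) n) i) j).symm
  have hEε : (1 : H) ⊗ₜ[S] E = algebraMap H (TensorProduct S H R) (algebraMap S H ε) := by
    show (1 : H) ⊗ₜ[S] algebraMap S R ε = algebraMap S H ε ⊗ₜ[S] (1 : R)
    rw [Algebra.algebraMap_eq_smul_one ε, ← TensorProduct.smul_tmul, Algebra.algebraMap_eq_smul_one]
  haveI := h.isLocalRing
  have hid : algebraMap S H ε * (1 - algebraMap S H ε) = 0 := by
    rw [mul_sub, mul_one, ← map_mul, hε.eq, sub_self]
  by_cases hp : ε ∈ p.asIdeal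
  · have hεH : algebraMap S H ε = 0 := by
      have h0 : ρ (algebraMap S H ε) = 0 := by
        rw [ρ.commutes, ← RingHom.mem_ker, hker]; exact hp
      have hu : IsUnit (1 - algebraMap S H ε) := h.isUnit _ (by rw [map_sub, map_one, h0, sub_zero]; exact one_ne_zero)
      exact hu.mul_left_eq_zero.1 hid
    have hE0 : (1 : H) ⊗ₜ[S] E = 0 := by rw [hEε, hεH, map_zero]
    have key : ∀ (X : Matrix (Fin n) (Fin n) R) i j,
        (1 : H) ⊗ₜ[S] (E • (1 : Matrix (Fin n) (Fin n) R) + (1 - E) • X) i j = (1 : H) ⊗ₜ[S] X i j := by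
      intro X i j
      rw [Matrix.add_apply, Matrix.smul_apply, Matrix.smul_apply, smul_eq_mul, smul_eq_mul, sub_mul,
        one_mul, TensorProduct.tmul_add, TensorProduct.tmul_sub,
        show ∀ y : R, (1 : H) ⊗ₜ[S] (E * y) = 0 from fun y => by
          rw [← mul_one (1 : H), ← Algebra.TensorProduct.tmul_mul_tmul, hE0, zero_mul],
        show ∀ y : R, (1 : H) ⊗ₜ[S] (E * y) = 0 from fun y => by
          rw [← mul_one (1 : H), ← Algebra.TensorProduct.tmul_mul_tmul, hE0, zero_mul],
        zero_add, sub_zero]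
    refine ⟨_, _, ((hsign p K H ρ hker h).2 hp).2,
      Groth.Agent.AzInvLib.ConjModel.hasStd_conj hlam _ _ _ _ _ _ (fun i j => ?_) (fun i j => ?_)⟩
    · show (1 : H) ⊗ₜ[S] W i j = _
      rw [key, hJc, hcast]
    · show (1 : H) ⊗ₜ[S] W' i j = _
      rw [key, Matrix.neg_apply, hJc, Matrix.neg_apply, ← Int.cast_neg, hcast]
  · have hεH : algebraMap S H ε = 1 := by
      have hu : IsUnit (algebraMap S H ε) := h.isUnit _ (by
        rw [ρ.commutes]; exact fun h0 => hp (hker ▸ h0))
      exact (sub_eq_zero.1 (hu.mul_right_eq_zero.1 hid)).symm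
    have hE0 : (1 : H) ⊗ₜ[S] E = 1 := by rw [hEε, hεH, map_one]
    have key : ∀ (X : Matrix (Fin n) (Fin n) R) i j,
        (1 : H) ⊗ₜ[S] (E • (1 : Matrix (Fin n) (Fin n) R) + (1 - E) • X) i j =
          (((1 : Matrix (Fin n) (Fin n) ℤ) i j : ℤ) : TensorProduct S H R) := by
      intro X i j
      rw [Matrix.add_apply, Matrix.smul_apply, Matrix.smul_apply, smul_eq_mul, smul_eq_mul, sub_mul,
        one_mul, TensorProduct.tmul_add, TensorProduct.tmul_sub,
        show ∀ y : R, (1 : H) ⊗ₜ[S] (E * y) = (1 : H) ⊗ₜ[S] y from fun y => by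
          rw [← mul_one (1 : H), ← Algebra.TensorProduct.tmul_mul_tmul, hE0, one_mul, mul_one],
        show ∀ y : R, (1 : H) ⊗ₜ[S] (E * y) = (1 : H) ⊗ₜ[S] y from fun y => by
          rw [← mul_one (1 : H), ← Algebra.TensorProduct.tmul_mul_tmul, hE0, one_mul, mul_one],
        sub_self, add_zero]
      by_cases hij : i = j
      · subst hij; simp [Algebra.TensorProduct.one_def]
      · simp [hij, Matrix.one_apply]
    exact ⟨_, _, (hsign p K H ρ hker h).1 hp,
      Groth.Agent.AzInvLib.ConjModel.hasStd_conj hlam _ _ _ _ _ _ (fun i j => key J i j)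
        (fun i j => key (-J) i j)⟩


end Groth.Agent.S17358
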