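import Groth.Statements.S17359
import Groth.Agent.AzInvLib.ConjModel
import Groth.Prelude.Def_W4c2azumayainvolQEt
-- import your own Groth.Agent.* helpers here

set_option autoImplicit false
universe u w
open scoped TensorProduct
open AzInv

namespace Groth.Agent.S17359

/-- Let `R` be a nontrivial commutative ring with connected spectrum in which `2` is a unit, with the
trivial involution (so that the involutions considered are of the first kind and the quotient is the
trivial one). Then there are exactly two types, the orthogonal and the symplectic one; this row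
states the first half: every involution of the first kind `t` of an Azumaya `R`-algebra `A` of
degree `n ≥ 1` has the same type either as the identity of `R` or as the standard symplectic
involution `x ↦ J xᵀ J⁻¹` of the `2 × 2` matrix algebra, `J` the matrix with rows `(0, -1)` and `(1,
0)` (same type: suitable matrix algebras over the two, with the induced involutions, become
isomorphic as `R`-algebras with involution after an etale faithfully flat base change of `R`). (The
source states that the monoid of types is isomorphic to the group of global square roots of `1`, for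
a locally ringed topos with trivial involution and `2` invertible; the row is the affine case with
connected spectrum, where that group is `{1, -1}`.) -/
theorem result (R : Type u) [CommRing R] (hlam : ∀ r : R, (AlgEquiv.refl : R ≃ₐ[R] R) ((AlgEquiv.refl : R ≃ₐ[R] R) r) = r)
    [Nontrivial R] [ConnectedSpace (PrimeSpectrum R)] (h2 : IsUnit (2 : R))
    (J : (Matrix (Fin 2) (Fin 2) R)ˣ) (hJ : (↑J : Matrix (Fin 2) (Fin 2) R) = Matrix.of ![![0, -1], ![1, 0]])
    (hJt : AzInv.LamInv.transpose (AlgEquiv.refl : R ≃ₐ[R] R) (Fin 2) hlam (↑J : Matrix (Fin 2) (Fin 2) R) = (-1 : R) • (↑J : Matrix (Fin 2) (Fin 2) R))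
    (hneg : (AlgEquiv.refl : R ≃ₐ[R] R) (-1) * (-1) = 1)
    (A : Type w) [Ring A] [Algebra R A]
    (n : ℕ) (hn : 0 < n) (hA : AzInv.IsAzumayaDeg R A n) (t : AzInv.LamInv R A (AlgEquiv.refl : R ≃ₐ[R] R)) :
    AzInv.SameType R (AlgEquiv.refl : R ≃ₐ[R] R) t (AzInv.LamInv.self (AlgEquiv.refl : R ≃ₐ[R] R) hlam) ∨
      AzInv.SameType R (AlgEquiv.refl : R ≃ₐ[R] R) t ((AzInv.LamInv.transpose (AlgEquiv.refl : R ≃ₐ[R] R) (Fin 2) hlam).conj J (-1) hJt hneg) := by
  classical
  have hfix : RInv.IsFixedRing R R (AlgEquiv.refl : R ≃ₐ[R] R).toRingEquiv :=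
    ⟨fun a b h => h, fun r => ⟨fun _ => ⟨r, rfl⟩, fun _ => rfl⟩⟩
  have hram : ∀ (K : Type u) [Field K] [Algebra R K],
      Groth.Agent.AzInvLib.RamPoint.IsRamified (AlgEquiv.refl : R ≃ₐ[R] R) K := by
    intro K _ _ r δ hδ
    have : δ = 0 := by
      have h0 : algebraMap R R δ = 0 := by rw [hδ]; simp
      exact h0
    rw [this, map_zero]
  obtain ⟨ε, hε, hsign⟩ := Groth.Agent.AzInvLib.Types.exists_sign_idem hlam hfix h2
    (fun K _ _ _ H _ _ ρ _ => hram K) hn hA t
  have hM := Groth.Agent.AzInvLib.Models.isAzumayaDeg_matrix (R := R) 1 one_pos hA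
  rw [one_mul] at hM
  have hε' : ε = 0 ∨ ε = 1 := by
    have hc : IsClopen ((PrimeSpectrum.basicOpen ε : TopologicalSpace.Opens (PrimeSpectrum R)) : Set (PrimeSpectrum R)) :=
      PrimeSpectrum.isClopen_iff.2 ⟨ε, hε, rfl⟩
    rcases isClopen_iff.1 hc with h | h
    · left
      have : PrimeSpectrum.basicOpen ε = ⊥ := TopologicalSpace.Opens.ext h
      exact hε.eq_zero_of_isNilpotent ((PrimeSpectrum.basicOpen_eq_bot_iff ε).1 this)
    · right
      have : PrimeSpectrum.basicOpen ε = ⊤ := TopologicalSpace.Opens.ext h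
      have hu' : IsUnit ε := by
        by_contra hnu
        obtain ⟨m, hm, hεm⟩ := exists_max_ideal_of_mem_nonunits hnu
        have : (⟨m, hm.isPrime⟩ : PrimeSpectrum R) ∈ PrimeSpectrum.basicOpen ε := by rw [this]; trivial
        exact this hεm
      obtain ⟨u, hu⟩ := hu'.exists_left_inv
      calc ε = u * ε * ε := by rw [hu, one_mul]
        _ = 1 := by rw [mul_assoc, hε.eq, hu]
  rcases hε' with h0 | h1
  · right
    have heven : Even n := by
      obtain ⟨p⟩ := (inferInstance : Nonempty (PrimeSpectrum R))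
      obtain ⟨K, _, _, H, _, _, ρ, hK, hker, h⟩ := Groth.Agent.AzInvLib.Point.exists_point R p.asIdeal
      haveI := hK
      exact ((hsign p K H ρ hker h).2 (by rw [h0]; exact p.asIdeal.zero_mem)).1
    obtain ⟨k, hk⟩ := heven
    have hk2 : k * 2 = n := by omega
    have hk0 : 0 < k := by omega
    have hM' := Groth.Agent.AzInvLib.Models.isAzumayaDeg_matrix (R := R) k hk0
      (Groth.Agent.AzInvLib.Models.isAzumayaDeg_matrix (R := R) 2 two_pos
        (Groth.Agent.AzInvLib.Models.isAzumayaDeg_self (R := R)))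
    simp only [mul_one, hk2] at hM'
    refine ⟨1, k, one_pos, hk0, Groth.Agent.AzInvLib.Types.locIsoEt_of_points hn hM hM' _ _
      fun p K _ _ _ H _ _ ρ hker h => ⟨_, _, Groth.Agent.AzInvLib.Types.hasStd_cast_stdJ (one_mul n)
        (Groth.Agent.AzInvLib.Models.hasStd_matrix_stdJ 1 ⟨k, hk⟩
          ((hsign p K H ρ hker h).2 (by rw [h0]; exact p.asIdeal.zero_mem)).2),
        Groth.Agent.AzInvLib.Types.hasStd_cast_stdJ hk2
          (Groth.Agent.AzInvLib.Models.hasStd_matrix_stdJ k even_two ?_)⟩⟩
    exact Groth.Agent.AzInvLib.ConjModel.hasStd_symp hlam J (-1) hJ hJt hneg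
  · left
    have hM' := Groth.Agent.AzInvLib.Models.isAzumayaDeg_matrix (R := R) n hn
      (Groth.Agent.AzInvLib.Models.isAzumayaDeg_self (R := R))
    rw [mul_one] at hM'
    refine ⟨1, n, one_pos, hn, Groth.Agent.AzInvLib.Types.locIsoEt_of_points hn hM hM' _ _
      fun p K _ _ _ H _ _ ρ hker h => ⟨1, 1, Groth.Agent.AzInvLib.Types.hasStd_cast_one (one_mul n)
        (Groth.Agent.AzInvLib.Models.hasStd_matrix_one 1 ((hsign p K H ρ hker h).1 (by
          rw [h1]; exact fun hc => p.isPrime.ne_top ((Ideal.eq_top_iff_one _).2 hc)))),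
        Groth.Agent.AzInvLib.Types.hasStd_cast_one (mul_one n)
          (Groth.Agent.AzInvLib.Models.hasStd_matrix_one n
            (Groth.Agent.AzInvLib.Models.hasStd_self hlam))⟩⟩


end Groth.Agent.S17359
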