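import Groth.Statements.S1736
import Groth.Agent.LocCohLib.Grothendieck

set_option autoImplicit false
universe u
open LocCoh

namespace Groth.Agent.S1736

/-- Let A be a Noetherian ring of finite dimension d and I ⊆ I' ideals with I' contained in the Jacobson
radical of A. If cd(A, I') < d, i.e. H^i_{I'}(M) = 0 for all A-modules M and all i ≥ d, then also
cd(A, I) < d: H^i_I(M) = 0 for all A-modules M and all i ≥ d. -/
theorem result (A : Type u) [CommRing A] [IsNoetherianRing A] (d : ℕ) (hd : ringKrullDim A = d) (I I' : Ideal A) (hII' : I ≤ I') (hJ : I' ≤ (⊥ : Ideal A).jacobson) (h : ∀ (M : Type u) [AddCommGroup M] [Module A M] (i : ℕ), d ≤ i → Subsingleton (LocCoh.H I' i M)) (M : Type u) [AddCommGroup M] [Module A M] (i : ℕ) (hi : d ≤ i) : Subsingleton (LocCoh.H I i M) := by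
  classical
  open Groth.Agent.LocCohLib in
  have hloc : ∀ (J : Ideal A) (b : A), b ∈ I' → ∀ (k : ℕ), d ≤ k → ∀ N : ModuleCat.{u} A,
      Subsingleton ((localCohomology J k).obj ((locFun b).obj N)) := fun J b hb k hk N => by
    haveI : IsNoetherianRing (Localization (Submonoid.powers b)) :=
      IsLocalization.isNoetherianRing (Submonoid.powers b) _ inferInstance
    have hdim : DimLt (Localization (Submonoid.powers b)) (LocalizedModule (Submonoid.powers b) N) k := by
      intro l
      let l' := belowSeries (Submonoid.powers b) l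
      obtain ⟨P, hP, hlP⟩ := Ideal.exists_le_maximal _ l'.last.1.2.ne_top
      let c : Module.support A N := ⟨⟨P, hP.isPrime⟩, Module.mem_support_mono hlP l'.last.2⟩
      have hlt : l'.last < c := by
        refine lt_of_le_of_ne hlP fun e => ?_
        have he : (below (Submonoid.powers b) l.last.1).asIdeal = P :=
          congrArg (fun z : Module.support A N => z.1.asIdeal) ((LTSeries.last_map l
            (fun q => (⟨below _ q.1, below_mem_support _ q.2⟩ : Module.support A N))
            (fun _ _ h => below_strictMono _ h)).symm.trans e)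
        refine below_disjoint _ l.last.1 (Submonoid.mem_powers b) ?_
        rw [he]
        exact Ideal.mem_sInf.1 (hJ hb) ⟨bot_le, hP⟩
      have h1 : (((l'.snoc c hlt).length : ℕ) : WithBot ℕ∞) ≤ (d : WithBot ℕ∞) :=
        (Order.LTSeries.length_le_krullDim _).trans
          ((Module.supportDim_le_ringKrullDim A N).trans hd.le)
      exact lt_of_lt_of_le (Nat.lt_succ_self _) (le_trans (Nat.cast_le.1 h1) hk)
    obtain ⟨f⟩ := nonempty_resEquiv (R' := Localization (Submonoid.powers b)) J k
      (ModuleCat.of _ (LocalizedModule (Submonoid.powers b) N))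
    haveI := @Equiv.subsingleton _ _ f.toEquiv.symm (subsingleton_of_dimLt (J.map (algebraMap A (Localization (Submonoid.powers b)))) k (ModuleCat.of _ (LocalizedModule (Submonoid.powers b) N)) hdim)
    exact localCohomology_map_iso_subsingleton (resLocEquiv b N)
  have key : ∀ t : Finset A, (t : Set A) ⊆ I' → ∀ J : Ideal A,
      Subsingleton ((localCohomology (J ⊔ Ideal.span (t : Set A)) i).obj (ModuleCat.of A M)) →
      Subsingleton ((localCohomology J i).obj (ModuleCat.of A M)) := by
    intro t
    induction t using Finset.induction_on with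
    | empty =>
      intro _ J hJ'
      rwa [Finset.coe_empty, Ideal.span_empty, sup_bot_eq] at hJ'
    | insert b t hbt ih =>
      intro hsub J hJ'
      rw [Finset.coe_insert, Set.insert_subset_iff] at hsub
      have h1 := ih hsub.2 (J ⊔ Ideal.span {b})
        (by rwa [sup_assoc, ← Ideal.span_union, Set.singleton_union, ← Finset.coe_insert])
      refine subsingleton_of_forall_eq 0 fun w => ?_
      obtain ⟨v, rfl⟩ := (Groth.Agent.LocCohLib.loc_exact₂ J b (ModuleCat.of A M) i w).1
        ((hloc J b hsub.1 i hi (ModuleCat.of A M)).elim _ _)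
      rw [h1.elim v 0, map_zero]
  obtain ⟨s, hs⟩ := (IsNoetherian.noetherian I' : I'.FG)
  refine key s (fun x hx => hs ▸ Ideal.subset_span hx) I ?_
  rw [show I ⊔ Ideal.span (s : Set A) = I' from (congrArg (I ⊔ ·) hs).trans (sup_eq_right.2 hII')]
  exact h M i hi

end Groth.Agent.S1736
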