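import Groth.Statements.S17360
import Groth.Agent.AzInvLib.ConjModel
import Groth.Prelude.Def_W4c2azumayainvolQEt
-- import your own Groth.Agent.* helpers here

set_option autoImplicit false
universe u
open scoped TensorProduct
open AzInv

namespace Groth.Agent.S17360

/-- Let `R` be a nontrivial commutative ring in which `2` is a unit, with the trivial involution. This
row states the second half of the count of types: the identity of `R` (the orthogonal type) and the
standard symplectic involution `x ↦ J xᵀ J⁻¹` of the `2 × 2` matrix algebra, `J` the matrix with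
rows `(0, -1)` and `(1, 0)`, do not have the same type, i.e. for no positive sizes do the matrix
algebras over `R` with the transpose and over `M_2(R)` with the involution induced by the symplectic
one become isomorphic as `R`-algebras with involution after an etale faithfully flat base change of
`R`. (The source states that the monoid of types is isomorphic to the group of global square roots
of `1`, for a locally ringed topos with trivial involution and `2` invertible; the row is the affine
case.) -/
theorem result (R : Type u) [CommRing R] (hlam : ∀ r : R, (AlgEquiv.refl : R ≃ₐ[R] R) ((AlgEquiv.refl : R ≃ₐ[R] R) r) = r)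
    [Nontrivial R] (h2 : IsUnit (2 : R))
    (J : (Matrix (Fin 2) (Fin 2) R)ˣ) (hJ : (↑J : Matrix (Fin 2) (Fin 2) R) = Matrix.of ![![0, -1], ![1, 0]])
    (hJt : AzInv.LamInv.transpose (AlgEquiv.refl : R ≃ₐ[R] R) (Fin 2) hlam (↑J : Matrix (Fin 2) (Fin 2) R) = (-1 : R) • (↑J : Matrix (Fin 2) (Fin 2) R))
    (hneg : (AlgEquiv.refl : R ≃ₐ[R] R) (-1) * (-1) = 1) :
    ¬ AzInv.SameType R (AlgEquiv.refl : R ≃ₐ[R] R) (AzInv.LamInv.self (AlgEquiv.refl : R ≃ₐ[R] R) hlam) ((AzInv.LamInv.transpose (AlgEquiv.refl : R ≃ₐ[R] R) (Fin 2) hlam).conj J (-1) hJt hneg) := by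
  rintro ⟨m, m', hm, hm', hiso⟩
  have hfix : RInv.IsFixedRing R R (AlgEquiv.refl : R ≃ₐ[R] R).toRingEquiv :=
    ⟨fun a b h => h, fun r => ⟨fun _ => ⟨r, rfl⟩, fun _ => rfl⟩⟩
  obtain ⟨p⟩ := (inferInstance : Nonempty (PrimeSpectrum R))
  obtain ⟨K, _, _, H, _, _, ρ, hK, hker, h⟩ := Groth.Agent.AzInvLib.Point.exists_point R p.asIdeal
  haveI := hK
  have hr : Groth.Agent.AzInvLib.RamPoint.IsRamified (AlgEquiv.refl : R ≃ₐ[R] R) K := by
    intro r δ hδ
    have : δ = 0 := by
      have h0 : algebraMap R R δ = 0 := by rw [hδ]; simp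
      exact h0
    rw [this, map_zero]
  have hM2 := Groth.Agent.AzInvLib.Models.isAzumayaDeg_matrix (R := R) 2 two_pos
    (Groth.Agent.AzInvLib.Models.isAzumayaDeg_self (R := R))
  rw [mul_one] at hM2
  exact Groth.Agent.AzInvLib.Types.not_mixed h hlam hfix hr (Groth.Agent.AzInvLib.Types.isUnit_two h2)
    one_pos two_pos hm hm' even_two (Groth.Agent.AzInvLib.Models.isAzumayaDeg_self (R := R))
    hM2
    _ _ (Groth.Agent.AzInvLib.Models.isoAt_of_locIsoEt hiso h)
    (Groth.Agent.AzInvLib.Models.hasStd_self hlam)
    (Groth.Agent.AzInvLib.ConjModel.hasStd_symp hlam J (-1) hJ hJt hneg)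


end Groth.Agent.S17360
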