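import Groth.Statements.S17361
import Groth.Agent.AzInvLib.Orth
-- import your own Groth.Agent.* helpers here

set_option autoImplicit false
universe u v w w'
open scoped TensorProduct
open AzInv

open AzInv Groth.Agent.HenselLib Groth.Agent.AzInvLib Groth.Agent.AzInvLib.Std

namespace Groth.Agent.S17361

/-- Let `R` be a commutative ring with an involution `lam` whose fixed ring is exactly `S`, with `2` a
unit in `S`, and let `(A, t)` and `(A', t')` be Azumaya `R`-algebras of degrees `n, n' ≥ 1` with
`lam`-involutions. For a prime `q` of `R` in the ramification locus, i.e. such that `lam` is the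
identity modulo `q`, the involution induced by `t` on the central simple algebra `k(q) ⊗_R A` is of
the first kind, and it is orthogonal precisely when the images of the `t`-symmetric elements of `A`
span a subspace of dimension `n (n + 1) / 2` over `k(q)` (and symplectic otherwise). Then `t` and
`t'` have the same type (for some positive sizes, the matrix algebras over `A` and `A'` with the
induced involutions become isomorphic as `R`-algebras with involution after an etale faithfully flat
base change of `S`) if and only if at every prime of the ramification locus the involutions induced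
by `t` and by `t'` are both orthogonal or both symplectic. (The source states this for a good
quotient of schemes by an involution, with `2` invertible, through a locally constant sign function
on the ramification locus; the row is the affine case `Spec R → Spec S` with the signs spelled out
by dimensions of symmetric elements.) -/
theorem result (S : Type u) (R : Type v) [CommRing S] [CommRing R] [Algebra S R]
    (lam : R ≃ₐ[S] R) (hlam : ∀ r, lam (lam r) = r) (hfix : RInv.IsFixedRing S R lam.toRingEquiv)
    (h2 : IsUnit (2 : S))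
    (A : Type w) [Ring A] [Algebra S A] [Algebra R A] [IsScalarTower S R A]
    (A' : Type w') [Ring A'] [Algebra S A'] [Algebra R A'] [IsScalarTower S R A']
    (n n' : ℕ) (hn : 0 < n) (hn' : 0 < n') (hA : AzInv.IsAzumayaDeg R A n) (hA' : AzInv.IsAzumayaDeg R A' n')
    (t : AzInv.LamInv R A lam) (t' : AzInv.LamInv R A' lam) :
    AzInv.SameType S lam t t' ↔
      ∀ q : PrimeSpectrum R, (∀ r : R, lam r - r ∈ q.asIdeal) →
        (Module.finrank q.asIdeal.ResidueField
            (Submodule.span q.asIdeal.ResidueField
              (Set.range fun a : {a : A // t a = a} => (1 : q.asIdeal.ResidueField) ⊗ₜ[R] (a : A))) = Nat.choose (n + 1) 2 ↔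
          Module.finrank q.asIdeal.ResidueField
            (Submodule.span q.asIdeal.ResidueField
              (Set.range fun a : {a : A' // t' a = a} => (1 : q.asIdeal.ResidueField) ⊗ₜ[R] (a : A'))) = Nat.choose (n' + 1) 2) := by
  haveI := RamPoint.isIntegral hlam hfix
  have hp : ∀ (q : Ideal R) (K : Type u) [Field K] [Algebra S K], RingHom.ker (algebraMap S K) = q.comap (algebraMap S R) →
      ∀ s : S, algebraMap S K s = 0 ↔ algebraMap S R s ∈ q := fun q K _ _ hker s => by
    rw [← RingHom.mem_ker, hker, Ideal.mem_comap]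
  constructor
  · rintro ⟨m, m', hm, hm', hiso⟩ q hq
    obtain ⟨K, _, _, H, _, _, ρ, hK, hker, h⟩ :=
      Point.exists_point S (q.asIdeal.comap (algebraMap S R))
    haveI := hK
    have hr := Orth.ramified (lam := lam) q.asIdeal hq (hp q.asIdeal K hker)
    have hi := Models.isoAt_of_locIsoEt hiso h
    rw [Orth.orth_iff h hlam hfix q.asIdeal hq (hp q.asIdeal K hker) h2 hn hA t,
      Orth.orth_iff h hlam hfix q.asIdeal hq (hp q.asIdeal K hker) h2 hn' hA' t']
    refine ⟨fun hs => ?_, fun hs => ?_⟩
    · rcases Main.hasStd h hlam hfix (Types.exists_sq_of_two h h2) hn' hA' t'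
        (Or.inl (Types.isUnit_two h2)) with hs' | ⟨he, -, -, hs'⟩
      · exact hs'
      · exact (Types.not_mixed h hlam hfix hr (Types.isUnit_two h2) hn hn' hm hm' he hA hA' t t' hi hs hs').elim
    · rcases Main.hasStd h hlam hfix (Types.exists_sq_of_two h h2) hn hA t
        (Or.inl (Types.isUnit_two h2)) with hs' | ⟨he, -, -, hs'⟩
      · exact hs'
      · exact (Types.not_mixed h hlam hfix hr (Types.isUnit_two h2) hn' hn hm' hm he hA' hA t' t
          (Models.IsoAt.symm hi) hs hs').elim
  · intro hsign
    refine ⟨n', n, hn', hn, Types.locIsoEt_of_points (Nat.mul_pos hn' hn) (Models.isAzumayaDeg_matrix n' hn' hA)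
      (Nat.mul_comm n n' ▸ Models.isAzumayaDeg_matrix n hn hA') _ _ ?_⟩
    intro p K _ _ _ H _ _ ρ hker h
    suffices (HasStd H t (1 : Matrix (Fin n) (Fin n) ℤ) 1 ∧ HasStd H t' (1 : Matrix (Fin n') (Fin n') ℤ) 1) ∨
        ((Even n ∧ HasStd H t (Herm.stdJ ℤ n) (-Herm.stdJ ℤ n)) ∧
          (Even n' ∧ HasStd H t' (Herm.stdJ ℤ n') (-Herm.stdJ ℤ n'))) by
      rcases this with ⟨hs, hs'⟩ | ⟨⟨he, hs⟩, ⟨he', hs'⟩⟩
      · exact ⟨_, _, Models.hasStd_matrix_one n' hs,
          Types.hasStd_cast_one (Nat.mul_comm n n') (Models.hasStd_matrix_one n hs')⟩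
      · exact ⟨_, _, Models.hasStd_matrix_stdJ n' he hs,
          Types.hasStd_cast_stdJ (Nat.mul_comm n n') (Models.hasStd_matrix_stdJ n he' hs')⟩
    rcases Main.hasStd h hlam hfix (Types.exists_sq_of_two h h2) hn hA t
      (Or.inl (Types.isUnit_two h2)) with hs | ⟨he, -, hr, hs⟩ <;>
    rcases Main.hasStd h hlam hfix (Types.exists_sq_of_two h h2) hn' hA' t'
      (Or.inl (Types.isUnit_two h2)) with hs' | ⟨he', -, hr', hs'⟩
    · exact Or.inl ⟨hs, hs'⟩
    all_goals
      have hr₀ : RamPoint.IsRamified lam K := by first | exact hr | exact hr'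
      obtain ⟨q, hqP, hqp⟩ := Ideal.exists_ideal_over_prime_of_isIntegral p.asIdeal (⊥ : Ideal R)
        (by rw [← RingHom.ker_eq_comap_bot, (RingHom.injective_iff_ker_eq_bot _).1 hfix.1]; exact bot_le)
      haveI := hqp.1
      have hq : ∀ r : R, lam r - r ∈ q := by
        intro r
        obtain ⟨δ, hδ⟩ := (hfix.2 ((r - lam r) * (r - lam r))).1 (show lam _ = _ by
          rw [map_mul, map_sub, hlam]; ring)
        refine Ideal.IsPrime.mem_of_pow_mem inferInstance 2 ?_
        rw [show (lam r - r) ^ 2 = algebraMap S R δ by rw [hδ]; ring]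
        refine Ideal.mem_comap.1 ?_
        rw [hqp.2, ← hker, RingHom.mem_ker]
        exact hr₀ r δ hδ
      have hp' := hp q K (hker.trans hqp.2.symm)
      have key := hsign ⟨q, inferInstance⟩ hq
      rw [Orth.orth_iff h hlam hfix q hq hp' h2 hn hA t,
        Orth.orth_iff h hlam hfix q hq hp' h2 hn' hA' t'] at key
    · exact (Main.not_both h hlam hfix hr' (Types.isUnit_two h2) hn' he' hA' t' (key.1 hs) hs').elim
    · exact (Main.not_both h hlam hfix hr (Types.isUnit_two h2) hn he hA t (key.2 hs') hs).elim
    · exact Or.inr ⟨⟨he, hs⟩, ⟨he', hs'⟩⟩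


end Groth.Agent.S17361
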