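import Groth.Statements.S17362
import Groth.Agent.AzInvLib.Orth
-- import your own Groth.Agent.* helpers here

set_option autoImplicit false
universe u v w
open scoped TensorProduct
open AzInv

open AzInv Groth.Agent.HenselLib Groth.Agent.AzInvLib Groth.Agent.AzInvLib.Std

namespace Groth.Agent.S17362

/-- Let `R` be a commutative ring with an involution `lam` whose fixed ring is exactly `S`, with `2` a
unit in `S`, and let `(A, t)` be an Azumaya `R`-algebra of degree `n ≥ 1` with a `lam`-involution.
For a prime `q` of `R` in the ramification locus (`lam` is the identity modulo `q`) call `t`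
orthogonal at `q` when the images of the `t`-symmetric elements of `A` span a subspace of `k(q) ⊗_R
A` of dimension `n (n + 1) / 2` over `k(q)` (the induced involution of the central simple algebra
`k(q) ⊗_R A` is then orthogonal, and symplectic otherwise). Then this orthogonal/symplectic sign is
locally constant on the ramification locus: every such `q` has a basic open neighbourhood `D(f)`
such that at every prime of the ramification locus inside `D(f)` the sign is the same as at `q`.
(The source states this for a good quotient of schemes by an involution with `2` invertible, as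
local constancy of a sign function on the ramification locus; the row is the affine case with the
sign spelled out by dimensions of symmetric elements.) -/
theorem result (S : Type u) (R : Type v) [CommRing S] [CommRing R] [Algebra S R]
    (lam : R ≃ₐ[S] R) (hlam : ∀ r, lam (lam r) = r) (hfix : RInv.IsFixedRing S R lam.toRingEquiv)
    (h2 : IsUnit (2 : S))
    (A : Type w) [Ring A] [Algebra S A] [Algebra R A] [IsScalarTower S R A]
    (n : ℕ) (hn : 0 < n) (hA : AzInv.IsAzumayaDeg R A n) (t : AzInv.LamInv R A lam)
    (q : PrimeSpectrum R) (hq : ∀ r : R, lam r - r ∈ q.asIdeal) :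
    ∃ f : R, f ∉ q.asIdeal ∧ ∀ q' : PrimeSpectrum R, (∀ r : R, lam r - r ∈ q'.asIdeal) → f ∉ q'.asIdeal →
      (Module.finrank q'.asIdeal.ResidueField
          (Submodule.span q'.asIdeal.ResidueField
            (Set.range fun a : {a : A // t a = a} => (1 : q'.asIdeal.ResidueField) ⊗ₜ[R] (a : A))) = Nat.choose (n + 1) 2 ↔
        Module.finrank q.asIdeal.ResidueField
            (Submodule.span q.asIdeal.ResidueField
              (Set.range fun a : {a : A // t a = a} => (1 : q.asIdeal.ResidueField) ⊗ₜ[R] (a : A))) = Nat.choose (n + 1) 2) := by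
  have hp : ∀ (q : Ideal R) (K : Type u) [Field K] [Algebra S K], RingHom.ker (algebraMap S K) = q.comap (algebraMap S R) →
      ∀ s : S, algebraMap S K s = 0 ↔ algebraMap S R s ∈ q := fun q K _ _ hker s => by
    rw [← RingHom.mem_ker, hker, Ideal.mem_comap]
  let p : PrimeSpectrum S := PrimeSpectrum.comap (algebraMap S R) q
  obtain ⟨K, _, _, H, _, _, ρ, hK, hker, h⟩ := Point.exists_point S p.asIdeal
  haveI := hK
  have hiff := Orth.orth_iff h hlam hfix q.asIdeal hq (hp q.asIdeal K hker) h2 hn hA t
  obtain ⟨U, hU, hpU, hconst⟩ : ∃ U : Set (PrimeSpectrum S), IsOpen U ∧ p ∈ U ∧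
      ∀ (K' : Type u) [Field K'] [Algebra S K'] [IsSepClosed K'] (H' : Type u) [CommRing H'] [Algebra S H']
        (ρ' : H' →ₐ[S] K') (p' : PrimeSpectrum S), RingHom.ker (algebraMap S K') = p'.asIdeal →
        IsNbhdColim S K' H' ρ' → RamPoint.IsRamified lam K' → p' ∈ U →
        (HasStd H' t (1 : Matrix (Fin n) (Fin n) ℤ) 1 ↔ HasStd H t (1 : Matrix (Fin n) (Fin n) ℤ) 1) := by
    rcases Main.hasStd h hlam hfix (Types.exists_sq_of_two h h2) hn hA t
      (Or.inl (Types.isUnit_two h2)) with hs | ⟨he, -, hr, hs⟩
    · exact ⟨_, Types.isOpen_nearSet t _ _, Types.mem_nearSet_of_hasStd h p hker hs,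
        fun K' _ _ _ H' _ _ ρ' p' hker' h' hr' hp' =>
          iff_of_true (Types.hasStd_of_mem_nearSet h' p' hker' hp') hs⟩
    · exact ⟨_, Types.isOpen_nearSet t _ _, Types.mem_nearSet_of_hasStd h p hker hs,
        fun K' _ _ _ H' _ _ ρ' p' hker' h' hr' hp' =>
          iff_of_false (fun hc => Main.not_both h' hlam hfix hr' (Types.isUnit_two h2) hn he hA t hc
            (Types.hasStd_of_mem_nearSet h' p' hker' hp'))
            (fun hc => Main.not_both h hlam hfix hr (Types.isUnit_two h2) hn he hA t hc hs)⟩
  obtain ⟨V, ⟨g, rfl⟩, hpV, hVU⟩ :=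
    PrimeSpectrum.isTopologicalBasis_basic_opens.exists_subset_of_mem_open hpU hU
  refine ⟨algebraMap S R g, fun hg => hpV hg, fun q' hq' hg' => ?_⟩
  obtain ⟨K', _, _, H', _, _, ρ', hK', hker', h'⟩ :=
    Point.exists_point S (PrimeSpectrum.comap (algebraMap S R) q').asIdeal
  haveI := hK'
  rw [hiff, Orth.orth_iff h' hlam hfix q'.asIdeal hq' (hp q'.asIdeal K' hker') h2 hn hA t]
  exact hconst K' H' ρ' _ hker' h'
    (Orth.ramified (lam := lam) q'.asIdeal hq' (hp q'.asIdeal K' hker')) (hVU hg')


end Groth.Agent.S17362
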