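import Groth.Statements.S1737
import Groth.Agent.DepthLib.Sk

set_option autoImplicit false
universe u
open LocCoh

namespace Groth.Agent.S1737

/-- Let A be a Noetherian ring, T ⊆ Spec A stable under specialization and M a finite A-module. There
are a finite A-module M' and a surjection M → M' which is bijective after localizing at every prime
outside T and such that M'_p has depth ≥ 1 over A_p for every p in T. (The source states this for
coherent modules on a Noetherian scheme, with uniqueness.) -/
theorem result (A : Type u) [CommRing A] [IsNoetherianRing A] (T : Set (PrimeSpectrum A)) (hT : StableUnderSpecialization T) (M : Type u) [AddCommGroup M] [Module A M] [Module.Finite A M] : ∃ (M' : Type u) (_ : AddCommGroup M') (_ : Module A M') (_ : Module.Finite A M') (f : M →ₗ[A] M'), Function.Surjective f ∧ (∀ p : PrimeSpectrum A, p ∉ T → Function.Bijective (LocalizedModule.map p.asIdeal.primeCompl f)) ∧ ∀ p : PrimeSpectrum A, p ∈ T → 1 ≤ LocCoh.depth (Localization.AtPrime p.asIdeal) (LocalizedModule p.asIdeal.primeCompl M') := by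
  let N : Submodule A M := ⨅ (q : PrimeSpectrum A) (_ : q ∉ T),
    LinearMap.ker (LocalizedModule.mkLinearMap q.asIdeal.primeCompl M)
  have hN : ∀ m, m ∈ N ↔ ∀ q : PrimeSpectrum A, q ∉ T → ∃ t ∈ q.asIdeal.primeCompl, t • m = 0 := by
    intro m
    simp only [N, Submodule.mem_iInf]
    refine forall₂_congr fun q _ => ?_
    exact LocalizedModule.mem_ker_mkLinearMap_iff
  refine ⟨M ⧸ N, inferInstance, inferInstance, inferInstance, N.mkQ, N.mkQ_surjective, ?_, ?_⟩
  · intro p hp
    refine ⟨?_, LocalizedModule.map_surjective _ _ N.mkQ_surjective⟩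
    rw [injective_iff_map_eq_zero]
    intro z hz
    induction z using LocalizedModule.induction_on with
    | h m s =>
      rw [LocalizedModule.map_mk] at hz
      obtain ⟨u, hu⟩ := LocalizedModule.mk_eq.mp (hz.trans (LocalizedModule.zero_mk s).symm)
      simp only [smul_zero, Submonoid.smul_def, smul_smul, Submodule.mkQ_apply] at hu
      rw [← Submodule.Quotient.mk_smul, Submodule.Quotient.mk_eq_zero] at hu
      obtain ⟨t, ht, htm⟩ := (hN _).mp hu p hp
      rw [← LocalizedModule.zero_mk s, LocalizedModule.mk_eq]
      refine ⟨⟨t, ht⟩ * u, ?_⟩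
      simp only [smul_zero, Submonoid.smul_def, smul_smul, Submonoid.coe_mul]
      rw [mul_assoc, ← smul_smul]
      exact htm
  · intro p hp
    rw [Order.one_le_iff_pos, pos_iff_ne_zero, ne_eq, DepthLib.depth_localization_eq_zero_iff]
    intro hass
    obtain ⟨-, x, hx⟩ := isAssociatedPrime_iff.mp hass
    obtain ⟨m, rfl⟩ := N.mkQ_surjective x
    have hmN : ∀ t, t ∈ p.asIdeal ↔ t • m ∈ N := by
      intro t
      rw [hx, Submodule.mem_colon_singleton, Submodule.mem_bot, ← map_smul, Submodule.mkQ_apply,
        Submodule.Quotient.mk_eq_zero]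
    refine p.isPrime.ne_top ((Ideal.eq_top_iff_one _).mpr ((hmN 1).mpr ?_))
    rw [one_smul, hN]
    intro q hq
    obtain ⟨t, htp, htq⟩ := SetLike.not_le_iff_exists.mp (fun hle : p.asIdeal ≤ q.asIdeal =>
      hq (hT ((PrimeSpectrum.le_iff_specializes p q).mp hle) hp))
    obtain ⟨t', ht', h⟩ := (hN _).mp ((hmN t).mp htp) q hq
    exact ⟨t' * t, mul_mem ht' htq, by rw [← smul_smul]; exact h⟩

end Groth.Agent.S1737
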