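import Groth.Statements.S17376
import Mathlib
-- import your own Groth.Agent.* helpers here

set_option autoImplicit false
universe u
open scoped TensorProduct
open CAlg

namespace Groth.Agent.S17376

open scoped TensorProduct
open Polynomial (aeval)

/-- Determinant of a matrix integral over `A₀` is integral. -/
lemma isIntegral_det {A₀ P : Type u} [CommRing A₀] [CommRing P] [IsDomain P] [Algebra A₀ P]
    {n : Type} [Fintype n] [DecidableEq n] (M : Matrix n n P) (q : Polynomial A₀) (hq : q.Monic)
    (hM : Polynomial.aeval M (q.map (algebraMap A₀ P)) = 0) : IsIntegral A₀ M.det := by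
  let Ω := AlgebraicClosure (FractionRing P)
  have hinj : Function.Injective (algebraMap P Ω) := by
    rw [IsScalarTower.algebraMap_eq P (FractionRing P) Ω]
    exact (algebraMap (FractionRing P) Ω).injective.comp (IsFractionRing.injective P _)
  let g := (algebraMap P Ω).comp (algebraMap A₀ P)
  suffices h : g.IsIntegralElem (algebraMap P Ω M.det) by
    obtain ⟨p, hp, hp0⟩ := h
    exact ⟨p, hp, hinj (by rw [Polynomial.hom_eval₂, map_zero]; exact hp0)⟩
  letI : Algebra A₀ Ω := g.toAlgebra
  show IsIntegral A₀ (algebraMap P Ω M.det)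
  let φ : Matrix n n P →ₐ[P] Matrix n n Ω := (IsScalarTower.toAlgHom P P Ω).mapMatrix
  have hdet : algebraMap P Ω M.det = (φ M).det := RingHom.map_det (algebraMap P Ω) M
  rw [hdet, Matrix.det_eq_prod_roots_charpoly]
  refine IsIntegral.multiset_prod fun μ hμ => ⟨q, hq, ?_⟩
  have h1 : μ ∈ spectrum Ω (φ M) :=
    Matrix.mem_spectrum_iff_isRoot_charpoly.2 (Polynomial.isRoot_of_mem_roots hμ)
  have h0 : Polynomial.aeval (φ M) (q.map (algebraMap A₀ Ω)) = 0 := by
    change Polynomial.aeval (φ M) (q.map g) = 0
    rw [← Polynomial.map_map, Polynomial.aeval_map_algebraMap, Polynomial.aeval_algHom_apply, hM,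
      map_zero]
  have h2 := spectrum.subset_polynomial_aeval (φ M) (q.map (algebraMap A₀ Ω))
    (Set.mem_image_of_mem _ h1)
  rw [h0] at h2
  haveI : Nonempty n := by
    by_contra hn
    haveI := not_nonempty_iff.1 hn
    exact h2 (isUnit_of_subsingleton _)
  rw [spectrum.zero_eq, Set.mem_singleton_iff] at h2
  rw [← Polynomial.eval_map]
  exact h2

/-- McCoy: an injective square matrix has regular determinant. -/
lemma det_regular_of_injective {R₀ : Type u} [CommRing R₀] {n : Type} [Fintype n] [DecidableEq n]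
    (M : Matrix n n R₀) (h : Function.Injective M.mulVec) (c : R₀) (hc : c * M.det = 0) : c = 0 := by
  by_contra hne
  let S : Subalgebra ℤ R₀ := Algebra.adjoin ℤ (insert c (Set.range fun p : n × n => M p.1 p.2))
  haveI : IsNoetherianRing S := isNoetherianRing_of_fg
    (Subalgebra.fg_def.2 ⟨_, (Set.finite_range _).insert c, rfl⟩)
  let c₀ : S := ⟨c, Algebra.subset_adjoin (Set.mem_insert _ _)⟩
  let M₀ : Matrix n n S := fun i j => ⟨M i j, Algebra.subset_adjoin (Set.mem_insert_of_mem _ ⟨(i, j), rfl⟩)⟩
  have hdet : c₀ * M₀.det = 0 := Subtype.ext (by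
    have : ((M₀.det : S) : R₀) = M.det := RingHom.map_det S.val.toRingHom M₀
    simp only [MulMemClass.coe_mul, this, ZeroMemClass.coe_zero]
    exact hc)
  have hc₀ : c₀ ≠ 0 := fun e => hne (congrArg Subtype.val e)
  obtain ⟨P, hP, hle⟩ := exists_le_isAssociatedPrime_of_isNoetherianRing S c₀ hc₀
  obtain ⟨hPp, y, hy⟩ := isAssociatedPrime_iff.1 hP
  haveI := hPp
  have hmem : M₀.det ∈ P := hle (by
    rw [Submodule.mem_colon_singleton, Submodule.mem_bot, smul_eq_mul, mul_comm]; exact hdet)
  let π := Ideal.Quotient.mk P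
  have hdetπ : (M₀.map π).det = 0 :=
    (RingHom.map_det π M₀).symm.trans (Ideal.Quotient.eq_zero_iff_mem.2 hmem)
  obtain ⟨v, hv0, hv⟩ := Matrix.exists_mulVec_eq_zero_iff.2 hdetπ
  choose w hw using fun i => Ideal.Quotient.mk_surjective (v i)
  have hP' : ∀ a : S, a ∈ P ↔ a * y = 0 := fun a => by
    rw [hy, Submodule.mem_colon_singleton, Submodule.mem_bot, smul_eq_mul]
  have hMw : ∀ i, M₀.mulVec w i ∈ P := fun i => by
    rw [← Ideal.Quotient.eq_zero_iff_mem, RingHom.map_mulVec π]
    have : π ∘ w = v := funext hw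
    rw [this, hv]; rfl
  have hz : M.mulVec (fun i => ((w i * y : S) : R₀)) = M.mulVec 0 := by
    rw [Matrix.mulVec_zero]
    funext i
    have : (((M₀.mulVec w i) * y : S) : R₀) = 0 := by rw [(hP' _).1 (hMw i)]; rfl
    refine Eq.trans ?_ this
    simp only [Matrix.mulVec, dotProduct, Finset.sum_mul, AddSubmonoidClass.coe_finset_sum,
      MulMemClass.coe_mul, mul_assoc]
    rfl
  have hwy := h hz
  apply hv0
  funext i
  rw [← hw i, Pi.zero_apply, Ideal.Quotient.eq_zero_iff_mem, hP']
  exact Subtype.ext (congrFun hwy i)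

section main
variable (k A K L R : Type u) [Field k]
    [CommRing A] [IsDomain A] [IsIntegrallyClosed A] [Algebra k A]
    [Field K] [Algebra A K] [IsFractionRing A K] [Algebra k K] [IsScalarTower k A K]
    [Field L] [Algebra K L] [FiniteDimensional K L] [Algebra A L] [IsScalarTower A K L]
    [Algebra k L] [IsScalarTower k K L] [IsScalarTower k A L]
    [CommRing R] [Algebra k R]

local notation "ρ" => Algebra.TensorProduct.map (IsScalarTower.toAlgHom k K L) (AlgHom.id k R)

/-- `(K ⊗ R) ⊗_K L ≅ L ⊗ R`. -/
noncomputable def eqv : (K ⊗[k] R) ⊗[K] L ≃+* L ⊗[k] R :=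
  (Algebra.TensorProduct.comm K (K ⊗[k] R) L).toRingEquiv.trans
    (Algebra.TensorProduct.cancelBaseChange k K K L R).toRingEquiv

lemma eqv_one_tmul (r : R) (l : L) : eqv k K L R (((1 : K) ⊗ₜ[k] r) ⊗ₜ[K] l) = l ⊗ₜ[k] r := by
  simp [eqv, Algebra.TensorProduct.cancelBaseChange_tmul]

lemma eqv_algebraMap (t : K ⊗[k] R) : eqv k K L R (t ⊗ₜ[K] (1 : L)) = ρ t := by
  induction t with
  | zero => simp [TensorProduct.zero_tmul]
  | tmul c r => simp [eqv, Algebra.TensorProduct.cancelBaseChange_tmul, Algebra.smul_def]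
  | add x y hx hy => rw [TensorProduct.add_tmul, map_add, map_add, hx, hy]

@[implicit_reducible] noncomputable def algT : Algebra (K ⊗[k] R) (L ⊗[k] R) := (ρ).toRingHom.toAlgebra

/-- basis of `L ⊗ R` over `K ⊗ R` -/
noncomputable def bT : letI := algT k K L R
    Module.Basis (Fin (Module.finrank K L)) (K ⊗[k] R) (L ⊗[k] R) :=
  letI := algT k K L R
  ((Module.finBasis K L).baseChange (K ⊗[k] R)).map
    { (eqv k K L R).toAddEquiv with
      map_smul' := fun t x => by
        change eqv k K L R (t • x) = ρ t * eqv k K L R x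
        rw [← eqv_algebraMap, ← map_mul, Algebra.smul_def]
        rfl }

lemma leftMulMatrix_bT (l : L) (r : R) : letI := algT k K L R
    Algebra.leftMulMatrix (bT k K L R) (l ⊗ₜ[k] r) =
      (Algebra.leftMulMatrix (Module.finBasis K L) l).map (fun c => c ⊗ₜ[k] r) := by
  letI := algT k K L R
  ext i j
  rw [Algebra.leftMulMatrix_eq_repr_mul, Matrix.map_apply, Algebra.leftMulMatrix_eq_repr_mul]
  simp only [bT, Module.Basis.map_apply, Module.Basis.map_repr, Module.Basis.baseChange_apply]
  change ((Module.finBasis K L).baseChange (K ⊗[k] R)).repr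
    ((eqv k K L R).symm (l ⊗ₜ[k] r * eqv k K L R ((1 : K ⊗[k] R) ⊗ₜ[K] Module.finBasis K L j))) i = _
  rw [Algebra.TensorProduct.one_def, eqv_one_tmul, Algebra.TensorProduct.tmul_mul_tmul, mul_one,
    ← eqv_one_tmul k K L R r, RingEquiv.symm_apply_apply, Module.Basis.baseChange_repr_tmul,
    TensorProduct.smul_tmul', smul_eq_mul, mul_one]

/-- `m ↦ det`: the norm of `Σ bₚ ⊗ rₚ` is in the image of `A ⊗ R`. -/
lemma det_mem_range {σ : Type u} [Fintype σ] (b : σ → integralClosure A L) (r : σ → R) :
    (∑ p, (Algebra.leftMulMatrix (Module.finBasis K L) (b p : L)).map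
        (fun c => c ⊗ₜ[k] r p) : Matrix _ _ (K ⊗[k] R)).det ∈
      Set.range (Algebra.TensorProduct.map (IsScalarTower.toAlgHom k A K) (AlgHom.id k R)) := by
  let f : MvPolynomial σ A →+* MvPolynomial σ K := MvPolynomial.map (algebraMap A K)
  let bP := (Module.finBasis K L).baseChange (MvPolynomial σ K)
  let β : MvPolynomial σ K ⊗[K] L := ∑ p, MvPolynomial.X p ⊗ₜ (b p : L)
  letI : Algebra (MvPolynomial σ A) (MvPolynomial σ K) := f.toAlgebra
  letI : Algebra (MvPolynomial σ A) (MvPolynomial σ K ⊗[K] L) :=
    ((algebraMap (MvPolynomial σ K) (MvPolynomial σ K ⊗[K] L)).comp f).toAlgebra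
  have hX : ∀ p, (MvPolynomial.X p : MvPolynomial σ K) = f (MvPolynomial.X p) := fun p =>
    (MvPolynomial.map_X _ _).symm
  have hβ : IsIntegral (MvPolynomial σ A) β := by
    refine IsIntegral.sum _ fun p _ => ?_
    have e : (MvPolynomial.X p : MvPolynomial σ K) ⊗ₜ[K] (b p : L) =
        algebraMap (MvPolynomial σ A) _ (MvPolynomial.X p) * (1 ⊗ₜ[K] (b p : L)) := by
      rw [RingHom.algebraMap_toAlgebra, RingHom.comp_apply, ← hX,
        Algebra.TensorProduct.algebraMap_apply, Algebra.TensorProduct.tmul_mul_tmul]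
      simp
    rw [e]
    refine isIntegral_algebraMap.mul ?_
    refine IsIntegral.map_of_comp_eq (MvPolynomial.C : A →+* MvPolynomial σ A)
      (Algebra.TensorProduct.includeRight (R := K) (A := MvPolynomial σ K) (B := L)).toRingHom ?_
      (b p).2
    ext a
    simp only [RingHom.comp_apply, RingHom.algebraMap_toAlgebra, f, MvPolynomial.map_C]
    change _ = (1 : MvPolynomial σ K) ⊗ₜ[K] algebraMap A L a
    rw [IsScalarTower.algebraMap_apply A K L, Algebra.algebraMap_eq_smul_one (A := L),
      ← TensorProduct.smul_tmul, Algebra.TensorProduct.algebraMap_apply]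
    simp [Algebra.smul_def, MvPolynomial.algebraMap_apply]
  obtain ⟨q, hq, hq0⟩ := hβ
  let M := Algebra.leftMulMatrix bP β
  have hM : Polynomial.aeval M (q.map (algebraMap (MvPolynomial σ A) (MvPolynomial σ K))) = 0 := by
    have h' : Polynomial.aeval β (q.map (algebraMap (MvPolynomial σ A) (MvPolynomial σ K))) = 0 := by
      rw [Polynomial.aeval_def, Polynomial.eval₂_map]; exact hq0
    rw [Polynomial.aeval_algHom_apply, h', map_zero]
  have hint : IsIntegral (MvPolynomial σ A) M.det := isIntegral_det M q hq hM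
  have hcoeff := (MvPolynomial.isIntegral_iff_isIntegral_coeff (R := A) (S := K)).1 hint
  obtain ⟨g, hg⟩ : M.det ∈ Set.range f := by
    rw [MvPolynomial.mem_range_map_iff_coeffs_subset]
    intro c hc
    obtain ⟨m, _, rfl⟩ := MvPolynomial.mem_coeffs_iff.1 hc
    exact IsIntegrallyClosed.isIntegral_iff.1 (hcoeff m)
  let ev : MvPolynomial σ K →+* K ⊗[k] R :=
    (MvPolynomial.aeval fun p => (1 : K) ⊗ₜ[k] r p).toRingHom
  let evA : MvPolynomial σ A →+* A ⊗[k] R :=
    (MvPolynomial.aeval fun p => (1 : A) ⊗ₜ[k] r p).toRingHom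
  have hev : ev.comp f =
      (Algebra.TensorProduct.map (IsScalarTower.toAlgHom k A K) (AlgHom.id k R)).toRingHom.comp evA := by
    refine MvPolynomial.ringHom_ext (fun a => ?_) fun p => ?_
    · simp [ev, evA, f, Algebra.TensorProduct.algebraMap_apply]
    · simp [ev, evA, f]
  refine ⟨evA g, ?_⟩
  have h1 := RingHom.congr_fun hev g
  simp only [RingHom.comp_apply, hg] at h1
  refine h1.symm.trans ?_
  rw [RingHom.map_det]
  congr 1
  ext i j
  simp only [M, β, bP, RingHom.mapMatrix_apply, Matrix.map_apply, Algebra.leftMulMatrix_eq_repr_mul,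
    Matrix.sum_apply, Finset.sum_mul, map_sum, Module.Basis.baseChange_apply,
    Algebra.TensorProduct.tmul_mul_tmul, mul_one, Finsupp.coe_finset_sum, Finset.sum_apply,
    Module.Basis.baseChange_repr_tmul, ev]
  refine Finset.sum_congr rfl fun p _ => ?_
  simp [MvPolynomial.smul_eq_C_mul, Algebra.TensorProduct.algebraMap_apply]

lemma regular_iff_forall {S : Type u} [CommRing S] (x : S) :
    IsRegular x ↔ ∀ y, x * y = 0 → y = 0 :=
  ⟨fun h y hy => h.left (by simpa using hy), fun h =>
    isRegular_iff_mem_nonZeroDivisors.2 (mem_nonZeroDivisors_iff_right.2 fun y hy => h y (by rwa [mul_comm]))⟩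

lemma core : letI := algT k K L R
    Module.Free (K ⊗[k] R) (L ⊗[k] R) ∧ Module.Finite (K ⊗[k] R) (L ⊗[k] R) ∧
      ∀ b : (integralClosure A L) ⊗[k] R,
        Algebra.norm (K ⊗[k] R)
            (Algebra.TensorProduct.map ((integralClosure A L).val.restrictScalars k) (AlgHom.id k R) b) ∈
          Set.range (Algebra.TensorProduct.map (IsScalarTower.toAlgHom k A K) (AlgHom.id k R)) ∧
        (IsRegular b ↔ IsRegular (Algebra.norm (K ⊗[k] R)
            (Algebra.TensorProduct.map ((integralClosure A L).val.restrictScalars k) (AlgHom.id k R) b))) := by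
  letI := algT k K L R
  refine ⟨Module.Free.of_basis (bT k K L R), Module.Finite.of_basis (bT k K L R), fun b => ?_⟩
  generalize hι : Algebra.TensorProduct.map ((integralClosure A L).val.restrictScalars k) (AlgHom.id k R) = ι
  rw [Algebra.norm_eq_matrix_det (bT k K L R)]
  constructor
  · obtain ⟨s, hs⟩ := TensorProduct.exists_finset b
    have e : Algebra.leftMulMatrix (bT k K L R) (ι b) = ∑ p : s,
        (Algebra.leftMulMatrix (Module.finBasis K L) (p.1.1 : L)).map (fun c => c ⊗ₜ[k] p.1.2) := by
      rw [hs, map_sum, map_sum, ← Finset.sum_coe_sort]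
      refine Finset.sum_congr rfl fun p _ => ?_
      rw [← hι, Algebra.TensorProduct.map_tmul]
      exact leftMulMatrix_bT k K L R _ _
    rw [e]
    exact det_mem_range k A K L R (fun p : s => p.1.1) (fun p : s => p.1.2)
  · have hιinj : Function.Injective ι := by
      rw [← hι]
      exact Module.Flat.rTensor_preserves_injective_linearMap (M := R)
        ((integralClosure A L).val.restrictScalars k).toLinearMap Subtype.val_injective
    have hclear : ∀ y : L ⊗[k] R, ∃ a : A, a ≠ 0 ∧ ∃ z, ι z = (algebraMap A L a ⊗ₜ[k] (1 : R)) * y := by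
      intro y
      induction y with
      | zero => exact ⟨1, one_ne_zero, 0, by simp⟩
      | tmul l s =>
        obtain ⟨m, hm⟩ := IsIntegral.exists_multiple_integral_of_isLocalization (nonZeroDivisors A) l
          (Algebra.IsIntegral.isIntegral (R := K) l)
        refine ⟨(m : A), nonZeroDivisors.coe_ne_zero m, (⟨_, hm⟩ : integralClosure A L) ⊗ₜ[k] s, ?_⟩
        rw [← hι]
        simp [Algebra.smul_def, Submonoid.smul_def]
      | add y₁ y₂ h₁ h₂ =>
        obtain ⟨a₁, ha₁, z₁, hz₁⟩ := h₁
        obtain ⟨a₂, ha₂, z₂, hz₂⟩ := h₂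
        refine ⟨a₁ * a₂, mul_ne_zero ha₁ ha₂,
          (algebraMap A (integralClosure A L) a₂ ⊗ₜ[k] 1) * z₁ +
            (algebraMap A (integralClosure A L) a₁ ⊗ₜ[k] 1) * z₂, ?_⟩
        have hA : ∀ a : A, ι (algebraMap A (integralClosure A L) a ⊗ₜ[k] 1) = algebraMap A L a ⊗ₜ[k] 1 :=
          fun a => by rw [← hι]; rfl
        rw [map_add, map_mul, map_mul, hA, hA, hz₁, hz₂, map_mul, ← mul_assoc, ← mul_assoc, mul_add,
          Algebra.TensorProduct.tmul_mul_tmul, Algebra.TensorProduct.tmul_mul_tmul,
          mul_comm (algebraMap A L a₂), one_mul]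
    have hreg : IsRegular b ↔ IsRegular (ι b) := by
      rw [regular_iff_forall, regular_iff_forall]
      refine ⟨fun h y hy => ?_, fun h y hy => hιinj ?_⟩
      · obtain ⟨a, ha, z, hz⟩ := hclear y
        have : z = 0 := h z (hιinj (by rw [map_mul, hz, mul_left_comm, hy, mul_zero, map_zero]))
        rw [this, map_zero] at hz
        refine (IsUnit.mul_right_eq_zero ?_).1 hz.symm
        exact (RingHom.isUnit_map (Algebra.TensorProduct.includeLeftRingHom (R := k) (A := L) (B := R))
          (isUnit_iff_ne_zero.2 ((map_ne_zero_iff _ (by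
            rw [IsScalarTower.algebraMap_eq A K L]
            exact (algebraMap K L).injective.comp (IsFractionRing.injective A K))).2 ha)))
      · rw [map_zero]; exact h _ (by rw [← map_mul, hy, map_zero])
    rw [hreg, regular_iff_forall, regular_iff_forall]
    set M := Algebra.leftMulMatrix (bT k K L R) (ι b)
    constructor
    · intro h c hc
      refine det_regular_of_injective M ?_ c (by rwa [mul_comm])
      intro v w hvw
      rw [← sub_eq_zero, ← Matrix.mulVec_sub] at hvw
      rw [← sub_eq_zero]
      obtain ⟨y, hy⟩ : ∃ y, ⇑((bT k K L R).repr y) = v - w :=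
        ⟨(bT k K L R).equivFun.symm (v - w), (bT k K L R).equivFun.apply_symm_apply _⟩
      rw [← hy] at hvw ⊢
      rw [Algebra.leftMulMatrix_mulVec_repr] at hvw
      have : ι b * y = 0 := by
        apply (bT k K L R).repr.injective
        rw [map_zero]; exact DFunLike.coe_injective hvw
      rw [h y this, map_zero]; rfl
    · intro h y hy
      apply (bT k K L R).repr.injective
      ext i
      rw [map_zero, Finsupp.zero_apply]
      refine h _ ?_
      have h2 : M.mulVec ((bT k K L R).repr y) = 0 := by
        rw [Algebra.leftMulMatrix_mulVec_repr, hy, map_zero]; rfl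
      have h3 := congrArg M.adjugate.mulVec h2
      rw [Matrix.mulVec_mulVec, Matrix.adjugate_mul, Matrix.smul_mulVec, Matrix.one_mulVec,
        Matrix.mulVec_zero] at h3
      simpa using congrFun h3 i

end main


/-- Let k be a field, A an integrally closed domain over k with fraction field K, L a finite extension
of K, B the integral closure of A in L, and R an arbitrary commutative k-algebra; view L ⊗_k R as an
algebra over K ⊗_k R through K → L. Then L ⊗_k R is finite free over K ⊗_k R, so the norm
(determinant of multiplication) L ⊗_k R → K ⊗_k R is defined; the norm of any element β of B ⊗_k R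
(mapped into L ⊗_k R) lies in the image of A ⊗_k R; and β is a nonzerodivisor in B ⊗_k R if and only
if its norm is a nonzerodivisor in K ⊗_k R. (Nonzerodivisors of A ⊗_k R are exactly its elements
that are nonzerodivisors in K ⊗_k R, the latter being a localisation of the former at
nonzerodivisors, so this is the source's formulation with the norm regarded in A ⊗_k R.) -/
theorem result (k A K L R : Type u) [Field k]
    [CommRing A] [IsDomain A] [IsIntegrallyClosed A] [Algebra k A]
    [Field K] [Algebra A K] [IsFractionRing A K] [Algebra k K] [IsScalarTower k A K]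
    [Field L] [Algebra K L] [FiniteDimensional K L] [Algebra A L] [IsScalarTower A K L]
    [Algebra k L] [IsScalarTower k K L] [IsScalarTower k A L]
    [CommRing R] [Algebra k R] :
    letI : Algebra (K ⊗[k] R) (L ⊗[k] R) :=
      (Algebra.TensorProduct.map (IsScalarTower.toAlgHom k K L) (AlgHom.id k R)).toRingHom.toAlgebra
    Module.Free (K ⊗[k] R) (L ⊗[k] R) ∧ Module.Finite (K ⊗[k] R) (L ⊗[k] R) ∧
      ∀ b : (integralClosure A L) ⊗[k] R,
        Algebra.norm (K ⊗[k] R)
            (Algebra.TensorProduct.map ((integralClosure A L).val.restrictScalars k) (AlgHom.id k R) b) ∈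
          Set.range (Algebra.TensorProduct.map (IsScalarTower.toAlgHom k A K) (AlgHom.id k R)) ∧
        (IsRegular b ↔ IsRegular (Algebra.norm (K ⊗[k] R)
            (Algebra.TensorProduct.map ((integralClosure A L).val.restrictScalars k) (AlgHom.id k R) b))) := by
  exact core k A K L R

end Groth.Agent.S17376
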