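import Groth.Statements.S17386
import Groth.Agent.BlowUpLib.Props2

set_option autoImplicit false
universe u
open BlowUp

namespace Groth.Agent.S17386

open AlgebraicGeometry CategoryTheory Limits in
/-- Let X be any scheme, J_1, …, J_n quasi-coherent ideals on X with closed subschemes Y_i, and b : X' →
X a blowing up of X in the ideal J_1 + ⋯ + J_n of the intersection of the Y_i. For each i let b_i' :
Y_i' → Y_i be a blowing up of Y_i in the inverse image of J_1 + ⋯ + J_n and k_i : Y_i' → X' the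
morphism with k_i ≫ b = b_i' ≫ (Y_i → X), so that the image of k_i is the strict transform of Y_i.
Then the strict transforms have empty common intersection: no point of X' lies in the image of every
k_i. -/
theorem result
    {X X' : Scheme.{u}} {n : ℕ} (𝓙 : Fin n → X.IdealSheafData) (b : X' ⟶ X)
    (hb : BlowUp.IsBlowUp b (⨆ i, 𝓙 i))
    (Y' : Fin n → Scheme.{u}) (b' : ∀ i, Y' i ⟶ (𝓙 i).subscheme)
    (hb' : ∀ i, BlowUp.IsBlowUp (b' i) ((⨆ j, 𝓙 j).comap (𝓙 i).subschemeι))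
    (k : ∀ i, Y' i ⟶ X') (hk : ∀ i, k i ≫ b = b' i ≫ (𝓙 i).subschemeι) :
    (⋂ i, Set.range (fun y => k i y)) = (∅ : Set X') := by
  refine Set.eq_empty_iff_forall_notMem.mpr fun x hx => ?_
  obtain ⟨_, ⟨W, hW, rfl⟩, hxW, -⟩ := X.isBasis_affineOpens.exists_subset_of_mem_open (Set.mem_univ (b x)) isOpen_univ
  obtain ⟨t, ht, hxt⟩ := Groth.Agent.BlowUpLib.exists_gen_mem hb.1 ⟨W, hW⟩ (⋃ i, ((𝓙 i).ideal ⟨W, hW⟩ : Set Γ(X, W)))
    (by
      rw [Scheme.IdealSheafData.ideal_iSup, iSup_apply, Ideal.span_iUnion]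
      exact iSup_congr fun i => (Ideal.span_eq _).symm) hxW
  obtain ⟨i, hi⟩ := Set.mem_iUnion.mp ht
  obtain ⟨y, hy⟩ := Set.mem_iInter.mp hx i
  refine Groth.Agent.BlowUpLib.strict_not_mem_gen hb (hb' i) (hk i) ⟨⟨W, hW⟩, t, (le_iSup 𝓙 i) ⟨W, hW⟩ hi⟩ hi y ?_
  have hy2 : k i y = x := hy
  rw [hy2]
  exact hxt

end Groth.Agent.S17386
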