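import Groth.Statements.S17391
import Groth.Agent.AdmBlowUp.Core
-- import your own Groth.Agent.* helpers here

set_option autoImplicit false
universe u
open BlowUp

namespace Groth.Agent.S17391

open AlgebraicGeometry CategoryTheory Limits in
/-- Let X and Z be schemes, p : Z → X a morphism, U ⊆ V ⊆ X open subschemes, and f : Y → Z a
quasi-compact immersion whose composite with p lands in U. Let I₁ be a quasi-coherent ideal on X
whose support contains V ∖ U and is disjoint from U, and I₂ a quasi-coherent ideal whose support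
lies in supp(I₁) ∖ V. Assume that the closed subscheme p⁻¹(V(I₁²)) ∩ Ȳ of Z, where Ȳ is the
scheme-theoretic image of f, is contained in p⁻¹(V(I₂)) as a closed subscheme: the inverse image
ideal of I₂ on Z lies in the sum of the inverse image ideal of I₁² and the kernel ideal of f. Then
for every blowing up q : X' → X of X in I₁ + I₂, writing Z' = Z ×_X X' → X' and Y' = Y ×_Z Z' → Z'
for the base changes, the closure in Z' of the image of Y' is disjoint from the preimage in Z' of
the closure in X' of q⁻¹(V ∖ U). (The blowing up is an isomorphism over V, since the support of I₁ +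
I₂ is that of I₂ and lies in X ∖ V; the point is that the closure of q⁻¹(V ∖ U) in X', which may
reach over X ∖ V, still misses the closure of Y'.) -/
theorem result
    {X Y Z X' : Scheme.{u}} (p : Z ⟶ X) (U V : X.Opens) (hUV : U ≤ V)
    (f : Y ⟶ Z) [IsImmersion f] [QuasiCompact f] (hY : Set.range (fun y => p (f y)) ⊆ (U : Set X))
    (𝓘₁ 𝓘₂ : X.IdealSheafData)
    (h₁ : (V : Set X) \ (U : Set X) ⊆ (𝓘₁.support : Set X)) (h₁' : Disjoint (𝓘₁.support : Set X) (U : Set X))
    (h₂ : (𝓘₂.support : Set X) ⊆ (𝓘₁.support : Set X) \ (V : Set X))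
    (hincl : 𝓘₂.comap p ≤ (𝓘₁ * 𝓘₁).comap p ⊔ f.ker)
    (q : X' ⟶ X) (hq : BlowUp.IsBlowUp q (𝓘₁ ⊔ 𝓘₂)) :
    Disjoint (closure (Set.range (fun y => (pullback.snd f (pullback.fst p q)) y)))
      ((fun z => (pullback.snd p q) z) ⁻¹'
        closure ((fun x' => q x') ⁻¹' ((V : Set X) \ (U : Set X)))) := by
    refine Set.disjoint_left.mpr fun z hz1 hz2 => ?_
    have hsup : ((𝓘₁ ⊔ 𝓘₂).support : Set X) ⊆ (𝓘₁.support : Set X) \ (V : Set X) := fun x hx =>
      h₂ (Scheme.IdealSheafData.support_antitone le_sup_right hx)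
    refine Groth.Agent.AdmBlowUp.disjoint_closures p q (𝓘₁ ⊔ 𝓘₂) 𝓘₁ f.ker hq.1 le_sup_left ?_
      (fun s hs => h₁ hs) (fun s hs hs' => (hsup hs').2 hs.1) ?_ ?_ hz2 hz1
    · rw [Scheme.IdealSheafData.comap_sup]
      refine sup_le le_sup_left (hincl.trans (sup_le_sup_right (Scheme.IdealSheafData.comap_mono _ fun W => ?_) _))
      rw [Scheme.IdealSheafData.ideal_mul, Pi.mul_apply]
      exact Ideal.mul_le_right
    · rintro t ⟨y, rfl⟩
      refine f.range_subset_ker_support ⟨pullback.fst f (pullback.fst p q) y, ?_⟩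
      rw [← Scheme.Hom.comp_apply, pullback.condition, Scheme.Hom.comp_apply]
    · rintro t ⟨y, rfl⟩ hy
      refine Set.disjoint_left.mp h₁' ((hsup hy).1) (hY ⟨pullback.fst f (pullback.fst p q) y, ?_⟩)
      show p (f _) = p _
      congr 1
      rw [← Scheme.Hom.comp_apply, pullback.condition, Scheme.Hom.comp_apply]

end Groth.Agent.S17391
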