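import Groth.Statements.S17392
import Groth.Agent.AdmBlowUp.Extra
-- import your own Groth.Agent.* helpers here

set_option autoImplicit false
universe u
open BlowUp

namespace Groth.Agent.S17392

open AlgebraicGeometry CategoryTheory Limits in
/-- Let X₁ and X₂ be quasi-compact quasi-separated schemes, q : X₂ → X₁ a quasi-compact separated
morphism, V₁ ⊆ X₁ a quasi-compact open subscheme and U ⊆ q⁻¹(V₁) an open subscheme of X₂ on which q
restricts to an open immersion (so U is identified with an open of V₁). Let Z₁ ⊆ X₁ be a closed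
subset whose open complement is quasi-compact, put Y₁ = Z₁ ∩ V₁, and let Z₂ ⊆ X₂ be a closed subset
whose open complement is also quasi-compact, with q⁻¹(Y₁) ⊆ Z₂. Then there is a quasi-coherent ideal
E of finite type on X₁ with support contained in Z₁ ∖ V₁ (so that blowing up E is V₁-admissible)
such that, for every blowing up c : X₁' → X₁ of X₁ in E with base change q' : X₂' = X₂ ×_{X₁} X₁' →
X₁' and c₂ : X₂' → X₂, one has q'⁻¹(closure of c⁻¹(Y₁)) ∩ closure(c₂⁻¹(U)) ⊆ c₂⁻¹(Z₂) as subsets of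
X₂'. -/
theorem result
    {X₁ X₂ : Scheme.{u}} [CompactSpace X₁] [QuasiSeparatedSpace X₁] [CompactSpace X₂] [QuasiSeparatedSpace X₂]
    (q : X₂ ⟶ X₁) [QuasiCompact q] [IsSeparated q]
    (V₁ : X₁.Opens) (hV₁ : IsCompact (V₁ : Set X₁))
    (U : X₂.Opens) (hU : U ≤ q ⁻¹ᵁ V₁) [IsOpenImmersion (U.ι ≫ q)]
    (Z₁ : Set X₁) (hZ₁ : IsClosed Z₁) (hZ₁c : IsCompact Z₁ᶜ)
    (Z₂ : Set X₂) (hZ₂ : IsClosed Z₂) (hZ₂c : IsCompact Z₂ᶜ)
    (hYZ : (fun x => q x) ⁻¹' (Z₁ ∩ (V₁ : Set X₁)) ⊆ Z₂) :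
    ∃ 𝓔 : X₁.IdealSheafData, BlowUp.IsFiniteTypeIdeal 𝓔 ∧ (𝓔.support : Set X₁) ⊆ Z₁ \ (V₁ : Set X₁) ∧
      ∀ (X₁' : Scheme.{u}) (c : X₁' ⟶ X₁), BlowUp.IsBlowUp c 𝓔 →
        (fun z => (pullback.snd q c) z) ⁻¹' closure ((fun x => c x) ⁻¹' (Z₁ ∩ (V₁ : Set X₁))) ∩
            closure ((fun z => (pullback.fst q c) z) ⁻¹' (U : Set X₂)) ⊆
          (fun z => (pullback.fst q c) z) ⁻¹' Z₂ := by
    obtain ⟨I₁, hI₁, hs₁⟩ := Groth.Agent.AdmBlowUp.exists_ft_ideal ⟨Z₁ᶜ, hZ₁.isOpen_compl⟩ hZ₁c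
    have hs₁ : (I₁.support : Set X₁) = Z₁ := hs₁.trans (compl_compl Z₁)
    let W : X₂.Opens := ⟨Z₂ᶜ, hZ₂.isOpen_compl⟩
    have : QuasiCompact W.ι := Groth.Agent.AdmBlowUp.quasiCompact_ι W hZ₂c
    let p : (W : Scheme.{u}) ⟶ X₁ := W.ι ≫ q
    let T₀ : Set (W : Scheme.{u}) := W.ι ⁻¹' (U : Set X₂)
    let K := Scheme.IdealSheafData.vanishingIdeal (X := (W : Scheme.{u})) ⟨closure T₀, isClosed_closure⟩
    let E₀ := (I₁.comap p ⊔ K).map p
    let O : X₁.Opens := V₁ ⊔ ⟨Z₁ᶜ, hZ₁.isOpen_compl⟩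
    have hO : Disjoint (O : Set X₁) (E₀.support : Set X₁) := by
      refine Set.disjoint_right.mpr fun x hx hxO => ?_
      have hx' := hx
      rw [Scheme.IdealSheafData.support_map, TopologicalSpace.Closeds.coe_closure] at hx'
      obtain ⟨_, hyO, y, hy, rfl⟩ := mem_closure_iff.mp hx' (O : Set X₁) O.isOpen hxO
      have hy1 : p y ∈ Z₁ := by
        have := Scheme.IdealSheafData.support_antitone (le_sup_left (b := K)) hy
        rw [Scheme.IdealSheafData.support_comap] at this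
        exact hs₁.le this
      rcases hyO with hV | hZ
      · exact y.2 (hYZ (show q (W.ι y) ∈ Z₁ ∩ (V₁ : Set X₁) from ⟨hy1, hV⟩))
      · exact hZ hy1
    obtain ⟨I₂, hI₂, hle, hd⟩ := Groth.Agent.AdmBlowUp.exists_ft_le E₀ O (hV₁.union hZ₁c) hO
    have hsupp : ((I₁ ⊔ I₂).support : Set X₁) ⊆ Z₁ \ (V₁ : Set X₁) := fun x hx =>
      ⟨hs₁.le (Scheme.IdealSheafData.support_antitone le_sup_left hx),
        fun hV => Set.disjoint_left.mp hd (Or.inl hV) (Scheme.IdealSheafData.support_antitone le_sup_right hx)⟩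
    refine ⟨I₁ ⊔ I₂, fun V => ?_, hsupp, fun X₁' c hc z ⟨hz1, hz2⟩ => ?_⟩
    · rw [Scheme.IdealSheafData.ideal_sup, Pi.sup_apply]
      exact Submodule.FG.sup (hI₁ V) (hI₂ V)
    by_contra hz
    let m : pullback p c ⟶ pullback q c := pullback.map p c q c W.ι (𝟙 _) (𝟙 _) (Category.comp_id _) (by simp)
    have : IsOpenImmersion m := Groth.Agent.AdmBlowUp.isOpenImmersion_map q c W
    obtain ⟨z', rfl⟩ : z ∈ Set.range m := by
      refine (Groth.Agent.AdmBlowUp.range_map q c W).ge hz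
    have hsnd : ∀ w, pullback.snd q c (m w) = pullback.snd p c w := fun w => by
      rw [← Scheme.Hom.comp_apply, pullback.lift_snd, Category.comp_id]
    have hfst : ∀ w, pullback.fst q c (m w) = W.ι (pullback.fst p c w) := fun w => by
      rw [← Scheme.Hom.comp_apply, pullback.lift_fst, Scheme.Hom.comp_apply]
    have hT : z' ∈ closure (m ⁻¹' ((fun z => pullback.fst q c z) ⁻¹' (U : Set X₂))) := by
      rw [← m.isOpenEmbedding.isOpenMap.preimage_closure_eq_closure_preimage m.isOpenEmbedding.continuous]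
      exact hz2
    refine Groth.Agent.AdmBlowUp.disjoint_closures p c (I₁ ⊔ I₂) I₁ K hc.1 le_sup_left ?_
      (fun s hs => hs₁.ge hs.1) (fun s hs hs' => (hsupp hs').2 hs.2) (fun t ht => ?_) (fun t ht ht' => ?_)
      (S := (fun x => c x) ⁻¹' (Z₁ ∩ (V₁ : Set X₁))) (hsnd z' ▸ hz1) hT
    · rw [Scheme.IdealSheafData.comap_sup]
      exact sup_le le_sup_left ((Scheme.IdealSheafData.comap_mono _ hle).trans
        (Scheme.IdealSheafData.comap_map_le _ _))
    · rw [← SetLike.mem_coe, Scheme.IdealSheafData.coe_support_vanishingIdeal]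
      exact subset_closure (show W.ι (pullback.fst p c t) ∈ (U : Set X₂) from hfst t ▸ ht)
    · exact (hsupp ht').2 (hU (show W.ι (pullback.fst p c t) ∈ U from hfst t ▸ ht))

end Groth.Agent.S17392
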