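import Groth.Statements.S17409
import Mathlib
-- import your own Groth.Agent.* helpers here

set_option autoImplicit false
universe u
open Prym5

namespace Groth.Agent.S17409

/-- Over a perfect field K of characteristic different from 2 and 3, let G₂, G₃, G₄ be polynomials in
two variables x, y and consider G₂ z² + 2 G₃ z + G₄ as a polynomial in the three variables x, y, z.
If it lies in the square of the ideal (x, y, z) — the surface it defines has a double point at the
origin — then the discriminant G₃² − G₂ G₄ lies in the square of the ideal (x, y) of K[x, y], so the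
plane curve G₃² − G₂ G₄ = 0 is singular at the origin. (This is the affine-local form used in the
published proof: the surface is a quartic with a node at the centre of projection placed at infinity
on the z-axis, and the curve is the branch sextic of that projection.) -/
theorem result (K : Type u) [Field K] [PerfectField K]
    (h2 : (2 : K) ≠ 0) (h3 : (3 : K) ≠ 0) (G₂ G₃ G₄ : MvPolynomial (Fin 2) K)
    (h : MvPolynomial.rename (Fin.castSucc : Fin 2 → Fin 3) G₂ * MvPolynomial.X (2 : Fin 3) ^ 2
        + 2 * MvPolynomial.rename (Fin.castSucc : Fin 2 → Fin 3) G₃ * MvPolynomial.X (2 : Fin 3)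
        + MvPolynomial.rename (Fin.castSucc : Fin 2 → Fin 3) G₄
        ∈ (Ideal.span (Set.range (MvPolynomial.X : Fin 3 → MvPolynomial (Fin 3) K))) ^ 2) :
    G₃ ^ 2 - G₂ * G₄ ∈ (Ideal.span (Set.range (MvPolynomial.X : Fin 2 → MvPolynomial (Fin 2) K))) ^ 2 := by
  classical
  let m := Ideal.span (Set.range (MvPolynomial.X : Fin 2 → MvPolynomial (Fin 2) K))
  have hG₄ : G₄ ∈ m ^ 2 := by
    let φ : MvPolynomial (Fin 3) K →ₐ[K] MvPolynomial (Fin 2) K := MvPolynomial.aeval ![MvPolynomial.X 0, MvPolynomial.X 1, 0]
    have hcast : ∀ G : MvPolynomial (Fin 2) K, φ (MvPolynomial.rename (Fin.castSucc : Fin 2 → Fin 3) G) = G := fun G => by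
      have he : φ.comp (MvPolynomial.rename (Fin.castSucc : Fin 2 → Fin 3)) = AlgHom.id K _ :=
        MvPolynomial.algHom_ext fun i => by fin_cases i <;> simp [φ]
      exact congr($he G)
    have hle : (Ideal.span (Set.range (MvPolynomial.X : Fin 3 → MvPolynomial (Fin 3) K))).map φ.toRingHom ≤ m := by
      rw [Ideal.map_span, Ideal.span_le]
      rintro _ ⟨_, ⟨i, rfl⟩, rfl⟩
      fin_cases i
      · exact Ideal.subset_span ⟨0, by simp [φ]⟩
      · exact Ideal.subset_span ⟨1, by simp [φ]⟩
      · simp [φ]
    have h' := Ideal.mem_map_of_mem φ.toRingHom h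
    rw [Ideal.map_pow] at h'
    have h'' := Ideal.pow_right_mono hle 2 h'
    have he : φ (MvPolynomial.rename (Fin.castSucc : Fin 2 → Fin 3) G₂ * MvPolynomial.X (2 : Fin 3) ^ 2
        + 2 * MvPolynomial.rename (Fin.castSucc : Fin 2 → Fin 3) G₃ * MvPolynomial.X (2 : Fin 3)
        + MvPolynomial.rename (Fin.castSucc : Fin 2 → Fin 3) G₄) = G₄ := by
      rw [map_add, map_add, map_mul, map_mul, map_pow, hcast G₄, show φ (MvPolynomial.X (2 : Fin 3)) = 0 by simp [φ]]
      ring
    rw [← he]
    exact h''
  have hG₃ : G₃ ∈ m := by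
    let ψ : MvPolynomial (Fin 3) K →ₐ[K] Polynomial K := MvPolynomial.aeval ![0, 0, Polynomial.X]
    have hcast : ∀ G : MvPolynomial (Fin 2) K,
        ψ (MvPolynomial.rename (Fin.castSucc : Fin 2 → Fin 3) G) = Polynomial.C (MvPolynomial.constantCoeff G) := fun G => by
      have he : ψ.comp (MvPolynomial.rename (Fin.castSucc : Fin 2 → Fin 3)) =
          (Polynomial.CAlgHom).comp (MvPolynomial.aeval (fun _ => (0 : K))) :=
        MvPolynomial.algHom_ext fun i => by fin_cases i <;> simp [ψ]
      refine congr($he G).trans ?_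
      simp [MvPolynomial.constantCoeff_eq]
    have hle : (Ideal.span (Set.range (MvPolynomial.X : Fin 3 → MvPolynomial (Fin 3) K))).map ψ.toRingHom ≤
        Ideal.span {Polynomial.X} := by
      rw [Ideal.map_span, Ideal.span_le]
      rintro _ ⟨_, ⟨i, rfl⟩, rfl⟩
      fin_cases i
      · simp [ψ]
      · simp [ψ]
      · exact Ideal.subset_span (by simp [ψ])
    have h' := Ideal.mem_map_of_mem ψ.toRingHom h
    rw [Ideal.map_pow] at h'
    have h'' := Ideal.pow_right_mono hle 2 h'
    rw [Ideal.span_singleton_pow, Ideal.mem_span_singleton, Polynomial.X_pow_dvd_iff] at h''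
    have h1 := h'' 1 (by norm_num)
    simp only [AlgHom.toRingHom_eq_coe, RingHom.coe_coe, map_add, map_mul, map_pow, map_ofNat, hcast,
      show ψ (MvPolynomial.X (2 : Fin 3)) = Polynomial.X by simp [ψ]] at h1
    simp [Polynomial.coeff_X_pow, Polynomial.coeff_C, h2] at h1
    show G₃ ∈ Ideal.span (Set.range MvPolynomial.X)
    rw [← Set.image_univ, MvPolynomial.mem_ideal_span_X_image]
    intro d hd
    by_contra hcon
    push Not at hcon
    have hd0 : d = 0 := Finsupp.ext fun i => hcon i (Set.mem_univ i)
    rw [MvPolynomial.mem_support_iff, hd0] at hd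
    exact hd (by simpa [MvPolynomial.constantCoeff_eq] using h1)
  refine sub_mem ?_ (Ideal.mul_mem_left _ _ hG₄)
  exact Ideal.pow_mem_pow hG₃ 2

end Groth.Agent.S17409
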