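import Groth.Statements.S17410
import Mathlib
-- import your own Groth.Agent.* helpers here

set_option autoImplicit false
universe u
open Prym5

namespace Groth.Agent.S17410

open TensorProduct Polynomial in
theorem rank_part (R K : Type u) [CommRing R] [Field K] [Algebra R K] (h : R[X])
    (hmap : (h.map (algebraMap R K)).natDegree = 2) :
    Module.finrank K (K ⊗[R] AdjoinRoot h) = 2 := by
  set g := h.map (algebraMap R K) with hg
  let F : K ⊗[R] AdjoinRoot h →ₐ[K] AdjoinRoot g :=
    Algebra.TensorProduct.lift (Algebra.ofId K (AdjoinRoot g))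
      (AdjoinRoot.liftAlgHom h (Algebra.ofId R (AdjoinRoot g)) (AdjoinRoot.root g) (by
        have := AdjoinRoot.eval₂_root g
        rw [hg, Polynomial.eval₂_map] at this
        exact this))
      (fun _ _ => Commute.all _ _)
  let G : AdjoinRoot g →ₐ[K] K ⊗[R] AdjoinRoot h :=
    AdjoinRoot.liftAlgHom g (Algebra.ofId K _) (1 ⊗ₜ AdjoinRoot.root h) (by
      rw [hg, Polynomial.eval₂_map]
      have h1 : aeval (AdjoinRoot.root h) h = 0 := (AdjoinRoot.aeval_eq h).trans AdjoinRoot.mk_self
      have h2 := congrArg (Algebra.TensorProduct.includeRight : AdjoinRoot h →ₐ[R] K ⊗[R] AdjoinRoot h) h1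
      rw [map_zero, ← aeval_algHom_apply] at h2
      exact h2)
  have hFr : F (1 ⊗ₜ AdjoinRoot.root h) = AdjoinRoot.root g := by
    simp only [F, Algebra.TensorProduct.lift_tmul, map_one, one_mul]
    erw [AdjoinRoot.coe_liftAlgHom, AdjoinRoot.lift_root]
  have hGr : G (AdjoinRoot.root g) = 1 ⊗ₜ AdjoinRoot.root h := by
    show AdjoinRoot.liftAlgHom g _ _ _ (AdjoinRoot.root g) = _
    erw [AdjoinRoot.coe_liftAlgHom, AdjoinRoot.lift_root]
  let e : K ⊗[R] AdjoinRoot h ≃ₐ[K] AdjoinRoot g := AlgEquiv.ofAlgHom F G
    (AdjoinRoot.algHom_ext (by simp [hFr, hGr]))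
    (Algebra.TensorProduct.ext (Algebra.ext_id_iff.mpr trivial) (AdjoinRoot.algHom_ext (by simp [hFr, hGr])))
  have hg0 : g ≠ 0 := fun h0 => by rw [h0, Polynomial.natDegree_zero] at hmap; omega
  rw [e.toLinearEquiv.finrank_eq, (AdjoinRoot.powerBasis hg0).finrank, AdjoinRoot.powerBasis_dim, hmap]

open Polynomial in
theorem integral_part (R : Type u) [CommRing R] [IsDomain R] (h : R[X]) (S : Submonoid R) :
    Algebra.IsIntegral (Localization S) (Localization (Algebra.algebraMapSubmonoid (AdjoinRoot h) S))
      ↔ IsUnit (algebraMap R (Localization S) h.leadingCoeff) := by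
  set T := Localization S
  set U := Localization (Algebra.algebraMapSubmonoid (AdjoinRoot h) S)
  haveI : IsScalarTower R T U := isScalarTower_localizationAlgebra S (AdjoinRoot h)
  set z : U := algebraMap (AdjoinRoot h) U (AdjoinRoot.root h) with hz
  have hzero : aeval z h = 0 := by
    rw [hz, aeval_algebraMap_apply, AdjoinRoot.aeval_eq, AdjoinRoot.mk_self, map_zero]
  constructor
  · intro hint
    rcases subsingleton_or_nontrivial T with hT | hT
    · exact isUnit_of_subsingleton _
    have hinj : Function.Injective (algebraMap R T) := by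
      refine IsLocalization.injective T (M := S) (fun s hs => mem_nonZeroDivisors_of_ne_zero fun h0 => ?_)
      exact not_isUnit_zero (M₀ := T) (by simpa [h0] using IsLocalization.map_units T ⟨s, hs⟩)
    obtain ⟨P, hP, hPz⟩ := hint.isIntegral z
    obtain ⟨b, hb⟩ := IsLocalization.integerNormalization_map_to_map S P
    set Q := IsLocalization.integerNormalization S P with hQ
    have hQz : aeval z Q = 0 := by
      rw [← aeval_map_algebraMap T, hb]
      rw [Algebra.smul_def, map_mul, show aeval z P = 0 from hPz, mul_zero]
    rw [hz, aeval_algebraMap_apply, AdjoinRoot.aeval_eq,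
      IsLocalization.map_eq_zero_iff (Algebra.algebraMapSubmonoid (AdjoinRoot h) S)] at hQz
    obtain ⟨⟨_, s, hs, rfl⟩, hsQ⟩ := hQz
    have hdvd : h ∣ C s * Q := by
      rw [← AdjoinRoot.mk_eq_zero, map_mul, AdjoinRoot.mk_C]
      exact hsQ
    obtain ⟨G, hG⟩ := hdvd
    have hlc : algebraMap R T Q.leadingCoeff = algebraMap R T (b : R) := by
      rw [← leadingCoeff_map_of_injective hinj, hb, Algebra.smul_def,
        IsScalarTower.algebraMap_apply R T T[X], Polynomial.algebraMap_eq, leadingCoeff_mul, leadingCoeff_C,
        hP.leadingCoeff, mul_one]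
    have h1 := congrArg (fun q => algebraMap R T q.leadingCoeff) hG
    simp only [leadingCoeff_mul, leadingCoeff_C, map_mul, hlc] at h1
    exact isUnit_of_mul_isUnit_left (h1 ▸ (IsLocalization.map_units T ⟨s, hs⟩).mul (IsLocalization.map_units T b))
  · intro hu
    have hzi : IsIntegral T z := by
      refine ⟨C (↑hu.unit⁻¹ : T) * h.map (algebraMap R T), ?_, ?_⟩
      · have hl : (h.map (algebraMap R T)).leadingCoeff = algebraMap R T h.leadingCoeff := by
          cases subsingleton_or_nontrivial T with
          | inl ht => exact Subsingleton.elim _ _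
          | inr ht => exact leadingCoeff_map_of_leadingCoeff_ne_zero _ hu.ne_zero
        refine monic_C_mul_of_mul_leadingCoeff_eq_one ?_
        rw [hl]
        exact hu.val_inv_mul
      · rw [← aeval_def, map_mul, aeval_map_algebraMap, hzero, mul_zero]
    refine ⟨fun u => ?_⟩
    obtain ⟨a, ⟨_, s, hs, rfl⟩, rfl⟩ := IsLocalization.exists_mk'_eq (Algebra.algebraMapSubmonoid (AdjoinRoot h) S) u
    obtain ⟨q, rfl⟩ := AdjoinRoot.mk_surjective a
    have h2 : IsIntegral T (algebraMap (AdjoinRoot h) U (AdjoinRoot.mk h q)) := by
      rw [← AdjoinRoot.aeval_eq, ← aeval_algebraMap_apply, ← hz, ← aeval_map_algebraMap T]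
      have h3 : Algebra.adjoin T {z} ≤ integralClosure T U :=
        Algebra.adjoin_le (Set.singleton_subset_iff.mpr hzi)
      exact h3 (aeval_mem_adjoin_singleton T z)
    have hs' : algebraMap (AdjoinRoot h) U (algebraMap R (AdjoinRoot h) s) =
        algebraMap T U (algebraMap R T s) := by
      rw [← IsScalarTower.algebraMap_apply, ← IsScalarTower.algebraMap_apply]
    obtain ⟨v, hv⟩ := IsLocalization.map_units T ⟨s, hs⟩
    have h4 : IsLocalization.mk' U (AdjoinRoot.mk h q)
        (⟨algebraMap R (AdjoinRoot h) s, ⟨s, hs, rfl⟩⟩ : Algebra.algebraMapSubmonoid (AdjoinRoot h) S) =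
        algebraMap T U (↑v⁻¹ : T) * algebraMap (AdjoinRoot h) U (AdjoinRoot.mk h q) := by
      rw [IsLocalization.mk'_eq_iff_eq_mul]
      simp only [hs']
      rw [mul_right_comm, ← map_mul, show algebraMap R T s = (v : T) from hv.symm, Units.inv_mul, map_one, one_mul]
    exact h4 ▸ isIntegral_algebraMap.mul h2

/-- Over a perfect field K of characteristic different from 2 and 3, let h be an irreducible polynomial
of degree 2 in the variable z with coefficients in K[x, y] and A = K[x, y][z]/(h). For every
multiplicative subset S of K[x, y], the localisation S⁻¹A is integral over S⁻¹K[x, y] if and only if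
the leading coefficient of h is invertible in S⁻¹K[x, y]; and K(x, y) ⊗ A is a K(x, y)-vector space
of dimension 2. (Geometrically: for a quartic surface with an ordinary double point, written u₂ x₃²
+ 2 u₃ x₃ + u₄ = 0 with the node at (0:0:0:1), the projection from the node restricted to a standard
affine chart of the plane is given by such an algebra A with leading coefficient the dehomogenised
u₂, so the projection is finite of degree two exactly over the locus u₂ ≠ 0. Stated for any
irreducible h of degree 2, which is all the argument uses.) -/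
theorem result (K : Type u) [Field K]
    [PerfectField K] (h2 : (2 : K) ≠ 0) (h3 : (3 : K) ≠ 0)
    (h : Polynomial (MvPolynomial (Fin 2) K)) (hirr : Irreducible h) (hdeg : h.natDegree = 2)
    (S : Submonoid (MvPolynomial (Fin 2) K)) :
    (Algebra.IsIntegral (Localization S) (Localization (Algebra.algebraMapSubmonoid (AdjoinRoot h) S))
        ↔ IsUnit (algebraMap (MvPolynomial (Fin 2) K) (Localization S) h.leadingCoeff))
      ∧ Module.finrank (FractionRing (MvPolynomial (Fin 2) K))
          (TensorProduct (MvPolynomial (Fin 2) K) (FractionRing (MvPolynomial (Fin 2) K)) (AdjoinRoot h)) = 2 := by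
  refine ⟨integral_part _ h S, rank_part _ _ h ?_⟩
  rw [Polynomial.natDegree_map_eq_of_injective (IsFractionRing.injective _ _), hdeg]

end Groth.Agent.S17410
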