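import Groth.Statements.S17414
import Mathlib
-- import your own Groth.Agent.* helpers here

set_option autoImplicit false
universe u
open Prym5

namespace Groth.Agent.S17414

open MvPolynomial

variable {σ : Type*} {R : Type*} [CommRing R]

/-- The linear coefficient at the variable `i`. -/
noncomputable def lin (i : σ) (p : MvPolynomial σ R) : R := p.coeff (Finsupp.single i 1)

lemma lin_add (i : σ) (p q : MvPolynomial σ R) : lin i (p + q) = lin i p + lin i q :=
  coeff_add _ _ _

lemma lin_sub (i : σ) (p q : MvPolynomial σ R) : lin i (p - q) = lin i p - lin i q :=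
  coeff_sub σ _ _ _

lemma lin_mul (i : σ) (p q : MvPolynomial σ R) :
    lin i (p * q) = constantCoeff p * lin i q + lin i p * constantCoeff q := by
  classical
  rw [lin, coeff_mul, Finsupp.antidiagonal_single, Finset.sum_map,
    show Finset.HasAntidiagonal.antidiagonal 1 = ({(0, 1), (1, 0)} : Finset (ℕ × ℕ)) from rfl,
    Finset.sum_insert (by simp), Finset.sum_singleton]
  simp [lin, constantCoeff_eq]

lemma mem_m_iff (p : MvPolynomial σ R) :
    p ∈ Ideal.span (Set.range (X : σ → MvPolynomial σ R)) ↔ constantCoeff p = 0 := by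
  have h := mem_pow_idealOfVars_iff' 1 p
  rw [pow_one] at h
  rw [show Ideal.span (Set.range (X : σ → MvPolynomial σ R)) = idealOfVars σ R from rfl, h,
    constantCoeff_eq]
  refine ⟨fun H => H 0 (by simp), fun H x hx => ?_⟩
  rw [Nat.lt_one_iff, Finsupp.degree_eq_zero_iff] at hx
  rw [hx]; exact H

lemma mem_m2_iff (p : MvPolynomial σ R) :
    p ∈ Ideal.span (Set.range (X : σ → MvPolynomial σ R)) ^ 2 ↔
      constantCoeff p = 0 ∧ ∀ i, lin i p = 0 := by
  rw [show Ideal.span (Set.range (X : σ → MvPolynomial σ R)) = idealOfVars σ R from rfl,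
    mem_pow_idealOfVars_iff', constantCoeff_eq]
  refine ⟨fun H => ⟨H 0 (by simp), fun i => H _ (by simp)⟩, fun H x hx => ?_⟩
  rcases Nat.le_one_iff_eq_zero_or_eq_one.mp (Nat.lt_succ_iff.mp hx) with h | h
  · rw [Finsupp.degree_eq_zero_iff] at h
    rw [h]; exact H.1
  · have hx1 : x ∈ {d : σ →₀ ℕ | d.degree = 1} := h
    rw [← Finsupp.range_single_one] at hx1
    obtain ⟨i, rfl⟩ := hx1
    exact H.2 i


/-- Over a perfect field K of characteristic different from 2 and 3, let G₂, G₃, G₄ be polynomials in x,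
y, let h = G₂ z² + 2 G₃ z + G₄ in K[x, y, z] and D = G₃² − G₂ G₄ in K[x, y]. Suppose h ∈ (x, y, z) —
the origin Q lies on the surface h = 0 — and D ∈ (x, y) — the image of Q under (x, y, z) ↦ (x, y)
lies on the discriminant curve D = 0. Then D ∈ (x, y)², i.e. the image point is singular on the
discriminant curve, if and only if either h ∈ (x, y, z)², i.e. Q is a singular point of the surface,
or G₂, G₃, G₄ ∈ (x, y), i.e. Q lies on all three cones G₂ = G₃ = G₄ = 0. (Affine-local form, in a
chart where the node projected from sits at infinity on the z-axis and Q at the origin, of the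
published claim: for a point Q ≠ P of the nodal quartic whose projection lies on the branch sextic,
the projection is singular on the sextic exactly when Q is singular on the quartic or lies on the
cones u₂ = u₃ = u₄ = 0.) -/
theorem result (K : Type u) [Field K] [PerfectField K]
    (h2 : (2 : K) ≠ 0) (h3 : (3 : K) ≠ 0) (G₂ G₃ G₄ : MvPolynomial (Fin 2) K)
    (hQ : MvPolynomial.rename (Fin.castSucc : Fin 2 → Fin 3) G₂ * MvPolynomial.X (2 : Fin 3) ^ 2
        + 2 * MvPolynomial.rename (Fin.castSucc : Fin 2 → Fin 3) G₃ * MvPolynomial.X (2 : Fin 3)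
        + MvPolynomial.rename (Fin.castSucc : Fin 2 → Fin 3) G₄
        ∈ Ideal.span (Set.range (MvPolynomial.X : Fin 3 → MvPolynomial (Fin 3) K)))
    (hD : G₃ ^ 2 - G₂ * G₄ ∈ Ideal.span (Set.range (MvPolynomial.X : Fin 2 → MvPolynomial (Fin 2) K))) :
    G₃ ^ 2 - G₂ * G₄ ∈ (Ideal.span (Set.range (MvPolynomial.X : Fin 2 → MvPolynomial (Fin 2) K))) ^ 2 ↔
      (MvPolynomial.rename (Fin.castSucc : Fin 2 → Fin 3) G₂ * MvPolynomial.X (2 : Fin 3) ^ 2
          + 2 * MvPolynomial.rename (Fin.castSucc : Fin 2 → Fin 3) G₃ * MvPolynomial.X (2 : Fin 3)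
          + MvPolynomial.rename (Fin.castSucc : Fin 2 → Fin 3) G₄
          ∈ (Ideal.span (Set.range (MvPolynomial.X : Fin 3 → MvPolynomial (Fin 3) K))) ^ 2 ∨
        (G₂ ∈ Ideal.span (Set.range (MvPolynomial.X : Fin 2 → MvPolynomial (Fin 2) K)) ∧
          G₃ ∈ Ideal.span (Set.range (MvPolynomial.X : Fin 2 → MvPolynomial (Fin 2) K)) ∧
          G₄ ∈ Ideal.span (Set.range (MvPolynomial.X : Fin 2 → MvPolynomial (Fin 2) K)))) := by
  classical
  have hinj : Function.Injective (Fin.castSucc : Fin 2 → Fin 3) := Fin.castSucc_injective _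
  have hl : ∀ (G : MvPolynomial (Fin 2) K) (i : Fin 2),
      lin (Fin.castSucc i) (rename (Fin.castSucc : Fin 2 → Fin 3) G) = lin i G := fun G i => by
    rw [lin, lin, ← Finsupp.mapDomain_single (f := (Fin.castSucc : Fin 2 → Fin 3)),
      coeff_rename_mapDomain _ hinj]
  have hl2 : ∀ G : MvPolynomial (Fin 2) K,
      lin (2 : Fin 3) (rename (Fin.castSucc : Fin 2 → Fin 3) G) = 0 := fun G => by
    rw [lin]
    refine coeff_rename_eq_zero _ _ _ fun u hu => absurd hu fun hu => ?_
    have h2 := DFunLike.congr_fun hu (2 : Fin 3)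
    rw [Finsupp.mapDomain_of_notMem_range _ _ (by simp)] at h2
    simp at h2
  have hXc : ∀ i : Fin 3, constantCoeff (X i : MvPolynomial (Fin 3) K) = 0 := fun i =>
    constantCoeff_X K i
  have hXl : ∀ i : Fin 2, lin (Fin.castSucc i) (X (2 : Fin 3) : MvPolynomial (Fin 3) K) = 0 := by
    intro i
    rw [lin, coeff_X, if_neg]
    intro h
    have := (Finsupp.single_left_injective one_ne_zero h)
    fin_cases i <;> simp_all
  rw [mem_m_iff] at hQ hD
  simp only [map_add, map_mul, map_pow, hXc, constantCoeff_rename, mul_zero, zero_pow two_ne_zero,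
    zero_add] at hQ
  simp only [map_sub, map_pow, map_mul, hQ, mul_zero, sub_zero, pow_eq_zero_iff two_ne_zero] at hD
  rw [mem_m2_iff, mem_m2_iff, mem_m_iff, mem_m_iff, mem_m_iff]
  simp only [map_sub, map_add, map_mul, map_pow, hXc, constantCoeff_rename, pow_two, two_mul,
    add_mul, lin_add, lin_sub, lin_mul, hQ, hD, mul_zero, zero_mul, add_zero, zero_add, sub_zero,
    true_and, and_true]
  constructor
  · intro h
    by_cases hc : constantCoeff G₂ = 0
    · exact Or.inr hc
    refine Or.inl fun k => ?_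
    refine Fin.lastCases ?_ (fun i => ?_) k
    · simp only [show Fin.last 2 = (2 : Fin 3) from rfl, hl2]
    · rw [hl]
      simpa [hc] using h i
  · rintro (h | h) i
    · have := h (Fin.castSucc i)
      rw [hl] at this
      simp [this]
    · simp [h]

end Groth.Agent.S17414
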