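import Groth.Statements.S1742
import Groth.Agent.DepthLib.LocalSequence
-- import your own Groth.Agent.* helpers here

set_option autoImplicit false
universe u
open LocCoh

namespace Groth.Agent.S1742

open LocCoh RingTheory.Sequence Groth.Agent.DepthLib in
theorem exists_regOn_ideal {A : Type u} [CommRing A] [IsNoetherianRing A] (I : Ideal A) (r : ℕ) :
    ∀ {M : Type u} [AddCommGroup M] [Module A M] [Module.Finite A M] (p : Ideal A) [p.IsPrime],
    (r : ℕ∞) ≤ idealDepth (I.map (algebraMap A (Localization.AtPrime p))) (LocalizedModule p.primeCompl M) →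
    ∃ g ∉ p, ∃ rs : List A, rs.length = r ∧ (∀ a ∈ rs, a ∈ I) ∧
      ∀ T : Submonoid A, (∃ t, t * g ∈ T) → RegOn T M rs := by
  induction r with
  | zero =>
    intro M _ _ _ p hp _
    exact ⟨1, fun h => hp.ne_top ((Ideal.eq_top_iff_one _).mpr h), [], rfl, by simp, fun T _ => regOn_nil T M⟩
  | succ r ih =>
    intro M _ _ _ p _ hdep
    obtain ⟨y, hy, hyreg⟩ := one_le_idealDepth_iff.mp
      ((show (1 : ℕ∞) ≤ ((r + 1 : ℕ) : ℕ∞) by exact_mod_cast Nat.succ_pos r).trans hdep)
    obtain ⟨⟨⟨a, haI⟩, s⟩, hys⟩ := (IsLocalization.mem_map_algebraMap_iff p.primeCompl _).mp hy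
    have hareg : IsSMulRegular (LocalizedModule p.primeCompl M) (algebraMap A (Localization.AtPrime p) a) := by
      rw [← hys]
      exact hyreg.mul ((IsLocalization.map_units _ s).isSMulRegular _)
    have hker := (isSMulRegular_localizedModule_iff p.primeCompl a).mp hareg
    obtain ⟨g₁, hg₁, hg₁p⟩ : ∃ g₁, g₁ ∈ Module.annihilator A (LinearMap.ker (LinearMap.lsmul A M a)) ∧ g₁ ∉ p := by
      rw [← SetLike.not_le_iff_exists]
      intro hle
      have hsupp : (⟨p, inferInstance⟩ : PrimeSpectrum A) ∈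
          Module.support A (LinearMap.ker (LinearMap.lsmul A M a)) := by
        rw [Module.support_eq_zeroLocus]; exact hle
      rw [Module.mem_support_iff'] at hsupp
      obtain ⟨⟨m, hm⟩, hm'⟩ := hsupp
      obtain ⟨t, ht, htm⟩ := hker m (LinearMap.mem_ker.mp hm)
      exact hm' t ht (Subtype.ext htm)
    have hdrop := idealDepth_quotSMulTop_add_one (Ideal.mem_map_of_mem (algebraMap A (Localization.AtPrime p)) haI) hareg
    rw [idealDepth_congr (localizedQuotSMulTopEquiv (M := M) p.primeCompl a)] at hdrop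
    rw [← hdrop, Nat.cast_succ, ENat.add_le_add_iff_right ENat.one_ne_top] at hdep
    obtain ⟨g₂, hg₂p, rs, hlen, hrsp, hrs⟩ := ih (M := QuotSMulTop a M) p hdep
    refine ⟨g₁ * g₂, fun h => ((‹p.IsPrime›).mem_or_mem h).elim hg₁p hg₂p, a :: rs, by simp [hlen],
      by simpa using ⟨haI, hrsp⟩, fun T ⟨t, ht⟩ => (regOn_cons_iff T a rs).mpr
        ⟨fun m hm => ⟨_, ht, ?_⟩, hrs T ⟨t * g₁, by rwa [mul_assoc]⟩⟩⟩
    have h0 := congrArg Subtype.val (Module.mem_annihilator.mp hg₁ ⟨m, LinearMap.mem_ker.mpr hm⟩)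
    simp only [SetLike.val_smul, ZeroMemClass.coe_zero] at h0
    rw [mul_comm g₁ g₂, ← mul_assoc, mul_smul, h0, smul_zero]

/-- Let A be a Noetherian ring, I an ideal, M a finite A-module and p a prime containing I such that the
IA_p-depth of M_p is a finite number e. Then there is an open subset U of Spec A meeting V(p) such
that the IA_q-depth of M_q is at least e for every q in U ∩ V(p). -/
theorem result (A : Type u) [CommRing A] [IsNoetherianRing A] (I : Ideal A) (M : Type u) [AddCommGroup M] [Module A M] [Module.Finite A M] (p : PrimeSpectrum A) (hp : I ≤ p.asIdeal) (e : ℕ) (he : LocCoh.idealDepth (I.map (algebraMap A (Localization.AtPrime p.asIdeal))) (LocalizedModule p.asIdeal.primeCompl M) = e) : ∃ U : Set (PrimeSpectrum A), IsOpen U ∧ (U ∩ PrimeSpectrum.zeroLocus (p.asIdeal : Set A)).Nonempty ∧ ∀ q : PrimeSpectrum A, q ∈ U → p ≤ q → (e : ℕ∞) ≤ LocCoh.idealDepth (I.map (algebraMap A (Localization.AtPrime q.asIdeal))) (LocalizedModule q.asIdeal.primeCompl M) :=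 by
  obtain ⟨g, hg, rs, hlen, hrsI, hrs⟩ := exists_regOn_ideal I e p.asIdeal he.ge
  refine ⟨PrimeSpectrum.basicOpen g, (PrimeSpectrum.basicOpen g).isOpen, ⟨p, hg, fun a ha => ha⟩, fun q hq _ => ?_⟩
  refine Groth.Agent.DepthLib.natCast_le_idealDepth_iff.mpr
    ⟨rs.map (algebraMap A (Localization.AtPrime q.asIdeal)), by rw [List.length_map, hlen],
      hrs q.asIdeal.primeCompl ⟨1, by rw [one_mul]; exact hq⟩, fun r hr => ?_⟩
  obtain ⟨a, ha, rfl⟩ := List.mem_map.mp hr
  exact Ideal.mem_map_of_mem _ (hrsI a ha)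

end Groth.Agent.S1742
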