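import Groth.Statements.S17428
import Groth.Agent.KunzRegular.Main
import Groth.Agent.FormalFibre.Completion
-- import your own Groth.Agent.* helpers here

set_option autoImplicit false
universe u
open FrobAlg

namespace Groth.Agent.S17428

theorem smul_top_iff (p : ℕ) [Fact p.Prime] {A : Type u} [CommRing A] [CharP A p] (I : Ideal A) (t : A) :
    FrobAlg.toTwist p A t ∈ (I • ⊤ : Submodule A (FrobAlg.Twist p A)) ↔ t ∈ I.map (frobenius A p) := by
  rw [Ideal.smul_top_eq_map, Submodule.restrictScalars_mem]
  have e : I.map (algebraMap A (FrobAlg.Twist p A)) =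
      (I.map (frobenius A p)).map (FrobAlg.toTwist p A : A →+* FrobAlg.Twist p A) := by
    rw [Ideal.map_map]; rfl
  rw [e]
  exact ⟨fun h => by
    obtain ⟨x, hx, hxe⟩ := (Ideal.mem_map_iff_of_surjective
      (FrobAlg.toTwist p A : A →+* FrobAlg.Twist p A) (FrobAlg.toTwist p A).surjective).1 h
    exact (FrobAlg.toTwist p A).injective hxe ▸ hx, fun h => Ideal.mem_map_of_mem _ h⟩

theorem map_frobenius_le (p : ℕ) [Fact p.Prime] {A : Type u} [CommRing A] [CharP A p] (J : Ideal A) :
    J.map (frobenius A p) ≤ J :=
  Ideal.map_le_iff_le_comap.2 fun x hx => by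
    rw [Ideal.mem_comap, frobenius_def]
    exact Ideal.pow_mem_of_mem _ hx _ (Fact.out : p.Prime).pos

/-- The value of the relative Frobenius at each level. -/
theorem evalₐ_relFrob (p : ℕ) [Fact p.Prime] {A : Type u} [CommRing A] [CharP A p] (I : Ideal A)
    [CharP (AdicCompletion I A) p] (n : ℕ)
    (x : FrobAlg.BaseChange p A (AdicCompletion I A)) (t : A)
    (h : (AdicCompletion.ofTensorProduct I (FrobAlg.Twist p A) x).val n =
      Submodule.Quotient.mk (FrobAlg.toTwist p A t)) :
    AdicCompletion.evalₐ I n (FrobAlg.relFrob p A (AdicCompletion I A) x) = Ideal.Quotient.mk _ t := by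
  induction x using TensorProduct.induction_on generalizing t with
  | zero =>
    rw [map_zero, AdicCompletion.val_zero_apply, eq_comm, Submodule.Quotient.mk_eq_zero, smul_top_iff] at h
    rw [map_zero, map_zero, eq_comm, Ideal.Quotient.eq_zero_iff_mem]
    exact map_frobenius_le p _ h
  | tmul b a =>
    obtain ⟨a, rfl⟩ := (FrobAlg.toTwist p A).surjective a
    obtain ⟨c, hc⟩ := Ideal.Quotient.mk_surjective (AdicCompletion.evalₐ I n b)
    have h1 : FrobAlg.relFrob p A (AdicCompletion I A) (b ⊗ₜ[A] FrobAlg.toTwist p A a) =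
        b ^ p * algebraMap A (AdicCompletion I A) a := by
      simp [FrobAlg.relFrob, FrobAlg.frobHom, FrobAlg.inclHom, frobenius_def]
    rw [h1, map_mul, map_pow, AlgHom.commutes, ← hc, Ideal.Quotient.algebraMap_eq, ← map_pow, ← map_mul]
    obtain ⟨b', hb'⟩ := Submodule.Quotient.mk_surjective _ (b.val n)
    have hb : AdicCompletion.evalₐ I n b = Ideal.Quotient.mk _ b' := by
      induction b using AdicCompletion.induction_on with
      | h s =>
        rw [show (AdicCompletion.mk I A) s = AdicCompletion.mkₐ I s from rfl, AdicCompletion.evalₐ_mkₐ]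
        have hs : s.1 n - b' ∈ (I ^ n • ⊤ : Submodule A A) := (Submodule.Quotient.eq _).1 hb'.symm
        rw [smul_eq_mul, Ideal.mul_top] at hs
        exact Ideal.Quotient.eq.2 hs
    have h2 : (AdicCompletion.ofTensorProduct I (FrobAlg.Twist p A) (b ⊗ₜ[A] FrobAlg.toTwist p A a)).val n =
        Submodule.Quotient.mk (FrobAlg.toTwist p A (b' ^ p * a)) := by
      rw [AdicCompletion.ofTensorProduct_tmul, AdicCompletion.smul_eval, ← hb']
      change Submodule.Quotient.mk (b' • FrobAlg.toTwist p A a) = _
      rw [Algebra.smul_def, FrobAlg.algebraMap_twist, ← map_mul]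
    rw [h2] at h
    have h3 := map_frobenius_le p (I ^ n) ((smul_top_iff p (I ^ n) _).1 (by
      rw [map_sub]; exact (Submodule.Quotient.eq _).1 h))
    rw [hb] at hc
    rw [Ideal.Quotient.eq] at hc ⊢
    have h4 : c ^ p - b' ^ p ∈ I ^ n := by
      rw [← sub_pow_char (p := p)]
      exact Ideal.pow_mem_of_mem _ hc _ (Fact.out : p.Prime).pos
    have := add_mem (Ideal.mul_mem_right a _ h4) h3
    convert this using 1
    ring
  | add x y hx hy =>
    obtain ⟨tx, htx⟩ := Submodule.Quotient.mk_surjective _
      ((AdicCompletion.ofTensorProduct I (FrobAlg.Twist p A) x).val n)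
    obtain ⟨tx, rfl⟩ := (FrobAlg.toTwist p A).surjective tx
    rw [map_add, AdicCompletion.val_add_apply, ← htx] at h
    have hy' : (AdicCompletion.ofTensorProduct I (FrobAlg.Twist p A) y).val n =
        Submodule.Quotient.mk (FrobAlg.toTwist p A (t - tx)) := by
      rw [map_sub, Submodule.Quotient.mk_sub, eq_sub_iff_add_eq, add_comm]
      exact h
    rw [map_add, map_add, hx tx htx.symm, hy (t - tx) hy', ← map_add, add_sub_cancel]

theorem bijective_relFrob (p : ℕ) [Fact p.Prime] {A : Type u} [CommRing A] [IsNoetherianRing A] [CharP A p]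
    (hF : (frobenius A p).Finite) (I : Ideal A) [CharP (AdicCompletion I A) p] :
    Function.Bijective (FrobAlg.relFrob p A (AdicCompletion I A)) := by
  classical
  let ρ := FrobAlg.relFrob p A (AdicCompletion I A)
  haveI : Module.Finite A (FrobAlg.Twist p A) := hF
  let E := (AdicCompletion.ofTensorProductEquivOfFiniteNoetherian I (FrobAlg.Twist p A)).toEquiv
  have hE : ∀ x, E x = AdicCompletion.ofTensorProduct I (FrobAlg.Twist p A) x := fun x => rfl
  obtain ⟨S, hS⟩ := IsNoetherian.noetherian I
  let e := S.card * p + 1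
  have he : 1 ≤ e := Nat.le_add_left 1 _
  have hle : ∀ n, I ^ (e * n) ≤ (I ^ n).map (frobenius A p) := fun n => by
    rw [pow_mul, Ideal.map_pow]
    refine Ideal.pow_right_mono ?_ n
    have h := KunzRegular.span_pow_le (id : A → A) p S
    rw [Set.image_id, show Ideal.span (S : Set A) = I from hS] at h
    refine h.trans ?_
    rw [Ideal.span_le]
    rintro _ ⟨z, hz, rfl⟩
    exact Ideal.mem_map_of_mem (frobenius A p) (hS.le (Submodule.subset_span hz))
  have hn : ∀ n, n ≤ e * n := fun n => Nat.le_mul_of_pos_left n he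
  constructor
  · rw [injective_iff_map_eq_zero]
    intro x hx
    have h0 : E x = 0 := by
      refine AdicCompletion.ext fun n => ?_
      obtain ⟨t, ht⟩ := Submodule.Quotient.mk_surjective _ ((E x).val (e * n))
      obtain ⟨t, rfl⟩ := (FrobAlg.toTwist p A).surjective t
      have h1 := evalₐ_relFrob p I (e * n) x t ((hE x) ▸ ht.symm)
      rw [hx, map_zero, eq_comm, Ideal.Quotient.eq_zero_iff_mem] at h1
      rw [← AdicCompletion.transitionMap_comp_eval_apply I _ (hn n) (E x), ← ht,
        AdicCompletion.val_zero_apply]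
      change Submodule.Quotient.mk (FrobAlg.toTwist p A t) = 0
      rw [Submodule.Quotient.mk_eq_zero, smul_top_iff]
      exact hle n h1
    exact E.injective (h0.trans (by rw [hE]; simp))
  · intro y
    choose c hc using fun n => Ideal.Quotient.mk_surjective (AdicCompletion.evalₐ I n y)
    have hcc : ∀ {k n : ℕ}, k ≤ n → c n - c k ∈ I ^ k := fun {k n} hkn => by
      have h1 := FormalFibre.factor_evalₐ I hkn y
      rw [← hc n, ← hc k, Ideal.Quotient.factor_mk] at h1
      exact Ideal.Quotient.eq.mp h1
    let w : AdicCompletion I (FrobAlg.Twist p A) :=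
      AdicCompletion.mk I _ ⟨fun n => FrobAlg.toTwist p A (c (e * n)), fun {k n} hkn => by
        rw [SModEq.sub_mem, ← map_sub, smul_top_iff]
        refine hle k ?_
        rw [← neg_sub]
        exact neg_mem (hcc (Nat.mul_le_mul_left e hkn))⟩
    refine ⟨E.symm w, AdicCompletion.ext_evalₐ fun n => ?_⟩
    rw [evalₐ_relFrob p I n (E.symm w) (c (e * n)) (by rw [← hE, E.apply_symm_apply]; rfl), ← hc n,
      Ideal.Quotient.eq]
    exact hcc (hn n)


/-- Let p be a prime, A a regular local ring of characteristic p whose absolute Frobenius a ↦ a^p is a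
finite ring homomorphism, I an ideal of A and Â the I-adic completion of A. Then Spec Â → Spec A is
relatively perfect: the relative Frobenius Â ⊗_{A,Frob} A → Â, b ⊗ a ↦ b^p a, is bijective. (Â is
also flat over A since A is Noetherian, so the morphism is flat and relatively perfect. The instance
hypothesis that Â has characteristic p holds as soon as I ≠ A.) -/
theorem result (p : ℕ) [Fact p.Prime]
    (A : Type u) [CommRing A] [IsRegularLocalRing A] [CharP A p] (hF : (frobenius A p).Finite)
    (I : Ideal A) [CharP (AdicCompletion I A) p] :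
    Function.Bijective (FrobAlg.relFrob p A (AdicCompletion I A)) := by
  exact bijective_relFrob p hF I

end Groth.Agent.S17428
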