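import Groth.Statements.S1743
import Groth.Agent.FiniteH1.LocFree
-- import your own Groth.Agent.* helpers here

set_option autoImplicit false
universe u
open LocCoh

namespace Groth.Agent.S1743

/-- Let A be a Noetherian ring, J ⊆ I ideals and i ≥ 0. If H^i_I(A) is annihilated by J^n for some n,
then for every finite A-module M such that M_f is a projective A_f-module for every f in I, the
module H^i_I(M) is annihilated by J^m for some m. (The source allows any ring with finitely
generated ideals and finitely presented M.) -/
theorem result (A : Type u) [CommRing A] [IsNoetherianRing A] (J I : Ideal A) (hJI : J ≤ I) (i n : ℕ) (hA : ∀ a ∈ J ^ n, ∀ x : LocCoh.H I i A, a • x = 0) (M : Type u) [AddCommGroup M] [Module A M] [Module.Finite A M] (hM : ∀ f ∈ I, Module.Projective (Localization.Away f) (LocalizedModule (Submonoid.powers f) M)) : ∃ m : ℕ, ∀ a ∈ J ^ m, ∀ x : LocCoh.H I i M, a • x = 0 := by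
  let T : Ideal A :=
    { carrier := {a | ∀ x : LocCoh.H I i M, a • x = 0}
      zero_mem' := fun x => zero_smul A x
      add_mem' := fun {a b} ha hb x => by rw [add_smul, ha, hb, add_zero]
      smul_mem' := fun c a ha x => by rw [smul_eq_mul, mul_smul, ha, smul_zero] }
  have hT : J ≤ T.radical := fun a ha => by
    haveI := hM a (hJI ha)
    obtain ⟨k, hk⟩ := Groth.Agent.FiniteH1.exists_pow_mul_killed I i M a (a ^ n) (hA _ (Ideal.pow_mem_pow ha n))
    exact ⟨k + n, fun x => by rw [pow_add]; exact hk x⟩
  obtain ⟨m, hm⟩ := Ideal.exists_pow_le_of_le_radical_of_fg hT (IsNoetherian.noetherian J)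
  exact ⟨m, fun a ha x => hm ha x⟩

end Groth.Agent.S1743
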