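import Groth.Statements.S17432
import Groth.Agent.LieTop.Basic

set_option autoImplicit false
universe u v w
open LieAlgebra LieModule
open AdjVar

namespace Groth.Agent.S17432

/-- Let L be a finite-dimensional simple Lie algebra over an algebraically closed field K of
characteristic zero, H a Cartan subalgebra and b a basis of (L, H) in Mathlib's sense (Chevalley
generators h_i, e_i, f_i indexed by a finite type, with simple roots α_i = b.baseSupp i and upper
Borel subalgebra 𝔟 = H + the Lie subalgebra generated by the e_i). Let ρ be the highest root: a root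
of H on L whose root space is nonzero and such that no ρ + α_i is a root (the root space of ρ + α_i
is zero for every i). Assume that exactly one simple root α_j is not orthogonal to ρ (ρ(h_i) ≠ 0 if
and only if i = j) and that ρ(h_j) = 1; for simple L these two conditions say precisely that L is
not of type A_r or C_r (r ≥ 1), the case excluded in the source. Let W be a three-dimensional linear
subspace of L stable under 𝔟 and q a quadratic form on W which is semi-invariant under 𝔟: for every
x in 𝔟 there is a scalar c with polar_q([x, w], w) = c q(w) for all w in W (this is the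
infinitesimal condition for the line spanned by q, equivalently the conic q = 0 of the plane P(W),
to be stable under the Borel subgroup). Then q is a scalar multiple of the square of a linear form
on W. In the source's words: P(L) contains no Borel-stable conic which is smooth or reducible (a
pair of distinct lines); only double lines occur. (Over the complex numbers a conic of rank at least
two is Borel-stable exactly when its plane is 𝔟-stable and its equation is 𝔟-semi-invariant, which
is the form stated here.) -/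
theorem result {ι : Type u} {K : Type v} {L : Type w} [Fintype ι] [Field K] [CharZero K]
    [IsAlgClosed K] [LieRing L] [LieAlgebra K L] [FiniteDimensional K L] [LieAlgebra.IsSimple K L]
    (H : LieSubalgebra K L) [H.IsCartanSubalgebra] (b : LieAlgebra.Basis ι H)
    (ρ : Module.Dual K H) (hρ : rootSpace H ρ ≠ ⊥) (htop : ∀ i, rootSpace H (ρ + b.baseSupp i) = ⊥)
    (j : ι) (hN : ∀ i, ρ (b.h' i) ≠ 0 ↔ i = j) (hj : ρ (b.h' j) = 1)
    (W : Submodule K L) (hW : Module.finrank K W = 3)
    (hst : ∀ x ∈ H.toSubmodule ⊔ (b.borelUpper : Submodule K L), ∀ w ∈ W, ⁅x, w⁆ ∈ W)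
    (q : QuadraticForm K W)
    (hq : ∀ (x : L) (hx : x ∈ H.toSubmodule ⊔ (b.borelUpper : Submodule K L)), ∃ c : K, ∀ w : W,
      QuadraticMap.polar q ⟨⁅x, (w : L)⁆, hst x hx w w.property⟩ w = c * q w) :
    ∃ (ℓ : Module.Dual K W) (c : K), ∀ w : W, q w = c * ℓ w ^ 2 := by
  obtain ⟨x, hx⟩ := Groth.Agent.LieTop.exists_top b ρ hρ htop
  obtain ⟨i, hi, hz, hW'⟩ := Groth.Agent.LieTop.eq_span3 hx hN hj W hW hst
  have hli := Groth.Agent.LieTop.independent3 hx hN hj hi hz
  let B : Module.Basis (Fin 3) K W := (Module.Basis.span hli).map (LinearEquiv.ofEq _ _ hW'.symm)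
  have hB : ∀ k, ((B k : W) : L) = ![x, Groth.Agent.LieTop.mon b x [j], Groth.Agent.LieTop.mon b x [i, j]] k :=
    fun k => by simp [B, Module.Basis.span_apply]
  have hmem : ∀ a, b.e a ∈ H.toSubmodule ⊔ (b.borelUpper : Submodule K L) := fun a =>
    Submodule.mem_sup_right (LieSubalgebra.subset_lieSpan ⟨a, rfl⟩)
  have hejz : ⁅b.e j, Groth.Agent.LieTop.mon b x [i, j]⁆ = 0 := by
    show ⁅b.e j, ⁅b.f i, Groth.Agent.LieTop.mon b x [j]⁆⁆ = 0
    rw [leibniz_lie, b.lie_e_f_ne j i (Ne.symm hi), zero_lie, zero_add, Groth.Agent.LieTop.e_mon_one hx hj,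
      Groth.Agent.LieTop.f_top_zero hx hN hi]
  have hAne : -((b.A j i : ℤ) : K) ≠ 0 :=
    neg_ne_zero.mpr (Int.cast_ne_zero.mpr (Groth.Agent.LieTop.A_ne_zero hx hN hi hz).2)
  obtain ⟨c₁, h₁⟩ := hq (b.e j) (hmem j)
  obtain ⟨c₂, h₂⟩ := hq (b.e i) (hmem i)
  have s₁ : ∀ w v : W, ⁅b.e j, (w : L)⁆ = (v : L) → QuadraticMap.polar q v w = c₁ * q w := by
    intro w v e
    rw [← h₁ w]
    congr 1
    exact Subtype.ext e.symm
  have s₂ : ∀ w v : W, ⁅b.e i, (w : L)⁆ = (v : L) → QuadraticMap.polar q v w = c₂ * q w := by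
    intro w v e
    rw [← h₂ w]
    congr 1
    exact Subtype.ext e.symm
  have hself : ∀ w : W, QuadraticMap.polar q w w = 2 * q w := fun w => by
    rw [QuadraticMap.polar_self, two_nsmul, two_mul]
  have hadd : ∀ u v : W, q (u + v) = q u + q v + QuadraticMap.polar q u v := fun u v =>
    QuadraticMap.map_add q u v
  have a1 := s₁ (B 0) 0 (by simp [hB, hx.lie_e])
  have a2 := s₁ (B 1) (B 0) (by simp [hB, Groth.Agent.LieTop.e_mon_one hx hj])
  have a3 := s₁ (B 2) 0 (by simp [hB, hejz])
  have a4 := s₁ (B 0 + B 1) (B 0) (by simp [hB, hx.lie_e, Groth.Agent.LieTop.e_mon_one hx hj])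
  have a5 := s₁ (B 1 + B 2) (B 0) (by simp [hB, hejz, Groth.Agent.LieTop.e_mon_one hx hj])
  have a6 := s₁ (B 0 + B 2) 0 (by simp [hB, hx.lie_e, hejz])
  have b2 := s₂ (B 1) 0 (by simp [hB, Groth.Agent.LieTop.e_mon_one_ne hx hi])
  have b3 := s₂ (B 2) ((-(b.A j i : K)) • B 1) (by simp [hB, Groth.Agent.LieTop.e_mon_two' hx hN hi])
  have b5 := s₂ (B 1 + B 2) ((-(b.A j i : K)) • B 1)
    (by simp [hB, Groth.Agent.LieTop.e_mon_one_ne hx hi, Groth.Agent.LieTop.e_mon_two' hx hN hi])
  simp only [QuadraticMap.polar_smul_left, QuadraticMap.polar_add_right, QuadraticMap.polar_zero_left,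
    hadd, hself, smul_eq_mul, mul_add] at a1 a2 a3 a4 a5 a6 b2 b3 b5
  have p₁ : q (B 0) = 0 ∧ QuadraticMap.polar q (B 0) (B 1) = 0 ∧ QuadraticMap.polar q (B 0) (B 2) = 0 := by
    rcases eq_or_ne c₁ 0 with h | h
    · subst h
      simp only [zero_mul] at a2 a4 a5
      refine ⟨by linear_combination a4 / 2 - a2 / 2, a2, by linear_combination a5 - a2⟩
    · have e0 : q (B 0) = 0 := (mul_eq_zero.mp a1.symm).resolve_left h
      have e2 : q (B 2) = 0 := (mul_eq_zero.mp a3.symm).resolve_left h
      have e01 : QuadraticMap.polar q (B 0) (B 1) = 0 := by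
        have : c₁ * QuadraticMap.polar q (B 0) (B 1) = 0 := by
          linear_combination -a4 + a2 - (c₁ - 2) * e0
        exact (mul_eq_zero.mp this).resolve_left h
      have e02 : QuadraticMap.polar q (B 0) (B 2) = 0 := by
        have : c₁ * QuadraticMap.polar q (B 0) (B 2) = 0 := by
          linear_combination -a6 - c₁ * e0 - c₁ * e2
        exact (mul_eq_zero.mp this).resolve_left h
      exact ⟨e0, e01, e02⟩
  have p₂ : q (B 1) = 0 ∧ QuadraticMap.polar q (B 1) (B 2) = 0 := by
    rcases eq_or_ne c₂ 0 with h | h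
    · subst h
      simp only [zero_mul] at b3 b5
      have e12 := (mul_eq_zero.mp b3).resolve_left hAne
      refine ⟨?_, e12⟩
      have e11 : (-(b.A j i : K)) * q (B 1) = 0 := by linear_combination b5 / 2 - b3 / 2
      exact (mul_eq_zero.mp e11).resolve_left hAne
    · have e1 : q (B 1) = 0 := (mul_eq_zero.mp b2.symm).resolve_left h
      have : c₂ * QuadraticMap.polar q (B 1) (B 2) = 0 := by
        linear_combination -b5 + b3 - (c₂ + 2 * (b.A j i : K)) * e1
      exact ⟨e1, (mul_eq_zero.mp this).resolve_left h⟩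
  refine ⟨B.coord 2, q (B 2), fun w => ?_⟩
  conv_lhs => rw [← B.sum_repr w, Fin.sum_univ_three]
  simp only [hadd, QuadraticMap.map_smul, QuadraticMap.polar_add_left,
    QuadraticMap.polar_smul_left, QuadraticMap.polar_smul_right, smul_eq_mul, p₁.1, p₁.2.1, p₁.2.2,
    p₂.1, p₂.2, Module.Basis.coord_apply]
  ring

end Groth.Agent.S17432
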