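import Groth.Statements.S17433
import Groth.Agent.LieTop.Basic
import Mathlib

set_option autoImplicit false
universe u v w
open LieAlgebra LieModule
open AdjVar

namespace Groth.Agent.S17433

section
open Groth.Agent.LieTop
variable {K : Type v} {A : Type w} [Field K] [CharZero K] [LieRing A] [LieAlgebra K A] [FiniteDimensional K A]

/-- Radical of a Lie algebra spanned by an sl2 triple and two elements spanning an abelian ideal. -/
lemma radical_eq_of_sl2_plus {X X' T : A} (R0 : LieIdeal K A) [IsLieAbelian R0]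
    (hne : X ≠ 0) (hTX : ⁅T, X⁆ = (2 : K) • X) (hTX' : ⁅T, X'⁆ = -((2 : K) • X')) (hXX' : ⁅X, X'⁆ = T)
    (hspan : ∀ u : A, ∃ a b c : K, ∃ r ∈ R0, u = a • X + b • X' + c • T + r) :
    LieAlgebra.radical K A = R0 := by
  have hle : R0 ≤ LieAlgebra.radical K A := (LieIdeal.solvable_iff_le_radical K A R0).mp inferInstance
  refine le_antisymm (fun u hu => ?_) hle
  set S := LieAlgebra.radical K A with hS
  have hX : X ∉ S := by
    intro hX
    have hT : T ∈ S := hXX' ▸ lie_mem_left K A S X X' hX
    have hX' : X' ∈ S := by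
      have := S.smul_mem (-(2 : K)⁻¹) (lie_mem_left K A S T X' hT)
      rwa [hTX', smul_neg, neg_smul, neg_neg, inv_smul_smul₀ (two_ne_zero)] at this
    have hD : ∀ n, X ∈ derivedSeriesOfIdeal K A n S ∧ X' ∈ derivedSeriesOfIdeal K A n S ∧
        T ∈ derivedSeriesOfIdeal K A n S := by
      intro n
      induction n with
      | zero => exact ⟨hX, hX', hT⟩
      | succ n ih =>
        simp only [derivedSeriesOfIdeal_succ]
        refine ⟨?_, ?_, hXX' ▸ LieSubmodule.lie_mem_lie ih.1 ih.2.1⟩
        · have := SMulMemClass.smul_mem ((2 : K)⁻¹) (LieSubmodule.lie_mem_lie (I := derivedSeriesOfIdeal K A n S)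
            (N := derivedSeriesOfIdeal K A n S) ih.2.2 ih.1)
          rwa [hTX, inv_smul_smul₀ (two_ne_zero)] at this
        · have := SMulMemClass.smul_mem ((-(2 : K)⁻¹)) (LieSubmodule.lie_mem_lie (I := derivedSeriesOfIdeal K A n S)
            (N := derivedSeriesOfIdeal K A n S) ih.2.2 ih.2.1)
          rwa [hTX', smul_neg, neg_smul, neg_neg, inv_smul_smul₀ (two_ne_zero)] at this
    obtain ⟨k, hk⟩ := LieAlgebra.IsSolvable.solvable K S
    rw [LieIdeal.derivedSeries_eq_bot_iff] at hk
    have := (hD k).1
    rw [hk, LieSubmodule.mem_bot] at this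
    exact hne this
  obtain ⟨a, b, c, r, hr, rfl⟩ := hspan u
  have hs : a • X + b • X' + c • T ∈ S := by simpa using sub_mem hu (hle hr)
  have e1 : ⁅X, a • X + b • X' + c • T⁆ = b • T - (c * 2) • X := by
    rw [lie_add, lie_add, lie_smul, lie_smul, lie_smul, lie_self, hXX', ← lie_skew X T, hTX]
    module
  have h1 : b • T - (c * 2) • X ∈ S := e1 ▸ S.lie_mem hs
  have hb : b = 0 := by
    by_contra hb
    have e2 : ⁅X, b • T - (c * 2) • X⁆ = (-(b * 2)) • X := by
      rw [lie_sub, lie_smul, lie_smul, lie_self, ← lie_skew X T, hTX]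
      module
    have h2 : (-(b * 2)) • X ∈ S := e2 ▸ S.lie_mem h1
    exact hX ((Submodule.smul_mem_iff S.toSubmodule (by simpa using hb)).mp h2)
  subst hb
  have hc : c = 0 := by
    by_contra hc
    have h2 : (-(c * 2)) • X ∈ S := by simpa [neg_smul] using h1
    exact hX ((Submodule.smul_mem_iff S.toSubmodule (by simpa using hc)).mp h2)
  subst hc
  have ha : a = 0 := by
    by_contra ha
    exact hX ((Submodule.smul_mem_iff S.toSubmodule ha).mp (by simpa using hs))
  subst ha
  simpa using hr

end

/-- Let L be a finite-dimensional simple Lie algebra over an algebraically closed field K of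
characteristic zero, H a Cartan subalgebra and b a basis of (L, H) in Mathlib's sense (Chevalley
generators h_i, e_i, f_i indexed by a finite type, with simple roots α_i = b.baseSupp i and upper
Borel subalgebra 𝔟 = H + the Lie subalgebra generated by the e_i). Let ρ be the highest root: a root
of H on L whose root space is nonzero and such that no ρ + α_i is a root (the root space of ρ + α_i
is zero for every i). Assume that exactly one simple root α_j is not orthogonal to ρ (ρ(h_i) ≠ 0 if
and only if i = j) and that ρ(h_j) = 1; for simple L these two conditions say precisely that L is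
not of type A_r or C_r (r ≥ 1), the case excluded in the source. Let A be the Lie subalgebra of L
generated by the root spaces of ρ, of −ρ and of ρ − α_j; this is the smallest Lie subalgebra whose
projectivisation contains both the standard twistor conic (which spans the plane on E_ρ, H_ρ,
E_{−ρ}) and the Borel-stable line (through E_ρ and E_{ρ−α_j}). Then A has dimension 5, its solvable
radical has dimension 2, and the image of that radical in L is the sum of the root spaces of ρ − α_j
and of −α_j (the two-dimensional ideal which the source's proof displays as the unipotent radical of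
A; the solvable radical and the unipotent radical agree here because the quotient of A by this ideal
is sl_2). The published statement also says that the sl_2-subalgebra spanned by the root spaces of ρ
and −ρ is a maximal reductive subalgebra of A; that clause is not stated here. The source states
this for an arbitrary point x of the adjoint variety, a twistor conic C and a line through x, and
reduces to the present configuration by homogeneity; only this base configuration, which its proof
computes, is stated here. -/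
theorem result {ι : Type u} {K : Type v} {L : Type w} [Fintype ι] [Field K] [CharZero K]
    [IsAlgClosed K] [LieRing L] [LieAlgebra K L] [FiniteDimensional K L] [LieAlgebra.IsSimple K L]
    (H : LieSubalgebra K L) [H.IsCartanSubalgebra] (b : LieAlgebra.Basis ι H)
    (ρ : Module.Dual K H) (hρ : rootSpace H ρ ≠ ⊥) (htop : ∀ i, rootSpace H (ρ + b.baseSupp i) = ⊥)
    (j : ι) (hN : ∀ i, ρ (b.h' i) ≠ 0 ↔ i = j) (hj : ρ (b.h' j) = 1)
    (A : LieSubalgebra K L)
    (hA : A = LieSubalgebra.lieSpan K L
      ((rootSpace H ρ : Set L) ∪ (rootSpace H (-ρ) : Set L) ∪ (rootSpace H (ρ - b.baseSupp j) : Set L))) :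
    Module.finrank K A = 5 ∧ Module.finrank K (LieAlgebra.radical K A) = 2 ∧
      (LieAlgebra.radical K A).toSubmodule.map (A.incl : A →ₗ⁅K⁆ L).toLinearMap =
        (rootSpace H (ρ - b.baseSupp j) : Submodule K L) ⊔ (rootSpace H (-b.baseSupp j) : Submodule K L) := by
  classical
  have : HasTrivialRadical K L := inferInstance
  have : LieAlgebra.IsKilling K L := inferInstance
  obtain ⟨x₀, hx₀⟩ := Groth.Agent.LieTop.exists_top b ρ hρ htop
  let χ : LieModule.Weight K H L := ⟨ρ, hρ⟩
  have hρj : ρ ≠ 0 := fun h => by simp [h] at hj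
  have hχ : χ.IsNonZero := fun h => hρj (DFunLike.coe_injective h)
  obtain ⟨t, x, x', ht, hxm, hx'm⟩ := LieAlgebra.IsKilling.exists_isSl2Triple_of_weight_isNonZero hχ
  have hx : Groth.Agent.LieTop.Top b ρ x := by
    have h1 : x ∈ (rootSpace H ρ : Submodule K L) := hxm
    rw [Groth.Agent.LieTop.rootSpace_top hx₀, Submodule.mem_span_singleton] at h1
    obtain ⟨c, rfl⟩ := h1
    exact ⟨ht.e_ne_zero, fun h => by rw [lie_smul, hx₀.lie_h, smul_comm],
      fun i => by rw [lie_smul, hx₀.lie_e, smul_zero]⟩
  have hρ' : (rootSpace H (-ρ) : Submodule K L) = Submodule.span K {x'} := by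
    have h1 := LieAlgebra.IsKilling.finrank_rootSpace_eq_one (-χ) (fun h => hχ (by simpa using h.neg))
    refine (Submodule.eq_of_le_of_finrank_le ?_ ?_).symm
    · rw [Submodule.span_singleton_le_iff_mem]; exact hx'm
    · rw [finrank_span_singleton ht.f_ne_zero]; exact h1.le
  have hne' : ∀ {γ : Module.Dual K H} {v : L}, v ∈ rootSpace H γ → v ≠ 0 → rootSpace H γ ≠ ⊥ :=
    fun hv hv0 h => hv0 (by rw [h] at hv; simpa using hv)
  have he : b.e j ∈ rootSpace H (b.baseSupp j) :=
    Groth.Agent.LieTop.eigen_mem hx fun h => Groth.Agent.LieTop.lie_h_e' b h j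
  have hf : b.f j ∈ rootSpace H (-b.baseSupp j : Module.Dual K H) :=
    Groth.Agent.LieTop.eigen_mem hx fun h => by
      rw [Groth.Agent.LieTop.lie_h_f' b, LinearMap.neg_apply, neg_smul]
  let α : LieModule.Weight K H L := ⟨b.baseSupp j, hne' he (b.sl2 j).e_ne_zero⟩
  have hαj : b.baseSupp j (b.h' j) = 2 := by
    have h1 := (b.sl2 j).lie_h_e_smul K
    rw [show b.h j = ((b.h' j : H) : L) from rfl, Groth.Agent.LieTop.lie_h_e' b] at h1
    exact smul_left_injective K (b.sl2 j).e_ne_zero h1
  have hα : α.IsNonZero := fun h => by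
    have := congrFun h (b.h' j)
    rw [show α (b.h' j) = 2 from hαj] at this
    simp at this
  have hf' : (rootSpace H (-b.baseSupp j) : Submodule K L) = Submodule.span K {b.f j} := by
    have h1 := LieAlgebra.IsKilling.finrank_rootSpace_eq_one (-α) (fun h => hα (by simpa using h.neg))
    refine (Submodule.eq_of_le_of_finrank_le ?_ ?_).symm
    · rw [Submodule.span_singleton_le_iff_mem]; exact hf
    · rw [finrank_span_singleton (b.sl2 j).f_ne_zero]; exact h1.le
  set y := Groth.Agent.LieTop.mon b x [j] with hy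
  set z := b.f j with hz
  have hy0 : y ≠ 0 := fun h => hx.ne_zero (by
    rw [← Groth.Agent.LieTop.e_mon_one hx hj, ← hy, h, lie_zero])
  have eχ := LieAlgebra.IsKilling.lie_eq_killingForm_smul_of_mem_rootSpace_of_mem_rootSpace_neg
    (α := χ) hxm hx'm
  have eα := LieAlgebra.IsKilling.lie_eq_killingForm_smul_of_mem_rootSpace_of_mem_rootSpace_neg
    (α := α) (e := b.e j) (f := b.f j) he hf
  rw [ht.lie_e_f] at eχ
  rw [(b.sl2 j).lie_e_f] at eα
  obtain ⟨T, hT⟩ : ∃ T : H, (T : L) = t ∧ b.baseSupp j T ≠ 0 := by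
    refine ⟨killingForm K L x x' • (LieAlgebra.IsKilling.cartanEquivDual H).symm χ, eχ.symm, ?_⟩
    have hk1 : killingForm K L x x' ≠ 0 := fun h => ht.h_ne_zero (by rw [eχ, h, zero_smul])
    have hH : b.h' j = killingForm K L (b.e j) (b.f j) • (LieAlgebra.IsKilling.cartanEquivDual H).symm α :=
      Subtype.ext eα
    rw [map_smul, smul_eq_mul]
    refine mul_ne_zero hk1 ?_
    have hc : ∀ u w : Module.Dual K H, u ((LieAlgebra.IsKilling.cartanEquivDual H).symm w) =
        w ((LieAlgebra.IsKilling.cartanEquivDual H).symm u) := by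
      intro u w
      have e1 := LinearEquiv.apply_symm_apply (LieAlgebra.IsKilling.cartanEquivDual H) u
      have e2 := LinearEquiv.apply_symm_apply (LieAlgebra.IsKilling.cartanEquivDual H) w
      conv_lhs => rw [← e1]
      conv_rhs => rw [← e2]
      exact LieModule.traceForm_comm K H L _ _
    have h2 := congrArg ρ hH
    rw [hj, map_smul, smul_eq_mul, hc] at h2
    intro h0
    rw [show (α : Module.Dual K H) = b.baseSupp j from rfl,
      show ((b.baseSupp j) ((LieAlgebra.IsKilling.cartanEquivDual H).symm ρ)) = 0 from h0, mul_zero] at h2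
    exact one_ne_zero h2
  obtain ⟨hT, hαT⟩ := hT
  have hρT : ρ T = 2 := by
    have h1 := ht.lie_h_e_smul K
    rw [← hT, hx.lie_h] at h1
    exact smul_left_injective K hx.ne_zero h1
  have htH : ∀ {γ : Module.Dual K H} {v : L}, v ∈ rootSpace H γ → ⁅t, v⁆ = γ T • v :=
    fun hv => hT ▸ Groth.Agent.LieTop.eigen hx hv T
  have hym : y ∈ rootSpace H (ρ - b.baseSupp j : Module.Dual K H) := by
    have : y ∈ (rootSpace H (ρ - b.baseSupp j) : Submodule K L) := by
      rw [Groth.Agent.LieTop.rootSpace_one hx]; exact Submodule.mem_span_singleton_self _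
    exact this
  have bTX : ⁅t, x⁆ = (2 : K) • x := ht.lie_h_e_smul K
  have bTX' : ⁅t, x'⁆ = -((2 : K) • x') := ht.lie_lie_smul_f K
  have bXY : ⁅x, y⁆ = 0 := by
    by_contra h0
    have hw : ⁅x, y⁆ ∈ rootSpace H (ρ + (ρ - b.baseSupp j) : Module.Dual K H) :=
      Groth.Agent.LieTop.eigen_mem hx fun h => by
        rw [leibniz_lie, hx.lie_h, smul_lie, Groth.Agent.LieTop.eigen hx hym, lie_smul, LinearMap.add_apply, add_smul]
    have hk := Groth.Agent.LieTop.killed hx h0 hw fun i => by
      rw [leibniz_lie, hx.lie_e, zero_lie, zero_add]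
      rcases eq_or_ne i j with rfl | hi
      · rw [hy, Groth.Agent.LieTop.e_mon_one hx hj, lie_self]
      · rw [hy, Groth.Agent.LieTop.e_mon_one_ne hx hi, lie_zero]
    have hk' := congrArg (fun u : Module.Dual K H => u (b.h' j)) hk
    simp only [LinearMap.add_apply, LinearMap.sub_apply, hj, hαj] at hk'
    norm_num at hk'
  have bX'Z : ⁅x', z⁆ = 0 := by
    by_contra h0
    have hw : ⁅x', z⁆ ∈ rootSpace H (-(ρ + b.baseSupp j) : Module.Dual K H) :=
      Groth.Agent.LieTop.eigen_mem hx fun h => by
        rw [leibniz_lie, Groth.Agent.LieTop.eigen hx (χ := -ρ) hx'm, smul_lie,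
          Groth.Agent.LieTop.eigen hx hf, lie_smul, LinearMap.neg_apply, LinearMap.neg_apply,
          LinearMap.neg_apply, LinearMap.add_apply, neg_add, add_smul]
    let δ : LieModule.Weight K H L :=
      ⟨((-(ρ + b.baseSupp j) : Module.Dual K H) : H → K), hne' hw h0⟩
    have hδ := (-δ).genWeightSpace_ne_bot
    apply hδ
    have e : ((-δ : LieModule.Weight K H L) : H → K) = (⇑ρ + ⇑(b.baseSupp j)) := by
      funext h; simp [δ]
    rw [e]; exact htop j
  have bXZ : ⁅x, z⁆ = -y := by rw [← lie_skew]; rfl
  have bX'Y : ⁅x', y⁆ = -(b.baseSupp j T) • z := by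
    show ⁅x', ⁅z, x⁆⁆ = _
    rw [leibniz_lie, bX'Z, zero_lie, zero_add, ← lie_skew x' x, ht.lie_e_f, lie_neg, ← lie_skew z t, neg_neg, htH hf]
    simp
  have bYZ : ⁅y, z⁆ = 0 := by
    rw [← lie_skew, show ⁅z, y⁆ = Groth.Agent.LieTop.mon b x [j, j] from rfl,
      Groth.Agent.LieTop.mon_jj hx hj, neg_zero]
  have bTY : ⁅t, y⁆ = (ρ - b.baseSupp j) T • y := htH hym
  have bTZ : ⁅t, z⁆ = (-b.baseSupp j) T • z := htH hf
  let B : Fin 5 → L := ![x, x', t, y, z]
  let M : Submodule K L := Submodule.span K (Set.range B)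
  have hB : ∀ i, B i ∈ M := fun i => Submodule.subset_span ⟨i, rfl⟩
  have m0 : x ∈ M := hB 0
  have m1 : x' ∈ M := hB 1
  have m2 : t ∈ M := hB 2
  have m3 : y ∈ M := hB 3
  have m4 : z ∈ M := hB 4
  have hclosed : ∀ u ∈ M, ∀ w ∈ M, ⁅u, w⁆ ∈ M := by
    have hstab : M ≤ (Groth.Agent.LieTop.stab M).toSubmodule := by
      refine Submodule.span_le.mpr ?_
      rintro _ ⟨i, rfl⟩ w hw
      induction hw using Submodule.span_induction with
      | zero => rw [lie_zero]; exact zero_mem _
      | add p q _ _ hp hq => rw [lie_add]; exact add_mem hp hq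
      | smul c p _ hp => rw [lie_smul]; exact Submodule.smul_mem _ c hp
      | mem p hp =>
        obtain ⟨k, rfl⟩ := hp
        have s1 : ⁅x', x⁆ = -t := by rw [← lie_skew, ht.lie_e_f]
        have s2 : ⁅x, t⁆ = -((2 : K) • x) := by rw [← lie_skew, bTX]
        have s3 : ⁅x', t⁆ = (2 : K) • x' := by rw [← lie_skew, bTX', neg_neg]
        have s4 : ⁅y, x⁆ = 0 := by rw [← lie_skew, bXY, neg_zero]
        have s5 : ⁅z, x'⁆ = 0 := by rw [← lie_skew, bX'Z, neg_zero]
        have s6 : ⁅z, x⁆ = y := rfl
        have s7 : ⁅y, x'⁆ = b.baseSupp j T • z := by rw [← lie_skew, bX'Y, neg_smul, neg_neg]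
        have s8 : ⁅z, y⁆ = 0 := by rw [← lie_skew, bYZ, neg_zero]
        have s9 : ⁅y, t⁆ = -((ρ - b.baseSupp j) T • y) := by rw [← lie_skew, bTY]
        have s10 : ⁅z, t⁆ = -((-b.baseSupp j) T • z) := by rw [← lie_skew, bTZ]
        fin_cases i <;> fin_cases k <;>
          simp [B, ht.lie_e_f, bTX, bTX', bXY, bX'Z, bXZ, bX'Y, bYZ, bTY, bTZ, s1, s2, s3, s4, s5, s6, s7, s8,
            s9, s10, Submodule.smul_mem, Submodule.neg_mem, Submodule.sub_mem, m0, m1, m2, m3, m4]
    exact fun u hu w hw => hstab hu w hw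
  let AM : LieSubalgebra K L := { M with lie_mem' := fun {u w} hu hw => hclosed u hu w hw }
  have hxA : x ∈ A := hA ▸ LieSubalgebra.subset_lieSpan (Or.inl (Or.inl hxm))
  have hx'A : x' ∈ A := hA ▸ LieSubalgebra.subset_lieSpan (Or.inl (Or.inr hx'm))
  have hyA : y ∈ A := hA ▸ LieSubalgebra.subset_lieSpan (Or.inr hym)
  have htA : t ∈ A := ht.lie_e_f ▸ A.lie_mem hxA hx'A
  have hzA : z ∈ A := by
    have h1 := A.smul_mem (-(b.baseSupp j T))⁻¹ (A.lie_mem hx'A hyA)
    rwa [bX'Y, inv_smul_smul₀ (neg_ne_zero.mpr hαT)] at h1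
  have hAM : A.toSubmodule = M := by
    refine le_antisymm ?_ (Submodule.span_le.mpr ?_)
    · intro u hu
      have hle : A ≤ AM := by
        rw [hA, LieSubalgebra.lieSpan_le]
        rintro v ((hv | hv) | hv)
        · have hv' : v ∈ (rootSpace H ρ : Submodule K L) := hv
          rw [Groth.Agent.LieTop.rootSpace_top hx, Submodule.mem_span_singleton] at hv'
          obtain ⟨c, rfl⟩ := hv'
          exact Submodule.smul_mem M c m0
        · have hv' : v ∈ (rootSpace H (-ρ) : Submodule K L) := hv
          rw [hρ', Submodule.mem_span_singleton] at hv'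
          obtain ⟨c, rfl⟩ := hv'
          exact Submodule.smul_mem M c m1
        · have hv' : v ∈ (rootSpace H (ρ - b.baseSupp j) : Submodule K L) := hv
          rw [Groth.Agent.LieTop.rootSpace_one hx, Submodule.mem_span_singleton] at hv'
          obtain ⟨c, rfl⟩ := hv'
          exact Submodule.smul_mem M c m3
      exact hle hu
    · rintro _ ⟨i, rfl⟩
      fin_cases i <;> assumption
  let wts : Fin 5 → Module.Dual K H := ![ρ, -ρ, 0, ρ - b.baseSupp j, -b.baseSupp j]
  have hinj : Function.Injective fun i => (wts i : H → K) := by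
    have hsep : ρ - b.baseSupp j ≠ -ρ := by
      intro h
      have h2 : b.baseSupp j = ρ + ρ := by rw [← sub_sub_cancel ρ (b.baseSupp j), h, sub_neg_eq_add]
      obtain ⟨l, hl⟩ := Groth.Agent.LieTop.exists_list hx (b.sl2 j).e_ne_zero he
      obtain ⟨l', hl'⟩ := Groth.Agent.LieTop.exists_list hx ht.f_ne_zero (χ := -ρ) hx'm
      have h3 : Groth.Agent.LieTop.wt b ρ (l' ++ l ++ l) = Groth.Agent.LieTop.wt b ρ [] := by
        simp only [Groth.Agent.LieTop.wt, List.map_append, List.sum_append, List.map_nil, List.sum_nil] at hl hl' ⊢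
        have q1 : (l.map b.baseSupp).sum = ρ - b.baseSupp j := by
          rw [← sub_sub_cancel ρ (l.map b.baseSupp).sum, hl]
        have q2 : (l'.map b.baseSupp).sum = ρ + ρ := by
          rw [← sub_sub_cancel ρ (l'.map b.baseSupp).sum, hl', sub_neg_eq_add]
        rw [q1, q2, h2]; abel
      have h4 := (Groth.Agent.LieTop.wt_perm h3).eq_nil
      simp only [List.append_eq_nil_iff] at h4
      rw [h4.1.1] at hl'
      rw [Groth.Agent.LieTop.wt_nil] at hl'
      have := congrArg (fun u : Module.Dual K H => u (b.h' j)) hl'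
      simp only [LinearMap.neg_apply, hj] at this
      norm_num at this
    intro i k hik
    have hik' : wts i = wts k := DFunLike.coe_injective hik
    have hv := congrArg (fun u : Module.Dual K H => u (b.h' j)) hik'
    fin_cases i <;> fin_cases k <;>
      first
      | rfl
      | exact absurd hik' hsep
      | exact absurd hik'.symm hsep
      | (simp [wts, hj, hαj] at hv <;> norm_num at hv)
  have hli : LinearIndependent K B := by
    refine iSupIndep.linearIndependent
      (fun i => (LieModule.genWeightSpace L (wts i : H → K) : LieSubmodule K H L).toSubmodule) ?_ ?_ ?_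
    · exact ((LieSubmodule.iSupIndep_toSubmodule).mpr
        (LieModule.iSupIndep_genWeightSpace K H L)).comp hinj
    · intro i
      fin_cases i
      · exact hxm
      · exact hx'm
      · exact Groth.Agent.LieTop.eigen_mem (χ := 0) hx fun h => by
          show ⁅(h : L), t⁆ = (0 : Module.Dual K H) h • t
          rw [← ht.lie_e_f, leibniz_lie, hx.lie_h, smul_lie, Groth.Agent.LieTop.eigen hx (χ := -ρ) hx'm,
            lie_smul, LinearMap.neg_apply, neg_smul, add_neg_cancel, LinearMap.zero_apply, zero_smul]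
      · exact hym
      · exact hf
    · intro i
      fin_cases i
      exacts [hx.ne_zero, ht.f_ne_zero, ht.h_ne_zero, hy0, (b.sl2 j).f_ne_zero]
  have hdim : Module.finrank K A = 5 := by
    show Module.finrank K A.toSubmodule = 5
    rw [hAM, finrank_span_eq_card hli, Fintype.card_fin]
  let P : Submodule K L := Submodule.span K {y, z}
  let R0 : LieIdeal K A :=
    { P.comap A.toSubmodule.subtype with
      lie_mem := by
        intro u w hw
        have hu : (u : L) ∈ M := hAM ▸ u.2
        change ⁅(u : L), (w : L)⁆ ∈ P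
        obtain ⟨c, d, hcd⟩ := Submodule.mem_span_pair.mp (show (w : L) ∈ P from hw)
        rw [← hcd, lie_add, lie_smul, lie_smul]
        have my : y ∈ P := Submodule.subset_span (by simp)
        have mz : z ∈ P := Submodule.subset_span (by simp)
        have key : ∀ v, v ∈ M → ⁅v, y⁆ ∈ P ∧ ⁅v, z⁆ ∈ P := by
          intro v hv
          induction hv using Submodule.span_induction with
          | zero => simp
          | add p q _ _ hp hq => exact ⟨by rw [add_lie]; exact add_mem hp.1 hq.1, by rw [add_lie]; exact add_mem hp.2 hq.2⟩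
          | smul c p _ hp => exact ⟨by rw [smul_lie]; exact P.smul_mem c hp.1, by rw [smul_lie]; exact P.smul_mem c hp.2⟩
          | mem p hp =>
            obtain ⟨i, rfl⟩ := hp
            have s8 : ⁅z, y⁆ = 0 := by rw [← lie_skew, bYZ, neg_zero]
            fin_cases i <;>
              simp [B, bXY, bX'Z, bXZ, bX'Y, bYZ, bTY, bTZ, s8, Submodule.smul_mem, Submodule.neg_mem, my, mz]
        exact add_mem (P.smul_mem c (key _ hu).1) (P.smul_mem d (key _ hu).2) }
  have : IsLieAbelian R0 := ⟨fun u w => by
    apply Subtype.ext; apply Subtype.ext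
    change ⁅((u : A) : L), ((w : A) : L)⁆ = 0
    obtain ⟨c, d, hcd⟩ := Submodule.mem_span_pair.mp (show ((u : A) : L) ∈ P from u.2)
    obtain ⟨c', d', hcd'⟩ := Submodule.mem_span_pair.mp (show ((w : A) : L) ∈ P from w.2)
    rw [← hcd, ← hcd']
    have s8 : ⁅z, y⁆ = 0 := by rw [← lie_skew, bYZ, neg_zero]
    simp [bYZ, s8]⟩
  have hrad : LieAlgebra.radical K A = R0 := by
    refine radical_eq_of_sl2_plus (X := (⟨x, hxA⟩ : A)) (X' := ⟨x', hx'A⟩) (T := ⟨t, htA⟩) R0
      (fun h => hx.ne_zero (congrArg Subtype.val h)) (Subtype.ext bTX) (Subtype.ext bTX')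
      (Subtype.ext ht.lie_e_f) fun u => ?_
    obtain ⟨g, hg⟩ := (Submodule.mem_span_range_iff_exists_fun K).mp (show (u : L) ∈ M from hAM ▸ u.2)
    refine ⟨g 0, g 1, g 2, ⟨g 3 • y + g 4 • z, A.add_mem (A.smul_mem _ hyA) (A.smul_mem _ hzA)⟩,
      Submodule.mem_span_pair.mpr ⟨g 3, g 4, rfl⟩, ?_⟩
    apply Subtype.ext
    rw [← hg, Fin.sum_univ_five]
    simp [B]
    abel
  have hmap : (LieAlgebra.radical K A).toSubmodule.map (A.incl : A →ₗ⁅K⁆ L).toLinearMap = P := by
    rw [hrad]
    refine le_antisymm ?_ fun v hv => ?_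
    · rintro _ ⟨u, hu, rfl⟩; exact hu
    · obtain ⟨c, d, rfl⟩ := Submodule.mem_span_pair.mp hv
      exact ⟨⟨_, A.add_mem (A.smul_mem c hyA) (A.smul_mem d hzA)⟩, hv, rfl⟩
  refine ⟨hdim, ?_, ?_⟩
  · have h1 : Module.finrank K P = 2 := by
      have h2 : LinearIndependent K ![y, z] := by
        have := hli.comp ![3, 4] (by decide)
        convert this using 1
        funext i; fin_cases i <;> rfl
      have := finrank_span_eq_card h2
      rwa [Matrix.range_cons, Matrix.range_cons, Matrix.range_empty, Set.union_empty, Set.singleton_union,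
        Fintype.card_fin] at this
    rw [← h1, ← hmap]
    exact (Submodule.equivMapOfInjective _ Subtype.val_injective _).finrank_eq
  · rw [hmap, Groth.Agent.LieTop.rootSpace_one hx, hf', ← Submodule.span_union, Set.singleton_union]

end Groth.Agent.S17433
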