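import Groth.Statements.S17441
import Groth.Agent.FiniteInjDescent.Projective
import Groth.Agent.QCohLib.Basic
import Mathlib.LinearAlgebra.TensorProduct.Quotient
import Mathlib.RingTheory.Artinian.Ring
-- import your own Groth.Agent.* helpers here

set_option autoImplicit false
set_option linter.style.haveILetI false
universe u
open CategoryTheory AlgebraicGeometry
open DefoSh

namespace Groth.Agent.S17441

/-- Let k be a field, X a scheme over k, E an O_X-module and A a local Artinian k-algebra with residue
field k. If D and D′ are deformations of E over A (O_X-modules with an action of A, flat over A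
stalkwise, with reductions π, π′ to E whose stalkwise kernels are m_A times the stalk), then every
O_X-linear map φ : D.sheaf → D′.sheaf that commutes with the actions of A and satisfies φ ≫ π′ = π
is an isomorphism. The printed remark is the first-order case A = k[ε]; this row states it for every
local Artinian k-algebra A with residue field k. -/
theorem result (k : Type u) [Field k] (X : Scheme.{u})
    [X.Over (Spec (CommRingCat.of k))] (E : X.Modules) (A : ArtFun.Art k k)
    (D D' : DefoSh.Defo E A) (φ : D.sheaf ⟶ D'.sheaf)
    (hact : ∀ a : A, D.act a ≫ φ = φ ≫ D'.act a) (hπ : φ ≫ D'.π = D.π) :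
    IsIso φ := by
  rw [Groth.Agent.QCohLib.isIso_iff_stalk_bijective]
  intro p
  letI := D.stalkMod p
  letI := D'.stalkMod p
  haveI : Module.Flat A ↑(D'.sheaf.presheaf.stalk p) := D'.flat p
  let F : ↑(D.sheaf.presheaf.stalk p) →ₗ[A] ↑(D'.sheaf.presheaf.stalk p) :=
    { toFun := fun v => RefHull.stalkMapₗ φ p v
      map_add' := fun v w => map_add _ v w
      map_smul' := fun a v => by
        show RefHull.stalkMapₗ φ p (RefHull.stalkMapₗ (D.act a) p v) = RefHull.stalkMapₗ (D'.act a) p (RefHull.stalkMapₗ φ p v)
        rw [← DefoSh.stalkMapₗ_comp_apply, ← DefoSh.stalkMapₗ_comp_apply, hact a] }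
  have hcomp : ∀ v, RefHull.stalkMapₗ D'.π p (F v) = RefHull.stalkMapₗ D.π p v := fun v => by
    show RefHull.stalkMapₗ D'.π p (RefHull.stalkMapₗ φ p v) = _
    rw [← DefoSh.stalkMapₗ_comp_apply, hπ]
  obtain ⟨N, hN⟩ : IsNilpotent (IsLocalRing.maximalIdeal A) := by
    rw [← IsLocalRing.jacobson_eq_maximalIdeal (⊥ : Ideal A) bot_ne_top]
    exact IsArtinianRing.isNilpotent_jacobson_bot
  have hsurj : Function.Surjective F := by
    have h1 : ∀ n : ℕ, ∀ v, v ∈ LinearMap.range F ⊔ IsLocalRing.maximalIdeal A ^ n • (⊤ : Submodule A ↑(D'.sheaf.presheaf.stalk p)) := by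
      intro n
      induction n with
      | zero => intro v; rw [pow_zero, Ideal.one_eq_top, Submodule.top_smul]; exact Submodule.mem_sup_right trivial
      | succ n ih =>
        intro v
        obtain ⟨w, hw⟩ := D.surj p (RefHull.stalkMapₗ D'.π p v)
        have hv := D'.ker_le p (v - F w) (by rw [map_sub, hcomp, hw, sub_self])
        have hle : IsLocalRing.maximalIdeal A • (⊤ : Submodule A ↑(D'.sheaf.presheaf.stalk p)) ≤
            LinearMap.range F ⊔ IsLocalRing.maximalIdeal A ^ (n + 1) • ⊤ := by
          refine (Submodule.smul_mono le_rfl (fun x _ => ih x : ⊤ ≤ _)).trans ?_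
          rw [Submodule.smul_sup, ← Submodule.mul_smul, ← pow_succ']
          exact sup_le_sup Submodule.smul_le_right le_rfl
        have := Submodule.add_mem _ (Submodule.mem_sup_left (LinearMap.mem_range_self F w)) (hle hv)
        rwa [add_sub_cancel] at this
    intro v
    have := h1 N v
    rw [hN, Submodule.zero_eq_bot, Submodule.bot_smul, sup_bot_eq] at this
    exact this
  have hker : LinearMap.ker F ≤ IsLocalRing.maximalIdeal A • LinearMap.ker F := fun x hx => by
    have hx' : x ∈ IsLocalRing.maximalIdeal A • (⊤ : Submodule A ↑(D.sheaf.presheaf.stalk p)) :=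
      D.ker_le p x (by rw [← hcomp, LinearMap.mem_ker.1 hx, map_zero])
    have hinj := Groth.Agent.FiniteInjDescent.lTensor_injective_of_flat_quotient (LinearMap.ker F).injective_subtype
      (LinearMap.exact_subtype_ker_map F) hsurj (A ⧸ IsLocalRing.maximalIdeal A)
    have h0 : (Ideal.Quotient.mk (IsLocalRing.maximalIdeal A) 1) ⊗ₜ[A] (⟨x, hx⟩ : LinearMap.ker F) = 0 := by
      refine hinj ?_
      rw [map_zero, LinearMap.lTensor_tmul]
      apply (TensorProduct.quotTensorEquivQuotSMul _ (IsLocalRing.maximalIdeal A)).injective
      rw [map_zero, TensorProduct.quotTensorEquivQuotSMul_mk_tmul, one_smul]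
      exact (Submodule.Quotient.mk_eq_zero _).2 hx'
    have h1 := congrArg (TensorProduct.quotTensorEquivQuotSMul (LinearMap.ker F) (IsLocalRing.maximalIdeal A)) h0
    rw [map_zero, TensorProduct.quotTensorEquivQuotSMul_mk_tmul, one_smul, Submodule.Quotient.mk_eq_zero] at h1
    have h2 := Submodule.mem_map_of_mem (f := (LinearMap.ker F).subtype) h1
    rwa [Submodule.map_smul'', Submodule.map_top, Submodule.range_subtype] at h2
  have hinj : LinearMap.ker F = ⊥ := by
    have : ∀ n : ℕ, LinearMap.ker F ≤ IsLocalRing.maximalIdeal A ^ n • LinearMap.ker F := by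
      intro n
      induction n with
      | zero => rw [pow_zero, Ideal.one_eq_top, Submodule.top_smul]
      | succ n ih =>
        refine hker.trans ((Submodule.smul_mono le_rfl ih).trans ?_)
        rw [← Submodule.mul_smul, ← pow_succ']
    have h := this N
    rwa [hN, Submodule.zero_eq_bot, Submodule.bot_smul, le_bot_iff] at h
  exact ⟨LinearMap.ker_eq_bot.1 hinj, hsurj⟩

end Groth.Agent.S17441
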