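import Mathlib
import Groth.Statements.S17446
-- import your own Groth.Agent.* helpers here

set_option autoImplicit false
universe u v
open SSRed

namespace Groth.Agent.S17446

section

open scoped Pointwise

variable {K V : Type*} [Field K] [AddCommGroup V] [Module K V]

local notation "E" => Module.End K V

def aug (H : Subgroup (V ≃ₗ[K] V)) : Submodule K (Module.End K V) :=
  Submodule.span K (Set.range fun h : H => (((h : V ≃ₗ[K] V) : Module.End K V)) - 1)

def alg (H : Subgroup (V ≃ₗ[K] V)) : Submodule K (Module.End K V) :=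
  Submodule.span K (Set.range fun h : H => (((h : V ≃ₗ[K] V) : Module.End K V)))

lemma coe_mul' (g h : V ≃ₗ[K] V) : ((g * h : V ≃ₗ[K] V) : Module.End K V) = (g : Module.End K V) * (h : Module.End K V) := rfl

lemma aug_pow_eq_zero {H : Subgroup (V ≃ₗ[K] V)} {n : ℕ}
    (h : ∀ f : Fin n → ↥H, (List.ofFn fun i => (((f i : ↥H) : V ≃ₗ[K] V) : Module.End K V) - 1).prod = 0) :
    aug H ^ n = ⊥ := by
  rw [aug, Submodule.span_pow, Submodule.span_eq_bot]
  intro x hx
  obtain ⟨f, rfl⟩ := Set.mem_pow.1 hx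
  choose g hg using fun i => (f i).2
  have := h g
  simp only [hg] at this
  exact this

lemma list_prod_mem (J : Submodule K (Module.End K V)) :
    ∀ l : List (Module.End K V), (∀ x ∈ l, x ∈ J) → l.prod ∈ J ^ l.length
  | [], _ => by rw [List.prod_nil, List.length_nil, pow_zero]; exact Submodule.one_le.1 le_rfl
  | x :: l, h => by
    rw [List.prod_cons, List.length_cons, pow_succ']
    exact Submodule.mul_mem_mul (h x (by simp)) (list_prod_mem J l fun y hy => h y (by simp [hy]))

theorem main (H₁ H₂ : Subgroup (V ≃ₗ[K] V)) (hnorm : ∀ g ∈ H₂, ∀ h ∈ H₁, g * h * g⁻¹ ∈ H₁)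
    {n m : ℕ} (h₁ : ∀ f : Fin n → ↥H₁, (List.ofFn fun i => (((f i : ↥H₁) : V ≃ₗ[K] V) : Module.End K V) - 1).prod = 0)
    (h₂ : ∀ f : Fin m → ↥H₂, (List.ofFn fun i => (((f i : ↥H₂) : V ≃ₗ[K] V) : Module.End K V) - 1).prod = 0) :
    ∃ N : ℕ, ∀ f : Fin N → ↥(H₁ ⊔ H₂),
      (List.ofFn fun i => (((f i : ↥(H₁ ⊔ H₂)) : V ≃ₗ[K] V) : Module.End K V) - 1).prod = 0 := by
  set a := aug H₁ with ha
  set R := alg H₂ with hR
  set b := aug H₂ with hb
  have hRR : R * R ≤ R := by
    rw [hR, alg, Submodule.span_mul_span, Submodule.span_le]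
    rintro _ ⟨_, ⟨g, rfl⟩, _, ⟨g', rfl⟩, rfl⟩
    exact Submodule.subset_span ⟨g * g', coe_mul' g.1 g'.1⟩
  have h1R : (1 : Module.End K V) ∈ R := Submodule.subset_span ⟨1, rfl⟩
  have hbR : b ≤ R := by
    rw [hb, aug, Submodule.span_le]
    rintro _ ⟨g, rfl⟩
    exact sub_mem (Submodule.subset_span ⟨g, rfl⟩) h1R
  have haa : a * a ≤ a := by
    rw [ha, aug, Submodule.span_mul_span, Submodule.span_le]
    rintro _ ⟨_, ⟨g, rfl⟩, _, ⟨g', rfl⟩, rfl⟩
    have e : (((g : V ≃ₗ[K] V) : Module.End K V) - 1) * (((g' : V ≃ₗ[K] V) : Module.End K V) - 1) =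
        ((((g * g' : ↥H₁) : V ≃ₗ[K] V) : Module.End K V) - 1) - (((g : V ≃ₗ[K] V) : Module.End K V) - 1) -
          (((g' : V ≃ₗ[K] V) : Module.End K V) - 1) := by
      rw [Subgroup.coe_mul, coe_mul', sub_mul, mul_sub, one_mul, mul_one]
      abel
    simp only [SetLike.mem_coe]
    rw [e]
    exact sub_mem (sub_mem (Submodule.subset_span ⟨_, rfl⟩) (Submodule.subset_span ⟨_, rfl⟩)) (Submodule.subset_span ⟨_, rfl⟩)
  have hswap : R * a ≤ a * R := by
    rw [hR, ha, alg, aug, Submodule.span_mul_span, Submodule.span_le]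
    rintro _ ⟨_, ⟨g, rfl⟩, _, ⟨h, rfl⟩, rfl⟩
    have e : ((g : V ≃ₗ[K] V) : Module.End K V) * (((h : V ≃ₗ[K] V) : Module.End K V) - 1) =
        (((g.1 * h.1 * g.1⁻¹ : V ≃ₗ[K] V) : Module.End K V) - 1) * ((g : V ≃ₗ[K] V) : Module.End K V) := by
      rw [mul_sub, sub_mul, mul_one, one_mul, ← coe_mul', ← coe_mul', inv_mul_cancel_right]
    simp only [SetLike.mem_coe]
    rw [e]
    exact Submodule.mul_mem_mul (Submodule.subset_span ⟨⟨_, hnorm g.1 g.2 h.1 h.2⟩, rfl⟩) (Submodule.subset_span ⟨g, rfl⟩)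
  set J := a * R ⊔ b with hJ
  have hI : (a * R) * (a * R) ≤ a * R := by
    calc (a * R) * (a * R) = a * (R * a) * R := by simp only [mul_assoc]
      _ ≤ a * (a * R) * R := by gcongr
      _ = (a * a) * (R * R) := by simp only [mul_assoc]
      _ ≤ a * R := by gcongr
  have hRI : R * (a * R) ≤ a * R := by
    calc R * (a * R) = (R * a) * R := (mul_assoc _ _ _).symm
      _ ≤ (a * R) * R := by gcongr
      _ = a * (R * R) := mul_assoc _ _ _
      _ ≤ a * R := by gcongr
  have hIR : (a * R) * R ≤ a * R := by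
    rw [mul_assoc]; gcongr
  have hbk : ∀ k, b ^ k ≤ R := by
    intro k
    induction k with
    | zero => rw [pow_zero]; exact Submodule.one_le.2 h1R
    | succ k ih => rw [pow_succ]; exact le_trans (by gcongr) hRR
  have hpow : ∀ k, J ^ k ≤ a * R ⊔ b ^ k := by
    intro k
    induction k with
    | zero => rw [pow_zero, pow_zero]; exact le_sup_right
    | succ k ih =>
      rw [pow_succ, pow_succ]
      refine le_trans (mul_le_mul' ih le_rfl) ?_
      rw [hJ, Submodule.sup_mul, Submodule.mul_sup, Submodule.mul_sup]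
      refine sup_le (sup_le (le_trans hI le_sup_left) (le_trans (le_trans (by gcongr) hIR) le_sup_left))
        (sup_le (le_trans (le_trans (mul_le_mul' (hbk k) le_rfl) hRI) le_sup_left) le_sup_right)
  have hIk : ∀ k, (a * R) ^ k ≤ a ^ k * R := by
    intro k
    induction k with
    | zero => rw [pow_zero, pow_zero, one_mul]; exact Submodule.one_le.2 h1R
    | succ k ih =>
      calc (a * R) ^ (k + 1) ≤ (a ^ k * R) * (a * R) := by rw [pow_succ]; gcongr
        _ = a ^ k * (R * a) * R := by simp only [mul_assoc]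
        _ ≤ a ^ k * (a * R) * R := by gcongr
        _ = a ^ (k + 1) * (R * R) := by rw [pow_succ]; simp only [mul_assoc]
        _ ≤ a ^ (k + 1) * R := by gcongr
  have hJm : J ^ m ≤ a * R := le_trans (hpow m) (by rw [hb, aug_pow_eq_zero h₂, sup_bot_eq])
  have hzero : J ^ (m * n) = ⊥ := by
    refine eq_bot_iff.2 ?_
    rw [pow_mul]
    refine le_trans (pow_le_pow_left' hJm n) (le_trans (hIk n) ?_)
    rw [ha, aug_pow_eq_zero h₁, Submodule.bot_mul]
  refine ⟨m * n, fun f => ?_⟩
  have hmem : ∀ x ∈ List.ofFn (fun i => (((f i : ↥(H₁ ⊔ H₂)) : V ≃ₗ[K] V) : Module.End K V) - 1), x ∈ J := by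
    intro x hx
    rw [List.mem_ofFn] at hx
    obtain ⟨i, rfl⟩ := hx
    have hmem := (f i).2
    have hle : H₂ ≤ Subgroup.normalizer (H₁ : Set (V ≃ₗ[K] V)) := fun g hg => by
      rw [Subgroup.mem_normalizer_iff]
      refine fun h => ⟨fun hh => hnorm g hg h hh, fun hh => ?_⟩
      have := hnorm g⁻¹ (inv_mem hg) _ hh
      simpa [mul_assoc] using this
    rw [← SetLike.mem_coe, Subgroup.coe_mul_of_right_le_normalizer_left _ _ hle] at hmem
    obtain ⟨h, hh, g, hg, e⟩ := hmem
    dsimp only at e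
    rw [← e, coe_mul', show (h : Module.End K V) * (g : Module.End K V) - 1 =
      ((h : Module.End K V) - 1) * (g : Module.End K V) + ((g : Module.End K V) - 1) by rw [sub_mul, one_mul]; abel]
    exact add_mem (Submodule.mem_sup_left (Submodule.mul_mem_mul (Submodule.subset_span ⟨⟨h, hh⟩, rfl⟩)
      (Submodule.subset_span ⟨⟨g, hg⟩, rfl⟩))) (Submodule.mem_sup_right (Submodule.subset_span ⟨⟨g, hg⟩, rfl⟩))
  have := list_prod_mem J _ hmem
  rw [List.length_ofFn, hzero, Submodule.mem_bot] at this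
  exact this

end

/-- Let K be a field, V a finite-dimensional K-vector space and H₁, H₂ subgroups of the group of
K-linear automorphisms of V such that H₂ normalizes H₁. Call the action of a subgroup H unipotent
when, for some n, every product (h₁ - 1)(h₂ - 1)⋯(hₙ - 1) with all hᵢ in H is the zero endomorphism
(equivalently, V has an H-stable flag on whose successive quotients H acts trivially). If H₁ and H₂
act unipotently, then the subgroup generated by H₁ and H₂ acts unipotently. (In the published result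
H₁ and H₂ are the absolute Galois groups of two finite Galois extensions of a strictly henselian
discretely valued field over which an abelian variety becomes semistable, acting on its rational
ℓ-adic Tate module, and the conclusion is semistability over the intersection of the two fields; the
printed argument uses only that H₂ normalizes H₁.) -/
theorem result (K : Type u) (V : Type v) [Field K]
    [AddCommGroup V] [Module K V] [FiniteDimensional K V]
    (H₁ H₂ : Subgroup (V ≃ₗ[K] V)) (hnorm : ∀ g ∈ H₂, ∀ h ∈ H₁, g * h * g⁻¹ ∈ H₁)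
    (h₁ : ∃ n : ℕ, ∀ f : Fin n → ↥H₁,
      (List.ofFn fun i => (((f i : ↥H₁) : V ≃ₗ[K] V) : Module.End K V) - 1).prod = 0)
    (h₂ : ∃ n : ℕ, ∀ f : Fin n → ↥H₂,
      (List.ofFn fun i => (((f i : ↥H₂) : V ≃ₗ[K] V) : Module.End K V) - 1).prod = 0) :
    ∃ n : ℕ, ∀ f : Fin n → ↥(H₁ ⊔ H₂),
      (List.ofFn fun i => (((f i : ↥(H₁ ⊔ H₂)) : V ≃ₗ[K] V) : Module.End K V) - 1).prod = 0 := by
  obtain ⟨n, h₁⟩ := h₁
  obtain ⟨m, h₂⟩ := h₂
  exact main H₁ H₂ hnorm h₁ h₂

end Groth.Agent.S17446
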