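import Groth.Statements.S17447
import Groth.Agent.HenselLib.Split
import Mathlib.AlgebraicGeometry.ZariskisMainTheorem
import Mathlib.RingTheory.Idempotents

set_option linter.style.haveILetI false
set_option backward.isDefEq.respectTransparency false
set_option backward.isDefEq.respectTransparency.types false

set_option autoImplicit false
universe u
open CategoryTheory CategoryTheory.Limits AlgebraicGeometry
open Hensel

namespace Groth.Agent.S17447

open AlgebraicGeometry CategoryTheory in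
theorem exists_finite_nhd (R : Type u) [CommRing R] [HenselianLocalRing R]
    {X : Scheme.{u}} (f : X ⟶ Spec (CommRingCat.of R))
    [LocallyQuasiFinite f] [LocallyOfFiniteType f] (x : X) (hx : f.base x = IsLocalRing.closedPoint R) :
    ∃ W : X.Opens, x ∈ W ∧ IsFinite (W.ι ≫ f) := by
  obtain ⟨U, hU, hsU, -⟩ := exists_isAffineOpen_mem_and_subset (X := X) (x := x) (U := ⊤) trivial
  obtain ⟨φ, hφ⟩ := Spec.map_surjective (hU.fromSpec ≫ f)
  haveI := hU.isOpenImmersion_fromSpec
  haveI hft : LocallyOfFiniteType (Spec.map φ) := hφ ▸ inferInstance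
  haveI hqf : LocallyQuasiFinite (Spec.map φ) := hφ ▸ inferInstance
  rw [HasRingHomProperty.Spec_iff (P := @LocallyOfFiniteType)] at hft
  rw [HasRingHomProperty.Spec_iff (P := @LocallyQuasiFinite)] at hqf
  algebraize [φ.hom]
  haveI : Algebra.QuasiFinite R Γ(X, U) := hqf
  let q : PrimeSpectrum Γ(X, U) := hU.primeIdealOf ⟨x, hsU⟩
  have hq : hU.fromSpec q = x := hU.fromSpec_primeIdealOf ⟨x, hsU⟩
  have hqm : q.comap (algebraMap R Γ(X, U)) = IsLocalRing.closedPoint R := by
    have : f (hU.fromSpec q) = PrimeSpectrum.comap (algebraMap R Γ(X, U)) q := by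
      rw [← Scheme.Hom.comp_apply, ← hφ]; rfl
    rw [← this, hq]; exact hx
  have hle : (IsLocalRing.maximalIdeal R).map (algebraMap R Γ(X, U)) ≤ q.asIdeal := by
    rw [Ideal.map_le_iff_le_comap]
    exact (congrArg PrimeSpectrum.asIdeal hqm).ge
  obtain ⟨ε, hε, hεq, hfg⟩ := Groth.Agent.HenselLib.exists_idem_at (R := R) q.asIdeal hle
  set B := Γ(X, U) ⧸ Ideal.span ({1 - ε} : Set Γ(X, U))
  haveI hfinB : Module.Finite R B := by
    refine ⟨?_⟩
    have htop : (⊤ : Submodule R B) =
        (LinearMap.range (LinearMap.mulLeft R ε)).map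
          (Ideal.Quotient.mkₐ R (Ideal.span ({1 - ε} : Set Γ(X, U)))).toLinearMap := by
      refine (top_unique fun y _ => ?_).symm
      obtain ⟨y, rfl⟩ := Ideal.Quotient.mk_surjective y
      refine ⟨ε * y, ⟨y, rfl⟩, Ideal.Quotient.eq.mpr (Ideal.mem_span_singleton'.mpr ⟨-y, ?_⟩)⟩
      ring
    rw [htop]
    exact hfg.map _
  let π : Γ(X, U) →+* B := Ideal.Quotient.mk _
  haveI : IsLocalization.Away ε B :=
    IsLocalization.away_of_isIdempotentElem hε (Ideal.mk_ker) Ideal.Quotient.mk_surjective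
  obtain ⟨w, hw⟩ : q ∈ Set.range (PrimeSpectrum.comap π) := by
    rw [show π = algebraMap _ _ from rfl, PrimeSpectrum.localization_away_comap_range _ ε]
    exact hεq
  haveI : IsOpenImmersion (Spec.map (CommRingCat.ofHom π)) := IsOpenImmersion.of_isLocalization ε
  let j := Spec.map (CommRingCat.ofHom π) ≫ hU.fromSpec
  haveI : IsFinite (j ≫ f) := by
    rw [Category.assoc, ← hφ, ← Spec.map_comp, IsFinite.SpecMap_iff]
    exact RingHom.finite_algebraMap.2 hfinB
  refine ⟨j.opensRange, ⟨w, by rw [Scheme.Hom.comp_apply, ← hq, ← hw]; rfl⟩, ?_⟩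
  rw [← j.isoOpensRange_inv_comp, Category.assoc]
  infer_instance

/-- Let R be a henselian local ring and X → Spec R a quasi-finite separated morphism (locally of finite
type, quasi-compact, with discrete fibres). Then X decomposes uniquely as the disjoint union of an
open and closed subscheme finite over Spec R and an open and closed subscheme with empty special
fibre: there is exactly one open subset W of X which is closed, finite over Spec R (as an open
subscheme) and contains every point lying over the closed point of Spec R. (No Noetherian hypothesis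
on R.) -/
theorem result (R : Type u) [CommRing R] [HenselianLocalRing R]
    {X : Scheme.{u}} (f : X ⟶ Spec (CommRingCat.of R))
    [LocallyQuasiFinite f] [LocallyOfFiniteType f] [QuasiCompact f] [IsSeparated f] :
    ∃! W : X.Opens, IsClosed (W : Set X) ∧ IsFinite (W.ι ≫ f) ∧
      ∀ x : X, f.base x = IsLocalRing.closedPoint R → x ∈ W := by
  have hclosed : ∀ W : X.Opens, IsFinite (W.ι ≫ f) → IsClosed (W : Set X) := by
    intro W hW
    haveI := hW
    haveI : IsFinite W.ι := IsFinite.of_comp W.ι f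
    rw [← Scheme.Opens.range_ι W]
    exact W.ι.isClosedMap.isClosed_range
  choose N hxN hN using fun s : (f.base ⁻¹' {IsLocalRing.closedPoint R}) => exists_finite_nhd R f s.1 s.2
  haveI : Finite (f.base ⁻¹' {IsLocalRing.closedPoint R}) := f.finite_preimage_singleton _
  let W : X.Opens := ⨆ s, N s
  have hWc : IsClosed (W : Set X) := by
    rw [TopologicalSpace.Opens.coe_iSup]
    exact isClosed_iUnion_of_finite fun s => hclosed _ (hN s)
  haveI : IsClosedImmersion W.ι := .of_isPreimmersion _ (by rw [Scheme.Opens.range_ι]; exact hWc)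
  have hWfib : ∀ x : X, f.base x = IsLocalRing.closedPoint R → x ∈ W := fun x hx =>
    TopologicalSpace.Opens.mem_iSup.2 ⟨⟨x, hx⟩, hxN ⟨x, hx⟩⟩
  haveI : UniversallyClosed (W.ι ≫ f) := by
    refine ⟨fun P' S' a b q' hc' => ?_⟩
    intro C hC
    have hfin : ∀ s, IsFinite ((a ⁻¹ᵁ W.ι ⁻¹ᵁ N s).ι ≫ q') := fun s => by
      refine MorphismProperty.of_isPullback ((isPullback_morphismRestrict a (W.ι ⁻¹ᵁ N s)).paste_vert hc'.flip) ?_
      have e : (W.ι ∣_ N s) ≫ (N s).ι ≫ f = (W.ι ⁻¹ᵁ N s).ι ≫ W.ι ≫ f := by rw [morphismRestrict_ι_assoc]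
      haveI := hN s
      haveI : IsClosedImmersion (W.ι ∣_ N s) := IsZariskiLocalAtTarget.restrict ‹_› _
      rw [← e]
      infer_instance
    have h1 : q' '' C = ⋃ s, ((a ⁻¹ᵁ W.ι ⁻¹ᵁ N s).ι ≫ q') '' ((a ⁻¹ᵁ W.ι ⁻¹ᵁ N s).ι ⁻¹' C) := by
      ext z
      simp only [Set.mem_image, Set.mem_iUnion, Set.mem_preimage]
      constructor
      · rintro ⟨p, hp, rfl⟩
        obtain ⟨s, hs⟩ := TopologicalSpace.Opens.mem_iSup.1 (show W.ι (a p) ∈ W from (a p).2)
        exact ⟨s, ⟨p, hs⟩, hp, Scheme.Hom.comp_apply _ _ _⟩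
      · rintro ⟨s, p, hp, rfl⟩
        exact ⟨(a ⁻¹ᵁ W.ι ⁻¹ᵁ N s).ι p, hp, (Scheme.Hom.comp_apply _ _ _).symm⟩
    rw [h1]
    refine isClosed_iUnion_of_finite fun s => ?_
    haveI := hfin s
    exact ((a ⁻¹ᵁ W.ι ⁻¹ᵁ N s).ι ≫ q').isClosedMap _ (hC.preimage (a ⁻¹ᵁ W.ι ⁻¹ᵁ N s).ι.continuous)
  haveI : IsProper (W.ι ≫ f) := ⟨⟩
  refine ⟨W, ⟨hWc, .of_isProper_of_locallyQuasiFinite _, hWfib⟩, ?_⟩
  rintro W' ⟨hW'c, hW'f, hW'fib⟩
  have key : ∀ A B : X.Opens, IsFinite (A.ι ≫ f) → (∀ x : X, f.base x = IsLocalRing.closedPoint R → x ∈ B) → A ≤ B := by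
    intro A B hA hB x hxA
    by_contra hxB
    haveI := hA
    have hc : IsClosed ((A.ι ≫ f) '' {a | A.ι a ∉ B}) :=
      (A.ι ≫ f).isClosedMap _ ((B.2.preimage A.ι.continuous).isClosed_compl)
    obtain ⟨a, ha, hae⟩ := ((IsLocalRing.specializes_closedPoint ((A.ι ≫ f) ⟨x, hxA⟩)).mem_closed hc ⟨⟨x, hxA⟩, hxB, rfl⟩)
    exact ha (hB _ ((Scheme.Hom.comp_apply _ _ _).symm.trans hae))
  exact le_antisymm (key W' W hW'f hWfib) (key W W' (.of_isProper_of_locallyQuasiFinite _) hW'fib)

end Groth.Agent.S17447
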