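import Groth.Statements.S17448
import Groth.Agent.HenselLib.Unique
import Mathlib.AlgebraicGeometry.Morphisms.Etale
-- import your own Groth.Agent.* helpers here

set_option autoImplicit false
universe u
open CategoryTheory CategoryTheory.Limits AlgebraicGeometry
open Hensel

namespace Groth.Agent.S17448

/-- Sections over henselian rings: let R be a henselian local ring with residue field k and X → Spec R a
quasi-finite (quasi-compact with discrete fibres), separated and étale morphism. Then the natural
map from sections X(R) to points X(k) of the special fibre is bijective: for every morphism t : Spec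
k → X over Spec k → Spec R there is exactly one section s : Spec R → X of X → Spec R whose
restriction to Spec k is t. -/
theorem result (R : Type u) [CommRing R]
    [HenselianLocalRing R] {X : Scheme.{u}} (f : X ⟶ Spec (CommRingCat.of R))
    [LocallyQuasiFinite f] [QuasiCompact f] [IsSeparated f] [Etale f]
    (t : Spec (CommRingCat.of (IsLocalRing.ResidueField R)) ⟶ X)
    (ht : t ≫ f = Spec.map (CommRingCat.ofHom (IsLocalRing.residue R))) :
    ∃! s : Spec (CommRingCat.of R) ⟶ X,
      s ≫ f = 𝟙 (Spec (CommRingCat.of R)) ∧ Spec.map (CommRingCat.ofHom (IsLocalRing.residue R)) ≫ s = t := by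
  let k := IsLocalRing.ResidueField R
  let r : Spec (CommRingCat.of k) ⟶ Spec (CommRingCat.of R) := Spec.map (CommRingCat.ofHom (IsLocalRing.residue R))
  let o : Spec (CommRingCat.of k) := IsLocalRing.closedPoint k
  obtain ⟨U, hU, hxU⟩ : ∃ U : X.Opens, IsAffineOpen U ∧ t o ∈ U := by
    obtain ⟨_, ⟨U, hU, rfl⟩, hxU, -⟩ :=
      X.isBasis_affineOpens.exists_subset_of_mem_open (Set.mem_univ (t o)) isOpen_univ
    exact ⟨U, hU, hxU⟩
  obtain ⟨φ, hφ⟩ := Spec.map_surjective (hU.fromSpec ≫ f)
  have het : φ.hom.Etale := by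
    rw [← HasRingHomProperty.Spec_iff (P := @Etale), hφ]
    infer_instance
  have hrange : Set.range t ⊆ Set.range hU.fromSpec := by
    rintro _ ⟨z, rfl⟩
    rw [hU.range_fromSpec, Subsingleton.elim z o]
    exact hxU
  obtain ⟨τ, hτ⟩ := Spec.map_surjective (IsOpenImmersion.lift hU.fromSpec t hrange)
  have hτt : Spec.map τ ≫ hU.fromSpec = t := by rw [hτ, IsOpenImmersion.lift_fac]
  have hcomp : φ ≫ τ = CommRingCat.ofHom (IsLocalRing.residue R) := Spec.map_injective (by
    rw [Spec.map_comp, hφ, ← Category.assoc, hτt, ht])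
  letI := φ.hom.toAlgebra
  haveI : Algebra.Etale R Γ(X, U) := het
  let σ : Γ(X, U) →ₐ[R] R ⧸ IsLocalRing.maximalIdeal R :=
    { (τ.hom : Γ(X, U) →+* k) with commutes' := fun a => congr($(hcomp).hom a) }
  obtain ⟨ψ, hψ, hψu⟩ := Groth.Agent.HenselLib.existsUnique_lift (IsLocalRing.maximalIdeal R) σ
  let ψ' : Γ(X, U) ⟶ CommRingCat.of R := CommRingCat.ofHom ψ.toRingHom
  have h1 : φ ≫ ψ' = 𝟙 (CommRingCat.of R) := CommRingCat.hom_ext (RingHom.ext fun a => ψ.commutes a)
  have h2 : ψ' ≫ CommRingCat.ofHom (IsLocalRing.residue R) = τ :=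
    CommRingCat.hom_ext (RingHom.ext fun a => DFunLike.congr_fun hψ a)
  refine ⟨Spec.map ψ' ≫ hU.fromSpec, ⟨?_, ?_⟩, ?_⟩
  · rw [Category.assoc, ← hφ, ← Spec.map_comp, h1, Spec.map_id]
  · rw [← Category.assoc, ← Spec.map_comp, h2, hτt]
  · rintro s ⟨hs1, hs2⟩
    have hsU : Set.range s ⊆ Set.range hU.fromSpec := by
      rw [hU.range_fromSpec]
      rintro _ ⟨z, rfl⟩
      have hz : z ⤳ r o := by
        have : r o = IsLocalRing.closedPoint R := IsLocalRing.comap_closedPoint (IsLocalRing.residue R)
        rw [this]; exact IsLocalRing.specializes_closedPoint z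
      refine Specializes.mem_open (hz.map s.continuous) U.2 ?_
      have h3 : s (r o) = t o := congrArg (fun m => m o) (congrArg (fun m : Spec (CommRingCat.of k) ⟶ X => (m : _ → _)) hs2)
      rw [h3]; exact hxU
    obtain ⟨θ, hθ⟩ := Spec.map_surjective (IsOpenImmersion.lift hU.fromSpec s hsU)
    have hθs : Spec.map θ ≫ hU.fromSpec = s := by rw [hθ, IsOpenImmersion.lift_fac]
    have e1 : φ ≫ θ = 𝟙 (CommRingCat.of R) := Spec.map_injective (by
      rw [Spec.map_comp, hφ, ← Category.assoc, hθs, hs1, Spec.map_id])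
    have e2 : θ ≫ CommRingCat.ofHom (IsLocalRing.residue R) = τ := Spec.map_injective (by
      rw [← cancel_mono hU.fromSpec, Spec.map_comp, Category.assoc, hθs, hs2, hτt])
    let θ' : Γ(X, U) →ₐ[R] R := { θ.hom with commutes' := fun a => congr($(e1).hom a) }
    have : θ' = ψ := hψu θ' (AlgHom.ext fun a => congr($(e2).hom a))
    have e3 : θ = ψ' := CommRingCat.hom_ext (RingHom.ext fun a => DFunLike.congr_fun this a)
    rw [← hθs, e3]

end Groth.Agent.S17448
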