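import Groth.Statements.S17466
import Mathlib
-- import your own Groth.Agent.* helpers here

set_option autoImplicit false
universe u v
open BigOperators
open NRGIT

namespace Groth.Agent.S17466

section Aux
variable {R : Type u} {A : Type v} [CommRing R] [CommRing A] [Algebra R A]
  (𝒜 : ℕ → Submodule R A) [GradedAlgebra 𝒜]

/-- degree-zero part times products of `N` elements of degree `s`. -/
def PS (s N : ℕ) : Submodule R A := 𝒜 0 * 𝒜 s ^ N

theorem PS_le (s N : ℕ) : PS 𝒜 s N ≤ 𝒜 (s * N) := by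
  induction N with
  | zero => simp only [PS, pow_zero, mul_one, mul_zero, le_refl]
  | succ N ih =>
    rw [PS, pow_succ, ← mul_assoc, Submodule.mul_le]
    intro a ha b hb
    have := SetLike.mul_mem_graded (ih ha) hb
    rwa [← Nat.mul_succ] at this

theorem PS_mul {s M N : ℕ} {a b : A} (ha : a ∈ PS 𝒜 s M) (hb : b ∈ PS 𝒜 s N) :
    a * b ∈ PS 𝒜 s (M + N) := by
  have h : 𝒜 0 * 𝒜 0 ≤ 𝒜 0 := Submodule.mul_le.2 fun x hx y hy => by
    simpa using SetLike.mul_mem_graded hx hy
  have := Submodule.mul_mem_mul ha hb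
  rw [PS, PS, mul_mul_mul_comm, ← pow_add] at this
  exact mul_le_mul_left h _ this

theorem one_zero : (1 : A) ∈ 𝒜 0 := SetLike.one_mem_graded 𝒜

theorem self_mem {s : ℕ} {g : A} (hg : g ∈ 𝒜 s) : g ∈ PS 𝒜 s 1 := by
  simpa [PS] using Submodule.mul_mem_mul (one_zero 𝒜) hg

theorem pow_mem' {s M : ℕ} {g : A} (hg : g ∈ PS 𝒜 s M) : ∀ t, g ^ t ∈ PS 𝒜 s (M * t) := fun t => by
  induction t with
  | zero => simpa [PS] using one_zero 𝒜
  | succ t ih => rw [pow_succ, Nat.mul_succ]; exact PS_mul 𝒜 ih hg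

end Aux

/-- Let A be a commutative algebra graded by the natural numbers, let σ_1, …, σ_n be homogeneous
elements of degree 1 and let s ≥ 1 be an integer such that, for every i, the degree-zero homogeneous
localisation of A away from σ_i is generated over A_0 by the fractions f / σ_i ^ s with f
homogeneous of degree s. Then for every exponent vector K = (k_1, …, k_n) with k_1 + ⋯ + k_n = s,
the degree-zero homogeneous localisation of A away from the monomial σ^K = ∏ σ_i ^ (k_i) is
generated over A_0 by the fractions f / σ^K with f homogeneous of degree s. (Equivalently: the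
natural map from the degree-zero localisation of the symmetric algebra on A_s, taken away from σ^K
viewed as an element of degree one, to the degree-zero localisation of A away from σ^K is
surjective. The published lemma concerns the algebra of invariant sections of the powers of a
linearised line bundle on an irreducible projective scheme over a field, with the σ_i a basis of a
weight space of sections, and concludes a closed immersion of a quotient into an open piece of a
projective space; this row keeps only the graded-algebra step, for any commutative graded algebra,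
with the base field replaced by A_0, which generates nothing new since a / 1 = a σ^s / σ^s for a of
degree zero.) -/
theorem result
    {R : Type u} {A : Type v} [CommRing R] [CommRing A] [Algebra R A]
    (𝒜 : ℕ → Submodule R A) [GradedAlgebra 𝒜]
    {n : ℕ} (σ : Fin n → A) (hσ : ∀ i, σ i ∈ 𝒜 1) {s : ℕ} (hs : 0 < s)
    (hgen : ∀ i, Algebra.adjoin (𝒜 0)
      {z : HomogeneousLocalization.Away 𝒜 (σ i) |
        ∃ f ∈ 𝒜 s, z.val = Localization.mk f ⟨σ i ^ s, Submonoid.pow_mem _ (Submonoid.mem_powers (σ i)) s⟩} = ⊤)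
    (K : Fin n → ℕ) (hK : ∑ i, K i = s) :
    Algebra.adjoin (𝒜 0)
      {z : HomogeneousLocalization.Away 𝒜 (∏ i, σ i ^ K i) |
        ∃ f ∈ 𝒜 s, z.val = Localization.mk f ⟨∏ i, σ i ^ K i, Submonoid.mem_powers _⟩} = ⊤ := by
  classical
  set g := ∏ i, σ i ^ K i with hg0
  have hg : g ∈ 𝒜 s := by
    rw [← hK]
    simpa using SetLike.prod_pow_mem_graded (A := 𝒜) (F := Finset.univ) (g := σ) (i := fun _ => 1) K (fun i _ => hσ i)
  have hpow : ∀ (f : A) (x : ℕ), f ^ x ∈ Submonoid.powers f := fun f x => ⟨x, rfl⟩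
  have key : ∀ (i : Fin n) (t : ℕ) (a : A), a ∈ 𝒜 (s * t) → ∃ e N, ∀ L, e ≤ L → (σ i ^ s) ^ L * a ∈ PS 𝒜 s (N + L) := by
    intro i t a ha
    obtain ⟨z, hzdef⟩ : ∃ z : HomogeneousLocalization.Away 𝒜 (σ i), z = HomogeneousLocalization.Away.mk 𝒜 (hσ i) (s * t) a (by simpa using ha) := ⟨_, rfl⟩
    have hz : z ∈ Algebra.adjoin (𝒜 0) {w : HomogeneousLocalization.Away 𝒜 (σ i) | ∃ f ∈ 𝒜 s, w.val = Localization.mk f ⟨σ i ^ s, Submonoid.pow_mem _ (Submonoid.mem_powers (σ i)) s⟩} := by rw [hgen i]; exact Algebra.mem_top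
    have hex : ∃ N, ∃ p ∈ PS 𝒜 s N, z.val = Localization.mk p ⟨(σ i ^ s) ^ N, by rw [← pow_mul]; exact hpow _ _⟩ := by
      have hraise : ∀ {N : ℕ} {p : A}, p ∈ PS 𝒜 s N → ∀ M, p * (σ i ^ s) ^ M ∈ PS 𝒜 s (N + M) := fun {N p} hp M => by
        have := pow_mem' 𝒜 (self_mem 𝒜 (s := s) (g := σ i ^ s) (by simpa using SetLike.pow_mem_graded s (hσ i))) M
        exact PS_mul 𝒜 hp (by simpa using this)
      clear hzdef
      induction hz using Algebra.adjoin_induction with
      | mem z hz =>
        obtain ⟨f, hf, h⟩ := hz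
        exact ⟨1, f, self_mem 𝒜 hf, h.trans (by simp)⟩
      | algebraMap r =>
        refine ⟨0, r.1, by simpa [PS] using r.2, ?_⟩
        simp [HomogeneousLocalization.algebraMap_eq, HomogeneousLocalization.fromZeroRingHom]
      | add x y _ _ hx hy =>
        obtain ⟨M, p, hp, h⟩ := hx
        obtain ⟨N, q, hq, h'⟩ := hy
        refine ⟨M + N, _, add_mem (add_comm N M ▸ hraise hq M) (hraise hp N), ?_⟩
        rw [HomogeneousLocalization.val_add, h, h', Localization.add_mk, Localization.mk_eq_mk_iff, Localization.r_iff_exists]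
        exact ⟨1, by simp only [pow_add, Submonoid.coe_mul, OneMemClass.coe_one]; ring⟩
      | mul x y _ _ hx hy =>
        obtain ⟨M, p, hp, h⟩ := hx
        obtain ⟨N, q, hq, h'⟩ := hy
        refine ⟨M + N, p * q, PS_mul 𝒜 hp hq, ?_⟩
        rw [HomogeneousLocalization.val_mul, h, h', Localization.mk_mul, Localization.mk_eq_mk_iff, Localization.r_iff_exists]
        exact ⟨1, by simp [pow_add]⟩
    clear hz
    obtain ⟨N, p, hp, h⟩ := hex
    rw [hzdef, HomogeneousLocalization.Away.val_mk, Localization.mk_eq_mk_iff, Localization.r_iff_exists] at h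
    obtain ⟨⟨_, e, rfl⟩, h⟩ := h
    obtain ⟨e', he'⟩ : ∃ e', s * e' = e + (s * e - e) := ⟨e, (Nat.add_sub_cancel' (Nat.le_mul_of_pos_left e hs)).symm⟩
    have h2 : (σ i ^ s) ^ (e' + N) * a = (σ i ^ s) ^ (e' + t) * p := by
      have h3 := congrArg (σ i ^ (s * e - e) * ·) h
      simp only at h3
      rw [pow_add (σ i ^ s) e' N, pow_add (σ i ^ s) e' t, ← pow_mul _ s e', he', pow_add (σ i)]
      rw [← pow_mul (σ i) s t]
      linear_combination h3
    refine ⟨e' + N, t, fun L hL => ?_⟩
    obtain ⟨d, rfl⟩ := Nat.exists_eq_add_of_le hL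
    rw [pow_add, mul_comm _ ((σ i ^ s) ^ d), mul_assoc, h2, ← mul_assoc, ← pow_add]
    have := PS_mul 𝒜 (pow_mem' 𝒜 (self_mem 𝒜 (s := s) (g := σ i ^ s) (by simpa using SetLike.pow_mem_graded s (hσ i))) (d + (e' + t))) hp
    convert this using 2
    omega
  rw [eq_top_iff]
  rintro x -
  obtain ⟨t, a, ha, rfl⟩ := HomogeneousLocalization.Away.mk_surjective 𝒜 hg x
  have ha' : a ∈ 𝒜 (s * t) := by simpa [smul_eq_mul, mul_comm] using ha
  obtain ⟨i, hi⟩ : ∃ i, 0 < K i := by
    by_contra! h
    exact absurd hK (by rw [Finset.sum_eq_zero fun i _ => Nat.le_zero.1 (h i)]; omega)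
  obtain ⟨e, N, he⟩ := key i t a ha'
  have h1 : ∀ j, (σ j ^ s) ^ (K j * e) ∈ PS 𝒜 s (K j * e) := fun j => by
    simpa using pow_mem' 𝒜 (self_mem 𝒜 (s := s) (g := σ j ^ s) (by simpa using SetLike.pow_mem_graded s (hσ j))) (K j * e)
  have h2 : ∀ S : Finset (Fin n), (∏ j ∈ S, (σ j ^ s) ^ (K j * e)) ∈ PS 𝒜 s (∑ j ∈ S, K j * e) := fun S => by
    induction S using Finset.induction_on with
    | empty => simpa [PS] using one_zero 𝒜
    | insert j S hj ih => rw [Finset.prod_insert hj, Finset.sum_insert hj]; exact PS_mul 𝒜 (h1 j) ih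
  have hp : ∃ M, g ^ (s * e) * a ∈ PS 𝒜 s M := by
    refine ⟨(∑ j ∈ Finset.univ.erase i, K j * e) + (N + K i * e), ?_⟩
    have h3 : g ^ (s * e) * a = (∏ j ∈ Finset.univ.erase i, (σ j ^ s) ^ (K j * e)) * ((σ i ^ s) ^ (K i * e) * a) := by
      rw [← mul_assoc, Finset.prod_erase_mul _ _ (Finset.mem_univ i), hg0, ← Finset.prod_pow]
      congr 1
      refine Finset.prod_congr rfl fun j _ => ?_
      rw [← pow_mul, ← pow_mul]; congr 1; ring
    rw [h3]
    exact PS_mul 𝒜 (h2 _) (he (K i * e) (Nat.le_mul_of_pos_left e hi))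
  obtain ⟨M, hM⟩ := hp
  have conv : ∀ (M : ℕ) (p : A), p ∈ PS 𝒜 s M → ∀ d, ∃ z ∈ Algebra.adjoin (𝒜 0) {z : HomogeneousLocalization.Away 𝒜 g |
      ∃ f ∈ 𝒜 s, z.val = Localization.mk f ⟨g, Submonoid.mem_powers _⟩}, z.val * Localization.mk 1 ⟨g ^ d, hpow _ _⟩ = Localization.mk p ⟨g ^ (M + d), hpow _ _⟩ := by
    intro M
    induction M with
    | zero =>
      intro p hp d
      refine ⟨algebraMap (𝒜 0) _ ⟨p, by simpa [PS] using hp⟩, Subalgebra.algebraMap_mem _ _, ?_⟩
      simp [HomogeneousLocalization.algebraMap_eq, HomogeneousLocalization.fromZeroRingHom, Localization.mk_mul]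
    | succ M ih =>
      intro p hp d
      rw [PS, pow_succ, ← mul_assoc] at hp
      induction hp using Submodule.mul_induction_on' with
      | mem_mul_mem q hq f hf =>
        obtain ⟨z, hz, hzv⟩ := ih q hq d
        refine ⟨z * HomogeneousLocalization.Away.mk 𝒜 hg 1 f (by simpa using hf), mul_mem hz (Algebra.subset_adjoin ⟨f, hf, by simp⟩), ?_⟩
        rw [HomogeneousLocalization.val_mul, mul_right_comm, hzv, HomogeneousLocalization.Away.val_mk, Localization.mk_mul, Localization.mk_eq_mk_iff, Localization.r_iff_exists]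
        exact ⟨1, by simp [pow_add, pow_one]; ring⟩
      | add x _ y _ hx hy =>
        obtain ⟨z, hz, hzv⟩ := hx
        obtain ⟨z', hz', hzv'⟩ := hy
        refine ⟨z + z', add_mem hz hz', ?_⟩
        rw [HomogeneousLocalization.val_add, add_mul, hzv, hzv', Localization.add_mk_self]
  have hdeg : g ^ (s * e) * a ∈ 𝒜 (s * (s * e + t)) := by
    have := SetLike.mul_mem_graded (SetLike.pow_mem_graded (s * e) hg) ha'
    convert this using 2
    simp only [smul_eq_mul]; ring
  by_cases hz0 : g ^ (s * e) * a = 0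
  · have : HomogeneousLocalization.Away.mk 𝒜 hg t a ha = 0 := by
      apply HomogeneousLocalization.val_injective
      rw [HomogeneousLocalization.Away.val_mk, HomogeneousLocalization.val_zero, ← Localization.mk_zero (1 : Submonoid.powers g),
        Localization.mk_eq_mk_iff, Localization.r_iff_exists]
      exact ⟨⟨g ^ (s * e), hpow _ _⟩, by simp [hz0]⟩
    rw [this]; exact zero_mem _
  have hMd : M = s * e + t := by
    have h := DirectSum.degree_eq_of_mem_mem 𝒜 (PS_le 𝒜 s M hM) hdeg hz0
    exact Nat.eq_of_mul_eq_mul_left hs h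
  obtain ⟨z, hz, hzv⟩ := conv M _ hM 0
  convert hz
  apply HomogeneousLocalization.val_injective
  have : z.val = Localization.mk (g ^ (s * e) * a) ⟨g ^ (M + 0), hpow _ _⟩ := by
    rw [← hzv]; simp [Localization.mk_one]
  rw [this, HomogeneousLocalization.Away.val_mk, Localization.mk_eq_mk_iff, Localization.r_iff_exists]
  exact ⟨1, by simp [hMd, pow_add]; ring⟩

end Groth.Agent.S17466
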