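import Groth.Statements.S17468
import Mathlib.Algebra.Lie.Sl2
import Mathlib.Algebra.Lie.Weights.Basic
import Mathlib.Algebra.DirectSum.LinearMap
import Mathlib.LinearAlgebra.Eigenspace.Basic
import Mathlib.LinearAlgebra.Trace
import Mathlib.Tactic.LinearCombination
import Mathlib.Tactic.Ring
-- import your own Groth.Agent.* helpers here

set_option autoImplicit false
universe u v w
open LieRep

namespace Groth.Agent.S17468

private lemma sum_sq_weights {k : Type u} [Field k] [CharZero k] (n : ℕ) :
    ∑ i ∈ Finset.range (n + 1), ((n : k) - 2 * (i : k)) ^ 2 = 2 * (((n + 2).choose 3 : ℕ) : k) := by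
  have e2 : ∀ m : ℕ, 2 * (((m + 2).choose 2 : ℕ) : k) = ((m : k) + 2) * ((m : k) + 1) := by
    intro m
    induction m with
    | zero => simp
    | succ m ih =>
      rw [show m + 1 + 2 = (m + 2) + 1 by ring, Nat.choose_succ_succ', Nat.choose_one_right]
      push_cast
      linear_combination ih
  have e3 : ∀ m : ℕ, 6 * (((m + 2).choose 3 : ℕ) : k) = ((m : k) + 2) * ((m : k) + 1) * m := by
    intro m
    induction m with
    | zero => simp
    | succ m ih =>
      rw [show m + 1 + 2 = (m + 2) + 1 by ring, Nat.choose_succ_succ']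
      push_cast
      linear_combination ih + 3 * e2 m
  have gen : ∀ (x : k) (m : ℕ), 3 * ∑ i ∈ Finset.range m, (x - 2 * (i : k)) ^ 2 =
      3 * m * x ^ 2 - 6 * x * m * ((m : k) - 1) + 2 * m * ((m : k) - 1) * (2 * (m : k) - 1) := by
    intro x m
    induction m with
    | zero => simp
    | succ m ih =>
      rw [Finset.sum_range_succ, mul_add, ih]
      push_cast
      ring
  refine mul_left_cancel₀ (show (3 : k) ≠ 0 by norm_num) ?_
  rw [gen]
  push_cast
  linear_combination -(e3 n)

private lemma trace_sq_irreducible {k : Type u} [Field k] [IsAlgClosed k] [CharZero k]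
    {L : Type v} [LieRing L] [LieAlgebra k L]
    {h e f : L} (t : IsSl2Triple h e f) (hspan : t.toLieSubalgebra k = ⊤)
    (U : Type w) [AddCommGroup U] [Module k U] [LieRingModule L U] [LieModule k L U]
    [FiniteDimensional k U] [LieModule.IsIrreducible k L U] :
    LinearMap.trace k U ((LieModule.toEnd k L U h) ^ 2) =
      2 * (((Module.finrank k U + 1).choose 3 : ℕ) : k) := by
  have : Nontrivial U := (LieSubmodule.nontrivial_iff k L U).mp inferInstance
  obtain ⟨μ, m, -, P⟩ := t.exists_hasPrimitiveVectorWith (R := k) (M := U)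
  obtain ⟨n, rfl⟩ := P.exists_nat
  let ψ : Fin (n + 1) → U := fun i => (LieModule.toEnd k L U f ^ (i : ℕ)) m
  have hne : ∀ i, ψ i ≠ 0 := fun i => P.pow_toEnd_f_ne_zero_of_eq_nat rfl (Nat.le_of_lt_succ i.2)
  have hH : ∀ i : Fin (n + 1), LieModule.toEnd k L U h (ψ i) = ((n : k) - 2 * ((i : ℕ) : k)) • ψ i :=
    fun i => P.lie_h_pow_toEnd_f i
  have hinj : Function.Injective fun i : Fin (n + 1) => (n : k) - 2 * ((i : ℕ) : k) := fun i j hij => by
    simpa [Fin.val_inj] using hij
  have hli : LinearIndependent k ψ := Module.End.eigenvectors_linearIndependent' _ _ hinj ψ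
    fun i => ⟨Module.End.mem_eigenspace_iff.mpr (hH i), hne i⟩
  have hmem : ∀ i, i ≤ n + 1 → (LieModule.toEnd k L U f ^ i) m ∈ Submodule.span k (Set.range ψ) := by
    intro i hi
    rcases Nat.lt_or_eq_of_le hi with hlt | rfl
    · exact Submodule.subset_span ⟨⟨i, hlt⟩, rfl⟩
    · rw [P.pow_toEnd_f_eq_zero_of_eq_nat rfl]; exact Submodule.zero_mem _
  have hgen : ∀ (x : L) (y : U), y ∈ Submodule.span k (Set.range ψ) → ⁅x, y⁆ ∈ Submodule.span k (Set.range ψ) := by
    intro x y hy
    induction hy using Submodule.span_induction with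
    | zero => simp
    | add a b _ _ ha hb => rw [lie_add]; exact add_mem ha hb
    | smul c a _ ha => rw [lie_smul]; exact Submodule.smul_mem _ c ha
    | mem a ha =>
      obtain ⟨⟨i, hi⟩, rfl⟩ := ha
      obtain ⟨c₁, c₂, c₃, rfl⟩ := IsSl2Triple.mem_toLieSubalgebra_iff.mp
        (hspan ▸ LieSubalgebra.mem_top x : x ∈ t.toLieSubalgebra k)
      rw [t.lie_e_f, add_lie, add_lie, smul_lie, smul_lie, smul_lie]
      refine add_mem (add_mem (Submodule.smul_mem _ _ ?_) (Submodule.smul_mem _ _ ?_)) (Submodule.smul_mem _ _ ?_)
      · rcases i with _ | j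
        · simp [ψ, P.lie_e]
        · show ⁅e, (LieModule.toEnd k L U f ^ (j + 1)) m⁆ ∈ _
          rw [P.lie_e_pow_succ_toEnd_f]
          exact Submodule.smul_mem _ _ (hmem j (by omega))
      · show ⁅f, (LieModule.toEnd k L U f ^ i) m⁆ ∈ _
        rw [P.lie_f_pow_toEnd_f]
        exact hmem (i + 1) (by omega)
      · show ⁅h, (LieModule.toEnd k L U f ^ i) m⁆ ∈ _
        rw [P.lie_h_pow_toEnd_f]
        exact Submodule.smul_mem _ _ (hmem i (by omega))
  have htop : Submodule.span k (Set.range ψ) = ⊤ := by
    let N : LieSubmodule k L U :=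
      { toSubmodule := Submodule.span k (Set.range ψ)
        lie_mem := fun {x y} hy => hgen x y hy }
    have hN : N ≠ ⊥ := by
      intro hb
      have : ψ 0 ∈ N := Submodule.subset_span ⟨0, rfl⟩
      rw [hb, LieSubmodule.mem_bot] at this
      exact hne 0 this
    have := (IsSimpleOrder.eq_bot_or_eq_top N).resolve_left hN
    exact congrArg LieSubmodule.toSubmodule this
  let b : Module.Basis (Fin (n + 1)) k U := Module.Basis.mk hli htop.ge
  have hfr : Module.finrank k U = n + 1 := by rw [Module.finrank_eq_card_basis b, Fintype.card_fin]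
  rw [hfr, ← sum_sq_weights, LinearMap.trace_eq_matrix_trace k b, Finset.sum_range]
  refine Finset.sum_congr rfl fun i _ => ?_
  rw [Matrix.diag_apply, LinearMap.toMatrix_apply]
  have hb : b i = ψ i := Module.Basis.mk_apply _ _ i
  rw [sq (LieModule.toEnd k L U h), Module.End.mul_apply, hb, hH, map_smul, hH, smul_smul, ← hb, map_smul,
    b.repr_self, Finsupp.smul_single, Finsupp.single_eq_same, smul_eq_mul, mul_one, sq]

/-- Let k be an algebraically closed field of characteristic zero, L a Lie algebra over k spanned by an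
sl_2-triple (h, e, f), and V a finite-dimensional L-module written as an internal direct sum of
finitely many irreducible Lie submodules V_i. Then the trace on V of the square of the action of h
is 2 Σ_i C(dim V_i + 1, 3). (The published statement concerns a finite-dimensional representation V
of a simple Lie algebra restricted to the copy of sl_2 attached to the highest root θ, with h the
coroot θ^∨; there Σ_i C(dim V_i + 1, 3) is the index of V, and the trace is the sum over the weights
λ of V, with multiplicity, of ⟨λ, θ^∨⟩².) -/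
theorem result
    (k : Type u) [Field k] [IsAlgClosed k] [CharZero k]
    (L : Type v) [LieRing L] [LieAlgebra k L]
    (h e f : L) (t : IsSl2Triple h e f) (hspan : t.toLieSubalgebra k = ⊤)
    (V : Type w) [AddCommGroup V] [Module k V] [LieRingModule L V] [LieModule k L V]
    [FiniteDimensional k V]
    (ι : Type) [Fintype ι] [DecidableEq ι] (W : ι → LieSubmodule k L V)
    (hW : DirectSum.IsInternal fun i => (W i).toSubmodule)
    (hirr : ∀ i, LieModule.IsIrreducible k L (W i)) :
    LinearMap.trace k V ((LieModule.toEnd k L V h) ^ 2) =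
      2 * ∑ i, (((Module.finrank k (W i) + 1).choose 3 : ℕ) : k) := by
  rw [LinearMap.trace_eq_sum_trace_restrict hW (f := LieModule.toEnd k L V h ^ 2)
    (fun i => fun x hx => by
      rw [sq, Module.End.mul_apply]
      exact (W i).lie_mem ((W i).lie_mem hx)), Finset.mul_sum]
  refine Finset.sum_congr rfl fun i _ => ?_
  have := hirr i
  have : FiniteDimensional k (W i) := inferInstanceAs (FiniteDimensional k (W i).toSubmodule)
  rw [← trace_sq_irreducible t hspan (W i)]
  congr 1

end Groth.Agent.S17468
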