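import Mathlib
import Groth.Agent.NormalSect.Basic
import Groth.Statements.S17469
-- import your own Groth.Agent.* helpers here

set_option autoImplicit false
universe u
open CategoryTheory AlgebraicGeometry
open Variety

namespace Groth.Agent.S17469

set_option backward.isDefEq.respectTransparency false
set_option backward.isDefEq.respectTransparency.types false

/-- Let X be a locally Noetherian integral scheme all of whose local rings are integrally closed domains
and U an open subset of X. A section of O_X over U that is integral over the ring of global sections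
of X, the latter acting through restriction, is itself the restriction of a global section. (The
published lemma is stated for an irreducible normal variety and for the graded ring of sections over
U of all non-negative powers of a line bundle, integral over the corresponding ring of sections over
X; for the trivial line bundle its homogeneous components are the present statement, which is made
here for any locally Noetherian normal integral scheme.) -/
theorem result
    (X : Scheme.{u}) [AlgebraicGeometry.IsIntegral X] [IsLocallyNoetherian X]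
    (hX : Pi1.IsNormalScheme X) (U : X.Opens) (b : Γ(X, U))
    (hb : (X.presheaf.map (homOfLE le_top : U ⟶ ⊤).op).hom.IsIntegralElem b) :
    b ∈ Set.range (X.presheaf.map (homOfLE le_top : U ⟶ ⊤).op).hom := by
  rcases isEmpty_or_nonempty U with hUe | hUne
  · have he : U = ⊥ := by
      ext y
      exact ⟨fun hy => (hUe.false ⟨y, hy⟩).elim, False.elim⟩
    haveI : Subsingleton Γ(X, U) := by rw [he]; infer_instance
    exact ⟨0, Subsingleton.elim _ _⟩
  haveI : Nonempty (⊤ : X.Opens) := ⟨⟨(Classical.arbitrary U).1, trivial⟩⟩
  let β : X.functionField := X.germToFunctionField U b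
  have hres : ∀ (W : X.Opens) [Nonempty W] (c : Γ(X, ⊤)),
      X.germToFunctionField W ((X.presheaf.map (homOfLE le_top : W ⟶ ⊤).op).hom c) = X.germToFunctionField ⊤ c :=
    fun W _ c => X.presheaf.germ_res_apply _ _ _ c
  obtain ⟨p, hp, hpb⟩ := hb
  let ι := {V : X.affineOpens // Nonempty (V.1 : X.Opens)}
  have hloc : ∀ V : ι, ∃ t : Γ(X, V.1.1), haveI := V.2; X.germToFunctionField V.1.1 t = β := by
    intro V
    haveI := V.2
    haveI := Groth.Agent.NormalSect.isIntegrallyClosed_section hX V.1.2
    haveI := functionField_isFractionRing_of_isAffineOpen X V.1.1 V.1.2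
    have hint : _root_.IsIntegral Γ(X, V.1.1) β := by
      refine ⟨p.map (X.presheaf.map (homOfLE le_top : V.1.1 ⟶ ⊤).op).hom, hp.map _, ?_⟩
      rw [Polynomial.eval₂_map]
      have e : (algebraMap Γ(X, V.1.1) X.functionField).comp (X.presheaf.map (homOfLE le_top : V.1.1 ⟶ ⊤).op).hom =
          (X.germToFunctionField U).hom.comp (X.presheaf.map (homOfLE le_top : U ⟶ ⊤).op).hom :=
        RingHom.ext fun c => (hres V.1.1 c).trans (hres U c).symm
      rw [e]
      show Polynomial.eval₂ _ ((X.germToFunctionField U).hom b) p = 0
      rw [← Polynomial.hom_eval₂, hpb, map_zero]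
    obtain ⟨t, ht⟩ := IsIntegrallyClosed.isIntegral_iff.mp hint
    exact ⟨t, ht⟩
  choose t ht using hloc
  have hcov : (⊤ : X.Opens) ≤ iSup fun V : ι => V.1.1 := by
    intro y _
    obtain ⟨V, hV, hy, -⟩ := exists_isAffineOpen_mem_and_subset (x := y) (U := (⊤ : X.Opens)) trivial
    exact TopologicalSpace.Opens.mem_iSup.mpr ⟨⟨⟨V, hV⟩, ⟨⟨y, hy⟩⟩⟩, hy⟩
  have hcompat : TopCat.Presheaf.IsCompatible X.presheaf (fun V : ι => V.1.1) t := by
    intro V W
    haveI := V.2
    haveI := W.2
    by_cases hne : Nonempty (V.1.1 ⊓ W.1.1 : X.Opens)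
    · exact X.germToFunctionField_injective (V.1.1 ⊓ W.1.1)
        ((X.presheaf.germ_res_apply _ _ _ _).trans ((ht V).trans ((ht W).symm.trans (X.presheaf.germ_res_apply _ _ _ _).symm)))
    · have he : (V.1.1 ⊓ W.1.1 : X.Opens) = ⊥ := by
        ext y
        exact ⟨fun hy => (hne ⟨⟨y, hy⟩⟩).elim, False.elim⟩
      haveI : Subsingleton Γ(X, V.1.1 ⊓ W.1.1) := by rw [he]; infer_instance
      exact Subsingleton.elim _ _
  obtain ⟨c, hc, -⟩ := X.sheaf.existsUnique_gluing' (fun V : ι => V.1.1) ⊤ (fun V => homOfLE le_top) hcov t hcompat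
  obtain ⟨V₀, hV₀, hyV, -⟩ := exists_isAffineOpen_mem_and_subset (x := (Classical.arbitrary U).1) (U := (⊤ : X.Opens)) trivial
  let V : ι := ⟨⟨V₀, hV₀⟩, ⟨⟨_, hyV⟩⟩⟩
  haveI := V.2
  refine ⟨c, X.germToFunctionField_injective U ((hres U c).trans ?_)⟩
  exact ((hres V.1.1 c).symm.trans (congrArg (X.germToFunctionField V.1.1) (hc V))).trans (ht V)

end Groth.Agent.S17469
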