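import Groth.Statements.S17470
import Groth.Agent.AnBasic.Units
import Mathlib

set_option autoImplicit false
open CategoryTheory AlgebraicGeometry
open An

namespace Groth.Agent.S17470

/-- Let X be a connected variety over ℂ (reduced, separated and of finite type over ℂ, connected) and u
a regular function on X with no zero at any ℂ-point, viewed as a regular map X → ℂ^×. If the
continuous map it induces from the ℂ-points X(ℂ), with their complex topology, to ℂ^× is
null-homotopic, then u has the same value at all ℂ-points: a null-homotopic regular map from a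
connected complex variety to ℂ^× is constant. -/
theorem result
    (X : Scheme.{0}) [X.Over An.SC] [IsReduced X]
    [LocallyOfFiniteType (X ↘ An.SC)] [QuasiCompact (X ↘ An.SC)] [IsSeparated (X ↘ An.SC)]
    [ConnectedSpace X] (u : Γ(X, ⊤))
    (φ : C(An.Pts X, {z : ℂ // z ≠ 0})) (hφ : ∀ x : An.Pts X, (φ x).1 = x.evTop u)
    (z₀ : {z : ℂ // z ≠ 0}) (hnull : φ.Homotopic (ContinuousMap.const (An.Pts X) z₀)) :
    ∀ x y : An.Pts X, x.evTop u = y.evTop u := by
  intro x y
  -- a continuous logarithm
  obtain ⟨H⟩ := hnull.symm
  have cov := Complex.isCoveringMap_exp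
  let f₀ : C(An.Pts X, ℂ) := ContinuousMap.const _ (Complex.log z₀.1)
  have H0 : ∀ a, H.toContinuousMap (0, a) = (⟨Complex.exp (f₀ a), Complex.exp_ne_zero _⟩ : {z : ℂ // z ≠ 0}) := fun a => by
    refine (H.apply_zero a).trans (Subtype.ext ?_)
    exact (Complex.exp_log z₀.2).symm
  let Lh := cov.liftHomotopy H.toContinuousMap f₀ H0
  let h : An.Pts X → ℂ := fun a => Lh (1, a)
  have hc : Continuous h := Lh.continuous.comp (continuous_const.prodMk continuous_id)
  have he : ∀ a, Complex.exp (h a) = a.evTop u := fun a => by
    have := congrFun (cov.liftHomotopy_lifts H.toContinuousMap f₀ H0) (1, a)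
    rw [← hφ a]
    exact congrArg Subtype.val (this.trans (H.apply_one a))
  have hl : IsLocallyConstant fun a : An.Pts X => a.evTop u := by
    rw [IsLocallyConstant.iff_eventually_eq]
    intro a
    obtain ⟨N, hN, hNη⟩ := AnBasic.exists_nhds_generization a.pt
    filter_upwards [An.Pts.continuous_pt.continuousAt.preimage_mem_nhds hN] with c hc'
    obtain ⟨η, h1, h2⟩ := hNη c.pt hc'
    exact AnBasic.evTop_eq_of_log η u h hc he c (specializes_iff_mem_closure.1 h1) a (specializes_iff_mem_closure.1 h2)
  haveI : PreconnectedSpace (An.Pts X) := by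
    refine preconnectedSpace_iff_connectedComponent.2 fun b => Set.eq_univ_of_forall fun c => ?_
    have : _root_.ConnectedComponents.mk b = _root_.ConnectedComponents.mk c :=
      AnBasic.connectedComponentsMap_bijective.injective (Subsingleton.elim _ _)
    rw [_root_.ConnectedComponents.coe_eq_coe.1 this]
    exact mem_connectedComponent
  exact hl.apply_eq_of_preconnectedSpace x y

end Groth.Agent.S17470
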