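import Groth.Statements.S17471
import Groth.Agent.RootBase.Weyl

set_option autoImplicit false
universe u v w x
open RootCh

namespace Groth.Agent.S17471

/-- Let Φ be a finite, reduced, crystallographic, irreducible root system with a base, and θ a positive
root such that θ + β is a root for no positive root β (so θ is the highest root). Then Σ_{β>0} ⟨β,
θ^∨⟩² = 2 + Σ_{β>0} ⟨β, θ^∨⟩ = 2(1 + ⟨ρ, θ^∨⟩), ρ being half the sum of the positive roots; in the
source the left side is the index of the adjoint representation obtained from its formal character,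
and 1 + ⟨ρ, θ^∨⟩ is the dual Coxeter number. -/
theorem result
    {ι : Type u} {R : Type v} {M : Type w} {N : Type x}
    [Field R] [LinearOrder R] [IsStrictOrderedRing R]
    [AddCommGroup M] [Module R M] [AddCommGroup N] [Module R N] [Fintype ι]
    (P : RootPairing ι R M N) [P.IsRootSystem] [P.IsCrystallographic] [P.IsReduced]
    [P.IsIrreducible] (b : P.Base) (θ : ι) (hθ : b.IsPos θ)
    (hmax : ∀ i : ι, b.IsPos i → P.root θ + P.root i ∉ Set.range P.root) :
    ∑ i ∈ Finset.univ.filter (fun i => 0 < b.height i), P.pairing i θ ^ 2 =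
      2 + ∑ i ∈ Finset.univ.filter (fun i => 0 < b.height i), P.pairing i θ := by
  classical
  have hθmem : θ ∈ Finset.univ.filter (fun i => 0 < b.height i) :=
    Finset.mem_filter.mpr ⟨Finset.mem_univ _, hθ⟩
  rw [← Finset.add_sum_erase _ _ hθmem, ← Finset.add_sum_erase _ _ hθmem]
  have key : ∀ i ∈ (Finset.univ.filter (fun i => 0 < b.height i)).erase θ,
      P.pairing i θ ^ 2 = P.pairing i θ := by
    intro i hi
    obtain ⟨hne, hi⟩ := Finset.mem_erase.mp hi
    have hpos : b.IsPos i := (Finset.mem_filter.mp hi).2
    set c : ℤ := P.pairingIn ℤ i θ with hc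
    have hcast : P.pairing i θ = (c : R) := by
      rw [hc, ← P.algebraMap_pairingIn ℤ i θ]; rfl
    suffices c = 0 ∨ c = 1 by rcases this with h | h <;> simp [hcast, h]
    have h0 : 0 ≤ c := by
      by_contra h
      push Not at h
      obtain ⟨k, hk⟩ := P.root_add_root_mem_of_pairingIn_neg h (fun e => by
        have e' : i = P.reflectionPerm θ θ := P.root.injective (by rw [e]; simp)
        exact (Groth.Agent.RootBase.isPos_neg_iff b θ).mp (e' ▸ hpos) hθ)
      exact hmax i hpos ⟨k, by rw [hk]; abel⟩
    by_contra hne2
    push Not at hne2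
    have h2 : 2 ≤ c := by omega
    obtain ⟨k, hk⟩ := P.root_sub_root_mem_of_pairingIn_pos (show 0 < P.pairingIn ℤ i θ by omega) hne
    have hknp : ¬ b.IsPos k := fun h => hmax k h ⟨i, by rw [hk]; abel⟩
    have hknp' : b.IsPos (P.reflectionPerm k k) :=
      (Groth.Agent.RootBase.isPos_neg_iff b k).mpr hknp
    obtain ⟨l, hl⟩ : P.root k - P.root θ ∈ Set.range P.root := by
      rcases h2.lt_or_eq with h3 | h3
      · refine P.root_sub_root_mem_of_pairingIn_pos ?_ (fun e => hknp (e ▸ hθ))
        have e2 : P.pairing k θ = ((c - 2 : ℤ) : R) := by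
          have e1 : P.root i = P.root k + P.root θ := by rw [hk]; abel
          have e3 := RootPairing.pairing_eq_add_of_root_eq_add (l := θ) e1
          rw [hcast, RootPairing.pairing_same] at e3
          push_cast
          linear_combination -e3
        rw [← P.algebraMap_pairingIn ℤ k θ] at e2
        have : P.pairingIn ℤ k θ = c - 2 := Int.cast_injective (α := R) e2
        omega
      · refine ⟨P.reflectionPerm θ i, ?_⟩
        rw [P.root_reflectionPerm, P.reflection_apply_root, hcast, ← h3, hk]
        push_cast
        rw [two_smul]; abel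
    refine hmax _ hknp' ⟨P.reflectionPerm l l, ?_⟩
    rw [show P.root (P.reflectionPerm l l) = -P.root l by simp,
      show P.root (P.reflectionPerm k k) = -P.root k by simp, hl]
    abel
  rw [Finset.sum_congr rfl key, RootPairing.pairing_same]
  ring

end Groth.Agent.S17471
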