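import Groth.Statements.S17472
import Groth.Agent.ComodBasic.Cartier
import Groth.Agent.ComodBasic.UnitChar
import Groth.Agent.HopfFF.SmoothRed


set_option autoImplicit false
universe u
open HopfAlg

namespace Groth.Agent.S17472

set_option maxHeartbeats 1000000
open TensorProduct WithConv CoalgebraStruct HopfRep Groth.Agent Groth.Agent.ComodBasic


theorem actPt_eq_eps {k A : Type*} [Field k] [CommRing A] [HopfAlgebra k A] [GLin.IsCoactAlg k A A]
    (g h : A →ₐ[k] k) (e : (toConv g * toConv h).ofConv = Bialgebra.counitAlgHom k A) :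
    GLin.actPt k h g = Bialgebra.counitAlgHom k A := by
  refine AlgHom.ext fun a => ?_
  change h (GLin.orbitHom k A g a) = _
  refine Eq.trans ?_ (DFunLike.congr_fun e a)
  change _ = Algebra.TensorProduct.lmul' k (Algebra.TensorProduct.map g h (comul (R := k) a))
  rw [orbitHom_eq_coef, coef_apply]
  change h (lslice g.toLinearMap (comul (R := k) a)) = _
  generalize comul (R := k) a = z
  induction z using TensorProduct.induction_on with
  | zero => simp
  | add p q hp hq => simp only [map_add, hp, hq]
  | tmul p q => simp [mul_comm]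


/-- Let k be an algebraically closed field and A a commutative Hopf algebra over k, finitely generated
as a k-algebra, whose only idempotents are 0 and 1 (so that Spec A is a connected affine algebraic
group over k, possibly non-reduced). Let m be the kernel of the counit, the ideal of the neutral
element. Then the intersection of the powers m^n, n ≥ 0, is the zero ideal; equivalently the
infinitesimal neighbourhoods Spec (A/m^n) of the neutral element are jointly schematically dense.
(The published statement assumes the group smooth, that is, a connected linear algebraic group; the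
statement here allows any connected affine algebraic group, possibly non-reduced, a case the
published argument also treats.) -/
theorem result (k : Type u) [Field k] [IsAlgClosed k]
    (A : Type u) [CommRing A] [HopfAlgebra k A] [Algebra.FiniteType k A]
    (hconn : ∀ e : A, IsIdempotentElem e → e = 0 ∨ e = 1) :
    (⨅ n : ℕ, RingHom.ker (Bialgebra.counitAlgHom k A) ^ n) = ⊥ := by
  haveI : IsNoetherianRing A := Algebra.FiniteType.isNoetherianRing k A
  haveI : GLin.IsCoactAlg k A A := isCoactAlg_regular
  let eps := Bialgebra.counitAlgHom k A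
  let I : Ideal A := ⨅ n : ℕ, RingHom.ker eps ^ n
  show I = ⊥
  let τ : (A →ₐ[k] k) → A →ₐ[k] A := fun g => GLin.orbitHom k A g
  let mu : (A →ₐ[k] k) → (A →ₐ[k] k) → (A →ₐ[k] k) := fun g h => GLin.actPt k g h
  have hcomp : ∀ g h : A →ₐ[k] k, ∀ a : A, τ h (τ g a) = τ (mu h g) a := fun g h a => orbitHom_comp g h a
  have heps : ∀ g : A →ₐ[k] k, ∀ a : A, eps (τ g a) = g a := fun g a => counit_orbitHom g a
  have hid : ∀ a : A, τ eps a = a := by
    intro a
    show GLin.orbitHom k A _ a = a
    rw [orbitHom_eq_coef, coef_apply]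
    change lslice (counit (R := k)) (comul (R := k) a) = a
    rw [lslice, LinearMap.comp_apply, Coalgebra.rTensor_counit_comul]
    simp
  have hinv : ∀ g : A →ₐ[k] k, ∃ h : A →ₐ[k] k, mu h g = eps ∧ mu g h = eps := by
    intro g
    refine ⟨((toConv g)⁻¹).ofConv, ?_, ?_⟩
    · exact actPt_eq_eps g _ (by rw [WithConv.toConv_ofConv, mul_inv_cancel]; rfl)
    · exact actPt_eq_eps _ g (by rw [WithConv.toConv_ofConv, inv_mul_cancel]; rfl)
  have hsurj : ∀ g, Function.Surjective (τ g) := by
    intro g a
    obtain ⟨h, h1, h2⟩ := hinv g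
    exact ⟨τ h a, by rw [hcomp, h2, hid]⟩
  -- a single annihilator of `I` which is `1` at the origin
  obtain ⟨s, hs1, hsI⟩ : ∃ s : A, eps s = 1 ∧ ∀ x ∈ I, s * x = 0 := by
    have hmem : ∀ x ∈ I, ∃ r : A, eps r = 1 ∧ r * x = 0 := by
      intro x hx
      have hmem : x ∈ (⨅ i : ℕ, RingHom.ker eps ^ i • (⊤ : Submodule A A)) := by
        rw [Submodule.mem_iInf]
        intro i
        simpa using (Submodule.mem_iInf _).1 hx i
      obtain ⟨r, hr⟩ := (Ideal.mem_iInf_smul_pow_eq_bot_iff _ x).1 hmem
      refine ⟨1 - (r : A), ?_, ?_⟩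
      · have h0 : eps (r : A) = 0 := r.2
        rw [map_sub, map_one, h0, sub_zero]
      · rw [sub_mul, one_mul, sub_eq_zero]
        exact hr.symm
    obtain ⟨t, ht⟩ := IsNoetherian.noetherian I
    choose! r hr1 hr2 using hmem
    refine ⟨∏ x ∈ t, r x, ?_, fun x hx => ?_⟩
    · rw [map_prod]
      exact Finset.prod_eq_one fun y hy => hr1 y (ht ▸ Submodule.subset_span hy)
    · rw [← ht] at hx
      induction hx using Submodule.span_induction with
      | mem y hy =>
        obtain ⟨c, hc⟩ := Finset.dvd_prod_of_mem r (Finset.mem_coe.1 hy)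
        rw [hc, mul_comm (r y) c, mul_assoc, hr2 y (ht ▸ Submodule.subset_span hy), mul_zero]
      | zero => exact mul_zero _
      | add y z _ _ h1 h2 => rw [mul_add, h1, h2, add_zero]
      | smul c y _ h => rw [smul_eq_mul, mul_left_comm, h, mul_zero]
  -- transport of the powers
  have hcom : ∀ g : A →ₐ[k] k, ∀ n : ℕ, RingHom.ker g ^ n ≤ (RingHom.ker eps ^ n).comap (τ g) := by
    intro g n
    refine le_trans (Ideal.pow_right_mono ?_ n) (Ideal.le_comap_pow _ n)
    intro a ha
    show eps (τ g a) = 0
    rw [heps]; exact ha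
  let Φ : (A →ₐ[k] k) → Ideal A → Ideal A := fun g J => J.comap (τ g)
  have hΦ : ∀ g h J, Φ g (Φ h J) = Φ (mu h g) J := by
    intro g h J
    ext a
    show τ h (τ g a) ∈ J ↔ τ (mu h g) a ∈ J
    rw [hcomp]
  have hΦid : ∀ J, Φ eps J = J := by
    intro J; ext a
    show τ eps a ∈ J ↔ a ∈ J
    rw [hid]
  -- near the origin the translations fix `I`
  have hnear : ∀ g : A →ₐ[k] k, g s ≠ 0 → Φ g I = I := by
    intro g hg
    have hle : I ≤ Φ g I := by
      intro x hx
      show τ g x ∈ ⨅ n : ℕ, RingHom.ker eps ^ n
      rw [Submodule.mem_iInf]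
      intro n
      refine hcom g n ?_
      have hu : (1 : A) ∈ Ideal.span {s} ⊔ RingHom.ker g ^ n := by
        rw [← Ideal.eq_top_iff_one]
        refine Ideal.sup_pow_eq_top ?_
        rw [Ideal.eq_top_iff_one]
        have : (1 : A) = algebraMap k A (g s)⁻¹ * s + (1 - algebraMap k A (g s)⁻¹ * s) := by ring
        rw [this]
        refine Submodule.add_mem_sup (Ideal.mul_mem_left _ _ (Ideal.mem_span_singleton_self s)) ?_
        show g _ = 0
        rw [map_sub, map_mul, AlgHom.commutes, map_one]
        simp [inv_mul_cancel₀ hg]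
      obtain ⟨a, ha, b, hb, hab⟩ := Submodule.mem_sup.1 hu
      obtain ⟨c, rfl⟩ := Ideal.mem_span_singleton'.1 ha
      have : x = b * x := by
        conv_lhs => rw [← one_mul x, ← hab, add_mul, mul_assoc, hsI x hx, mul_zero, zero_add]
      rw [this]
      exact Ideal.mul_mem_right _ _ hb
    have hmono : Monotone (fun n : ℕ => (Φ g)^[n] I) := by
      refine monotone_nat_of_le_succ fun n => ?_
      induction n with
      | zero => exact hle
      | succ n ih =>
        rw [Function.iterate_succ_apply', Function.iterate_succ_apply']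
        exact Ideal.comap_mono ih
    obtain ⟨N, hN⟩ := monotone_stabilizes_iff_noetherian.2 ‹IsNoetherianRing A› ⟨_, hmono⟩
    have h := hN (N + 1) N.le_succ
    have hinj : Function.Injective ((Φ g)^[N]) :=
      (Ideal.comap_injective_of_surjective _ (hsurj g)).iterate N
    exact (hinj (by
      have h' : (Φ g)^[N] I = (Φ g)^[N + 1] I := h
      rw [h', Function.iterate_succ_apply])).symm
  -- irreducibility
  haveI : (nilradical A).IsHopfIdeal k := HopfFF.SmoothCrit.isHopfIdeal_nilradical
  haveI : Algebra.FiniteType k (A ⧸ nilradical A) :=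
    (inferInstance : Algebra.FiniteType k A).of_surjective (Ideal.Quotient.mkₐ k _)
      Ideal.Quotient.mk_surjective
  haveI : _root_.IsReduced (A ⧸ nilradical A) :=
    (Ideal.isRadical_iff_quotient_reduced _).1 (Ideal.radical_isRadical _)
  haveI hdom : IsDomain (A ⧸ nilradical A) := by
    refine isDomain_of_connected_reduced (k := k) fun e he => ?_
    obtain ⟨e', he', rfl⟩ := exists_isIdempotentElem_eq_of_ker_isNilpotent (Ideal.Quotient.mk (nilradical A))
      (fun x hx => mem_nilradical.1 (Ideal.Quotient.eq_zero_iff_mem.1 hx)) e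
      (Ideal.Quotient.mk_surjective e) he
    rcases hconn e' he' with h | h <;> simp [h]
  have hall : ∀ g : A →ₐ[k] k, Φ g I = I := by
    intro g
    have hsn : ¬ IsNilpotent s := fun h => one_ne_zero (α := k) (hs1 ▸ (h.map eps).eq_zero)
    have hτn : ¬ IsNilpotent (τ g s) := by
      intro h
      obtain ⟨g', h1, h2⟩ := hinv g
      refine hsn ?_
      have := h.map (τ g')
      rwa [hcomp, h1, hid] at this
    have hnil : ¬ IsNilpotent (s * τ g s) := by
      intro h
      have h0 : Ideal.Quotient.mk (nilradical A) (s * τ g s) = 0 :=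
        Ideal.Quotient.eq_zero_iff_mem.2 (mem_nilradical.2 h)
      rw [map_mul, mul_eq_zero, Ideal.Quotient.eq_zero_iff_mem, Ideal.Quotient.eq_zero_iff_mem,
        mem_nilradical, mem_nilradical] at h0
      rcases h0 with h0 | h0
      exacts [hsn h0, hτn h0]
    obtain ⟨u, hu⟩ : ∃ u : A →ₐ[k] k, u (s * τ g s) ≠ 0 := by
      by_contra hne
      simp only [not_exists, not_not] at hne
      exact hnil (HopfFF.SmoothCrit.isNilpotent_of_forall_point hne)
    rw [map_mul, mul_ne_zero_iff] at hu
    have hv : Φ (mu u g) I = I := hnear _ hu.2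
    rw [← hΦ, hnear u hu.1] at hv
    exact hv
  -- conclusion
  have htop : (⊥ : Ideal A).colon (I : Set A) = ⊤ := by
    by_contra hne
    obtain ⟨M, hM, hle⟩ := Ideal.exists_le_maximal _ hne
    obtain ⟨g, rfl⟩ := exists_point_ker_eq (k := k) M
    obtain ⟨s', hs'⟩ := hsurj g s
    have hmem : s' ∈ (⊥ : Ideal A).colon (I : Set A) := by
      rw [Submodule.mem_colon]
      intro x hx
      have hx' : τ g x ∈ I := by
        rw [← hall g] at hx
        exact hx
      obtain ⟨g', h1, h2⟩ := hinv g
      have h3 : τ g (s' * x) = 0 := by rw [map_mul, hs', hsI _ hx']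
      have h4 := congrArg (τ g') h3
      rw [hcomp, h1, hid, map_zero] at h4
      simpa using h4
    have h5 : g s' = 0 := hle hmem
    rw [← heps, hs', hs1] at h5
    exact one_ne_zero h5
  refine eq_bot_iff.2 fun x hx => ?_
  have h1 : (1 : A) ∈ (⊥ : Ideal A).colon (I : Set A) := htop ▸ Submodule.mem_top
  rw [Submodule.mem_colon] at h1
  simpa using h1 x hx

end Groth.Agent.S17472
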