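import Groth.Statements.S17483
-- import your own Groth.Agent.* helpers here
import Groth.Agent.SurfRR.H1Ideal
import Groth.Agent.SurfRR.Smooth
import Groth.Agent.S8914
import Groth.Agent.InvPow.DualBasis
import Groth.Agent.InvPow.VeryAmpleTwist
import Groth.Agent.NegVanish.Main
import Groth.Agent.ConnDiv.Loci
import Groth.Agent.CurveDeg.Basic
import Groth.Agent.IntTh.Surface
import Groth.Agent.HilbPoly.Cartier

set_option autoImplicit false
universe u
open CategoryTheory CategoryTheory.Limits AlgebraicGeometry
open Surf

namespace Groth.Agent.S17483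

/-- Let k be an algebraically closed field of characteristic zero and X a smooth projective surface over
k (an integral scheme of dimension two with all local rings regular, admitting a closed immersion
into some P^n_k over k) such that H^1(X, O_X) = 0. Let D be a closed subscheme of X, given by a
quasi-coherent ideal sheaf whose associated O_X-module I_D is invertible (an effective divisor). If
D is connected and reduced, then H^1(X, I_D) = 0. (The published statement asserts H^1(X, I_D) = 0
as soon as the linear system of D contains a connected curve, without reducedness; that fails: on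
the blow-up of the projective plane at a point, with exceptional curve E, the divisor D = 2E is
connected and is the only member of its linear system, yet H^0(O_{2E}) is three-dimensional, so
H^1(X, I_{2E}) is two-dimensional. The published statement is for rational surfaces; this row
assumes H^1(X, O_X) = 0 instead.) -/
theorem result
    (k : Type u) [Field k] [IsAlgClosed k] [CharZero k]
    (X : Scheme.{u}) [X.Over (Spec (CommRingCat.of k))] [AlgebraicGeometry.IsIntegral X]
    (hdim : topologicalKrullDim X = 2) (hreg : ∀ x : X, IsRegularLocalRing (X.presheaf.stalk x))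
    (hproj : ∃ (n : ℕ) (ι : X ⟶ CohB1.ProjSpace n k), IsClosedImmersion ι ∧
      ι ≫ CohB1.ProjSpace.toSpec n k = (X ↘ (Spec (CommRingCat.of k))))
    (hH1 : Subsingleton (Coh.HH X (Coh.structureModule X) 1))
    (D : X.IdealSheafData) (hD : PicF.IsInvertible (ClSub.idealMod D))
    [ConnectedSpace ↥D.subscheme] [IsReduced D.subscheme] :
    Subsingleton (Coh.HH X (ClSub.idealMod D) 1) := by
  haveI := SurfRR.isProper_of_proj hproj
  haveI : IsLocallyNoetherian X := LocallyOfFiniteType.isLocallyNoetherian (X ↘ Spec (CommRingCat.of k))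
  letI : D.subscheme.Over (Spec (CommRingCat.of k)) := ⟨D.subschemeι ≫ (X ↘ Spec (CommRingCat.of k))⟩
  haveI : IsProper (D.subscheme ↘ Spec (CommRingCat.of k)) :=
    inferInstanceAs (IsProper (D.subschemeι ≫ (X ↘ Spec (CommRingCat.of k))))
  have hsupp : (D.support : Set X).Nonempty := by
    rw [← D.range_subschemeι]; exact Set.range_nonempty _
  obtain ⟨S, hS, e1, e2, e3⟩ := SurfRR.exists_ideal_ses D
  have hI : Coh.IsCoh (ClSub.idealMod D) := InvPow.isCoh_of_isInvertible hD
  have hO : Coh.IsCoh (Coh.structureModule X) := InvPow.isCoh_of_isInvertible (HilbPoly.isInvertible_structureModule X)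
  have h0 : Module.finrank k (Coh.HH X (ClSub.idealMod D) 0) = 0 := by
    by_contra h0
    obtain ⟨t, ht⟩ := IntTh.nonzero_section_of_HH (Module.nontrivial_of_finrank_pos (R := k) (Nat.pos_of_ne_zero h0))
    obtain ⟨M, ⟨Φ⟩⟩ := NegVanish.exists_inverse hD
    have hM := NegVanish.isInvertible_of_inverse hD ⟨Φ⟩
    have hOi := HilbPoly.isInvertible_structureModule X
    obtain ⟨c⟩ := ProjTwist.nonempty_tensorMod_comm M (ClSub.idealMod D)
    obtain ⟨σ, hσ⟩ := ConnDiv.exists_section_compl_support hD hM ⟨c ≪≫ Φ⟩
    have h1 : (ProjUniv.genOpen hD t : Set X).Nonempty := CurveDeg.genOpen_nonempty_of_ne_zero hD ht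
    have h2 : (ProjUniv.genOpen hM σ : Set X).Nonempty := by
      obtain ⟨U, hU, a, ha, hspan⟩ := (Groth.Agent.S8914.result D).1 hD (genericPoint X)
      refine ⟨genericPoint X, not_not.1 fun h => HilbPoly.notMem_support_of_maximal
        ((Groth.Agent.S8914.result D).1 hD) (fun y hy => hy.antisymm (genericPoint_specializes y) |>.eq) (hσ.le h)⟩
    have hne := nonempty_preirreducible_inter (ProjUniv.genOpen hD t).2 (ProjUniv.genOpen hM σ).2 h1 h2
    change ((ProjUniv.genOpen hD t ⊓ ProjUniv.genOpen hM σ : X.Opens) : Set X).Nonempty at hne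
    rw [← InvPow.genOpen_tmul hD hM, ← InvPow.gen_iff_of_iso (InvPow.isInvertible_tensorMod hD hM) hOi Φ] at hne
    set s := Φ.hom.app ⊤ (SecTwist.tmul _ _ ⊤ t σ)
    have hb := InvPow.isBasis_oneSec (X := X) ⊤
    obtain ⟨a, ha⟩ := InvPow.exists_coef hb (ProjUniv.gres (Coh.structureModule X) s ⊤)
    have h3 := InvPow.genOpen_inf_eq_basicOpen hOi hb ha
    rw [inf_top_eq] at h3
    have ha0 : a ≠ 0 := fun h => by
      rw [h3, h, Scheme.basicOpen_zero] at hne
      simp at hne
    have hu : IsUnit a := by
      letI := (isField_of_universallyClosed k (X ↘ Spec (CommRingCat.of k))).toField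
      exact isUnit_iff_ne_zero.2 ha0
    rw [Scheme.basicOpen_of_isUnit _ hu] at h3
    have h4 := InvPow.gen_iff_of_iso (InvPow.isInvertible_tensorMod hD hM) hOi Φ (SecTwist.tmul _ _ ⊤ t σ)
    rw [h3, InvPow.genOpen_tmul hD hM] at h4
    obtain ⟨x, hx⟩ := hsupp
    exact hσ.ge hx (h4.le trivial).2
  have h := SurfRR.finrank_h1_le k hS (e1 ▸ hI) (e2 ▸ hO) (e3 ▸ HilbPoly.isCoh_quotMod D) (e1 ▸ h0)
    (by rw [e2, e3, SurfRR.finrank_h0_quotMod, SurfRR.finrank_h0 k (X := X),
      SurfRR.finrank_h0_of_connected k (X := D.subscheme)])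
  rw [e1, e2] at h
  haveI := hH1
  rw [Module.finrank_zero_of_subsingleton (M := Coh.HH X (Coh.structureModule X) 1)] at h
  haveI : Module.Finite k (Coh.HH X (ClSub.idealMod D) 1) := HilbPoly.finite_HH (k := k) hI 1
  exact (Module.finrank_zero_iff (R := k)).1 (Nat.le_zero.1 h)

end Groth.Agent.S17483
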