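import Groth.Statements.S8925
import Mathlib.RingTheory.Flat.Basic
import Mathlib.RingTheory.TensorProduct.Basic
import Mathlib.LinearAlgebra.TensorProduct.Tower
open scoped TensorProduct

set_option autoImplicit false
universe u
open InjHull

namespace Groth.Agent.S8925

/-- If S is a flat R-algebra and E is an injective S-module, then E, viewed as an R-module by
restriction of scalars, is an injective R-module. -/
theorem result (R S : Type u) [CommRing R] [CommRing S] [Algebra R S] [Module.Flat R S] (E : Type u) [AddCommGroup E] [Module S E] [Module R E] [IsScalarTower R S E] [Module.Injective S E] : Module.Injective R E := by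
  refine ⟨fun X Y _ _ _ _ f hf g => ?_⟩
  let g' : TensorProduct R S X →ₗ[S] E := g.liftBaseChange S
  have hf' : Function.Injective (f.baseChange S) :=
    Module.Flat.lTensor_preserves_injective_linearMap (M := S) f hf
  obtain ⟨h, hh⟩ := (inferInstance : Module.Injective S E) |>.out (f.baseChange S) hf' g'
  refine ⟨(h.restrictScalars R) ∘ₗ (TensorProduct.mk R S Y 1), fun x => ?_⟩
  have := hh (1 ⊗ₜ[R] x)
  simpa [g'] using this

end Groth.Agent.S8925
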