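import Groth.Statements.S1750
import Groth.Agent.MatlisLib.Local
import Groth.Agent.S8925

set_option autoImplicit false
universe u
open InjHull

namespace Groth.Agent.S1750

/-- Let R → S be a flat local homomorphism of Noetherian local rings with m_R S = m_S inducing a
bijection on residue fields. If κ_S → E is an injective hull of the residue field of S over S, then
E regarded as an R-module is an injective hull of the residue field of R (for a suitable R-linear
map κ_R → E). -/
theorem result (R S : Type u) [CommRing R] [CommRing S] [IsLocalRing R] [IsLocalRing S] [IsNoetherianRing R] [IsNoetherianRing S] [Algebra R S] [IsLocalHom (algebraMap R S)] [Module.Flat R S] (hm : (IsLocalRing.maximalIdeal R).map (algebraMap R S) = IsLocalRing.maximalIdeal S) (hk : Function.Bijective (IsLocalRing.ResidueField.map (algebraMap R S))) (E : Type u) [AddCommGroup E] [Module S E] [Module R E] [IsScalarTower R S E] (f : IsLocalRing.ResidueField S →ₗ[S] E) (hf : InjHull.IsInjectiveHull f) : ∃ g : IsLocalRing.ResidueField R →ₗ[R] E, InjHull.IsInjectiveHull g := by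
  have hinj : Module.Injective R E := by
    haveI := hf.isInjective
    exact S8925.result R S E
  let g : IsLocalRing.ResidueField R →ₗ[R] E :=
    { toFun := fun x => f (IsLocalRing.ResidueField.map (algebraMap R S) x)
      map_add' := fun x y => by rw [map_add, map_add]
      map_smul' := fun r x => by
        rw [RingHom.id_apply, ← algebraMap_smul S r (f _), ← map_smul, Algebra.smul_def,
          Algebra.smul_def, map_mul, IsLocalRing.ResidueField.algebraMap_eq,
          IsLocalRing.ResidueField.map_residue, IsLocalRing.ResidueField.algebraMap_eq] }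
  refine ⟨g, MatlisLib.isInjectiveHull_iff.2 ⟨hf.injective.comp hk.1, hinj, fun x hx => ?_⟩⟩
  have hT : LocCoh.IsPowerTorsion (IsLocalRing.maximalIdeal R) E := fun e => by
    obtain ⟨n, hn⟩ := MatlisLib.isPowerTorsion hf e
    refine ⟨n, fun a ha => ?_⟩
    rw [← algebraMap_smul S a e]
    refine hn _ ?_
    rw [← hm, ← Ideal.map_pow]
    exact Ideal.mem_map_of_mem _ ha
  obtain ⟨r, hr0, hr⟩ := MatlisLib.exists_socle_multiple hT hx
  have hkill : ∀ b ∈ IsLocalRing.maximalIdeal S, b • (r • x) = 0 := by
    intro b hb
    rw [← hm] at hb
    induction hb using Submodule.span_induction with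
    | mem y hy => obtain ⟨a, ha, rfl⟩ := hy; rw [algebraMap_smul]; exact hr a ha
    | zero => exact zero_smul _ _
    | add u v _ _ hu hv => rw [add_smul, hu, hv, add_zero]
    | smul c u _ hu => rw [smul_eq_mul, mul_smul, hu, smul_zero]
  obtain ⟨c, hc⟩ := MatlisLib.mem_range_of_killed hf hkill
  obtain ⟨d, hd⟩ := hk.2 c
  exact ⟨r, hr0, d, (congrArg f hd).trans hc⟩

end Groth.Agent.S1750
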