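import Groth.Statements.S17500
import Mathlib.Tactic
import Mathlib.RingTheory.Flat.Tensor
import Mathlib.RingTheory.PrincipalIdealDomain
-- import your own Groth.Agent.* helpers here

set_option autoImplicit false
universe u
open TorsMod

namespace Groth.Agent.S17500

open TensorProduct

/-- Let p be a prime number, n a natural number and H a module over ℤ/p^nℤ. Then H is flat over ℤ/p^nℤ
if and only if, for every i with 0 ≤ i ≤ n, the kernel of multiplication by p^i on H coincides with
the image of multiplication by p^(n-i) on H. (The published item is phrased for an fppf sheaf of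
ℤ/p^nℤ-modules on a scheme; this is the case of a single module, which is the case the argument
treats.) -/
theorem result (p n : ℕ) [Fact p.Prime]
    (H : Type u) [AddCommGroup H] [Module (ZMod (p ^ n)) H] :
    Module.Flat (ZMod (p ^ n)) H ↔
      ∀ i : ℕ, i ≤ n →
        LinearMap.ker ((p ^ i : ZMod (p ^ n)) • (LinearMap.id : H →ₗ[ZMod (p ^ n)] H)) =
          LinearMap.range ((p ^ (n - i) : ZMod (p ^ n)) • (LinearMap.id : H →ₗ[ZMod (p ^ n)] H)) := by
  have hpp : (p : ℕ).Prime := Fact.out
  have hzero : ((p : ZMod (p ^ n)) ^ n) = 0 := by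
    rw [← Nat.cast_pow, ZMod.natCast_self]
  constructor
  · intro _ i hi
    have hex : Function.Exact (((p : ZMod (p ^ n)) ^ (n - i)) • (LinearMap.id : ZMod (p ^ n) →ₗ[ZMod (p ^ n)] ZMod (p ^ n)))
        (((p : ZMod (p ^ n)) ^ i) • (LinearMap.id : ZMod (p ^ n) →ₗ[ZMod (p ^ n)] ZMod (p ^ n))) := by
      intro y
      simp only [LinearMap.smul_apply, LinearMap.id_apply, smul_eq_mul, Set.mem_range]
      constructor
      · intro hy
        obtain ⟨a, rfl⟩ := ZMod.intCast_surjective y
        have h1 : (((p : ℤ) ^ i * a : ℤ) : ZMod (p ^ n)) = 0 := by push_cast; exact hy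
        rw [ZMod.intCast_zmod_eq_zero_iff_dvd] at h1
        push_cast at h1
        rw [show n = i + (n - i) by omega, pow_add] at h1
        obtain ⟨b, hb⟩ := (mul_dvd_mul_iff_left (pow_ne_zero i (Int.natCast_ne_zero.mpr hpp.ne_zero))).mp h1
        exact ⟨(b : ZMod (p ^ n)), by rw [hb]; push_cast; ring⟩
      · rintro ⟨z, rfl⟩
        rw [← mul_assoc, ← pow_add, show i + (n - i) = n by omega, hzero, zero_mul]
    have h := Module.Flat.rTensor_exact (M := H) hex
    have hconj : ∀ (c : ZMod (p ^ n)) (x : ZMod (p ^ n) ⊗[ZMod (p ^ n)] H),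
        TensorProduct.lid (ZMod (p ^ n)) H ((c • (LinearMap.id : ZMod (p ^ n) →ₗ[ZMod (p ^ n)] ZMod (p ^ n))).rTensor H x) =
          c • TensorProduct.lid (ZMod (p ^ n)) H x := by
      intro c x
      rw [LinearMap.rTensor_smul, LinearMap.smul_apply, LinearMap.rTensor_id, LinearMap.id_apply, map_smul]
    ext x
    simp only [LinearMap.mem_ker, LinearMap.mem_range, LinearMap.smul_apply, LinearMap.id_apply]
    constructor
    · intro hx
      obtain ⟨z, hz⟩ := (h ((TensorProduct.lid _ H).symm x)).mp ((TensorProduct.lid _ H).injective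
        (by rw [hconj, LinearEquiv.apply_symm_apply, hx, map_zero]))
      refine ⟨TensorProduct.lid _ H z, ?_⟩
      rw [← hconj, hz, LinearEquiv.apply_symm_apply]
    · rintro ⟨y, rfl⟩
      rw [smul_smul, ← pow_add, show i + (n - i) = n by omega, hzero, zero_smul]
  · intro h
    rw [Module.Flat.iff_rTensor_injective']
    intro I
    obtain ⟨g, hg⟩ := (IsPrincipalIdealRing.principal (I.comap (Int.castRingHom (ZMod (p ^ n))))).principal
    have hI : I = Ideal.span {(g : ZMod (p ^ n))} := by
      conv_lhs => rw [← Ideal.map_comap_of_surjective (Int.castRingHom (ZMod (p ^ n))) ZMod.intCast_surjective I, hg]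
      simp [Ideal.submodule_span_eq, Ideal.map_span]
    have hdvd : g.natAbs ∣ p ^ n := by
      have h1 : (((p : ℤ) ^ n) : ℤ) ∈ I.comap (Int.castRingHom (ZMod (p ^ n))) := by
        rw [Ideal.mem_comap, map_pow, eq_intCast, Int.cast_natCast, hzero]
        exact I.zero_mem
      rw [hg, Ideal.submodule_span_eq, Ideal.mem_span_singleton] at h1
      have := Int.natAbs_dvd_natAbs.mpr h1
      simpa [Int.natAbs_pow] using this
    obtain ⟨i, hi, hgi⟩ := (Nat.dvd_prime_pow hpp).mp hdvd
    have hI' : I = Ideal.span {((p : ZMod (p ^ n)) ^ i)} := by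
      rw [hI]
      rcases Int.natAbs_eq g with hg' | hg' <;> rw [hg', hgi] <;> push_cast
      · rfl
      · exact Ideal.span_singleton_neg _
    subst hI'
    intro x y hxy
    have hgen : ∀ z : (Ideal.span {((p : ZMod (p ^ n)) ^ i)}) ⊗[ZMod (p ^ n)] H,
        ∃ w : H, z = (⟨_, Ideal.mem_span_singleton_self _⟩ :
          Ideal.span {((p : ZMod (p ^ n)) ^ i)}) ⊗ₜ w := by
      intro z
      induction z using TensorProduct.induction_on with
      | zero => exact ⟨0, (TensorProduct.tmul_zero _ _).symm⟩
      | tmul a w =>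
        obtain ⟨c, hc⟩ := Ideal.mem_span_singleton'.mp a.2
        refine ⟨c • w, ?_⟩
        rw [← TensorProduct.smul_tmul]
        congr 1
        exact Subtype.ext hc.symm
      | add a b ha hb =>
        obtain ⟨u, rfl⟩ := ha
        obtain ⟨v, rfl⟩ := hb
        exact ⟨u + v, (TensorProduct.tmul_add _ _ _).symm⟩
    obtain ⟨u, rfl⟩ := hgen x
    obtain ⟨v, rfl⟩ := hgen y
    have h1 := congrArg (TensorProduct.lid (ZMod (p ^ n)) H) hxy
    simp only [LinearMap.rTensor_tmul, Submodule.subtype_apply, TensorProduct.lid_tmul] at h1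
    have h2 : u - v ∈ LinearMap.ker (((p : ZMod (p ^ n)) ^ i) • (LinearMap.id : H →ₗ[ZMod (p ^ n)] H)) := by
      rw [LinearMap.mem_ker, LinearMap.smul_apply, LinearMap.id_apply, smul_sub, h1, sub_self]
    rw [h i hi] at h2
    obtain ⟨w, hw⟩ := h2
    simp only [LinearMap.smul_apply, LinearMap.id_apply] at hw
    rw [← sub_eq_zero, ← TensorProduct.tmul_sub, ← hw, ← TensorProduct.smul_tmul]
    have h0 : (p : ZMod (p ^ n)) ^ (n - i) • (⟨_, Ideal.mem_span_singleton_self _⟩ :
          Ideal.span {((p : ZMod (p ^ n)) ^ i)}) = 0 := Subtype.ext (by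
      show (p : ZMod (p ^ n)) ^ (n - i) * (p : ZMod (p ^ n)) ^ i = 0
      rw [← pow_add, show n - i + i = n by omega, hzero])
    rw [h0, TensorProduct.zero_tmul]

end Groth.Agent.S17500
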