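import Groth.Statements.S17502
import Groth.Agent.AsympCoh.Seq
import Groth.Agent.InvPow.Projective
import Groth.Agent.InvTensor.Basic

set_option autoImplicit false
set_option backward.isDefEq.respectTransparency false
universe u
open CategoryTheory CategoryTheory.Limits MonoidalCategory CartesianMonoidalCategory MonObj GrpObj AlgebraicGeometry
open Coherent

open Groth.Agent Groth.Agent.InvBasic Groth.Agent.ProjUniv Groth.Agent.InvPow Groth.Agent.QCohLib Groth.Agent.HilbPoly Groth.Agent.CurveDeg Groth.Agent.CohFinite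
set_option linter.style.haveILetI false

namespace Groth.Agent.S17502

/-- Let k be a field, Y a projective k-scheme of dimension d (a k-scheme with a closed immersion c into
projective N-space over k, compatible with the structure morphisms, whose underlying topological
space has Krull dimension d), L_1, …, L_r invertible O_Y-modules, and F a family of O_Y-modules
indexed by a ∈ ℤ^r with F(0) ≅ O_Y and F(a + e_j) ≅ F(a) ⊗ L_j for all a and j, so that F(a) ≅
L_1^{⊗ a_1} ⊗ ⋯ ⊗ L_r^{⊗ a_r} for every a. Then there is a real constant C > 0, depending only on Y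
and the L_j, such that dim_k H^i(Y, F(a)) ≤ C · (1 + |a|^d) for every i and every a, where |a| =
|a_1| + ⋯ + |a_r|. (The published statement prints the exponent as the number r of line bundles
instead of the dimension d of Y; that bound fails as soon as r < d — on the projective plane with r
= 1 and L_1 = O(1) the dimension of H^0(O(a)) grows like a²/2 — while the printed induction on d + r
over hyperplane sections yields the exponent d, which is what is stated here.) -/
theorem result
    (k : Type u) [Field k] (Y : Scheme.{u}) [Y.Over (Spec (CommRingCat.of k))]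
    (N : ℕ) (c : Y ⟶ CohB1.ProjSpace N k) [IsClosedImmersion c]
    (hc : c ≫ CohB1.ProjSpace.toSpec N k = Y ↘ Spec (CommRingCat.of k))
    (d : ℕ) (hd : topologicalKrullDim ↥Y = d)
    (r : ℕ) (Lb : Fin r → Y.Modules) (hLb : ∀ j, PicF.IsInvertible (Lb j))
    (F : (Fin r → ℤ) → Y.Modules) (hF0 : Nonempty (F 0 ≅ Coh.structureModule Y))
    (hF : ∀ (a : Fin r → ℤ) (j : Fin r), Nonempty (F (a + Pi.single j 1) ≅ CohB1.tensorMod (F a) (Lb j))) :
    ∃ C : ℝ, 0 < C ∧ ∀ (i : ℕ) (a : Fin r → ℤ),
      (Module.finrank k (Coh.HH Y (F a) i) : ℝ) ≤ C * (1 + (∑ j, |(a j : ℝ)|) ^ d) := by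
  haveI : IsProper (CohB1.ProjSpace.toSpec N k) := Groth.Agent.InvPow.isProper_toSpec N k
  haveI : IsProper (Y ↘ Spec (CommRingCat.of k)) := hc ▸ inferInstance
  haveI := isNoetherian_of_proper (X := Y) k
  choose M hM using fun j => Groth.Agent.NegVanish.exists_inverse (hLb j)
  have hMi : ∀ j, PicF.IsInvertible (M j) := fun j => Groth.Agent.InvTensor.isInvertible_of_tensor (M j) (Lb j) ((ProjTwist.nonempty_tensorMod_comm (M j) (Lb j)).some ≪≫ (hM j).some)
  let Φ := Groth.Agent.AsympCoh.zFam hLb hMi
  have key : ∀ (s : ℕ) (p q : Fin r → ℕ), ∑ j, p j + ∑ j, q j = s →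
      Nonempty (F (fun j => (p j : ℤ) - q j) ≅ Φ.T (Sum.elim p q)) := by
    intro s
    induction s with
    | zero =>
      intro p q h
      obtain ⟨hp, hq⟩ : (∀ j, p j = 0) ∧ ∀ j, q j = 0 :=
        ⟨fun j => by have := Finset.single_le_sum (f := p) (fun _ _ => Nat.zero_le _) (Finset.mem_univ j); omega,
          fun j => by have := Finset.single_le_sum (f := q) (fun _ _ => Nat.zero_le _) (Finset.mem_univ j); omega⟩
      obtain ⟨e₀⟩ := hF0
      obtain ⟨ep⟩ := nonempty_tensorPows_zero (L := Lb) (n := p) hp
      obtain ⟨eq⟩ := nonempty_tensorPows_zero (L := M) (n := q) hq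
      obtain ⟨e⟩ := ProjTwist.nonempty_tensorMod_iso ep eq
      exact ⟨eqToIso (congrArg F (funext fun j => by simp [hp j, hq j])) ≪≫ e₀ ≪≫
        (SecTwist.unitorR (Coh.structureModule Y)).symm ≪≫ e.symm⟩
    | succ s ih =>
      intro p q h
      by_cases hp : ∀ j, p j = 0
      · obtain ⟨j, hj⟩ : ∃ j, q j ≠ 0 := by
          by_contra hq
          push Not at hq
          simp [hp, hq] at h
        let q' := Function.update q j (q j - 1)
        obtain ⟨e⟩ := ih p q' (by
          have h1 := Finset.sum_update_of_mem (Finset.mem_univ j) q (q j - 1)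
          have h2 := Finset.sum_sdiff (s₁ := {j}) (s₂ := Finset.univ) (f := q) (Finset.subset_univ _)
          simp only [Finset.sum_singleton] at h2
          simp only [q']
          omega)
        have ha : (fun l => (p l : ℤ) - q' l) = (fun l => (p l : ℤ) - q l) + Pi.single j 1 := funext fun l => by
          by_cases hl : l = j
          · subst hl; simp only [q', Pi.add_apply, Function.update_self, Pi.single_eq_same]; omega
          · simp only [q', Pi.add_apply, Function.update_of_ne hl, Pi.single_eq_of_ne hl, add_zero]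
        obtain ⟨t⟩ := hF (fun l => (p l : ℤ) - q l) j
        rw [← ha] at t
        obtain ⟨st⟩ := Φ.step (Sum.elim p q') (Sum.inr j)
        have hb : (Sum.elim p q' + Pi.single (Sum.inr j) 1 : Fin r ⊕ Fin r → ℕ) = Sum.elim p q := funext fun l => by
          cases l with
          | inl l => simp [Pi.single_apply]
          | inr l =>
            by_cases hl : l = j
            · subst hl; simp only [q', Pi.add_apply, Sum.elim_inl, Sum.elim_inr, Function.update_self, Pi.single_eq_same]; omega
            · simp only [q', Pi.add_apply, Sum.elim_inl, Sum.elim_inr, Function.update_of_ne hl, Pi.single_eq_of_ne (fun h => hl (Sum.inr_injective h) : (Sum.inr l : Fin r ⊕ Fin r) ≠ Sum.inr j), add_zero]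
        rw [hb] at st
        obtain ⟨a'⟩ := HilbPoly.nonempty_assoc (F fun l => (p l : ℤ) - q l) (hLb j) (hMi j)
        obtain ⟨u⟩ := ProjTwist.nonempty_tensorMod_iso (Iso.refl (F fun l => (p l : ℤ) - q l)) (hM j).some
        exact ⟨(SecTwist.unitorR _).symm ≪≫ u.symm ≪≫ a' ≪≫
          (ProjTwist.nonempty_tensorMod_iso (t.symm ≪≫ e) (Iso.refl (M j))).some ≪≫ st.symm⟩
      · push Not at hp
        obtain ⟨j, hj⟩ := hp
        let p' := Function.update p j (p j - 1)
        obtain ⟨e⟩ := ih p' q (by
          have h1 := Finset.sum_update_of_mem (Finset.mem_univ j) p (p j - 1)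
          have h2 := Finset.sum_sdiff (s₁ := {j}) (s₂ := Finset.univ) (f := p) (Finset.subset_univ _)
          simp only [Finset.sum_singleton] at h2
          simp only [p']
          omega)
        have ha : (fun l => (p' l : ℤ) - q l) + Pi.single j 1 = (fun l => (p l : ℤ) - q l) := funext fun l => by
          by_cases hl : l = j
          · subst hl; simp only [p', Pi.add_apply, Function.update_self, Pi.single_eq_same]; omega
          · simp only [p', Pi.add_apply, Function.update_of_ne hl, Pi.single_eq_of_ne hl, add_zero]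
        obtain ⟨t⟩ := hF (fun l => (p' l : ℤ) - q l) j
        rw [ha] at t
        obtain ⟨st⟩ := Φ.step (Sum.elim p' q) (Sum.inl j)
        have hb : (Sum.elim p' q + Pi.single (Sum.inl j) 1 : Fin r ⊕ Fin r → ℕ) = Sum.elim p q := funext fun l => by
          cases l with
          | inr l => simp [Pi.single_apply]
          | inl l =>
            by_cases hl : l = j
            · subst hl; simp only [p', Pi.add_apply, Sum.elim_inl, Sum.elim_inr, Function.update_self, Pi.single_eq_same]; omega
            · simp only [p', Pi.add_apply, Sum.elim_inl, Sum.elim_inr, Function.update_of_ne hl, Pi.single_eq_of_ne (fun h => hl (Sum.inl_injective h) : (Sum.inl l : Fin r ⊕ Fin r) ≠ Sum.inl j), add_zero]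
        rw [hb] at st
        exact ⟨t ≪≫ (ProjTwist.nonempty_tensorMod_iso e (Iso.refl (Lb j))).some ≪≫ st.symm⟩
  have hcoh := isCoh_of_isInvertible (HilbPoly.isInvertible_structureModule Y)
  have hdim : ∀ G : Y.Modules, topologicalKrullDim (CohB1.support G) ≤ (d : WithBot ℕ∞) :=
    Groth.Agent.AsympCoh.support_dim_le hd
  choose C hC hb using fun i => Groth.Agent.AsympCoh.exists_hT_le k Φ hcoh (hdim _) i
  have hC0 : 0 ≤ ∑ i ∈ Finset.range (d + 1), C i := Finset.sum_nonneg fun i _ => hC i
  refine ⟨(1 + ∑ i ∈ Finset.range (d + 1), C i) * 2 ^ d, by positivity, fun i a => ?_⟩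
  obtain ⟨e⟩ := key _ (fun j => (a j).toNat) (fun j => (-(a j)).toNat) rfl
  have ha : (fun j => (((a j).toNat : ℕ) : ℤ) - (((-(a j)).toNat : ℕ) : ℤ)) = a :=
    funext fun j => Int.toNat_sub_toNat_neg (a j)
  rw [ha] at e
  let a' : Fin r ⊕ Fin r → ℕ := Sum.elim (fun j => (a j).toNat) (fun j => (-(a j)).toNat)
  have hsize : (Groth.Agent.AsympCoh.size a' : ℝ) = ∑ j, |(a j : ℝ)| := by
    simp only [Groth.Agent.AsympCoh.size, a', Fintype.sum_sum_type, Sum.elim_inl, Sum.elim_inr, Nat.cast_add,
      Nat.cast_sum, ← Finset.sum_add_distrib]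
    refine Finset.sum_congr rfl fun j _ => ?_
    have h : (((a j).toNat : ℕ) : ℤ) + (((-(a j)).toNat : ℕ) : ℤ) = |a j| := by
      rw [Int.toNat_eq_max, Int.toNat_eq_max]
      rcases le_total 0 (a j) with h | h
      · rw [abs_of_nonneg h]; omega
      · rw [abs_of_nonpos h]; omega
    exact_mod_cast h
  have hs : (0 : ℝ) ≤ ∑ j, |(a j : ℝ)| := Finset.sum_nonneg fun j _ => abs_nonneg _
  by_cases hi : i ≤ d
  · rw [← Groth.Agent.AsympCoh.hT_unit k Φ a' e i]
    refine (hb i a').trans ?_
    rw [hsize]
    have h2 : (1 + ∑ j, |(a j : ℝ)|) ^ d ≤ 2 ^ d * (1 + (∑ j, |(a j : ℝ)|) ^ d) := by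
      rcases le_total (∑ j, |(a j : ℝ)|) 1 with h | h
      · exact (pow_le_pow_left₀ (by linarith) (by linarith : (1 + ∑ j, |(a j : ℝ)|) ≤ 2) d).trans
          (le_mul_of_one_le_right (by positivity) (le_add_of_nonneg_right (by positivity)))
      · refine (pow_le_pow_left₀ (by linarith) (by linarith : (1 + ∑ j, |(a j : ℝ)|) ≤ 2 * ∑ j, |(a j : ℝ)|) d).trans ?_
        rw [mul_pow]
        exact mul_le_mul_of_nonneg_left (le_add_of_nonneg_left zero_le_one) (by positivity)
    have h3 : C i ≤ 1 + ∑ l ∈ Finset.range (d + 1), C l :=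
      (Finset.single_le_sum (f := C) (s := Finset.range (d + 1)) (fun l _ => hC l) (Finset.mem_range.mpr (by omega))).trans (le_add_of_nonneg_left zero_le_one)
    refine (mul_le_mul h3 h2 (by positivity) (by linarith)).trans_eq ?_
    ring
  · haveI := subsingleton_HH_of_dim k
      (isCoh_of_iso e.symm (isCoh_of_isInvertible (Φ.invT a'))) (hdim _) (p := i) (by omega)
    rw [Module.finrank_zero_of_subsingleton, Nat.cast_zero]
    positivity
end Groth.Agent.S17502
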