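import Mathlib

/-!
# Weight-one representations of theta groups
-/

set_option autoImplicit false

universe u

namespace Groth.Agent.ThetaRepH4

/-- The data of a theta group. -/
structure Theta (k : Type u) [Field k] (Γ : Type u) [Group Γ] where
  /-- the central embedding -/
  ι : kˣ →* Γ
  inj : Function.Injective ι
  cent : ι.range = Subgroup.center Γ
  comm : commutator Γ ≤ ι.range

variable {k : Type u} [Field k] {Γ : Type u} [Group Γ] (D : Theta k Γ)

namespace Theta

theorem ι_comm (z : kˣ) (g : Γ) : g * D.ι z = D.ι z * g :=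
  Subgroup.mem_center_iff.mp (D.cent ▸ ⟨z, rfl⟩) g

theorem exists_e (g h : Γ) : ∃ z : kˣ, g * h = D.ι z * (h * g) := by
  have h1 : g * h * g⁻¹ * h⁻¹ ∈ commutator Γ := by
    rw [commutator_def, ← commutatorElement_def]
    exact Subgroup.commutator_mem_commutator (Subgroup.mem_top g) (Subgroup.mem_top h)
  obtain ⟨z, hz⟩ := D.comm h1
  exact ⟨z, by rw [hz]; group⟩

/-- The commutator pairing. -/
noncomputable def e (g h : Γ) : kˣ := (D.exists_e g h).choose

theorem e_spec (g h : Γ) : g * h = D.ι (D.e g h) * (h * g) := (D.exists_e g h).choose_spec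

theorem e_eq {g h : Γ} {z : kˣ} (hz : g * h = D.ι z * (h * g)) : D.e g h = z :=
  D.inj (mul_right_cancel ((D.e_spec g h).symm.trans hz))

theorem e_eq_one_iff {g h : Γ} : D.e g h = 1 ↔ g * h = h * g :=
  ⟨fun he => by simpa [he] using D.e_spec g h, fun hc => D.e_eq (by simp [hc])⟩

theorem e_mul_right (g a b : Γ) : D.e g (a * b) = D.e g a * D.e g b := by
  apply D.e_eq
  rw [map_mul, ← mul_assoc g a b, D.e_spec g a, mul_assoc, mul_assoc a g b, D.e_spec g b,
    ← mul_assoc a (D.ι _), D.ι_comm _ a]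
  simp only [mul_assoc]

theorem e_mul_left (a b h : Γ) : D.e (a * b) h = D.e a h * D.e b h := by
  apply D.e_eq
  rw [map_mul, mul_assoc a b h, D.e_spec b h, ← mul_assoc a (D.ι _), D.ι_comm _ a, mul_assoc,
    ← mul_assoc a h b, D.e_spec a h, ← mul_assoc (D.ι (D.e b h)), ← mul_assoc (D.ι (D.e b h)),
    ← map_mul, ← map_mul, mul_comm (D.e b h) (D.e a h)]
  simp only [mul_assoc]

theorem e_ι_left (z : kˣ) (h : Γ) : D.e (D.ι z) h = 1 :=
  D.e_eq_one_iff.mpr (D.ι_comm z h).symm

theorem e_inv_left (a h : Γ) : D.e a⁻¹ h = (D.e a h)⁻¹ := by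
  refine eq_inv_of_mul_eq_one_left ?_
  rw [← D.e_mul_left, inv_mul_cancel]
  exact D.e_eq_one_iff.mpr (by simp)

theorem e_inv_right (g a : Γ) : D.e g a⁻¹ = (D.e g a)⁻¹ := by
  refine eq_inv_of_mul_eq_one_left ?_
  rw [← D.e_mul_right, inv_mul_cancel]
  exact D.e_eq_one_iff.mpr (by simp)

/-- `x.out` differs from any representative by a central element. -/
theorem exists_out (g : Γ) : ∃ z : kˣ, g = ((g : Γ ⧸ D.ι.range)).out * D.ι z := by
  obtain ⟨z, hz⟩ : ((g : Γ ⧸ D.ι.range)).out⁻¹ * g ∈ D.ι.range :=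
    QuotientGroup.eq.mp (QuotientGroup.out_eq' _)
  exact ⟨z, by rw [hz, mul_inv_cancel_left]⟩

theorem exists_e_ne {x y : Γ ⧸ D.ι.range} (h : x ≠ y) : ∃ g, D.e g x.out ≠ D.e g y.out := by
  by_contra! hh
  apply h
  have hc : x.out⁻¹ * y.out ∈ Subgroup.center Γ := by
    rw [Subgroup.mem_center_iff]
    intro g
    rw [← D.e_eq_one_iff, D.e_mul_right, D.e_inv_right, hh g, inv_mul_cancel]
  rw [← D.cent] at hc
  rw [← QuotientGroup.out_eq' x, ← QuotientGroup.out_eq' y]
  exact QuotientGroup.eq.mpr hc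

end Theta

section rep

variable {V W : Type u} [AddCommGroup V] [Module k V] [AddCommGroup W] [Module k W]

/-- Weight one. -/
def Weight (ρ : Representation k Γ V) : Prop := ∀ (z : kˣ) (v : V), ρ (D.ι z) v = (z : k) • v

variable {ρ : Representation k Γ V} {σ : Representation k Γ W}

theorem mul_apply' (ρ : Representation k Γ V) (a b : Γ) (v : V) : ρ (a * b) v = ρ a (ρ b v) := by
  rw [map_mul]; rfl

theorem Weight.comm_apply (hρ : Weight D ρ) (g h : Γ) (v : V) :
    ρ g (ρ h v) = (D.e g h : k) • ρ h (ρ g v) := by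
  rw [← mul_apply', D.e_spec, mul_apply', hρ, mul_apply']

/-- The operators attached to the cosets are linearly independent. -/
theorem linearIndependent_out [Nontrivial V] (hρ : Weight D ρ) :
    LinearIndependent k (fun x : Γ ⧸ D.ι.range => ρ x.out) := by
  classical
  rw [linearIndependent_iff']
  intro s
  induction s using Finset.induction with
  | empty => simp
  | insert a s ha ih =>
    intro c hc
    rw [Finset.sum_insert ha] at hc
    have hrest : ∀ i ∈ s, c i = 0 := by
      intro i hi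
      obtain ⟨g, hg⟩ := D.exists_e_ne (x := i) (y := a) (fun h => ha (h ▸ hi))
      have h0 : ∑ j ∈ s, (c j * ((D.e g j.out : k) - (D.e g a.out : k))) • ρ j.out = 0 := by
        refine LinearMap.ext fun u => ?_
        obtain ⟨v, rfl⟩ : ∃ v, ρ g v = u :=
          ⟨ρ g⁻¹ u, by rw [← mul_apply', mul_inv_cancel, map_one]; rfl⟩
        have h1 := congrArg (ρ g) (LinearMap.congr_fun hc v)
        have h2 := congrArg (fun w => (D.e g a.out : k) • w) (LinearMap.congr_fun hc (ρ g v))
        simp only [LinearMap.add_apply, LinearMap.smul_apply, LinearMap.sum_apply,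
          LinearMap.zero_apply, map_add, map_smul, map_sum, map_zero, smul_add, Finset.smul_sum,
          smul_zero, hρ.comm_apply D g] at h1 h2
        simp only [LinearMap.sum_apply, LinearMap.smul_apply, LinearMap.zero_apply, LinearMap.sub_apply,
          mul_sub, sub_smul, Finset.sum_sub_distrib]
        simp only [smul_smul] at h1 h2
        simp only [mul_comm (D.e g a.out : k)] at h2
        exact sub_eq_zero.mpr (add_left_cancel (h1.trans h2.symm))
      have := ih _ h0 i hi
      rcases mul_eq_zero.mp this with h | h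
      · exact h
      · exact absurd (Units.ext (sub_eq_zero.mp h)) hg
    intro i hi
    rcases Finset.mem_insert.mp hi with rfl | hi
    · rw [Finset.sum_eq_zero (fun j hj => by rw [hrest j hj, zero_smul]), add_zero] at hc
      by_contra hci
      obtain ⟨v, hv⟩ := exists_ne (0 : V)
      have h2 : ρ i.out v = 0 := by
        have := LinearMap.congr_fun hc v
        simpa [hci] using this
      apply hv
      have h3 := congrArg (ρ i.out⁻¹) h2
      rwa [← mul_apply', inv_mul_cancel, map_one, map_zero] at h3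
    · exact hrest i hi

variable [Finite (Γ ⧸ D.ι.range)]

/-- The average of a linear map over the cosets. -/
noncomputable def avg (ρ : Representation k Γ V) (σ : Representation k Γ W) (f : V →ₗ[k] W) :
    V →ₗ[k] W :=
  letI := Fintype.ofFinite (Γ ⧸ D.ι.range)
  ∑ x : Γ ⧸ D.ι.range, (σ x.out).comp (f.comp (ρ x.out⁻¹))

theorem avg_equivariant (hρ : Weight D ρ) (hσ : Weight D σ) (f : V →ₗ[k] W) (g : Γ) (v : V) :
    avg D ρ σ f (ρ g v) = σ g (avg D ρ σ f v) := by
  let F := Fintype.ofFinite (Γ ⧸ D.ι.range)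
  simp only [avg, LinearMap.sum_apply, LinearMap.comp_apply, map_sum]
  refine (Fintype.sum_equiv (MulAction.toPerm g) _ _ fun x => ?_).symm
  show σ g (σ x.out (f (ρ x.out⁻¹ v))) = σ (g • x).out (f (ρ (g • x).out⁻¹ (ρ g v)))
  obtain ⟨z, hz⟩ := D.exists_out (g * x.out)
  have hx : ((g * x.out : Γ) : Γ ⧸ D.ι.range) = g • x := by
    conv_rhs => rw [← QuotientGroup.out_eq' x]
    rfl
  rw [hx] at hz
  have h3 : g = (g • x).out * D.ι z * x.out⁻¹ := by rw [← hz]; group
  have h2 : (g • x).out⁻¹ * g = D.ι z * x.out⁻¹ := by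
    calc (g • x).out⁻¹ * g = (g • x).out⁻¹ * ((g • x).out * D.ι z * x.out⁻¹) := by rw [← h3]
      _ = _ := by group
  rw [← mul_apply' σ g, hz, mul_apply', hσ, ← mul_apply' ρ _ g, h2, mul_apply', hρ]
  simp

theorem avg_rankOne (φ : V →ₗ[k] k) (w : W) (v : V) :
    letI := Fintype.ofFinite (Γ ⧸ D.ι.range)
    avg D ρ σ (φ.smulRight w) v = (∑ x : Γ ⧸ D.ι.range, φ (ρ x.out⁻¹ v) • σ x.out) w := by
  simp [avg]

/-- Two irreducible weight-one representations are equivalent. -/
theorem nonempty_equiv [ρ.IsIrreducible] [σ.IsIrreducible] [Nontrivial V] [Nontrivial W]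
    (hρ : Weight D ρ) (hσ : Weight D σ) : Nonempty (ρ.Equiv σ) := by
  let F := Fintype.ofFinite (Γ ⧸ D.ι.range)
  by_contra hne
  have h0 : ∀ f, avg D ρ σ f = 0 := fun f => by
    let A : ρ.IntertwiningMap σ :=
      (avg D ρ σ f).intertwiningMap_of_isIntertwiningMap ρ σ (avg_equivariant D hρ hσ f)
    rcases Representation.IsIrreducible.bijective_or_eq_zero A with h | h
    · exact absurd ⟨A.ofBijective h⟩ hne
    · exact congrArg Representation.IntertwiningMap.toLinearMap h
  obtain ⟨v, hv⟩ := exists_ne (0 : V)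
  let x : Γ ⧸ D.ι.range := Classical.arbitrary _
  have hxv : ρ x.out⁻¹ v ≠ 0 := fun h => hv (by
    have h3 := congrArg (ρ x.out) h
    rwa [← mul_apply', mul_inv_cancel, map_one, map_zero] at h3)
  obtain ⟨φ, hφ⟩ : ∃ φ : V →ₗ[k] k, φ (ρ x.out⁻¹ v) ≠ 0 := by
    by_contra! hall
    exact hxv ((Module.forall_dual_apply_eq_zero_iff k _).mp hall)
  have h1 : (∑ y : Γ ⧸ D.ι.range, φ (ρ y.out⁻¹ v) • σ y.out) = 0 := LinearMap.ext fun w => by
    rw [← avg_rankOne, h0]; simp
  exact hφ (Fintype.linearIndependent_iff.mp (linearIndependent_out D hσ) _ h1 x)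

variable [IsAlgClosed k] [FiniteDimensional k V]

/-- The operators attached to the cosets span `End V` for irreducible `V`. -/
theorem span_out_eq_top [ρ.IsIrreducible] [Nontrivial V] (hρ : Weight D ρ) :
    Submodule.span k (Set.range fun x : Γ ⧸ D.ι.range => ρ x.out) = ⊤ := by
  let F := Fintype.ofFinite (Γ ⧸ D.ι.range)
  set S := Submodule.span k (Set.range fun x : Γ ⧸ D.ι.range => ρ x.out) with hS
  have hmem : ∀ g, ρ g ∈ S := fun g => by
    obtain ⟨z, hz⟩ := D.exists_out g
    have : ρ g = (z : k) • ρ ((g : Γ ⧸ D.ι.range)).out := LinearMap.ext fun v => by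
      conv_lhs => rw [hz]
      rw [mul_apply', hρ, map_smul]
      rfl
    rw [this]
    exact S.smul_mem _ (Submodule.subset_span ⟨_, rfl⟩)
  have hscalar : ∀ f, ∃ c : k, ∀ v, avg D ρ ρ f v = c • v := fun f => by
    obtain ⟨c, hc⟩ := Module.End.exists_eigenvalue (avg D ρ ρ f)
    let A : ρ.IntertwiningMap ρ :=
      (avg D ρ ρ f - c • (LinearMap.id : V →ₗ[k] V)).intertwiningMap_of_isIntertwiningMap ρ ρ (fun g v => by
        simp [avg_equivariant D hρ hρ f g v])
    refine ⟨c, fun v => ?_⟩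
    rcases Representation.IsIrreducible.injective_or_eq_zero A with h | h
    · obtain ⟨w, hw⟩ := hc.exists_hasEigenvector
      refine absurd (h (a₁ := w) (a₂ := 0) ?_) hw.2
      show (avg D ρ ρ f - c • (LinearMap.id : V →ₗ[k] V)) w = (avg D ρ ρ f - c • (LinearMap.id : V →ₗ[k] V)) 0
      simp [hw.apply_eq_smul]
    · have := congrArg (fun B : ρ.IntertwiningMap ρ => B.toLinearMap v) h
      exact sub_eq_zero.mp this
  -- one nonzero functional `ψ` such that all `w ↦ ψ w • v` lie in `S`
  obtain ⟨v₀, hv₀⟩ := exists_ne (0 : V)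
  let x : Γ ⧸ D.ι.range := Classical.arbitrary _
  have hxv : ρ x.out⁻¹ v₀ ≠ 0 := fun h => hv₀ (by
    have h3 := congrArg (ρ x.out) h
    rwa [← mul_apply', mul_inv_cancel, map_one, map_zero] at h3)
  obtain ⟨φ, hφ⟩ : ∃ φ : V →ₗ[k] k, φ (ρ x.out⁻¹ v₀) ≠ 0 := by
    by_contra! hall
    exact hxv ((Module.forall_dual_apply_eq_zero_iff k _).mp hall)
  choose c hc using fun w => hscalar (φ.smulRight w)
  have hop : ∀ v w, (∑ y : Γ ⧸ D.ι.range, φ (ρ y.out⁻¹ v) • ρ y.out) w = c w • v := fun v w => by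
    rw [← avg_rankOne, hc]
  let ψ : V →ₗ[k] k :=
    { toFun := c
      map_add' := fun a b => smul_left_injective k hv₀ (by
        show c (a + b) • v₀ = (c a + c b) • v₀
        rw [add_smul, ← hop, ← hop, ← hop, map_add])
      map_smul' := fun r a => smul_left_injective k hv₀ (by
        show c (r • a) • v₀ = (r * c a) • v₀
        rw [mul_smul, ← hop, ← hop, map_smul]) }
  have hrank : ∀ v, ψ.smulRight v ∈ S := fun v => by
    have : ψ.smulRight v = ∑ y : Γ ⧸ D.ι.range, φ (ρ y.out⁻¹ v) • ρ y.out :=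
      LinearMap.ext fun w => (hop v w).symm
    rw [this]
    exact Submodule.sum_mem _ fun y _ => S.smul_mem _ (hmem _)
  have hψ : ψ ≠ 0 := fun h => by
    have h1 : (∑ y : Γ ⧸ D.ι.range, φ (ρ y.out⁻¹ v₀) • ρ y.out) = 0 := LinearMap.ext fun w => by
      rw [hop]
      show ψ w • v₀ = 0
      simp [h]
    exact hφ (Fintype.linearIndependent_iff.mp (linearIndependent_out D hρ) _ h1 x)
  -- right multiplication by `ρ g`
  have hright : ∀ (g : Γ), ∀ a ∈ S, a.comp (ρ g) ∈ S := fun g a ha => by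
    induction ha using Submodule.span_induction with
    | mem a ha =>
      obtain ⟨y, rfl⟩ := ha
      have : (ρ y.out).comp (ρ g) = ρ (y.out * g) := by rw [map_mul]; rfl
      rw [this]; exact hmem _
    | zero => simp
    | add a b _ _ ha hb => rw [LinearMap.add_comp]; exact S.add_mem ha hb
    | smul r a _ ha => rw [LinearMap.smul_comp]; exact S.smul_mem _ ha
  -- the translates of `ψ` span the dual
  have hdual : Submodule.span k (Set.range fun g => ψ.comp (ρ g)) = ⊤ := by
    set P := Submodule.span k (Set.range fun g => ψ.comp (ρ g))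
    let Q : Subrepresentation ρ := ⟨P.dualCoannihilator, fun g v hv => by
      rw [Submodule.mem_dualCoannihilator] at hv ⊢
      intro a ha
      induction ha using Submodule.span_induction with
      | mem a ha =>
        obtain ⟨g', rfl⟩ := ha
        have := hv _ (Submodule.subset_span ⟨g' * g, rfl⟩)
        simpa [mul_apply'] using this
      | zero => simp
      | add a b _ _ ha hb => simp [ha, hb]
      | smul r a _ ha => simp [ha]⟩
    rcases IsSimpleOrder.eq_bot_or_eq_top Q with h | h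
    · have h' : P.dualCoannihilator = ⊥ := congrArg Subrepresentation.toSubmodule h
      rw [← Subspace.dualCoannihilator_dualAnnihilator_eq (W := P), h',
        Submodule.dualAnnihilator_bot]
    · have h' : P.dualCoannihilator = ⊤ := congrArg Subrepresentation.toSubmodule h
      refine absurd (LinearMap.ext fun w => ?_) hψ
      have hw : w ∈ P.dualCoannihilator := h' ▸ Submodule.mem_top
      have := (Submodule.mem_dualCoannihilator w).mp hw _ (Submodule.subset_span ⟨1, rfl⟩)
      simpa using this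
  rw [eq_top_iff]
  intro a _
  let b := Module.finBasis k V
  have ha : a = ∑ i, (b.coord i).smulRight (a (b i)) := b.ext fun j => by
    simp [Finsupp.single_apply]
  rw [ha]
  refine Submodule.sum_mem _ fun i _ => ?_
  have hi : b.coord i ∈ Submodule.span k (Set.range fun g => ψ.comp (ρ g)) :=
    hdual ▸ Submodule.mem_top
  generalize b.coord i = t₀ at hi ⊢
  induction hi using Submodule.span_induction with
  | mem t ht =>
    obtain ⟨g, rfl⟩ := ht
    exact hright g _ (hrank _)
  | zero => simp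
  | add s t _ _ hs ht =>
    have : (s + t).smulRight (a (b i)) = s.smulRight (a (b i)) + t.smulRight (a (b i)) :=
      LinearMap.ext fun v => by simp [add_smul]
    rw [this]; exact S.add_mem hs ht
  | smul r t _ ht =>
    have : (r • t).smulRight (a (b i)) = r • t.smulRight (a (b i)) :=
      LinearMap.ext fun v => by simp [mul_smul]
    rw [this]; exact S.smul_mem _ ht

theorem finrank_sq [ρ.IsIrreducible] [Nontrivial V] (hρ : Weight D ρ) :
    Module.finrank k V ^ 2 = Nat.card (Γ ⧸ D.ι.range) := by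
  let F := Fintype.ofFinite (Γ ⧸ D.ι.range)
  have h := finrank_span_eq_card (linearIndependent_out D hρ)
  rw [span_out_eq_top D hρ, finrank_top, Module.finrank_linearMap] at h
  rw [Nat.card_eq_fintype_card, ← h, pow_two]

end rep

section exists_rep

/-- The twisted regular representation space. -/
def regSpace : Submodule k (Γ → k) where
  carrier := {F | ∀ (z : kˣ) (g : Γ), F (D.ι z * g) = (z : k) * F g}
  zero_mem' := by simp
  add_mem' {F G} hF hG z g := by simp [hF z g, hG z g, mul_add]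
  smul_mem' r F hF z g := by simp [hF z g, mul_left_comm]

/-- The twisted regular representation. -/
def regRep : Representation k Γ (regSpace D) where
  toFun g :=
    { toFun := fun F => ⟨fun a => F.1 (a * g), fun z a => by
        show F.1 (D.ι z * a * g) = _
        rw [mul_assoc]; exact F.2 z _⟩
      map_add' := fun F G => rfl
      map_smul' := fun r F => rfl }
  map_one' := LinearMap.ext fun F => Subtype.ext (funext fun a => by simp)
  map_mul' g g' := LinearMap.ext fun F => Subtype.ext (funext fun a => by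
    show F.1 (a * (g * g')) = F.1 (a * g * g')
    rw [mul_assoc])

theorem regRep_weight : Weight D (regRep D) := fun z F => Subtype.ext (funext fun a => by
  show F.1 (a * D.ι z) = (z : k) * F.1 a
  rw [D.ι_comm]; exact F.2 z a)

theorem nontrivial_regSpace : Nontrivial (regSpace D) := by
  classical
  let F : Γ → k := fun g => if h : g ∈ D.ι.range then ((MonoidHom.mem_range.mp h).choose : k) else 0
  have hF : ∀ (z : kˣ) (g : Γ), F (D.ι z * g) = (z : k) * F g := fun z g => by
    by_cases h : g ∈ D.ι.range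
    · have h' : D.ι z * g ∈ D.ι.range := mul_mem ⟨z, rfl⟩ h
      simp only [F, dif_pos h, dif_pos h']
      rw [← Units.val_mul]
      congr 1
      apply D.inj
      rw [(MonoidHom.mem_range.mp h').choose_spec, map_mul, (MonoidHom.mem_range.mp h).choose_spec]
    · have h' : D.ι z * g ∉ D.ι.range := fun h' => h ((mul_mem_cancel_left (show D.ι z ∈ D.ι.range from ⟨z, rfl⟩)).mp h')
      rw [show F (D.ι z * g) = 0 from dif_neg h', show F g = 0 from dif_neg h, mul_zero]
  refine ⟨⟨⟨F, hF⟩, 0, fun h => ?_⟩⟩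
  have := congrFun (congrArg Subtype.val h) 1
  simp only [F, dif_pos (one_mem D.ι.range)] at this
  exact Units.ne_zero _ this

variable [Finite (Γ ⧸ D.ι.range)]

theorem finite_regSpace : FiniteDimensional k (regSpace D) := by
  refine Module.Finite.of_injective
    ((LinearMap.funLeft k k (fun x : Γ ⧸ D.ι.range => x.out)).comp (regSpace D).subtype)
    fun F G h => Subtype.ext (funext fun g => ?_)
  obtain ⟨z, hz⟩ := D.exists_out g
  rw [hz, D.ι_comm, F.2, G.2]
  exact congrArg ((z : k) * ·) (congrFun h _)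

set_option backward.isDefEq.respectTransparency false in
/-- An irreducible weight-one representation. -/
theorem exists_irreducible :
    ∃ V : FDRep k Γ, Representation.IsIrreducible V.ρ ∧
      ∀ (z : kˣ) (v : V), V.ρ (D.ι z) v = (z : k) • v := by
  classical
  have := nontrivial_regSpace D
  have := finite_regSpace D
  have hex : ∃ n : ℕ, ∃ U : Subrepresentation (regRep D), U.toSubmodule ≠ ⊥ ∧
      Module.finrank k U.toSubmodule = n := ⟨_, ⊤, top_ne_bot, rfl⟩
  obtain ⟨U, hU, hn⟩ := Nat.find_spec hex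
  refine ⟨FDRep.of (V := U.toSubmodule) U.toRepresentation, ?_, fun z v => ?_⟩
  · show Representation.IsIrreducible (V := U.toSubmodule) U.toRepresentation
    have : Nontrivial (Subrepresentation U.toRepresentation) := by
      refine ⟨⟨⊥, ⊤, fun h => hU ?_⟩⟩
      have h' : (⊥ : Submodule k U.toSubmodule) = ⊤ := congrArg Subrepresentation.toSubmodule h
      rw [← Submodule.map_subtype_top U.toSubmodule, ← h', Submodule.map_bot]
    refine ⟨fun Q => ?_⟩
    let Q' : Subrepresentation (regRep D) := ⟨Q.toSubmodule.map U.toSubmodule.subtype, by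
      rintro g _ ⟨v, hv, rfl⟩
      exact ⟨U.toRepresentation g v, Q.apply_mem_toSubmodule g hv, rfl⟩⟩
    by_cases hQ : Q.toSubmodule = ⊥
    · exact Or.inl (Subrepresentation.toSubmodule_injective hQ)
    refine Or.inr (Subrepresentation.toSubmodule_injective ?_)
    have hQ' : Q'.toSubmodule ≠ ⊥ := fun h => hQ
      (Submodule.map_injective_of_injective U.toSubmodule.injective_subtype
        (h.trans (Submodule.map_bot _).symm))
    have h1 := Nat.find_min' hex ⟨Q', hQ', rfl⟩
    rw [Submodule.finrank_map_subtype_eq] at h1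
    exact Submodule.eq_top_of_finrank_eq (K := k) (V := U.toSubmodule)
      (le_antisymm (Submodule.finrank_le Q.toSubmodule) (hn ▸ h1))
  · show U.toRepresentation (D.ι z) (v : U.toSubmodule) = (z : k) • (v : U.toSubmodule)
    exact Subtype.ext (regRep_weight D z (v : U.toSubmodule).1)

end exists_rep

theorem nontrivial_of_irreducible {G V : Type u} [Monoid G] [AddCommGroup V] [Module k V]
    (ρ : Representation k G V) [ρ.IsIrreducible] : Nontrivial V := by
  by_contra h
  rw [not_nontrivial_iff_subsingleton] at h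
  have : (⊥ : Subrepresentation ρ) = ⊤ :=
    Subrepresentation.toSubmodule_injective (Subsingleton.elim _ _)
  exact bot_ne_top this

theorem natCast_ne_zero_of_coprime {n : ℕ} (hn : n ≠ 0) (h : n.Coprime (ringExpChar k)) :
    (n : k) ≠ 0 := by
  intro h0
  have hd : ringChar k ∣ n := (ringChar.spec k n).mp h0
  rcases CharP.char_is_prime_or_zero k (ringChar k) with hp | hp
  · have : ringExpChar k = ringChar k := by
      rw [ringExpChar, max_eq_left hp.one_lt.le]
    rw [this] at h
    exact hp.ne_one (Nat.eq_one_of_dvd_coprimes h hd dvd_rfl)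
  · rw [hp, zero_dvd_iff] at hd
    exact hn hd

section level

variable {V : Type u} [AddCommGroup V] [Module k V] {ρ : Representation k Γ V}
variable [Finite (Γ ⧸ D.ι.range)]

/-- Maschke for weight-one representations. -/
theorem semisimple (hρ : Weight D ρ) (hcard : (Nat.card (Γ ⧸ D.ι.range) : k) ≠ 0) :
    Representation.IsSemisimpleRepresentation ρ := by
  let F := Fintype.ofFinite (Γ ⧸ D.ι.range)
  refine ⟨fun U => ?_⟩
  obtain ⟨C, hC⟩ := exists_isCompl U.toSubmodule
  let π : V →ₗ[k] V := U.toSubmodule.subtype.comp (Submodule.projectionOnto U.toSubmodule C hC)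
  let P : V →ₗ[k] V := (Nat.card (Γ ⧸ D.ι.range) : k)⁻¹ • avg D ρ ρ π
  have hPmem : ∀ v, P v ∈ U.toSubmodule := fun v => by
    simp only [P, avg, LinearMap.smul_apply, LinearMap.sum_apply, LinearMap.comp_apply]
    exact U.toSubmodule.smul_mem _ (Submodule.sum_mem _ fun x _ =>
      U.apply_mem_toSubmodule _ (Subtype.coe_prop _))
  have hPfix : ∀ v ∈ U.toSubmodule, P v = v := fun v hv => by
    have : ∀ x : Γ ⧸ D.ι.range, ρ x.out (π (ρ x.out⁻¹ v)) = v := fun x => by
      have h1 : π (ρ x.out⁻¹ v) = ρ x.out⁻¹ v :=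
        congrArg Subtype.val (Submodule.projectionOnto_apply_left hC
          ⟨_, U.apply_mem_toSubmodule x.out⁻¹ hv⟩)
      rw [h1, ← mul_apply', mul_inv_cancel, map_one]
      rfl
    simp only [P, avg, LinearMap.smul_apply, LinearMap.sum_apply, LinearMap.comp_apply, this]
    rw [Finset.sum_const, Finset.card_univ, ← Nat.card_eq_fintype_card, ← Nat.cast_smul_eq_nsmul k,
      smul_smul, inv_mul_cancel₀ hcard, one_smul]
  refine ⟨⟨LinearMap.ker P, fun g v hv => ?_⟩, ?_⟩
  · rw [LinearMap.mem_ker] at hv ⊢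
    simp only [P, LinearMap.smul_apply, avg_equivariant D hρ hρ] at hv ⊢
    rw [← map_smul, hv, map_zero]
  · have hc : IsCompl U.toSubmodule (LinearMap.ker P) := by
      constructor
      · rw [Submodule.disjoint_def]
        intro v hv hk
        rw [← hPfix v hv]; exact hk
      · rw [codisjoint_iff, eq_top_iff]
        intro v _
        exact Submodule.mem_sup.mpr ⟨P v, hPmem v, v - P v,
          by rw [LinearMap.mem_ker, map_sub, hPfix _ (hPmem v), sub_self], by abel⟩
    constructor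
    · rw [disjoint_iff]
      exact Subrepresentation.toSubmodule_injective hc.inf_eq_bot
    · rw [codisjoint_iff]
      exact Subrepresentation.toSubmodule_injective hc.sup_eq_top

variable (H : Subgroup Γ) (hH : H ⊓ D.ι.range = ⊥)
include hH

theorem comm_of_mem {a b : Γ} (ha : a ∈ H) (hb : b ∈ H) : a * b = b * a := by
  have h1 : a * b * a⁻¹ * b⁻¹ ∈ H ⊓ D.ι.range := Subgroup.mem_inf.mpr
    ⟨mul_mem (mul_mem (mul_mem ha hb) (inv_mem ha)) (inv_mem hb), ⟨D.e a b, by
      have := D.e_spec a b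
      rw [this]; group⟩⟩
  rw [hH, Subgroup.mem_bot] at h1
  calc a * b = a * b * a⁻¹ * b⁻¹ * (b * a) := by group
    _ = b * a := by rw [h1, one_mul]

theorem eq_of_mem {a b : Γ} (ha : a ∈ H) (hb : b ∈ H) (h : a⁻¹ * b ∈ D.ι.range) : a = b := by
  have : a⁻¹ * b ∈ H ⊓ D.ι.range := Subgroup.mem_inf.mpr ⟨mul_mem (inv_mem ha) hb, h⟩
  rw [hH, Subgroup.mem_bot] at this
  exact inv_mul_eq_one.mp this

theorem finite_level : Finite H :=
  Finite.of_injective (fun h : H => ((h : Γ) : Γ ⧸ D.ι.range)) fun a b hab =>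
    Subtype.ext (eq_of_mem D H hH a.2 b.2 (QuotientGroup.eq.mp hab))

variable (hmax : ∀ H' : Subgroup Γ, H' ⊓ D.ι.range = ⊥ → H ≤ H' → H' = H)
include hmax

theorem mem_sup_of_centralizes [IsAlgClosed k] {g : Γ} (hg : ∀ h ∈ H, g * h = h * g) :
    g ∈ H ⊔ D.ι.range := by
  classical
  haveI : D.ι.range.Normal := by rw [D.cent]; infer_instance
  have hex : ∃ n : ℕ, 0 < n ∧ g ^ n ∈ H ⊔ D.ι.range := by
    obtain ⟨i, j, hij, he⟩ := Finite.exists_ne_map_eq_of_infinite
      (fun n : ℕ => ((g ^ n : Γ) : Γ ⧸ D.ι.range))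
    rcases lt_or_gt_of_ne hij with h | h
    · refine ⟨j - i, Nat.sub_pos_of_lt h, Subgroup.mem_sup_right ?_⟩
      have := QuotientGroup.eq.mp he
      rwa [← zpow_natCast, ← zpow_natCast, ← zpow_neg, ← zpow_add,
        show (-(i : ℤ) + j) = ((j - i : ℕ) : ℤ) by omega, zpow_natCast] at this
    · refine ⟨i - j, Nat.sub_pos_of_lt h, Subgroup.mem_sup_right ?_⟩
      have := QuotientGroup.eq.mp he.symm
      rwa [← zpow_natCast, ← zpow_natCast, ← zpow_neg, ← zpow_add,
        show (-(j : ℤ) + i) = ((i - j : ℕ) : ℤ) by omega, zpow_natCast] at this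
  set m := Nat.find hex with hm
  obtain ⟨hm0, hmm⟩ := Nat.find_spec hex
  obtain ⟨h0, hh0, r, hr, hmul⟩ := Subgroup.mem_sup_of_normal_right.mp hmm
  obtain ⟨c, rfl⟩ := hr
  obtain ⟨z, hz⟩ := IsAlgClosed.exists_pow_nat_eq ((c⁻¹ : kˣ) : k) hm0
  have hz0 : z ≠ 0 := fun h => by
    rw [h, zero_pow hm0.ne'] at hz
    exact Units.ne_zero _ hz.symm
  let z' : kˣ := Units.mk0 z hz0
  have hz' : z' ^ m = c⁻¹ := Units.ext (by rw [Units.val_pow_eq_pow_val]; exact hz)
  set g' := g * D.ι z' with hg'
  have hgc : ∀ h ∈ H, Commute g' h := fun h hh => by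
    show g * D.ι z' * h = h * (g * D.ι z')
    rw [mul_assoc, ← D.ι_comm, ← mul_assoc, hg h hh, mul_assoc]
  have hg'm : g' ^ m ∈ H := by
    rw [hg', (show Commute g (D.ι z') from D.ι_comm z' g).mul_pow, ← map_pow, hz', ← hmul,
      map_inv, mul_inv_cancel_right]
    exact hh0
  let H' : Subgroup Γ :=
    { carrier := {a | ∃ h ∈ H, ∃ n : ℤ, a = h * g' ^ n}
      one_mem' := ⟨1, one_mem H, 0, by simp⟩
      mul_mem' := by
        rintro _ _ ⟨h, hh, n, rfl⟩ ⟨h', hh', n', rfl⟩
        refine ⟨h * h', mul_mem hh hh', n + n', ?_⟩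
        rw [zpow_add, mul_assoc, ← mul_assoc (g' ^ n), ((hgc h' hh').zpow_left n).eq]
        simp only [mul_assoc]
      inv_mem' := by
        rintro _ ⟨h, hh, n, rfl⟩
        refine ⟨h⁻¹, inv_mem hh, -n, ?_⟩
        rw [mul_inv_rev, zpow_neg]
        exact ((hgc _ (inv_mem hh)).zpow_left n).inv_left.eq }
  have hH' : H' ⊓ D.ι.range = ⊥ := by
    rw [eq_bot_iff]
    rintro a ⟨⟨h, hh, n, rfl⟩, hr⟩
    have hgn : g ^ (n % (m : ℤ)) ∈ H ⊔ D.ι.range := by
      have h1 : g' ^ n ∈ H ⊔ D.ι.range := by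
        have := mul_mem (Subgroup.mem_sup_left (T := D.ι.range) (inv_mem hh))
          (Subgroup.mem_sup_right (S := H) hr)
        rwa [inv_mul_cancel_left] at this
      have h2 : g ^ n ∈ H ⊔ D.ι.range := by
        have := mul_mem h1 (Subgroup.mem_sup_right (S := H)
          (inv_mem (MonoidHom.mem_range.mpr ⟨z' ^ n, rfl⟩)))
        rwa [hg', (show Commute g (D.ι z') from D.ι_comm z' g).mul_zpow, map_zpow,
          mul_inv_cancel_right] at this
      have h3 := mul_mem h2 (inv_mem (zpow_mem hmm (n / (m : ℤ))))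
      rwa [← zpow_natCast, ← zpow_mul, ← zpow_neg, ← zpow_add,
        show n + -((m : ℤ) * (n / (m : ℤ))) = n % (m : ℤ) by rw [Int.emod_def]; ring] at h3
    have hnm : n % (m : ℤ) = 0 := by
      by_contra hne
      obtain ⟨t, ht⟩ := Int.eq_ofNat_of_zero_le (Int.emod_nonneg n (by omega : (m : ℤ) ≠ 0))
      have hlt := Int.emod_lt_of_pos n (by omega : (0 : ℤ) < m)
      rw [ht, zpow_natCast] at hgn
      have := Nat.find_min' hex (m := t) ⟨by omega, hgn⟩
      omega
    obtain ⟨q, rfl⟩ := Int.dvd_of_emod_eq_zero hnm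
    have hmem : h * g' ^ ((m : ℤ) * q) ∈ H := mul_mem hh (by
      rw [zpow_mul, zpow_natCast]; exact zpow_mem hg'm q)
    rw [← hH]
    exact ⟨hmem, hr⟩
  have hle : H ≤ H' := fun h hh => ⟨h, hh, 0, by simp⟩
  have hg'H : g' ∈ H := hmax H' hH' hle ▸ ⟨1, one_mem H, 1, by simp⟩
  have := mul_mem (Subgroup.mem_sup_left (T := D.ι.range) hg'H)
    (Subgroup.mem_sup_right (S := H) (inv_mem (MonoidHom.mem_range.mpr ⟨z', rfl⟩)))
  rwa [hg', mul_inv_cancel_right] at this


variable [IsAlgClosed k]

omit hmax [IsAlgClosed k] in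
theorem e_eq_one_of_mem_sup {l h : Γ} (hl : l ∈ H ⊔ D.ι.range) (hh : h ∈ H) : D.e l h = 1 := by
  haveI : D.ι.range.Normal := by rw [D.cent]; infer_instance
  obtain ⟨a, ha, r, ⟨z, rfl⟩, rfl⟩ := Subgroup.mem_sup_of_normal_right.mp hl
  rw [D.e_mul_left, D.e_ι_left, mul_one, D.e_eq_one_iff]
  exact comm_of_mem D H hH ha hh

omit hmax [IsAlgClosed k] in
theorem finite_cosets : Finite (Γ ⧸ (H ⊔ D.ι.range)) := by
  refine Finite.of_surjective
    (fun x : Γ ⧸ D.ι.range => ((x.out : Γ) : Γ ⧸ (H ⊔ D.ι.range))) fun t => ?_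
  refine ⟨((t.out : Γ) : Γ ⧸ D.ι.range), ?_⟩
  conv_rhs => rw [← QuotientGroup.out_eq' t]
  exact QuotientGroup.eq.mpr (Subgroup.mem_sup_right (S := H)
    (QuotientGroup.eq.mp (QuotientGroup.out_eq' _)))

theorem exists_e_ne_level {t s : Γ ⧸ (H ⊔ D.ι.range)} (hts : t ≠ s) :
    ∃ h : H, D.e (t.out⁻¹ * s.out) h ≠ 1 := by
  by_contra! hall
  apply hts
  rw [← QuotientGroup.out_eq' t, ← QuotientGroup.out_eq' s, QuotientGroup.eq]
  exact mem_sup_of_centralizes D H hH hmax fun h hh => D.e_eq_one_iff.mp (hall ⟨h, hh⟩)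

omit hmax [IsAlgClosed k] in
theorem exists_e_ne_right {h : H} (hne : h ≠ 1) : ∃ g, D.e g h ≠ 1 := by
  by_contra! hall
  apply hne
  have hc : (h : Γ) ∈ H ⊓ D.ι.range := Subgroup.mem_inf.mpr ⟨h.2, by
    rw [D.cent, Subgroup.mem_center_iff]
    exact fun g => D.e_eq_one_iff.mp (hall g)⟩
  rw [hH, Subgroup.mem_bot] at hc
  exact Subtype.ext hc

omit [IsAlgClosed k] hmax in
theorem e_out_eq (g : Γ) {h : Γ} (hh : h ∈ H) :
    D.e ((g : Γ ⧸ (H ⊔ D.ι.range))).out h = D.e g h := by
  have hmem : g⁻¹ * ((g : Γ ⧸ (H ⊔ D.ι.range))).out ∈ H ⊔ D.ι.range :=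
    QuotientGroup.eq.mp (QuotientGroup.out_eq' _).symm
  calc D.e ((g : Γ ⧸ (H ⊔ D.ι.range))).out h
      = D.e (g * (g⁻¹ * ((g : Γ ⧸ (H ⊔ D.ι.range))).out)) h := by rw [mul_inv_cancel_left]
    _ = D.e g h := by rw [D.e_mul_left, e_eq_one_of_mem_sup D H hH hmem hh, mul_one]

omit [IsAlgClosed k] hmax in
theorem card_eq : Nat.card (Γ ⧸ D.ι.range) =
    Nat.card (Γ ⧸ (H ⊔ D.ι.range)) * Nat.card H := by
  haveI : D.ι.range.Normal := by rw [D.cent]; infer_instance
  rw [← Nat.card_prod]
  symm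
  refine Nat.card_eq_of_bijective (fun p => ((p.1.out * (p.2 : Γ) : Γ) : Γ ⧸ D.ι.range)) ⟨?_, ?_⟩
  · rintro ⟨t, a⟩ ⟨s, b⟩ hab
    have hmem : (t.out * (a : Γ))⁻¹ * (s.out * (b : Γ)) ∈ D.ι.range := QuotientGroup.eq.mp hab
    have hts : t = s := by
      rw [← QuotientGroup.out_eq' t, ← QuotientGroup.out_eq' s, QuotientGroup.eq]
      have := mul_mem (mul_mem (Subgroup.mem_sup_left (T := D.ι.range) a.2)
        (Subgroup.mem_sup_right (S := H) hmem))
        (inv_mem (Subgroup.mem_sup_left (T := D.ι.range) b.2))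
      convert this using 1
      group
    subst hts
    rw [mul_inv_rev, mul_assoc, inv_mul_cancel_left] at hmem
    exact Prod.ext rfl (Subtype.ext (eq_of_mem D H hH a.2 b.2 hmem))
  · intro x
    obtain ⟨a, ha, r, hr, har⟩ := Subgroup.mem_sup_of_normal_right.mp
      (show ((x.out : Γ) : Γ ⧸ (H ⊔ D.ι.range)).out⁻¹ * x.out ∈ H ⊔ D.ι.range from
        QuotientGroup.eq.mp (QuotientGroup.out_eq' _))
    refine ⟨⟨((x.out : Γ) : Γ ⧸ (H ⊔ D.ι.range)), ⟨a, ha⟩⟩, ?_⟩
    conv_rhs => rw [← QuotientGroup.out_eq' x]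
    refine QuotientGroup.eq.mpr ?_
    convert hr using 1
    rw [mul_inv_rev, mul_assoc, ← har]
    group

omit [IsAlgClosed k] hmax in
theorem card_le : Nat.card H ≤ Nat.card (Γ ⧸ (H ⊔ D.ι.range)) := by
  haveI := finite_level D H hH
  haveI := finite_cosets D H hH
  let F := Fintype.ofFinite H
  let F' := Fintype.ofFinite (Γ ⧸ (H ⊔ D.ι.range))
  let ψ : H → (Γ →* k) := fun h =>
    { toFun := fun g => (D.e g h : k)
      map_one' := by rw [D.e_eq_one_iff.mpr (by simp)]; simp
      map_mul' := fun a b => by rw [D.e_mul_left]; simp }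
  have hψ : Function.Injective ψ := fun a b hab => by
    by_contra hne
    have h1 : a⁻¹ * b ≠ 1 := fun h => hne (inv_mul_eq_one.mp h)
    obtain ⟨g, hg⟩ := exists_e_ne_right D H hH h1
    apply hg
    have := Units.ext (DFunLike.congr_fun hab g : (D.e g a : k) = D.e g b)
    rw [Subgroup.coe_mul, Subgroup.coe_inv, D.e_mul_right, D.e_inv_right, this, inv_mul_cancel]
  have hli : LinearIndependent k (fun h : H => fun t : Γ ⧸ (H ⊔ D.ι.range) => (D.e t.out h : k)) := by
    refine LinearIndependent.of_comp (LinearMap.funLeft k k (fun g : Γ => (g : Γ ⧸ (H ⊔ D.ι.range)))) ?_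
    have : ((LinearMap.funLeft k k (fun g : Γ => (g : Γ ⧸ (H ⊔ D.ι.range)))) ∘
        fun h : H => fun t : Γ ⧸ (H ⊔ D.ι.range) => (D.e t.out h : k)) =
        (fun f : Γ →* k => (f : Γ → k)) ∘ ψ := funext fun h => funext fun g => by
      show (D.e ((g : Γ ⧸ (H ⊔ D.ι.range))).out h : k) = D.e g h
      rw [e_out_eq D H hH g h.2]
    rw [this]
    exact (linearIndependent_monoidHom Γ k).comp ψ hψ
  have := hli.fintype_card_le_finrank
  simpa [Nat.card_eq_fintype_card, Module.finrank_pi] using this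

theorem sum_level (t s : Γ ⧸ (H ⊔ D.ι.range)) (hts : t ≠ s) [Fintype H] :
    ∑ h : H, (D.e h (t.out⁻¹ * s.out) : k) = 0 := by
  obtain ⟨h₀, hne⟩ := exists_e_ne_level D H hH hmax hts
  set a := t.out⁻¹ * s.out
  have hne' : D.e h₀ a ≠ 1 := fun h => hne (D.e_eq_one_iff.mpr (D.e_eq_one_iff.mp h).symm)
  have : (D.e h₀ a : k) * ∑ h : H, (D.e h a : k) = ∑ h : H, (D.e h a : k) := by
    rw [Finset.mul_sum]
    refine Fintype.sum_equiv (Equiv.mulLeft h₀) _ _ fun h => ?_
    simp [D.e_mul_left]
  by_contra hS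
  exact hne' (Units.ext (by simpa using mul_right_cancel₀ hS (this.trans (one_mul _).symm)))

omit [IsAlgClosed k] hmax in
theorem sum_cosets (h : H) (hne : h ≠ 1) [Fintype (Γ ⧸ (H ⊔ D.ι.range))] :
    ∑ t : Γ ⧸ (H ⊔ D.ι.range), (D.e t.out h : k) = 0 := by
  obtain ⟨g, hg⟩ := exists_e_ne_right D H hH hne
  have : (D.e g h : k) * ∑ t : Γ ⧸ (H ⊔ D.ι.range), (D.e t.out h : k) =
      ∑ t : Γ ⧸ (H ⊔ D.ι.range), (D.e t.out h : k) := by
    rw [Finset.mul_sum]
    refine Fintype.sum_equiv (MulAction.toPerm g) _ _ fun t => ?_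
    show (D.e g h : k) * D.e t.out h = D.e (g • t).out h
    have : g • t = ((g * t.out : Γ) : Γ ⧸ (H ⊔ D.ι.range)) := by
      conv_lhs => rw [← QuotientGroup.out_eq' t]
      rfl
    rw [this, e_out_eq D H hH _ h.2, D.e_mul_left, Units.val_mul]
  by_contra hS
  exact hg (Units.ext (by simpa using mul_right_cancel₀ hS (this.trans (one_mul _).symm)))

/-- The dimension of a weight-one representation. -/
theorem finrank_eq [FiniteDimensional k V] (hρ : Weight D ρ)
    (hcard : (Nat.card (Γ ⧸ D.ι.range) : k) ≠ 0) :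
    Module.finrank k V = Nat.card (Γ ⧸ (H ⊔ D.ι.range)) *
      Module.finrank k (Representation.invariants (ρ.comp H.subtype)) := by
  classical
  haveI := finite_level D H hH
  haveI := finite_cosets D H hH
  let F := Fintype.ofFinite H
  let F' := Fintype.ofFinite (Γ ⧸ (H ⊔ D.ι.range))
  rw [card_eq D H hH, Nat.cast_mul, mul_ne_zero_iff] at hcard
  obtain ⟨hT, hHk⟩ := hcard
  rw [Nat.card_eq_fintype_card] at hT hHk ⊢
  set I := Representation.invariants (ρ.comp H.subtype)
  have hfix : ∀ (v : I) (h : H), ρ h (v : V) = v := fun v h =>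
    (Representation.mem_invariants _ _).mp v.2 h
  let P : V →ₗ[k] I := LinearMap.codRestrict I ((Fintype.card H : k)⁻¹ • ∑ h : H, ρ h) fun v => by
    rw [Representation.mem_invariants]
    intro a
    simp only [MonoidHom.comp_apply, Subgroup.coe_subtype, LinearMap.smul_apply,
      LinearMap.sum_apply, map_smul, map_sum]
    congr 1
    refine Fintype.sum_equiv (Equiv.mulLeft a) _ _ fun h => ?_
    show _ = ρ ((a * h : H) : Γ) v
    rw [Subgroup.coe_mul, mul_apply']
  let Φ : (Γ ⧸ (H ⊔ D.ι.range) → I) →ₗ[k] V :=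
    ∑ t, (ρ t.out).comp (I.subtype.comp (LinearMap.proj t))
  let Ψ : V →ₗ[k] (Γ ⧸ (H ⊔ D.ι.range) → I) := LinearMap.pi fun t => P.comp (ρ t.out⁻¹)
  have h1 : ∀ f, Ψ (Φ f) = f := fun f => funext fun s => Subtype.ext (by
    simp only [Ψ, Φ, P, LinearMap.pi_apply, LinearMap.comp_apply, LinearMap.codRestrict_apply,
      LinearMap.smul_apply, LinearMap.sum_apply, map_sum, LinearMap.proj_apply,
      Submodule.coe_subtype, Submodule.coe_sum, ← Finset.smul_sum]
    have : ∀ t, ∑ h : H, ρ h (ρ s.out⁻¹ (ρ t.out (f t : V))) =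
        if t = s then (Fintype.card H : k) • (f s : V) else 0 := fun t => by
      have hs : ∀ h : H, ρ h (ρ s.out⁻¹ (ρ t.out (f t : V))) =
          (D.e h (s.out⁻¹ * t.out) : k) • ρ (s.out⁻¹ * t.out) (f t : V) := fun h => by
        rw [← mul_apply' ρ s.out⁻¹, hρ.comm_apply D, hfix]
      simp only [hs, ← Finset.sum_smul]
      split_ifs with hts
      · subst hts
        simp [D.e_eq_one_iff.mpr]
      · rw [sum_level D H hH hmax s t (Ne.symm hts), zero_smul]
    simp only [this]
    rw [Finset.sum_ite_eq' Finset.univ s, if_pos (Finset.mem_univ s), smul_smul,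
      inv_mul_cancel₀ hHk, one_smul])
  have h2 : ∀ v, Φ (Ψ v) = ((Fintype.card H : k)⁻¹ * Fintype.card (Γ ⧸ (H ⊔ D.ι.range))) • v :=
    fun v => by
    simp only [Ψ, Φ, P, LinearMap.pi_apply, LinearMap.comp_apply, LinearMap.codRestrict_apply,
      LinearMap.smul_apply, LinearMap.sum_apply, map_sum, map_smul, LinearMap.proj_apply,
      Submodule.coe_subtype]
    rw [← Finset.smul_sum, Finset.sum_comm, mul_smul]
    congr 1
    have hs : ∀ (h : H) (t : Γ ⧸ (H ⊔ D.ι.range)), ρ t.out (ρ h (ρ t.out⁻¹ v)) =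
        (D.e t.out h : k) • ρ h v := fun h t => by
      rw [hρ.comm_apply D t.out h, ← mul_apply' ρ t.out, mul_inv_cancel, map_one]
      rfl
    simp only [hs, ← Finset.sum_smul]
    rw [Finset.sum_eq_single (1 : H)]
    · simp [D.e_eq_one_iff.mpr]
    · intro h _ hne
      rw [sum_cosets D H hH h hne, zero_smul]
    · simp
  have hbij : Function.Bijective Φ := by
    constructor
    · exact Function.LeftInverse.injective h1
    · intro v
      refine ⟨((Fintype.card H : k)⁻¹ * Fintype.card (Γ ⧸ (H ⊔ D.ι.range)))⁻¹ • Ψ v, ?_⟩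
      rw [map_smul, h2, smul_smul, inv_mul_cancel₀ (mul_ne_zero (inv_ne_zero hHk) hT), one_smul]
  rw [← (LinearEquiv.ofBijective Φ hbij).finrank_eq, Module.finrank_pi_fintype]
  simp

/-- An irreducible weight-one representation has a line of invariants. -/
theorem finrank_invariants_eq_one [FiniteDimensional k V] [ρ.IsIrreducible] [Nontrivial V]
    (hρ : Weight D ρ) (hcard : (Nat.card (Γ ⧸ D.ι.range) : k) ≠ 0) :
    Module.finrank k (Representation.invariants (ρ.comp H.subtype)) = 1 := by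
  have h1 := finrank_eq D H hH hmax hρ hcard
  have h2 := finrank_sq D hρ
  rw [h1, card_eq D H hH] at h2
  haveI := finite_cosets D H hH
  have hT : 0 < Nat.card (Γ ⧸ (H ⊔ D.ι.range)) := Nat.card_pos
  have hd : 0 < Module.finrank k V := Module.finrank_pos
  rw [h1] at hd
  set m := Module.finrank k (Representation.invariants (ρ.comp H.subtype))
  set T := Nat.card (Γ ⧸ (H ⊔ D.ι.range))
  have h3 : T * m ^ 2 = Nat.card H := Nat.eq_of_mul_eq_mul_left hT (by rw [← h2]; ring)
  have h4 : T * m ^ 2 ≤ T * 1 := by rw [h3, mul_one]; exact card_le D H hH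
  have h5 := Nat.le_of_mul_le_mul_left h4 hT
  have hm : 0 < m := Nat.pos_of_ne_zero fun h => by simp [h] at hd
  nlinarith

end level

end Groth.Agent.ThetaRepH4
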