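import Groth.Statements.S17517
import Mathlib
-- import your own Groth.Agent.* helpers here

set_option autoImplicit false
universe u
open GIT

namespace Groth.Agent.S17517

/-- Let `E` be a finite-dimensional real inner product space and `L` a full lattice in `E` (a discrete
subgroup spanning `E`) on which the inner product is integer valued; let `F` and `G` be nonempty
finite sets of real linear functionals on `E` taking integer values on `L`, with `f_min v = min_{f ∈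
F} f v` and `g_min v = min_{g ∈ G} g v`. If some vector `v` has `f_min v ≥ 0` and `g_min v > 0`,
then on the set `C_F` of nonzero `v` with `f_min v ≥ 0` the function `v ↦ g_min v / ‖v‖` attains a
greatest value `M`, and there is exactly one lattice vector `v₀ ∈ C_F` with `g_min v₀ / ‖v₀‖ = M` of
which every lattice vector `v ∈ C_F` with `g_min v / ‖v‖ = M` is an integer multiple. -/
theorem result
    (E : Type u) [NormedAddCommGroup E] [InnerProductSpace ℝ E] [FiniteDimensional ℝ E]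
    (L : Submodule ℤ E) [DiscreteTopology L] [IsZLattice ℝ L]
    (hint : ∀ x ∈ L, ∀ y ∈ L, ∃ n : ℤ, inner ℝ x y = (n : ℝ))
    (F G : Finset (Module.Dual ℝ E)) (hF : F.Nonempty) (hG : G.Nonempty)
    (hFi : ∀ f ∈ F, ∀ x ∈ L, ∃ n : ℤ, f x = (n : ℝ)) (hGi : ∀ g ∈ G, ∀ x ∈ L, ∃ n : ℤ, g x = (n : ℝ))
    (hpos : ∃ v : E, 0 ≤ F.inf' hF (fun f => f v) ∧ 0 < G.inf' hG (fun g => g v)) :
    ∃ M : ℝ, IsGreatest ((fun v => G.inf' hG (fun g => g v) / ‖v‖) ''
        {v : E | v ≠ 0 ∧ 0 ≤ F.inf' hF (fun f => f v)}) M ∧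
      ∃! v₀ : E, v₀ ∈ L ∧ v₀ ≠ 0 ∧ 0 ≤ F.inf' hF (fun f => f v₀) ∧
        G.inf' hG (fun g => g v₀) / ‖v₀‖ = M ∧
        ∀ v ∈ L, v ≠ 0 → 0 ≤ F.inf' hF (fun f => f v) → G.inf' hG (fun g => g v) / ‖v‖ = M →
          ∃ n : ℤ, v = n • v₀ := by
  classical
  let fm : E → ℝ := fun v => F.inf' hF (fun f => f v)
  let gm : E → ℝ := fun v => G.inf' hG (fun g => g v)
  have fm_le : ∀ {a : ℝ} {v : E}, a ≤ fm v ↔ ∀ f ∈ F, a ≤ f v := fun {a v} => Finset.le_inf'_iff hF _
  have gm_le : ∀ {a : ℝ} {v : E}, a ≤ gm v ↔ ∀ g ∈ G, a ≤ g v := fun {a v} => Finset.le_inf'_iff hG _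
  have hfsmul : ∀ (t : ℝ) (v : E), 0 ≤ t → 0 ≤ fm v → 0 ≤ fm (t • v) := fun t v ht hv =>
    fm_le.mpr fun f hf => by rw [map_smul, smul_eq_mul]; exact mul_nonneg ht (fm_le.mp hv f hf)
  set P : Set E := {v | (∀ f ∈ F, 0 ≤ f v) ∧ ∀ g ∈ G, 1 ≤ g v} with hP
  have hPn : P.Nonempty := by
    obtain ⟨v, hv1, hv2⟩ := hpos
    refine ⟨(gm v)⁻¹ • v, fun f hf => ?_, fun g hg => ?_⟩
    · rw [map_smul, smul_eq_mul]; exact mul_nonneg (by positivity) (fm_le.mp hv1 f hf)
    · rw [map_smul, smul_eq_mul, inv_mul_eq_div, le_div_iff₀ hv2, one_mul]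
      exact gm_le.mp le_rfl g hg
  have hcont : ∀ f : Module.Dual ℝ E, Continuous f := fun f => f.continuous_of_finiteDimensional
  have hPc : IsClosed P := by
    have : P = (⋂ f ∈ F, f ⁻¹' Set.Ici (0 : ℝ)) ∩ ⋂ g ∈ G, g ⁻¹' Set.Ici (1 : ℝ) := by
      ext v; simp [hP]
    rw [this]
    exact (isClosed_biInter fun f _ => isClosed_Ici.preimage (hcont f)).inter
      (isClosed_biInter fun g _ => isClosed_Ici.preimage (hcont g))
  haveI : ProperSpace E := FiniteDimensional.proper_real E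
  obtain ⟨v, hvP, hv⟩ := hPc.exists_infDist_eq_dist hPn 0
  have hmin : ∀ w ∈ P, ‖v‖ ≤ ‖w‖ := fun w hw => by
    have := Metric.infDist_le_dist_of_mem (x := (0 : E)) hw
    rw [hv] at this; simpa using this
  have hv0 : v ≠ 0 := by
    intro h
    obtain ⟨g, hg⟩ := hG
    have := hvP.2 g hg
    simp [h] at this; linarith
  have hnv : 0 < ‖v‖ := norm_pos_iff.mpr hv0
  have hfv : 0 ≤ fm v := fm_le.mpr hvP.1
  have hgv : 1 ≤ gm v := gm_le.mpr hvP.2
  have huniq : ∀ w ∈ P, ‖w‖ = ‖v‖ → w = v := by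
    intro w hw hwn
    have hm : (1 / 2 : ℝ) • (w + v) ∈ P := by
      refine ⟨fun f hf => ?_, fun g hg => ?_⟩
      · rw [map_smul, map_add, smul_eq_mul]; linarith [hw.1 f hf, hvP.1 f hf]
      · rw [map_smul, map_add, smul_eq_mul]; linarith [hw.2 g hg, hvP.2 g hg]
    have h1 := hmin _ hm
    rw [norm_smul, Real.norm_of_nonneg (by norm_num)] at h1
    have h2 := parallelogram_law_with_norm ℝ w v
    have h3 : ‖w - v‖ = 0 := by nlinarith [norm_nonneg (w - v), norm_nonneg (w + v)]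
    exact sub_eq_zero.mp (norm_eq_zero.mp h3)
  have hscale : ∀ w : E, w ≠ 0 → 0 ≤ fm w → 0 < gm w → (gm w)⁻¹ • w ∈ P := fun w _ h1 h2 =>
    ⟨fun f hf => fm_le.mp (hfsmul _ w (by positivity) h1) f hf, fun g hg => by
      rw [map_smul, smul_eq_mul, inv_mul_eq_div, le_div_iff₀ h2, one_mul]
      exact gm_le.mp le_rfl g hg⟩
  have hub : ∀ w : E, w ≠ 0 → 0 ≤ fm w → gm w / ‖w‖ ≤ 1 / ‖v‖ ∧
      (gm w / ‖w‖ = 1 / ‖v‖ → ∃ t : ℝ, 0 < t ∧ w = t • v) := by
    intro w hw0 hwf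
    have hnw : 0 < ‖w‖ := norm_pos_iff.mpr hw0
    rcases le_or_gt (gm w) 0 with h | h
    · have : gm w / ‖w‖ ≤ 0 := div_nonpos_of_nonpos_of_nonneg h hnw.le
      have h' : 0 < 1 / ‖v‖ := by positivity
      exact ⟨by linarith, fun h'' => by linarith⟩
    · have h1 := hmin _ (hscale w hw0 hwf h)
      rw [norm_smul, Real.norm_of_nonneg (inv_nonneg.mpr h.le), inv_mul_eq_div] at h1
      refine ⟨?_, fun he => ⟨gm w, h, ?_⟩⟩
      · rw [le_div_iff₀ h] at h1
        rw [div_le_div_iff₀ hnw hnv]; linarith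
      · have h2 : ‖(gm w)⁻¹ • w‖ = ‖v‖ := by
          rw [norm_smul, Real.norm_of_nonneg (inv_nonneg.mpr h.le), inv_mul_eq_div,
            div_eq_iff h.ne']
          rw [div_eq_div_iff hnw.ne' hnv.ne'] at he
          linarith
        rw [← huniq _ (hscale w hw0 hwf h) h2, smul_inv_smul₀ h.ne']
  have hgm1 : gm v / ‖v‖ = 1 / ‖v‖ :=
    le_antisymm (hub v hv0 hfv).1 (by gcongr)
  -- orthogonality to the active constraints
  have horth : ∀ w : E, (∀ f ∈ F, f v = 0 → f w = 0) → (∀ g ∈ G, g v = 1 → g w = 0) →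
      inner ℝ v w = (0 : ℝ) := by
    intro w hwF hwG
    have hev : ∀ᶠ t in nhds (0 : ℝ), v + t • w ∈ P := by
      have key : ∀ (f : Module.Dual ℝ E) (a : ℝ), a ≤ f v → (f v = a → f w = 0) →
          ∀ᶠ t in nhds (0 : ℝ), a ≤ f (v + t • w) := by
        intro f a hle heq
        rcases hle.eq_or_lt with h | h
        · refine Filter.Eventually.of_forall fun t => ?_
          rw [map_add, map_smul, heq h.symm, smul_zero, add_zero]; exact hle
        · have hc : Continuous fun t : ℝ => f (v + t • w) := (hcont f).comp (by fun_prop)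
          have ht := hc.tendsto 0
          rw [zero_smul, add_zero] at ht
          exact (ht.eventually (eventually_gt_nhds h)).mono fun t ht => ht.le
      simp only [hP, Set.mem_setOf_eq]
      exact ((Filter.eventually_all_finset F).mpr fun f hf => key f 0 (hvP.1 f hf) (hwF f hf)).and
        ((Filter.eventually_all_finset G).mpr fun g hg => key g 1 (hvP.2 g hg) (hwG g hg))
    have hloc : IsLocalMin (fun t : ℝ => ‖v + t • w‖ ^ 2) 0 := by
      filter_upwards [hev] with t ht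
      simpa using pow_le_pow_left₀ (norm_nonneg _) (hmin _ ht) 2
    have hd : HasDerivAt (fun t : ℝ => ‖v + t • w‖ ^ 2) (2 * inner ℝ v w) 0 := by
      simpa using (((hasDerivAt_id (0 : ℝ)).smul_const w).const_add v).norm_sq
    linarith [hloc.hasDerivAt_eq_zero hd]
  -- rationality
  let ι := Module.Free.ChooseBasisIndex ℤ L
  let b : Module.Basis ι ℤ L := Module.Free.chooseBasis ℤ L
  let bE : Module.Basis ι ℝ E := b.ofZLatticeBasis ℝ L
  have hbE : ∀ i, bE i ∈ L := fun i => by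
    simp [bE, Module.Basis.ofZLatticeBasis_apply]
  have hrat : ∀ i, ∃ q : ℚ, bE.repr v i = (q : ℝ) := by
    intro i
    by_contra hne
    push Not at hne
    have hnot : bE.repr v i ∉ Submodule.span ℚ ({1} : Set ℝ) := fun h => by
      obtain ⟨q, hq⟩ := Submodule.mem_span_singleton.mp h
      exact hne q (by rw [← hq]; simp [Rat.smul_def])
    obtain ⟨φ, hφi, hφ1⟩ := Submodule.exists_dual_map_eq_bot_of_notMem hnot inferInstance
    have hφ1' : φ 1 = 0 := (Submodule.mem_bot ℚ).mp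
      (hφ1 ▸ Submodule.mem_map_of_mem (Submodule.mem_span_singleton_self (1 : ℝ)))
    have hφn : ∀ (n : ℤ) (x : ℝ), φ (x * n) = φ x * n := fun n x => by
      rw [mul_comm, ← zsmul_eq_mul, map_zsmul, zsmul_eq_mul, mul_comm]
    set y : E := ∑ j, ((φ (bE.repr v j) : ℚ) : ℝ) • bE j with hy
    have key : ∀ ψ : Module.Dual ℝ E, (∀ j, ∃ n : ℤ, ψ (bE j) = n) →
        ψ y = ((φ (ψ v) : ℚ) : ℝ) := by
      intro ψ hψ
      choose n hn using hψ
      have e1 : ψ v = ∑ j, bE.repr v j * (n j : ℝ) := by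
        conv_lhs => rw [← bE.sum_repr v]
        simp only [map_sum, map_smul, smul_eq_mul, hn]
      rw [e1]
      simp only [hy, map_sum, map_smul, smul_eq_mul, hn, hφn]
      push_cast
      rfl
    have hyF : ∀ f ∈ F, f v = 0 → f y = 0 := fun f hf h => by
      rw [key f fun j => hFi f hf _ (hbE j), h]; simp
    have hyG : ∀ g ∈ G, g v = 1 → g y = 0 := fun g hg h => by
      rw [key g fun j => hGi g hg _ (hbE j), h, hφ1']; simp
    have hvy := horth y hyF hyG
    have hyy : inner ℝ y y = (0 : ℝ) := by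
      have hj : ∀ j, inner ℝ (bE j) y = ((φ (inner ℝ (bE j) v) : ℚ) : ℝ) := fun j =>
        key (innerₛₗ ℝ (bE j)) fun j' => hint _ (hbE j) _ (hbE j')
      have hsum : ∀ z : E, inner ℝ y z = ∑ j, ((φ (bE.repr v j) : ℚ) : ℝ) * inner ℝ (bE j) z := by
        intro z
        rw [hy]
        simp only [sum_inner, real_inner_smul_left]
      have h0 : ∑ j, ((φ (bE.repr v j) : ℚ) : ℝ) * inner ℝ (bE j) v = 0 := by
        rw [← hsum, real_inner_comm, hvy]
      have hq : ((φ (∑ j, ((φ (bE.repr v j) : ℚ) : ℝ) * inner ℝ (bE j) v) : ℚ) : ℝ) =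
          ∑ j, ((φ (bE.repr v j) : ℚ) : ℝ) * inner ℝ (bE j) y := by
        simp only [map_sum, hj]
        push_cast
        refine Finset.sum_congr rfl fun j _ => ?_
        rw [← Rat.smul_def, map_smul, smul_eq_mul]
        push_cast
        rfl
      rw [hsum, ← hq, h0, map_zero, Rat.cast_zero]
    have hy0 : y = 0 := inner_self_eq_zero.mp hyy
    have := congr_arg (fun x => bE.repr x i) hy0
    simp [hy, Module.Basis.repr_self, Finsupp.single_apply] at this
    exact hφi (by exact_mod_cast this)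
  choose q hq using hrat
  -- the primitive lattice vector on the ray
  let d : ℕ := ∏ i, (q i).den
  have hd : 0 < d := Finset.prod_pos fun i _ => (q i).den_pos
  have hdv : (d : ℝ) • v ∈ L := by
    rw [← bE.sum_repr v, Finset.smul_sum]
    refine Submodule.sum_mem _ fun i _ => ?_
    obtain ⟨c, hc⟩ : (q i).den ∣ d := Finset.dvd_prod_of_mem _ (Finset.mem_univ i)
    rw [smul_smul, hq i, show (d : ℝ) * (q i : ℝ) = (((c : ℤ) * (q i).num : ℤ) : ℝ) by
      rw [hc, Rat.cast_def]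
      push_cast
      field_simp, Int.cast_smul_eq_zsmul]
    exact L.smul_mem _ (hbE i)
  obtain ⟨i₀, hi₀⟩ : ∃ i, bE.repr v i ≠ 0 := by
    by_contra h
    push Not at h
    exact hv0 (bE.repr.map_eq_zero_iff.mp (Finsupp.ext fun i => h i))
  have hint' : ∀ s : ℝ, s • v ∈ L → ∃ n : ℤ, s * bE.repr v i₀ = n := fun s hs =>
    ⟨b.repr ⟨s • v, hs⟩ i₀, by
      have h := Module.Basis.ofZLatticeBasis_repr_apply ℝ L b ⟨s • v, hs⟩ i₀
      simpa [bE] using h⟩
  let H : AddSubgroup ℝ :=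
    { carrier := {s | s • v ∈ L}
      add_mem' := fun {a c} ha hc => by simpa [add_smul] using L.add_mem ha hc
      zero_mem' := by simp
      neg_mem' := fun {a} ha => by simpa [neg_smul] using L.neg_mem ha }
  let K : AddSubgroup ℤ :=
    (H.map (AddMonoidHom.mulRight (bE.repr v i₀))).comap (Int.castAddHom ℝ)
  obtain ⟨a, ha⟩ := Int.subgroup_cyclic K
  have hHa : ∀ s, s • v ∈ L → ∃ n : ℤ, s = n * ((a : ℝ) / bE.repr v i₀) := by
    intro s hs
    obtain ⟨j, hj⟩ := hint' s hs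
    have : j ∈ K := ⟨s, hs, by simpa using hj⟩
    rw [ha, AddSubgroup.mem_closure_singleton] at this
    obtain ⟨n, hn⟩ := this
    refine ⟨n, ?_⟩
    rw [← mul_div_assoc, eq_div_iff hi₀, hj, ← hn]
    simp
  have ht0mem : ((a : ℝ) / bE.repr v i₀) • v ∈ L := by
    obtain ⟨s, hs, hse⟩ : a ∈ K := by rw [ha]; exact AddSubgroup.mem_closure_singleton_self a
    have : s = (a : ℝ) / bE.repr v i₀ := by rw [eq_div_iff hi₀]; simpa using hse
    rw [← this]; exact hs
  set t0 := |(a : ℝ) / bE.repr v i₀| with ht0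
  have ht0L : t0 • v ∈ L := by
    rcases abs_choice ((a : ℝ) / bE.repr v i₀) with h | h
    · rw [ht0, h]; exact ht0mem
    · rw [ht0, h, neg_smul]; exact L.neg_mem ht0mem
  have hHt : ∀ s, s • v ∈ L → ∃ n : ℤ, s = n * t0 := by
    intro s hs
    obtain ⟨n, hn⟩ := hHa s hs
    rcases abs_choice ((a : ℝ) / bE.repr v i₀) with h | h
    · exact ⟨n, by rw [ht0, h]; exact hn⟩
    · exact ⟨-n, by rw [ht0, h, hn]; push_cast; ring⟩
  have ht0pos : 0 < t0 := by
    obtain ⟨n, hn⟩ := hHt d hdv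
    refine lt_of_le_of_ne (abs_nonneg _) fun h => ?_
    rw [← h, mul_zero] at hn
    exact hd.ne' (by exact_mod_cast hn)
  have hray : ∀ t : ℝ, 0 < t → t • v ≠ 0 ∧ 0 ≤ fm (t • v) ∧ gm (t • v) / ‖t • v‖ = 1 / ‖v‖ := by
    intro t ht
    have h0 : t • v ≠ 0 := smul_ne_zero ht.ne' hv0
    have hf := hfsmul t v ht.le hfv
    refine ⟨h0, hf, le_antisymm (hub _ h0 hf).1 ?_⟩
    rw [norm_smul, Real.norm_of_nonneg ht.le]
    rw [div_le_div_iff₀ hnv (mul_pos ht hnv), one_mul]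
    refine mul_le_mul_of_nonneg_right (gm_le.mpr fun g hg => ?_) hnv.le
    rw [map_smul, smul_eq_mul]; exact le_mul_of_one_le_right ht.le (hvP.2 g hg)
  refine ⟨1 / ‖v‖, ⟨⟨v, ⟨hv0, hfv⟩, hgm1⟩, ?_⟩, t0 • v,
    ⟨ht0L, (hray t0 ht0pos).1, (hray t0 ht0pos).2.1, (hray t0 ht0pos).2.2, ?_⟩, ?_⟩
  · rintro _ ⟨w, ⟨hw0, hwf⟩, rfl⟩
    exact (hub w hw0 hwf).1
  · intro w hwL hw0 hwf hwM
    obtain ⟨t, ht, rfl⟩ := (hub w hw0 hwf).2 hwM
    obtain ⟨n, rfl⟩ := hHt t hwL
    exact ⟨n, by rw [mul_smul, Int.cast_smul_eq_zsmul]⟩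
  · rintro w ⟨hwL, hw0, hwf, hwM, hwall⟩
    obtain ⟨t, ht, rfl⟩ := (hub w hw0 hwf).2 hwM
    obtain ⟨n, rfl⟩ := hHt t hwL
    obtain ⟨n', hn'⟩ :=
      hwall (t0 • v) ht0L (hray t0 ht0pos).1 (hray t0 ht0pos).2.1 (hray t0 ht0pos).2.2
    rw [← Int.cast_smul_eq_zsmul ℝ, smul_smul] at hn'
    have h1 := smul_left_injective ℝ hv0 hn'
    have h2 : ((n' * n : ℤ) : ℝ) = 1 := by
      push_cast
      have : ((n' : ℝ) * n) * t0 = 1 * t0 := by linarith
      exact mul_right_cancel₀ ht0pos.ne' this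
    have hn1 : 0 < n := by
      rcases le_or_gt n 0 with h | h
      · have : (n : ℝ) ≤ 0 := by exact_mod_cast h
        nlinarith
      · exact h
    have : n = 1 := Int.eq_one_of_mul_eq_one_left hn1.le (by exact_mod_cast h2)
    rw [this, Int.cast_one, one_mul]

end Groth.Agent.S17517
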