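import Groth.Statements.S17525
import Groth.Agent.HopfFF.ReductiveExt
import Groth.Agent.HopfFF.SplitUnip


set_option autoImplicit false
universe u
open HopfRep

namespace Groth.Agent.S17525

open TensorProduct CoalgebraStruct Groth.Agent.HopfFF Groth.Agent.ComodBasic


/-- Let `k` be a field and `1 → K → G → Q → 1` an exact sequence of affine group schemes of finite type
over `k`, written on coordinate rings: `AQ`, `AG`, `AK` are commutative Hopf algebras of finite type
over `k`, `φ : AQ → AG` is an injective bialgebra map (so `G → Q` is faithfully flat) and `ψ : AG →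
AK` is a surjective bialgebra map (so `K` is a closed subgroup of `G`) whose kernel is the ideal
generated by the image under `φ` of the augmentation ideal of `AQ` (so `K` is the kernel of `G →
Q`). Then `G` is linearly reductive — every finite-dimensional comodule is semisimple — if and only
if both `K` and `Q` are. -/
theorem result
    (k : Type u) [Field k]
    (AQ AG AK : Type u) [CommRing AQ] [HopfAlgebra k AQ] [Algebra.FiniteType k AQ]
    [CommRing AG] [HopfAlgebra k AG] [Algebra.FiniteType k AG]
    [CommRing AK] [HopfAlgebra k AK] [Algebra.FiniteType k AK]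
    (φ : AQ →ₐc[k] AG) (hφ : Function.Injective φ)
    (ψ : AG →ₐc[k] AK) (hψ : Function.Surjective ψ)
    (hker : RingHom.ker (ψ : AG →ₐ[k] AK) =
      Ideal.map (φ : AQ →ₐ[k] AG) (RingHom.ker (Bialgebra.counitAlgHom k AQ))) :
    HopfRep.IsLinearlyReductive k AG ↔
      HopfRep.IsLinearlyReductive k AK ∧ HopfRep.IsLinearlyReductive k AQ := by
  classical
  let B : Subalgebra k AG := (φ : AQ →ₐ[k] AG).range
  have hB := Split.isHopfSubalgebra_range φ
  have hker' : RingHom.ker (ψ : AG →ₐ[k] AK) = Ideal.span {a | a ∈ B ∧ counit (R := k) a = 0} := by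
    rw [hker]
    refine le_antisymm (Ideal.map_le_iff_le_comap.2 fun q hq => Ideal.subset_span ⟨⟨q, rfl⟩, ?_⟩)
      (Ideal.span_le.2 ?_)
    · show counit (R := k) (φ q) = 0
      rw [CoalgHomClass.counit_comp_apply]
      exact hq
    · rintro a ⟨⟨q, rfl⟩, h0⟩
      refine Ideal.mem_map_of_mem _ ?_
      rw [RingHom.mem_ker]
      show counit (R := k) q = 0
      rw [← CoalgHomClass.counit_comp_apply φ q]
      exact h0
  constructor
  · intro hG
    obtain ⟨α, hα, hα1⟩ := exists_isLeftInt hG
    refine ⟨fun V _ _ _ _ => ?_, fun V _ _ _ _ => ?_⟩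
    · obtain ⟨β, hβ, hβ1⟩ := RedExt.exists_isLeftInt_kernel B hB.1 hB.2 ψ hψ hker' hα hα1
      exact isSemisimpleComod_iff.2 (isSemisimpleModule_of_isLeftInt hβ hβ1)
    · refine isSemisimpleComod_iff.2 (isSemisimpleModule_of_isLeftInt (α := α ∘ₗ (φ : AQ →ₐ[k] AG).toLinearMap)
        (fun q => hφ ?_) (by simp [hα1]))
      have h := hα (φ q)
      rw [← CoalgHomClass.map_comp_comul_apply φ] at h
      refine Eq.trans ?_ (h.trans (by simp))
      generalize comul (R := k) q = y
      induction y using TensorProduct.induction_on with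
      | zero => simp
      | add a b ha hb => simp only [map_add, ha, hb]
      | tmul a b => simp
  · rintro ⟨hK, hQ⟩ V _ _ _ _
    obtain ⟨αK, hαK, hαK1⟩ := exists_isLeftInt hK
    obtain ⟨αQ, hαQ, hαQ1⟩ := exists_isLeftInt hQ
    let E : AG →ₗ[k] AG := act (V := AG) (αK ∘ₗ (ψ : AG →ₐ[k] AK).toLinearMap)
    have hE : ∀ x, comul (R := k) (E x) = E.lTensor AG (comul (R := k) x) := fun x => coact_act (V := AG) (αK ∘ₗ (ψ : AG →ₐ[k] AK).toLinearMap) x
    have hψE : ∀ y, ψ (E y) = αK (ψ y) • (1 : AK) := by
      intro y
      rw [show E y = slice (αK ∘ₗ (ψ : AG →ₐ[k] AK).toLinearMap) (comul (R := k) y) from rfl,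
        ← hαK, ← CoalgHomClass.map_comp_comul_apply ψ]
      generalize comul (R := k) y = z
      induction z using TensorProduct.induction_on with
      | zero => simp
      | add a b ha hb => simp only [map_add, ha, hb]
      | tmul a b => simp
    have hEB : ∀ x, ∃ q, φ q = E x := by
      intro x
      refine mem_of_invariant hB.1 hB.2 (J := RingHom.ker (ψ : AG →ₐ[k] AK)) hker'.le ?_
      rw [hE]
      have e : E x = slice (αK ∘ₗ (ψ : AG →ₐ[k] AK).toLinearMap) (comul (R := k) x) := rfl
      rw [e]
      generalize comul (R := k) x = z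
      induction z using TensorProduct.induction_on with
      | zero => simp
      | add a b ha hb => simp only [map_add, ha, hb, add_tmul]
      | tmul a b =>
        have hm : Ideal.Quotient.mk (RingHom.ker (ψ : AG →ₐ[k] AK)) (E b) = αK (ψ b) • 1 := by
          rw [← map_one (Ideal.Quotient.mk (RingHom.ker (ψ : AG →ₐ[k] AK))), ← Ideal.Quotient.mkₐ_eq_mk k,
            ← map_smul, Ideal.Quotient.mkₐ_eq_mk, Ideal.Quotient.eq, RingHom.mem_ker, map_sub, map_smul, map_one]
          rw [sub_eq_zero]
          exact hψE b
        simp only [LinearMap.lTensor_tmul, Algebra.TensorProduct.map_tmul, AlgHom.id_apply,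
          Ideal.Quotient.mkₐ_eq_mk, slice_tmul, LinearMap.comp_apply, AlgHom.toLinearMap_apply]
        rw [hm, tmul_smul, smul_tmul']
        rfl
    obtain ⟨p, hp⟩ := LinearMap.exists_leftInverse_of_injective (φ : AQ →ₐ[k] AG).toLinearMap
      (LinearMap.ker_eq_bot.2 hφ)
    have hp' : ∀ q, p (φ q) = q := fun q => LinearMap.congr_fun hp q
    refine isSemisimpleComod_iff.2 (isSemisimpleModule_of_isLeftInt (α := αQ ∘ₗ p ∘ₗ E) (fun x => ?_) ?_)
    · obtain ⟨q, hq⟩ := hEB x
      have h := congrArg φ (hαQ q)
      rw [map_smul, map_one] at h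
      simp only [LinearMap.comp_apply, ← hq, hp', ← h]
      have h2 := hE x
      rw [← hq, ← CoalgHomClass.map_comp_comul_apply φ] at h2
      have h3 := congrArg (slice (αQ ∘ₗ p)) h2
      refine Eq.trans ?_ (h3.symm.trans ?_)
      · generalize comul (R := k) x = y
        induction y using TensorProduct.induction_on with
        | zero => simp
        | add a b ha hb => simp only [map_add, ha, hb]
        | tmul a b => simp
      · generalize comul (R := k) q = y
        induction y using TensorProduct.induction_on with
        | zero => simp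
        | add a b ha hb => simp only [map_add, ha, hb]
        | tmul a b => simp [hp']
    · have e : E (1 : AG) = φ 1 := by
        rw [show E 1 = slice (αK ∘ₗ (ψ : AG →ₐ[k] AK).toLinearMap) (comul (R := k) (1 : AG)) from rfl,
          Bialgebra.comul_one, Algebra.TensorProduct.one_def, slice_tmul]
        simp [hαK1]
      have : p 1 = 1 := by simpa using hp' 1
      simp [e, this, hαQ1]

end Groth.Agent.S17525
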