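import Groth.Statements.S17537
import Mathlib
-- import your own Groth.Agent.* helpers here

set_option autoImplicit false
universe u v
open CAlg

namespace Groth.Agent.S17537

/-- For a commutative ring A, an ideal I and an A-module M, the I-adic completion M^ of M is itself
I-adically complete if and only if, for every n, every element of M^ is congruent modulo I^n M^ to
the image of an element of M (the maps M/I^n M → M^/I^n M^ are surjective). -/
theorem result {A : Type u} [CommRing A] (I : Ideal A)
    (M : Type v) [AddCommGroup M] [Module A M] :
    IsAdicComplete I (AdicCompletion I M) ↔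
      ∀ (n : ℕ) (x : AdicCompletion I M), ∃ y : M,
        x - AdicCompletion.of I M y ∈ (I ^ n • ⊤ : Submodule A (AdicCompletion I M)) := by
  have hle : ∀ n, (I ^ n • ⊤ : Submodule A (AdicCompletion I M)) ≤
      LinearMap.ker (AdicCompletion.eval I M n) := by
    intro n
    refine Submodule.smul_le.mpr fun r hr x _ => ?_
    rw [LinearMap.mem_ker, map_smul]
    obtain ⟨m, hm⟩ := Submodule.mkQ_surjective _ (AdicCompletion.eval I M n x)
    rw [← hm, ← map_smul]
    exact (Submodule.Quotient.mk_eq_zero _).mpr (Submodule.smul_mem_smul hr Submodule.mem_top)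
  have hof : ∀ (j : ℕ) (y : M), y ∈ (I ^ j • ⊤ : Submodule A M) →
      AdicCompletion.of I M y ∈ (I ^ j • ⊤ : Submodule A (AdicCompletion I M)) := fun j y hy => by
    have h1 := Submodule.mem_map_of_mem (f := AdicCompletion.of I M) hy
    rw [Submodule.map_smul''] at h1
    exact Submodule.smul_mono le_rfl le_top h1
  constructor
  · intro hC n x
    choose s hs using fun j => Submodule.mkQ_surjective (I ^ j • ⊤ : Submodule A M) (AdicCompletion.eval I M j x)
    have hc : ∀ {i j : ℕ}, i ≤ j → AdicCompletion.of I M (s i) ≡ AdicCompletion.of I M (s j)
        [SMOD (I ^ i • ⊤ : Submodule A (AdicCompletion I M))] := by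
      intro i j hij
      rw [SModEq.sub_mem, ← map_sub]
      refine hof i _ ?_
      have h1 : AdicCompletion.transitionMap I M hij (AdicCompletion.eval I M j x) =
          AdicCompletion.eval I M i x :=
        AdicCompletion.transitionMap_comp_eval_apply I M hij x
      rw [← hs i, ← hs j] at h1
      exact (Submodule.Quotient.eq _).mp h1.symm
    obtain ⟨L, hL⟩ := IsPrecomplete.prec hC.toIsPrecomplete hc
    have hLx : L = x := by
      refine AdicCompletion.ext fun {i} => ?_
      show AdicCompletion.eval I M i L = AdicCompletion.eval I M i x
      have h1 := hle i (SModEq.sub_mem.mp (hL i))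
      rw [LinearMap.mem_ker, map_sub, sub_eq_zero, AdicCompletion.eval_of, hs i] at h1
      exact h1.symm
    refine ⟨s n, ?_⟩
    have := neg_mem (SModEq.sub_mem.mp (hL n))
    rwa [neg_sub, hLx] at this
  · intro h
    have hker : ∀ n, LinearMap.ker (AdicCompletion.eval I M n) =
        (I ^ n • ⊤ : Submodule A (AdicCompletion I M)) := by
      intro n
      refine le_antisymm (fun x hx => ?_) (hle n)
      obtain ⟨y, hy⟩ := h n x
      have h1 := hle n hy
      rw [LinearMap.mem_ker, map_sub, LinearMap.mem_ker.mp hx, zero_sub, neg_eq_zero,
        AdicCompletion.eval_of] at h1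
      have := add_mem hy (hof n y ((Submodule.Quotient.mk_eq_zero _).mp h1))
      rwa [sub_add_cancel] at this
    exact
    { haus' := fun x hx => by
        refine AdicCompletion.ext fun {i} => ?_
        show AdicCompletion.eval I M i x = AdicCompletion.eval I M i 0
        rw [map_zero]
        exact hle i (SModEq.zero.mp (hx i))
      prec' := fun s hs => by
        have hc : ∀ {i j : ℕ}, i ≤ j →
            AdicCompletion.eval I M i (s i) = AdicCompletion.eval I M i (s j) := fun {i j} hij => by
          have h1 := hle i (SModEq.sub_mem.mp (hs hij))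
          rwa [LinearMap.mem_ker, map_sub, sub_eq_zero] at h1
        let L : AdicCompletion I M := ⟨fun i => AdicCompletion.eval I M i (s i), fun {i j} hij =>
          (AdicCompletion.transitionMap_comp_eval_apply I M hij (s j)).trans (hc hij).symm⟩
        refine ⟨L, fun i => SModEq.sub_mem.mpr ?_⟩
        rw [← hker, LinearMap.mem_ker, map_sub, sub_eq_zero]
        rfl }

end Groth.Agent.S17537
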