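import Groth.Statements.S17538
import Mathlib
-- import your own Groth.Agent.* helpers here

set_option autoImplicit false
universe u v
open CAlg

namespace Groth.Agent.S17538

/-- For a commutative ring A, an ideal I and an A-module M, the canonical map from the I-adic completion
M^ to the I-adic completion of M^ admits an A-linear retraction (it is a split injection). (That M^
is I-adically separated is standard.) -/
theorem result {A : Type u} [CommRing A] (I : Ideal A)
    (M : Type v) [AddCommGroup M] [Module A M] :
    ∃ ψ : AdicCompletion I (AdicCompletion I M) →ₗ[A] AdicCompletion I M,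
      ψ ∘ₗ AdicCompletion.of I (AdicCompletion I M) = LinearMap.id := by
  classical
  have h : ∀ n, (I ^ n • ⊤ : Submodule A (AdicCompletion I M)) ≤
      LinearMap.ker (AdicCompletion.eval I M n) := by
    intro n
    refine Submodule.smul_le.mpr fun r hr x _ => ?_
    rw [LinearMap.mem_ker, map_smul]
    obtain ⟨m, hm⟩ := Submodule.mkQ_surjective _ (AdicCompletion.eval I M n x)
    rw [← hm, ← map_smul]
    exact (Submodule.Quotient.mk_eq_zero _).mpr (Submodule.smul_mem_smul hr Submodule.mem_top)
  refine ⟨AdicCompletion.lift I (fun n => (Submodule.liftQ _ (AdicCompletion.eval I M n) (h n)) ∘ₗ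
    AdicCompletion.eval I (AdicCompletion I M) n) ?_, ?_⟩
  · intro m n hmn
    refine LinearMap.ext fun x => ?_
    obtain ⟨y, hy⟩ := Submodule.mkQ_surjective _ (AdicCompletion.eval I (AdicCompletion I M) n x)
    simp only [LinearMap.comp_apply]
    have h2 : AdicCompletion.eval I (AdicCompletion I M) m x = AdicCompletion.transitionMap I
        (AdicCompletion I M) hmn (AdicCompletion.eval I (AdicCompletion I M) n x) :=
      (AdicCompletion.transitionMap_comp_eval_apply I (AdicCompletion I M) hmn x).symm
    rw [h2, ← hy]
    exact AdicCompletion.transitionMap_comp_eval_apply I M hmn y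
  · refine LinearMap.ext fun x => AdicCompletion.ext fun {n} => ?_
    rw [LinearMap.comp_apply]
    refine (AdicCompletion.eval_lift_apply I _ _ n _).trans ?_
    rfl

end Groth.Agent.S17538
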