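import Groth.Statements.S17539
import Groth.Agent.Decaying.Basic

set_option autoImplicit false
universe u v w
open W4c5adicflatcompl
open CAlg

namespace Groth.Agent.S17539

/-- For a commutative ring A, an ideal I, a set Z and an A-module M whose I-adic completion M^ is itself
I-adically complete, the canonical map from the I-adic completion of Z →₀ M to the functions Z → M^,
whose z-th coordinate is the completion of evaluation at z, is injective with image the I-adically
decaying functions Z → M^. (The source states bijectivity of the inverse map, from decaying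
functions to the limit of the finitely supported functions Z → M/I^n M, induced by the projections
M^ → M/I^n M; the two formulations are equivalent.) -/
theorem result {A : Type u} [CommRing A] (I : Ideal A) (Z : Type v)
    (M : Type w) [AddCommGroup M] [Module A M] [IsAdicComplete I (AdicCompletion I M)] :
    Function.Injective
        (LinearMap.pi fun z : Z =>
          (AdicCompletion.map I (Finsupp.lapply (M := M) (R := A) z)).restrictScalars A) ∧
      LinearMap.range
        (LinearMap.pi fun z : Z =>
          (AdicCompletion.map I (Finsupp.lapply (M := M) (R := A) z)).restrictScalars A) =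
        decaying I Z (AdicCompletion I M) := by
  classical
  have hcoord : ∀ (n : ℕ) (z : Z) (x : AdicCompletion I (Z →₀ M)) (f : Z →₀ M), x.val n = Submodule.Quotient.mk f →
      (AdicCompletion.map I (Finsupp.lapply (M := M) (R := A) z) x).val n = Submodule.Quotient.mk (f z) := by
    intro n z x f hf
    rw [AdicCompletion.map_val_apply, hf]
    rfl
  have hfs : ∀ (n : ℕ) (f : Z →₀ M), (∀ z, f z ∈ (I ^ n • ⊤ : Submodule A M)) →
      f ∈ (I ^ n • ⊤ : Submodule A (Z →₀ M)) := fun n f hf => by
    rw [← f.sum_single]
    exact Submodule.sum_mem _ fun z _ => Decaying.map_mem_pow (Finsupp.lsingle z) (hf z)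
  refine ⟨?_, ?_⟩
  · intro x y hxy
    refine AdicCompletion.ext fun n => ?_
    obtain ⟨f, hf⟩ := Submodule.Quotient.mk_surjective _ (x.val n)
    obtain ⟨g, hg⟩ := Submodule.Quotient.mk_surjective _ (y.val n)
    rw [← hf, ← hg, Submodule.Quotient.eq]
    refine hfs n _ fun z => ?_
    have h := congrArg (fun q => (q z).val n) hxy
    simp only [LinearMap.pi_apply, LinearMap.coe_restrictScalars, hcoord n z x f hf.symm, hcoord n z y g hg.symm] at h
    exact (Submodule.Quotient.eq _).1 h
  · refine le_antisymm ?_ fun g hg => ?_
    · rintro _ ⟨x, rfl⟩ n
      obtain ⟨f, hf⟩ := Submodule.Quotient.mk_surjective _ (x.val n)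
      refine f.support.finite_toSet.subset fun z hz => ?_
      by_contra h0
      refine hz (Decaying.ker_eval ?_)
      simp only [Finset.mem_coe, Finsupp.notMem_support_iff] at h0
      rw [LinearMap.pi_apply, LinearMap.coe_restrictScalars, hcoord n z x f hf.symm, h0]
      rfl
    · choose a ha using fun n z => Submodule.Quotient.mk_surjective (I ^ n • ⊤ : Submodule A M) ((g z).val n)
      let F : ℕ → (Z →₀ M) := fun n => ∑ z ∈ (hg n).toFinset, Finsupp.single z (a n z)
      have hF : ∀ n z, Submodule.Quotient.mk (F n z) = (g z).val n := by
        intro n z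
        simp only [F, Finsupp.finsetSum_apply, Finsupp.single_apply, Finset.sum_ite_eq']
        split_ifs with hz
        · exact ha n z
        · have h0 : g z ∈ (I ^ n • ⊤ : Submodule A (AdicCompletion I M)) := by simpa using hz
          have h1 := Decaying.map_mem_pow (AdicCompletion.eval I M n) h0
          have h2 : (I ^ n • ⊤ : Submodule A (M ⧸ (I ^ n • ⊤ : Submodule A M))) = ⊥ := by
            rw [← Submodule.range_mkQ (I ^ n • ⊤ : Submodule A M), ← Submodule.map_top, ← Submodule.map_smul'',
              Submodule.mkQ_map_self]
          rw [h2] at h1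
          exact ((Submodule.mem_bot A).1 h1).symm
      refine ⟨⟨fun n => Submodule.Quotient.mk (F n), fun {m n} hmn => ?_⟩,
        funext fun z => AdicCompletion.ext fun n => ?_⟩
      · show Submodule.Quotient.mk (F n) = Submodule.Quotient.mk (F m)
        rw [Submodule.Quotient.eq]
        refine hfs m _ fun z => ?_
        rw [Finsupp.sub_apply, ← Submodule.Quotient.eq, hF m z, ← (g z).2 hmn, ← hF n z]
        rfl
      · rw [LinearMap.pi_apply, LinearMap.coe_restrictScalars, hcoord n z _ (F n) rfl]
        exact hF n z

end Groth.Agent.S17539
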