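import Groth.Statements.S17549
import Groth.Agent.Decaying.Apps

set_option autoImplicit false
universe u
open W4c5adicflatcompl
open CAlg

namespace Groth.Agent.S17549

/-- Over a Noetherian ring A with I-adic completion Â, an A-module P is I-adically projective
(I-adically complete, and every A-linear map from P to the target of a surjection between I-adically
complete modules lifts along that surjection) exactly when P is a retract of some module of
I-adically decaying functions Z → Â: there are a set Z, an A-linear map i from P to the decaying
functions Z → Â and an A-linear map r back with r ∘ i the identity of P. Test modules, P and Z live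
in the universe of A. -/
theorem result {A : Type u} [CommRing A] [IsNoetherianRing A]
    (I : Ideal A) (P : Type u) [AddCommGroup P] [Module A P] :
    IsAdicProjective I P ↔
      ∃ (Z : Type u) (i : P →ₗ[A] decaying I Z (AdicCompletion I A))
        (r : decaying I Z (AdicCompletion I A) →ₗ[A] P), r ∘ₗ i = LinearMap.id := by
  classical
  have hI : I.FG := IsNoetherian.noetherian I
  haveI : IsAdicComplete I (AdicCompletion I A) := AdicCompletion.isAdicComplete hI
  constructor
  · rintro ⟨hP, hlift⟩
    obtain ⟨r, hr, -⟩ := Decaying.existsUnique_single (I := I) hI (id : P → P)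
    have hsurj : Function.Surjective r := fun p => ⟨_, hr p⟩
    obtain ⟨i, hi⟩ := hlift _ P (Decaying.isAdicComplete_decaying hI) hP r hsurj LinearMap.id
    exact ⟨P, i, r, hi⟩
  · rintro ⟨Z, i, r, hri⟩
    haveI := Decaying.isAdicComplete_decaying (I := I) (Z := Z) (N := AdicCompletion I A) hI
    have hri' : ∀ x, r (i x) = x := fun x => LinearMap.congr_fun hri x
    refine ⟨{ toIsHausdorff := ⟨fun x hx => ?_⟩, toIsPrecomplete := ⟨fun f hf => ?_⟩ }, ?_⟩
    · rw [← hri' x, Decaying.eq_zero_of_forall (I := I) fun n => Decaying.map_mem_pow i (SModEq.zero.1 (hx n)), map_zero]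
    · obtain ⟨L, hL⟩ := IsPrecomplete.prec (inferInstance : IsPrecomplete I (decaying I Z (AdicCompletion I A)))
        (f := fun n => i (f n)) fun {m n} hmn => by
          rw [SModEq.sub_mem, ← map_sub]
          exact Decaying.map_mem_pow i (SModEq.sub_mem.1 (hf hmn))
      refine ⟨r L, fun n => SModEq.sub_mem.2 ?_⟩
      have := Decaying.map_mem_pow r (SModEq.sub_mem.1 (hL n))
      rwa [map_sub, hri'] at this
    · intro M N _ _ _ _ hM hN φ hφ ψ
      choose m hm using fun z => hφ (ψ (r (single I z (1 : AdicCompletion I A))))
      obtain ⟨χ, hχ, -⟩ := Decaying.existsUnique_single (I := I) hI m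
      obtain ⟨_, -, huniq⟩ := Decaying.existsUnique_single (I := I) hI
        fun z => ψ (r (single I z (1 : AdicCompletion I A)))
      have h : φ ∘ₗ χ = ψ ∘ₗ r := (huniq _ fun z => by simp [hχ, hm]).trans (huniq _ fun z => rfl).symm
      exact ⟨χ ∘ₗ i, LinearMap.ext fun x => (LinearMap.congr_fun h (i x)).trans (congrArg ψ (hri' x))⟩

end Groth.Agent.S17549
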