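import Groth.Statements.S1755
import Groth.Agent.FiniteH1.Criteria
-- import your own Groth.Agent.* helpers here

set_option autoImplicit false
universe u
open LocCoh

namespace Groth.Agent.S1755

/-- Kollár's criterion for finiteness of first local cohomology, sufficiency direction, in affine form.
Let A be a Noetherian ring, I an ideal and M a finite A-module. Suppose that for every associated
prime p of M not containing I, every prime q containing both p and I, and every associated prime P
of the completion C of the local ring A_q/pA_q at its maximal ideal, the quotient C/P has Krull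
dimension at least 2. Then H¹_I(M) is a finite A-module. (The criterion is an equivalence; only this
implication is asserted here.) -/
theorem result (A : Type u) [CommRing A] [IsNoetherianRing A] (I : Ideal A) (M : Type u) [AddCommGroup M] [Module A M] [Module.Finite A M] (h : ∀ p : Ideal A, p ∈ associatedPrimes A M → ¬ I ≤ p → ∀ (q : PrimeSpectrum A), p ≤ q.asIdeal → I ≤ q.asIdeal → ∀ P ∈ associatedPrimes (AdicCompletion ((IsLocalRing.maximalIdeal (Localization.AtPrime q.asIdeal)).map (Ideal.Quotient.mk (p.map (algebraMap A (Localization.AtPrime q.asIdeal))))) (Localization.AtPrime q.asIdeal ⧸ p.map (algebraMap A (Localization.AtPrime q.asIdeal)))) (AdicCompletion ((IsLocalRing.maximalIdeal (Localization.AtPrime q.asIdeal)).map (Ideal.Quotient.mk (p.map (algebraMap A (Localization.AtPrime q.asIdeal))))) (Localization.AtPrime q.asIdeal ⧸ p.map (algebraMap A (Localization.AtPrime q.asIdeal)))), (2 : WithBot ℕ∞) ≤ ringKrullDim (AdicCompletion ((IsLocalRing.maximalIdeal (Localization.AtPrime q.asIdeal)).map (Ideal.Quotient.mk (p.map (algebraMap A (Localization.AtPrime q.asIdeal)))))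 (Localization.AtPrime q.asIdeal ⧸ p.map (algebraMap A (Localization.AtPrime q.asIdeal))) ⧸ P)) : Module.Finite A (LocCoh.H I 1 M) := by
  refine Groth.Agent.FiniteH1.finite_H1_of_components I M fun p hp hI _ Q _ hQ => ?_
  let q : PrimeSpectrum A := ⟨Q.comap (Ideal.Quotient.mk p), inferInstance⟩
  have hpq : p ≤ q.asIdeal := fun a ha => by
    change Ideal.Quotient.mk p a ∈ Q
    rw [Ideal.Quotient.eq_zero_iff_mem.mpr ha]
    exact zero_mem _
  have hIq : I ≤ q.asIdeal := fun a ha => hQ (Ideal.mem_map_of_mem _ ha)
  obtain ⟨e, he⟩ := Groth.Agent.FiniteH1.exists_localization_quotient_equiv p Q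
  haveI : Nontrivial (Localization.AtPrime (Q.comap (Ideal.Quotient.mk p)) ⧸
      p.map (algebraMap A (Localization.AtPrime (Q.comap (Ideal.Quotient.mk p))))) := e.toEquiv.nontrivial
  haveI : IsLocalRing (Localization.AtPrime (Q.comap (Ideal.Quotient.mk p)) ⧸
      p.map (algebraMap A (Localization.AtPrime (Q.comap (Ideal.Quotient.mk p))))) :=
    .of_surjective' (Ideal.Quotient.mk _) Ideal.Quotient.mk_surjective
  haveI := Groth.Agent.CohenStruct.isNoetherianRing_completion (Localization.AtPrime (Q.comap (Ideal.Quotient.mk p)) ⧸
    p.map (algebraMap A (Localization.AtPrime (Q.comap (Ideal.Quotient.mk p)))))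
  have hmax := IsLocalRing.map_maximalIdeal_of_surjective
    (Ideal.Quotient.mk (p.map (algebraMap A (Localization.AtPrime (Q.comap (Ideal.Quotient.mk p)))))) Ideal.Quotient.mk_surjective
  refine Groth.Agent.FiniteH1.forall_dim_of_ringEquiv (IsLocalRing.maximalIdeal _) (IsLocalRing.maximalIdeal _) e (by rw [← hmax]; exact he) ?_
  have h' := h p hp hI q hpq hIq
  rw [hmax] at h'
  exact h'

end Groth.Agent.S1755
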