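import Groth.Statements.S17550
import Mathlib
-- import your own Groth.Agent.* helpers here

set_option autoImplicit false
universe u
open W4c5adicflatcompl
open scoped TensorProduct
open CAlg

namespace Groth.Agent.S17550

section
open TensorProduct W4c5adicflatcompl

variable {A B : Type u} [CommRing A] [CommRing B] [Algebra A B] {I : Ideal A} {J : Ideal B}

local notation "Ah" => AdicCompletion I A
local notation "Bn" n:max => B ⧸ (J ^ n • (⊤ : Submodule B B))

noncomputable def redMap (hIJ : I.map (algebraMap A B) ≤ J) (n : ℕ) :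
    (A ⧸ (I ^ n • ⊤ : Submodule A A)) →ₗ[A] Bn n :=
  (I ^ n • ⊤ : Submodule A A).liftQ
    (((J ^ n • (⊤ : Submodule B B)).mkQ.restrictScalars A).comp (Algebra.linearMap A B))
    (by
      rw [Submodule.smul_le]
      intro a ha x _
      simp only [LinearMap.mem_ker, LinearMap.comp_apply, Algebra.linearMap_apply, LinearMap.coe_restrictScalars,
        Submodule.mkQ_apply, Submodule.Quotient.mk_eq_zero, smul_eq_mul, map_mul, Ideal.mul_top]
      refine Ideal.mul_mem_right _ _ (Ideal.pow_right_mono hIJ n ?_)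
      rw [← Ideal.map_pow]
      exact Ideal.mem_map_of_mem _ ha)

theorem redMap_mk (hIJ : I.map (algebraMap A B) ≤ J) (n : ℕ) (a : A) :
    redMap hIJ n (Submodule.Quotient.mk a) = Submodule.Quotient.mk (algebraMap A B a) := rfl

noncomputable def theta (hIJ : I.map (algebraMap A B) ≤ J) (n : ℕ) : Ah →ₗ[A] Bn n :=
  (redMap hIJ n).comp (AdicCompletion.eval I A n)

theorem theta_compat (hIJ : I.map (algebraMap A B) ≤ J) {m n : ℕ} (hmn : m ≤ n) (y : Ah) :
    AdicCompletion.transitionMap J B hmn (theta hIJ n y) = theta hIJ m y := by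
  show AdicCompletion.transitionMap J B hmn (redMap hIJ n (y.val n)) = redMap hIJ m (y.val m)
  obtain ⟨a, ha⟩ := Submodule.Quotient.mk_surjective _ (y.val n)
  rw [← y.2 hmn, ← ha]
  rfl

theorem smul_decomp {R M : Type*} [CommRing R] [AddCommGroup M] [Module R M] {r : ℕ} (a : Fin r → R)
    (N : Submodule R M) {y : M} (hy : y ∈ Ideal.span (Set.range a) • N) :
    ∃ c : Fin r → M, y = ∑ i, a i • c i ∧ ∀ i, c i ∈ N := by
  induction hy using Submodule.smul_induction_on' with
  | smul x hx n hn =>
    obtain ⟨d, rfl⟩ := (Submodule.mem_span_range_iff_exists_fun R).1 hx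
    refine ⟨fun i => d i • n, ?_, fun i => N.smul_mem _ hn⟩
    rw [Finset.sum_smul]
    exact Finset.sum_congr rfl fun i _ => by rw [smul_smul, smul_eq_mul, mul_comm]
  | add x hx y hy hx' hy' =>
    obtain ⟨c, rfl, hc⟩ := hx'
    obtain ⟨c', rfl, hc'⟩ := hy'
    exact ⟨c + c', by simp [Finset.sum_add_distrib], fun i => N.add_mem (hc i) (hc' i)⟩

theorem split_level (hI : I.FG) {Z : Type u} (f : decaying I Z Ah) (n : ℕ)
    (hf : ∀ z, (f : Z → Ah) z ∈ (I ^ n • ⊤ : Submodule A Ah)) :
    f ∈ (I ^ n • ⊤ : Submodule A (decaying I Z Ah)) := by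
  classical
  obtain ⟨r, a, ha⟩ := Submodule.fg_iff_exists_fin_generating_family.1 (Submodule.FG.pow hI n)
  have hH : IsHausdorff I Ah := inferInstance
  have key : ∀ z, ∃ c : Fin r → Ah, (f : Z → Ah) z = ∑ i, a i • c i ∧
      ∀ k, (f : Z → Ah) z ∈ (I ^ (k + n) • ⊤ : Submodule A Ah) → ∀ i, c i ∈ (I ^ k • ⊤ : Submodule A Ah) := by
    intro z
    by_cases h0 : (f : Z → Ah) z = 0
    · exact ⟨0, by simp [h0], fun k _ i => zero_mem _⟩
    have hex : ∃ m, (f : Z → Ah) z ∉ (I ^ (m + 1 + n) • ⊤ : Submodule A Ah) := by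
      by_contra hne
      simp only [not_exists, not_not] at hne
      refine h0 (hH.haus' _ fun m => SModEq.zero.mpr ?_)
      exact Submodule.smul_mono_left (Ideal.pow_le_pow_right (by omega)) (hne m)
    have hmem : (f : Z → Ah) z ∈ (I ^ (Nat.find hex + n) • ⊤ : Submodule A Ah) := by
      rcases Nat.eq_zero_or_pos (Nat.find hex) with h | h
      · rw [h, zero_add]; exact hf z
      · have := Nat.find_min hex (show Nat.find hex - 1 < Nat.find hex by omega)
        rw [not_not, show Nat.find hex - 1 + 1 = Nat.find hex by omega] at this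
        exact this
    rw [add_comm, pow_add, Submodule.mul_smul, ← ha] at hmem
    obtain ⟨c, hc, hcm⟩ := smul_decomp a _ hmem
    refine ⟨c, hc, fun k hk i => ?_⟩
    have hle : k ≤ Nat.find hex := by
      by_contra hlt
      exact Nat.find_spec hex (Submodule.smul_mono_left (Ideal.pow_le_pow_right (by omega)) hk)
    exact Submodule.smul_mono_left (Ideal.pow_le_pow_right hle) (hcm i)
  choose c hc hck using key
  have hg : ∀ i, (fun z => c z i) ∈ decaying I Z Ah := fun i k =>
    (f.2 (k + n)).subset fun z hz hz' => hz (hck z k hz' i)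
  have hfe : f = ∑ i, a i • (⟨fun z => c z i, hg i⟩ : decaying I Z Ah) := by
    refine Subtype.ext (funext fun z => ?_)
    simp [hc z, Finset.sum_apply]
  rw [hfe]
  refine Submodule.sum_mem _ fun i _ => Submodule.smul_mem_smul ?_ Submodule.mem_top
  rw [← ha]
  exact Ideal.subset_span ⟨i, rfl⟩

variable (hIJ : I.map (algebraMap A B) ≤ J) {Z : Type u} {P : Type u} [AddCommGroup P] [Module A P]
  (e : P ≃ₗ[A] decaying I Z (AdicCompletion I A))

local notation "Qn" n:max => (B ⊗[A] P) ⧸ (J ^ n • (⊤ : Submodule B (B ⊗[A] P)))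

noncomputable def coord (n : ℕ) (z : Z) : B ⊗[A] P →ₗ[B] Bn n :=
  LinearMap.liftBaseChange B ((theta hIJ n).comp ((LinearMap.proj z).comp ((decaying I Z Ah).subtype.comp e.toLinearMap)))

theorem coord_tmul (n : ℕ) (z : Z) (b : B) (f : P) :
    coord hIJ e n z (b ⊗ₜ f) = b • theta hIJ n ((e f : Z → Ah) z) := by
  simp [coord]

theorem smul_le_ker {M : Type u} [AddCommGroup M] [Module B M] (n : ℕ) (φ : M →ₗ[B] Bn n) :
    J ^ n • (⊤ : Submodule B M) ≤ LinearMap.ker φ := by
  rw [Submodule.smul_le]
  intro r hr x _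
  obtain ⟨b, hb⟩ := Submodule.Quotient.mk_surjective _ (φ x)
  rw [LinearMap.mem_ker, map_smul, ← hb, ← Submodule.Quotient.mk_smul, Submodule.Quotient.mk_eq_zero]
  exact Submodule.smul_mem_smul hr Submodule.mem_top

noncomputable def coordQ (n : ℕ) (z : Z) : Qn n →ₗ[B] Bn n :=
  (J ^ n • (⊤ : Submodule B (B ⊗[A] P))).liftQ (coord hIJ e n z) (smul_le_ker n _)

theorem coordQ_compat {m n : ℕ} (hmn : m ≤ n) (z : Z) (x : Qn n) :
    AdicCompletion.transitionMap J B hmn (coordQ hIJ e n z x) =
      coordQ hIJ e m z (AdicCompletion.transitionMap J (B ⊗[A] P) hmn x) := by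
  obtain ⟨x, rfl⟩ := Submodule.Quotient.mk_surjective _ x
  show AdicCompletion.transitionMap J B hmn (coord hIJ e n z x) = coord hIJ e m z x
  induction x using TensorProduct.induction_on with
  | zero => simp
  | tmul b f => rw [coord_tmul, coord_tmul, map_smul, theta_compat]
  | add x y hx hy => rw [map_add, map_add, map_add, hx, hy]

open Classical in
noncomputable def ev (z : Z) : P :=
  e.symm (W4c5adicflatcompl.single I z (1 : Ah))

theorem theta_one (n : ℕ) : theta hIJ n (1 : Ah) = Submodule.Quotient.mk 1 := by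
  show redMap hIJ n ((1 : Ah).val n) = _
  rw [AdicCompletion.val_one]
  show Submodule.Quotient.mk (algebraMap A B 1) = _
  rw [map_one]

theorem coord_ev (n : ℕ) (z : Z) (c : Z →₀ B) :
    coord hIJ e n z (c.sum fun z' b => b ⊗ₜ[A] ev e z') = Submodule.Quotient.mk (c z) := by
  classical
  rw [map_finsuppSum, Finsupp.sum_eq_single z (fun z' _ hz => ?_) (fun _ => by simp)]
  · rw [coord_tmul, ev, LinearEquiv.apply_symm_apply, W4c5adicflatcompl.coe_single, Pi.single_eq_same, theta_one,
      ← Submodule.Quotient.mk_smul]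
    exact congrArg _ (mul_one _)
  · rw [coord_tmul, ev, LinearEquiv.apply_symm_apply, W4c5adicflatcompl.coe_single, Pi.single_eq_of_ne hz.symm,
      map_zero, smul_zero]

include hIJ in
theorem normal_form (hI : I.FG) (n : ℕ) (x : B ⊗[A] P) :
    ∃ c : Z →₀ B, x - c.sum (fun z b => b ⊗ₜ[A] ev e z) ∈ J ^ n • (⊤ : Submodule B (B ⊗[A] P)) := by
  classical
  induction x using TensorProduct.induction_on with
  | zero => exact ⟨0, by simp⟩
  | add x y hx hy =>
    obtain ⟨c, hc⟩ := hx
    obtain ⟨d, hd⟩ := hy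
    refine ⟨c + d, ?_⟩
    rw [Finsupp.sum_add_index' (fun _ => by simp) (fun _ _ _ => TensorProduct.add_tmul _ _ _), add_sub_add_comm]
    exact Submodule.add_mem _ hc hd
  | tmul b f =>
    choose a ha using fun z => Submodule.Quotient.mk_surjective (I ^ n • ⊤ : Submodule A A) (((e f : Z → Ah) z).val n)
    let S := ((e f).2 n).toFinset
    refine ⟨∑ z ∈ S, Finsupp.single z (b * algebraMap A B (a z)), ?_⟩
    rw [← Finsupp.sum_finsetSum_index (fun _ => by simp) (fun _ _ _ => TensorProduct.add_tmul _ _ _)]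
    simp only [TensorProduct.zero_tmul, Finsupp.sum_single_index]
    have hd : e (f - ∑ z ∈ S, a z • ev e z) ∈ (I ^ n • ⊤ : Submodule A (decaying I Z Ah)) := by
      refine split_level hI _ n fun z => ?_
      simp only [map_sub, map_sum, map_smul, ev, LinearEquiv.apply_symm_apply, Submodule.coe_sub, Submodule.coe_sum,
        Submodule.coe_smul, W4c5adicflatcompl.coe_single, Pi.sub_apply, Finset.sum_apply, Pi.smul_apply]
      by_cases hz : z ∈ S
      · rw [Finset.sum_eq_single z (fun z' _ hz' => by rw [Pi.single_eq_of_ne hz'.symm, smul_zero])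
          (fun h => absurd hz h), Pi.single_eq_same, AdicCompletion.pow_smul_top_eq_ker_eval hI, LinearMap.mem_ker,
          map_sub, map_smul, sub_eq_zero]
        show ((e f : Z → Ah) z).val n = a z • (1 : Ah).val n
        rw [← ha z, AdicCompletion.val_one]
        show Submodule.Quotient.mk (a z) = Submodule.Quotient.mk (a z • (1 : A))
        exact congrArg _ (mul_one _).symm
      · rw [Finset.sum_eq_zero (fun z' hz' => by
          rw [Pi.single_eq_of_ne (fun h => hz (by rwa [← h] at hz')), smul_zero]), sub_zero]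
        simpa [S] using hz
    have hf : f - ∑ z ∈ S, a z • ev e z ∈ (I ^ n • ⊤ : Submodule A P) := by
      have := Submodule.mem_map_of_mem (f := e.symm.toLinearMap) hd
      rw [Submodule.map_smul''] at this
      simpa using Submodule.smul_mono le_rfl le_top this
    have hall : ∀ g ∈ (I ^ n • ⊤ : Submodule A P), b ⊗ₜ[A] g ∈ J ^ n • (⊤ : Submodule B (B ⊗[A] P)) := by
      intro g hg
      induction hg using Submodule.smul_induction_on' with
      | smul r hr p _ =>
        rw [TensorProduct.tmul_smul, ← algebraMap_smul B r (b ⊗ₜ[A] p)]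
        refine Submodule.smul_mem_smul (Ideal.pow_right_mono hIJ n ?_) Submodule.mem_top
        rw [← Ideal.map_pow]
        exact Ideal.mem_map_of_mem _ hr
      | add x _ y _ hx hy => rw [TensorProduct.tmul_add]; exact Submodule.add_mem _ hx hy
    have := hall _ hf
    rw [TensorProduct.tmul_sub, TensorProduct.tmul_sum] at this
    have he : ∀ z, (b * algebraMap A B (a z)) ⊗ₜ[A] ev e z = b ⊗ₜ[A] (a z • ev e z) := fun z => by
      rw [← TensorProduct.smul_tmul, Algebra.smul_def, mul_comm]
    simpa only [he] using this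

include hIJ in
theorem coordQ_injective (hI : I.FG) (n : ℕ) {x : Qn n} (h : ∀ z, coordQ hIJ e n z x = 0) : x = 0 := by
  obtain ⟨x, rfl⟩ := Submodule.Quotient.mk_surjective _ x
  obtain ⟨c, hc⟩ := normal_form hIJ e hI n x
  rw [Submodule.Quotient.mk_eq_zero]
  have hz : ∀ z, c z ∈ (J ^ n • (⊤ : Submodule B B)) := fun z => by
    have h0 := smul_le_ker n (coord hIJ e n z) hc
    rw [LinearMap.mem_ker, map_sub, coord_ev, sub_eq_zero] at h0
    have h1 : coord hIJ e n z x = 0 := h z
    rw [h1] at h0
    exact (Submodule.Quotient.mk_eq_zero _).1 h0.symm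
  have hsum : c.sum (fun z b => b ⊗ₜ[A] ev e z) ∈ J ^ n • (⊤ : Submodule B (B ⊗[A] P)) := by
    refine Submodule.sum_mem _ fun z _ => ?_
    have hzz := hz z
    rw [smul_eq_mul, Ideal.mul_top] at hzz
    show c z ⊗ₜ[A] ev e z ∈ _
    rw [show c z ⊗ₜ[A] ev e z = c z • ((1 : B) ⊗ₜ[A] ev e z) by
      rw [TensorProduct.smul_tmul', smul_eq_mul, mul_one]]
    exact Submodule.smul_mem_smul hzz Submodule.mem_top
  simpa using Submodule.add_mem _ hc hsum

noncomputable def fwd : AdicCompletion J (B ⊗[A] P) →ₗ[B] (Z → AdicCompletion J B) :=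
  LinearMap.pi fun z =>
    { toFun := fun x => ⟨fun n => coordQ hIJ e n z (x.val n), fun {m n} hmn => by
        rw [coordQ_compat, x.2 hmn]⟩
      map_add' := fun x y => AdicCompletion.ext fun n => map_add (coordQ hIJ e n z) (x.val n) (y.val n)
      map_smul' := fun b x => AdicCompletion.ext fun n => map_smul (coordQ hIJ e n z) b (x.val n) }

include hIJ e in
theorem main (hI : I.FG) (hJ : J.FG) :
    ∃ Z' : Type u, Nonempty (AdicCompletion J (B ⊗[A] P) ≃ₗ[B] decaying J Z' (AdicCompletion J B)) := by
  classical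
  have hdec : ∀ x, fwd hIJ e x ∈ decaying J Z (AdicCompletion J B) := by
    intro x n
    obtain ⟨y, hy⟩ := Submodule.Quotient.mk_surjective _ (x.val n)
    obtain ⟨c, hc⟩ := normal_form hIJ e hI n y
    refine c.support.finite_toSet.subset fun z hz => ?_
    simp only [Finset.mem_coe, Finsupp.mem_support_iff]
    intro hcz
    refine hz ?_
    rw [AdicCompletion.pow_smul_top_eq_ker_eval hJ, LinearMap.mem_ker]
    show coordQ hIJ e n z (x.val n) = 0
    rw [← hy]
    have h0 := smul_le_ker n (coord hIJ e n z) hc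
    rw [LinearMap.mem_ker, map_sub, coord_ev, hcz, Submodule.Quotient.mk_zero, sub_zero] at h0
    exact h0
  refine ⟨Z, ⟨LinearEquiv.ofBijective ((fwd hIJ e).codRestrict _ hdec) ⟨?_, ?_⟩⟩⟩
  · rw [← LinearMap.ker_eq_bot, LinearMap.ker_codRestrict, eq_bot_iff]
    intro x hx
    rw [Submodule.mem_bot]
    refine AdicCompletion.ext fun n => coordQ_injective hIJ e hI n fun z => ?_
    exact congrArg (fun g : AdicCompletion J B => g.val n) (congrFun hx z)
  · intro g
    choose c hc using fun n z => Submodule.Quotient.mk_surjective (J ^ n • ⊤ : Submodule B B) (((g : Z → AdicCompletion J B) z).val n)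
    let S : ℕ → Finset Z := fun n => (g.2 n).toFinset
    let cf : ℕ → (Z →₀ B) := fun n => ∑ z ∈ S n, Finsupp.single z (c n z)
    let y : ℕ → B ⊗[A] P := fun n => (cf n).sum fun z b => b ⊗ₜ[A] ev e z
    have hval : ∀ n z, coordQ hIJ e n z (Submodule.Quotient.mk (y n)) = ((g : Z → AdicCompletion J B) z).val n := by
      intro n z
      show coord hIJ e n z (y n) = _
      rw [coord_ev]
      by_cases hz : z ∈ S n
      · rw [show cf n z = c n z by simp [cf, Finsupp.finsetSum_apply, Finsupp.single_apply, hz], hc]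
      · rw [show cf n z = 0 by simp [cf, Finsupp.finsetSum_apply, Finsupp.single_apply, hz], Submodule.Quotient.mk_zero]
        have h0 : (g : Z → AdicCompletion J B) z ∈ (J ^ n • ⊤ : Submodule B (AdicCompletion J B)) := by
          simpa [S] using hz
        rw [AdicCompletion.pow_smul_top_eq_ker_eval hJ, LinearMap.mem_ker] at h0
        exact h0.symm
    refine ⟨⟨fun n => Submodule.Quotient.mk (y n), fun {m n} hmn => ?_⟩, Subtype.ext (funext fun z => AdicCompletion.ext fun n => hval n z)⟩
    rw [← sub_eq_zero]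
    refine coordQ_injective hIJ e hI m fun z => ?_
    rw [map_sub, ← coordQ_compat, hval, hval, ((g : Z → AdicCompletion J B) z).2 hmn, sub_self]

end

/-- For Noetherian rings A and B with B an A-algebra, ideals I of A and J of B with I B contained in J,
and an I-adically free A-module P, the J-adic completion of B ⊗ P is a J-adically free B-module (the
completed base change of an adically free module is adically free). -/
theorem result {A B : Type u} [CommRing A] [CommRing B] [Algebra A B]
    [IsNoetherianRing A] [IsNoetherianRing B] (I : Ideal A) (J : Ideal B)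
    (hIJ : I.map (algebraMap A B) ≤ J) (P : Type u) [AddCommGroup P] [Module A P]
    (hP : IsAdicFree I P) :
    IsAdicFree J (AdicCompletion J (B ⊗[A] P)) := by
  obtain ⟨Z, ⟨e⟩⟩ := hP
  exact main hIJ e (IsNoetherian.noetherian I) (IsNoetherian.noetherian J)

end Groth.Agent.S17550
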