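import Groth.Statements.S17552
import Groth.Agent.Decaying.Tensor
import Groth.Agent.Decaying.Local

set_option autoImplicit false
universe u
open W4c5adicflatcompl
open CAlg

namespace Groth.Agent.S17552

/-- For a complete Noetherian local ring A (maximal ideal m, m-adic completion Â), an A-module M is
isomorphic to the module of m-adically decaying functions Z → Â for some set Z (m-adically free)
exactly when M is flat and m-adically complete. M and Z live in the universe of A. -/
theorem result {A : Type u} [CommRing A] [IsNoetherianRing A] [IsLocalRing A]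
    [IsAdicComplete (IsLocalRing.maximalIdeal A) A]
    (M : Type u) [AddCommGroup M] [Module A M] :
    IsAdicFree (IsLocalRing.maximalIdeal A) M ↔
      Module.Flat A M ∧ IsAdicComplete (IsLocalRing.maximalIdeal A) M := by
  refine ⟨?_, fun ⟨hflat, hc⟩ => ?_⟩
  · rintro ⟨Z, ⟨e⟩⟩
    let e' := e.trans (Decaying.congr Z (AdicCompletion.ofLinearEquiv (IsLocalRing.maximalIdeal A) A)).symm
    haveI : Module.Flat A (decaying (IsLocalRing.maximalIdeal A) Z A) := Decaying.flat_decaying
    haveI hD := Decaying.isAdicComplete_decaying (I := IsLocalRing.maximalIdeal A) (Z := Z) (N := A)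
      (IsNoetherian.noetherian _)
    refine ⟨Module.Flat.of_linearEquiv e', { toIsHausdorff := ⟨fun x hx => ?_⟩, toIsPrecomplete := ⟨fun f hf => ?_⟩ }⟩
    · exact e'.injective ((Decaying.eq_zero_of_forall (I := IsLocalRing.maximalIdeal A) fun n =>
        Decaying.map_mem_pow e'.toLinearMap (SModEq.zero.1 (hx n))).trans (map_zero e').symm)
    · obtain ⟨L, hL⟩ := IsPrecomplete.prec hD.toIsPrecomplete (f := fun n => e' (f n)) fun {m n} hmn => by
        rw [SModEq.sub_mem, ← map_sub]
        exact Decaying.map_mem_pow e'.toLinearMap (SModEq.sub_mem.1 (hf hmn))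
      refine ⟨e'.symm L, fun n => SModEq.sub_mem.2 ?_⟩
      have := Decaying.map_mem_pow e'.symm.toLinearMap (SModEq.sub_mem.1 (hL n))
      simpa using this
  · haveI := hflat
    haveI := hc
    exact Decaying.isAdicFree_of_flat M

end Groth.Agent.S17552
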