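import Groth.Statements.S1756
import Groth.Agent.FiniteH1.Criteria
import Groth.Agent.S9126
import Groth.Agent.Catenary.Ratliff
import Groth.Agent.FlatSerre.Completion
-- import your own Groth.Agent.* helpers here

set_option autoImplicit false
universe u
open LocCoh

namespace Groth.Agent.S1756

/-- Let A be a universally catenary Noetherian ring and I an ideal such that for every prime q
containing I the formal fibres of A_q satisfy (S_1), and let M be a finite A-module. If for every
associated prime p of M not containing I and every prime q containing both p and I the longest chain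
of primes from p to q has length at least 2, then the local cohomology module H^1_I(M) is a finite
A-module. (Affine form: finiteness of H^1_I(M) stands in for coherence of the pushforward of the
restriction of M~ to Spec A ∖ V(I).) -/
theorem result (A : Type u) [CommRing A] [IsNoetherianRing A] (hA : CAlg.IsUniversallyCatenary A) (I : Ideal A) (hF : ∀ q : PrimeSpectrum A, I ≤ q.asIdeal → EGA4.HasSnFormalFibres 1 (Localization.AtPrime q.asIdeal)) (M : Type u) [AddCommGroup M] [Module A M] [Module.Finite A M] (h : ∀ (p q : PrimeSpectrum A) (hpq : p ≤ q), p.asIdeal ∈ associatedPrimes A M → ¬ I ≤ p.asIdeal → I ≤ q.asIdeal → (2 : ℕ∞) ≤ Order.height (⟨q, hpq⟩ : Set.Ici p)) : Module.Finite A (LocCoh.H I 1 M) := by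
  refine Groth.Agent.FiniteH1.finite_H1_of_components I M fun p hp hI _ Q _ hQ => ?_
  let q : PrimeSpectrum A := ⟨Q.comap (Ideal.Quotient.mk p), inferInstance⟩
  have hpq : p ≤ q.asIdeal := fun a ha => by
    change Ideal.Quotient.mk p a ∈ Q
    rw [Ideal.Quotient.eq_zero_iff_mem.mpr ha]
    exact zero_mem _
  have hIq : I ≤ q.asIdeal := fun a ha => hQ (Ideal.mem_map_of_mem _ ha)
  obtain ⟨e, he⟩ := Groth.Agent.FiniteH1.exists_localization_quotient_equiv p Q
  let L := Localization.AtPrime (Q.comap (Ideal.Quotient.mk p))
  let P₀ : Ideal L := p.map (algebraMap A L)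
  haveI : P₀.IsPrime := IsLocalization.isPrime_of_isPrime_disjoint (Q.comap (Ideal.Quotient.mk p)).primeCompl L p
    inferInstance (Set.disjoint_left.mpr fun a ha hap => ha (hpq hap))
  haveI : IsLocalRing (L ⧸ P₀) := .of_surjective' (Ideal.Quotient.mk _) Ideal.Quotient.mk_surjective
  haveI := Groth.Agent.CohenStruct.isNoetherianRing_completion (L ⧸ P₀)
  have hmax := IsLocalRing.map_maximalIdeal_of_surjective (Ideal.Quotient.mk P₀) Ideal.Quotient.mk_surjective
  refine Groth.Agent.FiniteH1.forall_dim_of_ringEquiv (IsLocalRing.maximalIdeal _) (IsLocalRing.maximalIdeal _) e (by rw [← hmax]; exact he) fun R hR => ?_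
  have hLuc : CAlg.IsUniversallyCatenary L := Groth.Agent.S9126.result A L hA
  have hmin := Groth.Agent.FiniteH1.mem_minimalPrimes_completion_quotient (hF q hIq) P₀ R hR
  have hFC := Groth.Agent.Catenary.isFormallyCatenary_of_isUniversallyCatenary L hLuc P₀
  rw [hFC R hmin]
  refine le_of_le_of_eq ?_ (Groth.Agent.FlatSerre.ringKrullDim_completion (A := L ⧸ P₀)).symm
  rw [ringKrullDim_eq_of_ringEquiv e, IsLocalization.AtPrime.ringKrullDim_eq_height Q]
  have h2 := (h ⟨p, inferInstance⟩ q hpq hp hI hIq).trans (Groth.Agent.FiniteH1.height_le_height_map ⟨p, inferInstance⟩ q hpq)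
  rw [show q.asIdeal.map (Ideal.Quotient.mk p) = Q from Ideal.map_comap_of_surjective _ Ideal.Quotient.mk_surjective Q] at h2
  exact WithBot.coe_le_coe.mpr h2

end Groth.Agent.S1756
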