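import Groth.Statements.S1757
import Mathlib
-- import your own Groth.Agent.* helpers here

set_option autoImplicit false
universe u
open LocCoh

namespace Groth.Agent.S1757

section
open Submodule

lemma split {A : Type u} [CommRing A] (J : Ideal A) (u g : A)
    (hind : ∀ a, a * u ∈ J ⊔ Ideal.span {u * g} → a ∈ J ⊔ Ideal.span {g}) :
    Module.length A (A ⧸ (J ⊔ Ideal.span {u * g})) =
      Module.length A (A ⧸ (J ⊔ Ideal.span {u})) + Module.length A (A ⧸ (J ⊔ Ideal.span {g})) := by
  set P := J ⊔ Ideal.span {u * g}
  set U := J ⊔ Ideal.span {u}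
  set G := J ⊔ Ideal.span {g}
  have hPU : P ≤ U := sup_le_sup_left (Ideal.span_singleton_le_span_singleton.2 ⟨g, rfl⟩) J
  have hGP : G ≤ Submodule.comap (LinearMap.mulRight A u) P := by
    refine sup_le (fun x hx => ?_) ?_
    · exact Ideal.mem_sup_left (J.mul_mem_right u hx)
    · rw [Ideal.span_le]
      rintro x rfl
      refine Ideal.mem_sup_right ?_
      rw [Ideal.mem_span_singleton]
      exact ⟨1, by simp [mul_comm]⟩
  let φ : (A ⧸ G) →ₗ[A] A ⧸ P := Submodule.mapQ G P (LinearMap.mulRight A u) hGP
  let ψ : (A ⧸ P) →ₗ[A] A ⧸ U := Submodule.factor hPU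
  have hinj : Function.Injective φ := by
    rw [injective_iff_map_eq_zero]
    intro z hz
    obtain ⟨a, rfl⟩ := Submodule.Quotient.mk_surjective _ z
    exact (Submodule.Quotient.mk_eq_zero _).2 (hind a ((Submodule.Quotient.mk_eq_zero _).1 hz))
  have hsur : Function.Surjective ψ := Submodule.factor_surjective hPU
  have hex : Function.Exact φ ψ := by
    intro z
    obtain ⟨a, rfl⟩ := Submodule.Quotient.mk_surjective _ z
    constructor
    · intro hz
      have ha : a ∈ U := (Submodule.Quotient.mk_eq_zero _).1 hz
      obtain ⟨j, hj, w, hw, rfl⟩ := Submodule.mem_sup.1 ha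
      obtain ⟨c, rfl⟩ := Ideal.mem_span_singleton'.1 hw
      refine ⟨Submodule.Quotient.mk c, ?_⟩
      refine (Submodule.Quotient.eq _).2 ?_
      show c * u - (j + c * u) ∈ P
      rw [sub_add_cancel_right]
      exact P.neg_mem (Ideal.mem_sup_left hj)
    · rintro ⟨w, hw⟩
      obtain ⟨c, rfl⟩ := Submodule.Quotient.mk_surjective _ w
      rw [← hw]
      exact (Submodule.Quotient.mk_eq_zero _).2
        (Ideal.mem_sup_right (Ideal.mem_span_singleton'.2 ⟨c, rfl⟩))
  rw [Module.length_eq_add_of_exact φ ψ hinj hsur hex, add_comm]


lemma range_update {A : Type u} [CommRing A] {r : ℕ} (f : Fin r → A) (i : Fin r) (y : A) :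
    Ideal.span (Set.range (Function.update f i y)) = Ideal.span (f '' {i}ᶜ) ⊔ Ideal.span {y} := by
  rw [← Ideal.span_union]
  congr 1
  ext z
  simp only [Set.mem_range, Set.mem_union, Set.mem_singleton_iff, Set.mem_image, Set.mem_compl_iff]
  constructor
  · rintro ⟨k, rfl⟩
    by_cases hk : k = i
    · subst hk; exact Or.inr (Function.update_self _ _ _)
    · exact Or.inl ⟨k, hk, (Function.update_of_ne hk _ _).symm⟩
  · rintro (⟨k, hk, rfl⟩ | rfl)
    · exact ⟨k, Function.update_of_ne hk _ _⟩
    · exact ⟨i, Function.update_self _ _ _⟩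

lemma sum_update {A : Type u} [CommRing A] {r : ℕ} (f a : Fin r → A) (i : Fin r) (y : A) :
    ∑ k, a k * Function.update f i y k = a i * y + ∑ k ∈ Finset.univ.erase i, a k * f k := by
  rw [← Finset.add_sum_erase _ _ (Finset.mem_univ i), Function.update_self]
  exact congrArg _ (Finset.sum_congr rfl fun k hk => by rw [Function.update_of_ne (Finset.ne_of_mem_erase hk)])

lemma step {A : Type u} [CommRing A] {r : ℕ} (f : Fin r → A) (i : Fin r) (u g : A)
    (h : Dual2.Independent (Function.update f i (u * g))) :
    Dual2.Independent (Function.update f i u) ∧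
      Module.length A (A ⧸ Ideal.span (Set.range (Function.update f i (u * g)))) =
        Module.length A (A ⧸ Ideal.span (Set.range (Function.update f i u))) +
        Module.length A (A ⧸ Ideal.span (Set.range (Function.update f i g))) := by
  classical
  have hle : ∀ v w : A, v ∣ w → Ideal.span (Set.range (Function.update f i w)) ≤
      Ideal.span (Set.range (Function.update f i v)) := fun v w hvw => by
    rw [range_update, range_update]
    exact sup_le_sup_left (Ideal.span_singleton_le_span_singleton.2 hvw) _
  refine ⟨fun a ha k => ?_, ?_⟩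
  · rw [sum_update] at ha
    have h1 : ∀ k, (if k = i then a i else g * a k) ∈ Ideal.span (Set.range (Function.update f i (u * g))) := by
      refine h _ ?_
      rw [sum_update, if_pos rfl, Finset.sum_congr rfl (g := fun k => g * (a k * f k))
        (fun k hk => by rw [if_neg (Finset.ne_of_mem_erase hk)]; ring), ← Finset.mul_sum]
      linear_combination g * ha
    have hi := h1 i
    rw [if_pos rfl] at hi
    by_cases hk : k = i
    · subst hk; exact hle u (u * g) (dvd_mul_right u g) hi
    obtain ⟨c, hc⟩ := Ideal.mem_span_range_iff_exists_fun.1 hi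
    rw [sum_update] at hc
    have h2 := h (fun k => if k = i then c i * u else a k + c k * u) (by
      rw [sum_update, if_pos rfl, Finset.sum_congr rfl (g := fun k => a k * f k + u * (c k * f k))
        (fun k hk => by rw [if_neg (Finset.ne_of_mem_erase hk)]; ring), Finset.sum_add_distrib, ← Finset.mul_sum]
      linear_combination u * hc + ha) k
    rw [if_neg hk] at h2
    have h3 : c k * u ∈ Ideal.span (Set.range (Function.update f i u)) :=
      Ideal.mul_mem_left _ _ (Ideal.subset_span ⟨i, Function.update_self _ _ _⟩)
    simpa using sub_mem (hle u (u * g) (dvd_mul_right u g) h2) h3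
  · rw [range_update, range_update, range_update]
    refine split _ _ _ fun a ha => ?_
    rw [← range_update] at ha ⊢
    obtain ⟨c, hc⟩ := Ideal.mem_span_range_iff_exists_fun.1 ha
    rw [sum_update] at hc
    have h2 := h (fun k => if k = i then a - c i * g else -(g * c k)) (by
      rw [sum_update, if_pos rfl, Finset.sum_congr rfl (g := fun k => -g * (c k * f k))
        (fun k hk => by rw [if_neg (Finset.ne_of_mem_erase hk)]; ring), ← Finset.mul_sum]
      linear_combination (-g) * hc) i
    rw [if_pos rfl] at h2
    have h3 : c i * g ∈ Ideal.span (Set.range (Function.update f i g)) :=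
      Ideal.mul_mem_left _ _ (Ideal.subset_span ⟨i, Function.update_self _ _ _⟩)
    simpa using add_mem (hle g (u * g) (dvd_mul_left g u) h2) h3

end

/-- Let A be a local ring whose maximal ideal is generated by x_1, …, x_r, and let e_1, …, e_r be
positive integers such that x_1^{e_1}, …, x_r^{e_r} are independent. Then the length of
A/(x_1^{e_1}, …, x_r^{e_r}) equals the product e_1 ⋯ e_r. -/
theorem result (A : Type u) [CommRing A] [IsLocalRing A] (r : ℕ) (x : Fin r → A) (hx : Ideal.span (Set.range x) = IsLocalRing.maximalIdeal A) (e : Fin r → ℕ) (he : ∀ i, 0 < e i) (hind : Dual2.Independent (fun i => x i ^ e i)) : Module.length A (A ⧸ Ideal.span (Set.range (fun i => x i ^ e i))) = ∏ i, (e i : ℕ∞) := by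
  classical
  induction hN : ∑ i, e i using Nat.strong_induction_on generalizing e with
  | _ N ih =>
    by_cases h1 : ∀ i, e i = 1
    · rw [show (fun i => x i ^ e i) = x from funext fun i => by rw [h1 i, pow_one], hx]
      haveI : IsSimpleModule A (A ⧸ IsLocalRing.maximalIdeal A) :=
        isSimpleModule_iff_isCoatom.2 (Ideal.isMaximal_def.1 inferInstance)
      rw [Module.length_eq_one]
      simp [h1]
    · push Not at h1
      obtain ⟨i, hi⟩ := h1
      have h2 : 2 ≤ e i := by have := he i; omega
      have heq : ∀ n, (fun k => x k ^ Function.update e i n k) = Function.update (fun k => x k ^ e k) i (x i ^ n) :=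
        fun n => funext fun k => by
          by_cases hk : k = i
          · subst hk; simp
          · rw [Function.update_of_ne hk, Function.update_of_ne hk]
      have hpow : x i ^ e i = x i ^ (e i - 1) * x i := by rw [← pow_succ]; congr 1; omega
      have hup : Function.update (fun k => x k ^ e k) i (x i ^ (e i - 1) * x i) = fun k => x k ^ e k := by
        rw [← hpow]; exact Function.update_eq_self _ _
      obtain ⟨ha, hlen⟩ := step (fun k => x k ^ e k) i (x i ^ (e i - 1)) (x i) (by rw [hup]; exact hind)
      obtain ⟨hb, -⟩ := step (fun k => x k ^ e k) i (x i) (x i ^ (e i - 1))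
        (by rw [mul_comm, hup]; exact hind)
      rw [hup] at hlen
      have hs : ∀ n, ∑ k, Function.update e i n k = n + ∑ k ∈ Finset.univ.erase i, e k := fun n => by
        rw [← Finset.add_sum_erase _ _ (Finset.mem_univ i), Function.update_self]
        exact congrArg _ (Finset.sum_congr rfl fun k hk => by rw [Function.update_of_ne (Finset.ne_of_mem_erase hk)])
      have hp : ∀ n, ∏ k, (Function.update e i n k : ℕ∞) = n * ∏ k ∈ Finset.univ.erase i, (e k : ℕ∞) := fun n => by
        rw [← Finset.mul_prod_erase _ _ (Finset.mem_univ i), Function.update_self]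
        exact congrArg _ (Finset.prod_congr rfl fun k hk => by rw [Function.update_of_ne (Finset.ne_of_mem_erase hk)])
      have hN' : e i + ∑ k ∈ Finset.univ.erase i, e k = N := by
        rw [← hN, Finset.add_sum_erase _ _ (Finset.mem_univ i)]
      have hpos : ∀ n, 0 < n → ∀ k, 0 < Function.update e i n k := fun n hn k => by
        by_cases hk : k = i
        · subst hk; simpa using hn
        · rw [Function.update_of_ne hk]; exact he k
      have A1 := ih _ (by rw [hs]; omega) (Function.update e i (e i - 1)) (hpos _ (by omega))
        (by rw [heq]; exact ha) rfl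
      have A2 := ih _ (by rw [hs]; omega) (Function.update e i 1) (hpos _ (by omega))
        (by rw [heq, pow_one]; exact hb) rfl
      rw [heq, hp] at A1
      rw [heq, pow_one, hp] at A2
      rw [hlen, A1, A2, ← add_mul, ← Nat.cast_add, show e i - 1 + 1 = e i by omega]
      exact Finset.mul_prod_erase Finset.univ (fun k => (e k : ℕ∞)) (Finset.mem_univ i)

end Groth.Agent.S1757
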