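import Groth.Statements.S17580
import Groth.Agent.InvPow.Locus
import Groth.Agent.InvPow.Basic
-- import your own Groth.Agent.* helpers here

set_option autoImplicit false
open CategoryTheory CategoryTheory.Limits AlgebraicGeometry
open PosLin

namespace Groth.Agent.S17580

/-- Let X be a projective variety over the complex numbers (an integral scheme, proper over ℂ, with an
ample invertible module) and L an invertible O_X-module. For m ≥ 1 let Bs(L^⊗m) ⊆ X be the base
locus of the complete linear series of L^⊗m, the set of points x lying in no open X_s over which a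
global section s : O_X → L^⊗m is an isomorphism, and let B(L) = ⋂_{m ≥ 1} Bs(L^⊗m) be the stable
base locus (an intersection of closed subsets, scheme structures disregarded). Then there is an
integer n₀ > 0 such that B(L) = Bs(L^⊗kn₀) for every k ≥ 1. -/
theorem result (X : Scheme.{0}) [X.Over (Spec (CommRingCat.of ℂ))] [IsIntegral X]
    [IsProper (X ↘ Spec (CommRingCat.of ℂ))] (H : X.Modules) (hH : CohB1.IsAmple H)
    (L : X.Modules) (hL : PicF.IsInvertible L) :
    ∃ n₀ : ℕ, 0 < n₀ ∧ ∀ k : ℕ, 0 < k →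
      {x : X | ∀ m : ℕ, 0 < m → ∀ s : Coh.structureModule X ⟶ CohB1.tensorPow L m, x ∉ CohB1.genLocus (CohB1.tensorPow L m) s} =
        {x : X | ∀ s : Coh.structureModule X ⟶ CohB1.tensorPow L (k * n₀), x ∉ CohB1.genLocus (CohB1.tensorPow L (k * n₀)) s} := by
  haveI : LocallyOfFiniteType (X ↘ Spec (CommRingCat.of ℂ)) := inferInstance
  haveI : QuasiCompact (X ↘ Spec (CommRingCat.of ℂ)) := inferInstance
  haveI : IsLocallyNoetherian X := LocallyOfFiniteType.isLocallyNoetherian (X ↘ Spec (CommRingCat.of ℂ))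
  haveI : CompactSpace X := QuasiCompact.compactSpace_of_compactSpace (X ↘ Spec (CommRingCat.of ℂ))
  haveI : IsNoetherian X := {}
  let O : ℕ → X.Opens := fun n => ⨆ t : Γ(CohB1.tensorPow L n, ⊤),
    Groth.Agent.ProjUniv.genOpen (Groth.Agent.InvPow.isInvertible_tensorPow hL n) t
  have hmul : ∀ n k : ℕ, 0 < k → O n ≤ O (n * k) := fun n k hk => iSup_le fun t =>
    (Groth.Agent.InvPow.genOpen_spow hL t hk).ge.trans
      (le_iSup (fun t => Groth.Agent.ProjUniv.genOpen (Groth.Agent.InvPow.isInvertible_tensorPow hL (n * k)) t)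
        (Groth.Agent.InvPow.spow hL t k))
  have hset : ∀ n : ℕ, {x : X | ∀ s : Coh.structureModule X ⟶ CohB1.tensorPow L n, x ∉ CohB1.genLocus (CohB1.tensorPow L n) s} =
      {x : X | x ∉ O n} := by
    intro n
    ext x
    simp only [Set.mem_setOf_eq, O, TopologicalSpace.Opens.mem_iSup, not_exists]
    constructor
    · intro h t ht
      exact h (Groth.Agent.ProjTwist.globalHom _ t)
        (by rw [Groth.Agent.InvPow.genLocus_globalHom (Groth.Agent.InvPow.isInvertible_tensorPow hL n)]; exact ht)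
    · intro h s hs
      obtain ⟨t, rfl⟩ := Groth.Agent.InvPow.exists_globalHom_eq s
      rw [Groth.Agent.InvPow.genLocus_globalHom (Groth.Agent.InvPow.isInvertible_tensorPow hL n)] at hs
      exact h t hs
  obtain ⟨_, ⟨n₀, hn₀, rfl⟩, hmax⟩ := (wellFounded_gt (α := X.Opens)).has_min
    {V | ∃ n, 0 < n ∧ O n = V} ⟨O 1, 1, Nat.one_pos, rfl⟩
  have key : ∀ n, 0 < n → O n₀ ≤ O n → O n = O n₀ := fun n hn h => by
    by_contra hne
    exact hmax (O n) ⟨n, hn, rfl⟩ (lt_of_le_of_ne h (Ne.symm hne))
  refine ⟨n₀, hn₀, fun k hk => ?_⟩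
  have hk0 : O (k * n₀) = O n₀ := key _ (Nat.mul_pos hk hn₀) (by rw [Nat.mul_comm k n₀]; exact hmul n₀ k hk)
  rw [hset, hk0]
  ext x
  simp only [Set.mem_setOf_eq]
  constructor
  · intro h hx
    have h1 := (Set.ext_iff.1 (hset n₀) x).1 (h n₀ hn₀)
    exact h1 hx
  · intro hx m hm s hs
    have hle : O m ≤ O n₀ := by
      rw [← key (m * n₀) (Nat.mul_pos hm hn₀) (by rw [Nat.mul_comm m n₀]; exact hmul n₀ m hm)]
      exact hmul m n₀ hn₀
    exact (Set.ext_iff.1 (hset m) x).2 (fun h => hx (hle h)) s hs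

end Groth.Agent.S17580
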