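import Groth.Statements.S17582
import Groth.Agent.InvPow.Ample
import Groth.Agent.InvPow.Locus
import Groth.Agent.InvPow.Transfer
-- import your own Groth.Agent.* helpers here

set_option autoImplicit false
open CategoryTheory CategoryTheory.Limits AlgebraicGeometry
open PosLin

namespace Groth.Agent.S17582

/-- Let X be a projective variety over the complex numbers (an integral scheme, proper over ℂ, with an
ample invertible module), L an invertible O_X-module and p ≥ 1. With Bs(M) the base locus of an
O_X-module M (the points lying in no open X_s over which a global section s : O_X → M is an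
isomorphism) and B(L) = ⋂_{m ≥ 1} Bs(L^⊗m) the stable base locus, one has B(L^⊗p) = B(L). -/
theorem result (X : Scheme.{0}) [X.Over (Spec (CommRingCat.of ℂ))] [IsIntegral X]
    [IsProper (X ↘ Spec (CommRingCat.of ℂ))] (H : X.Modules) (hH : CohB1.IsAmple H)
    (L : X.Modules) (hL : PicF.IsInvertible L) (p : ℕ) (hp : 0 < p) :
    {x : X | ∀ m : ℕ, 0 < m → ∀ s : Coh.structureModule X ⟶ CohB1.tensorPow (CohB1.tensorPow L p) m, x ∉ CohB1.genLocus (CohB1.tensorPow (CohB1.tensorPow L p) m) s} = {x : X | ∀ m : ℕ, 0 < m → ∀ s : Coh.structureModule X ⟶ CohB1.tensorPow L m, x ∉ CohB1.genLocus (CohB1.tensorPow L m) s} := by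
  ext x
  simp only [Set.mem_setOf_eq]
  constructor
  · intro h m hm s hx
    obtain ⟨σ, rfl⟩ := Groth.Agent.InvPow.exists_globalHom_eq s
    rw [Groth.Agent.InvPow.genLocus_globalHom (Groth.Agent.InvPow.isInvertible_tensorPow hL m)] at hx
    obtain ⟨τ, hτ⟩ := (Groth.Agent.InvPow.trPow L p).exists_map hL (k := m) (mul_comm p m)
      (Groth.Agent.InvPow.spow hL σ p)
    refine h m hm (Groth.Agent.ProjTwist.globalHom _ τ) ?_
    rw [Groth.Agent.InvPow.genLocus_globalHom
      (Groth.Agent.InvPow.isInvertible_tensorPow (Groth.Agent.InvPow.isInvertible_tensorPow hL p) m)]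
    exact (hτ.trans (Groth.Agent.InvPow.genOpen_spow hL σ hp)).ge hx
  · intro h m hm s hx
    obtain ⟨σ, rfl⟩ := Groth.Agent.InvPow.exists_globalHom_eq s
    rw [Groth.Agent.InvPow.genLocus_globalHom
      (Groth.Agent.InvPow.isInvertible_tensorPow (Groth.Agent.InvPow.isInvertible_tensorPow hL p) m)] at hx
    obtain ⟨t, ht⟩ := (Groth.Agent.InvPow.trPow L p).exists_inv hL (k := m) rfl σ
    refine h (p * m) (Nat.mul_pos hp hm) (Groth.Agent.ProjTwist.globalHom _ t) ?_
    rw [Groth.Agent.InvPow.genLocus_globalHom (Groth.Agent.InvPow.isInvertible_tensorPow hL (p * m))]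
    exact ht.ge hx

end Groth.Agent.S17582
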