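import Groth.Statements.S17586
import Groth.Agent.IntTh.BigForms

set_option autoImplicit false
set_option backward.isDefEq.respectTransparency false
open CategoryTheory CategoryTheory.Limits AlgebraicGeometry
open PosLin

namespace Groth.Agent.S17586

/-- Let X be a projective variety over the complex numbers (an integral scheme, proper over ℂ, with an
ample invertible module) of dimension n, and L an invertible O_X-module (the module of a Cartier
divisor D). The following two characterisations of bigness of D are equivalent: (a) for every ample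
invertible O_X-module A there are m > 0 and a monomorphism A → L^⊗m (that is, mD is linearly
equivalent to A plus an effective divisor); (b) there are a constant C > 0 and m₁ such that dim_ℂ
H^0(X, L^⊗m) ≥ C·m^n for all m ≥ m₁. (In the text both are shown equivalent to D having Iitaka
dimension n; this row states their equivalence with each other.) -/
theorem result (X : Scheme.{0}) [X.Over (Spec (CommRingCat.of ℂ))] [IsIntegral X]
    [IsProper (X ↘ Spec (CommRingCat.of ℂ))] (H : X.Modules) (hH : CohB1.IsAmple H)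
    (n : ℕ) (hn : topologicalKrullDim X = n)
    (L : X.Modules) (hL : PicF.IsInvertible L) :
    (∀ A : X.Modules, CohB1.IsAmple A → ∃ (m : ℕ) (φ : A ⟶ CohB1.tensorPow L m), 0 < m ∧ Mono φ) ↔
      ∃ C : ℝ, 0 < C ∧ ∃ m₁ : ℕ, ∀ m : ℕ, m₁ ≤ m →
        C * (m : ℝ) ^ n ≤ (Module.finrank ℂ (Coh.HH X (CohB1.tensorPow L m) 0) : ℝ) := by
  constructor
  · intro h
    obtain ⟨ν, φ, hν, hφ⟩ := h H hH
    haveI := hφ
    exact Groth.Agent.IntTh.exists_growth_all_of_mono ℂ hn hL hH hν φ
  · rintro ⟨C, hC, m₁, h⟩ A hA
    obtain ⟨a, ha⟩ := exists_nat_gt (1 / (C * ((m₁ + 1 : ℕ) : ℝ) ^ n))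
    rw [div_lt_iff₀ (mul_pos hC (pow_pos (by positivity) _))] at ha
    obtain ⟨ν, B, φ, hν, hB, hφ⟩ := Groth.Agent.IntTh.exists_mono_of_growth ℂ hn hH hL (ν := m₁ + 1) (a := a)
      (Nat.succ_pos m₁) fun μ hμ => by
        have h1 := h ((m₁ + 1) * μ) ((Nat.le_succ m₁).trans (Nat.le_mul_of_pos_right _ hμ))
        push_cast at h1 ha
        rw [mul_pow] at h1
        have hμn : (0 : ℝ) ≤ (μ : ℝ) ^ n := by positivity
        have h2 := mul_le_mul_of_nonneg_right ha.le hμn
        have h3 := mul_le_mul_of_nonneg_left h1 (Nat.cast_nonneg (α := ℝ) a)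
        rw [← Int.cast_le (R := ℝ)]
        push_cast
        show (μ : ℝ) ^ n ≤ (a : ℝ) * ((Module.finrank ℂ (Coh.HH X (CohB1.tensorPow L ((m₁ + 1) * μ)) 0) : ℤ) : ℝ)
        push_cast
        linarith
    haveI := hφ
    exact Groth.Agent.IntTh.exists_mono_all_of_mono ℂ hn hL hB hν φ hA
end Groth.Agent.S17586
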