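import Groth.Statements.S17592
import Groth.Agent.HenselLib.PairHenselization

set_option autoImplicit false
universe u
open Hensel

namespace Groth.Agent.S17592

/-- Let R → S be an étale ring map and I an ideal of R such that the induced map R/I → S/IS is
bijective. Then a Henselization of the pair (S, IS), regarded as an R-algebra, is a Henselization of
the pair (R, I). -/
theorem result (R : Type u) [CommRing R] (I : Ideal R)
    (S : Type u) [CommRing S] [Algebra R S] [Algebra.Etale R S]
    (hq : Function.Bijective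
      (Ideal.quotientMap (I.map (algebraMap R S)) (algebraMap R S) Ideal.le_comap_map))
    (H : Type u) [CommRing H] [Algebra S H] [Algebra R H] [IsScalarTower R S H]
    (hH : Hens2.IsPairHenselization S (I.map (algebraMap R S)) H) :
    Hens2.IsPairHenselization R I H := by
  have hI : (I.map (algebraMap R S)).map (algebraMap S H) = I.map (algebraMap R H) := by
    rw [Ideal.map_map, ← IsScalarTower.algebraMap_eq]
  refine ⟨hI ▸ hH.1, fun C _ J f hJ hIJ => ?_⟩
  let _ : Algebra R C := f.toAlgebra
  let e := RingEquiv.ofBijective _ hq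
  let fb : R ⧸ I →+* C ⧸ J := Ideal.quotientMap J f (Ideal.map_le_iff_le_comap.mp hIJ)
  let σ : S →ₐ[R] C ⧸ J :=
    { fb.comp (e.symm.toRingHom.comp (Ideal.Quotient.mk (I.map (algebraMap R S)))) with
      commutes' := fun r => by
        show fb (e.symm (Ideal.Quotient.mk _ (algebraMap R S r))) = _
        rw [show e.symm (Ideal.Quotient.mk (I.map (algebraMap R S)) (algebraMap R S r)) =
          Ideal.Quotient.mk I r from e.symm_apply_eq.mpr rfl]
        rfl }
  obtain ⟨τ, hτ, hτu⟩ := Groth.Agent.HenselLib.existsUnique_lift J σ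
  have hle : (I.map (algebraMap R S)).map τ.toRingHom ≤ J := by
    rw [Ideal.map_map, AlgHom.toRingHom_eq_coe, AlgHom.comp_algebraMap]
    exact hIJ
  obtain ⟨g, hg, hgu⟩ := hH.2 C J τ.toRingHom hJ hle
  refine ⟨g, ?_, fun g' hg' => hgu g' ?_⟩
  · dsimp only
    rw [IsScalarTower.algebraMap_eq R S H, ← RingHom.comp_assoc, hg]
    exact τ.comp_algebraMap
  let τ' : S →ₐ[R] C :=
    { g'.comp (algebraMap S H) with
      commutes' := fun r => by
        show g' (algebraMap S H (algebraMap R S r)) = _
        rw [← IsScalarTower.algebraMap_apply]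
        exact RingHom.congr_fun hg' r }
  suffices τ' = τ from congrArg AlgHom.toRingHom this
  refine hτu τ' (AlgHom.ext fun s => ?_)
  obtain ⟨y, hy⟩ := hq.2 (Ideal.Quotient.mk _ s)
  obtain ⟨r, rfl⟩ := Ideal.Quotient.mk_surjective y
  rw [Ideal.quotientMap_mk] at hy
  have h1 : τ' (algebraMap R S r - s) ∈ J := by
    have h2 := Ideal.mem_map_of_mem τ'.toRingHom (Ideal.Quotient.eq.mp hy)
    rw [Ideal.map_map, AlgHom.toRingHom_eq_coe, AlgHom.comp_algebraMap] at h2
    exact hIJ h2
  show Ideal.Quotient.mk J (τ' s) = fb (e.symm (Ideal.Quotient.mk _ s))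
  rw [map_sub, τ'.commutes] at h1
  rw [show e.symm (Ideal.Quotient.mk (I.map (algebraMap R S)) s) = Ideal.Quotient.mk I r from
    e.symm_apply_eq.mpr hy.symm]
  exact (Ideal.Quotient.eq.mpr h1).symm

end Groth.Agent.S17592
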