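import Groth.Statements.S17593
import Groth.Agent.FlatDescent.Presentation
import Groth.Agent.FlatDescent.Global

set_option autoImplicit false
universe u
open Hensel

namespace Groth.Agent.S17593

/-- Suppose (A, I) is a Henselian pair, and R is an A-algebra of finite presentation for which A → R is
flat at each prime of R that contains IR. Then there is an étale R-algebra R' such that R/IR →
R'/IR' is bijective and A → R' is flat. -/
theorem result (A : Type u) [CommRing A] (I : Ideal A) [HenselianRing A I]
    (R : Type u) [CommRing R] [Algebra A R] [Algebra.FinitePresentation A R]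
    (h : ∀ (p : Ideal R) [p.IsPrime], I.map (algebraMap A R) ≤ p → Module.Flat A (Localization.AtPrime p))
    : ∃ (R' : Type u) (_ : CommRing R') (_ : Algebra R R') (_ : Algebra A R') (_ : IsScalarTower A R R'),
      Algebra.Etale R R' ∧
      Function.Bijective (Ideal.quotientMap ((I.map (algebraMap A R)).map (algebraMap R R'))
        (algebraMap R R') Ideal.le_comap_map) ∧ Module.Flat A R' := by
  classical
  let J := I.map (algebraMap A R)
  have hopen := Groth.FlatDescent.isOpen_flatLocus_fp A (S := R) R
  obtain ⟨K, hK⟩ := (PrimeSpectrum.isClosed_iff_zeroLocus_ideal _).mp hopen.isClosed_compl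
  have hflat : ∀ (p : Ideal R) [p.IsPrime], ¬ K ≤ p → FlatCA.FlatAt A p R := fun p hp hKp => by
    by_contra hn
    have : (⟨p, hp⟩ : PrimeSpectrum R) ∈ PrimeSpectrum.zeroLocus (K : Set R) := hK ▸ hn
    exact hKp this
  have hsup : K ⊔ J = ⊤ := by
    by_contra hne
    obtain ⟨m, hm, hle⟩ := Ideal.exists_le_maximal _ hne
    haveI := h m (le_sup_right.trans hle)
    have hm' : FlatCA.FlatAt A m R := by
      show Module.Flat A (LocalizedModule m.primeCompl R)
      exact Module.Flat.of_linearEquiv ((IsLocalizedModule.iso m.primeCompl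
        (Algebra.linearMap R (Localization.AtPrime m))).restrictScalars A)
    have hmem : (⟨m, hm.isPrime⟩ : PrimeSpectrum R) ∈ PrimeSpectrum.zeroLocus (K : Set R) :=
      (le_sup_left.trans hle : K ≤ m)
    rw [← hK] at hmem
    exact hmem hm'
  obtain ⟨g, hgK, i, hiJ, hgi⟩ := Submodule.mem_sup.mp (hsup ▸ Submodule.mem_top : (1 : R) ∈ K ⊔ J)
  let R' := Localization.Away g
  refine ⟨R', inferInstance, inferInstance, inferInstance, inferInstance,
    Algebra.Etale.of_isLocalizationAway g, ?_, ?_⟩
  · have hg1 : Ideal.Quotient.mk (J.map (algebraMap R R')) (algebraMap R R' g) = 1 := by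
      rw [← map_one (Ideal.Quotient.mk (J.map (algebraMap R R'))), Ideal.Quotient.mk_eq_mk_iff_sub_mem,
        ← map_one (algebraMap R R'), ← map_sub, show g - 1 = -i by rw [← hgi]; ring]
      exact Ideal.mem_map_of_mem _ (neg_mem hiJ)
    refine ⟨Ideal.quotientMap_injective' fun a ha => ?_, fun z => ?_⟩
    · obtain ⟨⟨⟨b, hb⟩, ⟨_, m, rfl⟩⟩, he⟩ :=
        (IsLocalization.mem_map_algebraMap_iff (Submonoid.powers g) R').mp (Ideal.mem_comap.mp ha)
      simp only [← map_mul] at he
      obtain ⟨⟨_, k, rfl⟩, he'⟩ := (IsLocalization.eq_iff_exists (Submonoid.powers g) R').mp he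
      simp only at he'
      have hq : Ideal.Quotient.mk J g = 1 := by
        rw [← map_one (Ideal.Quotient.mk J), Ideal.Quotient.mk_eq_mk_iff_sub_mem,
          show g - 1 = -i by rw [← hgi]; ring]
        exact neg_mem hiJ
      have := congrArg (Ideal.Quotient.mk J) he'
      simp only [map_mul, map_pow, hq, one_pow, one_mul, mul_one, Ideal.Quotient.eq_zero_iff_mem.mpr hb] at this
      exact Ideal.Quotient.eq_zero_iff_mem.mp (this.trans (Ideal.Quotient.eq_zero_iff_mem.mpr hb))
    · obtain ⟨z, rfl⟩ := Ideal.Quotient.mk_surjective z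
      obtain ⟨n, a, hz⟩ := IsLocalization.Away.surj g z
      refine ⟨Ideal.Quotient.mk _ a, ?_⟩
      rw [Ideal.quotientMap_mk, ← hz, map_mul, map_pow, hg1, one_pow, mul_one]
  · refine Groth.FlatDescent.flat_of_flatAt (P := R') fun M _ => ?_
    haveI : (M.comap (algebraMap R R')).IsPrime := Ideal.IsPrime.comap _
    have hgM : g ∉ M.comap (algebraMap R R') := fun hh => (Ideal.IsPrime.ne_top inferInstance)
      (M.eq_top_of_isUnit_mem hh (IsLocalization.Away.algebraMap_isUnit g))
    haveI : Module.Flat A (LocalizedModule (M.comap (algebraMap R R')).primeCompl R) :=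
      hflat _ (fun hh => hgM (hh hgK))
    haveI := IsLocalization.isLocalization_isLocalization_atPrime_isLocalization (Submonoid.powers g)
      (Localization.AtPrime M) M
    exact Module.Flat.of_linearEquiv (((IsLocalizedModule.iso M.primeCompl
      (Algebra.linearMap R' (Localization.AtPrime M))).restrictScalars A).trans
        ((IsLocalizedModule.iso (M.comap (algebraMap R R')).primeCompl
      (Algebra.linearMap R (Localization.AtPrime M))).restrictScalars A).symm)

end Groth.Agent.S17593
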