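import Groth.Statements.S17595
import Groth.Agent.HenselLib.NbhdZeroLocus
import Mathlib.RingTheory.ZariskisMainTheorem
-- import your own Groth.Agent.* helpers here

set_option autoImplicit false
universe u
open Hensel

namespace Groth.Agent.S17595

open PrimeSpectrum in
theorem isQuasiFinite_away {A R : Type u} [CommRing A] [CommRing R] [Algebra A R] [Algebra.FiniteType A R] (g : R)
    (hg : ∀ x ∈ (basicOpen g : Set (PrimeSpectrum R)), ∃ r : R, r ∉ x.asIdeal ∧ Algebra.QuasiFinite A (Localization.Away r)) :
    Algebra.QuasiFinite A (Localization.Away g) := by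
  classical
  choose! r hr hqf using hg
  obtain ⟨t, htf⟩ := (isCompact_basicOpen g).elim_finite_subcover
    (fun x : (basicOpen g : Set (PrimeSpectrum R)) => (basicOpen (r x.1) : Set (PrimeSpectrum R)))
    (fun x => (basicOpen (r x.1)).isOpen) fun x hx => Set.mem_iUnion.2 ⟨⟨x, hx⟩, hr x hx⟩
  haveI : Algebra.FiniteType A (Localization.Away g) := Algebra.FiniteType.trans (S := R) inferInstance inferInstance
  refine Algebra.QuasiFinite.iff_finite_comap_preimage_singleton.2 fun y => ?_
  have hfin : ∀ z : (basicOpen g : Set (PrimeSpectrum R)),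
      ((comap (algebraMap A R) ⁻¹' {y}) ∩ (basicOpen (r z.1) : Set (PrimeSpectrum R))).Finite := by
    intro z
    haveI := hqf z.1 z.2
    haveI : Algebra.FiniteType A (Localization.Away (r z.1)) := Algebra.FiniteType.trans (S := R) inferInstance inferInstance
    refine ((Algebra.QuasiFinite.iff_finite_comap_preimage_singleton.1 inferInstance y).image
      (comap (algebraMap R (Localization.Away (r z.1))))).subset ?_
    rintro x ⟨hx1, hx2⟩
    rw [← localization_away_comap_range (Localization.Away (r z.1)) (r z.1)] at hx2
    obtain ⟨w, rfl⟩ := hx2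
    refine ⟨w, ?_, rfl⟩
    rw [Set.mem_preimage, IsScalarTower.algebraMap_eq A R (Localization.Away (r z.1)), comap_comp_apply]
    exact hx1
  refine ((Set.Finite.biUnion t.finite_toSet fun z _ => hfin z).preimage
    (localization_comap_injective (Localization.Away g) (Submonoid.powers g)).injOn).subset fun w hw => ?_
  have hwg : comap (algebraMap R (Localization.Away g)) w ∈ (basicOpen g : Set (PrimeSpectrum R)) := by
    rw [← localization_away_comap_range (Localization.Away g) g]; exact ⟨w, rfl⟩
  obtain ⟨z, hz, hzw⟩ := Set.mem_iUnion₂.1 (htf hwg)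
  refine Set.mem_preimage.2 (Set.mem_iUnion₂.2 ⟨z, hz, ?_, hzw⟩)
  rw [Set.mem_preimage, ← comap_comp_apply, ← IsScalarTower.algebraMap_eq]
  exact hw

/-- Suppose (A, I) is a Henselian pair, and R is an A-algebra of finite presentation for which A → R is
quasi-finite at each prime of R that contains IR. Then there is an étale R-algebra R' such that R/IR
→ R'/IR' is bijective and A → R' is quasi-finite. -/
theorem result (A : Type u) [CommRing A] (I : Ideal A) [HenselianRing A I]
    (R : Type u) [CommRing R] [Algebra A R] [Algebra.FinitePresentation A R]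
    (h : ∀ (p : Ideal R) [p.IsPrime], I.map (algebraMap A R) ≤ p → Algebra.QuasiFiniteAt A p)
    : ∃ (R' : Type u) (_ : CommRing R') (_ : Algebra R R') (_ : Algebra A R') (_ : IsScalarTower A R R'),
      Algebra.Etale R R' ∧
      Function.Bijective (Ideal.quotientMap ((I.map (algebraMap A R)).map (algebraMap R R'))
        (algebraMap R R') Ideal.le_comap_map) ∧ Algebra.QuasiFinite A R' := by
  let U : Set (PrimeSpectrum R) := {x | ∃ r : R, r ∉ x.asIdeal ∧ Algebra.QuasiFinite A (Localization.Away r)}
  have hU : IsOpen U := by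
    rw [isOpen_iff_forall_mem_open]
    rintro x ⟨r, hr, hq⟩
    exact ⟨PrimeSpectrum.basicOpen r, fun y hy => ⟨r, hy, hq⟩, (PrimeSpectrum.basicOpen r).isOpen, hr⟩
  obtain ⟨g, hg, hgU⟩ := Groth.Agent.HenselLib.exists_basicOpen_of_zeroLocus_subset
    (I.map (algebraMap A R)) hU (fun q hq => by
      haveI := h q.asIdeal ((PrimeSpectrum.mem_zeroLocus _ _).mp hq)
      obtain ⟨S', hS', r, hrq, hb⟩ := Algebra.QuasiFiniteAt.exists_fg_and_exists_notMem_and_awayMap_bijective
        (R := A) q.asIdeal
      have : Module.Finite A S' := ⟨(Submodule.fg_top _).mpr hS'⟩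
      have : Algebra.QuasiFinite A (Localization.Away r) := .trans _ S' _
      exact ⟨r.1, hrq, .of_surjective_algHom (Localization.awayMapₐ S'.val r) hb.2⟩)
  exact ⟨Localization.Away g, inferInstance, inferInstance, inferInstance, inferInstance,
    Algebra.Etale.of_isLocalizationAway g,
    Groth.Agent.HenselLib.quotientMap_away_bijective _ hg,
    isQuasiFinite_away g hgU⟩

end Groth.Agent.S17595
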