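import Groth.Statements.S1760
import Groth.Agent.GorLib.FieldExt
import Mathlib
import Groth.Agent.S6276
-- import your own Groth.Agent.* helpers here

set_option autoImplicit false
universe u
open scoped TensorProduct
open Goren

namespace Groth.Agent.S1760

/-- First assertion, written for the local ring B = O_{X,x}. Let k'/k be a finitely generated field
extension, B a Noetherian local k-algebra, and q a prime of B ⊗_k k' lying over the maximal ideal of
B. Then B is Gorenstein if and only if the localization of B ⊗_k k' at q is Gorenstein. -/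
theorem result (k k' : Type u) [Field k] [Field k'] [Algebra k k'] (hfg : ∃ s : Finset k', IntermediateField.adjoin k (s : Set k') = ⊤) (B : Type u) [CommRing B] [IsLocalRing B] [IsNoetherianRing B] [Algebra k B] (q : PrimeSpectrum (B ⊗[k] k')) (hq : q.asIdeal.comap (algebraMap B (B ⊗[k] k')) = IsLocalRing.maximalIdeal B) : LocCoh.IsGorensteinLocalRing B ↔ LocCoh.IsGorensteinLocalRing (Localization.AtPrime q.asIdeal) := by
  haveI := S6276.result k B k' hfg
  haveI : IsNoetherianRing (B ⊗[k] k') := isNoetherianRing_of_ringEquiv _
    (Algebra.TensorProduct.comm k k' B).toRingEquiv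
  constructor
  · intro hB
    haveI := GorLib.isGorensteinRing_of_local B
    haveI := GorLib.isGorensteinRing_tensor_fg k k' B hfg
    haveI : LocCoh.IsGorensteinRing (B ⊗[k] k') :=
      SegreOne.isGorensteinRing_of_ringEquiv (Algebra.TensorProduct.comm k k' B).toRingEquiv
    exact LocCoh.IsGorensteinRing.isGorensteinLocalRing_localization q.asIdeal
  · intro h
    have h1 := ((GorLib.gorenstein_atPrime_iff (A := B) q.asIdeal).1 h).1
    have hu : ∀ y : (q.asIdeal.comap (algebraMap B (B ⊗[k] k'))).primeCompl, IsUnit (y : B) := fun y =>
      IsLocalRing.notMem_maximalIdeal.1 (by rw [← hq]; exact y.2)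
    exact (GorLib.gorenstein_iff_of_ringEquiv (IsLocalization.atUnits B
      (S := Localization.AtPrime (q.asIdeal.comap (algebraMap B (B ⊗[k] k'))))
      (q.asIdeal.comap (algebraMap B (B ⊗[k] k'))).primeCompl (fun x hx => hu ⟨x, hx⟩)).symm.toRingEquiv).1 h1

end Groth.Agent.S1760
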