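import Groth.Statements.S17604
import Groth.Agent.HenselLib.PairHenselization

set_option autoImplicit false
universe u
open Hensel

namespace Groth.Agent.S17604

/-- Let (A, I) be a Henselian pair, R and R' étale A-algebras, and B, B' Henselizations of the pairs (R,
IR), (R', IR') with their induced A-algebra structures (so B and B' are h-étale over A). Then
reduction modulo I is a bijection from A-algebra maps B → B' to A-algebra maps B/IB → B'/IB': two
A-algebra maps B → B' that agree modulo IB' are equal, and every A-algebra map B/IB → B'/IB' is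
induced by an A-algebra map B → B'. -/
theorem result (A : Type u) [CommRing A]
    (I : Ideal A) [HenselianRing A I]
    (R : Type u) [CommRing R] [Algebra A R] [Algebra.Etale A R]
    (B : Type u) [CommRing B] [Algebra R B] [Algebra A B] [IsScalarTower A R B]
    (hB : Hens2.IsPairHenselization R (I.map (algebraMap A R)) B)
    (R' : Type u) [CommRing R'] [Algebra A R'] [Algebra.Etale A R']
    (B' : Type u) [CommRing B'] [Algebra R' B'] [Algebra A B'] [IsScalarTower A R' B']
    (hB' : Hens2.IsPairHenselization R' (I.map (algebraMap A R')) B') :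
    (∀ φ ψ : B →ₐ[A] B', (∀ b : B, φ b - ψ b ∈ I.map (algebraMap A B')) → φ = ψ) ∧
    ∀ χ : (B ⧸ I.map (algebraMap A B)) →ₐ[A] (B' ⧸ I.map (algebraMap A B')),
      ∃ φ : B →ₐ[A] B', ∀ b : B,
        Ideal.Quotient.mk (I.map (algebraMap A B')) (φ b) = χ (Ideal.Quotient.mk (I.map (algebraMap A B)) b) := by
  let J := I.map (algebraMap A B')
  have hJ : HenselianRing B' J := by
    have := hB'.1
    rwa [Ideal.map_map, ← IsScalarTower.algebraMap_eq] at this
  have hle : ∀ g : B →ₐ[A] B', ((I.map (algebraMap A R)).map (g.toRingHom.comp (algebraMap R B))) ≤ J :=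
    fun g => le_of_eq (by
      rw [Ideal.map_map, RingHom.comp_assoc, ← IsScalarTower.algebraMap_eq]
      exact congrArg (fun f => I.map f) g.comp_algebraMap)
  refine ⟨fun φ ψ h => ?_, fun χ => ?_⟩
  · have key : φ.comp (IsScalarTower.toAlgHom A R B) = ψ.comp (IsScalarTower.toAlgHom A R B) :=
      (Groth.Agent.HenselLib.existsUnique_lift J _).unique rfl (AlgHom.ext fun x =>
        (Ideal.Quotient.eq.mpr (h (algebraMap R B x))).symm)
    have h1 : φ.toRingHom = ψ.toRingHom := Groth.Agent.HenselLib.pairHenselization_hom_ext hB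
      (hJ := hJ) J (hle ψ) (congrArg AlgHom.toRingHom key)
    exact AlgHom.ext fun x => RingHom.congr_fun h1 x
  · let σ : R →ₐ[A] B' ⧸ J :=
      χ.comp ((Ideal.Quotient.mkₐ A (I.map (algebraMap A B))).comp (IsScalarTower.toAlgHom A R B))
    obtain ⟨τ, hτ, -⟩ := Groth.Agent.HenselLib.existsUnique_lift J σ
    obtain ⟨g, hg, -⟩ := hB.2 B' J τ.toRingHom hJ (le_of_eq (by
      rw [Ideal.map_map, AlgHom.toRingHom_eq_coe, AlgHom.comp_algebraMap]))
    let φ : B →ₐ[A] B' :=
      { g with
        commutes' := fun a => by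
          show g (algebraMap A B a) = _
          rw [IsScalarTower.algebraMap_apply A R B, ← RingHom.comp_apply, hg]
          exact τ.commutes a }
    refine ⟨φ, fun b => ?_⟩
    obtain ⟨y, hy⟩ := (Groth.Agent.HenselLib.quotient_pow_bijective hB 1).2 (Ideal.Quotient.mk _ b)
    obtain ⟨x, rfl⟩ := Ideal.Quotient.mk_surjective y
    rw [Ideal.quotientMap_mk, Ideal.Quotient.eq, pow_one, Ideal.map_map,
      ← IsScalarTower.algebraMap_eq] at hy
    have h1 : φ (algebraMap R B x - b) ∈ J := by
      have h2 := Ideal.mem_map_of_mem φ.toRingHom hy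
      rwa [Ideal.map_map, AlgHom.toRingHom_eq_coe, AlgHom.comp_algebraMap] at h2
    rw [map_sub] at h1
    rw [← Ideal.Quotient.eq.mpr h1, ← Ideal.Quotient.eq.mpr hy]
    exact (congrArg (Ideal.Quotient.mk J) (RingHom.congr_fun hg x)).trans (AlgHom.congr_fun hτ x)

end Groth.Agent.S17604
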