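import Groth.Statements.S17605
import Groth.Agent.HenselLib.PairHenselization

set_option autoImplicit false
universe u
open Hensel

namespace Groth.Agent.S17605

/-- Let A be a ring with an ideal I and let f₁, f₂ be elements of A such that D(f₂) ∩ V(I) ⊆ D(f₁) ∩
V(I) in Spec A. If H₁ is a Henselization of the pair (A_{f₁}, IA_{f₁}) and H₂ a Henselization of the
pair (A_{f₂}, IA_{f₂}), with their induced A-algebra structures, then there is exactly one A-algebra
map H₁ → H₂. -/
theorem result (A : Type u) [CommRing A]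
    (I : Ideal A) (f₁ f₂ : A)
    (h : (PrimeSpectrum.basicOpen f₂ : Set (PrimeSpectrum A)) ∩ PrimeSpectrum.zeroLocus (I : Set A) ⊆
      (PrimeSpectrum.basicOpen f₁ : Set (PrimeSpectrum A)) ∩ PrimeSpectrum.zeroLocus (I : Set A))
    (H₁ : Type u) [CommRing H₁] [Algebra (Localization.Away f₁) H₁] [Algebra A H₁]
    [IsScalarTower A (Localization.Away f₁) H₁]
    (hH₁ : Hens2.IsPairHenselization (Localization.Away f₁)
      (I.map (algebraMap A (Localization.Away f₁))) H₁)
    (H₂ : Type u) [CommRing H₂] [Algebra (Localization.Away f₂) H₂] [Algebra A H₂]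
    [IsScalarTower A (Localization.Away f₂) H₂]
    (hH₂ : Hens2.IsPairHenselization (Localization.Away f₂)
      (I.map (algebraMap A (Localization.Away f₂))) H₂) :
    Nonempty (H₁ →ₐ[A] H₂) ∧ Subsingleton (H₁ →ₐ[A] H₂) := by
  let IA₂ := I.map (algebraMap A (Localization.Away f₂))
  have hu : IsUnit (Ideal.Quotient.mk IA₂ (algebraMap A (Localization.Away f₂) f₁)) := by
    by_contra hnu
    obtain ⟨P, hP, hfP⟩ := exists_max_ideal_of_mem_nonunits hnu
    let Q := P.comap (Ideal.Quotient.mk IA₂)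
    have : Q.IsPrime := Ideal.IsPrime.comap _
    let p : PrimeSpectrum A := ⟨Q.comap (algebraMap A (Localization.Away f₂)), Ideal.IsPrime.comap _⟩
    have h1 : p ∈ (PrimeSpectrum.basicOpen f₂ : Set (PrimeSpectrum A)) ∩
        PrimeSpectrum.zeroLocus (I : Set A) := by
      refine ⟨fun hf₂ => ‹Q.IsPrime›.ne_top (Ideal.eq_top_of_isUnit_mem _ hf₂
        (IsLocalization.Away.algebraMap_isUnit f₂)), fun a ha => ?_⟩
      show Ideal.Quotient.mk IA₂ (algebraMap A (Localization.Away f₂) a) ∈ P
      rw [Ideal.Quotient.eq_zero_iff_mem.mpr (Ideal.mem_map_of_mem _ ha)]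
      exact P.zero_mem
    exact (h h1).1 hfP
  have hH : HenselianRing H₂ (I.map (algebraMap A H₂)) := by
    have := hH₂.1
    rwa [Ideal.map_map, ← IsScalarTower.algebraMap_eq] at this
  have hu₂ : IsUnit (algebraMap A H₂ f₁) := by
    obtain ⟨b, hb⟩ := hu.exists_right_inv
    obtain ⟨b, rfl⟩ := Ideal.Quotient.mk_surjective b
    rw [← map_mul, ← map_one (Ideal.Quotient.mk IA₂), Ideal.Quotient.eq] at hb
    have h2 := Ideal.mem_map_of_mem (algebraMap (Localization.Away f₂) H₂) hb
    rw [Ideal.map_map, ← IsScalarTower.algebraMap_eq, map_sub, map_mul, map_one,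
      ← IsScalarTower.algebraMap_apply] at h2
    have h3 := Ideal.mem_jacobson_bot.mp (hH.jac h2) 1
    rw [mul_one, sub_add_cancel] at h3
    exact (IsUnit.mul_iff.mp h3).1
  let l : Localization.Away f₁ →ₐ[A] H₂ :=
    IsLocalization.Away.liftAlgHom f₁ (f := Algebra.ofId A H₂) hu₂
  have hle : (I.map (algebraMap A (Localization.Away f₁))).map l.toRingHom ≤
      I.map (algebraMap A H₂) := by
    rw [Ideal.map_map, AlgHom.toRingHom_eq_coe, AlgHom.comp_algebraMap]
  obtain ⟨g, hg, hgu⟩ := hH₁.2 H₂ _ l.toRingHom hH hle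
  refine ⟨⟨{ g with commutes' := fun a => ?_ }⟩, ⟨fun φ ψ => ?_⟩⟩
  · show g (algebraMap A H₁ a) = _
    rw [IsScalarTower.algebraMap_apply A (Localization.Away f₁) H₁, ← RingHom.comp_apply, hg]
    exact l.commutes a
  · have key : ∀ χ : H₁ →ₐ[A] H₂, χ.toRingHom = g := fun χ => hgu _ (by
      refine IsLocalization.ringHom_ext (Submonoid.powers f₁) ?_
      rw [RingHom.comp_assoc, ← IsScalarTower.algebraMap_eq]
      exact χ.comp_algebraMap.trans l.comp_algebraMap.symm)
    exact AlgHom.ext fun x => RingHom.congr_fun ((key φ).trans (key ψ).symm) x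

end Groth.Agent.S17605
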