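import Groth.Statements.S17613
import Groth.Agent.HenselLib.DirectedPair
import Groth.Agent.HenselLib.PairHenselization
import Mathlib.RingTheory.FinitePresentation

set_option autoImplicit false
universe u
open Hensel

namespace Groth.Agent.S17613

/-- Let (A, I) be a Henselian pair and let B be a Henselization of the pair (R₀, IR₀) for a finitely
presented A-algebra R₀ (so A → B is Henselian finitely presented). Let (R_a) be a directed system of
A-algebras with A-compatible transition maps such that each (R_a, IR_a) is a Henselian pair, and let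
L be its direct limit with the induced A-algebra structure. Then the canonical map from the colimit
of the Hom_A(B, R_a) to Hom_A(B, L) is bijective: every A-algebra map B → L factors through some
R_a, and two A-algebra maps B → R_a whose composites with R_a → L agree become equal after passing
to some R_b. (Index set in the universe of the rings.) -/
theorem result (A : Type u) [CommRing A] (I : Ideal A)
    [HenselianRing A I] (R₀ : Type u) [CommRing R₀] [Algebra A R₀] [Algebra.FinitePresentation A R₀]
    (B : Type u) [CommRing B] [Algebra R₀ B] [Algebra A B] [IsScalarTower A R₀ B]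
    (hB : Hens2.IsPairHenselization R₀ (I.map (algebraMap A R₀)) B)
    {κ : Type u} [Preorder κ] [IsDirectedOrder κ] [Nonempty κ]
    (Ra : κ → Type u) [∀ a, CommRing (Ra a)] [∀ a, Algebra A (Ra a)]
    [∀ a, HenselianRing (Ra a) (I.map (algebraMap A (Ra a)))]
    (t : ∀ a b : κ, a ≤ b → (Ra a →+* Ra b)) [DirectedSystem Ra (fun a b h => t a b h)]
    (ht : ∀ (a b : κ) (h : a ≤ b), (t a b h).comp (algebraMap A (Ra a)) = algebraMap A (Ra b))
    [Algebra A (DirectLimit Ra t)]
    (halg : ∀ (a : κ) (x : A), algebraMap A (DirectLimit Ra t) x =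
      DirectLimit.Ring.of Ra t a (algebraMap A (Ra a) x)) :
    (∀ χ : B →ₐ[A] DirectLimit Ra t, ∃ (a : κ) (φ : B →ₐ[A] Ra a),
        ∀ x : B, DirectLimit.Ring.of Ra t a (φ x) = χ x) ∧
    ∀ (a : κ) (φ ψ : B →ₐ[A] Ra a),
      (∀ x : B, DirectLimit.Ring.of Ra t a (φ x) = DirectLimit.Ring.of Ra t a (ψ x)) →
      ∃ (b : κ) (h : a ≤ b), ∀ x : B, t a b h (φ x) = t a b h (ψ x) := by
  classical
  let o := DirectLimit.Ring.of Ra t
  have ho : ∀ a, (o a).comp (algebraMap A (Ra a)) = algebraMap A (DirectLimit Ra t) := fun a =>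
    RingHom.ext fun x => (halg a x).symm
  let J : ∀ a, Ideal (Ra a) := fun a => I.map (algebraMap A (Ra a))
  have hJ : ∀ a b (h : a ≤ b), (J a).map (t a b h) ≤ J b := fun a b h => by
    simp only [J, Ideal.map_map, ht a b h]; exact le_rfl
  have hL : HenselianRing (DirectLimit Ra t) (I.map (algebraMap A (DirectLimit Ra t))) := by
    have h := Groth.Agent.HenselLib.henselianRing_directLimit J hJ fun a => inferInstance
    simp only [J, Ideal.map_map, show ∀ a, (DirectLimit.Ring.of Ra t a).comp (algebraMap A (Ra a)) =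
      algebraMap A (DirectLimit Ra t) from ho] at h
    rwa [iSup_const] at h
  obtain ⟨n, π, hπ, hkfg⟩ := Algebra.FinitePresentation.out (R := A) (A := R₀)
  obtain ⟨s, hs⟩ := hkfg
  have hR₀ : (algebraMap R₀ B).comp (algebraMap A R₀) = algebraMap A B :=
    (IsScalarTower.algebraMap_eq A R₀ B).symm
  -- two maps out of `B` agreeing on generators agree
  have ext0 : ∀ {T : Type u} [CommRing T] [Algebra A T] (_ : HenselianRing T (I.map (algebraMap A T)))
      (φ ψ : B →ₐ[A] T), (∀ i, φ (algebraMap R₀ B (π (MvPolynomial.X i))) =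
        ψ (algebraMap R₀ B (π (MvPolynomial.X i)))) → φ = ψ := by
    intro T _ _ hT φ ψ h
    have e : (φ.comp (IsScalarTower.toAlgHom A R₀ B)) = ψ.comp (IsScalarTower.toAlgHom A R₀ B) := by
      have e1 : (φ.comp (IsScalarTower.toAlgHom A R₀ B)).comp π =
          (ψ.comp (IsScalarTower.toAlgHom A R₀ B)).comp π := MvPolynomial.algHom_ext fun i => h i
      exact AlgHom.ext fun x => by obtain ⟨y, rfl⟩ := hπ x; exact AlgHom.congr_fun e1 y
    refine AlgHom.coe_ringHom_injective
      (Groth.Agent.HenselLib.pairHenselization_hom_ext hB (I.map (algebraMap A T)) ?_ ?_)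
    · rw [Ideal.map_map, RingHom.comp_assoc, hR₀, AlgHom.comp_algebraMap]
    · exact congrArg AlgHom.toRingHom e
  refine ⟨fun χ => ?_, fun a φ ψ h => ?_⟩
  · have hg : ∀ i, ∃ a, ∃ y : Ra a, o a y = χ (algebraMap R₀ B (π (MvPolynomial.X i))) := fun i => by
      induction χ (algebraMap R₀ B (π (MvPolynomial.X i))) using DirectLimit.induction with | _ a y
      exact ⟨a, y, rfl⟩
    choose ia y hy using hg
    obtain ⟨a, ha⟩ := Finite.exists_le ia
    let θ : MvPolynomial (Fin n) A →ₐ[A] Ra a :=
      MvPolynomial.aeval fun i => t (ia i) a (ha i) (y i)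
    have hθ : (o a).comp θ.toRingHom =
        (χ.toRingHom.comp (algebraMap R₀ B)).comp π.toRingHom := by
      refine MvPolynomial.ringHom_ext (fun x => ?_) fun i => ?_
      · show o a (θ (MvPolynomial.C x)) = χ (algebraMap R₀ B (π (MvPolynomial.C x)))
        rw [← MvPolynomial.algebraMap_eq, AlgHom.commutes, AlgHom.commutes,
          ← IsScalarTower.algebraMap_apply, AlgHom.commutes, halg a]
      · show o a (θ (MvPolynomial.X i)) = χ (algebraMap R₀ B (π (MvPolynomial.X i)))
        simp only [θ, MvPolynomial.aeval_X, o, DirectLimit.Ring.of_f]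
        exact hy i
    have hkill : ∀ q : {q // q ∈ s}, ∃ b, ∃ hb : a ≤ b, t a b hb (θ q.1) = 0 := fun q => by
      have h0 : o a (θ q.1) = o a 0 := by
        rw [map_zero]
        refine (RingHom.congr_fun hθ q.1).trans ?_
        show χ (algebraMap R₀ B (π q.1)) = 0
        rw [show π q.1 = 0 from RingHom.mem_ker.1 (hs.le (Ideal.subset_span q.2)), map_zero, map_zero]
      obtain ⟨b, h1, h2, h3⟩ := Quotient.exact h0
      exact ⟨b, h1, h3.trans (map_zero _)⟩
    choose ib hib hib0 using hkill
    obtain ⟨b, hb⟩ := Finite.exists_le (fun o : Option {q // q ∈ s} => o.elim a ib)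
    have hab : a ≤ b := hb none
    let tab : Ra a →ₐ[A] Ra b := { t a b hab with commutes' := RingHom.congr_fun (ht a b hab) }
    have hker : RingHom.ker π.toRingHom ≤ RingHom.ker (tab.comp θ).toRingHom := by
      refine hs.ge.trans (Ideal.span_le.2 fun q hq => ?_)
      show t a b hab (θ q) = 0
      rw [← DirectedSystem.map_map (f := fun i j h => t i j h) (hib ⟨q, hq⟩) (hb (some ⟨q, hq⟩)) (θ q),
        hib0 ⟨q, hq⟩, map_zero]
    let f₀ : R₀ →ₐ[A] Ra b := AlgHom.liftOfSurjective π hπ (tab.comp θ) hker
    obtain ⟨g, hg, -⟩ := hB.2 (Ra b) (I.map (algebraMap A (Ra b))) f₀.toRingHom inferInstance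
      (by rw [Ideal.map_map]; exact le_of_eq (congrArg (fun h => I.map h) f₀.comp_algebraMap))
    have hgA : ∀ x, g (algebraMap A B x) = algebraMap A (Ra b) x := fun x => by
      rw [← hR₀]
      exact (RingHom.congr_fun hg (algebraMap A R₀ x)).trans (f₀.commutes x)
    let φ : B →ₐ[A] Ra b := { g with commutes' := hgA }
    let ob : Ra b →ₐ[A] DirectLimit Ra t := { o b with commutes' := fun x => (halg b x).symm }
    refine ⟨b, φ, fun x => AlgHom.congr_fun (ext0 hL (ob.comp φ) χ fun i => ?_) x⟩
    show o b (g (algebraMap R₀ B (π (MvPolynomial.X i)))) = _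
    have h1 : f₀ (π (MvPolynomial.X i)) = tab (θ (MvPolynomial.X i)) :=
      AlgHom.liftOfSurjective_apply ..
    rw [show g (algebraMap R₀ B (π (MvPolynomial.X i))) = f₀ (π (MvPolynomial.X i)) from
      RingHom.congr_fun hg _, h1]
    show o b (t a b hab _) = _
    simp only [θ, MvPolynomial.aeval_X, o, DirectLimit.Ring.of_f]
    exact hy i
  · have hk : ∀ i, ∃ b, ∃ hb : a ≤ b, t a b hb (φ (algebraMap R₀ B (π (MvPolynomial.X i)))) =
        t a b hb (ψ (algebraMap R₀ B (π (MvPolynomial.X i)))) := fun i => by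
      obtain ⟨b, h1, h2, h3⟩ := Quotient.exact (h (algebraMap R₀ B (π (MvPolynomial.X i))))
      exact ⟨b, h1, h3⟩
    choose ib hib hib0 using hk
    obtain ⟨b, hb⟩ := Finite.exists_le (fun o : Option (Fin n) => o.elim a ib)
    have hab : a ≤ b := hb none
    let tab : Ra a →ₐ[A] Ra b := { t a b hab with commutes' := RingHom.congr_fun (ht a b hab) }
    refine ⟨b, hab, fun x => AlgHom.congr_fun (ext0 inferInstance (tab.comp φ) (tab.comp ψ) fun i => ?_) x⟩
    show t a b hab _ = t a b hab _
    rw [← DirectedSystem.map_map (f := fun i j h => t i j h) (hib i) (hb (some i)),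
      ← DirectedSystem.map_map (f := fun i j h => t i j h) (hib i) (hb (some i))]
    exact congrArg (t (ib i) b (hb (some i))) (hib0 i)

end Groth.Agent.S17613
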