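import Groth.Statements.S17617
import Groth.Agent.HenselLib.PairHenselization
import Groth.Agent.HenselLib.Ops
import Mathlib

set_option autoImplicit false
universe u
open Hensel

namespace Groth.Agent.S17617

/-- Let (A, I) be a Henselian pair and let M' → M → M'' be A-linear maps with zero composite. Then M' →
M → M'' is exact if and only if for every prime ideal p of A containing I and every Henselization H
of the pair (A_p, IA_p), the sequence H ⊗_A M' → H ⊗_A M → H ⊗_A M'' is exact. (The modules H ⊗_A M
are the stalks at p of the sheaf associated to M on the affine Henselian scheme of (A, I), and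
exactness of a sequence of such sheaves is exactness at every stalk, so this is the statement that
the sequence of modules is exact exactly when the associated sequence of sheaves is.) -/
theorem result (A : Type u) [CommRing A]
    (I : Ideal A) [HenselianRing A I]
    (M' M M'' : Type u) [AddCommGroup M'] [Module A M'] [AddCommGroup M] [Module A M]
    [AddCommGroup M''] [Module A M''] (f : M' →ₗ[A] M) (g : M →ₗ[A] M'') (hfg : g.comp f = 0) :
    Function.Exact f g ↔
    ∀ (p : Ideal A) [p.IsPrime], I ≤ p →
      ∀ (H : Type u) [CommRing H] [Algebra (Localization.AtPrime p) H] [Algebra A H]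
        [IsScalarTower A (Localization.AtPrime p) H],
        Hens2.IsPairHenselization (Localization.AtPrime p)
          (I.map (algebraMap A (Localization.AtPrime p))) H →
        Function.Exact (f.baseChange H) (g.baseChange H) := by
  classical
  refine ⟨fun hex p _ hIp H _ _ _ _ hH => ?_, fun h m => ⟨fun hm => ?_, ?_⟩⟩
  · have : Module.Flat (Localization.AtPrime p) H :=
      Groth.Agent.HenselLib.flat_of_isPairHenselization hH
    have : Module.Flat A (Localization.AtPrime p) := IsLocalization.flat _ p.primeCompl
    have : Module.Flat A H := Module.Flat.trans A (Localization.AtPrime p) H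
    exact Module.Flat.lTensor_exact H hex
  · set N := LinearMap.range f
    set 𝔞 : Ideal A := LinearMap.ker (LinearMap.toSpanSingleton A (M ⧸ N) (N.mkQ m))
    by_contra hne
    have h1 : (1 : A) ∉ 𝔞 := fun h1 => by
      have h2 : (1 : A) • N.mkQ m = 0 := h1
      rw [one_smul, Submodule.mkQ_apply, Submodule.Quotient.mk_eq_zero] at h2
      exact hne h2
    obtain ⟨p, hp, hle⟩ := Ideal.exists_le_maximal 𝔞 ((Ideal.ne_top_iff_one _).2 h1)
    have := hp.isPrime
    have hIp : I ≤ p := HenselianRing.jac.trans (sInf_le ⟨bot_le, hp⟩)
    obtain ⟨H, _, _, hH⟩ := Groth.Agent.HenselLib.exists_pairHenselization (Localization.AtPrime p)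
      (I.map (algebraMap A (Localization.AtPrime p)))
    let _ : Algebra A H := ((algebraMap (Localization.AtPrime p) H).comp
      (algebraMap A (Localization.AtPrime p))).toAlgebra
    have : IsScalarTower A (Localization.AtPrime p) H := IsScalarTower.of_algebraMap_eq' rfl
    have : Module.Flat (Localization.AtPrime p) H :=
      Groth.Agent.HenselLib.flat_of_isPairHenselization hH
    have : Module.Flat A (Localization.AtPrime p) := IsLocalization.flat _ p.primeCompl
    have : Module.Flat A H := Module.Flat.trans A (Localization.AtPrime p) H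
    have hbot : HenselianRing p.ResidueField (⊥ : Ideal p.ResidueField) :=
      Groth.Agent.HenselLib.henselianRing_of_nil fun x hx => by
        rw [Submodule.mem_bot] at hx; exact ⟨1, by rw [hx, pow_one]⟩
    obtain ⟨φ, hφ, -⟩ := hH.2 p.ResidueField ⊥ (algebraMap (Localization.AtPrime p) p.ResidueField) hbot
      (by
        rw [Ideal.map_map, ← IsScalarTower.algebraMap_eq, Ideal.map_le_iff_le_comap]
        intro a ha
        exact (Ideal.algebraMap_residueField_eq_zero).2 (hIp ha))
    have hφA : ∀ a, φ (algebraMap A H a) = algebraMap A p.ResidueField a := fun a => by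
      show φ (algebraMap (Localization.AtPrime p) H (algebraMap A (Localization.AtPrime p) a)) = _
      exact (RingHom.congr_fun hφ _).trans
        (IsScalarTower.algebraMap_apply A (Localization.AtPrime p) p.ResidueField a).symm
    let φA : H →ₐ[A] p.ResidueField := { φ with commutes' := hφA }
    let ψ : (A ⧸ 𝔞) →ₐ[A] p.ResidueField := Ideal.Quotient.liftₐ 𝔞 (Algebra.ofId A _)
      fun a ha => (Ideal.algebraMap_residueField_eq_zero).2 (hle ha)
    let ι : (A ⧸ 𝔞) →ₗ[A] M ⧸ N :=
      Submodule.liftQ 𝔞 (LinearMap.toSpanSingleton A (M ⧸ N) (N.mkQ m)) le_rfl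
    have hι : Function.Injective ι := LinearMap.ker_eq_bot.1 (Submodule.ker_liftQ_eq_bot _ _ _ le_rfl)
    have hk : (g.baseChange H) ((1 : H) ⊗ₜ m) = 0 := by
      rw [LinearMap.baseChange_tmul, hm, TensorProduct.tmul_zero]
    obtain ⟨y, hy⟩ := ((h p hIp H hH) _).1 hk
    have h0 : LinearMap.lTensor H N.mkQ ((1 : H) ⊗ₜ[A] m) = 0 := by
      rw [← hy, LinearMap.baseChange_eq_ltensor, ← LinearMap.comp_apply, ← LinearMap.lTensor_comp,
        show N.mkQ.comp f = 0 from LinearMap.range_mkQ_comp _, LinearMap.lTensor_zero,
        LinearMap.zero_apply]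
    have h2 : (1 : H) ⊗ₜ[A] (1 : A ⧸ 𝔞) = 0 := by
      refine Module.Flat.lTensor_preserves_injective_linearMap (M := H) ι hι ?_
      rw [map_zero, LinearMap.lTensor_tmul, ← h0, LinearMap.lTensor_tmul]
      congr 1
      exact one_smul A (N.mkQ m)
    have := congrArg (Algebra.TensorProduct.productMap φA ψ) h2
    rw [map_zero, Algebra.TensorProduct.productMap_apply_tmul, map_one, map_one, mul_one] at this
    exact one_ne_zero this
  · rintro ⟨x, rfl⟩
    exact LinearMap.congr_fun hfg x

end Groth.Agent.S17617
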