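import Groth.Statements.S1762
import Groth.Agent.DualCx.Primes
-- import your own Groth.Agent.* helpers here

set_option autoImplicit false
universe u
open CategoryTheory
attribute [local instance] HasDerivedCategory.standard
open Dual

namespace Groth.Agent.S1762

/-- Let A be a Noetherian ring with a dualizing complex ω and p a minimal prime of A. Then there is
exactly one integer i for which H^i(ω) localized at p is nonzero. -/
theorem result (A : Type u) [CommRing A] [IsNoetherianRing A] (ω : Dual.D A) (hω : Dual.IsDualizing A ω) (p : Ideal A) (hp : p ∈ minimalPrimes A) : ∃! i : ℤ, Nontrivial (LocalizedModule (Ideal.primeCompl p (hp := hp.1.1)) (Dual.HD A ω i)) := by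
  obtain ⟨W, a, b, hW, hinj, hzero, ⟨e⟩⟩ := Groth.Agent.DualCx.exists_model hω.finite_injective_dimension
  haveI := hW
  haveI := hinj
  haveI := hp.1.1
  obtain ⟨n, -, hiff⟩ := Groth.Agent.DualCx.existsUnique_degree_minimal a b hω hzero e p hp
  have heq : ∀ j, Nontrivial (LocalizedModule p.primeCompl (Dual.HD A ω j)) ↔
      Nontrivial (LocalizedModule p.primeCompl (W.homology j)) := fun j => by
    rw [← Groth.Agent.DualCx.nontrivial_extM_iff (Groth.Agent.DualCx.isLocHom_prime p) ((DerivedCategory.homologyFunctor (ModuleCat.{u} A) j).obj ω),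
      ← Groth.Agent.DualCx.nontrivial_extM_iff (Groth.Agent.DualCx.isLocHom_prime p) (W.homology j)]
    exact ((Groth.Agent.DualCx.extM _).mapIso ((DerivedCategory.homologyFunctor (ModuleCat.{u} A) j).mapIso e.symm ≪≫
      (DerivedCategory.homologyFunctorFactors (ModuleCat.{u} A) j).app W)).toLinearEquiv.toEquiv.nontrivial_congr
  exact ⟨n, (heq n).2 ((hiff n).2 rfl), fun j hj => (hiff j).1 ((heq j).1 hj)⟩

end Groth.Agent.S1762
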