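import Groth.Statements.S17620
import Groth.Agent.HenselLib.PairHenselization

set_option autoImplicit false
universe u
open Hensel

namespace Groth.Agent.S17620

/-- Let R be a local ring and J an ideal of R contained in the maximal ideal, let H be a Henselization
of the pair (R, J) which is a local ring with local structure map R → H, and let S be a strict
Henselization of the local ring H. Then S, with its composite R-algebra structure, is a strict
Henselization of the local ring R. (This is the identification of the strict Henselization of the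
local ring of a scheme at a point with that of the local ring of its Henselization along a closed
subscheme through the point.) -/
theorem result
    (R : Type u) [CommRing R] [IsLocalRing R] (J : Ideal R) (hJ : J ≤ IsLocalRing.maximalIdeal R)
    (H : Type u) [CommRing H] [IsLocalRing H] [Algebra R H] [IsLocalHom (algebraMap R H)]
    (hH : Hens2.IsPairHenselization R J H)
    (S : Type u) [CommRing S] [IsLocalRing S] [Algebra H S] [IsLocalHom (algebraMap H S)]
    [Hensel.IsStrictHenselization H S]
    [Algebra R S] [IsScalarTower R H S] [IsLocalHom (algebraMap R S)] :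
    Hensel.IsStrictHenselization R S := by
  have hS : Hensel.IsStrictHenselization H S := inferInstance
  have hb := Groth.Agent.HenselLib.quotient_pow_bijective hH 1
  have hJH : J.map (algebraMap R H) ≤ IsLocalRing.maximalIdeal H :=
    (Ideal.map_mono hJ).trans (Ideal.map_le_iff_le_comap.mpr fun r hr => map_nonunit _ r hr)
  have hdec : ∀ x : H, ∃ r : R, x - algebraMap R H r ∈ J.map (algebraMap R H) := fun x => by
    obtain ⟨y, hy⟩ := hb.2 (Ideal.Quotient.mk _ x)
    obtain ⟨r, rfl⟩ := Ideal.Quotient.mk_surjective y
    rw [Ideal.quotientMap_mk] at hy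
    exact ⟨r, by simpa [pow_one] using Ideal.Quotient.eq.mp hy.symm⟩
  have hsurj : Function.Surjective (IsLocalRing.ResidueField.map (algebraMap R H)) := fun y => by
    obtain ⟨x, rfl⟩ := IsLocalRing.residue_surjective y
    obtain ⟨r, hr⟩ := hdec x
    exact ⟨IsLocalRing.residue R r, (Ideal.Quotient.eq.mpr (hJH hr)).symm⟩
  refine ⟨hS.henselian, ?_, fun T _ _ f _ τ hτ => ?_⟩
  · have : IsScalarTower (IsLocalRing.ResidueField R) (IsLocalRing.ResidueField H)
        (IsLocalRing.ResidueField S) := .of_algebraMap_eq fun a => by
      obtain ⟨r, rfl⟩ := IsLocalRing.residue_surjective a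
      show IsLocalRing.residue S (algebraMap R S r) =
        IsLocalRing.residue S (algebraMap H S (algebraMap R H r))
      rw [← IsScalarTower.algebraMap_apply]
    have hc := hS.isSepClosure
    have : Algebra.IsSeparable (IsLocalRing.ResidueField H) (IsLocalRing.ResidueField S) :=
      hc.separable
    have : Algebra.IsSeparable (IsLocalRing.ResidueField R) (IsLocalRing.ResidueField H) :=
      ⟨fun x => by
        obtain ⟨a, rfl⟩ := hsurj x
        exact isSeparable_algebraMap a⟩
    exact ⟨hc.sep_closed, Algebra.IsSeparable.trans _ (IsLocalRing.ResidueField H) _⟩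
  · obtain ⟨g₀, hg₀, hg₀u⟩ := hH.2 T (IsLocalRing.maximalIdeal T) f inferInstance
      ((Ideal.map_mono hJ).trans (Ideal.map_le_iff_le_comap.mpr fun r hr => map_nonunit f r hr))
    have hg₀m : ∀ x ∈ J.map (algebraMap R H), g₀ x ∈ IsLocalRing.maximalIdeal T := fun x hx => by
      have h1 := Ideal.mem_map_of_mem g₀ hx
      rw [Ideal.map_map, hg₀] at h1
      exact ((Ideal.map_mono hJ).trans (Ideal.map_le_iff_le_comap.mpr fun r hr => map_nonunit f r hr) :
        J.map f ≤ IsLocalRing.maximalIdeal T) h1
    have : IsLocalHom g₀ := ⟨fun x hx => by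
      by_contra hnu
      obtain ⟨r, hr⟩ := hdec x
      have h1 : r ∈ IsLocalRing.maximalIdeal R := by
        intro hu
        have := hu.map (algebraMap R H)
        exact ((IsLocalRing.maximalIdeal H).sub_mem hnu (hJH hr)) (by simpa using this)
      have h2 := (IsLocalRing.maximalIdeal T).add_mem (hg₀m _ hr) (map_nonunit f r h1)
      rw [← RingHom.congr_fun hg₀ r, RingHom.comp_apply, ← map_add, sub_add_cancel] at h2
      exact h2 hx⟩
    have hτ₀ : τ.comp (IsLocalRing.ResidueField.map (algebraMap H S)) =
        IsLocalRing.ResidueField.map g₀ := RingHom.ext fun y => by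
      obtain ⟨a, rfl⟩ := hsurj y
      obtain ⟨r, rfl⟩ := IsLocalRing.residue_surjective a
      have h1 := RingHom.congr_fun hτ (IsLocalRing.residue R r)
      simp only [RingHom.comp_apply, IsLocalRing.ResidueField.map_residue] at h1 ⊢
      rw [← IsScalarTower.algebraMap_apply, h1, ← hg₀, RingHom.comp_apply]
    obtain ⟨g, ⟨hg, hgres⟩, hgu⟩ := hS.universal T g₀ τ hτ₀
    refine ⟨g, ⟨by rw [IsScalarTower.algebraMap_eq R H S, ← RingHom.comp_assoc, hg, hg₀], hgres⟩,
      fun g' ⟨h1, h2⟩ => hgu g' ⟨hg₀u _ ?_, h2⟩⟩
    show (g'.comp (algebraMap H S)).comp (algebraMap R H) = f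
    rw [RingHom.comp_assoc, ← IsScalarTower.algebraMap_eq, h1]

end Groth.Agent.S17620
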