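import Groth.Statements.S17621
import Groth.Agent.AsympCoh.Seq

set_option autoImplicit false
set_option backward.isDefEq.respectTransparency false
set_option backward.isDefEq.respectTransparency false
universe u
open CategoryTheory CategoryTheory.Limits AlgebraicGeometry
open Variety
open Groth.Agent Groth.Agent.InvBasic Groth.Agent.ProjUniv Groth.Agent.InvPow Groth.Agent.QCohLib Groth.Agent.HilbPoly Groth.Agent.CurveDeg Groth.Agent.CohFinite

namespace Groth.Agent.S17621

/-- Let X be an integral scheme, proper over an algebraically closed field k of characteristic zero and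
admitting an ample invertible module, of dimension n (stated in the source over the complex
numbers), L an invertible O_X-module and a ≥ 1. Then ĥ^i(X, L^{⊗a}) = a^n · ĥ^i(X, L) for every i ≥
0, where ĥ^i(X, L) = limsup_m dim_k H^i(X, L^{⊗m}) · n!/m^n is the i-th asymptotic cohomological
function. -/
theorem result (k : Type u) [Field k] [IsAlgClosed k] [CharZero k] (X : Scheme.{u})
    [X.Over (Spec (CommRingCat.of k))] [AlgebraicGeometry.IsIntegral X]
    [IsProper (X ↘ Spec (CommRingCat.of k))] (hproj : ∃ A : X.Modules, CohB1.IsAmple A)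
    (n : ℕ) (hn : topologicalKrullDim X = n)
    (L : X.Modules) (hL : PicF.IsInvertible L) (a : ℕ) (ha : 1 ≤ a) (i : ℕ) :
    W4c5asymptcohfn.hhat k X n i (CohB1.tensorPow L a) = (a : ℝ) ^ n * W4c5asymptcohfn.hhat k X n i L := by
  let F := Groth.Agent.AsympCoh.powFam hL
  have hO : Coh.IsCoh (Coh.structureModule X) :=
    haveI := Groth.Agent.CurveDeg.isNoetherian_of_proper (X := X) k
    isCoh_of_isInvertible (Groth.Agent.HilbPoly.isInvertible_structureModule X)
  have ex : ∀ m, Nonempty (CohB1.tensorPow L m ≅ CohB1.tensorMod (Coh.structureModule X) (F.T fun _ => m)) := fun m => by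
    obtain ⟨c⟩ := Groth.Agent.ProjTwist.nonempty_tensorMod_comm (Coh.structureModule X) (F.T fun _ => m)
    exact ⟨(SecTwist.unitorR _).symm ≪≫ c.symm⟩
  have ea : ∀ m, Nonempty (CohB1.tensorPow (CohB1.tensorPow L a) m ≅
      CohB1.tensorMod (Coh.structureModule X) (F.T fun _ => a * m)) := fun m => by
    obtain ⟨e⟩ := Groth.Agent.InvPow.nonempty_pow_mul_iso hL a m
    exact ⟨e ≪≫ (ex (a * m)).some⟩
  obtain ⟨C, hC, hlip⟩ := Groth.Agent.AsympCoh.exists_abs_sub_le k F hn.le i
  let u := Groth.Agent.AsympCoh.seq k n i fun m => CohB1.tensorPow L m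
  let v := Groth.Agent.AsympCoh.seq k n i fun m => CohB1.tensorPow (CohB1.tensorPow L a) m
  let w : ℕ → ℝ := fun m => v (m / a) / (a : ℝ) ^ n
  obtain ⟨Bu, hBu⟩ := Groth.Agent.AsympCoh.eventually_abs_le k F hO (Groth.Agent.AsympCoh.support_dim_le hn _) i ex
    zero_le_one (fun m => by
      show (Groth.Agent.AsympCoh.size (fun _ : Unit => m) : ℝ) ≤ 1 * m
      simp [Groth.Agent.AsympCoh.size])
  obtain ⟨Bv, hBv⟩ := Groth.Agent.AsympCoh.eventually_abs_le k F hO (Groth.Agent.AsympCoh.support_dim_le hn _) i ea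
    (Nat.cast_nonneg a) (fun m => by
      show (Groth.Agent.AsympCoh.size (fun _ : Unit => a * m) : ℝ) ≤ (a : ℝ) * m
      simp [Groth.Agent.AsympCoh.size])
  have ha0 : (0 : ℝ) < (a : ℝ) ^ n := by positivity
  have hdiv : Filter.Tendsto (fun m : ℕ => m / a) Filter.atTop Filter.atTop := Nat.tendsto_div_const_atTop (by omega)
  have hBw : ∀ᶠ m in Filter.atTop, |w m| ≤ Bv / (a : ℝ) ^ n := (hdiv.eventually hBv).mono fun m h => by
    show |v (m / a) / (a : ℝ) ^ n| ≤ _
    rw [abs_div, abs_of_pos ha0]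
    exact div_le_div_of_nonneg_right h ha0.le
  have hvb : Filter.IsBoundedUnder (· ≤ ·) Filter.atTop v :=
    Filter.isBoundedUnder_of_eventually_le (hBv.mono fun m h => (abs_le.mp h).2)
  have hvc : Filter.IsCoboundedUnder (· ≤ ·) Filter.atTop v :=
    (Filter.isBoundedUnder_of_eventually_ge (a := (0 : ℝ))
      (Filter.Eventually.of_forall fun m => Groth.Agent.AsympCoh.seq_nonneg k n i _ m)).isCoboundedUnder_le
  have hw : Filter.limsup w Filter.atTop = Filter.limsup v Filter.atTop / (a : ℝ) ^ n := by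
    have h1 : Filter.limsup w Filter.atTop = Filter.limsup (fun q => v q / (a : ℝ) ^ n) Filter.atTop := by
      show Filter.limsup ((fun q => v q / (a : ℝ) ^ n) ∘ fun m => m / a) Filter.atTop = _
      rw [Filter.limsup, ← Filter.map_map, Filter.map_div_atTop_eq_nat a (by omega)]
      rfl
    rw [h1]
    exact (Monotone.map_limsup_of_continuousAt (f := fun z : ℝ => z / (a : ℝ) ^ n)
      (fun z z' h => div_le_div_of_nonneg_right h ha0.le) v (by fun_prop) hvb hvc).symm
  suffices h : Filter.limsup u Filter.atTop = Filter.limsup w Filter.atTop by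
    show Filter.limsup v Filter.atTop = (a : ℝ) ^ n * Filter.limsup u Filter.atTop
    rw [h, hw, mul_div_cancel₀ _ ha0.ne']
  refine Groth.Agent.AsympCoh.limsup_eq_of_tendsto_sub (B := max Bu (Bv / (a : ℝ) ^ n))
    (hBu.mono fun m h => h.trans (le_max_left _ _)) (hBw.mono fun m h => h.trans (le_max_right _ _)) ?_
  have hratio : Filter.Tendsto (fun m : ℕ => ((a * (m / a) : ℕ) : ℝ) / (m : ℝ)) Filter.atTop (nhds 1) := by
    have h1 : Filter.Tendsto (fun m : ℕ => (1 : ℝ) - (a : ℝ) / (m : ℝ)) Filter.atTop (nhds 1) := by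
      simpa using tendsto_const_nhds.sub (tendsto_const_div_atTop_nhds_zero_nat (a : ℝ))
    refine tendsto_of_tendsto_of_tendsto_of_le_of_le' h1 tendsto_const_nhds
      (Filter.eventually_atTop.mpr ⟨1, fun m hm => ?_⟩) (Filter.eventually_atTop.mpr ⟨1, fun m hm => ?_⟩)
    · have hm' : (0 : ℝ) < m := by exact_mod_cast hm
      rw [one_sub_div hm'.ne', div_le_div_iff_of_pos_right hm']
      have hlt : m < a * (m / a) + a := by
        have := Nat.div_add_mod m a
        have := Nat.mod_lt m (show a > 0 by omega)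
        omega
      have : (m : ℝ) ≤ ((a * (m / a) : ℕ) : ℝ) + a := by exact_mod_cast hlt.le
      linarith
    · have hm' : (0 : ℝ) < m := by exact_mod_cast hm
      rw [div_le_one hm']
      exact_mod_cast Nat.mul_div_le m a
  have hz : Filter.Tendsto (fun m : ℕ => |(((a * (m / a) : ℕ) : ℝ) / (m : ℝ)) ^ n - 1|) Filter.atTop (nhds 0) := by
    simpa using ((hratio.pow n).sub_const 1).abs
  refine squeeze_zero_norm' (a := fun m : ℕ => C * a * 2 ^ n * Groth.Agent.AsympCoh.bnd n m * (n.factorial : ℝ) / (m : ℝ) ^ n +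
      (Bv / (a : ℝ) ^ n) * |(((a * (m / a) : ℕ) : ℝ) / (m : ℝ)) ^ n - 1|) ?_ ?_
  · filter_upwards [hBw, Filter.eventually_ge_atTop a] with m hwm hm
    have hq : 1 ≤ m / a := Nat.div_pos hm (by omega)
    have hqa : a * (m / a) ≤ m := Nat.mul_div_le m a
    have hm0 : 1 ≤ m := le_trans ha hm
    have hm' : (0 : ℝ) < m := by exact_mod_cast hm0
    have hq' : (0 : ℝ) < ((m / a : ℕ) : ℝ) := by exact_mod_cast hq
    show ‖u m - w m‖ ≤ _
    rw [Real.norm_eq_abs, show u m - w m = (u m - w m * (((a * (m / a) : ℕ) : ℝ) / (m : ℝ)) ^ n) +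
      w m * ((((a * (m / a) : ℕ) : ℝ) / (m : ℝ)) ^ n - 1) by ring]
    refine (abs_add_le _ _).trans (add_le_add ?_ ?_)
    · simp only [u, v, w, Groth.Agent.AsympCoh.seq]
      rw [Groth.Agent.AsympCoh.finrank_eq_hT k F _ (ex m).some i,
        Groth.Agent.AsympCoh.finrank_eq_hT k F _ (ea (m / a)).some i]
      set hm₁ := Groth.Agent.AsympCoh.hT k F (Coh.structureModule X) i fun _ => m
      set hm₂ := Groth.Agent.AsympCoh.hT k F (Coh.structureModule X) i fun _ => a * (m / a)
      have e : hm₁ * (n.factorial : ℝ) / (m : ℝ) ^ n -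
          hm₂ * (n.factorial : ℝ) / ((m / a : ℕ) : ℝ) ^ n / (a : ℝ) ^ n * (((a * (m / a) : ℕ) : ℝ) / (m : ℝ)) ^ n =
          (hm₁ - hm₂) * (n.factorial : ℝ) / (m : ℝ) ^ n := by
        push_cast
        rw [div_pow, mul_pow]
        field_simp
      rw [e, abs_div, abs_mul, Nat.abs_cast, abs_of_nonneg (show (0 : ℝ) ≤ (m : ℝ) ^ n by positivity)]
      refine div_le_div_of_nonneg_right (mul_le_mul_of_nonneg_right ?_ (Nat.cast_nonneg _)) (by positivity)
      have h := hlip (fun _ => m) (fun _ => a * (m / a))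
      have e1 : (∑ j : F.ι, (max ((fun _ => m) j) ((fun _ => a * (m / a)) j) -
          min ((fun _ => m) j) ((fun _ => a * (m / a)) j))) = m - a * (m / a) := by
        show (∑ _j : Unit, (max m (a * (m / a)) - min m (a * (m / a)))) = _
        simp [max_eq_left hqa, min_eq_right hqa]
      have e2 : ∀ z : ℕ, Groth.Agent.AsympCoh.size (fun _ : F.ι => z) = z := fun z => by
        show Groth.Agent.AsympCoh.size (fun _ : Unit => z) = z
        simp [Groth.Agent.AsympCoh.size]
      rw [e1, e2, e2] at h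
      refine h.trans ?_
      have hsub : ((m - a * (m / a) : ℕ) : ℝ) ≤ a := by
        have := Nat.div_add_mod m a
        have := Nat.mod_lt m (show a > 0 by omega)
        exact_mod_cast (show m - a * (m / a) ≤ a by omega)
      have hb : Groth.Agent.AsympCoh.bnd n (m + a * (m / a)) ≤ 2 ^ n * Groth.Agent.AsympCoh.bnd n m := by
        cases n with
        | zero => simp [Groth.Agent.AsympCoh.bnd]
        | succ d =>
          simp only [Groth.Agent.AsympCoh.bnd]
          calc (1 + ((m + a * (m / a) : ℕ) : ℝ)) ^ d ≤ (2 * (1 + (m : ℝ))) ^ d := by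
                refine pow_le_pow_left₀ (by positivity) ?_ d
                have : ((a * (m / a) : ℕ) : ℝ) ≤ m := by exact_mod_cast hqa
                push_cast at this ⊢
                linarith
            _ = 2 ^ d * (1 + (m : ℝ)) ^ d := mul_pow _ _ _
            _ ≤ 2 ^ (d + 1) * (1 + (m : ℝ)) ^ d :=
                mul_le_mul_of_nonneg_right (pow_le_pow_right₀ one_le_two d.le_succ) (by positivity)
      calc C * ((m - a * (m / a) : ℕ) : ℝ) * Groth.Agent.AsympCoh.bnd n (m + a * (m / a))
          ≤ C * a * (2 ^ n * Groth.Agent.AsympCoh.bnd n m) :=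
            mul_le_mul (mul_le_mul_of_nonneg_left hsub hC) hb (Groth.Agent.AsympCoh.bnd_nonneg _ _) (by positivity)
        _ = _ := by ring
    · rw [abs_mul]
      exact mul_le_mul_of_nonneg_right hwm (abs_nonneg _)
  · simpa using (Groth.Agent.AsympCoh.tendsto_bnd_div n (C * a * 2 ^ n)).add (hz.const_mul (Bv / (a : ℝ) ^ n))
end Groth.Agent.S17621
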