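import Groth.Statements.S17626
import Groth.Agent.S17621
import Groth.Agent.IntTh.Big
import Groth.Agent.HilbPoly.DimVanish

set_option autoImplicit false
set_option backward.isDefEq.respectTransparency false
set_option linter.style.haveILetI false
set_option backward.isDefEq.respectTransparency false
universe u
open CategoryTheory CategoryTheory.Limits AlgebraicGeometry
open Variety
open Groth.Agent Groth.Agent.InvBasic Groth.Agent.ProjUniv Groth.Agent.InvPow Groth.Agent.QCohLib Groth.Agent.HilbPoly Groth.Agent.CurveDeg Groth.Agent.CohFinite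

namespace Groth.Agent.S17626

/-- Let X be an integral scheme, proper over an algebraically closed field k of characteristic zero and
admitting an ample invertible module, of dimension n ≥ 1 (stated in the source over the complex
numbers), and L an invertible O_X-module which is big, in the sense that its volume ĥ^0(X, L) =
limsup_m dim_k H^0(X, L^{⊗m}) · n!/m^n is positive. Then ĥ^n(X, L) = 0. (The published statement
allows n = 0, where it fails: X is then a point, every L is big and ĥ^0(X, L) = 1; the printed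
argument uses that L and its inverse cannot both be big, which needs n ≥ 1.) -/
theorem result (k : Type u) [Field k] [IsAlgClosed k] [CharZero k] (X : Scheme.{u})
    [X.Over (Spec (CommRingCat.of k))] [AlgebraicGeometry.IsIntegral X]
    [IsProper (X ↘ Spec (CommRingCat.of k))] (hproj : ∃ A : X.Modules, CohB1.IsAmple A)
    (n : ℕ) (hn : topologicalKrullDim X = n) (hn1 : 1 ≤ n)
    (L : X.Modules) (hL : PicF.IsInvertible L) (hbig : 0 < W4c5asymptcohfn.hhat k X n 0 L) :
    W4c5asymptcohfn.hhat k X n n L = 0 := by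
  haveI := Groth.Agent.CurveDeg.isNoetherian_of_proper (X := X) k
  obtain ⟨H, hH⟩ := hproj
  obtain ⟨e, he, τ, hτs, -, -⟩ := exists_locus_finite hH {genericPoint X} (Set.finite_singleton _) ⊤
    (fun _ _ => trivial)
  let A := CohB1.tensorPow H e
  have hA : CohB1.IsAmple A := InvPow.isAmple_pow hH he
  have hτ0 : τ ≠ 0 := Groth.Agent.IntTh.ne_zero_of_mem_genOpen hA.1 (hτs rfl)
  obtain ⟨A', hAA'⟩ := NegVanish.exists_inverse hA.1
  have hA'i := NegVanish.isInvertible_of_inverse hA.1 hAA'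
  have hA'1 := isInvertible_tensorPow hA'i 1
  have hO : Coh.IsCoh (Coh.structureModule X) :=
    isCoh_of_isInvertible (HilbPoly.isInvertible_structureModule X)
  haveI : Mono (mulSection (Coh.structureModule X) τ) := mono_mulSection_invertible
    (HilbPoly.isInvertible_structureModule X) hA.1 τ (genOpen_nonempty_of_ne_zero hA.1 hτ0)
  have hQ : Coh.IsCoh (cokernel (mulSection (Coh.structureModule X) τ)) :=
    QCohLib.isCoh_cokernel _ hO.1 (isCoh_tensorMod hO hA.1)
  let F := AsympCoh.powFam hL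
  let Q₁ := CohB1.tensorMod (cokernel (mulSection (Coh.structureModule X) τ)) (CohB1.tensorPow A' 1)
  have hQ₁ : Coh.IsCoh Q₁ := isCoh_tensorMod hQ hA'1
  have hQd : topologicalKrullDim (CohB1.support Q₁) < (n : WithBot ℕ∞) := by
    rw [HilbPoly.support_tensorMod _ hA'1]
    obtain ⟨n', rfl⟩ : ∃ n', n = n' + 1 := ⟨n - 1, by omega⟩
    exact (Groth.Agent.IntTh.dim_le_of_disjoint hn.le (QCohLib.isClosed_support hQ.2)
      (genOpen_nonempty_of_ne_zero hA.1 hτ0) (disjoint_support_cokernel_mulSection _ hA.1 τ)).trans_lt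
      (by exact_mod_cast Nat.lt_succ_self n')
  obtain ⟨C, hC, hbd⟩ := AsympCoh.bounded_of_dim_lt k F n Q₁ hQ₁ hQd 0
  -- a section of some L^ν ⊗ A'
  obtain ⟨ν, hν, σ, hσ⟩ : ∃ ν, 0 < ν ∧ ∃ σ : Γ(CohB1.tensorMod (CohB1.tensorPow L ν) (CohB1.tensorPow A' 1), ⊤),
      σ ≠ 0 := by
    by_contra hno
    push Not at hno
    have hle : ∀ m, 0 < m → AsympCoh.seq k n 0 (fun m => CohB1.tensorPow L m) m ≤
        C * AsympCoh.bnd n m * (n.factorial : ℝ) / (m : ℝ) ^ n := fun m hm => by
      refine div_le_div_of_nonneg_right (mul_le_mul_of_nonneg_right ?_ (Nat.cast_nonneg _)) (by positivity)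
      have hM := isInvertible_tensorPow hL m
      have h0 : hdim k X (CohB1.tensorMod (CohB1.tensorPow L m) (CohB1.tensorPow A' 1)) 0 ≤ 0 := by
        by_contra hc
        obtain ⟨s, hs⟩ := Groth.Agent.IntTh.exists_section_of_hdim_pos k
          (isCoh_of_isInvertible (isInvertible_tensorMod hM hA'1)) (not_le.mp hc)
        exact hs (hno m hm s)
      have hcut := Groth.Agent.IntTh.hdim_cut k hA.1 hAA' τ hτ0 hM 0
      rw [hdim_congr k (show CohB1.tensorMod (CohB1.tensorPow L m) (CohB1.tensorPow A' 0) ≅ _ from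
        SecTwist.unitorR (CohB1.tensorPow L m)) 0, zero_add] at hcut
      obtain ⟨c⟩ := ProjTwist.nonempty_tensorMod_comm (CohB1.tensorPow L m) (CohB1.tensorPow A' 1)
      obtain ⟨d⟩ := ProjTwist.nonempty_tensorMod_iso (Iso.refl (cokernel (mulSection (Coh.structureModule X) τ))) c
      obtain ⟨s⟩ := nonempty_assoc (cokernel (mulSection (Coh.structureModule X) τ)) hA'1 hM
      rw [hdim_congr k (d ≪≫ s) 0] at hcut
      have h2 : (hdim k X (CohB1.tensorPow L m) 0 : ℝ) ≤ (hdim k X (CohB1.tensorMod Q₁ (CohB1.tensorPow L m)) 0 : ℝ) :=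
        Int.cast_le.mpr (hcut.trans (by linarith))
      have h3 := hbd fun _ => m
      rw [show AsympCoh.size (fun _ : F.ι => m) = m from (by
        show AsympCoh.size (fun _ : Unit => m) = m
        simp [AsympCoh.size])] at h3
      exact (le_of_eq (Int.cast_natCast _).symm).trans (h2.trans h3)
    have ht : Filter.Tendsto (AsympCoh.seq k n 0 fun m => CohB1.tensorPow L m) Filter.atTop (nhds 0) :=
      squeeze_zero' (Filter.Eventually.of_forall fun m => AsympCoh.seq_nonneg k n 0 _ m)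
        (Filter.eventually_atTop.mpr ⟨1, hle⟩) (AsympCoh.tendsto_bnd_div n C)
    rw [AsympCoh.hhat_eq, ht.limsup_eq] at hbig
    exact lt_irrefl _ hbig
  let M := CohB1.tensorMod (CohB1.tensorPow L ν) (CohB1.tensorPow A' 1)
  have hLν := isInvertible_tensorPow hL ν
  have hM : PicF.IsInvertible M := isInvertible_tensorMod hLν hA'1
  obtain ⟨p1⟩ := nonempty_pow_one_iso hM
  let σ₁ : Γ(CohB1.tensorPow M 1, ⊤) := p1.inv.app ⊤ σ
  have hσ₁ : σ₁ ≠ 0 := fun h => hσ (by
    have e : p1.hom.app ⊤ (p1.inv.app ⊤ σ) = σ := by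
      change (p1.inv ≫ p1.hom).app ⊤ σ = σ
      rw [Iso.inv_hom_id]
      rfl
    rw [← e]
    show p1.hom.app ⊤ σ₁ = 0
    rw [h]
    exact map_zero _)
  -- M ⊗ A ≅ L^ν
  obtain ⟨eM⟩ : Nonempty (CohB1.tensorMod M A ≅ CohB1.tensorPow L ν) := by
    obtain ⟨a⟩ := nonempty_assoc (CohB1.tensorPow L ν) hA'1 hA.1
    obtain ⟨o⟩ := nonempty_pow_one_iso hA'i
    obtain ⟨c⟩ := ProjTwist.nonempty_tensorMod_comm A' A
    obtain ⟨w⟩ := ProjTwist.nonempty_tensorMod_iso o (Iso.refl A)
    obtain ⟨d⟩ := ProjTwist.nonempty_tensorMod_iso (Iso.refl (CohB1.tensorPow L ν)) (w ≪≫ c ≪≫ hAA'.some)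
    exact ⟨a.symm ≪≫ d ≪≫ SecTwist.unitorR _⟩
  obtain ⟨q₀, hq₀⟩ := exists_vanishing_ample (X ↘ Spec (CommRingCat.of k)) hA _ hO
  have hvan : ∀ q, q₀ + 1 ≤ q → hdim k X (CohB1.tensorPow (CohB1.tensorPow L ν) q) n ≤ 0 := by
    intro q hq
    have hMq := isInvertible_tensorPow hM (1 * q)
    have hAq := isInvertible_tensorPow hA.1 q
    let s := spow hM σ₁ q
    have hs : (genOpen hMq s : Set X).Nonempty := by
      rw [genOpen_spow hM σ₁ (show 0 < q by omega)]
      exact genOpen_nonempty_of_ne_zero (isInvertible_tensorPow hM 1) hσ₁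
    haveI : Mono (mulSection (CohB1.tensorPow A q) s) := mono_mulSection_invertible hAq hMq s hs
    have hAc := isCoh_of_isInvertible hAq
    have hAMc := isCoh_tensorMod hAc hMq
    have hC' : Coh.IsCoh (cokernel (mulSection (CohB1.tensorPow A q) s)) := QCohLib.isCoh_cokernel _ hAc.1 hAMc
    obtain ⟨n', rfl⟩ : ∃ n', n = n' + 1 := ⟨n - 1, by omega⟩
    have hCd : topologicalKrullDim (CohB1.support (cokernel (mulSection (CohB1.tensorPow A q) s))) ≤
        (n' : WithBot ℕ∞) :=
      Groth.Agent.IntTh.dim_le_of_disjoint hn.le (QCohLib.isClosed_support hC'.2) hs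
        (disjoint_support_cokernel_mulSection _ hMq s)
    obtain ⟨h1, -, -⟩ := AsympCoh.hdim_exact k
      (CohFinite.shortExact_cokernel (mulSection (CohB1.tensorPow A q) s)) hAc hAMc hC' (n' + 1)
    have hz1 : hdim k X (CohB1.tensorPow A q) (n' + 1) = 0 := by
      obtain ⟨c⟩ := ProjTwist.nonempty_tensorMod_comm (Coh.structureModule X) (CohB1.tensorPow A q)
      rw [← hdim_congr k (c ≪≫ SecTwist.unitorR _) (n' + 1)]
      exact hdim_eq_zero (hq₀ q (by omega) (n' + 1) (Nat.succ_pos n'))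
    have hz3 : hdim k X (cokernel (mulSection (CohB1.tensorPow A q) s)) (n' + 1) = 0 :=
      hdim_eq_zero (subsingleton_HH_of_dim k hC' hCd (Nat.lt_succ_self n'))
    change hdim k X (CohB1.tensorMod (CohB1.tensorPow A q) (CohB1.tensorPow M (1 * q))) (n' + 1) ≤
      hdim k X (CohB1.tensorPow A q) (n' + 1) + hdim k X (cokernel (mulSection (CohB1.tensorPow A q) s)) (n' + 1) at h1
    obtain ⟨t⟩ := nonempty_tensor_pow_iso hM hA.1 q
    obtain ⟨g⟩ := HilbPoly.nonempty_tensorPow_congr eM q
    obtain ⟨c⟩ := ProjTwist.nonempty_tensorMod_comm (CohB1.tensorPow A q) (CohB1.tensorPow M (1 * q))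
    rw [hdim_congr k (c ≪≫ eqToIso (by rw [one_mul]) ≪≫ t.symm ≪≫ g) (n' + 1)] at h1
    linarith
  have hzero : W4c5asymptcohfn.hhat k X n n (CohB1.tensorPow L ν) = 0 := by
    rw [AsympCoh.hhat_eq]
    refine (Filter.Tendsto.congr' ?_ tendsto_const_nhds).limsup_eq
    refine Filter.eventually_atTop.mpr ⟨q₀ + 1, fun q hq => ?_⟩
    have h1 : (Module.finrank k (Coh.HH X (CohB1.tensorPow (CohB1.tensorPow L ν) q) n) : ℤ) ≤ 0 := hvan q hq
    have h2 : Module.finrank k (Coh.HH X (CohB1.tensorPow (CohB1.tensorPow L ν) q) n) = 0 := by omega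
    simp [AsympCoh.seq, h2]
  rw [Groth.Agent.S17621.result k X ⟨H, hH⟩ n hn L hL ν hν n] at hzero
  exact (mul_eq_zero.mp hzero).resolve_left (by positivity)
end Groth.Agent.S17626
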