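import Groth.Statements.S1763
import Groth.Agent.LocCohLib.FiniteAnn
import Groth.Agent.S11499

set_option autoImplicit false
universe u
open LocCoh

namespace Groth.Agent.S1763

open CategoryTheory CategoryTheory.Limits

variable {A : Type u} [CommRing A] [IsNoetherianRing A]

lemma finite_mid {X Y Z : Type u} [AddCommGroup X] [Module A X] [AddCommGroup Y] [Module A Y]
    [AddCommGroup Z] [Module A Z] (u : X →ₗ[A] Y) (v : Y →ₗ[A] Z) (hX : Module.Finite A X) (hZ : Module.Finite A Z)
    (h : ∀ y, v y = 0 → ∃ x, u x = y) (h' : ∀ x, v (u x) = 0) : Module.Finite A Y := by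
  haveI := isNoetherian_of_isNoetherianRing_of_finite A X
  haveI := isNoetherian_of_isNoetherianRing_of_finite A Z
  haveI := isNoetherian_of_range_eq_ker u v (le_antisymm (by rintro _ ⟨x, rfl⟩; exact h' x) fun y hy => h y hy)
  exact Module.IsNoetherian.finite A Y

/-- Submodules inherit finiteness of the first local cohomology. -/
lemma finite_of_injective (I : Ideal A) {P N : Type u} [AddCommGroup P] [Module A P] [AddCommGroup N] [Module A N]
    [Module.Finite A N] (f : P →ₗ[A] N) (hf : Function.Injective f) (h : Module.Finite A (LocCoh.H I 1 N)) :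
    Module.Finite A (LocCoh.H I 1 P) := by
  let S : ShortComplex (ModuleCat.{u} A) := ShortComplex.mk (ModuleCat.ofHom f) (ModuleCat.ofHom (LinearMap.range f).mkQ)
    (by ext x; exact (Submodule.Quotient.mk_eq_zero _).2 ⟨x, rfl⟩)
  have hS : S.ShortExact :=
    { exact := (ShortComplex.ShortExact.moduleCat_exact_iff_function_exact S).2
        (LinearMap.exact_map_mkQ_range f)
      mono_f := (ModuleCat.mono_iff_injective _).2 hf
      epi_g := (ModuleCat.epi_iff_surjective _).2 (Submodule.mkQ_surjective _) }
  haveI : Module.Finite A S.X₃ := Module.Finite.quotient A (LinearMap.range f)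
  exact finite_mid (LocCohLib.δ hS I 0) ((localCohomology I 1).map S.f).hom (LocCohLib.finite_H_zero I S.X₃) h
    (fun y hy => LocCohLib.exact₁ hS y hy) (fun x => LocCohLib.map_δ_eq_zero hS x)

/-- Extensions. -/
lemma finite_of_ext (I : Ideal A) {N : Type u} [AddCommGroup N] [Module A N] (K : Submodule A N)
    (h1 : Module.Finite A (LocCoh.H I 1 K)) (h3 : Module.Finite A (LocCoh.H I 1 (N ⧸ K))) :
    Module.Finite A (LocCoh.H I 1 N) := by
  let S : ShortComplex (ModuleCat.{u} A) := ShortComplex.mk (ModuleCat.ofHom K.subtype) (ModuleCat.ofHom K.mkQ)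
    (by ext x; exact (Submodule.Quotient.mk_eq_zero _).2 x.2)
  have hS : S.ShortExact :=
    { exact := (ShortComplex.ShortExact.moduleCat_exact_iff_function_exact S).2
        (LinearMap.exact_subtype_mkQ K)
      mono_f := (ModuleCat.mono_iff_injective _).2 K.injective_subtype
      epi_g := (ModuleCat.epi_iff_surjective _).2 (Submodule.mkQ_surjective _) }
  exact finite_mid ((localCohomology I 1).map S.f).hom ((localCohomology I 1).map S.g).hom h1 h3
    (fun y hy => LocCohLib.exact₂ hS y hy) (fun x => LocCohLib.map_map_eq_zero x)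

/-- Finite powers. -/
lemma finite_pi (I : Ideal A) {N : Type u} [AddCommGroup N] [Module A N] (h : Module.Finite A (LocCoh.H I 1 N)) :
    ∀ r : ℕ, Module.Finite A (LocCoh.H I 1 (Fin r → N))
  | 0 => by
    haveI : Subsingleton (LocCoh.H I 1 (Fin 0 → N)) := LocCohLib.subsingleton_of_isPowerTorsion 0
      (ModuleCat.of A (Fin 0 → N)) fun x => ⟨0, fun a _ => Subsingleton.elim _ _⟩
    exact Module.Finite.of_surjective (0 : A →ₗ[A] _) fun y => ⟨0, Subsingleton.elim _ _⟩
  | r + 1 => by
    have hr := finite_pi I h r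
    let p : (Fin (r + 1) → N) →ₗ[A] N := LinearMap.proj 0
    let t : (Fin (r + 1) → N) →ₗ[A] (Fin r → N) := LinearMap.funLeft A N Fin.succ
    let ek : LinearMap.ker p ≃ₗ[A] (Fin r → N) := LinearEquiv.ofBijective (t ∘ₗ (LinearMap.ker p).subtype)
      ⟨fun a b e => Subtype.ext (funext fun i => Fin.cases (a.2.trans b.2.symm) (congrFun e) i),
        fun c => ⟨⟨Fin.cons 0 c, LinearMap.mem_ker.2 (Fin.cons_zero (α := fun _ : Fin (r + 1) => N) 0 c)⟩, funext fun i => Fin.cons_succ (α := fun _ : Fin (r + 1) => N) 0 c i⟩⟩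
    let eq : ((Fin (r + 1) → N) ⧸ LinearMap.ker p) ≃ₗ[A] N :=
      p.quotKerEquivOfSurjective fun x => ⟨fun _ => x, rfl⟩
    exact finite_of_ext I (LinearMap.ker p)
      (Module.Finite.equiv (((localCohomology I 1).mapIso ek.toModuleIso).toLinearEquiv).symm)
      (Module.Finite.equiv (((localCohomology I 1).mapIso eq.toModuleIso).toLinearEquiv).symm)

/-- The criterion, by associated primes. -/
theorem finite_of_assoc (I : Ideal A) (M : Type u) [AddCommGroup M] [Module A M] [Module.Finite A M]
    (S : Set (Ideal A)) (hS : ∀ p ∈ S, Module.Finite A (LocCoh.H I 1 (A ⧸ p))) (hM : associatedPrimes A M ⊆ S) :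
    Module.Finite A (LocCoh.H I 1 M) := by
  suffices h : ∀ K : Submodule A M, associatedPrimes A (M ⧸ K) ⊆ S → Module.Finite A (LocCoh.H I 1 (M ⧸ K)) by
    have e := Submodule.quotEquivOfEqBot (⊥ : Submodule A M) rfl
    haveI := h ⊥ ((LinearEquiv.AssociatedPrimes.eq e).le.trans hM)
    exact Module.Finite.equiv ((localCohomology I 1).mapIso e.toModuleIso).toLinearEquiv
  intro K
  induction K using WellFoundedGT.induction with
  | ind K ih =>
    intro hK
    rcases subsingleton_or_nontrivial (M ⧸ K) with hsub | hnt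
    · haveI : Subsingleton (LocCoh.H I 1 (M ⧸ K)) := LocCohLib.subsingleton_of_isPowerTorsion 0
        (ModuleCat.of A (M ⧸ K)) fun x => ⟨0, fun a _ => hsub.elim _ _⟩
      exact Module.Finite.of_surjective (0 : A →ₗ[A] _) fun y => ⟨0, Subsingleton.elim _ _⟩
    obtain ⟨p, hp, hmax⟩ := (associatedPrimes.finite A (M ⧸ K)).exists_maximal (associatedPrimes.nonempty A (M ⧸ K))
    haveI : p.IsPrime := IsAssociatedPrime.isPrime hp
    let T : Submodule A (M ⧸ K) := Submodule.torsionBySet A (M ⧸ K) (p : Set A)
    have hT : ∀ (a : A), a ∉ p → ∀ x : T, a • x = 0 → x = 0 := fun a ha x hx => by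
      by_contra hx0
      obtain ⟨q, hq, hle⟩ := exists_le_isAssociatedPrime_of_isNoetherianRing A (x : M ⧸ K)
        fun e => hx0 (Subtype.ext e)
      have hann : ∀ b : A, b • (x : M ⧸ K) = 0 → b ∈ q := fun b hb => hle (Submodule.mem_colon_singleton.2
        ((Submodule.mem_bot A).2 hb))
      have hpq : p ≤ q := fun b hb => hann b ((Submodule.mem_torsionBySet_iff _ _).1 x.2 ⟨b, hb⟩)
      exact ha (hmax hq hpq (hann a (congrArg Subtype.val hx)))
    haveI : Module.Finite A T := Module.Finite.iff_fg.2 (IsNoetherian.noetherian _)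
    have htor : Module.IsTorsionBySet A T (p : Set A) := Submodule.torsionBySet_isTorsionBySet _
    letI : Module (A ⧸ p) T := htor.module
    haveI : IsScalarTower A (A ⧸ p) T := htor.isScalarTower
    haveI : Module.Finite (A ⧸ p) T := Module.Finite.of_restrictScalars_finite A _ _
    haveI : NoZeroSMulDivisors (A ⧸ p) T := ⟨fun {a x} hx => by
      obtain ⟨a, rfl⟩ := Ideal.Quotient.mk_surjective a
      by_cases ha : a ∈ p
      · exact Or.inl (Ideal.Quotient.eq_zero_iff_mem.2 ha)
      · exact Or.inr (hT a ha x ((htor.mk_smul a x).symm.trans hx))⟩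
    obtain ⟨f, hf⟩ := S11499.result (A ⧸ p) T _ rfl
    have h1 := finite_of_injective I (f.restrictScalars A) hf (finite_pi I (hS p (hK hp)) _)
    have hlt : K < T.comap K.mkQ := by
      refine lt_of_le_of_ne (fun x hx => ?_) fun e => ?_
      · rw [Submodule.mem_comap, Submodule.mkQ_apply, (Submodule.Quotient.mk_eq_zero K).2 hx]
        exact zero_mem _
      · obtain ⟨-, g, hg⟩ := (isAssociatedPrime_iff_exists_injective_linearMap p (M ⧸ K)).1 hp
        obtain ⟨y, hy⟩ := K.mkQ_surjective (g (Ideal.Quotient.mk p 1))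
        have hyT : y ∈ T.comap K.mkQ := (Submodule.mem_torsionBySet_iff _ _).2 fun b => by
          rw [hy, ← map_smul, show (b : A) • Ideal.Quotient.mk p 1 = 0 from
            (Algebra.smul_def (b : A) (Ideal.Quotient.mk p 1)).trans ?_, map_zero]
          rw [map_one, mul_one]
          exact Ideal.Quotient.eq_zero_iff_mem.2 b.2
        rw [← e] at hyT
        have h0 : g (Ideal.Quotient.mk p 1) = 0 := hy.symm.trans ((Submodule.Quotient.mk_eq_zero K).2 hyT)
        exact ‹p.IsPrime›.ne_top ((Ideal.eq_top_iff_one p).2 (Ideal.Quotient.eq_zero_iff_mem.1 (hg (h0.trans (map_zero g).symm))))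
    let e : ((M ⧸ K) ⧸ T) ≃ₗ[A] M ⧸ T.comap K.mkQ :=
      ((LinearMap.quotKerEquivOfSurjective (T.mkQ ∘ₗ K.mkQ) ((T.mkQ_surjective).comp K.mkQ_surjective)).symm).trans
        (Submodule.quotEquivOfEq _ _ (by rw [LinearMap.ker_comp, Submodule.ker_mkQ]))
    have hsub : associatedPrimes A (M ⧸ T.comap K.mkQ) ⊆ S := by
      rw [← LinearEquiv.AssociatedPrimes.eq e]
      obtain ⟨s, hs⟩ := (IsNoetherian.noetherian p : p.FG)
      let φ : (M ⧸ K) →ₗ[A] (s → M ⧸ K) := LinearMap.pi fun a => LinearMap.lsmul A (M ⧸ K) (a : A)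
      have hker : LinearMap.ker φ = T := by
        ext x
        rw [LinearMap.mem_ker, Submodule.mem_torsionBySet_iff]
        refine ⟨fun hx b => ?_, fun hx => funext fun a => hx ⟨a.1, hs ▸ Ideal.subset_span a.2⟩⟩
        obtain ⟨b, hb⟩ := b
        change b • x = 0
        rw [SetLike.mem_coe, ← hs] at hb
        induction hb using Submodule.span_induction with
        | mem c hc => exact congrFun hx ⟨c, hc⟩
        | zero => exact zero_smul _ _
        | add c d _ _ hc hd => rw [add_smul, hc, hd, add_zero]
        | smul c d _ hd => rw [smul_assoc, hd, smul_zero]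
      intro q hq
      have h2 := associatedPrimes.subset_of_injective (f := T.liftQ φ hker.ge)
        (LinearMap.ker_eq_bot.1 (Submodule.ker_liftQ_eq_bot _ _ _ hker.le)) hq
      obtain ⟨hqp, x, hx⟩ := (isAssociatedPrime_iff (I := q)).1 h2
      haveI := hqp
      have hle : ∏ i : s, Submodule.colon (⊥ : Submodule A (M ⧸ K)) {x i} ≤ q := fun a ha => by
        rw [hx, Submodule.mem_colon_singleton, Submodule.mem_bot]
        funext i
        exact (Submodule.mem_bot A).1 (Submodule.mem_colon_singleton.1
          ((Ideal.prod_le_inf.trans (Finset.inf_le (Finset.mem_univ i))) ha))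
      obtain ⟨i, -, hi⟩ := (Ideal.IsPrime.prod_le hqp).1 hle
      refine hK ((isAssociatedPrime_iff (I := q)).2 ⟨hqp, x i, le_antisymm (fun a ha => ?_) hi⟩)
      rw [hx, Submodule.mem_colon_singleton, Submodule.mem_bot] at ha
      exact Submodule.mem_colon_singleton.2 ((Submodule.mem_bot A).2 (congrFun ha i))
    exact finite_of_ext I T h1
      (haveI := ih _ hlt hsub
       Module.Finite.equiv ((localCohomology I 1).mapIso e.toModuleIso).toLinearEquiv.symm)

/-- Fix a Noetherian ring A, an ideal I of A and a finitely generated A-module M. The local cohomology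
module H¹_I(M) is finitely generated over A if and only if, for each associated prime p of M with I
⊄ p, the module H¹_I(A/p) is finitely generated over A. (Affine form, through finiteness of H¹_I, of
a statement about coherence of direct images along the inclusion of the open complement of V(I).) -/
theorem result (A : Type u) [CommRing A] [IsNoetherianRing A] (I : Ideal A) (M : Type u) [AddCommGroup M] [Module A M] [Module.Finite A M] : Module.Finite A (LocCoh.H I 1 M) ↔ ∀ p : Ideal A, p ∈ associatedPrimes A M → ¬ I ≤ p → Module.Finite A (LocCoh.H I 1 (A ⧸ p)) := by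
  constructor
  · intro hfin p hp hIp
    obtain ⟨-, f, hf⟩ := (isAssociatedPrime_iff_exists_injective_linearMap p M).1 hp
    exact finite_of_injective I f hf hfin
  · intro h
    have key : ∀ p ∈ associatedPrimes A M, Module.Finite A (LocCoh.H I 1 (A ⧸ p)) := fun p hp => by
      by_cases hIp : I ≤ p
      · haveI : Subsingleton (LocCoh.H I 1 (A ⧸ p)) := LocCohLib.subsingleton_of_isPowerTorsion 0
          (ModuleCat.of A (A ⧸ p)) fun x => ⟨1, fun a ha => by
            obtain ⟨y, rfl⟩ := Submodule.Quotient.mk_surjective _ x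
            rw [← Submodule.Quotient.mk_smul, Submodule.Quotient.mk_eq_zero, smul_eq_mul]
            exact Ideal.mul_mem_right _ _ (hIp (by simpa using ha))⟩
        exact Module.Finite.of_surjective (0 : A →ₗ[A] _) fun y => ⟨0, Subsingleton.elim _ _⟩
      · exact h p hp hIp
    exact finite_of_assoc I M (associatedPrimes A M) key le_rfl

end Groth.Agent.S1763
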