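import Groth.Statements.S17630
import Groth.Agent.HdimLES.Basic
import Groth.Agent.QCohLib.Coherent
import Groth.Agent.CurveDeg.Linear

set_option autoImplicit false
set_option linter.style.haveILetI false
set_option backward.isDefEq.respectTransparency false
universe u
open CategoryTheory CategoryTheory.Limits AlgebraicGeometry
open Coherent

namespace Groth.Agent.S17630

namespace Helper

open CategoryTheory CategoryTheory.Limits AlgebraicGeometry
open Groth.Agent.HilbPoly

variable (k : Type u) [Field k] (X : Scheme.{u})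
  [X.Over (Spec (CommRingCat.of k))] [IsProper (X ↘ Spec (CommRingCat.of k))]
  (C : ℕ → X.Modules) (hC : ∀ j, Coh.IsCoh (C j)) (d : ∀ j, C j ⟶ C (j + 1))
  (hd : ∀ j, d j ≫ d (j + 1) = 0)
  (hex : ∀ j, (ShortComplex.mk (d j) (d (j + 1)) (hd j)).Exact)

/-- `0 → Z_j → C_j → Z_{j+1} → 0`. -/
noncomputable def seq (j : ℕ) : ShortComplex X.Modules :=
  ShortComplex.mk (kernel.ι (d j)) (kernel.lift (d (j + 1)) (d j) (hd j)) (by
    rw [← cancel_mono (kernel.ι (d (j + 1))), Category.assoc, kernel.lift_ι, kernel.condition, zero_comp])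

include hex in
theorem seq_shortExact (j : ℕ) : (seq X C d hd j).ShortExact := by
  have hm : Mono (seq X C d hd j).f := inferInstanceAs (Mono (kernel.ι (d j)))
  have he : Epi (seq X C d hd j).g := (hex j).epi_kernelLift
  refine { exact := ShortComplex.exact_of_f_is_kernel _ ?_ }
  exact isKernelOfComp (kernel.ι (d (j + 1))) (d j) (kernelIsKernel (d j)) _ (kernel.lift_ι _ _ _)

include k hC in
theorem isCoh_Z (j : ℕ) : Coh.IsCoh (kernel (d j)) := by
  haveI : IsLocallyNoetherian X := LocallyOfFiniteType.isLocallyNoetherian (X ↘ Spec (CommRingCat.of k))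
  exact QCohLib.isCoh_kernel (d j) (hC j) (hC (j + 1)).1

include hC hd hex in
theorem hdim_Z_le : ∀ (q j : ℕ), hdim k X (kernel (d j)) q ≤
    ∑ l ∈ Finset.range (q + 1), hdim k X (C (j + l)) (q - l) := by
  intro q
  induction q with
  | zero =>
    intro j
    obtain ⟨-, -, -, h⟩ := HdimLES.hdim_le_all k (seq_shortExact X C d hd hex j) (isCoh_Z k X C hC d j) (hC j)
      (isCoh_Z k X C hC d (j + 1)) 0
    simpa [seq] using h
  | succ q ih =>
    intro j
    obtain ⟨-, h, -, -⟩ := HdimLES.hdim_le_all k (seq_shortExact X C d hd hex j) (isCoh_Z k X C hC d j) (hC j)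
      (isCoh_Z k X C hC d (j + 1)) q
    change hdim k X (kernel (d j)) (q + 1) ≤ hdim k X (C j) (q + 1) + hdim k X (kernel (d (j + 1))) q at h
    have hsum : ∑ l ∈ Finset.range (q + 1 + 1), hdim k X (C (j + l)) (q + 1 - l) =
        (∑ l ∈ Finset.range (q + 1), hdim k X (C (j + 1 + l)) (q - l)) + hdim k X (C j) (q + 1) := by
      rw [Finset.sum_range_succ', Nat.add_zero, Nat.sub_zero]
      congr 1
      refine Finset.sum_congr rfl fun l _ => ?_
      rw [show j + (l + 1) = j + 1 + l by omega, Nat.succ_sub_succ]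
    rw [hsum]
    linarith [ih (j + 1)]

theorem sum_Icc_eq (f : ℕ → ℤ) : ∀ n : ℕ, (Finset.Icc 1 n).sum f = ∑ l ∈ Finset.range n, f (l + 1)
  | 0 => by simp
  | n + 1 => by
    rw [Finset.sum_Icc_succ_top (by omega), Finset.sum_range_succ, sum_Icc_eq f n]

include hC hex in
theorem main [Mono (d 0)] (i : ℕ) :
    |(Module.finrank k (Coh.HH X (C 0) i) : ℤ) - (Module.finrank k (Coh.HH X (C 1) i) : ℤ)| ≤
      (Finset.Icc 1 (i + 1)).sum (fun j => ((Module.finrank k (Coh.HH X (C (j + 1)) (i + 1 - j))) : ℤ)) +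
        (Finset.Icc 1 i).sum (fun j => ((Module.finrank k (Coh.HH X (C (j + 1)) (i - j))) : ℤ)) := by
  have hS := seq_shortExact X C d hd hex 1
  have he : Epi (kernel.lift (d 1) (d 0) (hd 0)) := (hex 0).epi_kernelLift
  have hm : Mono (kernel.lift (d 1) (d 0) (hd 0)) := mono_of_mono_fac (kernel.lift_ι _ _ (hd 0))
  haveI := isIso_of_mono_of_epi (kernel.lift (d 1) (d 0) (hd 0))
  have h0 : ∀ q, hdim k X (C 0) q = hdim k X (kernel (d 1)) q := fun q => by
    have := CurveDeg.hdim_congr (k := k) (asIso (kernel.lift (d 1) (d 0) (hd 0))) q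
    exact this
  rw [sum_Icc_eq, sum_Icc_eq]
  have b1 : hdim k X (kernel (d 2)) i ≤ ∑ l ∈ Finset.range (i + 1), hdim k X (C (l + 1 + 1)) (i + 1 - (l + 1)) := by
    refine (hdim_Z_le k X C hC d hd hex i 2).trans (le_of_eq (Finset.sum_congr rfl fun l _ => ?_))
    rw [show 2 + l = l + 1 + 1 by omega, Nat.succ_sub_succ]
  have n1 : ∀ (M : X.Modules) q, 0 ≤ hdim k X M q := fun M q => Int.natCast_nonneg _
  have n2 : 0 ≤ ∑ l ∈ Finset.range i, hdim k X (C (l + 1 + 1)) (i - (l + 1)) :=
    Finset.sum_nonneg fun l _ => n1 _ _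
  obtain ⟨a1, -, -, -⟩ := HdimLES.hdim_le_all k hS (isCoh_Z k X C hC d 1) (hC 1) (isCoh_Z k X C hC d 2) i
  change hdim k X (C 1) i ≤ hdim k X (kernel (d 1)) i + hdim k X (kernel (d 2)) i at a1
  have a2 : hdim k X (kernel (d 1)) i ≤ hdim k X (C 1) i +
      ∑ l ∈ Finset.range i, hdim k X (C (l + 1 + 1)) (i - (l + 1)) := by
    cases i with
    | zero =>
      obtain ⟨-, -, -, h⟩ := HdimLES.hdim_le_all k hS (isCoh_Z k X C hC d 1) (hC 1) (isCoh_Z k X C hC d 2) 0
      simpa [seq] using h
    | succ q =>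
      obtain ⟨-, h, -, -⟩ := HdimLES.hdim_le_all k hS (isCoh_Z k X C hC d 1) (hC 1) (isCoh_Z k X C hC d 2) q
      change hdim k X (kernel (d 1)) (q + 1) ≤ hdim k X (C 1) (q + 1) + hdim k X (kernel (d 2)) q at h
      refine h.trans ((add_le_add_iff_left _).mpr ((hdim_Z_le k X C hC d hd hex q 2).trans
        (le_of_eq (Finset.sum_congr rfl fun l _ => ?_))))
      rw [show 2 + l = l + 1 + 1 by omega, Nat.succ_sub_succ]
  change |hdim k X (C 0) i - hdim k X (C 1) i| ≤
    (∑ l ∈ Finset.range (i + 1), hdim k X (C (l + 1 + 1)) (i + 1 - (l + 1))) +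
      ∑ l ∈ Finset.range i, hdim k X (C (l + 1 + 1)) (i - (l + 1))
  rw [h0 i, abs_le]
  constructor <;> linarith [n1 (kernel (d 2)) i]

end Helper


/-- Let X be a scheme proper over a field k and 0 → C_0 → C_1 → C_2 → ⋯ an exact sequence of coherent
O_X-modules: the composite of consecutive maps is zero, the sequence is exact at every C_j with j ≥
1, and C_0 → C_1 is a monomorphism (the source numbers the sequence from C_{−1}; its argument and
its application use that the first map is injective). Then for every i ≥ 0, |dim_k H^i(X, C_0) −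
dim_k H^i(X, C_1)| ≤ Σ_{j=1}^{i+1} dim_k H^{i+1−j}(X, C_{j+1}) + Σ_{j=1}^{i} dim_k H^{i−j}(X,
C_{j+1}). (The published bound is 2 · Σ_{j=1}^{i+1} dim_k H^{i+1−j}(X, C_{j+1}); the argument given
yields the two sums here, and the published form fails for the sequence 0 → O(−3) → O(−1) → O_Z → 0
on the projective line, Z a subscheme of length 2, with i = 1: the left side is 2 and the published
right side is 0.) -/
theorem result (k : Type u) [Field k] (X : Scheme.{u})
    [X.Over (Spec (CommRingCat.of k))] [IsProper (X ↘ Spec (CommRingCat.of k))]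
    (C : ℕ → X.Modules) (hC : ∀ j, Coh.IsCoh (C j)) (d : ∀ j, C j ⟶ C (j + 1))
    (hd : ∀ j, d j ≫ d (j + 1) = 0) [Mono (d 0)]
    (hex : ∀ j, (ShortComplex.mk (d j) (d (j + 1)) (hd j)).Exact) (i : ℕ) :
    |(Module.finrank k (Coh.HH X (C 0) i) : ℤ) - (Module.finrank k (Coh.HH X (C 1) i) : ℤ)| ≤
      (Finset.Icc 1 (i + 1)).sum (fun j => ((Module.finrank k (Coh.HH X (C (j + 1)) (i + 1 - j))) : ℤ)) +
        (Finset.Icc 1 i).sum (fun j => ((Module.finrank k (Coh.HH X (C (j + 1)) (i - j))) : ℤ)) := by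
  exact Helper.main k X C hC d hd hex i
end Groth.Agent.S17630
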