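import Groth.Statements.S17632
import Groth.Agent.AsympCoh.Seq

set_option autoImplicit false
set_option backward.isDefEq.respectTransparency false
set_option backward.isDefEq.respectTransparency false
universe u
open CategoryTheory CategoryTheory.Limits AlgebraicGeometry
open Variety
open Groth.Agent Groth.Agent.InvBasic Groth.Agent.ProjUniv Groth.Agent.InvPow Groth.Agent.QCohLib Groth.Agent.HilbPoly Groth.Agent.CurveDeg Groth.Agent.CohFinite

namespace Groth.Agent.S17632

/-- Let X be an integral scheme, proper over an uncountable algebraically closed field k of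
characteristic zero and admitting an ample invertible module, of dimension n (stated in the source
over the complex numbers), L an invertible O_X-module and A an ample invertible O_X-module with
inverse A', i.e. A ⊗ A' ≅ O_X. Then for every i ≥ 0, (ĥ^i(X, L^{⊗p} ⊗ A') − ĥ^i(X, L^{⊗p})) / p^n
tends to 0 as p → ∞, where ĥ^i(X, M) = limsup_m dim_k H^i(X, M^{⊗m}) · n!/m^n. -/
theorem result (k : Type u) [Field k] [IsAlgClosed k] [CharZero k] [Uncountable k] (X : Scheme.{u})
    [X.Over (Spec (CommRingCat.of k))] [AlgebraicGeometry.IsIntegral X]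
    [IsProper (X ↘ Spec (CommRingCat.of k))] (hproj : ∃ A : X.Modules, CohB1.IsAmple A)
    (n : ℕ) (hn : topologicalKrullDim X = n)
    (L : X.Modules) (hL : PicF.IsInvertible L) (A A' : X.Modules) (hA : CohB1.IsAmple A)
    (hA' : ClSub.IsInverseOf A A') (i : ℕ) :
    Filter.Tendsto (fun p : ℕ =>
        (W4c5asymptcohfn.hhat k X n i (CohB1.tensorMod (CohB1.tensorPow L p) A') -
          W4c5asymptcohfn.hhat k X n i (CohB1.tensorPow L p)) / (p : ℝ) ^ n)
      Filter.atTop (nhds 0) := by
  have hA'i := Groth.Agent.NegVanish.isInvertible_of_inverse hA.1 hA'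
  let F := Groth.Agent.AsympCoh.pairFam hL hA'i
  have hO : Coh.IsCoh (Coh.structureModule X) :=
    haveI := Groth.Agent.CurveDeg.isNoetherian_of_proper (X := X) k
    isCoh_of_isInvertible (Groth.Agent.HilbPoly.isInvertible_structureModule X)
  obtain ⟨C, hC, hlip⟩ := Groth.Agent.AsympCoh.exists_abs_sub_le k F hn.le i
  let x : ℕ → ℕ → Bool → ℕ := fun p m b => if b then p * m else m
  let y : ℕ → ℕ → Bool → ℕ := fun p m b => if b then p * m else 0
  have ex : ∀ p m, Nonempty (CohB1.tensorPow (CohB1.tensorMod (CohB1.tensorPow L p) A') m ≅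
      CohB1.tensorMod (Coh.structureModule X) (F.T (x p m))) := fun p m => by
    obtain ⟨t⟩ := Groth.Agent.InvPow.nonempty_tensor_pow_iso (Groth.Agent.InvPow.isInvertible_tensorPow hL p) hA'i m
    obtain ⟨q⟩ := Groth.Agent.InvPow.nonempty_pow_mul_iso hL p m
    obtain ⟨d⟩ := Groth.Agent.ProjTwist.nonempty_tensorMod_iso q (Iso.refl (CohB1.tensorPow A' m))
    obtain ⟨c⟩ := Groth.Agent.ProjTwist.nonempty_tensorMod_comm (Coh.structureModule X) (F.T (x p m))
    exact ⟨t ≪≫ d ≪≫ (SecTwist.unitorR _).symm ≪≫ c.symm⟩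
  have ey : ∀ p m, Nonempty (CohB1.tensorPow (CohB1.tensorPow L p) m ≅
      CohB1.tensorMod (Coh.structureModule X) (F.T (y p m))) := fun p m => by
    obtain ⟨q⟩ := Groth.Agent.InvPow.nonempty_pow_mul_iso hL p m
    obtain ⟨c⟩ := Groth.Agent.ProjTwist.nonempty_tensorMod_comm (Coh.structureModule X) (F.T (y p m))
    exact ⟨q ≪≫ (SecTwist.unitorR _).symm ≪≫ (SecTwist.unitorR _).symm ≪≫ c.symm⟩
  have hx : ∀ p m, (Groth.Agent.AsympCoh.size (x p m) : ℝ) ≤ ((p : ℝ) + 1) * m := fun p m => by
    simp [Groth.Agent.AsympCoh.size, x, add_mul]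
  have hy : ∀ p m, (Groth.Agent.AsympCoh.size (y p m) : ℝ) ≤ ((p : ℝ) + 1) * m := fun p m => by
    simp [Groth.Agent.AsympCoh.size, y, add_mul]
  refine squeeze_zero_norm' (a := fun p : ℕ => (C * (n.factorial : ℝ)) * Groth.Agent.AsympCoh.bnd n 0 *
    (1 + 2 * ((p : ℝ) + 1)) ^ (n - 1) / (p : ℝ) ^ n) (Filter.Eventually.of_forall fun p => ?_) ?_
  · rw [norm_div, norm_pow, Real.norm_natCast, Real.norm_eq_abs]
    refine div_le_div_of_nonneg_right ?_ (by positivity)
    obtain ⟨B, hB⟩ := Groth.Agent.AsympCoh.eventually_abs_le k F hO (Groth.Agent.AsympCoh.support_dim_le hn _) i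
      (ex p) (show (0 : ℝ) ≤ (p : ℝ) + 1 by positivity) (hx p)
    obtain ⟨B', hB'⟩ := Groth.Agent.AsympCoh.eventually_abs_le k F hO (Groth.Agent.AsympCoh.support_dim_le hn _) i
      (ey p) (show (0 : ℝ) ≤ (p : ℝ) + 1 by positivity) (hy p)
    refine Groth.Agent.AsympCoh.abs_limsup_sub_le (B := max B B') (hB.mono fun m h => h.trans (le_max_left _ _))
      (hB'.mono fun m h => h.trans (le_max_right _ _)) (Filter.eventually_atTop.mpr ⟨1, fun m hm => ?_⟩)
    have h := hlip (x p m) (y p m)
    have hd : (∑ j, (max (x p m j) (y p m j) - min (x p m j) (y p m j)) : ℕ) = m := by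
      show (∑ j : Bool, (max (x p m j) (y p m j) - min (x p m j) (y p m j))) = m
      simp [x, y]
    rw [show (∑ j : F.ι, (max (x p m j) (y p m j) - min (x p m j) (y p m j))) = m from hd] at h
    rw [Groth.Agent.AsympCoh.finrank_eq_hT k F _ (ex p m).some i,
      Groth.Agent.AsympCoh.finrank_eq_hT k F _ (ey p m).some i, ← sub_div, ← sub_mul, abs_div, abs_mul,
      Nat.abs_cast, abs_of_nonneg (show (0 : ℝ) ≤ (m : ℝ) ^ n by positivity)]
    refine le_trans (div_le_div_of_nonneg_right (mul_le_mul_of_nonneg_right h (Nat.cast_nonneg _)) (by positivity)) ?_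
    refine le_trans (le_of_eq (by ring)) (Groth.Agent.AsympCoh.mul_bnd_div_le (n := n)
      (C * (n.factorial : ℝ)) (by positivity) (S := 2 * ((p : ℝ) + 1)) (by positivity) hm ?_)
    push_cast
    linarith [hx p m, hy p m]
  · cases n with
    | zero => simp [Groth.Agent.AsympCoh.bnd]
    | succ d =>
      refine squeeze_zero_norm' (a := fun p : ℕ => (C * ((d + 1).factorial : ℝ)) * 5 ^ d / (p : ℝ))
        (Filter.eventually_atTop.mpr ⟨1, fun p hp => ?_⟩) (tendsto_const_div_atTop_nhds_zero_nat _)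
      have hp' : (1 : ℝ) ≤ p := by exact_mod_cast hp
      simp only [Groth.Agent.AsympCoh.bnd, Nat.cast_zero, add_zero, one_pow, mul_one, Nat.add_sub_cancel]
      rw [Real.norm_of_nonneg (by positivity), div_le_div_iff₀ (by positivity) (by positivity)]
      have h1 : (1 + 2 * ((p : ℝ) + 1)) ^ d ≤ 5 ^ d * (p : ℝ) ^ d := by
        rw [← mul_pow]
        exact pow_le_pow_left₀ (by positivity) (by linarith) d
      calc _ ≤ (C * ((d + 1).factorial : ℝ)) * (5 ^ d * (p : ℝ) ^ d) * p :=
            mul_le_mul_of_nonneg_right (mul_le_mul_of_nonneg_left h1 (by positivity)) (by positivity)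
        _ = _ := by ring
end Groth.Agent.S17632
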