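import Groth.Statements.S17633
import Groth.Agent.AsympCoh.Seq

set_option autoImplicit false
set_option backward.isDefEq.respectTransparency false
set_option backward.isDefEq.respectTransparency false
universe u
open CategoryTheory CategoryTheory.Limits AlgebraicGeometry
open Variety
open Groth.Agent Groth.Agent.InvBasic Groth.Agent.ProjUniv Groth.Agent.InvPow Groth.Agent.QCohLib Groth.Agent.HilbPoly Groth.Agent.CurveDeg Groth.Agent.CohFinite

namespace Groth.Agent.S17633

/-- Let X be an integral scheme, proper over an uncountable algebraically closed field k of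
characteristic zero and admitting an ample invertible module, of dimension n (the published
statement is over the complex numbers), and let L_1, …, L_r be invertible O_X-modules with inverses
M_1, …, M_r. For a ∈ ℤ^r write L^a = ⊗_j L_j^{a_j} (negative powers taken through the M_j) and ‖a‖ =
max_j |a_j|. Then for every i (the published statement takes 0 ≤ i ≤ n; for i > n both sides vanish)
there is a constant C such that for all a, b ∈ ℤ^r, |ĥ^i(X, L^a) − ĥ^i(X, L^b)| ≤ C · Σ_{q=1}^{n}
max(‖a‖, ‖b‖)^{n−q} · ‖a − b‖^q, where ĥ^i(X, L) = limsup_m dim_k H^i(X, L^{⊗m}) · n!/m^n. (The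
published statement gives this Lipschitz-type estimate for ĥ^i as a function on the rational
Néron–Severi space with any fixed norm, together with its homogeneity of degree n; restricted to the
classes spanned by L_1, …, L_r with the maximum norm on coordinates it reads as here.) -/
theorem result (k : Type u) [Field k] [IsAlgClosed k] [CharZero k] [Uncountable k] (X : Scheme.{u})
    [X.Over (Spec (CommRingCat.of k))] [AlgebraicGeometry.IsIntegral X]
    [IsProper (X ↘ Spec (CommRingCat.of k))] (hproj : ∃ A : X.Modules, CohB1.IsAmple A)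
    (n : ℕ) (hn : topologicalKrullDim X = n)
    (r : ℕ) (L M : Fin r → X.Modules) (hL : ∀ j, PicF.IsInvertible (L j))
    (hM : ∀ j, ClSub.IsInverseOf (L j) (M j)) (i : ℕ) :
    ∃ C : ℝ, ∀ a b : Fin r → ℤ,
      |W4c5asymptcohfn.hhat k X n i (W4c5asymptcohfn.ztwist X L M a) -
          W4c5asymptcohfn.hhat k X n i (W4c5asymptcohfn.ztwist X L M b)| ≤
        C * (Finset.Icc 1 n).sum (fun q =>
          (max ‖(fun j => ((a j : ℤ) : ℝ))‖ ‖(fun j => ((b j : ℤ) : ℝ))‖) ^ (n - q) *
            ‖(fun j => ((a j - b j : ℤ) : ℝ))‖ ^ q) := by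
  have hMi : ∀ j, PicF.IsInvertible (M j) := fun j => Groth.Agent.NegVanish.isInvertible_of_inverse (hL j) (hM j)
  let F := Groth.Agent.AsympCoh.zFam hL hMi
  have hO : Coh.IsCoh (Coh.structureModule X) :=
    haveI := Groth.Agent.CurveDeg.isNoetherian_of_proper (X := X) k
    isCoh_of_isInvertible (Groth.Agent.HilbPoly.isInvertible_structureModule X)
  let x : (Fin r → ℤ) → ℕ → Fin r ⊕ Fin r → ℕ := fun a m =>
    Sum.elim (fun j => (a j).toNat * m) (fun j => (-(a j)).toNat * m)
  have ex : ∀ a m, Nonempty (CohB1.tensorPow (W4c5asymptcohfn.ztwist X L M a) m ≅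
      CohB1.tensorMod (Coh.structureModule X) (F.T (x a m))) := fun a m => by
    obtain ⟨e⟩ := Groth.Agent.AsympCoh.nonempty_ztwist_pow hL hMi a m
    obtain ⟨c⟩ := Groth.Agent.ProjTwist.nonempty_tensorMod_comm (Coh.structureModule X) (F.T (x a m))
    exact ⟨e ≪≫ (SecTwist.unitorR _).symm ≪≫ c.symm⟩
  have hnorm : ∀ (a : Fin r → ℤ) (j : Fin r), |((a j : ℤ) : ℝ)| ≤ ‖(fun j => ((a j : ℤ) : ℝ))‖ := fun a j => by
    have := norm_le_pi_norm (fun j => ((a j : ℤ) : ℝ)) j
    rwa [Real.norm_eq_abs] at this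
  have habs : ∀ z : ℤ, ((z.toNat : ℝ) + ((-z).toNat : ℝ)) = |(z : ℝ)| := fun z => by
    have : ((z.toNat : ℤ) + ((-z).toNat : ℤ)) = |z| := by rw [abs_eq_max_neg]; omega
    exact_mod_cast this
  have hx : ∀ a m, (Groth.Agent.AsympCoh.size (x a m) : ℝ) ≤ ((r : ℝ) * ‖(fun j => ((a j : ℤ) : ℝ))‖) * m := by
    intro a m
    have : Groth.Agent.AsympCoh.size (x a m) = ∑ j, ((a j).toNat + (-(a j)).toNat) * m := by
      show ∑ j : Fin r ⊕ Fin r, x a m j = _
      rw [Fintype.sum_sum_type, ← Finset.sum_add_distrib]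
      exact Finset.sum_congr rfl fun j _ => (add_mul _ _ _).symm
    rw [this, ← Finset.sum_mul]
    push_cast
    refine mul_le_mul_of_nonneg_right ?_ (Nat.cast_nonneg m)
    refine le_trans (Finset.sum_le_sum (g := fun _ => ‖(fun j => ((a j : ℤ) : ℝ))‖) fun j _ => ?_) (by simp)
    rw [habs]
    exact hnorm a j
  have hge : ∀ a : Fin r → ℤ, a ≠ 0 → (1 : ℝ) ≤ ‖(fun j => ((a j : ℤ) : ℝ))‖ := fun a ha => by
    obtain ⟨j, hj⟩ := Function.ne_iff.mp ha
    refine le_trans ?_ (hnorm a j)
    exact_mod_cast Int.one_le_abs hj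
  obtain ⟨C, hC, hlip⟩ := Groth.Agent.AsympCoh.exists_abs_sub_le k F hn.le i
  refine ⟨C * n.factorial * r * (1 + 2 * r) ^ (n - 1), fun a b => ?_⟩
  set A := ‖(fun j => ((a j : ℤ) : ℝ))‖ with hA
  set B := ‖(fun j => ((b j : ℤ) : ℝ))‖ with hB
  set D := ‖(fun j => ((a j - b j : ℤ) : ℝ))‖ with hD
  by_cases hab : a = b
  · subst hab
    rw [sub_self, abs_zero]
    positivity
  have hmax : (1 : ℝ) ≤ max A B := by
    rcases eq_or_ne a 0 with rfl | ha
    · exact (hge b (Ne.symm hab)).trans (le_max_right _ _)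
    · exact (hge a ha).trans (le_max_left _ _)
  rcases Nat.eq_zero_or_pos n with rfl | hn0
  · have key : ∀ m, Module.finrank k (Coh.HH X (CohB1.tensorPow (W4c5asymptcohfn.ztwist X L M a) m) i) =
        Module.finrank k (Coh.HH X (CohB1.tensorPow (W4c5asymptcohfn.ztwist X L M b) m) i) := fun m => by
      have h := hlip (x a m) (x b m)
      simp only [Groth.Agent.AsympCoh.bnd, mul_zero] at h
      rw [← Groth.Agent.AsympCoh.finrank_eq_hT k F _ (ex a m).some i,
        ← Groth.Agent.AsympCoh.finrank_eq_hT k F _ (ex b m).some i] at h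
      exact_mod_cast sub_eq_zero.mp (abs_nonpos_iff.mp h)
    have : W4c5asymptcohfn.hhat k X 0 i (W4c5asymptcohfn.ztwist X L M a) =
        W4c5asymptcohfn.hhat k X 0 i (W4c5asymptcohfn.ztwist X L M b) := by
      unfold W4c5asymptcohfn.hhat
      simp only [key]
    rw [this, sub_self, abs_zero]
    simp
  have hsum : (max A B) ^ (n - 1) * D ≤ (Finset.Icc 1 n).sum (fun q => (max A B) ^ (n - q) * D ^ q) := by
    have := Finset.single_le_sum (f := fun q => (max A B) ^ (n - q) * D ^ q)
      (fun q _ => by positivity) (Finset.mem_Icc.mpr ⟨le_rfl, hn0⟩ : (1 : ℕ) ∈ Finset.Icc 1 n)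
    simpa using this
  refine le_trans ?_ (mul_le_mul_of_nonneg_left hsum (by positivity))
  obtain ⟨Ba, hBa⟩ := Groth.Agent.AsympCoh.eventually_abs_le k F hO (Groth.Agent.AsympCoh.support_dim_le hn _) i
    (ex a) (show (0 : ℝ) ≤ r * A by positivity) (hx a)
  obtain ⟨Bb, hBb⟩ := Groth.Agent.AsympCoh.eventually_abs_le k F hO (Groth.Agent.AsympCoh.support_dim_le hn _) i
    (ex b) (show (0 : ℝ) ≤ r * B by positivity) (hx b)
  refine Groth.Agent.AsympCoh.abs_limsup_sub_le (B := max Ba Bb) (hBa.mono fun m h => h.trans (le_max_left _ _))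
    (hBb.mono fun m h => h.trans (le_max_right _ _)) (Filter.eventually_atTop.mpr ⟨1, fun m hm => ?_⟩)
  have h := hlip (x a m) (x b m)
  rw [Groth.Agent.AsympCoh.finrank_eq_hT k F _ (ex a m).some i,
    Groth.Agent.AsympCoh.finrank_eq_hT k F _ (ex b m).some i, ← sub_div, ← sub_mul, abs_div, abs_mul,
    Nat.abs_cast, abs_of_nonneg (show (0 : ℝ) ≤ (m : ℝ) ^ n by positivity)]
  refine le_trans (div_le_div_of_nonneg_right (mul_le_mul_of_nonneg_right h (Nat.cast_nonneg _)) (by positivity)) ?_
  have hdist : ((∑ j, (max (x a m j) (x b m j) - min (x a m j) (x b m j)) : ℕ) : ℝ) ≤ r * D * m := by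
    have h1 : (∑ j, (max (x a m j) (x b m j) - min (x a m j) (x b m j)) : ℕ) =
        ∑ j : Fin r, (a j - b j).natAbs * m := by
      show (∑ j : Fin r ⊕ Fin r, _) = _
      rw [Fintype.sum_sum_type, ← Finset.sum_add_distrib]
      refine Finset.sum_congr rfl fun j _ => ?_
      simp only [x, Sum.elim_inl, Sum.elim_inr]
      rw [← max_mul_of_nonneg _ _ (Nat.zero_le m), ← min_mul_of_nonneg _ _ (Nat.zero_le m), ← Nat.sub_mul,
        ← max_mul_of_nonneg _ _ (Nat.zero_le m), ← min_mul_of_nonneg _ _ (Nat.zero_le m), ← Nat.sub_mul, ← Nat.add_mul]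
      congr 1
      omega
    rw [h1, ← Finset.sum_mul]
    push_cast
    refine mul_le_mul_of_nonneg_right ?_ (Nat.cast_nonneg m)
    refine le_trans (Finset.sum_le_sum (g := fun _ => D) fun j _ => ?_) (by simp)
    rw [Nat.cast_natAbs, Int.cast_abs]
    have := norm_le_pi_norm (fun j => ((a j - b j : ℤ) : ℝ)) j
    rwa [Real.norm_eq_abs] at this
  have h0 := Groth.Agent.AsympCoh.bnd_nonneg n (Groth.Agent.AsympCoh.size (x a m) + Groth.Agent.AsympCoh.size (x b m))
  refine le_trans (div_le_div_of_nonneg_right (mul_le_mul_of_nonneg_right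
    (mul_le_mul_of_nonneg_right (mul_le_mul_of_nonneg_left hdist hC) h0) (Nat.cast_nonneg _)) (by positivity)) ?_
  refine le_trans (le_of_eq (by ring)) (le_trans (Groth.Agent.AsympCoh.mul_bnd_div_le (n := n)
    (C * (n.factorial : ℝ) * r * D) (by positivity) (S := 2 * r * max A B) (by positivity) hm ?_) ?_)
  · push_cast
    have h1 := mul_le_mul_of_nonneg_left (le_max_left A B) (show (0 : ℝ) ≤ r * m by positivity)
    have h2 := mul_le_mul_of_nonneg_left (le_max_right A B) (show (0 : ℝ) ≤ r * m by positivity)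
    nlinarith [hx a m, hx b m]
  · have hb : Groth.Agent.AsympCoh.bnd n 0 = 1 := by
      obtain ⟨d, rfl⟩ : ∃ d, n = d + 1 := ⟨n - 1, by omega⟩
      simp [Groth.Agent.AsympCoh.bnd]
    rw [hb, mul_one]
    have : (1 + 2 * (r : ℝ) * max A B) ^ (n - 1) ≤ (1 + 2 * (r : ℝ)) ^ (n - 1) * (max A B) ^ (n - 1) := by
      rw [← mul_pow]
      exact pow_le_pow_left₀ (by positivity) (by nlinarith) _
    refine le_trans (mul_le_mul_of_nonneg_left this (by positivity)) (le_of_eq (by ring))
end Groth.Agent.S17633
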