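import Groth.Statements.S17634
import Groth.Agent.AsympCoh.Seq

set_option autoImplicit false
set_option backward.isDefEq.respectTransparency false
set_option backward.isDefEq.respectTransparency false
universe u
open CategoryTheory CategoryTheory.Limits AlgebraicGeometry
open Variety
open Groth.Agent Groth.Agent.InvBasic Groth.Agent.ProjUniv Groth.Agent.InvPow Groth.Agent.QCohLib Groth.Agent.HilbPoly Groth.Agent.CurveDeg Groth.Agent.CohFinite

namespace Groth.Agent.S17634

/-- Let X be an integral scheme, proper over an uncountable algebraically closed field k of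
characteristic zero and admitting an ample invertible module, of dimension n (stated in the source
over the complex numbers), and L_1, …, L_r invertible O_X-modules with inverses M_1, …, M_r; for a ∈
ℤ^r write L^a = ⊗_j L_j^{a_j} (negative powers through the M_j) and ‖a‖ = max_j |a_j|. Then for
every i there is a constant C with ĥ^i(X, L^a) ≤ C · ‖a‖^n for all a ∈ ℤ^r, where ĥ^i(X, L) =
limsup_m dim_k H^i(X, L^{⊗m}) · n!/m^n. (The source states the bound for all real classes in the
Néron–Severi space with any fixed norm.) -/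
theorem result (k : Type u) [Field k] [IsAlgClosed k] [CharZero k] [Uncountable k] (X : Scheme.{u})
    [X.Over (Spec (CommRingCat.of k))] [AlgebraicGeometry.IsIntegral X]
    [IsProper (X ↘ Spec (CommRingCat.of k))] (hproj : ∃ A : X.Modules, CohB1.IsAmple A)
    (n : ℕ) (hn : topologicalKrullDim X = n)
    (r : ℕ) (L M : Fin r → X.Modules) (hL : ∀ j, PicF.IsInvertible (L j))
    (hM : ∀ j, ClSub.IsInverseOf (L j) (M j)) (i : ℕ) :
    ∃ C : ℝ, ∀ a : Fin r → ℤ,
      W4c5asymptcohfn.hhat k X n i (W4c5asymptcohfn.ztwist X L M a) ≤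
        C * ‖(fun j => ((a j : ℤ) : ℝ))‖ ^ n := by
  have hMi : ∀ j, PicF.IsInvertible (M j) := fun j => Groth.Agent.NegVanish.isInvertible_of_inverse (hL j) (hM j)
  let F := Groth.Agent.AsympCoh.zFam hL hMi
  have hO : Coh.IsCoh (Coh.structureModule X) :=
    haveI := Groth.Agent.CurveDeg.isNoetherian_of_proper (X := X) k
    isCoh_of_isInvertible (Groth.Agent.HilbPoly.isInvertible_structureModule X)
  let x : (Fin r → ℤ) → ℕ → Fin r ⊕ Fin r → ℕ := fun a m =>
    Sum.elim (fun j => (a j).toNat * m) (fun j => (-(a j)).toNat * m)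
  have ex : ∀ a m, Nonempty (CohB1.tensorPow (W4c5asymptcohfn.ztwist X L M a) m ≅
      CohB1.tensorMod (Coh.structureModule X) (F.T (x a m))) := fun a m => by
    obtain ⟨e⟩ := Groth.Agent.AsympCoh.nonempty_ztwist_pow hL hMi a m
    obtain ⟨c⟩ := Groth.Agent.ProjTwist.nonempty_tensorMod_comm (Coh.structureModule X) (F.T (x a m))
    exact ⟨e ≪≫ (SecTwist.unitorR _).symm ≪≫ c.symm⟩
  have hnorm : ∀ (a : Fin r → ℤ) (j : Fin r), |((a j : ℤ) : ℝ)| ≤ ‖(fun j => ((a j : ℤ) : ℝ))‖ := fun a j => by
    have := norm_le_pi_norm (fun j => ((a j : ℤ) : ℝ)) j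
    rwa [Real.norm_eq_abs] at this
  have habs : ∀ z : ℤ, ((z.toNat : ℝ) + ((-z).toNat : ℝ)) = |(z : ℝ)| := fun z => by
    have : ((z.toNat : ℤ) + ((-z).toNat : ℤ)) = |z| := by rw [abs_eq_max_neg]; omega
    exact_mod_cast this
  have hx : ∀ a m, (Groth.Agent.AsympCoh.size (x a m) : ℝ) ≤ ((r : ℝ) * ‖(fun j => ((a j : ℤ) : ℝ))‖) * m := by
    intro a m
    have : Groth.Agent.AsympCoh.size (x a m) = ∑ j, ((a j).toNat + (-(a j)).toNat) * m := by
      show ∑ j : Fin r ⊕ Fin r, x a m j = _
      rw [Fintype.sum_sum_type, ← Finset.sum_add_distrib]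
      exact Finset.sum_congr rfl fun j _ => (add_mul _ _ _).symm
    rw [this, ← Finset.sum_mul]
    push_cast
    refine mul_le_mul_of_nonneg_right ?_ (Nat.cast_nonneg m)
    refine le_trans (Finset.sum_le_sum (g := fun _ => ‖(fun j => ((a j : ℤ) : ℝ))‖) fun j _ => ?_) (by simp)
    rw [habs]
    exact hnorm a j
  have hge : ∀ a : Fin r → ℤ, a ≠ 0 → (1 : ℝ) ≤ ‖(fun j => ((a j : ℤ) : ℝ))‖ := fun a ha => by
    obtain ⟨j, hj⟩ := Function.ne_iff.mp ha
    refine le_trans ?_ (hnorm a j)
    exact_mod_cast Int.one_le_abs hj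
  obtain ⟨C, hC, hseq⟩ := Groth.Agent.AsympCoh.seq_le k F hO (Groth.Agent.AsympCoh.support_dim_le hn _) i
  obtain ⟨C', hC', hh⟩ := Groth.Agent.AsympCoh.exists_hT_le k F hO (Groth.Agent.AsympCoh.support_dim_le hn _) i
  refine ⟨max (C * (1 + r) ^ n) (C' * n.factorial), fun a => ?_⟩
  have hcob : Filter.IsCoboundedUnder (· ≤ ·) Filter.atTop
      (Groth.Agent.AsympCoh.seq k n i fun m => CohB1.tensorPow (W4c5asymptcohfn.ztwist X L M a) m) :=
    (Filter.isBoundedUnder_of_eventually_ge (a := (0 : ℝ))
      (Filter.Eventually.of_forall fun m => Groth.Agent.AsympCoh.seq_nonneg k n i _ m)).isCoboundedUnder_le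
  rw [Groth.Agent.AsympCoh.hhat_eq]
  by_cases ha : a = 0
  · subst ha
    have hz : ∀ m, x 0 m = fun _ => 0 := fun m => funext fun j => by cases j <;> simp [x]
    have hle : ∀ m, Groth.Agent.AsympCoh.seq k n i (fun m => CohB1.tensorPow (W4c5asymptcohfn.ztwist X L M 0) m) m ≤
        C' * n.factorial / (m : ℝ) ^ n := fun m => by
      unfold Groth.Agent.AsympCoh.seq
      rw [Groth.Agent.AsympCoh.finrank_eq_hT k F _ (ex 0 m).some i, hz m]
      refine div_le_div_of_nonneg_right (mul_le_mul_of_nonneg_right ((hh _).trans ?_) (by positivity)) (by positivity)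
      simp [Groth.Agent.AsympCoh.size]
    rcases Nat.eq_zero_or_pos n with rfl | hn0
    · rw [pow_zero, mul_one]
      refine Filter.limsup_le_of_le hcob (Filter.Eventually.of_forall fun m => (hle m).trans ?_)
      simpa using le_max_right C (C' * (Nat.factorial 0 : ℝ))
    · have ht : Filter.Tendsto (Groth.Agent.AsympCoh.seq k n i fun m => CohB1.tensorPow (W4c5asymptcohfn.ztwist X L M 0) m)
          Filter.atTop (nhds 0) := by
        refine squeeze_zero (fun m => Groth.Agent.AsympCoh.seq_nonneg k n i _ m) hle ?_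
        exact tendsto_const_nhds.div_atTop
          ((Filter.tendsto_pow_atTop hn0.ne').comp tendsto_natCast_atTop_atTop)
      rw [ht.limsup_eq]
      positivity
  refine Filter.limsup_le_of_le hcob (Filter.eventually_atTop.mpr ⟨1, fun m hm => ?_⟩)
  refine (hseq _ (x a) (ex a) _ (by positivity) m hm (hx a m)).trans ?_
  refine le_trans ?_ (mul_le_mul_of_nonneg_right (le_max_left _ _) (by positivity))
  rw [mul_assoc, ← mul_pow]
  refine mul_le_mul_of_nonneg_left (pow_le_pow_left₀ (by positivity) ?_ n) hC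
  have := hge a ha
  nlinarith
end Groth.Agent.S17634
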