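import Groth.Statements.S17635
import Mathlib.Analysis.Normed.MulAction
import Mathlib.Analysis.Normed.Field.Basic


set_option autoImplicit false
open Finset
open Variety

namespace Groth.Agent.S17635

/-- Let r and n be natural numbers and f : ℚ^r → ℝ a nonnegative function which is homogeneous of degree
n for positive rational scalars, f(q · v) = q^n · f(v) for q > 0; give ℚ^r the maximum norm ‖v‖ =
max_j |v_j| of its standard basis. Suppose that for every standard basis vector e_i there is a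
constant C_i with |f(v − b · e_i) − f(v)| ≤ C_i · Σ_{q=1}^{n} ‖v‖^{n−q} · b^q for all v ∈ ℚ^r and
all integers b ≥ 1. Then there is a constant C > 0 such that |f(v) − f(w)| ≤ C · Σ_{q=1}^{n}
max(‖v‖, ‖w‖)^{n−q} · ‖v − w‖^q for all v, w ∈ ℚ^r. (The source allows any norm on an r-dimensional
rational vector space with a chosen basis and argues with the maximum norm of that basis, which is
the case stated here.) -/
theorem result (r n : ℕ) (f : (Fin r → ℚ) → ℝ)
    (hf0 : ∀ v, 0 ≤ f v)
    (hhom : ∀ (q : ℚ) (v : Fin r → ℚ), 0 < q → f (q • v) = (q : ℝ) ^ n * f v)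
    (hdir : ∀ i : Fin r, ∃ Ci : ℝ, ∀ (v : Fin r → ℚ) (b : ℕ), 1 ≤ b →
      |f (v - (b : ℚ) • Pi.single i 1) - f v| ≤
        Ci * (Finset.Icc 1 n).sum (fun q => ‖(fun j => ((v j : ℚ) : ℝ))‖ ^ (n - q) * (b : ℝ) ^ q)) :
    ∃ C : ℝ, 0 < C ∧ ∀ v w : Fin r → ℚ,
      |f v - f w| ≤ C * (Finset.Icc 1 n).sum (fun q =>
        (max ‖(fun j => ((v j : ℚ) : ℝ))‖ ‖(fun j => ((w j : ℚ) : ℝ))‖) ^ (n - q) *
          ‖(fun j => ((v j - w j : ℚ) : ℝ))‖ ^ q) := by
  classical
  choose C hC using hdir
  let nr : (Fin r → ℚ) → ℝ := fun v => ‖(fun j => ((v j : ℚ) : ℝ))‖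
  have hstep : ∀ (i : Fin r) (v : Fin r → ℚ) (t : ℚ), 0 < t →
      |f (v - t • Pi.single i 1) - f v| ≤ |C i| * (Finset.Icc 1 n).sum (fun q => nr v ^ (n - q) * (t : ℝ) ^ q) := by
    intro i v t ht
    obtain ⟨b, hb⟩ : ∃ b : ℕ, (b : ℚ) = t * t.den := ⟨t.num.toNat, by
      rw [Rat.mul_den_eq_num]
      exact_mod_cast Int.toNat_of_nonneg (Rat.num_pos.2 ht).le⟩
    have hM : (0 : ℚ) < t.den := by exact_mod_cast t.den_pos
    have hb1 : 1 ≤ b := by
      have : (0 : ℚ) < b := hb ▸ mul_pos ht hM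
      exact_mod_cast this
    have hMR : (0 : ℝ) < t.den := by exact_mod_cast t.den_pos
    have h := hC i ((t.den : ℚ) • v) b hb1
    have he : (t.den : ℚ) • v - (b : ℚ) • Pi.single i 1 = (t.den : ℚ) • (v - t • Pi.single i 1) := by
      rw [smul_sub, smul_smul, hb, mul_comm]
    have hn : nr ((t.den : ℚ) • v) = (t.den : ℝ) * nr v := by
      show ‖(fun j => ((((t.den : ℚ) • v) j : ℚ) : ℝ))‖ = _
      rw [show (fun j => ((((t.den : ℚ) • v) j : ℚ) : ℝ)) = (t.den : ℝ) • (fun j => ((v j : ℚ) : ℝ)) by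
        funext j; simp, norm_smul, Real.norm_eq_abs, abs_of_pos hMR]
    change |_| ≤ C i * (Finset.Icc 1 n).sum (fun q => nr ((t.den : ℚ) • v) ^ (n - q) * (b : ℝ) ^ q) at h
    rw [he, hhom _ _ hM, hhom _ _ hM, Rat.cast_natCast, ← mul_sub, abs_mul, abs_of_pos (pow_pos hMR n), hn] at h
    have hbR : (b : ℝ) = (t : ℝ) * t.den := by exact_mod_cast congrArg (fun q : ℚ => (q : ℝ)) hb
    have hs : (Finset.Icc 1 n).sum (fun q => ((t.den : ℝ) * nr v) ^ (n - q) * (b : ℝ) ^ q) =
        (t.den : ℝ) ^ n * (Finset.Icc 1 n).sum (fun q => nr v ^ (n - q) * (t : ℝ) ^ q) := by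
      rw [Finset.mul_sum]
      refine Finset.sum_congr rfl fun q hq => ?_
      have hsplit : (t.den : ℝ) ^ n = (t.den : ℝ) ^ (n - q) * (t.den : ℝ) ^ q := by
        rw [← pow_add, Nat.sub_add_cancel (Finset.mem_Icc.1 hq).2]
      rw [hbR, mul_pow, mul_pow, hsplit]; ring
    rw [hs, mul_left_comm] at h
    refine (le_of_mul_le_mul_left h (pow_pos hMR n)).trans (mul_le_mul_of_nonneg_right (le_abs_self _) ?_)
    exact Finset.sum_nonneg fun q _ => mul_nonneg (pow_nonneg (norm_nonneg _) _) (pow_nonneg (by exact_mod_cast ht.le) _)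
  refine ⟨1 + ∑ i, |C i|, add_pos_of_pos_of_nonneg one_pos (Finset.sum_nonneg fun i _ => abs_nonneg _), fun v w => ?_⟩
  let R := max (nr v) (nr w)
  let D := nr (fun j => v j - w j)
  have hR : 0 ≤ R := le_max_of_le_left (norm_nonneg _)
  have hD : 0 ≤ D := norm_nonneg _
  let S := (Finset.Icc 1 n).sum (fun q => R ^ (n - q) * D ^ q)
  have hS : 0 ≤ S := Finset.sum_nonneg fun q _ => mul_nonneg (pow_nonneg hR _) (pow_nonneg hD _)
  change |f v - f w| ≤ (1 + ∑ i, |C i|) * S
  let u : Finset (Fin r) → Fin r → ℚ := fun T j => if j ∈ T then w j else v j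
  have hu : ∀ T, nr (u T) ≤ R := fun T => (pi_norm_le_iff_of_nonneg hR).2 fun j => by
    by_cases h : j ∈ T
    · simp only [u, if_pos h]
      exact (norm_le_pi_norm (fun j => ((w j : ℚ) : ℝ)) j).trans (le_max_right _ _)
    · simp only [u, if_neg h]
      exact (norm_le_pi_norm (fun j => ((v j : ℚ) : ℝ)) j).trans (le_max_left _ _)
  have hbound : ∀ (i : Fin r) (x : Fin r → ℚ) (t : ℚ), 0 < t → nr x ≤ R → (t : ℝ) ≤ D →
      |f (x - t • Pi.single i 1) - f x| ≤ |C i| * S := fun i x t ht hx htD =>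
    (hstep i x t ht).trans (mul_le_mul_of_nonneg_left (Finset.sum_le_sum fun q _ =>
      mul_le_mul (pow_le_pow_left₀ (norm_nonneg _) hx _) (pow_le_pow_left₀ (by exact_mod_cast ht.le) htD _)
        (pow_nonneg (by exact_mod_cast ht.le) _) (pow_nonneg hR _)) (abs_nonneg _))
  have hind : ∀ T : Finset (Fin r), |f v - f (u T)| ≤ (∑ i ∈ T, |C i|) * S := fun T => by
    induction T using Finset.induction with
    | empty => simp [u]
    | @insert a T ha ih =>
      rw [Finset.sum_insert ha, add_mul]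
      refine (abs_sub_le _ (f (u T)) _).trans ((add_comm _ _).trans_le (add_le_add ?_ ih))
      have hdiff : |((v a - w a : ℚ) : ℝ)| ≤ D := norm_le_pi_norm (fun j => ((v j - w j : ℚ) : ℝ)) a
      have hne : ∀ j, j ≠ a → u (insert a T) j = u T j := fun j hj => by simp [u, hj]
      rcases lt_trichotomy (w a) (v a) with h | h | h
      · have he : u (insert a T) = u T - (v a - w a) • Pi.single a 1 := by
          funext j
          rcases eq_or_ne j a with rfl | hj
          · simp [u, ha]
          · simp [hne j hj, hj]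
        rw [abs_sub_comm, he]
        exact hbound a _ _ (sub_pos.2 h) (hu T) ((le_abs_self _).trans hdiff)
      · have he : u (insert a T) = u T := by
          funext j
          rcases eq_or_ne j a with rfl | hj
          · simp [u, ha, h]
          · simp [hne j hj]
        rw [he]; simp [mul_nonneg (abs_nonneg _) hS]
      · have he : u T = u (insert a T) - (w a - v a) • Pi.single a 1 := by
          funext j
          rcases eq_or_ne j a with rfl | hj
          · simp [u, ha]
          · simp [hne j hj, hj]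
        rw [he]
        refine hbound a _ _ (sub_pos.2 h) (hu _) ((le_abs_self _).trans ?_)
        rwa [Rat.cast_sub, abs_sub_comm, ← Rat.cast_sub]
  have hw : u Finset.univ = w := by funext j; simp [u]
  have := hind Finset.univ
  rw [hw] at this
  exact this.trans (mul_le_mul_of_nonneg_right (by linarith) hS)

end Groth.Agent.S17635
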