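import Groth.Statements.S17653
import Groth.Agent.DimFormulaIrr.Basic
import Groth.Agent.BMCoh.Basic
import Mathlib.AlgebraicGeometry.ZariskisMainTheorem

set_option autoImplicit false
universe u
open CategoryTheory CategoryTheory.Limits AlgebraicGeometry TopologicalSpace
open Variety

namespace Groth.Agent.S17653

/-- Suppose X and Y are locally Noetherian schemes of the same pure dimension d (every irreducible
component of X and every irreducible component of Y has topological Krull dimension d), and π : X →
Y is a proper morphism between them. If there is a point x of X which is isolated in its fibre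
π⁻¹(π(x)), i.e. some open neighbourhood of x meets that fibre only in x, then the image of π, with
the subspace topology, has the same dimension as Y. -/
theorem result
    (X Y : Scheme.{u}) [IsLocallyNoetherian X] [IsLocallyNoetherian Y] (π : X ⟶ Y) [IsProper π]
    (d : WithBot ℕ∞) (hX : ∀ Z ∈ irreducibleComponents ↥X, topologicalKrullDim ↥Z = d)
    (hY : ∀ Z ∈ irreducibleComponents ↥Y, topologicalKrullDim ↥Z = d)
    (x : ↥X) (hx : ∃ U : X.Opens, x ∈ U ∧ ∀ x' ∈ U, π x' = π x → x' = x) :
    topologicalKrullDim ↥(Set.range (fun z : ↥X => π z)) = topologicalKrullDim ↥Y := by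
  classical
  obtain ⟨U, hxU, hU⟩ := hx
  let R : Set ↥Y := Set.range (fun z : ↥X => π z)
  have hR : IsClosed R := π.isClosedMap.isClosed_range
  refine le_antisymm (Topology.IsInducing.subtypeVal.topologicalKrullDim_le) ?_
  have hYd : topologicalKrullDim ↥Y ≤ d := FibDim.topologicalKrullDim_le_of_max fun η hη =>
    (hY _ (FibDim.closure_mem_components hη)).le
  refine hYd.trans ?_
  -- the component through `x`, mapped onto the image of `π`
  let C : Set ↥X := irreducibleComponent x
  have hCc : IsClosed C := isClosed_irreducibleComponent
  have hCd : topologicalKrullDim ↥C = d := hX _ (irreducibleComponent_mem_irreducibleComponents x)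
  let I := Scheme.IdealSheafData.vanishingIdeal (⟨C, hCc⟩ : TopologicalSpace.Closeds ↥X)
  let ι : I.subscheme ⟶ X := I.subschemeι
  have hι : Set.range ι = C := by
    rw [Scheme.IdealSheafData.range_subschemeι, Scheme.IdealSheafData.coe_support_vanishingIdeal]
    rfl
  haveI : IrreducibleSpace ↥I.subscheme := by
    obtain ⟨η, hη⟩ := QuasiSober.sober (isIrreducible_irreducibleComponent (x := x)) hCc
    obtain ⟨η', hη'⟩ := hι.ge hη.mem
    refine @IrreducibleSpace.mk _ _ ⟨?_⟩ ⟨η'⟩
    rw [← Set.preimage_univ (f := ι)]
    have : closure {η'} = Set.univ := by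
      rw [ι.isEmbedding.closure_eq_preimage_closure_image, Set.image_singleton, hη', hη.def]
      exact Set.eq_univ_of_forall fun z => hι.le ⟨z, rfl⟩
    rw [Set.preimage_univ, ← this]
    exact isIrreducible_singleton.closure.isPreirreducible
  haveI : AlgebraicGeometry.IsReduced I.subscheme := BMCoh.isReduced_vanishingIdeal_subscheme _
  haveI : IsIntegral I.subscheme := isIntegral_of_irreducibleSpace_of_isReduced _
  let g : I.subscheme ⟶ π.image := ι ≫ π.toImage
  haveI : LocallyOfFiniteType (π.toImage) := by
    haveI : LocallyOfFiniteType (π.toImage ≫ π.imageι) := by rw [π.toImage_imageι]; infer_instance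
    exact locallyOfFiniteType_of_comp _ π.imageι
  haveI : LocallyOfFiniteType g := MorphismProperty.comp_mem _ _ _ inferInstance inferInstance
  obtain ⟨x', hx'⟩ := hι.ge (mem_irreducibleComponent : x ∈ C)
  have hgπ : ∀ z, π.imageι (g z) = π (ι z) := fun z => by
    rw [← Scheme.Hom.comp_apply, ← Scheme.Hom.comp_apply, Category.assoc, π.toImage_imageι]
  have hqf : g.QuasiFiniteAt x' := by
    rw [Scheme.Hom.quasiFiniteAt_iff_isOpen_singleton_asFiber, ← (g.fiberHomeo (g x')).isOpen_image]
    simp only [Set.image_singleton, Scheme.Hom.asFiber, Homeomorph.apply_symm_apply]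
    convert (U.2.preimage ι.continuous).preimage (continuous_subtype_val (p := fun z => z ∈ g ⁻¹' {g x'})) using 1
    ext ⟨z, hz⟩
    constructor
    · intro h
      obtain rfl : z = x' := congrArg Subtype.val h
      exact show ι z ∈ U from hx' ▸ hxU
    · intro h
      refine Subtype.ext (ι.isEmbedding.injective ?_)
      rw [hx']
      refine hU _ h ?_
      rw [← hgπ, ← hx', ← hgπ, show g z = g x' from hz]
  let η := genericPoint I.subscheme
  have hηqf : g.QuasiFiniteAt η :=
    (genericPoint_specializes x').mem_open g.isOpen_quasiFiniteAt hqf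
  haveI : LocallyQuasiFinite (I.subscheme.fromSpecStalk η ≫ g) := Scheme.Hom.quasiFiniteAt_iff.1 hηqf
  haveI : LocallyQuasiFinite (Spec.map (g.residueFieldMap η) ≫ π.image.fromSpecResidueField (g η)) := by
    rw [Scheme.Hom.SpecMap_residueFieldMap_fromSpecResidueField]
    unfold Scheme.fromSpecResidueField
    rw [Category.assoc]
    infer_instance
  have hfin : (g.residueFieldMap η).hom.QuasiFinite := (HasRingHomProperty.Spec_iff (P := @LocallyQuasiFinite)).1
    (LocallyQuasiFinite.of_comp _ (π.image.fromSpecResidueField (g η)))
  have hstalk : ∀ w : ↥I.subscheme, ringKrullDim (I.subscheme.presheaf.stalk w) ≤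
      ringKrullDim (π.image.presheaf.stalk (g w)) := by
    intro w
    haveI : IsLocallyNoetherian π.image := LocallyOfFiniteType.isLocallyNoetherian π.imageι
    obtain ⟨n, hn, -⟩ := DimFormulaIrr.exists_trdeg_fibre g (g w) (g.asFiber w) w (g.fiberι_asFiber w)
    have h := Groth.Agent.DimInequality.stalk_dimension_inequality g w n 0 hn (fun ξ hξ _ => by
      have : ξ = η := by
        rw [irreducibleComponents_eq_singleton, Set.mem_singleton_iff] at hξ
        exact ((isGenericPoint_def.2 hξ).eq (genericPoint_spec _))
      subst this
      letI := (g.residueFieldMap η).hom.toAlgebra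
      haveI : Algebra.QuasiFinite (π.image.residueField (g η)) (I.subscheme.residueField η) := hfin
      haveI : Module.Finite (π.image.residueField (g η)) (I.subscheme.residueField η) :=
        Algebra.QuasiFinite.iff_of_isArtinianRing.1 inferInstance
      simp [trdeg_eq_zero (R := π.image.residueField (g η)) (A := I.subscheme.residueField η)])
    exact le_trans (le_add_of_nonneg_right (by positivity)) (h.trans (by simp))
  have hdimC : topologicalKrullDim ↥C = topologicalKrullDim ↥I.subscheme := by
    rw [← hι]
    exact ((ι.isEmbedding.toHomeomorph).isHomeomorph.topologicalKrullDim_eq _).symm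
  have hdimR : topologicalKrullDim ↥π.image = topologicalKrullDim ↥R := by
    have hr : Set.range π.imageι = R := by
      rw [Scheme.IdealSheafData.range_subschemeι, Scheme.Hom.support_ker, closure_eq_iff_isClosed.2 hR]
    rw [← hr]
    exact (π.imageι.isEmbedding.toHomeomorph).isHomeomorph.topologicalKrullDim_eq _
  rw [← hCd, hdimC, ← hdimR, DimFormulaIrr.topologicalKrullDim_eq_iSup I.subscheme,
    DimFormulaIrr.topologicalKrullDim_eq_iSup π.image]
  exact iSup_le fun w => (hstalk w).trans (le_iSup (fun v => ringKrullDim (π.image.presheaf.stalk v)) (g w))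

end Groth.Agent.S17653
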