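import Mathlib
import Groth.Statements.S17658
-- import your own Groth.Agent.* helpers here

set_option autoImplicit false
universe u
open Surf

namespace Groth.Agent.S17658

section

open MvPolynomial

variable {k : Type*} [Field k]

/-- monomials of given bidegree. -/
def mons (k : Type*) [Field k] (a b : ℕ) : Set (MvPolynomial (Fin 4) k) :=
  {f | ∃ e : Fin 4 →₀ ℕ, e 2 + e 3 = a ∧ e 0 + e 1 = b + e 2 ∧ f = MvPolynomial.monomial e 1}

lemma mem_span_mons {a b : ℕ} {p : MvPolynomial (Fin 4) k} :
    p ∈ Submodule.span k (mons k a b) ↔ ∀ e ∈ p.support, e 2 + e 3 = a ∧ e 0 + e 1 = b + e 2 := by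
  constructor
  · intro hp
    induction hp using Submodule.span_induction with
    | mem p hp =>
      obtain ⟨e, h1, h2, rfl⟩ := hp
      intro e' he'
      classical
      rw [MvPolynomial.support_monomial, if_neg one_ne_zero, Finset.mem_singleton] at he'
      subst he'
      exact ⟨h1, h2⟩
    | zero => simp
    | add p q _ _ hp hq =>
      intro e he
      rcases Finset.mem_union.1 (MvPolynomial.support_add he) with h | h
      · exact hp e h
      · exact hq e h
    | smul c p _ hp => exact fun e he => hp e (MvPolynomial.support_smul he)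
  · intro h
    rw [p.as_sum]
    refine Submodule.sum_mem _ fun e he => ?_
    rw [show monomial e (p.coeff e) = p.coeff e • monomial e (1 : k) by rw [MvPolynomial.smul_monomial, smul_eq_mul, mul_one]]
    exact Submodule.smul_mem _ _ (Submodule.subset_span ⟨e, (h e he).1, (h e he).2, rfl⟩)

theorem main (mo : MonomialOrder (Fin 4)) (a b c : ℕ) (W : Submodule k (MvPolynomial (Fin 4) k))
    (hW : W ≤ Submodule.span k (mons k a b))
    (h₁ : ∀ i j : ℕ, i ≤ a → j * (c + 1) < b + i → ∃ w ∈ W, w ≠ 0 ∧
      mo.degree w = Finsupp.single 0 (b + i - j * (c + 1)) + Finsupp.single 1 (j * (c + 1)) +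
        Finsupp.single 2 i + Finsupp.single 3 (a - i))
    (h₂ : ∀ i : ℕ, i ≤ a → ∃ w ∈ W, w ≠ 0 ∧
      mo.degree w = Finsupp.single 1 (b + i) + Finsupp.single 2 i + Finsupp.single 3 (a - i)) :
    W * Submodule.span k (mons k 0 c) = Submodule.span k (mons k a (b + c)) := by
  have hle : W * Submodule.span k (mons k 0 c) ≤ Submodule.span k (mons k a (b + c)) := by
    refine le_trans (mul_le_mul' hW le_rfl) ?_
    rw [Submodule.span_mul_span, Submodule.span_le]
    rintro _ ⟨_, ⟨e, he1, he2, rfl⟩, _, ⟨d, hd1, hd2, rfl⟩, rfl⟩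
    refine Submodule.subset_span ⟨e + d, ?_, ?_, by simp [MvPolynomial.monomial_mul]⟩
    · simp only [Finsupp.add_apply]; omega
    · simp only [Finsupp.add_apply]; omega
  refine le_antisymm hle ?_
  suffices key : ∀ s : mo.syn, ∀ p, p ∈ Submodule.span k (mons k a (b + c)) →
      (p = 0 ∨ mo.toSyn (mo.degree p) = s) → p ∈ W * Submodule.span k (mons k 0 c) from
    fun p hp => key _ p hp (Or.inr rfl)
  intro s
  induction s using WellFoundedLT.induction with
  | _ s ih =>
    intro p hp hs
    rcases eq_or_ne p 0 with rfl | hp0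
    · exact zero_mem _
    replace hs := hs.resolve_left hp0
    set e := mo.degree p with he
    obtain ⟨he1, he2⟩ := mem_span_mons.1 hp e (mo.degree_mem_support hp0)
    -- choose a leading monomial of `W` dividing `e`
    have hi : e 2 ≤ a := by omega
    obtain ⟨w, hw, hw0, d, hd1, hd2, hde⟩ : ∃ w ∈ W, w ≠ 0 ∧ ∃ d : Fin 4 →₀ ℕ, d 2 + d 3 = 0 ∧ d 0 + d 1 = c + d 2 ∧ mo.degree w + d = e := by
      rcases lt_or_ge (e 1) (b + e 2) with hlt | hge
      · have hdm := Nat.div_add_mod (e 1) (c + 1)
        have hmod := Nat.mod_lt (e 1) (show 0 < c + 1 by omega)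
        have hcomm := mul_comm (c + 1) (e 1 / (c + 1))
        obtain ⟨w, hw, hw0, hdeg⟩ := h₁ (e 2) (e 1 / (c + 1)) hi (by omega)
        refine ⟨w, hw, hw0, Finsupp.single 0 (c - e 1 % (c + 1)) + Finsupp.single 1 (e 1 % (c + 1)), ?_, ?_, ?_⟩
        · simp
        · simp; omega
        · rw [hdeg]
          refine Finsupp.ext fun t => ?_
          fin_cases t <;> simp <;> omega
      · obtain ⟨w, hw, hw0, hdeg⟩ := h₂ (e 2) hi
        refine ⟨w, hw, hw0, Finsupp.single 0 (e 0) + Finsupp.single 1 (e 1 - (b + e 2)), ?_, ?_, ?_⟩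
        · simp
        · simp; omega
        · rw [hdeg]
          refine Finsupp.ext fun t => ?_
          fin_cases t <;> simp <;> omega
    set q := w * monomial d (1 : k) with hq
    have hm0 : (monomial d (1 : k)) ≠ 0 := by simp
    have hqW : q ∈ W * Submodule.span k (mons k 0 c) :=
      Submodule.mul_mem_mul hw (Submodule.subset_span ⟨d, hd1, hd2, rfl⟩)
    have hq0 : q ≠ 0 := mul_ne_zero hw0 hm0
    have hqdeg : mo.degree q = e := by
      classical
      rw [hq, mo.degree_mul hw0 hm0, mo.degree_monomial, if_neg one_ne_zero, hde]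
    have hcq : q.coeff e ≠ 0 := hqdeg ▸ MvPolynomial.mem_support_iff.1 (mo.degree_mem_support hq0)
    set p' := p - (p.coeff e / q.coeff e) • q with hp'
    have hp'mem : p' ∈ W * Submodule.span k (mons k 0 c) := by
      rcases eq_or_ne p' 0 with h0 | h0
      · rw [h0]; exact zero_mem _
      refine ih (mo.toSyn (mo.degree p')) ?_ p' (sub_mem hp (Submodule.smul_mem _ _ (hle hqW))) (Or.inr rfl)
      have hsupp := mo.degree_mem_support h0
      have hne : mo.degree p' ≠ e := by
        intro h
        rw [h] at hsupp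
        exact MvPolynomial.mem_support_iff.1 hsupp (by simp [hp', MvPolynomial.coeff_smul, div_mul_cancel₀ _ hcq])
      rw [← hs]
      refine lt_of_le_of_ne ?_ (fun h => hne (mo.toSyn.injective h))
      rcases Finset.mem_union.1 (Finset.mem_of_subset (MvPolynomial.support_sub _ p _) hsupp) with h | h
      · exact mo.le_degree h
      · rw [← hqdeg]; exact mo.le_degree (MvPolynomial.support_smul h)
    have : p = p' + (p.coeff e / q.coeff e) • q := by rw [hp']; abel
    rw [this]
    exact add_mem hp'mem (Submodule.smul_mem _ _ hqW)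

end

/-- In the polynomial ring k[T₀,T₁,U,V] over a field k, bigraded by deg T₀ = deg T₁ = (0,1), deg U =
(1,−1), deg V = (1,0) (the Cox ring of the Hirzebruch surface F₁; its piece of bidegree (a,b) is the
space of sections of O(a(E+F)+bF)), let S_(a,b) denote the k-span of the monomials of bidegree
(a,b), so that S_(0,c) is the space of forms of degree c in T₀, T₁. A subspace W ⊆ S_(a,b) is called
c-generating when W·S_(0,c) = S_(a,b+c). Fix a monomial order and natural numbers a, b, c, and let
W₀(a,b,c) be the set of monomials U^i V^(a−i) T₀^(b+i−j(c+1)) T₁^(j(c+1)) with 0 ≤ i ≤ a, j ≥ 0 and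
j(c+1) < b+i, together with the monomials U^i V^(a−i) T₁^(b+i) with 0 ≤ i ≤ a. If every monomial of
W₀(a,b,c) is the leading monomial of some nonzero element of W, then W is c-generating. (The source
fixes the graded lexicographic order with U > V > T₀ > T₁ and works over the complex numbers; its
argument uses only that leading monomials are multiplicative and that W₀(a,b,c)·S_(0,c) contains
every monomial of S_(a,b+c), so any monomial order and any field are allowed here. The printed index
j runs from 1; with that range the statement fails already for a = 0, b = c = 1 and W spanned by T₁,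
and the range from 0 used here is the one matching the accompanying dimension count.) Variables are
indexed T₀ = 0, T₁ = 1, U = 2, V = 3. -/
theorem result (k : Type u) [Field k]
    (mo : MonomialOrder (Fin 4)) (a b c : ℕ) (W : Submodule k (MvPolynomial (Fin 4) k))
    (hW : W ≤ Submodule.span k {f : MvPolynomial (Fin 4) k | ∃ e : Fin 4 →₀ ℕ, e 2 + e 3 = a ∧ e 0 + e 1 = b + e 2 ∧ f = MvPolynomial.monomial e 1})
    (h₁ : ∀ i j : ℕ, i ≤ a → j * (c + 1) < b + i → ∃ w ∈ W, w ≠ 0 ∧
      mo.degree w = Finsupp.single 0 (b + i - j * (c + 1)) + Finsupp.single 1 (j * (c + 1)) +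
        Finsupp.single 2 i + Finsupp.single 3 (a - i))
    (h₂ : ∀ i : ℕ, i ≤ a → ∃ w ∈ W, w ≠ 0 ∧
      mo.degree w = Finsupp.single 1 (b + i) + Finsupp.single 2 i + Finsupp.single 3 (a - i)) :
    W * Submodule.span k {f : MvPolynomial (Fin 4) k | ∃ e : Fin 4 →₀ ℕ, e 2 + e 3 = 0 ∧ e 0 + e 1 = c + e 2 ∧ f = MvPolynomial.monomial e 1} =
      Submodule.span k {f : MvPolynomial (Fin 4) k | ∃ e : Fin 4 →₀ ℕ, e 2 + e 3 = a ∧ e 0 + e 1 = (b + c) + e 2 ∧ f = MvPolynomial.monomial e 1} := by
  exact main mo a b c W hW h₁ h₂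

end Groth.Agent.S17658
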