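import Groth.Statements.S17662
import Mathlib
set_option linter.style.haveILetI false

set_option autoImplicit false
universe u
open CIDisc

namespace Groth.Agent.S17662

/-- The Cauchy–Binet formula. -/
theorem cauchyBinet {R : Type u} [CommRing R] {e r : ℕ} (B : Matrix (Fin e) (Fin r) R)
    (N : Matrix (Fin r) (Fin e) R) :
    (B * N).det = ∑ p : {s : Finset (Fin r) // s.card = e},
      (B.submatrix id (p.1.orderEmbOfFin p.2)).det * (N.submatrix (p.1.orderEmbOfFin p.2) id).det := by
  classical
  let g1 : AlternatingMap R (Fin r → R) R (Fin e) :=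
    (Matrix.detRowAlternating (R := R) (n := Fin e)).compLinearMap (Matrix.vecMulLinear N)
  let g2 : AlternatingMap R (Fin r → R) R (Fin e) :=
    ∑ p : {s : Finset (Fin r) // s.card = e}, (N.submatrix (p.1.orderEmbOfFin p.2) id).det •
      (Matrix.detRowAlternating (R := R) (n := Fin e)).compLinearMap (LinearMap.funLeft R R (p.1.orderEmbOfFin p.2))
  have h1 : ∀ w : Fin e → Fin r → R, g1 w = (Matrix.of w * N).det := fun w => by
    show Matrix.det _ = _
    congr 1
  have h2 : ∀ w : Fin e → Fin r → R, g2 w = ∑ p : {s : Finset (Fin r) // s.card = e},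
      ((Matrix.of w).submatrix id (p.1.orderEmbOfFin p.2)).det * (N.submatrix (p.1.orderEmbOfFin p.2) id).det := fun w => by
    have hsum : ∀ {ι : Type} (t : Finset ι) (φ : ι → AlternatingMap R (Fin r → R) R (Fin e)),
        (∑ i ∈ t, φ i) w = ∑ i ∈ t, φ i w := by
      intro ι t φ
      induction t using Finset.induction_on with
      | empty => simp
      | insert x t hx ih => rw [Finset.sum_insert hx, Finset.sum_insert hx, AlternatingMap.add_apply, ih]
    exact (hsum _ _).trans (Finset.sum_congr rfl fun p _ => mul_comm _ _)
  have hg : g1 = g2 := by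
    refine Module.Basis.ext_alternating (Pi.basisFun R (Fin r)) fun f hf => ?_
    let q : {s : Finset (Fin r) // s.card = e} :=
      ⟨Finset.univ.image f, by rw [Finset.card_image_of_injective _ hf, Finset.card_univ, Fintype.card_fin]⟩
    let o := q.1.orderEmbOfFin q.2
    have hmem : ∀ a, ∃ b, o b = f a := fun a => by
      have : f a ∈ Set.range o := by
        rw [Finset.range_orderEmbOfFin]; exact Finset.mem_image_of_mem f (Finset.mem_univ a)
      exact this
    choose σ hσ using hmem
    have hσi : Function.Injective σ := fun a b h => hf (by rw [← hσ a, ← hσ b, h])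
    let τ : Equiv.Perm (Fin e) := Equiv.ofBijective σ (Finite.injective_iff_bijective.1 hσi)
    rw [show (fun a => (Pi.basisFun R (Fin r)) (f a)) = (fun a => (Pi.basisFun R (Fin r)) (o a)) ∘ τ from
      funext fun a => by simp [τ, hσ], AlternatingMap.map_perm, AlternatingMap.map_perm, h1, h2]
    congr 1
    rw [Finset.sum_eq_single q (fun p _ hpq => ?_) (fun h => absurd (Finset.mem_univ q) h)]
    · have e1 : (Matrix.of fun a => (Pi.basisFun R (Fin r)) (o a)) * N = N.submatrix o id := by
        ext a b
        simp [Matrix.mul_apply, Pi.single_apply]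
      have e2 : (Matrix.of fun a => (Pi.basisFun R (Fin r)) (o a)).submatrix id o = 1 := by
        ext a b
        simp [Pi.single_apply, Matrix.one_apply, eq_comm]
      rw [e1, e2, Matrix.det_one, one_mul]
    · have hex : ∃ b, p.1.orderEmbOfFin p.2 b ∉ q.1 := by
        by_contra hcon
        push Not at hcon
        refine hpq (Subtype.ext (Finset.eq_of_subset_of_card_le (fun z hz => ?_) (by rw [p.2, q.2])))
        obtain ⟨b, rfl⟩ : z ∈ Set.range (p.1.orderEmbOfFin p.2) := by rw [Finset.range_orderEmbOfFin]; exact hz
        exact hcon b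
      obtain ⟨b, hb⟩ := hex
      rw [Matrix.det_eq_zero_of_column_eq_zero b (fun a => ?_), zero_mul]
      have : o a ≠ p.1.orderEmbOfFin p.2 b := fun h => hb (h ▸ q.1.orderEmbOfFin_mem q.2 a)
      simp [Pi.single_apply, this, this.symm]
  exact (h1 B).symm.trans ((congrArg (fun g => g B) hg).trans (h2 B))


/-- Let R be a commutative ring, M an r × n matrix over R and e ≥ 0; for each e-element set L of row
indices let A_L be an e × r matrix over R, and form the square matrix, indexed by the e-element sets
of row indices, whose (L, L') entry is the e × e minor of A_L on the columns L'. If the determinant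
of that square matrix is a unit, then the sum over L of the ideals generated by the e × e minors of
the products A_L · M is the ideal generated by all e × e minors of M. (In the source R is the
coordinate ring of an affine scheme X of codimension e cut out by f_1, …, f_r in affine n-space, M
is the image of the Jacobian matrix of the f_j, the A_L have entries in the ground field and cut out
complete intersections Z_L = V(A_L · f), so that the two sides are Σ_L Jac(Z_L) and Jac(X); the
source states the equality for general A_L and establishes it under the present invertibility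
condition, which it shows to be generic.) -/
theorem result {R : Type u} [CommRing R] (e r n : ℕ)
    (M : Matrix (Fin r) (Fin n) R)
    (A : {s : Finset (Fin r) // s.card = e} → Matrix (Fin e) (Fin r) R)
    (hA : IsUnit (Matrix.det (Matrix.of fun i j : {s : Finset (Fin r) // s.card = e} =>
      ((A i).submatrix id (j.1.orderEmbOfFin j.2)).det))) :
    (⨆ i, Ideal.span (Set.range fun t : {s : Finset (Fin n) // s.card = e} =>
        ((A i * M).submatrix id (t.1.orderEmbOfFin t.2)).det)) =
      Ideal.span (Set.range fun p : {s : Finset (Fin r) // s.card = e} × {s : Finset (Fin n) // s.card = e} =>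
        (M.submatrix (p.1.1.orderEmbOfFin p.1.2) (p.2.1.orderEmbOfFin p.2.2)).det) := by
  classical
  let P := {s : Finset (Fin r) // s.card = e}
  let C : Matrix P P R := Matrix.of fun i j : P => ((A i).submatrix id (j.1.orderEmbOfFin j.2)).det
  let D : P → {s : Finset (Fin n) // s.card = e} → R :=
    fun p t => (M.submatrix (p.1.orderEmbOfFin p.2) (t.1.orderEmbOfFin t.2)).det
  have hCB : ∀ i t, ((A i * M).submatrix id (t.1.orderEmbOfFin t.2)).det = C.mulVec (fun p => D p t) i := by
    intro i t
    rw [show (A i * M).submatrix id (t.1.orderEmbOfFin t.2) = A i * M.submatrix id (t.1.orderEmbOfFin t.2) from rfl,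
      cauchyBinet]
    rfl
  apply le_antisymm
  · refine iSup_le fun i => Ideal.span_le.2 ?_
    rintro _ ⟨t, rfl⟩
    show ((A i * M).submatrix id (t.1.orderEmbOfFin t.2)).det ∈ Ideal.span _
    rw [hCB]
    simp only [Matrix.mulVec, dotProduct]
    exact Ideal.sum_mem _ fun p _ => Ideal.mul_mem_left _ _ (Ideal.subset_span ⟨(p, t), rfl⟩)
  · refine Ideal.span_le.2 ?_
    rintro _ ⟨⟨p, t⟩, rfl⟩
    show D p t ∈ _
    have h : (fun p => D p t) = C⁻¹.mulVec (C.mulVec fun p => D p t) := by
      rw [Matrix.mulVec_mulVec, Matrix.nonsing_inv_mul _ hA, Matrix.one_mulVec]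
    rw [congrFun h p]
    show ∑ i, C⁻¹ p i * C.mulVec (fun p => D p t) i ∈ _
    refine Ideal.sum_mem _ fun i _ => Ideal.mul_mem_left _ _ ?_
    rw [← hCB]
    exact Submodule.mem_iSup_of_mem i (Ideal.subset_span ⟨t, rfl⟩)

end Groth.Agent.S17662
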