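import Groth.Statements.S1767
import Groth.Agent.DQCPush.Trunc
import Groth.Agent.HigherDirect.Base
-- import your own Groth.Agent.* helpers here

set_option autoImplicit false
universe u
open CategoryTheory CategoryTheory.Limits AlgebraicGeometry
attribute [local instance] HasDerivedCategory.standard
open Dual

namespace Groth.Agent.S1767

/-- Let f : X → Y be a morphism between quasi-compact quasi-separated schemes. Assume the derived direct
image Rf_* exists and preserves quasi-coherence of cohomology sheaves (both known results), so that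
it restricts to a functor D_QCoh(O_X) → D_QCoh(O_Y), and let a : D_QCoh(O_Y) → D_QCoh(O_X) be a
right adjoint of this restricted functor. Then there is an integer N ≥ 0 such that for every K in
D_QCoh(O_Y) and every integer c, if H^i(K) = 0 for all i ≤ c then H^i(a(K)) = 0 for all i ≤ c − N;
in particular a sends bounded-below objects to bounded-below objects. -/
theorem result (X Y : Scheme.{u}) [CompactSpace X] [QuasiSeparatedSpace X] [CompactSpace Y] [QuasiSeparatedSpace Y] (f : X ⟶ Y) [DCoh.HasRpush f] (h : ∀ K : DCoh.D X, DCoh.IsQCohD K → DCoh.IsQCohD ((DCoh.Rpush f).obj K)) (a : DCoh.DQCoh Y ⥤ DCoh.DQCoh X) (adj : (ObjectProperty.lift DCoh.IsQCohD (ObjectProperty.ι DCoh.IsQCohD ⋙ DCoh.Rpush f) (fun K => h K.obj K.property)) ⊣ a) : ∃ N : ℕ, ∀ (K : DCoh.DQCoh Y) (c : ℤ), (∀ i : ℤ, i ≤ c → IsZero (DCoh.HD K.obj i)) → ∀ i : ℤ, i ≤ c - N → IsZero (DCoh.HD (a.obj K).obj i) := by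
  haveI := Groth.Agent.HigherDirect.hasInjectiveResolutions_modules X
  haveI : QuasiSeparated f := inferInstance
  haveI : QuasiCompact f := inferInstance
  obtain ⟨N, hN⟩ := Groth.Agent.DQCPush.exists_Bound f
  refine ⟨N, fun K c hK i hi => ?_⟩
  let t : CategoryTheory.Triangulated.TStructure (DCoh.D X) := DerivedCategory.TStructure.t
  let E : DCoh.DQCoh X := ⟨(t.truncLE (c - N)).obj (a.obj K).obj,
    Groth.Agent.DQCPush.isQCohD_truncLE _ (a.obj K).property _⟩
  let ι₀ : E ⟶ a.obj K := ObjectProperty.homMk ((t.truncLEι (c - N)).app (a.obj K).obj)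
  have h0 : (adj.homEquiv E K).symm ι₀ = 0 := by
    haveI : E.obj.IsLE (c - N) :=
      inferInstanceAs (t.IsLE ((t.truncLE (c - N)).obj (a.obj K).obj) (c - N))
    refine ObjectProperty.hom_ext _ (DerivedCategory.TStructure.t.zero_of_isLE_of_isGE _ c (c + 1)
      (lt_add_one c) ?_ ?_)
    · exact (DerivedCategory.isLE_iff _ _).2 fun j hj =>
        Groth.Agent.DQCPush.isZero_HD_Rpush_high f hN E.obj E.property (c - N) j (by omega)
    · exact (DerivedCategory.isGE_iff _ _).2 fun j hj => hK j (by omega)
  have h1 : ι₀ = 0 := by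
    have h2 : adj.homEquiv E K 0 = 0 := by
      have : (ObjectProperty.lift DCoh.IsQCohD (ObjectProperty.ι DCoh.IsQCohD ⋙ DCoh.Rpush f)
          (fun K => h K.obj K.property)).IsLeftAdjoint := adj.isLeftAdjoint
      rw [adj.homEquiv_unit]
      haveI : a.IsRightAdjoint := adj.isRightAdjoint
      haveI : PreservesLimitsOfSize.{0, 0} a := adj.rightAdjoint_preservesLimits
      rw [Functor.map_zero, comp_zero]
    rw [← h2, ← h0, Equiv.apply_symm_apply]
  haveI := Groth.Agent.DQCPush.isIso_homology_truncLEι (a.obj K).obj (c - N) i hi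
  refine (IsZero.iff_id_eq_zero _).2 ?_
  rw [← cancel_epi ((DerivedCategory.homologyFunctor X.Modules i).map ((t.truncLEι (c - N)).app (a.obj K).obj))]
  rw [show (t.truncLEι (c - N)).app (a.obj K).obj = 0 from congrArg (fun φ => φ.hom) h1, Functor.map_zero, zero_comp, zero_comp]

end Groth.Agent.S1767
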