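import Mathlib
import Groth.Statements.S17677
-- import your own Groth.Agent.* helpers here

set_option autoImplicit false
universe u
open Hoch

namespace Groth.Agent.S17677

open scoped TensorProduct

/-- Let k be a commutative ring, M a commutative monoid and V a right comodule over the monoid bialgebra
k[M] (a quasi-coherent module with an action of the diagonalizable monoid scheme Spec k[M]). Then
every 1-cocycle of the Hochschild complex of V is a 1-coboundary, i.e. the first Hochschild
cohomology module of the diagonalizable monoid with coefficients in V is zero. (The source works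
over an algebraic space with M finitely generated and cancellative, hypotheses it uses only to
identify modules under the monoid with comodules; the cocycle computation, which is the affine
statement given here, uses neither.) -/
theorem result (k : Type u) [CommRing k] (M : Type u)
    [AddCommMonoid M] (V : Type u) [AddCommGroup V] [Module k V]
    [HopfRep.Comod k (AddMonoidAlgebra k M) V] :
    Hoch.cocycles k (AddMonoidAlgebra k M) V 1 ≤ Hoch.coboundaries k (AddMonoidAlgebra k M) V 1 := by
  classical
  intro f hf
  let A := AddMonoidAlgebra k M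
  let φ : A →ₗ[k] k :=
    { toFun := fun a => a.coeff 0
      map_add' := fun a b => by simp [A, AddMonoidAlgebra.coeff_add]
      map_smul' := fun r a => AddMonoidAlgebra.coeff_smul_apply r a 0 }
  have hφ1 : φ 1 = 1 := by simp [φ, AddMonoidAlgebra.one_def]
  have hφΔ : ∀ a : A, (TensorProduct.rid k A) (φ.lTensor A (Coalgebra.comul (R := k) a)) = φ a • (1 : A) := by
    intro a
    induction a using AddMonoidAlgebra.induction_linear with
    | zero => simp
    | add a b ha hb => simp [ha, hb, add_smul]
    | single m r =>
      have hs : ∀ (x : M) (t : k), φ (AddMonoidAlgebra.single x t) = if x = 0 then t else 0 := fun x t => Finsupp.single_apply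
      rw [hs, AddMonoidAlgebra.comul_single]
      by_cases hm : m = 0
      · subst hm
        simp [hs, TensorProduct.map_tmul]
        rfl
      · simp [hs, hm, TensorProduct.map_tmul]
  let L₀ : V ⊗[k] A →ₗ[k] V := (TensorProduct.rid k V).toLinearMap ∘ₗ φ.lTensor V
  let L₁ : (V ⊗[k] A) ⊗[k] A →ₗ[k] V ⊗[k] A := (TensorProduct.rid k _).toLinearMap ∘ₗ φ.lTensor (V ⊗[k] A)
  have h1 : ∀ x : V ⊗[k] A, L₁ ((Hoch.d k A V 0).rTensor A x) = Hoch.d k A V 0 (L₀ x) := by
    intro x
    induction x with
    | zero => simp
    | add a b ha hb => simp only [map_add, ha, hb]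
    | tmul v a => simp [L₁, L₀]
  have h2 : ∀ x : V ⊗[k] A, L₁ (Hoch.tail k A V x) = -x := by
    intro x
    induction x with
    | zero => simp
    | add a b ha hb => rw [map_add, map_add, ha, hb, neg_add]
    | tmul v a =>
      have key : ∀ w : A ⊗[k] A, L₁ ((TensorProduct.assoc k V A A).symm (v ⊗ₜ w)) = v ⊗ₜ[k] (TensorProduct.rid k A (φ.lTensor A w)) := by
        intro w
        induction w with
        | zero => simp
        | add a b ha hb => simp only [TensorProduct.tmul_add, map_add, ha, hb]
        | tmul b c => simp [L₁, TensorProduct.tmul_smul]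
      rw [Hoch.tail_tmul, key]
      simp [hφΔ, hφ1, TensorProduct.tmul_neg]
  have h0 : L₁ ((Hoch.d k A V 0).rTensor A f + ((-1 : k) ^ (0 + 1)) • Hoch.tail k A V f) = 0 := by
    have : (Hoch.d k A V 0).rTensor A f + ((-1 : k) ^ (0 + 1)) • Hoch.tail k A V f = 0 := hf
    rw [this, map_zero]
  rw [map_add, map_smul, h1, h2] at h0
  refine ⟨-(L₀ f), ?_⟩
  rw [map_neg, neg_eq_iff_eq_neg]
  exact eq_neg_of_add_eq_zero_left (by simpa using h0)

end Groth.Agent.S17677
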