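import Mathlib
import Groth.Statements.S17679
-- import your own Groth.Agent.* helpers here

set_option autoImplicit false
open DiagMon

namespace Groth.Agent.S17679

/-- For n ≥ 1 the minimal number of generators of ℤ^n as an additive monoid is n + 1: some n + 1
elements generate ℤ^n as a monoid, and every finite set generating ℤ^n as a monoid has at least n +
1 elements. (For n = 0 the empty set generates the zero monoid, so the count n + 1 is stated for n ≥
1 only.) -/
theorem result (n : ℕ) (hn : 1 ≤ n) :
    (∃ s : Finset (Fin n → ℤ), s.card = n + 1 ∧ AddSubmonoid.closure (s : Set (Fin n → ℤ)) = ⊤) ∧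
    ∀ s : Finset (Fin n → ℤ), AddSubmonoid.closure (s : Set (Fin n → ℤ)) = ⊤ → n + 1 ≤ s.card := by
  classical
  constructor
  · let u : Fin n → Fin n → ℤ := fun i => Pi.single i 1
    have hu : Function.Injective u := fun i j h => by
      by_contra hne
      have := congr_fun h i
      simp [u, Pi.single_apply, hne] at this
    refine ⟨insert (-1 : Fin n → ℤ) (Finset.univ.image u), ?_, eq_top_iff.2 fun v _ => ?_⟩
    · rw [Finset.card_insert_of_notMem, Finset.card_image_of_injective _ hu, Finset.card_univ, Fintype.card_fin]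
      intro h
      obtain ⟨i, -, hi⟩ := Finset.mem_image.1 h
      have := congr_fun hi i
      simp [u] at this
    set S := AddSubmonoid.closure ((insert (-1 : Fin n → ℤ) (Finset.univ.image u) : Finset (Fin n → ℤ)) : Set (Fin n → ℤ))
    have h1 : (-1 : Fin n → ℤ) ∈ S := AddSubmonoid.subset_closure (by simp)
    have h2 : ∀ i, u i ∈ S := fun i => AddSubmonoid.subset_closure (by simp)
    let N : ℕ := ∑ i, (v i).natAbs
    have hv : v = N • (-1 : Fin n → ℤ) + ∑ i, (v i + N).toNat • u i := by
      funext j
      rw [Pi.add_apply, Finset.sum_apply, Finset.sum_eq_single j (fun c _ hc => by simp [u, Pi.single_eq_of_ne (Ne.symm hc)]) (by simp)]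
      simp only [Pi.smul_apply, Pi.neg_apply, Pi.one_apply, u, Pi.single_eq_same, nsmul_eq_mul, mul_one, mul_neg]
      have : (v j).natAbs ≤ N := Finset.single_le_sum (f := fun i => (v i).natAbs) (fun _ _ => Nat.zero_le _) (Finset.mem_univ j)
      omega
    rw [hv]
    exact add_mem (nsmul_mem h1 _) (sum_mem fun i _ => nsmul_mem (h2 i) _)
  · intro s hs
    by_contra hcon
    have hle : s.card ≤ n := by omega
    let Φ : (s → ℤ) →ₗ[ℤ] (Fin n → ℤ) := ∑ i : s, (LinearMap.proj i).smulRight (i : Fin n → ℤ)
    have hΦ : ∀ c, Φ c = ∑ i : s, c i • (i : Fin n → ℤ) := fun c => by simp [Φ]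
    have hnat : ∀ w : Fin n → ℤ, ∃ c : s → ℕ, w = ∑ i : s, (c i : ℤ) • (i : Fin n → ℤ) := by
      intro w
      have hw : w ∈ AddSubmonoid.closure (s : Set (Fin n → ℤ)) := hs ▸ trivial
      induction hw using AddSubmonoid.closure_induction with
      | mem x hx => exact ⟨Pi.single ⟨x, hx⟩ 1, by simp [Pi.single_apply, Finset.sum_ite_eq']⟩
      | zero => exact ⟨0, by simp⟩
      | add x y _ _ hx hy =>
        obtain ⟨c, rfl⟩ := hx
        obtain ⟨d, rfl⟩ := hy
        exact ⟨c + d, by simp [add_smul, Finset.sum_add_distrib]⟩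
    have hsurj : Function.Surjective Φ := fun w => by
      obtain ⟨c, hc⟩ := hnat w
      exact ⟨fun i => c i, by rw [hΦ, hc]⟩
    obtain ⟨ι⟩ : Nonempty (s ↪ Fin n) := Function.Embedding.nonempty_of_card_le (by simpa using hle)
    have hinj : Function.Injective Φ := by
      let G : (Fin n → ℤ) →ₗ[ℤ] (s → ℤ) := LinearMap.funLeft ℤ ℤ ι
      have h := OrzechProperty.injective_of_surjective_endomorphism (Φ.comp G)
        (hsurj.comp (LinearMap.funLeft_surjective_of_injective ℤ ℤ ι ι.injective))
      intro c d hcd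
      obtain ⟨c', rfl⟩ := LinearMap.funLeft_surjective_of_injective ℤ ℤ ι ι.injective c
      obtain ⟨d', rfl⟩ := LinearMap.funLeft_surjective_of_injective ℤ ℤ ι ι.injective d
      rw [h (show Φ.comp G c' = Φ.comp G d' from hcd)]
    obtain ⟨c, hc⟩ := hnat (-(∑ i : s, (i : Fin n → ℤ)))
    have h0 : Φ (fun i => (c i : ℤ) + 1) = Φ 0 := by
      rw [map_zero, hΦ]
      simp only [add_smul, one_smul, Finset.sum_add_distrib, ← hc, neg_add_cancel]
    rcases isEmpty_or_nonempty s with he | ⟨⟨i⟩⟩
    · obtain ⟨d, hd⟩ := hnat (Pi.single ⟨0, hn⟩ 1)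
      simp [Finset.univ_eq_empty] at hd
    · have := congr_fun (hinj h0) i
      simp only [Pi.zero_apply] at this
      omega

end Groth.Agent.S17679
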