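import Groth.Statements.S17681
import Groth.Agent.FieldExtConn.Conn
-- import your own Groth.Agent.* helpers here

set_option autoImplicit false
universe u
open CategoryTheory MonoidalCategory CartesianMonoidalCategory MonObj GrpObj AlgebraicGeometry
open AlgGrp

namespace Groth.Agent.S17681


section
open CategoryTheory.Limits

variable {X Y P : Scheme.{u}}

/-- Two maps into an unramified scheme are equal if they land pointwise in the diagonal. -/
lemma eq_of_mem_range_diagonal (f : X ⟶ Y) [FormallyUnramified f] [LocallyOfFiniteType f] (α β : P ⟶ X)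
    (h : α ≫ f = β ≫ f)
    (hp : ∀ p : P, pullback.lift α β h p ∈ Set.range (pullback.diagonal f)) : α = β := by
  let l := pullback.lift α β h
  have hl : Set.range l ⊆ Set.range (pullback.diagonal f) := by
    rintro _ ⟨p, rfl⟩
    exact hp p
  have e := IsOpenImmersion.lift_fac (pullback.diagonal f) l hl
  have h1 := congrArg (· ≫ pullback.fst f f) e
  have h2 := congrArg (· ≫ pullback.snd f f) e
  simp only [Category.assoc, pullback.diagonal_fst, pullback.diagonal_snd, l, pullback.lift_fst,
    pullback.lift_snd, Category.comp_id] at h1 h2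
  exact h1.symm.trans h2

lemma lqf_of_etale {X Y : Scheme.{u}} (k : X ⟶ Y) [Etale k] : LocallyQuasiFinite k := by
  rw [HasRingHomProperty.iff_appLE (P := @LocallyQuasiFinite)]
  intro U V e
  have h := HasRingHomProperty.appLE (P := @Etale) k inferInstance U V e
  algebraize [(k.appLE U V e).hom]
  exact RingHom.quasiFinite_algebraMap.2 inferInstance

lemma geometricallyConnected_id (X : Scheme.{u}) : GeometricallyConnected (𝟙 X) :=
  ⟨geometrically_iff_of_isClosedUnderIsomorphisms.mpr fun K _ y =>
    (asIso (pullback.snd (𝟙 X) y)).hom.homeomorph.connectedSpace_iff.mpr inferInstance⟩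

lemma eq_of_agree_somewhere {K : Type u} [Field K] {Z Q : Scheme.{u}} (z : Z ⟶ Spec (CommRingCat.of K))
    [Etale z] [PreconnectedSpace Q] (α β : Q ⟶ Z) (h : α ≫ z = β ≫ z) {R : Scheme.{u}} [Nonempty R]
    (r : R ⟶ Q) (hr : r ≫ α = r ≫ β) : α = β := by
  have : Etale (pullback.fst z z) := MorphismProperty.pullback_fst _ _ inferInstance
  have : Etale (pullback.fst z z ≫ z) := MorphismProperty.comp_mem _ _ _ this inferInstance
  have := lqf_of_etale (pullback.fst z z ≫ z)
  have := (pullback.fst z z ≫ z).isDiscrete_preimage_singleton (IsLocalRing.closedPoint K)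
  have hu : (pullback.fst z z ≫ z) ⁻¹' {IsLocalRing.closedPoint K} = Set.univ :=
    Set.eq_univ_of_forall fun w => Subsingleton.elim (α := PrimeSpectrum K) _ _
  have hd : DiscreteTopology (pullback z z : Scheme.{u}) := isDiscrete_univ_iff.mp (hu ▸ this)
  refine eq_of_mem_range_diagonal z α β h fun p => ?_
  have hcl : IsClopen ((pullback.lift α β h) ⁻¹' Set.range (pullback.diagonal z)) :=
    (isClopen_discrete _).preimage (pullback.lift α β h).continuous
  obtain ⟨v⟩ := ‹Nonempty R›
  have hne : ((pullback.lift α β h) ⁻¹' Set.range (pullback.diagonal z)).Nonempty := by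
    refine ⟨r v, (r ≫ α) v, ?_⟩
    have e : r ≫ pullback.lift α β h = (r ≫ α) ≫ pullback.diagonal z := by
      apply pullback.hom_ext <;>
        simp only [Category.assoc, pullback.lift_fst, pullback.lift_snd, pullback.diagonal_fst,
          pullback.diagonal_snd, Category.comp_id, hr]
    rw [← Scheme.Hom.comp_apply, ← Scheme.Hom.comp_apply, e]
  exact Set.eq_univ_iff_forall.mp (hcl.eq_univ hne) p

end

/-- Let S be a scheme, G a flat S-group scheme of finite presentation with connected fibres, X and Y
S-schemes locally of finite presentation with actions of G, and f : X → Y an étale G-equivariant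
S-morphism; assume that S is locally Noetherian or that X and Y are quasi-separated over S. Then f
reflects fixed points: a T-point x of X whose image in Y is fixed by G after every base change T' →
T is itself fixed by G after every base change, so that the fixed-point subfunctor of X is the
preimage of that of Y. (The source allows X and Y to be algebraic spaces over S; this row is the
case of schemes.) -/
theorem result (S : Scheme.{u})
    (G : Over S) [GrpObj G] [Flat G.hom] [LocallyOfFinitePresentation G.hom] [QuasiCompact G.hom]
    [QuasiSeparated G.hom] (hconn : ∀ s : S, ConnectedSpace (G.hom.fiber s))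
    (X Y : Over S) [LocallyOfFinitePresentation X.hom] [LocallyOfFinitePresentation Y.hom]
    (hS : IsLocallyNoetherian S ∨ (QuasiSeparated X.hom ∧ QuasiSeparated Y.hom))
    (a : AlgGrp.Action G X) (b : AlgGrp.Action G Y) (f : X ⟶ Y) [Etale f.left]
    (hf : a.act ≫ f = (G ◁ f) ≫ b.act) (T : Over S) (x : T ⟶ X)
    (hx : ∀ (T' : Over S) (t : T' ⟶ T) (g : T' ⟶ G), lift g (t ≫ x ≫ f) ≫ b.act = t ≫ x ≫ f)
    (T' : Over S) (t : T' ⟶ T) (g : T' ⟶ G) : lift g (t ≫ x) ≫ a.act = t ≫ x := by
  open CategoryTheory.Limits in
  have key : (G ◁ x) ≫ a.act = snd G T ≫ x := by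
    refine Over.OverMorphism.ext ?_
    let α : (G ⊗ T).left ⟶ X.left := ((G ◁ x) ≫ a.act).left
    let β : (G ⊗ T).left ⟶ X.left := (snd G T ≫ x).left
    have hαβ : α ≫ f.left = β ≫ f.left := by
      have h := hx (G ⊗ T) (snd G T) (fst G T)
      have e : ((G ◁ x) ≫ a.act) ≫ f = (snd G T ≫ x) ≫ f := by
        rw [Category.assoc, hf, Category.assoc, ← h]
        rw [← Category.assoc, ← Category.assoc]
        congr 1
        ext1 <;> simp
      exact congrArg (fun φ => φ.left) e
    have : Etale f.left := inferInstance
    refine eq_of_mem_range_diagonal f.left α β hαβ fun p => ?_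
    let π : (G ⊗ T).left ⟶ T.left := (snd G T).left
    let r : T ⟶ G ⊗ T := lift (toUnit T ≫ η[G]) (𝟙 T)
    have hrα : r.left ≫ α = x.left := by
      have e : r ≫ (G ◁ x) ≫ a.act = x := by
        have := congrArg (fun φ => lift (toUnit T) x ≫ φ) a.one_act
        simp only [lift_leftUnitor_hom] at this
        refine Eq.trans ?_ this
        rw [← Category.assoc, ← Category.assoc]
        congr 1
        ext1 <;> simp [r]
      exact congrArg (fun φ => φ.left) e
    have hrβ : r.left ≫ β = x.left := by
      have e : r ≫ snd G T ≫ x = x := by simp [r]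
      exact congrArg (fun φ => φ.left) e
    have hrπ : r.left ≫ π = 𝟙 _ := by
      have e : r ≫ snd G T = 𝟙 T := by simp [r]
      exact congrArg (fun φ => φ.left) e
    have : GeometricallyConnected G.hom := (GeometricallyConnected.iff_geometricallyConnected_fiber G.hom).mpr fun s => by
      have : ConnectedSpace (G.hom.fiber s) := hconn s
      let e : S ⟶ G.left := (η[G]).left
      have he : e ≫ G.hom = 𝟙 S := Over.w η[G]
      let σ : Spec (S.residueField s) ⟶ G.hom.fiber s :=
        pullback.lift (S.fromSpecResidueField s ≫ e) (𝟙 _) (by simp [he])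
      have : GeometricallyConnected (σ ≫ G.hom.fiberToSpecResidueField s) := by
        rw [show σ ≫ G.hom.fiberToSpecResidueField s = 𝟙 _ from pullback.lift_snd _ _ _]
        exact geometricallyConnected_id _
      exact Groth.Agent.FieldExtConn.geometricallyConnected_of_hom (k := S.residueField s) _ σ rfl
    have : GeometricallyConnected π :=
      MorphismProperty.pullback_snd (P := @GeometricallyConnected) G.hom T.hom inferInstance
    set τ := π p
    let i := π.fiberι τ
    obtain ⟨q, hq⟩ : p ∈ Set.range i := by
      rw [Scheme.Hom.range_fiberι]; rfl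
    let y : Spec (T.left.residueField τ) ⟶ Y.left := T.left.fromSpecResidueField τ ≫ x.left ≫ f.left
    have hyβ : (i ≫ β) ≫ f.left = π.fiberToSpecResidueField τ ≫ y := by
      have e : β = π ≫ x.left := rfl
      have hc : i ≫ π = π.fiberToSpecResidueField τ ≫ T.left.fromSpecResidueField τ := pullback.condition
      simp only [e, y, Category.assoc, reassoc_of% hc]
    have hyα : (i ≫ α) ≫ f.left = π.fiberToSpecResidueField τ ≫ y := by
      rw [Category.assoc, hαβ, ← Category.assoc, hyβ]
    let α' : π.fiber τ ⟶ pullback f.left y := pullback.lift (i ≫ α) (π.fiberToSpecResidueField τ) hyα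
    let β' : π.fiber τ ⟶ pullback f.left y := pullback.lift (i ≫ β) (π.fiberToSpecResidueField τ) hyβ
    let ρ : Spec (T.left.residueField τ) ⟶ π.fiber τ :=
      pullback.lift (T.left.fromSpecResidueField τ ≫ r.left) (𝟙 _) (by simp [hrπ])
    have hρi : ρ ≫ i = T.left.fromSpecResidueField τ ≫ r.left := pullback.lift_fst _ _ _
    have : Etale (pullback.snd f.left y) := MorphismProperty.pullback_snd _ _ inferInstance
    have hz : α' ≫ pullback.snd f.left y = β' ≫ pullback.snd f.left y := by
      simp only [α', β', pullback.lift_snd]
    have heq : α' = β' := eq_of_agree_somewhere (K := T.left.residueField τ) (pullback.snd f.left y) α' β'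
      hz ρ (by
        apply pullback.hom_ext
        · simp only [α', β', Category.assoc, pullback.lift_fst, reassoc_of% hρi, hrα, hrβ]
        · simp only [α', β', Category.assoc, pullback.lift_snd])
    have hi : i ≫ α = i ≫ β := by
      have := congrArg (· ≫ pullback.fst f.left y) heq
      simpa only [α', β', pullback.lift_fst] using this
    refine ⟨(i ≫ α) q, ?_⟩
    have e : i ≫ pullback.lift α β hαβ = (i ≫ α) ≫ pullback.diagonal f.left := by
      apply pullback.hom_ext <;>
        simp only [Category.assoc, pullback.lift_fst, pullback.lift_snd, pullback.diagonal_fst,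
          pullback.diagonal_snd, Category.comp_id, hi]
    rw [← hq, ← Scheme.Hom.comp_apply, ← Scheme.Hom.comp_apply, e]
  have := congrArg (fun φ => lift g t ≫ φ) key
  simpa using this

end Groth.Agent.S17681
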