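import Mathlib
import Groth.Statements.S17683
-- import your own Groth.Agent.* helpers here

set_option autoImplicit false
universe u
open DiagMon

namespace Groth.Agent.S17683

/-- Let N be a commutative monoid and F a submonoid of N. The additive projection ℤ[N] → ℤ[F] of monoid
algebras keeping the monomials with exponent in F and killing the others is multiplicative, i.e. F
is a face of N, if and only if for all x, y in N the sum x + y lies in F exactly when both x and y
do. -/
theorem result {N : Type u} [AddCommMonoid N] (F : AddSubmonoid N) :
    (∀ a b : AddMonoidAlgebra ℤ N,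
        AddMonoidAlgebra.comapDomain ((↑) : F → N) Subtype.val_injective (a * b) =
          AddMonoidAlgebra.comapDomain ((↑) : F → N) Subtype.val_injective a *
            AddMonoidAlgebra.comapDomain ((↑) : F → N) Subtype.val_injective b) ↔
      ∀ x y : N, x + y ∈ F ↔ (x ∈ F ∧ y ∈ F) := by
  classical
  have hout : ∀ (m : N) (t : ℤ), m ∉ F → AddMonoidAlgebra.comapDomain ((↑) : F → N) Subtype.val_injective (AddMonoidAlgebra.single m t) = 0 := fun m t hm => by
    ext ⟨z, hz⟩
    have hne : m ≠ z := fun e => hm (e ▸ hz)
    simp [hne]
  constructor
  · intro h x y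
    refine ⟨fun hxy => ?_, fun hxy => add_mem hxy.1 hxy.2⟩
    have h' := h (AddMonoidAlgebra.single x 1) (AddMonoidAlgebra.single y 1)
    rw [AddMonoidAlgebra.single_mul_single, one_mul] at h'
    have e : AddMonoidAlgebra.comapDomain ((↑) : F → N) Subtype.val_injective (AddMonoidAlgebra.single (x + y) (1 : ℤ)) = AddMonoidAlgebra.single ⟨x + y, hxy⟩ 1 :=
      AddMonoidAlgebra.comapDomain_single_map ((↑) : F → N) Subtype.val_injective (⟨x + y, hxy⟩ : F) (1 : ℤ)
    rw [e] at h'
    by_contra hc
    rcases not_and_or.1 hc with hx | hy
    · rw [hout x _ hx, zero_mul] at h'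
      simp at h'
    · rw [hout (y) _ hy, mul_zero] at h'
      simp at h'
  · intro h a b
    induction a using AddMonoidAlgebra.induction_linear with
    | zero => simp
    | add p q hp hq => simp only [add_mul, AddMonoidAlgebra.comapDomain_add, hp, hq]
    | single x r =>
      induction b using AddMonoidAlgebra.induction_linear with
      | zero => simp
      | add p q hp hq => simp only [mul_add, AddMonoidAlgebra.comapDomain_add, hp, hq]
      | single y s =>
        rw [AddMonoidAlgebra.single_mul_single]
        by_cases hxy : x + y ∈ F
        · obtain ⟨hx, hy⟩ := (h x y).1 hxy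
          have e : ∀ (z : F) (t : ℤ), AddMonoidAlgebra.comapDomain ((↑) : F → N) Subtype.val_injective (AddMonoidAlgebra.single (z : N) t) = AddMonoidAlgebra.single z t :=
            fun z t => AddMonoidAlgebra.comapDomain_single_map ((↑) : F → N) Subtype.val_injective z t
          rw [e ⟨x + y, hxy⟩, e ⟨x, hx⟩, e ⟨y, hy⟩, AddMonoidAlgebra.single_mul_single]
          rfl
        · rw [hout (x + y) _ hxy]
          rcases not_and_or.1 (fun hc => hxy ((h x y).2 hc)) with hx | hy
          · rw [hout (x) _ hx, zero_mul]
          · rw [hout (y) _ hy, mul_zero]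

end Groth.Agent.S17683
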