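import Groth.Statements.S17685
import Groth.Agent.EssFree.Apps
import Groth.Agent.FixedLocus.Basic
-- import your own Groth.Agent.* helpers here

set_option autoImplicit false
universe u
open CategoryTheory MonoidalCategory CartesianMonoidalCategory MonObj GrpObj AlgebraicGeometry
open AlgGrp

namespace Groth.Agent.S17685

/-- Let S be a scheme, F an S-scheme that is finite locally free over S (finite, flat and locally of
finite presentation) with a section e of F over S which is a surjective closed immersion (an
infinitesimal pointed S-scheme), and X an S-scheme with an action of the pointed scheme F, i.e. an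
S-morphism F ×_S X → X through which e acts as the identity. Then the subfunctor of F-fixed points
of X, whose T-points are the T-points x of X with g · x_{T'} = x_{T'} for every S-scheme T' over T
and every T'-point g of F, is represented by a closed subscheme of X. (The source allows F and X to
be algebraic spaces over S; this row is the case of schemes.) -/
theorem result (S : Scheme.{u})
    (F X : Over S) (e : 𝟙_ (Over S) ⟶ F) (act : F ⊗ X ⟶ X) (he : (e ▷ X) ≫ act = (λ_ X).hom)
    [IsFinite F.hom] [Flat F.hom] [LocallyOfFinitePresentation F.hom]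
    [IsClosedImmersion e.left] [Surjective e.left] :
    ∃ (Z : Scheme.{u}) (i : Z ⟶ X.left), IsClosedImmersion i ∧
      ∀ (T : Over S) (x : T ⟶ X), (∃ y : T.left ⟶ Z, y ≫ i = x.left) ↔
        ∀ (T' : Over S) (t : T' ⟶ T) (g : T' ⟶ F), lift g (t ≫ x) ≫ act = t ≫ x := by
  let u := act
  let v := CartesianMonoidalCategory.snd F X
  let y : X ⟶ X ⊗ X := lift (𝟙 X) (𝟙 X)
  have hsurj : Surjective (e ▷ X).left := by
    have hmap : (e ▷ X).left = Limits.pullback.map (𝟙_ (Over S)).hom X.hom F.hom X.hom e.left (𝟙 _) (𝟙 _)
        (by rw [Category.comp_id, Over.w e]) (by simp) := by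
      apply Limits.pullback.hom_ext
      · exact (congrArg CommaMorphism.left (whiskerRight_fst e X)).trans (Limits.pullback.lift_fst _ _ _).symm
      · exact (congrArg CommaMorphism.left (whiskerRight_snd e X)).trans
          ((Limits.pullback.lift_snd _ _ _).trans (Category.comp_id _)).symm
    refine ⟨fun p => ?_⟩
    have : p ∈ Set.range (Limits.pullback.map (𝟙_ (Over S)).hom X.hom F.hom X.hom e.left (𝟙 _) (𝟙 _)
        (by rw [Category.comp_id, Over.w e]) (by simp)) := by
      rw [Scheme.Pullback.range_map]
      exact ⟨e.left.surjective _, ⟨_, rfl⟩⟩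
    rw [hmap]
    exact this
  have hpt : ∀ p, act.left p = v.left p := fun p => by
    obtain ⟨q, rfl⟩ := (e ▷ X).left.surjective p
    rw [← Scheme.Hom.comp_apply, ← Scheme.Hom.comp_apply]
    have h1 := congrArg CommaMorphism.left (he.trans (leftUnitor_hom X))
    have h2 := congrArg CommaMorphism.left (whiskerRight_snd e X)
    exact congrArg (fun (f : (𝟙_ (Over S) ⊗ X).left ⟶ X.left) => f q) (h1.trans h2.symm)
  have hcl : IsClosedImmersion (Limits.pullback.snd y.left (lift u v).left) := by
    refine FixedLocus.isClosedImmersion_pullback_diagonal X.hom (lift u v).left fun p U hp => ?_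
    have e1 : (lift u v).left ≫ Limits.pullback.fst X.hom X.hom = act.left :=
      congrArg CommaMorphism.left (lift_fst u v)
    have e2 : (lift u v).left ≫ Limits.pullback.snd X.hom X.hom = v.left :=
      congrArg CommaMorphism.left (lift_snd u v)
    rw [← Scheme.Hom.comp_apply, e2] at hp
    rw [← Scheme.Hom.comp_apply, e1, hpt]
    exact hp
  obtain ⟨T, t, ht, -, hT⟩ := EssFree.exists_closed_factLocus_of (Q := False) (lift u v) y (by
      obtain ⟨T, t, ht, -, hT⟩ := EssFree.exists_closed_full (f := Limits.pullback.snd F.hom X.hom)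
        (j := Limits.pullback.snd y.left (lift u v).left)
        (EssFree.isEssentiallyFree_pullback_snd _ _ (EssFree.isEssentiallyFree_of_isFinite F.hom))
      exact ⟨T, t, ht, fun h => h.elim, fun g => hT g⟩)
  refine ⟨T.left, t.left, ht, fun S' g => ?_⟩
  have hh : (∃ z : S'.left ⟶ T.left, z ≫ t.left = g.left) ↔ ∃ z : S' ⟶ T, z ≫ t = g := by
    constructor
    · rintro ⟨z, hz⟩
      exact ⟨Over.homMk z (by rw [← Over.w t, ← Category.assoc, hz, Over.w g]), Over.OverMorphism.ext hz⟩
    · rintro ⟨z, hz⟩
      exact ⟨z.left, congrArg CommaMorphism.left hz⟩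
  refine hh.trans ((hT S' g).trans (forall_congr' fun S'' => forall_congr' fun s => forall_congr' fun x => ?_))
  constructor
  · rintro ⟨x', hx'⟩
    have h1 := congrArg (· ≫ CartesianMonoidalCategory.fst X X) hx'
    have h2 := congrArg (· ≫ CartesianMonoidalCategory.snd X X) hx'
    simp only [y, u, v, Category.assoc, lift_fst, lift_snd, Category.comp_id] at h1 h2
    exact h1.symm.trans h2
  · exact fun h => ⟨lift x (s ≫ g) ≫ u, by
      apply CartesianMonoidalCategory.hom_ext <;> simp [y, u, v, h]⟩

end Groth.Agent.S17685
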