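import Mathlib
import Groth.Statements.S17687
-- import your own Groth.Agent.* helpers here

set_option autoImplicit false
universe u v w
open DiagMon

namespace Groth.Agent.S17687

section

variable {R A M : Type*} [CommRing R] [CommRing A] [Algebra R A] [Algebra.FiniteType R A] [AddCommMonoid M]
  [DecidableEq M] (𝒜 : M → Submodule R A) [GradedAlgebra 𝒜]

theorem main : (Set.range fun N : AddSubmonoid M => Ideal.span {a : A | ∃ m : M, m ∉ N ∧ a ∈ 𝒜 m}).Finite := by
  classical
  obtain ⟨s, hs⟩ := Algebra.FiniteType.out (R := R) (A := A)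
  let G : Finset (M × A) := s.biUnion fun a =>
    ((DirectSum.decompose 𝒜 a).support).image fun m => (m, (DirectSum.decompose 𝒜 a m : A))
  have hG : ∀ p ∈ G, p.2 ∈ 𝒜 p.1 := by
    intro p hp
    simp only [G, Finset.mem_biUnion, Finset.mem_image] at hp
    obtain ⟨a, -, m, -, rfl⟩ := hp
    exact Subtype.coe_prop _
  refine Set.Finite.subset ((G.powerset.image fun T : Finset (M × A) => Ideal.span (Prod.snd '' (T : Set (M × A)))).finite_toSet) ?_
  rintro _ ⟨N, rfl⟩
  refine Finset.mem_coe.2 (Finset.mem_image.2 ⟨G.filter fun p => p.1 ∉ N, Finset.mem_powerset.2 (Finset.filter_subset _ _), le_antisymm ?_ ?_⟩)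
  · rw [Ideal.span_le]
    rintro _ ⟨p, hp, rfl⟩
    rw [Finset.mem_coe, Finset.mem_filter] at hp
    exact Ideal.subset_span ⟨p.1, hp.2, hG p hp.1⟩
  set J := Ideal.span (Prod.snd '' ((G.filter fun p => p.1 ∉ N : Finset (M × A)) : Set (M × A))) with hJ
  have hJh : J.IsHomogeneous 𝒜 := by
    refine Ideal.homogeneous_span 𝒜 _ ?_
    rintro _ ⟨p, hp, rfl⟩
    rw [Finset.mem_coe, Finset.mem_filter] at hp
    exact ⟨p.1, hG p hp.1⟩
  let U : Submodule R A := (⨆ n ∈ N, 𝒜 n) ⊔ J.restrictScalars R
  have hone : (1 : A) ∈ U := Submodule.mem_sup_left (Submodule.mem_iSup_of_mem 0 (Submodule.mem_iSup_of_mem N.zero_mem SetLike.GradedOne.one_mem))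
  have hmul : ∀ x ∈ U, ∀ y ∈ U, x * y ∈ U := by
    intro x hx y hy
    obtain ⟨u, hu, v, hv, rfl⟩ := Submodule.mem_sup.1 hx
    obtain ⟨u', hu', v', hv', rfl⟩ := Submodule.mem_sup.1 hy
    rw [add_mul, mul_add, add_assoc]
    refine add_mem ?_ (Submodule.mem_sup_right (add_mem (J.mul_mem_left u hv') (J.mul_mem_right _ hv)))
    clear hx hy
    refine Submodule.mem_sup_left ?_
    have hle : (⨆ n ∈ N, 𝒜 n) * (⨆ n ∈ N, 𝒜 n) ≤ ⨆ n ∈ N, 𝒜 n := by
      simp only [Submodule.iSup_mul, Submodule.mul_iSup, iSup_le_iff, Submodule.mul_le]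
      intro i hi j hj a ha b hb
      exact Submodule.mem_iSup_of_mem (j + i) (Submodule.mem_iSup_of_mem (N.add_mem hj hi) (SetLike.GradedMul.mul_mem ha hb))
    exact hle (Submodule.mul_mem_mul hu hu')
  have htop : ∀ x : A, x ∈ U := by
    intro x
    have hx : x ∈ Algebra.adjoin R (s : Set A) := hs ▸ trivial
    induction hx using Algebra.adjoin_induction with
    | mem a ha =>
      rw [← DirectSum.sum_support_decompose 𝒜 a]
      refine Submodule.sum_mem _ fun m hm => ?_
      by_cases hN : m ∈ N
      · exact Submodule.mem_sup_left (Submodule.mem_iSup_of_mem m (Submodule.mem_iSup_of_mem hN (Subtype.coe_prop _)))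
      · refine Submodule.mem_sup_right (Ideal.subset_span ⟨(m, (DirectSum.decompose 𝒜 a m : A)), ?_, rfl⟩)
        rw [Finset.mem_coe, Finset.mem_filter]
        exact ⟨Finset.mem_biUnion.2 ⟨a, ha, Finset.mem_image_of_mem _ hm⟩, hN⟩
    | algebraMap r => rw [Algebra.algebraMap_eq_smul_one]; exact Submodule.smul_mem _ _ hone
    | add x y _ _ hx hy => exact add_mem hx hy
    | mul x y _ _ hx hy => exact hmul x hx y hy
  rw [Ideal.span_le]
  rintro a ⟨m, hm, ha⟩
  obtain ⟨u, hu, v, hv, huv⟩ := Submodule.mem_sup.1 (htop a)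
  have h1 : GradedAlgebra.proj 𝒜 m u = 0 := by
    refine (iSup₂_le (fun n hn x hx => ?_) : (⨆ n ∈ N, 𝒜 n) ≤ LinearMap.ker (GradedAlgebra.proj 𝒜 m)) hu
    rw [LinearMap.mem_ker, GradedAlgebra.proj_apply, DirectSum.decompose_of_mem_ne 𝒜 hx (fun e => hm (by rwa [← e]))]
  have h2 := congrArg (GradedAlgebra.proj 𝒜 m) huv
  rw [map_add, h1, zero_add, GradedAlgebra.proj_apply, GradedAlgebra.proj_apply, DirectSum.decompose_of_mem_same 𝒜 ha] at h2
  rw [SetLike.mem_coe, ← h2]
  exact hJh m hv

end

/-- Let R be a commutative ring and A a commutative R-algebra of finite type graded by a commutative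
monoid M. Then the set of ideals J_N, N running over all submonoids of M, where J_N is generated by
the homogeneous elements of degree not in N (the ideal of the attractor of Spec A for the magnet N),
is finite: Spec A has finitely many attractors and hence finitely many pure magnets. (The source
assumes Spec A of finite presentation over the base; its proof uses only a finite set of homogeneous
algebra generators, so finite type is assumed here.) -/
theorem result (R : Type u) [CommRing R] (A : Type v) [CommRing A]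
    [Algebra R A] [Algebra.FiniteType R A] (M : Type w) [AddCommMonoid M] [DecidableEq M]
    (𝒜 : M → Submodule R A) [GradedAlgebra 𝒜] :
    (Set.range fun N : AddSubmonoid M => Ideal.span {a : A | ∃ m : M, m ∉ N ∧ a ∈ 𝒜 m}).Finite := by
  exact main 𝒜

end Groth.Agent.S17687
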