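import Groth.Statements.S18498
import Mathlib
import Groth.Agent.S2299
-- import your own Groth.Agent.* helpers here

set_option autoImplicit false
universe u
open CategoryTheory CategoryTheory.Limits AlgebraicGeometry MonObj
open Neron

namespace Groth.Agent.S18498

open CategoryTheory CategoryTheory.Limits AlgebraicGeometry

theorem dominant_genPt (R : Type u) [CommRing R] [IsDomain R] : IsDominant (Neron.genPt R) := by
  constructor
  exact (PrimeSpectrum.denseRange_comap_iff_ker_le_nilRadical _).mpr
    (by show RingHom.ker (algebraMap R (FractionRing R)) ≤ _
        rw [(RingHom.injective_iff_ker_eq_bot _).mp (IsFractionRing.injective R (FractionRing R))]; exact bot_le)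


/-- Let R be a Dedekind domain with fraction field K, X a Spec R-scheme which is flat over Spec R, Y a
Spec R-scheme which is separated over Spec R, and f, g : X → Y two R-morphisms whose restrictions to
generic fibres X_K → Y_K are equal. Then f = g: an R-morphism from a flat R-scheme to a separated
R-scheme is determined by its generic fibre. (The source states this for algebraic spaces over a
connected Dedekind scheme; the case of schemes over an affine base is stated.) -/
theorem result (R : Type u) [CommRing R] [IsDedekindDomain R]
    (X Y : Over (Spec (CommRingCat.of R))) [Flat X.hom] [IsSeparated Y.hom] (f g : X ⟶ Y)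
    (h : (Neron.genericFibre R).map f = (Neron.genericFibre R).map g) : f = g := by
  haveI := dominant_genPt R
  haveI : _root_.IsReduced (CommRingCat.of R) := inferInstanceAs (_root_.IsReduced R)
  haveI : IsSchemeTheoreticallyDominant (Neron.genPt R) := .of_isDominant _
  apply Over.OverMorphism.ext
  refine S2299.result (pullback.fst X.hom (Neron.genPt R)) Y.hom f.left g.left
    (by rw [Over.w f, Over.w g]) ?_
  have e : ∀ k : X ⟶ Y, ((Neron.genericFibre R).map k).left ≫ pullback.fst Y.hom (Neron.genPt R) =
      pullback.fst X.hom (Neron.genPt R) ≫ k.left := fun k => pullback.lift_fst _ _ _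
  rw [← e f, ← e g, h]

end Groth.Agent.S18498
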