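import Groth.Statements.S17688
import Groth.Agent.S18498
import Mathlib.CategoryTheory.Monoidal.Cartesian.Mon
-- import your own Groth.Agent.* helpers here

set_option autoImplicit false
set_option linter.style.haveILetI false
set_option backward.isDefEq.respectTransparency false
universe u
open CategoryTheory CategoryTheory.Limits AlgebraicGeometry MonObj
open Neron

namespace Groth.Agent.S17688

/-- Let R be a discrete valuation ring whose fraction field K has characteristic p > 0, and let U be a
flat, separated, commutative group scheme over Spec R whose generic fibre U_K is annihilated by a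
power p^N of p (in the group of endomorphisms of U_K as a K-scheme, the p^N-th power of the identity
is the unit). Then for every prime ℓ invertible in R the ℓ-th power map of U (the ℓ-th power of the
identity in the group of R-morphisms U → U) is an isomorphism. -/
theorem result
    (R : Type u) [CommRing R] [IsDomain R] [IsDiscreteValuationRing R]
    (p : ℕ) (hp : p.Prime) [CharP (FractionRing R) p]
    (U : Over (Spec (CommRingCat.of R))) [GrpObj U] [IsCommMonObj U] [Flat U.hom] [IsSeparated U.hom]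
    (N : ℕ) (hN : (𝟙 (Red.bc (Neron.genPt R) U) : Red.bc (Neron.genPt R) U ⟶ Red.bc (Neron.genPt R) U) ^ (p ^ N) = 1)
    (ℓ : ℕ) (hℓ : ℓ.Prime) (hℓu : IsUnit (ℓ : R)) :
    IsIso ((𝟙 U : U ⟶ U) ^ ℓ) := by
  have hpow : ((𝟙 U : U ⟶ U) ^ (p ^ N)) = 1 := by
    refine S18498.result R U U _ _ ?_
    refine Eq.trans ?_ (Eq.trans hN ?_)
    · exact (Functor.homMonoidHom (Over.pullback (Neron.genPt R))).map_pow (𝟙 U) (p ^ N) |>.trans
        (congrArg (· ^ (p ^ N)) ((Over.pullback (Neron.genPt R)).map_id U))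
    · exact ((Functor.homMonoidHom (Over.pullback (Neron.genPt R))).map_one).symm
  have hne : ℓ ≠ p := by
    rintro rfl
    have h := (hℓu.map (algebraMap R (FractionRing R)))
    rw [map_natCast, CharP.cast_eq_zero] at h
    exact not_isUnit_zero h
  have hcop : Nat.Coprime ℓ (p ^ N) := ((Nat.coprime_primes hℓ hp).2 hne).pow_right N
  haveI : NeZero (p ^ N) := ⟨pow_ne_zero _ hp.ne_zero⟩
  obtain ⟨m, hm⟩ : ∃ m : ℕ, ℓ * m ≡ 1 [MOD p ^ N] := ⟨((ℓ : ZMod (p ^ N))⁻¹).val, by
    rw [← ZMod.natCast_eq_natCast_iff, Nat.cast_mul, ZMod.natCast_zmod_val, Nat.cast_one]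
    exact ZMod.coe_mul_inv_eq_one ℓ hcop⟩
  have key : ∀ a : ℕ, a ≡ 1 [MOD p ^ N] → (𝟙 U : U ⟶ U) ^ a = 𝟙 U := fun a ha => by
    rw [pow_eq_pow_mod a hpow, ha, ← pow_eq_pow_mod 1 hpow, pow_one]
  refine ⟨(𝟙 U : U ⟶ U) ^ m, ?_, ?_⟩
  · rw [MonObj.comp_pow, Category.comp_id, ← pow_mul]
    exact key _ hm
  · rw [MonObj.comp_pow, Category.comp_id, ← pow_mul, Nat.mul_comm]
    exact key _ hm

end Groth.Agent.S17688
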