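import Groth.Statements.S17689
import Groth.Agent.AWN.Criterion
-- import your own Groth.Agent.* helpers here

set_option autoImplicit false
universe u
open CategoryTheory AlgebraicGeometry
open Neron

open Groth.Agent.AWN

namespace Groth.Agent.S17689

/-- Let R ⊆ S be a finite extension of discrete valuation rings (the structure map R → S is injective
and S is a finite R-module) such that the induced extension K ⊆ L of fraction fields is purely
inseparable. Then the morphism Spec S → Spec R is a universal homeomorphism: every base change of it
is a homeomorphism on underlying spaces. (No excellence hypothesis is needed here.) -/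
theorem result
    (R S K L : Type u) [CommRing R] [IsDomain R] [IsDiscreteValuationRing R]
    [CommRing S] [IsDomain S] [IsDiscreteValuationRing S] [Algebra R S] [Module.Finite R S] [FaithfulSMul R S]
    [Field K] [Field L] [Algebra R K] [IsFractionRing R K] [Algebra S L] [IsFractionRing S L]
    [Algebra K L] [Algebra R L] [IsScalarTower R S L] [IsScalarTower R K L] [IsPurelyInseparable K L] :
    FlatMor.IsUnivHomeo (Spec.map (CommRingCat.ofHom (algebraMap R S))) := by
    haveI : Algebra.IsIntegral R S := Algebra.IsIntegral.of_finite R S
    have hinj : Function.Injective (algebraMap R S) := FaithfulSMul.algebraMap_injective R S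
    refine (isUnivHomeo_spec_iff _).mpr ⟨algebraMap_isIntegral_iff.mpr inferInstance,
      fun F _ g g' hgg => RingHom.ext fun s => ?_, Algebra.IsIntegral.comap_surjective R S⟩
    obtain ⟨q, hq⟩ := ExpChar.exists K
    haveI := hq
    obtain ⟨n, c, hc⟩ := IsPurelyInseparable.pow_mem K q (algebraMap S L s)
    have hint : IsIntegral R c := by
      refine (isIntegral_algHom_iff (IsScalarTower.toAlgHom R K L) (algebraMap K L).injective).mp ?_
      show IsIntegral R (algebraMap K L c)
      rw [hc]
      exact ((Algebra.IsIntegral.isIntegral s).algebraMap).pow _
    obtain ⟨r, rfl⟩ := IsIntegrallyClosed.isIntegral_iff.mp hint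
    have hs : s ^ q ^ n = algebraMap R S r := IsFractionRing.injective S L (by
      rw [map_pow, ← IsScalarTower.algebraMap_apply, ← hc, ← IsScalarTower.algebraMap_apply])
    have key : g s ^ q ^ n = g' s ^ q ^ n := by
      rw [← map_pow, ← map_pow, hs]; exact RingHom.congr_fun hgg r
    rcases hq with _ | hqp
    · simpa using key
    · haveI : CharP R q := (IsFractionRing.injective R K |>.isDomain _ |> fun _ => RingHom.charP (algebraMap R K) (IsFractionRing.injective R K) q)
      haveI : Fact q.Prime := ⟨hqp⟩
      haveI : CharP F q := (CharP.charP_iff_prime_eq_zero hqp).mpr (by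
        rw [← map_natCast (g.comp (algebraMap R S)), CharP.cast_eq_zero, map_zero])
      exact (frobenius_inj F q).iterate n (by rwa [iterate_frobenius, iterate_frobenius])

end Groth.Agent.S17689
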