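import Groth.Statements.S17690
import Groth.Agent.S2654
import Groth.Agent.S0573
import Mathlib.RingTheory.DiscreteValuationRing.TFAE
import Mathlib.RingTheory.DedekindDomain.IntegralClosure
-- import your own Groth.Agent.* helpers here

set_option autoImplicit false
universe u
open Neron

namespace Groth.Agent.S17690

/-- Let R be an excellent discrete valuation ring (Noetherian, universally catenary, G-ring, J-2) with
fraction field K, and let L be a finite purely inseparable field extension of K. Then the integral
closure S of R in L is a discrete valuation ring, and S is a finite R-module. -/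
theorem result
    (R K L : Type u) [CommRing R] [IsDomain R] [IsDiscreteValuationRing R] (hR : EGA4.IsExcellent R)
    [Field K] [Algebra R K] [IsFractionRing R K] [Field L] [Algebra K L] [FiniteDimensional K L]
    [IsPurelyInseparable K L] [Algebra R L] [IsScalarTower R K L] :
    IsDiscreteValuationRing ↥(integralClosure R L) ∧ Module.Finite R ↥(integralClosure R L) := by
  obtain ⟨π, hπ⟩ := IsDiscreteValuationRing.exists_irreducible R
  have hKft : Algebra.FiniteType R K := by
    refine ⟨⟨{(algebraMap R K π)⁻¹}, eq_top_iff.mpr fun x _ => ?_⟩⟩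
    obtain ⟨a, b, hb, rfl⟩ := IsFractionRing.div_surjective R x
    obtain ⟨n, u, rfl⟩ := IsDiscreteValuationRing.eq_unit_mul_pow_irreducible (nonZeroDivisors.ne_zero hb) hπ
    have : algebraMap R K a / algebraMap R K (↑u * π ^ n) =
        algebraMap R K (a * ↑u⁻¹) * ((algebraMap R K π)⁻¹) ^ n := by
      rw [map_mul, map_mul, map_pow, map_units_inv, inv_pow, div_eq_mul_inv, mul_inv]
      ring
    rw [this]
    exact mul_mem (Subalgebra.algebraMap_mem _ _)
      (pow_mem (Algebra.subset_adjoin (by simp)) n)
  have : Algebra.FiniteType R L :=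
    Algebra.FiniteType.trans hKft (inferInstance : Algebra.FiniteType K L)
  have hN : CAlg.IsNagata R := Groth.Agent.S2654.result R ⟨hR.1, hR.2.2.1, hR.2.2.2⟩
  have hfin : Module.Finite R (integralClosure R L) := Groth.Agent.S0573.result R hN L
  refine ⟨?_, hfin⟩
  let S := integralClosure R L
  have : IsNoetherianRing S := IsNoetherianRing.of_finite R S
  have hinj : Function.Injective (algebraMap R S) := fun a b h => by
    have h1 := congrArg (algebraMap S L) h
    rw [← IsScalarTower.algebraMap_apply, ← IsScalarTower.algebraMap_apply,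
      IsScalarTower.algebraMap_apply R K L, IsScalarTower.algebraMap_apply R K L] at h1
    exact IsFractionRing.injective R K ((algebraMap K L).injective h1)
  have : Algebra.IsIntegral R S := Algebra.IsIntegral.of_finite R S
  obtain ⟨p, hp⟩ := ExpChar.exists K
  -- a single maximal ideal
  have hmem : ∀ (M : Ideal S), M.IsMaximal → ∀ x : S, x ∈ M ↔
      ∃ (n : ℕ) (c : R), algebraMap R S c = x ^ p ^ n ∧ c ∈ IsLocalRing.maximalIdeal R := by
    intro M hM x
    have hMR : M.comap (algebraMap R S) = IsLocalRing.maximalIdeal R :=
      IsLocalRing.eq_maximalIdeal (Ideal.isMaximal_comap_of_isIntegral_of_isMaximal M)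
    have hq : ∀ n, p ^ n ≠ 0 := fun n => pow_ne_zero n (expChar_ne_zero K p)
    constructor
    · intro hx
      obtain ⟨n, c, hc⟩ := IsPurelyInseparable.pow_mem K p (x : L)
      have hcint : IsIntegral R c := (isIntegral_algebraMap_iff (algebraMap K L).injective).mp
        (hc ▸ (x.2 : IsIntegral R (x : L)).pow _)
      obtain ⟨r, rfl⟩ := IsIntegrallyClosed.isIntegral_iff.mp hcint
      have hr : algebraMap R S r = x ^ p ^ n := Subtype.ext (by
        rw [SubmonoidClass.coe_pow, ← hc, ← IsScalarTower.algebraMap_apply]
        rfl)
      refine ⟨n, r, hr, ?_⟩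
      rw [← hMR, Ideal.mem_comap, hr]
      exact Ideal.pow_mem_of_mem M hx _ (Nat.pos_of_ne_zero (hq n))
    · rintro ⟨n, c, hc, hcm⟩
      rw [← hMR, Ideal.mem_comap, hc] at hcm
      exact hM.isPrime.mem_of_pow_mem _ hcm
  have : Nontrivial S := inferInstance
  obtain ⟨M₀, hM₀⟩ := Ideal.exists_maximal S
  have : IsLocalRing S :=
    IsLocalRing.of_unique_max_ideal ⟨M₀, hM₀, fun M hM => Ideal.ext fun x => (hmem M hM x).trans (hmem M₀ hM₀ x).symm⟩
  have : IsFractionRing S L := integralClosure.isFractionRing_of_finite_extension K L
  have : IsIntegrallyClosed S := integralClosure.isIntegrallyClosedOfFiniteExtension K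
  have : Ring.DimensionLEOne S := Ring.DimensionLEOne.integralClosure R L
  have : IsDedekindDomain S := { }
  have hnf : ¬ IsField S := fun h =>
    IsDiscreteValuationRing.not_isField R (isField_of_isIntegral_of_isField hinj h)
  exact ((IsDiscreteValuationRing.TFAE S hnf).out (n₁ := 0) (n₂ := 2) (a := IsDiscreteValuationRing S) (b := IsDedekindDomain S) rfl rfl).mpr ‹_›

end Groth.Agent.S17690
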