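import Groth.Statements.S17703
import Groth.Agent.GRing17.Excellent
import Groth.Agent.S2620
import Groth.Agent.S0603
import Groth.Agent.Catenary.CM
import Groth.Agent.S0549
import Groth.Agent.CohenStruct.QuasiExcellent
-- import your own Groth.Agent.* helpers here

set_option autoImplicit false
universe u
open Neron

namespace Groth.Agent.S17703

open scoped TensorProduct

/-- Let R be a discrete valuation ring with fraction field K, R̂ its completion and K̂ = Frac R̂. Then R
is excellent (Noetherian, universally catenary, G-ring and J-2) if and only if K̂ is geometrically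
reduced over K, i.e. K ⊆ K̂ is separable; here K̂ is written as the generic formal fibre κ(0) ⊗_R R̂
of R, which is R̂ with the uniformizer inverted. -/
theorem result
    (R : Type u) [CommRing R] [IsDomain R] [IsDiscreteValuationRing R] :
    EGA4.IsExcellent R ↔
      Algebra.IsGeometricallyReduced (⊥ : Ideal R).ResidueField (EGA4.formalFibre R (⊥ : Ideal R)) := by
  constructor
  · intro h
    let m := IsLocalRing.maximalIdeal R
    have : IsLocalization m.primeCompl R := IsLocalization.of_le_isUnit fun x hx => by
      by_contra hu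
      exact hx ((IsLocalRing.mem_maximalIdeal x).mpr hu)
    have hreg := Groth.Agent.GRing17.regular_cpl_congr
      (IsLocalization.algEquiv m.primeCompl R (Localization.AtPrime m)) (h.2.2.1.2 m)
    exact Groth.Agent.CohenStruct.hasGeomReducedFormalFibres_of_isRegularHom hreg ⊥
  intro h
  have := h
  have : IsRegularLocalRing R := inferInstance
  have : IsRegularRing R := Groth.Agent.RegularSerre.isRegularRing_of_isRegularLocalRing R
  have : LocCoh.IsCohenMacaulayRing R := Groth.Agent.Catenary.isCohenMacaulayRing_of_isRegularRing R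
  let Ch := EGA4.Cpl R
  obtain ⟨_, _⟩ := (Groth.Agent.S0549.result R).mp ⟨inferInstance, inferInstance⟩
  let κ := (⊥ : Ideal R).ResidueField
  let G := EGA4.formalFibre R (⊥ : Ideal R)
  have hG : IsRegularRing G := Groth.Agent.GRing17.isRegularRing_generic_formalFibre R
  have hker : ∀ x : R, algebraMap R κ x = 0 → x = 0 := fun x hx => by
    simpa using Ideal.algebraMap_residueField_eq_zero.mp hx
  let : Algebra Ch G := Algebra.TensorProduct.rightAlgebra
  have : FaithfulSMul R κ := (faithfulSMul_iff_algebraMap_injective _ _).mpr ((injective_iff_map_eq_zero _).mpr hker)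
  have : IsFractionRing R κ := IsFractionRing.of_field R κ fun z => by
    obtain ⟨a, b, -, rfl⟩ := IsFractionRing.div_surjective (R ⧸ (⊥ : Ideal R)) z
    obtain ⟨a, rfl⟩ := Ideal.Quotient.mk_surjective a
    obtain ⟨b, rfl⟩ := Ideal.Quotient.mk_surjective b
    exact ⟨a, b, rfl⟩
  have hloc : IsLocalization (Algebra.algebraMapSubmonoid Ch (nonZeroDivisors R)) G := inferInstance
  have hN : IsNoetherianRing G := IsLocalization.isNoetherianRing (Algebra.algebraMapSubmonoid Ch (nonZeroDivisors R)) G inferInstance
  have h0 : Ring.KrullDimLE 0 G := Ring.krullDimLE_zero_iff.2 fun P hP => by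
    have key : ∀ (Q : Ideal G) [Q.IsPrime], Q.comap (algebraMap Ch G) = ⊥ := fun Q _ => by
      by_contra hne
      have hmax : (Q.comap (algebraMap Ch G)).IsMaximal := Ideal.IsPrime.isMaximal inferInstance hne
      obtain ⟨π, hπ⟩ := IsDiscreteValuationRing.exists_irreducible R
      have hu := IsLocalization.map_units G (M := Algebra.algebraMapSubmonoid Ch (nonZeroDivisors R))
        ⟨algebraMap R Ch π, π, mem_nonZeroDivisors_of_ne_zero hπ.ne_zero, rfl⟩
      refine Ideal.IsPrime.ne_top (inferInstance : Q.IsPrime) (Q.eq_top_of_isUnit_mem ?_ hu)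
      show algebraMap R Ch π ∈ Q.comap (algebraMap Ch G)
      rw [IsLocalRing.eq_maximalIdeal hmax, AdicCompletion.maximalIdeal_eq_map]
      exact Ideal.mem_map_of_mem _ ((IsLocalRing.mem_maximalIdeal π).mpr hπ.not_isUnit)
    obtain ⟨M, hM, hPM⟩ := Ideal.exists_le_maximal P hP.ne_top
    have : P = M := by
      rw [← IsLocalization.map_under (Algebra.algebraMapSubmonoid Ch (nonZeroDivisors R)) G P,
        ← IsLocalization.map_under (Algebra.algebraMapSubmonoid Ch (nonZeroDivisors R)) G M]
      exact congrArg _ ((key P).trans (key M).symm)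
    exact this ▸ hM
  have hg : CAlg.IsGeometricallyRegular κ G := fun L _ _ hL => by
    have : IsArtinianRing G := isArtinianRing_iff_krullDimLE_zero.2 inferInstance
    have : IsArtinianRing (L ⊗[κ] G) := by
      have : IsArtinianRing (G ⊗[κ] L) := IsArtinianRing.of_finite G (G ⊗[κ] L)
      exact RingEquiv.isArtinianRing (Algebra.TensorProduct.comm κ G L).toRingEquiv
    exact Groth.Agent.FlatAscent.isRegularRing_of_isArtinianRing (L ⊗[κ] G)
  refine ⟨inferInstance, Groth.Agent.S0603.result R, ?_, Groth.Agent.S2620.result R ?_ ?_⟩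
  · refine ⟨inferInstance, fun P _ => ?_⟩
    let m := IsLocalRing.maximalIdeal R
    have hm := Groth.Agent.GRing17.isRegularHom_cpl_of_dim_le_one R hg
    have : IsLocalization m.primeCompl R := IsLocalization.of_le_isUnit fun x hx => by
      by_contra hu
      exact hx ((IsLocalRing.mem_maximalIdeal x).mpr hu)
    exact Groth.Agent.GRing17.isRegularHom_cpl_of_le m (Groth.Agent.GRing17.regular_cpl_congr
      (IsLocalization.algEquiv m.primeCompl (Localization.AtPrime m) R) hm) P
      (IsLocalRing.le_maximalIdeal (Ideal.IsPrime.ne_top inferInstance))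
  · exact (Set.finite_singleton (IsLocalRing.maximalIdeal R)).subset fun I hI => IsLocalRing.eq_maximalIdeal hI
  · exact Order.KrullDimLE.krullDim_le

end Groth.Agent.S17703
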