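import Groth.Statements.S1771
import Groth.Agent.FiniteH1.Criteria
import Groth.Agent.S2666
import Groth.Agent.GeomUnib.CatenaryFormula
import Groth.Agent.NagataLib.Basic
-- import your own Groth.Agent.* helpers here

set_option autoImplicit false
universe u
open LocCoh

namespace Groth.Agent.S1771

/-- Let A be a Noetherian ring which is Nagata and universally catenary, I an ideal of A and M a finite
A-module. Suppose that for every associated prime p of M not containing I and every prime q
containing both p and I, the longest chain of primes from p to q has length at least 2. Then the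
local cohomology module H^1_I(M) is a finite A-module. The published statement asserts that the
pushforward of a coherent sheaf from the open complement of V(I) is coherent; this is its affine
form, stated as finiteness of H^1_I(M). -/
theorem result (A : Type u) [CommRing A] [IsNoetherianRing A] (hN : CAlg.IsNagata A) (hU : CAlg.IsUniversallyCatenary A) (I : Ideal A) (M : Type u) [AddCommGroup M] [Module A M] [Module.Finite A M] (h : ∀ (p q : PrimeSpectrum A) (hpq : p ≤ q), p.asIdeal ∈ associatedPrimes A M → ¬ I ≤ p.asIdeal → I ≤ q.asIdeal → (2 : ℕ∞) ≤ Order.height (⟨q, hpq⟩ : Set.Ici p)) : Module.Finite A (LocCoh.H I 1 M) := by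
  haveI : IsNoetherian A (Groth.Agent.ZClosFin.G (Groth.Agent.PushCompl.V A I) M) :=
    Groth.Agent.ZClosFin.isNoetherian_G _ (fun a b (ha : a ∈ Groth.Agent.PushCompl.V A I) hab z hz => hab (ha hz))
      fun x hx hxI => by
        refine ⟨Groth.Agent.S2666.result _ (Groth.Agent.GeomUnib.isUniversallyCatenary_of_surjective'
          (Ideal.Quotient.mk x.asIdeal) Ideal.Quotient.mk_surjective hU)
          (Groth.Agent.NagataLib.isN1_of_isN2 (hN.2 x.asIdeal)), fun y hy hxy h1 => ?_⟩
        have h2 := (h x y hxy hx hxI hy).trans (Groth.Agent.FiniteH1.height_le_height_map x y hxy)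
        rw [h1] at h2
        norm_num at h2
  exact Groth.Agent.FiniteH1.finite_H1 I M

end Groth.Agent.S1771
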