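import Groth.Statements.S17713
import Mathlib
-- import your own Groth.Agent.* helpers here

set_option autoImplicit false
open MoretBailly

namespace Groth.Agent.S17713

/-- Let n ≥ 2 and d ≥ 1 be natural numbers and s an integer, and write B(x) = x/(1 - e^(-x)) for the
exponential generating series of the Bernoulli numbers B'_i (convention B'_1 = 1/2). For a natural
number p consider the product B(-dx)^(-1) B(-dpx) B(x)^(n+1) e^((dp-d-n-1+s)x) in ℚ[[x]] (the
Todd-class integrand of a Hirzebruch–Riemann–Roch computation) and let λ_n(p) be its coefficient of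
x^n. Then λ_n(p) is a polynomial in p whose two top terms are B'_n (dp)^n/n! and ((2s-d-n-1)/2)
B'_(n-1) (dp)^(n-1)/(n-1)!: there is a polynomial P over ℚ of degree at most n - 2 with λ_n(p) equal
to the sum of these two terms and P(p), for every p. -/
theorem result (n d : ℕ) (s : ℤ) (hn : 2 ≤ n) (hd : 1 ≤ d) :
    ∃ P : Polynomial ℚ, P.natDegree ≤ n - 2 ∧ ∀ p : ℕ,
      PowerSeries.coeff n ((PowerSeries.rescale (-(d : ℚ)) (bernoulli'PowerSeries ℚ))⁻¹ * PowerSeries.rescale (-((d : ℚ) * p)) (bernoulli'PowerSeries ℚ) * bernoulli'PowerSeries ℚ ^ (n + 1) * PowerSeries.rescale ((d : ℚ) * p - d - n - 1 + s) (PowerSeries.exp ℚ)) =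
        bernoulli' n * ((d : ℚ) * p) ^ n / (Nat.factorial n : ℚ) +
          (2 * (s : ℚ) - d - n - 1) / 2 * bernoulli' (n - 1) * ((d : ℚ) * p) ^ (n - 1) / (Nat.factorial (n - 1) : ℚ) +
          P.eval (p : ℚ) := by
  classical
  set B := bernoulli'PowerSeries ℚ with hBdef
  set E := PowerSeries.exp ℚ
  have hE : E - 1 ≠ 0 := fun h => by
    have := congrArg (PowerSeries.coeff 1) h
    simp [E, PowerSeries.coeff_exp] at this
  have key : PowerSeries.rescale (-1 : ℚ) B * E = B := by
    refine mul_right_cancel₀ hE ?_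
    have h1 : B * (E - 1) = PowerSeries.X * E := bernoulli'PowerSeries_mul_exp_sub_one ℚ
    have hX : PowerSeries.rescale (-1 : ℚ) PowerSeries.X = -PowerSeries.X := by
      ext m; rw [PowerSeries.coeff_rescale, map_neg, PowerSeries.coeff_X]; split_ifs with h <;> simp [h]
    have h2 := congrArg (PowerSeries.rescale (-1 : ℚ)) h1
    rw [map_mul, map_sub, map_one, map_mul, hX] at h2
    have h3 : E * PowerSeries.rescale (-1 : ℚ) E = 1 := PowerSeries.exp_mul_exp_neg_eq_one
    linear_combination (-E * E) * h2 - h1 + (E * PowerSeries.rescale (-1 : ℚ) B + PowerSeries.X * E) * h3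
  set c : ℚ := (s : ℚ) - d - n - 1
  set G := (PowerSeries.rescale (-(d : ℚ)) B)⁻¹ * B ^ (n + 1) * PowerSeries.rescale c E
  have hprod : ∀ a : ℚ, (PowerSeries.rescale (-(d : ℚ)) B)⁻¹ * PowerSeries.rescale (-a) B * B ^ (n + 1) *
      PowerSeries.rescale (a + c) E = PowerSeries.rescale a B * G := by
    intro a
    have h1 : PowerSeries.rescale (-a) B * PowerSeries.rescale a E = PowerSeries.rescale a B := by
      have := congrArg (PowerSeries.rescale a) key
      rwa [map_mul, PowerSeries.rescale_rescale, neg_one_mul] at this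
    rw [← PowerSeries.exp_mul_exp_eq_exp_add a c, ← h1]
    ring
  have hB0 : PowerSeries.constantCoeff B = 1 := by
    rw [← PowerSeries.coeff_zero_eq_constantCoeff]; simp [B, bernoulli'PowerSeries]
  have hB1 : PowerSeries.coeff 1 B = 1 / 2 := by simp [B, bernoulli'PowerSeries, bernoulli'_one]
  have hI0 : PowerSeries.constantCoeff (PowerSeries.rescale (-(d : ℚ)) B)⁻¹ = 1 := by
    rw [PowerSeries.constantCoeff_inv, ← PowerSeries.coeff_zero_eq_constantCoeff, PowerSeries.coeff_rescale,
      pow_zero, one_mul, PowerSeries.coeff_zero_eq_constantCoeff, hB0, inv_one]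
  have hI1 : PowerSeries.coeff 1 (PowerSeries.rescale (-(d : ℚ)) B)⁻¹ = (d : ℚ) / 2 := by
    have hne : PowerSeries.constantCoeff (PowerSeries.rescale (-(d : ℚ)) B) ≠ 0 := by
      rw [← PowerSeries.coeff_zero_eq_constantCoeff, PowerSeries.coeff_rescale, pow_zero, one_mul,
        PowerSeries.coeff_zero_eq_constantCoeff, hB0]
      exact one_ne_zero
    have h := congrArg (PowerSeries.coeff 1) (PowerSeries.mul_inv_cancel _ hne)
    rw [PowerSeries.coeff_mul, Finset.Nat.sum_antidiagonal_succ, Finset.Nat.antidiagonal_zero, Finset.sum_singleton,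
      PowerSeries.coeff_one] at h
    simp [PowerSeries.coeff_rescale, hB0, hB1, hI0] at h
    linarith
  have hpow : ∀ m : ℕ, PowerSeries.constantCoeff (B ^ m) = 1 ∧ PowerSeries.coeff 1 (B ^ m) = (m : ℚ) / 2 := by
    intro m
    induction m with
    | zero => simp
    | succ m ih =>
      refine ⟨by rw [map_pow, hB0, one_pow], ?_⟩
      rw [pow_succ, PowerSeries.coeff_mul, Finset.Nat.sum_antidiagonal_succ, Finset.Nat.antidiagonal_zero, Finset.sum_singleton]
      simp [ih.1, ih.2, hB0, hB1]
      ring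
  have hG0 : PowerSeries.constantCoeff G = 1 := by
    simp only [G, map_mul, hI0, (hpow (n + 1)).1, ← PowerSeries.coeff_zero_eq_constantCoeff_apply, PowerSeries.coeff_rescale]
    simp [E]
  have hG1 : PowerSeries.coeff 1 G = (2 * (s : ℚ) - d - n - 1) / 2 := by
    simp only [G, PowerSeries.coeff_mul, Finset.Nat.sum_antidiagonal_succ, Finset.Nat.antidiagonal_zero, Finset.sum_singleton]
    simp [PowerSeries.coeff_rescale, hI0, hI1, (hpow (n + 1)).1, (hpow (n + 1)).2, E, PowerSeries.coeff_exp]
    simp only [c]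
    ring
  refine ⟨∑ j ∈ Finset.range (n - 1), Polynomial.C ((d : ℚ) ^ j * (bernoulli' j / j.factorial) * PowerSeries.coeff (n - j) G) *
    Polynomial.X ^ j, ?_, fun p => ?_⟩
  · refine Polynomial.natDegree_sum_le_of_forall_le _ _ fun j hj => (Polynomial.natDegree_C_mul_X_pow_le _ _).trans ?_
    rw [Finset.mem_range] at hj; omega
  · rw [show ((d : ℚ) * p - d - n - 1 + s) = (d : ℚ) * p + c by simp only [c]; ring, hprod, PowerSeries.coeff_mul,
      Finset.Nat.sum_antidiagonal_eq_sum_range_succ (fun i j => PowerSeries.coeff i (PowerSeries.rescale ((d : ℚ) * p) B) * PowerSeries.coeff j G) n]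
    obtain ⟨m, rfl⟩ : ∃ m, n = m + 2 := ⟨n - 2, by omega⟩
    rw [Finset.sum_range_succ, Finset.sum_range_succ]
    simp only [show m + 2 - (m + 2) = 0 by omega, show m + 2 - (m + 1) = 1 by omega, show m + 2 - 1 = m + 1 by omega,
      PowerSeries.coeff_zero_eq_constantCoeff, hG0, hG1, Polynomial.eval_finsetSum]
    have hB : ∀ j, PowerSeries.coeff j B = bernoulli' j / j.factorial := fun j => by simp [B, bernoulli'PowerSeries]
    simp only [PowerSeries.coeff_rescale, hB, Polynomial.eval_mul, Polynomial.eval_C, Polynomial.eval_pow, Polynomial.eval_X, mul_pow]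
    rw [Finset.sum_congr rfl (fun j _ => show (d : ℚ) ^ j * (p : ℚ) ^ j * (bernoulli' j / j.factorial) * PowerSeries.coeff (m + 2 - j) G =
      (d : ℚ) ^ j * (bernoulli' j / j.factorial) * PowerSeries.coeff (m + 2 - j) G * (p : ℚ) ^ j by ring)]
    ring

end Groth.Agent.S17713
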