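import Groth.Statements.S17715
import Mathlib.Tactic
-- import your own Groth.Agent.* helpers here

set_option autoImplicit false
open MoretBailly

namespace Groth.Agent.S17715

/-- Write B(x) = x/(1 - e^(-x)) for the exponential generating series of the Bernoulli numbers (B'_1 =
1/2). For all natural numbers d and p the coefficient of x^3 in B(-dx)^(-1) B(-dpx) B(x)^4
e^((dp-d-3)x), i.e. the case n = 3, s = 1 of the Todd-class integrand, equals
-d(d+2)(p-1)(dp-d-2)/24 = -(d^3+2d^2) p^2/24 + (d^3+3d^2+2d) p/12 - (d^3+4d^2+4d)/24. (The published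
closed form has the same p^2 and p coefficients but constant term -(d^3+2d^2+2d)/24; direct
expansion gives the value stated here, which vanishes at p = 1.) -/
theorem result (d p : ℕ) :
    PowerSeries.coeff 3 ((PowerSeries.rescale (-(d : ℚ)) (bernoulli'PowerSeries ℚ))⁻¹ * PowerSeries.rescale (-((d : ℚ) * p)) (bernoulli'PowerSeries ℚ) * bernoulli'PowerSeries ℚ ^ (4) * PowerSeries.rescale ((d : ℚ) * p - d - 3) (PowerSeries.exp ℚ)) =
      -((d : ℚ) * (d + 2) * (p - 1) * (d * p - d - 2)) / 24 := by
  have hb : ∀ n, PowerSeries.coeff n (bernoulli'PowerSeries ℚ) = bernoulli' n / n.factorial := by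
    intro n; simp [bernoulli'PowerSeries]
  set B := bernoulli'PowerSeries ℚ with hB
  have b0 : PowerSeries.coeff 0 B = 1 := by rw [hb]; simp
  have b1 : PowerSeries.coeff 1 B = 1 / 2 := by rw [hb]; simp
  have b2 : PowerSeries.coeff 2 B = 1 / 12 := by rw [hb]; simp; norm_num
  have b3 : PowerSeries.coeff 3 B = 0 := by rw [hb]; simp
  set R := PowerSeries.rescale (-(d : ℚ)) B with hR
  have hc : PowerSeries.constantCoeff R ≠ 0 := by
    rw [← PowerSeries.coeff_zero_eq_constantCoeff_apply, hR, PowerSeries.coeff_rescale, b0]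
    simp
  set C := R⁻¹ with hCdef
  have hCR : C * R = 1 := PowerSeries.inv_mul_cancel _ hc
  have e0 := congrArg (PowerSeries.coeff 0) hCR
  have e1 := congrArg (PowerSeries.coeff 1) hCR
  have e2 := congrArg (PowerSeries.coeff 2) hCR
  have e3 := congrArg (PowerSeries.coeff 3) hCR
  simp only [PowerSeries.coeff_mul, Finset.Nat.sum_antidiagonal_eq_sum_range_succ_mk,
    Finset.sum_range_succ, Finset.sum_range_zero, hR, PowerSeries.coeff_rescale, Nat.sub_self,
    Nat.sub_zero, b0, b1, b2, b3, PowerSeries.coeff_one, zero_add, pow_zero, pow_one,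
    show (2:ℕ) - 1 = 1 from rfl, show (3:ℕ) - 1 = 2 from rfl, show (3:ℕ) - 2 = 1 from rfl] at e0 e1 e2 e3
  simp only [one_mul, mul_one, one_ne_zero, OfNat.ofNat_ne_zero, if_true, if_false, mul_zero,
    add_zero] at e0 e1 e2 e3
  have c1 : PowerSeries.coeff 1 C = (d : ℚ) / 2 := by
    rw [e0] at e1; linarith
  have c2 : PowerSeries.coeff 2 C = (d : ℚ) ^ 2 / 6 := by
    rw [e0, c1] at e2; linear_combination e2
  have c3 : PowerSeries.coeff 3 C = (d : ℚ) ^ 3 / 24 := by
    rw [c1, c2] at e3; linear_combination e3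
  simp only [pow_succ, pow_zero, one_mul]
  simp only [PowerSeries.coeff_mul, Finset.Nat.sum_antidiagonal_eq_sum_range_succ_mk,
    Finset.sum_range_succ, Finset.sum_range_zero, PowerSeries.coeff_rescale, Nat.sub_self,
    Nat.sub_zero, b0, b1, b2, b3, c1, c2, c3, e0, PowerSeries.coeff_exp, zero_add, pow_zero,
    pow_one, show (2:ℕ) - 1 = 1 from rfl, show (3:ℕ) - 1 = 2 from rfl,
    show (3:ℕ) - 2 = 1 from rfl]
  simp only [Nat.factorial, map_one, map_div₀, eq_ratCast, Rat.cast_id]
  push_cast
  simp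
  ring

end Groth.Agent.S17715
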