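import Groth.Statements.S17717
import Mathlib.Tactic
-- import your own Groth.Agent.* helpers here

set_option autoImplicit false
open MoretBailly

namespace Groth.Agent.S17717

/-- Write B(x) = x/(1 - e^(-x)) for the exponential generating series of the Bernoulli numbers (B'_1 =
1/2). For all natural numbers d, p and every integer s the coefficient of x in B(-dx)^(-1) B(-dpx)
B(x)^2 e^((dp-d-2+s)x), i.e. the case n = 1 of the Todd-class integrand, equals d(p-1)/2 + s - 1. -/
theorem result (d p : ℕ) (s : ℤ) :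
    PowerSeries.coeff 1 ((PowerSeries.rescale (-(d : ℚ)) (bernoulli'PowerSeries ℚ))⁻¹ * PowerSeries.rescale (-((d : ℚ) * p)) (bernoulli'PowerSeries ℚ) * bernoulli'PowerSeries ℚ ^ (2) * PowerSeries.rescale ((d : ℚ) * p - d - 2 + s) (PowerSeries.exp ℚ)) =
      (d : ℚ) * (p - 1) / 2 + s - 1 := by
  have hb : ∀ n, PowerSeries.coeff n (bernoulli'PowerSeries ℚ) = bernoulli' n / n.factorial := by
    intro n; simp [bernoulli'PowerSeries]
  set B := bernoulli'PowerSeries ℚ with hB
  have b0 : PowerSeries.coeff 0 B = 1 := by rw [hb]; simp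
  have b1 : PowerSeries.coeff 1 B = 1 / 2 := by rw [hb]; simp
  set R := PowerSeries.rescale (-(d : ℚ)) B with hR
  have hc : PowerSeries.constantCoeff R ≠ 0 := by
    rw [← PowerSeries.coeff_zero_eq_constantCoeff_apply, hR, PowerSeries.coeff_rescale, b0]
    simp
  set C := R⁻¹ with hCdef
  have hCR : C * R = 1 := PowerSeries.inv_mul_cancel _ hc
  have e0 := congrArg (PowerSeries.coeff 0) hCR
  have e1 := congrArg (PowerSeries.coeff 1) hCR
  simp [PowerSeries.coeff_mul, Finset.Nat.sum_antidiagonal_eq_sum_range_succ_mk,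
    Finset.sum_range_succ, hR, PowerSeries.coeff_rescale, b0, b1, PowerSeries.coeff_one] at e0 e1
  have c1 : PowerSeries.coeff 1 C = (d : ℚ) / 2 := by
    rw [e0] at e1; linarith
  simp only [pow_succ, pow_zero, one_mul]
  simp [PowerSeries.coeff_mul, Finset.Nat.sum_antidiagonal_eq_sum_range_succ_mk,
    Finset.sum_range_succ, PowerSeries.coeff_rescale, b0, b1, c1, e0, PowerSeries.coeff_exp]
  ring

end Groth.Agent.S17717
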