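import Groth.Statements.S17720
import Mathlib
-- import your own Groth.Agent.* helpers here

set_option autoImplicit false
universe u
open CAlg

namespace Groth.Agent.S17720

section
open IsLocalRing

theorem eq_zero_of_mul {R : Type u} [CommRing R] [IsLocalRing R] [IsNoetherianRing R]
    (u v : PowerSeries R) (a : R) (h : u * v = PowerSeries.C a)
    (hu0 : PowerSeries.coeff 0 u ∈ maximalIdeal R) (hu1 : IsUnit (PowerSeries.coeff 1 u))
    (hv : ∀ n, PowerSeries.coeff n v ∈ maximalIdeal R) : a = 0 := by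
  let J := Ideal.span (Set.range fun n => PowerSeries.coeff n v)
  have hmem : ∀ n, PowerSeries.coeff n v ∈ J := fun n => Ideal.subset_span ⟨n, rfl⟩
  have hJm : J ≤ maximalIdeal R := Ideal.span_le.2 (by rintro _ ⟨n, rfl⟩; exact hv n)
  have key : ∀ n, PowerSeries.coeff n v ∈ maximalIdeal R • J := by
    intro n
    induction n using Nat.strong_induction_on with
    | _ n ih =>
      have h2 := congrArg (PowerSeries.coeff (n + 1)) h
      rw [PowerSeries.coeff_mul, PowerSeries.coeff_C, if_neg (Nat.succ_ne_zero n),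
        Finset.Nat.sum_antidiagonal_eq_sum_range_succ_mk, Finset.sum_range_succ',
        Finset.sum_range_succ'] at h2
      simp only [zero_add, Nat.sub_zero, Nat.add_sub_cancel] at h2
      have h3 : PowerSeries.coeff 1 u * PowerSeries.coeff n v ∈ maximalIdeal R • J := by
        rw [show PowerSeries.coeff 1 u * PowerSeries.coeff n v =
          -(∑ k ∈ Finset.range n, PowerSeries.coeff (k + 1 + 1) u * PowerSeries.coeff (n + 1 - (k + 1 + 1)) v)
            - PowerSeries.coeff 0 u * PowerSeries.coeff (n + 1) v by linear_combination h2]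
        refine Submodule.sub_mem _ (neg_mem (Submodule.sum_mem _ fun k hk => ?_))
          (Submodule.smul_mem_smul hu0 (hmem _))
        have := Finset.mem_range.1 hk
        exact Ideal.mul_mem_left _ _ (ih _ (by omega))
      exact (Ideal.unit_mul_mem_iff_mem _ hu1).1 h3
  have hJ : J = ⊥ := by
    refine Submodule.eq_bot_of_le_smul_of_le_jacobson_bot (maximalIdeal R) J (IsNoetherian.noetherian J)
      (Ideal.span_le.2 ?_) (IsLocalRing.maximalIdeal_le_jacobson _)
    rintro _ ⟨n, rfl⟩
    exact key n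
  have hv0 : v = 0 := PowerSeries.ext fun n => by
    rw [map_zero, ← Ideal.mem_bot, ← hJ]; exact hmem n
  rw [hv0, mul_zero] at h
  exact (map_eq_zero_iff _ PowerSeries.C_injective).1 h.symm

def ofFun {A : Type u} (f : (Fin 2 →₀ ℕ) → A) : MvPowerSeries (Fin 2) A := f

@[simp] theorem coeff_ofFun {A : Type u} [CommRing A] (f : (Fin 2 →₀ ℕ) → A) (d : Fin 2 →₀ ℕ) :
    MvPowerSeries.coeff d (ofFun f) = f d := rfl

theorem maximalIdeal_le_map_mk {A : Type u} [CommRing A] [IsLocalRing A] (I : Ideal A) (hI : I ≠ ⊤)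
    [IsLocalRing (A ⧸ I)] : (maximalIdeal A).map (Ideal.Quotient.mk I) = maximalIdeal (A ⧸ I) := by
  refine IsLocalRing.eq_maximalIdeal ?_
  exact ((Ideal.map_eq_top_or_isMaximal_of_surjective _ Ideal.Quotient.mk_surjective (maximalIdeal.isMaximal A)).resolve_left
    fun h => hI (eq_top_iff.2 (by
      have h' := congrArg (Ideal.comap (Ideal.Quotient.mk I)) h
      rw [Ideal.comap_map_of_surjective _ Ideal.Quotient.mk_surjective, Ideal.comap_top] at h'
      rw [← RingHom.ker_eq_comap_bot, Ideal.mk_ker, sup_eq_left.2 (le_maximalIdeal hI)] at h'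
      exact absurd h' (maximalIdeal.isMaximal A).ne_top)))

theorem exists_decomp {A : Type u} [CommRing A] (F : MvPowerSeries (Fin 2) A) :
    ∃ (c : A) (F1 F2 : MvPowerSeries (Fin 2) A),
      F = MvPowerSeries.C c + MvPowerSeries.X 0 * F1 + MvPowerSeries.X 1 * F2 := by
  classical
  refine ⟨MvPowerSeries.constantCoeff F,
    ofFun (fun d => MvPowerSeries.coeff (d + Finsupp.single 0 1) F),
    ofFun (fun d => if d 0 = 0 then MvPowerSeries.coeff (d + Finsupp.single 1 1) F else 0), ?_⟩
  ext d
  rw [map_add, map_add, MvPowerSeries.coeff_C, MvPowerSeries.X_def, MvPowerSeries.X_def,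
    MvPowerSeries.coeff_monomial_mul, MvPowerSeries.coeff_monomial_mul, one_mul, one_mul]
  by_cases hd0 : d 0 = 0
  · have h0 : ¬ (Finsupp.single 0 1 : Fin 2 →₀ ℕ) ≤ d := fun h => by
      have := h 0; simp [hd0] at this
    by_cases hd1 : d 1 = 0
    · have hd : d = 0 := by ext i; fin_cases i <;> simp [hd0, hd1]
      subst hd
      have h1 : ¬ (Finsupp.single 1 1 : Fin 2 →₀ ℕ) ≤ 0 := fun h => by
        have := h 1; simp at this
      simp [h0, h1]
    · have hle : (Finsupp.single 1 1 : Fin 2 →₀ ℕ) ≤ d := Finsupp.single_le_iff.2 (by omega)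
      have hne : d ≠ 0 := fun h => hd1 (by simp [h])
      rw [if_neg hne, if_neg h0, if_pos hle, zero_add, zero_add]
      rw [coeff_ofFun, if_pos (by simp [hd0]), tsub_add_cancel_of_le hle]
  · have hle : (Finsupp.single 0 1 : Fin 2 →₀ ℕ) ≤ d := Finsupp.single_le_iff.2 (by omega)
    have hne : d ≠ 0 := fun h => hd0 (by simp [h])
    rw [if_neg hne, if_pos hle, zero_add]
    rw [coeff_ofFun, tsub_add_cancel_of_le hle]
    split_ifs with h1
    · rw [coeff_ofFun, if_neg (by simp [hd0]), add_zero]
    · rw [add_zero]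

theorem mem_span {A : Type u} [CommRing A] [IsLocalRing A] [IsNoetherianRing A] {α β : A}
    (hα : α ∈ maximalIdeal A)
    (φ : (MvPowerSeries (Fin 2) A ⧸ Ideal.span {(MvPowerSeries.X 0 * MvPowerSeries.X 1 - MvPowerSeries.C α : MvPowerSeries (Fin 2) A)}) ≃ₐ[A]
      (MvPowerSeries (Fin 2) A ⧸ Ideal.span {(MvPowerSeries.X 0 * MvPowerSeries.X 1 - MvPowerSeries.C β : MvPowerSeries (Fin 2) A)})) :
    α ∈ Ideal.span {β} := by
  classical
  set I := Ideal.span {β} with hI
  by_cases htop : I = ⊤
  · simp [htop]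
  have : Nontrivial (A ⧸ I) := Ideal.Quotient.nontrivial_iff.2 htop
  have : IsLocalRing (A ⧸ I) := IsLocalRing.of_surjective' (Ideal.Quotient.mk I) Ideal.Quotient.mk_surjective
  let e : Unit ↪ Fin 2 := ⟨fun _ => 0, fun _ _ _ => rfl⟩
  let h0 : MvPowerSeries (Fin 2) A →+* PowerSeries (A ⧸ I) :=
    (PowerSeries.map (Ideal.Quotient.mk I)).comp (MvPowerSeries.killCompl e : MvPowerSeries (Fin 2) A →ₐ[A] PowerSeries A).toRingHom
  have hC : ∀ a, h0 (MvPowerSeries.C a) = PowerSeries.C (Ideal.Quotient.mk I a) := fun a => by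
    simp only [h0, RingHom.coe_comp, Function.comp_apply, AlgHom.toRingHom_eq_coe, RingHom.coe_coe, MvPowerSeries.killCompl_C]
    exact PowerSeries.map_C _ _
  have hX0 : h0 (MvPowerSeries.X 0) = PowerSeries.X := by
    simp only [h0, RingHom.coe_comp, Function.comp_apply, AlgHom.toRingHom_eq_coe, RingHom.coe_coe]
    rw [show (0 : Fin 2) = e () from rfl, MvPowerSeries.killCompl_X]
    exact PowerSeries.map_X _
  have hX1 : h0 (MvPowerSeries.X 1) = 0 := by
    simp only [h0, RingHom.coe_comp, Function.comp_apply, AlgHom.toRingHom_eq_coe, RingHom.coe_coe]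
    rw [MvPowerSeries.killCompl_X_eq_zero (by rintro ⟨⟨⟩, hx⟩; exact absurd hx (by simp [e, DFunLike.coe])), map_zero]
  let h := Ideal.Quotient.lift (Ideal.span {(MvPowerSeries.X 0 * MvPowerSeries.X 1 - MvPowerSeries.C β : MvPowerSeries (Fin 2) A)}) h0
    (fun z hz => by
      obtain ⟨w, rfl⟩ := Ideal.mem_span_singleton.1 hz
      rw [map_mul, map_sub, map_mul, hX1, mul_zero, hC, Ideal.Quotient.eq_zero_iff_mem.2 (hI ▸ Ideal.mem_span_singleton_self β), map_zero, sub_zero, zero_mul])
  let ξ := fun i => Ideal.Quotient.mk (Ideal.span {(MvPowerSeries.X 0 * MvPowerSeries.X 1 - MvPowerSeries.C α : MvPowerSeries (Fin 2) A)}) (MvPowerSeries.X i)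
  let u := h (φ (ξ 0))
  let v := h (φ (ξ 1))
  have hCC : ∀ a, h (φ (Ideal.Quotient.mk _ (MvPowerSeries.C a))) = PowerSeries.C (Ideal.Quotient.mk I a) := fun a => by
    rw [show (Ideal.Quotient.mk _ (MvPowerSeries.C a)) = algebraMap A (MvPowerSeries (Fin 2) A ⧸ _) a from rfl, φ.commutes]
    exact hC a
  have huv : u * v = PowerSeries.C (Ideal.Quotient.mk I α) := by
    rw [← hCC, ← map_mul, ← map_mul, ← map_mul,
      Ideal.Quotient.eq.2 (Ideal.mem_span_singleton_self (MvPowerSeries.X 0 * MvPowerSeries.X 1 - MvPowerSeries.C α : MvPowerSeries (Fin 2) A))]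
  rw [← Ideal.Quotient.eq_zero_iff_mem]
  let π : PowerSeries (A ⧸ I) →+* PowerSeries (ResidueField (A ⧸ I)) := PowerSeries.map (residue _)
  have hres : residue (A ⧸ I) (Ideal.Quotient.mk I α) = 0 := by
    rw [residue_eq_zero_iff]
    intro hu
    obtain ⟨b, hb⟩ := Ideal.Quotient.mk_surjective (hu.unit⁻¹ : (A ⧸ I)ˣ).1
    have : Ideal.Quotient.mk I (α * b - 1) = 0 := by
      rw [map_sub, map_mul, hb, map_one, IsUnit.mul_val_inv, sub_self]
    have h2 : α * b - 1 ∈ maximalIdeal A :=
      le_maximalIdeal htop (Ideal.Quotient.eq_zero_iff_mem.1 this)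
    exact (maximalIdeal.isMaximal A).ne_top ((Ideal.eq_top_iff_one _).2
      (by simpa using sub_mem (Ideal.mul_mem_right b _ hα) h2))
  have huv' : π u * π v = 0 := by
    rw [← map_mul, huv]; simp [π, hres]
  -- not both linear coefficients vanish
  obtain ⟨F, hF⟩ := Ideal.Quotient.mk_surjective (φ.symm (Ideal.Quotient.mk _ (MvPowerSeries.X 0)))
  obtain ⟨c, F1, F2, rfl⟩ := exists_decomp F
  have hkey := congrArg (fun z => π (h (φ z))) hF
  simp only [AlgEquiv.apply_symm_apply, map_add, map_mul, hCC] at hkey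
  rw [show h (Ideal.Quotient.mk _ (MvPowerSeries.X 0)) = h0 (MvPowerSeries.X 0) from rfl, hX0] at hkey
  change PowerSeries.map _ _ + π u * _ + π v * _ = PowerSeries.map _ _ at hkey
  rw [PowerSeries.map_C, PowerSeries.map_X] at hkey
  have hnu : ∀ i : Fin 2, PowerSeries.coeff 0 (π (h (φ (ξ i)))) = 0 := by
    intro i
    by_contra hne
    obtain ⟨G, hG⟩ := Ideal.Quotient.mk_surjective (φ (ξ i))
    have hG' : IsUnit G := by
      rw [MvPowerSeries.isUnit_iff_constantCoeff]
      by_contra hnu
      apply hne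
      have hmem : MvPowerSeries.constantCoeff G ∈ maximalIdeal A := hnu
      have h2 : π (h (φ (ξ i))) = π (h0 G) := by rw [← hG]; rfl
      have h3 : ∀ z, PowerSeries.coeff 0 (h0 z) = Ideal.Quotient.mk I (MvPowerSeries.constantCoeff z) := fun z => by
        simp only [h0, RingHom.coe_comp, Function.comp_apply, AlgHom.toRingHom_eq_coe, RingHom.coe_coe,
          PowerSeries.coeff_map]
        congr 1
        rw [PowerSeries.coeff, MvPowerSeries.coeff_killCompl]
        simp
      simp only [h2, π, PowerSeries.coeff_map, h3, residue_eq_zero_iff]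
      exact (maximalIdeal_le_map_mk I htop) ▸ Ideal.mem_map_of_mem _ hmem
    have hξ : IsUnit (ξ i) := by
      have h2 : IsUnit (φ (ξ i)) := hG ▸ hG'.map _
      simpa using h2.map φ.symm
    let γ := Ideal.Quotient.lift (Ideal.span {(MvPowerSeries.X 0 * MvPowerSeries.X 1 - MvPowerSeries.C α : MvPowerSeries (Fin 2) A)})
      ((residue A).comp MvPowerSeries.constantCoeff) (fun z hz => by
        obtain ⟨w, rfl⟩ := Ideal.mem_span_singleton.1 hz
        simp [(residue_eq_zero_iff α).2 hα])
    have h4 := hξ.map γ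
    simp [γ, ξ] at h4
  have h1 := congrArg (PowerSeries.coeff 1) hkey
  rw [map_add, map_add, PowerSeries.coeff_C, if_neg one_ne_zero, zero_add, PowerSeries.coeff_one_X,
    PowerSeries.coeff_mul, PowerSeries.coeff_mul, Finset.Nat.sum_antidiagonal_eq_sum_range_succ_mk,
    Finset.Nat.sum_antidiagonal_eq_sum_range_succ_mk, Finset.sum_range_succ, Finset.sum_range_succ,
    Finset.sum_range_succ, Finset.sum_range_succ, Finset.sum_range_zero, Finset.sum_range_zero,
    show PowerSeries.coeff 0 (π u) = 0 from hnu 0, show PowerSeries.coeff 0 (π v) = 0 from hnu 1] at h1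
  have hm : ∀ (w : PowerSeries (A ⧸ I)) (n : ℕ), PowerSeries.coeff n (π w) = 0 →
      PowerSeries.coeff n w ∈ maximalIdeal (A ⧸ I) := fun w n hw =>
    (residue_eq_zero_iff _).1 (by simpa [π] using hw)
  rcases mul_eq_zero.1 huv' with hz | hz
  · refine eq_zero_of_mul v u _ (mul_comm u v ▸ huv) (hm _ _ (hnu 1)) ?_ (fun n => hm _ _ (by rw [hz, map_zero]))
    by_contra hnot
    have : PowerSeries.coeff 1 (π v) = 0 := by
      simpa [π] using (residue_eq_zero_iff _).2 hnot
    simp [hz, this] at h1
  · refine eq_zero_of_mul u v _ huv (hm _ _ (hnu 0)) ?_ (fun n => hm _ _ (by rw [hz, map_zero]))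
    by_contra hnot
    have : PowerSeries.coeff 1 (π u) = 0 := by
      simpa [π] using (residue_eq_zero_iff _).2 hnot
    simp [hz, this] at h1

end


open MvPowerSeries IsLocalRing in
/-- Let A be a Noetherian local ring and α, β two elements of its maximal ideal. If the quotient of the
power series ring in two variables over A by xy − α is isomorphic, as an A-algebra, to the quotient
by xy − β, then αA = βA. (The published statement allows any local ring A; it is taken Noetherian
here, the case in which an algebra isomorphism between these complete local rings is continuous for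
their adic topologies.) -/
theorem result
    (A : Type u) [CommRing A] [IsLocalRing A] [IsNoetherianRing A]
    (α β : A) (hα : α ∈ maximalIdeal A) (hβ : β ∈ maximalIdeal A)
    (φ : (MvPowerSeries (Fin 2) A ⧸ Ideal.span {(X 0 * X 1 - C α : MvPowerSeries (Fin 2) A)}) ≃ₐ[A] (MvPowerSeries (Fin 2) A ⧸ Ideal.span {(X 0 * X 1 - C β : MvPowerSeries (Fin 2) A)})) :
    Ideal.span {α} = Ideal.span {β} := by
  refine le_antisymm ?_ ?_
  · exact (Ideal.span_singleton_le_iff_mem _).2 (mem_span hα φ)
  · exact (Ideal.span_singleton_le_iff_mem _).2 (mem_span hβ φ.symm)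

end Groth.Agent.S17720
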