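import Groth.Statements.S17721
import Mathlib

set_option autoImplicit false
universe u
open CAlg

namespace Groth.Agent.S17721

open PowerSeries in
theorem dvd_coeff {R : Type u} [CommRing R] [IsDomain R] [IsDiscreteValuationRing R] (d : R) (hd : d ≠ 0) :
    ∀ r f : PowerSeries R, r * f = C d → ∀ i, coeff 0 f ∣ coeff i f := by
  induction d using WfDvdMonoid.induction_on_irreducible with
  | zero => exact absurd rfl hd
  | unit u hu =>
    intro r f h i
    have h1 : coeff 0 r * coeff 0 f = u := by
      have := congrArg (coeff 0) h
      simpa using this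
    exact (isUnit_of_mul_isUnit_right (h1 ▸ hu)).dvd
  | mul a π ha hπ ih =>
    intro r f h i
    have hp : (Ideal.span {π}).IsPrime := (Ideal.span_singleton_prime hπ.ne_zero).mpr hπ.prime
    let φ := PowerSeries.map (Ideal.Quotient.mk (Ideal.span {π}))
    have h0 : φ r * φ f = 0 := by
      rw [← map_mul, h, PowerSeries.map_C, Ideal.Quotient.eq_zero_iff_mem.mpr (Ideal.mem_span_singleton.mpr (dvd_mul_right π a)), map_zero]
    have hdiv : ∀ g : PowerSeries R, φ g = 0 → ∃ g', g = C π * g' := by
      intro g hg
      have : ∀ j, π ∣ coeff j g := fun j => by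
        have := congrArg (coeff j) hg
        rwa [PowerSeries.coeff_map, map_zero, Ideal.Quotient.eq_zero_iff_dvd] at this
      choose g' hg' using this
      exact ⟨mk g', by ext j; rw [coeff_C_mul, coeff_mk]; exact hg' j⟩
    have hcancel : ∀ x : PowerSeries R, C π * x = C (π * a) → x = C a := by
      intro x hx
      ext j
      refine mul_left_cancel₀ hπ.ne_zero ?_
      rw [← coeff_C_mul, hx, ← coeff_C_mul, ← map_mul]
    rcases mul_eq_zero.mp h0 with h1 | h1
    · obtain ⟨r', rfl⟩ := hdiv r h1
      exact ih ha r' f (hcancel _ (by rw [← mul_assoc, h])) i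
    · obtain ⟨f', rfl⟩ := hdiv f h1
      rw [coeff_C_mul, coeff_C_mul]
      exact mul_dvd_mul_left π (ih ha r f' (hcancel _ (by rw [← h]; ring)) i)

open Polynomial IsLocalRing in
/-- Let R be a complete discrete valuation ring with fraction field K, and f a polynomial over R with
non-zero constant term a₀ such that a₀ does not divide some coefficient of f of positive degree
(equivalently, the Newton polygon of f has a side of negative slope). Let b be the power series over
K with b · f = a₀, the expansion of the geometric series in 1 − f/a₀. Then the valuations of the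
coefficients b_j are not bounded below: for every non-zero c in R there is an index j with c · b_j
outside R. -/
theorem result
    (R : Type u) [CommRing R] [IsDomain R] [IsDiscreteValuationRing R]
    [IsAdicComplete (maximalIdeal R) R]
    (K : Type u) [Field K] [Algebra R K] [IsFractionRing R K]
    (f : R[X]) (h0 : f.coeff 0 ≠ 0) (hslope : ∃ i : ℕ, 0 < i ∧ ¬ (f.coeff 0 ∣ f.coeff i))
    (b : PowerSeries K)
    (hb : b * ((f.map (algebraMap R K) : K[X]) : PowerSeries K) = PowerSeries.C (algebraMap R K (f.coeff 0))) :
    ∀ c : R, c ≠ 0 → ∃ j : ℕ, algebraMap R K c * PowerSeries.coeff j b ∉ (algebraMap R K).range := by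
  intro c hc
  by_contra hall
  push Not at hall
  choose r hr using hall
  have hinj : Function.Injective (algebraMap R K) := IsFractionRing.injective R K
  have he : PowerSeries.mk r * (f : PowerSeries R) = PowerSeries.C (c * f.coeff 0) := by
    apply PowerSeries.map_injective (algebraMap R K) hinj
    have h1 : PowerSeries.map (algebraMap R K) (PowerSeries.mk r) = PowerSeries.C (algebraMap R K c) * b := by
      ext j
      rw [PowerSeries.coeff_map, PowerSeries.coeff_mk, PowerSeries.coeff_C_mul, hr]
    rw [map_mul, h1, ← Polynomial.polynomial_map_coe, mul_assoc, hb, PowerSeries.map_C, map_mul, map_mul]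
  obtain ⟨i, -, hi⟩ := hslope
  exact hi (by simpa using dvd_coeff (c * f.coeff 0) (mul_ne_zero hc h0) (PowerSeries.mk r) f he i)

end Groth.Agent.S17721
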