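import Mathlib
import Groth.Statements.S17722
-- import your own Groth.Agent.* helpers here

set_option autoImplicit false
universe u
open CAlg

namespace Groth.Agent.S17722

/-- Let R → R' be a faithfully flat ring map between Noetherian integrally closed local domains, and p
an ideal of R. If the ideal pR' generated by the image of p is principal, then p is principal. (The
second assertion of the published lemma, descent of unique factorization, is not part of this row.) -/
theorem result
    (R R' : Type u) [CommRing R] [CommRing R'] [IsDomain R] [IsDomain R']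
    [IsNoetherianRing R] [IsNoetherianRing R'] [IsLocalRing R] [IsLocalRing R']
    [IsIntegrallyClosed R] [IsIntegrallyClosed R']
    [Algebra R R'] [Module.FaithfullyFlat R R']
    (p : Ideal R) (hp : (p.map (algebraMap R R')).IsPrincipal) :
    p.IsPrincipal := by
  classical
  obtain ⟨y, hy⟩ := hp
  by_cases hy0 : y = 0
  · refine ⟨0, ?_⟩
    have : p = ⊥ := by
      rw [← Ideal.comap_map_eq_self_of_faithfullyFlat (B := R') p, hy, hy0, Submodule.span_zero_singleton]
      exact (RingHom.injective_iff_ker_eq_bot _).1 (FaithfulSMul.algebraMap_injective R R')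
    rw [this, Submodule.span_zero_singleton]
  have hyp : ∃ x ∈ p, ∃ d : R', IsUnit d ∧ algebraMap R R' x = d * y := by
    by_contra hcon
    push Not at hcon
    have hy1 : y ∈ p.map (algebraMap R R') := by rw [hy]; exact Submodule.mem_span_singleton_self y
    have hle : p.map (algebraMap R R') ≤ IsLocalRing.maximalIdeal R' * Ideal.span {y} := by
      rw [Ideal.map_le_iff_le_comap]
      intro x hx
      have hx' : algebraMap R R' x ∈ Submodule.span R' {y} := hy ▸ Ideal.mem_map_of_mem _ hx
      obtain ⟨d, hd⟩ := Submodule.mem_span_singleton.1 hx'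
      rw [Ideal.mem_comap, ← hd, smul_eq_mul]
      exact Ideal.mul_mem_mul (fun hu => hcon x hx d hu hd.symm) (Ideal.mem_span_singleton_self y)
    obtain ⟨d, hd, hdy⟩ := Ideal.mem_mul_span_singleton.1 (hle hy1)
    have : d = 1 := mul_right_cancel₀ hy0 (by rw [hdy, one_mul])
    exact (IsLocalRing.mem_maximalIdeal _).1 hd (this ▸ isUnit_one)
  obtain ⟨x, hx, d, hd, hxy⟩ := hyp
  refine ⟨x, le_antisymm (fun z hz => ?_) ((Submodule.span_singleton_le_iff_mem _ _).2 hx)⟩
  rw [← Ideal.comap_map_eq_self_of_faithfullyFlat (B := R') p, Ideal.mem_comap, hy] at hz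
  show z ∈ Ideal.span {x}
  rw [← Ideal.comap_map_eq_self_of_faithfullyFlat (B := R') (Ideal.span {x}), Ideal.mem_comap, Ideal.map_span, Set.image_singleton, hxy,
    Ideal.span_singleton_mul_left_unit hd]
  exact hz

end Groth.Agent.S17722
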