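import Groth.Statements.S17723
import Groth.Agent.GraphCochain.Basic

set_option autoImplicit false
universe u
open LabGraph

namespace Groth.Agent.S17723

/-- Let G be a finite connected multigraph with endpoint map ends and edge labels l taking positive
integer values. We say g : V → ℤ is elementary-Cartier if, for some integer n ≥ 1, all values of g
are multiples of n and, for each edge whose label fails to divide n, g agrees at its two endpoints
(equivalently, once the edges with label dividing n are removed, g takes a single value on each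
connected piece of what remains). Then every Cartier function f (for each edge, the label divides
the difference of the values of f at its endpoints) lies in the ℤ-span of the elementary-Cartier
functions. -/
theorem result
    {V E : Type u} [Fintype V] [Fintype E] [DecidableEq V] [DecidableEq E]
    (ends : E → V × V) (l : E → ℕ) (hl : ∀ e, 0 < l e) (hconn : LabGraph.Connected ends)
    (f : V → ℤ) (hf : LabGraph.IsCartier ends l f) :
    f ∈ Submodule.span ℤ {g : V → ℤ | ∃ n : ℕ, 0 < n ∧ (∀ v, (n : ℤ) ∣ g v) ∧
      ∀ e, ¬ (l e ∣ n) → g (ends e).1 = g (ends e).2} := by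
  classical
  refine GraphCochain.mem_of_local _ f fun p hp => ?_
  let v : E → ℕ := fun e => (l e).factorization p
  let M : ℕ := ∏ e, l e / p ^ v e
  have hM : ∀ e, l e / p ^ v e ∣ M := fun e => Finset.dvd_prod_of_mem (fun e => l e / p ^ v e) (Finset.mem_univ e)
  have hMpos : 0 < M := Finset.prod_pos fun e _ => Nat.ordCompl_pos p (hl e).ne'
  refine ⟨(M : ℤ), fun hd => ?_, ?_⟩
  · obtain ⟨e, -, hde⟩ := (Nat.Prime.prime hp).exists_mem_finset_dvd (Int.natCast_dvd_natCast.1 hd)
    exact Nat.not_dvd_ordCompl hp (hl e).ne' hde
  let S : ℕ → Finset E := fun k => Finset.univ.filter fun e => k < v e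
  let st : ℕ → Setoid V := fun k => ⟨MatTree.Reach ends (S k), fun _ => Relation.ReflTransGen.refl,
    MatTree.reach_symm, Relation.ReflTransGen.trans⟩
  let r : ℕ → V → V := fun k x => (Quotient.mk (st k) x).out
  have hr1 : ∀ k x, MatTree.Reach ends (S k) (r k x) x := fun k x => Quotient.exact (Quotient.out_eq (Quotient.mk (st k) x))
  have hr2 : ∀ k a b, MatTree.Reach ends (S k) a b → r k a = r k b := fun k a b h => by
    show (Quotient.mk (st k) a).out = (Quotient.mk (st k) b).out
    rw [Quotient.sound (s := st k) h]
  have helem : ∀ k (g : V → ℤ), (∀ x, ((p : ℤ) ^ k) ∣ g x) →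
      (∀ e ∈ S k, g (ends e).1 = g (ends e).2) → ((M : ℤ) • g) ∈ Submodule.span ℤ {g : V → ℤ | ∃ n : ℕ,
        0 < n ∧ (∀ v, (n : ℤ) ∣ g v) ∧ ∀ e, ¬ (l e ∣ n) → g (ends e).1 = g (ends e).2} := by
    intro k g hg hconst
    refine Submodule.subset_span ⟨p ^ k * M, Nat.mul_pos (pow_pos hp.pos k) hMpos, fun x => ?_, fun e he => ?_⟩
    · rw [Pi.smul_apply, smul_eq_mul, Nat.cast_mul, Nat.cast_pow, mul_comm]
      exact mul_dvd_mul_left _ (hg x)
    · have : e ∈ S k := by
        simp only [S, Finset.mem_filter, Finset.mem_univ, true_and]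
        by_contra h
        refine he ?_
        rw [← Nat.ordProj_mul_ordCompl_eq_self (l e) p]
        exact Nat.mul_dvd_mul (pow_dvd_pow p (not_lt.1 h)) (hM e)
      simp only [Pi.smul_apply, hconst e this]
  have hlev : ∀ k, (M : ℤ) • (f ∘ r k) ∈ Submodule.span ℤ {g : V → ℤ | ∃ n : ℕ,
        0 < n ∧ (∀ v, (n : ℤ) ∣ g v) ∧ ∀ e, ¬ (l e ∣ n) → g (ends e).1 = g (ends e).2} := by
    intro k
    induction k with
    | zero =>
      exact helem 0 _ (fun x => by simp) fun e he => congrArg f (hr2 0 _ _ (.single (MatTree.adjS_ends he)))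
    | succ k ih =>
      have hsplit : f ∘ r (k + 1) = f ∘ r k + (f ∘ r (k + 1) - f ∘ r k) := by abel
      rw [hsplit, smul_add]
      refine Submodule.add_mem _ ih (helem (k + 1) _ (fun x => ?_) fun e he => ?_)
      · have hsub : ∀ {a b}, MatTree.Reach ends (S (k + 1)) a b → MatTree.Reach ends (S k) a b := fun h => by
          induction h with
          | refl => exact .refl
          | tail _ hs ih =>
            obtain ⟨d, hd, hd'⟩ := hs
            exact ih.tail ⟨d, by simp only [S, Finset.mem_filter, Finset.mem_univ, true_and] at hd ⊢; omega, hd'⟩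
        have key : ∀ {a b : V}, MatTree.Reach ends (S k) a b → ((p : ℤ) ^ (k + 1)) ∣ f b - f a := fun {a _} h => by
          induction h with
          | refl => simp
          | @tail b c _ hs ih =>
            obtain ⟨d, hd, hd'⟩ := hs
            simp only [S, Finset.mem_filter, Finset.mem_univ, true_and] at hd
            have h1 : ((p : ℤ) ^ (k + 1)) ∣ f (ends d).1 - f (ends d).2 :=
              (((pow_dvd_pow (p : ℤ) hd).trans (by exact_mod_cast Nat.ordProj_dvd (l d) p))).trans (hf d)
            rcases hd' with hd' | hd' <;> rw [hd'] at h1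
            · rw [show f c - f a = f b - f a - (f b - f c) by ring]; exact dvd_sub ih h1
            · rw [show f c - f a = f b - f a + (f c - f b) by ring]; exact dvd_add ih h1
        exact key ((hr1 k x).trans (MatTree.reach_symm (hsub (hr1 (k + 1) x))))
      · have h1 : MatTree.Reach ends (S (k + 1)) (ends e).1 (ends e).2 := .single (MatTree.adjS_ends he)
        have h2 : MatTree.Reach ends (S k) (ends e).1 (ends e).2 := .single (MatTree.adjS_ends (by
          simp only [S, Finset.mem_filter, Finset.mem_univ, true_and] at he ⊢; omega))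
        simp only [Pi.sub_apply, Function.comp_apply, hr2 _ _ _ h1, hr2 _ _ _ h2]
  have hK : ∀ x, r (∑ e, v e) x = x := by
    suffices h : ∀ a b, MatTree.Reach ends (S (∑ e, v e)) a b → a = b from fun x => h _ _ (hr1 _ x)
    intro a b h
    induction h with
    | refl => rfl
    | tail _ hs _ =>
      obtain ⟨d, hd, -⟩ := hs
      simp only [S, Finset.mem_filter, Finset.mem_univ, true_and] at hd
      exact absurd hd (not_lt.2 (Finset.single_le_sum (fun e _ => Nat.zero_le (v e)) (Finset.mem_univ d)))
  have := hlev (∑ e, v e)
  rwa [show f ∘ r (∑ e, v e) = f from funext fun x => congrArg f (hK x)] at this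

end Groth.Agent.S17723
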