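import Groth.Statements.S17724
import Groth.Agent.GraphCochain.Basic

set_option autoImplicit false
universe u v
open LabGraph

namespace Groth.Agent.S17724

/-- Let G be a finite connected multigraph with endpoint map ends, whose edges carry labels lab in a set
L and positive integer labels n, and suppose the L-labels are constant along every circuit. Say g :
V → ℤ is pre-achievable when for some finite set B of edges all carrying the same L-label, g takes
equal values at the two endpoints of every edge outside B (so g is constant on the connected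
components of the graph with B deleted); say g is Cartier when for every edge e the integer n(e)
divides the difference of the values of g at its endpoints. Then every Cartier function f is a
finite sum of functions each of which is Cartier and pre-achievable, and when f vanishes at a vertex
v₀ the summands can all be taken to vanish at v₀. -/
theorem result
    {V E : Type u} [Fintype V] [Fintype E] [DecidableEq V] [DecidableEq E] {L : Type v}
    (ends : E → V × V) (lab : E → L) (n : E → ℕ) (hn : ∀ e, 0 < n e)
    (hconn : LabGraph.Connected ends)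
    (hcirc : ∀ C : Finset E, LabGraph.IsCircuit ends C → ∀ e ∈ C, ∀ e' ∈ C, lab e = lab e')
    (f : V → ℤ) (hf : LabGraph.IsCartier ends n f) :
    f ∈ AddSubmonoid.closure {g : V → ℤ | LabGraph.IsCartier ends n g ∧ (∃ B : Finset E, (∀ e ∈ B, ∀ e' ∈ B, lab e = lab e') ∧ ∀ e, e ∉ B → g (ends e).1 = g (ends e).2)} ∧
    ∀ v₀ : V, f v₀ = 0 →
      f ∈ AddSubmonoid.closure {g : V → ℤ | LabGraph.IsCartier ends n g ∧ (∃ B : Finset E, (∀ e ∈ B, ∀ e' ∈ B, lab e = lab e') ∧ ∀ e, e ∉ B → g (ends e).1 = g (ends e).2) ∧ g v₀ = 0} := by
  classical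
  haveI := hconn.1
  obtain ⟨T, -, hT⟩ := MatTree.exists_tree (MatTree.spans_univ hconn)
  obtain ⟨-, hspan, hno⟩ := MatTree.isSpanningTree_iff.1 hT
  let df : E → ℤ := fun e => f (ends e).2 - f (ends e).1
  have hex : ∀ (a : L) (v₀ : V), ∃ g : V → ℤ, g v₀ = 0 ∧
      ∀ e, g (ends e).2 - g (ends e).1 = if lab e = a then df e else 0 := by
    intro a v₀
    obtain ⟨g, hg⟩ := GraphCochain.exists_potential hno (fun e => if lab e = a then df e else 0)
    refine ⟨fun x => g x - g v₀, sub_self _, fun e => ?_⟩
    rw [sub_sub_sub_cancel_right]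
    by_cases he : e ∈ T
    · exact hg e he
    obtain ⟨C, hC, hC'⟩ := GraphCochain.exists_circuit_of_reach he (hspan (ends e).1 (ends e).2)
    have heC : e ∈ C := by
      by_contra h
      exact hno C ((Finset.subset_insert_iff_of_notMem h).1 hC) hC'
    have hTC : ∀ d ∈ C.erase e, d ∈ T ∧ lab d = lab e := fun d hd =>
      ⟨(Finset.mem_insert.1 (hC (Finset.mem_of_mem_erase hd))).resolve_left (Finset.ne_of_mem_erase hd),
        hcirc C hC' d (Finset.mem_of_mem_erase hd) e heC⟩
    have hr := GraphCochain.reach_erase hC'.2.1 heC
    by_cases ha : lab e = a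
    · rw [if_pos ha]
      have := GraphCochain.eq_of_reach (g := fun x => g x - f x) (fun d hd => ?_) hr
      · simp only [df] at *; linarith
      · have h1 := hg d (hTC d hd).1
        rw [if_pos ((hTC d hd).2.trans ha)] at h1
        simp only [df] at h1 ⊢; linarith
    · rw [if_neg ha]
      have := GraphCochain.eq_of_reach (g := g) (fun d hd => ?_) hr
      · linarith
      · have h1 := hg d (hTC d hd).1
        rw [if_neg (fun h => ha ((hTC d hd).2.symm.trans h))] at h1
        linarith
  have main : ∀ v₀ : V, ∃ G : L → V → ℤ, (∀ a, G a v₀ = 0 ∧ LabGraph.IsCartier ends n (G a) ∧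
      ∃ B : Finset E, (∀ e ∈ B, ∀ e' ∈ B, lab e = lab e') ∧ ∀ e, e ∉ B → G a (ends e).1 = G a (ends e).2) ∧
      f = (fun _ => f v₀) + ∑ a ∈ Finset.univ.image lab, G a := by
    intro v₀
    choose G hG0 hG using fun a => hex a v₀
    refine ⟨G, fun a => ⟨hG0 a, fun e => ?_, Finset.univ.filter (fun e => lab e = a), ?_, ?_⟩, funext fun x => ?_⟩
    · rw [← Int.dvd_neg, neg_sub, hG]
      split_ifs
      · rw [show df e = -(f (ends e).1 - f (ends e).2) by simp [df]]; exact (hf e).neg_right
      · exact dvd_zero _
    · intro e he e' he'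
      rw [(Finset.mem_filter.1 he).2, (Finset.mem_filter.1 he').2]
    · intro e he
      have := hG a e
      rw [if_neg (fun h => he (Finset.mem_filter.2 ⟨Finset.mem_univ e, h⟩))] at this
      linarith
    · have := GraphCochain.eq_of_reach (g := fun y => f y - ∑ a ∈ Finset.univ.image lab, G a y)
        (fun e _ => ?_) (hspan x v₀) (S := T)
      · simp only [hG0, Finset.sum_const_zero, sub_zero] at this
        simp only [Pi.add_apply, Finset.sum_apply]
        linarith
      · have h1 : ∑ a ∈ Finset.univ.image lab, (G a (ends e).2 - G a (ends e).1) = df e := by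
          simp only [hG]
          rw [Finset.sum_ite_eq, if_pos (Finset.mem_image_of_mem lab (Finset.mem_univ e))]
        rw [Finset.sum_sub_distrib] at h1
        simp only [df] at h1
        linarith
  constructor
  · obtain ⟨v₀⟩ := hconn.1
    obtain ⟨G, hG, hf'⟩ := main v₀
    rw [hf']
    refine add_mem (AddSubmonoid.subset_closure ⟨fun e => by simp, ∅, by simp, fun e _ => rfl⟩)
      (sum_mem fun a _ => AddSubmonoid.subset_closure ⟨(hG a).2.1, (hG a).2.2⟩)
  · intro v₀ h0
    obtain ⟨G, hG, hf'⟩ := main v₀
    rw [hf', h0]
    refine add_mem ?_ (sum_mem fun a _ => AddSubmonoid.subset_closure ⟨(hG a).2.1, (hG a).2.2, (hG a).1⟩)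
    exact zero_mem _

end Groth.Agent.S17724
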