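import Groth.Statements.S17725
-- import your own Groth.Agent.* helpers here

set_option autoImplicit false
universe u
open SpecSp

namespace Groth.Agent.S17725

open AlgebraicGeometry in
/-- In a connected Noetherian scheme any two points p, q are linked by a finite chain of points p = x₁,
…, xₙ = q such that for each i one of x_i, x_{i+1} is a specialization of the other; equivalently, p
and q are related by the equivalence relation generated by the specialization relation. -/
theorem result
    (X : Scheme.{u}) [IsNoetherian X] [ConnectedSpace X] (p q : X) :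
    Relation.EqvGen (fun x y : X => x ⤳ y) p q := by
  let r : X → X → Prop := fun x y => x ⤳ y
  have hfin : (irreducibleComponents X).Finite :=
    TopologicalSpace.NoetherianSpace.finite_irreducibleComponents
  let K : Set X := {x | Relation.EqvGen r p x}
  have key : ∀ Z ∈ irreducibleComponents X, ∀ a ∈ Z, ∀ b ∈ Z, a ∈ K → b ∈ K := by
    intro Z hZ a ha b hb haK
    obtain ⟨η, hη⟩ := QuasiSober.sober hZ.1 (isClosed_of_mem_irreducibleComponents Z hZ)
    exact .trans _ _ _ (.trans _ _ _ haK (.symm _ _ (.rel _ _ (hη.specializes ha))))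
      (.rel _ _ (hη.specializes hb))
  have hclosed : ∀ T : Set X, (∀ Z ∈ irreducibleComponents X, ∀ a ∈ Z, ∀ b ∈ Z, a ∈ T → b ∈ T) →
      IsClosed T := by
    intro T hT
    have : T = ⋃ Z ∈ {Z ∈ irreducibleComponents X | (Z ∩ T).Nonempty}, Z := by
      ext x
      refine ⟨fun hx => Set.mem_biUnion
        ⟨irreducibleComponent_mem_irreducibleComponents x, x, mem_irreducibleComponent, hx⟩
        mem_irreducibleComponent, fun hx => ?_⟩
      obtain ⟨Z, ⟨hZ, a, ha, haT⟩, hxZ⟩ := Set.mem_iUnion₂.1 hx
      exact hT Z hZ a ha x hxZ haT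
    rw [this]
    exact (hfin.subset fun Z hZ => hZ.1).isClosed_biUnion
      fun Z hZ => isClosed_of_mem_irreducibleComponents Z hZ.1
  have hK : IsClopen K := ⟨hclosed K key, isClosed_compl_iff.1
    (hclosed Kᶜ fun Z hZ a ha b hb haK hbK => haK (key Z hZ b hb a ha hbK))⟩
  have := hK.eq_univ ⟨p, .refl p⟩
  exact this.ge (Set.mem_univ q)

end Groth.Agent.S17725
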