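import Mathlib
import Groth.Statements.S17726
-- import your own Groth.Agent.* helpers here

set_option autoImplicit false
universe u
open CAlg

namespace Groth.Agent.S17726

/-- Let f and g be non-zero-divisors of a commutative ring A, not both units; think of them as local
equations, at a point of the union of the supports, of two effective Cartier divisors E and D. If
the ideals generated by g^{m₁} and f^{n₁} coincide, and likewise for g^{m₂} and f^{n₂}, then m₁ n₂ =
m₂ n₁. So all pairs (m, n) with m D = n E locally at the point are proportional, and the saturation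
of the monoid they form is generated by a single element. -/
theorem result
    (A : Type u) [CommRing A] (f g : A)
    (hf : f ∈ nonZeroDivisors A) (hg : g ∈ nonZeroDivisors A) (hfg : ¬ (IsUnit f ∧ IsUnit g))
    (m₁ n₁ m₂ n₂ : ℕ)
    (h₁ : Ideal.span {g ^ m₁} = Ideal.span {f ^ n₁})
    (h₂ : Ideal.span {g ^ m₂} = Ideal.span {f ^ n₂}) :
    m₁ * n₂ = m₂ * n₁ := by
  have key : ∀ s t : ℕ, s < t → Ideal.span {g ^ s} = Ideal.span {g ^ t} → IsUnit g := by
    intro s t hst h
    obtain ⟨c, hc⟩ := Ideal.mem_span_singleton'.1 (h ▸ Ideal.mem_span_singleton_self (g ^ s))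
    obtain ⟨k, rfl⟩ : ∃ k, t = s + (k + 1) := ⟨t - s - 1, by omega⟩
    have h0 : (c * g ^ (k + 1) - 1) * g ^ s = 0 := by
      rw [sub_mul, one_mul, mul_assoc, ← pow_add, add_comm (k + 1) s, hc, sub_self]
    have := (mem_nonZeroDivisors_iff_right.1 (pow_mem hg s)) _ h0
    rw [sub_eq_zero, pow_succ, ← mul_assoc] at this
    exact IsUnit.of_mul_eq_one_right _ this
  have e : Ideal.span {g ^ (m₁ * n₂)} = Ideal.span {g ^ (m₂ * n₁)} := by
    rw [pow_mul, pow_mul, ← Ideal.span_singleton_pow, h₁, ← Ideal.span_singleton_pow (g ^ m₂), h₂,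
      Ideal.span_singleton_pow, Ideal.span_singleton_pow, ← pow_mul, ← pow_mul, mul_comm]
  by_contra! hne
  have hgu : IsUnit g := (lt_or_gt_of_ne hne).elim (fun h => key _ _ h e) (fun h => key _ _ h e.symm)
  have hfu : ∀ m n : ℕ, Ideal.span {g ^ m} = Ideal.span {f ^ n} → n ≠ 0 → IsUnit f := by
    intro m n h hn
    rw [Ideal.span_singleton_eq_top.2 (hgu.pow m), eq_comm, Ideal.span_singleton_eq_top] at h
    exact (isUnit_pow_iff hn).1 h
  rcases Nat.eq_zero_or_pos n₁ with rfl | hn₁
  · rcases Nat.eq_zero_or_pos n₂ with rfl | hn₂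
    · simp at hne
    · exact hfg ⟨hfu _ _ h₂ hn₂.ne', hgu⟩
  · exact hfg ⟨hfu _ _ h₁ hn₁.ne', hgu⟩

end Groth.Agent.S17726
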