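import Groth.Statements.S17727
-- import your own Groth.Agent.* helpers here

set_option autoImplicit false
set_option linter.style.haveILetI false
set_option backward.isDefEq.respectTransparency false
universe u
open Neron

namespace Groth.Agent.S17727

open CategoryTheory AlgebraicGeometry in
/-- Let f : E → S be a morphism of schemes and U ⊆ S a schematically dense open subscheme such that f
restricts to an isomorphism over U and the preimage of U is schematically dense in E. Then for every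
section σ of f and every point s of S there is an open neighbourhood W of σ(s) in E on which f
restricts to an open immersion. (The published statements conclude that the section lands in the
étale locus of f, in one published form for an algebraic space E, in another for f locally of finite
type over a Noetherian base; the affine-local argument gives the sharper conclusion recorded here,
for schemes.) -/
theorem result
    {E S : Scheme.{u}} (f : E ⟶ S) (U : S.Opens) (hU : CInt.IsSchematicallyDense U)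
    (hiso : IsIso (morphismRestrict f U)) (hdense : CInt.IsSchematicallyDense (f ⁻¹ᵁ U))
    (σ : S ⟶ E) (hσ : σ ≫ f = 𝟙 S) (s : S) :
    ∃ W : E.Opens, σ.base s ∈ W ∧ IsOpenImmersion (W.ι ≫ f) := by
  open CategoryTheory AlgebraicGeometry in
  obtain ⟨_, ⟨V₀, hV₀, rfl⟩, hsV₀, -⟩ :=
    S.isBasis_affineOpens.exists_subset_of_mem_open (Set.mem_univ s) isOpen_univ
  have hfs : f (σ s) = s := by rw [← Scheme.Hom.comp_apply, hσ]; rfl
  obtain ⟨_, ⟨W₀, hW₀, rfl⟩, hsW₀, (hW₀V₀ : W₀ ≤ f ⁻¹ᵁ V₀)⟩ :=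
    E.isBasis_affineOpens.exists_subset_of_mem_open
      (show σ s ∈ f ⁻¹ᵁ V₀ by show f (σ s) ∈ V₀; rw [hfs]; exact hsV₀) (f ⁻¹ᵁ V₀).isOpen
  obtain ⟨r, hr, hsr⟩ := hV₀.exists_basicOpen_le (V := σ ⁻¹ᵁ W₀) ⟨s, hsW₀⟩ hsV₀
  have hV : IsAffineOpen (S.basicOpen r) := hV₀.basicOpen r
  let W := E.basicOpen (f.appLE V₀ W₀ hW₀V₀ r)
  have hW : IsAffineOpen W := hW₀.basicOpen _
  have hWeq : W = W₀ ⊓ f ⁻¹ᵁ S.basicOpen r := Scheme.basicOpen_appLE f W₀ V₀ hW₀V₀ r
  have h1 : W ≤ f ⁻¹ᵁ S.basicOpen r := hWeq ▸ inf_le_right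
  have h2 : S.basicOpen r ≤ σ ⁻¹ᵁ W := by
    intro p hp
    show σ p ∈ W
    rw [hWeq]
    exact ⟨hr hp, show f (σ p) ∈ S.basicOpen r by rw [← Scheme.Hom.comp_apply, hσ]; exact hp⟩
  let φ := f.appLE (S.basicOpen r) W h1
  let ψ := σ.appLE W (S.basicOpen r) h2
  have hφψ : ∀ a, ψ (φ a) = a := fun a => by
    have e : ∀ (m : S ⟶ S) (hm : S.basicOpen r ≤ m ⁻¹ᵁ S.basicOpen r), m = 𝟙 S →
        m.appLE (S.basicOpen r) (S.basicOpen r) hm a = a := by
      intro m hm h; subst h; simp [Scheme.Hom.appLE]; erw [CategoryTheory.Functor.map_id]; rfl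
    rw [← CommRingCat.comp_apply, Scheme.Hom.appLE_comp_appLE]
    exact e _ _ hσ
  have hψ : ∀ b, ψ b = 0 → b = 0 := by
    intro b hb
    let O := W ⊓ f ⁻¹ᵁ U
    have hO : O.ι ≫ f ≫ σ = O.ι := by
      let g := morphismRestrict f U
      haveI := hiso
      have hUW : U ≤ σ ⁻¹ᵁ (f ⁻¹ᵁ U) := fun p hp =>
        show f (σ p) ∈ U by rw [← Scheme.Hom.comp_apply, hσ]; exact hp
      let σU := σ.resLE (f ⁻¹ᵁ U) U hUW
      have hσU : σU ≫ g = 𝟙 _ := by
        rw [← cancel_mono U.ι]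
        simp [σU, g, morphismRestrict_ι, Scheme.Hom.resLE_comp_ι_assoc, hσ]
      have hgσ : g ≫ σU = 𝟙 _ := by rw [← cancel_mono g, Category.assoc, hσU]; simp
      have := congrArg (· ≫ (f ⁻¹ᵁ U).ι) hgσ
      simp only [σU, g, Category.assoc, Scheme.Hom.resLE_comp_ι, Category.id_comp] at this
      rw [← E.homOfLE_ι (inf_le_right : O ≤ f ⁻¹ᵁ U), Category.assoc, ← morphismRestrict_ι_assoc, this]
    have hz : ∀ (m : (O : Scheme) ⟶ E) (hm : ⊤ ≤ m ⁻¹ᵁ W), m = O.ι ≫ f ≫ σ → m.appLE W ⊤ hm b = 0 := by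
      intro m hm h
      subst h
      have h3 : ⊤ ≤ (O.ι ≫ f) ⁻¹ᵁ S.basicOpen r := fun p _ => h1 p.2.1
      have key : ψ ≫ (O.ι ≫ f).appLE (S.basicOpen r) ⊤ h3 =
          ((O.ι ≫ f) ≫ σ).appLE W ⊤ (by rw [Category.assoc]; exact hm) :=
        Scheme.Hom.appLE_comp_appLE _ _ _ _ _ _ _
      have e : ∀ (m' : (O : Scheme) ⟶ E) (hm' : ⊤ ≤ m' ⁻¹ᵁ W), m' = (O.ι ≫ f) ≫ σ → m'.appLE W ⊤ hm' b = 0 := by
        intro m' hm' h'; subst h'
        rw [← key, CommRingCat.comp_apply, hb, map_zero]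
      exact e _ hm (Category.assoc _ _ _).symm
    have h0 := hz O.ι (fun p _ => p.2.1) hO.symm
    rw [Scheme.Opens.ι_appLE] at h0
    apply hdense W
    have hle : O ≤ O.ι ''ᵁ ⊤ := by simp
    have := congrArg (E.presheaf.map (homOfLE hle).op) h0
    rw [map_zero] at this
    rw [map_zero]
    erw [← CommRingCat.comp_apply, ← Functor.map_comp] at this
    exact this
  have hbij : Function.Bijective φ :=
    ⟨fun a a' h => by rw [← hφψ a, ← hφψ a', h], fun b => ⟨ψ b, by
      rw [← sub_eq_zero]; apply hψ; rw [map_sub, hφψ, sub_self]⟩⟩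
  haveI : IsIso φ := (ConcreteCategory.isIso_iff_bijective φ).2 hbij
  refine ⟨W, by rw [hWeq]; exact ⟨hsW₀, show f (σ s) ∈ S.basicOpen r by rw [hfs]; exact hsr⟩, ?_⟩
  rw [← hW.isoSpec_hom_fromSpec, Category.assoc,
    ← IsAffineOpen.SpecMap_appLE_fromSpec f hV hW h1]
  infer_instance

end Groth.Agent.S17727
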