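import Groth.Statements.S17728
import Mathlib
import Groth.Agent.FlatDescent.Scheme
import Groth.Agent.S3843
import Groth.Agent.S17727
import Groth.Agent.FlatDescent.Dom.Dense
import Groth.Agent.FlatDescent.Dom.Extend
-- import your own Groth.Agent.* helpers here

set_option autoImplicit false
set_option linter.style.haveILetI false
set_option backward.isDefEq.respectTransparency false
universe u
open Neron

open CategoryTheory AlgebraicGeometry

namespace Groth.Agent.S17728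

open CategoryTheory AlgebraicGeometry in
/-- Schematic density passes to open subschemes. -/
theorem dense_restrict {X : Scheme.{u}} (W T : X.Opens) (h : CInt.IsSchematicallyDense T) :
    CInt.IsSchematicallyDense (W.ι ⁻¹ᵁ T) := by
  intro O a b hab
  apply h (W.ι ''ᵁ O)
  have hle : W.ι ''ᵁ O ⊓ T ≤ W.ι ''ᵁ (O ⊓ W.ι ⁻¹ᵁ T) := by
    rintro _ ⟨⟨y, hy, rfl⟩, hT⟩
    exact ⟨y, ⟨hy, hT⟩, rfl⟩
  have := congrArg (X.presheaf.map (homOfLE hle).op) hab
  change ((W.ι.opensFunctor.op ⋙ X.presheaf).map _ ≫ X.presheaf.map _) a =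
    ((W.ι.opensFunctor.op ⋙ X.presheaf).map _ ≫ X.presheaf.map _) b at this
  simp only [Functor.comp_map, ← Functor.map_comp] at this
  exact this

/-- Schematic density descends along faithfully flat morphisms. -/
theorem dense_descend {W V : Scheme.{u}} (g : W ⟶ V) [Flat g] [Surjective g] (T : V.Opens)
    (h : CInt.IsSchematicallyDense (g ⁻¹ᵁ T)) : CInt.IsSchematicallyDense T := by
  intro O a b hab
  have h1 : g.app O a = g.app O b := by
    apply h (g ⁻¹ᵁ O)
    have := congrArg (g.app (O ⊓ T)) hab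
    rw [← CommRingCat.comp_apply, ← CommRingCat.comp_apply, Scheme.Hom.naturality] at this
    exact this
  refine TopCat.Presheaf.section_ext V.sheaf O a b fun y hy => ?_
  obtain ⟨w, rfl⟩ := g.surjective y
  have hinj : Function.Injective (g.stalkMap w) := by
    algebraize [(g.stalkMap w).hom]
    have : Module.FaithfullyFlat (V.presheaf.stalk (g w)) (W.presheaf.stalk w) :=
      @Module.FaithfullyFlat.of_flat_of_isLocalHom _ _ _ _ _ _ _
        (Flat.stalkMap g w) (g.toLRSHom.prop w)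
    exact ‹RingHom.FaithfullyFlat _›.injective
  exact hinj (by
    erw [Scheme.Hom.germ_stalkMap_apply, Scheme.Hom.germ_stalkMap_apply, h1])

/-- Restricting over an open. -/
theorem dense_pre {X S : Scheme.{u}} (f : X ⟶ S) (U V : S.Opens) (h : CInt.IsSchematicallyDense (f ⁻¹ᵁ U)) :
    CInt.IsSchematicallyDense ((f ∣_ V) ⁻¹ᵁ (V.ι ⁻¹ᵁ U)) := by
  have e : (f ∣_ V) ⁻¹ᵁ (V.ι ⁻¹ᵁ U) = (f ⁻¹ᵁ V).ι ⁻¹ᵁ (f ⁻¹ᵁ U) := by
    rw [← Scheme.Hom.comp_preimage, morphismRestrict_ι, Scheme.Hom.comp_preimage]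
  rw [e]; exact dense_restrict _ _ h

/-- Schematic density descends along morphisms with a section. -/
theorem dense_of_section {W V : Scheme.{u}} (g : W ⟶ V) (s : V ⟶ W) (hs : s ≫ g = 𝟙 V) (T : V.Opens)
    (h : CInt.IsSchematicallyDense (g ⁻¹ᵁ T)) : CInt.IsSchematicallyDense T := by
  intro O a b hab
  have h1 : g.app O a = g.app O b := by
    apply h (g ⁻¹ᵁ O)
    have := congrArg (g.app (O ⊓ T)) hab
    rw [← CommRingCat.comp_apply, ← CommRingCat.comp_apply, Scheme.Hom.naturality] at this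
    exact this
  have e : ∀ (m : V ⟶ V), m = 𝟙 V → Function.Injective (m.app O) := by
    intro m hm; subst hm
    intro c d hcd
    exact hcd
  apply e _ hs
  rw [Scheme.Hom.comp_app, CommRingCat.comp_apply, CommRingCat.comp_apply, h1]


/-- Let S be a Noetherian scheme, U ⊆ S a dense open subscheme and f : X → S a morphism locally of
finite type which restricts to an isomorphism over U and for which the preimage of U is
schematically dense in X. For a point x of X the following are equivalent: f is étale on some open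
neighbourhood of x; f is flat at x, that is, the local ring of X at x is flat over the local ring of
S at f(x); some open neighbourhood V of f(x) carries a section σ of f over V passing through x. -/
theorem result
    {X S : Scheme.{u}} [IsNoetherian S] (f : X ⟶ S) [LocallyOfFiniteType f]
    (U : S.Opens) (hU : Dense (U : Set S))
    (hiso : IsIso (morphismRestrict f U)) (hdense : CInt.IsSchematicallyDense (f ⁻¹ᵁ U))
    (x : X) :
    List.TFAE [
      ∃ W : X.Opens, x ∈ W ∧ Etale (W.ι ≫ f),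
      (f.stalkMap x).hom.Flat,
      ∃ (V : S.Opens) (hV : f.base x ∈ V) (σ : (V : Scheme.{u}) ⟶ X),
        σ ≫ f = V.ι ∧ σ.base ⟨f.base x, hV⟩ = x] := by
  tfae_have 1 → 2 := by
    rintro ⟨W, hxW, hW⟩
    haveI := hW
    have h := Flat.stalkMap (W.ι ≫ f) ⟨x, hxW⟩
    rw [Scheme.Hom.stalkMap_comp, CommRingCat.hom_comp, RingHom.Flat.respectsIso.cancel_right_isIso] at h
    exact h
  tfae_have 3 → 1 := by
    rintro ⟨V, hV, σ, hσ, hσx⟩
    let σ' : (V : Scheme.{u}) ⟶ (f ⁻¹ᵁ V : X.Opens) :=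
      IsOpenImmersion.lift (f ⁻¹ᵁ V).ι σ (by
        rintro _ ⟨p, rfl⟩
        rw [Scheme.Opens.range_ι]
        show f (σ p) ∈ V
        rw [← Scheme.Hom.comp_apply, hσ]
        exact p.2)
    have hσ' : σ' ≫ (f ⁻¹ᵁ V).ι = σ := IsOpenImmersion.lift_fac _ _ _
    have h2 : σ' ≫ (f ∣_ V) = 𝟙 _ := by
      rw [← cancel_mono V.ι, Category.assoc, morphismRestrict_ι, reassoc_of% hσ', hσ, Category.id_comp]
    have hUV : IsIso ((f ∣_ V) ∣_ (V.ι ⁻¹ᵁ U)) := by
      haveI := hiso
      refine ((MorphismProperty.isomorphisms Scheme.{u}).arrow_mk_iso_iff (morphismRestrictRestrict f V (V.ι ⁻¹ᵁ U))).2 ?_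
      have hle : V.ι ''ᵁ V.ι ⁻¹ᵁ U ≤ U := by rintro _ ⟨p, hp, rfl⟩; exact hp
      refine ((MorphismProperty.isomorphisms Scheme.{u}).arrow_mk_iso_iff ((morphismRestrictRestrict f U (U.ι ⁻¹ᵁ (V.ι ''ᵁ V.ι ⁻¹ᵁ U))) ≪≫
        morphismRestrictEq f (by rw [Scheme.Hom.image_preimage_eq_opensRange_inf, Scheme.Opens.opensRange_ι, inf_eq_right.2 hle]))).1 ?_
      exact inferInstanceAs (IsIso ((f ∣_ U) ∣_ _))
    obtain ⟨W, hxW, hW⟩ := Groth.Agent.S17727.result (f ∣_ V) (V.ι ⁻¹ᵁ U) (dense_of_section (f ∣_ V) σ' h2 _ (dense_pre f U V hdense)) hUV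
      (dense_pre f U V hdense) σ' h2 ⟨f x, hV⟩
    haveI := hW
    refine ⟨(f ⁻¹ᵁ V).ι ''ᵁ W, ⟨σ' ⟨f x, hV⟩, hxW, ?_⟩, ?_⟩
    · exact (congrArg (fun m : (V : Scheme.{u}) ⟶ X => m ⟨f x, hV⟩) hσ').trans hσx
    · have : IsOpenImmersion (((f ⁻¹ᵁ V).ι ''ᵁ W).ι ≫ f) := by
        rw [← Scheme.Hom.isoImage_inv_ι (f ⁻¹ᵁ V).ι W, Category.assoc, Category.assoc, ← morphismRestrict_ι, ← Category.assoc W.ι]
        infer_instance
      infer_instance
  tfae_have 2 → 3 := by
    intro hx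
    haveI : LocallyOfFinitePresentation f := LocallyOfFinitePresentation.iff_locallyOfFiniteType.2 inferInstance
    obtain ⟨_, ⟨W₀, hW₀, rfl⟩, hxW₀, hWle₀⟩ := X.isBasis_affineOpens.exists_subset_of_mem_open
      (show x ∈ {x : X | (f.stalkMap x).hom.Flat} from hx) (Groth.FlatDescent.isOpen_flatLocus_hom f)
    obtain ⟨W, hW, hxW, hWle⟩ : ∃ W : X.Opens, IsAffineOpen W ∧ x ∈ W ∧ (W : Set X) ⊆ {x : X | (f.stalkMap x).hom.Flat} :=
      ⟨W₀, hW₀, hxW₀, hWle₀⟩
    haveI : Flat (W.ι ≫ f) := (Flat.iff_flat_stalkMap _).2 fun w => by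
      rw [Scheme.Hom.stalkMap_comp, CommRingCat.hom_comp, RingHom.Flat.respectsIso.cancel_right_isIso]
      exact hWle w.2
    let V : S.Opens := ⟨Set.range (W.ι ≫ f), (W.ι ≫ f).isOpenMap.isOpen_range⟩
    have hWV : W ≤ f ⁻¹ᵁ V := fun p hp => ⟨⟨p, hp⟩, rfl⟩
    let g := f.resLE V W hWV
    have hg : g ≫ V.ι = W.ι ≫ f := Scheme.Hom.resLE_comp_ι _ _
    haveI : Flat g := MorphismProperty.of_postcomp (W := @Flat) g V.ι (inferInstance : IsOpenImmersion V.ι) (hg ▸ inferInstance)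
    haveI : LocallyOfFinitePresentation g := MorphismProperty.of_postcomp (W := @LocallyOfFinitePresentation) g V.ι (inferInstance : IsOpenImmersion V.ι) (hg ▸ inferInstance)
    haveI : Surjective g := ⟨fun q => by
      obtain ⟨w, hw⟩ := q.2
      exact ⟨w, Subtype.ext (by show V.ι (g w) = q.1; rw [← Scheme.Hom.comp_apply, hg]; exact hw)⟩⟩
    haveI : IsAffine (W : Scheme.{u}) := hW
    haveI : IsSeparated g := inferInstance
    let T := V.ι ⁻¹ᵁ U
    have hgT : g ⁻¹ᵁ T = W.ι ⁻¹ᵁ (f ⁻¹ᵁ U) := by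
      rw [← Scheme.Hom.comp_preimage, hg, Scheme.Hom.comp_preimage]
    have hT : CInt.IsSchematicallyDense T := dense_descend g T (hgT ▸ dense_restrict W _ hdense)
    have hm : ∀ {Z : Scheme.{u}} (a b : Z ⟶ (g ⁻¹ᵁ T : (W : Scheme.{u}).Opens)), a ≫ (g ∣_ T) = b ≫ (g ∣_ T) → a = b := by
      intro Z a b hab
      haveI := hiso
      let r : ((g ⁻¹ᵁ T : (W : Scheme.{u}).Opens) : Scheme.{u}) ⟶ (f ⁻¹ᵁ U : X.Opens) :=
        IsOpenImmersion.lift (f ⁻¹ᵁ U).ι ((g ⁻¹ᵁ T).ι ≫ W.ι) (by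
          rintro _ ⟨p, rfl⟩
          rw [Scheme.Opens.range_ι]
          exact (SetLike.ext_iff.1 hgT p.1).1 p.2)
      have hr : r ≫ (f ⁻¹ᵁ U).ι = (g ⁻¹ᵁ T).ι ≫ W.ι := IsOpenImmersion.lift_fac _ _ _
      have h3 : r ≫ (f ∣_ U) ≫ U.ι = (g ∣_ T) ≫ T.ι ≫ V.ι := by
        rw [morphismRestrict_ι, reassoc_of% hr, morphismRestrict_ι_assoc, hg]
      rw [← cancel_mono ((g ⁻¹ᵁ T).ι ≫ W.ι), ← hr, ← Category.assoc, ← Category.assoc]
      congr 1
      rw [← cancel_mono (f ∣_ U), ← cancel_mono U.ι]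
      simp only [Category.assoc, h3, reassoc_of% hab]
    haveI : Mono g := by
      refine ⟨fun {Z} a b hab => ?_⟩
      haveI : Flat (Limits.pullback.fst g g ≫ g) := inferInstance
      have hd : CInt.IsSchematicallyDense ((Limits.pullback.fst g g ≫ g) ⁻¹ᵁ T) := Groth.Agent.S3843.result _ T hT
      let D := (Limits.pullback.fst g g ≫ g) ⁻¹ᵁ T
      have key : Limits.pullback.fst g g = Limits.pullback.snd g g := by
        refine Groth.FlatDescent.Dom.ext_of_schDom g (fun _ : PUnit.{u+1} => D.ι)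
          ((Groth.FlatDescent.Dom.schDom_ι_iff D).1 hd) _ _ Limits.pullback.condition (fun _ => ?_)
        have r₁ : Set.range (D.ι ≫ Limits.pullback.fst g g) ⊆ Set.range (g ⁻¹ᵁ T).ι := by
          rintro _ ⟨p, rfl⟩; rw [Scheme.Opens.range_ι]; exact p.2
        have r₂ : Set.range (D.ι ≫ Limits.pullback.snd g g) ⊆ Set.range (g ⁻¹ᵁ T).ι := by
          rintro _ ⟨p, rfl⟩; rw [Scheme.Opens.range_ι]
          show g (Limits.pullback.snd g g p.1) ∈ T
          rw [← Scheme.Hom.comp_apply, ← Limits.pullback.condition]; exact p.2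
        rw [← IsOpenImmersion.lift_fac _ _ r₁, ← IsOpenImmersion.lift_fac _ _ r₂]
        congr 1
        apply hm
        rw [← cancel_mono T.ι]
        simp only [Category.assoc, morphismRestrict_ι, IsOpenImmersion.lift_fac_assoc]
        rw [Limits.pullback.condition]
      rw [← Limits.pullback.lift_fst a b hab, key, Limits.pullback.lift_snd]
    haveI : IsOpenImmersion g := IsOpenImmersion.of_flat_of_mono g
    haveI : IsIso g := isIso_of_isOpenImmersion_of_opensRange_eq_top g (TopologicalSpace.Opens.ext (Set.range_eq_univ.2 g.surjective))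
    refine ⟨V, hWV hxW, inv g ≫ W.ι, ?_, ?_⟩
    · rw [Category.assoc, ← hg, IsIso.inv_hom_id_assoc]
    · have : (inv g) ⟨f x, hWV hxW⟩ = (⟨x, hxW⟩ : W) := by
        have h4 : g ⟨x, hxW⟩ = ⟨f x, hWV hxW⟩ := Subtype.ext (by
          show V.ι (g ⟨x, hxW⟩) = f x
          rw [← Scheme.Hom.comp_apply, hg]; rfl)
        rw [← h4, ← Scheme.Hom.comp_apply, IsIso.hom_inv_id]; rfl
      show W.ι ((inv g) _) = x
      rw [this]; rfl
  tfae_finish

end Groth.Agent.S17728
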