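import Groth.Statements.S1774
import Groth.Agent.DualCx.FiniteGlobal
-- import your own Groth.Agent.* helpers here

set_option autoImplicit false
universe u
open CategoryTheory
attribute [local instance] HasDerivedCategory.standard
open Dual

namespace Groth.Agent.S1774

/-- Let A → B be a finite homomorphism of Noetherian rings and R : D(A) → D(B) a right adjoint to
restriction of scalars D(B) → D(A). If K in D(A) is bounded below (its cohomology modules vanish
below some degree) and all its cohomology modules are finite A-modules, then all cohomology modules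
of R(K) are finite B-modules. -/
theorem result (A B : Type u) [CommRing A] [CommRing B] [Algebra A B] [IsNoetherianRing A] [IsNoetherianRing B] [Module.Finite A B] (R : Dual.D A ⥤ Dual.D B) (adj : DRing.restrictD (algebraMap A B) ⊣ R) (K : Dual.D A) (a : ℤ) (hKa : ∀ i : ℤ, i < a → Subsingleton (Dual.HD A K i)) (hK : ∀ i : ℤ, Module.Finite A (Dual.HD A K i)) (i : ℤ) : Module.Finite B (Dual.HD B (R.obj K) i) := by
  obtain ⟨W, hW, hinj, hz, ⟨e⟩⟩ := Groth.Agent.DualCx.exists_model_below a hKa
  haveI := hW
  haveI := hinj
  obtain ⟨g⟩ := Groth.Agent.DualCx.nonempty_coC_iso_rightAdjoint (algebraMap A B) R adj W e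
  haveI : Module.Finite B ((HomologicalComplex.homologyFunctor (ModuleCat.{u} B) (ComplexShape.up ℤ) i).obj
      (Groth.Agent.DualCx.dCx ((Groth.Agent.DualCx.coC (algebraMap A B)).obj W) (ModuleCat.of B B))) :=
    Groth.Agent.DualCx.finite_dual_coC (RingHom.finite_algebraMap.2 inferInstance) a hz
      (Groth.Agent.DualCx.finite_homology_model e hK) (ModuleCat.of B B) i
  exact Module.Finite.equiv (((HomologicalComplex.homologyFunctor _ _ i).mapIso
      (Groth.Agent.DualCx.dSelfIso ((Groth.Agent.DualCx.coC (algebraMap A B)).obj W))) ≪≫
    ((DerivedCategory.homologyFunctorFactors (ModuleCat.{u} B) i).app _).symm ≪≫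
    (DerivedCategory.homologyFunctor (ModuleCat.{u} B) i).mapIso g).toLinearEquiv

end Groth.Agent.S1774
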