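import Mathlib
import Groth.Statements.S17741
-- import your own Groth.Agent.* helpers here

set_option autoImplicit false
open QsChow

namespace Groth.Agent.S17741

section

open MvPolynomial

/-- The annihilator of `ε₁` is generated by `ε₁^(n-1)`. -/
lemma ann_eps {n : ℕ} (hn : 2 ≤ n) (z : QsChow.P n) (h : z * QsChow.eps n 1 = 0) :
    ∃ c, z = QsChow.eps n 1 ^ (n - 1) * c := by
  classical
  have h1 : 0 < 1 ∧ 1 ≤ QsChow.numVars n := ⟨one_pos, Nat.le_add_left 1 _⟩
  obtain ⟨f, rfl⟩ := Ideal.Quotient.mk_surjective z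
  let i0 : Fin (QsChow.numVars n) := ⟨0, h1.2⟩
  have he : QsChow.eps n 1 = Ideal.Quotient.mk _ (X i0) := by rw [QsChow.eps, dif_pos h1]
  rw [he, ← map_mul, Ideal.Quotient.eq_zero_iff_mem] at h
  let g : Fin (QsChow.numVars n) → (Fin (QsChow.numVars n) →₀ ℕ) := fun i => Finsupp.single i (QsChow.bound n i)
  have hT : QsChow.truncIdeal n = Ideal.span ((fun s => monomial s (1 : ZMod 2)) '' Set.range g) := by
    rw [QsChow.truncIdeal, ← Set.range_comp]
    congr 2
    funext i
    exact X_pow_eq_monomial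
  have hf : f ∈ Ideal.span ((fun s => monomial s (1 : ZMod 2)) '' insert (Finsupp.single i0 (n - 1)) (Set.range g)) := by
    rw [mem_ideal_span_monomial_image]
    intro m hm
    rw [hT, mem_ideal_span_monomial_image] at h
    obtain ⟨_, ⟨i, rfl⟩, hle⟩ := h (m + Finsupp.single i0 1)
      (by rw [mem_support_iff, coeff_mul_X]; exact mem_support_iff.1 hm)
    by_cases hi : i = i0
    · subst hi
      refine ⟨_, Set.mem_insert _ _, Finsupp.single_le_iff.2 ?_⟩
      have := Finsupp.single_le_iff.1 hle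
      rw [Finsupp.add_apply, Finsupp.single_eq_same] at this
      simp only [QsChow.bound, i0, if_true] at this ⊢
      omega
    · refine ⟨_, Set.mem_insert_of_mem _ ⟨i, rfl⟩, Finsupp.single_le_iff.2 ?_⟩
      have := Finsupp.single_le_iff.1 hle
      rwa [Finsupp.add_apply, Finsupp.single_eq_of_ne hi, add_zero] at this
  rw [Set.image_insert_eq, ← Set.union_singleton, Ideal.span_union, ← hT, sup_comm] at hf
  obtain ⟨a, ha, b, hb, rfl⟩ := Submodule.mem_sup.1 hf
  obtain ⟨c, rfl⟩ := Ideal.mem_span_singleton'.1 ha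
  refine ⟨Ideal.Quotient.mk _ c, ?_⟩
  rw [map_add, Ideal.Quotient.eq_zero_iff_mem.2 hb, add_zero, map_mul, mul_comm, he, ← map_pow, ← X_pow_eq_monomial]

lemma eps1_pow_n {n : ℕ} : QsChow.eps n 1 ^ n = 0 := by
  have h1 : 0 < 1 ∧ 1 ≤ QsChow.numVars n := ⟨one_pos, Nat.le_add_left 1 _⟩
  rw [QsChow.eps, dif_pos h1, ← map_pow, Ideal.Quotient.eq_zero_iff_mem]
  exact Ideal.subset_span ⟨⟨0, h1.2⟩, by simp [QsChow.bound]⟩

end

/-- For an integer n ≥ 2 put s := n / 2 + 1 (integer part) and, for 2 ≤ j ≤ s, let k_j be the integer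
part of the base-2 logarithm of (2n - 1)/(2j - 3); let P := F_2[ε_1, …, ε_s]/(ε_1^n, ε_2^(2^k_2), …,
ε_s^(2^k_s)) over the field F_2 with two elements, and let τ be the F_2-algebra involution of P with
τ(ε_1) = ε_1 and τ(ε_j) = ε_j + ε_1^(2j-3) for 2 ≤ j ≤ s (it exists since (2j-3)·2^k_j ≥ n, and is
unique); let ē_1 := ε_1, ē_2 := ε_2^2 + ε_1 ε_2, ē_j := ε_j + ε_1^(2j-4) ε_2 for 3 ≤ j ≤ s and x̄ :=
ε_1^(n-1) ε_2, and let φ : F_2[e_1, …, e_s, x] → P be the F_2-algebra homomorphism with e_j ↦ ē_j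
and x ↦ x̄. Then the range of φ is exactly the subalgebra of τ-fixed elements of P. (Together with
the description of the kernel of φ this is the printed isomorphism of the τ-fixed subalgebra modulo
ε_1^m with the stated presentation, for every 1 ≤ m ≤ n.) -/
theorem result (n : ℕ) (hn : 2 ≤ n)
    (τ : QsChow.P n →ₐ[ZMod 2] QsChow.P n) (hτ1 : τ (QsChow.eps n 1) = QsChow.eps n 1)
    (hτ : ∀ j : ℕ, 2 ≤ j → j ≤ QsChow.numVars n →
      τ (QsChow.eps n j) = QsChow.eps n j + QsChow.eps n 1 ^ (2 * j - 3)) :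
    (QsChow.phi n).range = AlgHom.equalizer τ (AlgHom.id (ZMod 2) (QsChow.P n)) := by
  classical
  have hs : 2 ≤ QsChow.numVars n := by unfold QsChow.numVars; omega
  have two : (2 : QsChow.P n) = 0 := by
    rw [← map_ofNat (algebraMap (ZMod 2) (QsChow.P n)) 2, show (2 : ZMod 2) = 0 from rfl, map_zero]
  set e1 := QsChow.eps n 1 with he1
  set e2 := QsChow.eps n 2 with he2
  have hτ2 : τ e2 = e2 + e1 := by
    rw [hτ 2 le_rfl hs]
    simp only [show 2 * 2 - 3 = 1 from rfl, pow_one]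
    rfl
  have he1n : e1 ^ n = 0 := eps1_pow_n
  have hfix : (QsChow.phi n).range ≤ AlgHom.equalizer τ (AlgHom.id (ZMod 2) (QsChow.P n)) := by
    rw [QsChow.phi, ← Algebra.adjoin_range_eq_range_aeval]
    refine Algebra.adjoin_le ?_
    rintro _ ⟨o, rfl⟩
    change τ _ = _
    rw [AlgHom.id_apply]
    cases o with
    | none =>
      simp only [QsChow.genImage, map_mul, map_pow, hτ1, ← he1, ← he2, hτ2]
      rw [mul_add, ← pow_succ, show n - 1 + 1 = n by omega, he1n, add_zero]
    | some i =>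
      simp only [QsChow.genImage]
      split_ifs with h0 h1
      · exact hτ1
      · rw [map_add, map_mul, map_pow, hτ1, hτ2]
        linear_combination (e1 * e2 + e1 ^ 2) * two
      · rw [map_add, map_mul, map_pow, hτ1, hτ2, hτ (i.val + 1) (by omega) (by have := i.2; omega), ← he1,
          show 2 * (i.val + 1) - 3 = (2 * (i.val + 1) - 4) + 1 by omega, pow_succ]
        linear_combination (e1 ^ (2 * (i.val + 1) - 4) * e1) * two
  refine le_antisymm hfix ?_
  set S := (QsChow.phi n).range with hS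
  have hmem : ∀ o, QsChow.genImage n o ∈ S := fun o => ⟨MvPolynomial.X o, MvPolynomial.aeval_X _ _⟩
  have hS1 : e1 ∈ S := by
    have := hmem (some ⟨0, by omega⟩)
    simpa [QsChow.genImage] using this
  have hS2 : e2 ^ 2 + e1 * e2 ∈ S := by
    have := hmem (some ⟨1, hs⟩)
    simpa [QsChow.genImage] using this
  have hSx : e1 ^ (n - 1) * e2 ∈ S := hmem none
  have hdec : ∀ z : QsChow.P n, ∃ A ∈ S, ∃ B ∈ S, z = A + B * e2 := by
    intro z
    obtain ⟨f, rfl⟩ := Ideal.Quotient.mk_surjective z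
    induction f using MvPolynomial.induction_on with
    | C a => exact ⟨_, S.algebraMap_mem a, 0, S.zero_mem, by rw [zero_mul, add_zero]; rfl⟩
    | add p q hp hq =>
      obtain ⟨A, hA, B, hB, hAB⟩ := hp
      obtain ⟨A', hA', B', hB', hAB'⟩ := hq
      exact ⟨A + A', S.add_mem hA hA', B + B', S.add_mem hB hB', by rw [map_add, hAB, hAB']; ring⟩
    | mul_X p i hp =>
      obtain ⟨A, hA, B, hB, hAB⟩ := hp
      obtain ⟨P, hP, Q, hQ, hPQ⟩ : ∃ P ∈ S, ∃ Q ∈ S,
          Ideal.Quotient.mk (QsChow.truncIdeal n) (MvPolynomial.X i) = P + Q * e2 := by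
        have he : QsChow.eps n (i.val + 1) = Ideal.Quotient.mk _ (MvPolynomial.X i) := by
          rw [QsChow.eps, dif_pos ⟨i.val.succ_pos, i.2⟩]
          rfl
        rw [← he]
        rcases (show i.val = 0 ∨ i.val = 1 ∨ 2 ≤ i.val by omega) with h | h | h
        · exact ⟨e1, hS1, 0, S.zero_mem, by rw [h, zero_mul, add_zero]⟩
        · exact ⟨0, S.zero_mem, 1, S.one_mem, by rw [h, one_mul, zero_add]⟩
        · have hg := hmem (some i)
          simp only [QsChow.genImage, if_neg (show ¬ i.val = 0 by omega), if_neg (show ¬ i.val = 1 by omega)] at hg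
          refine ⟨_, hg, e1 ^ (2 * (i.val + 1) - 4), S.pow_mem hS1 _, ?_⟩
          rw [← he1, ← he2]
          linear_combination -(e1 ^ (2 * (i.val + 1) - 4) * e2) * two
      refine ⟨A * P + B * Q * (e2 ^ 2 + e1 * e2), S.add_mem (S.mul_mem hA hP) (S.mul_mem (S.mul_mem hB hQ) hS2),
        A * Q + B * P - B * Q * e1, S.sub_mem (S.add_mem (S.mul_mem hA hQ) (S.mul_mem hB hP))
          (S.mul_mem (S.mul_mem hB hQ) hS1), ?_⟩
      rw [map_mul, hAB, hPQ]
      ring
  intro z hz
  obtain ⟨A, hA, B, hB, rfl⟩ := hdec z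
  have hτA : τ A = A := hfix hA
  have hτB : τ B = B := hfix hB
  have h0 : B * e1 = 0 := by
    have : τ (A + B * e2) = A + B * e2 := hz
    rw [map_add, map_mul, hτA, hτB, hτ2] at this
    linear_combination this
  obtain ⟨c, rfl⟩ := ann_eps hn B h0
  obtain ⟨A', hA', B', hB', rfl⟩ := hdec c
  have : A + e1 ^ (n - 1) * (A' + B' * e2) * e2 =
      A + A' * (e1 ^ (n - 1) * e2) + B' * (e1 ^ (n - 1) * (e2 ^ 2 + e1 * e2)) := by
    have hn' : e1 ^ (n - 1) * e1 = 0 := by rw [← pow_succ, show n - 1 + 1 = n by omega, he1n]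
    linear_combination -(B' * e2) * hn'
  rw [this]
  exact S.add_mem (S.add_mem hA (S.mul_mem hA' hSx)) (S.mul_mem hB' (S.mul_mem (S.pow_mem hS1 _) hS2))

end Groth.Agent.S17741
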