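import Mathlib
import Groth.Statements.S17742
-- import your own Groth.Agent.* helpers here

set_option autoImplicit false
open QsChow

namespace Groth.Agent.S17742

section

open MvPolynomial

variable {σ : Type} [DecidableEq σ]

local notation "W" => MvPolynomial σ (ZMod 2)

/-- Separate the variable `j`. -/
noncomputable def sep (j : σ) : MvPolynomial σ (ZMod 2) →ₐ[ZMod 2] Polynomial (MvPolynomial σ (ZMod 2)) :=
  aeval (Function.update (fun i => Polynomial.C (X i)) j Polynomial.X)

/-- `f` does not involve the variable `j`. -/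
def FreeOf (j : σ) (f : MvPolynomial σ (ZMod 2)) : Prop := sep j f = Polynomial.C f

lemma sep_X_self (j : σ) : sep j (X j : MvPolynomial σ (ZMod 2)) = Polynomial.X := by simp [sep]

lemma sep_X_ne {j i : σ} (h : i ≠ j) : sep j (X i : MvPolynomial σ (ZMod 2)) = Polynomial.C (X i) := by
  simp [sep, Function.update_of_ne h]

lemma freeOf_X {j i : σ} (h : i ≠ j) : FreeOf j (X i : MvPolynomial σ (ZMod 2)) := sep_X_ne h

lemma freeOf_mul {j : σ} {f g : MvPolynomial σ (ZMod 2)} (hf : FreeOf j f) (hg : FreeOf j g) : FreeOf j (f * g) := by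
  unfold FreeOf at *
  rw [map_mul, hf, hg, map_mul]

lemma freeOf_add {j : σ} {f g : MvPolynomial σ (ZMod 2)} (hf : FreeOf j f) (hg : FreeOf j g) : FreeOf j (f + g) := by
  unfold FreeOf at *
  rw [map_add, hf, hg, map_add]

lemma freeOf_pow {j : σ} {f : MvPolynomial σ (ZMod 2)} (hf : FreeOf j f) (m : ℕ) : FreeOf j (f ^ m) := by
  unfold FreeOf at *
  rw [map_pow, hf, map_pow]

lemma freeOf_sum {ι : Type} {j : σ} (s : Finset ι) {f : ι → MvPolynomial σ (ZMod 2)} (hf : ∀ i ∈ s, FreeOf j (f i)) :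
    FreeOf j (∑ i ∈ s, f i) := by
  unfold FreeOf at *
  rw [map_sum, map_sum]
  exact Finset.sum_congr rfl hf

/-- `u` is regular modulo `I`. -/
def Reg (I : Ideal (MvPolynomial σ (ZMod 2))) (u : MvPolynomial σ (ZMod 2)) : Prop := ∀ z, u * z ∈ I → z ∈ I

/-- Separation modulo an ideal. -/
noncomputable def sepQ (j : σ) (I : Ideal (MvPolynomial σ (ZMod 2))) :
    MvPolynomial σ (ZMod 2) →+* Polynomial (MvPolynomial σ (ZMod 2) ⧸ I) :=
  (Polynomial.mapRingHom (Ideal.Quotient.mk I)).comp (sep j).toRingHom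

lemma sepQ_back (j : σ) (I : Ideal (MvPolynomial σ (ZMod 2))) (f : MvPolynomial σ (ZMod 2)) :
    (sepQ j I f).eval (Ideal.Quotient.mk I (X j)) = Ideal.Quotient.mk I f := by
  have h : (Polynomial.evalRingHom (Ideal.Quotient.mk I (X j))).comp (sepQ j I) = Ideal.Quotient.mk I := by
    refine MvPolynomial.ringHom_ext' (Subsingleton.elim _ _) fun i => ?_
    rcases eq_or_ne i j with rfl | h
    · simp [sepQ, sep_X_self]
    · simp [sepQ, sep_X_ne h]
  exact RingHom.congr_fun h f

lemma sepQ_free (j : σ) (I : Ideal (MvPolynomial σ (ZMod 2))) {f : MvPolynomial σ (ZMod 2)} (hf : FreeOf j f) :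
    sepQ j I f = Polynomial.C (Ideal.Quotient.mk I f) := by
  simp [sepQ, show sep j f = Polynomial.C f from hf]

lemma sepQ_mem (j : σ) {G : Set (MvPolynomial σ (ZMod 2))} (hG : ∀ g ∈ G, FreeOf j g) {z : MvPolynomial σ (ZMod 2)}
    (hz : z ∈ Ideal.span G) : sepQ j (Ideal.span G) z = 0 := by
  refine RingHom.mem_ker.1 ((Ideal.span_le.2 fun g hg => ?_) hz)
  rw [SetLike.mem_coe, RingHom.mem_ker, sepQ_free j _ (hG g hg),
    Ideal.Quotient.eq_zero_iff_mem.2 (Ideal.subset_span hg), map_zero]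

/-- A monic element in a new variable is regular. -/
lemma reg_monic (j : σ) {G : Set (MvPolynomial σ (ZMod 2))} (hG : ∀ g ∈ G, FreeOf j g) {h : MvPolynomial σ (ZMod 2)}
    (hh : (sep j h).Monic) : Reg (Ideal.span G) h := by
  intro z hz
  have hm : (sepQ j (Ideal.span G) h).Monic := hh.map _
  have h0 := sepQ_mem j hG hz
  rw [map_mul] at h0
  have hz0 : sepQ j (Ideal.span G) z = 0 := by
    by_contra hne
    exact Polynomial.leadingCoeff_ne_zero.2 hne (by
      have := hm.leadingCoeff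
      have h1 := congrArg Polynomial.leadingCoeff h0
      rwa [Polynomial.leadingCoeff_mul' (by rw [this, one_mul]; exact Polynomial.leadingCoeff_ne_zero.2 hne), this,
        one_mul, Polynomial.leadingCoeff_zero] at h1)
  rw [← Ideal.Quotient.eq_zero_iff_mem, ← sepQ_back j, hz0, Polynomial.eval_zero]

/-- Regularity survives adjoining a monic relation in a new variable. -/
lemma reg_insert (j : σ) {G : Set (MvPolynomial σ (ZMod 2))} (hG : ∀ g ∈ G, FreeOf j g) {h u : MvPolynomial σ (ZMod 2)}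
    (hh : (sep j h).Monic) (hu : FreeOf j u) (hreg : Reg (Ideal.span G) u) : Reg (Ideal.span (insert h G)) u := by
  intro z hz
  rw [Ideal.span_insert, Submodule.mem_sup] at hz ⊢
  obtain ⟨a, ha, b, hb, hab⟩ := hz
  obtain ⟨w, rfl⟩ := Ideal.mem_span_singleton'.1 ha
  have hm : (sepQ j (Ideal.span G) h).Monic := hh.map _
  set I := Ideal.span G
  have e := congrArg (sepQ j I) hab
  rw [map_add, map_mul, map_mul, sepQ_mem j hG hb, add_zero, sepQ_free j I hu] at e
  rcases subsingleton_or_nontrivial (MvPolynomial σ (ZMod 2) ⧸ I) with hs | hs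
  · exact ⟨0, Submodule.zero_mem _, z, Ideal.Quotient.eq_zero_iff_mem.1 (Subsingleton.elim _ _), zero_add z⟩
  set r := sepQ j I z %ₘ sepQ j I h with hr
  have hdiv := Polynomial.modByMonic_add_div (sepQ j I z) (sepQ j I h)
  have hprod : Polynomial.C (Ideal.Quotient.mk I u) * r = sepQ j I h *
      (sepQ j I w - Polynomial.C (Ideal.Quotient.mk I u) * (sepQ j I z /ₘ sepQ j I h)) := by
    linear_combination (Polynomial.C (Ideal.Quotient.mk I u)) * hdiv - e
  have hz0 : Polynomial.C (Ideal.Quotient.mk I u) * r = 0 := by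
    have h1 : (Polynomial.C (Ideal.Quotient.mk I u) * r) %ₘ sepQ j I h = 0 := by
      rw [hprod]; exact (Polynomial.modByMonic_eq_zero_iff_dvd hm).2 ⟨_, rfl⟩
    rwa [(Polynomial.modByMonic_eq_self_iff hm).2] at h1
    refine lt_of_le_of_lt ?_ (Polynomial.degree_modByMonic_lt (sepQ j I z) hm)
    exact (Polynomial.degree_mul_le _ _).trans ((add_le_add Polynomial.degree_C_le le_rfl).trans (zero_add _).le)
  have hr0 : r = 0 := Polynomial.ext fun i => by
    have := congrArg (fun p => Polynomial.coeff p i) hz0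
    simp only [Polynomial.coeff_C_mul, Polynomial.coeff_zero] at this
    obtain ⟨c, hc⟩ := Ideal.Quotient.mk_surjective (r.coeff i)
    rw [← hc, ← map_mul, Ideal.Quotient.eq_zero_iff_mem] at this
    rw [Polynomial.coeff_zero, ← hc, Ideal.Quotient.eq_zero_iff_mem]
    exact hreg c this
  rw [← hr, hr0, zero_add] at hdiv
  obtain ⟨q, hq⟩ := Ideal.Quotient.mk_surjective ((sepQ j I z /ₘ sepQ j I h).eval (Ideal.Quotient.mk I (X j)))
  have hzq := congrArg (Polynomial.eval (Ideal.Quotient.mk I (X j))) hdiv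
  rw [Polynomial.eval_mul, sepQ_back, sepQ_back, ← hq, ← map_mul, Ideal.Quotient.eq] at hzq
  exact ⟨q * h, Ideal.mem_span_singleton'.2 ⟨q, rfl⟩, z - q * h,
    by rw [show z - q * h = -(h * q - z) by ring]; exact neg_mem hzq, by ring⟩

/-- Adjoin several monic relations. -/
lemma reg_many (T : Finset σ) {G : Set (MvPolynomial σ (ZMod 2))} {u : MvPolynomial σ (ZMod 2)}
    (g : σ → MvPolynomial σ (ZMod 2)) (hm : ∀ j ∈ T, (sep j (g j)).Monic)
    (hG : ∀ j ∈ T, ∀ x ∈ G, FreeOf j x) (hg : ∀ j ∈ T, ∀ i ∈ T, i ≠ j → FreeOf j (g i))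
    (hu : ∀ j ∈ T, FreeOf j u) (hreg : Reg (Ideal.span G) u) : Reg (Ideal.span (g '' T ∪ G)) u := by
  induction T using Finset.induction with
  | empty => simpa using hreg
  | insert j T hj ih =>
    rw [Finset.coe_insert, Set.image_insert_eq, Set.insert_union]
    refine reg_insert j ?_ (hm j (Finset.mem_insert_self _ _)) (hu j (Finset.mem_insert_self _ _))
      (ih (fun i hi => hm i (Finset.mem_insert_of_mem hi)) (fun i hi => hG i (Finset.mem_insert_of_mem hi))
        (fun i hi l hl => hg i (Finset.mem_insert_of_mem hi) l (Finset.mem_insert_of_mem hl))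
        (fun i hi => hu i (Finset.mem_insert_of_mem hi)))
    rintro x (⟨i, hi, rfl⟩ | hx)
    · exact hg j (Finset.mem_insert_self _ _) i (Finset.mem_insert_of_mem hi) (fun e => hj (e ▸ hi))
    · exact hG j (Finset.mem_insert_self _ _) x hx

end

section

open MvPolynomial

variable (n : ℕ)

/-- first variable -/
def i0 : Fin (QsChow.numVars n) := ⟨0, Nat.succ_pos _⟩

/-- second variable -/
def i1 (hn : 2 ≤ n) : Fin (QsChow.numVars n) := ⟨1, by unfold QsChow.numVars; omega⟩

variable (hn : 2 ≤ n)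

local notation "E₁" => (X (i0 n) : QsChow.FreeP n)
local notation "E₂" => (X (i1 n hn) : QsChow.FreeP n)

/-- lift of `S_k`. -/
noncomputable def sS (k : ℕ) : QsChow.FreeP n :=
  ∑ t ∈ Finset.range k, X (i0 n) ^ (2 ^ k - 2 ^ (t + 1)) * X (i1 n hn) ^ 2 ^ t

/-- lift of the substitution. -/
noncomputable def psi : QsChow.FreeP n →ₐ[ZMod 2] QsChow.FreeP n :=
  aeval fun i => if i.val = 0 then X i else if i.val = 1 then X i ^ 2 + X (i0 n) * X i
    else X i + X (i0 n) ^ (2 * (i.val + 1) - 4) * X (i1 n hn)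

/-- the exponent `2 ^ k_j`. -/
def qq (i : Fin (QsChow.numVars n)) : ℕ := 2 ^ QsChow.klog n (i.val + 1)

/-- the relation attached to a variable. -/
noncomputable def yy (i : Fin (QsChow.numVars n)) : QsChow.FreeP n :=
  if i.val = 0 then 0 else if i.val = 1 then sS n hn (QsChow.klog n 2)
  else X i ^ qq n i + X (i0 n) ^ ((2 * (i.val + 1) - 4) * qq n i) * sS n hn (QsChow.klog n (i.val + 1))

/-- the excess exponent. -/
def dd (i : Fin (QsChow.numVars n)) : ℕ := (2 * (i.val + 1) - 3) * qq n i - n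

lemma psi_e1 : psi n hn (X (i0 n)) = X (i0 n) := by simp [psi, i0]

lemma psi_e2 : psi n hn (X (i1 n hn)) = X (i1 n hn) ^ 2 + X (i0 n) * X (i1 n hn) := by simp [psi, i1]

lemma two_zero : (2 : QsChow.FreeP n) = 0 := by
  rw [← map_ofNat (C : ZMod 2 →+* QsChow.FreeP n) 2, show (2 : ZMod 2) = 0 from rfl, map_zero]

lemma sS_succ (k : ℕ) : sS n hn (k + 1) = X (i0 n) ^ (2 ^ (k + 1) - 2) * X (i1 n hn) + sS n hn k ^ 2 := by
  rw [sS, Finset.sum_range_succ', add_comm, sS, CharTwo.sum_sq]
  simp only [zero_add, pow_one, pow_zero]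
  congr 1
  refine Finset.sum_congr rfl fun t _ => ?_
  rw [mul_pow, ← pow_mul, ← pow_mul, ← pow_succ, Nat.sub_mul, ← pow_succ, ← pow_succ]

lemma e2_pow (k : ℕ) : (X (i1 n hn) : QsChow.FreeP n) ^ 2 ^ k =
    X (i0 n) ^ (2 ^ k - 1) * X (i1 n hn) + psi n hn (sS n hn k) := by
  induction k with
  | zero => simp [sS]
  | succ k ih =>
    rw [pow_succ 2 k, pow_mul, ih, CharTwo.add_sq, mul_pow, ← pow_mul, ← map_pow (psi n hn), ← pow_succ 2 k,
      sS_succ, map_add (psi n hn), map_mul (psi n hn), map_pow (psi n hn), map_pow (psi n hn), psi_e1, psi_e2]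
    have hk := Nat.one_le_two_pow (n := k)
    rw [show 2 ^ (k + 1) - 1 = (2 ^ k - 1) * 2 + 1 by rw [pow_succ]; omega,
      show 2 ^ (k + 1) - 2 = (2 ^ k - 1) * 2 by rw [pow_succ]; omega, pow_succ (X (i0 n)) ((2 ^ k - 1) * 2)]
    linear_combination (-(X (i0 n)) ^ ((2 ^ k - 1) * 2) * X (i0 n) * X (i1 n hn)) * two_zero n

include hn in
lemma numeric {i : Fin (QsChow.numVars n)} (hi : i.val ≠ 0) :
    1 ≤ QsChow.klog n (i.val + 1) ∧ n ≤ (2 * (i.val + 1) - 3) * qq n i := by
  have h2 := i.2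
  simp only [QsChow.numVars] at h2
  have hM : 2 ≤ (2 * n - 1) / (2 * (i.val + 1) - 3) := by
    rw [Nat.le_div_iff_mul_le (by omega)]
    omega
  refine ⟨?_, ?_⟩
  · rw [QsChow.klog]
    exact Nat.log_pos (by norm_num) hM
  · have hlt := Nat.lt_pow_succ_log_self (b := 2) (by norm_num) ((2 * n - 1) / (2 * (i.val + 1) - 3))
    have hdiv := Nat.lt_mul_div_succ (2 * n - 1) (show 0 < 2 * (i.val + 1) - 3 by omega)
    have hle : (2 * (i.val + 1) - 3) * ((2 * n - 1) / (2 * (i.val + 1) - 3) + 1) ≤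
        (2 * (i.val + 1) - 3) * (qq n i * 2) := by
      refine Nat.mul_le_mul_left _ ?_
      rw [qq, QsChow.klog, ← pow_succ]
      exact hlt
    rw [← mul_assoc] at hle
    omega

/-- the decomposition of the truncating powers. -/
lemma X_pow_bound {i : Fin (QsChow.numVars n)} (hi : i.val ≠ 0) :
    (X i : QsChow.FreeP n) ^ QsChow.bound n i =
      psi n hn (yy n hn i) + X (i0 n) ^ (n - 1 + dd n i) * X (i1 n hn) := by
  have hnum := (numeric n hn hi).2
  have hb : QsChow.bound n i = qq n i := by rw [QsChow.bound, if_neg hi, qq]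
  rw [hb, yy, if_neg hi]
  by_cases h1 : i.val = 1
  · rw [if_pos h1, show i = i1 n hn from Fin.ext h1, qq, show (i1 n hn).val + 1 = 2 from rfl, e2_pow]
    have : n - 1 + dd n (i1 n hn) = 2 ^ QsChow.klog n 2 - 1 := by
      have hi' : i = i1 n hn := Fin.ext h1
      subst hi'
      simp only [dd, qq, show (i1 n hn).val + 1 = 2 from rfl] at hnum ⊢
      omega
    rw [this]
    ring
  · rw [if_neg h1]
    have hX : (X i : QsChow.FreeP n) = psi n hn (X i) + X (i0 n) ^ (2 * (i.val + 1) - 4) * X (i1 n hn) := by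
      have : psi n hn (X i) = X i + X (i0 n) ^ (2 * (i.val + 1) - 4) * X (i1 n hn) := by
        simp [psi, hi, h1]
      rw [this]
      linear_combination -(X (i0 n) ^ (2 * (i.val + 1) - 4) * X (i1 n hn)) * two_zero n
    have hq : (X i : QsChow.FreeP n) ^ qq n i =
        psi n hn (X i) ^ qq n i + (X (i0 n) ^ (2 * (i.val + 1) - 4) * X (i1 n hn)) ^ qq n i := by
      conv_lhs => rw [hX]
      rw [qq]
      exact add_pow_char_pow _ _ 2 _
    have hexp : (2 * (i.val + 1) - 4) * qq n i + (qq n i - 1) = n - 1 + dd n i := by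
      have hq1 : 1 ≤ qq n i := Nat.one_le_two_pow
      have hsplit : (2 * (i.val + 1) - 3) * qq n i = (2 * (i.val + 1) - 4) * qq n i + qq n i := by
        rw [show 2 * (i.val + 1) - 3 = (2 * (i.val + 1) - 4) + 1 by omega, add_mul, one_mul]
      unfold dd
      omega
    conv_lhs => rw [hq, mul_pow, ← pow_mul]
    rw [map_add (psi n hn), map_pow (psi n hn), map_mul (psi n hn), map_pow (psi n hn), psi_e1,
      ← hexp, pow_add]
    have := e2_pow n hn (QsChow.klog n (i.val + 1))
    rw [show (2 : ℕ) ^ QsChow.klog n (i.val + 1) = qq n i from rfl] at this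
    rw [this]
    ring

lemma decomp (u : QsChow.FreeP n) : ∃ a b, u = psi n hn a + psi n hn b * X (i1 n hn) := by
  induction u using MvPolynomial.induction_on with
  | C c => exact ⟨C c, 0, by rw [map_zero, zero_mul, add_zero]; exact ((psi n hn).commutes c).symm⟩
  | add p q hp hq =>
    obtain ⟨a, b, rfl⟩ := hp
    obtain ⟨a', b', rfl⟩ := hq
    exact ⟨a + a', b + b', by rw [map_add, map_add]; ring⟩
  | mul_X p i hp =>
    obtain ⟨a, b, rfl⟩ := hp
    obtain ⟨c, d, hcd⟩ : ∃ c d, (X i : QsChow.FreeP n) = psi n hn c + psi n hn d * X (i1 n hn) := by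
      rcases (show i.val = 0 ∨ i.val = 1 ∨ 2 ≤ i.val by omega) with h | h | h
      · exact ⟨X i, 0, by rw [map_zero, zero_mul, add_zero, show i = i0 n from Fin.ext h, psi_e1]⟩
      · exact ⟨0, 1, by rw [map_zero, map_one, one_mul, zero_add, show i = i1 n hn from Fin.ext h]⟩
      · refine ⟨X i, X (i0 n) ^ (2 * (i.val + 1) - 4), ?_⟩
        rw [map_pow, psi_e1, show psi n hn (X i) = X i + X (i0 n) ^ (2 * (i.val + 1) - 4) * X (i1 n hn) by
          simp [psi, show ¬ i.val = 0 by omega, show ¬ i.val = 1 by omega]]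
        linear_combination -(X (i0 n) ^ (2 * (i.val + 1) - 4) * X (i1 n hn)) * two_zero n
    refine ⟨a * c + b * d * X (i1 n hn), a * d + b * c + b * d * X (i0 n), ?_⟩
    rw [hcd]
    simp only [map_add, map_mul, psi_e1, psi_e2]
    linear_combination (-(psi n hn b * psi n hn d * X (i0 n) * X (i1 n hn))) * two_zero n

lemma psi_inj : Function.Injective (psi n hn) := by
  let σ' : QsChow.FreeP n →ₐ[ZMod 2] QsChow.FreeP n :=
    aeval fun i => if i.val ≤ 1 then X i else X i + X (i0 n) ^ (2 * (i.val + 1) - 4) * X (i1 n hn)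
  let ρ : QsChow.FreeP n →ₐ[ZMod 2] QsChow.FreeP n :=
    aeval fun i => if i.val = 1 then X i ^ 2 + X (i0 n) * X i else X i
  have hσ0 : σ' (X (i0 n)) = X (i0 n) := by simp [σ', i0]
  have hσ1 : σ' (X (i1 n hn)) = X (i1 n hn) := by simp [σ', i1]
  have hσ : σ'.comp σ' = AlgHom.id _ _ := by
    refine MvPolynomial.algHom_ext fun i => ?_
    rw [AlgHom.comp_apply, AlgHom.id_apply]
    by_cases h : i.val ≤ 1
    · simp [σ', h]
    · have e : σ' (X i) = X i + X (i0 n) ^ (2 * (i.val + 1) - 4) * X (i1 n hn) := by simp [σ', h]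
      rw [e, map_add, map_mul, map_pow, hσ0, hσ1, e]
      linear_combination (X (i0 n) ^ (2 * (i.val + 1) - 4) * X (i1 n hn)) * two_zero n
  have hψ : psi n hn = σ'.comp ρ := by
    refine MvPolynomial.algHom_ext fun i => ?_
    rw [AlgHom.comp_apply]
    rcases (show i.val = 0 ∨ i.val = 1 ∨ 2 ≤ i.val by omega) with h | h | h
    · simp [psi, ρ, σ', h]
    · obtain rfl : i = i1 n hn := Fin.ext h
      rw [psi_e2, show ρ (X (i1 n hn)) = X (i1 n hn) ^ 2 + X (i0 n) * X (i1 n hn) by simp [ρ, i1],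
        map_add, map_mul, map_pow, hσ0, hσ1]
    · simp [psi, ρ, σ', show ¬ i.val = 0 by omega, show ¬ i.val = 1 by omega, show ¬ i.val ≤ 1 by omega]
  have hρ : Function.Injective ρ := by
    refine (injective_iff_map_eq_zero ρ).2 fun f hf => ?_
    let Q : Polynomial (QsChow.FreeP n) := Polynomial.X ^ 2 + Polynomial.C (X (i0 n)) * Polynomial.X
    have hQ : Q.natDegree = 2 := by
      simp only [Q]
      compute_degree!
    have hne : i0 n ≠ i1 n hn := fun h => absurd (congrArg Fin.val h) (by simp [i0, i1])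
    have hcomp : ∀ g, sep (i1 n hn) (ρ g) = (sep (i1 n hn) g).comp Q := by
      intro g
      induction g using MvPolynomial.induction_on with
      | C a => simp [ρ, sep]
      | add p q hp hq => rw [map_add, map_add, hp, hq, map_add, Polynomial.add_comp]
      | mul_X p i hp =>
        rw [map_mul, map_mul, hp, map_mul, Polynomial.mul_comp]
        refine congrArg₂ (· * ·) rfl ?_
        by_cases h : i.val = 1
        · obtain rfl : i = i1 n hn := Fin.ext h
          rw [show ρ (X (i1 n hn)) = X (i1 n hn) ^ 2 + X (i0 n) * X (i1 n hn) by simp [ρ, i1], map_add, map_mul,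
            map_pow, sep_X_self, sep_X_ne hne, Polynomial.X_comp]
        · rw [show ρ (X i) = X i by simp [ρ, h], sep_X_ne (fun e => h (congrArg Fin.val e)), Polynomial.C_comp]
    have h0 : (sep (i1 n hn) f).comp Q = 0 := by rw [← hcomp, hf, map_zero]
    rcases Polynomial.comp_eq_zero_iff.1 h0 with h | ⟨-, h⟩
    · have := sepQ_back (i1 n hn) ⊥ f
      have h' : sepQ (i1 n hn) ⊥ f = 0 := by simp [sepQ, h]
      rw [h', Polynomial.eval_zero] at this
      exact Ideal.mem_bot.1 (Ideal.Quotient.eq_zero_iff_mem.1 this.symm)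
    · exfalso
      rw [h, Polynomial.natDegree_C] at hQ
      exact absurd hQ (by norm_num)
  rw [hψ]
  intro a b hab
  apply hρ
  have := congrArg σ' hab
  rwa [AlgHom.comp_apply, AlgHom.comp_apply, ← AlgHom.comp_apply σ' σ', ← AlgHom.comp_apply σ' σ', hσ] at this

lemma decomp_unique {a b : QsChow.FreeP n} (h : psi n hn a + psi n hn b * X (i1 n hn) = 0) : a = 0 ∧ b = 0 := by
  let τ : QsChow.FreeP n →ₐ[ZMod 2] QsChow.FreeP n :=
    aeval fun i => if i.val = 0 then X i else X i + X (i0 n) ^ (2 * (i.val + 1) - 3)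
  have hτ0 : τ (X (i0 n)) = X (i0 n) := by simp [τ, i0]
  have hτ1 : τ (X (i1 n hn)) = X (i1 n hn) + X (i0 n) := by simp [τ, i1]
  have hfix : τ.comp (psi n hn) = psi n hn := by
    refine MvPolynomial.algHom_ext fun i => ?_
    rw [AlgHom.comp_apply]
    rcases (show i.val = 0 ∨ i.val = 1 ∨ 2 ≤ i.val by omega) with h | h | h
    · rw [show i = i0 n from Fin.ext h, psi_e1, hτ0]
    · rw [show i = i1 n hn from Fin.ext h, psi_e2, map_add, map_mul, map_pow, hτ0, hτ1]
      linear_combination (X (i0 n) * X (i1 n hn) + X (i0 n) ^ 2) * two_zero n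
    · have e : psi n hn (X i) = X i + X (i0 n) ^ (2 * (i.val + 1) - 4) * X (i1 n hn) := by
        simp [psi, show ¬ i.val = 0 by omega, show ¬ i.val = 1 by omega]
      have e' : τ (X i) = X i + X (i0 n) ^ (2 * (i.val + 1) - 3) := by simp [τ, show ¬ i.val = 0 by omega]
      rw [e, map_add, map_mul, map_pow, hτ0, hτ1, e',
        show 2 * (i.val + 1) - 3 = (2 * (i.val + 1) - 4) + 1 by omega, pow_succ]
      linear_combination (X (i0 n) ^ (2 * (i.val + 1) - 4) * X (i0 n)) * two_zero n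
  have h' := congrArg τ h
  rw [map_add, map_mul, ← AlgHom.comp_apply, ← AlgHom.comp_apply, hfix, hτ1, map_zero] at h'
  have hb : psi n hn b * X (i0 n) = 0 := by linear_combination h' - h
  have hb' : psi n hn b = 0 := (mul_eq_zero.1 hb).resolve_right (X_ne_zero _)
  rw [hb', zero_mul, add_zero] at h
  exact ⟨psi_inj n hn (h.trans (map_zero _).symm), psi_inj n hn (hb'.trans (map_zero _).symm)⟩

lemma sS_sep {k : ℕ} (hk : 1 ≤ k) : (sep (i1 n hn) (sS n hn k)).Monic := by
  obtain ⟨k, rfl⟩ := Nat.exists_eq_add_of_le' hk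
  have hne : i0 n ≠ i1 n hn := fun h => absurd (congrArg Fin.val h) (by simp [i0, i1])
  rw [sS, Finset.sum_range_succ, map_add, add_comm, map_mul, map_pow, map_pow, sep_X_self, sep_X_ne hne,
    Nat.sub_self, pow_zero, one_mul]
  refine Polynomial.monic_X_pow_add ?_
  rw [map_sum]
  refine lt_of_le_of_lt (Polynomial.degree_sum_le _ _) ((Finset.sup_lt_iff (WithBot.bot_lt_coe _)).2 fun t ht => ?_)
  rw [map_mul, map_pow, map_pow, sep_X_self, sep_X_ne hne, ← map_pow]
  exact lt_of_le_of_lt (Polynomial.degree_C_mul_X_pow_le _ _)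
    (by exact_mod_cast Nat.pow_lt_pow_right (by norm_num) (Finset.mem_range.1 ht))

lemma freeOf_e1 {j : Fin (QsChow.numVars n)} (hj : j.val ≠ 0) : FreeOf j (X (i0 n) : QsChow.FreeP n) :=
  freeOf_X fun h => hj (by rw [← h]; rfl)

lemma freeOf_sS {j : Fin (QsChow.numVars n)} (hj : 2 ≤ j.val) (k : ℕ) : FreeOf j (sS n hn k) :=
  freeOf_sum _ fun _ _ => freeOf_mul (freeOf_pow (freeOf_e1 n (by omega)) _)
    (freeOf_pow (freeOf_X fun h => by have := congrArg Fin.val h; simp [i1] at this; omega) _)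

lemma yy_free {i j : Fin (QsChow.numVars n)} (hi : i.val ≠ 0) (hj : 2 ≤ j.val) (h : i ≠ j) : FreeOf j (yy n hn i) := by
  rw [yy, if_neg hi]
  split_ifs
  · exact freeOf_sS n hn hj _
  · exact freeOf_add (freeOf_pow (freeOf_X h) _) (freeOf_mul (freeOf_pow (freeOf_e1 n (by omega)) _) (freeOf_sS n hn hj _))

lemma yy_monic {j : Fin (QsChow.numVars n)} (hj : 2 ≤ j.val) : (sep j (yy n hn j)).Monic := by
  rw [yy, if_neg (by omega), if_neg (by omega), map_add, map_pow, sep_X_self,
    show sep j (_ : QsChow.FreeP n) = _ from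
      freeOf_mul (freeOf_pow (freeOf_e1 n (by omega)) _) (freeOf_sS n hn hj _)]
  exact Polynomial.monic_X_pow_add (lt_of_le_of_lt Polynomial.degree_C_le
    (by exact_mod_cast (Nat.two_pow_pos (QsChow.klog n (j.val + 1)))))

lemma y1_monic : (sep (i1 n hn) (yy n hn (i1 n hn))).Monic := by
  rw [yy, if_neg (by simp [i1]), if_pos (show (i1 n hn).val = 1 from rfl)]
  exact sS_sep n hn (numeric n hn (i := i1 n hn) (by simp [i1])).1

/-- index set of the relations. -/
def idx : Finset (Fin (QsChow.numVars n)) := Finset.univ.filter fun i => i.val ≠ 0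

lemma reg_y {i : Fin (QsChow.numVars n)} (hi : i ∈ idx n) (r : ℕ) :
    Reg (Ideal.span (insert (X (i0 n) ^ r) (yy n hn '' ((idx n).erase i : Finset _)))) (yy n hn i) := by
  classical
  simp only [idx, Finset.mem_filter, Finset.mem_univ, true_and] at hi
  have hmem : ∀ j, j ∈ (idx n).erase i ↔ j ≠ i ∧ j.val ≠ 0 := by simp [idx]
  by_cases h1 : i.val = 1
  · obtain rfl : i = i1 n hn := Fin.ext h1
    have hj2 : ∀ j ∈ (idx n).erase (i1 n hn), 2 ≤ j.val := fun j hj => by
      obtain ⟨a, b⟩ := (hmem j).1 hj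
      have : j.val ≠ 1 := fun e => a (Fin.ext e)
      omega
    rw [← Set.union_singleton]
    refine reg_many _ (yy n hn) (fun j hj => yy_monic n hn (hj2 j hj)) ?_ ?_ ?_ ?_
    · rintro j hj x rfl
      exact freeOf_pow (freeOf_e1 n ((hmem j).1 hj).2) r
    · exact fun j hj l hl hlj => yy_free n hn ((hmem l).1 hl).2 (hj2 j hj) hlj
    · exact fun j hj => yy_free n hn hi (hj2 j hj) ((hmem j).1 hj).1.symm
    · refine reg_monic (i1 n hn) ?_ (y1_monic n hn)
      rintro x rfl
      exact freeOf_pow (freeOf_e1 n (by simp [i1])) r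
  · refine reg_monic i ?_ (yy_monic n hn (by omega))
    rintro x (rfl | ⟨j, hj, rfl⟩)
    · exact freeOf_pow (freeOf_e1 n hi) r
    · exact yy_free n hn ((hmem j).1 hj).2 (by omega) ((hmem j).1 hj).1

lemma reg_e1 (r : ℕ) : Reg (Ideal.span (yy n hn '' (idx n : Finset _))) (X (i0 n) ^ r) := by
  classical
  have h1 : i1 n hn ∈ idx n := by simp [idx, i1]
  have hmem : ∀ j ∈ (idx n).erase (i1 n hn), 2 ≤ j.val := fun j hj => by
    rw [Finset.mem_erase] at hj
    have a : j.val ≠ 1 := fun e => hj.1 (Fin.ext e)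
    have b := hj.2
    simp [idx] at b
    have : j.val ≠ 0 := fun e => b (by simpa using e)
    omega
  rw [← Finset.insert_erase h1, Finset.coe_insert, Set.image_insert_eq, ← Set.union_singleton]
  refine reg_many _ (yy n hn) (fun j hj => yy_monic n hn (hmem j hj)) ?_ ?_ ?_ ?_
  · rintro j hj x rfl
    exact yy_free n hn (by simp [i1]) (hmem j hj) fun h => by
      have := hmem j hj; rw [← h] at this; simp [i1] at this
  · exact fun j hj l hl hlj => yy_free n hn (by have := hmem l hl; omega) (hmem j hj) hlj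
  · exact fun j hj => freeOf_pow (freeOf_e1 n (by have := hmem j hj; omega)) r
  · have hbase : Reg (Ideal.span (∅ : Set (QsChow.FreeP n))) (X (i0 n) ^ r) := fun z hz => by
      rw [Ideal.span_empty, Ideal.mem_bot] at hz ⊢
      exact (mul_eq_zero.1 hz).resolve_left (pow_ne_zero _ (X_ne_zero _))
    have := reg_insert (i1 n hn) (G := (∅ : Set (QsChow.FreeP n))) (by simp) (y1_monic n hn)
      (freeOf_pow (freeOf_e1 n (by simp [i1])) r) hbase
    simpa using this

/-- inclusion of the `e`-variables. -/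
noncomputable def inc : QsChow.FreeP n →ₐ[ZMod 2] QsChow.FreeE n := rename some

lemma evar_eq (i : Fin (QsChow.numVars n)) : QsChow.evar n (i.val + 1) = inc n (X i) := by
  rw [inc, rename_X, QsChow.evar, dif_pos ⟨Nat.succ_pos _, i.2⟩]
  rfl

lemma evar_e1 : QsChow.evar n 1 = inc n (X (i0 n)) := evar_eq n (i0 n)

lemma evar_e2 : QsChow.evar n 2 = inc n (X (i1 n hn)) := evar_eq n (i1 n hn)

lemma sPoly_eq (j : ℕ) : QsChow.sPoly n j = inc n (sS n hn (QsChow.klog n j)) := by
  simp only [QsChow.sPoly, sS, map_sum, map_mul, map_pow, evar_e1, evar_e2 n hn]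

lemma hrel_eq {i : Fin (QsChow.numVars n)} (hi : i.val ≠ 0) :
    QsChow.hrel n (i.val + 1) = inc n (yy n hn i) + inc n (X (i0 n) ^ dd n i) * QsChow.xvar n := by
  rw [QsChow.hrel, yy, if_neg hi]
  by_cases h1 : i.val = 1
  · rw [if_pos h1, h1, if_pos rfl, sPoly_eq n hn, map_pow, evar_e1, dd, qq, h1]
    simp only [show 1 + 1 = 2 from rfl, show 2 * 2 - 3 = 1 from rfl, one_mul]
    ring
  · rw [if_neg h1, if_neg (by omega), if_pos ⟨by omega, i.2⟩, evar_eq, evar_e1, sPoly_eq n hn, map_add, map_mul, map_pow,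
      map_pow, map_pow, dd, qq]
    ring

lemma phi_inc (f : QsChow.FreeP n) : QsChow.phi n (inc n f) = Ideal.Quotient.mk _ (psi n hn f) := by
  have h : (QsChow.phi n).comp (inc n) = (Ideal.Quotient.mkₐ (ZMod 2) (QsChow.truncIdeal n)).comp (psi n hn) := by
    refine MvPolynomial.algHom_ext fun i => ?_
    have he : ∀ l : Fin (QsChow.numVars n), QsChow.eps n (l.val + 1) = Ideal.Quotient.mk _ (X l) := fun l => by
      rw [QsChow.eps, dif_pos ⟨Nat.succ_pos _, l.2⟩]; rfl
    have he1 : QsChow.eps n 1 = Ideal.Quotient.mk _ (X (i0 n)) := he (i0 n)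
    have he2 : QsChow.eps n 2 = Ideal.Quotient.mk _ (X (i1 n hn)) := he (i1 n hn)
    rw [AlgHom.comp_apply, AlgHom.comp_apply, inc, rename_X, QsChow.phi, aeval_X]
    simp only [psi, aeval_X, QsChow.genImage, Ideal.Quotient.mkₐ_eq_mk]
    split_ifs with h0 h1
    · rw [he1, show i = i0 n from Fin.ext h0]
    · rw [he1, he2, show i = i1 n hn from Fin.ext h1, map_add, map_mul, map_pow]
    · rw [he, he1, he2, map_add, map_mul, map_pow]
  exact AlgHom.congr_fun h f

lemma phi_x : QsChow.phi n (QsChow.xvar n) = Ideal.Quotient.mk _ (X (i0 n) ^ (n - 1) * X (i1 n hn)) := by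
  rw [QsChow.xvar, QsChow.phi, aeval_X]
  simp only [QsChow.genImage, QsChow.eps]
  rw [dif_pos ⟨one_pos, Nat.le_add_left 1 _⟩, dif_pos ⟨two_pos, (i1 n hn).2⟩, map_mul, map_pow]
  rfl

include hn in
lemma pres_le : QsChow.presIdeal n ≤ RingHom.ker (QsChow.phi n) := by
  have hX : ∀ i, Ideal.Quotient.mk (QsChow.truncIdeal n) (X i ^ QsChow.bound n i) = 0 := fun i =>
    Ideal.Quotient.eq_zero_iff_mem.2 (Ideal.subset_span ⟨i, rfl⟩)
  have hb0 : QsChow.bound n (i0 n) = n := by simp [QsChow.bound, i0]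
  have h0 : Ideal.Quotient.mk (QsChow.truncIdeal n) (X (i0 n) ^ n) = 0 := by
    have := hX (i0 n)
    rwa [hb0] at this
  have hbig : ∀ m, n ≤ m → Ideal.Quotient.mk (QsChow.truncIdeal n) (X (i0 n) ^ m) = 0 := fun m hm => by
    rw [← Nat.add_sub_cancel' hm, pow_add, map_mul, h0, zero_mul]
  rw [QsChow.presIdeal, Ideal.span_le]
  rintro f ((rfl | rfl | rfl) | ⟨i, rfl⟩) <;> rw [SetLike.mem_coe, RingHom.mem_ker]
  · rw [evar_e1, ← map_pow, phi_inc n hn, map_pow (psi n hn), psi_e1, h0]
  · rw [map_mul, evar_e1, phi_inc n hn, psi_e1, phi_x n hn, ← map_mul, ← mul_assoc, ← pow_succ',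
      show n - 1 + 1 = n by omega, map_mul, h0, zero_mul]
  · rw [map_pow, phi_x n hn, ← map_pow, mul_pow, ← pow_mul, map_mul, hbig _ (by omega), zero_mul]
  · by_cases hi : i.val = 0
    · simp [QsChow.hrel, hi]
    · change QsChow.phi n (QsChow.hrel n (i.val + 1)) = 0
      rw [hrel_eq n hn hi, map_add, map_mul, phi_inc n hn, phi_inc n hn, map_pow (psi n hn), psi_e1, phi_x n hn,
        ← map_mul, ← map_add, ← hX i, X_pow_bound n hn hi, pow_add]
      congr 1
      ring

include hn in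
lemma ker_le : RingHom.ker (QsChow.phi n) ≤ QsChow.presIdeal n := by
  classical
  set P := QsChow.presIdeal n with hP
  let ι := inc n
  let x := QsChow.xvar n
  let π := Ideal.Quotient.mk P
  have gens : ∀ f ∈ ({QsChow.evar n 1 ^ n, QsChow.evar n 1 * QsChow.xvar n, QsChow.xvar n ^ 2} : Set (QsChow.FreeE n)),
      π f = 0 := fun f hf => Ideal.Quotient.eq_zero_iff_mem.2 (Ideal.subset_span (Or.inl hf))
  have g1 : π (ι (X (i0 n))) ^ n = 0 := by
    rw [← map_pow]; exact gens _ (by simp [ι, evar_e1])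
  have g2 : π (ι (X (i0 n))) * π x = 0 := by
    rw [← map_mul]; exact gens _ (by simp [ι, x, evar_e1])
  have g3 : π x * π x = 0 := by
    rw [← map_mul]; exact gens _ (by simp [x, sq])
  have g4 : ∀ i ∈ idx n, π (ι (yy n hn i)) = π (ι (X (i0 n))) ^ dd n i * π x := by
    intro i hi
    simp only [idx, Finset.mem_filter, Finset.mem_univ, true_and] at hi
    have h : π (QsChow.hrel n (i.val + 1)) = 0 := Ideal.Quotient.eq_zero_iff_mem.2 (Ideal.subset_span (Or.inr ⟨i, rfl⟩))
    rw [hrel_eq n hn hi, map_add, map_mul, map_pow (inc n), map_pow] at h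
    have h2 : (2 : QsChow.FreeE n ⧸ P) = 0 := by
      rw [← map_ofNat (algebraMap (ZMod 2) (QsChow.FreeE n ⧸ P)) 2, show (2 : ZMod 2) = 0 from rfl, map_zero]
    linear_combination h - (π (ι (X (i0 n))) ^ dd n i * π x) * h2
  have h2 : (2 : QsChow.FreeE n ⧸ P) = 0 := by
    rw [← map_ofNat (algebraMap (ZMod 2) (QsChow.FreeE n ⧸ P)) 2, show (2 : ZMod 2) = 0 from rfl, map_zero]
  have gx : ∀ m, 1 ≤ m → π (ι (X (i0 n))) ^ m * π x = 0 := fun m hm => by
    rw [← Nat.sub_add_cancel hm, pow_succ, mul_assoc, g2, mul_zero]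
  have hnormal : ∀ F : QsChow.FreeE n, ∃ A B, π F = π (ι A) + π x * π (ι B) := by
    intro F
    induction F using MvPolynomial.induction_on with
    | C c => exact ⟨C c, 0, by simp [ι, inc]⟩
    | add p q hp hq =>
      obtain ⟨A, B, h⟩ := hp
      obtain ⟨A', B', h'⟩ := hq
      exact ⟨A + A', B + B', by simp only [map_add, h, h']; ring⟩
    | mul_X p o hp =>
      obtain ⟨A, B, h⟩ := hp
      cases o with
      | none =>
        refine ⟨0, A, ?_⟩
        rw [map_mul, h, show π (X none) = π x from rfl, add_mul, map_zero, map_zero, zero_add]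
        linear_combination (π (ι B)) * g3
      | some i =>
        refine ⟨A * X i, B * X i, ?_⟩
        rw [map_mul, h, show π (X (some i)) = π (ι (X i)) by simp [ι, inc]]
        simp only [map_mul]
        ring
  intro F hF
  obtain ⟨A, B, hAB⟩ := hnormal F
  have hker : QsChow.phi n (ι A + x * ι B) = 0 := by
    have hd : F - (ι A + x * ι B) ∈ P := Ideal.Quotient.eq.1 (by rw [hAB, map_add, map_mul])
    have := RingHom.mem_ker.1 (pres_le n hn hd)
    rw [map_sub, RingHom.mem_ker.1 hF, zero_sub, neg_eq_zero] at this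
    exact this
  rw [map_add, map_mul, phi_inc n hn, phi_inc n hn, phi_x n hn, ← map_mul, ← map_add,
    Ideal.Quotient.eq_zero_iff_mem, QsChow.truncIdeal, Ideal.mem_span_range_iff_exists_fun] at hker
  obtain ⟨c, hc⟩ := hker
  choose a b hab using fun i => decomp n hn (c i)
  have huniv : (Finset.univ : Finset (Fin (QsChow.numVars n))) = insert (i0 n) (idx n) := by
    ext i
    simp only [idx, Finset.mem_univ, Finset.mem_insert, Finset.mem_filter, true_and, true_iff]
    by_cases h : i.val = 0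
    · exact Or.inl (Fin.ext h)
    · exact Or.inr h
  rw [huniv, Finset.sum_insert (by simp [idx, i0])] at hc
  have hterm : ∀ i ∈ idx n, c i * X i ^ QsChow.bound n i =
      psi n hn (a i * yy n hn i + b i * X (i0 n) ^ (n - 1 + dd n i) * X (i1 n hn)) +
      psi n hn (a i * X (i0 n) ^ (n - 1 + dd n i) + b i * (yy n hn i + X (i0 n) ^ (n - 1 + dd n i) * X (i0 n))) *
        X (i1 n hn) := by
    intro i hi
    simp only [idx, Finset.mem_filter, Finset.mem_univ, true_and] at hi
    rw [hab, X_pow_bound n hn hi]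
    simp only [map_add, map_mul, map_pow, psi_e1, psi_e2]
    linear_combination (-(psi n hn (b i) * X (i0 n) ^ (n - 1 + dd n i) * X (i0 n) * X (i1 n hn))) * two_zero n
  rw [Finset.sum_congr rfl hterm, Finset.sum_add_distrib, ← Finset.sum_mul, ← map_sum, ← map_sum, hab (i0 n),
    show QsChow.bound n (i0 n) = n by simp [QsChow.bound, i0]] at hc
  obtain ⟨hA, hB⟩ := decomp_unique n hn
    (a := a (i0 n) * X (i0 n) ^ n + (∑ i ∈ idx n, (a i * yy n hn i + b i * X (i0 n) ^ (n - 1 + dd n i) * X (i1 n hn))) - A)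
    (b := b (i0 n) * X (i0 n) ^ n +
      (∑ i ∈ idx n, (a i * X (i0 n) ^ (n - 1 + dd n i) + b i * (yy n hn i + X (i0 n) ^ (n - 1 + dd n i) * X (i0 n)))) -
      X (i0 n) ^ (n - 1) * B)
    (by
      simp only [map_add, map_sub, map_mul, map_pow, psi_e1]
      linear_combination hc)
  rw [sub_eq_zero] at hA hB
  set K := B - (∑ i ∈ idx n, a i * X (i0 n) ^ dd n i) - X (i0 n) * (b (i0 n) + ∑ i ∈ idx n, b i * X (i0 n) ^ dd n i)
    with hK
  have hn1 : (X (i0 n) : QsChow.FreeP n) ^ n = X (i0 n) ^ (n - 1) * X (i0 n) := by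
    rw [← pow_succ, show n - 1 + 1 = n by omega]
  have hexact : ∑ i ∈ idx n, b i * yy n hn i = X (i0 n) ^ (n - 1) * K := by
    have hsum : (∑ i ∈ idx n, (a i * X (i0 n) ^ (n - 1 + dd n i) + b i * (yy n hn i + X (i0 n) ^ (n - 1 + dd n i) * X (i0 n)))) =
        X (i0 n) ^ (n - 1) * (∑ i ∈ idx n, a i * X (i0 n) ^ dd n i) + (∑ i ∈ idx n, b i * yy n hn i) +
          X (i0 n) ^ (n - 1) * X (i0 n) * (∑ i ∈ idx n, b i * X (i0 n) ^ dd n i) := by
      simp only [Finset.mul_sum, ← Finset.sum_add_distrib]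
      exact Finset.sum_congr rfl fun i _ => by rw [pow_add]; ring
    rw [hsum, hn1] at hB
    rw [hK]
    linear_combination hB
  have hKmem : K ∈ Ideal.span (yy n hn '' (idx n : Finset _)) := by
    refine reg_e1 n hn (n - 1) K ?_
    rw [← hexact]
    exact Submodule.sum_mem _ fun i hi => Ideal.mul_mem_left _ _ (Ideal.subset_span ⟨i, hi, rfl⟩)
  have hbmem : ∀ i ∈ idx n, b i ∈ Ideal.span (insert (X (i0 n) ^ (n - 1)) (yy n hn '' (idx n : Finset _))) := by
    intro i hi
    have hsub : Ideal.span (insert (X (i0 n) ^ (n - 1)) (yy n hn '' ((idx n).erase i : Finset _))) ≤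
        Ideal.span (insert (X (i0 n) ^ (n - 1)) (yy n hn '' (idx n : Finset _))) :=
      Ideal.span_mono (Set.insert_subset_insert (Set.image_mono (by exact_mod_cast Finset.erase_subset i (idx n))))
    refine hsub (reg_y n hn hi (n - 1) (b i) ?_)
    rw [← Finset.add_sum_erase _ _ hi] at hexact
    rw [show yy n hn i * b i = X (i0 n) ^ (n - 1) * K - ∑ l ∈ (idx n).erase i, b l * yy n hn l by
      rw [← hexact]; ring]
    exact sub_mem (Ideal.mul_mem_right _ _ (Ideal.subset_span (Set.mem_insert _ _)))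
      (Submodule.sum_mem _ fun l hl => Ideal.mul_mem_left _ _ (Ideal.subset_span (Set.mem_insert_of_mem _ ⟨l, hl, rfl⟩)))
  have hx : ∀ f ∈ Ideal.span (yy n hn '' (idx n : Finset _)), π x * π (ι f) = 0 := by
    intro f hf
    induction hf using Submodule.span_induction with
    | mem f hf =>
      obtain ⟨i, hi, rfl⟩ := hf
      rw [g4 i hi]
      linear_combination (π (ι (X (i0 n))) ^ dd n i) * g3
    | zero => simp
    | add u v _ _ hu hv => simp only [map_add, mul_add, hu, hv, add_zero]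
    | smul r u _ hu => rw [smul_eq_mul, map_mul, map_mul, ← mul_assoc, mul_comm (π x), mul_assoc, hu, mul_zero]
  have hy : ∀ f ∈ Ideal.span (insert (X (i0 n) ^ (n - 1)) (yy n hn '' (idx n : Finset _))),
      π (ι (X (i0 n))) ^ (n - 1) * π (ι f) = 0 := by
    intro f hf
    induction hf using Submodule.span_induction with
    | mem f hf =>
      rcases hf with rfl | ⟨i, hi, rfl⟩
      · rw [map_pow, map_pow, ← pow_add, show n - 1 + (n - 1) = n + (n - 2) by omega, pow_add, g1, zero_mul]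
      · rw [g4 i hi, ← mul_assoc, ← pow_add, gx _ (by omega)]
    | zero => simp
    | add u v _ _ hu hv => simp only [map_add, mul_add, hu, hv, add_zero]
    | smul r u _ hu => rw [smul_eq_mul, map_mul, map_mul, ← mul_assoc, mul_comm _ (π (ι r)), mul_assoc, hu, mul_zero]
  rw [← Ideal.Quotient.eq_zero_iff_mem]
  change π F = 0
  rw [hAB]
  have eA : π (ι A) = π x * π (ι (∑ i ∈ idx n, a i * X (i0 n) ^ dd n i)) := by
    rw [← hA]
    simp only [map_add, map_mul, map_sum, map_pow, Finset.mul_sum, g1, mul_zero, zero_add]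
    refine Finset.sum_congr rfl fun i hi => ?_
    have := hy (b i) (hbmem i hi)
    rw [g4 i hi, pow_add]
    linear_combination (π (ι (X (i0 n))) ^ dd n i * π (ι (X (i1 n hn)))) * this
  have eB : π x * π (ι B) = π x * π (ι (∑ i ∈ idx n, a i * X (i0 n) ^ dd n i)) := by
    have hBK : B = K + (∑ i ∈ idx n, a i * X (i0 n) ^ dd n i) +
        X (i0 n) * (b (i0 n) + ∑ i ∈ idx n, b i * X (i0 n) ^ dd n i) := by rw [hK]; ring
    conv_lhs => rw [hBK]
    simp only [map_add, map_mul, mul_add]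
    rw [hx K hKmem]
    linear_combination (π (ι (b (i0 n))) + π (ι (∑ i ∈ idx n, b i * X (i0 n) ^ dd n i))) * g2
  rw [eA, eB]
  linear_combination (π x * π (ι (∑ i ∈ idx n, a i * X (i0 n) ^ dd n i))) * h2

end

/-- For an integer n ≥ 2 put s := n / 2 + 1 (integer part) and, for 2 ≤ j ≤ s, let k_j be the integer
part of the base-2 logarithm of (2n - 1)/(2j - 3); let P := F_2[ε_1, …, ε_s]/(ε_1^n, ε_2^(2^k_2), …,
ε_s^(2^k_s)) over the field F_2 with two elements; let ē_1 := ε_1, ē_2 := ε_2^2 + ε_1 ε_2, ē_j :=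
ε_j + ε_1^(2j-4) ε_2 for 3 ≤ j ≤ s and x̄ := ε_1^(n-1) ε_2, and let φ : F_2[e_1, …, e_s, x] → P be
the F_2-algebra homomorphism with e_j ↦ ē_j and x ↦ x̄. Then the kernel of φ is the ideal generated
by e_1^n, e_1 x, x^2, h_2 := e_1^(2^k_2 - n) x + S_2 and, for 3 ≤ j ≤ s, h_j := e_j^(2^k_j) +
e_1^((2j-3)·2^k_j - n) x + e_1^((2j-4)·2^k_j) S_j, where S_j := Σ_{t < k_j} e_1^(2^k_j - 2^(t+1))
e_2^(2^t). (The printed statement is the resulting presentation of the τ-fixed subalgebra modulo
ε_1^m for 1 ≤ m ≤ n, for the involution τ fixing ε_1 and sending ε_j to ε_j + ε_1^(2j-3); since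
ε_1^n = 0 the case m = n carries all the others.) -/
theorem result (n : ℕ) (hn : 2 ≤ n) :
    RingHom.ker (QsChow.phi n) = QsChow.presIdeal n := by
  exact le_antisymm (ker_le n hn) (pres_le n hn)

end Groth.Agent.S17742
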