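import Groth.Statements.S17751
import Mathlib
-- import your own Groth.Agent.* helpers here

set_option autoImplicit false
universe u
open LocCoh

namespace Groth.Agent.S17751

/-- Suppose R is a Noetherian ring, r is a natural number, and I is an ideal of R. Then there are
elements f_1, …, f_r of I such that for every prime ideal p of R of height less than r, p contains I
if and only if p contains f_1, …, f_r. (For r = 0 there is nothing to prove.) -/
theorem result (R : Type u) [CommRing R] [IsNoetherianRing R] (I : Ideal R) (r : ℕ) : ∃ f : Fin r → R, (∀ i, f i ∈ I) ∧ ∀ (p : Ideal R) [p.IsPrime], p.height < r → (I ≤ p ↔ Ideal.span (Set.range f) ≤ p) := by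
  classical
  suffices h : ∀ r : ℕ, ∃ l : List R, l.length = r ∧ (∀ x ∈ l, x ∈ I) ∧ ∀ (p : Ideal R) [p.IsPrime],
      p.height < r → Ideal.ofList l ≤ p → I ≤ p by
    obtain ⟨l, hl, hlI, hp⟩ := h r
    subst hl
    refine ⟨l.get, fun i => hlI _ (List.get_mem l i), fun p _ hlt => ⟨fun hIp => ?_, fun hle => hp p hlt ?_⟩⟩
    · exact Ideal.span_le.2 fun x ⟨i, hi⟩ => hi ▸ hIp (hlI _ (List.get_mem l i))
    · refine Ideal.span_le.2 fun x hx => ?_
      obtain ⟨i, rfl⟩ := List.get_of_mem hx
      exact hle (Ideal.subset_span ⟨i, rfl⟩)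
  intro r
  induction r with
  | zero => exact ⟨[], rfl, by simp, fun p _ h _ => absurd h (by simp)⟩
  | succ r ih =>
    obtain ⟨l, hl, hlI, hp⟩ := ih
    let J := Ideal.ofList l
    let T := (Ideal.finite_minimalPrimes_of_isNoetherianRing R J).toFinset.filter fun P => ¬ I ≤ P
    have hT : ∀ P ∈ T, P.IsPrime := fun P hP => by
      simp only [T, Finset.mem_filter, Set.Finite.mem_toFinset] at hP
      exact hP.1.1.1
    obtain ⟨f, hfI, hfT⟩ : ∃ f ∈ I, ∀ P ∈ T, f ∉ P := by
      by_contra hno
      push Not at hno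
      obtain ⟨P, hP, hle⟩ := (Ideal.subset_union_prime (R := R) (s := T) (f := id) (I := I) ⊥ ⊥ fun P hP _ _ => hT P hP).1 (fun x hx => by
          obtain ⟨P, hP, hxP⟩ := hno x hx
          exact Set.mem_biUnion hP hxP)
      simp only [T, Finset.mem_filter] at hP
      exact hP.2 hle
    refine ⟨f :: l, by simp [hl], List.forall_mem_cons.2 ⟨hfI, hlI⟩, fun p _ hlt hle => ?_⟩
    rw [Ideal.ofList_cons, sup_le_iff, Ideal.span_le, Set.singleton_subset_iff] at hle
    obtain ⟨P, hP, hPp⟩ := Ideal.exists_minimalPrimes_le hle.2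
    haveI := hP.1.1
    by_cases hIP : I ≤ P
    · exact hIP.trans hPp
    · have hfP : f ∉ P := hfT P (by simp [T, J, hIP]; exact hP)
      have hlt' : P < p := lt_of_le_of_ne hPp fun e => hfP (e ▸ hle.1)
      refine absurd (hp P ?_ hP.1.2) hIP
      have h1 := Ideal.height_strict_mono_of_isPrime hlt'
      exact lt_of_lt_of_le h1 ((ENat.lt_add_one_iff (ENat.natCast_ne_top r)).1 (by exact_mod_cast hlt))

end Groth.Agent.S17751
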