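import Groth.Statements.S17753
import Mathlib
import Groth.Agent.S17751
-- import your own Groth.Agent.* helpers here

set_option autoImplicit false
universe u
open LocCoh

namespace Groth.Agent.S17753

/-- Let R be a Noetherian local ring of Krull dimension d and I a proper ideal of R. Then there are d
elements f_1, …, f_d of I such that I and the ideal they generate have the same radical, so the
arithmetic rank of I is at most d. (The published statement has no properness hypothesis; for the
unit ideal of a field, d = 0 and no empty family generates the unit ideal up to radical, and the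
published proof uses that the maximal ideal contains I.) -/
theorem result (R : Type u) [CommRing R] [IsNoetherianRing R] [IsLocalRing R] (d : ℕ) (hd : ringKrullDim R = d) (I : Ideal R) (hI : I ≠ ⊤) : ∃ f : Fin d → R, (∀ i, f i ∈ I) ∧ I.radical = (Ideal.span (Set.range f)).radical := by
  obtain ⟨f, hf, h⟩ := Groth.Agent.S17751.result R I d
  refine ⟨f, hf, le_antisymm ?_ (Ideal.radical_mono (Ideal.span_le.2 fun x ⟨i, hi⟩ => hi ▸ hf i))⟩
  rw [Ideal.radical_le_radical_iff, Ideal.radical_eq_sInf]
  refine le_sInf fun p ⟨hle, hp⟩ => ?_
  haveI := hp
  by_cases hpm : p = IsLocalRing.maximalIdeal R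
  · exact hpm ▸ IsLocalRing.le_maximalIdeal hI
  refine (h p ?_).2 hle
  have h1 := Ideal.height_strict_mono_of_isPrime (lt_of_le_of_ne (IsLocalRing.le_maximalIdeal hp.ne_top) hpm)
  refine lt_of_lt_of_le h1 (WithBot.coe_le_coe.1 ?_)
  rw [IsLocalRing.maximalIdeal_height_eq_ringKrullDim, hd]
  rfl

end Groth.Agent.S17753
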