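import Mathlib
import Groth.Statements.S17754
-- import your own Groth.Agent.* helpers here

set_option autoImplicit false
universe u
open CAlg

namespace Groth.Agent.S17754

/-- Let R be a complete Noetherian local ring with maximal ideal m, and let I_0 ⊇ I_1 ⊇ I_2 ⊇ ⋯ be a
descending sequence of ideals of R whose intersection is zero. Then for every natural number n there
is an index s with I_s contained in m^n; that is, the filtration by the I_s is at least as fine as
the m-adic one. -/
theorem result (R : Type u) [CommRing R] [IsNoetherianRing R] [IsLocalRing R] [IsAdicComplete (IsLocalRing.maximalIdeal R) R] (I : ℕ → Ideal R) (hI : Antitone I) (hinf : ⨅ s, I s = ⊥) (n : ℕ) : ∃ s : ℕ, I s ≤ IsLocalRing.maximalIdeal R ^ n := by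
  classical
  set m := IsLocalRing.maximalIdeal R with hm
  have hart : ∀ k : ℕ, IsArtinianRing (R ⧸ m ^ k) := by
    intro k
    by_cases hk : m ^ k = ⊤
    · haveI : Subsingleton (R ⧸ m ^ k) := Ideal.Quotient.subsingleton_iff.mpr hk
      infer_instance
    · haveI : Nontrivial (R ⧸ m ^ k) := Ideal.Quotient.nontrivial_iff.mpr hk
      haveI : IsLocalRing (R ⧸ m ^ k) := IsLocalRing.of_surjective' (Ideal.Quotient.mk _) Ideal.Quotient.mk_surjective
      rw [isArtinianRing_iff_isNilpotent_maximalIdeal]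
      refine ⟨k, ?_⟩
      rw [← IsLocalRing.map_maximalIdeal_of_surjective (Ideal.Quotient.mk (m ^ k)) Ideal.Quotient.mk_surjective, ← Ideal.map_pow, ← hm,
        Ideal.map_quotient_self, Ideal.zero_eq_bot]
  have hstab : ∀ k : ℕ, ∃ s, ∀ t, s ≤ t → I t ⊔ m ^ k = I s ⊔ m ^ k := by
    intro k
    haveI := hart k
    obtain ⟨s, hs⟩ := IsArtinian.monotone_stabilizes (R := R ⧸ m ^ k) (M := R ⧸ m ^ k)
      ⟨fun t => OrderDual.toDual ((I t).map (Ideal.Quotient.mk (m ^ k))), fun a b h => Ideal.map_mono (hI h)⟩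
    refine ⟨s, fun t ht => ?_⟩
    have := congrArg (fun J : Ideal (R ⧸ m ^ k) => J.comap (Ideal.Quotient.mk (m ^ k))) (OrderDual.toDual_inj.mp (hs t ht))
    simp only [Ideal.comap_map_of_surjective _ Ideal.Quotient.mk_surjective, ← RingHom.ker_eq_comap_bot, Ideal.mk_ker] at this
    exact this.symm
  choose σ hσ using hstab
  let L : ℕ → Ideal R := fun k => I (σ k) ⊔ m ^ k
  have hLle : ∀ k s, L k ≤ I s ⊔ m ^ k := by
    intro k s
    have h := hσ k (max s (σ k)) (le_max_right _ _)
    exact h.symm.le.trans (sup_le_sup_right (hI (le_max_left _ _)) _)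
  have hsucc : ∀ k, L k ≤ L (k + 1) ⊔ m ^ k := by
    intro k
    refine (hLle k (σ (k + 1))).trans (sup_le_sup_right le_sup_left _)
  have hlift : ∀ k, ∀ x ∈ L k, ∃ y ∈ L (k + 1), x - y ∈ m ^ k := by
    intro k x hx
    obtain ⟨y, hy, z, hz, rfl⟩ := Submodule.mem_sup.mp (hsucc k hx)
    exact ⟨y, hy, by simpa using hz⟩
  choose g hg1 hg2 using hlift
  refine ⟨σ n, le_trans le_sup_left (show L n ≤ m ^ n from fun x hx => ?_)⟩
  let f : (j : ℕ) → L (n + j) := fun j => Nat.rec (motive := fun j => L (n + j)) ⟨x, hx⟩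
    (fun j y => ⟨g (n + j) y.1 y.2, hg1 _ _ y.2⟩) j
  have hdiff : ∀ j, (f j : R) - f (j + 1) ∈ m ^ (n + j) := fun j => hg2 _ _ (f j).2
  have hc : ∀ {i j}, i ≤ j → (f i : R) - f j ∈ m ^ (n + i) := by
    intro i j hij
    induction j, hij using Nat.le_induction with
    | base => simp
    | succ j hj ih =>
      have : (f i : R) - f (j + 1) = ((f i : R) - f j) + (f j - f (j + 1)) := by ring
      rw [this]
      exact add_mem ih (Ideal.pow_le_pow_right (by omega) (hdiff j))
  obtain ⟨y, hy⟩ := IsPrecomplete.prec' (I := m) (M := R) (fun j => (f j : R)) (fun {i j} hij => by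
    rw [SModEq.sub_mem, Ideal.smul_eq_mul, Ideal.mul_top]
    exact Ideal.pow_le_pow_right (by omega) (hc hij))
  have hy' : ∀ j, (f j : R) - y ∈ m ^ j := fun j => by
    have := hy j
    rwa [SModEq.sub_mem, Ideal.smul_eq_mul, Ideal.mul_top] at this
  have hy0 : y = 0 := by
    rw [← Ideal.mem_bot, ← hinf, Ideal.mem_iInf]
    intro s
    have hmem : ∀ j, y ∈ I s ⊔ m ^ j := fun j => by
      have h1 : (f j : R) ∈ I s ⊔ m ^ j :=
        (sup_le_sup (le_refl (I s)) (Ideal.pow_le_pow_right (Nat.le_add_left j n))) (hLle _ s (f j).2)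
      simpa using sub_mem h1 (Ideal.mem_sup_right (hy' j))
    have h0 : (Ideal.Quotient.mk (I s) y : R ⧸ I s) ∈ (⨅ i : ℕ, m ^ i • ⊤ : Submodule R (R ⧸ I s)) := by
      rw [Submodule.mem_iInf]
      intro j
      obtain ⟨a, ha, b, hb, hab⟩ := Submodule.mem_sup.mp (hmem j)
      rw [← hab, map_add, Ideal.Quotient.eq_zero_iff_mem.mpr ha, zero_add]
      have := Submodule.smul_mem_smul hb (Submodule.mem_top : (1 : R ⧸ I s) ∈ ⊤)
      simpa [Algebra.smul_def] using this
    rw [Ideal.iInf_pow_smul_eq_bot_of_le_jacobson _ (IsLocalRing.maximalIdeal_le_jacobson _), Submodule.mem_bot] at h0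
    exact Ideal.Quotient.eq_zero_iff_mem.mp h0
  have h1 := hy' n
  rw [hy0, sub_zero] at h1
  have h2 := hc (Nat.zero_le n)
  have h3 := add_mem h2 h1
  simpa [f] using h3

end Groth.Agent.S17754
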