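import Groth.Statements.S17756
import Groth.Agent.MatlisLib.Local
import Mathlib.Algebra.Module.SpanRankOperations

set_option autoImplicit false
universe u
open Matlis

namespace Groth.Agent.S17756

/-- Let R be a Noetherian local ring with maximal ideal m and residue field k, E an injective hull of k,
and M a finitely generated R-module with Matlis dual M^v = Hom_R(M, E). Then the minimal number of
generators of M equals the k-dimension of the socle of M^v, the submodule of elements of M^v killed
by m (stated as its length as an R-module). -/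
theorem result (R : Type u) [CommRing R] [IsNoetherianRing R] [IsLocalRing R] (E : Type u) [AddCommGroup E] [Module R E] (f : IsLocalRing.ResidueField R →ₗ[R] E) (hf : InjHull.IsInjectiveHull f) (M : Type u) [AddCommGroup M] [Module R M] [Module.Finite R M] : ((⊤ : Submodule R M).spanFinrank : ℕ∞) = Module.length R (LocCoh.torsionBy (IsLocalRing.maximalIdeal R) (M →ₗ[R] E)) := by
  letI := Ideal.Quotient.field (IsLocalRing.maximalIdeal R)
  let m := IsLocalRing.maximalIdeal R
  let Q := M ⧸ m • (⊤ : Submodule R M)
  let e : (Q →ₗ[R] E) →ₗ[R] LocCoh.torsionBy m (M →ₗ[R] E) :=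
    (LinearMap.lcomp R E (m • ⊤ : Submodule R M).mkQ).codRestrict _ fun φ =>
      (Submodule.mem_torsionBySet_iff _ _).2 fun a => LinearMap.ext fun x => by
        show (a : R) • φ (Submodule.Quotient.mk x) = 0
        rw [← map_smul, ← Submodule.Quotient.mk_smul,
          (Submodule.Quotient.mk_eq_zero _).2 (Submodule.smul_mem_smul a.2 Submodule.mem_top), map_zero]
  have he : Function.Bijective e := by
    refine ⟨fun a b h => LinearMap.ext fun q => ?_, fun φ => ?_⟩
    · obtain ⟨x, rfl⟩ := Submodule.mkQ_surjective _ q
      exact LinearMap.congr_fun (congrArg Subtype.val h) x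
    · refine ⟨Submodule.liftQ _ (φ : M →ₗ[R] E) ?_, Subtype.ext (LinearMap.ext fun x => rfl)⟩
      refine Submodule.smul_le.2 fun a ha x _ => ?_
      rw [LinearMap.mem_ker, map_smul, ← LinearMap.smul_apply,
        (Submodule.mem_torsionBySet_iff _ _).1 φ.2 ⟨a, ha⟩, LinearMap.zero_apply]
  haveI : Module.Finite (R ⧸ m) Q := Module.Finite.of_restrictScalars_finite R _ _
  have hlen : Module.length R Q = Module.finrank (R ⧸ m) Q := by
    rw [Module.length_eq_of_surjective (S := R) (R := R ⧸ m) (M := Q) Ideal.Quotient.mk_surjective,
      Module.length_eq_finrank]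
  have hQ : IsFiniteLength R Q :=
    Module.length_ne_top_iff.1 (by rw [hlen]; exact ENat.coe_ne_top _)
  rw [← (LinearEquiv.ofBijective e he).length_eq,
    MatlisLib.length_dual hf hQ (MatlisLib.isPowerTorsion_of_isFiniteLength hQ), hlen,
    IsLocalRing.spanFinrank_eq_finrank_quotient ⊤ Module.Finite.fg_top]
  congr 1
  refine LinearEquiv.finrank_eq ?_
  refine (Submodule.Quotient.equiv _ _ Submodule.topEquiv ?_).extendScalarsOfSurjective
    Ideal.Quotient.mk_surjective
  rw [Submodule.map_smul'', Submodule.map_top]
  simp [m]

end Groth.Agent.S17756
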