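import Groth.Statements.S17764


set_option autoImplicit false
universe u
open InjHull

namespace Groth.Agent.S17764

/-- Let R be a commutative ring and M an R-module which is torsion-free (no nonzero element of R kills a
nonzero element of M) and divisible (multiplication by every nonzero element of R is surjective on
M). Then M is an injective R-module. (Over a ring with zero divisors the two hypotheses force M =
0.) -/
theorem result (R : Type u) [CommRing R] (M : Type u) [AddCommGroup M] [Module R M] [NoZeroSMulDivisors R M] (hdiv : ∀ r : R, r ≠ 0 → Function.Surjective (fun m : M => r • m)) : Module.Injective R M := by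
  refine Module.Baer.injective fun I g => ?_
  by_cases hI : ∃ a ∈ I, a ≠ 0
  · obtain ⟨a, ha, ha0⟩ := hI
    obtain ⟨m, hm⟩ := hdiv a ha0 (g ⟨a, ha⟩)
    refine ⟨LinearMap.toSpanSingleton R M m, fun x hx => ?_⟩
    have h1 : a • g ⟨x, hx⟩ = a • x • m := by
      rw [smul_comm a x m, show a • m = g ⟨a, ha⟩ from hm, ← map_smul, ← map_smul]
      congr 1; ext; exact mul_comm a x
    have h2 : a • (g ⟨x, hx⟩ - x • m) = 0 := by rw [smul_sub, h1, sub_self]
    rw [LinearMap.toSpanSingleton_apply]
    exact (sub_eq_zero.mp ((NoZeroSMulDivisors.eq_zero_or_eq_zero_of_smul_eq_zero h2).resolve_left ha0)).symm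
  · push Not at hI
    refine ⟨0, fun x hx => ?_⟩
    rw [show (⟨x, hx⟩ : I) = 0 from Subtype.ext (hI x hx), map_zero, LinearMap.zero_apply]

end Groth.Agent.S17764
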