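import Groth.Statements.S17765
import Mathlib
import Groth.Agent.LocCohLib.Shift
import Groth.Agent.LocCohLib.ExtSupport
import Groth.Agent.DepthLib.Ext
import Groth.Agent.RegularSerre.Localization
-- import your own Groth.Agent.* helpers here

set_option autoImplicit false
universe u
open CategoryTheory
open LocCoh

open CategoryTheory

namespace Groth.Agent.S17765

open CategoryTheory in
/-- Localisation does not raise the projective dimension. -/
theorem projDim_loc {B : Type u} [CommRing B] [IsNoetherianRing B] (S : Submonoid B) : ∀ (n : ℕ) (M : ModuleCat.{u} B) [Module.Finite B M],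
    HasProjectiveDimensionLT M (n + 1) →
    HasProjectiveDimensionLT (ModuleCat.of (Localization S) (LocalizedModule S M)) (n + 1) := by
  intro n
  induction n with
  | zero =>
    intro M _ h
    haveI : Projective M := projective_iff_hasProjectiveDimensionLT_one.2 h
    haveI : Module.Projective B M := (IsProjective.iff_projective M).2 inferInstance
    haveI : Module.Projective (Localization S) (LocalizedModule S M) :=
      Module.Projective.of_equiv (LocalizedModule.equivTensorProduct S M).symm
    exact projective_iff_hasProjectiveDimensionLT_one.1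
      ((IsProjective.iff_projective (R := Localization S) (LocalizedModule S M)).1 inferInstance)
  | succ n ih =>
    intro M _ h
    obtain ⟨k, π, hπ⟩ := Module.Finite.exists_fin' B M
    let C : ShortComplex (ModuleCat.{u} B) :=
      ShortComplex.mk (X₁ := ModuleCat.of B (LinearMap.ker π)) (X₂ := ModuleCat.of B (Fin k → B)) (X₃ := M)
        (ModuleCat.ofHom (LinearMap.ker π).subtype) (ModuleCat.ofHom (Y := M) π)
        (ModuleCat.hom_ext (LinearMap.ext fun x => x.2))
    have hC : C.ShortExact :=
      { exact := (ShortComplex.ShortExact.moduleCat_exact_iff_function_exact _).2 (LinearMap.exact_subtype_ker_map π)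
        mono_f := (ModuleCat.mono_iff_injective _).2 Subtype.val_injective
        epi_g := (ModuleCat.epi_iff_surjective _).2 hπ }
    haveI : Projective C.X₂ := ModuleCat.projective_of_categoryTheory_projective (P := ModuleCat.of B (Fin k → B))
    haveI : Projective (LocCohLib.locSeq S C).X₂ := ModuleCat.projective_of_categoryTheory_projective
      (P := ModuleCat.of (Localization S) (LocalizedModule S (Fin k → B)))
    haveI : Module.Finite B (LinearMap.ker π) := Module.Finite.iff_fg.2 (IsNoetherian.noetherian _)
    exact (LocCohLib.locSeq_shortExact (hS := hC) S).hasProjectiveDimensionLT_X₃ (n + 1)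
      (ih (ModuleCat.of B (LinearMap.ker π)) (hC.hasProjectiveDimensionLT_X₁ (n + 1) inferInstance h))
      (hasProjectiveDimensionLT_of_ge _ 1 _ (by omega))

/-- Let B be a regular local ring, M a finitely generated B-module and p an associated prime ideal of M.
Then the height of p is at most the projective dimension of M: for every n such that M has
projective dimension at most n, ht p ≤ n. -/
theorem result (B : Type u) [CommRing B] [IsRegularLocalRing B] (M : Type u) [AddCommGroup M] [Module B M] [Module.Finite B M] (p : Ideal B) (hp : p ∈ associatedPrimes B M) (n : ℕ) (hn : HasProjectiveDimensionLE (ModuleCat.of B M) n) : p.height ≤ n := by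
  classical
  haveI := hp.isPrime
  let A := Localization.AtPrime p
  obtain ⟨h, hh⟩ : ∃ h : ℕ, p.height = h :=
    ⟨_, (ENat.natCast_toNat (Ideal.height_lt_top_of_isPrime (I := p)).ne).symm⟩
  rw [hh]
  by_contra hlt
  replace hlt : n < h := by simpa using hlt
  haveI : IsRegularLocalRing A := RegularSerre.isRegularLocalRing_localization p
  have hdim : ringKrullDim A = h := by rw [IsLocalization.AtPrime.ringKrullDim_eq_height p A, hh]; rfl
  obtain ⟨y, hy⟩ := (isAssociatedPrime_iff.1 hp).2
  have hann : ∀ r : B, r ∈ p ↔ r • y = 0 := fun r => by rw [hy, Submodule.mem_colon_singleton, Submodule.mem_bot]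
  let z : LocalizedModule p.primeCompl M := LocalizedModule.mkLinearMap p.primeCompl M y
  have hz : ∀ a ∈ IsLocalRing.maximalIdeal A, a • z = 0 := fun a ha => by
    rw [← Localization.AtPrime.map_eq_maximalIdeal] at ha
    induction ha using Submodule.span_induction with
    | mem w hw => obtain ⟨r, hr, rfl⟩ := hw; rw [algebraMap_smul, ← map_smul, (hann r).1 hr, map_zero]
    | zero => exact zero_smul _ _
    | add u v _ _ hu hv => rw [add_smul, hu, hv, add_zero]
    | smul c u _ hu => rw [smul_eq_mul, mul_smul, hu, smul_zero]
  have hz0 : z ≠ 0 := fun h0 => by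
    obtain ⟨t, ht⟩ := (IsLocalizedModule.eq_zero_iff p.primeCompl (LocalizedModule.mkLinearMap p.primeCompl M)).1 h0
    exact t.2 ((hann t).2 ht)
  let ι₀ : (A ⧸ IsLocalRing.maximalIdeal A) →ₗ[A] LocalizedModule p.primeCompl M :=
    Submodule.liftQ _ (LinearMap.toSpanSingleton A _ z) fun a ha => hz a ha
  have hinj : Function.Injective ι₀ := (injective_iff_map_eq_zero _).2 fun x hx => by
    obtain ⟨a, rfl⟩ := Ideal.Quotient.mk_surjective x
    refine Ideal.Quotient.eq_zero_iff_mem.2 (by_contra fun ha => hz0 ?_)
    obtain ⟨b, hb⟩ := (IsLocalRing.notMem_maximalIdeal.1 ha).exists_left_inv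
    have hx' : a • z = 0 := hx
    rw [← one_smul A z, ← hb, mul_smul, hx', smul_zero]
  let S : ShortComplex (ModuleCat.{u} A) := ShortComplex.mk (X₃ := ModuleCat.of A (_ ⧸ LinearMap.range ι₀))
    (ModuleCat.ofHom ι₀) (ModuleCat.ofHom (LinearMap.range ι₀).mkQ)
    (ModuleCat.hom_ext (LinearMap.ext fun x => (Submodule.Quotient.mk_eq_zero _).2 ⟨x, rfl⟩))
  have hS : S.ShortExact :=
    { exact := (ShortComplex.ShortExact.moduleCat_exact_iff_function_exact _).2 (LinearMap.exact_map_mkQ_range ι₀)
      mono_f := (ModuleCat.mono_iff_injective _).2 hinj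
      epi_g := (ModuleCat.epi_iff_surjective _).2 (Submodule.mkQ_surjective _) }
  haveI hpd : HasProjectiveDimensionLT S.X₂ (n + 1) := projDim_loc p.primeCompl n (ModuleCat.of B M) hn
  haveI hgl : HasProjectiveDimensionLT S.X₃ (h + 1) := ProjDim.gldim_le_of_regularLocal A h hdim _
  haveI := DepthLib.isCohenMacaulayLocalRing_of_isRegularLocalRing A
  have hdep := (DepthLib.ringKrullDim_eq_depth (R := A)).symm.trans hdim
  have h1 : Subsingleton (Abelian.Ext.{u} S.X₁ (ModuleCat.of A A) h) := by
    refine subsingleton_of_forall_eq 0 fun x => ?_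
    obtain ⟨w, hw⟩ := Abelian.Ext.contravariant_sequence_exact₁ hS (ModuleCat.of A A) x (add_comm 1 h)
      (@Subsingleton.elim _ (HasProjectiveDimensionLT.subsingleton S.X₃ (h + 1) (h + 1) le_rfl _) _ _)
    rw [← hw, @Subsingleton.elim _ (HasProjectiveDimensionLT.subsingleton S.X₂ (n + 1) h hlt _) w 0,
      Abelian.Ext.comp_zero]
  have hd' : LocCoh.depth A A = (h : ℕ∞) := WithBot.coe_injective hdep
  have h2 : ((h + 1 : ℕ) : ℕ∞) ≤ LocCoh.depth A A :=
    (DepthLib.natCast_le_idealDepth_iff_ext _ A (h + 1)).2 fun i hi => by
      rcases Nat.lt_succ_iff_lt_or_eq.1 hi with h' | rfl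
      · exact (DepthLib.natCast_le_idealDepth_iff_ext _ A h).1 hd'.ge i h'
      · exact h1
  rw [hd'] at h2
  exact absurd (Nat.cast_le.1 h2) (by omega)

end Groth.Agent.S17765
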