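import Groth.Statements.S17771
import Mathlib
import Groth.Agent.GrInj.TopDim
import Groth.Agent.GrInj.StarLoc
import Groth.Agent.GrInj.FreeReg
-- import your own Groth.Agent.* helpers here

set_option autoImplicit false
universe u
open GrLC

namespace Groth.Agent.S17771

/-- Let R = ⊕_{n ≥ 0} R_n be a positively ℤ-graded ring which is standard graded (irrelevant ideal
generated by R_1), with R_0 Artinian, *local with unique homogeneous maximal ideal m, and
Cohen–Macaulay of Krull dimension d. Then the a-invariant of R is at least −d: the end (largest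
nonzero degree) of the graded local cohomology module H^d_m(R), computed from any *injective
resolution of R in the graded category, is ≥ −d. (Equality holds exactly for polynomial rings
R_0[T_1, …, T_d]; that characterisation is not part of this statement.) -/
theorem result (R : Type u) [CommRing R] [LocCoh.IsCohenMacaulayRing R] (𝒜 : ℤ → AddSubgroup R) [GradedRing 𝒜] (hpos : ∀ n : ℤ, n < 0 → 𝒜 n = ⊥) (hstd : Ideal.span (⋃ n ∈ Set.Ioi (0 : ℤ), (𝒜 n : Set R)) = Ideal.span ((𝒜 1 : AddSubgroup R) : Set R)) [IsArtinianRing (GrLC.deg0 𝒜)] (m : HomogeneousIdeal 𝒜) (hm : GrLC.IsStarLocal 𝒜 m) (d : ℕ) (hd : ringKrullDim R = d) (I : GrLC.StarInjRes 𝒜 𝒜) : (((-(d : ℤ) : ℤ) : WithTop ℤ) : WithBot (WithTop ℤ)) ≤ GrLC.endDeg (I.Hgr m d) := by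
  by_contra hlt
  let a : HomogeneousIdeal 𝒜 :=
    ⟨Ideal.span ((𝒜 1 : AddSubgroup R) : Set R), Ideal.homogeneous_span 𝒜 _ fun x hx => ⟨1, hx⟩⟩
  have ha : a.toIdeal = Ideal.span ((𝒜 1 : AddSubgroup R) : Set R) := rfl
  have hrad : a.toIdeal.radical = m.toIdeal.radical := by
    refine le_antisymm (Ideal.radical_mono (Ideal.span_le.2 fun x hx =>
      GrInj.mem_star_of_pos hpos hm Int.one_pos hx)) (Ideal.radical_le_radical_iff.2 ?_)
    rw [Ideal.radical_eq_sInf]
    refine le_sInf fun P hP => le_of_eq (Eq.symm ?_)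
    haveI := hP.2
    have hplus : ∀ i : ℤ, 0 < i → ∀ y ∈ 𝒜 i, y ∈ P := fun i hi y hy =>
      hP.1 ((hstd.le) (Ideal.subset_span (Set.mem_biUnion (x := i) hi hy)))
    have hsub : ∀ x : R, GrInj.pr 𝒜 0 x - x ∈ P := fun x => by
      refine GrInj.mem_of_pr (ℳ := 𝒜) (P := P) fun i => ?_
      rw [map_sub]
      rcases lt_trichotomy i 0 with h | rfl | h
      · rw [GrInj.pr_of_ne (GrInj.pr_mem 0 x) h.ne', zero_sub]
        rw [AddSubgroup.mem_bot.1 ((hpos i h).le (GrInj.pr_mem (ℳ := 𝒜) i x)), neg_zero]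
        exact zero_mem _
      · rw [GrInj.pr_of_mem (GrInj.pr_mem (ℳ := 𝒜) 0 x), sub_self]; exact zero_mem _
      · rw [GrInj.pr_of_ne (GrInj.pr_mem 0 x) h.ne, zero_sub]
        exact neg_mem (hplus i h _ (GrInj.pr_mem i x))
    have hsur : Function.Surjective ((Ideal.Quotient.mk P).comp (GrLC.deg0 𝒜).subtype) := fun c => by
      obtain ⟨x, rfl⟩ := Ideal.Quotient.mk_surjective c
      exact ⟨⟨GrInj.pr 𝒜 0 x, GrInj.pr_mem 0 x⟩, Ideal.Quotient.eq.2 (hsub x)⟩
    haveI : IsArtinianRing (R ⧸ P) := hsur.isArtinianRing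
    haveI : P.IsMaximal := Ideal.Quotient.maximal_of_isField P (IsArtinianRing.isField_of_isDomain _)
    have hhom : P.IsHomogeneous 𝒜 := fun i x hx => by
      show GrInj.pr 𝒜 i x ∈ P
      rcases lt_trichotomy i 0 with h | rfl | h
      · rw [AddSubgroup.mem_bot.1 ((hpos i h).le (GrInj.pr_mem (ℳ := 𝒜) i x))]; exact zero_mem _
      · have h2 := hsub x
        simpa using add_mem h2 hx
      · exact hplus i h _ (GrInj.pr_mem i x)
    exact Ideal.IsMaximal.eq_of_le inferInstance (GrInj.star_ne_top hm)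
      (GrInj.star_le hm ⟨P, hhom⟩ hP.2.ne_top)
  have hVan : ∀ k : ℕ, ∀ j : ℤ, k < d ∨ d < k ∨ -(d : ℤ) ≤ j → GrInj.Van a k j (GrInj.selfMod 𝒜) := by
    intro k j hk
    refine GrInj.van_of_res I (GrInj.Hcomp_eq_bot_iff_radical hrad I k j ?_)
    rcases lt_trichotomy k d with h | rfl | h
    · haveI := GrInj.subsingleton_H_cm hpos hm hd I k h
      exact Submodule.eq_bot_of_subsingleton
    · rcases hk with h | h | h
      · omega
      · omega
      · by_contra hne
        refine hlt (le_trans ?_ (le_iSup₂ (f := fun (p : ℤ) (_ : I.Hgr m k p ≠ ⊥) =>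
          ((p : WithTop ℤ) : WithBot (WithTop ℤ))) j fun hb => hne ?_))
        · exact WithBot.coe_le_coe.2 (WithTop.coe_le_coe.2 h)
        · exact eq_bot_iff.2 fun c hc => (Submodule.mem_bot _).2 (AddSubgroup.mem_bot.1 (hb.le hc))
    · haveI := GrInj.subsingleton_H_above hd I m h
      exact Submodule.eq_bot_of_subsingleton
  have h1 : (1 : R) ∈ a.toIdeal • (⊤ : Submodule R R) :=
    GrInj.mem_smul_top_of_van (A := GrInj.selfMod 𝒜) ha (n := 0) (hVan 0 0 (by omega))
      (fun k j _ hj => hVan k j (by omega)) (SetLike.one_mem_graded 𝒜)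
  rw [smul_eq_mul, Ideal.mul_top] at h1
  exact GrInj.star_ne_top hm ((Ideal.eq_top_iff_one _).2
    ((Ideal.span_le.2 fun x hx => GrInj.mem_star_of_pos hpos hm Int.one_pos hx) h1))

end Groth.Agent.S17771
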