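import Groth.Statements.S17772
import Mathlib
import Groth.Agent.GrInj.Hilbert
import Groth.Agent.GrInj.FreeReg
-- import your own Groth.Agent.* helpers here

set_option autoImplicit false
universe u
open GrLC

namespace Groth.Agent.S17772

/-- Let R = ⊕_{n ≥ 0} R_n be a positively ℤ-graded ring which is standard graded (irrelevant ideal
generated by R_1), with R_0 Artinian, *local with unique homogeneous maximal ideal m, and
Cohen–Macaulay of Krull dimension d; let H_R(n) = ℓ_{R_0}(R_n) be its Hilbert function and P_R ∈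
ℚ[X] its Hilbert polynomial (a polynomial agreeing with H_R for all large n, taken as given). Then
the a-invariant of R, the largest degree in which H^d_m(R) is nonzero (computed from any *injective
resolution of R), equals the supremum of the integers n with P_R(n) ≠ H_R(n). (The published text
writes 'min' for this supremum; the set of such n is unbounded below whenever it is nonempty, e.g.
all n < 0 for a polynomial ring over a field, and the published one-line proof H_R(n) − P_R(n) =
(−1)^d ℓ(H^d_m(R)_n) identifies the set with the nonzero degrees of H^d_m(R), whose largest element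
is a(R).) -/
theorem result (R : Type u) [CommRing R] [LocCoh.IsCohenMacaulayRing R] (𝒜 : ℤ → AddSubgroup R) [GradedRing 𝒜] (hpos : ∀ n : ℤ, n < 0 → 𝒜 n = ⊥) (hstd : Ideal.span (⋃ n ∈ Set.Ioi (0 : ℤ), (𝒜 n : Set R)) = Ideal.span ((𝒜 1 : AddSubgroup R) : Set R)) [IsArtinianRing (GrLC.deg0 𝒜)] (m : HomogeneousIdeal 𝒜) (hm : GrLC.IsStarLocal 𝒜 m) (d : ℕ) (hd : ringKrullDim R = d) (I : GrLC.StarInjRes 𝒜 𝒜) (P : Polynomial ℚ) (hP : ∃ N : ℤ, ∀ n : ℤ, N ≤ n → P.eval (n : ℚ) = ((Module.length (GrLC.deg0 𝒜) (GrLC.comp 𝒜 𝒜 n)).toNat : ℚ)) : GrLC.endDeg (I.Hgr m d) = ⨆ (n : ℤ) (_ : P.eval (n : ℚ) ≠ ((Module.length (GrLC.deg0 𝒜) (GrLC.comp 𝒜 𝒜 n)).toNat : ℚ)), ((n : WithTop ℤ) : WithBot (WithTop ℤ)) := by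
  haveI : Module.Finite R (GrInj.selfMod 𝒜).carrier := inferInstanceAs (Module.Finite R R)
  have key : ∀ n : ℤ, I.Hgr m d n = ⊥ ↔
      P.eval (n : ℚ) = ((Module.length (GrLC.deg0 𝒜) (GrLC.comp 𝒜 𝒜 n)).toNat : ℚ) := fun n => by
    have hrad := GrInj.radical_irrel_eq hpos hm
    have h := GrInj.hilb_formula (GrInj.irrel 𝒜) hpos GrInj.irrel_def hd (GrInj.selfMod 𝒜) I P hP n
    have hlast : GrInj.euler (GrInj.irrel 𝒜) d I n =
        (-1 : ℚ) ^ d * ((Module.length (GrLC.deg0 𝒜) (I.Hcomp m d n)).toNat : ℚ) := by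
      rw [GrInj.euler, Finset.sum_range_succ, Finset.sum_eq_zero, zero_add]
      · exact congrArg (fun l : ℕ∞ => (-1 : ℚ) ^ d * ((l.toNat : ℕ) : ℚ)) (GrInj.Hcomp_length_congr I hrad d n)
      · intro i hi
        haveI := GrInj.subsingleton_H_cm hpos hm hd I i (Finset.mem_range.1 hi)
        rw [GrInj.lenQ, show Module.length (GrLC.deg0 𝒜) (I.Hcomp (GrInj.irrel 𝒜) i n) = 0 from
          (GrInj.Hcomp_length_congr I hrad i n).trans (Module.length_eq_zero_iff.2 inferInstance)]
        simp
    replace h := h.trans hlast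
    have hfin : Module.length (GrLC.deg0 𝒜) (I.Hcomp m d n) ≠ ⊤ := by
      rw [← GrInj.Hcomp_length_congr I hrad d n]
      haveI : IsNoetherian (GrLC.deg0 𝒜) (I.Hcomp (GrInj.irrel 𝒜) d n) :=
        (GrInj.goodPieces (GrInj.irrel 𝒜) hpos GrInj.irrel_def d (GrInj.selfMod 𝒜) I).1 n
      haveI : Module.Finite (GrLC.deg0 𝒜) (I.Hcomp (GrInj.irrel 𝒜) d n) := Module.IsNoetherian.finite _ _
      exact Module.length_ne_top
    constructor
    · intro hb
      haveI : Subsingleton (I.Hcomp m d n) := ⟨fun p q => Subtype.ext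
        ((AddSubgroup.mem_bot.1 (hb.le p.2)).trans (AddSubgroup.mem_bot.1 (hb.le q.2)).symm)⟩
      rw [Module.length_eq_zero_iff.2 inferInstance] at h
      simp only [ENat.toNat_zero, Nat.cast_zero, mul_zero, sub_eq_zero] at h
      exact h.symm
    · intro hP'
      have hh : GrInj.hilb (GrInj.selfMod 𝒜) n = P.eval (n : ℚ) := hP'.symm
      rw [hh, sub_self] at h
      have hl : (Module.length (GrLC.deg0 𝒜) (I.Hcomp m d n)).toNat = 0 := by
        exact_mod_cast (mul_eq_zero.1 h.symm).resolve_left (pow_ne_zero _ (by norm_num))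
      haveI : Subsingleton (I.Hcomp m d n) := Module.length_eq_zero_iff.1
        ((ENat.toNat_eq_zero.1 hl).resolve_right hfin)
      exact eq_bot_iff.2 fun c hc => AddSubgroup.mem_bot.2
        (congrArg Subtype.val (Subsingleton.elim (⟨c, hc⟩ : I.Hcomp m d n) 0))
  exact iSup_congr fun n => iSup_congr_Prop (not_congr (key n)) fun _ => rfl

end Groth.Agent.S17772
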