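import Groth.Statements.S17774
import Groth.Agent.LocCohLib.DualityGor
import Groth.Agent.DepthLib.CohenMacaulay

set_option autoImplicit false
universe u
open CategoryTheory Opposite
open LocCoh

namespace Groth.Agent.S17774

/-- Let (S, n) be a Gorenstein local ring, I an ideal of S of height g such that R = S ⧸ I is a
Cohen–Macaulay local ring, of Krull dimension d, and E an injective hull of the residue field of S.
Then the canonical module of R is Ext^g_S(R, S), in the following sense: the Matlis dual
Hom_S(Ext^g_S(R, S), E) is isomorphic as an S-module to the top local cohomology H^d_n(R) of R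
regarded as an S-module (existence of an S-linear isomorphism; Hom into E over S and local
cohomology with support in n agree with the corresponding notions over R for R-modules). -/
theorem result (S : Type u) [CommRing S] [LocCoh.IsGorensteinLocalRing S] (I : Ideal S) (g : ℕ) (hg : I.height = g) [LocCoh.IsCohenMacaulayLocalRing (S ⧸ I)] (d : ℕ) (hd : ringKrullDim (S ⧸ I) = d) (E : Type u) [AddCommGroup E] [Module S E] (f : IsLocalRing.ResidueField S →ₗ[S] E) (hf : InjHull.IsInjectiveHull f) : Nonempty ((((Ext S (ModuleCat.{u} S) g).obj (op (ModuleCat.of S (S ⧸ I)))).obj (ModuleCat.of S S) →ₗ[S] E) ≃ₗ[S] LocCoh.H (IsLocalRing.maximalIdeal S) d (S ⧸ I)) := by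
  let r0 := ringKrullDim S
  haveI := Groth.Agent.GorLib.isCohenMacaulayLocalRing _ S (ENat.natCast_toNat (Groth.Agent.DepthLib.depth_ne_top (R := S) S)).symm
  obtain ⟨r, hr⟩ : ∃ r : ℕ, ringKrullDim S = r := by
    obtain ⟨r, hr⟩ := ENat.ne_top_iff_exists.1 (Groth.Agent.DepthLib.depth_ne_top (R := S) S)
    exact ⟨r, by rw [Groth.Agent.DepthLib.ringKrullDim_eq_depth, ← hr]; rfl⟩
  have hform : ∀ p : PrimeSpectrum S, (p.asIdeal.height : WithBot ℕ∞) + ringKrullDim (S ⧸ p.asIdeal) = r := fun p => by
    have h := (Groth.Agent.DepthLib.isCohenMacaulayModule_localization (M := S)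
      Groth.Agent.DepthLib.isCohenMacaulayModule_self p (Module.mem_support_iff'.mpr ⟨1, fun a ha => by
        rw [smul_eq_mul, mul_one]; exact fun h0 => ha (h0 ▸ p.asIdeal.zero_mem)⟩)).2
    let e : LocalizedModule p.asIdeal.primeCompl S ≃ₗ[Localization.AtPrime p.asIdeal] Localization.AtPrime p.asIdeal :=
      LinearEquiv.extendScalarsOfIsLocalization p.asIdeal.primeCompl (Localization.AtPrime p.asIdeal)
        (IsLocalizedModule.linearEquiv p.asIdeal.primeCompl (LocalizedModule.mkLinearMap p.asIdeal.primeCompl S)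
          (Algebra.linearMap S (Localization.AtPrime p.asIdeal)))
    rw [Module.supportDim_eq_of_equiv e, Module.supportDim_self_eq_ringKrullDim,
      IsLocalization.AtPrime.ringKrullDim_eq_height p.asIdeal, Module.supportDim_self_eq_ringKrullDim, hr] at h
    exact h
  have hdim : ∀ p : PrimeSpectrum S, ∃ a b : ℕ, p.asIdeal.height = a ∧ ringKrullDim (S ⧸ p.asIdeal) = b ∧ a + b = r := fun p => by
    have h := hform p
    obtain ⟨c, hc⟩ := WithBot.ne_bot_iff_exists.mp (show ringKrullDim (S ⧸ p.asIdeal) ≠ ⊥ from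
      ne_bot_of_le_ne_bot (by simp) (ringKrullDim_nonneg_of_nontrivial (R := S ⧸ p.asIdeal)))
    rw [← hc, ← WithBot.coe_add] at h
    have h' : p.asIdeal.height + c = (r : ℕ∞) := WithBot.coe_injective h
    obtain ⟨a, ha⟩ := ENat.ne_top_iff_exists.1 (show p.asIdeal.height ≠ ⊤ from fun e => by
      rw [e, top_add] at h'; exact ENat.natCast_ne_top r h'.symm)
    obtain ⟨b, hb⟩ := ENat.ne_top_iff_exists.1 (show c ≠ ⊤ from fun e => by
      rw [e, add_top] at h'; exact ENat.natCast_ne_top r h'.symm)
    refine ⟨a, b, ha.symm, by rw [← hc, ← hb]; rfl, ?_⟩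
    rw [← ha, ← hb] at h'
    exact_mod_cast h'
  have hdg : d + g = r := by
    have hne : I ≠ ⊤ := fun e => by
      have : Subsingleton (S ⧸ I) := Ideal.Quotient.subsingleton_iff.2 e
      rw [ringKrullDim_eq_bot_of_subsingleton] at hd
      exact WithBot.bot_ne_natCast d hd
    have h1 : r ≤ d + g := by
      obtain ⟨p, hpp, hIp, hpg⟩ := Ideal.exists_isPrime_height_eq hg
      obtain ⟨a, b, ha, hb, hab⟩ := hdim ⟨p, hpp⟩
      have hag : a = g := by exact_mod_cast ha.symm.trans hpg
      have hle : ringKrullDim (S ⧸ p) ≤ ringKrullDim (S ⧸ I) :=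
        ringKrullDim_le_of_surjective (Ideal.Quotient.factor hIp) (Ideal.Quotient.factor_surjective hIp)
      rw [hd] at hle
      change ringKrullDim (S ⧸ p) = b at hb
      rw [hb, Nat.cast_le] at hle
      omega
    have h2 : d + g ≤ r := by
      have hk := hd.ge
      rw [ringKrullDim_quotient, Order.le_krullDim_iff] at hk
      obtain ⟨l, hl⟩ := hk
      obtain ⟨a, b, ha, hb, hab⟩ := hdim l.head.1
      have hga : g ≤ a := by
        have := Ideal.height_mono (show I ≤ l.head.1.asIdeal from l.head.2)
        rw [hg, ha] at this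
        exact_mod_cast this
      have hdb : (d : WithBot ℕ∞) ≤ ringKrullDim (S ⧸ l.head.1.asIdeal) := by
        rw [ringKrullDim_quotient, Order.le_krullDim_iff]
        exact ⟨⟨l.length, fun i => ⟨(l i).1, show l.head.1.asIdeal ≤ (l i).1.asIdeal from l.monotone i.zero_le⟩,
          fun i => l.step i⟩, hl⟩
      rw [hb, Nat.cast_le] at hdb
      omega
    omega
  obtain ⟨e⟩ := Groth.Agent.LocCohLib.Gor.nonempty_duality_hull hr E f hf (S ⧸ I) d (by omega)
  rw [show r - d = g by omega] at e
  exact ⟨e.symm⟩

end Groth.Agent.S17774
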