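import Groth.Statements.S17779
import Mathlib.Tactic
import Mathlib.Data.Nat.Choose.Sum
-- import your own Groth.Agent.* helpers here

set_option autoImplicit false
open DRR

namespace Groth.Agent.S17779

/-- For natural numbers n and k with k ≤ n + 1, the alternating sum over j = 0, …, n of (−1)^(n−j) C(n,
j) j^k (with the convention 0^0 = 1) equals n! · n(n+1)/2 when k = n + 1, equals n! when k = n, and
vanishes when k < n. (The published statement takes n ≥ 1 and divides through by n!; the case n = 0
holds as well and is included.) -/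
theorem result (n k : ℕ) (hk : k ≤ n + 1) :
    (∑ j ∈ Finset.range (n + 1), (-1 : ℤ) ^ (n - j) * (n.choose j : ℤ) * (j : ℤ) ^ k) =
      (if k = n + 1 then (((n + 1).choose 2 * n.factorial : ℕ) : ℤ)
        else if k = n then (n.factorial : ℤ) else 0) := by
  have key : ∀ k n : ℕ, k ≤ n + 1 →
      (∑ j ∈ Finset.range (n + 1), (-1 : ℤ) ^ (n - j) * (n.choose j : ℤ) * (j : ℤ) ^ k) =
      (if k = n + 1 then (((n + 1).choose 2 * n.factorial : ℕ) : ℤ)
        else if k = n then (n.factorial : ℤ) else 0) := by
    clear hk k n
    intro k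
    induction k with
    | zero =>
      intro n _
      rcases n with _ | n
      · simp
      · rw [if_neg (by omega), if_neg (by omega)]
        have h := Int.alternating_sum_range_choose_of_ne (n := n + 1) (by omega)
        rw [← Finset.sum_range_reflect] at h
        rw [← h]
        refine Finset.sum_congr rfl fun j hj => ?_
        rw [Finset.mem_range] at hj
        rw [show n + 1 + 1 - 1 - j = n + 1 - j by omega, Nat.choose_symm (by omega), pow_zero, mul_one]
    | succ k ih =>
      intro n hn
      rcases n with _ | n
      · obtain rfl : k = 0 := by omega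
        simp
      · have hk1 := ih (n + 1) (by omega)
        have hk2 := ih n (by omega)
        have hA : (∑ j ∈ Finset.range (n + 1 + 1), (-1 : ℤ) ^ (n + 1 - j) * ((n + 1).choose j : ℤ) * (j : ℤ) ^ (k + 1)) =
            ((n : ℤ) + 1) * ∑ i ∈ Finset.range (n + 1), (-1 : ℤ) ^ (n - i) * (n.choose i : ℤ) * ((i : ℤ) + 1) ^ k := by
          rw [Finset.sum_range_succ', Finset.mul_sum]
          simp only [Nat.cast_zero, zero_pow (Nat.succ_ne_zero k), mul_zero, add_zero]
          refine Finset.sum_congr rfl fun i _ => ?_
          rw [show n + 1 - (i + 1) = n - i by omega]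
          have hc : ((n : ℤ) + 1) * (n.choose i : ℤ) = ((n + 1).choose (i + 1) : ℤ) * ((i : ℤ) + 1) := by
            exact_mod_cast Nat.add_one_mul_choose_eq n i
          push_cast
          rw [pow_succ]
          linear_combination -((-1 : ℤ) ^ (n - i) * ((i : ℤ) + 1) ^ k) * hc
        have hB : (∑ i ∈ Finset.range (n + 1), (-1 : ℤ) ^ (n - i) * (n.choose i : ℤ) * ((i : ℤ) + 1) ^ k) =
            (∑ j ∈ Finset.range (n + 1 + 1), (-1 : ℤ) ^ (n + 1 - j) * ((n + 1).choose j : ℤ) * (j : ℤ) ^ k) +
            ∑ j ∈ Finset.range (n + 1), (-1 : ℤ) ^ (n - j) * (n.choose j : ℤ) * (j : ℤ) ^ k := by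
          rw [Finset.sum_range_succ' (n := n + 1), Finset.sum_range_succ' (n := n)
            (f := fun j => (-1 : ℤ) ^ (n - j) * (n.choose j : ℤ) * (j : ℤ) ^ k)]
          simp only [Nat.cast_zero, Nat.choose_zero_right, Nat.cast_one, mul_one, Nat.sub_zero, pow_succ]
          have h1 : ∑ j ∈ Finset.range n, (-1 : ℤ) ^ (n - (j + 1)) * (n.choose (j + 1) : ℤ) * ((j + 1 : ℕ) : ℤ) ^ k =
              - ∑ j ∈ Finset.range (n + 1), (-1 : ℤ) ^ (n - j) * (n.choose (j + 1) : ℤ) * ((j + 1 : ℕ) : ℤ) ^ k := by
            rw [Finset.sum_range_succ, Nat.choose_succ_self, Nat.cast_zero, mul_zero, zero_mul, add_zero,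
              ← Finset.sum_neg_distrib]
            refine Finset.sum_congr rfl fun j hj => ?_
            rw [Finset.mem_range] at hj
            rw [show n - j = n - (j + 1) + 1 by omega, pow_succ]
            ring
          rw [h1]
          have h2 : ∑ j ∈ Finset.range (n + 1), (-1 : ℤ) ^ (n + 1 - (j + 1)) * ((n + 1).choose (j + 1) : ℤ) * ((j + 1 : ℕ) : ℤ) ^ k =
              (∑ j ∈ Finset.range (n + 1), (-1 : ℤ) ^ (n - j) * (n.choose j : ℤ) * ((j : ℤ) + 1) ^ k) +
              ∑ j ∈ Finset.range (n + 1), (-1 : ℤ) ^ (n - j) * (n.choose (j + 1) : ℤ) * ((j + 1 : ℕ) : ℤ) ^ k := by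
            rw [← Finset.sum_add_distrib]
            refine Finset.sum_congr rfl fun j _ => ?_
            rw [show n + 1 - (j + 1) = n - j by omega, Nat.choose_succ_succ]
            push_cast
            ring
          rw [h2]
          ring
        rw [hA, hB, hk1, hk2]
        rcases Nat.lt_trichotomy k n with h | h | h
        · rw [if_neg (by omega), if_neg (by omega), if_neg (by omega), if_neg (by omega), if_neg (by omega),
            if_neg (by omega)]
          ring
        · subst h
          rw [if_neg (by omega), if_neg (by omega), if_neg (by omega), if_pos rfl, if_neg (by omega), if_pos rfl,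
            Nat.factorial_succ]
          push_cast
          ring
        · obtain rfl : k = n + 1 := by omega
          rw [if_neg (by omega), if_pos rfl, if_pos rfl, if_pos (by omega),
            show (n + 1 + 1).choose 2 = (n + 1) + (n + 1).choose 2 by
              rw [Nat.choose_succ_succ, Nat.choose_one_right]]
          rw [Nat.factorial_succ]
          push_cast
          ring
  exact key k n hk

end Groth.Agent.S17779
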