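import Groth.Statements.S17780
import Groth.Agent.S17779
import Mathlib.Tactic
import Mathlib.Data.Nat.Choose.Sum
-- import your own Groth.Agent.* helpers here

set_option autoImplicit false
universe u
open DRR

namespace Groth.Agent.S17780

/-- For x, y in a commutative ring and a natural number n, (n+1)! · x · y^n equals the sum over j = 0,
…, n of (−1)^(n−j) C(n, j) (x + j y)^(n+1), minus (n · (n+1)!/2) · y^(n+1). (The published identity
is stated in ℚ[x, y] with an overall factor 1/(n+1) and the coefficients C(n, j)(−1)^(n−j)/n!; it is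
given here multiplied through by (n+1)!, which makes it an identity with integer coefficients valid
in every commutative ring; n · (n+1)!/2 is an integer.) -/
theorem result (A : Type u) [CommRing A] (x y : A) (n : ℕ) :
    ((n + 1).factorial : A) * x * y ^ n =
      (∑ j ∈ Finset.range (n + 1), (-1 : A) ^ (n - j) * (n.choose j : A) * (x + (j : A) * y) ^ (n + 1))
        - ((n * (n + 1).factorial / 2 : ℕ) : A) * y ^ (n + 1) := by
  have key : ∀ m, m ≤ n + 1 → (∑ j ∈ Finset.range (n + 1), (-1 : A) ^ (n - j) * (n.choose j : A) * (j : A) ^ m) =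
      (if m = n + 1 then (((n + 1).choose 2 * n.factorial : ℕ) : A)
        else if m = n then (n.factorial : A) else 0) := by
    intro m hm
    have h := congrArg (fun z : ℤ => (z : A)) (Groth.Agent.S17779.result n m hm)
    simp only [Int.cast_sum, Int.cast_mul, Int.cast_pow, Int.cast_neg, Int.cast_one, Int.cast_natCast] at h
    rw [h]
    split_ifs <;> simp
  have hsum : (∑ j ∈ Finset.range (n + 1), (-1 : A) ^ (n - j) * (n.choose j : A) * (x + (j : A) * y) ^ (n + 1)) =
      ∑ m ∈ Finset.range (n + 1 + 1), ((n + 1).choose m : A) * x ^ (n + 1 - m) * y ^ m *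
        ∑ j ∈ Finset.range (n + 1), (-1 : A) ^ (n - j) * (n.choose j : A) * (j : A) ^ m := by
    simp only [Finset.mul_sum]
    rw [Finset.sum_comm]
    refine Finset.sum_congr rfl fun j _ => ?_
    rw [add_comm x, add_pow, Finset.mul_sum]
    refine Finset.sum_congr rfl fun m _ => ?_
    rw [mul_pow]
    ring
  have hnat : n * (n + 1).factorial / 2 = (n + 1).choose 2 * n.factorial := by
    apply Nat.div_eq_of_eq_mul_left two_pos
    have h2 : (n + 1).choose 2 * 2 = (n + 1) * n := by
      have := Nat.add_one_mul_choose_eq n 1
      rw [Nat.choose_one_right] at this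
      exact this.symm
    rw [Nat.factorial_succ]
    rw [mul_comm ((n + 1).choose 2), mul_assoc, h2]
    ring
  rw [hsum, Finset.sum_range_succ, key (n + 1) le_rfl, if_pos rfl, Nat.choose_self, Nat.sub_self,
    Finset.sum_range_succ, key n (Nat.le_succ n), if_neg (by omega), if_pos rfl, Finset.sum_eq_zero,
    Nat.choose_succ_self_right, show n + 1 - n = 1 by omega, hnat, Nat.factorial_succ]
  · push_cast
    ring
  · intro m hm
    rw [Finset.mem_range] at hm
    rw [key m (by omega), if_neg (by omega), if_neg (by omega), mul_zero]

end Groth.Agent.S17780
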