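import Mathlib
import Mathlib.Data.Nat.Choose.Lucas
import Mathlib.Data.Nat.Factorization.Basic
import Mathlib.Tactic.Ring
import Mathlib.Tactic.LinearCombination
import Groth.Statements.S17781
-- import your own Groth.Agent.* helpers here

set_option autoImplicit false
open Variety

namespace Groth.Agent.S17781

/-- Let d ≥ 1 and N ≥ 1 be integers and let I(d, N) be the greatest common divisor of the quotients d/δ
over the divisors δ of d with 1 ≤ δ ≤ N. Then I(d, N) equals the greatest common divisor of the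
integers χ(d, n) = 1 − (−1)^n C(d − 1, n) for 1 ≤ n ≤ N (χ(d, n) is the Euler characteristic of O_H
for a degree-d hypersurface H in projective n-space). Both greatest common divisors are taken in ℤ,
normalised to be non-negative. -/
theorem result (d N : ℕ) (hd : 1 ≤ d) (hN : 1 ≤ N) :
    (Finset.Icc 1 N).gcd (fun n => 1 - (-1 : ℤ) ^ n * ((d - 1).choose n : ℤ)) =
      ((Finset.Icc 1 N).filter (fun δ => δ ∣ d)).gcd (fun δ => ((d / δ : ℕ) : ℤ)) := by
  classical
  have hlucas : ∀ p : ℕ, p.Prime → ∀ a e : ℕ, p ^ a ∣ e → 0 < e → ¬ p ∣ (e - 1).choose (p ^ a - 1) := by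
    intro p hp a
    haveI : Fact p.Prime := ⟨hp⟩
    induction a with
    | zero => intro e _ _; simpa using hp.one_lt.ne'
    | succ a ih =>
      intro e he hepos h
      obtain ⟨c, rfl⟩ : p ∣ e := (dvd_pow_self p (by omega)).trans he
      have hc : p ^ a ∣ c := Nat.dvd_of_mul_dvd_mul_left hp.pos (by rwa [← pow_succ'])
      have hcpos : 0 < c := Nat.pos_of_mul_pos_left hepos
      have hsplit : ∀ x, 0 < x → (p * x - 1) % p = p - 1 ∧ (p * x - 1) / p = x - 1 := by
        intro x hx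
        obtain ⟨y, rfl⟩ := Nat.exists_eq_succ_of_ne_zero hx.ne'
        have e1 : p * (y + 1) - 1 = (p - 1) + p * y := by
          rw [Nat.mul_succ]; have := hp.pos; omega
        rw [Nat.succ_eq_add_one, e1, Nat.add_mul_mod_self_left, Nat.mod_eq_of_lt (by have := hp.pos; omega),
          Nat.add_mul_div_left _ _ hp.pos, Nat.div_eq_of_lt (by have := hp.pos; omega)]
        exact ⟨rfl, by omega⟩
      have hm := Choose.choose_modEq_choose_mod_mul_choose_div_nat (p := p) (n := p * c - 1) (k := p ^ (a + 1) - 1)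
      rw [pow_succ', (hsplit c hcpos).1, (hsplit c hcpos).2, (hsplit (p ^ a) (pow_pos hp.pos a)).1,
        (hsplit (p ^ a) (pow_pos hp.pos a)).2, Nat.choose_self, one_mul] at hm
      rw [pow_succ'] at h
      exact ih c hc hcpos (Nat.modEq_zero_iff_dvd.mp (hm.symm.trans (Nat.modEq_zero_iff_dvd.mpr h)))
  have hmulchoose : ∀ n, 1 ≤ n → d.choose n * n = d * (d - 1).choose (n - 1) := by
    intro n hn
    have := Nat.add_one_mul_choose_eq (d - 1) (n - 1)
    rw [Nat.sub_add_cancel hd, Nat.sub_add_cancel hn] at this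
    exact this.symm
  have hdiff : ∀ n : ℕ, (1 - (-1 : ℤ) ^ (n + 1) * ((d - 1).choose (n + 1) : ℤ)) - (1 - (-1 : ℤ) ^ n * ((d - 1).choose n : ℤ)) = (-1) ^ n * (d.choose (n + 1) : ℤ) := by
    intro n
    have := Nat.choose_succ_succ (d - 1) n
    rw [Nat.succ_eq_add_one, Nat.sub_add_cancel hd] at this
    rw [this]; push_cast; ring
  refine dvd_antisymm_of_normalize_eq Finset.normalize_gcd Finset.normalize_gcd ?_ ?_
  · refine Finset.dvd_gcd fun δ hδ => ?_
    simp only [Finset.mem_filter, Finset.mem_Icc] at hδ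
    obtain ⟨⟨hδ1, hδN⟩, hδd⟩ := hδ
    set L := (Finset.Icc 1 N).gcd (fun n => 1 - (-1 : ℤ) ^ n * ((d - 1).choose n : ℤ))
    have hL : ∀ n, n ≤ N → L ∣ 1 - (-1 : ℤ) ^ n * ((d - 1).choose n : ℤ) := by
      intro n hn
      rcases Nat.eq_zero_or_pos n with rfl | hn1
      · simp
      · exact Finset.gcd_dvd (Finset.mem_Icc.mpr ⟨hn1, hn⟩)
    have hLC : ∀ n, 1 ≤ n → n ≤ N → L.natAbs ∣ d.choose n := by
      intro n hn1 hnN
      obtain ⟨m, rfl⟩ := Nat.exists_eq_add_of_le hn1
      rw [Nat.add_comm]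
      have h := dvd_sub (hL (m + 1) (by omega)) (hL m (by omega))
      rw [hdiff, IsUnit.dvd_mul_left (IsUnit.pow m (by norm_num))] at h
      exact Int.natCast_dvd_natCast.mp (Int.natAbs_dvd.mpr h)
    rw [← Int.natAbs_dvd, Int.natCast_dvd_natCast, Nat.dvd_iff_prime_pow_dvd_dvd]
    intro p k hp hpk
    obtain ⟨a, m, hm, hδeq⟩ := Nat.exists_eq_pow_mul_and_not_dvd (n := δ) (by omega) p hp.ne_one
    have hqd : p ^ a ∣ d := (Dvd.intro m hδeq.symm).trans hδd
    have hqN : p ^ a ≤ N := (Nat.le_of_dvd (by omega) (Dvd.intro m hδeq.symm)).trans hδN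
    have h1 : p ^ k * p ^ a ∣ d * (d - 1).choose (p ^ a - 1) := by
      rw [← hmulchoose _ (Nat.one_le_pow _ _ hp.pos)]
      exact mul_dvd_mul_right (hpk.trans (hLC _ (Nat.one_le_pow _ _ hp.pos) hqN)) _
    have hcop : ∀ j, Nat.Coprime (p ^ j) ((d - 1).choose (p ^ a - 1)) := fun j =>
      (hp.coprime_iff_not_dvd.mpr (hlucas p hp a d hqd (by omega))).pow_left j
    rw [← pow_add] at h1
    have h2 : p ^ (k + a) ∣ d := (hcop (k + a)).dvd_of_dvd_mul_right h1
    have h3 : p ^ (k + a) * m ∣ d :=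
      ((hp.coprime_iff_not_dvd.mpr hm).pow_left _).mul_dvd_of_dvd_of_dvd h2 ((Dvd.intro_left _ hδeq.symm).trans hδd)
    rw [Nat.dvd_div_iff_mul_dvd hδd, hδeq]
    rwa [pow_add, mul_comm (p ^ k), mul_right_comm] at h3
  · refine Finset.dvd_gcd fun n hn => ?_
    set R := ((Finset.Icc 1 N).filter (fun δ => δ ∣ d)).gcd (fun δ => ((d / δ : ℕ) : ℤ))
    have hRC : ∀ n, 1 ≤ n → n ≤ N → R ∣ (d.choose n : ℤ) := by
      intro n hn1 hnN
      have hg : Nat.gcd d n ≤ n := Nat.le_of_dvd hn1 (Nat.gcd_dvd_right d n)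
      refine (Finset.gcd_dvd (b := Nat.gcd d n) (Finset.mem_filter.mpr ⟨Finset.mem_Icc.mpr ⟨Nat.gcd_pos_of_pos_right _ hn1, hg.trans hnN⟩, Nat.gcd_dvd_left d n⟩)).trans ?_
      rw [Int.natCast_dvd_natCast]
      refine (Nat.coprime_div_gcd_div_gcd (m := d) (n := n) (Nat.gcd_pos_of_pos_right _ hn1)).dvd_of_dvd_mul_right ?_
      rw [← Nat.mul_div_assoc _ (Nat.gcd_dvd_right d n), hmulchoose n hn1, Nat.mul_comm d,
        Nat.mul_div_assoc _ (Nat.gcd_dvd_left d n)]
      exact dvd_mul_left _ _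
    have hR : ∀ m, m ≤ N → R ∣ 1 - (-1 : ℤ) ^ m * ((d - 1).choose m : ℤ) := by
      intro m
      induction m with
      | zero => intro _; simp
      | succ m ih =>
        intro hm
        have h := dvd_add ((hRC (m + 1) (by omega) hm).mul_left ((-1) ^ m)) (ih (by omega))
        rw [← hdiff, sub_add_cancel] at h
        exact h
    exact hR n (Finset.mem_Icc.mp hn).2

end Groth.Agent.S17781
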