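import Groth.Statements.S9602
import Mathlib
-- import your own Groth.Agent.* helpers here

set_option autoImplicit false
universe u
open CAlg

namespace Groth.Agent.S9602

/-- Let R be a ring, I an ideal of R and R^ = lim R/Iⁿ the I-adic completion. An element of R^ whose
image in R/I is invertible is itself invertible in R^; and the kernel of R^ → R/I as well as the
extended ideal I R^ both lie inside the Jacobson radical of R^. -/
theorem result {R : Type u} [CommRing R] (I : Ideal R) :
    (∀ x : AdicCompletion I R, IsUnit (AdicCompletion.evalOneₐ I x) → IsUnit x) ∧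
      RingHom.ker (AdicCompletion.evalOneₐ I).toRingHom ≤ (⊥ : Ideal (AdicCompletion I R)).jacobson ∧
      I.map (algebraMap R (AdicCompletion I R)) ≤ (⊥ : Ideal (AdicCompletion I R)).jacobson := by
  have hunit : ∀ x : AdicCompletion I R, IsUnit (AdicCompletion.evalOneₐ I x) → IsUnit x := by
    intro x hx
    obtain ⟨c, hc⟩ := hx.exists_right_inv
    obtain ⟨c, rfl⟩ := Ideal.Quotient.mk_surjective c
    obtain ⟨s, rfl⟩ := AdicCompletion.mk_surjective I R x
    have h1 : ∀ n, 1 ≤ n → s.val n - s.val 1 ∈ I := fun n hn => by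
      have := (s.property hn).symm
      rwa [SModEq.sub_mem, smul_eq_mul, Ideal.mul_top, pow_one] at this
    rw [show AdicCompletion.evalOneₐ I (AdicCompletion.mk I R s) = Ideal.Quotient.mk I (s.val 1) by
      rw [← AdicCompletion.factorₐ_evalₐ_one, AdicCompletion.evalₐ_mk, Ideal.Quotient.factor_mk],
      ← map_mul, ← map_one (Ideal.Quotient.mk I), Ideal.Quotient.eq] at hc
    have hv : ∀ n, IsUnit (Ideal.Quotient.mk (I ^ n) (s.val n)) := by
      intro n
      rcases Nat.eq_zero_or_pos n with rfl | hn
      · have : Subsingleton (R ⧸ I ^ 0) := Ideal.Quotient.subsingleton_iff.mpr (by simp)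
        exact isUnit_of_subsingleton _
      · have hmem : s.val n * c - 1 ∈ I := by
          have := add_mem (I.mul_mem_right c (h1 n hn)) hc
          rwa [show (s.val n - s.val 1) * c + (s.val 1 * c - 1) = s.val n * c - 1 by ring] at this
        have hnil : IsNilpotent (Ideal.Quotient.mk (I ^ n) (s.val n * c - 1)) :=
          ⟨n, by rw [← map_pow, Ideal.Quotient.eq_zero_iff_mem]; exact Ideal.pow_mem_pow hmem n⟩
        have := hnil.isUnit_add_one
        rw [map_sub, map_one, sub_add_cancel, map_mul] at this
        exact isUnit_of_mul_isUnit_left this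
    choose v hv' using fun n => (hv n).exists_right_inv
    choose v' hv'' using fun n => Ideal.Quotient.mk_surjective (v n)
    have hv3 : ∀ n, s.val n * v' n - 1 ∈ I ^ n := fun n => by
      rw [← Ideal.Quotient.eq, map_mul, map_one, hv'', hv']
    let t : AdicCompletion.AdicCauchySequence I R := ⟨v', fun {m n} hmn => by
      rw [SModEq.sub_mem, smul_eq_mul, Ideal.mul_top]
      have h2 := (s.property hmn)
      rw [SModEq.sub_mem, smul_eq_mul, Ideal.mul_top] at h2
      have h4 := Ideal.pow_le_pow_right hmn (hv3 n)
      have : v' m - v' n = v' n * (s.val m * v' m - 1) - v' m * ((s.val m - s.val n) * v' n) - v' m * (s.val n * v' n - 1) := by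
        ring
      rw [this]
      exact sub_mem (sub_mem (Ideal.mul_mem_left _ _ (hv3 m)) (Ideal.mul_mem_left _ _ (Ideal.mul_mem_right _ _ h2)))
        (Ideal.mul_mem_left _ _ h4)⟩
    refine IsUnit.of_mul_eq_one (AdicCompletion.mk I R t) (AdicCompletion.ext_evalₐ fun n => ?_)
    rw [map_mul, map_one, AdicCompletion.evalₐ_mk, AdicCompletion.evalₐ_mk, ← map_mul, ← map_one (Ideal.Quotient.mk (I ^ n)), Ideal.Quotient.eq]
    exact hv3 n
  have hker : RingHom.ker (AdicCompletion.evalOneₐ I).toRingHom ≤ (⊥ : Ideal (AdicCompletion I R)).jacobson :=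
    fun x hx => Ideal.mem_jacobson_bot.mpr fun y => hunit _ (by
      rw [map_add, map_mul, show AdicCompletion.evalOneₐ I x = 0 from hx, zero_mul, zero_add, map_one]
      exact isUnit_one)
  refine ⟨hunit, hker, le_trans (Ideal.map_le_iff_le_comap.mpr fun r hr => ?_) hker⟩
  change AdicCompletion.evalOneₐ I (algebraMap R _ r) = 0
  rw [AlgHom.commutes]
  exact Ideal.Quotient.eq_zero_iff_mem.mpr hr

end Groth.Agent.S9602
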