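import Groth.Statements.S17803
import Groth.Agent.FibreP.EssFinite
import Groth.Agent.GRing17.Excellent
import Groth.Agent.PP16Lib.GeomRegLocal
import Groth.Agent.S0543
import Groth.Agent.S0600
import Groth.Agent.S5785

set_option autoImplicit false
universe u
open EGA4

namespace Groth.Agent.S17803

open TensorProduct

theorem isNormalRing_of_localization {A B : Type u} [CommRing A] [IsDomain A] [IsIntegrallyClosed A] [CommRing B]
    [Algebra A B] (M : Submonoid A) [IsLocalization M B] : EGA4.IsNormalRing B := by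
  intro P _
  let p := P.comap (algebraMap A B)
  have : IsLocalization.AtPrime (Localization.AtPrime P) p :=
    IsLocalization.isLocalization_isLocalization_atPrime_isLocalization M (Localization.AtPrime P) P
  have : IsDomain (Localization.AtPrime P) :=
    IsLocalization.isDomain_of_le_nonZeroDivisors (R := A) (Localization.AtPrime P) (M := p.primeCompl) p.primeCompl_le_nonZeroDivisors
  exact ⟨this, isIntegrallyClosed_of_isLocalization _ p.primeCompl p.primeCompl_le_nonZeroDivisors⟩

theorem exists_surjective_adicCompletion {R B : Type u} [CommRing R] [CommRing B] (φ : R →+* B)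
    (hφ : Function.Surjective φ) (I : Ideal B) :
    ∃ ψ : AdicCompletion (I.comap φ) R →+* AdicCompletion I B, Function.Surjective ψ := by
  let J := I.comap φ
  have hJ : J.map φ = I := Ideal.map_comap_of_surjective φ hφ I
  have hle : ∀ n, J ^ n ≤ (I ^ n).comap φ := fun n => Ideal.map_le_iff_le_comap.mp (by rw [Ideal.map_pow, hJ])
  let F : (n : ℕ) → AdicCompletion J R →+* B ⧸ I ^ n :=
    fun n => (Ideal.quotientMap _ φ (hle n)).comp (AdicCompletion.evalₐ J n).toRingHom
  have hF : ∀ {m n : ℕ} (h : m ≤ n), (Ideal.Quotient.factorPow I h).comp (F n) = F m := by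
    intro m n h
    refine RingHom.ext fun x => ?_
    obtain ⟨x, rfl⟩ := AdicCompletion.mk_surjective J R x
    simp only [F, RingHom.comp_apply, AlgHom.toRingHom_eq_coe, RingHom.coe_coe]
    rw [AdicCompletion.evalₐ_mk, AdicCompletion.evalₐ_mk, Ideal.quotientMap_mk, Ideal.quotientMap_mk,
      Ideal.Quotient.factor_mk, Ideal.Quotient.eq, ← map_sub]
    have h1 := (x.property h).symm
    rw [SModEq.sub_mem, Ideal.smul_eq_mul, Ideal.mul_top] at h1
    exact hle m h1
  refine ⟨AdicCompletion.liftRingHom I F hF, fun y => ?_⟩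
  obtain ⟨y, rfl⟩ := AdicCompletion.mk_surjective I B y
  have hstep : ∀ (n : ℕ) (x : R), φ x = y.val n → ∃ x', φ x' = y.val (n + 1) ∧ x ≡ x' [SMOD (J ^ n • ⊤ : Submodule R R)] := by
    intro n x hx
    have h1 := (y.property (Nat.le_succ n)).symm
    rw [SModEq.sub_mem, Ideal.smul_eq_mul, Ideal.mul_top] at h1
    replace h1 : y.val (n + 1) - y.val n ∈ (J ^ n).map φ := by rw [Ideal.map_pow, hJ]; exact h1
    rw [Ideal.mem_map_iff_of_surjective φ hφ] at h1
    obtain ⟨d, hd, hde⟩ := h1
    refine ⟨x + d, by rw [map_add, hx, hde]; ring, ?_⟩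
    rw [SModEq.sub_mem, Ideal.smul_eq_mul, Ideal.mul_top]
    simpa using hd
  choose next hnext using hstep
  let x : (n : ℕ) → {r : R // φ r = y.val n} := fun n => Nat.rec
    ⟨(hφ (y.val 0)).choose, (hφ (y.val 0)).choose_spec⟩ (fun n r => ⟨next n r.1 r.2, (hnext n r.1 r.2).1⟩) n
  refine ⟨AdicCompletion.mk J R (AdicCompletion.AdicCauchySequence.mk J R (fun n => (x n).1)
    fun n => (hnext n (x n).1 (x n).2).2), AdicCompletion.ext_evalₐ fun n => ?_⟩
  rw [AdicCompletion.evalₐ_liftRingHom, AdicCompletion.evalₐ_mk]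
  simp only [F, RingHom.comp_apply, AlgHom.toRingHom_eq_coe, RingHom.coe_coe]
  rw [AdicCompletion.evalₐ_mk, Ideal.quotientMap_mk]
  exact congrArg _ (x n).2

theorem result (A : Type u) [CommRing A] [IsDomain A] [IsIntegrallyClosed A] (hexc : EGA4.IsExcellent A) (hreg : ∃ (R : Type u) (_ : CommRing R) (_ : IsRegularRing R) (φ : R →+* A), Function.Surjective φ) (I : Ideal A) (f : A) : EGA4.IsNormalRing (AdicCompletion (I.map (algebraMap A (Localization.Away f))) (Localization.Away f)) ∧ ∃ (R' : Type u) (_ : CommRing R') (_ : IsRegularRing R') (ψ : R' →+* AdicCompletion (I.map (algebraMap A (Localization.Away f))) (Localization.Away f)), Function.Surjective ψ := by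
  let B := Localization.Away f
  let I' := I.map (algebraMap A B)
  have hA := hexc.1
  have hG : CAlg.IsGRing B := GRing17.isGRing_localization hexc.2.2.1 (Submonoid.powers f) B
  have : IsNoetherianRing B := hG.1
  refine ⟨?_, ?_⟩
  · have hN : EGA4.IsNormalRing B := isNormalRing_of_localization (Submonoid.powers f)
    have hR := S0600.result B hG I'
    have := hR.1
    have : IsNoetherianRing (AdicCompletion I' B) := S0543.result B I'
    have hP := FibreP.good_isNormalRing.{u}
    refine hP.asc B _ hN fun Q _ => ?_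
    exact hP.iso _ _ (Algebra.TensorProduct.lid Q.ResidueField (Q.Fiber (AdicCompletion I' B))).toRingEquiv
      (hP.geomFib_of_isRegularHom hR Q Q.ResidueField inferInstance)
  · obtain ⟨R, _, _, φ, hφ⟩ := hreg
    obtain ⟨g, rfl⟩ := hφ f
    have hu : IsUnit ((algebraMap A B).comp φ g) := IsLocalization.Away.algebraMap_isUnit (S := B) (φ g)
    let φ' : Localization.Away g →+* B := IsLocalization.Away.lift g hu
    have hφ' : Function.Surjective φ' := fun b => by
      obtain ⟨a, ⟨_, k, rfl⟩, rfl⟩ := IsLocalization.exists_mk'_eq (Submonoid.powers (φ g)) b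
      obtain ⟨r, rfl⟩ := hφ a
      refine ⟨IsLocalization.mk' _ r (⟨g ^ k, k, rfl⟩ : Submonoid.powers g), ?_⟩
      rw [IsLocalization.eq_mk'_iff_mul_eq]
      show φ' (IsLocalization.mk' _ r (⟨g ^ k, k, rfl⟩ : Submonoid.powers g)) * algebraMap A B (φ g ^ k) = algebraMap A B (φ r)
      have h1 : ∀ z, φ' (algebraMap R _ z) = algebraMap A B (φ z) := fun z => IsLocalization.Away.lift_eq g hu z
      rw [← map_pow φ, ← h1, ← map_mul φ', IsLocalization.mk'_spec, h1]
    have : IsRegularRing (Localization.Away g) :=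
      PP16Lib.isRegularRing_of_isLocalization (T := R) (Submonoid.powers g)
    obtain ⟨ψ, hψ⟩ := exists_surjective_adicCompletion φ' hφ' I'
    exact ⟨_, inferInstance, S5785.result _ _, ψ, hψ⟩

end Groth.Agent.S17803
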