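import Groth.Statements.S17814
import Groth.Agent.FlatDescent.DivFlat.Basic
import Groth.Agent.FlatDescent.Scheme
import Groth.Agent.Div38.Glue
import Mathlib.RingTheory.Ideal.MinimalPrime.Noetherian
import Mathlib.RingTheory.Nilpotent.Lemmas

set_option autoImplicit false
universe u
open CategoryTheory CategoryTheory.Limits AlgebraicGeometry
open SDiv

namespace Groth.Agent.S17814

open TensorProduct

/-- Containment of ideals from the fibres over a reduced Noetherian ring. -/
theorem le_of_fibres {A B : Type u} [CommRing A] [IsNoetherianRing A] [_root_.IsReduced A] [CommRing B] [Algebra A B]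
    {I I' : Ideal B} [Module.Flat A (B ⧸ I')]
    (h : ∀ (Q : Ideal B) [Q.IsPrime], ∃ (L : Type u) (_ : CommRing L) (_ : Algebra B L) (_ : IsLocalization.AtPrime L Q),
      I.map (algebraMap B L) ≤ I'.map (algebraMap B L) ⊔ ((Q.comap (algebraMap A B)).map (algebraMap A B)).map (algebraMap B L)) :
    I ≤ I' := by
  classical
  intro a ha
  let Qm := B ⧸ I'
  have hp : ∀ p ∈ minimalPrimes A, Ideal.Quotient.mk I' a ∈ p • (⊤ : Submodule A Qm) := by
    intro p hp
    haveI : p.IsPrime := Ideal.minimalPrimes_isPrime hp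
    let J : Ideal B := I' ⊔ p.map (algebraMap A B)
    obtain ⟨r, hr, hra⟩ : ∃ r : A, r ∉ p ∧ algebraMap A B r * a ∈ J := by
      by_contra hcon
      push Not at hcon
      let K : Ideal B := Submodule.comap (LinearMap.lsmul B B a) J
      have hK : ∀ c, c ∈ K ↔ a * c ∈ J := fun c => Iff.rfl
      have hdisj : Disjoint (K : Set B) (Algebra.algebraMapSubmonoid B p.primeCompl : Set B) := by
        rw [Set.disjoint_left]
        rintro c hc ⟨r, hr, rfl⟩
        exact hcon r hr (by rw [mul_comm]; exact (hK _).mp hc)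
      obtain ⟨Q, hQ, hKQ, hQd⟩ := Ideal.exists_le_prime_disjoint K _ hdisj
      have hJK : J ≤ K := fun c hc => (hK c).mpr (Ideal.mul_mem_left _ _ hc)
      have hcomap : Q.comap (algebraMap A B) = p := by
        refine le_antisymm (fun r hr => ?_) ?_
        · by_contra hrp
          exact Set.disjoint_left.mp hQd hr ⟨r, hrp, rfl⟩
        · exact Ideal.map_le_iff_le_comap.mp ((le_sup_right.trans hJK).trans hKQ)
      obtain ⟨L, _, _, _, hL⟩ := h Q
      rw [hcomap, ← Ideal.map_sup] at hL
      obtain ⟨c, hc, hca⟩ := (IsLocalization.algebraMap_mem_map_algebraMap_iff Q.primeCompl L J a).mp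
        (hL (Ideal.mem_map_of_mem _ ha))
      exact hc (hKQ ((hK c).mpr (by rw [mul_comm]; exact hca)))
    have hmem : ∀ c ∈ J, Ideal.Quotient.mk I' c ∈ p • (⊤ : Submodule A Qm) := by
      intro c hc
      obtain ⟨i, hi, j, hj, rfl⟩ := Submodule.mem_sup.mp hc
      rw [map_add, Ideal.Quotient.eq_zero_iff_mem.mpr hi, zero_add, Ideal.smul_top_eq_map,
        IsScalarTower.algebraMap_eq A B Qm, ← Ideal.map_map]
      exact Ideal.mem_map_of_mem _ hj
    have h1 : r • Ideal.Quotient.mk I' a ∈ p • (⊤ : Submodule A Qm) := by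
      rw [Algebra.smul_def, IsScalarTower.algebraMap_apply A B Qm, Ideal.Quotient.algebraMap_eq, ← map_mul]
      exact hmem _ hra
    let μ : (A ⧸ p) →ₗ[A] (A ⧸ p) := r • LinearMap.id
    have hμ : Function.Injective μ := by
      rw [injective_iff_map_eq_zero]
      intro x hx
      obtain ⟨x, rfl⟩ := Ideal.Quotient.mk_surjective x
      change Ideal.Quotient.mk p (r * x) = 0 at hx
      rw [Ideal.Quotient.eq_zero_iff_mem] at hx ⊢
      exact ((Ideal.minimalPrimes_isPrime hp).mem_or_mem hx).resolve_left hr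
    have hinj := Module.Flat.lTensor_preserves_injective_linearMap (M := Qm) μ hμ
    let e := TensorProduct.tensorQuotEquivQuotSMul Qm p
    have h2 : μ.lTensor Qm (Ideal.Quotient.mk I' a ⊗ₜ[A] (1 : A ⧸ p)) = 0 := by
      rw [LinearMap.lTensor_tmul]
      show Ideal.Quotient.mk I' a ⊗ₜ[A] (r • (1 : A ⧸ p)) = 0
      rw [← TensorProduct.smul_tmul]
      apply e.injective
      rw [map_zero]
      show TensorProduct.quotTensorEquivQuotSMul Qm p ((1 : A ⧸ p) ⊗ₜ _) = 0
      rw [← map_one (Ideal.Quotient.mk p), TensorProduct.quotTensorEquivQuotSMul_mk_tmul, one_smul]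
      exact (Submodule.Quotient.mk_eq_zero _).mpr h1
    have h3 := congrArg e (hinj (h2.trans (map_zero _).symm))
    rw [map_zero] at h3
    change TensorProduct.quotTensorEquivQuotSMul Qm p ((1 : A ⧸ p) ⊗ₜ _) = 0 at h3
    rw [← map_one (Ideal.Quotient.mk p), TensorProduct.quotTensorEquivQuotSMul_mk_tmul, one_smul] at h3
    exact (Submodule.Quotient.mk_eq_zero _).mp h3
  haveI : Finite (minimalPrimes A) := (minimalPrimes.finite_of_isNoetherianRing A).to_subtype
  haveI := Fintype.ofFinite (minimalPrimes A)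
  let δ : A →ₗ[A] ((p : minimalPrimes A) → A ⧸ p.1) := LinearMap.pi fun p => Submodule.mkQ p.1
  have hδ : Function.Injective δ := by
    rw [injective_iff_map_eq_zero]
    intro x hx
    have hx' : x ∈ nilradical A := by
      rw [nilradical_eq_sInf, Submodule.mem_sInf]
      intro P hP
      haveI : Ideal.IsPrime P := hP
      obtain ⟨q, hq, hqP⟩ := Ideal.exists_minimalPrimes_le (I := (⊥ : Ideal A)) (J := P) bot_le
      exact hqP ((Submodule.Quotient.mk_eq_zero q).mp (congrFun hx ⟨q, hq⟩))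
    rwa [nilradical_eq_zero, Ideal.zero_eq_bot, Ideal.mem_bot] at hx'
  have hinj := Module.Flat.lTensor_preserves_injective_linearMap (M := Qm) δ hδ
  refine Ideal.Quotient.eq_zero_iff_mem.mp ?_
  rw [← (TensorProduct.rid A Qm).symm.map_eq_zero_iff]
  apply hinj
  rw [map_zero]
  apply (TensorProduct.piRight A A Qm _).injective
  rw [map_zero]
  funext p
  show (TensorProduct.piRight A A Qm _) (δ.lTensor Qm ((TensorProduct.rid A Qm).symm (Ideal.Quotient.mk I' a))) p = 0
  rw [TensorProduct.rid_symm_apply, LinearMap.lTensor_tmul, TensorProduct.piRight_apply,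
    TensorProduct.piRightHom_tmul]
  apply (TensorProduct.tensorQuotEquivQuotSMul Qm p.1).injective
  rw [map_zero]
  show TensorProduct.quotTensorEquivQuotSMul Qm p.1 (Ideal.Quotient.mk p.1 1 ⊗ₜ _) = 0
  rw [TensorProduct.quotTensorEquivQuotSMul_mk_tmul, one_smul]
  exact (Submodule.Quotient.mk_eq_zero _).mpr (hp p.1 p.2)

open Groth.Agent.DivCodimTwo Groth.FlatDescent in
/-- Containment on a fibre, read on stalks. -/
theorem fibre_le {X S : Scheme.{u}} (f : X ⟶ S) (D D' : X.IdealSheafData) (s : S) (z : f.fiber s) (x : X)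
    (hzx : f.fiberι s z = x) (h : D.comap (f.fiberι s) ≤ D'.comap (f.fiberι s)) : gI D x ≤ gI D' x ⊔ maxExt f x := by
  subst hzx
  let ι := f.fiberι s
  have h1 : gI (D.comap ι) z ≤ gI (D'.comap ι) z := Ideal.map_mono (h _)
  rw [Div38.gI_comap, Div38.gI_comap, Ideal.map_le_iff_le_comap,
    Ideal.comap_map_of_surjective' _ (ι.stalkMap_surjective z), ker_stalkMap_fiberι f s z] at h1
  exact h1

/-- Let T be a reduced locally Noetherian scheme, π : 𝒞 ⟶ T a proper smooth morphism of relative
dimension 1, and D, D' relative effective divisors on 𝒞/T: closed subschemes whose ideal sheaves are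
locally generated by a single nonzerodivisor and which are flat over T. If for every point t of T
the fibre of D over t contains the fibre of D' as closed subschemes of 𝒞_t (containment of ideal
sheaves the other way), then D contains D': the ideal sheaf of D is contained in that of D'. (The
published statement has no hypothesis on T; over T = Spec k[ε] the divisors x = 0 and x = ε on the
projective line have equal fibres while neither contains the other. This row assumes T reduced and
locally Noetherian.) -/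
theorem result {𝒞 T : Scheme.{u}} [IsLocallyNoetherian T] [AlgebraicGeometry.IsReduced T]
    (π : 𝒞 ⟶ T) [IsProper π] [SmoothOfRelativeDimension 1 π]
    (D D' : 𝒞.IdealSheafData)
    (hD : BlowUp.IsEffCartierIdeal D ∧ Flat (D.subschemeι ≫ π))
    (hD' : BlowUp.IsEffCartierIdeal D' ∧ Flat (D'.subschemeι ≫ π))
    (hfib : ∀ t : ↥T, D.comap (pullback.fst π (T.fromSpecResidueField t)) ≤
      D'.comap (pullback.fst π (T.fromSpecResidueField t))) :
    D ≤ D' := by

  haveI := hD'.2
  intro W b hb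
  refine Groth.Agent.DivCodimTwo.ideal_le_of_gI_le D D' W (fun x _ => ?_) hb
  obtain ⟨V, hV, hxV, -⟩ := exists_isAffineOpen_mem_and_subset (U := (⊤ : T.Opens)) (x := π x) trivial
  obtain ⟨U, hU, hx, e⟩ := exists_isAffineOpen_mem_and_subset (U := π ⁻¹ᵁ V) (x := x) hxV
  rw [Groth.Agent.DivCodimTwo.gI_eq D ⟨U, hU⟩ hx, Groth.Agent.DivCodimTwo.gI_eq D' ⟨U, hU⟩ hx]
  refine Ideal.map_mono ?_
  haveI : IsNoetherianRing Γ(T, V) := IsLocallyNoetherian.component_noetherian (X := T) ⟨V, hV⟩
  haveI : _root_.IsReduced Γ(T, V) := inferInstance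
  letI := (π.appLE V U e).hom.toAlgebra
  haveI : Module.Flat Γ(T, V) (Γ(𝒞, U) ⧸ D'.ideal ⟨U, hU⟩) :=
    Groth.FlatDescent.DivFlat.flat_quot π D' hV ⟨U, hU⟩ e
  refine le_of_fibres (A := Γ(T, V)) fun Q _ => ?_
  let q : PrimeSpectrum Γ(𝒞, U) := ⟨Q, inferInstance⟩
  let y := Groth.Agent.InvExtend.pt hU q
  have hy : y ∈ U := Groth.Agent.InvExtend.pt_mem hU q
  have hq : (hU.primeIdealOf ⟨y, hy⟩).asIdeal = Q :=
    congrArg PrimeSpectrum.asIdeal (Groth.Agent.InvExtend.primeIdealOf_pt hU q)
  letI := TopCat.Presheaf.algebra_section_stalk 𝒞.presheaf (⟨y, hy⟩ : U)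
  have hloc := hU.isLocalization_stalk ⟨y, hy⟩
  simp only [hq] at hloc
  refine ⟨𝒞.presheaf.stalk y, inferInstance, inferInstance, hloc, ?_⟩
  have h1 : (D.ideal ⟨U, hU⟩).map (algebraMap Γ(𝒞, U) (𝒞.presheaf.stalk y)) ≤
      Groth.Agent.DivCodimTwo.gI D' y ⊔ Groth.FlatDescent.maxExt π y := by
    rw [show (D.ideal ⟨U, hU⟩).map (algebraMap Γ(𝒞, U) (𝒞.presheaf.stalk y)) = Groth.Agent.DivCodimTwo.gI D y from
      (Groth.Agent.DivCodimTwo.gI_eq D ⟨U, hU⟩ hy).symm]
    obtain ⟨z, hz⟩ : y ∈ Set.range (π.fiberι (π y)) := (π.range_fiberι (π y)).ge rfl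
    exact fibre_le π D D' (π y) z y hz (hfib (π y))
  refine h1.trans (sup_le_sup (Groth.Agent.DivCodimTwo.gI_eq D' ⟨U, hU⟩ hy).le ?_)
  letI := TopCat.Presheaf.algebra_section_stalk T.presheaf (⟨π y, e hy⟩ : V)
  haveI := hV.isLocalization_stalk ⟨π y, e hy⟩
  have hc : (algebraMap Γ(𝒞, U) (𝒞.presheaf.stalk y)).comp (algebraMap Γ(T, V) Γ(𝒞, U)) =
      (π.stalkMap y).hom.comp (algebraMap Γ(T, V) (T.presheaf.stalk (π y))) :=
    RingHom.ext fun r => Groth.Agent.Div38.germ_appLE e hy r
  have hQ : (IsLocalRing.maximalIdeal (𝒞.presheaf.stalk y)).comap (algebraMap Γ(𝒞, U) (𝒞.presheaf.stalk y)) = Q :=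
    IsLocalization.AtPrime.under_maximalIdeal (𝒞.presheaf.stalk y) Q
  rw [← hQ, Ideal.comap_comap, Ideal.map_map, hc, ← Ideal.comap_comap, IsLocalRing.maximalIdeal_comap,
    ← Ideal.map_map, IsLocalization.map_under (hV.primeIdealOf ⟨π y, e hy⟩).asIdeal.primeCompl]
  rfl

end Groth.Agent.S17814
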