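import Groth.Statements.S17825
import Mathlib.AlgebraicGeometry.Morphisms.Separated
import Mathlib.AlgebraicGeometry.Morphisms.ClosedImmersion

set_option autoImplicit false
universe u
open CategoryTheory CategoryTheory.Limits AlgebraicGeometry
open JacVar

namespace Groth.Agent.S17825

/-- Let S be a scheme, Y an S-scheme separated over S, F a presheaf of sets on the category of
S-schemes, f : h_Y ⟶ F a morphism from the functor of points of Y, and s : F ⟶ h_Y a section of f (s
followed by f is the identity). Then F is represented by a closed subscheme of Y: there are an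
S-scheme Z, a morphism i : Z ⟶ Y over S which is a closed immersion, and an isomorphism F ≅ h_Z
whose composite with h_i : h_Z ⟶ h_Y is s. (The published lemma treats the case where Y is the r-th
symmetric power of a curve, F the functor of degree-r invertible families modulo twisting and f the
divisor-class map.) -/
theorem result {S : Scheme.{u}} (Y : Over S) [IsSeparated Y.hom]
    (F : (Over S)ᵒᵖ ⥤ Type u) (f : yoneda.obj Y ⟶ F) (s : F ⟶ yoneda.obj Y) (hsf : s ≫ f = 𝟙 F) :
    ∃ (Z : Over S) (i : Z ⟶ Y), IsClosedImmersion i.left ∧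
      ∃ e : F ≅ yoneda.obj Z, e.hom ≫ yoneda.map i = s := by
  let e₀ : Y ⟶ Y := Yoneda.fullyFaithful.preimage (f ≫ s)
  have he₀ : yoneda.map e₀ = f ≫ s := Yoneda.fullyFaithful.map_preimage _
  have hid : e₀ ≫ e₀ = e₀ := Yoneda.fullyFaithful.map_injective (by
    rw [Functor.map_comp, he₀, Category.assoc, reassoc_of% hsf])
  let g : Y.left ⟶ pullback Y.hom Y.hom := pullback.lift (𝟙 _) e₀.left (by rw [Category.id_comp, Over.w])
  let Z : Over S := Over.mk (pullback.snd (pullback.diagonal Y.hom) g ≫ Y.hom)
  let i : Z ⟶ Y := Over.homMk (pullback.snd (pullback.diagonal Y.hom) g) rfl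
  have : IsClosedImmersion i.left :=
    MorphismProperty.pullback_snd (P := @IsClosedImmersion) _ _ inferInstance
  have hg1 : g ≫ pullback.fst Y.hom Y.hom = 𝟙 _ := pullback.lift_fst _ _ _
  have hg2 : g ≫ pullback.snd Y.hom Y.hom = e₀.left := pullback.lift_snd _ _ _
  have hc := pullback.condition (f := pullback.diagonal Y.hom) (g := g)
  have hc1 : pullback.fst (pullback.diagonal Y.hom) g = i.left := by
    have h := congrArg (fun k => k ≫ pullback.fst Y.hom Y.hom) hc
    simp only [Category.assoc, pullback.diagonal_fst, Category.comp_id, hg1] at h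
    exact h
  have hie : i ≫ e₀ = i := by
    ext1
    have h := congrArg (fun k => k ≫ pullback.snd Y.hom Y.hom) hc
    simp only [Category.assoc, pullback.diagonal_snd, Category.comp_id, hg2] at h
    rw [Over.comp_left]
    exact h.symm.trans hc1
  have hid' : e₀.left ≫ e₀.left = e₀.left := by rw [← Over.comp_left, hid]
  let r : Y ⟶ Z := Over.homMk (pullback.lift e₀.left e₀.left (by
    apply pullback.hom_ext <;> simp only [Category.assoc, pullback.diagonal_fst, pullback.diagonal_snd, hg1, hg2, Category.comp_id, hid'])) ((pullback.lift_snd_assoc _ _ _ _).trans (Over.w e₀))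
  have hri : r ≫ i = e₀ := by ext1; exact pullback.lift_snd _ _ _
  have : Mono i := Functor.mono_of_mono_map (Over.forget S) (inferInstanceAs (Mono i.left))
  have hir : i ≫ r = 𝟙 Z := by rw [← cancel_mono i, Category.assoc, hri, hie, Category.id_comp]
  have her : e₀ ≫ r = r := by rw [← cancel_mono i, Category.assoc, hri, hid]
  refine ⟨Z, i, inferInstance, ⟨s ≫ yoneda.map r, yoneda.map i ≫ f, ?_, ?_⟩, ?_⟩
  · rw [Category.assoc, ← Functor.map_comp_assoc, hri, he₀, Category.assoc, reassoc_of% hsf, hsf]
  · rw [Category.assoc, ← reassoc_of% he₀, ← Functor.map_comp, ← Functor.map_comp, her, hir, CategoryTheory.Functor.map_id]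
  · show (s ≫ yoneda.map r) ≫ yoneda.map i = s
    rw [Category.assoc, ← Functor.map_comp, hri, he₀, reassoc_of% hsf]

end Groth.Agent.S17825
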