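import Groth.Statements.S17840
import Groth.Agent.DimFormulaIrr.Dominant
import Groth.Agent.DimFormulaIrr.Equality
import Groth.Agent.CMLocalDim.Basic
import Groth.Agent.EquidimFlat.Basic
import Groth.Agent.FibreDimVar.Basic
-- import your own Groth.Agent.* helpers here

set_option autoImplicit false
universe u
open CategoryTheory AlgebraicGeometry
open Cyc

namespace Groth.Agent.S17840

/-- Let (Y, δY) be a locally Noetherian scheme with universally catenary local rings and a dimension
function, f : X ⟶ Y a flat morphism locally of finite type between irreducible schemes with generic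
points ξ and η, and δX the induced function on X, δX(x) = δY(f x) + trdeg_{κ(f x)} κ(x). Put d =
δX(ξ) − δY(η). Then d ≥ 0, every irreducible component of every fibre of f has dimension d, and for
every point x of X the fibre of f over f(x) has dimension d. (The published statement is for schemes
separated of finite type over a Noetherian excellent regular separated base S with δ the S-dimension
— transcendence degree of the residue field minus the dimension of the local ring of S at the image
point — and for the fibre over every point of Y; the fibre over a point outside f(X) is empty, so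
the dimension statement is made here at points of the image; this row allows any dimension function
δY on a locally Noetherian Y with universally catenary local rings, with δX induced from it.) -/
theorem result {X Y : Scheme.{u}} (f : X ⟶ Y) [Flat f] [LocallyOfFiniteType f]
    [IrreducibleSpace X] [IrreducibleSpace Y] (δX : X → ℤ) (δY : Y → ℤ) (hY : Cyc.IsSetup Y δY)
    (hδ : Cyc.DeltaCompat f δX δY) :
    0 ≤ δX (genericPoint X) - δY (genericPoint Y) ∧
      Cyc.HasRelDim f (δX (genericPoint X) - δY (genericPoint Y)).toNat ∧
      ∀ x : X, topologicalKrullDim ↥(f.fiber (f x)) =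
        ((δX (genericPoint X) - δY (genericPoint Y)).toNat : WithBot ℕ∞) := by
  obtain ⟨hN, hcat, -⟩ := hY
  haveI := hN
  have hη : f (genericPoint X) = genericPoint Y := by
    obtain ⟨x, hx, hxy⟩ := Flat.generalizingMap f (genericPoint_specializes (f (genericPoint X)))
    rw [Inseparable.eq (inseparable_iff_specializes_and.mpr ⟨hx, genericPoint_specializes x⟩)] at hxy
    exact hxy
  obtain ⟨E, hE, hδE⟩ := hδ (genericPoint X)
  rw [hη] at hδE
  have hd : (δX (genericPoint X) - δY (genericPoint Y)).toNat = E := by omega
  rw [hd]
  have hcomp : ∀ y : Y, ∀ T ∈ irreducibleComponents ↥(f.fiber y), topologicalKrullDim T = E := by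
    intro y T hT
    obtain ⟨z, hz⟩ := QuasiSober.sober hT.1 (isClosed_of_mem_irreducibleComponents T hT)
    obtain ⟨n, hn, hn'⟩ := Groth.Agent.DimFormulaIrr.exists_trdeg_fibre f y z _ rfl
    rw [← hz.def, hn']
    let x := f.fiberι y z
    have h0 : ringKrullDim ((f.fiber y).presheaf.stalk z) = 0 := by
      letI := specializationOrder ↥(f.fiber y)
      rw [ringKrullDim_stalk_eq_coheight]
      refine WithBot.coe_eq_coe.mpr (Order.coheight_eq_zero.mpr fun w hw => ?_)
      have hwT : closure {w} = T := by
        refine le_antisymm (hT.2 isIrreducible_singleton.closure ?_) ?_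
        · rw [← hz.def]
          exact closure_minimal (Set.singleton_subset_iff.mpr (Specializes.mem_closure (show w ⤳ z from hw))) isClosed_closure
        · rw [← hz.def]
          exact closure_minimal (Set.singleton_subset_iff.mpr (Specializes.mem_closure (show w ⤳ z from hw))) isClosed_closure
      exact le_of_eq (IsGenericPoint.eq hwT hz)
    have hst := Groth.Agent.CMLocalDim.dim_stalk_eq f y z ((AlgebraicGeometry.Flat.iff_flat_stalkMap f).mp inferInstance x)
    have heq := Groth.Agent.DimFormulaIrr.stalk_dimension_equality f hη x n E (hcat _) hn hE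
    rw [hst, h0, add_zero] at heq
    obtain ⟨D, hD⟩ : ∃ D : ℕ, ringKrullDim (Y.presheaf.stalk (f x)) = D := by
      obtain ⟨e, he⟩ := WithBot.ne_bot_iff_exists.mp
        (ne_bot_of_le_ne_bot (by simp) (ringKrullDim_nonneg_of_nontrivial (R := Y.presheaf.stalk (f x))))
      have ht : e ≠ ⊤ := fun h => (ringKrullDim_ne_top (R := Y.presheaf.stalk (f x))) (by rw [← he, h]; rfl)
      obtain ⟨D, rfl⟩ := WithTop.ne_top_iff_exists.mp ht
      exact ⟨D, he.symm⟩
    rw [hD] at heq
    have : ((D + n : ℕ) : WithBot ℕ∞) = ((D + E : ℕ) : WithBot ℕ∞) := by exact_mod_cast heq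
    rw [show n = E from Nat.add_left_cancel (Nat.cast_inj.mp this)]
  refine ⟨by omega, hcomp, fun x => le_antisymm ?_ ?_⟩
  · haveI : LocallyOfFiniteType (f.fiberToSpecResidueField (f x)) :=
      MorphismProperty.of_isPullback (P := @LocallyOfFiniteType) (IsPullback.of_hasPullback f (Y.fromSpecResidueField (f x))) inferInstance
    rw [← Groth.Agent.FibreDim.dim_homeo (Homeomorph.Set.univ ↥(f.fiber (f x)))]
    refine Groth.Agent.FibreDimVar.dim_le_of_forall (k := Y.residueField (f x)) (f.fiberToSpecResidueField (f x)) isClosed_univ _ fun w _ => ?_
    rw [Groth.Agent.EquidimFlat.fdim_eq_closure (k := Y.residueField (f x))]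
    exact le_trans (Groth.Agent.FibreDim.dim_mono (closure_minimal (Set.singleton_subset_iff.mpr mem_irreducibleComponent) isClosed_irreducibleComponent))
      (hcomp _ _ (irreducibleComponent_mem_irreducibleComponents w)).le
  · rw [← hcomp _ _ (irreducibleComponent_mem_irreducibleComponents (f.asFiber x)),
      ← Groth.Agent.FibreDim.dim_homeo (Homeomorph.Set.univ ↥(f.fiber (f x)))]
    exact Groth.Agent.FibreDim.dim_mono (Set.subset_univ _)

end Groth.Agent.S17840
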