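import Groth.Statements.S17843
import Mathlib
-- import your own Groth.Agent.* helpers here

set_option autoImplicit false
universe u v
open CAlg

namespace Groth.Agent.S17843

open Polynomial in
theorem coeff_scale {A : Type u} [CommRing A] (s : A) (q : A[X]) (j : ℕ) :
    (aeval (C s * X) q).coeff j = s ^ j * q.coeff j := by
  induction q using Polynomial.induction_on' with
  | add p q hp hq => simp only [map_add, coeff_add, hp, hq, mul_add]
  | monomial i a =>
    rw [aeval_monomial, Polynomial.algebraMap_eq, mul_pow, ← C_pow, ← mul_assoc, ← C_mul, coeff_C_mul_X_pow,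
      coeff_monomial]
    split_ifs with h1 h2 h2
    · subst h1; ring
    · exact absurd h1.symm h2
    · exact absurd h2.symm h1
    · ring

open Polynomial in
theorem lift_scaled {R : Type u} [CommRing R] (r : R) (p : (Localization.Away r)[X]) (a : R)
    (ha : algebraMap R (Localization.Away r) a = p.coeff 0) :
    ∃ M : ℕ, ∀ n, M ≤ n → ∃ q : R[X], q.coeff 0 = a ∧
      q.map (algebraMap R (Localization.Away r)) = aeval (C (algebraMap R (Localization.Away r) (r ^ n)) * X) p := by
  classical
  set L := Localization.Away r
  choose m c hc using fun j => IsLocalization.Away.surj r (p.coeff j)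
  refine ⟨p.support.sup m, fun n hn => ⟨C a + ∑ j ∈ p.support.erase 0, monomial j (c j * r ^ (n * j - m j)), ?_, ?_⟩⟩
  · rw [coeff_add, coeff_C_zero, finsetSum_coeff, Finset.sum_eq_zero, add_zero]
    intro j hj
    rw [coeff_monomial, if_neg (Finset.ne_of_mem_erase hj)]
  · ext i
    rw [coeff_map, coeff_scale, coeff_add, finsetSum_coeff]
    simp only [coeff_monomial, Finset.sum_ite_eq', map_add]
    by_cases hi0 : i = 0
    · subst hi0
      rw [coeff_C_zero, if_neg (Finset.notMem_erase _ _), map_zero, add_zero, pow_zero, one_mul, ha]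
    · rw [coeff_C, if_neg hi0, map_zero, zero_add]
      by_cases hi : i ∈ p.support
      · rw [if_pos (Finset.mem_erase.mpr ⟨hi0, hi⟩), map_mul, ← hc i, mul_assoc, ← map_pow, ← map_mul,
          ← pow_add, ← map_pow, ← pow_mul, mul_comm]
        congr 3
        have h1 := Finset.le_sup (f := m) hi
        have h2 : m i ≤ n * i := le_trans (h1.trans hn) (Nat.le_mul_of_pos_right n (Nat.pos_of_ne_zero hi0))
        omega
      · rw [if_neg (fun h => hi (Finset.mem_of_mem_erase h)), map_zero, notMem_support_iff.mp hi, mul_zero]

/-- In the case of an affine scheme of finite presentation, let B be a finitely presented R-algebra, r ∈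
R, and x : B → R[1/r][T] an R-algebra homomorphism whose value at T = 0, a homomorphism B → R[1/r],
is induced by a homomorphism x̃₀ : B → R. Then for every large enough n, the homomorphism x(rⁿT) : B
→ R[1/r][T] is induced by a homomorphism x̃ : B → R[T] whose value at T = 0 is x̃₀. The published
statement is for algebraic spaces locally of finite presentation over R; this row takes an affine
scheme of finite presentation. -/
theorem result
    (R : Type u) (B : Type v) [CommRing R] [CommRing B] [Algebra R B]
    [Algebra.FinitePresentation R B] (r : R)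
    (x : B →ₐ[R] Polynomial (Localization.Away r))
    (x₀ : B →ₐ[R] R)
    (hx₀ : (algebraMap R (Localization.Away r)).comp x₀.toRingHom =
      (Polynomial.evalRingHom 0).comp x.toRingHom) :
    ∃ N : ℕ, ∀ n : ℕ, N ≤ n →
      ∃ y : B →ₐ[R] Polynomial R,
        (Polynomial.evalRingHom 0).comp y.toRingHom = x₀.toRingHom ∧
        (Polynomial.mapRingHom (algebraMap R (Localization.Away r))).comp y.toRingHom =
          (Polynomial.aeval (Polynomial.C (algebraMap R (Localization.Away r) (r ^ n)) * Polynomial.X) :
              Polynomial (Localization.Away r) →ₐ[Localization.Away r] Polynomial (Localization.Away r)).toRingHom.comp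
            x.toRingHom := by
  classical
  obtain ⟨ng, f, hf, hker⟩ := Algebra.FinitePresentation.out (R := R) (A := B)
  obtain ⟨T, hT⟩ := hker
  have hzero : ∀ b, algebraMap R (Localization.Away r) (x₀ b) = (x b).coeff 0 := fun b => by
    have := RingHom.congr_fun hx₀ b
    simp only [RingHom.comp_apply, AlgHom.toRingHom_eq_coe, RingHom.coe_coe, Polynomial.coe_evalRingHom] at this
    rw [this, ← Polynomial.coeff_zero_eq_eval_zero]
  choose Mi hMi using fun i => lift_scaled r (x (f (MvPolynomial.X i))) (x₀ (f (MvPolynomial.X i))) (hzero _)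
  set M := Finset.univ.sup Mi with hM
  choose q hq0 hq using fun i => hMi i M (Finset.le_sup (Finset.mem_univ i))
  let σ : ℕ → Polynomial (Localization.Away r) →ₐ[Localization.Away r] Polynomial (Localization.Away r) := fun n =>
    Polynomial.aeval (Polynomial.C (algebraMap R (Localization.Away r) (r ^ n)) * Polynomial.X)
  let φ : MvPolynomial (Fin ng) R →ₐ[R] Polynomial R := MvPolynomial.aeval q
  have h0 : ∀ k, (φ k).coeff 0 = x₀ (f k) := by
    have he : ((Polynomial.aeval (0 : R)).comp φ) = x₀.comp f := MvPolynomial.algHom_ext fun i => by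
      show Polynomial.aeval (0 : R) (φ (MvPolynomial.X i)) = x₀ (f _)
      rw [MvPolynomial.aeval_X, ← hq0 i, Polynomial.coe_aeval_eq_eval, Polynomial.coeff_zero_eq_eval_zero]
    intro k
    have := AlgHom.congr_fun he k
    simp only [AlgHom.comp_apply, Polynomial.coe_aeval_eq_eval] at this
    rw [Polynomial.coeff_zero_eq_eval_zero, this]
  have hmap : ∀ k, (φ k).map (algebraMap R (Localization.Away r)) = σ M (x (f k)) := by
    have he : (Polynomial.mapAlgHom (Algebra.ofId R (Localization.Away r))).comp φ =
        ((σ M).restrictScalars R).comp (x.comp f) := MvPolynomial.algHom_ext fun i => by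
      show (φ (MvPolynomial.X i)).map (algebraMap R (Localization.Away r)) = σ M (x (f _))
      rw [MvPolynomial.aeval_X, hq]
    exact fun k => AlgHom.congr_fun he k
  have hcoef : ∀ k ∈ T, ∀ j, ∃ c : ℕ, r ^ c * (φ k).coeff j = 0 := by
    intro k hk j
    have hfk : f k = 0 := by
      have : k ∈ RingHom.ker f.toRingHom := hT ▸ Ideal.subset_span hk
      exact this
    have h1 := congrArg (fun p => Polynomial.coeff p j) (hmap k)
    simp only [Polynomial.coeff_map, hfk, map_zero, Polynomial.coeff_zero] at h1
    obtain ⟨⟨_, c, rfl⟩, hc⟩ := (IsLocalization.map_eq_zero_iff (Submonoid.powers r) _ _).mp h1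
    exact ⟨c, hc⟩
  choose! c hc using hcoef
  set c₀ := T.sup fun k => (φ k).support.sup (c k) with hc₀
  refine ⟨M + c₀, fun n hn => ?_⟩
  let ψ : MvPolynomial (Fin ng) R →ₐ[R] Polynomial R :=
    (Polynomial.aeval (Polynomial.C (r ^ (n - M)) * Polynomial.X)).comp φ
  have hψ : RingHom.ker f.toRingHom ≤ RingHom.ker ψ.toRingHom := by
    rw [← hT, Ideal.span_le]
    intro k hk
    show ψ k = 0
    ext j
    simp only [ψ, AlgHom.comp_apply, coeff_scale, Polynomial.coeff_zero]
    by_cases hj : j ∈ (φ k).support
    · by_cases hj0 : j = 0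
      · subst hj0
        have hfk : f k = 0 := by
          have : k ∈ RingHom.ker f.toRingHom := hT ▸ Ideal.subset_span hk
          exact this
        rw [h0, hfk, map_zero, mul_zero]
      · have h1 : c k j ≤ (n - M) * j := by
          have h2 : c k j ≤ c₀ := (Finset.le_sup (f := c k) hj).trans
            (Finset.le_sup (f := fun k => (φ k).support.sup (c k)) hk)
          exact h2.trans (le_trans (by omega) (Nat.le_mul_of_pos_right _ (Nat.pos_of_ne_zero hj0)))
        rw [← pow_mul, ← Nat.sub_add_cancel h1, pow_add, mul_assoc, hc k hk j, mul_zero]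
    · rw [Polynomial.notMem_support_iff.mp hj, mul_zero]
  let y : B →ₐ[R] Polynomial R := AlgHom.liftOfSurjective f hf ψ hψ
  have hy : ∀ k, y (f k) = ψ k := fun k => AlgHom.liftOfSurjective_apply f hf ψ hψ k
  refine ⟨y, ?_, ?_⟩
  · refine RingHom.ext fun b => ?_
    obtain ⟨k, rfl⟩ := hf b
    show (y (f k)).eval 0 = x₀ (f k)
    rw [← Polynomial.coeff_zero_eq_eval_zero, hy]
    simp only [ψ, AlgHom.comp_apply, coeff_scale, pow_zero, one_mul, h0]
  · refine RingHom.ext fun b => ?_
    obtain ⟨k, rfl⟩ := hf b
    show (y (f k)).map (algebraMap R (Localization.Away r)) = σ n (x (f k))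
    ext j
    have h1 := congrArg (fun p => Polynomial.coeff p j) (hmap k)
    simp only [Polynomial.coeff_map, σ, coeff_scale] at h1
    simp only [hy, ψ, AlgHom.comp_apply, Polynomial.coeff_map, coeff_scale, σ, map_mul, h1]
    rw [← mul_assoc, map_pow, ← mul_pow, ← map_mul, ← pow_add, Nat.sub_add_cancel (by omega)]

end Groth.Agent.S17843
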