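import Groth.Statements.S17854
import Mathlib

set_option autoImplicit false
open TensorProduct
universe u
open EtAlg

namespace Groth.Agent.S17854

open KaehlerDifferential in
/-- A bijective base change map of differentials of a smooth algebra gives formal etaleness. -/
theorem formallyEtale_of_bijective_mapBaseChange {k P T : Type u} [CommRing k] [CommRing P]
    [CommRing T] [Algebra k P] [Algebra P T] [Algebra k T] [IsScalarTower k P T]
    [Algebra.FormallySmooth k T] (h : Function.Bijective (mapBaseChange k P T)) :
    Algebra.FormallyEtale P T := by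
  have hΩ : Subsingleton Ω[T⁄P] := subsingleton_of_forall_eq 0 fun z => by
    obtain ⟨w, rfl⟩ := map_surjective k P T z
    obtain ⟨v, rfl⟩ := h.2 w
    exact (exact_mapBaseChange_map k P T).apply_apply_eq_zero v
  have hH : Subsingleton (Algebra.H1Cotangent P T) := subsingleton_of_forall_eq 0 fun z => by
    have h1 : Algebra.H1Cotangent.δ k P T z = 0 := h.1 (by
      rw [map_zero]; exact (Algebra.H1Cotangent.exact_δ_mapBaseChange k P T).apply_apply_eq_zero z)
    obtain ⟨y, rfl⟩ := (Algebra.H1Cotangent.exact_map_δ k P T z).1 h1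
    rw [Subsingleton.elim y 0, map_zero]
  have : Algebra.FormallySmooth P T := ⟨inferInstance, hH⟩
  have : Algebra.FormallyUnramified P T := ⟨hΩ⟩
  exact Algebra.FormallyEtale.iff_formallyUnramified_and_formallySmooth.mpr
    ⟨inferInstance, inferInstance⟩

open KaehlerDifferential TensorProduct in
/-- Elements whose differentials span at a maximal ideal give an etale map from affine space. -/
theorem isEtaleAt_of_span {k R : Type u} [CommRing k] [CommRing R] [Algebra k R]
    [Algebra.FinitePresentation k R] (m : Ideal R) [m.IsMaximal] [Algebra.IsSmoothAt k m] {d : ℕ}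
    (hdim : Module.finrank (R ⧸ m) ((R ⧸ m) ⊗[R] Ω[R⁄k]) = d) (x : Fin d → R)
    (hx : Submodule.span R (Set.range fun i => D k R (x i)) ⊔ m • ⊤ = ⊤)
    [Algebra (MvPolynomial (Fin d) k) R] [IsScalarTower k (MvPolynomial (Fin d) k) R]
    (hP : ∀ i, algebraMap (MvPolynomial (Fin d) k) R (MvPolynomial.X i) = x i) :
    Algebra.IsEtaleAt (MvPolynomial (Fin d) k) m := by
  set P := MvPolynomial (Fin d) k
  set T := Localization.AtPrime m
  have : Algebra.FormallySmooth k T := ‹Algebra.IsSmoothAt k m›
  have : Algebra.EssFiniteType k T := .comp k R T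
  have : Module.Finite T Ω[T⁄k] := inferInstance
  have : Module.Free T Ω[T⁄k] := Module.free_of_flat_of_isLocalRing
  have : Algebra.FormallyEtale R T := Algebra.FormallyEtale.of_isLocalization m.primeCompl
  let e₁ : T ⊗[R] Ω[R⁄k] ≃ₗ[T] Ω[T⁄k] := tensorKaehlerEquivOfFormallyEtale k R T
  let π : T →ₐ[R] R ⧸ m := IsLocalization.liftAlgHom (M := m.primeCompl)
    (f := Ideal.Quotient.mkₐ R m) fun y => by
      let _ := Ideal.Quotient.field m
      exact IsUnit.mk0 _ fun h => y.2 (Ideal.Quotient.eq_zero_iff_mem.1 h)
  let _ : Algebra T (R ⧸ m) := π.toRingHom.toAlgebra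
  have : IsScalarTower R T (R ⧸ m) := IsScalarTower.of_algebraMap_eq fun r => (π.commutes r).symm
  have hrank : Module.finrank T Ω[T⁄k] = d := by
    have : Module.Free T (T ⊗[R] Ω[R⁄k]) := Module.Free.of_equiv e₁.symm
    rw [← e₁.finrank_eq, ← Module.finrank_baseChange (R := R ⧸ m) (S := T),
      (AlgebraTensorModule.cancelBaseChange R T (R ⧸ m) (R ⧸ m) Ω[R⁄k]).finrank_eq, hdim]
  let b : Module.Basis (Fin d) T (T ⊗[P] Ω[P⁄k]) :=
    Algebra.TensorProduct.basis T (mvPolynomialBasis k (Fin d))
  have hb : ∀ i, mapBaseChange k P T (b i) = D k T (algebraMap R T (x i)) := fun i => by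
    rw [Algebra.TensorProduct.basis_apply, mvPolynomialBasis_apply, mapBaseChange_tmul, one_smul,
      map_D, ← hP i, ← IsScalarTower.algebraMap_apply]
  set N : Submodule T Ω[T⁄k] := LinearMap.range (mapBaseChange k P T)
  have hR : ∀ ω : Ω[R⁄k], map k k R T ω ∈ N ⊔ IsLocalRing.maximalIdeal T • ⊤ := by
    intro ω
    have hω : ω ∈ Submodule.span R (Set.range fun i => D k R (x i)) ⊔ m • ⊤ := hx.ge Submodule.mem_top
    obtain ⟨a, ha, c, hc, rfl⟩ := Submodule.mem_sup.1 hω
    rw [map_add]
    clear hω
    refine add_mem (Submodule.mem_sup_left ?_) (Submodule.mem_sup_right ?_)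
    · induction ha using Submodule.span_induction with
      | mem y hy =>
        obtain ⟨i, rfl⟩ := hy
        exact ⟨b i, by rw [hb, map_D]⟩
      | zero => rw [map_zero]; exact N.zero_mem
      | add y z _ _ hy hz => rw [map_add]; exact N.add_mem hy hz
      | smul r y _ hy =>
        rw [map_smul, ← algebraMap_smul T r (map k k R T y)]
        exact N.smul_mem _ hy
    · induction hc using Submodule.smul_induction_on' with
      | smul r hr y _ =>
        rw [map_smul, ← algebraMap_smul T r (map k k R T y)]
        exact Submodule.smul_mem_smul ((IsLocalization.AtPrime.to_map_mem_maximal_iff T m r).2 hr)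
          Submodule.mem_top
      | add y _ z _ hy hz => rw [map_add]; exact add_mem hy hz
  have hsurj : Function.Surjective (mapBaseChange k P T) := by
    rw [← LinearMap.range_eq_top, eq_top_iff]
    refine Submodule.le_of_le_smul_of_le_jacobson_bot Module.Finite.fg_top
      (IsLocalRing.jacobson_eq_maximalIdeal ⊥ bot_ne_top).ge ?_
    rintro z -
    obtain ⟨w, rfl⟩ := e₁.surjective z
    induction w using TensorProduct.induction_on with
    | zero => rw [map_zero]; exact zero_mem _
    | add y z hy hz => rw [map_add]; exact add_mem hy hz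
    | tmul t ω =>
      show mapBaseChange k R T (t ⊗ₜ ω) ∈ _
      rw [mapBaseChange_tmul]
      exact Submodule.smul_mem _ _ (hR ω)
  have hfin : Module.finrank T (T ⊗[P] Ω[P⁄k]) = Module.finrank T Ω[T⁄k] := by
    rw [hrank, Module.finrank_eq_card_basis b, Fintype.card_fin]
  have : Module.Free T (T ⊗[P] Ω[P⁄k]) := Module.Free.of_basis b
  have : Module.Finite T (T ⊗[P] Ω[P⁄k]) := Module.Finite.of_basis b
  let e := LinearEquiv.ofFinrankEq (R := T) _ _ hfin.symm
  have hinj : Function.Injective (e.toLinearMap.comp (mapBaseChange k P T)) :=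
    OrzechProperty.injective_of_surjective_endomorphism _ (e.surjective.comp hsurj)
  exact formallyEtale_of_bijective_mapBaseChange ⟨Function.Injective.of_comp hinj, hsurj⟩



/-- In the case of a base with finite residue field, let k be a local ring whose residue field is
finite, R a finitely presented k-algebra and m a maximal ideal of R over the maximal ideal of k such
that R is smooth over k at m of relative dimension d > 0 (the module of Kähler differentials of R
over k has rank d at m). Then there are g ∉ m and an étale k-algebra homomorphism φ : k[x₁, …, x_d]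
→ R[1/g] which induces an isomorphism of residue fields at m, i.e. k[x₁, …, x_d] → R[1/g]/m R[1/g]
is surjective. The published statement is for any local ring k; this row takes the residue field of
k finite. -/
theorem result
    (k : Type u) [CommRing k] [IsLocalRing k] [Finite (IsLocalRing.ResidueField k)]
    (R : Type u) [CommRing R] [Algebra k R] [Algebra.FinitePresentation k R]
    (m : Ideal R) [m.IsMaximal] (hm : m.comap (algebraMap k R) = IsLocalRing.maximalIdeal k)
    [Algebra.IsSmoothAt k m] (d : ℕ) (hd : 0 < d)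
    (hdim : Module.finrank (R ⧸ m) ((R ⧸ m) ⊗[R] KaehlerDifferential k R) = d) :
    ∃ g : R, g ∉ m ∧ ∃ φ : MvPolynomial (Fin d) k →ₐ[k] Localization.Away g,
      φ.toRingHom.Etale ∧
      Function.Surjective
        ((Ideal.Quotient.mk (m.map (algebraMap R (Localization.Away g)))).comp φ.toRingHom) := by
  classical
  let _ : Field (R ⧸ m) := Ideal.Quotient.field m
  have hk : IsLocalRing.maximalIdeal k ≤ m.comap (algebraMap k R) := hm.ge
  let ι : IsLocalRing.ResidueField k →+* R ⧸ m :=
    Ideal.Quotient.lift _ ((Ideal.Quotient.mk m).comp (algebraMap k R))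
      fun a ha => Ideal.Quotient.eq_zero_iff_mem.2 (hk ha)
  let _ : Algebra (IsLocalRing.ResidueField k) (R ⧸ m) := ι.toAlgebra
  have : IsScalarTower k (IsLocalRing.ResidueField k) (R ⧸ m) :=
    IsScalarTower.of_algebraMap_eq fun a => rfl
  have : Algebra.FiniteType k (R ⧸ m) := (inferInstance : Algebra.FiniteType k R).of_surjective (Ideal.Quotient.mkₐ k m) Ideal.Quotient.mk_surjective
  have : Algebra.FiniteType (IsLocalRing.ResidueField k) (R ⧸ m) :=
    Algebra.FiniteType.of_restrictScalars_finiteType k _ _
  have : Module.Finite (IsLocalRing.ResidueField k) (R ⧸ m) :=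
    finite_of_finite_type_of_isJacobsonRing _ _
  have : Finite (R ⧸ m) := Module.finite_of_finite (IsLocalRing.ResidueField k)
  let _ : Fintype (R ⧸ m) := Fintype.ofFinite _
  obtain ⟨θ, hθ⟩ := IsCyclic.exists_generator (α := (R ⧸ m)ˣ)
  obtain ⟨a, ha⟩ := Ideal.Quotient.mk_surjective (θ : R ⧸ m)
  set q := Fintype.card (R ⧸ m) with hqdef
  have hq : (q : R) ∈ m := by
    rw [← Ideal.Quotient.eq_zero_iff_mem, map_natCast, hqdef]
    exact FiniteField.cast_card_eq_zero _
  have hDq : ∀ y : R, KaehlerDifferential.D k R (y ^ q) ∈ (m • ⊤ : Submodule R _) := fun y => by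
    rw [Derivation.leibniz_pow, ← Nat.cast_smul_eq_nsmul R]
    exact Submodule.smul_mem_smul hq Submodule.mem_top
  have hpow : ∀ y : R, Ideal.Quotient.mk m (y ^ q) = Ideal.Quotient.mk m y := fun y => by
    rw [map_pow, hqdef, FiniteField.pow_card]
  -- elements whose differentials form a basis
  let v : R → (R ⧸ m) ⊗[R] KaehlerDifferential k R := fun r => 1 ⊗ₜ KaehlerDifferential.D k R r
  have hspan : ⊤ ≤ Submodule.span (R ⧸ m) (Set.range v) := by
    rintro z -
    induction z using TensorProduct.induction_on with
    | zero => exact zero_mem _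
    | add y z hy hz => exact add_mem hy hz
    | tmul c ω =>
      have hω : ω ∈ Submodule.span R (Set.range (KaehlerDifferential.D k R)) :=
        (KaehlerDifferential.span_range_derivation k R).symm ▸ Submodule.mem_top
      induction hω using Submodule.span_induction generalizing c with
      | mem y hy =>
        obtain ⟨r, rfl⟩ := hy
        rw [show c ⊗ₜ[R] KaehlerDifferential.D k R r = c • v r by
          simp [v, TensorProduct.smul_tmul']]
        exact Submodule.smul_mem _ _ (Submodule.subset_span ⟨r, rfl⟩)
      | zero => rw [TensorProduct.tmul_zero]; exact zero_mem _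
      | add y z _ _ hy hz => rw [TensorProduct.tmul_add]; exact add_mem (hy c) (hz c)
      | smul r y _ hy => rw [← TensorProduct.smul_tmul]; exact hy _
  have : Module.Finite (R ⧸ m) ((R ⧸ m) ⊗[R] KaehlerDifferential k R) := inferInstance
  obtain ⟨s, hs, hs', hli⟩ := exists_linearIndependent (R ⧸ m) (Set.range v)
  have hs'' : Submodule.span (R ⧸ m) s = ⊤ := hs'.trans (top_le_iff.1 hspan)
  let B := Module.Basis.mk hli (le_of_eq (by rw [Subtype.range_coe, hs'']))
  have : Finite s := Module.Finite.finite_basis B
  let _ : Fintype s := Fintype.ofFinite s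
  have hcard : Fintype.card s = d := by rw [← Module.finrank_eq_card_basis B, hdim]
  let ei : Fin d ≃ s := (Fintype.equivFinOfCardEq hcard).symm
  choose r hr using fun i : Fin d => hs (ei i).2
  let i₀ : Fin d := ⟨0, hd⟩
  let x : Fin d → R := fun i => if i = i₀ then r i - r i ^ q + a ^ q else r i
  have hxD : ∀ i, KaehlerDifferential.D k R (r i) - KaehlerDifferential.D k R (x i) ∈
      (m • ⊤ : Submodule R _) := fun i => by
    by_cases h : i = i₀
    · simp only [x, h, if_true, map_add, map_sub]
      rw [sub_add_eq_sub_sub, sub_sub_cancel]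
      exact sub_mem (hDq _) (hDq _)
    · simp [x, h]
  have hx₀ : Ideal.Quotient.mk m (x i₀) = θ := by
    simp only [x, if_true, map_add, map_sub, hpow, ha, sub_self, zero_add]
  have hx : Submodule.span R (Set.range fun i => KaehlerDifferential.D k R (x i)) ⊔ m • ⊤ = ⊤ := by
    set N := Submodule.span R (Set.range fun i => KaehlerDifferential.D k R (x i)) ⊔ m • ⊤
    have hmN : ∀ z ∈ (m • ⊤ : Submodule R (KaehlerDifferential k R)), z ∈ N := fun z hz =>
      Submodule.mem_sup_right hz
    -- pass to the fibre
    let F : KaehlerDifferential k R →ₗ[R] (R ⧸ m) ⊗[R] KaehlerDifferential k R :=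
      TensorProduct.mk R (R ⧸ m) _ 1
    let e := TensorProduct.quotTensorEquivQuotSMul (KaehlerDifferential k R) m
    have hker : ∀ z, F z = 0 → z ∈ (m • ⊤ : Submodule R _) := fun z hz => by
      have := congrArg e hz
      rw [map_zero] at this
      simpa [F, e, Submodule.Quotient.mk_eq_zero] using this
    refine eq_top_iff.2 fun z _ => ?_
    have hz : F z ∈ Submodule.span (R ⧸ m) (Set.range fun i => v (x i)) := by
      have heq : ∀ i, v (x i) = (ei i).1 := fun i => by
        rw [← hr i]
        refine (sub_eq_zero.1 ?_).symm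
        rw [← TensorProduct.tmul_sub]
        have : ∀ z ∈ (m • ⊤ : Submodule R (KaehlerDifferential k R)), F z = 0 := fun z hz => by
          induction hz using Submodule.smul_induction_on' with
          | smul c hc y _ =>
            show (1 : R ⧸ m) ⊗ₜ (c • y) = 0
            rw [← TensorProduct.smul_tmul, Algebra.smul_def, mul_one, Ideal.Quotient.algebraMap_eq,
              Ideal.Quotient.eq_zero_iff_mem.2 hc, TensorProduct.zero_tmul]
          | add y _ z _ hy hz => rw [map_add, hy, hz, add_zero]
        exact this _ (hxD i)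
      have : (Set.range fun i => v (x i)) = s := by
        simp only [heq]
        rw [show (fun i => ((ei i : s) : (R ⧸ m) ⊗[R] KaehlerDifferential k R)) = Subtype.val ∘ ei from rfl,
          Set.range_comp, ei.range_eq_univ, Set.image_univ, Subtype.range_coe]
      rw [this, hs'']
      trivial
    obtain ⟨c, hc⟩ := (Submodule.mem_span_range_iff_exists_fun _).1 hz
    choose c' hc' using fun i => Ideal.Quotient.mk_surjective (c i)
    have h0 : F (z - ∑ i, c' i • KaehlerDifferential.D k R (x i)) = 0 := by
      rw [map_sub, map_sum, ← hc, sub_eq_zero]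
      refine Finset.sum_congr rfl fun i _ => ?_
      rw [map_smul, ← hc' i, ← Ideal.Quotient.algebraMap_eq, algebraMap_smul]
      rfl
    have := add_mem (hmN _ (hker _ h0)) (Submodule.mem_sup_left (T := (m • ⊤ : Submodule R _))
      (Submodule.sum_mem (Submodule.span R (Set.range fun i => KaehlerDifferential.D k R (x i)))
        (t := Finset.univ) (f := fun i => c' i • KaehlerDifferential.D k R (x i))
        fun i _ => Submodule.smul_mem _ _ (Submodule.subset_span ⟨i, rfl⟩)))
    rwa [sub_add_cancel] at this
  let ψ : MvPolynomial (Fin d) k →ₐ[k] R := MvPolynomial.aeval x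
  let _ : Algebra (MvPolynomial (Fin d) k) R := ψ.toRingHom.toAlgebra
  have : IsScalarTower k (MvPolynomial (Fin d) k) R :=
    IsScalarTower.of_algebraMap_eq fun c => (ψ.commutes c).symm
  have := isEtaleAt_of_span m hdim x hx fun i => MvPolynomial.aeval_X x i
  have : Algebra.FinitePresentation (MvPolynomial (Fin d) k) R :=
    Algebra.FinitePresentation.of_restrict_scalars_finitePresentation k _ _
  obtain ⟨g, hg, het⟩ := Algebra.exists_etale_of_isEtaleAt (R := MvPolynomial (Fin d) k) m
  refine ⟨g, hg, (IsScalarTower.toAlgHom k R (Localization.Away g)).comp ψ, ?_, ?_⟩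
  · show ((algebraMap R (Localization.Away g)).comp (algebraMap (MvPolynomial (Fin d) k) R)).Etale
    rw [← IsScalarTower.algebraMap_eq]
    exact RingHom.etale_algebraMap.2 het
  · intro z
    obtain ⟨z, rfl⟩ := Ideal.Quotient.mk_surjective z
    obtain ⟨⟨y, _, n, rfl⟩, hy⟩ := IsLocalization.surj (Submonoid.powers g) z
    set L := Localization.Away g
    set mk := Ideal.Quotient.mk (m.map (algebraMap R L))
    have hgen : ∀ c : R ⧸ m, ∃ p : MvPolynomial (Fin d) k, Ideal.Quotient.mk m (ψ p) = c := by
      intro c
      rcases eq_or_ne c 0 with rfl | hc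
      · exact ⟨0, by simp⟩
      · obtain ⟨j, hj⟩ := mem_powers_iff_mem_zpowers.2 (hθ (Units.mk0 c hc))
        refine ⟨MvPolynomial.X i₀ ^ j, ?_⟩
        have hj' : ((θ ^ j : (R ⧸ m)ˣ) : R ⧸ m) = c := congrArg Units.val hj
        rw [Units.val_pow_eq_pow_val] at hj'
        rw [map_pow, map_pow, show ψ (MvPolynomial.X i₀) = x i₀ from MvPolynomial.aeval_X x i₀, hx₀, hj']
    have hgu : Ideal.Quotient.mk m (g ^ n) ≠ 0 := fun h => hg
      (‹m.IsMaximal›.isPrime.mem_of_pow_mem n (Ideal.Quotient.eq_zero_iff_mem.1 h))
    obtain ⟨p, hp⟩ := hgen (Ideal.Quotient.mk m y / Ideal.Quotient.mk m (g ^ n))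
    refine ⟨p, ?_⟩
    rw [eq_div_iff hgu, ← map_mul, Ideal.Quotient.eq] at hp
    have h1 : algebraMap R L (ψ p * g ^ n - y) ∈ m.map (algebraMap R L) := Ideal.mem_map_of_mem _ hp
    rw [map_sub, map_mul, ← hy, ← sub_mul,
      Ideal.mul_unit_mem_iff_mem _ (IsLocalization.map_units L (⟨g ^ n, n, rfl⟩ : Submonoid.powers g))] at h1
    exact Ideal.Quotient.eq.2 h1

end Groth.Agent.S17854
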