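import Groth.Statements.S17855
import Groth.Agent.QuillenG.Group

set_option autoImplicit false
set_option linter.style.haveILetI false
open CategoryTheory CategoryTheory.Limits MonoidalCategory CartesianMonoidalCategory MonObj GrpObj AlgebraicGeometry
universe u
open NonAbH1

namespace Groth.Agent.S17855

theorem away_of_mul {R : Type u} [CommRing R] (r r' : R) (A B : Type u) [CommRing A] [CommRing B]
    [Algebra R A] [Algebra R B] [Algebra A B] [IsScalarTower R A B] [IsLocalization.Away r A]
    [hB : IsLocalization.Away (r * r') B] : IsLocalization.Away (algebraMap R A r') B := by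
  haveI : IsLocalization.Away (r * r') (Localization.Away (algebraMap R A r')) :=
    IsLocalization.Away.mul' A (Localization.Away (algebraMap R A r')) r r'
  let e : Localization.Away (algebraMap R A r') ≃ₐ[R] B :=
    IsLocalization.algEquiv (Submonoid.powers (r * r')) _ _
  have h : e.toAlgHom.toRingHom.comp (algebraMap A (Localization.Away (algebraMap R A r'))) =
      algebraMap A B :=
    IsLocalization.ringHom_ext (Submonoid.powers r) (by
      ext x
      simp [← IsScalarTower.algebraMap_apply])
  exact IsLocalization.isLocalization_of_algEquiv (Submonoid.powers (algebraMap R A r'))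
    (AlgEquiv.ofRingEquiv (f := e.toRingEquiv) (fun x => RingHom.congr_fun h x))

open Groth.Agent.QuillenG in
theorem eq_pr {R : Type u} [CommRing R] {C D : Type u} [CommRing C] [Algebra R C] [CommRing D] [Algebra R D]
    (t : ob R D ⟶ ob R C) (f : C →+* D) (ht : t.left = Spec.map (CommRingCat.ofHom f)) (φ : C →ₐ[R] D)
    (h : f = φ.toRingHom) : t = pr φ := by
  ext1
  rw [ht, h]
  rfl

/-- For a group scheme locally of finite presentation, let R be a ring, G an R-group scheme locally of
finite presentation over S = Spec R, and r, r' ∈ R generating the unit ideal; let A = R[1/r], A' =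
R[1/r'], B = R[1/rr']. For an R-algebra C write G₀(C) for the set of S-morphisms Spec C[T] → G whose
restriction along T ↦ 0 (the S-morphism Spec C → Spec C[T]) is the unit. Then G₀(B) = G₀(A)·G₀(A'):
every g ∈ G₀(B) is the product, in the group of Spec B[T]-points of G, of the pullback of some g₁ ∈
G₀(A) and the pullback of some g₂ ∈ G₀(A') along Spec B[T] → Spec A[T], Spec A'[T]. The S-morphisms
induced by T ↦ 0 and by the localisation maps are taken as data determined by their underlying
scheme maps. The published statement also allows more general group functors and graded algebras. -/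
theorem result
    (R : Type u) [CommRing R]
    (G : Over (Spec (CommRingCat.of R))) [GrpObj G] [LocallyOfFinitePresentation G.hom]
    (r r' : R) (hrr : Ideal.span ({r, r'} : Set R) = ⊤)
    (A A' B : Type u) [CommRing A] [CommRing A'] [CommRing B] [Algebra R A] [Algebra R A'] [Algebra R B]
    [IsLocalization.Away r A] [IsLocalization.Away r' A'] [IsLocalization.Away (r * r') B]
    [Algebra A B] [Algebra A' B] [IsScalarTower R A B] [IsScalarTower R A' B]
    (eA : Over.mk (Spec.map (CommRingCat.ofHom (algebraMap R (A)))) ⟶ Over.mk (Spec.map (CommRingCat.ofHom (algebraMap R (Polynomial A)))))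
    (heA : eA.left = Spec.map (CommRingCat.ofHom (Polynomial.evalRingHom (0 : A))))
    (eA' : Over.mk (Spec.map (CommRingCat.ofHom (algebraMap R (A')))) ⟶ Over.mk (Spec.map (CommRingCat.ofHom (algebraMap R (Polynomial A')))))
    (heA' : eA'.left = Spec.map (CommRingCat.ofHom (Polynomial.evalRingHom (0 : A'))))
    (eB : Over.mk (Spec.map (CommRingCat.ofHom (algebraMap R (B)))) ⟶ Over.mk (Spec.map (CommRingCat.ofHom (algebraMap R (Polynomial B)))))
    (heB : eB.left = Spec.map (CommRingCat.ofHom (Polynomial.evalRingHom (0 : B))))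
    (tA : Over.mk (Spec.map (CommRingCat.ofHom (algebraMap R (Polynomial B)))) ⟶ Over.mk (Spec.map (CommRingCat.ofHom (algebraMap R (Polynomial A)))))
    (htA : tA.left = Spec.map (CommRingCat.ofHom (Polynomial.mapRingHom (algebraMap A B))))
    (tA' : Over.mk (Spec.map (CommRingCat.ofHom (algebraMap R (Polynomial B)))) ⟶ Over.mk (Spec.map (CommRingCat.ofHom (algebraMap R (Polynomial A')))))
    (htA' : tA'.left = Spec.map (CommRingCat.ofHom (Polynomial.mapRingHom (algebraMap A' B))))
    (g : Over.mk (Spec.map (CommRingCat.ofHom (algebraMap R (Polynomial B)))) ⟶ G) (hg : eB ≫ g = 1) :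
    ∃ (g₁ : Over.mk (Spec.map (CommRingCat.ofHom (algebraMap R (Polynomial A)))) ⟶ G) (g₂ : Over.mk (Spec.map (CommRingCat.ofHom (algebraMap R (Polynomial A')))) ⟶ G),
      eA ≫ g₁ = 1 ∧ eA' ≫ g₂ = 1 ∧ g = (tA ≫ g₁) * (tA' ≫ g₂) := by
  haveI : IsLocalization.Away (algebraMap R A r') B := away_of_mul r r' A B
  haveI : IsLocalization.Away (algebraMap R A' r) B := away_of_mul r' r A' B (hB := by rwa [mul_comm])
  have e0 : ∀ (C : Type u) [CommRing C] [Algebra R C],
      Polynomial.evalRingHom (0 : C) = (Groth.Agent.QuillenG.evₐ (R := R) (0 : C)).toRingHom := fun C _ _ =>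
    Polynomial.ringHom_ext (fun c => by simp) (by simp)
  rw [eq_pr eA _ heA _ (e0 A), eq_pr eA' _ heA' _ (e0 A'),
    eq_pr tA _ htA (Polynomial.mapAlgHom (IsScalarTower.toAlgHom R A B)) rfl,
    eq_pr tA' _ htA' (Polynomial.mapAlgHom (IsScalarTower.toAlgHom R A' B)) rfl]
  exact Groth.Agent.QuillenG.quillen r r' hrr g (by rw [← eq_pr eB _ heB _ (e0 B)]; exact hg)

end Groth.Agent.S17855
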