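import Mathlib
import Groth.Statements.S17859
-- import your own Groth.Agent.* helpers here

set_option autoImplicit false
open CategoryTheory MonoidalCategory
universe u
open Algz

namespace Groth.Agent.S17859

set_option backward.isDefEq.respectTransparency false
set_option backward.isDefEq.respectTransparency.types false

/-- Over an affine scheme, that is for modules over a commutative ring `R`, a finitely generated
projective `R`-module `M`, viewed as an object of the monoidal category of `R`-modules (tensor
product over `R`), has a right dual. (The published statement is the equivalence, for quasi-coherent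
sheaves on a quasi-compact quasi-separated scheme, between being dualizable and being a vector
bundle; stated here is the affine case of the implication from vector bundle to dualizable. The
converse implication, that a module admitting a dual is finitely generated projective, is stated
separately and is not repeated here.) -/
theorem result (R : Type u) [CommRing R] (M : ModuleCat.{u} R)
    [Module.Finite R M] [Module.Projective R M] : Nonempty (HasRightDual M) := by
  classical
  obtain ⟨n, q, hq⟩ := Module.Finite.exists_fin' R M
  obtain ⟨s, hs⟩ := Module.projective_lifting_property q LinearMap.id hq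
  let f : Fin n → Module.Dual R M := fun i => LinearMap.proj i ∘ₗ s
  let m : Fin n → M := fun i => q (Pi.single i 1)
  have hrec : ∀ x : M, ∑ i, f i x • m i = x := fun x => by
    conv_rhs => rw [← LinearMap.id_apply (R := R) x, ← hs, LinearMap.comp_apply, pi_eq_sum_univ' (s x), map_sum]
    exact Finset.sum_congr rfl fun i _ => by simp [f, m]
  have hrec' : ∀ g : Module.Dual R M, ∑ i, g (m i) • f i = g := fun g => LinearMap.ext fun x => by
    conv_rhs => rw [← hrec x, map_sum]
    simp [mul_comm]
  let D : ModuleCat.{u} R := ModuleCat.of R (Module.Dual R M)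
  let η' : 𝟙_ (ModuleCat.{u} R) ⟶ M ⊗ D := ModuleCat.ofHom (X := R) (Y := TensorProduct R M (Module.Dual R M)) (LinearMap.toSpanSingleton R _ (∑ i, m i ⊗ₜ[R] f i))
  let ε' : D ⊗ M ⟶ 𝟙_ (ModuleCat.{u} R) := ModuleCat.ofHom (X := TensorProduct R (Module.Dual R M) M) (Y := R) (contractLeft R M)
  refine ⟨@HasRightDual.mk _ _ _ M D { coevaluation' := η', evaluation' := ε', coevaluation_evaluation' := ?_, evaluation_coevaluation' := ?_ }⟩
  · refine ModuleCat.hom_ext (TensorProduct.ext' fun g r => ?_)
    change (ε' ▷ D) ((α_ D M D).inv (g ⊗ₜ[R] (r • ∑ i, m i ⊗ₜ[R] f i))) = (1 : R) ⊗ₜ[R] (r • g)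
    rw [Finset.smul_sum, TensorProduct.tmul_sum, map_sum, map_sum]
    conv_rhs => rw [← hrec' g, Finset.smul_sum, TensorProduct.tmul_sum]
    refine Finset.sum_congr rfl fun i _ => ?_
    rw [TensorProduct.smul_tmul']
    change (contractLeft R M (g ⊗ₜ[R] (r • m i))) ⊗ₜ[R] f i = _
    rw [contractLeft_apply, map_smul, smul_eq_mul, smul_smul, ← TensorProduct.smul_tmul, smul_eq_mul, mul_one]
  · refine ModuleCat.hom_ext (TensorProduct.ext' fun r x => ?_)
    change (M ◁ ε') ((α_ M D M).hom ((r • ∑ i, m i ⊗ₜ[R] f i) ⊗ₜ[R] x)) = (r • x) ⊗ₜ[R] (1 : R)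
    rw [Finset.smul_sum, TensorProduct.sum_tmul, map_sum, map_sum]
    conv_rhs => rw [← hrec x, Finset.smul_sum, TensorProduct.sum_tmul]
    refine Finset.sum_congr rfl fun i _ => ?_
    rw [TensorProduct.smul_tmul']
    change (r • m i) ⊗ₜ[R] (contractLeft R M (f i ⊗ₜ[R] x)) = _
    rw [contractLeft_apply, smul_comm r, TensorProduct.smul_tmul (f i x), smul_eq_mul, mul_one]

end Groth.Agent.S17859
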