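import Groth.Statements.S17860
import Groth.Agent.GenCount.Basic
-- import your own Groth.Agent.* helpers here

set_option autoImplicit false
open CategoryTheory AlgebraicGeometry
universe u
open Algz

namespace Groth.Agent.S17860

set_option backward.isDefEq.respectTransparency false in
theorem exists_generators (R : CommRingCat.{u}) (M : ModuleCat.{u} R) (n m : ℕ) (U : Fin m → (Spec R).Opens)
    (hU : ⨆ i, U i = ⊤)
    (hgen : ∀ i, ∃ φ : FlatMod.freeMod (↑(U i)) n ⟶ (AlgebraicGeometry.tilde M).restrict (U i).ι, Epi φ) :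
    ∃ s : Fin (n * m) → M, Submodule.span R (Set.range s) = ⊤ := by
  classical
  let F := AlgebraicGeometry.tilde M
  haveI : F.IsQuasicoherent := QCohLib.isQuasicoherent_tilde_obj M
  have ht : ∀ i, ∃ t : Fin n → Γ(F, (U i).ι ''ᵁ ⊤), ∀ w : (U i : Scheme.{u}),
      Submodule.span ((Spec R).presheaf.stalk ((U i).ι w))
        (Set.range fun k => F.presheaf.germ ((U i).ι ''ᵁ ⊤) ((U i).ι w) ⟨w, trivial, rfl⟩ (t k)) = ⊤ := fun i => by
    obtain ⟨φ, hφ⟩ := hgen i
    exact GenCount.exists_germ_span F (U i) n φ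
  choose t ht using ht
  -- functions `f i` with `D (f i) ⊆ U i` and `∑ f i = 1`
  let I : Fin m → Ideal R := fun i => PrimeSpectrum.vanishingIdeal ((U i : Set (Spec R))ᶜ)
  have hI : ∀ i, ∀ f ∈ I i, PrimeSpectrum.basicOpen (R := R) f ≤ U i := fun i f hf x hx => by
    by_contra h
    exact hx ((PrimeSpectrum.mem_vanishingIdeal _ _).1 hf x h)
  have hsup : ⨆ i, I i = ⊤ := by
    by_contra h
    obtain ⟨P, hP, hle⟩ := Ideal.exists_le_maximal _ h
    obtain ⟨i, hi⟩ := TopologicalSpace.Opens.mem_iSup.1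
      (show (⟨P, hP.isPrime⟩ : PrimeSpectrum R) ∈ ⨆ i, U i from hU ▸ trivial)
    have hz : (⟨P, hP.isPrime⟩ : PrimeSpectrum R) ∈ PrimeSpectrum.zeroLocus (I i) :=
      fun f hf => hle (le_iSup I i hf)
    rw [PrimeSpectrum.zeroLocus_vanishingIdeal_eq_closure,
      ((U i).isOpen.isClosed_compl).closure_eq] at hz
    exact hz hi
  obtain ⟨f, hf⟩ := (Submodule.mem_iSup_finset_iff_exists_sum (s := Finset.univ) I (1 : R)).1 (by
    simp only [Finset.mem_univ, iSup_pos, hsup]; trivial)
  have hle : ∀ i, (show (Spec R).Opens from PrimeSpectrum.basicOpen (R := R) (f i : R)) ≤ (U i).ι ''ᵁ ⊤ := fun i => by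
    rw [Scheme.Opens.ι_image_top]; exact hI i _ (f i).2
  choose N x hx using fun i k => QCohLib.exists_res_eq_pow_smul_Spec F (f i : R) _ rfl
    (F.presheaf.map (homOfLE (hle i)).op (t i k))
  let e := (tilde.isoTop M).toLinearEquiv
  refine ⟨fun j => e.symm (x (finProdFinEquiv.symm j).2 (finProdFinEquiv.symm j).1), ?_⟩
  have hspan : Submodule.span Γ(Spec R, ⊤) (Set.range fun q : Fin m × Fin n => x q.1 q.2) = ⊤ := by
    refine GenCount.span_eq_top_of_germ (isAffineOpen_top _) F _ fun y hy => ?_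
    obtain ⟨i, hyi⟩ : ∃ i, y ∈ (show (Spec R).Opens from PrimeSpectrum.basicOpen (R := R) (f i : R)) := by
      by_contra! h
      refine y.isPrime.ne_top ((Ideal.eq_top_iff_one _).2 ?_)
      rw [← hf]
      exact Submodule.sum_mem _ fun i _ => not_not.1 (h i)
    have hz' : y ∈ (U i).ι ''ᵁ ⊤ := hle i hyi
    have h2 : ∀ k, (F.presheaf.germ ((U i).ι ''ᵁ ⊤) y hz' (t i k) : F.presheaf.stalk y) ∈
        Submodule.span ((Spec R).presheaf.stalk y)
          (Set.range fun q : Fin m × Fin n => F.presheaf.germ ⊤ y hy (x q.1 q.2)) := by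
      intro k
      have h1 := congrArg (F.presheaf.germ _ y hyi) (hx i k)
      rw [TopCat.Presheaf.germ_res_apply, Scheme.Modules.smul_Spec_def, QCohLib.germ_smul,
        TopCat.Presheaf.germ_res_apply, TopCat.Presheaf.germ_res_apply] at h1
      have hu : IsUnit ((Spec R).presheaf.germ ⊤ y hy ((Scheme.ΓSpecIso R).inv ((f i : R) ^ N i k))) := by
        refine ((Spec R).mem_basicOpen _ y hy).1 ?_
        rw [basicOpen_eq_of_affine]
        by_cases h0 : N i k = 0
        · rw [h0, pow_zero, PrimeSpectrum.basicOpen_one]; trivial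
        · rw [PrimeSpectrum.basicOpen_pow _ _ (Nat.pos_of_ne_zero h0)]; exact hyi
      obtain ⟨v, hv⟩ := hu
      have h3 : (F.presheaf.germ ((U i).ι ''ᵁ ⊤) y hz' (t i k) : F.presheaf.stalk y) =
          ((v⁻¹ : ((Spec R).presheaf.stalk y)ˣ) : (Spec R).presheaf.stalk y) •
            (F.presheaf.germ ⊤ y hy (x i k) : F.presheaf.stalk y) := by
        rw [h1, ← hv, smul_smul, Units.inv_mul, one_smul]
      rw [h3]
      exact Submodule.smul_mem _ _ (Submodule.subset_span ⟨(i, k), rfl⟩)
    obtain ⟨w, -, hwy⟩ := id hz'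
    subst hwy
    rw [eq_top_iff]
    refine le_trans (le_of_eq (ht i w).symm) (Submodule.span_le.2 ?_)
    rintro _ ⟨k, rfl⟩
    exact h2 k
  rw [eq_top_iff]
  rintro z -
  have hz : (show Γ(F, ⊤) from e z) ∈ Submodule.span Γ(Spec R, ⊤) (Set.range fun q : Fin m × Fin n => x q.1 q.2) :=
    hspan ▸ Submodule.mem_top
  suffices H : ∀ v ∈ Submodule.span Γ(Spec R, ⊤) (Set.range fun q : Fin m × Fin n => x q.1 q.2),
      e.symm (show _ from v) ∈ Submodule.span R (Set.range fun j => e.symm (x (finProdFinEquiv.symm j).2 (finProdFinEquiv.symm j).1)) by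
    simpa using H _ hz
  intro v hv
  induction hv using Submodule.span_induction with
  | mem v hv =>
    obtain ⟨⟨i, k⟩, rfl⟩ := hv
    exact Submodule.subset_span ⟨finProdFinEquiv (k, i), by simp⟩
  | zero => exact (map_zero e.symm).symm ▸ zero_mem _
  | add a b _ _ ha hb => exact (map_add e.symm a b).symm ▸ add_mem ha hb
  | smul r a _ ha =>
    have e1 : r • a = ((Scheme.ΓSpecIso R).hom r) • a := by
      rw [Scheme.Modules.smul_Spec_def, Iso.hom_inv_id_apply]
      congr 1
    rw [e1]
    exact (map_smul e.symm ((Scheme.ΓSpecIso R).hom r) a).symm ▸ Submodule.smul_mem _ _ ha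


/-- Let `R` be a commutative ring and `M` a finite `R`-module. Suppose `Spec R` is covered by opens `U
0, …, U (m-1)` (not necessarily affine) such that over each `U i` the restriction of the associated
sheaf of modules `M~` is a quotient of the free module of rank `n` (it is generated by `n` sections
over `U i`). Then `M` is generated by `n * m` elements. -/
theorem result (R : CommRingCat.{u}) (M : ModuleCat.{u} R)
    [Module.Finite R M] (n m : ℕ) (U : Fin m → (Spec R).Opens) (hU : ⨆ i, U i = ⊤)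
    (hgen : ∀ i, ∃ φ : FlatMod.freeMod (↑(U i)) n ⟶ (AlgebraicGeometry.tilde M).restrict (U i).ι, Epi φ) :
    ∃ s : Fin (n * m) → M, Submodule.span R (Set.range s) = ⊤ := by
  exact exists_generators R M n m U hU hgen

end Groth.Agent.S17860
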