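import Groth.Statements.S17864
import Mathlib
-- import your own Groth.Agent.* helpers here

set_option autoImplicit false
universe u
open Algz

namespace Groth.Agent.S17864

variable {A : Type u} [CommRing A] (I : Ideal A)

theorem smodEq_map {P P' : Type*} [AddCommGroup P] [Module A P] [AddCommGroup P'] [Module A P']
    (φ : P →ₗ[A] P') (n : ℕ) {a b : P} (hab : a ≡ b [SMOD (I ^ n • ⊤ : Submodule A P)]) :
    φ a ≡ φ b [SMOD (I ^ n • ⊤ : Submodule A P')] := by
  rw [SModEq.sub_mem] at hab ⊢
  have := Submodule.mem_map_of_mem (f := φ) hab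
  rw [Submodule.map_smul'', map_sub] at this
  exact Submodule.smul_mono le_rfl le_top this

theorem isAdicComplete_of_retract {M N : Type*} [AddCommGroup M] [Module A M] [AddCommGroup N] [Module A N]
    (i : N →ₗ[A] M) (r : M →ₗ[A] N) (h : r ∘ₗ i = LinearMap.id) [IsAdicComplete I M] :
    IsAdicComplete I N := by
  have hri : ∀ x, r (i x) = x := LinearMap.congr_fun h
  refine { haus' := fun x hx => ?_, prec' := fun g hg => ?_ }
  · have : i x = 0 := IsHausdorff.haus (inferInstance : IsHausdorff I M) _ fun n => by
      simpa using smodEq_map I i n (hx n)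
    rw [← hri x, this, map_zero]
  · obtain ⟨L, hL⟩ := IsPrecomplete.prec (inferInstance : IsPrecomplete I M) (f := fun n => i (g n))
      fun {m n} hmn => smodEq_map I i m (hg hmn)
    exact ⟨r L, fun n => by simpa [hri] using smodEq_map I r n (hL n)⟩

theorem isAdicComplete_pi {ι : Type*} [Finite ι] [IsAdicComplete I A] : IsAdicComplete I (ι → A) := by
  classical
  haveI := Fintype.ofFinite ι
  have hmem : ∀ (n : ℕ) (x : ι → A), x ∈ (I ^ n • ⊤ : Submodule A (ι → A)) ↔ ∀ i, x i ∈ I ^ n := by
    intro n x
    constructor
    · intro hx i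
      have := Submodule.mem_map_of_mem (f := (LinearMap.proj i : (ι → A) →ₗ[A] A)) hx
      rw [Submodule.map_smul''] at this
      simpa using Submodule.smul_mono le_rfl le_top this
    · intro hx
      rw [pi_eq_sum_univ' x]
      exact Submodule.sum_mem _ fun i _ => Submodule.smul_mem_smul (hx i) Submodule.mem_top
  refine { haus' := fun x hx => funext fun i => ?_, prec' := fun g hg => ?_ }
  · refine IsHausdorff.haus (inferInstance : IsHausdorff I A) _ fun n => ?_
    have := (hmem n _).mp (by simpa [SModEq.sub_mem] using hx n) i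
    simpa [SModEq.sub_mem] using this
  · choose L hL using fun i => IsPrecomplete.prec (inferInstance : IsPrecomplete I A)
      (f := fun n => g n i) fun {m n} hmn => by
        simpa [SModEq.sub_mem] using (hmem m _).mp (SModEq.sub_mem.mp (hg hmn)) i
    exact ⟨L, fun n => SModEq.sub_mem.mpr ((hmem n _).mpr fun i => by
      simpa [SModEq.sub_mem] using hL i n)⟩


/-- The full-faithfulness assertion. Let `A` be a commutative ring which is `I`-adically complete for an
ideal `I`, and `P`, `Q` finitely generated projective `A`-modules. An `A`-linear map `P → Q` is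
determined by its reductions modulo the powers `I^n`, and every family of `A`-linear maps `P/I^n P →
Q/I^n Q` compatible with the transition maps is the family of reductions of an `A`-linear map `P →
Q`. (The companion assertion, that compatible systems of finite projective modules over the rings
`A/I^n` lift to `A`, is not restated here.) -/
theorem result (A : Type u) [CommRing A] (I : Ideal A)
    [IsAdicComplete I A] (P Q : Type u) [AddCommGroup P] [Module A P] [Module.Finite A P]
    [Module.Projective A P] [AddCommGroup Q] [Module A Q] [Module.Finite A Q] [Module.Projective A Q] :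
    (∀ f f' : P →ₗ[A] Q, (∀ n : ℕ, f.reduceModIdeal (I ^ n) = f'.reduceModIdeal (I ^ n)) → f = f') ∧
    (∀ g : ∀ n : ℕ, P ⧸ (I ^ n • ⊤ : Submodule A P) →ₗ[A] Q ⧸ (I ^ n • ⊤ : Submodule A Q),
      (∀ n : ℕ, AdicCompletion.transitionMap I Q (Nat.le_succ n) ∘ₗ g (n + 1) =
        g n ∘ₗ AdicCompletion.transitionMap I P (Nat.le_succ n)) →
      ∃ f : P →ₗ[A] Q, ∀ n : ℕ, f.reduceModIdeal (I ^ n) = g n) := by
  haveI : IsAdicComplete I Q := by
    obtain ⟨m, r, i, -, -, hri⟩ := Module.Finite.exists_comp_eq_id_of_projective A Q
    haveI := isAdicComplete_pi I (ι := Fin m)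
    exact isAdicComplete_of_retract I i r hri
  refine ⟨fun f f' h => LinearMap.ext fun x => ?_, fun g hg => ?_⟩
  · refine sub_eq_zero.mp (IsHausdorff.haus (inferInstance : IsHausdorff I Q) _ fun n => ?_)
    have := LinearMap.congr_fun (h n) (Submodule.Quotient.mk x)
    rw [SModEq.sub_mem, sub_zero, ← Submodule.Quotient.mk_eq_zero, Submodule.Quotient.mk_sub]
    exact sub_eq_zero.mpr this
  · let F : ∀ n, P →ₗ[A] Q ⧸ (I ^ n • ⊤ : Submodule A Q) := fun n => g n ∘ₗ Submodule.mkQ _
    have hF : ∀ {m n : ℕ} (hle : m ≤ n), Submodule.factorPow I Q hle ∘ₗ F n = F m := by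
      intro m n hle
      induction n, hle using Nat.le_induction with
      | base => ext x; simp
      | succ n hmn ih =>
        rw [← ih]
        ext x
        have h1 := LinearMap.congr_fun (hg n) (Submodule.Quotient.mk x)
        simp only [LinearMap.comp_apply, F, Submodule.mkQ_apply] at h1 ⊢
        simp only [AdicCompletion.transitionMap, Submodule.factorPow, Submodule.mapQ_apply, Submodule.factor_mk, LinearMap.id_coe, id_eq] at h1
        rw [← h1]
        obtain ⟨y, hy⟩ := Submodule.mkQ_surjective _ (g (n + 1) (Submodule.Quotient.mk x))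
        rw [← hy]
        rfl
    refine ⟨IsAdicComplete.lift I F @hF, fun n => LinearMap.ext fun x => ?_⟩
    obtain ⟨x, rfl⟩ := Submodule.mkQ_surjective _ x
    exact IsAdicComplete.mk_lift I (f := F) @hF n x

end Groth.Agent.S17864
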