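import Groth.Statements.S17869
import Mathlib

set_option autoImplicit false
set_option backward.isDefEq.respectTransparency false
open CategoryTheory AlgebraicGeometry
universe u
open Algz

namespace Groth.Agent.S17869

/-- In the case of schemes. Let `U` be a quasi-compact quasi-separated scheme and `V 0, …, V (k-1)`
quasi-compact open subschemes which cover `U`. Then the canonical morphism from the disjoint union
`∐ V i` to `U` is a Nisnevich cover of length at most `k`. (The published example states more
generally that, for a Nisnevich cover of `Y` of length at most `m` with source `U`, the composite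
from the disjoint union `∐ V i` to `Y` has length at most `m * k`; stated here is the case of the
identity of `U`, to which the published argument reduces, and the general bound follows by composing
Nisnevich covers. The original form is for quasi-compact quasi-separated algebraic spaces, with the
members of the cover quasi-compact; stated here for schemes.) -/
theorem result {U : Scheme.{u}} [CompactSpace U] [QuasiSeparatedSpace U]
    (k : ℕ) (V : Fin k → U.Opens) (hV : ∀ i, IsCompact (V i : Set U)) (hcov : ⨆ i, V i = ⊤) :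
    W4c5algebraiztannaka.IsNisCoverLen
      (Limits.Sigma.desc (fun i => (V i).ι) : (∐ fun i => ((V i : U.Opens) : Scheme.{u})) ⟶ U) k := by
  classical
  refine ⟨IsZariskiLocalAtSource.sigmaDesc (P := @Etale) (fun i => inferInstance), ?_⟩
  let W : Fin (k + 1) → U.Opens := fun j => ⨆ i : {i : Fin k // (j : ℕ) ≤ i}, V i.1
  have hWc : ∀ j, IsCompact (W j : Set U) := fun j => by
    rw [show (W j : Set U) = ⋃ i : {i : Fin k // (j : ℕ) ≤ i}, (V i.1 : Set U) from TopologicalSpace.Opens.coe_iSup _]
    exact isCompact_iUnion fun i => hV i.1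
  refine ⟨fun j => (W j : Set U)ᶜ, ?_, ?_, ?_, fun j => ⟨(W j).2.isClosed_compl, ?_⟩, fun j => ?_⟩
  · show (W 0 : Set U)ᶜ = ∅
    rw [Set.compl_empty_iff, Set.eq_univ_iff_forall]
    intro x
    obtain ⟨i, hi⟩ := TopologicalSpace.Opens.mem_iSup.1 (hcov.ge (show x ∈ (⊤ : U.Opens) from trivial))
    exact TopologicalSpace.Opens.mem_iSup.2 ⟨⟨i, Nat.zero_le _⟩, hi⟩
  · show (W (Fin.last k) : Set U)ᶜ = Set.univ
    rw [Set.compl_univ_iff, Set.eq_empty_iff_forall_notMem]
    intro x hx
    obtain ⟨⟨i, hi⟩, -⟩ := TopologicalSpace.Opens.mem_iSup.1 hx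
    exact absurd i.2 (not_lt.2 hi)
  · intro a b hab
    exact Set.compl_subset_compl.2 (SetLike.coe_subset_coe.2 (iSup_le fun i => le_iSup_of_le (⟨i.1, le_trans (Fin.le_def.1 hab) i.2⟩ : {i : Fin k // (a : ℕ) ≤ i}) le_rfl))
  · exact (((hWc j).isConstructible (W j).2)).compl
  · let Zj : TopologicalSpace.Closeds U := ⟨(W j.succ : Set U)ᶜ, (W j.succ).2.isClosed_compl⟩
    let I := Scheme.IdealSheafData.vanishingIdeal Zj
    refine ⟨(I.subschemeι ⁻¹ᵁ V j : I.subscheme.Opens), (I.subschemeι ⁻¹ᵁ V j).ι ≫ I.subschemeι,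
      (I.subschemeι ∣_ V j) ≫ Limits.Sigma.ι (fun i => ((V i : U.Opens) : Scheme.{u})) j, inferInstance, ?_, ?_⟩
    · ext x
      have hr : Set.range I.subschemeι = (W j.succ : Set U)ᶜ := by
        rw [Scheme.IdealSheafData.range_subschemeι]
        exact Scheme.IdealSheafData.coe_support_vanishingIdeal Zj
      constructor
      · rintro ⟨t, rfl⟩
        refine ⟨hr.le ⟨_, rfl⟩, fun h => h ?_⟩
        exact TopologicalSpace.Opens.mem_iSup.2 ⟨⟨j, le_rfl⟩, t.2⟩
      · rintro ⟨h1, h2⟩
        obtain ⟨y, rfl⟩ := hr.ge h1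
        have hy : I.subschemeι y ∈ V j := by
          obtain ⟨⟨i, hi⟩, hm⟩ := TopologicalSpace.Opens.mem_iSup.1 (not_not.1 h2)
          rcases eq_or_lt_of_le (show (j : ℕ) ≤ i from hi) with h | h
          · rwa [← show i = j from Fin.ext h.symm]
          · exact absurd (TopologicalSpace.Opens.mem_iSup.2 ⟨⟨i, h⟩, hm⟩) h1
        exact ⟨⟨y, hy⟩, rfl⟩
    · rw [Category.assoc, Limits.Sigma.ι_desc, morphismRestrict_ι]

end Groth.Agent.S17869
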