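import Groth.Statements.S1787
import Groth.Agent.DualCx.Pointwise
-- import your own Groth.Agent.* helpers here

set_option autoImplicit false
universe u
open CategoryTheory
attribute [local instance] HasDerivedCategory.standard
open Dual

namespace Groth.Agent.S1787

/-- Let A be a Noetherian ring and f_1, …, f_n elements generating the unit ideal. Let ω be an object of
D(A) such that for each i, assuming the derived base change functor D(A) → D(A_{f_i}) exists, the
base change of ω is a dualizing complex for A_{f_i}. Then ω is a dualizing complex for A. -/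
theorem result (A : Type u) [CommRing A] [IsNoetherianRing A] (n : ℕ) (f : Fin n → A) (hf : Ideal.span (Set.range f) = ⊤) (ω : Dual.D A) (h : ∀ i : Fin n, ∃ _ : DRing.HasLBaseChange (algebraMap A (Localization.Away (f i))), Dual.IsDualizing (Localization.Away (f i)) ((DRing.LBaseChange (algebraMap A (Localization.Away (f i)))).obj ω)) : Dual.IsDualizing A ω := by
  classical
  have hloc := fun i => Groth.Agent.DualCx.isLocHom_algebraMap (Submonoid.powers (f i)) (Localization.Away (f i))
  have hwit : ∀ {M : Type u} [AddCommGroup M] [Module A M] (v : M), (∀ i, ∃ k : ℕ, f i ^ k • v = 0) → v = 0 :=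
    fun {M} _ _ v hv => by
      have htop : (Submodule.span A {v}).annihilator.radical = ⊤ := by
        rw [eq_top_iff, ← hf, Ideal.span_le]
        rintro _ ⟨i, rfl⟩
        obtain ⟨k, hk⟩ := hv i
        exact ⟨k, (Submodule.mem_annihilator_span_singleton _ _).2 hk⟩
      rw [Ideal.radical_eq_top, Ideal.eq_top_iff_one, Submodule.mem_annihilator_span_singleton, one_smul] at htop
      exact htop
  choose hL hd using h
  let F := fun i => DerivedCategory.homologyFunctor (ModuleCat.{u} A) i
  obtain ⟨K, ⟨eK⟩⟩ : ∃ K : DRing.Cx A, Nonempty (DerivedCategory.Q.obj K ≅ ω) :=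
    ⟨_, ⟨(DerivedCategory.Q (C := ModuleCat.{u} A)).objObjPreimageIso ω⟩⟩
  have hhom : ∀ (i : Fin n) (j : ℤ), Nonempty ((Groth.Agent.DualCx.extM (algebraMap A (Localization.Away (f i)))).obj (K.homology j) ≅
      (DerivedCategory.homologyFunctor (ModuleCat.{u} (Localization.Away (f i))) j).obj
        ((DRing.LBaseChange (algebraMap A (Localization.Away (f i)))).obj ω)) := fun i j => by
    haveI := hL i
    obtain ⟨g⟩ := Groth.Agent.DualCx.nonempty_extC_iso_LBC_flat (hloc i).flat K eK
    haveI := ModuleCat.preservesFiniteLimits_extendScalars_of_flat.{u} (hloc i).flat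
    haveI := (ModuleCat.extendRestrictScalarsAdj.{u, u, u} (algebraMap A (Localization.Away (f i)))).leftAdjoint_preservesColimits.{0, 0}
    let L := (Groth.Agent.DualCx.extC (algebraMap A (Localization.Away (f i)))).obj K
    let m0 : L.homology j ≅ (Groth.Agent.DualCx.extM (algebraMap A (Localization.Away (f i)))).obj (K.homology j) :=
      (K.sc j).mapHomologyIso (Groth.Agent.DualCx.extM (algebraMap A (Localization.Away (f i))))
    exact ⟨m0.symm ≪≫ ((DerivedCategory.homologyFunctorFactors _ j).app _).symm ≪≫
      (DerivedCategory.homologyFunctor _ j).mapIso g⟩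
  let eH : ∀ j, Dual.HD A ω j ≃ₗ[A] K.homology j := fun j =>
    ((DerivedCategory.homologyFunctor (ModuleCat.{u} A) j).mapIso eK.symm ≪≫
      (DerivedCategory.homologyFunctorFactors (ModuleCat.{u} A) j).app K).toLinearEquiv
  have hmodel : ∀ i, ∃ a b : ℤ, (∀ j : ℤ, j < a → Limits.IsZero ((DerivedCategory.homologyFunctor (ModuleCat.{u} (Localization.Away (f i))) j).obj
      (haveI := hL i; (DRing.LBaseChange (algebraMap A (Localization.Away (f i)))).obj ω))) ∧
      ∀ (M : Type u) [AddCommGroup M] [Module (Localization.Away (f i)) M] (j : ℤ), b < j →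
        Subsingleton (Dual.inD (Localization.Away (f i)) M ⟶
          (haveI := hL i; (DRing.LBaseChange (algebraMap A (Localization.Away (f i)))).obj ω)⟦j⟧) := fun i => by
    obtain ⟨V, a, b, hV, hVi, hz, ⟨eV⟩⟩ := Groth.Agent.DualCx.exists_model (hd i).finite_injective_dimension
    obtain ⟨a', b', hab⟩ := (hd i).finite_injective_dimension
    exact ⟨a, b', fun j hj => (ShortComplex.isZero_homology_of_isZero_X₂ _ (hz j (Or.inl hj))).of_iso
      ((DerivedCategory.homologyFunctor _ j).mapIso eV.symm ≪≫ (DerivedCategory.homologyFunctorFactors _ j).app V),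
      fun M _ _ j hj => hab M j (Or.inr hj)⟩
  choose a b ha hb using hmodel
  obtain ⟨a0, ha0⟩ := ((Finset.univ : Finset (Fin n)).image a).bddBelow
  obtain ⟨b0, hb0⟩ := ((Finset.univ : Finset (Fin n)).image b).bddAbove
  have hfin : ∀ j : ℤ, Module.Finite A (Dual.HD A ω j) := fun j => by
    suffices Module.Finite A (K.homology j) from Module.Finite.equiv (eH j).symm
    have H0 : ∀ i, Module.Finite (Localization.Away (f i)) (LocalizedModule (Submonoid.powers (f i)) (K.homology j)) := fun i => by
      haveI := hL i
      haveI := (hd i).finite_cohomology j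
      obtain ⟨g⟩ := hhom i j
      haveI : Module.Finite (Localization.Away (f i))
          ((Groth.Agent.DualCx.extM (algebraMap A (Localization.Away (f i)))).obj (K.homology j)) :=
        Module.Finite.equiv g.toLinearEquiv.symm
      exact Groth.Agent.DualCx.finite_localized (Submonoid.powers (f i)) (K.homology j)
    exact Module.Finite.of_localizationSpan' (Set.range f) hf
      (Rₚ := fun g => Localization.Away g.1) (Mₚ := fun g => LocalizedModule (Submonoid.powers g.1) (K.homology j))
      (fun g => LocalizedModule.mkLinearMap (Submonoid.powers g.1) (K.homology j))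
      (by rintro ⟨g, i, rfl⟩; exact H0 i)
  have hbelow : ∀ j : ℤ, j < a0 → Subsingleton (Dual.HD A ω j) := fun j hj => by
    refine (eH j).toEquiv.subsingleton_congr.2 (subsingleton_of_forall_eq 0 fun v => hwit v fun i => ?_)
    haveI := hL i
    obtain ⟨g⟩ := hhom i j
    have hz := (ha i j (lt_of_lt_of_le hj (ha0 (Finset.mem_coe.2 (Finset.mem_image_of_mem a (Finset.mem_univ i)))))).of_iso g
    haveI := ModuleCat.subsingleton_of_isZero hz
    obtain ⟨_, ⟨k, rfl⟩, hk⟩ := (hloc i).exists_of_one'_eq_zero (m := v) (Subsingleton.elim _ _)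
    exact ⟨k, hk⟩
  obtain ⟨W, hW, hWinj, hzero, ⟨e⟩⟩ := Groth.Agent.DualCx.exists_model_below a0 hbelow
  haveI := hW
  haveI := hWinj
  refine Groth.Agent.DualCx.isDualizing_of_bound a0 b0 hzero e hfin (fun N _ _ _ j hj => ?_) fun m hm => ?_
  · refine subsingleton_of_forall_eq 0 fun v => hwit v fun i => ?_
    haveI := hL i
    obtain ⟨g⟩ := Groth.Agent.DualCx.nonempty_extC_iso_LBC_flat (hloc i).flat W e
    haveI : ∀ q, Injective (((Groth.Agent.DualCx.extC (algebraMap A (Localization.Away (f i)))).obj W).X q) :=
      fun q => (hloc i).injective_ext (W.X q)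
    haveI : ((Groth.Agent.DualCx.extC (algebraMap A (Localization.Away (f i)))).obj W).IsStrictlyGE a0 :=
      (CochainComplex.isStrictlyGE_iff _ _).2 fun q hq => Functor.map_isZero (Groth.Agent.DualCx.extM _) (hzero q hq)
    haveI : ((Groth.Agent.DualCx.extC (algebraMap A (Localization.Away (f i)))).obj W).IsKInjective :=
      CochainComplex.isKInjective_of_injective _ a0
    let N' := (Groth.Agent.DualCx.extM (algebraMap A (Localization.Away (f i)))).obj (ModuleCat.of A N)
    haveI := hb i N' j (lt_of_le_of_lt (hb0 (Finset.mem_coe.2 (Finset.mem_image_of_mem b (Finset.mem_univ i)))) hj)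
    haveI := (Groth.Agent.DualCx.homIso _ g N' j).toEquiv.symm.subsingleton
    by_contra hne
    push Not at hne
    exact not_nontrivial _ ((Groth.Agent.DualCx.nontrivial_EH_loc_iff (hloc i) W (ModuleCat.of A N) j).2
      ⟨v, fun s hs => by obtain ⟨k, rfl⟩ := hs; exact hne k⟩)
  · obtain ⟨i, hi⟩ : ∃ i, f i ∉ m := by
      by_contra hcon
      push Not at hcon
      exact hm.ne_top (top_le_iff.1 (hf ▸ Ideal.span_le.2 (by rintro _ ⟨i, rfl⟩; exact hcon i)))
    exact ⟨_, inferInstance, _, _, hloc i, hL i, Submonoid.powers_le.2 hi, hd i⟩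

end Groth.Agent.S1787
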