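import Groth.Statements.S17872
import Mathlib.Tactic
import Mathlib.LinearAlgebra.Dual.Lemmas
-- import your own Groth.Agent.* helpers here

set_option autoImplicit false
universe u v
open GRRSing

namespace Groth.Agent.S17872

/-- Let H be a vector space over a field K and let b_0, …, b_l be elements of H. If the sum of the t ^ i
• b_i vanishes for infinitely many scalars t of K, then all the b_i are zero. -/
theorem result {K : Type u} {H : Type v} [Field K] [AddCommGroup H] [Module K H]
    (l : ℕ) (b : Fin (l + 1) → H)
    (h : Set.Infinite {t : K | ∑ i : Fin (l + 1), t ^ (i : ℕ) • b i = 0}) :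
    b = 0 := by
  classical
  funext i
  rw [Pi.zero_apply, ← Module.forall_dual_apply_eq_zero_iff K]
  intro χ
  let P : Polynomial K := ∑ j : Fin (l + 1), Polynomial.monomial (j : ℕ) (χ (b j))
  have hP : P = 0 := by
    refine Polynomial.eq_zero_of_infinite_isRoot P (h.mono fun t ht => ?_)
    have h1 := congrArg χ (ht : ∑ i : Fin (l + 1), t ^ (i : ℕ) • b i = 0)
    simp only [map_sum, map_smul, smul_eq_mul, map_zero] at h1
    simp only [P, Set.mem_setOf_eq, Polynomial.IsRoot.def, Polynomial.eval_finsetSum, Polynomial.eval_monomial]
    simpa [mul_comm] using h1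
  have h2 := congrArg (fun q : Polynomial K => q.coeff (i : ℕ)) hP
  simpa [P, Polynomial.coeff_monomial, Fin.val_inj] using h2

end Groth.Agent.S17872
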