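import Mathlib
import Groth.Statements.S17875
-- import your own Groth.Agent.* helpers here

set_option autoImplicit false
universe u
open Polynomial
open GRRSing

namespace Groth.Agent.S17875

/-- Let R be a commutative ℚ-algebra, r an element of R and δ a natural number with (r - 1) ^ (δ + 1) =
0. Write s(k, j) for the signed Stirling numbers of the first kind, the coefficients of x (x - 1) ⋯
(x - k + 1) = Σ_j s(k, j) x ^ j. Then (i) for every natural number n, r ^ n = Σ_{k ≤ δ} [n (n - 1) ⋯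
(n - k + 1) / k!] (r - 1) ^ k; and (ii) in the polynomial ring R[x], Σ_{k ≤ δ} [x (x - 1) ⋯ (x - k +
1) / k!] (r - 1) ^ k = Σ_{j ≤ δ} [Σ_{k ≤ δ} Σ_{u ≤ k} (-1) ^ (k - u) s(k, j) / (u! (k - u)!) · r ^
u] x ^ j. -/
theorem result {R : Type u} [CommRing R] [Algebra ℚ R]
    (r : R) (δ : ℕ) (hr : (r - 1) ^ (δ + 1) = 0) :
    (∀ n : ℕ, r ^ n = ∑ k ∈ Finset.range (δ + 1), ((descPochhammer ℚ k).eval (n : ℚ) / (k.factorial : ℚ)) • (r - 1) ^ k) ∧
    (∑ k ∈ Finset.range (δ + 1), ((k.factorial : ℚ)⁻¹ • (descPochhammer R k * Polynomial.C ((r - 1) ^ k))) =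
      ∑ j ∈ Finset.range (δ + 1), Polynomial.C (∑ k ∈ Finset.range (δ + 1), ∑ u ∈ Finset.range (k + 1),
        (((-1 : ℚ) ^ (k - u) * (((descPochhammer ℤ k).coeff j : ℤ) : ℚ)) / ((u.factorial * (k - u).factorial : ℕ) : ℚ)) • r ^ u) * Polynomial.X ^ j) := by
  have hch : ∀ n k : ℕ, ((descPochhammer ℚ k).eval (n : ℚ) / (k.factorial : ℚ)) = (n.choose k : ℚ) := by
    intro n k
    rw [descPochhammer_eval_eq_descFactorial, Nat.descFactorial_eq_factorial_mul_choose]
    push_cast
    field_simp
  constructor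
  · intro n
    simp only [hch, Nat.cast_smul_eq_nsmul, nsmul_eq_mul]
    have h1 : r ^ n = ∑ k ∈ Finset.range (n + 1), (n.choose k : R) * (r - 1) ^ k := by
      conv_lhs => rw [show r = (r - 1) + 1 by ring, add_pow]
      simp [mul_comm]
    rw [h1]
    refine (Finset.sum_subset (Finset.range_mono (le_max_left (n+1) (δ+1))) fun k _ hk => ?_).trans
      (Finset.sum_subset (Finset.range_mono (le_max_right (n+1) (δ+1))) fun k _ hk => ?_).symm
    · rw [Finset.mem_range, not_lt] at hk
      rw [Nat.choose_eq_zero_of_lt hk, Nat.cast_zero, zero_mul]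
    · rw [Finset.mem_range, not_lt] at hk
      rw [pow_eq_zero_of_le hk hr, mul_zero]
  · refine Polynomial.ext fun j => ?_
    simp only [Polynomial.finsetSum_coeff, Polynomial.coeff_smul, Polynomial.coeff_mul_C, Polynomial.coeff_C_mul_X_pow]
    rw [Finset.sum_ite_eq]
    simp only [← descPochhammer_map (Int.castRingHom R), Polynomial.coeff_map, Int.coe_castRingHom]
    split_ifs with hj
    · refine Finset.sum_congr rfl fun k _ => ?_
      rw [sub_eq_add_neg r 1, add_pow, Finset.mul_sum, Finset.smul_sum]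
      refine Finset.sum_congr rfl fun u hu => ?_
      have hc : ((k.factorial : ℚ))⁻¹ * (k.choose u : ℚ) = 1 / ((u.factorial * (k - u).factorial : ℕ) : ℚ) := by
        rw [Nat.cast_choose ℚ (Nat.lt_succ_iff.mp (Finset.mem_range.mp hu))]
        have := k.factorial_ne_zero
        push_cast; field_simp
      simp only [Algebra.smul_def]
      rw [show (-1 : R) = algebraMap ℚ R (-1) by simp, show ((k.choose u : ℕ) : R) = algebraMap ℚ R (k.choose u : ℚ) by simp,
        show (((descPochhammer ℤ k).coeff j : ℤ) : R) = algebraMap ℚ R (((descPochhammer ℤ k).coeff j : ℤ) : ℚ) by simp,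
        ← map_pow]
      rw [show (-1 : ℚ) ^ (k - u) * (((descPochhammer ℤ k).coeff j : ℤ) : ℚ) / ((u.factorial * (k - u).factorial : ℕ) : ℚ) =
        (k.factorial : ℚ)⁻¹ * ((((descPochhammer ℤ k).coeff j : ℤ) : ℚ) * ((-1) ^ (k - u) * (k.choose u : ℚ))) by
          rw [show (k.factorial : ℚ)⁻¹ * ((((descPochhammer ℤ k).coeff j : ℤ) : ℚ) * ((-1) ^ (k - u) * (k.choose u : ℚ))) =
            (-1) ^ (k - u) * (((descPochhammer ℤ k).coeff j : ℤ) : ℚ) * ((k.factorial : ℚ)⁻¹ * (k.choose u : ℚ)) by ring, hc]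
          ring]
      simp only [map_mul]
      ring
    · rw [Finset.mem_range, not_lt] at hj
      refine Finset.sum_eq_zero fun k hk => ?_
      rw [Polynomial.coeff_eq_zero_of_natDegree_lt (by rw [descPochhammer_natDegree]; have := Finset.mem_range.mp hk; omega)]
      simp

end Groth.Agent.S17875
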