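import Groth.Statements.S17878
import Mathlib.Analysis.SpecificLimits.Normed
import Mathlib.RingTheory.PowerSeries.Exp
import Mathlib.Data.Nat.Choose.Cast
import Mathlib.Algebra.BigOperators.Field
-- import your own Groth.Agent.* helpers here

set_option autoImplicit false
universe u
open Filter Topology
open GRRSing

namespace Groth.Agent.S17878

theorem euler_rec (E : ℕ → ℚ)
    (hE : PowerSeries.mk (fun j => E j / (j.factorial : ℚ)) * (PowerSeries.exp ℚ + 1) = 2) (n : ℕ) :
    2 * E n + ∑ i ∈ Finset.range n, (n.choose i : ℚ) * E i = if n = 0 then 2 else 0 := by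
  have h := congrArg (PowerSeries.coeff n) hE
  rw [mul_add, mul_one, map_add, PowerSeries.coeff_mul, Finset.Nat.sum_antidiagonal_eq_sum_range_succ
    (fun a b => PowerSeries.coeff a (PowerSeries.mk fun j => E j / (j.factorial : ℚ)) * PowerSeries.coeff b (PowerSeries.exp ℚ))] at h
  have h2 : (PowerSeries.coeff n (2 : PowerSeries ℚ)) = if n = 0 then 2 else 0 := by
    rw [show (2 : PowerSeries ℚ) = PowerSeries.C (2 : ℚ) from (map_ofNat PowerSeries.C 2).symm, PowerSeries.coeff_C]
  rw [h2] at h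
  simp only [PowerSeries.coeff_mk, PowerSeries.coeff_exp, Algebra.algebraMap_self, RingHom.id_apply] at h
  rw [Finset.sum_range_succ] at h
  have hn : (n.factorial : ℚ) ≠ 0 := Nat.cast_ne_zero.2 n.factorial_ne_zero
  have key := congrArg (fun z => (n.factorial : ℚ) * z) h
  simp only [mul_add, Finset.mul_sum] at key
  have e : ∀ i ∈ Finset.range n, (n.factorial : ℚ) * (E i / (i.factorial : ℚ) * (1 / ((n - i).factorial : ℚ))) =
      (n.choose i : ℚ) * E i := fun i hi => by
    rw [Nat.cast_choose ℚ (Finset.mem_range.1 hi).le]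
    field_simp
  rw [Finset.sum_congr rfl e, Nat.sub_self, Nat.factorial_zero] at key
  rcases Nat.eq_zero_or_pos n with rfl | hpos
  · simp at key ⊢; linarith
  · rw [if_neg hpos.ne'] at key ⊢
    field_simp at key
    simp only [Nat.cast_one, mul_one, mul_zero] at key
    linarith

theorem summable_pow {y : ℂ} (hy : ‖y‖ < 1) (j : ℕ) : Summable fun k : ℕ => (k : ℂ) ^ j * y ^ k :=
  summable_pow_mul_geometric_of_norm_lt_one j hy

theorem tsum_rec {y : ℂ} (hy : ‖y‖ < 1) (j : ℕ) :
    (1 - y) * ∑' k : ℕ, (k : ℂ) ^ j * y ^ k =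
      (if j = 0 then 1 else 0) + y * ∑ i ∈ Finset.range j, (j.choose i : ℂ) * ∑' k : ℕ, (k : ℂ) ^ i * y ^ k := by
  have h1 := (summable_pow hy j).tsum_eq_zero_add
  have h2 : (fun k : ℕ => ((k + 1 : ℕ) : ℂ) ^ j * y ^ (k + 1)) =
      fun k : ℕ => ∑ i ∈ Finset.range (j + 1), y * (j.choose i : ℂ) * ((k : ℂ) ^ i * y ^ k) := funext fun k => by
    rw [Nat.cast_succ, add_pow, Finset.sum_mul]
    exact Finset.sum_congr rfl fun i _ => by rw [one_pow, mul_one, pow_succ]; ring
  have hz : ((0 : ℕ) : ℂ) ^ j * y ^ 0 = if j = 0 then 1 else 0 := by simp [zero_pow_eq]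
  rw [h2, hz, Summable.tsum_finsetSum (fun i _ => (summable_pow hy i).mul_left _), Finset.sum_range_succ] at h1
  simp only [tsum_mul_left, Nat.choose_self, Nat.cast_one, mul_one] at h1
  rw [sub_mul, one_mul, Finset.mul_sum]
  simp only [← mul_assoc]
  linear_combination h1

open Filter Topology in
theorem tendsto_euler (E : ℕ → ℚ)
    (hE : PowerSeries.mk (fun j => E j / (j.factorial : ℚ)) * (PowerSeries.exp ℚ + 1) = 2) (j : ℕ) :
    Tendsto (fun y : ℝ => ∑' k : ℕ, (k : ℂ) ^ j * (y : ℂ) ^ k) (𝓝[Set.Ioo (-1 : ℝ) 1] (-1 : ℝ))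
      (𝓝 ((E j : ℂ) / 2)) := by
  induction j using Nat.strong_induction_on with
  | _ j ih =>
    have hy : Tendsto (fun y : ℝ => (y : ℂ)) (𝓝[Set.Ioo (-1 : ℝ) 1] (-1 : ℝ)) (𝓝 (-1)) := by
      have := (Complex.continuous_ofReal.tendsto (-1 : ℝ)).mono_left (nhdsWithin_le_nhds (s := Set.Ioo (-1 : ℝ) 1))
      simpa using this
    have hrhs := (tendsto_const_nhds (x := ((if j = 0 then 1 else 0 : ℂ)))).add
      (hy.mul (tendsto_finsetSum (Finset.range j) fun i hi =>
        (tendsto_const_nhds (x := (j.choose i : ℂ))).mul (ih i (Finset.mem_range.1 hi))))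
    have hlim := hrhs.div ((tendsto_const_nhds (x := (1 : ℂ))).sub hy) (by norm_num)
    have hval : ((if j = 0 then 1 else 0 : ℂ) + -1 * ∑ i ∈ Finset.range j, (j.choose i : ℂ) * ((E i : ℂ) / 2)) / (1 - -1) =
        (E j : ℂ) / 2 := by
      have h := congrArg (fun q : ℚ => (q : ℂ)) (euler_rec E hE j)
      push_cast at h
      simp only [← mul_div_assoc, ← Finset.sum_div]
      split_ifs at h ⊢ with hj <;> linear_combination (-(1 : ℂ) / 4) * h
    rw [hval] at hlim
    refine hlim.congr' (eventually_nhdsWithin_of_forall fun y hyI => ?_)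
    have hn : ‖(y : ℂ)‖ < 1 := by rw [Complex.norm_real, Real.norm_eq_abs, abs_lt]; exact hyI
    have hne : (1 : ℂ) - y ≠ 0 := sub_ne_zero.2 fun h => by rw [← h] at hn; simp at hn
    rw [Pi.div_apply, div_eq_iff hne, ← tsum_rec hn j, mul_comm]


/-- Let T be a nonzero commutative normed ℂ-algebra such that the map ℂ → T/nilradical(T) is surjective,
let P = Σ_j d_j x ^ j be a polynomial over T and put h_k = P(k). Let E_0, E_1, … be the rational
numbers with 2/(e^t + 1) = Σ_j E_j t ^ j / j! (so E_0 = 1, E_1 = -1/2). Then for every complex y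
with |y| < 1 the series Σ_k h_k y ^ k converges in T, and as y → -1 along real y in (-1, 1) its sum
tends to (1/2) Σ_j E_j d_j. (The published statement allows any norm topology on T as a complex
vector space; this row takes T a normed ℂ-algebra.) -/
theorem result {T : Type u} [NormedCommRing T] [NormedAlgebra ℂ T] [Nontrivial T]
    (hT : Function.Surjective (algebraMap ℂ (T ⧸ nilradical T)))
    (E : ℕ → ℚ) (hE : PowerSeries.mk (fun j => E j / (j.factorial : ℚ)) * (PowerSeries.exp ℚ + 1) = 2)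
    (P : Polynomial T) :
    (∀ y : ℂ, ‖y‖ < 1 → Summable (fun k : ℕ => y ^ k • P.eval (k : T))) ∧
    Tendsto (fun y : ℝ => ∑' k : ℕ, ((y : ℂ) ^ k) • P.eval (k : T)) (𝓝[Set.Ioo (-1 : ℝ) 1] (-1 : ℝ))
      (𝓝 ((2 : ℂ)⁻¹ • ∑ j ∈ Finset.range (P.natDegree + 1), ((E j : ℚ) : ℂ) • P.coeff j)) := by
  have hterm : ∀ (y : ℂ) (k : ℕ), y ^ k • P.eval (k : T) =
      ∑ j ∈ Finset.range (P.natDegree + 1), ((k : ℂ) ^ j * y ^ k) • P.coeff j := by
    intro y k
    rw [Polynomial.eval_eq_sum_range, Finset.smul_sum]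
    refine Finset.sum_congr rfl fun j _ => ?_
    rw [mul_comm ((k : ℂ) ^ j), mul_smul, mul_comm (P.coeff j), Algebra.smul_def ((k : ℂ) ^ j), map_pow, map_natCast]
  have hsum : ∀ y : ℂ, ‖y‖ < 1 → ∀ j, Summable fun k : ℕ => ((k : ℂ) ^ j * y ^ k) • P.coeff j := fun y hy j =>
    (summable_pow hy j).smul_const _
  refine ⟨fun y hy => ?_, ?_⟩
  · simp only [hterm]
    exact summable_sum fun j _ => hsum y hy j
  · have hlim := tendsto_finsetSum (Finset.range (P.natDegree + 1)) fun j _ =>
      (tendsto_euler E hE j).smul_const (P.coeff j)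
    have hval : ∑ j ∈ Finset.range (P.natDegree + 1), ((E j : ℂ) / 2) • P.coeff j =
        (2 : ℂ)⁻¹ • ∑ j ∈ Finset.range (P.natDegree + 1), ((E j : ℚ) : ℂ) • P.coeff j := by
      rw [Finset.smul_sum]
      exact Finset.sum_congr rfl fun j _ => by rw [smul_smul, div_eq_inv_mul]
    rw [hval] at hlim
    refine hlim.congr' (eventually_nhdsWithin_of_forall fun y hyI => ?_)
    have hn : ‖(y : ℂ)‖ < 1 := by rw [Complex.norm_real, Real.norm_eq_abs, abs_lt]; exact hyI
    simp only [hterm]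
    rw [Summable.tsum_finsetSum fun j _ => hsum _ hn j]
    exact Finset.sum_congr rfl fun j _ => ((summable_pow hn j).tsum_smul_const (P.coeff j)).symm

end Groth.Agent.S17878
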