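import Mathlib
import Groth.Statements.S17881
-- import your own Groth.Agent.* helpers here

set_option autoImplicit false
universe u
open CAlg

namespace Groth.Agent.S17881

/-- Let O be a subring of a nontrivial commutative ring A. The following are equivalent: (i) A is a
local ring, every non-unit of A belongs to O, and for every unit u of A one of u, u⁻¹ belongs to O —
equivalently O is the preimage in the local ring A of a valuation ring of the residue field of A,
which makes O a semi-valuation ring with semi-fraction ring A; (ii) for all f, g in A generating the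
unit ideal, either f ∈ gO or g ∈ fO. (A is taken nontrivial: over the zero ring (ii) holds and (i)
fails.) -/
theorem result (A : Type u) [CommRing A] [Nontrivial A]
    (O : Subring A) :
    (IsLocalRing A ∧ (∀ a : A, ¬ IsUnit a → a ∈ O) ∧ (∀ u : Aˣ, (u : A) ∈ O ∨ ((u⁻¹ : Aˣ) : A) ∈ O)) ↔
      ∀ f g : A, IsCoprime f g → (∃ o ∈ O, f = g * o) ∨ (∃ o ∈ O, g = f * o) := by
  constructor
  · rintro ⟨hloc, hnon, hunit⟩ f g ⟨a, b, hab⟩
    have step : ∀ f g : A, IsUnit g → (∃ o ∈ O, f = g * o) ∨ (∃ o ∈ O, g = f * o) := by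
      rintro f _ ⟨g, rfl⟩
      by_cases hc : f * ((g⁻¹ : Aˣ) : A) ∈ O
      · exact Or.inl ⟨_, hc, by rw [mul_left_comm, Units.mul_inv, mul_one]⟩
      · obtain ⟨c, hc'⟩ := not_imp_comm.1 (hnon _) hc
        refine Or.inr ⟨((c⁻¹ : Aˣ) : A), (hunit c).resolve_left (hc' ▸ hc), ?_⟩
        have : (c : A) * g = f := by rw [hc', mul_assoc, Units.inv_mul, mul_one]
        rw [← this, mul_comm (c : A), mul_assoc, Units.mul_inv, mul_one]
    rcases IsLocalRing.isUnit_or_isUnit_of_add_one hab with h | h
    · exact (step g f (isUnit_of_mul_isUnit_right h)).symm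
    · exact step f g (isUnit_of_mul_isUnit_right h)
  · intro h
    refine ⟨IsLocalRing.of_isUnit_or_isUnit_one_sub_self fun a => ?_, fun a ha => ?_, fun u => ?_⟩
    · rcases h a (1 - a) ⟨1, 1, by ring⟩ with ⟨o, -, ho⟩ | ⟨o, -, ho⟩
      · exact Or.inr (IsUnit.of_mul_eq_one (1 + o) (by linear_combination (-1 : A) * ho))
      · exact Or.inl (IsUnit.of_mul_eq_one (1 + o) (by linear_combination (-1 : A) * ho))
    · rcases h a 1 isCoprime_one_right with ⟨o, ho, e⟩ | ⟨o, -, e⟩
      · rwa [e, one_mul]
      · exact absurd (IsUnit.of_mul_eq_one o e.symm) ha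
    · rcases h (u : A) 1 isCoprime_one_right with ⟨o, ho, e⟩ | ⟨o, ho, e⟩
      · exact Or.inl (by rwa [e, one_mul])
      · refine Or.inr ?_
        have : ((u⁻¹ : Aˣ) : A) = o := Units.inv_eq_of_mul_eq_one_right e.symm
        rwa [this]

end Groth.Agent.S17881
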