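import Mathlib
import Groth.Statements.S17882
-- import your own Groth.Agent.* helpers here

set_option autoImplicit false
universe u
open CAlg

namespace Groth.Agent.S17882

/-- Let B be a commutative ring, r ≥ 1, N a finitely generated submodule of B^r, and n_1, …, n_r ∈ N.
Suppose the determinant of the matrix with rows n_1, …, n_r is a nonzerodivisor of B and that the
determinant of every matrix whose rows lie in N is a multiple of it (the image of the top exterior
power of N in that of B^r ≅ B is the principal ideal generated by n_1 ∧ ⋯ ∧ n_r, a nonzerodivisor).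
Then n_1, …, n_r are linearly independent over B and span N: N is free of rank r with this basis. -/
theorem result (B : Type u) [CommRing B] (r : ℕ) (hr : 0 < r)
    (N : Submodule B (Fin r → B)) (hN : N.FG) (n : Fin r → (Fin r → B)) (hn : ∀ i, n i ∈ N)
    (hgen : ∀ m : Fin r → (Fin r → B), (∀ i, m i ∈ N) →
      Matrix.det (Matrix.of m) ∈ Ideal.span {Matrix.det (Matrix.of n)})
    (hnzd : Matrix.det (Matrix.of n) ∈ nonZeroDivisors B) :
    LinearIndependent B n ∧ Submodule.span B (Set.range n) = N := by
  classical
  set M := Matrix.of n with hM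
  set d := M.det with hd
  have hreg : ∀ x : B, d * x = 0 → x = 0 := fun x hx => hnzd.1 x hx
  refine ⟨?_, le_antisymm (Submodule.span_le.2 (by rintro _ ⟨i, rfl⟩; exact hn i)) fun m hm => ?_⟩
  · rw [Fintype.linearIndependent_iff]
    intro g hg i
    have h1 : Matrix.vecMul g M = 0 := by rw [Matrix.vecMul_eq_sum]; exact hg
    have h2 : Matrix.vecMul g (M * M.adjugate) = 0 := by rw [← Matrix.vecMul_vecMul, h1, Matrix.zero_vecMul]
    rw [Matrix.mul_adjugate, Matrix.vecMul_smul, Matrix.vecMul_one] at h2
    exact hreg _ (congrFun h2 i)
  · have hc : ∀ i, ∃ a, M.transpose.cramer m i = d * a := fun i => by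
      rw [Matrix.cramer_apply, ← Matrix.det_transpose]
      have h := hgen (Function.update n i m) (fun j => by
        rcases eq_or_ne j i with rfl | hji
        · simpa using hm
        · rw [Function.update_of_ne hji]; exact hn j)
      obtain ⟨a, ha⟩ := Ideal.mem_span_singleton.1 h
      refine ⟨a, ?_⟩
      rw [← ha]
      congr 1
      ext j l
      rcases eq_or_ne j i with rfl | hji
      · simp [hM]
      · simp [hM, hji]
    choose a ha using hc
    have h3 := Matrix.mulVec_cramer M.transpose m
    rw [Matrix.det_transpose, Matrix.mulVec_transpose, Matrix.vecMul_eq_sum] at h3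
    rw [Submodule.mem_span_range_iff_exists_fun]
    refine ⟨a, funext fun l => sub_eq_zero.1 (hreg _ ?_)⟩
    have h4 := congrFun h3 l
    simp only [Finset.sum_apply, Pi.smul_apply, smul_eq_mul, Matrix.row_apply, ha, hM, Matrix.of_apply] at h4
    simp only [Finset.sum_apply, Pi.smul_apply, smul_eq_mul, mul_sub, Finset.mul_sum]
    rw [show d * m l = M.det * m l from rfl, ← h4, sub_eq_zero]
    refine Finset.sum_congr rfl fun i _ => ?_
    have ha' : (Matrix.of n).transpose.cramer m i = d * a i := ha i
    rw [ha']; ring

end Groth.Agent.S17882
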