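import Groth.Statements.S17887
import Groth.Agent.AdmBlowUp.Extra
import Groth.Agent.BlowUpLib.Proper
import Groth.Agent.ModPairBasic.Core
-- import your own Groth.Agent.* helpers here

set_option autoImplicit false
universe u
open CategoryTheory AlgebraicGeometry
open BlowUp

namespace Groth.Agent.S17887

/-- Let X be a Noetherian scheme, U ⊆ X an open subscheme that is schematically dense in X, I a
quasi-coherent ideal sheaf on X whose support does not meet U, and π : X' → X a blowing-up of X
along I. Then π⁻¹(U) is schematically dense in X'. -/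
theorem result {X X' : Scheme.{u}} [IsNoetherian X]
    (U : X.Opens) [IsSchemeTheoreticallyDominant U.ι] (𝓘 : X.IdealSheafData)
    (hU : Disjoint (𝓘.support : Set X) (U : Set X)) (π : X' ⟶ X) (hπ : BlowUp.IsBlowUp π 𝓘) :
    IsSchemeTheoreticallyDominant (π ⁻¹ᵁ U).ι := by
    have hft : BlowUp.IsFiniteTypeIdeal 𝓘 := fun W => by
      have : IsNoetherianRing Γ(X, W.1) := IsLocallyNoetherian.component_noetherian W
      exact IsNoetherian.noetherian _
    have : IsProper π := Groth.Agent.BlowUpLib.isProper_of_isBlowUp hπ hft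
    have : QuasiCompact (π ⁻¹ᵁ U).ι := MorphismProperty.of_isPullback
      (isPullback_morphismRestrict π U) (inferInstance : QuasiCompact U.ι)
    let A : X.Opens := 𝓘.support.compl
    haveI := Groth.Agent.BlowUpLib.isIso_restrict hπ A (fun x hx => hx)
    rw [isSchemeTheoreticallyDominant_iff]
    refine le_bot_iff.mp fun V f hf => ?_
    rw [Scheme.Hom.ker_apply, RingHom.mem_ker] at hf
    rw [Scheme.IdealSheafData.ideal_bot, Pi.bot_apply, Submodule.mem_bot]
    refine X'.IsSheaf.section_ext fun x hx => ?_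
    obtain ⟨V₁, hxV₁, d, hd0, hD⟩ := hπ.1 x
    obtain ⟨g, g', e, hxg⟩ := exists_basicOpen_le_affine_inter V.2 V₁.2 x ⟨hx, hxV₁⟩
    refine ⟨X'.basicOpen g, X'.basicOpen_le g, hxg, ?_⟩
    rw [map_zero]
    set f₁ := X'.presheaf.map (homOfLE (X'.basicOpen_le g)).op f
    let φ := X'.presheaf.map (homOfLE (e.trans_le (X'.basicOpen_le g'))).op
    have hd : φ d ∈ nonZeroDivisors Γ(X', X'.basicOpen g) := by
      have := Groth.Agent.ModPairBasic.nzd_basicOpen hd0 g'
      have hh : ∀ (W : X'.Opens) (h : W = X'.basicOpen g') (hW : W ≤ V₁.1),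
          X'.presheaf.map (homOfLE hW).op d ∈ nonZeroDivisors Γ(X', W) := by
        rintro W rfl hW; exact this
      exact hh _ e (e.trans_le (X'.basicOpen_le g'))
    let W := X'.basicOpen (φ d)
    have hWA : W ≤ π ⁻¹ᵁ A := by
      intro p hp hps
      have hp1 : p ∈ V₁.1 := (e.trans_le (X'.basicOpen_le g')) (X'.basicOpen_le _ hp)
      have : p ∈ (𝓘.comap π).support := by rw [Scheme.IdealSheafData.support_comap]; exact hps
      rw [Scheme.IdealSheafData.mem_support_iff_of_mem hp1, Scheme.mem_zeroLocus_iff, hD] at this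
      refine this d (Ideal.mem_span_singleton_self d) ?_
      have hp' : p ∈ X'.basicOpen (φ d) := hp
      rw [show X'.basicOpen (φ d) = _ from Scheme.basicOpen_res _ _ _] at hp'
      exact hp'.2
    let q : (W : Scheme.{u}) ⟶ X := W.ι ≫ π
    have : Flat q := by
      have h : q = X'.homOfLE hWA ≫ (π ∣_ A) ≫ A.ι := by
        rw [morphismRestrict_ι, Scheme.homOfLE_ι_assoc]
      rw [h]
      infer_instance
    let k : Limits.pullback U.ι q ⟶ (π ⁻¹ᵁ U : Scheme.{u}) :=
      IsOpenImmersion.lift (π ⁻¹ᵁ U).ι (Limits.pullback.snd U.ι q ≫ W.ι) (by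
        rw [Scheme.Opens.range_ι]
        rintro _ ⟨w, rfl⟩
        show π (W.ι (Limits.pullback.snd U.ι q w)) ∈ (U : Set X)
        rw [← Scheme.Hom.comp_apply, ← Scheme.Hom.comp_apply, ← Limits.pullback.condition, Scheme.Hom.comp_apply]
        exact (Limits.pullback.fst U.ι q w).2)
    have hk : k ≫ (π ⁻¹ᵁ U).ι = Limits.pullback.snd U.ι q ≫ W.ι := IsOpenImmersion.lift_fac _ _ _
    have hres : X'.presheaf.map (homOfLE (X'.basicOpen_le (φ d))).op f₁ = 0 := by
      set f₂ := X'.presheaf.map (homOfLE (X'.basicOpen_le (φ d))).op f₁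
      have h0 : (π ⁻¹ᵁ U).ι.app W f₂ = 0 := by
        have : f₂ = X'.presheaf.map (homOfLE ((X'.basicOpen_le (φ d)).trans (X'.basicOpen_le g))).op f := by
          show X'.presheaf.map _ (X'.presheaf.map _ f) = _
          rw [← ConcreteCategory.comp_apply, ← X'.presheaf.map_comp]
          rfl
        rw [this, ← ConcreteCategory.comp_apply, Scheme.Hom.naturality, ConcreteCategory.comp_apply, hf, map_zero]
      have h1 : (Limits.pullback.snd U.ι q).app (W.ι ⁻¹ᵁ W) (W.ι.app W f₂) = 0 := by
        rw [← ConcreteCategory.comp_apply, ← Scheme.Hom.comp_app, Scheme.Hom.congr_app hk.symm,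
          Scheme.Hom.comp_app]
        show (Limits.pullback U.ι q).presheaf.map _ (k.app _ ((π ⁻¹ᵁ U).ι.app W f₂)) = 0
        rw [h0, map_zero, map_zero]
      have h2 : W.ι.app W f₂ = 0 := (Limits.pullback.snd U.ι q).app_injective _ (h1.trans (map_zero _).symm)
      haveI : IsIso (W.ι.app W) := by
        rw [Scheme.Opens.ι_app_self]
        exact Functor.map_isIso _ _
      exact (ConcreteCategory.bijective_of_isIso (W.ι.app W)).1 (h2.trans (map_zero _).symm)
    have hga : IsAffineOpen (X'.basicOpen g) := V.2.basicOpen g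
    haveI := hga.isLocalization_basicOpen (φ d)
    obtain ⟨⟨_, n, rfl⟩, hn⟩ := (IsLocalization.map_eq_zero_iff (Submonoid.powers (φ d))
      Γ(X', X'.basicOpen (φ d)) f₁).mp hres
    exact (mem_nonZeroDivisors_iff_right.mp (pow_mem hd n)) _ (by rw [mul_comm]; exact hn)

end Groth.Agent.S17887
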