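import Groth.Statements.S17897
import Mathlib
-- import your own Groth.Agent.* helpers here

set_option autoImplicit false
universe u
open CategoryTheory AlgebraicGeometry
open ValCrit

namespace Groth.Agent.S17897

section Aux
theorem exists_map_fromSpec {X : Scheme.{u}} {U : X.Opens} (hU : IsAffineOpen U) {A : CommRingCat.{u}}
    (φ : Spec A ⟶ X) (h : Set.range φ ⊆ U) : ∃ α : Γ(X, U) ⟶ A, Spec.map α ≫ hU.fromSpec = φ :=
  ⟨Spec.preimage (IsOpenImmersion.lift hU.fromSpec φ (by rwa [hU.range_fromSpec])), by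
    rw [Spec.map_preimage, IsOpenImmersion.lift_fac]⟩

theorem range_subset_of_closedPoint {X : Scheme.{u}} (U : X.Opens) {A : CommRingCat.{u}} [IsLocalRing A]
    (φ : Spec A ⟶ X) (h : φ (IsLocalRing.closedPoint A) ∈ U) : Set.range φ ⊆ U := by
  rintro _ ⟨p, rfl⟩
  exact ((IsLocalRing.specializes_closedPoint p).map φ.continuous).mem_open U.2 h

end Aux

/-- Let f : Y → X be a morphism of schemes (not assumed separated), R a valuation ring with fraction
field K, and i : Spec K → Y, φ : Spec R → X with i ≫ f = (Spec K → Spec R) ≫ φ. Let y be the point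
of Y hit by i and g : κ(y) → K the induced embedding, R' = g⁻¹(R) the induced valuation ring of κ(y)
and ρ : R' → R the restriction of g. Then φ factors uniquely through Spec R → Spec R': there is a
unique φ' : Spec R' → X with (Spec ρ) ≫ φ' = φ whose restriction to the generic point Spec κ(y) is
the canonical morphism Spec κ(y) → Y followed by f. (Here y and g are given as data with Spec g
followed by Spec κ(y) → Y equal to i, and ρ as data by its defining equation.) -/
theorem result {X Y : Scheme.{u}} (f : Y ⟶ X)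
    (K : Type u) [Field K] (R : ValuationSubring K)
    (i : Spec (CommRingCat.of K) ⟶ Y) (φ : Spec (CommRingCat.of ↥R) ⟶ X)
    (w : Spec.map (CommRingCat.ofHom R.subtype) ≫ φ = i ≫ f)
    (y : Y) (g : Y.residueField y ⟶ CommRingCat.of K) (hg : Spec.map g ≫ Y.fromSpecResidueField y = i)
    (ρ : ↥(R.comap g.hom) →+* ↥R)
    (hρ : ∀ x : ↥(R.comap g.hom), ((ρ x : ↥R) : K) = g.hom (x : ↑(Y.residueField y))) :
    ∃! φ' : Spec (CommRingCat.of ↥(R.comap g.hom)) ⟶ X,
      Spec.map (CommRingCat.ofHom ρ) ≫ φ' = φ ∧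
      Spec.map (CommRingCat.ofHom (R.comap g.hom).subtype) ≫ φ' = Y.fromSpecResidueField y ≫ f := by
  haveI : IsLocalHom ρ := ⟨fun x hx => by
    obtain ⟨v, hv⟩ := hx
    have hx0 : g.hom (x : ↑(Y.residueField y)) ≠ 0 := by
      rw [← hρ, ← hv]; exact fun h => v.ne_zero (Subtype.ext h)
    have hne : (x : ↑(Y.residueField y)) ≠ 0 := fun h => hx0 (by rw [h, map_zero])
    have hmem : (x : ↑(Y.residueField y))⁻¹ ∈ R.comap g.hom := by
      rw [ValuationSubring.mem_comap, map_inv₀, ← hρ, ← hv]
      have : ((↑v : ↥R) : K)⁻¹ = ((↑v⁻¹ : ↥R) : K) := inv_eq_of_mul_eq_one_right (by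
        rw [← MulMemClass.coe_mul, Units.mul_inv]; rfl)
      rw [this]
      exact Subtype.mem _
    exact IsUnit.of_mul_eq_one ⟨_, hmem⟩ (Subtype.ext (mul_inv_cancel₀ hne))⟩
  obtain ⟨U, hU, hxU, -⟩ := exists_isAffineOpen_mem_and_subset
    (x := φ (IsLocalRing.closedPoint (CommRingCat.of ↥R))) (U := ⊤) trivial
  obtain ⟨α, hα⟩ := exists_map_fromSpec hU φ (range_subset_of_closedPoint U φ hxU)
  have hfy : f y ∈ U := by
    let o : Spec (CommRingCat.of K) := IsLocalRing.closedPoint (CommRingCat.of K)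
    have e : f y = φ (Spec.map (CommRingCat.ofHom R.subtype) o) := by
      rw [← Scheme.Hom.comp_apply, w, Scheme.Hom.comp_apply, ← hg, Scheme.Hom.comp_apply,
        Scheme.fromSpecResidueField_apply]
    rw [e]
    exact range_subset_of_closedPoint U φ hxU ⟨_, rfl⟩
  obtain ⟨β, hβ⟩ := exists_map_fromSpec hU (Y.fromSpecResidueField y ≫ f) (by
    rintro _ ⟨p, rfl⟩
    rw [Scheme.Hom.comp_apply, Scheme.fromSpecResidueField_apply]
    exact hfy)
  have key : β ≫ g = α ≫ CommRingCat.ofHom R.subtype := by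
    apply Spec.map_injective
    rw [← cancel_mono hU.fromSpec, Spec.map_comp, Spec.map_comp, Category.assoc, Category.assoc, hα, hβ, w,
      ← hg, Category.assoc]
  have hmem : ∀ a, β.hom a ∈ R.comap g.hom := fun a => by
    rw [ValuationSubring.mem_comap]
    have := RingHom.congr_fun (congrArg CommRingCat.Hom.hom key) a
    rw [show g.hom (β.hom a) = _ from this]
    exact Subtype.mem _
  let γ : Γ(X, U) ⟶ CommRingCat.of ↥(R.comap g.hom) :=
    CommRingCat.ofHom (RingHom.codRestrict β.hom (R.comap g.hom).toSubring hmem)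
  have hγs : γ ≫ CommRingCat.ofHom (R.comap g.hom).subtype = β := rfl
  have hγρ : γ ≫ CommRingCat.ofHom ρ = α := by
    refine CommRingCat.hom_ext (RingHom.ext fun a => Subtype.ext ?_)
    show ((ρ (γ.hom a) : ↥R) : K) = _
    rw [hρ]
    exact RingHom.congr_fun (congrArg CommRingCat.Hom.hom key) a
  refine ⟨Spec.map γ ≫ hU.fromSpec, ⟨?_, ?_⟩, ?_⟩
  · rw [← Category.assoc, ← Spec.map_comp, hγρ, hα]
  · rw [← Category.assoc, ← Spec.map_comp, hγs, hβ]
  · rintro φ' ⟨h1, h2⟩
    obtain ⟨δ, hδ⟩ := exists_map_fromSpec hU φ' (range_subset_of_closedPoint U φ' (by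
      rw [← IsLocalRing.comap_closedPoint ρ]
      show φ' (Spec.map (CommRingCat.ofHom ρ) _) ∈ U
      rw [← Scheme.Hom.comp_apply, h1]
      exact hxU))
    have hd : δ ≫ CommRingCat.ofHom (R.comap g.hom).subtype = β := by
      apply Spec.map_injective
      rw [← cancel_mono hU.fromSpec, Spec.map_comp, Category.assoc, hδ, h2, hβ]
    have : δ = γ := CommRingCat.hom_ext (RingHom.ext fun a => Subtype.ext
      (RingHom.congr_fun (congrArg CommRingCat.Hom.hom (hd.trans hγs.symm)) a))
    rw [← hδ, this]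

end Groth.Agent.S17897
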