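import Groth.Statements.S17900
import Groth.Agent.TFun.Flat
-- import your own Groth.Agent.* helpers here

set_option autoImplicit false
universe u
open TensorProduct
open Pinch

namespace Groth.Agent.S17900

/-- Let R be a commutative ring and let B' → B → A, B' → A' → A be a commutative square of R-algebras
which is a fibre square (B' = B ×_A A') with A' → A surjective. If B, A' and A are flat over R then
B' is flat over R. -/
theorem result (R B' B A' A : Type u) [CommRing R] [CommRing B'] [CommRing B] [CommRing A'] [CommRing A]
    [Algebra B' B] [Algebra B' A'] [Algebra B A] [Algebra A' A] [Algebra B' A]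
    [IsScalarTower B' B A] [IsScalarTower B' A' A]
    [Algebra R B'] [Algebra R B] [Algebra R A'] [Algebra R A]
    [IsScalarTower R B' B] [IsScalarTower R B' A'] [IsScalarTower R B' A] [IsScalarTower R B A] [IsScalarTower R A' A]
    (hsq : EtMil.IsFibreSquare B' B A' A)
    [Module.Flat R B] [Module.Flat R A'] [Module.Flat R A] :
    Module.Flat R B' := by
  let f : B' →ₗ[R] B × A' := LinearMap.prod (IsScalarTower.toAlgHom R B' B).toLinearMap
    (IsScalarTower.toAlgHom R B' A').toLinearMap
  let g : B × A' →ₗ[R] A := (IsScalarTower.toAlgHom R B A).toLinearMap ∘ₗ LinearMap.fst R B A' -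
    (IsScalarTower.toAlgHom R A' A).toLinearMap ∘ₗ LinearMap.snd R B A'
  have hg : Function.Surjective g := fun a => by
    obtain ⟨a', ha'⟩ := hsq.1 a
    exact ⟨(0, -a'), by simp [g, ha']⟩
  have hcomm : ∀ x : B', algebraMap B A (algebraMap B' B x) = algebraMap A' A (algebraMap B' A' x) := fun x => by
    rw [← IsScalarTower.algebraMap_apply, ← IsScalarTower.algebraMap_apply]
  have hex : Function.Exact f g := by
    rintro ⟨b, a'⟩
    constructor
    · intro h
      have h' : algebraMap B A b = algebraMap A' A a' := sub_eq_zero.1 h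
      obtain ⟨x, ⟨hx1, hx2⟩, -⟩ := hsq.2 b a' h'
      exact ⟨x, Prod.ext hx1 hx2⟩
    · rintro ⟨x, hx⟩
      rw [← hx]
      show algebraMap B A (algebraMap B' B x) - algebraMap A' A (algebraMap B' A' x) = 0
      rw [hcomm, sub_self]
  have hf : Function.Injective f := fun x y hxy => by
    have h1 : algebraMap B' B x = algebraMap B' B y := congrArg Prod.fst hxy
    have h2 : algebraMap B' A' x = algebraMap B' A' y := congrArg Prod.snd hxy
    obtain ⟨z, -, huniq⟩ := hsq.2 _ _ (hcomm x)
    exact (huniq x ⟨rfl, rfl⟩).trans (huniq y ⟨h1.symm, h2.symm⟩).symm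
  haveI : Module.Flat R (B × A') := Groth.Agent.TFun.flat_middle (g := LinearMap.inl R B A')
    LinearMap.inl_injective Function.Exact.inl_snd Prod.snd_surjective
  exact Groth.Agent.TFun.flat_left (g := f) hf hex hg

end Groth.Agent.S17900
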