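import Groth.Statements.S17901
import Groth.Agent.EtMilLib.Glue
import Groth.Agent.EtMilLib.Pushout

set_option autoImplicit false
universe u
open TensorProduct
open Pinch

namespace Groth.Agent.S17901

/-- Let R be a commutative ring and let B' → B → A, B' → A' → A be a fibre square of R-algebras (B' = B
×_A A') with A' → A surjective, where B, A' and A are flat over R. Then for every commutative
R-algebra R' the square obtained by applying R' ⊗_R − is again a fibre square: R' ⊗_R A' → R' ⊗_R A
is surjective and every pair of elements of R' ⊗_R B and R' ⊗_R A' with the same image in R' ⊗_R A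
is the image of a unique element of R' ⊗_R B'. (The published lemma concludes that the base-changed
square of spectra is co-cartesian in ringed spaces; this row states the ring form, surjective edge
and fibre product, which its proof establishes before translating it to ringed spaces.) -/
theorem result (R B' B A' A : Type u) [CommRing R] [CommRing B'] [CommRing B] [CommRing A'] [CommRing A]
    [Algebra B' B] [Algebra B' A'] [Algebra B A] [Algebra A' A] [Algebra B' A]
    [IsScalarTower B' B A] [IsScalarTower B' A' A]
    [Algebra R B'] [Algebra R B] [Algebra R A'] [Algebra R A]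
    [IsScalarTower R B' B] [IsScalarTower R B' A'] [IsScalarTower R B' A] [IsScalarTower R B A] [IsScalarTower R A' A]
    (hsq : EtMil.IsFibreSquare B' B A' A)
    [Module.Flat R B] [Module.Flat R A'] [Module.Flat R A]
    (R' : Type u) [CommRing R'] [Algebra R R'] :
    Function.Surjective (Algebra.TensorProduct.map (AlgHom.id R R') (IsScalarTower.toAlgHom R A' A)) ∧
    ∀ (x : R' ⊗[R] B) (y : R' ⊗[R] A'),
      Algebra.TensorProduct.map (AlgHom.id R R') (IsScalarTower.toAlgHom R B A) x =
        Algebra.TensorProduct.map (AlgHom.id R R') (IsScalarTower.toAlgHom R A' A) y →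
      ∃! z : R' ⊗[R] B',
        Algebra.TensorProduct.map (AlgHom.id R R') (IsScalarTower.toAlgHom R B' B) z = x ∧
        Algebra.TensorProduct.map (AlgHom.id R R') (IsScalarTower.toAlgHom R B' A') z = y := by
  set gB := (IsScalarTower.toAlgHom R B A).toLinearMap
  set gA := (IsScalarTower.toAlgHom R A' A).toLinearMap
  let g : B × A' →ₗ[R] A := gB.comp (LinearMap.fst R B A') - gA.comp (LinearMap.snd R B A')
  let f : B' →ₗ[R] B × A' :=
    (IsScalarTower.toAlgHom R B' B).toLinearMap.prod (IsScalarTower.toAlgHom R B' A').toLinearMap
  have hg : Function.Surjective g := fun a => by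
    obtain ⟨a', ha'⟩ := hsq.1 (-a)
    exact ⟨(0, a'), by simp [g, gA, ha']⟩
  have hf : Function.Injective f := fun x y h => Groth.Agent.EtMilLib.eq_of_both hsq
    (congr_arg Prod.fst h) (congr_arg Prod.snd h)
  have hex : Function.Exact f g := fun x => by
    constructor
    · intro h
      obtain ⟨b', ⟨h1, h2⟩, -⟩ := hsq.2 x.1 x.2 (sub_eq_zero.1 (by simpa [g, gB, gA] using h))
      exact ⟨b', Prod.ext h1 h2⟩
    · rintro ⟨b', rfl⟩
      simp [g, f, gB, gA, ← IsScalarTower.algebraMap_apply]
  refine ⟨?_, fun x y hxy => ?_⟩
  · exact LinearMap.lTensor_surjective R' (g := gA) hsq.1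
  have hinj : Function.Injective (f.lTensor R') :=
    LinearMap.lTensor_injective_of_exact_of_flat g hg f hf hex R'
  have hexT := lTensor_exact R' hex hg
  let e := TensorProduct.prodRight R R R' B A'
  have hcomp : ∀ z, e (f.lTensor R' z) =
      (Algebra.TensorProduct.map (AlgHom.id R R') (IsScalarTower.toAlgHom R B' B) z,
        Algebra.TensorProduct.map (AlgHom.id R R') (IsScalarTower.toAlgHom R B' A') z) := fun z => by
    induction z using TensorProduct.induction_on with
    | zero => simp only [map_zero]; rfl
    | add a b ha hb => simp only [map_add, ha, hb, Prod.mk_add_mk]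
    | tmul r b => simp [e, f]
  have hg' : ∀ w, g.lTensor R' w =
      Algebra.TensorProduct.map (AlgHom.id R R') (IsScalarTower.toAlgHom R B A) (e w).1 -
        Algebra.TensorProduct.map (AlgHom.id R R') (IsScalarTower.toAlgHom R A' A) (e w).2 := fun w => by
    induction w using TensorProduct.induction_on with
    | zero => simp
    | add a b ha hb => simp only [map_add, Prod.fst_add, Prod.snd_add, ha, hb]; abel
    | tmul r b => simp [e, g, gA, gB, TensorProduct.tmul_sub]
  obtain ⟨z, hz⟩ := (hexT (e.symm (x, y))).1 (by
    rw [hg', LinearEquiv.apply_symm_apply, hxy, sub_self])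
  have hz' := congr_arg e hz
  rw [hcomp, LinearEquiv.apply_symm_apply] at hz'
  refine ⟨z, ⟨congr_arg Prod.fst hz', congr_arg Prod.snd hz'⟩, fun z' hz'' => hinj (e.injective ?_)⟩
  rw [hcomp, hcomp, hz''.1, hz''.2, hz']

end Groth.Agent.S17901
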