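import Groth.Statements.S17902
import Mathlib
-- import your own Groth.Agent.* helpers here

set_option autoImplicit false
universe u
open CAlg

namespace Groth.Agent.S17902

open PrimeSpectrum in
theorem chart {A : Type u} [CommRing A] {M : Type u} [AddCommGroup M] [Module A M] {n : ℕ} {g : A}
    (b : Module.Basis (Fin n) (Localization.Away g) (LocalizedModule (Submonoid.powers g) M)) :
    ∃ m : Fin n → M, (∀ x : M, ∃ r ∈ Submonoid.powers g, r • x ∈ Submodule.span A (Set.range m)) ∧
      ∀ a : Fin n → A, ∑ j, a j • m j = 0 → ∀ j, ∃ t ∈ Submonoid.powers g, t * a j = 0 := by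
  classical
  let S := Submonoid.powers g
  let f := LocalizedModule.mkLinearMap S M
  choose md hd using fun j => IsLocalizedModule.surj S f (b j)
  refine ⟨fun j => (md j).1, fun x => ?_, fun a ha j => ?_⟩
  · obtain ⟨a, ha⟩ := IsLocalization.exist_integer_multiples_of_finite S
      (R := A) (fun j => b.repr (f x) j)
    choose r hr using ha
    let D : A := ∏ j, ((md j).2 : A)
    have key : f (((a : A) * D) • x) =
        f (∑ j, (r j * ∏ i ∈ Finset.univ.erase j, ((md i).2 : A)) • (md j).1) := by
      conv_lhs => rw [map_smul, ← b.sum_repr (f x)]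
      rw [map_sum, Finset.smul_sum]
      refine Finset.sum_congr rfl fun j _ => ?_
      have e1 : (a : A) • (b.repr (f x) j • b j) = r j • b j := by
        rw [← smul_assoc, ← hr j, algebraMap_smul]
      have e2 : D = (∏ i ∈ Finset.univ.erase j, ((md i).2 : A)) * (md j).2 :=
        (Finset.prod_erase_mul _ _ (Finset.mem_univ j)).symm
      rw [map_smul, ← hd j, Submonoid.smul_def, smul_smul, mul_comm (a : A) D, mul_smul, e1, smul_smul,
        e2]
      congr 1
      ring
    obtain ⟨t, ht⟩ := IsLocalizedModule.exists_of_eq (S := S) key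
    simp only [Submonoid.smul_def, smul_smul] at ht
    refine ⟨(t : A) * ((a : A) * D), S.mul_mem t.2 (S.mul_mem a.2 (Submonoid.prod_mem _ fun j _ => (md j).2.2)), ?_⟩
    rw [ht]
    exact Submodule.smul_mem _ _ (Submodule.sum_mem _ fun i _ =>
      Submodule.smul_mem _ _ (Submodule.subset_span ⟨i, rfl⟩))
  · have h0 : ∑ j, (algebraMap A (Localization.Away g) (a j * ((md j).2 : A))) • b j = 0 := by
      rw [← map_zero f, ← ha, map_sum]
      refine Finset.sum_congr rfl fun j _ => ?_
      rw [map_smul, ← hd j, Submonoid.smul_def, algebraMap_smul, mul_smul]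
    have h1 := Fintype.linearIndependent_iff.1 b.linearIndependent _ h0 j
    obtain ⟨t, ht⟩ := (IsLocalization.map_eq_zero_iff S _ _).1 h1
    exact ⟨_, S.mul_mem t.2 (md j).2.2, by rw [← ht]; ring⟩

/-- Let A be a commutative ring, M a finitely generated projective A-module, n a natural number and P a
finite set of prime ideals of A such that for every p in P there is g outside p with M_g free of
rank n over A_g. Then there exist n elements of M and an open subset U of Spec A containing P such
that for every prime q in U the images of these elements in M_q form a basis of M_q over A_q. (The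
published conclusion is that the associated sheaf is free of rank n on some open neighbourhood of P;
the form given here, with n global elements of M, is what its proof produces.) -/
theorem result (A : Type u) [CommRing A] (M : Type u) [AddCommGroup M] [Module A M]
    [Module.Finite A M] [Module.Projective A M] (n : ℕ) (P : Finset (PrimeSpectrum A))
    (hP : ∀ p ∈ P, ∃ g : A, g ∉ p.asIdeal ∧
      Nonempty (Module.Basis (Fin n) (Localization.Away g) (LocalizedModule (Submonoid.powers g) M))) :
    ∃ (s : Fin n → M) (U : Set (PrimeSpectrum A)), IsOpen U ∧ (∀ p ∈ P, p ∈ U) ∧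
      ∀ q ∈ U,
        LinearIndependent (Localization.AtPrime q.asIdeal)
            (fun j => LocalizedModule.mkLinearMap q.asIdeal.primeCompl M (s j)) ∧
          Submodule.span (Localization.AtPrime q.asIdeal)
            (Set.range fun j => LocalizedModule.mkLinearMap q.asIdeal.primeCompl M (s j)) = ⊤ := by
  classical
  choose g hg hb using hP
  choose m hm1 hm2 using fun p hp => chart (hb p hp).some
  let Pm := P.filter fun p => Maximal (· ∈ P) p
  have hsub : ∀ {p}, p ∈ Pm → p ∈ P := fun h => (Finset.mem_filter.1 h).1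
  have he : ∀ p : PrimeSpectrum A, ∃ e : A, e ∉ p.asIdeal ∧ ∀ q ∈ P, ¬ q ≤ p → e ∈ q.asIdeal := by
    intro p
    have ha : ∀ q : PrimeSpectrum A, ∃ a : A, a ∉ p.asIdeal ∧ (¬ q ≤ p → a ∈ q.asIdeal) := by
      intro q
      by_cases h : q ≤ p
      · exact ⟨1, p.asIdeal.one_notMem, fun h' => absurd h h'⟩
      · obtain ⟨a, ha1, ha2⟩ := (SetLike.not_le_iff_exists (p := q.asIdeal) (q := p.asIdeal)).1 h
        exact ⟨a, ha2, fun _ => ha1⟩
    choose a ha1 ha2 using ha
    exact ⟨∏ q ∈ P, a q, (Submonoid.prod_mem p.asIdeal.primeCompl fun q _ => ha1 q),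
      fun q hq h => Ideal.mem_of_dvd _ (Finset.dvd_prod_of_mem a hq) (ha2 q h)⟩
  choose e he1 he2 using he
  let s : Fin n → M := fun j => ∑ p ∈ Pm.attach, e p.1 • m p.1 (hsub p.2) j
  let N := Submodule.span A (Set.range s)
  have hmax : ∀ p ∈ Pm, p ∉ Module.support A (M ⧸ N) := by
    intro p hp hsupp
    have h2 : p ∈ Module.support A ((M ⧸ N) ⧸ (p.asIdeal • ⊤ : Submodule A (M ⧸ N))) := by
      rw [Module.support_quotient]
      exact ⟨hsupp, fun x hx => hx⟩
    refine (Module.notMem_support_iff'.2 fun y => ?_) h2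
    obtain ⟨y, rfl⟩ := Submodule.Quotient.mk_surjective _ y
    obtain ⟨x, rfl⟩ := Submodule.Quotient.mk_surjective _ y
    obtain ⟨r, hr, hrx⟩ := hm1 p (hsub hp) x
    refine ⟨e p * r, ?_, ?_⟩
    · apply p.asIdeal.primeCompl.mul_mem (he1 p)
      have hg' : g p (hsub hp) ∈ p.asIdeal.primeCompl := hg p (hsub hp)
      exact (Submonoid.powers_le.2 hg') hr
    rw [← Submodule.Quotient.mk_smul, Submodule.Quotient.mk_eq_zero, ← Submodule.Quotient.mk_smul,
      mul_smul]
    suffices h : Submodule.span A (Set.range (m p (hsub hp))) ≤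
        ((p.asIdeal • ⊤ : Submodule A (M ⧸ N)).comap N.mkQ).comap (LinearMap.lsmul A M (e p)) by
      exact h hrx
    rw [Submodule.span_le]
    rintro _ ⟨j, rfl⟩
    change Submodule.Quotient.mk (e p • m p (hsub hp) j) ∈ (p.asIdeal • ⊤ : Submodule A (M ⧸ N))
    have hs : s j = e p • m p (hsub hp) j +
        ∑ q ∈ Pm.attach.erase ⟨p, hp⟩, e q.1 • m q.1 (hsub q.2) j :=
      (Finset.add_sum_erase Pm.attach (fun q => e q.1 • m q.1 (hsub q.2) j)
        (Finset.mem_attach _ ⟨p, hp⟩)).symm
    have hz : (Submodule.Quotient.mk (s j) : M ⧸ N) = 0 :=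
      (Submodule.Quotient.mk_eq_zero _).2 (Submodule.subset_span ⟨j, rfl⟩)
    rw [hs, Submodule.Quotient.mk_add, add_eq_zero_iff_eq_neg] at hz
    rw [hz]
    refine Submodule.neg_mem _ ?_
    rw [← Submodule.mkQ_apply, map_sum]
    refine Submodule.sum_mem _ fun q hq => ?_
    rw [map_smul]
    refine Submodule.smul_mem_smul (he2 q.1 p (hsub hp) fun hle => ?_) Submodule.mem_top
    have : p = q.1 := le_antisymm hle ((Finset.mem_filter.1 hp).2.2 (hsub q.2) hle)
    exact (Finset.mem_erase.1 hq).1 (Subtype.ext this.symm)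
  refine ⟨s, (Module.support A (M ⧸ N))ᶜ ∩
      ⋃ p : {p // p ∈ P}, ↑(PrimeSpectrum.basicOpen (g p.1 p.2)),
    Module.isClosed_support.isOpen_compl.inter (isOpen_iUnion fun p => (PrimeSpectrum.basicOpen _).2),
    fun p hp => ⟨?_, Set.mem_iUnion.2 ⟨⟨p, hp⟩, hg p hp⟩⟩, ?_⟩
  · intro h
    obtain ⟨p', hle, hp'⟩ := P.exists_le_maximal hp
    exact hmax p' (Finset.mem_filter.2 ⟨hp'.1, hp'⟩) (Module.mem_support_mono hle h)
  rintro q ⟨hq1, hq2⟩
  obtain ⟨⟨p, hp⟩, hqp⟩ := Set.mem_iUnion.1 hq2
  have hpow : Submonoid.powers (g p hp) ≤ q.asIdeal.primeCompl := Submonoid.powers_le.2 hqp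
  let S := q.asIdeal.primeCompl
  let f := LocalizedModule.mkLinearMap S M
  let Aq := Localization.AtPrime q.asIdeal
  have hspan : ∀ v : Fin n → M,
      (∀ x : M, ∃ r ∈ S, r • x ∈ Submodule.span A (Set.range v)) →
      Submodule.span Aq (Set.range fun j => f (v j)) = ⊤ := by
    intro v hv
    refine top_unique fun y _ => ?_
    obtain ⟨⟨x, t⟩, hxt⟩ := IsLocalizedModule.surj S f y
    obtain ⟨r, hr, hrx⟩ := hv x
    have h3 : f (r • x) ∈ Submodule.span A (Set.range fun j => f (v j)) := by
      have := Submodule.mem_map_of_mem (f := f) hrx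
      rwa [Submodule.map_span, ← Set.range_comp] at this
    have h4 := Submodule.span_le_restrictScalars A Aq _ h3
    rw [map_smul, ← hxt, Submonoid.smul_def, smul_smul, ← algebraMap_smul Aq] at h4
    exact (Submodule.smul_mem_iff_of_isUnit _
      (IsLocalization.map_units Aq (⟨r * (t : A), S.mul_mem hr t.2⟩ : S))).1 h4
  have hs : ∀ x : M, ∃ r ∈ S, r • x ∈ N := by
    intro x
    obtain ⟨r, hr, hr0⟩ := Module.notMem_support_iff'.1 hq1 (Submodule.Quotient.mk x)
    exact ⟨r, hr, (Submodule.Quotient.mk_eq_zero _).1 hr0⟩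
  have htop := hspan s hs
  refine ⟨?_, htop⟩
  have hli : LinearIndependent Aq (fun j => f (m p hp j)) := by
    rw [Fintype.linearIndependent_iff]
    intro c hc j
    obtain ⟨a, ha⟩ := IsLocalization.exist_integer_multiples_of_finite S (R := A) c
    choose r hr using ha
    have h5 : f (∑ i, r i • m p hp i) = f 0 := by
      rw [map_zero, map_sum, ← smul_zero (a : A), ← hc, Finset.smul_sum]
      refine Finset.sum_congr rfl fun i _ => ?_
      rw [map_smul, ← algebraMap_smul Aq (r i), hr i, smul_assoc]
    obtain ⟨t, ht⟩ := IsLocalizedModule.exists_of_eq (S := S) h5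
    rw [Submonoid.smul_def, Submonoid.smul_def, Finset.smul_sum, smul_zero] at ht
    simp only [smul_smul] at ht
    obtain ⟨u, hu, hu0⟩ := hm2 p hp _ ht j
    have h6 : algebraMap A Aq (r j) = 0 := (IsLocalization.map_eq_zero_iff S Aq _).2
      ⟨⟨u * (t : A), S.mul_mem (hpow hu) t.2⟩, by rw [← hu0]; ring⟩
    rw [hr j, Algebra.smul_def] at h6
    exact (IsLocalization.map_units Aq a).mul_right_eq_zero.1 h6
  let b := Module.Basis.mk hli (hspan (m p hp) fun x => by
    obtain ⟨r, hr, h⟩ := hm1 p hp x
    exact ⟨r, hpow hr, h⟩).ge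
  have : Module.Finite Aq (LocalizedModule S M) := Module.Finite.of_basis b
  let φ := b.constr Aq (fun j => f (s j))
  have hφ : Function.Surjective φ := by
    rw [← LinearMap.range_eq_top, b.constr_range]
    exact htop
  have := b.linearIndependent.map' φ
    (LinearMap.ker_eq_bot.2 (OrzechProperty.injective_of_surjective_endomorphism φ hφ))
  have heq : φ ∘ b = fun j => f (s j) := funext fun j => b.constr_basis Aq _ j
  rw [heq] at this
  exact this

end Groth.Agent.S17902
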