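import Groth.Statements.S17910
import Mathlib.LinearAlgebra.PiTensorProduct.Basis
import Mathlib.Algebra.Module.Projective
import Mathlib.LinearAlgebra.FreeModule.Basic
set_option linter.style.haveILetI false

set_option autoImplicit false
universe u
open scoped TensorProduct
open SymTen

namespace Groth.Agent.S17910

section
variable {R : Type u} [CommRing R] {d : ℕ}

theorem tprod_mem_altSpan {P : Type u} [AddCommGroup P] [Module R P] (p : Fin d → P) {i j : Fin d}
    (hij : i ≠ j) (h : p i = p j) : PiTensorProduct.tprod R p ∈ SymTen.altSpan R P d :=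
  Submodule.subset_span ⟨p, i, j, hij, h, rfl⟩

theorem tprod_add_swap_mem {P : Type u} [AddCommGroup P] [Module R P] (p : Fin d → P) {i j : Fin d}
    (hij : i ≠ j) :
    PiTensorProduct.tprod R p + PiTensorProduct.tprod R (fun l => p (Equiv.swap i j l)) ∈
      SymTen.altSpan R P d := by
  classical
  let T := (PiTensorProduct.tprod R : MultilinearMap R (fun _ : Fin d => P) _)
  let A : P → P → (⨂[R] _ : Fin d, P) := fun u v => T (Function.update (Function.update p i u) j v)
  have hmem : ∀ u, A u u ∈ SymTen.altSpan R P d := fun u =>
    tprod_mem_altSpan _ hij (by simp [Function.update_apply, hij])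
  have h1 : ∀ u v w, A (u + v) w = A u w + A v w := fun u v w => by
    simp only [A, Function.update_comm hij]
    exact T.map_update_add _ i u v
  have h2 : ∀ u v w, A u (v + w) = A u v + A u w := fun u v w => T.map_update_add _ j v w
  have hp : A (p i) (p j) = T p := by simp [A]
  have hs : A (p j) (p i) = T (fun l => p (Equiv.swap i j l)) := by
    simp only [A]
    congr 1
    funext l
    by_cases hli : l = i
    · subst hli; simp [Function.update_apply, hij]
    by_cases hlj : l = j
    · subst hlj; simp [Function.update_apply]
    simp [Function.update_apply, hli, hlj, Equiv.swap_apply_of_ne_of_ne hli hlj]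
  have key : A (p i) (p j) + A (p j) (p i) =
      A (p i + p j) (p i + p j) - A (p i) (p i) - A (p j) (p j) := by
    rw [h1, h2, h2]; abel
  show T p + T _ ∈ _
  rw [← hp, ← hs, key]
  exact sub_mem (sub_mem (hmem _) (hmem _)) (hmem _)

/-- On a free module a tensor fixed by a transposition is alternating-null. -/
theorem mem_altSpan_of_free {P : Type u} [AddCommGroup P] [Module R P] [Module.Free R P] {i j : Fin d}
    (hij : i ≠ j) (x : ⨂[R] _ : Fin d, P)
    (hx : PiTensorProduct.reindex R (fun _ : Fin d => P) (Equiv.swap i j) x = x) :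
    x ∈ SymTen.altSpan R P d := by
  classical
  let b := Module.Free.chooseBasis R P
  let B := Basis.piTensorProduct (fun _ : Fin d => b)
  let τ := Equiv.swap i j
  let σ : (Fin d → Module.Free.ChooseBasisIndex R P) → (Fin d → Module.Free.ChooseBasisIndex R P) :=
    fun f l => f (τ l)
  have hσσ : ∀ f, σ (σ f) = f := fun f => funext fun l => by simp [σ, τ]
  have hB : ∀ f, PiTensorProduct.reindex R (fun _ : Fin d => P) τ (B f) = B (σ f) := fun f => by
    simp only [B, Basis.piTensorProduct_apply, PiTensorProduct.reindex_tprod]
    rfl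
  have hc : ∀ f, B.repr x (σ f) = B.repr x f := by
    intro f
    have h : (Finsupp.lapply f : (_ →₀ R) →ₗ[R] R) ∘ₗ B.repr.toLinearMap ∘ₗ
        (PiTensorProduct.reindex R (fun _ : Fin d => P) τ).toLinearMap =
        (Finsupp.lapply (σ f) : (_ →₀ R) →ₗ[R] R) ∘ₗ B.repr.toLinearMap := by
      refine B.ext fun g => ?_
      simp only [LinearMap.comp_apply, LinearEquiv.coe_coe, hB, Module.Basis.repr_self, Finsupp.lapply_apply,
        Finsupp.single_apply]
      refine if_congr ⟨fun h => ?_, fun h => ?_⟩ rfl rfl
      · rw [← h, hσσ]
      · rw [h, hσσ]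
    have := LinearMap.congr_fun h x
    simp only [LinearMap.comp_apply, LinearEquiv.coe_coe, Finsupp.lapply_apply] at this
    exact (this.symm.trans (by rw [hx]))
  rw [← Submodule.Quotient.mk_eq_zero, ← B.linearCombination_repr x, Finsupp.linearCombination_apply,
    Finsupp.sum, ← Submodule.mkQ_apply, map_sum]
  refine Finset.sum_involution (fun f _ => σ f) (fun f _ => ?_) (fun f _ hne h => ?_) (fun f hf => ?_)
    (fun f _ => hσσ f)
  · rw [← map_add, hc, ← smul_add, Submodule.mkQ_apply, Submodule.Quotient.mk_eq_zero]
    refine Submodule.smul_mem _ _ ?_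
    simp only [B, Basis.piTensorProduct_apply]
    exact tprod_add_swap_mem (fun l => b (f l)) hij
  · refine hne ?_
    rw [Submodule.mkQ_apply, Submodule.Quotient.mk_eq_zero]
    refine Submodule.smul_mem _ _ ?_
    simp only [B, Basis.piTensorProduct_apply]
    refine tprod_mem_altSpan _ hij (congrArg b ?_)
    have := congrFun h j
    simpa [σ, τ] using this
  · rw [Finsupp.mem_support_iff, hc]; exact Finsupp.mem_support_iff.1 hf

/-- The same for projective modules. -/
theorem mem_altSpan_of_projective {P : Type u} [AddCommGroup P] [Module R P] [Module.Projective R P]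
    {i j : Fin d} (hij : i ≠ j) (x : ⨂[R] _ : Fin d, P)
    (hx : PiTensorProduct.reindex R (fun _ : Fin d => P) (Equiv.swap i j) x = x) :
    x ∈ SymTen.altSpan R P d := by
  obtain ⟨s, hs⟩ := Module.Projective.out (R := R) (P := P)
  let q := Finsupp.linearCombination R (id : P → P)
  have hmap : ∀ {M N : Type u} [AddCommGroup M] [Module R M] [AddCommGroup N] [Module R N] (f : M →ₗ[R] N)
      (y : ⨂[R] _ : Fin d, M), PiTensorProduct.reindex R (fun _ : Fin d => N) (Equiv.swap i j)
        (PiTensorProduct.map (fun _ => f) y) =
        PiTensorProduct.map (fun _ => f) (PiTensorProduct.reindex R (fun _ : Fin d => M) (Equiv.swap i j) y) := by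
    intro M N _ _ _ _ f y
    induction y using PiTensorProduct.induction_on with
    | smul_tprod r v => simp [PiTensorProduct.reindex_tprod, PiTensorProduct.map_tprod]
    | add u v hu hv => simp [hu, hv]
  have h1 : PiTensorProduct.map (fun _ : Fin d => q) (PiTensorProduct.map (fun _ => s) x) = x := by
    rw [← LinearMap.comp_apply, ← PiTensorProduct.map_comp]
    rw [show (fun _ : Fin d => q ∘ₗ s) = fun _ => LinearMap.id from funext fun _ => LinearMap.ext hs,
      PiTensorProduct.map_id, LinearMap.id_apply]
  rw [← h1]
  have hfree := mem_altSpan_of_free hij (PiTensorProduct.map (fun _ => s) x) (by rw [hmap, hx])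
  refine (Submodule.span_le (p := (SymTen.altSpan R P d).comap (PiTensorProduct.map (fun _ : Fin d => q)))).2
    ?_ hfree
  rintro _ ⟨p, k, l, hkl, hp, rfl⟩
  show PiTensorProduct.map (fun _ : Fin d => q) (PiTensorProduct.tprod R p) ∈ SymTen.altSpan R P d
  rw [PiTensorProduct.map_tprod]
  exact tprod_mem_altSpan _ hkl (congrArg q hp)

end


/-- Let R be a commutative ring, A a commutative R-algebra, d ≥ 0, and P an A-module that is finitely
generated projective (finite locally free) as an R-module. Let the d-fold tensor power of A over R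
act on the d-fold tensor power of P over R factor by factor, and let I_d be the R-span of the pure
tensors p_1 ⊗ ⋯ ⊗ p_d with two equal factors p_i = p_j, i ≠ j (the submodule by which the tensor
power is divided to give the d-th exterior power). Then every symmetric tensor a ∈ TS^d_R(A) maps
I_d into itself, so that TS^d_R(A) acts on the d-th exterior power of P over R. -/
theorem result (R : Type u) [CommRing R] (A : Type u) [CommRing A] [Algebra R A]
    (P : Type u) [AddCommGroup P] [Module R P] [Module A P] [IsScalarTower R A P]
    [Module.Finite R P] [Module.Projective R P] (d : ℕ)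
    (a : ⨂[R] _ : Fin d, A) (ha : a ∈ SymTen.TS R A d)
    (x : ⨂[R] _ : Fin d, P) (hx : x ∈ SymTen.altSpan R P d) :
    SymTen.tpowAct R A P d a x ∈ SymTen.altSpan R P d := by
  refine (Submodule.span_le (p := (SymTen.altSpan R P d).comap (SymTen.tpowAct R A P d a))).2 ?_ hx
  rintro _ ⟨p, i, j, hij, hp, rfl⟩
  refine mem_altSpan_of_projective hij _ ?_
  have key : ∀ (t : ⨂[R] _ : Fin d, A),
      PiTensorProduct.reindex R (fun _ : Fin d => P) (Equiv.swap i j)
        (SymTen.tpowAct R A P d t (PiTensorProduct.tprod R p)) =
      SymTen.tpowAct R A P d (PiTensorProduct.reindex R (fun _ : Fin d => A) (Equiv.swap i j) t)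
        (PiTensorProduct.reindex R (fun _ : Fin d => P) (Equiv.swap i j) (PiTensorProduct.tprod R p)) := by
    intro t
    induction t using PiTensorProduct.induction_on with
    | smul_tprod r v =>
      simp only [SymTen.tpowAct, map_smul, LinearMap.smul_apply, PiTensorProduct.reindex_tprod,
        PiTensorProduct.lift.tprod, MultilinearMap.compLinearMap_apply, PiTensorProduct.mapMultilinear_apply,
        PiTensorProduct.map_tprod]
    | add u v hu hv => simp only [map_add, LinearMap.add_apply, hu, hv]
  rw [key, ha (Equiv.swap i j), PiTensorProduct.reindex_tprod]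
  congr 2
  funext l
  rw [Equiv.symm_swap]
  by_cases hli : l = i
  · subst hli; rw [Equiv.swap_apply_left]; exact hp.symm
  by_cases hlj : l = j
  · subst hlj; rw [Equiv.swap_apply_right]; exact hp
  rw [Equiv.swap_apply_of_ne_of_ne hli hlj]

end Groth.Agent.S17910
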