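import Groth.Statements.S17935
import Groth.Agent.MultCrvLib.Ext
import Mathlib.LinearAlgebra.Dual.Lemmas

set_option autoImplicit false
universe u
open MultCrv

namespace Groth.Agent.S17935

/-- Let R be a discrete valuation ring, n ≥ 1, A = R[X]/(X^n), and M a finitely generated A-module. Then
M is reflexive over A (the evaluation map into the double A-dual is bijective) if and only if M is
torsion-free as an R-module. (Statement at a closed point of the sheaf statement on a primitive
multiple curve of multiplicity n, whose local rings are of the form R[X]/(X^n) with R the local ring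
of the reduced smooth curve, torsion-freeness of a coherent sheaf there meaning no nonzero subsheaf
with finite support; stated for every discrete valuation ring R.) -/
theorem result (R : Type u) [CommRing R] [IsDomain R] [IsDiscreteValuationRing R] (n : ℕ) (hn : 1 ≤ n) (M : Type u) [AddCommGroup M] [Module (MultCrv.Rn R n) M] [Module R M] [IsScalarTower R (MultCrv.Rn R n) M] [Module.Finite (MultCrv.Rn R n) M] : Module.IsReflexive (MultCrv.Rn R n) M ↔ Module.IsTorsionFree R M := by
  haveI : Module.Finite R M := MultCrvLib.finite_R (n := n)
  let E := MultCrvLib.dualEquiv (R := R) (n := n) (M := M) hn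
  let EL : Module.Dual (MultCrv.Rn R n) M ≃ₗ[R] Module.Dual R M :=
    { E with
      map_add' := fun f g => LinearMap.ext fun m => by
        show MultCrvLib.tau (f m + g m) = _; rw [map_add]; rfl
      map_smul' := fun r f => LinearMap.ext fun m => by
        show MultCrvLib.tau (r • f m) = _; rw [map_smul]; rfl }
  let E2 := MultCrvLib.dualEquiv (R := R) (n := n) (M := Module.Dual (MultCrv.Rn R n) M) hn
  let Φ : Module.Dual (MultCrv.Rn R n) (Module.Dual (MultCrv.Rn R n) M) ≃ Module.Dual R (Module.Dual R M) :=
    E2.trans EL.symm.dualMap.toEquiv
  have hcomp : ∀ m, Φ (Module.Dual.eval (MultCrv.Rn R n) M m) = Module.Dual.eval R M m := fun m =>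
    LinearMap.ext fun φ => MultCrvLib.tau_formOf hn φ m
  have hiff : Function.Bijective (Module.Dual.eval (MultCrv.Rn R n) M) ↔
      Function.Bijective (Module.Dual.eval R M) := by
    rw [← Φ.bijective.of_comp_iff' (Module.Dual.eval (MultCrv.Rn R n) M)]
    exact iff_of_eq (congrArg Function.Bijective (funext hcomp))
  constructor
  · intro h
    haveI : Module.IsReflexive R M := ⟨hiff.1 h.1⟩
    infer_instance
  · intro h
    exact ⟨hiff.2 (Module.bijective_dual_eval R M)⟩

end Groth.Agent.S17935
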