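import Groth.Statements.S17939
import Groth.Agent.MultCrvLib.Ext
import Mathlib.LinearAlgebra.Dual.Lemmas

set_option autoImplicit false
universe u
open MultCrv

namespace Groth.Agent.S17939

open CategoryTheory in
/-- Let R be a discrete valuation ring, n ≥ 1, A = R[X]/(X^n) with z the class of X, and M, N finitely
generated A-modules. Then for every i ≥ 2, z^(n-1) kills Ext^i_A(M, N). (Statement at a closed point
of the sheaf statement on a primitive multiple curve of multiplicity n, whose local rings are of the
form R[X]/(X^n): the higher local Ext sheaves of coherent sheaves are killed by the (n-1)-st power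
of the ideal of the reduced curve; stated for every discrete valuation ring R.) -/
theorem result (R : Type u) [CommRing R] [IsDomain R] [IsDiscreteValuationRing R] (n : ℕ) (hn : 1 ≤ n) (M N : Type u) [AddCommGroup M] [Module (MultCrv.Rn R n) M] [Module.Finite (MultCrv.Rn R n) M] [AddCommGroup N] [Module (MultCrv.Rn R n) N] [Module.Finite (MultCrv.Rn R n) N] (i : ℕ) (hi : 2 ≤ i) (x : Abelian.Ext (ModuleCat.of (MultCrv.Rn R n) M) (ModuleCat.of (MultCrv.Rn R n) N) i) : (MultCrv.z R n ^ (n - 1)) • x = 0 := by
  obtain ⟨j, rfl⟩ : ∃ j, i = j + 2 := ⟨i - 2, by omega⟩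
  obtain ⟨r, K, e, x0, rfl⟩ := MultCrvLib.exists_tf_kernel (R := R) M x
  haveI : Module.IsTorsionFree R K := Subtype.val_injective.moduleIsTorsionFree _ (fun _ _ => rfl)
  haveI : Module.Finite (MultCrv.Rn R n) K := Module.Finite.iff_fg.2 (IsNoetherian.noetherian K)
  rw [← CategoryTheory.Abelian.Ext.comp_smul, MultCrvLib.pow_smul_ext_eq_zero hn x0, CategoryTheory.Abelian.Ext.comp_zero]

end Groth.Agent.S17939
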