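import Groth.Statements.S17940
import Groth.Agent.MultCrvLib.Filt
import Mathlib.RingTheory.FiniteType
import Mathlib.RingTheory.OrzechProperty

set_option autoImplicit false
universe u
open MultCrv

namespace Groth.Agent.S17940
open MultCrv

variable {R : Type u} [CommRing R] {n : ℕ}

theorem surjective_of_mod_z {M N : Type u} [AddCommGroup M] [Module (Rn R n) M] [AddCommGroup N]
    [Module (Rn R n) N] (φ : M →ₗ[Rn R n] N) (h : ∀ v, ∃ u, v - φ u ∈ filt R n N 1) :
    Function.Surjective φ := by
  have key : ∀ k v, ∃ u w, v = φ u + z R n ^ k • w := by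
    intro k
    induction k with
    | zero => intro v; exact ⟨0, v, by simp⟩
    | succ k ih =>
      intro v
      obtain ⟨u, w, rfl⟩ := ih v
      obtain ⟨u', hu'⟩ := h w
      obtain ⟨w', hw'⟩ := MultCrvLib.mem_filt.1 hu'
      refine ⟨u + z R n ^ k • u', w', ?_⟩
      rw [map_add, map_smul, pow_succ, mul_smul, ← pow_one (z R n), ← pow_mul, one_mul, hw', smul_sub]
      abel
  intro v
  obtain ⟨u, w, rfl⟩ := key n v
  exact ⟨u, by rw [MultCrvLib.z_pow_smul le_rfl, add_zero]⟩

/-- `A/(z^k) → A`, multiplication by `z^(n-k)`. -/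
noncomputable def iota (k : ℕ) (hk : k ≤ n) : Oi R n k →ₗ[Rn R n] Rn R n :=
  Submodule.liftQ _ (LinearMap.mulLeft (Rn R n) (z R n ^ (n - k))) (by
    intro a ha
    obtain ⟨c, rfl⟩ := Ideal.mem_span_singleton.1 ha
    show z R n ^ (n - k) * (z R n ^ k * c) = 0
    rw [← mul_assoc, ← pow_add, MultCrvLib.z_pow_eq_zero (by omega), zero_mul])

theorem iota_mk (k : ℕ) (hk : k ≤ n) (a : Rn R n) :
    iota k hk (Ideal.Quotient.mk _ a) = z R n ^ (n - k) * a := rfl

theorem iota_injective (k : ℕ) (hk : k ≤ n) : Function.Injective (iota (R := R) k hk) := by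
  rw [injective_iff_map_eq_zero]
  intro q hq
  obtain ⟨a, rfl⟩ := Ideal.Quotient.mk_surjective q
  rw [iota_mk] at hq
  obtain ⟨b, rfl⟩ := MultCrvLib.exists_eq_pow_mul (Nat.sub_le n k) hq
  rw [Nat.sub_sub_self hk]
  exact Ideal.Quotient.eq_zero_iff_mem.2 (Ideal.mem_span_singleton.2 (dvd_mul_right _ _))

/-- The reflected index. -/
def rev (i : Fin n) (h : i.1 + 1 < n) : Fin n := ⟨n - 2 - i.1, by omega⟩

theorem revType_rev (m : Fin n → ℕ) (i : Fin n) (h : i.1 + 1 < n) : revType n m (rev i h) = m i := by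
  rw [revType, dif_pos (show (rev i h).1 + 1 < n by simp [rev]; omega)]
  exact congrArg m (Fin.ext (by simp [rev]; omega))


/-- Let R be a discrete valuation ring, n ≥ 1, A = R[X]/(X^n) with z the class of X, and M an A-module
that is quasi-free of type (m_1, …, m_n), i.e. isomorphic to the direct sum of m_i copies of
A/(z^i). Let φ be a surjective A-linear map from a finitely generated free module A^r onto M that is
bijective modulo z (the preimage of zM is zA^r). Then the kernel of φ is quasi-free of type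
(m_{n-1}, m_{n-2}, …, m_1, 0). (Statement at a closed point of the sheaf statement on a primitive
multiple curve of multiplicity n with local rings R[X]/(X^n), for the kernel of a surjection from a
vector bundle onto a quasi locally free sheaf that is an isomorphism on the reduced curve; stated
for every discrete valuation ring R.) -/
theorem result (R : Type u) [CommRing R] [IsDomain R] [IsDiscreteValuationRing R] (n : ℕ) (hn : 1 ≤ n) (m : Fin n → ℕ) (M : Type u) [AddCommGroup M] [Module (MultCrv.Rn R n) M] (hM : MultCrv.IsQuasiFreeOfType R n M m) (r : ℕ) (φ : (Fin r → MultCrv.Rn R n) →ₗ[MultCrv.Rn R n] M) (hφ : Function.Surjective φ) (hφz : ∀ f : Fin r → MultCrv.Rn R n, φ f ∈ MultCrv.filt R n M 1 → f ∈ MultCrv.filt R n (Fin r → MultCrv.Rn R n) 1) : MultCrv.IsQuasiFreeOfType R n ↥(LinearMap.ker φ) (MultCrv.revType n m) := by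
  classical
  obtain ⟨e⟩ := hM
  let φ' : (Fin r → MultCrv.Rn R n) →ₗ[MultCrv.Rn R n] MultCrv.QFModel R n m := e.toLinearMap ∘ₗ φ
  let J := Σ i : Fin n, Fin (m i)
  let can : (J → MultCrv.Rn R n) →ₗ[MultCrv.Rn R n] MultCrv.QFModel R n m :=
    { toFun := fun g i j => Ideal.Quotient.mk _ (g ⟨i, j⟩)
      map_add' := fun _ _ => rfl
      map_smul' := fun _ _ => rfl }
  have hcan : Function.Surjective can := fun y => by
    choose c hc using fun p : J => Ideal.Quotient.mk_surjective (y p.1 p.2)
    exact ⟨c, funext fun i => funext fun j => hc ⟨i, j⟩⟩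
  have hker : ∀ g, can g = 0 ↔ ∀ p : J, ∃ c, g p = MultCrv.z R n ^ (p.1.1 + 1) * c := fun g => by
    constructor
    · intro h p
      exact Ideal.mem_span_singleton.1 (Ideal.Quotient.eq_zero_iff_mem.1 (congrFun (congrFun h p.1) p.2))
    · intro h
      exact funext fun i => funext fun j =>
        Ideal.Quotient.eq_zero_iff_mem.2 (Ideal.mem_span_singleton.2 (h ⟨i, j⟩))
  have hφ' : Function.Surjective φ' := e.surjective.comp hφ
  obtain ⟨ρ, hρ⟩ := Module.projective_lifting_property can φ' hcan
  obtain ⟨ψ, hψ⟩ := Module.projective_lifting_property φ' can hφ'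
  have hρ' : ∀ f, can (ρ f) = φ' f := fun f => LinearMap.congr_fun hρ f
  have hψ' : ∀ g, φ' (ψ g) = can g := fun g => LinearMap.congr_fun hψ g
  have hψs : Function.Surjective ψ := surjective_of_mod_z ψ fun f => ⟨ρ f, hφz _ (by
    have h0 : φ' (f - ψ (ρ f)) = 0 := by rw [map_sub, hψ', hρ', sub_self]
    rw [show φ (f - ψ (ρ f)) = 0 from e.injective (h0.trans (map_zero e).symm)]
    exact zero_mem _)⟩
  have hρs : Function.Surjective ρ := surjective_of_mod_z ρ fun g => ⟨ψ g, by
    have h0 : can (g - ρ (ψ g)) = 0 := by rw [map_sub, hρ', hψ', sub_self]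
    choose c hc using (hker _).1 h0
    refine MultCrvLib.mem_filt.2 ⟨fun p => MultCrv.z R n ^ p.1.1 * c p, funext fun p => ?_⟩
    rw [hc p, pow_one, Pi.smul_apply, smul_eq_mul, ← mul_assoc, ← pow_succ']⟩
  have hbij : Function.Bijective ρ := by
    have h1 : Function.Injective (ρ ∘ₗ ψ) :=
      OrzechProperty.injective_of_surjective_endomorphism (ρ ∘ₗ ψ) (hρs.comp hψs)
    refine ⟨fun a b hab => ?_, hρs⟩
    obtain ⟨a', rfl⟩ := hψs a
    obtain ⟨b', rfl⟩ := hψs b
    exact congrArg ψ (h1 hab)
  let ρe := LinearEquiv.ofBijective ρ hbij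
  let F : MultCrv.QFModel R n (MultCrv.revType n m) →ₗ[MultCrv.Rn R n] (J → MultCrv.Rn R n) :=
    { toFun := fun x p => if h : p.1.1 + 1 < n then
          iota ((rev p.1 h).1 + 1) (rev p.1 h).2 (x (rev p.1 h) (Fin.cast (revType_rev m p.1 h).symm p.2))
        else 0
      map_add' := fun x y => funext fun p => by
        by_cases h : p.1.1 + 1 < n
        · simp only [Pi.add_apply, dif_pos h]
          exact map_add (iota _ _) _ _
        · simp only [Pi.add_apply, dif_neg h, add_zero]
      map_smul' := fun a x => funext fun p => by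
        by_cases h : p.1.1 + 1 < n
        · simp only [Pi.smul_apply, dif_pos h, RingHom.id_apply]
          exact map_smul (iota _ _) _ _
        · simp only [Pi.smul_apply, dif_neg h, RingHom.id_apply, smul_zero] }
  have hF : Function.Injective F := by
    rw [injective_iff_map_eq_zero]
    intro x hx
    refine funext fun i' => funext fun j' => ?_
    by_cases hi' : i'.1 + 1 < n
    · obtain ⟨i, hi, rfl⟩ : ∃ (i : Fin n) (h : i.1 + 1 < n), rev i h = i' :=
        ⟨⟨n - 2 - i'.1, by omega⟩, by simp; omega, Fin.ext (by simp [rev]; omega)⟩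
      have h1 := congrFun hx ⟨i, Fin.cast (revType_rev m i hi) j'⟩
      simp only [F, LinearMap.coe_mk, AddHom.coe_mk, dif_pos hi] at h1
      exact iota_injective _ _ (h1.trans (map_zero _).symm)
    · exact absurd j'.2 (by simp [MultCrv.revType, hi'])
  have hFrange : ∀ g, g ∈ LinearMap.range F ↔ can g = 0 := by
    intro g
    rw [hker]
    constructor
    · rintro ⟨x, rfl⟩ p
      by_cases h : p.1.1 + 1 < n
      · simp only [F, LinearMap.coe_mk, AddHom.coe_mk, dif_pos h]
        obtain ⟨a, ha⟩ := Ideal.Quotient.mk_surjective (x (rev p.1 h) (Fin.cast (revType_rev m p.1 h).symm p.2))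
        rw [← ha, iota_mk, show n - ((rev p.1 h).1 + 1) = p.1.1 + 1 by simp [rev]; omega]
        exact ⟨a, rfl⟩
      · exact ⟨0, by simp only [F, LinearMap.coe_mk, AddHom.coe_mk, dif_neg h, mul_zero]⟩
    · intro hg
      choose c hc using hg
      refine ⟨fun i' j' => if hi' : i'.1 + 1 < n then Ideal.Quotient.mk _
          (c ⟨⟨n - 2 - i'.1, by omega⟩, Fin.cast (by simp [MultCrv.revType, hi']) j'⟩) else 0,
        funext fun p => ?_⟩
      by_cases h : p.1.1 + 1 < n
      · simp only [F, LinearMap.coe_mk, AddHom.coe_mk, dif_pos h]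
        rw [dif_pos (show (rev p.1 h).1 + 1 < n by simp [rev]; omega), iota_mk,
          show n - ((rev p.1 h).1 + 1) = p.1.1 + 1 by simp [rev]; omega, hc p]
        congr 2
        refine Sigma.ext (Fin.ext (by simp [rev]; omega)) ?_
        rw [Fin.heq_ext_iff (congrArg m (Fin.ext (by simp [rev]; omega)))]
        rfl
      · simp only [F, LinearMap.coe_mk, AddHom.coe_mk, dif_neg h]
        rw [hc p, MultCrvLib.z_pow_eq_zero (by omega), zero_mul]
  let G := ρe.symm.toLinearMap ∘ₗ F
  have hG : Function.Injective G := ρe.symm.injective.comp hF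
  have hGr : LinearMap.range G = LinearMap.ker φ := by
    ext f
    rw [LinearMap.mem_ker, ← e.map_eq_zero_iff, ← show φ' f = e (φ f) from rfl, ← hρ', ← hFrange]
    constructor
    · rintro ⟨x, rfl⟩
      exact ⟨x, ((ρe.apply_symm_apply (F x))).symm⟩
    · rintro ⟨x, hx⟩
      exact ⟨x, (congrArg ρe.symm hx).trans (ρe.symm_apply_apply f)⟩
  exact ⟨((LinearEquiv.ofInjective G hG).trans (LinearEquiv.ofEq _ _ hGr)).symm⟩

end Groth.Agent.S17940
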