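import Groth.Statements.S17943
import Groth.Agent.MultCrvLib.Filt

set_option autoImplicit false
universe u
open MultCrv

namespace Groth.Agent.S17943

/-- Let R be a discrete valuation ring, n ≥ 1, A = R[X]/(X^n) with z the class of X, and M a finitely
generated A-module. For 0 ≤ i < n the R-modules G^(i+1)(M) = M^(i+1)/M^(i) (M^(j) the elements
killed by z^j) and G_i(M) = z^i M/z^(i+1) M have the same rank over R. (Statement at a closed point
of the sheaf statement on a primitive multiple curve of multiplicity n with local rings R[X]/(X^n),
where the rank of a coherent sheaf on the reduced smooth curve is its generic rank, here the rank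
over R of the stalk; the equality of degrees that the published statement gives together with this
rank equality is a statement on the global curve and is not part of this row; stated for every
discrete valuation ring R.) -/
theorem result (R : Type u) [CommRing R] [IsDomain R] [IsDiscreteValuationRing R] (n : ℕ) (hn : 1 ≤ n) (M : Type u) [AddCommGroup M] [Module (MultCrv.Rn R n) M] [Module R M] [IsScalarTower R (MultCrv.Rn R n) M] [Module.Finite (MultCrv.Rn R n) M] (i : ℕ) (hi : i < n) : Module.finrank R (MultCrv.G2 R n M (i + 1)) = Module.finrank R (MultCrv.G1 R n M i) := by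
  haveI : Module.Finite R M := MultCrvLib.finite_R (n := n)
  let q : ℕ → M →ₗ[R] M := fun k =>
    ((MultCrv.z R n ^ k) • (LinearMap.id : M →ₗ[MultCrv.Rn R n] M)).restrictScalars R
  have hker : ∀ k, Module.finrank R (MultCrv.filt2 R n M k) + Module.finrank R (MultCrv.filt R n M k) =
      Module.finrank R M := fun k => by
    have h := Submodule.finrank_quotient_add_finrank (LinearMap.ker (q k))
    rw [(q k).quotKerEquivRange.finrank_eq] at h
    have e1 : LinearMap.ker (q k) = (MultCrv.filt2 R n M k).restrictScalars R := by
      ext m; simp [q, MultCrvLib.mem_filt2]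
    have e2 : LinearMap.range (q k) = (MultCrv.filt R n M k).restrictScalars R := by
      ext m; simp [q, MultCrvLib.mem_filt]
    rw [e1, e2] at h
    rw [(Submodule.restrictScalarsEquiv R (MultCrv.Rn R n) M _).symm.restrictScalars R |>.finrank_eq,
      (Submodule.restrictScalarsEquiv R (MultCrv.Rn R n) M (MultCrv.filt R n M k)).symm.restrictScalars R |>.finrank_eq]
    omega
  have hsub : ∀ (A B : Submodule (MultCrv.Rn R n) M), B ≤ A →
      Module.finrank R (A ⧸ Submodule.comap A.subtype B) + Module.finrank R B = Module.finrank R A := by
    intro A B hBA
    haveI : Module.Finite R A := Module.Finite.equiv ((Submodule.restrictScalarsEquiv R (MultCrv.Rn R n) M A).restrictScalars R)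
    have h := Submodule.finrank_quotient_add_finrank ((Submodule.comap A.subtype B).restrictScalars R)
    rw [(Submodule.Quotient.restrictScalarsEquiv R (Submodule.comap A.subtype B)).finrank_eq] at h
    rw [← ((Submodule.comapSubtypeEquivOfLe hBA).restrictScalars R).finrank_eq]
    convert h using 2
    exact ((Submodule.restrictScalarsEquiv R (MultCrv.Rn R n) A (Submodule.comap A.subtype B)).symm.restrictScalars R).finrank_eq
  have h1 := hsub (MultCrv.filt2 R n M (i + 1)) (MultCrv.filt2 R n M i) (MultCrvLib.filt2_mono (by omega))
  have h2 := hsub (MultCrv.filt R n M i) (MultCrv.filt R n M (i + 1)) (MultCrvLib.filt_anti (by omega))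
  have h3 := hker i
  have h4 := hker (i + 1)
  show Module.finrank R (MultCrv.filt2 R n M (i + 1) ⧸ Submodule.comap (MultCrv.filt2 R n M (i + 1)).subtype
    (MultCrv.filt2 R n M (i + 1 - 1))) = _
  rw [Nat.add_sub_cancel]
  show _ = Module.finrank R (MultCrv.filt R n M i ⧸ Submodule.comap (MultCrv.filt R n M i).subtype (MultCrv.filt R n M (i + 1)))
  omega

end Groth.Agent.S17943
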