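import Groth.Statements.S17944
import Groth.Agent.MultCrvLib.Filt

set_option autoImplicit false
universe u
open MultCrv

namespace Groth.Agent.S17944

/-- Let R be a discrete valuation ring, n ≥ 1, A = R[X]/(X^n) with z the class of X, and M a finitely
generated A-module. Then the graded pieces G_i(M) = z^i M/z^(i+1) M are free R-modules for all 0 ≤ i
< n if and only if the modules Γ^(i)(M) are free R-modules for all 0 ≤ i < n, where Γ^(i)(M) is the
cokernel of the map M^(i+2)/M^(i+1) → M^(i+1)/M^(i) induced by multiplication by z (M^(j) the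
elements killed by z^j). (Statement at a closed point P of the sheaf statement on a primitive
multiple curve of multiplicity n, whose local rings are R[X]/(X^n) with R the local ring of the
reduced smooth curve: the published conditions are local freeness on the reduced curve of the
corresponding sheaves, read here at P; the published statement also asserts that these conditions
are equivalent to the stalk being quasi-free, i.e. isomorphic to a direct sum of modules A/(z^j),
which is not part of this row; stated for every discrete valuation ring R.) -/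
theorem result (R : Type u) [CommRing R] [IsDomain R] [IsDiscreteValuationRing R] (n : ℕ) (hn : 1 ≤ n) (M : Type u) [AddCommGroup M] [Module (MultCrv.Rn R n) M] [Module R M] [IsScalarTower R (MultCrv.Rn R n) M] [Module.Finite (MultCrv.Rn R n) M] : (∀ i : ℕ, i < n → Module.Free R (MultCrv.G1 R n M i)) ↔ (∀ i : ℕ, i < n → Module.Free R (MultCrv.Gam2 R n M i)) := by
  haveI : Module.Finite R M := MultCrvLib.finite_R (n := n)
  have hfin : ∀ A : Submodule (MultCrv.Rn R n) M, Module.Finite R A := fun A =>
    Module.Finite.equiv ((Submodule.restrictScalarsEquiv R (MultCrv.Rn R n) M A).restrictScalars R)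
  -- torsion-freeness of the two kinds of graded pieces, elementwise
  let TG : ℕ → Prop := fun i => ∀ r : R, r ≠ 0 → ∀ u ∈ MultCrv.filt R n M i,
    r • u ∈ MultCrv.filt R n M (i + 1) → u ∈ MultCrv.filt R n M (i + 1)
  let TΓ : ℕ → Prop := fun i => ∀ r : R, r ≠ 0 → ∀ x ∈ MultCrv.filt2 R n M (i + 1),
    (∃ y ∈ MultCrv.filt2 R n M (i + 2), MultCrv.z R n ^ i • (r • x) = MultCrv.z R n ^ (i + 1) • y) →
    ∃ y ∈ MultCrv.filt2 R n M (i + 2), MultCrv.z R n ^ i • x = MultCrv.z R n ^ (i + 1) • y
  have hG : ∀ i, Module.Free R (MultCrv.G1 R n M i) ↔ TG i := by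
    intro i
    haveI := hfin (MultCrv.filt R n M i)
    constructor
    · intro h r hr u hu hru
      have h0 : r • (Submodule.Quotient.mk (⟨u, hu⟩ : MultCrv.filt R n M i) : MultCrv.G1 R n M i) = 0 := by
        rw [← Submodule.Quotient.mk_smul, Submodule.Quotient.mk_eq_zero]; exact hru
      have h1 : (⟨u, hu⟩ : MultCrv.filt R n M i) ∈
          Submodule.comap (MultCrv.filt R n M i).subtype (MultCrv.filt R n M (i + 1)) :=
        (Submodule.Quotient.mk_eq_zero _).1 ((smul_eq_zero.1 h0).resolve_left hr)
      exact h1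
    · intro h
      haveI : Module.IsTorsionFree R (MultCrv.G1 R n M i) := by
        refine Module.IsTorsionFree.of_smul_eq_zero fun r q hq => ?_
        induction q using Submodule.Quotient.induction_on with
        | _ u =>
          rw [← Submodule.Quotient.mk_smul, Submodule.Quotient.mk_eq_zero] at hq
          by_cases hr : r = 0
          · exact Or.inl hr
          · exact Or.inr ((Submodule.Quotient.mk_eq_zero _).2 (h r hr u.1 u.2 hq))
      exact Module.free_of_finite_type_torsion_free'
  have hmem : ∀ i (x : M) (hx : x ∈ MultCrv.filt2 R n M (i + 1)),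
      (Submodule.Quotient.mk (Submodule.Quotient.mk (⟨x, hx⟩ : MultCrv.filt2 R n M (i + 1)) : MultCrv.G2 R n M (i + 1)) :
        MultCrv.Gam2 R n M i) = 0 ↔
      ∃ y ∈ MultCrv.filt2 R n M (i + 2), MultCrv.z R n ^ i • x = MultCrv.z R n ^ (i + 1) • y := by
    intro i x hx
    rw [Submodule.Quotient.mk_eq_zero]
    constructor
    · rintro ⟨q, hq⟩
      induction q using Submodule.Quotient.induction_on with
      | _ y =>
        rw [MultCrv.lamG2, Submodule.mapQ_apply, Submodule.Quotient.eq, Submodule.mem_comap] at hq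
        have hq' : MultCrv.z R n ^ (i + 1 - 1) • (MultCrv.z R n • y.1 - x) = 0 := MultCrvLib.mem_filt2.1 hq
        rw [Nat.add_sub_cancel, smul_sub, ← mul_smul, ← pow_succ, sub_eq_zero] at hq'
        exact ⟨y.1, y.2, hq'.symm⟩
    · rintro ⟨y, hy, hxy⟩
      refine ⟨Submodule.Quotient.mk ⟨y, hy⟩, ?_⟩
      rw [MultCrv.lamG2, Submodule.mapQ_apply, Submodule.Quotient.eq, Submodule.mem_comap]
      refine MultCrvLib.mem_filt2.2 ?_
      show MultCrv.z R n ^ (i + 1 - 1) • (MultCrv.z R n • y - x) = 0
      rw [Nat.add_sub_cancel, smul_sub, ← mul_smul, ← pow_succ, hxy, sub_self]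
  have hΓ : ∀ i, Module.Free R (MultCrv.Gam2 R n M i) ↔ TΓ i := by
    intro i
    haveI := hfin (MultCrv.filt2 R n M (i + 1))
    constructor
    · intro h r hr x hx hrx
      have hrx' : r • x ∈ MultCrv.filt2 R n M (i + 1) := (r • (⟨x, hx⟩ : MultCrv.filt2 R n M (i + 1))).2
      have h0 := (hmem i (r • x) hrx').2 hrx
      refine (hmem i x hx).1 ((smul_eq_zero.1 (?_ : r • _ = (0 : MultCrv.Gam2 R n M i))).resolve_left hr)
      rw [← Submodule.Quotient.mk_smul, ← Submodule.Quotient.mk_smul]
      exact h0
    · intro h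
      haveI : Module.IsTorsionFree R (MultCrv.Gam2 R n M i) := by
        refine Module.IsTorsionFree.of_smul_eq_zero fun r q hq => ?_
        induction q using Submodule.Quotient.induction_on with
        | _ q =>
          induction q using Submodule.Quotient.induction_on with
          | _ x =>
            rw [← Submodule.Quotient.mk_smul, ← Submodule.Quotient.mk_smul] at hq
            by_cases hr : r = 0
            · exact Or.inl hr
            · exact Or.inr ((hmem i x.1 x.2).2 (h r hr x.1 x.2 ((hmem i (r • x.1) (r • x).2).1 hq)))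
      exact Module.free_of_finite_type_torsion_free'
  simp only [hG, hΓ]
  constructor
  · intro h i hi r hr x hx hrx
    obtain ⟨y, -, hxy⟩ := hrx
    have h1 : r • (MultCrv.z R n ^ i • x) ∈ MultCrv.filt R n M (i + 1) :=
      MultCrvLib.mem_filt.2 ⟨y, by rw [← hxy, MultCrvLib.smul_comm']⟩
    obtain ⟨y', hy'⟩ := MultCrvLib.mem_filt.1 (h i hi r hr _ (MultCrvLib.mem_filt.2 ⟨x, rfl⟩) h1)
    refine ⟨y', MultCrvLib.mem_filt2.2 ?_, hy'.symm⟩
    rw [show i + 2 = 1 + (i + 1) by omega, pow_add, mul_smul, hy', ← mul_smul, ← pow_add,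
      show 1 + i = i + 1 by omega, MultCrvLib.mem_filt2.1 hx]
  · intro h
    have key : ∀ t i, i + t = n → TG i := by
      intro t
      induction t with
      | zero =>
        intro i hi r _ u hu _
        obtain ⟨x, rfl⟩ := MultCrvLib.mem_filt.1 hu
        rw [MultCrvLib.z_pow_smul (by omega)]
        exact zero_mem _
      | succ t ih =>
        intro i hi r hr u hu hru
        obtain ⟨x, rfl⟩ := MultCrvLib.mem_filt.1 hu
        obtain ⟨y, hy⟩ := MultCrvLib.mem_filt.1 hru
        have h1 : MultCrv.z R n ^ (i + 1) • x ∈ MultCrv.filt R n M (i + 2) := by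
          refine ih (i + 1) (by omega) r hr _ (MultCrvLib.mem_filt.2 ⟨x, rfl⟩) (MultCrvLib.mem_filt.2 ⟨y, ?_⟩)
          rw [show i + 1 + 1 = 1 + (i + 1) by omega, pow_add, mul_smul, hy, MultCrvLib.smul_comm', ← mul_smul,
            ← pow_add, show 1 + i = i + 1 by omega]
        obtain ⟨w, hw⟩ := MultCrvLib.mem_filt.1 h1
        have hx' : x - MultCrv.z R n • w ∈ MultCrv.filt2 R n M (i + 1) := MultCrvLib.mem_filt2.2 (by
          rw [smul_sub, ← mul_smul, ← pow_succ, ← hw, show i + 1 + 1 = i + 2 by omega, sub_self])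
        have hy' : MultCrv.z R n ^ i • (r • (x - MultCrv.z R n • w)) =
            MultCrv.z R n ^ (i + 1) • (y - r • w) := by
          rw [smul_sub r, smul_sub, MultCrvLib.smul_comm', ← hy, smul_sub, ← MultCrvLib.smul_comm' r, ← mul_smul,
            ← pow_succ]
        have hy2 : y - r • w ∈ MultCrv.filt2 R n M (i + 2) := MultCrvLib.mem_filt2.2 (by
          rw [show i + 2 = 1 + (i + 1) by omega, pow_add, mul_smul, ← hy', ← mul_smul, ← pow_add,
            show 1 + i = i + 1 by omega, MultCrvLib.smul_comm', MultCrvLib.mem_filt2.1 hx', smul_zero])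
        obtain ⟨y2, -, hy3⟩ := h i (by omega) r hr _ hx' ⟨_, hy2, hy'⟩
        refine MultCrvLib.mem_filt.2 ⟨y2 + w, ?_⟩
        rw [smul_add, ← hy3, smul_sub, ← mul_smul, ← pow_succ, sub_add_cancel]
    exact fun i hi => key (n - i) i (by omega)

end Groth.Agent.S17944
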