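import Groth.Statements.S17945
-- import your own Groth.Agent.* helpers here

set_option autoImplicit false
universe u
open MultCrv

namespace Groth.Agent.S17945

/-- Let R be a discrete valuation ring, n ≥ 1, A = R[X]/(X^n) with z the class of X, and φ : M → N an
A-linear map of finitely generated A-modules. Then φ is surjective if and only if the induced map
M/zM → N/zN is surjective, i.e. every element of N differs from an element of the image of φ by an
element of zN. The induced maps z^i M/z^(i+1) M → z^i N/z^(i+1) N, 1 ≤ i < n, are then surjective as
well; that immediate consequence, which the published statement includes, is not part of this row.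
(Statement at a closed point of the sheaf statement on a primitive multiple curve of multiplicity n
with local rings R[X]/(X^n), where M/zM is the stalk of the restriction to the reduced curve; stated
for every discrete valuation ring R.) -/
theorem result (R : Type u) [CommRing R] [IsDomain R] [IsDiscreteValuationRing R] (n : ℕ) (hn : 1 ≤ n) (M N : Type u) [AddCommGroup M] [Module (MultCrv.Rn R n) M] [Module.Finite (MultCrv.Rn R n) M] [AddCommGroup N] [Module (MultCrv.Rn R n) N] [Module.Finite (MultCrv.Rn R n) N] (φ : M →ₗ[MultCrv.Rn R n] N) : Function.Surjective φ ↔ ∀ v : N, ∃ u : M, v - φ u ∈ MultCrv.filt R n N 1 := by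
  have hz : MultCrv.z R n ^ n = 0 := by
    rw [MultCrv.z, ← map_pow, Ideal.Quotient.eq_zero_iff_mem]; exact Ideal.mem_span_singleton_self _
  have hmem : ∀ x : N, x ∈ MultCrv.filt R n N 1 ↔ ∃ w, MultCrv.z R n • w = x := fun x => by
    simp [MultCrv.filt]
  constructor
  · intro h v
    obtain ⟨u, rfl⟩ := h v
    exact ⟨u, by simp⟩
  · intro h
    have key : ∀ k v, ∃ u w, v = φ u + MultCrv.z R n ^ k • w := by
      intro k
      induction k with
      | zero => intro v; exact ⟨0, v, by simp⟩
      | succ k ih =>
        intro v
        obtain ⟨u, w, rfl⟩ := ih v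
        obtain ⟨u', hu'⟩ := h w
        obtain ⟨w', hw'⟩ := (hmem _).1 hu'
        refine ⟨u + MultCrv.z R n ^ k • u', w', ?_⟩
        rw [map_add, map_smul, pow_succ, mul_smul, hw', smul_sub]; abel
    intro v
    obtain ⟨u, w, rfl⟩ := key n v
    exact ⟨u, by rw [hz]; exact (congrArg (φ u + ·) (zero_smul (MultCrv.Rn R n) w)).trans (add_zero _) |>.symm⟩

end Groth.Agent.S17945
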