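import Groth.Statements.S17969
import Mathlib.RingTheory.Polynomial.GaussLemma
import Mathlib.LinearAlgebra.Charpoly.Basic
import Mathlib.RingTheory.TensorProduct.Free
import Mathlib.RingTheory.IntegralClosure.IsIntegralClosure.Basic
import Mathlib.RingTheory.AdjoinRoot

set_option autoImplicit false
universe u
open scoped TensorProduct
open CAlg

namespace Groth.Agent.S17969

/-- Let A be an integrally closed domain with fraction field K and B a commutative A-algebra which is
finite and torsion-free as an A-module and generated as an A-algebra by a single element x. Let P be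
the characteristic polynomial of multiplication by 1 ⊗ x on the finite free K-module K ⊗_A B. Then P
has coefficients in A, namely P is the image of a monic polynomial over A, and the kernel of the
A-algebra map A[T] → B sending T to x is generated by that polynomial, so that B is A[T]/(P). -/
theorem result
    (A : Type u) [CommRing A] [IsDomain A] [IsIntegrallyClosed A]
    (B : Type u) [CommRing B] [Algebra A B] [Module.Finite A B] [NoZeroSMulDivisors A B]
    (x : B) (hx : Algebra.adjoin A {x} = ⊤) :
    ∃ P : Polynomial A, P.Monic ∧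
      Polynomial.map (algebraMap A (FractionRing A)) P =
        (LinearMap.mulLeft (FractionRing A) ((1 : FractionRing A) ⊗ₜ[A] x)).charpoly ∧
      RingHom.ker (Polynomial.aeval x).toRingHom = Ideal.span {P} := by
  let K := FractionRing A
  let KB := K ⊗[A] B
  let z : KB := (1 : K) ⊗ₜ[A] x
  let χ := (LinearMap.mulLeft K z).charpoly
  have hzero : Polynomial.aeval z χ = 0 := by
    have h := LinearMap.aeval_self_charpoly (LinearMap.mulLeft K z)
    rw [show LinearMap.mulLeft K z = Algebra.lmul K KB z from rfl, Polynomial.aeval_algHom_apply] at h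
    have h2 := LinearMap.congr_fun h 1
    change Polynomial.aeval z χ * 1 = 0 at h2
    rwa [mul_one] at h2
  have hzint : IsIntegral K z := ⟨χ, LinearMap.charpoly_monic _, hzero⟩
  let μ := minpoly K z
  have hsurj : Function.Surjective (Polynomial.aeval (R := K) z) := by
    rw [← AlgHom.range_eq_top, ← Algebra.adjoin_singleton_eq_range_aeval, eq_top_iff]
    rintro w -
    induction w using TensorProduct.induction_on with
    | zero => exact zero_mem _
    | add a b ha hb => exact add_mem ha hb
    | tmul c b =>
      rw [show c ⊗ₜ[A] b = c • ((1 : K) ⊗ₜ[A] b) by rw [TensorProduct.smul_tmul', smul_eq_mul, mul_one]]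
      refine Subalgebra.smul_mem _ ?_ c
      induction (hx ▸ Algebra.mem_top : b ∈ Algebra.adjoin A {x}) using Algebra.adjoin_induction with
      | mem y hy => rw [hy]; exact Algebra.subset_adjoin rfl
      | algebraMap a =>
        rw [Algebra.algebraMap_eq_smul_one, TensorProduct.tmul_smul, ← algebraMap_smul K a,
          show (1 : K) ⊗ₜ[A] (1 : B) = 1 from rfl]
        exact Subalgebra.smul_mem _ (one_mem _) _
      | add p q _ _ hp hq => rw [TensorProduct.tmul_add]; exact add_mem hp hq
      | mul p q _ _ hp hq =>
        rw [show (1 : K) ⊗ₜ[A] (p * q) = ((1 : K) ⊗ₜ[A] p) * ((1 : K) ⊗ₜ[A] q) by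
          rw [Algebra.TensorProduct.tmul_mul_tmul, one_mul]]
        exact mul_mem hp hq
  have hμ0 : μ ≠ 0 := minpoly.ne_zero hzint
  haveI : Module.Finite K (AdjoinRoot μ) := (minpoly.monic hzint).finite_adjoinRoot
  have hdim : χ.natDegree ≤ μ.natDegree := by
    rw [LinearMap.charpoly_natDegree]
    let f : AdjoinRoot μ →ₐ[K] KB := AdjoinRoot.liftAlgHom μ (Algebra.ofId K KB) z (minpoly.aeval K z)
    have hf : Function.Surjective f := fun w => by
      obtain ⟨q, hq⟩ := hsurj w
      refine ⟨AdjoinRoot.mk μ q, ?_⟩
      rw [← hq]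
      exact AdjoinRoot.liftAlgHom_mk μ (Algebra.ofId K KB) z (minpoly.aeval K z) q
    calc Module.finrank K KB ≤ Module.finrank K (AdjoinRoot μ) := f.toLinearMap.finrank_le_finrank_of_surjective hf
      _ = μ.natDegree := by rw [(AdjoinRoot.powerBasis hμ0).finrank, AdjoinRoot.powerBasis_dim]
  have hμχ : μ = χ := (Polynomial.eq_of_monic_of_dvd_of_natDegree_le (minpoly.monic hzint) (LinearMap.charpoly_monic _)
    (minpoly.dvd K z hzero) hdim).symm
  obtain ⟨f, hf, hfx⟩ := IsIntegral.of_finite A x
  have hz' : ∀ g : Polynomial A, Polynomial.aeval z (g.map (algebraMap A K)) = (1 : K) ⊗ₜ[A] Polynomial.aeval x g := fun g => by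
    rw [Polynomial.aeval_map_algebraMap]
    exact Polynomial.aeval_algHom_apply (Algebra.TensorProduct.includeRight : B →ₐ[A] KB) x g
  have hdvd : χ ∣ f.map (algebraMap A K) := hμχ ▸ minpoly.dvd K z (by
    rw [hz', Polynomial.aeval_def, hfx, TensorProduct.tmul_zero])
  obtain ⟨P, hP⟩ := IsIntegrallyClosed.eq_map_mul_C_of_dvd K hf hdvd
  rw [(LinearMap.charpoly_monic (LinearMap.mulLeft K z)).leadingCoeff, map_one, mul_one] at hP
  have hPm : P.Monic := Polynomial.monic_of_injective (IsFractionRing.injective A K) (hP ▸ LinearMap.charpoly_monic _)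
  have hinj : ∀ b : B, (1 : K) ⊗ₜ[A] b = 0 → b = 0 := fun b hb => by
    haveI : IsLocalizedModule (nonZeroDivisors A) (TensorProduct.mk A K B 1) :=
      (isLocalizedModule_iff_isBaseChange (nonZeroDivisors A) K _).mpr (TensorProduct.isBaseChange A B K)
    obtain ⟨s, hs⟩ := (IsLocalizedModule.eq_zero_iff (nonZeroDivisors A) (TensorProduct.mk A K B 1)).mp hb
    rw [Submonoid.smul_def] at hs
    exact (smul_eq_zero.mp hs).resolve_left (nonZeroDivisors.ne_zero s.2)
  refine ⟨P, hPm, hP, le_antisymm (fun g hg => ?_) ?_⟩
  · rw [Ideal.mem_span_singleton]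
    refine (Polynomial.map_dvd_map (algebraMap A K) (IsFractionRing.injective A K) hPm).mp ?_
    rw [hP]
    exact hμχ ▸ minpoly.dvd K z (by rw [hz', show Polynomial.aeval x g = 0 from hg, TensorProduct.tmul_zero])
  · rw [Ideal.span_singleton_le_iff_mem]
    refine hinj _ ?_
    show (1 : K) ⊗ₜ[A] Polynomial.aeval x P = 0
    rw [← hz', hP]
    exact hzero

end Groth.Agent.S17969
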