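import Groth.Statements.S17973
import Mathlib

set_option autoImplicit false
universe u
open EGA4loc

namespace Groth.Agent.S17973

/-- Let A be a local ring, B a local ring which is a local-etale A-algebra (isomorphic over A to the
localization of an etale A-algebra at a prime ideal lying over the maximal ideal of A), and C a
local-etale B-algebra, regarded as an A-algebra through B. Then C is a local-etale A-algebra. -/
theorem result (A : Type u) [CommRing A] [IsLocalRing A]
    (B : Type u) [CommRing B] [IsLocalRing B] [Algebra A B]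
    (C : Type u) [CommRing C] [Algebra B C] [Algebra A C] [IsScalarTower A B C]
    (hB : EGA4loc.IsEssentiallyEtale A B) (hC : EGA4loc.IsEssentiallyEtale B C) :
    EGA4loc.IsEssentiallyEtale A C := by
  classical
  obtain ⟨C₁, _, _, q, _, hC₁, hq, ⟨e⟩⟩ := hB
  obtain ⟨D, _, _, r, _, hD, hr, ⟨f⟩⟩ := hC
  -- `B` is the localization of `C₁` at `q`
  letI : Algebra C₁ B := (e.symm.toRingHom.comp (algebraMap C₁ (Localization.AtPrime q))).toAlgebra
  haveI : IsScalarTower A C₁ B := IsScalarTower.of_algebraMap_eq fun a => by
    change algebraMap A B a = e.symm (algebraMap C₁ (Localization.AtPrime q) (algebraMap A C₁ a))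
    rw [← IsScalarTower.algebraMap_apply, AlgEquiv.commutes]
  let e' : Localization.AtPrime q ≃ₐ[C₁] B :=
    AlgEquiv.ofRingEquiv (f := e.symm.toRingEquiv) fun _ => rfl
  haveI : IsLocalization.AtPrime B q := IsLocalization.isLocalization_of_algEquiv q.primeCompl e'
  -- descend `D` to a finitely presented algebra over some `C₁[1/b]`
  let P := Algebra.Presentation.ofFinitePresentation B D
  obtain ⟨b, hb⟩ := IsLocalization.exist_integer_multiples_of_finset q.primeCompl
    P.finite_coeffs.toFinset (S := B)
  let R₀ := Localization.Away (b : C₁)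
  have hbu : IsUnit (algebraMap C₁ B b) := IsLocalization.map_units B b
  letI : Algebra R₀ B := (IsLocalization.Away.lift (S := R₀) (b : C₁) hbu).toAlgebra
  haveI : IsScalarTower C₁ R₀ B := IsScalarTower.of_algebraMap_eq fun c =>
    (IsLocalization.Away.lift_eq (S := R₀) (b : C₁) hbu c).symm
  haveI : IsScalarTower A R₀ B := IsScalarTower.to₁₃₄ A C₁ R₀ B
  letI : Algebra R₀ D := ((algebraMap B D).comp (algebraMap R₀ B)).toAlgebra
  haveI : IsScalarTower R₀ B D := IsScalarTower.of_algebraMap_eq fun _ => rfl
  haveI : P.HasCoeffs R₀ := ⟨fun x hx => by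
    obtain ⟨c, hc⟩ := hb x (P.finite_coeffs.mem_toFinset.2 hx)
    refine ⟨IsLocalization.mk' R₀ c ⟨(b : C₁), Submonoid.mem_powers _⟩, hbu.mul_right_injective ?_⟩
    simp only
    rw [IsScalarTower.algebraMap_apply C₁ R₀ B (b : C₁), ← map_mul, mul_comm, IsLocalization.mk'_spec,
      ← IsScalarTower.algebraMap_apply C₁ R₀ B c, hc, Algebra.smul_def, ← IsScalarTower.algebraMap_apply C₁ R₀ B]⟩
  let D₁ := P.ModelOfHasCoeffs R₀
  let E : TensorProduct R₀ B D₁ ≃ₐ[B] D := P.tensorModelOfHasCoeffsEquiv R₀
  let ι : D₁ →ₐ[R₀] D := (E.toAlgHom.restrictScalars R₀).comp Algebra.TensorProduct.includeRight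
  letI : Algebra D₁ D := ι.toRingHom.toAlgebra
  haveI : IsScalarTower R₀ D₁ D := IsScalarTower.of_algebraMap_eq fun x => (ι.commutes x).symm
  let M := q.primeCompl.map (algebraMap C₁ R₀)
  haveI : IsLocalization M B := IsLocalization.isLocalization_of_submonoid_le R₀ B
    (Submonoid.powers (b : C₁)) q.primeCompl (Submonoid.powers_le.2 b.2)
  haveI : IsLocalization (Algebra.algebraMapSubmonoid D₁ M) D := by
    refine isLocalizedModule_iff_isLocalization.mp ?_
    refine (isLocalizedModule_iff_isBaseChange M B _).mpr ?_
    exact IsBaseChange.of_equiv E.toLinearEquiv fun x => rfl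
  let r₁ := r.comap (algebraMap D₁ D)
  -- the tower over `A`
  letI : Algebra A D := ((algebraMap B D).comp (algebraMap A B)).toAlgebra
  haveI : IsScalarTower A B D := IsScalarTower.of_algebraMap_eq fun _ => rfl
  haveI : IsScalarTower A R₀ D := IsScalarTower.of_algebraMap_eq fun a => by
    change algebraMap B D (algebraMap A B a) = algebraMap B D (algebraMap R₀ B (algebraMap A R₀ a))
    rw [← IsScalarTower.algebraMap_apply A R₀ B]
  haveI : IsScalarTower A D₁ D := IsScalarTower.of_algebraMap_eq fun a =>
    (IsScalarTower.algebraMap_apply A R₀ D a).trans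
      ((ι.commutes _).symm.trans (congrArg ι (IsScalarTower.algebraMap_apply A R₀ D₁ a).symm))
  -- the localization of `D` at `r` is that of `D₁` at `r₁`
  haveI : IsLocalization.AtPrime (Localization.AtPrime r) r₁ :=
    IsLocalization.isLocalization_isLocalization_atPrime_isLocalization
      (Algebra.algebraMapSubmonoid D₁ M) (Localization.AtPrime r) r
  haveI : Algebra.FormallyEtale A R₀ :=
    haveI : Algebra.FormallyEtale C₁ R₀ := Algebra.FormallyEtale.of_isLocalization (Submonoid.powers (b : C₁))
    Algebra.FormallyEtale.comp A C₁ R₀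
  haveI : Algebra.FinitePresentation A R₀ :=
    haveI : Algebra.FinitePresentation C₁ R₀ := IsLocalization.Away.finitePresentation (b : C₁)
    Algebra.FinitePresentation.trans A C₁ R₀
  haveI : Algebra.FinitePresentation A D₁ := Algebra.FinitePresentation.trans A R₀ D₁
  haveI : Algebra.FormallyEtale A B :=
    haveI : Algebra.FormallyEtale C₁ B := Algebra.FormallyEtale.of_isLocalization q.primeCompl
    Algebra.FormallyEtale.comp A C₁ B
  haveI : Algebra.FormallyEtale B (Localization.AtPrime r) :=
    haveI : Algebra.FormallyEtale D (Localization.AtPrime r) := Algebra.FormallyEtale.of_isLocalization r.primeCompl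
    Algebra.FormallyEtale.comp B D _
  haveI : IsScalarTower A B (Localization.AtPrime r) := IsScalarTower.of_algebraMap_eq fun a => by
    rw [IsScalarTower.algebraMap_apply A D (Localization.AtPrime r), IsScalarTower.algebraMap_apply A B D,
      ← IsScalarTower.algebraMap_apply B D (Localization.AtPrime r)]
  haveI hfe : Algebra.FormallyEtale A (Localization.AtPrime r) := Algebra.FormallyEtale.comp A B _
  let g : Localization.AtPrime r₁ ≃ₐ[D₁] Localization.AtPrime r := IsLocalization.algEquiv r₁.primeCompl _ _
  let gA : Localization.AtPrime r₁ ≃ₐ[A] Localization.AtPrime r := g.restrictScalars A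
  haveI : Algebra.IsEtaleAt A r₁ := Algebra.FormallyEtale.of_equiv gA.symm
  obtain ⟨h, hh, hEt⟩ := Algebra.exists_etale_of_isEtaleAt (R := A) r₁
  let r₂ := r₁.map (algebraMap D₁ (Localization.Away h))
  have hdisj : Disjoint (Submonoid.powers h : Set D₁) r₁ :=
    (Ideal.disjoint_powers_iff_notMem _ (Ideal.IsPrime.isRadical inferInstance)).2 hh
  haveI hr₂ : r₂.IsPrime := IsLocalization.isPrime_of_isPrime_disjoint (Submonoid.powers h) _ r₁ inferInstance hdisj
  have hcomap : r₂.comap (algebraMap D₁ (Localization.Away h)) = r₁ :=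
    IsLocalization.comap_map_of_isPrime_disjoint (Submonoid.powers h) _ inferInstance hdisj
  refine ⟨Localization.Away h, inferInstance, inferInstance, r₂, hr₂, hEt, ?_, ?_⟩
  · rw [IsScalarTower.algebraMap_eq A D₁ (Localization.Away h), ← Ideal.comap_comap, hcomap]
    change (r.comap (algebraMap D₁ D)).comap (algebraMap A D₁) = _
    rw [Ideal.comap_comap, ← IsScalarTower.algebraMap_eq, IsScalarTower.algebraMap_eq A B D, ← Ideal.comap_comap,
      hr]
    rw [IsScalarTower.algebraMap_eq A C₁ B, ← Ideal.comap_comap,
      show (IsLocalRing.maximalIdeal B).comap (algebraMap C₁ B) = q from IsLocalization.AtPrime.comap_maximalIdeal B q,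
      hq]
  · haveI : IsLocalization.AtPrime (Localization.AtPrime r₂) r₁ := by
      have h3 : IsLocalization (r₂.comap (algebraMap D₁ (Localization.Away h))).primeCompl (Localization.AtPrime r₂) :=
        IsLocalization.isLocalization_isLocalization_atPrime_isLocalization (Submonoid.powers h) _ r₂
      have e3 : (r₂.comap (algebraMap D₁ (Localization.Away h))).primeCompl = r₁.primeCompl := by
        ext z; change z ∉ _ ↔ z ∉ _; rw [hcomap]
      rw [e3] at h3
      exact h3
    let g₂ : Localization.AtPrime r₁ ≃ₐ[D₁] Localization.AtPrime r₂ := IsLocalization.algEquiv r₁.primeCompl _ _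
    exact ⟨((f.restrictScalars A).trans gA.symm).trans (g₂.restrictScalars A)⟩

end Groth.Agent.S17973
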