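import Groth.Statements.S17974
import Mathlib
-- import your own Groth.Agent.* helpers here

set_option autoImplicit false
universe u
open Unram

namespace Groth.Agent.S17974

/-- Let A be a commutative ring, B an unramified A-algebra (formally unramified and of finite type), C
an A-algebra, p a prime ideal of C, and u, v : B → C two A-algebra homomorphisms which agree after
composition with C → C/p. Then there is an element f of C not in p such that u and v agree after
composition with the localization map C → C[1/f]. -/
theorem result
    (A : Type u) [CommRing A] (B : Type u) [CommRing B] [Algebra A B]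
    [Algebra.FormallyUnramified A B] [Algebra.FiniteType A B]
    (C : Type u) [CommRing C] [Algebra A C] (p : Ideal C) [p.IsPrime]
    (u v : B →ₐ[A] C)
    (huv : (Ideal.Quotient.mk p).comp u.toRingHom = (Ideal.Quotient.mk p).comp v.toRingHom) :
    ∃ f : C, f ∉ p ∧
      (algebraMap C (Localization.Away f)).comp u.toRingHom =
        (algebraMap C (Localization.Away f)).comp v.toRingHom := by
  obtain ⟨t, ht, ht1⟩ := (Algebra.FormallyUnramified.iff_exists_tensorProduct (R := A) (S := B)).1
    inferInstance
  let w : TensorProduct A B B →ₐ[A] C := Algebra.TensorProduct.lift u v fun x y => Commute.all _ _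
  have hfac : (Ideal.Quotient.mkₐ A p).comp w =
      ((Ideal.Quotient.mkₐ A p).comp u).comp (Algebra.TensorProduct.lmul' A) := by
    apply Algebra.TensorProduct.ext'
    intro x y
    have h := RingHom.congr_fun huv y
    simp only [RingHom.comp_apply, AlgHom.toRingHom_eq_coe, RingHom.coe_coe] at h
    simp [w, h]
  refine ⟨w t, fun hp => ?_, ?_⟩
  · have h := AlgHom.congr_fun hfac t
    simp only [AlgHom.comp_apply, ht1, map_one, Ideal.Quotient.mkₐ_eq_mk,
      Ideal.Quotient.eq_zero_iff_mem.2 hp] at h
    exact zero_ne_one h
  · refine RingHom.ext fun b => ?_
    simp only [RingHom.comp_apply]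
    refine IsLocalization.eq_iff_exists (Submonoid.powers (w t)) _ |>.2
      ⟨⟨w t, 1, pow_one _⟩, ?_⟩
    have h := congrArg w (ht b)
    simp only [map_mul, map_sub, map_zero, w, Algebra.TensorProduct.lift_tmul, map_one, one_mul,
      mul_one, sub_mul, sub_eq_zero] at h
    show w t * u b = w t * v b
    rw [mul_comm _ (u b), mul_comm _ (v b)]
    exact h.symm

end Groth.Agent.S17974
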