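import Groth.Statements.S17975
import Groth.Agent.HenselLib.Local
import Mathlib.Algebra.Polynomial.OfFn

set_option autoImplicit false
universe u
open Hensel

namespace Groth.Agent.S17975

/-- Let A be a local ring with maximal ideal m and residue field k, C a commutative A-algebra which is
finitely generated as an A-module, Q₀ a monic polynomial of degree n over k, e an A-algebra
isomorphism from C/mC to k[T]/(Q₀), and x an element of C whose class is sent by e to the class of
T. Then x generates C as an A-algebra, and x is a root of a monic polynomial Q over A of degree n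
whose reduction modulo m equals Q₀. -/
theorem result
    (A : Type u) [CommRing A] [IsLocalRing A] (C : Type u) [CommRing C] [Algebra A C] [Module.Finite A C]
    (Q₀ : Polynomial (IsLocalRing.ResidueField A)) (hQ₀ : Q₀.Monic)
    (e : (C ⧸ Ideal.map (algebraMap A C) (IsLocalRing.maximalIdeal A)) ≃ₐ[A] AdjoinRoot Q₀)
    (x : C) (hx : e (Ideal.Quotient.mk (Ideal.map (algebraMap A C) (IsLocalRing.maximalIdeal A)) x) = AdjoinRoot.root Q₀) :
    Algebra.adjoin A {x} = ⊤ ∧
      ∃ Q : Polynomial A, Q.Monic ∧ Q.natDegree = Q₀.natDegree ∧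
        Polynomial.map (IsLocalRing.residue A) Q = Q₀ ∧ Polynomial.aeval x Q = 0 := by
  classical
  set n := Q₀.natDegree with hn
  have hev : ∀ p : Polynomial A, e (Ideal.Quotient.mk ((IsLocalRing.maximalIdeal A).map (algebraMap A C)) (Polynomial.aeval x p)) =
      AdjoinRoot.mk Q₀ (p.map (IsLocalRing.residue A)) := by
    intro p
    rw [← Ideal.Quotient.mkₐ_eq_mk A, ← Polynomial.aeval_algHom_apply, ← Polynomial.aeval_algHom_apply,
      Ideal.Quotient.mkₐ_eq_mk, hx, ← AdjoinRoot.aeval_eq,
      ← IsLocalRing.ResidueField.algebraMap_eq, Polynomial.aeval_map_algebraMap]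
  set N : Submodule A C := Submodule.span A (Set.range fun i : Fin n => x ^ (i : ℕ)) with hN
  have hmem : ∀ p : Polynomial A, p.natDegree < n → Polynomial.aeval x p ∈ N := fun p hp => by
    rw [Polynomial.aeval_eq_sum_range' hp]
    exact Submodule.sum_mem _ fun i hi => Submodule.smul_mem _ _
      (Submodule.subset_span ⟨⟨i, Finset.mem_range.mp hi⟩, rfl⟩)
  have htop : N = ⊤ := by
    refine top_unique (Submodule.le_of_le_smul_of_le_jacobson_bot Module.Finite.fg_top
      (IsLocalRing.maximalIdeal_le_jacobson _) fun y _ => ?_)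
    obtain ⟨q, hq⟩ := AdjoinRoot.mk_surjective (e (Ideal.Quotient.mk ((IsLocalRing.maximalIdeal A).map (algebraMap A C)) y))
    rw [← AdjoinRoot.mk_leftInverse hQ₀ (AdjoinRoot.mk Q₀ q), AdjoinRoot.modByMonicHom_mk] at hq
    rcases Nat.eq_zero_or_pos n with h0 | hpos
    · have : y ∈ ((IsLocalRing.maximalIdeal A).map (algebraMap A C)) := by
        rw [← Ideal.Quotient.eq_zero_iff_mem, ← EmbeddingLike.map_eq_zero_iff (f := e), ← hq,
          hQ₀.natDegree_eq_zero.mp h0, Polynomial.modByMonic_one, map_zero]
      exact Submodule.mem_sup_right (by rw [Ideal.smul_top_eq_map]; exact this)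
    obtain ⟨p, hp, hpd⟩ := Polynomial.mem_lifts_and_degree_eq
      (f := IsLocalRing.residue A) (p := q %ₘ Q₀)
      ((Polynomial.mem_lifts _).mpr (Polynomial.map_surjective _ IsLocalRing.residue_surjective _))
    have hpn : p.natDegree < n := by
      rcases eq_or_ne p 0 with rfl | hne
      · simpa using hpos
      · rw [Polynomial.natDegree_lt_iff_degree_lt hne, hpd,
          hn, ← Polynomial.degree_eq_natDegree hQ₀.ne_zero]
        exact Polynomial.degree_modByMonic_lt _ hQ₀
    refine Submodule.mem_sup.mpr ⟨_, hmem p hpn, y - Polynomial.aeval x p, ?_, add_sub_cancel _ _⟩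
    rw [Ideal.smul_top_eq_map]
    show y - Polynomial.aeval x p ∈ ((IsLocalRing.maximalIdeal A).map (algebraMap A C))
    rw [← Ideal.Quotient.eq]
    exact e.injective (by rw [hev, hp, hq])
  refine ⟨?_, ?_⟩
  · rw [eq_top_iff]
    intro y _
    have : N ≤ Subalgebra.toSubmodule (Algebra.adjoin A {x}) := Submodule.span_le.mpr (by
      rintro _ ⟨i, rfl⟩
      exact pow_mem (Algebra.self_mem_adjoin_singleton A x) _)
    exact this (htop ▸ Submodule.mem_top)
  · have hxn : x ^ n ∈ N := htop ▸ Submodule.mem_top
    obtain ⟨c, hc⟩ := (Submodule.mem_span_range_iff_exists_fun A).mp hxn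
    set r := Polynomial.ofFn n fun i => -c i with hr
    have hQm : (Polynomial.X ^ n + r).Monic := Polynomial.monic_X_pow_add (Polynomial.ofFn_degree_lt _)
    have hQd : (Polynomial.X ^ n + r).natDegree = n := by
      rw [Polynomial.natDegree_add_eq_left_of_degree_lt
        (by rw [Polynomial.degree_X_pow]; exact Polynomial.ofFn_degree_lt _), Polynomial.natDegree_X_pow]
    have hQx : Polynomial.aeval x (Polynomial.X ^ n + r) = 0 := by
      rw [map_add, map_pow, Polynomial.aeval_X, hr, Polynomial.ofFn_eq_sum_monomial, map_sum, ← hc,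
        ← Finset.sum_add_distrib]
      refine Finset.sum_eq_zero fun i _ => ?_
      rw [Polynomial.aeval_monomial, map_neg, neg_mul, ← Algebra.smul_def, add_neg_cancel]
    refine ⟨Polynomial.X ^ n + r, hQm, hQd, ?_, hQx⟩
    refine Polynomial.eq_of_monic_of_dvd_of_natDegree_le hQ₀ (hQm.map _) ?_ ?_
    · rw [← AdjoinRoot.mk_eq_zero, ← hev, hQx, map_zero, map_zero]
    · rw [hQm.natDegree_map, hQd]

end Groth.Agent.S17975
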