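import Groth.Statements.S17977
import Mathlib
import Groth.Agent.HenselLib.EssEtale
-- import your own Groth.Agent.* helpers here

set_option autoImplicit false
universe u
open EGA4loc

namespace Groth.Agent.S17977

/-- Let A be a local ring, B a local ring which is a local-etale A-algebra, and C a local ring with a
local structure map A → C. Then every A-algebra homomorphism B → C is local. (The source states this
for local ind-etale B, i.e. filtered colimits of local-etale algebras along local maps, and reduces
at once to the local-etale case stated here.) -/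
theorem result (A : Type u) [CommRing A] [IsLocalRing A]
    (B : Type u) [CommRing B] [IsLocalRing B] [Algebra A B] (hB : EGA4loc.IsEssentiallyEtale A B)
    (C : Type u) [CommRing C] [IsLocalRing C] [Algebra A C] [IsLocalHom (algebraMap A C)]
    (φ : B →ₐ[A] C) : IsLocalHom φ.toRingHom := by
  haveI : IsLocalHom (algebraMap A B) := by
    obtain ⟨D, _, _, q, _, _, hq, ⟨e⟩⟩ := hB
    refine ⟨fun a ha => ?_⟩
    have h1 : IsUnit (algebraMap D (Localization.AtPrime q) (algebraMap A D a)) := by
      rw [← IsScalarTower.algebraMap_apply, ← e.commutes]
      exact ha.map e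
    rw [IsLocalization.AtPrime.isUnit_to_map_iff (Localization.AtPrime q) q] at h1
    by_contra hn
    refine h1 ?_
    show a ∈ q.comap (algebraMap A D)
    rw [hq]
    exact hn
  have hm := HenselLib.map_maximalIdeal_of_essEtale hB
  refine ⟨fun b hb => ?_⟩
  by_contra hnb
  have hb' : b ∈ (IsLocalRing.maximalIdeal A).map (algebraMap A B) := by rw [hm]; exact hnb
  have : φ b ∈ (IsLocalRing.maximalIdeal A).map (algebraMap A C) := by
    have := Ideal.mem_map_of_mem (φ : B →+* C) hb'
    rw [Ideal.map_map, AlgHom.comp_algebraMap] at this
    exact this
  have hle : (IsLocalRing.maximalIdeal A).map (algebraMap A C) ≤ IsLocalRing.maximalIdeal C :=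
    Ideal.map_le_iff_le_comap.2 fun a ha hu => ha ((isUnit_map_iff (algebraMap A C) a).1 hu)
  exact (IsLocalRing.mem_maximalIdeal _).1 (hle this) hb

end Groth.Agent.S17977
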