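import Groth.Statements.S17978
import Mathlib.RingTheory.Unramified.Finite
import Mathlib.RingTheory.Etale.Basic
import Mathlib.RingTheory.EssentialFiniteness

set_option autoImplicit false
universe u
open EGA4loc

namespace Groth.Agent.S17978

/-- Let A be a local ring, B a local ring which is a local-etale A-algebra, and C a local ring with a
local structure map A → C. Then two A-algebra homomorphisms B → C which agree after composition with
the residue map of C are equal; in other words an A-algebra map B → C is determined by the map it
induces on residue fields. (The source states this for local ind-etale B and reduces to the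
local-etale case stated here; C is an arbitrary local A-algebra with local structure map.) -/
theorem result (A : Type u) [CommRing A] [IsLocalRing A]
    (B : Type u) [CommRing B] [IsLocalRing B] [Algebra A B] (hB : EGA4loc.IsEssentiallyEtale A B)
    (C : Type u) [CommRing C] [IsLocalRing C] [Algebra A C] [IsLocalHom (algebraMap A C)]
    (u v : B →ₐ[A] C)
    (h : (IsLocalRing.residue C).comp u.toRingHom = (IsLocalRing.residue C).comp v.toRingHom) :
    u = v := by

  obtain ⟨D, _, _, q, _, hD, -, ⟨e⟩⟩ := hB
  haveI : Algebra.EssFiniteType D (Localization.AtPrime q) := Algebra.EssFiniteType.of_isLocalization _ q.primeCompl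
  haveI : Algebra.EssFiniteType A (Localization.AtPrime q) := Algebra.EssFiniteType.comp A D _
  haveI : Algebra.FormallyUnramified D (Localization.AtPrime q) := Algebra.FormallyUnramified.of_isLocalization q.primeCompl
  haveI : Algebra.FormallyUnramified A (Localization.AtPrime q) := Algebra.FormallyUnramified.comp A D _
  obtain ⟨t, ht, ht1⟩ := (Algebra.FormallyUnramified.iff_exists_tensorProduct (R := A) (S := Localization.AtPrime q)).mp inferInstance
  let Φ := Algebra.TensorProduct.lift (u.comp e.symm.toAlgHom) (v.comp e.symm.toAlgHom) (fun _ _ => Commute.all _ _)
  have hres : ∀ z, IsLocalRing.residue C (Φ z) =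
      IsLocalRing.residue C (u (e.symm (Algebra.TensorProduct.lmul' A z))) := by
    intro z
    induction z using TensorProduct.induction_on with
    | zero => simp
    | add x y hx hy => simp only [map_add, hx, hy]
    | tmul a b =>
      simp only [Φ, Algebra.TensorProduct.lift_tmul, Algebra.TensorProduct.lmul'_apply_tmul, map_mul,
        AlgHom.comp_apply]
      congr 1
      exact (RingHom.congr_fun h (e.symm b)).symm
  have hunit : IsUnit (Φ t) := by
    rw [← IsLocalRing.notMem_maximalIdeal, ← IsLocalRing.residue_eq_zero_iff, hres, ht1]
    simp
  refine AlgHom.ext fun b => ?_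
  have h0 := congrArg Φ (ht (e b))
  rw [map_mul, map_zero, hunit.mul_left_eq_zero] at h0
  simp only [Φ, map_sub, Algebra.TensorProduct.lift_tmul, map_one, one_mul, mul_one,
    AlgHom.comp_apply, AlgEquiv.coe_toAlgHom, AlgEquiv.symm_apply_apply] at h0
  exact (sub_eq_zero.mp h0).symm

end Groth.Agent.S17978
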