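import Groth.Statements.S17979
import Groth.Agent.HenselLib.Local

set_option autoImplicit false
universe u
open Hensel

namespace Groth.Agent.S17979

/-- Let A be a local ring with residue field k and Q, R polynomials over A with Q monic. If the images
of Q and R in k[T] generate the unit ideal, then Q and R already generate the unit ideal of A[T]. -/
theorem result (A : Type u) [CommRing A] [IsLocalRing A]
    (Q R : Polynomial A) (hQ : Q.Monic)
    (h : IsCoprime (Polynomial.map (IsLocalRing.residue A) Q) (Polynomial.map (IsLocalRing.residue A) R)) :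
    IsCoprime Q R := by
  haveI : Module.Finite A (AdjoinRoot Q) := hQ.finite_adjoinRoot
  have hu : IsUnit (AdjoinRoot.mk Q R) := by
    obtain ⟨a, b, hab⟩ := h
    obtain ⟨b', rfl⟩ := Polynomial.map_surjective _ IsLocalRing.residue_surjective b
    obtain ⟨a', rfl⟩ := Polynomial.map_surjective _ IsLocalRing.residue_surjective a
    refine isUnit_of_mul_isUnit_right (x := AdjoinRoot.mk Q b') (HenselLib.isUnit_of_sub_one_mem
      (HenselLib.map_le_jacobson (I := IsLocalRing.maximalIdeal A)
        (IsLocalRing.maximalIdeal_le_jacobson _)) ?_)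
    have h1 := HenselLib.eval_sub_eval_mem (I := IsLocalRing.maximalIdeal A) (B := AdjoinRoot Q)
      (p := a' * Q + b' * R) (q := 1) (by
        rw [Polynomial.map_add, Polynomial.map_mul, Polynomial.map_mul, Polynomial.map_one]
        exact hab) (AdjoinRoot.root Q)
    simpa [AdjoinRoot.aeval_eq, AdjoinRoot.mk_self] using h1
  obtain ⟨v, hv⟩ := hu.exists_left_inv
  obtain ⟨b, rfl⟩ := AdjoinRoot.mk_surjective v
  rw [← map_mul, ← map_one (AdjoinRoot.mk Q), AdjoinRoot.mk_eq_mk] at hv
  obtain ⟨c, hc⟩ := hv
  exact ⟨-c, b, by linear_combination hc⟩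

end Groth.Agent.S17979
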