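import Groth.Statements.S17983
import Mathlib
import Groth.Agent.WeilNum.Family
-- import your own Groth.Agent.* helpers here

set_option autoImplicit false
universe u
open WeilNum

namespace Groth.Agent.S17983

/-- Let p be a prime number, e ≥ 1 and q = p^e. Let π be an element of a field of characteristic zero
which is integral over ℤ, with minimal polynomial P over ℤ, and assume that every complex root of P
has absolute value √q and that no complex root of P is real (π is a nonreal Weil q-number). Then the
degree of P is even, say 2d, and writing a_j for the coefficient of x^j in P one has a_{d−r} = q^r ·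
a_{d+r} for every 0 ≤ r ≤ d. -/
theorem result (p e : ℕ) [Fact p.Prime] (he : 0 < e)
    (K : Type u) [Field K] [CharZero K] (π : K) (hπ : IsIntegral ℤ π)
    (hweil : ∀ z ∈ (minpoly ℤ π).aroots ℂ, ‖z‖ = Real.sqrt ((p : ℝ) ^ e))
    (hnr : ∀ z ∈ (minpoly ℤ π).aroots ℂ, z.im ≠ 0) :
    Even (minpoly ℤ π).natDegree ∧
      ∀ r ≤ (minpoly ℤ π).natDegree / 2,
        (minpoly ℤ π).coeff ((minpoly ℤ π).natDegree / 2 - r) =
          (p : ℤ) ^ (e * r) * (minpoly ℤ π).coeff ((minpoly ℤ π).natDegree / 2 + r) := by
  have hp : 0 < p := (Fact.out : p.Prime).pos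
  set P := minpoly ℤ π with hPdef
  have hm : P.Monic := minpoly.monic hπ
  have hpos : 0 < P.natDegree := minpoly.natDegree_pos hπ
  set R : Polynomial ℝ := P.map (algebraMap ℤ ℝ) with hR
  have hRm : R.Monic := hm.map _
  have hRd : R.natDegree = P.natDegree := hm.natDegree_map _
  have hne : ∀ x : ℝ, R.eval x ≠ 0 := by
    intro x hx
    have h1 : Polynomial.aeval (x : ℂ) P = 0 := by
      rw [show (x : ℂ) = algebraMap ℝ ℂ x from rfl, Polynomial.aeval_algebraMap_apply,
        Polynomial.aeval_def, ← Polynomial.eval_map, ← hR, hx, map_zero]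
    exact hnr (x : ℂ) (Polynomial.mem_aroots'.2 ⟨(hm.map _).ne_zero, h1⟩) (Complex.ofReal_im x)
  have hposR : ∀ (Q : Polynomial ℝ), Q.Monic → 0 < Q.natDegree → (∀ x, Q.eval x ≠ 0) →
      0 < Q.eval 0 := by
    intro Q hQ hd hQ0
    by_contra hcon
    have hlt : Q.eval 0 < 0 := lt_of_le_of_ne (not_lt.1 hcon) (hQ0 0)
    have ht : Filter.Tendsto (fun x => Q.eval x) Filter.atTop Filter.atTop :=
      Q.tendsto_atTop_of_leadingCoeff_nonneg
        (by rwa [← Polynomial.natDegree_pos_iff_degree_pos])
        (by rw [hQ.leadingCoeff]; exact zero_le_one)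
    obtain ⟨b, hb, hb'⟩ := ((ht.eventually_ge_atTop 0).and (Filter.eventually_ge_atTop 0)).exists
    obtain ⟨x, -, hx⟩ := intermediate_value_Icc hb' Q.continuous.continuousOn ⟨hlt.le, hb⟩
    exact hQ0 x hx
  have h1 : 0 < R.eval 0 := hposR R hRm (hRd ▸ hpos) hne
  have heven : Even P.natDegree := by
    by_contra hodd
    rw [Nat.not_even_iff_odd] at hodd
    set Q : Polynomial ℝ := -R.comp (-Polynomial.X) with hQ
    have hQd : Q.natDegree = P.natDegree := by
      rw [hQ, Polynomial.natDegree_neg, Polynomial.natDegree_comp, Polynomial.natDegree_neg,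
        Polynomial.natDegree_X, mul_one, hRd]
    have hQm : Q.Monic := by
      rw [Polynomial.Monic, hQ, Polynomial.leadingCoeff_neg, Polynomial.comp_neg_X_leadingCoeff_eq,
        hRd, hodd.neg_one_pow, hRm.leadingCoeff]
      norm_num
    have h2 := hposR Q hQm (hQd ▸ hpos) fun x => by
      rw [hQ, Polynomial.eval_neg, Polynomial.eval_comp, Polynomial.eval_neg, Polynomial.eval_X]
      exact neg_ne_zero.2 (hne _)
    rw [hQ, Polynomial.eval_neg, Polynomial.eval_comp, Polynomial.eval_neg, Polynomial.eval_X,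
      neg_zero] at h2
    linarith
  refine ⟨heven, fun r hr => ?_⟩
  obtain ⟨D, hD⟩ := heven
  have hD2 : P.natDegree = 2 * D := by omega
  obtain ⟨ε, hε, h0, hfe⟩ := WeilNum.functional_equation P hm D hD2 (p ^ e) (pow_pos hp _)
    (fun z hz => by
      have := hweil z (Polynomial.mem_aroots'.2 ⟨(hm.map _).ne_zero, hz⟩)
      push_cast
      exact this)
  have hε1 : ε = 1 := by
    rcases Int.isUnit_iff.1 hε with h | h
    · exact h
    · exfalso
      rw [hR, ← Polynomial.coeff_zero_eq_eval_zero, Polynomial.coeff_map, eq_intCast, h0, h] at h1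
      push_cast at h1
      nlinarith [pow_pos (pow_pos (Nat.cast_pos.2 hp : (0 : ℝ) < p) e) D]
  have hd : P.natDegree / 2 = D := by omega
  rw [hd] at hr ⊢
  have := hfe r hr
  rw [hε1, one_mul] at this
  push_cast at this
  rw [← pow_mul] at this
  exact this

end Groth.Agent.S17983
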