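import Groth.Statements.S17986
import Mathlib
import Groth.Agent.WeilNum.Rational
-- import your own Groth.Agent.* helpers here

set_option autoImplicit false
universe u
open MvPolynomial
open scoped Classical
open WeilNum

namespace Groth.Agent.S17986

/-- Let p be a prime, e ≥ 1, and assume q = p^e = s² for an integer s (of either sign; s is then a
rational Weil q-number). Let (π_i) be a finite family of pairwise nonconjugate nonrational Weil
q-numbers: π_i lies in a field K_i of characteristic zero, is integral over ℤ with minimal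
polynomial P_i of degree different from 1, every complex root of P_i has absolute value √q, and P_i
≠ P_j for i ≠ j (since q is a square these π_i are nonreal, so Σ_i deg P_i = 2D is even). Put P_v =
∏_i P_i and let h ∈ ℤ[F, V] (F = X_0, V = X_1) be any polynomial with F^D · h ≡ P_v(F) modulo FV −
q. Consider the ring map ℤ[F, V] → (∏_i K_i) × ℚ sending F to ((π_i)_i, s) and V to ((q/π_i)_i, s);
its image R_w is the minimal central order of the family enlarged by s. Then: (1) its kernel is the
ideal generated by FV − q, h · (F − s) and h · (V − s); (2) R_w is a Gorenstein ring if and only if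
every π_i is ordinary, meaning that exactly half of the roots of P_i in an algebraic closure of ℚ_p,
counted with multiplicity, are p-adic units. -/
theorem result (p e : ℕ) [Fact p.Prime] (he : 0 < e)
    (s : ℤ) (hs : s ^ 2 = (p : ℤ) ^ e)
    (ι : Type) [Fintype ι] (K : ι → Type u) [∀ i, Field (K i)] [∀ i, CharZero (K i)] (π : ∀ i, K i)
    (hint : ∀ i, IsIntegral ℤ (π i)) (hdeg : ∀ i, (minpoly ℤ (π i)).natDegree ≠ 1)
    (hweil : ∀ i, ∀ z ∈ (minpoly ℤ (π i)).aroots ℂ, ‖z‖ = Real.sqrt ((p : ℝ) ^ e))
    (hinj : ∀ i j, minpoly ℤ (π i) = minpoly ℤ (π j) → i = j)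
    (D : ℕ) (hD : ∑ i, (minpoly ℤ (π i)).natDegree = 2 * D)
    (h : MvPolynomial (Fin 2) ℤ)
    (hh : X 0 ^ D * h - Polynomial.aeval (X 0 : MvPolynomial (Fin 2) ℤ) (∏ i, minpoly ℤ (π i)) ∈
      Ideal.span ({X 0 * X 1 - C ((p : ℤ) ^ e)} : Set (MvPolynomial (Fin 2) ℤ))) :
    RingHom.ker (MvPolynomial.aeval ![(⟨fun i => π i, (s : ℚ)⟩ : ((i : ι) → K i) × ℚ), ⟨fun i => ((p : K i) ^ e) / π i, (s : ℚ)⟩] :
        MvPolynomial (Fin 2) ℤ →ₐ[ℤ] (((i : ι) → K i) × ℚ)) =
        Ideal.span {X 0 * X 1 - C ((p : ℤ) ^ e), h * (X 0 - C s), h * (X 1 - C s)} ∧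
      (LocCoh.IsGorensteinRing (MvPolynomial.aeval ![(⟨fun i => π i, (s : ℚ)⟩ : ((i : ι) → K i) × ℚ), ⟨fun i => ((p : K i) ^ e) / π i, (s : ℚ)⟩] :
        MvPolynomial (Fin 2) ℤ →ₐ[ℤ] (((i : ι) → K i) × ℚ)).range ↔
        ∀ i, 2 * Multiset.card (((minpoly ℤ (π i)).aroots (PadicAlgCl p)).filter (fun z => ‖z‖ = 1)) = (minpoly ℤ (π i)).natDegree) := by
  have hp : p.Prime := (Fact.out : p.Prime)
  have hroot : ∀ i, ∀ n : ℤ, (minpoly ℤ (π i)).eval n ≠ 0 := fun i n hn => by
    have hdvd : Polynomial.X - Polynomial.C n ∣ minpoly ℤ (π i) := Polynomial.dvd_iff_isRoot.2 hn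
    have hass := (Polynomial.irreducible_X_sub_C n).associated_of_dvd (minpoly.irreducible (hint i)) hdvd
    have he1 := Polynomial.eq_of_monic_of_associated (Polynomial.monic_X_sub_C n)
      (minpoly.monic (hint i)) hass
    exact hdeg i (by rw [← he1, Polynomial.natDegree_X_sub_C])
  have hnr : ∀ i, ∀ z ∈ (minpoly ℤ (π i)).aroots ℂ, z.im ≠ 0 := by
    intro i z hz him
    have hz' := (Polynomial.mem_aroots.1 hz).2
    have habs : |z.re| = |(s : ℝ)| := by
      rw [← Real.norm_eq_abs, ← Complex.norm_real, show ((z.re : ℂ)) = z from Complex.ext rfl him.symm,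
        hweil i z hz, ← Real.sqrt_sq_eq_abs]
      congr 1
      exact_mod_cast hs.symm
    have key : ∀ n : ℤ, z = (n : ℂ) → False := fun n hn => by
      apply hroot i n
      rw [hn, ← eq_intCast (algebraMap ℤ ℂ), Polynomial.aeval_algebraMap_apply,
        Polynomial.coe_aeval_eq_eval] at hz'
      exact (algebraMap ℤ ℂ).injective_int (by simpa using hz')
    rcases abs_eq_abs.1 habs with h1 | h1
    · exact key s (Complex.ext (by simpa using h1) (by simpa using him))
    · exact key (-s) (Complex.ext (by simpa using h1) (by simpa using him))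
  have hf := WeilNum.family hp.pos hint hweil hinj hD
  have hd := WeilNum.datum hp.pos hint hweil hD h hh
  have S : WeilNum.Setting p e s π D h := ⟨hs, he, hf, hd, by
    rw [Polynomial.eval_prod, Finset.prod_ne_zero_iff]
    exact fun i _ => hroot i s⟩
  obtain ⟨ε, hε, -, hfe⟩ := WeilNum.functional_equation _ (WeilNum.monic_prod hint) D
    (WeilNum.natDegree_prod hint hD) (p ^ e) (pow_pos hp.pos _) (WeilNum.norm_root_prod hint hweil)
  have hord : (∀ i, 2 * Multiset.card (((minpoly ℤ (π i)).aroots (PadicAlgCl p)).filter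
      (fun z => ‖z‖ = 1)) = (minpoly ℤ (π i)).natDegree) ↔ ¬ (p : ℤ) ∣ MvPolynomial.constantCoeff h := by
    rw [WeilNum.constantCoeff_mod he hd]
    obtain ⟨-, hiff⟩ := WeilNum.unit_roots p _ (WeilNum.monic_prod hint) D
      (WeilNum.natDegree_prod hint hD) (fun k hk => by
        have := hfe (D - k) (Nat.sub_le _ _)
        rw [show D - (D - k) = k by omega] at this
        rw [this]
        refine Dvd.dvd.mul_right (Dvd.dvd.mul_left ?_ _) _
        push_cast
        rw [← pow_mul]
        exact dvd_pow_self _ (Nat.mul_ne_zero (by omega) (by omega)))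
    rw [← hiff, Polynomial.aroots_def, Polynomial.map_prod, Polynomial.roots_prod _ _
      (Finset.prod_ne_zero_iff.2 fun i _ => ((minpoly.monic (hint i)).map _).ne_zero)]
    have hsum : Multiset.card ((Multiset.bind Finset.univ.val fun i =>
        ((minpoly ℤ (π i)).map (algebraMap ℤ (PadicAlgCl p))).roots).filter fun z => ‖z‖ = 1) =
        ∑ i, Multiset.card (((minpoly ℤ (π i)).aroots (PadicAlgCl p)).filter fun z => ‖z‖ = 1) := by
      rw [Multiset.filter_bind, Multiset.card_bind]
      rfl
    rw [hsum]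
    have hle : ∀ i, 2 * Multiset.card (((minpoly ℤ (π i)).aroots (PadicAlgCl p)).filter
        (fun z => ‖z‖ = 1)) ≤ (minpoly ℤ (π i)).natDegree := by
      intro i
      obtain ⟨heven, hfe'⟩ := Groth.Agent.S17983.result p e he (K i) (π i) (hint i) (hweil i) (hnr i)
      obtain ⟨d, hd'⟩ := heven
      have hd2 : (minpoly ℤ (π i)).natDegree / 2 = d := by omega
      rw [hd2] at hfe'
      have := (WeilNum.unit_roots p (minpoly ℤ (π i)) (minpoly.monic (hint i)) d
        (by omega) (fun k hk => by
          have := hfe' (d - k) (Nat.sub_le _ _)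
          rw [show d - (d - k) = k by omega] at this
          rw [this]
          exact Dvd.dvd.mul_right (dvd_pow_self _ (Nat.mul_ne_zero (by omega) (by omega))) _)).1
      omega
    have h2 := Finset.sum_eq_sum_iff_of_le (s := Finset.univ) fun i _ => hle i
    rw [← Finset.mul_sum, hD] at h2
    simp only [Finset.mem_univ, true_imp_iff] at h2
    rw [← h2]
    omega
  refine ⟨WeilNum.hker S, ?_⟩
  rw [hord]
  exact ⟨fun hG hc => WeilNum.dvd_false S hG hc hweil, fun hc => WeilNum.gorenstein_of_ordinary S hc⟩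

end Groth.Agent.S17986
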