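import Groth.Statements.S17988
import Groth.Agent.GorLib.Dim1Reflexive
import Mathlib
-- import your own Groth.Agent.* helpers here

set_option autoImplicit false
universe u
open CAlg

namespace Groth.Agent.S17988

theorem injective_eval_of_free (Λ : Type u) [CommRing Λ] [IsDomain Λ]
    (S : Type u) [CommRing S] [Algebra Λ S] [Module.Finite Λ S] [IsReduced S] [IsNoetherianRing S]
    (M : Type u) [AddCommGroup M] [Module S M] [Module Λ M] [IsScalarTower Λ S M] [Module.Finite S M]
    [Module.Free Λ M] : Function.Injective (Module.Dual.eval S M) := by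
  rw [injective_iff_map_eq_zero]
  intro x hx
  by_contra hx0
  let T : Submonoid S := Algebra.algebraMapSubmonoid S (nonZeroDivisors Λ)
  let Q := Localization T
  haveI : IsArtinianRing Q := IsArtinianRing.of_finite (FractionRing Λ) Q
  haveI : IsSemisimpleRing Q := IsArtinianRing.isSemisimpleRing_of_isReduced Q
  let N := LocalizedModule T M
  let f : M →ₗ[S] N := LocalizedModule.mkLinearMap T M
  have hfx : f x ≠ 0 := by
    intro h0
    obtain ⟨⟨t, ht⟩, hts⟩ := (IsLocalizedModule.eq_zero_iff T f).1 h0
    obtain ⟨c, hc, rfl⟩ := ht
    have h1 : c • x = 0 := by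
      rw [← IsScalarTower.algebraMap_smul S c x]
      exact hts
    rcases smul_eq_zero.1 h1 with h | h
    · exact (nonZeroDivisors.ne_zero hc) h
    · exact hx0 h
  haveI : Module.Projective Q N := Module.projective_of_isSemisimpleRing Q N
  obtain ⟨ψ, hψ⟩ : ∃ ψ : Module.Dual Q N, ψ (f x) ≠ 0 := by
    by_contra hall
    push Not at hall
    exact hfx ((Module.forall_dual_apply_eq_zero_iff Q (f x)).1 hall)
  haveI : Module.FinitePresentation S M := Module.finitePresentation_of_finite S M
  obtain ⟨φ, s, hφ⟩ := Module.FinitePresentation.exists_lift_of_isLocalizedModule T (Algebra.linearMap S Q)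
    ((ψ.restrictScalars S).comp f)
  have h2 : φ x = 0 := LinearMap.congr_fun hx φ
  have h3 : algebraMap S Q (s : S) * ψ (f x) = 0 := by
    have h4 : algebraMap S Q (φ x) = (s : S) • ψ (f x) := LinearMap.congr_fun hφ x
    rw [h2, map_zero, Algebra.smul_def] at h4
    exact h4.symm
  exact hψ ((IsLocalization.map_units Q s).mul_right_eq_zero.1 h3)


/-- Let Λ be a principal ideal domain and S a commutative Λ-algebra which is finitely generated and free
as a Λ-module and reduced as a ring; let M be a finitely generated S-module. Then M is torsionless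
(the canonical map M → M** to the double S-dual is injective) if and only if M is free as a
Λ-module. If in addition S is a Gorenstein ring (it has Krull dimension at most 1, being finite over
Λ), then M is reflexive (M → M** bijective) if and only if M is free as a Λ-module, so that for such
S torsionless and reflexive finitely generated modules coincide. The published statement is the case
Λ = ℤ, resp. Λ = ℤ_ℓ for a prime ℓ, with S the minimal central order R_w of a finite set of Weil
q-numbers, resp. its ℓ-adic completion R_w ⊗ ℤ_ℓ, under the assumption that R_w is Gorenstein; the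
argument given there uses only that S is finite free over Λ, reduced, and (for reflexivity)
Gorenstein of dimension one. -/
theorem result (Λ : Type u) [CommRing Λ] [IsDomain Λ] [IsPrincipalIdealRing Λ]
    (S : Type u) [CommRing S] [Algebra Λ S] [Module.Finite Λ S] [Module.Free Λ S] [IsReduced S]
    (M : Type u) [AddCommGroup M] [Module S M] [Module Λ M] [IsScalarTower Λ S M] [Module.Finite S M] :
    (Function.Injective (Module.Dual.eval S M) ↔ Module.Free Λ M) ∧
      (LocCoh.IsGorensteinRing S → (Module.IsReflexive S M ↔ Module.Free Λ M)) := by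
  haveI : IsNoetherianRing S := IsNoetherianRing.of_finite Λ S
  haveI : Module.Finite Λ M := Module.Finite.trans S M
  have hiff : Function.Injective (Module.Dual.eval S M) ↔ Module.Free Λ M := by
    constructor
    · intro h
      obtain ⟨n, ι, hι⟩ := GorLib.exists_embedding M h
      exact Module.Free.of_equiv (LinearEquiv.ofInjective (ι.restrictScalars Λ) hι).symm
    · intro h
      exact injective_eval_of_free Λ S M
  refine ⟨hiff, fun hG => ⟨fun hR => hiff.1 hR.1.1, fun hfree => ?_⟩⟩
  haveI := hG
  have hdim : ringKrullDim S ≤ 1 := by
    refine le_trans (Order.krullDim_le_of_strictMono (fun q : PrimeSpectrum S => (⟨q.asIdeal.comap (algebraMap Λ S), inferInstance⟩ : PrimeSpectrum Λ)) fun a b hab => ?_) ?_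
    · obtain ⟨y, hyb, hya⟩ := SetLike.exists_of_lt (show a.asIdeal < b.asIdeal from hab)
      exact Ideal.comap_lt_comap_of_integral_mem_sdiff hab.le ⟨hyb, hya⟩ (Algebra.IsIntegral.isIntegral y)
    · exact_mod_cast Ring.krullDimLE_iff.1 (inferInstance : Ring.KrullDimLE 1 Λ)
  exact ⟨GorLib.bijective_eval hdim M (hiff.2 hfree)⟩

end Groth.Agent.S17988
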