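import Groth.Statements.S17989
import Groth.Agent.GorLib.RingLevel
import Mathlib
-- import your own Groth.Agent.* helpers here

set_option autoImplicit false
universe u
open CategoryTheory
open CAlg

namespace Groth.Agent.S17989

/-- Let S be a Gorenstein ring (a Noetherian ring all of whose localizations at prime ideals have finite
injective dimension as modules over themselves) of Krull dimension 1, and let M be a finitely
generated reflexive S-module (the canonical map M → M** is bijective). Then Ext¹_S(M, S) = 0. -/
theorem result (S : Type u) [CommRing S]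
    [LocCoh.IsGorensteinRing S] (hdim : ringKrullDim S = 1)
    (M : Type u) [AddCommGroup M] [Module S M] [Module.Finite S M] [Module.IsReflexive S M] :
    Subsingleton (Abelian.Ext (ModuleCat.of S M) (ModuleCat.of S S) 1) := by
  have hinj : HasInjectiveDimensionLT (ModuleCat.of S S) 2 := by
    refine (ModuleCat.hasInjectiveDimensionLE_iff_forall_primeSpectrum 1 (ModuleCat.of S S)).2 fun p => ?_
    haveI := LocCoh.IsGorensteinRing.isGorensteinLocalRing_localization (A := S) p.asIdeal
    obtain ⟨d, hd⟩ := ENat.ne_top_iff_exists.1 (Ideal.height_ne_top (I := p.asIdeal) (Ideal.IsPrime.ne_top'))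
    refine (GorLib.hasInjDimLT_self_iff p.asIdeal.primeCompl 1).1 (GorLib.injDim_le_of_dim
      ((IsLocalization.AtPrime.ringKrullDim_eq_height p.asIdeal (Localization.AtPrime p.asIdeal)).trans (by rw [← hd]; rfl)) ?_)
    have h1 := (ringKrullDim_le_iff_height_le _).1 hdim.le (p := p.asIdeal) p.isPrime
    rw [← hd] at h1
    exact_mod_cast h1
  obtain ⟨n, π, hπ⟩ := Module.Finite.exists_fin' S (Module.Dual S M)
  let ι : M →ₗ[S] Module.Dual S (Fin n → S) := π.dualMap.comp (Module.Dual.eval S M)
  have hι : Function.Injective ι :=
    (LinearMap.dualMap_injective_of_surjective hπ).comp (Module.IsReflexive.bijective_dual_eval' (R := S) (M := M)).1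
  let C := Module.Dual S (Fin n → S) ⧸ LinearMap.range ι
  let T : ShortComplex (ModuleCat.{u} S) := ShortComplex.mk (ModuleCat.ofHom ι) (ModuleCat.ofHom (LinearMap.range ι).mkQ)
    (by ext x; exact (Submodule.Quotient.mk_eq_zero _).2 ⟨x, rfl⟩)
  have hT : T.ShortExact :=
    { exact := by
        rw [ShortComplex.ShortExact.moduleCat_exact_iff_function_exact]
        exact LinearMap.exact_map_mkQ_range ι
      mono_f := (ModuleCat.mono_iff_injective _).2 hι
      epi_g := (ModuleCat.epi_iff_surjective _).2 (Submodule.mkQ_surjective _) }
  refine ⟨fun a b => ?_⟩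
  have key : ∀ x : Abelian.Ext (ModuleCat.of S M) (ModuleCat.of S S) 1, x = 0 := fun x => by
    haveI : Projective T.X₂ := by
      haveI : Module.Projective S (Module.Dual S (Fin n → S)) := inferInstance
      exact (IsProjective.iff_projective _).1 inferInstance
    haveI := hinj
    obtain ⟨y, hy⟩ := Abelian.Ext.contravariant_sequence_exact₁ hT (ModuleCat.of S S) x (n₁ := 2) rfl
      ((HasInjectiveDimensionLT.subsingleton (ModuleCat.of S S) 2 2 le_rfl T.X₃).elim _ _)
    rw [← hy, Abelian.Ext.eq_zero_of_projective y, Abelian.Ext.comp_zero]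
  exact (key a).trans (key b).symm

end Groth.Agent.S17989
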