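import Groth.Statements.S18003
import Mathlib
import Groth.Agent.WeilNum.Action
-- import your own Groth.Agent.* helpers here

set_option autoImplicit false
universe u
open MvPolynomial
open WeilNum

namespace Groth.Agent.S18003

/-- Let p be a prime, e ≥ 1 and q = p^e; let (π_i) be a finite family of pairwise nonconjugate Weil
q-numbers (π_i in a field K_i of characteristic zero, integral over ℤ with minimal polynomial P_i,
all complex roots of P_i of absolute value √q, P_i ≠ P_j for i ≠ j) of even total degree Σ_i deg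
P_i, P_w = ∏_i P_i, and R_w ⊆ ∏_i K_i the minimal central order, the image of ℤ[F, V] → ∏_i K_i, F ↦
(π_i), V ↦ (q/π_i). Let T be a finitely generated free ℤ-module and F_T an endomorphism of T. Then
there exists an R_w-module structure on the additive group T in which the class of F acts as F_T if
and only if P_w(F_T) = 0 (equivalently: F_T is semisimple after tensoring with ℚ, with eigenvalues
among the conjugates of the π_i) and there is an endomorphism V_T of T with F_T ∘ V_T = q. When it
exists the structure is determined by F_T (the class of V acts as V_T = q·F_T⁻¹), and reflexive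
R_w-modules are exactly the ℤ-free finitely generated ones, so this identifies the objects of
Refl(R_w) with such pairs (T, F_T); the uniqueness remark is not part of the formal statement. -/
theorem result (p e : ℕ) [Fact p.Prime] (he : 0 < e)
    (ι : Type) [Fintype ι] (K : ι → Type u) [∀ i, Field (K i)] [∀ i, CharZero (K i)] (π : ∀ i, K i)
    (hint : ∀ i, IsIntegral ℤ (π i))
    (hweil : ∀ i, ∀ z ∈ (minpoly ℤ (π i)).aroots ℂ, ‖z‖ = Real.sqrt ((p : ℝ) ^ e))
    (hinj : ∀ i j, minpoly ℤ (π i) = minpoly ℤ (π j) → i = j)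
    (D : ℕ) (hD : ∑ i, (minpoly ℤ (π i)).natDegree = 2 * D)
    (T : Type) [AddCommGroup T] [Module.Finite ℤ T] [Module.Free ℤ T] (FT : T →ₗ[ℤ] T) :
    (∃ _ : Module (MvPolynomial.aeval ![fun i => π i, fun i => ((p : K i) ^ e) / π i] :
        MvPolynomial (Fin 2) ℤ →ₐ[ℤ] ((i : ι) → K i)).range T,
        ∀ t : T, (⟨(MvPolynomial.aeval ![fun i => π i, fun i => ((p : K i) ^ e) / π i] :
        MvPolynomial (Fin 2) ℤ →ₐ[ℤ] ((i : ι) → K i)) (X 0), AlgHom.mem_range_self _ _⟩ : (MvPolynomial.aeval ![fun i => π i, fun i => ((p : K i) ^ e) / π i] :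
        MvPolynomial (Fin 2) ℤ →ₐ[ℤ] ((i : ι) → K i)).range) • t = FT t) ↔
      (Polynomial.aeval FT (∏ i, minpoly ℤ (π i)) = 0 ∧
        ∃ VT : T →ₗ[ℤ] T, FT ∘ₗ VT = ((p : ℤ) ^ e) • LinearMap.id) := by
  have hp : 0 < p := (Fact.out : p.Prime).pos
  have hf := WeilNum.family hp hint hweil hinj hD
  obtain ⟨h, hd⟩ := WeilNum.exists_datum hp hint hweil hD
  constructor
  · rintro ⟨m, hm⟩
    letI := m
    let φ : (MvPolynomial.aeval ![fun i => π i, fun i => ((p : K i) ^ e) / π i] :
        MvPolynomial (Fin 2) ℤ →ₐ[ℤ] ((i : ι) → K i)).range →+* Module.End ℤ T :=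
      { toFun := fun r => (DistribSMul.toAddMonoidHom T r).toIntLinearMap
        map_one' := LinearMap.ext fun t => one_smul _ t
        map_mul' := fun a b => LinearMap.ext fun t => mul_smul a b t
        map_zero' := LinearMap.ext fun t => zero_smul _ t
        map_add' := fun a b => LinearMap.ext fun t => add_smul a b t }
    let E := (MvPolynomial.aeval ![fun i => π i, fun i => ((p : K i) ^ e) / π i] :
        MvPolynomial (Fin 2) ℤ →ₐ[ℤ] ((i : ι) → K i))
    let ψ : MvPolynomial (Fin 2) ℤ →ₐ[ℤ] Module.End ℤ T :=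
      (φ.comp E.rangeRestrict.toRingHom).toIntAlgHom
    have hF : ψ (X 0) = FT := LinearMap.ext hm
    have hker : ∀ g, E g = 0 → ψ g = 0 := fun g hg => by
      change φ (E.rangeRestrict g) = 0
      rw [show E.rangeRestrict g = 0 from Subtype.ext hg, map_zero]
    refine ⟨?_, ψ (X 1), ?_⟩
    · rw [← hF, Polynomial.aeval_algHom_apply]
      refine hker _ ?_
      rw [← Polynomial.aeval_algHom_apply]
      funext i
      have := (Polynomial.aeval_algHom_apply (Pi.evalAlgHom ℤ K i) (E (X 0))
        (∏ i, minpoly ℤ (π i))).symm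
      simp only [Pi.evalAlgHom_apply] at this
      rw [this, map_prod, Finset.prod_eq_zero (Finset.mem_univ i)]
      · rfl
      · simpa [E] using minpoly.aeval ℤ (π i)
    · have := hker (X 0 * X 1 - C ((p : ℤ) ^ e))
        (WeilNum.span_le_ker hf hd (Ideal.subset_span (by simp)))
      rw [map_sub, map_mul, hF, sub_eq_zero] at this
      rw [← Module.End.mul_eq_comp, this, ← MvPolynomial.algebraMap_eq, AlgHom.commutes]
      exact LinearMap.ext fun t => Module.algebraMap_end_apply ℤ ℤ T _ t
  · rintro ⟨hP, VT, hV⟩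
    obtain ⟨φ, hφ⟩ := WeilNum.exists_action hf hd FT VT hP hV
    exact ⟨Module.compHom T φ, hφ⟩

end Groth.Agent.S18003
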