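import Groth.Statements.S18019
import Mathlib
-- import your own Groth.Agent.* helpers here

set_option autoImplicit false
universe u
open ClassStk

namespace Groth.Agent.S18019

open Polynomial in
/-- Let R be an integral domain of characteristic 2 and let a be a nonzero element of R, so that x ↦ x +
a defines an R-algebra involution of the polynomial ring R[x] (an action of the group of order two).
A polynomial f is invariant, f(x + a) = f(x), if and only if f belongs to the R-subalgebra generated
by u = x (x + a); in other words the ring of invariants is the polynomial ring R[u]. -/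
theorem result (R : Type u) [CommRing R] [IsDomain R]
    [CharP R 2] (a : R) (ha : a ≠ 0) (f : Polynomial R) :
    f.comp (X + C a) = f ↔ f ∈ Algebra.adjoin R ({X * (X + C a)} : Set (Polynomial R)) := by
  set u : Polynomial R := Polynomial.X * (Polynomial.X + Polynomial.C a) with hu
  have hCa : Polynomial.C a + Polynomial.C a = 0 := by rw [← map_add, CharTwo.add_self_eq_zero, map_zero]
  have huinv : u.comp (Polynomial.X + Polynomial.C a) = u := by
    simp only [hu, Polynomial.mul_comp, Polynomial.add_comp, Polynomial.X_comp, Polynomial.C_comp]
    rw [add_assoc, hCa, add_zero, mul_comm]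
  constructor
  · induction hn : f.natDegree using Nat.strong_induction_on generalizing f with
    | _ n ih =>
    intro hf
    have hmon : u.Monic := Polynomial.monic_X.mul (Polynomial.monic_X_add_C a)
    have hdeg : u.natDegree = 2 := by
      rw [hu, Polynomial.Monic.natDegree_mul Polynomial.monic_X (Polynomial.monic_X_add_C a),
        Polynomial.natDegree_X, Polynomial.natDegree_X_add_C]
    have hsplit := Polynomial.modByMonic_add_div f u
    set r := f %ₘ u with hr
    set q := f /ₘ u with hq
    have hr1 : r.natDegree < 2 := hdeg ▸ Polynomial.natDegree_modByMonic_lt f hmon (fun h => by simp [h] at hdeg)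
    have hmon' : (u : Polynomial R) ≠ 0 := hmon.ne_zero
    have hcomp := hf
    rw [← hsplit, Polynomial.add_comp, Polynomial.mul_comp, huinv] at hcomp
    have hz : u * (q.comp (Polynomial.X + Polynomial.C a) - q) = r - r.comp (Polynomial.X + Polynomial.C a) := by
      linear_combination hcomp
    have hrb := Polynomial.eq_X_add_C_of_natDegree_le_one (show r.natDegree ≤ 1 by omega)
    have hrd : r - r.comp (Polynomial.X + Polynomial.C a) = - Polynomial.C (r.coeff 1 * a) := by
      conv_lhs => rw [hrb]
      simp only [Polynomial.add_comp, Polynomial.mul_comp, Polynomial.X_comp, Polynomial.C_comp, map_mul]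
      ring
    rw [hrd] at hz
    have hqc : q.comp (Polynomial.X + Polynomial.C a) - q = 0 := by
      by_contra hne
      have := congrArg Polynomial.natDegree hz
      rw [Polynomial.natDegree_mul hmon' hne, hdeg, Polynomial.natDegree_neg, Polynomial.natDegree_C] at this
      omega
    rw [hqc, mul_zero, eq_comm, neg_eq_zero, Polynomial.C_eq_zero] at hz
    have hb : r.coeff 1 = 0 := (mul_eq_zero.1 hz).resolve_right ha
    rw [hb, map_zero, zero_mul, zero_add] at hrb
    rw [← hsplit]
    refine add_mem ?_ (mul_mem (Algebra.subset_adjoin rfl) ?_)
    · rw [hrb]; exact Subalgebra.algebraMap_mem _ _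
    · by_cases hq0 : q = 0
      · rw [hq0]; exact zero_mem _
      refine ih q.natDegree ?_ q rfl (sub_eq_zero.1 hqc)
      have hd : q.natDegree = f.natDegree - u.natDegree := Polynomial.natDegree_divByMonic f hmon
      have : 2 ≤ f.natDegree := by
        by_contra hlt
        exact hq0 ((Polynomial.divByMonic_eq_zero_iff hmon).2 (Polynomial.degree_lt_degree (by omega)))
      omega
  · intro hf
    induction hf using Algebra.adjoin_induction with
    | mem x hx => rw [Set.mem_singleton_iff.1 hx]; exact huinv
    | algebraMap c => exact Polynomial.C_comp
    | add x y _ _ hx hy => rw [Polynomial.add_comp, hx, hy]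
    | mul x y _ _ hx hy => rw [Polynomial.mul_comp, hx, hy]

end Groth.Agent.S18019
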