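import Mathlib
import Groth.Statements.S18020
-- import your own Groth.Agent.* helpers here

set_option autoImplicit false
open W4c5stacksedinertia

namespace Groth.Agent.S18020

open W4c5stacksedinertia in
/-- In the rational vector space K with basis the isomorphism classes of finite groups (the class of a
group standing for its classifying groupoid), the inertia operator, which sends the class of a
finite group to the sum over its conjugacy classes of the classes of the centralizers of
representatives, preserves the subspace spanned by the classes of groups of order at most `n`. -/
theorem result (n : ℕ) (v : K) (hv : v ∈ Kle n) :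
    inertia v ∈ Kle n := by
  classical
  have hcard : ∀ (H : Type) [Group H] [Finite H], (Idx.of H).card = Nat.card H := by
    intro H _ _
    obtain ⟨e⟩ : Nonempty ((Quotient.out (s := FinGrp.setoid) (Idx.of H)).carrier ≃* (FinGrp.of H).carrier) :=
      Quotient.mk_out (s := FinGrp.setoid) (FinGrp.of H)
    show Nat.card (Quotient.out (s := FinGrp.setoid) (Idx.of H)).carrier = _
    rw [Nat.card_congr e.toEquiv]
    exact Nat.card_fin _
  rw [inertia, inertiaR, Finsupp.linearCombination_apply]
  refine Submodule.sum_mem _ fun i hi => Submodule.smul_mem _ _ ?_
  have hin : i.card ≤ n := (Finsupp.mem_supported ℚ v).1 hv hi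
  unfold inertiaROf
  refine finsum_induction (fun w => w ∈ Kle n) (zero_mem _) (fun _ _ => add_mem) fun o => ?_
  refine Finsupp.single_mem_supported ℚ 1 ?_
  show (Idx.of _).card ≤ n
  rw [hcard]
  exact le_trans (Subgroup.card_le_card_group _) hin

end Groth.Agent.S18020
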