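import Groth.Statements.S1803
import Groth.Agent.GorLib.FieldExt
import Mathlib
-- import your own Groth.Agent.* helpers here

set_option autoImplicit false
universe u
open scoped TensorProduct
open Goren

namespace Groth.Agent.S1803

/-- Let k'/k be any field extension, C a k-algebra of finite type, q a prime of C ⊗_k k' and p its
contraction to C. Then C_p is Gorenstein if and only if (C ⊗_k k')_q is Gorenstein. -/
theorem result (k k' : Type u) [Field k] [Field k'] [Algebra k k'] (C : Type u) [CommRing C] [Algebra k C] [Algebra.FiniteType k C] (q : PrimeSpectrum (C ⊗[k] k')) : LocCoh.IsGorensteinLocalRing (Localization.AtPrime (q.asIdeal.comap (algebraMap C (C ⊗[k] k')))) ↔ LocCoh.IsGorensteinLocalRing (Localization.AtPrime q.asIdeal) := by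
  haveI : IsNoetherianRing C := Algebra.FiniteType.isNoetherianRing k C
  haveI : Algebra.FiniteType k' (k' ⊗[k] C) := Algebra.FiniteType.baseChange k'
  haveI := Algebra.FiniteType.isNoetherianRing k' (k' ⊗[k] C)
  haveI : IsNoetherianRing (C ⊗[k] k') := isNoetherianRing_of_ringEquiv _
    (Algebra.TensorProduct.comm k k' C).toRingEquiv
  rw [GorLib.gorenstein_atPrime_iff (A := C) q.asIdeal]
  refine ⟨fun h => ⟨h, ?_⟩, And.left⟩
  obtain ⟨Q, _, ⟨e⟩⟩ := FlatAscent.exists_fibre_prime (A := C) q.asIdeal
  let p := q.asIdeal.comap (algebraMap C (C ⊗[k] k'))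
  haveI := GorLib.isGorensteinRing_field k'
  haveI : Algebra.EssFiniteType k p.ResidueField := Algebra.EssFiniteType.comp k C p.ResidueField
  have hfg : ∃ s : Finset p.ResidueField, IntermediateField.adjoin k (s : Set p.ResidueField) = ⊤ := by
    exact IntermediateField.fg_top_iff.2 inferInstance
  haveI := GorLib.isGorensteinRing_tensor_fg k p.ResidueField k' hfg
  haveI : LocCoh.IsGorensteinRing (p.Fiber (C ⊗[k] k')) := SegreOne.isGorensteinRing_of_ringEquiv
    (Algebra.TensorProduct.cancelBaseChange k C p.ResidueField p.ResidueField k').symm.toRingEquiv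
  exact (GorLib.gorenstein_iff_of_ringEquiv (A := Localization.AtPrime Q) e).1
    (LocCoh.IsGorensteinRing.isGorensteinLocalRing_localization Q)

end Groth.Agent.S1803
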