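import Groth.Statements.S18049
import Mathlib.Tactic

set_option autoImplicit false
open STCI

namespace Groth.Agent.S18049

/-- For natural numbers 0 < k < N such that k does not divide N, ⌊N/k⌋ ≤ (N - k)/gcd(k, N); stated here
in the equivalent cleared form ⌊N/k⌋ · gcd(k, N) ≤ N - k. -/
theorem result (k N : ℕ) (hk : 0 < k) (hkN : k < N) (hndvd : ¬ k ∣ N) :
    N / k * Nat.gcd k N ≤ N - k := by
  have hgk : Nat.gcd k N < k := by
    rcases (Nat.gcd_le_left N hk).lt_or_eq with h | h
    · exact h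
    · exact absurd (h ▸ Nat.gcd_dvd_right k N) hndvd
  have hq : 1 ≤ N / k := Nat.div_pos hkN.le hk
  rcases hq.lt_or_eq with h | h
  · obtain ⟨c, hc⟩ := Nat.gcd_dvd_left k N
    have hc2 : 2 ≤ c := by
      by_contra h'
      interval_cases c <;> omega
    have h1 : 2 * Nat.gcd k N ≤ k := by
      calc 2 * Nat.gcd k N ≤ c * Nat.gcd k N := Nat.mul_le_mul_right _ hc2
        _ = k := by rw [mul_comm]; exact hc.symm
    have h2 : N / k * k ≤ N := Nat.div_mul_le_self N k
    have h3 : 2 * k ≤ N / k * k := Nat.mul_le_mul_right _ h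
    have h4 : N / k * (2 * Nat.gcd k N) ≤ N / k * k := Nat.mul_le_mul_left _ h1
    rw [mul_left_comm] at h4
    omega
  · rw [← h, one_mul]
    exact Nat.le_of_dvd (by omega) (Nat.dvd_sub (Nat.gcd_dvd_right k N) (Nat.gcd_dvd_left k N))

end Groth.Agent.S18049
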