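import Groth.Statements.S18050
import Mathlib
-- import your own Groth.Agent.* helpers here

set_option autoImplicit false
open STCI

namespace Groth.Agent.S18050

open W4c5stcicurvesp3

theorem shift_irem (N k : ℕ) (hr : N % k ≠ 0) :
    ∀ i, irem N k (i + 1) = irem k (N % k) i := by
  intro i
  induction i using Nat.strong_induction_on with
  | _ i ih =>
    match i with
    | 0 => simp [irem]
    | 1 => simp [irem, hr]
    | n + 2 =>
      have h1 := ih n (by omega)
      have h2 := ih (n + 1) (by omega)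
      show (if irem N k (n + 1 + 1) = 0 then 0 else irem N k (n + 1) % irem N k (n + 1 + 1))
        = (if irem k (N % k) (n + 1) = 0 then 0 else irem k (N % k) n % irem k (N % k) (n + 1))
      rw [h2, h1]

theorem shift_idiv (N k : ℕ) (hr : N % k ≠ 0) :
    ∀ i, idiv N k (i + 2) = idiv k (N % k) (i + 1) := by
  intro i
  match i with
  | 0 => simp [idiv, irem, hr]
  | n + 1 =>
    show (if irem N k (n + 1 + 1) = 0 then 0 else irem N k (n + 1) / irem N k (n + 1 + 1))
      = (if irem k (N % k) (n + 1) = 0 then 0 else irem k (N % k) n / irem k (N % k) (n + 1))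
    rw [shift_irem N k hr (n + 1), shift_irem N k hr n]

theorem sum_shift (f : ℕ → ℕ) : ∀ n, ∑ i ∈ Finset.Icc 1 (n + 1), f i
    = f 1 + ∑ i ∈ Finset.Icc 1 n, f (i + 1)
  | 0 => by simp
  | n + 1 => by
    rw [Finset.sum_Icc_succ_top (by omega), sum_shift f n, Finset.sum_Icc_succ_top (by omega),
      add_assoc]

theorem key : ∀ (t N k : ℕ), 0 < k → k ≤ N → irem N k (t + 1) = 0 →
    (∀ i, 0 < i → i < t + 1 → irem N k i ≠ 0) →
    (∑ i ∈ Finset.Icc 1 (t + 1), idiv N k i) * Nat.gcd k N ≤ N := by
  intro t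
  induction t with
  | zero =>
    intro N k hk hkN _ _
    simp only [zero_add, Finset.Icc_self, Finset.sum_singleton, idiv]
    exact (Nat.mul_le_mul_left _ (Nat.gcd_le_left N hk)).trans (Nat.div_mul_le_self N k)
  | succ s ih =>
    intro N k hk hkN hzero hmin
    have hr : N % k ≠ 0 := by simpa [irem] using hmin 1 one_pos (by omega)
    have hrk : N % k < k := Nat.mod_lt _ hk
    have h := ih k (N % k) (Nat.pos_of_ne_zero hr) hrk.le
      (by rw [← shift_irem N k hr]; exact hzero)
      (fun i hi hit => by rw [← shift_irem N k hr]; exact hmin _ (by omega) (by omega))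
    rw [← Nat.gcd_rec] at h
    rw [sum_shift, add_mul]
    have hsum : ∑ i ∈ Finset.Icc 1 (s + 1), idiv N k (i + 1)
        = ∑ i ∈ Finset.Icc 1 (s + 1), idiv k (N % k) i := by
      refine Finset.sum_congr rfl fun i hi => ?_
      obtain ⟨j, rfl⟩ : ∃ j, i = j + 1 := ⟨i - 1, by simp at hi; omega⟩
      exact shift_idiv N k hr j
    rw [hsum]
    have hg : Nat.gcd k N ≤ N % k := by
      refine Nat.le_of_dvd (Nat.pos_of_ne_zero hr) ?_
      exact (Nat.dvd_mod_iff (Nat.gcd_dvd_left k N)).mpr (Nat.gcd_dvd_right k N)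
    have hq : 1 ≤ N / k := Nat.div_pos hkN hk
    have hN : k * (N / k) + N % k = N := Nat.div_add_mod N k
    have hidiv : idiv N k 1 = N / k := rfl
    rw [hidiv]
    generalize N / k = q at *
    generalize N % k = r at *
    generalize Nat.gcd k N = g at *
    nlinarith

open W4c5stcicurvesp3 in
/-- Let k ≤ N be positive integers, let t be the least positive integer with rem_t(N, k) = 0, where
rem_0 = k, rem_1 = N mod k and rem_i is the remainder of rem_{i-2} by rem_{i-1} (iterated Euclidean
remainders), and let d_i be the corresponding iterated quotients (d_1 = ⌊N/k⌋, d_i =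
⌊rem_{i-2}/rem_{i-1}⌋). Then d_1 + ⋯ + d_t ≤ N/gcd(k, N); stated in the cleared form (d_1 + ⋯ + d_t)
· gcd(k, N) ≤ N. -/
theorem result (k N t : ℕ) (hk : 0 < k) (hkN : k ≤ N) (ht : 0 < t)
    (hzero : irem N k t = 0) (hmin : ∀ i, 0 < i → i < t → irem N k i ≠ 0) :
    (∑ i ∈ Finset.Icc 1 t, idiv N k i) * Nat.gcd k N ≤ N := by
  obtain ⟨s, rfl⟩ : ∃ s, t = s + 1 := ⟨t - 1, by omega⟩
  exact key s N k hk hkN hzero hmin

end Groth.Agent.S18050
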