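import Mathlib
import Groth.Statements.S18051
-- import your own Groth.Agent.* helpers here

set_option autoImplicit false
open STCI

namespace Groth.Agent.S18051

open W4c5stcicurvesp3 in
/-- Let k ≤ N/2 be positive integers and let r_i = rem_i(N, k), d_i = div_i(N, k) be the iterated
Euclidean remainders and quotients of (N, k) (r_0 = k, r_1 = N mod k, r_2 = r_0 mod r_1, d_1 =
⌊N/k⌋, d_2 = ⌊r_0/r_1⌋). If the least positive t with r_t = 0 satisfies t ≥ 3, i.e. r_1 ≠ 0 and r_2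
≠ 0, then (r_0 - r_1)/d_1 + (r_1 - r_2)/(d_1 + d_2) + r_2/(d_1 + d_2 + 1) ≤ k²/N (in ℚ). -/
theorem result (k N : ℕ) (hk : 0 < k) (hkN : 2 * k ≤ N)
    (h1 : irem N k 1 ≠ 0) (h2 : irem N k 2 ≠ 0) :
    ((irem N k 0 : ℚ) - irem N k 1) / (idiv N k 1)
      + ((irem N k 1 : ℚ) - irem N k 2) / ((idiv N k 1 : ℚ) + idiv N k 2)
      + (irem N k 2 : ℚ) / ((idiv N k 1 : ℚ) + idiv N k 2 + 1)
      ≤ (k : ℚ) ^ 2 / N := by
  have hk2 : irem N k 0 = k := rfl
  have hr1 : irem N k 1 = N % k := rfl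
  have hr2 : irem N k 2 = k % irem N k 1 := by
    rw [show irem N k 2 = if irem N k 1 = 0 then 0 else irem N k 0 % irem N k 1 from rfl, if_neg h1]
    rfl
  have hd1 : idiv N k 1 = N / k := rfl
  have hd2 : idiv N k 2 = k / irem N k 1 := by
    rw [show idiv N k 2 = if irem N k 1 = 0 then 0 else irem N k 0 / irem N k 1 from rfl, if_neg h1]
    rfl
  set r := irem N k 1 with hr
  set s := irem N k 2 with hs
  set a := idiv N k 1 with ha
  set b := idiv N k 2 with hb
  have hN : N = a * k + r := by rw [hd1, hr1, mul_comm]; exact (Nat.div_add_mod N k).symm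
  have hkk : k = b * r + s := by rw [hd2, hr2, mul_comm]; exact (Nat.div_add_mod k r).symm
  have hrk : r < k := hr1 ▸ Nat.mod_lt _ hk
  have hsr : s < r := hr2 ▸ Nat.mod_lt _ (Nat.pos_of_ne_zero h1)
  have ha2 : 2 ≤ a := by rw [hd1, Nat.le_div_iff_mul_le hk]; exact hkN
  have hb1 : 1 ≤ b := by rw [hd2, Nat.one_le_div_iff (Nat.pos_of_ne_zero h1)]; exact hrk.le
  have hs1 : 1 ≤ s := Nat.pos_of_ne_zero h2
  rw [hk2]
  have hNq : (N : ℚ) = a * k + r := by exact_mod_cast hN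
  have hkq : (k : ℚ) = b * r + s := by exact_mod_cast hkk
  have hsrq : (s : ℚ) + 1 ≤ r := by exact_mod_cast hsr
  have ha2q : (2 : ℚ) ≤ a := by exact_mod_cast ha2
  have hb1q : (1 : ℚ) ≤ b := by exact_mod_cast hb1
  have hs1q : (1 : ℚ) ≤ s := by exact_mod_cast hs1
  have hS : (0 : ℚ) < (a : ℚ) + b := by linarith
  have hNpos : (0 : ℚ) < N := by rw [hNq]; positivity
  have haN : (0 : ℚ) < a := by linarith
  have hbr : (b : ℚ) * r + s = k := hkq.symm
  have key : (k : ℚ) ^ 2 / N - ((((k : ℚ) - r) / a + ((r : ℚ) - s) / ((a : ℚ) + b)) + (s : ℚ) / ((a : ℚ) + b + 1)) =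
      ((r : ℚ) * k * ((a - 1) * (b - 1)) * (a + b + 1) + s * (a * N - r * (a + b + 1))) /
        (a * N * ((a : ℚ) + b) * (a + b + 1)) := by
    have hne : (a : ℚ) * k + r ≠ 0 := hNq ▸ hNpos.ne'
    rw [hNq, hkq]
    rw [hkq] at hne
    field_simp
    ring
  rw [← sub_nonneg, key]
  refine div_nonneg (add_nonneg ?_ ?_) (by positivity)
  · exact mul_nonneg (mul_nonneg (by positivity) (mul_nonneg (by linarith) (by linarith))) (by linarith)
  · refine mul_nonneg (by linarith) ?_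
    rw [hNq]
    have hkr : (r : ℚ) + b * r ≤ a * (a * k) := by
      have h3 : (r : ℚ) ≤ k := by exact_mod_cast hrk.le
      have h4 : (4 : ℚ) * k ≤ a * (a * k) := by nlinarith
      nlinarith
    nlinarith

end Groth.Agent.S18051
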