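import Mathlib
import Groth.Agent.S18051
import Groth.Statements.S18052
-- import your own Groth.Agent.* helpers here

set_option autoImplicit false
open STCI

namespace Groth.Agent.S18052

open W4c5stcicurvesp3 in
/-- Let k ≤ N/2 be positive integers, let r_i = rem_i(N, k) and d_i = div_i(N, k) be the iterated
Euclidean remainders and quotients of (N, k) (r_0 = k, r_1 = N mod k, …; d_1 = ⌊N/k⌋, d_i =
⌊r_{i-2}/r_{i-1}⌋), and let t be the least positive integer with r_t = 0. Then the sum over i = 0,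
…, t - 1 of (r_i - r_{i+1})/(d_1 + ⋯ + d_{i+1}) is at most k²/N (in ℚ). -/
theorem result (k N t : ℕ) (hk : 0 < k) (hkN : 2 * k ≤ N) (ht : 0 < t)
    (hzero : irem N k t = 0) (hmin : ∀ i, 0 < i → i < t → irem N k i ≠ 0) :
    ∑ i ∈ Finset.range t, ((irem N k i : ℚ) - irem N k (i + 1)) / (∑ j ∈ Finset.Icc 1 (i + 1), (idiv N k j : ℚ))
      ≤ (k : ℚ) ^ 2 / N := by
  have hstep : ∀ i, irem N k (i + 1) ≠ 0 → irem N k (i + 2) = irem N k i % irem N k (i + 1) ∧ idiv N k (i + 2) = irem N k i / irem N k (i + 1) :=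
    fun i h => ⟨by rw [show irem N k (i + 2) = if irem N k (i + 1) = 0 then 0 else irem N k i % irem N k (i + 1) from rfl, if_neg h],
      by rw [show idiv N k (i + 2) = if irem N k (i + 1) = 0 then 0 else irem N k i / irem N k (i + 1) from rfl, if_neg h]⟩
  have hk0 : irem N k 0 = k := rfl
  have hd1 : idiv N k 1 = N / k := rfl
  have hr1 : irem N k 1 = N % k := rfl
  have hN : (N : ℚ) = (idiv N k 1 : ℚ) * k + irem N k 1 := by
    rw [hd1, hr1]; exact_mod_cast (by rw [mul_comm]; exact (Nat.div_add_mod N k).symm)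
  have ha2 : 2 ≤ idiv N k 1 := by rw [hd1, Nat.le_div_iff_mul_le hk]; exact hkN
  have ha2q : (2 : ℚ) ≤ (idiv N k 1 : ℚ) := by exact_mod_cast ha2
  have hdec : ∀ i, i < t → irem N k (i + 1) ≤ irem N k i := by
    intro i hi
    rcases i with - | i
    · rw [hr1, hk0]; exact (Nat.mod_lt _ hk).le
    · rw [(hstep i (hmin _ (Nat.succ_pos i) hi)).1]
      exact (Nat.mod_lt _ (Nat.pos_of_ne_zero (hmin _ (Nat.succ_pos i) hi))).le
  obtain rfl | rfl | ht3 : t = 1 ∨ t = 2 ∨ 3 ≤ t := by omega
  · rw [Finset.sum_range_one, hk0, hzero, zero_add, Finset.Icc_self, Finset.sum_singleton, Nat.cast_zero, sub_zero, hN, hzero, Nat.cast_zero, add_zero]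
    exact le_of_eq (by field_simp)
  · have h1 := hmin 1 one_pos one_lt_two
    have hrk : irem N k 1 < k := hr1 ▸ Nat.mod_lt _ hk
    have hd2 : idiv N k 2 = k / irem N k 1 := (hstep 0 h1).2
    have hb1 : 1 ≤ idiv N k 2 := by rw [hd2, Nat.one_le_div_iff (Nat.pos_of_ne_zero h1)]; exact hrk.le
    have hkk : (k : ℚ) = (idiv N k 2 : ℚ) * irem N k 1 := by
      have : irem N k 2 = k % irem N k 1 := (hstep 0 h1).1
      rw [hzero] at this
      rw [hd2]; exact_mod_cast (Nat.div_mul_cancel (Nat.dvd_of_mod_eq_zero this.symm)).symm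
    rw [Finset.sum_range_succ, Finset.sum_range_one, hk0, hzero, zero_add, Finset.Icc_self, Finset.sum_singleton,
      show Finset.Icc 1 (1 + 1) = {1, 2} from rfl, Finset.sum_pair (by norm_num), Nat.cast_zero, sub_zero]
    have hb1q : (1 : ℚ) ≤ (idiv N k 2 : ℚ) := by exact_mod_cast hb1
    have hrpos : (0 : ℚ) < (irem N k 1 : ℚ) := by exact_mod_cast Nat.pos_of_ne_zero h1
    generalize (idiv N k 1 : ℚ) = a at *
    generalize (idiv N k 2 : ℚ) = b at *
    generalize (irem N k 1 : ℚ) = r at *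
    have key : (k : ℚ) ^ 2 / N - (((k : ℚ) - r) / a + r / (a + b)) = r * k * ((a - 1) * (b - 1)) / (a * N * (a + b)) := by
      have : a ≠ 0 := by linarith
      have : a + b ≠ 0 := by linarith
      have : (0 : ℚ) < a * (b * r) + r := by positivity
      rw [hN, hkk]
      field_simp
      ring
    rw [← sub_nonneg, key]
    refine div_nonneg (mul_nonneg (by positivity) (mul_nonneg (by linarith) (by linarith))) (by positivity)
  · obtain ⟨u, rfl⟩ : ∃ u, t = 2 + u := ⟨t - 2, by omega⟩
    have h1 := hmin 1 one_pos (by omega)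
    have h2 := hmin 2 two_pos (by omega)
    refine le_trans ?_ (Groth.Agent.S18051.result k N hk hkN h1 h2)
    rw [Finset.sum_range_add, Finset.sum_range_succ, Finset.sum_range_one, zero_add, Finset.Icc_self, Finset.sum_singleton,
      show Finset.Icc 1 (1 + 1) = {1, 2} from rfl, Finset.sum_pair (by norm_num)]
    refine add_le_add le_rfl ?_
    have hd3 : 1 ≤ idiv N k 3 := by
      rw [(hstep 1 h2).2, Nat.one_le_div_iff (Nat.pos_of_ne_zero h2)]
      exact hdec 1 (by omega)
    have hC : ∀ i, (idiv N k 1 : ℚ) + idiv N k 2 + 1 ≤ ∑ j ∈ Finset.Icc 1 (2 + i + 1), (idiv N k j : ℚ) := by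
      intro i
      refine le_trans ?_ (Finset.sum_le_sum_of_subset_of_nonneg (Finset.Icc_subset_Icc_right (by omega : 3 ≤ 2 + i + 1)) fun j _ _ => Nat.cast_nonneg _)
      rw [show Finset.Icc 1 3 = {1, 2, 3} from rfl, Finset.sum_insert (by simp), Finset.sum_pair (by norm_num), ← add_assoc]
      gcongr
      exact_mod_cast hd3
    have hpos : (0 : ℚ) < (idiv N k 1 : ℚ) + idiv N k 2 + 1 := by positivity
    calc ∑ i ∈ Finset.range u, ((irem N k (2 + i) : ℚ) - irem N k (2 + i + 1)) / (∑ j ∈ Finset.Icc 1 (2 + i + 1), (idiv N k j : ℚ))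
        ≤ ∑ i ∈ Finset.range u, ((irem N k (2 + i) : ℚ) - irem N k (2 + i + 1)) / ((idiv N k 1 : ℚ) + idiv N k 2 + 1) :=
          Finset.sum_le_sum fun i hi => by
            refine div_le_div_of_nonneg_left ?_ hpos (hC i)
            rw [sub_nonneg]
            exact_mod_cast hdec (2 + i) (by have := Finset.mem_range.1 hi; omega)
      _ = (irem N k 2 : ℚ) / ((idiv N k 1 : ℚ) + idiv N k 2 + 1) := by
          rw [← Finset.sum_div]
          simp only [add_assoc]
          rw [Finset.sum_range_sub' (fun i => (irem N k (2 + i) : ℚ))]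
          simp [hzero]

end Groth.Agent.S18052
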