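import Groth.Statements.S18053
import Mathlib

set_option autoImplicit false
open STCI

namespace Groth.Agent.S18053

/-- Let (p_k)_{k ≥ 1} be a sequence of nonnegative integers and n a nonnegative integer such that (i)
p_1 ≤ 9 - (2/5)n, (ii) p_1 ≥ p_2 ≥ p_3 ≥ ⋯, (iii) Σ_k p_k ≤ 19 - n, and (iv) n/4 + Σ_{k ≥ 1}
p_k/(k(k+1)) ≥ 6. Then n = 0 and (p_k) is one of (9, 8, 2), (9, 9), (9, 9, 1) (followed by zeros).
Here the sequence is indexed from 0 (so p 0 is p_1 and the weight of p k is 1/((k+1)(k+2))), (iii)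
is stated for every partial sum, and the series in (iv) is the real sum Σ' over all k. -/
theorem result (p : ℕ → ℕ) (n : ℕ)
    (h1 : (p 0 : ℝ) ≤ 9 - (2 / 5 : ℝ) * n) (h2 : Antitone p)
    (h3 : ∀ m : ℕ, ((∑ k ∈ Finset.range m, p k : ℕ) : ℝ) ≤ 19 - (n : ℝ))
    (h4 : (6 : ℝ) ≤ (n : ℝ) / 4 + ∑' k : ℕ, (p k : ℝ) / (((k : ℝ) + 1) * ((k : ℝ) + 2))) :
    n = 0 ∧ (p = (fun k => if k = 0 then 9 else if k = 1 then 8 else if k = 2 then 2 else 0)
      ∨ p = (fun k => if k = 0 then 9 else if k = 1 then 9 else 0)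
      ∨ p = (fun k => if k = 0 then 9 else if k = 1 then 9 else if k = 2 then 1 else 0)) := by
  have hS : ∀ m, (∑ k ∈ Finset.range m, p k) + n ≤ 19 := fun m => by
    have := h3 m
    exact_mod_cast (by linarith : ((∑ k ∈ Finset.range m, p k : ℕ) : ℝ) + n ≤ 19)
  have hz : ∀ k, 22 ≤ k → p k = 0 := fun k hk => by
    have h' : (k + 1) • p k ≤ ∑ i ∈ Finset.range (k + 1), p i := by
      simpa using Finset.card_nsmul_le_sum (Finset.range (k + 1)) p (p k)
        (fun i hi => h2 (Nat.le_of_lt_succ (Finset.mem_range.1 hi)))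
    have := hS (k + 1)
    rw [smul_eq_mul] at h'
    nlinarith
  rw [tsum_eq_sum (s := Finset.range 22) (fun k hk => by
    simp [hz k (by simpa using hk)])] at h4
  rw [Finset.sum_range_succ' _ 21, Finset.sum_range_succ' _ 20, Finset.sum_range_succ' _ 19] at h4
  have hle : ∑ k ∈ Finset.range 19, (p (k + 1 + 1 + 1) : ℝ) / ((((k + 1 + 1 + 1 : ℕ) : ℝ) + 1) * (((k + 1 + 1 + 1 : ℕ) : ℝ) + 2)) ≤
      ∑ k ∈ Finset.range 19, (p (k + 1 + 1 + 1) : ℝ) / 20 := by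
    refine Finset.sum_le_sum fun k _ => ?_
    refine div_le_div_of_nonneg_left (by positivity) (by norm_num) ?_
    push_cast
    nlinarith [(k.cast_nonneg : (0 : ℝ) ≤ k)]
  have h22 := hS 22
  rw [Finset.sum_range_succ' _ 21, Finset.sum_range_succ' _ 20, Finset.sum_range_succ' _ 19] at h22
  simp only [zero_add, Nat.cast_zero, Nat.cast_one, one_add_one_eq_two] at h4 h22
  rw [← Finset.sum_div] at hle
  set R : ℕ := ∑ k ∈ Finset.range 19, p (k + 1 + 1 + 1) with hR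
  rw [← Nat.cast_sum, ← hR] at hle
  have hb : (6 : ℝ) ≤ n / 4 + p 0 / 2 + p 1 / 6 + p 2 / 12 + R / 20 := by
    norm_num at h4 hle ⊢
    linarith
  have hN : 360 ≤ 15 * n + 30 * p 0 + 10 * p 1 + 5 * p 2 + 3 * R := by
    exact_mod_cast (by linarith : (360 : ℝ) ≤ 15 * n + 30 * p 0 + 10 * p 1 + 5 * p 2 + 3 * R)
  have h1' : 5 * p 0 + 2 * n ≤ 45 := by
    exact_mod_cast (by linarith : (5 : ℝ) * p 0 + 2 * n ≤ 45)
  have a1 : p 1 ≤ p 0 := h2 (by omega)
  have a2 : p 2 ≤ p 1 := h2 (by omega)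
  have a3 : R + p 2 + p 1 + p 0 + n ≤ 19 := by omega
  have a4 : R ≤ 19 * p 2 := by
    have := Finset.sum_le_card_nsmul (Finset.range 19) (fun k => p (k + 1 + 1 + 1)) (p 2)
      (fun k _ => h2 (by omega))
    simpa [hR] using this
  have hR0 : R = 0 := by omega
  have hrest : ∀ k, 3 ≤ k → p k = 0 := fun k hk => by
    rcases lt_or_ge k 22 with hlt | hge
    · have := (Finset.sum_eq_zero_iff.1 (hR.symm.trans hR0)) (k - 3) (Finset.mem_range.2 (by omega))
      rwa [show k - 3 + 1 + 1 + 1 = k by omega] at this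
    · exact hz k hge
  refine ⟨by omega, ?_⟩
  have hfun : ∀ g : ℕ → ℕ, p 0 = g 0 → p 1 = g 1 → p 2 = g 2 → (∀ k, 3 ≤ k → g k = 0) → p = g := by
    intro g g0 g1 g2 g3
    funext k
    match k with
    | 0 => exact g0
    | 1 => exact g1
    | 2 => exact g2
    | k + 3 => rw [hrest _ (by omega), g3 _ (by omega)]
  have g3 : ∀ a b c : ℕ, ∀ k, 3 ≤ k → (if k = 0 then a else if k = 1 then b else if k = 2 then c else 0) = 0 :=
    fun a b c k hk => by simp (disch := omega) only [if_neg]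
  rcases (by omega : (p 0 = 9 ∧ p 1 = 8 ∧ p 2 = 2) ∨ (p 0 = 9 ∧ p 1 = 9 ∧ p 2 = 0) ∨ (p 0 = 9 ∧ p 1 = 9 ∧ p 2 = 1)) with h | h | h
  · exact Or.inl (hfun _ h.1 h.2.1 h.2.2 (g3 _ _ _))
  · exact Or.inr (Or.inl (hfun _ h.1 h.2.1 h.2.2 (fun k hk => by simp (disch := omega) only [if_neg])))
  · exact Or.inr (Or.inr (hfun _ h.1 h.2.1 h.2.2 (g3 _ _ _)))

end Groth.Agent.S18053
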