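import Groth.Statements.S18055
import Mathlib.Tactic

set_option autoImplicit false
open STCI

namespace Groth.Agent.S18055

/-- Let d ≥ 1, g ≥ 0 and 1 ≤ s ≤ t be integers with d dividing st, put n = st/d and r = d[n(s - 4) + t]
+ (2 - 2g)n, and assume n ≥ 2, r > 0 and (n - 1) divides r. Then s < 2d² and t < 2d⁴. This is the
statement about the degree data (d, g the degree and genus of the curve, s ≤ t the degrees of the
two surfaces) to which the published proof reduces the degree bound: there the divisibility and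
positivity express that r/(n - 1), the common value of the type numbers of the pair, is a positive
integer; the geometric hypotheses themselves are not part of this row. -/
theorem result (d g s t n : ℤ) (hd : 1 ≤ d) (hg : 0 ≤ g) (hs : 1 ≤ s) (hst : s ≤ t)
    (hn : s * t = d * n) (hn2 : 2 ≤ n)
    (hpos : 0 < d * (n * (s - 4) + t) + (2 - 2 * g) * n)
    (hdvd : (n - 1) ∣ d * (n * (s - 4) + t) + (2 - 2 * g) * n) :
    s < 2 * d ^ 2 ∧ t < 2 * d ^ 4 := by
  set q := d * (s + t) - 4 * d + 2 - 2 * g with hq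
  set r := d * (n * (s - 4) + t) + (2 - 2 * g) * n with hr
  set K := d * s * (s - 4) + (2 - 2 * g) * s + d ^ 2 with hK
  have hrq : r = (n - 1) * (d * (s - 4) + 2 - 2 * g) + q := by rw [hr, hq]; ring
  have hqdvd : (n - 1) ∣ q := (dvd_add_right (dvd_mul_right _ _)).1 (hrq ▸ hdvd)
  have hn1 : 1 ≤ n - 1 := by omega
  have hqpos : 0 < q := by
    by_contra h
    push Not at h
    have h1 : 0 < d * (s - 4) + 2 - 2 * g := by
      by_contra h2
      push Not at h2
      nlinarith [mul_nonpos_of_nonneg_of_nonpos (show (0:ℤ) ≤ n - 1 by omega) h2]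
    have h3 : 0 < d * t := mul_pos (by omega) (by omega)
    have : q = d * t + (d * (s - 4) + 2 - 2 * g) := by rw [hq]; ring
    omega
  have hqle : n - 1 ≤ q := Int.le_of_dvd hqpos hqdvd
  have hkey : s * t < d ^ 2 * (s + t) := by
    have h1 : n < d * (s + t) := by
      have : q = d * (s + t) - 4 * d + 2 - 2 * g := hq
      omega
    calc s * t = d * n := hn
      _ < d * (d * (s + t)) := by exact mul_lt_mul_of_pos_left h1 (by omega)
      _ = d ^ 2 * (s + t) := by ring
  have hd2 : 1 ≤ d ^ 2 := one_le_pow₀ hd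
  have hs2 : s < 2 * d ^ 2 := by nlinarith
  refine ⟨hs2, ?_⟩
  by_cases hsd : s ≤ d ^ 2
  · have hsr : s * r = n * K := by
      rw [hr, hK]; linear_combination d * hn
    have hKpos : 0 < K := pos_of_mul_pos_right (hsr ▸ mul_pos (by omega) hpos) (by omega)
    have hKdvd : (n - 1) ∣ K := by
      have h1 : (n - 1) ∣ n * K := hsr ▸ hdvd.mul_left s
      have : K = n * K - (n - 1) * K := by ring
      rw [this]; exact dvd_sub h1 (dvd_mul_right _ _)
    have hKle : n - 1 ≤ K := Int.le_of_dvd hKpos hKdvd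
    have hst' : s * t ≤ d * (d * s ^ 2 + d ^ 2 + 1 - 2 * s) := by
      rw [hn]
      refine mul_le_mul_of_nonneg_left ?_ (by omega)
      have : K ≤ d * s ^ 2 + d ^ 2 - 2 * s := by
        rw [hK]; nlinarith [mul_nonneg hg (show (0:ℤ) ≤ s by omega), mul_le_mul_of_nonneg_right hd (show (0:ℤ) ≤ s by omega)]
      omega
    have h5 : s * t < s * (2 * d ^ 4) := by
      have h6 : d ^ 2 * s ^ 2 ≤ d ^ 4 * s := by nlinarith [mul_le_mul_of_nonneg_left hsd (show (0:ℤ) ≤ d ^ 2 * s by positivity)]
      have h7 : d ^ 3 ≤ d ^ 4 * s := by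
        have : d ^ 3 * 1 ≤ d ^ 3 * (d * s) := mul_le_mul_of_nonneg_left (by nlinarith) (by positivity)
        nlinarith
      nlinarith [mul_pos (show (0:ℤ) < d by omega) (show (0:ℤ) < 2 * s - 1 by omega)]
    exact lt_of_mul_lt_mul_left h5 (by omega)
  · push Not at hsd
    have h1 : t ≤ t * (s - d ^ 2) := le_mul_of_one_le_right (by omega) (by omega)
    have h2 : t * (s - d ^ 2) < d ^ 2 * s := by nlinarith
    have h3 : d ^ 2 * s < d ^ 2 * (2 * d ^ 2) := mul_lt_mul_of_pos_left hs2 (by omega)
    have : d ^ 2 * (2 * d ^ 2) = 2 * d ^ 4 := by ring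
    omega

end Groth.Agent.S18055
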