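import Groth.Statements.S18056
import Groth.Agent.GRing17.ArtinianSmooth
import Mathlib.RingTheory.LocalRing.Length

set_option autoImplicit false
universe u v
open STCI

namespace Groth.Agent.S18056

/-- Let A → B be a homomorphism of Artinian local rings that is flat and formally smooth, where A has a
subring that is a field. Then A and B have the same length, each as a module over itself. -/
theorem result (A : Type u) (B : Type v) [CommRing A] [CommRing B]
    [IsLocalRing A] [IsLocalRing B] [IsArtinianRing A] [IsArtinianRing B] [Algebra A B]
    [Module.Flat A B] [Algebra.FormallySmooth A B] (hK : ∃ K : Subring A, IsField K) :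
    Module.length A A = Module.length B B := by
  open IsLocalRing in
  have : IsLocalHom (algebraMap A B) := ⟨fun x hx => by
    by_contra hu
    obtain ⟨n, hn⟩ : IsNilpotent (maximalIdeal A) := by
      rw [← IsLocalRing.jacobson_eq_maximalIdeal ⊥ bot_ne_top]
      exact IsArtinianRing.isNilpotent_jacobson_bot
    have h0 : x ^ n = 0 := (Submodule.mem_bot A).mp (hn.le (Ideal.pow_mem_pow ((mem_maximalIdeal x).mpr hu) n))
    have := hx.pow n
    rw [← map_pow, h0, map_zero] at this
    exact not_isUnit_zero this⟩
  have h := IsLocalRing.length_baseChange A B A
  rw [GRing17.map_maximalIdeal_eq_of_formallySmooth' A B, (TensorProduct.AlgebraTensorModule.rid A B B).length_eq,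
    Module.length_eq_one_iff.mpr (isSimpleModule_iff_isCoatom.mpr (Ideal.isMaximal_def.mp (maximalIdeal.isMaximal B))),
    mul_one] at h
  exact h.symm

end Groth.Agent.S18056
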