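import Groth.Statements.S18063
import Groth.Agent.S2299
-- import your own Groth.Agent.* helpers here

set_option autoImplicit false
set_option linter.style.haveILetI false
set_option backward.isDefEq.respectTransparency false
universe u
open CategoryTheory MonoidalCategory CartesianMonoidalCategory MonObj GrpObj AlgebraicGeometry CategoryTheory.Limits
open AlgGrp

namespace Groth.Agent.S18063

/-- A is a discrete valuation ring, K denotes its field of fractions and k its residue field, and G is
an A-group scheme that is flat, separated and of finite presentation. If the generic fibre G_K is
commutative, then the special fibre G_k is commutative. (The published statement does not require G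
separated over A, and its proof argues by density of the generic fibre; without separatedness the
conclusion fails: gluing copies of Spec A indexed by a finite non-abelian group along their common
generic point gives a flat group scheme of finite presentation over A whose generic fibre is the
trivial group and whose special fibre is that non-abelian constant group. So G is taken separated
here.) -/
theorem result (A : Type u) [CommRing A] [IsDomain A] [IsDiscreteValuationRing A]
    (K : Type u) [Field K] [Algebra A K] [IsFractionRing A K]
    (G : Over (Spec (CommRingCat.of A))) [GrpObj G] [Flat G.hom] [LocallyOfFinitePresentation G.hom] [QuasiCompact G.hom]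
    [IsSeparated G.hom] [IsCommMonObj (Red.bc (Spec.map (CommRingCat.ofHom (algebraMap A K))) G)] :
    IsCommMonObj (Red.bc (Spec.map (CommRingCat.ofHom (algebraMap A (IsLocalRing.ResidueField A)))) G) := by
  let j := Spec.map (CommRingCat.ofHom (algebraMap A K))
  haveI : IsDominant j := by
    constructor
    show DenseRange (PrimeSpectrum.comap (algebraMap A K))
    rw [PrimeSpectrum.denseRange_comap_iff_ker_le_nilRadical, (RingHom.injective_iff_ker_eq_bot _).1 (IsFractionRing.injective A K)]
    exact bot_le
  haveI : _root_.IsReduced (CommRingCat.of A) := inferInstanceAs (_root_.IsReduced A)
  haveI : IsSchemeTheoreticallyDominant j := .of_isDominant _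
  haveI : Flat (G ⊗ G).hom := by
    show Flat (pullback.fst G.hom G.hom ≫ G.hom); infer_instance
  haveI : IsCommMonObj G := by
    refine ⟨?_⟩
    apply Over.OverMorphism.ext
    refine S2299.result (pullback.fst (G ⊗ G).hom j) G.hom _ _ (by rw [Over.w, Over.w]) ?_
    have e : ∀ m : G ⊗ G ⟶ G, ((Over.pullback j).map m).left ≫ pullback.fst G.hom j =
        pullback.fst (G ⊗ G).hom j ≫ m.left := fun m => pullback.lift_fst _ _ _
    have h : (Over.pullback j).map ((β_ G G).hom ≫ μ[G]) = (Over.pullback j).map μ[G] := by
      rw [← cancel_epi (Functor.LaxMonoidal.μ (Over.pullback j) G G), Functor.map_comp,
        Functor.LaxBraided.braided_assoc]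
      exact IsCommMonObj.mul_comm (Red.bc j G)
    rw [← e, ← e, h]
  infer_instance

end Groth.Agent.S18063
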