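import Mathlib
import Groth.Statements.S18121
-- import your own Groth.Agent.* helpers here

set_option autoImplicit false
universe u
open Pinch

namespace Groth.Agent.S18121

/-- Let B be a commutative ring, b an element of B, B' := B[z]/(z^2 - b) the rank-two B-algebra with z^2
= b, and Ψ : B[u, v] → B'[t] the B-algebra homomorphism with u ↦ z t and v ↦ t. Then the kernel of Ψ
is the principal ideal generated by u^2 - b v^2, and a polynomial of B'[t] lies in the image of Ψ as
soon as its constant coefficient lies in B. Equivalently, B[u, v]/(u^2 - b v^2) is the fibre product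
of B'[t] and B over B' (for t ↦ 0 and the inclusion of B): the pinching of Spec B' × 𝔸¹ along Spec
B' × {0} by the double cover Spec B' → Spec B is the hypersurface u^2 = b v^2 over B; for B = K[w]
and b = w this is the pinch point u^2 = v^2 w. -/
theorem result (B : Type u) [CommRing B] (b : B) :
    letI Ψ : MvPolynomial (Fin 2) B →ₐ[B] Polynomial (AdjoinRoot (Polynomial.X ^ 2 - Polynomial.C b)) :=
      MvPolynomial.aeval
        ![Polynomial.C (AdjoinRoot.root (Polynomial.X ^ 2 - Polynomial.C b)) * Polynomial.X, Polynomial.X]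
    RingHom.ker Ψ.toRingHom =
        Ideal.span {MvPolynomial.X 0 ^ 2 - MvPolynomial.C b * MvPolynomial.X 1 ^ 2} ∧
      ∀ G : Polynomial (AdjoinRoot (Polynomial.X ^ 2 - Polynomial.C b)),
        (∃ c : B, G.coeff 0 = algebraMap B (AdjoinRoot (Polynomial.X ^ 2 - Polynomial.C b)) c) →
          G ∈ Ψ.range := by
  classical
  let Ψ : MvPolynomial (Fin 2) B →ₐ[B] Polynomial (AdjoinRoot (Polynomial.X ^ 2 - Polynomial.C b)) :=
    MvPolynomial.aeval ![Polynomial.C (AdjoinRoot.root (Polynomial.X ^ 2 - Polynomial.C b)) * Polynomial.X, Polynomial.X]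
  change RingHom.ker Ψ.toRingHom = _ ∧ ∀ G, _ → G ∈ Ψ.range
  set A' := AdjoinRoot (Polynomial.X ^ 2 - Polynomial.C b)
  set r : A' := AdjoinRoot.root (Polynomial.X ^ 2 - Polynomial.C b) with hr
  have hr2 : r * r = algebraMap B A' b := by
    have h := AdjoinRoot.eval₂_root (Polynomial.X ^ 2 - Polynomial.C b)
    simp only [Polynomial.eval₂_sub, Polynomial.eval₂_X_pow, Polynomial.eval₂_C, sub_eq_zero] at h
    rw [← pow_two]; exact h
  have hΨ0 : Ψ (MvPolynomial.X 0) = Polynomial.C r * Polynomial.X := by simp [Ψ]; rfl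
  have hΨ1 : Ψ (MvPolynomial.X 1) = Polynomial.X := by simp [Ψ]
  have huniq : ∀ u v : B, algebraMap B A' u + algebraMap B A' v * r = 0 → u = 0 ∧ v = 0 := by
    intro u v h
    have h' : AdjoinRoot.mk (Polynomial.X ^ 2 - Polynomial.C b) (Polynomial.C u + Polynomial.C v * Polynomial.X) = 0 := by
      rw [map_add, map_mul, AdjoinRoot.mk_X, AdjoinRoot.mk_C, AdjoinRoot.mk_C]; exact h
    obtain ⟨Q, hQ⟩ := AdjoinRoot.mk_eq_zero.mp h'
    let M : Matrix (Fin 2) (Fin 2) B := !![0, b; 1, 0]
    have hM : Polynomial.aeval M (Polynomial.X ^ 2 - Polynomial.C b) = 0 := by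
      ext i j; fin_cases i <;> fin_cases j <;> simp [M, pow_two, Matrix.mul_apply, Fin.sum_univ_two, Matrix.algebraMap_matrix_apply]
    have := congrArg (Polynomial.aeval M) hQ
    rw [map_mul, hM, zero_mul, map_add, map_mul, Polynomial.aeval_C, Polynomial.aeval_C, Polynomial.aeval_X] at this
    have e0 := congrFun (congrFun this 0) 0
    have e1 := congrFun (congrFun this 1) 0
    simp [M, Matrix.mul_apply, Fin.sum_univ_two, Matrix.algebraMap_matrix_apply] at e0 e1
    exact ⟨e0, e1⟩
  have hdecomp : ∀ z : A', ∃ u v : B, z = algebraMap B A' u + algebraMap B A' v * r := by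
    intro z
    induction z using AdjoinRoot.induction_on with
    | ih q =>
      induction q using Polynomial.induction_on with
      | C a => exact ⟨a, 0, by simp; rfl⟩
      | add p q hp hq =>
        obtain ⟨u, v, h⟩ := hp; obtain ⟨u', v', h'⟩ := hq
        exact ⟨u + u', v + v', by rw [map_add, h, h', map_add, map_add]; ring⟩
      | monomial n a hn =>
        obtain ⟨u, v, h⟩ := hn
        refine ⟨v * b, u, ?_⟩
        rw [show (Polynomial.C a * Polynomial.X ^ (n + 1) : Polynomial B) = (Polynomial.C a * Polynomial.X ^ n) * Polynomial.X by ring, map_mul, h, AdjoinRoot.mk_X, ← hr, add_mul, mul_assoc, hr2, map_mul]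
        ring
  let I : Ideal (MvPolynomial (Fin 2) B) := Ideal.span {MvPolynomial.X 0 ^ 2 - MvPolynomial.C b * MvPolynomial.X 1 ^ 2}
  have hnf : ∀ F : MvPolynomial (Fin 2) B, ∃ g0 g1 : Polynomial B,
      F - (Polynomial.aeval (MvPolynomial.X 1) g0 + Polynomial.aeval (MvPolynomial.X 1) g1 * MvPolynomial.X 0) ∈ I := by
    intro F
    induction F using MvPolynomial.induction_on with
    | C a => exact ⟨Polynomial.C a, 0, by simp⟩
    | add p q hp hq =>
      obtain ⟨g0, g1, h⟩ := hp; obtain ⟨g0', g1', h'⟩ := hq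
      refine ⟨g0 + g0', g1 + g1', ?_⟩
      convert I.add_mem h h' using 1
      simp only [map_add]; ring
    | mul_X p i hp =>
      obtain ⟨g0, g1, h⟩ := hp
      fin_cases i
      · refine ⟨g1 * (Polynomial.C b * Polynomial.X ^ 2), g0, ?_⟩
        have h2 : Polynomial.aeval (MvPolynomial.X 1 : MvPolynomial (Fin 2) B) g1 *
            (MvPolynomial.X 0 ^ 2 - MvPolynomial.C b * MvPolynomial.X 1 ^ 2) ∈ I :=
          I.mul_mem_left _ (Ideal.subset_span rfl)
        convert I.add_mem (I.mul_mem_right (MvPolynomial.X 0) h) h2 using 1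
        simp; ring
      · refine ⟨g0 * Polynomial.X, g1 * Polynomial.X, ?_⟩
        convert I.mul_mem_right (MvPolynomial.X 1) h using 1
        simp; ring
  have hg : ∀ g : Polynomial B, Ψ (Polynomial.aeval (MvPolynomial.X 1) g) = g.map (algebraMap B A') := by
    intro g
    rw [← Polynomial.aeval_algHom_apply, hΨ1, Polynomial.aeval_X_left_eq_map]
  refine ⟨le_antisymm (fun F hF => ?_) ?_, fun G hG => ?_⟩
  · obtain ⟨g0, g1, h⟩ := hnf F
    have hF' : Ψ F = 0 := hF
    have hgen : Ψ (MvPolynomial.X 0 ^ 2 - MvPolynomial.C b * MvPolynomial.X 1 ^ 2) = 0 := by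
      rw [map_sub, map_mul, map_pow, map_pow, hΨ0, hΨ1, mul_pow, ← Polynomial.C_pow, pow_two r, hr2, ← MvPolynomial.algebraMap_eq, AlgHom.commutes]
      exact sub_self _
    obtain ⟨c, hc⟩ := Ideal.mem_span_singleton.mp h
    have := congrArg Ψ hc
    rw [map_mul, hgen, zero_mul, map_sub, map_add, map_mul, hF', hg, hg, hΨ0, zero_sub, neg_eq_zero] at this
    have hz : ∀ n, g0.coeff n = 0 ∧ (1 ≤ n → g1.coeff (n - 1) = 0) := by
      intro n
      have hn := congrArg (fun q : Polynomial A' => q.coeff n) this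
      rw [← mul_assoc, mul_comm (g1.map (algebraMap B A'))] at hn
      cases n with
      | zero =>
        simp at hn
        exact ⟨(huniq _ 0 (by simpa using hn)).1, by omega⟩
      | succ m =>
        simp at hn
        have := huniq (g0.coeff (m + 1)) (g1.coeff m) (by rw [mul_comm (algebraMap B A' (g1.coeff m))]; exact hn)
        exact ⟨this.1, fun _ => this.2⟩
    have e0 : g0 = 0 := Polynomial.ext fun n => by simp [(hz n).1]
    have e1 : g1 = 0 := Polynomial.ext fun n => by simpa using (hz (n + 1)).2 (by omega)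
    simpa [e0, e1] using h
  · rw [Ideal.span_le, Set.singleton_subset_iff]
    change Ψ _ = 0
    rw [map_sub, map_mul, map_pow, map_pow, hΨ0, hΨ1, mul_pow, ← Polynomial.C_pow, pow_two r, hr2, ← MvPolynomial.algebraMap_eq, AlgHom.commutes]
    exact sub_self _
  · rw [G.as_sum_range_C_mul_X_pow]
    refine Subalgebra.sum_mem _ fun n _ => ?_
    obtain ⟨u, v, huv⟩ := hdecomp (G.coeff n)
    cases n with
    | zero =>
      obtain ⟨c, hc⟩ := hG
      exact ⟨MvPolynomial.C c, by simp [hc, Ψ]⟩
    | succ m =>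
      refine ⟨MvPolynomial.C u * MvPolynomial.X 1 ^ (m + 1) + MvPolynomial.C v * MvPolynomial.X 0 * MvPolynomial.X 1 ^ m, ?_⟩
      change Ψ _ = _
      rw [map_add, map_mul, map_mul, map_mul, map_pow, map_pow, hΨ0, hΨ1, huv, ← MvPolynomial.algebraMap_eq, AlgHom.commutes, AlgHom.commutes]
      rw [map_add, map_mul, IsScalarTower.algebraMap_apply B A' (Polynomial A') u, IsScalarTower.algebraMap_apply B A' (Polynomial A') v, Polynomial.algebraMap_eq]
      ring

end Groth.Agent.S18121
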