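import Groth.Statements.S18122
import Mathlib
-- import your own Groth.Agent.* helpers here

set_option autoImplicit false
universe u
open Pinch

namespace Groth.Agent.S18122

open MvPolynomial in
theorem core (K : Type u) [Field K] [NeZero (2 : K)] (R : Subalgebra K (MvPolynomial (Fin 2) K))
    (hR : R = Algebra.adjoin K {X 0 ^ 2, X 0 * X 1, X 1})
    (δ : Derivation K R (MvPolynomial (Fin 2) K)) :
    ∃! D : Derivation K (MvPolynomial (Fin 2) K) (MvPolynomial (Fin 2) K), ∀ r : R, D (r : MvPolynomial (Fin 2) K) = δ r := by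
  set x : MvPolynomial (Fin 2) K := X 0 with hx
  set y : MvPolynomial (Fin 2) K := X 1 with hy
  let a : R := ⟨x ^ 2, hR ▸ Algebra.subset_adjoin (Or.inl rfl)⟩
  let b : R := ⟨x * y, hR ▸ Algebra.subset_adjoin (Or.inr (Or.inl rfl))⟩
  let c : R := ⟨y, hR ▸ Algebra.subset_adjoin (Or.inr (Or.inr rfl))⟩
  have hrel : b * b = a * (c * c) := Subtype.ext (by show x * y * (x * y) = x ^ 2 * (y * y); ring)
  have h0 := congrArg δ hrel
  simp only [Derivation.leibniz, Subalgebra.smul_def] at h0
  have hy0 : y ≠ 0 := X_ne_zero 1
  have h1 : 2 * x * (δ b - x * δ c) = y * δ a := by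
    apply mul_left_cancel₀ hy0
    simp only [a, b, c, smul_eq_mul, MulMemClass.coe_mul] at h0 ⊢
    linear_combination h0
  have hC2 : IsUnit (2 : MvPolynomial (Fin 2) K) := by
    rw [← map_ofNat (C (σ := Fin 2) (R := K)) 2]
    exact (isUnit_iff_ne_zero.mpr (NeZero.ne 2)).map C
  have hdvd : y ∣ δ b - x * δ c := by
    have h2 : y ∣ 2 * x * (δ b - x * δ c) := ⟨δ a, h1⟩
    rw [mul_assoc, hC2.dvd_mul_left] at h2
    refine ((X_prime (R := K) (i := (1 : Fin 2))).dvd_or_dvd h2).resolve_left ?_
    rw [hx, X_dvd_X]; decide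
  obtain ⟨p, hp⟩ := hdvd
  let D := MvPolynomial.mkDerivation K ![p, δ c]
  have hD0 : D x = p := MvPolynomial.mkDerivation_X K _ 0
  have hD1 : D y = δ c := MvPolynomial.mkDerivation_X K _ 1
  have hext : ∀ D : Derivation K (MvPolynomial (Fin 2) K) (MvPolynomial (Fin 2) K),
      D x = p → D y = δ c → ∀ r : R, D (r : MvPolynomial (Fin 2) K) = δ r := by
    intro D hD0 hD1 r
    have ha : D (x ^ 2) = δ a := by
      apply mul_left_cancel₀ hy0
      rw [← h1, hp, Derivation.leibniz_pow, hD0]
      simp; ring
    have hb : D (x * y) = δ b := by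
      rw [Derivation.leibniz, hD0, hD1, smul_eq_mul, smul_eq_mul]
      linear_combination -hp
    obtain ⟨r, hr⟩ := r
    have hr' : r ∈ Algebra.adjoin K {x ^ 2, x * y, y} := hR ▸ hr
    refine Algebra.adjoin_induction (p := fun z _ => ∀ hz : z ∈ R, D z = δ ⟨z, hz⟩) ?_ ?_ ?_ ?_ hr' hr
    · rintro z (rfl | rfl | rfl) hz
      · exact ha
      · exact hb
      · exact hD1
    · intro k hk
      rw [Derivation.map_algebraMap]
      exact (Derivation.map_algebraMap δ k).symm
    · intro u v hu hv hu' hv' hz
      have hu'' : u ∈ R := hR.symm ▸ hu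
      have hv'' : v ∈ R := hR.symm ▸ hv
      rw [map_add, hu' hu'', hv' hv'', ← map_add]
      rfl
    · intro u v hu hv hu' hv' hz
      have hu'' : u ∈ R := hR.symm ▸ hu
      have hv'' : v ∈ R := hR.symm ▸ hv
      rw [Derivation.leibniz, hu' hu'', hv' hv'']
      exact (Derivation.leibniz δ ⟨u, hu''⟩ ⟨v, hv''⟩).symm
  refine ⟨D, hext D hD0 hD1, fun D' hD' => ?_⟩
  apply MvPolynomial.derivation_ext
  intro i
  have hc := hD' c
  have hb := hD' b
  simp only [b, c, Derivation.leibniz, smul_eq_mul] at hb hc
  fin_cases i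
  · show D' x = D x
    rw [hD0]
    apply mul_left_cancel₀ hy0
    rw [← hp]
    rw [hc] at hb
    linear_combination hb
  · show D' y = D y
    rw [hD1]; exact hc

/-- Let K be a field in which 2 ≠ 0, S = K[x, y], and R ⊆ S the K-subalgebra generated by x^2, x y and
y; R is the coordinate ring of the pinch point u^2 = v^2 w (u = x y, v = y, w = x^2) and S is its
normalization. Then restriction along R ⊆ S is a bijection from the K-derivations S → S onto the
K-derivations R → S: every K-derivation R → S extends uniquely to S. In sheaf terms, the natural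
injective map from the tangent sheaf of the normalization to the dual of the pulled-back sheaf of
differentials of the pinch point is an isomorphism. (The text works over an algebraically closed
field of characteristic different from 2 and for every semi-smooth variety; only this model case is
stated, and the computation uses only 2 ≠ 0.) -/
theorem result
    (K : Type u) [Field K] [NeZero (2 : K)] :
    letI R : Subalgebra K (MvPolynomial (Fin 2) K) :=
      Algebra.adjoin K {MvPolynomial.X 0 ^ 2, MvPolynomial.X 0 * MvPolynomial.X 1, MvPolynomial.X 1}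
    ∀ δ : Derivation K R (MvPolynomial (Fin 2) K),
      ∃! D : Derivation K (MvPolynomial (Fin 2) K) (MvPolynomial (Fin 2) K),
        ∀ r : R, D (r : MvPolynomial (Fin 2) K) = δ r := by
  intro δ
  exact core K _ rfl δ

end Groth.Agent.S18122
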