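import Mathlib
import Groth.Statements.S18123
-- import your own Groth.Agent.* helpers here

set_option autoImplicit false
universe u
open Pinch

namespace Groth.Agent.S18123

section
open MvPolynomial

variable (K : Type*) [Field K]

noncomputable abbrev R₀ : Subalgebra K (MvPolynomial (Fin 2) K) := Algebra.adjoin K {X 0 ^ 2, X 0 * X 1, X 1}

noncomputable def φ : MvPolynomial (Fin 2) K →ₐ[K] Polynomial K := aeval ![Polynomial.X, 0]

lemma φ0 : φ K (X 0) = Polynomial.X := by simp [φ]
lemma φ1 : φ K (X 1) = 0 := by simp [φ]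

lemma ker_φ (f : MvPolynomial (Fin 2) K) : ∃ s, f = X 1 * s + Polynomial.aeval (X 0 : MvPolynomial (Fin 2) K) (φ K f) := by
  induction f using MvPolynomial.induction_on with
  | C a => exact ⟨0, by simp [φ]⟩
  | add f g hf hg =>
    obtain ⟨s, hs⟩ := hf; obtain ⟨t, ht⟩ := hg
    exact ⟨s + t, by conv_lhs => rw [hs, ht]
                     rw [map_add, map_add]; ring⟩
  | mul_X f i hf =>
    obtain ⟨s, hs⟩ := hf
    fin_cases i
    · refine ⟨s * X 0, ?_⟩
      show f * X 0 = _ + Polynomial.aeval _ (φ K (f * X 0))
      rw [map_mul, φ0, map_mul, Polynomial.aeval_X]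
      conv_lhs => rw [hs]
      ring
    · refine ⟨f, ?_⟩
      show f * X 1 = _ + Polynomial.aeval _ (φ K (f * X 1))
      rw [map_mul, φ1, mul_zero, map_zero]; ring

lemma hx2 : (X 0 ^ 2 : MvPolynomial (Fin 2) K) ∈ R₀ K := Algebra.subset_adjoin (by simp)
lemma hxy : (X 0 * X 1 : MvPolynomial (Fin 2) K) ∈ R₀ K := Algebra.subset_adjoin (by simp)
lemma hy : (X 1 : MvPolynomial (Fin 2) K) ∈ R₀ K := Algebra.subset_adjoin (by simp)

lemma y_mul_mem (s : MvPolynomial (Fin 2) K) : X 1 * s ∈ R₀ K := by
  suffices X 1 * s ∈ R₀ K ∧ X 1 * (X 0 * s) ∈ R₀ K from this.1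
  induction s using MvPolynomial.induction_on with
  | C a =>
    refine ⟨mul_mem (hy K) (Subalgebra.algebraMap_mem _ a), ?_⟩
    have : (X 1 * (X 0 * C a) : MvPolynomial (Fin 2) K) = X 0 * X 1 * C a := by ring
    rw [this]; exact mul_mem (hxy K) (Subalgebra.algebraMap_mem _ a)
  | add f g hf hg => exact ⟨by rw [mul_add]; exact add_mem hf.1 hg.1, by rw [mul_add, mul_add]; exact add_mem hf.2 hg.2⟩
  | mul_X f i hf =>
    fin_cases i
    · show X 1 * (f * X 0) ∈ _ ∧ X 1 * (X 0 * (f * X 0)) ∈ _
      refine ⟨by rw [mul_comm f]; exact hf.2, ?_⟩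
      rw [show (X 1 * (X 0 * (f * X 0)) : MvPolynomial (Fin 2) K) = X 0 ^ 2 * (X 1 * f) by ring]
      exact mul_mem (hx2 K) hf.1
    · show X 1 * (f * X 1) ∈ _ ∧ X 1 * (X 0 * (f * X 1)) ∈ _
      rw [show (X 1 * (f * X 1) : MvPolynomial (Fin 2) K) = X 1 * (X 1 * f) by ring,
        show (X 1 * (X 0 * (f * X 1)) : MvPolynomial (Fin 2) K) = X 1 * (X 1 * (X 0 * f)) by ring]
      exact ⟨mul_mem (hy K) hf.1, mul_mem (hy K) hf.2⟩

lemma sq_mem (p : Polynomial K) : Polynomial.aeval (X 0 ^ 2 : MvPolynomial (Fin 2) K) p ∈ R₀ K := by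
  induction p using Polynomial.induction_on' with
  | add p q hp hq => rw [map_add]; exact add_mem hp hq
  | monomial n a => rw [Polynomial.aeval_monomial]; exact mul_mem (Subalgebra.algebraMap_mem _ a) (pow_mem (hx2 K) n)

lemma φ_even {r : MvPolynomial (Fin 2) K} (hr : r ∈ R₀ K) (n : ℕ) : (φ K r).coeff (2 * n + 1) = 0 := by
  suffices φ K r ∈ (Polynomial.expand K 2).range by
    obtain ⟨q, hq⟩ := this
    rw [← hq]
    show (Polynomial.expand K 2 q).coeff _ = 0
    rw [Polynomial.coeff_expand (by norm_num)]; simp
  have : R₀ K ≤ (Polynomial.expand K 2).range.comap (φ K) := by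
    refine Algebra.adjoin_le ?_
    rintro z (rfl | rfl | rfl) <;> simp only [SetLike.mem_coe, Subalgebra.mem_comap, map_mul, map_pow, φ0, φ1, mul_zero]
    · exact ⟨Polynomial.X, by simp⟩
    · exact zero_mem _
    · exact zero_mem _
  exact this hr

lemma expand_of_even (q : Polynomial K) (h : ∀ n, q.coeff (2 * n + 1) = 0) :
    q = Polynomial.expand K 2 (Polynomial.contract 2 q) := by
  ext n
  rw [Polynomial.coeff_expand (by norm_num)]
  rcases Nat.even_or_odd' n with ⟨m, rfl | rfl⟩
  · simp [Polynomial.coeff_contract, mul_comm]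
  · simp [h]

end


/-- Let K be a field in which 2 ≠ 0, S = K[x, y], and R ⊆ S the K-subalgebra generated by x^2, x y, y,
the coordinate ring of the pinch point with normalization S, obtained by gluing the plane along the
line y = 0 via x ↦ -x. A K-derivation D of S maps R into R if and only if D(y) is a multiple of y
and D(x) = y s + x p(x^2) for some s in S and some polynomial p in one variable. Every K-derivation
R → S extends uniquely to S, and under this identification the derivations mapping R into R form the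
image of the tangent sheaf of the pinch point in that of its normalization; so this image contains y
times all derivations of S, and modulo those it is spanned by the odd multiples x^(2k+1) ∂/∂x, the
part of the tangent sheaf of the line y = 0 invariant under x ↦ -x. (The text works over an
algebraically closed field of characteristic different from 2; the computation uses only 2 ≠ 0.) -/
theorem result
    (K : Type u) [Field K] [NeZero (2 : K)]
    (D : Derivation K (MvPolynomial (Fin 2) K) (MvPolynomial (Fin 2) K)) :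
    letI x : MvPolynomial (Fin 2) K := MvPolynomial.X 0
    letI y : MvPolynomial (Fin 2) K := MvPolynomial.X 1
    letI R : Subalgebra K (MvPolynomial (Fin 2) K) := Algebra.adjoin K {x ^ 2, x * y, y}
    (∀ r ∈ R, D r ∈ R) ↔
      (D y ∈ Ideal.span {y} ∧
        ∃ (s : MvPolynomial (Fin 2) K) (p : Polynomial K), D x = y * s + x * Polynomial.aeval (x ^ 2) p) := by
  set x : MvPolynomial (Fin 2) K := MvPolynomial.X 0
  set y : MvPolynomial (Fin 2) K := MvPolynomial.X 1
  constructor
  · intro h
    have h1 := h y (hy K)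
    have h2 := h (x * y) (hxy K)
    have h3 := h (x ^ 2) (hx2 K)
    rw [Derivation.leibniz, smul_eq_mul, smul_eq_mul] at h2
    have hDy : φ K (D y) = 0 := by
      ext n
      rw [Polynomial.coeff_zero]
      rcases Nat.even_or_odd' n with ⟨m, rfl | rfl⟩
      · have := φ_even K h2 m
        rw [map_add, map_mul, map_mul, show φ K x = Polynomial.X from φ0 K, show φ K y = 0 from φ1 K, zero_mul, add_zero, Polynomial.coeff_X_mul] at this
        exact this
      · exact φ_even K h1 m
    have hq : ∀ n, (φ K (D x)).coeff (2 * n) = 0 := by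
      intro n
      have := φ_even K h3 n
      rw [Derivation.leibniz_pow, pow_one, smul_eq_mul, map_nsmul, map_mul, show φ K x = Polynomial.X from φ0 K, Polynomial.coeff_smul, Polynomial.coeff_X_mul, nsmul_eq_mul, mul_eq_zero] at this
      exact this.resolve_left (by exact_mod_cast (NeZero.ne (2 : K)))
    refine ⟨?_, ?_⟩
    · obtain ⟨s, hs⟩ := ker_φ K (D y)
      rw [hDy, map_zero, add_zero] at hs
      exact Ideal.mem_span_singleton.2 ⟨s, hs⟩
    · obtain ⟨s, hs⟩ := ker_φ K (D x)
      set q := φ K (D x)
      have hq0 : q = Polynomial.X * q.divX := by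
        conv_lhs => rw [← q.X_mul_divX_add, show q.coeff 0 = 0 from hq 0, map_zero, add_zero]
      have he := expand_of_even K q.divX (fun n => by rw [Polynomial.coeff_divX]; exact hq (n + 1))
      refine ⟨s, Polynomial.contract 2 q.divX, ?_⟩
      rw [hs]
      conv_lhs => rw [hq0, map_mul, Polynomial.aeval_X, he, Polynomial.expand_aeval]
  · rintro ⟨hDy, s, p, hDx⟩ r hr
    obtain ⟨t, ht⟩ := Ideal.mem_span_singleton.1 hDy
    induction hr using Algebra.adjoin_induction with
    | mem z hz =>
      rcases hz with rfl | rfl | rfl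
      · rw [Derivation.leibniz_pow, pow_one, smul_eq_mul, hDx]
        refine nsmul_mem ?_ _
        rw [show x * (y * s + x * Polynomial.aeval (x ^ 2) p) = y * (x * s) + x ^ 2 * Polynomial.aeval (x ^ 2) p by ring]
        exact add_mem (y_mul_mem K _) (mul_mem (hx2 K) (sq_mem K p))
      · rw [Derivation.leibniz, smul_eq_mul, smul_eq_mul, ht, show x * (y * t) = y * (x * t) by ring]
        exact add_mem (y_mul_mem K _) (y_mul_mem K _)
      · rw [ht]; exact y_mul_mem K _
    | algebraMap a => rw [Derivation.map_algebraMap]; exact zero_mem _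
    | add a b ha hb iha ihb => rw [map_add]; exact add_mem iha ihb
    | mul a b ha hb iha ihb =>
      rw [Derivation.leibniz, smul_eq_mul, smul_eq_mul]
      exact add_mem (mul_mem ha ihb) (mul_mem hb iha)

end Groth.Agent.S18123
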