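import Groth.Statements.S18125
import Mathlib
-- import your own Groth.Agent.* helpers here

set_option autoImplicit false
universe u
open Pinch

namespace Groth.Agent.S18125

/-- Let K be a field in which 2 ≠ 0, n ≥ 0, S = K[u, v, w, t_1, …, t_n] (u, v, w the first three
variables), h = u^2 - v^2 w the equation of the pinch-point model, and Jac the ideal generated by h
and its three partial derivatives 2u, -2vw, -v^2, which cuts out the scheme-theoretic singular locus
of {h = 0}. Then the ideal (u, v) of the double locus is Jac + (v), and the colon ideal of Jac by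
(v) is (u, v, w). Consequently (u, v)/Jac, the ideal of the double locus restricted to the singular
locus, is an invertible sheaf on the pinch locus u = v = w = 0: it is free of rank one over K[t_1,
…, t_n] on the class of v. (The text states this for every semi-smooth variety and reduces to this
model; K algebraically closed is not needed for the model computation.) -/
theorem result
    (K : Type u) [Field K] [NeZero (2 : K)] (n : ℕ) :
    letI u : MvPolynomial (Fin (n + 3)) K := MvPolynomial.X 0
    letI v : MvPolynomial (Fin (n + 3)) K := MvPolynomial.X 1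
    letI w : MvPolynomial (Fin (n + 3)) K := MvPolynomial.X 2
    letI Jac : Ideal (MvPolynomial (Fin (n + 3)) K) :=
      Ideal.span {u ^ 2 - v ^ 2 * w, 2 * u, -(2 * v * w), -(v ^ 2)}
    Ideal.span {u, v} = Jac ⊔ Ideal.span {v} ∧ Jac.colon (Ideal.span {v}) = Ideal.span {u, v, w} := by
  classical
  set u : MvPolynomial (Fin (n + 3)) K := MvPolynomial.X 0 with hu
  set v : MvPolynomial (Fin (n + 3)) K := MvPolynomial.X 1 with hv
  set w : MvPolynomial (Fin (n + 3)) K := MvPolynomial.X 2 with hw
  set Jac : Ideal (MvPolynomial (Fin (n + 3)) K) := Ideal.span {u ^ 2 - v ^ 2 * w, 2 * u, -(2 * v * w), -(v ^ 2)} with hJac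
  have h2 : IsUnit (2 : MvPolynomial (Fin (n + 3)) K) := by
    rw [show (2 : MvPolynomial (Fin (n + 3)) K) = MvPolynomial.C 2 by rw [map_ofNat]]
    exact (IsUnit.mk0 _ (NeZero.ne 2)).map _
  obtain ⟨t, ht⟩ := h2.exists_right_inv
  have hJ : Jac = Ideal.span {u, v * w, v ^ 2} := by
    apply le_antisymm
    · simp only [hJac, Ideal.span_le, Set.insert_subset_iff, Set.singleton_subset_iff, SetLike.mem_coe]
      refine ⟨sub_mem ?_ ?_, Ideal.mul_mem_left _ _ (Ideal.subset_span (by simp)), neg_mem ?_, neg_mem (Ideal.subset_span (by simp))⟩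
      · rw [sq]; exact Ideal.mul_mem_left _ _ (Ideal.subset_span (by simp))
      · exact Ideal.mul_mem_right _ _ (Ideal.subset_span (by simp))
      · rw [mul_assoc]; exact Ideal.mul_mem_left _ _ (Ideal.subset_span (by simp))
    · simp only [Ideal.span_le, Set.insert_subset_iff, Set.singleton_subset_iff, SetLike.mem_coe]
      refine ⟨?_, ?_, ?_⟩
      · rw [show u = t * (2 * u) by linear_combination (-u) * ht]
        exact Ideal.mul_mem_left _ _ (Ideal.subset_span (by simp))
      · rw [show v * w = (-t) * (-(2 * v * w)) by linear_combination (-(v * w)) * ht]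
        exact Ideal.mul_mem_left _ _ (Ideal.subset_span (by simp))
      · exact neg_neg (v ^ 2) ▸ neg_mem (Ideal.subset_span (by simp) : -(v ^ 2) ∈ Jac)
  rw [hJ]
  constructor
  · apply le_antisymm
    · simp only [Ideal.span_le, Set.insert_subset_iff, Set.singleton_subset_iff, SetLike.mem_coe]
      exact ⟨Ideal.mem_sup_left (Ideal.subset_span (by simp)), Ideal.mem_sup_right (Ideal.mem_span_singleton_self v)⟩
    · apply sup_le
      · simp only [Ideal.span_le, Set.insert_subset_iff, Set.singleton_subset_iff, SetLike.mem_coe]
        refine ⟨Ideal.subset_span (by simp), Ideal.mul_mem_right _ _ (Ideal.subset_span (by simp)), ?_⟩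
        rw [sq]; exact Ideal.mul_mem_right _ _ (Ideal.subset_span (by simp))
      · exact Ideal.span_mono (by simp)
  · let φ : MvPolynomial (Fin (n + 3)) K →ₐ[K] MvPolynomial (Fin (n + 3)) K := MvPolynomial.aeval (Function.update MvPolynomial.X 0 0)
    have hφu : φ u = 0 := by simp [φ, u]
    have hφv : φ v = v := by simp [φ, v, Fin.ext_iff]
    have hφw : φ w = w := by simp [φ, w, Fin.ext_iff, Nat.mod_eq_of_lt]
    have hdiv : ∀ x, u ∣ x - φ x := by
      intro x
      induction x using MvPolynomial.induction_on with
      | C a => simp [φ]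
      | add p q hp hq => simpa [map_add, add_sub_add_comm] using dvd_add hp hq
      | mul_X p i hp =>
        rcases eq_or_ne i 0 with rfl | hi
        · rw [map_mul, show φ (MvPolynomial.X 0) = 0 from hφu, mul_zero, sub_zero]
          exact dvd_mul_left _ _
        · rw [map_mul, show φ (MvPolynomial.X i) = MvPolynomial.X i by simp [φ, hi], ← sub_mul]
          exact hp.mul_right _
    ext x
    rw [Submodule.mem_colon]
    constructor
    · intro h
      have hxv := h v (Ideal.mem_span_singleton_self v)
      rw [smul_eq_mul] at hxv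
      simp only [Ideal.mem_span_insert, Ideal.mem_span_singleton] at hxv
      obtain ⟨a, z, ⟨b, z', ⟨c, rfl⟩, rfl⟩, hx⟩ := hxv
      have h3 := congrArg φ hx
      simp only [map_add, map_mul, map_pow, hφu, hφv, hφw] at h3
      have hv0 : v ≠ 0 := MvPolynomial.X_ne_zero _
      have h4 : φ x = φ b * w + φ c * v := by
        apply mul_left_cancel₀ hv0
        linear_combination h3
      obtain ⟨e, he⟩ := hdiv x
      rw [show x = u * e + (φ b * w + φ c * v) by linear_combination he + h4]
      exact add_mem (Ideal.mul_mem_right _ _ (Ideal.subset_span (by simp))) (add_mem (Ideal.mul_mem_left _ _ (Ideal.subset_span (by simp))) (Ideal.mul_mem_left _ _ (Ideal.subset_span (by simp))))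
    · intro hx y hy
      obtain ⟨c, rfl⟩ := Ideal.mem_span_singleton.1 hy
      rw [smul_eq_mul, show x * (v * c) = (x * v) * c by ring]
      refine Ideal.mul_mem_right _ _ ?_
      simp only [Ideal.mem_span_insert, Ideal.mem_span_singleton] at hx
      obtain ⟨a, z, ⟨b, z', ⟨d, rfl⟩, rfl⟩, rfl⟩ := hx
      rw [show (a * u + (b * v + w * d)) * v = (a * v) * u + (b * v ^ 2 + d * (v * w)) by ring]
      exact add_mem (Ideal.mul_mem_left _ _ (Ideal.subset_span (by simp))) (add_mem (Ideal.mul_mem_left _ _ (Ideal.subset_span (by simp))) (Ideal.mul_mem_left _ _ (Ideal.subset_span (by simp))))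

end Groth.Agent.S18125
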