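import Groth.Statements.S18126
import Groth.Agent.NL17.LCI
import Groth.Agent.GorLib.RingLevel
import Groth.Agent.GrInj.GorCrit
import Groth.Agent.SegreOne.Poly
import Groth.Agent.RelGCILib.Criterion

set_option autoImplicit false
universe u
open Deform

namespace Groth.Agent.S18126

open IsLocalRing in
theorem eq_of_le_of_mem_associatedPrimes {A P : Type u} [CommRing A] [IsNoetherianRing A]
    [CommRing P] [IsNoetherianRing P] [Algebra A P] [Module.Flat A P]
    (hfib : ∀ (p : Ideal A) [p.IsPrime], LocCoh.IsGorensteinRing (p.Fiber P))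
    {Q Q' : Ideal P} [Q'.IsPrime] (hQ : Q ∈ associatedPrimes P P) (hle : Q' ≤ Q)
    (hc : Q'.comap (algebraMap A P) = Q.comap (algebraMap A P)) : Q' = Q := by
  haveI : Q.IsPrime := IsAssociatedPrime.isPrime hQ
  obtain ⟨_, _, _, ⟨e⟩⟩ := FlatAscent.exists_local_setting (A := A) Q
  obtain ⟨M, _, ⟨e'⟩⟩ := FlatAscent.exists_fibre_prime (A := A) Q
  haveI := hfib (Q.comap (algebraMap A P))
  let R := Localization.AtPrime (Q.comap (algebraMap A P))
  let T := Localization.AtPrime Q
  haveI : IsLocalRing (FlatAscent.Fib R T) := GorLib.isLocalRing_quotient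
    (((local_hom_TFAE (algebraMap R T)).out 0 2).mp ‹_›)
  haveI hg : LocCoh.IsGorensteinLocalRing (FlatAscent.Fib R T) :=
    (GorLib.gorenstein_iff_of_ringEquiv (e'.trans e)).1
      (LocCoh.IsGorensteinRing.isGorensteinLocalRing_localization M)
  haveI := Groth.Agent.S0341.result (FlatAscent.Fib R T)
  have h0 : LocCoh.depth T T = 0 :=
    DepthLib.depth_localization_eq_zero_of_mem_associatedPrimes (M := P) Q hQ
  rw [FlatSerre.depth_self_eq_add R T] at h0
  have hd : ringKrullDim (EGA4.FibLocRing A P Q) = 0 := by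
    rw [ringKrullDim_eq_of_ringEquiv e, DepthLib.ringKrullDim_eq_depth, (add_eq_zero.1 h0).2]
    rfl
  haveI : Ring.KrullDimLE 0 (EGA4.FibLocRing A P Q) := Ring.krullDimLE_iff.2 hd.le
  have hdj : Disjoint (Q.primeCompl : Set P) (Q' : Set P) :=
    Set.disjoint_left.2 fun x hx hx' => hx (hle hx')
  let Q₁ := Q'.map (algebraMap P T)
  haveI : Q₁.IsPrime := IsLocalization.isPrime_of_isPrime_disjoint Q.primeCompl _ Q' inferInstance hdj
  have hc₁ : Q₁.comap (algebraMap P T) = Q' :=
    IsLocalization.under_map_of_isPrime_disjoint Q.primeCompl _ ‹Q'.IsPrime› hdj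
  let π : T →+* EGA4.FibLocRing A P Q := Ideal.Quotient.mk _
  have hk : RingHom.ker π ≤ Q₁ := by
    rw [Ideal.mk_ker]
    refine Ideal.map_le_iff_le_comap.2 fun a ha => ?_
    rw [Ideal.mem_comap, IsScalarTower.algebraMap_apply A P T]
    exact Ideal.mem_map_of_mem _ (hc.symm.le ha)
  haveI hp : (Q₁.map π).IsPrime := Ideal.map_isPrime_of_surjective Ideal.Quotient.mk_surjective hk
  have hm : (Q₁.map π).IsMaximal := Ideal.IsPrime.isMaximal' hp
  have hQ₁ : Q₁.IsMaximal := by
    have := Ideal.comap_isMaximal_of_surjective π Ideal.Quotient.mk_surjective (K := Q₁.map π)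
    rwa [Ideal.comap_map_of_surjective π Ideal.Quotient.mk_surjective, ← RingHom.ker_eq_comap_bot,
      sup_eq_left.2 hk] at this
  rw [← hc₁, eq_maximalIdeal hQ₁]
  exact Localization.AtPrime.under_maximalIdeal


/-- Let A be a Noetherian ring in which 2 is invertible and P a flat A-algebra which is a local complete
intersection over A (of finite type, with Koszul-regular kernel for some polynomial presentation)
and whose fibres are generically smooth: every prime of P minimal among the primes of its fibre over
A lies in the smooth locus of A → P. Then the first homology of the naive cotangent complex of P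
over A vanishes, H_1(NL_{P/A}) = 0: for every presentation P = S/I by a polynomial A-algebra S the
conormal sequence 0 → I/I^2 → Ω_{S/A} ⊗_S P → Ω_{P/A} → 0 is exact on the left. Since the cotangent
complex of a local complete intersection is this two-term complex, it is quasi-isomorphic to Ω_{P/A}
in degree 0, which is the identification that makes T^1 = Ext^1(Ω_{P/A}, P) the degree-one
cohomology of RHom of the cotangent complex into P. (The text states the latter identification for a
flat local complete intersection morphism of Noetherian schemes with generically smooth fibres; the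
row is its affine content.) -/
theorem result
    (A : Type u) [CommRing A] [IsNoetherianRing A] (h2 : IsUnit (2 : A))
    (P : Type u) [CommRing P] [Algebra A P] [Module.Flat A P] (hlci : LCI.IsLCI A P)
    (hgs : ∀ 𝔓 : PrimeSpectrum P,
      (∀ 𝔔 : PrimeSpectrum P, 𝔔 ≤ 𝔓 →
          𝔔.asIdeal.comap (algebraMap A P) = 𝔓.asIdeal.comap (algebraMap A P) → 𝔔 = 𝔓) →
        𝔓 ∈ Algebra.smoothLocus A P) :
    Subsingleton (Algebra.H1Cotangent A P) := by
  haveI : IsNoetherianRing P := by
    haveI := hlci.1
    exact Algebra.FiniteType.isNoetherianRing A P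
  have hsyn := Groth.Agent.RelGCILib.isSyntomic_of_flat_isLCI A P hlci
  have hfib : ∀ (p : Ideal A) [p.IsPrime], LocCoh.IsGorensteinRing (p.Fiber P) := fun p hp => by
    haveI := Groth.Agent.GorLib.isGorensteinRing_field p.ResidueField
    exact Groth.Agent.GorLib.isGorensteinRing_of_isLCI
      (Groth.Agent.RelGCILib.isLCI_of_isLCIOver (hsyn.2.2 ⟨p, hp⟩))
  obtain ⟨n, v, hv, hk⟩ := Groth.Agent.KRIdeal.exists_pker hlci
  let G : Algebra.Generators A P (ULift.{u} (Fin n)) :=
    Algebra.Generators.ofSurjective _ (Groth.Agent.NL17.surjective_ulift v hv)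
  obtain ⟨-, hproj⟩ := Groth.Agent.NL17.finite_projective_genCotangent G
    (Groth.Agent.NL17.isKRI_ulift v hk)
  haveI := hproj
  suffices h : Subsingleton G.toExtension.H1Cotangent from G.equivH1Cotangent.symm.toEquiv.subsingleton
  refine subsingleton_of_forall_eq 0 fun x => ?_
  refine Subtype.ext ((Module.forall_dual_apply_eq_zero_iff P x.1).1 fun φ => ?_)
  by_contra hc
  obtain ⟨Q, hQ, hle⟩ := exists_le_isAssociatedPrime_of_isNoetherianRing P (φ x.1) hc
  haveI := hQ.isPrime
  haveI : Algebra.FormallySmooth A (Localization.AtPrime Q) :=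
    hgs ⟨Q, inferInstance⟩ fun 𝔔 h₁ h₂ => PrimeSpectrum.ext
      (eq_of_le_of_mem_associatedPrimes hfib hQ h₁ h₂)
  haveI : Subsingleton (Algebra.H1Cotangent A (Localization.AtPrime Q)) :=
    Algebra.FormallySmooth.subsingleton_h1Cotangent
  obtain ⟨s, hs⟩ := (IsLocalizedModule.eq_iff_exists Q.primeCompl
    (Algebra.H1Cotangent.map A A P (Localization.AtPrime Q))
    (x₁ := G.equivH1Cotangent x) (x₂ := 0)).1 (Subsingleton.elim _ _)
  rw [Submonoid.smul_def, Submonoid.smul_def, smul_zero, ← map_smul,
    LinearEquiv.map_eq_zero_iff] at hs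
  have hsx : s.1 • x.1 = 0 := congrArg Subtype.val hs
  exact s.2 (hle (Submodule.mem_colon_singleton.2 ((Submodule.mem_bot P).2
    (by rw [← map_smul, hsx, map_zero]))))

end Groth.Agent.S18126
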