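import Groth.Statements.S18127
import Mathlib.LinearAlgebra.Matrix.Transvection
import Mathlib.LinearAlgebra.Matrix.Rank
import Mathlib.RingTheory.LocalRing.ResidueField.Basic

set_option autoImplicit false
universe u
open LocAlg

namespace Groth.Agent.S18127

/-- Let R be a local ring with maximal ideal m and algebraically closed residue field, and M an n × n
matrix over R whose reduction modulo m has rank at most r. Then the determinant of M lies in m^(n −
r). (The published setting is the local ring of germs of holomorphic functions at a point of a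
complex manifold, where this says that the determinant vanishes to order at least n − r at a point
where the matrix has rank at most r.) -/
theorem result
    {R : Type u} [CommRing R] [IsLocalRing R] [IsAlgClosed (IsLocalRing.ResidueField R)]
    {n : ℕ} (M : Matrix (Fin n) (Fin n) R) (r : ℕ)
    (hr : (M.map (IsLocalRing.residue R)).rank ≤ r) :
    M.det ∈ IsLocalRing.maximalIdeal R ^ (n - r) := by
  classical
  obtain ⟨L, L', D, hD⟩ := Matrix.Pivot.exists_list_transvec_mul_mul_list_transvec_eq_diagonal
    (M.map (IsLocalRing.residue R))
  set Pk := (L.map Matrix.TransvectionStruct.toMatrix).prod with hPk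
  set Qk := (L'.map Matrix.TransvectionStruct.toMatrix).prod with hQk
  have hP1 : Pk.det = 1 := Matrix.TransvectionStruct.det_toMatrix_prod L
  have hQ1 : Qk.det = 1 := Matrix.TransvectionStruct.det_toMatrix_prod L'
  have hlift : ∀ A : Matrix (Fin n) (Fin n) (IsLocalRing.ResidueField R),
      ∃ A' : Matrix (Fin n) (Fin n) R, A'.map (IsLocalRing.residue R) = A := fun A =>
    ⟨Matrix.of fun i j => Function.surjInv IsLocalRing.residue_surjective (A i j), Matrix.ext fun i j =>
      Function.surjInv_eq IsLocalRing.residue_surjective (A i j)⟩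
  obtain ⟨P, hP⟩ := hlift Pk
  obtain ⟨Q, hQ⟩ := hlift Qk
  have hunit : ∀ A : Matrix (Fin n) (Fin n) R, (A.map (IsLocalRing.residue R)).det = 1 →
      IsUnit A.det := fun A hA =>
    (isUnit_map_iff (IsLocalRing.residue R) A.det).mp (by
      rw [RingHom.map_det, RingHom.mapMatrix_apply, hA]; exact isUnit_one)
  set N := P * M * Q with hN
  have hNmap : N.map (IsLocalRing.residue R) = Matrix.diagonal D := by
    rw [hN, Matrix.map_mul, Matrix.map_mul, hP, hQ, hD]
  have hcard : n - r ≤ (Finset.univ.filter fun i => D i = 0).card := by
    have h1 : (Matrix.diagonal D).rank ≤ r := by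
      rw [← hD]
      exact ((Matrix.rank_mul_le_left _ _).trans (Matrix.rank_mul_le_right _ _)).trans hr
    rw [Matrix.rank_diagonal, Fintype.card_subtype] at h1
    have h2 := Finset.card_filter_add_card_filter_not
      (s := (Finset.univ : Finset (Fin n))) (fun i => D i = 0)
    rw [Finset.card_univ, Fintype.card_fin] at h2
    simp only [ne_eq] at h1
    omega
  have hrow : ∀ i, D i = 0 → ∀ j, N i j ∈ IsLocalRing.maximalIdeal R := by
    intro i hi j
    rw [← IsLocalRing.residue_eq_zero_iff,
      show IsLocalRing.residue R (N i j) = Matrix.diagonal D i j from congrFun (congrFun hNmap i) j]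
    by_cases hij : i = j
    · subst hij; simp [hi]
    · simp [Matrix.diagonal_apply_ne _ hij]
  have hdet : N.det ∈ IsLocalRing.maximalIdeal R ^ (n - r) := by
    rw [← Matrix.det_transpose, Matrix.det_apply']
    refine sum_mem fun σ _ => Ideal.mul_mem_left _ _ ?_
    rw [← Finset.prod_filter_mul_prod_filter_not Finset.univ (fun i => D i = 0)]
    refine Ideal.mul_mem_right _ _ (Ideal.pow_le_pow_right hcard ?_)
    rw [← Finset.prod_const]
    exact Ideal.prod_mem_prod fun i hi => hrow i (Finset.mem_filter.mp hi).2 _
  rw [hN, Matrix.det_mul, Matrix.det_mul] at hdet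
  have hu1 : IsUnit P.det := hunit P (by rw [hP]; exact hP1)
  have hu2 : IsUnit Q.det := hunit Q (by rw [hQ]; exact hQ1)
  exact (Ideal.unit_mul_mem_iff_mem _ hu1).mp ((Ideal.mul_unit_mem_iff_mem _ hu2).mp hdet)

end Groth.Agent.S18127
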