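import Groth.Statements.S18135
-- import your own Groth.Agent.* helpers here
import Groth.Agent.SurfRR.K3
import Groth.Agent.SurfRR.Setup
import Groth.Agent.SurfRR.Embed
import Groth.Agent.CohDual.SmoothEquidim

set_option autoImplicit false
universe u
open CategoryTheory CategoryTheory.Limits AlgebraicGeometry
open Surf

namespace Groth.Agent.S18135

/-- Torsion-freeness of Pic: let X be a K3 surface over an algebraically closed field k of
characteristic zero — an integral scheme, smooth and proper over k, of dimension two, carrying an
ample invertible module, whose structure sheaf is a second exterior power of its sheaf of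
differentials (trivial canonical sheaf) and with H^1(X, O_X) = 0. If L is an invertible O_X-module
some positive tensor power of which is isomorphic to O_X, then L ≅ O_X; that is, the Picard group of
X has no torsion (the published statement adds that it is free of finite rank, by finite generation
of the Néron–Severi group). -/
theorem result (k : Type u) [Field k] [IsAlgClosed k] [CharZero k]
    (X : Scheme.{u}) [X.Over (Spec (CommRingCat.of k))] [IsIntegral X]
    [Smooth (X ↘ Spec (CommRingCat.of k))] (hdim : topologicalKrullDim X = 2)
    [IsProper (X ↘ Spec (CommRingCat.of k))]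
    (H : X.Modules) (hHa : CohB1.IsAmple H)
    (hK : Canon.IsTopDiff (X ↘ Spec (CommRingCat.of k)) 2 (Coh.structureModule X))
    (hq : Module.finrank k (Coh.HH X (Coh.structureModule X) 1) = 0)
    (L : X.Modules) (hL : PicF.IsInvertible L) (n : ℕ) (hn : 1 ≤ n)
    (htors : Nonempty (CohB1.tensorPow L n ≅ Coh.structureModule X)) :
    Nonempty (L ≅ Coh.structureModule X) := by
  have hproj := SurfRR.exists_embedding k hHa
  have hreg : ∀ x : X, IsRegularLocalRing (X.presheaf.stalk x) := fun x =>
    CohDual.SmoothEquidim.isRegularLocalRing_stalk (X ↘ Spec (CommRingCat.of k)) x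
  obtain ⟨hWi, hdual⟩ := SurfRR.canonical_spec hdim hreg hproj _ hK
  haveI := SurfRR.smooth_two (k := k) hdim hreg
  obtain ⟨t⟩ := htors
  have hzero : ∀ M : X.Modules, PicF.IsInvertible M → IntTh.inum k [L, M] (Coh.structureModule X) = 0 := by
    intro M hM
    have h := SurfRR.inum_pow k hdim.le hL hM n
    rw [IntTh.inum_head_congr k t, IntTh.inum_head_unit] at h
    rcases mul_eq_zero.1 h.symm with h' | h'
    · omega
    · exact h'
  exact SurfRR.trivial_of_numTrivial_K3 k hdim.le hdual hq hL hHa (hzero L hL) (hzero H hHa.1)

end Groth.Agent.S18135
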