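import Groth.Statements.S18153
import Mathlib
-- import your own Groth.Agent.* helpers here

set_option autoImplicit false
universe u w
open FrobAlg

namespace Groth.Agent.S18153

/-- Let R be a commutative ring of prime characteristic p and f_1, …, f_m (m ≥ 1) polynomials over R in
the variables t_1, …, t_m and a further, possibly empty, family of variables s_a. Then in the m × m
Jacobian determinant det(∂f_i/∂t_j) with respect to the t-variables, the coefficient of the monomial
t_1^{p-1} ⋯ t_m^{p-1} (all s-exponents zero) vanishes. (In the source this is the claim, for formal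
power series in n ≥ m variables over the base field, to which the proof of the proposition reduces;
the coefficient in question only involves truncations of the f_i, so the polynomial form over any
ring of characteristic p is the same assertion.) -/
theorem result
    (p : ℕ) [Fact p.Prime] (R : Type u) [CommRing R] [CharP R p]
    {m : ℕ} (hm : 0 < m) (σ : Type w) (f : Fin m → MvPolynomial (Fin m ⊕ σ) R) :
    MvPolynomial.coeff
        (Finsupp.sumElim (Finsupp.equivFunOnFinite.symm fun _ : Fin m => p - 1) (0 : σ →₀ ℕ))
        (Matrix.of fun i j : Fin m => MvPolynomial.pderiv (Sum.inl j) (f i)).det = 0 := by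
  classical
  set E : (Fin m ⊕ σ) →₀ ℕ := Finsupp.sumElim (Finsupp.equivFunOnFinite.symm fun _ : Fin m => p - 1) (0 : σ →₀ ℕ) with hE
  let T : (Fin m ⊕ σ) →₀ ℕ := ∑ j : Fin m, Finsupp.single (Sum.inl j) 1
  have hTj : ∀ j : Fin m, (E + T) (Sum.inl j) = p := fun j => by
    have h1 : T (Sum.inl j) = 1 := by simp [T, Finsupp.single_apply]
    rw [Finsupp.add_apply, h1, hE, Finsupp.sumElim_inl]
    simp [Nat.sub_add_cancel (Fact.out : p.Prime).one_le]
  have hprod : (∏ j : Fin m, (MvPolynomial.X (Sum.inl j) : MvPolynomial (Fin m ⊕ σ) R)) = MvPolynomial.monomial T 1 := by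
    rw [MvPolynomial.monomial_sum_one]
    exact Finset.prod_congr rfl fun j _ => rfl
  rw [← mul_one (MvPolynomial.coeff E _), ← MvPolynomial.coeff_mul_monomial E T 1, ← hprod, mul_comm,
    ← Matrix.det_mul_row]
  let row : Fin m → ((Fin m ⊕ σ) →₀ ℕ) → (Fin m → MvPolynomial (Fin m ⊕ σ) R) := fun i a j =>
    MvPolynomial.monomial a (MvPolynomial.coeff a (f i) * (a (Sum.inl j) : R))
  have hM : (Matrix.of fun i j => MvPolynomial.X (Sum.inl j) *
      (Matrix.of fun i j : Fin m => MvPolynomial.pderiv (Sum.inl j) (f i)) i j) =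
      fun i => ∑ a ∈ (f i).support, row i a := by
    funext i j
    rw [Finset.sum_apply]
    simp only [Matrix.of_apply]
    conv_lhs => rw [(f i).as_sum, map_sum, Finset.mul_sum]
    refine Finset.sum_congr rfl fun a _ => ?_
    rw [MvPolynomial.pderiv_monomial]
    show MvPolynomial.X (Sum.inl j) * _ = MvPolynomial.monomial a _
    rcases Nat.eq_zero_or_pos (a (Sum.inl j)) with h0 | h0
    · simp [h0]
    · rw [MvPolynomial.X, MvPolynomial.monomial_mul, one_mul, add_tsub_cancel_of_le]
      exact Finsupp.single_le_iff.2 h0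
  rw [hM]
  have hdet : Matrix.det (fun i => ∑ a ∈ (f i).support, row i a) =
      ∑ r ∈ Fintype.piFinset fun i => (f i).support, Matrix.det fun i => row i (r i) :=
    (Matrix.detRowAlternating (R := MvPolynomial (Fin m ⊕ σ) R) (n := Fin m)).toMultilinearMap.map_sum_finset row fun i => (f i).support
  rw [hdet, MvPolynomial.coeff_sum]
  refine Finset.sum_eq_zero fun r _ => ?_
  let N : Matrix (Fin m) (Fin m) R := Matrix.of fun i j => ((r i) (Sum.inl j) : R)
  have hr : Matrix.det (fun i => row i (r i)) =
      MvPolynomial.monomial (∑ i, r i) ((∏ i, MvPolynomial.coeff (r i) (f i)) * N.det) := by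
    have h1 : Matrix.det (fun i => row i (r i)) = Matrix.det (Matrix.of fun i j =>
        MvPolynomial.monomial (r i) (MvPolynomial.coeff (r i) (f i)) * (N.map MvPolynomial.C) i j) := by
      congr 1
      funext i j
      show row i (r i) j = MvPolynomial.monomial (r i) _ * MvPolynomial.C (N i j)
      rw [mul_comm, MvPolynomial.C_mul_monomial, mul_comm]
      rfl
    rw [h1, Matrix.det_mul_column, ← RingHom.mapMatrix_apply, ← RingHom.map_det, ← MvPolynomial.monomial_sum_prod,
      mul_comm, MvPolynomial.C_mul_monomial, mul_comm]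
  rw [hr, MvPolynomial.coeff_monomial]
  split_ifs with hs
  · have hv : Matrix.vecMul (fun _ => (1 : R)) N = 0 := by
      funext j
      rw [Matrix.vecMul, dotProduct, Pi.zero_apply, Finset.sum_congr rfl fun i _ => one_mul _]
      show ∑ i, ((r i) (Sum.inl j) : R) = 0
      rw [← Nat.cast_sum, show ∑ i, (r i) (Sum.inl j) = p from by
        rw [← Finsupp.finsetSum_apply, hs, hTj], CharP.cast_eq_zero]
    have h2 : N.det • (fun _ : Fin m => (1 : R)) = 0 := by
      rw [← Matrix.vecMul_one (fun _ : Fin m => (1 : R)), ← Matrix.vecMul_smul, ← Matrix.mul_adjugate,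
        ← Matrix.vecMul_vecMul, hv, Matrix.zero_vecMul]
    have h3 : N.det = 0 := by simpa using congrFun h2 ⟨0, hm⟩
    rw [h3, mul_zero]
  · rfl

end Groth.Agent.S18153
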