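import Groth.Statements.S18155
import Groth.Agent.HenselLib.LiftEtalePair
import Groth.Agent.WittTwo.Lift
import Groth.Prelude.Def_FrobAlg
-- import your own Groth.Agent.* helpers here

set_option autoImplicit false
set_option linter.style.haveILetI false
universe u v
open FrobAlg

namespace Groth.Agent.S18155

universe w

theorem exists_twisted_lift (p : ℕ) [Fact p.Prime] {B E C : Type w} [CommRing B] [CommRing E] [CommRing C]
    (g : B →+* E) (hg : @Algebra.Etale B E _ _ g.toAlgebra) (Φ : B →+* B) (π : E →+* C)
    (hπ : Function.Surjective π) (hsq : (RingHom.ker π) ^ 2 = ⊥)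
    (hb : ∀ b, π (g (Φ b)) = π (g b) ^ p) (hp : (p : C) = 0) :
    ∃ Φ' : E →+* E, Φ'.comp g = g.comp Φ ∧ ∀ x, π (Φ' x) = π x ^ p := by
  letI : Algebra B E := g.toAlgebra
  haveI : Algebra.Etale B E := hg
  let E' := FrobAlg.Target p B E
  letI : CommRing E' := inferInstanceAs (CommRing E)
  letI : Algebra B E' := ((g.comp Φ : B →+* E) : B →+* E').toAlgebra
  letI : Algebra B C := (π.comp (g.comp Φ)).toAlgebra
  let πB : E' →ₐ[B] C := { (π : E' →+* C) with commutes' := fun _ => rfl }
  have hfr : ∀ x y : C, (x + y) ^ p = x ^ p + y ^ p := fun x y => by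
    obtain ⟨r, hr⟩ := exists_add_pow_prime_eq (Fact.out : p.Prime) x y
    rw [hr, hp, zero_mul, zero_mul, zero_mul, add_zero]
  let f : E →ₐ[B] C :=
    { toFun := fun x => π x ^ p
      map_one' := by simp
      map_mul' := fun x y => by simp [mul_pow]
      map_zero' := by simp [(Fact.out : p.Prime).ne_zero]
      map_add' := fun x y => by simp [hfr]
      commutes' := fun b => (hb b).symm }
  have hnil : IsNilpotent (RingHom.ker πB) := ⟨2, hsq⟩
  let s := Algebra.FormallySmooth.liftOfSurjective f πB hπ hnil
  refine ⟨(s.toRingHom : E →+* E), RingHom.ext fun b => s.commutes b, fun x => ?_⟩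
  exact AlgHom.congr_fun (Algebra.FormallySmooth.comp_liftOfSurjective f πB hπ hnil) x


/-- Let k be an algebraically closed field of characteristic p, A a commutative k-algebra and C an étale
A-algebra. If A admits a flat lifting over W_2(k) together with a lift of Frobenius, then so does C.
(The source states this for an étale cover Y → X of smooth varieties over k; its argument uses only
that Y is étale over X, and the affine case is stated here with no smoothness or finiteness
hypothesis on A over k.) -/
theorem result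
    (p : ℕ) [Fact p.Prime] (k : Type u) [Field k] [IsAlgClosed k] [CharP k p]
    (A C : Type v) [CommRing A] [CommRing C] [Algebra k A] [Algebra k C]
    [Algebra A C] [IsScalarTower k A C] [Algebra.Etale A C]
    (hA : FrobAlg.IsFLiftable p k A) : FrobAlg.IsFLiftable p k C := by
  obtain ⟨B, _, ι, π, Φ, h⟩ := hA
  haveI : PerfectRing k p := PerfectField.toPerfectRing p
  have hsurj := h.toIsLift.surj
  let e : B ⧸ RingHom.ker π ≃+* A := RingHom.quotientKerEquivOfSurjective hsurj
  let j : B ⧸ RingHom.ker π →+* C := (algebraMap A C).comp (e : B ⧸ RingHom.ker π →+* A)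
  letI : Algebra (B ⧸ RingHom.ker π) C := j.toAlgebra
  letI : Algebra B C := (j.comp (Ideal.Quotient.mk (RingHom.ker π))).toAlgebra
  haveI : IsScalarTower B (B ⧸ RingHom.ker π) C := IsScalarTower.of_algebraMap_eq fun _ => rfl
  haveI : Algebra.Etale (B ⧸ RingHom.ker π) C := by
    have hj : j.Etale := RingHom.Etale.stableUnderComposition _ _
      (RingHom.Etale.of_bijective e.bijective) (RingHom.etale_algebraMap.2 ‹Algebra.Etale A C›)
    exact hj
  have hBC : ∀ b : B, algebraMap B C b = algebraMap A C (π b) := fun b => rfl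
  obtain ⟨E, _, _, π', hE, hπ', hker'⟩ :=
    Groth.Agent.HenselLib.exists_etale_lift_quotient (RingHom.ker π) C
  let ι' : FrobAlg.W2 p k →+* E := (algebraMap B E).comp ι
  have hpπ' : ∀ b : B, π' (algebraMap B E b) = algebraMap A C (π b) := fun b => by
    rw [π'.commutes, hBC]
  have hsq : (RingHom.ker π'.toRingHom) ^ 2 = ⊥ := by
    have hle : RingHom.ker π'.toRingHom ≤ Ideal.span {(p : E)} := by
      intro x hx
      have h1 := hker' x hx
      rwa [h.toIsLift.ker_eq, Groth.Agent.WittTwo.ker_res, Ideal.map_map, Ideal.map_span,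
        Set.image_singleton, map_natCast] at h1
    refine le_bot_iff.1 ((Ideal.pow_right_mono hle 2).trans ?_)
    rw [Ideal.span_singleton_pow, pow_two, Groth.Agent.WittTwo.p_sq_of_hom (p := p) (k := k) ι', Ideal.span_singleton_eq_bot.2 rfl]
  -- the Frobenius lift
  have hex : ∃ Φ' : E →+* E, Φ'.comp (algebraMap B E) = (algebraMap B E).comp Φ ∧
      ∀ x, π' (Φ' x) = π' x ^ p := by
    obtain ⟨Φ', h1, h2⟩ := exists_twisted_lift p (algebraMap B E) (RingHom.etale_algebraMap.2 hE) Φ π'.toRingHom hπ' hsq
      (fun b => by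
        show π' (algebraMap B E (Φ b)) = π' (algebraMap B E b) ^ p
        rw [hpπ', hpπ', h.red, map_pow])
      (by rw [← map_natCast (algebraMap k C), CharP.cast_eq_zero, map_zero])
    exact ⟨Φ', h1, h2⟩
  obtain ⟨Φ', hΦ', hred⟩ := hex
  refine ⟨E, inferInstance, ι', π'.toRingHom, Φ', ⟨⟨?_, hπ', ?_, ?_⟩, ?_, hred⟩⟩
  · exact RingHom.Flat.comp h.toIsLift.flat
      (RingHom.flat_algebraMap_iff.2 (Algebra.Smooth.flat B E))
  · refine le_antisymm (fun x hx => ?_) ?_
    · have h1 := hker' x hx
      rwa [h.toIsLift.ker_eq, Ideal.map_map] at h1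
    · rw [← Ideal.map_map, ← h.toIsLift.ker_eq, Ideal.map_le_iff_le_comap]
      intro b hb
      show π' (algebraMap B E b) = 0
      rw [hpπ', show π b = 0 from hb, map_zero]
  · refine RingHom.ext fun w => ?_
    show π' (algebraMap B E (ι w)) = algebraMap k C (FrobAlg.res p k w)
    rw [hpπ', show π (ι w) = algebraMap k A (FrobAlg.res p k w) from RingHom.congr_fun h.toIsLift.comm w,
      ← IsScalarTower.algebraMap_apply]
  · rw [← RingHom.comp_assoc, hΦ', RingHom.comp_assoc, h.semi, RingHom.comp_assoc]

end Groth.Agent.S18155
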