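import Groth.Statements.S18156
import Groth.Agent.GRing17.Derivation

set_option autoImplicit false
universe u v
open CAlg

namespace Groth.Agent.S18156

/-- Let k be a field and A a regular local ring that is a k-algebra, with maximal ideal m and m-adic
completion Â. Then every k-derivation D of A into itself extends to a k-derivation D̂ of Â into
itself along the canonical map ρ : A → Â, in the sense that D̂(ρ(a)) = ρ(D(a)) for every a ∈ A. (The
source works throughout over an algebraically closed field of characteristic p; neither assumption
enters this statement.) -/
theorem result
    (k : Type u) [Field k] (A : Type v) [CommRing A] [Algebra k A] [IsRegularLocalRing A]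
    (D : Derivation k A A) :
    ∃ Dhat : Derivation k (AdicCompletion (IsLocalRing.maximalIdeal A) A)
        (AdicCompletion (IsLocalRing.maximalIdeal A) A),
      ∀ a : A, Dhat (algebraMap A (AdicCompletion (IsLocalRing.maximalIdeal A) A) a) =
        algebraMap A (AdicCompletion (IsLocalRing.maximalIdeal A) A) (D a) := by
  obtain ⟨d, hd⟩ := GRing17.exists_derivation_completion (IsLocalRing.maximalIdeal A) (D.restrictScalars ℤ)
  let Ah := AdicCompletion (IsLocalRing.maximalIdeal A) A
  let L : Ah →ₗ[k] Ah :=
    { toFun := d
      map_add' := map_add d
      map_smul' := fun c x => by
        rw [RingHom.id_apply, Algebra.smul_def, Algebra.smul_def, IsScalarTower.algebraMap_apply k A Ah,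
          Derivation.leibniz, hd, smul_eq_mul, smul_eq_mul]
        show algebraMap A Ah (algebraMap k A c) * d x + x * algebraMap A Ah (D (algebraMap k A c)) = _
        rw [D.map_algebraMap, map_zero, mul_zero, add_zero] }
  exact ⟨Derivation.mk' L fun x y => d.leibniz x y, hd⟩

end Groth.Agent.S18156
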