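import Mathlib
import Groth.Statements.S18188
-- import your own Groth.Agent.* helpers here

set_option autoImplicit false
universe u
open OrbRR

namespace Groth.Agent.S18188

/-- Let K be a field in which 6 ≠ 0, let j < N be natural numbers (so N ≥ 1), and let ζ ∈ K be a
primitive N-th root of unity. Then the sum over i = 1, …, N − 1 of ζ^{ij} / (2 − ζ^i − ζ^{−i})
equals j(j − N)/2 + (N² − 1)/12. (The published setting is characteristic zero; the identity is
stated here over any field of characteristic different from 2 and 3, where the published proof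
applies unchanged: a field containing a primitive N-th root of unity has characteristic prime to N,
and each denominator 2 − ζ^i − ζ^{−i} = −(1 − ζ^i)²/ζ^i with 0 < i < N is nonzero. In
characteristics 2 and 3 the right-hand side has no meaning.) -/
theorem result (K : Type u) [Field K] (h6 : (6 : K) ≠ 0)
    (N j : ℕ) (hj : j < N) (ζ : K) (hζ : IsPrimitiveRoot ζ N) :
    ∑ i ∈ Finset.Ioo 0 N, ζ ^ (i * j) / (2 - ζ ^ i - (ζ ^ i)⁻¹) =
      (j : K) * ((j : K) - (N : K)) / 2 + ((N : K) ^ 2 - 1) / 12 := by
  classical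
  have h2 : (2 : K) ≠ 0 := fun h => h6 (by linear_combination (3 : K) * h)
  have h12 : (12 : K) ≠ 0 := by
    intro h
    have : (2 : K) * 6 = 0 := by linear_combination h
    exact (mul_ne_zero h2 h6) this
  have hN0 : N ≠ 0 := by omega
  have : NeZero N := ⟨hN0⟩
  have hNK : (N : K) ≠ 0 := (hζ.neZero' : NeZero (N : K)).out
  have hne1 : ∀ i ∈ Finset.Ioo 0 N, ζ ^ i ≠ 1 := fun i hi => by
    rw [Finset.mem_Ioo] at hi
    exact hζ.pow_ne_one_of_pos_of_lt hi.1.ne' hi.2
  have hw : ∀ i, ζ ^ i ≠ 0 := fun i => pow_ne_zero _ (hζ.ne_zero hN0)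
  have hsum : ∀ a, 0 < a → a < N → ∑ i ∈ Finset.Ioo 0 N, ζ ^ (i * a) = -1 := by
    intro a ha ha'
    have h1 : ∑ i ∈ Finset.range N, (ζ ^ a) ^ i = 0 := by
      rw [geom_sum_eq (hζ.pow_ne_one_of_pos_of_lt ha.ne' ha'), ← pow_mul, mul_comm, pow_mul, hζ.pow_eq_one, one_pow, sub_self, zero_div]
    rw [Finset.range_eq_Ico, ← Finset.insert_Ico_add_one_left_eq_Ico (by omega : 0 < N), Finset.sum_insert (by simp), pow_zero, show Finset.Ico (0 + 1) N = Finset.Ioo 0 N from rfl] at h1
    simp_rw [← pow_mul, mul_comm a] at h1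
    linear_combination h1
  let S : ℕ → K := fun a => ∑ i ∈ Finset.Ioo 0 N, ζ ^ (i * a) / (2 - ζ ^ i - (ζ ^ i)⁻¹)
  have hrec : ∀ a, a + 1 < N → S (a + 2) - 2 * S (a + 1) + S a = 1 := by
    intro a ha
    have : ∀ i ∈ Finset.Ioo 0 N, ζ ^ (i * (a + 2)) / (2 - ζ ^ i - (ζ ^ i)⁻¹) - 2 * (ζ ^ (i * (a + 1)) / (2 - ζ ^ i - (ζ ^ i)⁻¹)) + ζ ^ (i * a) / (2 - ζ ^ i - (ζ ^ i)⁻¹) = -ζ ^ (i * (a + 1)) := by
      intro i hi
      rw [show i * (a + 2) = i * a + i + i by ring, show i * (a + 1) = i * a + i by ring, pow_add, pow_add]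
      have hw0 := hw i
      have hw1 := sub_ne_zero.2 (hne1 i hi)
      have hden : 2 - ζ ^ i - (ζ ^ i)⁻¹ = -((ζ ^ i - 1) ^ 2 / ζ ^ i) := by field_simp; ring
      rw [hden]
      field_simp
      ring
    calc S (a + 2) - 2 * S (a + 1) + S a = ∑ i ∈ Finset.Ioo 0 N, -ζ ^ (i * (a + 1)) := by
          simp only [S, Finset.mul_sum, ← Finset.sum_sub_distrib, ← Finset.sum_add_distrib]
          exact Finset.sum_congr rfl this
      _ = 1 := by rw [Finset.sum_neg_distrib, hsum _ (by omega) ha, neg_neg]
  let G : ℕ → K := fun a => S a - ((a : K) * ((a : K) - N)) / 2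
  have hlin : ∀ a, a ≤ N → G a = G 0 + (a : K) * (G 1 - G 0) := by
    intro a
    induction a using Nat.strong_induction_on with
    | _ a ih =>
      intro ha
      match a with
      | 0 => simp
      | 1 => simp
      | b + 2 =>
        have e1 := ih b (by omega) (by omega)
        have e2 := ih (b + 1) (by omega) (by omega)
        have e3 := hrec b (by omega)
        have e4 : G (b + 2) - 2 * G (b + 1) + G b = 0 := by
          simp only [G]
          push_cast
          field_simp
          linear_combination 2 * e3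
        push_cast at e2 ⊢
        linear_combination e4 + 2 * e2 - e1
  have hper : G N = G 0 := by
    have : S N = S 0 := Finset.sum_congr rfl fun i _ => by rw [mul_comm i N, pow_mul, hζ.pow_eq_one, one_pow, mul_zero, pow_zero]
    simp [G, this]
  have hG1 : G 1 - G 0 = 0 := by
    have h := hlin N le_rfl
    rw [hper] at h
    exact (mul_eq_zero.1 (by linear_combination -h : (N : K) * (G 1 - G 0) = 0)).resolve_left hNK
  have hS : ∀ a, a ≤ N → S a = S 0 + (a : K) * ((a : K) - N) / 2 := by
    intro a ha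
    have h := hlin a ha
    rw [hG1, mul_zero, add_zero] at h
    simp only [G, Nat.cast_zero, zero_mul, zero_div, sub_zero] at h
    linear_combination h
  have htot : ∑ a ∈ Finset.range N, S a = 0 := by
    rw [Finset.sum_comm]
    refine Finset.sum_eq_zero fun i hi => ?_
    rw [← Finset.sum_div]
    simp_rw [pow_mul]
    rw [geom_sum_eq (hne1 i hi), ← pow_mul, mul_comm, pow_mul, hζ.pow_eq_one, one_pow, sub_self, zero_div, zero_div]
  have hquad : ∀ M : ℕ, 6 * ∑ a ∈ Finset.range M, (a : K) * ((a : K) - N) = ((M : K) - 1) * M * (2 * M - 1) - 3 * N * (M * ((M : K) - 1)) := by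
    intro M
    induction M with
    | zero => simp
    | succ M ih => rw [Finset.sum_range_succ, mul_add, ih]; push_cast; ring
  rw [Finset.sum_congr rfl (fun a ha => hS a (Finset.mem_range.1 ha).le), Finset.sum_add_distrib, ← Finset.sum_div, Finset.sum_const, Finset.card_range, nsmul_eq_mul] at htot
  have hS0 : S 0 = ((N : K) ^ 2 - 1) / 12 := by
    have hq := hquad N
    rw [eq_div_iff h12]
    field_simp at htot
    apply mul_left_cancel₀ hNK
    linear_combination 6 * htot - hq
  show S j = _
  rw [hS j hj.le, hS0]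
  ring

end Groth.Agent.S18188
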