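import Groth.Statements.S18190
import Mathlib.Tactic
import Mathlib.Analysis.Matrix.PosDef
import Mathlib.Algebra.Order.Star.Real
import Mathlib.Analysis.RCLike.Basic
import Mathlib.LinearAlgebra.Matrix.PosDef
-- import your own Groth.Agent.* helpers here

set_option autoImplicit false
open OrbRR

namespace Groth.Agent.S18190

noncomputable def ff (N d : ℕ) : ℝ := ((d : ℝ) * ((d : ℝ) - N)) / 2 + ((N : ℝ) ^ 2 - 1) / 12

lemma sumProd (c e : ℝ) : ∀ n : ℕ, (∑ a ∈ Finset.range n, ((a : ℝ) + c) * ((a : ℝ) + e))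
    = (n : ℝ) * (n - 1) * (2 * n - 1) / 6 + (c + e) * n * (n - 1) / 2 + n * c * e
  | 0 => by simp
  | n + 1 => by
    rw [Finset.sum_range_succ, sumProd c e n]
    push_cast
    ring

noncomputable def saw (N : ℕ) [NeZero N] (x : ZMod N) : ℝ := (x.val : ℝ) - ((N : ℝ) - 1) / 2

lemma key (N : ℕ) [NeZero N] (t : ZMod N) :
    ∑ a : ZMod N, saw N a * saw N (a + t) = N * ff N t.val := by
  obtain ⟨m, hm⟩ : ∃ m, N = t.val + m := ⟨N - t.val, by have := ZMod.val_lt t; omega⟩
  have h1 : ∑ a : ZMod N, saw N a * saw N (a + t) = ∑ a ∈ Finset.range N,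
      saw N (a : ZMod N) * saw N ((a : ZMod N) + t) := by
    symm
    refine Finset.sum_bij (fun (a : ℕ) _ => (a : ZMod N)) ?_ ?_ ?_ ?_
    · intro a _; exact Finset.mem_univ _
    · intro a ha b hb h
      have := congrArg ZMod.val h
      rwa [ZMod.val_cast_of_lt (Finset.mem_range.mp ha),
        ZMod.val_cast_of_lt (Finset.mem_range.mp hb)] at this
    · intro b _
      exact ⟨b.val, Finset.mem_range.mpr (ZMod.val_lt b), ZMod.natCast_zmod_val b⟩
    · intro a _; rfl
  rw [h1]
  set d := t.val with hd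
  have hr : Finset.range N = Finset.range (m + d) := by rw [hm, add_comm]
  rw [hr, Finset.sum_range_add]
  set c : ℝ := -(((N : ℝ) - 1) / 2) with hc
  have e1 : ∀ a ∈ Finset.range m, saw N (a : ZMod N) * saw N ((a : ZMod N) + t)
      = ((a : ℝ) + c) * ((a : ℝ) + (d + c)) := by
    intro a ha
    have ha' := Finset.mem_range.mp ha
    unfold saw
    rw [ZMod.val_add, ZMod.val_cast_of_lt (by omega), ← hd, Nat.mod_eq_of_lt (by omega)]
    push_cast
    rw [hc]; ring
  have e2 : ∀ a ∈ Finset.range d, saw N ((m + a : ℕ) : ZMod N) * saw N (((m + a : ℕ) : ZMod N) + t)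
      = ((a : ℝ) + (m + c)) * ((a : ℝ) + c) := by
    intro a ha
    have ha' := Finset.mem_range.mp ha
    unfold saw
    rw [ZMod.val_add, ZMod.val_cast_of_lt (by omega), ← hd]
    have : (m + a + d) % N = a := by
      rw [show m + a + d = a + N by omega, Nat.add_mod_right, Nat.mod_eq_of_lt (by omega)]
    rw [this]
    push_cast
    rw [hc]; ring
  rw [Finset.sum_congr rfl e1, Finset.sum_congr rfl e2, sumProd, sumProd, hc]
  unfold ff
  have hN : (N : ℝ) = d + m := by exact_mod_cast hm
  rw [hN]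
  ring

/-- Let N ≥ 1 and let f : ℤ/Nℤ → ℚ be f(x) = x(x − N)/2 + (N² − 1)/12, where x is read as its
representative with 0 ≤ x < N. The real N × N matrix indexed by ℤ/Nℤ whose (i, j) entry is f(j −
i)/N, a symmetric circulant matrix, is positive semidefinite. -/
theorem result (N : ℕ) [NeZero N] :
    (Matrix.of fun i j : ZMod N =>
        ((((j - i).val : ℝ) * (((j - i).val : ℝ) - (N : ℝ))) / 2 + ((N : ℝ) ^ 2 - 1) / 12) / (N : ℝ)).PosSemidef := by
  set M : Matrix (ZMod N) (ZMod N) ℝ := Matrix.of fun a i => saw N (a - i) / N with hM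
  convert Matrix.posSemidef_conjTranspose_mul_self M using 1
  ext i j
  rw [Matrix.mul_apply]
  simp only [hM, Matrix.conjTranspose_apply, Matrix.of_apply, star_trivial]
  have hN : (N : ℝ) ≠ 0 := by exact_mod_cast NeZero.ne N
  have e : ∑ a : ZMod N, saw N (a - i) / N * (saw N (a - j) / N)
      = (∑ a : ZMod N, saw N a * saw N (a + (j - i))) / ((N : ℝ) * N) := by
    rw [Finset.sum_div, ← Equiv.sum_comp (Equiv.addRight j)]
    apply Finset.sum_congr rfl
    intro a _
    simp only [Equiv.coe_addRight, add_sub_cancel_right]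
    rw [show a + j - i = a + (j - i) by abel]
    field_simp
  rw [e, key]
  unfold ff
  field_simp

end Groth.Agent.S18190
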