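import Groth.Statements.S18189
import Groth.Agent.S18190
import Mathlib.Tactic
import Mathlib.Analysis.Complex.Basic
-- import your own Groth.Agent.* helpers here

set_option autoImplicit false
open OrbRR

namespace Groth.Agent.S18189

/-- Let N ≥ 1 be a natural number, let ζ ∈ ℂ be a primitive N-th root of unity, and put f(i) = i(i −
N)/2 + (N² − 1)/12 for 0 ≤ i < N. For every natural number m the complex number ε_m = (1/N)
∑_{i=0}^{N−1} f(i) ζ^{mi}, an eigenvalue of the symmetric circulant N × N matrix with (i, j) entry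
f(j − i)/N, is real and nonnegative. -/
theorem result (N : ℕ) (hN : 0 < N) (ζ : ℂ)
    (hζ : IsPrimitiveRoot ζ N) (m : ℕ) :
    (∑ i ∈ Finset.range N,
        ((i : ℂ) * ((i : ℂ) - (N : ℂ)) / 2 + ((N : ℂ) ^ 2 - 1) / 12) / (N : ℂ) * ζ ^ (m * i)).im = 0 ∧
    0 ≤ (∑ i ∈ Finset.range N,
        ((i : ℂ) * ((i : ℂ) - (N : ℂ)) / 2 + ((N : ℂ) ^ 2 - 1) / 12) / (N : ℂ) * ζ ^ (m * i)).re := by
  haveI : NeZero N := ⟨hN.ne'⟩
  have hN0 : N ≠ 0 := hN.ne'
  have hn : ‖ζ‖ = 1 := Complex.norm_eq_one_of_pow_eq_one hζ.pow_eq_one hN0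
  let χ : ZMod N → ℂ := fun t => ζ ^ (m * t.val)
  have hχadd : ∀ a b, χ (a + b) = χ a * χ b := by
    intro a b
    simp only [χ]
    rw [ZMod.val_add, ← pow_add, ← mul_add]
    have h1 : ∀ n : ℕ, ζ ^ (m * (n % N)) = ζ ^ (m * n) := by
      intro n
      conv_rhs => rw [← Nat.mod_add_div n N, mul_add, pow_add, ← mul_assoc, mul_comm m N, mul_assoc,
        pow_mul ζ N, hζ.pow_eq_one, one_pow, mul_one]
    rw [h1]
  have hconj : ∀ a, (starRingEnd ℂ) (χ a) * χ a = 1 := by
    intro a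
    rw [Complex.conj_mul', norm_pow, hn, one_pow]
    simp
  set S : ℂ := ∑ a : ZMod N, ((Groth.Agent.S18190.saw N a : ℝ) : ℂ) * χ a with hS
  have key : ∑ i ∈ Finset.range N,
      ((i : ℂ) * ((i : ℂ) - (N : ℂ)) / 2 + ((N : ℂ) ^ 2 - 1) / 12) / (N : ℂ) * ζ ^ (m * i)
      = ((Complex.normSq S / ((N : ℝ) * N) : ℝ) : ℂ) := by
    have hNc : (N : ℂ) ≠ 0 := by exact_mod_cast hN0
    have h1 : ∑ i ∈ Finset.range N,
        ((i : ℂ) * ((i : ℂ) - (N : ℂ)) / 2 + ((N : ℂ) ^ 2 - 1) / 12) / (N : ℂ) * ζ ^ (m * i)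
        = ∑ t : ZMod N, ((Groth.Agent.S18190.ff N t.val : ℝ) : ℂ) / (N : ℂ) * χ t := by
      refine Finset.sum_bij (fun (a : ℕ) _ => (a : ZMod N)) ?_ ?_ ?_ ?_
      · intro a _; exact Finset.mem_univ _
      · intro a ha b hb h
        have := congrArg ZMod.val h
        rwa [ZMod.val_cast_of_lt (Finset.mem_range.mp ha),
          ZMod.val_cast_of_lt (Finset.mem_range.mp hb)] at this
      · intro b _
        exact ⟨b.val, Finset.mem_range.mpr (ZMod.val_lt b), ZMod.natCast_zmod_val b⟩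
      · intro a ha
        simp only [χ, Groth.Agent.S18190.ff, ZMod.val_cast_of_lt (Finset.mem_range.mp ha)]
        push_cast
        ring
    rw [h1, Complex.ofReal_div, ← Complex.mul_conj, eq_div_iff (by simp [hN0]), hS, map_sum,
      Finset.sum_mul, Finset.sum_mul]
    rw [Finset.sum_congr rfl (g := fun t : ZMod N => ∑ a : ZMod N,
        ((Groth.Agent.S18190.saw N a : ℝ) : ℂ) * ((Groth.Agent.S18190.saw N (a + t) : ℝ) : ℂ) * χ t)]
    swap
    · intro t _
      rw [← Finset.sum_mul]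
      have := Groth.Agent.S18190.key N t
      have h2 : (∑ a : ZMod N, ((Groth.Agent.S18190.saw N a : ℝ) : ℂ) * ((Groth.Agent.S18190.saw N (a + t) : ℝ) : ℂ))
          = ((N : ℝ) : ℂ) * ((Groth.Agent.S18190.ff N t.val : ℝ) : ℂ) := by exact_mod_cast this
      rw [h2]
      push_cast
      field_simp
    conv_rhs => simp only [Finset.mul_sum]
    rw [Finset.sum_comm]
    conv_rhs => rw [Finset.sum_comm]
    apply Finset.sum_congr rfl
    intro a _
    refine Finset.sum_bij (fun (t : ZMod N) _ => a + t) (by simp)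
      (fun _ _ _ _ h => add_left_cancel h) (fun b _ => ⟨b - a, Finset.mem_univ _, by abel⟩) ?_
    intro t _
    rw [map_mul, Complex.conj_ofReal, hχadd]
    linear_combination (-(((Groth.Agent.S18190.saw N a : ℝ) : ℂ) * ((Groth.Agent.S18190.saw N (a + t) : ℝ) : ℂ) * χ t)) * hconj a
  rw [key]
  exact ⟨Complex.ofReal_im _, by rw [Complex.ofReal_re]; exact div_nonneg (Complex.normSq_nonneg _) (by positivity)⟩

end Groth.Agent.S18189
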