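import Groth.Statements.S1819
import Groth.Agent.DualCx.BidualCxFinite
import Groth.Agent.RHomCx.Basic

set_option autoImplicit false
universe u
open CategoryTheory
attribute [local instance] HasDerivedCategory.standard
open Dual

namespace Groth.Agent.S1819

/-- Let A be a Noetherian ring with a dualizing complex ω and K a complex of A-modules all of whose
cohomology modules are finite; assume RHom(K, −) exists. Then every cohomology module of RHom_A(K,
ω) is finite, and for every complex E representing RHom_A(K, ω) (with RHom(E, −) existing) there is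
an isomorphism RHom_A(E, ω) ≅ K in D(A). -/
theorem result (A : Type u) [CommRing A] [IsNoetherianRing A] (ω : Dual.D A) (hω : Dual.IsDualizing A ω) (K : DRing.Cx A) [DRing.HasRHomCx K] (hK : ∀ i : ℤ, Module.Finite A (Dual.HD A (DRing.toD K) i)) : (∀ i : ℤ, Module.Finite A (Dual.HD A ((DRing.RHomCx K).obj ω) i)) ∧ ∀ (E : DRing.Cx A) [DRing.HasRHomCx E], Nonempty (DRing.toD E ≅ (DRing.RHomCx K).obj ω) → Nonempty ((DRing.RHomCx E).obj ω ≅ DRing.toD K) := by
  haveI := hω.isNoetherianRing
  obtain ⟨W, a, b, hW, hinj, hzero, ⟨e⟩⟩ := DualCx.exists_model hω.finite_injective_dimension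
  haveI := hW
  haveI := hinj
  have hrhom : ∀ (E : DRing.Cx A) [DRing.HasRHomCx E],
      Nonempty ((DRing.RHomCx E).obj ω ≅ DerivedCategory.Q.obj (LocCohLib.homCx E W)) := fun E _ => by
    haveI := RHomCx.isIso_unit E W
    exact ⟨(DRing.RHomCx E).mapIso e.symm ≪≫ (asIso ((RHomCx.unit E).app W)).symm⟩
  have hgood := DualCx.good_of_finite W a b hzero e hω K fun i => by
    haveI : Module.Finite A ((DerivedCategory.Q ⋙ DerivedCategory.homologyFunctor (ModuleCat.{u} A) i).obj K) := hK i
    exact Module.Finite.equiv ((DerivedCategory.homologyFunctorFactors (ModuleCat.{u} A) i).app K).toLinearEquiv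
  obtain ⟨g⟩ := hrhom K
  refine ⟨fun i => ?_, fun E _ ⟨gE⟩ => ?_⟩
  · haveI : Module.Finite A ((HomologicalComplex.homologyFunctor (ModuleCat.{u} A) (ComplexShape.up ℤ) i).obj
        (LocCohLib.homCx K W)) := (hgood i).2
    exact Module.Finite.equiv (((DerivedCategory.homologyFunctor (ModuleCat.{u} A) i).mapIso g) ≪≫
      (DerivedCategory.homologyFunctorFactors (ModuleCat.{u} A) i).app (LocCohLib.homCx K W)).toLinearEquiv.symm
  · obtain ⟨g'⟩ := hrhom E
    let Φ : DerivedCategory.Q.obj E ≅ DerivedCategory.Q.obj (LocCohLib.homCx K W) := gE ≪≫ g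
    obtain ⟨X', s, hs, f, hf⟩ := DerivedCategory.right_fac Φ.hom
    haveI := hs
    haveI : IsIso (DerivedCategory.Q.map f) := by
      have : DerivedCategory.Q.map f = DerivedCategory.Q.map s ≫ Φ.hom := by rw [hf, IsIso.hom_inv_id_assoc]
      rw [this]; infer_instance
    haveI : QuasiIso s := (DerivedCategory.isIso_Q_map_iff_quasiIso _ _).1 hs
    haveI : QuasiIso f := (DerivedCategory.isIso_Q_map_iff_quasiIso _ _).1 inferInstance
    haveI := DualCx.quasiIso_pre W s
    haveI := DualCx.quasiIso_pre W f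
    haveI : QuasiIso (DualCx.evC W K) := ⟨fun i => (quasiIsoAt_iff_isIso_homologyMap _ _).2 (hgood i).1⟩
    haveI := (DerivedCategory.isIso_Q_map_iff_quasiIso _ (LocCohLib.homCxPre s W)).2 inferInstance
    haveI := (DerivedCategory.isIso_Q_map_iff_quasiIso _ (LocCohLib.homCxPre f W)).2 inferInstance
    haveI := (DerivedCategory.isIso_Q_map_iff_quasiIso _ (DualCx.evC W K)).2 inferInstance
    exact ⟨g' ≪≫ asIso (DerivedCategory.Q.map (LocCohLib.homCxPre s W)) ≪≫
      (asIso (DerivedCategory.Q.map (LocCohLib.homCxPre f W))).symm ≪≫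
      (asIso (DerivedCategory.Q.map (DualCx.evC W K))).symm⟩


end Groth.Agent.S1819
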