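import Groth.Statements.S18196
import Mathlib.AlgebraicGeometry.Morphisms.SurjectiveOnStalks
import Mathlib.AlgebraicGeometry.ZariskisMainTheorem
-- import your own Groth.Agent.* helpers here

set_option autoImplicit false
universe u
open LocImm

namespace Groth.Agent.S18196

open CategoryTheory AlgebraicGeometry in
/-- Let `f : X ⟶ Y` and `g : Y ⟶ Z` be morphisms of Noetherian schemes with `g` separated and `f ≫ g` a
localizing immersion (localizing and injective on points). If `f` is proper then `f` is a closed
immersion. -/
theorem result {X Y Z : Scheme.{u}} [IsNoetherian X] [IsNoetherian Y] [IsNoetherian Z]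
    (f : X ⟶ Y) (g : Y ⟶ Z) (hfg : LocImm.IsLocImmersion (f ≫ g)) [IsSeparated g] [IsProper f] : IsClosedImmersion f := by
  haveI : SurjectiveOnStalks (f ≫ g) := by
    rw [HasRingHomProperty.iff_exists_appLE (P := @SurjectiveOnStalks) fun {R S T} _ _ _ _ r _ g hg =>
      RingHom.SurjectiveOnStalks.comp hg (RingHom.surjectiveOnStalks_of_isLocalization (M := Submonoid.powers r) S)]
    intro x
    obtain ⟨U, V, hx, e, hl⟩ := hfg.1 x
    refine ⟨U, V, hx, e, ?_⟩
    obtain ⟨S, hS⟩ := hl
    letI := ((f ≫ g).appLE U V e).hom.toAlgebra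
    exact RingHom.surjectiveOnStalks_of_isLocalization (M := S) Γ(X, V.1)
  haveI := SurjectiveOnStalks.of_comp f g
  haveI : Mono f := SurjectiveOnStalks.mono_of_injective fun a b hab => hfg.2 (congrArg g.base hab)
  exact (IsClosedImmersion.iff_isProper_and_mono _).mpr ⟨inferInstance, inferInstance⟩

end Groth.Agent.S18196
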