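import Groth.Statements.S18206
import Groth.Agent.LocImmLib.Basic
import Groth.Agent.IdealComap.Basic
-- import your own Groth.Agent.* helpers here

set_option autoImplicit false
universe u
open LocImm

namespace Groth.Agent.S18206

open CategoryTheory AlgebraicGeometry in
/-- Let `f : X ⟶ Y` be a localizing immersion (localizing and injective on points) of Noetherian
schemes. Then every quasi-coherent ideal sheaf `I` on `X` is the inverse image ideal `J·O_X` of some
quasi-coherent ideal sheaf `J` on `Y` (all such ideals are coherent, the schemes being Noetherian). -/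
theorem result {X Y : Scheme.{u}} [IsNoetherian X] [IsNoetherian Y]
    (f : X ⟶ Y) (hf : LocImm.IsLocImmersion f) (I : X.IdealSheafData) : ∃ J : Y.IdealSheafData, J.comap f = I := by
  refine ⟨I.map f, ?_⟩
  choose W hxW _ hW hfW hl using fun x : X => Groth.Agent.LocImmLib.exists_nhd f hf x (O := ⊤) trivial
  refine Scheme.IdealSheafData.ext_of_iSup_eq_top (fun x : X => ⟨f ⁻¹ᵁ W x, hfW x⟩) ?_ fun x => ?_
  · exact top_le_iff.mp fun z _ => TopologicalSpace.Opens.mem_iSup.mpr ⟨z, hxW z⟩
  · rw [Groth.Agent.IdealComap.ideal_comap (I.map f) f ⟨_, hfW x⟩ ⟨_, hW x⟩ le_rfl,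
      I.ideal_map f ⟨_, hW x⟩ (hfW x), ← Scheme.Hom.app_eq_appLE]
    obtain ⟨S, hS⟩ := hl x
    letI := (f.app (W x)).hom.toAlgebra
    exact IsLocalization.map_comap S _ _

end Groth.Agent.S18206
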