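import Mathlib
import Groth.Statements.S18238
-- import your own Groth.Agent.* helpers here

set_option autoImplicit false
universe u
open DiagMon

namespace Groth.Agent.S18238

section

open MvPolynomial

variable {R : Type u} [CommRing R] {σ : Type}

local notation "I" => idealOfVars σ R

/-- A substitution tangent to the identity does not change the leading term of monomials. -/
lemma tangent (g : σ → MvPolynomial σ R) (hg : ∀ i, g i - X i ∈ idealOfVars σ R ^ 2) (a : σ →₀ ℕ) :
    monomial a (1 : R) ∈ idealOfVars σ R ^ a.degree ∧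
      aeval g (monomial a (1 : R)) - monomial a 1 ∈ idealOfVars σ R ^ (a.degree + 1) := by
  have hX : ∀ i, (X i : MvPolynomial σ R) ∈ idealOfVars σ R ^ 1 := fun i => by
    rw [pow_one]; exact Ideal.subset_span ⟨i, rfl⟩
  have mul : ∀ {p q : MvPolynomial σ R} {c d : ℕ},
      p ∈ idealOfVars σ R ^ c ∧ aeval g p - p ∈ idealOfVars σ R ^ (c + 1) →
      q ∈ idealOfVars σ R ^ d ∧ aeval g q - q ∈ idealOfVars σ R ^ (d + 1) →
      p * q ∈ idealOfVars σ R ^ (c + d) ∧ aeval g (p * q) - p * q ∈ idealOfVars σ R ^ (c + d + 1) := by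
    rintro p q c d ⟨hp, hp'⟩ ⟨hq, hq'⟩
    refine ⟨by rw [pow_add]; exact Ideal.mul_mem_mul hp hq, ?_⟩
    have e : aeval g (p * q) - p * q = (aeval g p - p) * q + (p + (aeval g p - p)) * (aeval g q - q) := by
      rw [map_mul]; ring
    rw [e]
    refine Ideal.add_mem _ ?_ ?_
    · have := Ideal.mul_mem_mul hp' hq
      rwa [← pow_add, show c + 1 + d = c + d + 1 by omega] at this
    · have := Ideal.mul_mem_mul (Ideal.add_mem _ hp (Ideal.pow_le_pow_right (Nat.le_succ c) hp')) hq'
      rwa [← pow_add, ← add_assoc] at this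
  induction a using Finsupp.induction with
  | zero =>
    rw [show (monomial 0 (1 : R) : MvPolynomial σ R) = 1 from rfl]
    simp
  | single_add i n f h1 h2 ih =>
    rw [show (monomial (Finsupp.single i n + f) (1 : R) : MvPolynomial σ R) =
      monomial (Finsupp.single i n) 1 * monomial f 1 by rw [monomial_mul, one_mul], map_add,
      Finsupp.degree_single]
    refine mul ?_ ih
    rw [← X_pow_eq_monomial]
    clear ih h1 h2
    induction n with
    | zero => simp
    | succ n ih =>
      rw [pow_succ]
      exact mul ih ⟨hX i, by rw [aeval_X]; exact hg i⟩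

lemma coeff_vanish {p : MvPolynomial σ R} {n : ℕ} (hp : p ∈ idealOfVars σ R ^ n) {x : σ →₀ ℕ}
    (hx : x.degree < n) : p.coeff x = 0 :=
  (mem_pow_idealOfVars_iff' n p).1 hp x hx

/-- A sharp, cancellative, finitely generated, formally smooth monoid is free. -/
lemma free_monoid [Nontrivial R] (N : Type) [AddCommMonoid N] [IsCancelAdd N]
    (hsharp : ∀ n : N, IsAddUnit n → n = 0) [Algebra.FormallySmooth R (AddMonoidAlgebra R N)]
    (s : σ → N) (pi : (σ →₀ ℕ) →+ N) (hpi : ∀ i, pi (Finsupp.single i 1) = s i)
    (hsurj : Function.Surjective pi) (hs0 : ∀ i, s i ≠ 0)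
    (hmin : ∀ i, ∀ α : σ →₀ ℕ, pi α = s i → 0 < α i) : Function.Injective pi := by
  classical
  have hzero : ∀ α, pi α = 0 → α = 0 := by
    intro α hα
    ext i
    by_contra hne
    rw [Finsupp.zero_apply] at hne
    have hsplit : α = Finsupp.single i 1 + (α - Finsupp.single i 1) := by
      ext l
      rcases eq_or_ne l i with rfl | hl
      · simp; omega
      · simp [Finsupp.single_eq_of_ne hl]
    rw [hsplit, map_add, hpi] at hα
    exact hs0 i (hsharp _ (IsAddUnit.of_add_eq_zero _ hα))
  have hirr : ∀ i, ∀ a b : N, a + b = s i → a = 0 ∨ b = 0 := by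
    intro i a b hab
    obtain ⟨α, rfl⟩ := hsurj a
    obtain ⟨β, rfl⟩ := hsurj b
    rw [← map_add] at hab
    have hi := hmin i _ hab
    have hsplit : α + β = Finsupp.single i 1 + (α + β - Finsupp.single i 1) := by
      ext l
      rcases eq_or_ne l i with rfl | hl
      · simp only [Finsupp.add_apply, Finsupp.tsub_apply, Finsupp.single_eq_same] at hi ⊢; omega
      · simp [Finsupp.single_eq_of_ne hl]
    rw [hsplit, map_add, hpi] at hab
    have h0 : α + β - Finsupp.single i 1 = 0 := hzero _ (add_eq_left.1 hab)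
    rw [h0, add_zero] at hsplit
    have hα : ∀ l, l ≠ i → α l = 0 ∧ β l = 0 := fun l hl => by
      have := DFunLike.congr_fun hsplit l
      rw [Finsupp.add_apply, Finsupp.single_eq_of_ne hl] at this
      omega
    have hαi := DFunLike.congr_fun hsplit i
    rw [Finsupp.add_apply, Finsupp.single_eq_same] at hαi
    rcases Nat.eq_zero_or_pos (α i) with h | h
    · left
      rw [show α = 0 from Finsupp.ext fun l => by
        rcases eq_or_ne l i with rfl | hl
        · exact h
        · exact (hα l hl).1, map_zero]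
    · right
      rw [show β = 0 from Finsupp.ext fun l => by
        rcases eq_or_ne l i with rfl | hl
        · simp only [Finsupp.zero_apply]; omega
        · exact (hα l hl).2, map_zero]
  have hinj : Function.Injective s := fun i j h => by
    by_contra hne
    have := hmin i (Finsupp.single j 1) (by rw [hpi, h])
    rw [Finsupp.single_eq_of_ne hne] at this
    omega
  -- linearisation
  let J2 : Ideal (MvPolynomial σ R) := idealOfVars σ R ^ 2
  let lin : N → MvPolynomial σ R ⧸ J2 := fun a =>
    if a = 0 then 1 else if h : ∃ i, s i = a then Ideal.Quotient.mk _ (X h.choose) else 0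
  have hlin : ∀ i, lin (s i) = Ideal.Quotient.mk _ (X i) := fun i => by
    have h : ∃ j, s j = s i := ⟨i, rfl⟩
    simp only [lin, if_neg (hs0 i), dif_pos h, hinj h.choose_spec]
  have hlin_mul : ∀ a b, lin (a + b) = lin a * lin b := by
    intro a b
    rcases eq_or_ne a 0 with rfl | ha
    · simp [lin]
    rcases eq_or_ne b 0 with rfl | hb
    · simp [lin]
    have hab : a + b ≠ 0 := fun h => ha (hsharp _ (IsAddUnit.of_add_eq_zero _ h))
    have hno : ¬ ∃ i, s i = a + b := fun ⟨i, hi⟩ => (hirr i a b hi.symm).elim ha hb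
    have hI : ∀ c, c ≠ 0 → lin c ∈ (idealOfVars σ R).map (Ideal.Quotient.mk J2) := by
      intro c hc
      simp only [lin, if_neg hc]
      split_ifs
      · exact Ideal.mem_map_of_mem _ (Ideal.subset_span ⟨_, rfl⟩)
      · exact Ideal.zero_mem _
    have h2 := Ideal.mul_mem_mul (hI a ha) (hI b hb)
    rw [← Ideal.map_mul, ← sq, Ideal.map_quotient_self, Ideal.mem_bot] at h2
    rw [h2]
    simp only [lin, if_neg hab, dif_neg hno]
  let F : Multiplicative N →* MvPolynomial σ R ⧸ J2 :=
    { toFun := fun a => lin a.toAdd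
      map_one' := by simp [lin]
      map_mul' := fun a b => hlin_mul _ _ }
  let L := AddMonoidAlgebra.lift R (MvPolynomial σ R ⧸ J2) N F
  intro a b hab
  by_contra hne
  wlog hdeg : a.degree ≤ b.degree generalizing a b with H
  · exact H hab.symm (Ne.symm hne) (le_of_not_ge hdeg)
  set j := a.degree + 2 with hj
  have hle : idealOfVars σ R ^ j ≤ J2 := Ideal.pow_le_pow_right (by omega)
  let q : (MvPolynomial σ R ⧸ idealOfVars σ R ^ j) →ₐ[R] MvPolynomial σ R ⧸ J2 := Ideal.Quotient.factorₐ R hle
  have hq : Function.Surjective q := Ideal.Quotient.factor_surjective hle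
  have hnil : IsNilpotent (RingHom.ker (q : (MvPolynomial σ R ⧸ idealOfVars σ R ^ j) →+* MvPolynomial σ R ⧸ J2)) := by
    refine ⟨j, ?_⟩
    have : RingHom.ker (q : (MvPolynomial σ R ⧸ idealOfVars σ R ^ j) →+* MvPolynomial σ R ⧸ J2) =
        J2.map (Ideal.Quotient.mk _) := Ideal.Quotient.factor_ker hle
    rw [this, Ideal.zero_eq_bot, ← Ideal.map_pow, ← le_bot_iff,
      ← Ideal.map_quotient_self (idealOfVars σ R ^ j)]
    refine Ideal.map_mono ?_
    rw [← pow_mul]
    exact Ideal.pow_le_pow_right (by omega)
  let Φ := Algebra.FormallySmooth.liftOfSurjective L q hq hnil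
  choose g hg using fun i => Ideal.Quotient.mk_surjective (Φ (AddMonoidAlgebra.single (s i) 1))
  have hgX : ∀ i, g i - X i ∈ idealOfVars σ R ^ 2 := by
    intro i
    rw [← Ideal.Quotient.eq]
    have h := Algebra.FormallySmooth.liftOfSurjective_apply L q hq hnil (AddMonoidAlgebra.single (s i) 1)
    rw [show Algebra.FormallySmooth.liftOfSurjective L q hq hnil (AddMonoidAlgebra.single (s i) 1) =
      Ideal.Quotient.mk _ (g i) from (hg i).symm] at h
    refine Eq.trans ?_ (h.trans ?_)
    · rfl
    · simp [L, F, hlin, J2]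
  have hcomp : ∀ c : σ →₀ ℕ, Ideal.Quotient.mk (idealOfVars σ R ^ j) (aeval g (monomial c (1 : R))) =
      Φ (AddMonoidAlgebra.single (pi c) 1) := by
    intro c
    induction c using Finsupp.induction with
    | zero =>
      rw [show (monomial 0 (1 : R) : MvPolynomial σ R) = 1 from rfl, map_zero pi, map_one, map_one]
      exact (map_one Φ).symm
    | single_add i n f _ _ ih =>
      have e : (AddMonoidAlgebra.single (pi (Finsupp.single i n + f)) (1 : R)) =
          AddMonoidAlgebra.single (s i) 1 ^ n * AddMonoidAlgebra.single (pi f) 1 := by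
        rw [AddMonoidAlgebra.single_pow, AddMonoidAlgebra.single_mul_single, one_pow, one_mul, map_add,
          ← hpi, ← map_nsmul, Finsupp.smul_single, smul_eq_mul, mul_one]
      rw [e, map_mul Φ, map_pow Φ, ← hg, ← ih,
        show (monomial (Finsupp.single i n + f) (1 : R) : MvPolynomial σ R) = X i ^ n * monomial f 1 by
          rw [X_pow_eq_monomial, monomial_mul, one_mul],
        map_mul (aeval g), map_pow (aeval g), aeval_X, map_mul, map_pow]
  have hmem : aeval g (monomial a (1 : R)) - aeval g (monomial b (1 : R)) ∈ idealOfVars σ R ^ j := by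
    rw [← Ideal.Quotient.eq, hcomp a, hcomp b, hab]
  have h1 : monomial a (1 : R) - monomial b 1 ∈ idealOfVars σ R ^ (a.degree + 1) := by
    have e : monomial a (1 : R) - monomial b 1 = (aeval g (monomial a (1 : R)) - aeval g (monomial b (1 : R))) -
        (aeval g (monomial a (1 : R)) - monomial a 1) + (aeval g (monomial b (1 : R)) - monomial b 1) := by ring
    rw [e]
    exact Ideal.add_mem _ (Ideal.sub_mem _ (Ideal.pow_le_pow_right (by omega) hmem) (tangent g hgX a).2)
      (Ideal.pow_le_pow_right (by omega) (tangent g hgX b).2)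
  have := coeff_vanish h1 (Nat.lt_succ_self _)
  rw [coeff_sub, coeff_monomial, coeff_monomial, if_pos rfl, if_neg (Ne.symm hne), sub_zero] at this
  exact one_ne_zero this

end

/-- Let R be a commutative ring and N a fine and sharp commutative monoid (finitely generated,
cancellative, and 0 its only invertible element). If the diagonalizable monoid scheme A(N)_R = Spec
R[N] is smooth over Spec R, then it is a vector bundle over Spec R: the monoid algebra R[N] is
isomorphic as an R-algebra to the symmetric algebra of a finitely generated projective R-module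
(existence of such a module and isomorphism). (Affine base; the published statement is over an
arbitrary base scheme S.) -/
theorem result (R : Type u) [CommRing R] (N : Type)
    [AddCommMonoid N] [AddMonoid.FG N] [IsCancelAdd N] (hsharp : ∀ n : N, IsAddUnit n → n = 0)
    [Algebra.Smooth R (AddMonoidAlgebra R N)] :
    ∃ (P : Type u) (_ : AddCommGroup P) (_ : Module R P), Module.Finite R P ∧ Module.Projective R P ∧
      Nonempty (AddMonoidAlgebra R N ≃ₐ[R] SymmetricAlgebra R P) := by
  classical
  rcases subsingleton_or_nontrivial R with hR | hR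
  · refine ⟨Fin 0 → R, inferInstance, inferInstance, inferInstance, Module.Projective.of_free, ?_⟩
    haveI : Subsingleton (AddMonoidAlgebra R N) := Module.subsingleton R _
    haveI : Subsingleton (SymmetricAlgebra R (Fin 0 → R)) := Module.subsingleton R _
    exact ⟨{ toFun := fun _ => 0, invFun := fun _ => 0, left_inv := fun _ => Subsingleton.elim _ _,
             right_inv := fun _ => Subsingleton.elim _ _, map_mul' := fun _ _ => Subsingleton.elim _ _,
             map_add' := fun _ _ => Subsingleton.elim _ _, commutes' := fun _ => Subsingleton.elim _ _ }⟩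
  obtain ⟨S0, hS0⟩ := (AddMonoid.FG.fg_top : (⊤ : AddSubmonoid N).FG)
  have hex : ∃ c : ℕ, ∃ S : Finset N, S.card = c ∧ AddSubmonoid.closure (S : Set N) = ⊤ := ⟨_, S0, rfl, hS0⟩
  obtain ⟨S, hSc, hS⟩ := Nat.find_spec hex
  have hmin : ∀ t ∈ S, AddSubmonoid.closure ((S.erase t : Finset N) : Set N) ≠ ⊤ := by
    intro t ht h
    have := Nat.find_min' hex ⟨_, rfl, h⟩
    rw [← hSc, Finset.card_erase_of_mem ht] at this
    have := Finset.card_pos.2 ⟨t, ht⟩
    omega
  have hdrop : ∀ t ∈ S, t ∈ AddSubmonoid.closure ((S.erase t : Finset N) : Set N) → False := by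
    intro t ht h
    refine hmin t ht (top_le_iff.1 (hS ▸ AddSubmonoid.closure_le.2 fun x hx => ?_))
    rcases eq_or_ne x t with rfl | hne
    · exact h
    · exact AddSubmonoid.subset_closure (Finset.mem_coe.2 (Finset.mem_erase.2 ⟨hne, hx⟩))
  let pi : (↥S →₀ ℕ) →+ N := Finsupp.liftAddHom fun i => (smulAddHom ℕ N).flip (i : N)
  have hpi : ∀ i : ↥S, pi (Finsupp.single i 1) = (i : N) := fun i => by
    simp [pi]
  have hsurj : Function.Surjective pi := by
    intro a
    have ha : a ∈ AddSubmonoid.closure (S : Set N) := by rw [hS]; trivial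
    induction ha using AddSubmonoid.closure_induction with
    | mem x hx => exact ⟨Finsupp.single ⟨x, hx⟩ 1, hpi _⟩
    | zero => exact ⟨0, map_zero _⟩
    | add x y _ _ hx hy =>
      obtain ⟨u, rfl⟩ := hx
      obtain ⟨v, rfl⟩ := hy
      exact ⟨u + v, map_add _ _ _⟩
  have hs0 : ∀ i : ↥S, (i : N) ≠ 0 := fun i h => hdrop _ i.2 (h ▸ AddSubmonoid.zero_mem _)
  have hm : ∀ i : ↥S, ∀ α, pi α = (i : N) → 0 < α i := by
    intro i α hα
    by_contra hne
    refine hdrop _ i.2 (hα ▸ ?_)
    rw [Finsupp.liftAddHom_apply]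
    refine AddSubmonoid.sum_mem _ fun l hl => ?_
    simp only [AddMonoidHom.flip_apply, smulAddHom_apply]
    refine AddSubmonoid.nsmul_mem _ (AddSubmonoid.subset_closure (Finset.mem_coe.2 (Finset.mem_erase.2 ⟨?_, l.2⟩))) _
    intro h
    rw [Finsupp.mem_support_iff, show l = i from Subtype.ext (h.trans hα)] at hl
    omega
  have hinj := free_monoid (R := R) N hsharp (fun i : ↥S => (i : N)) pi hpi hsurj hs0 hm
  let e : (↥S →₀ ℕ) ≃+ N := AddEquiv.ofBijective pi ⟨hinj, hsurj⟩
  exact ⟨↥S →₀ R, inferInstance, inferInstance, inferInstance, Module.Projective.of_free,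
    ⟨(AddMonoidAlgebra.domCongr R R e.symm).trans (SymmetricAlgebra.equivMvPolynomial Finsupp.basisSingleOne).symm⟩⟩

end Groth.Agent.S18238
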