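import Groth.Statements.S18247
import Mathlib
-- import your own Groth.Agent.* helpers here

set_option autoImplicit false
universe u
open W4c5m1nsnscurves
open Curves

namespace Groth.Agent.S18247
open MvPolynomial

/-- Case n = 5: the coordinate ring of U_5 over ℤ (m = 2 indices, standing for the points 4 and 5;
generators a, c, c̄, c_4, c̄_4, c_5, c̄_5, c_{45}, c_{54} with the linear and the two quadratic
relations for the one pair of indices, and no triple) is the polynomial ring on a, c_4, c̄_4, c_5,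
c̄_5, c_{45}: the ℤ-algebra map from the polynomial ring in six variables sending the variables to
these six classes, in this order, is bijective. -/
theorem result :
    Function.Bijective (MvPolynomial.aeval (R := ℤ) (S₁ := URing ℤ 2)
      ![ugen ℤ 2 .a, ugen ℤ 2 (.ci 0), ugen ℤ 2 (.cbi 0), ugen ℤ 2 (.ci 1), ugen ℤ 2 (.cbi 1),
        ugen ℤ 2 (.cij 0 1 Fin.zero_ne_one)]) := by
  classical
  set v := ![ugen ℤ 2 .a, ugen ℤ 2 (.ci 0), ugen ℤ 2 (.cbi 0), ugen ℤ 2 (.ci 1), ugen ℤ 2 (.cbi 1),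
        ugen ℤ 2 (.cij 0 1 Fin.zero_ne_one)] with hv
  let c10 : MvPolynomial (Fin 6) ℤ := X 0 + X 1 + X 2 + X 3 + X 4 - X 5
  let w : UGen 2 → MvPolynomial (Fin 6) ℤ := fun g => match g with
    | .a => X 0
    | .c => c10 * X 3 + X 5 * X 1 - X 1 * X 3
    | .cb => c10 * X 2 + X 5 * X 4 - X 2 * X 4
    | .ci i => if i = 0 then X 1 else X 3
    | .cbi i => if i = 0 then X 2 else X 4
    | .cij i _ _ => if i = 0 then X 5 else c10
  have hrel : ∀ r ∈ URel ℤ 2, MvPolynomial.aeval w r = 0 := by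
    rintro r (((⟨⟨⟨i, j⟩, h⟩, rfl⟩ | ⟨⟨⟨i, j⟩, h⟩, rfl⟩) | ⟨⟨⟨i, j⟩, h⟩, rfl⟩) | ⟨⟨⟨i, j, l⟩, h1, h2, h3⟩, rfl⟩)
    · fin_cases i <;> fin_cases j <;> simp [w, c10] at h ⊢ <;> ring
    · fin_cases i <;> fin_cases j <;> simp [w, c10] at h ⊢ <;> ring
    · fin_cases i <;> fin_cases j <;> simp [w, c10] at h ⊢ <;> ring
    · exfalso
      have := Fin.val_ne_of_ne h1
      have := Fin.val_ne_of_ne h2
      have := Fin.val_ne_of_ne h3
      omega
  let Ψ : URing ℤ 2 →ₐ[ℤ] MvPolynomial (Fin 6) ℤ := Ideal.Quotient.liftₐ _ (MvPolynomial.aeval w) (fun r hr => by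
    induction hr using Submodule.span_induction with
    | mem r hr => exact hrel r hr
    | zero => exact map_zero _
    | add x y _ _ hx hy => rw [map_add, hx, hy, add_zero]
    | smul c x _ hx => rw [smul_eq_mul, map_mul, hx, mul_zero])
  have hΨ : ∀ g, Ψ (ugen ℤ 2 g) = w g := fun g => MvPolynomial.aeval_X w g
  have hleft : Ψ.comp (MvPolynomial.aeval v) = AlgHom.id ℤ _ := by
    refine MvPolynomial.algHom_ext fun i => ?_
    rw [AlgHom.comp_apply, MvPolynomial.aeval_X]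
    fin_cases i <;> simp [hv, hΨ, w]
  refine ⟨fun x y h => ?_, ?_⟩
  · simpa [← AlgHom.comp_apply, hleft] using congrArg Ψ h
  have hr0 : ∀ r ∈ URel ℤ 2, (Ideal.Quotient.mk (Ideal.span (URel ℤ 2)) r : URing ℤ 2) = 0 :=
    fun r hr => Ideal.Quotient.eq_zero_iff_mem.2 (Ideal.subset_span hr)
  have hlin := hr0 _ (Or.inl (Or.inl (Or.inl ⟨⟨(0, 1), Fin.zero_ne_one⟩, rfl⟩)))
  have hc := hr0 _ (Or.inl (Or.inl (Or.inr ⟨⟨(0, 1), Fin.zero_ne_one⟩, rfl⟩)))
  have hcb := hr0 _ (Or.inl (Or.inr ⟨⟨(0, 1), Fin.zero_ne_one⟩, rfl⟩))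
  simp only [map_sub, map_add, map_mul] at hlin hc hcb
  have hgen : ∀ g, ugen ℤ 2 g ∈ (MvPolynomial.aeval (R := ℤ) v).range := by
    have hm : ∀ i, v i ∈ (MvPolynomial.aeval (R := ℤ) v).range := fun i => ⟨X i, MvPolynomial.aeval_X _ _⟩
    have ma : ugen ℤ 2 .a ∈ _ := hm 0
    have m1 : ugen ℤ 2 (.ci 0) ∈ _ := hm 1
    have m2 : ugen ℤ 2 (.cbi 0) ∈ _ := hm 2
    have m3 : ugen ℤ 2 (.ci 1) ∈ _ := hm 3
    have m4 : ugen ℤ 2 (.cbi 1) ∈ _ := hm 4
    have m5 : ugen ℤ 2 (.cij 0 1 Fin.zero_ne_one) ∈ _ := hm 5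
    have m10 : ugen ℤ 2 (.cij 1 0 (Ne.symm Fin.zero_ne_one)) ∈ (MvPolynomial.aeval (R := ℤ) v).range := by
      have : ugen ℤ 2 (.cij 1 0 (Ne.symm Fin.zero_ne_one)) = ugen ℤ 2 .a + ugen ℤ 2 (.ci 0) + ugen ℤ 2 (.cbi 0) + ugen ℤ 2 (.ci 1) + ugen ℤ 2 (.cbi 1) - ugen ℤ 2 (.cij 0 1 Fin.zero_ne_one) := by
        unfold ugen; linear_combination hlin
      rw [this]
      exact sub_mem (add_mem (add_mem (add_mem (add_mem ma m1) m2) m3) m4) m5
    intro g
    match g with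
    | .a => exact ma
    | .c =>
      have : ugen ℤ 2 .c = ugen ℤ 2 (.cij 1 0 (Ne.symm Fin.zero_ne_one)) * ugen ℤ 2 (.ci 1) + ugen ℤ 2 (.cij 0 1 Fin.zero_ne_one) * ugen ℤ 2 (.ci 0) - ugen ℤ 2 (.ci 0) * ugen ℤ 2 (.ci 1) := by
        unfold ugen; linear_combination -hc
      rw [this]
      exact sub_mem (add_mem (mul_mem m10 m3) (mul_mem m5 m1)) (mul_mem m1 m3)
    | .cb =>
      have : ugen ℤ 2 .cb = ugen ℤ 2 (.cij 1 0 (Ne.symm Fin.zero_ne_one)) * ugen ℤ 2 (.cbi 0) + ugen ℤ 2 (.cij 0 1 Fin.zero_ne_one) * ugen ℤ 2 (.cbi 1) - ugen ℤ 2 (.cbi 0) * ugen ℤ 2 (.cbi 1) := by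
        unfold ugen; linear_combination -hcb
      rw [this]
      exact sub_mem (add_mem (mul_mem m10 m2) (mul_mem m5 m4)) (mul_mem m2 m4)
    | .ci i => fin_cases i <;> assumption
    | .cbi i => fin_cases i <;> assumption
    | .cij i j h => fin_cases i <;> fin_cases j <;> first | exact absurd rfl h | assumption
  intro y
  obtain ⟨p, rfl⟩ := Ideal.Quotient.mk_surjective y
  show _ ∈ (MvPolynomial.aeval (R := ℤ) v).range
  induction p using MvPolynomial.induction_on with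
  | C z => exact ⟨C z, by simp [MvPolynomial.aeval_C]⟩
  | add p q hp hq => rw [map_add]; exact add_mem hp hq
  | mul_X p g hp => rw [map_mul]; exact mul_mem hp (hgen g)

end Groth.Agent.S18247
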