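import Groth.Statements.S18251
import Mathlib.RingTheory.MvPolynomial.Groebner
import Mathlib.Data.Finsupp.MonomialOrder
import Mathlib.Tactic.FinCases
-- import your own Groth.Agent.* helpers here

set_option autoImplicit false
universe u
open W4c5m1nsnscurves
open Curves

namespace Groth.Agent.S18251

/-- Case n = 3: let R be a commutative ring and a, b, c, d elements of R (a point of U_3, which is
affine 4-space, so no condition is imposed). Then in the R-algebra R[x_2, x_3]/(x_2 x_3² − x_2² x_3
− a x_2 x_3 − b x_2 − c x_3 − d) the classes of the monomials 1, x_2^k x_3, x_2^k and x_3^k (k ≥ 1)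
are linearly independent over R and span, i.e. form an R-basis. -/
theorem result (R : Type u) [CommRing R] (a b c d : R) :
    LinearIndependent R (cmon3 R a b c d) ∧
      Submodule.span R (Set.range (cmon3 R a b c d)) = ⊤ := by
  classical
  nontriviality R using LinearIndependent, Submodule.span
  let rel : MvPolynomial (Fin 2) R :=
    MvPolynomial.X 0 * MvPolynomial.X 1 ^ 2 - MvPolynomial.X 0 ^ 2 * MvPolynomial.X 1 -
    (MvPolynomial.C a * MvPolynomial.X 0 * MvPolynomial.X 1 + MvPolynomial.C b * MvPolynomial.X 0 +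
      MvPolynomial.C c * MvPolynomial.X 1 + MvPolynomial.C d)
  let m : MonomialOrder (Fin 2) :=
    { syn := Lex (Fin 2 →₀ ℕ)
      toSyn := (Finsupp.domCongr (Equiv.swap (0 : Fin 2) 1)).trans
        { toEquiv := toLex, map_add' := toLex_add }
      toSyn_monotone := fun x y h => Finsupp.toLex_monotone
        (show (Finsupp.domCongr (Equiv.swap (0 : Fin 2) 1) x) ≤ Finsupp.domCongr (Equiv.swap (0 : Fin 2) 1) y from
          fun i => by simpa using h ((Equiv.swap (0 : Fin 2) 1) i)) }
  let D : Fin 2 →₀ ℕ := Finsupp.single 0 1 + Finsupp.single 1 2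
  have hlt : ∀ e : Fin 2 →₀ ℕ, e 1 < 2 → m.toSyn e < m.toSyn D := by
    intro e he
    show toLex (Finsupp.domCongr (Equiv.swap (0 : Fin 2) 1) e) <
      toLex (Finsupp.domCongr (Equiv.swap (0 : Fin 2) 1) D)
    refine ⟨0, fun j hj => absurd hj (by simp), ?_⟩
    simpa [D] using he
  have hrel : rel = MvPolynomial.monomial D 1 -
      MvPolynomial.monomial (Finsupp.single 0 2 + Finsupp.single 1 1) 1 -
      MvPolynomial.monomial (Finsupp.single 0 1 + Finsupp.single 1 1) a -
      MvPolynomial.monomial (Finsupp.single 0 1) b -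
      MvPolynomial.monomial (Finsupp.single 1 1) c -
      MvPolynomial.monomial 0 d := by
    simp only [rel, D, MvPolynomial.X_pow_eq_monomial, MvPolynomial.X, MvPolynomial.C_mul_monomial,
      MvPolynomial.monomial_mul, MvPolynomial.monomial_pow, one_pow, Finsupp.smul_single, smul_eq_mul,
      mul_one]
    rw [show MvPolynomial.monomial (0 : Fin 2 →₀ ℕ) d = MvPolynomial.C d from rfl]
    abel
  have hcoeff : ∀ e : Fin 2 →₀ ℕ, ¬ e 1 < 2 →
      MvPolynomial.coeff e rel = if D = e then 1 else 0 := by
    intro e he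
    rw [hrel]
    simp only [MvPolynomial.coeff_sub, MvPolynomial.coeff_monomial]
    have hne : ∀ q : Fin 2 →₀ ℕ, q 1 < 2 → q ≠ e := fun q hq h => he (h ▸ hq)
    rw [if_neg (hne (Finsupp.single 0 2 + Finsupp.single 1 1) (by simp)),
      if_neg (hne (Finsupp.single 0 1 + Finsupp.single 1 1) (by simp)),
      if_neg (hne (Finsupp.single 0 1) (by simp)),
      if_neg (hne (Finsupp.single 1 1) (by simp)), if_neg (hne 0 (by simp))]
    simp only [sub_zero]
  have hD1 : MvPolynomial.coeff D rel = 1 := by
    rw [hcoeff D (by simp [D]), if_pos rfl]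
  have hdeg : m.degree rel = D := by
    apply m.toSyn.injective
    refine le_antisymm (m.degree_le_iff.2 fun e he => ?_)
      (m.le_degree (MvPolynomial.mem_support_iff.2 (by rw [hD1]; exact one_ne_zero)))
    by_cases h : e 1 < 2
    · exact (hlt e h).le
    · rw [MvPolynomial.mem_support_iff, hcoeff e h] at he
      by_cases h' : D = e
      · rw [h']
      · rw [if_neg h'] at he; exact absurd rfl he
  have hlc : m.leadingCoeff rel = 1 := by rw [MonomialOrder.leadingCoeff, hdeg, hD1]
  let ex : Option (ℕ ⊕ (Fin 2 × ℕ)) → (Fin 2 →₀ ℕ) := fun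
    | none => 0
    | some (Sum.inl k) => Finsupp.single 0 (k + 1) + Finsupp.single 1 1
    | some (Sum.inr (y, k)) => Finsupp.single y (k + 1)
  have hmon : cmon3 R a b c d = fun i =>
      Ideal.Quotient.mk _ (MvPolynomial.monomial (ex i) (1 : R)) := by
    funext i
    rcases i with _ | k | ⟨y, k⟩
    · simp [cmon3, ex]
    · simp only [cmon3, ex]
      congr 1
      simp [MvPolynomial.X, MvPolynomial.monomial_mul, MvPolynomial.monomial_pow]
    · simp only [cmon3, ex]
      congr 1
      simp [MvPolynomial.X, MvPolynomial.monomial_pow]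
  have hnot : ∀ i, ¬ D ≤ ex i := by
    intro i h
    have h0 := h 0
    have h1 := h 1
    rcases i with _ | k | ⟨y, k⟩
    · simp [D, ex] at h0
    · simp [D, ex] at h1
    · fin_cases y
      · simp [D, ex] at h1
      · simp [D, ex] at h0
  have hexinj : Function.Injective ex := by
    intro i j h
    have h0 := DFunLike.congr_fun h 0
    have h1 := DFunLike.congr_fun h 1
    rcases i with _ | k | ⟨y, k⟩ <;> rcases j with _ | k' | ⟨y', k'⟩ <;>
      first
      | rfl
      | (try fin_cases y) <;> (try fin_cases y') <;> simp [ex] at h0 h1 ⊢ <;> omega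
  have hsurj : ∀ e : Fin 2 →₀ ℕ, ¬ D ≤ e → ∃ i, ex i = e := by
    intro e he
    have hor : e 0 = 0 ∨ e 1 ≤ 1 := by
      by_contra h
      simp only [not_or, not_le] at h
      exact he fun i => by fin_cases i <;> simp [D] <;> omega
    rcases Nat.eq_zero_or_pos (e 0) with h0 | h0
    · rcases Nat.eq_zero_or_pos (e 1) with h1 | h1
      · exact ⟨none, by ext i; fin_cases i <;> simp [ex, h0, h1]⟩
      · exact ⟨some (Sum.inr (1, e 1 - 1)), by ext i; fin_cases i <;> simp [ex, h0] <;> omega⟩
    · rcases Nat.eq_zero_or_pos (e 1) with h1 | h1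
      · exact ⟨some (Sum.inr (0, e 0 - 1)), by ext i; fin_cases i <;> simp [ex, h1] <;> omega⟩
      · exact ⟨some (Sum.inl (e 0 - 1)), by ext i; fin_cases i <;> simp [ex] <;> omega⟩
  rw [hmon]
  constructor
  · rw [linearIndependent_iff]
    intro l hl
    let P : MvPolynomial (Fin 2) R := Finsupp.linearCombination R
      (fun i => MvPolynomial.monomial (ex i) (1 : R)) l
    have hP : P ∈ Ideal.span {rel} := by
      rw [← Ideal.Quotient.eq_zero_iff_mem]
      change (Ideal.Quotient.mkₐ R (Ideal.span {rel})).toLinearMap P = 0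
      rw [Finsupp.apply_linearCombination]
      exact hl
    have hcoef : ∀ e, MvPolynomial.coeff e P = l.sum fun i r => if ex i = e then r else 0 := by
      intro e
      simp only [P, Finsupp.linearCombination_apply, Finsupp.sum, MvPolynomial.coeff_sum,
        MvPolynomial.coeff_smul, MvPolynomial.coeff_monomial, smul_eq_mul, mul_ite, mul_one, mul_zero]
    obtain ⟨g, hg⟩ := Ideal.mem_span_singleton'.1 hP
    by_cases hg0 : g = 0
    · ext i
      have h := hcoef (ex i)
      rw [← hg, hg0, zero_mul, MvPolynomial.coeff_zero] at h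
      rw [Finsupp.sum, Finset.sum_eq_single i (fun j _ hj => if_neg fun h => hj (hexinj h))
        (fun hi => by rw [if_pos rfl]; exact Finsupp.notMem_support_iff.1 hi), if_pos rfl] at h
      simpa using h.symm
    · exfalso
      have hd : m.degree (g * rel) = m.degree g + D := by
        rw [← hdeg]
        exact m.degree_mul_of_right_mem_nonZeroDivisors hg0 (by rw [hlc]; exact one_mem _)
      have hne : MvPolynomial.coeff (m.degree (g * rel)) P ≠ 0 := by
        rw [← hg]
        change m.leadingCoeff (g * rel) ≠ 0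
        rw [m.leadingCoeff_mul_of_right_mem_nonZeroDivisors (by rw [hlc]; exact one_mem _), hlc,
          mul_one]
        exact m.leadingCoeff_ne_zero_iff.2 hg0
      rw [hcoef, Finsupp.sum] at hne
      obtain ⟨i, -, hi⟩ := Finset.exists_ne_zero_of_sum_ne_zero hne
      rcases eq_or_ne (ex i) (m.degree (g * rel)) with h | h
      · exact hnot i (h ▸ hd ▸ le_add_self)
      · exact hi (if_neg h)
  · rw [eq_top_iff]
    intro x _
    obtain ⟨f, rfl⟩ := Ideal.Quotient.mk_surjective x
    obtain ⟨g, r, hfr, -, hr⟩ := m.div_single (b := rel) (by rw [hlc]; exact isUnit_one) f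
    have hfx : Ideal.Quotient.mk (Ideal.span {rel}) f = Ideal.Quotient.mk (Ideal.span {rel}) r := by
      rw [hfr, map_add, map_mul, Ideal.Quotient.mk_singleton_self, mul_zero, zero_add]
    change Ideal.Quotient.mk (Ideal.span {rel}) f ∈ _
    rw [hfx, MvPolynomial.as_sum r, map_sum]
    refine Submodule.sum_mem _ fun e he => ?_
    obtain ⟨i, hi⟩ := hsurj e (hdeg ▸ hr e he)
    have : MvPolynomial.monomial e (MvPolynomial.coeff e r) =
        MvPolynomial.coeff e r • MvPolynomial.monomial (ex i) (1 : R) := by
      rw [hi, MvPolynomial.smul_monomial, smul_eq_mul, mul_one]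
    rw [this]
    change MvPolynomial.coeff e r •
      Ideal.Quotient.mk (Ideal.span {rel}) (MvPolynomial.monomial (ex i) (1 : R)) ∈ _
    exact Submodule.smul_mem _ _ (Submodule.subset_span (Set.mem_range_self i))

end Groth.Agent.S18251
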