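import Groth.Statements.S18256
import Mathlib.RingTheory.LocalRing.Module
import Mathlib.LinearAlgebra.TensorProduct.RightExactness
import Mathlib.RingTheory.Nakayama
import Mathlib.RingTheory.Artinian.Ring
import Mathlib.RingTheory.HopkinsLevitzki
-- import your own Groth.Agent.* helpers here

set_option autoImplicit false
universe u
open ArtFun

namespace Groth.Agent.S18256

open CategoryTheory TensorProduct in
/-- Let R be an Artinian local ring with residue field k and M a finitely generated R-module. Suppose
that for every small extension p : A' → A of local Artinian R-algebras with residue field k (p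
surjective, its kernel I a nonzero principal ideal killed by the maximal ideal of A'), the map M ⊗_R
I → M ⊗_R A' induced by the inclusion I ⊆ A' is injective (equivalently, the sequence 0 → M ⊗_R I →
M ⊗_R A' → M ⊗_R A → 0 is exact). Then M is a free R-module. (The printed conclusion reads free over
the residue field; the proof establishes freeness over R, which is what is stated here.) -/
theorem result
    (R : Type u) [CommRing R] [IsArtinianRing R] [IsLocalRing R]
    (k : Type u) [Field k] [Algebra R k] (hk : Function.Surjective (algebraMap R k))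
    (M : Type u) [AddCommGroup M] [Module R M] [Module.Finite R M]
    (h : ∀ (A' A : ArtFun.Art R k) (p : A' ⟶ A), ArtFun.Art.IsSmallExt p →
      Function.Injective
        (LinearMap.lTensor M (((RingHom.ker p.toAlgHom).restrictScalars R).subtype))) :
    Module.Free R M := by
  classical
  set m := IsLocalRing.maximalIdeal R
  haveI : Module.FinitePresentation R M := Module.finitePresentation_of_finite R M
  have hker : RingHom.ker (algebraMap R k) = m :=
    IsLocalRing.eq_maximalIdeal (RingHom.ker_isMaximal_of_surjective _ hk)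
  have key : ∀ J : Ideal R, J ≤ m → Function.Injective (LinearMap.lTensor M J.subtype) := by
    intro J
    induction J using WellFoundedLT.induction with
    | ind J ih =>
    intro hJm
    rcases eq_or_ne J ⊥ with rfl | hJ
    · refine fun a b _ => ?_
      haveI : Subsingleton (M ⊗[R] (⊥ : Ideal R)) := by
        refine subsingleton_of_forall_eq 0 fun z => ?_
        induction z with
        | zero => rfl
        | tmul x y => rw [Subsingleton.elim y 0, tmul_zero]
        | add x y hx hy => rw [hx, hy, add_zero]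
      exact Subsingleton.elim a b
    obtain ⟨J', hJ'J, hmax⟩ := wellFounded_gt.has_min {I : Ideal R | I < J} ⟨⊥, bot_lt_iff_ne_bot.2 hJ⟩
    have hJ'J : J' < J := hJ'J
    have hcov : ∀ x ∈ J, x ∉ J' → J ≤ J' ⊔ Ideal.span {x} := fun x hx hxn => by
      by_contra hc
      exact hmax (J' ⊔ Ideal.span {x})
        (lt_of_le_of_ne (sup_le hJ'J.le ((Ideal.span_singleton_le_iff_mem _).2 hx)) fun he => hc he.ge)
        (lt_of_le_of_ne le_sup_left fun he => hxn (he ▸ Ideal.mem_sup_right (Ideal.mem_span_singleton_self x)))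
    have hmJ : m • J ≤ J' := by
      by_contra hc
      refine absurd (Submodule.le_of_le_smul_of_le_jacobson_bot (I := m) (N := J') (N' := J)
        (IsNoetherian.noetherian J) (IsLocalRing.maximalIdeal_le_jacobson ⊥) ?_) (not_le_of_gt hJ'J)
      obtain ⟨x, hx, hxn⟩ := SetLike.not_le_iff_exists.1 hc
      exact (hcov x (Submodule.smul_le_right hx) hxn).trans
        (sup_le_sup_left ((Ideal.span_singleton_le_iff_mem _).2 hx) _)
    have hJ'm : J' ≤ m := hJ'J.le.trans hJm
    haveI : Nontrivial (R ⧸ J') :=
      Ideal.Quotient.nontrivial_iff.2 (ne_top_of_le_ne_top (IsLocalRing.maximalIdeal.isMaximal R).ne_top hJ'm)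
    haveI : Nontrivial (R ⧸ J) :=
      Ideal.Quotient.nontrivial_iff.2 (ne_top_of_le_ne_top (IsLocalRing.maximalIdeal.isMaximal R).ne_top hJm)
    haveI := IsLocalRing.of_surjective' (Ideal.Quotient.mk J') Ideal.Quotient.mk_surjective
    haveI := IsLocalRing.of_surjective' (Ideal.Quotient.mk J) Ideal.Quotient.mk_surjective
    let res' : R ⧸ J' →ₐ[R] k := Ideal.Quotient.liftₐ J' (Algebra.ofId R k)
      fun a ha => RingHom.mem_ker.1 (hker.symm ▸ hJ'm ha)
    let res : R ⧸ J →ₐ[R] k := Ideal.Quotient.liftₐ J (Algebra.ofId R k)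
      fun a ha => RingHom.mem_ker.1 (hker.symm ▸ hJm ha)
    let A' : ArtFun.Art R k := ArtFun.Art.of (R ⧸ J') res'
      (Function.Surjective.of_comp (g := Ideal.Quotient.mk J') hk)
    let A : ArtFun.Art R k := ArtFun.Art.of (R ⧸ J) res
      (Function.Surjective.of_comp (g := Ideal.Quotient.mk J) hk)
    let q : R ⧸ J' →ₐ[R] R ⧸ J := Ideal.Quotient.factorₐ R hJ'J.le
    let p : A' ⟶ A := ⟨q, by
      apply AlgHom.ext
      intro a
      obtain ⟨a, rfl⟩ := Ideal.Quotient.mk_surjective a
      rfl⟩
    have hmem : ∀ a : R, (Ideal.Quotient.mk J' a : A') ∈ RingHom.ker p.toAlgHom ↔ a ∈ J := fun a => by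
      show Ideal.Quotient.mk J a = 0 ↔ a ∈ J
      exact Ideal.Quotient.eq_zero_iff_mem
    have hp : ArtFun.Art.IsSmallExt p := by
      obtain ⟨x, hx, hxn⟩ := SetLike.exists_of_lt hJ'J
      refine ⟨Ideal.Quotient.factor_surjective hJ'J.le, fun he => hxn ?_,
        ⟨(Ideal.Quotient.mk J' x : A'), le_antisymm ?_ ?_⟩, ?_⟩
      · have := (hmem x).2 hx
        rw [he] at this
        exact Ideal.Quotient.eq_zero_iff_mem.1 (Ideal.mem_bot.1 this :)
      · intro a ha
        obtain ⟨a, rfl⟩ := Ideal.Quotient.mk_surjective a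
        obtain ⟨b, hb, c, hc, hbc⟩ := Submodule.mem_sup.1 (hcov x hx hxn ((hmem a).1 ha))
        obtain ⟨d, rfl⟩ := Ideal.mem_span_singleton'.1 hc
        refine Submodule.mem_span_singleton.2 ⟨(Ideal.Quotient.mk J' d : A'), ?_⟩
        show Ideal.Quotient.mk J' d * Ideal.Quotient.mk J' x = Ideal.Quotient.mk J' a
        rw [← map_mul, ← hbc, map_add, Ideal.Quotient.eq_zero_iff_mem.2 hb, zero_add]
      · exact Submodule.span_le.2 (Set.singleton_subset_iff.2 ((hmem x).2 hx))
      · refine eq_bot_iff.2 (Ideal.mul_le.2 fun a ha b hb => ?_)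
        obtain ⟨a, rfl⟩ := Ideal.Quotient.mk_surjective a
        obtain ⟨b, rfl⟩ := Ideal.Quotient.mk_surjective b
        have ha' : a ∈ m := by
          rw [← hker, RingHom.mem_ker]
          exact (ArtFun.Art.mem_maximalIdeal_iff A' _).1 ha
        show Ideal.Quotient.mk J' a * Ideal.Quotient.mk J' b = 0
        rw [← map_mul, Ideal.Quotient.eq_zero_iff_mem]
        exact hmJ (Submodule.smul_mem_smul ha' ((hmem b).1 hb))
    let g : J →ₗ[R] (RingHom.ker p.toAlgHom).restrictScalars R :=
      LinearMap.codRestrict _ ((Ideal.Quotient.mkₐ R J').toLinearMap ∘ₗ J.subtype) fun a => (hmem a.1).2 a.2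
    have hg : Function.Surjective g := by
      rintro ⟨a, ha⟩
      obtain ⟨a, rfl⟩ := Ideal.Quotient.mk_surjective a
      exact ⟨⟨a, (hmem a).1 ha⟩, rfl⟩
    have hex : Function.Exact (Submodule.inclusion hJ'J.le) g := by
      intro a
      refine ⟨fun ha => ⟨⟨a.1, Ideal.Quotient.eq_zero_iff_mem.1 (congrArg Subtype.val ha)⟩, rfl⟩, ?_⟩
      rintro ⟨b, rfl⟩
      exact Subtype.ext (Ideal.Quotient.eq_zero_iff_mem.2 b.2)
    rw [← LinearMap.ker_eq_bot, eq_bot_iff]
    intro z hz
    rw [LinearMap.mem_ker] at hz
    have h1 : (LinearMap.lTensor M g) z = 0 := by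
      apply h A' A p hp
      rw [map_zero, ← LinearMap.comp_apply, ← LinearMap.lTensor_comp]
      have : ((RingHom.ker p.toAlgHom).restrictScalars R).subtype ∘ₗ g =
          (Ideal.Quotient.mkₐ R J').toLinearMap ∘ₗ J.subtype := rfl
      rw [this]
      show (LinearMap.lTensor M ((Ideal.Quotient.mkₐ R J').toLinearMap ∘ₗ J.subtype)) z = 0
      rw [LinearMap.lTensor_comp, LinearMap.comp_apply, hz, map_zero]
    obtain ⟨w, rfl⟩ := (lTensor_exact M hex hg z).1 h1
    have h2 : w = 0 := by
      apply ih J' hJ'J hJ'm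
      rw [map_zero, show J'.subtype = J.subtype ∘ₗ Submodule.inclusion hJ'J.le from rfl, LinearMap.lTensor_comp]
      exact hz
    simp [h2]
  apply Module.free_of_maximalIdeal_rTensor_injective
  exact (LinearMap.lTensor_inj_iff_rTensor_inj M _).1 (key m le_rfl)

end Groth.Agent.S18256
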