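import Groth.Statements.S18265
import Mathlib


set_option autoImplicit false
universe u
open InvQ

namespace Groth.Agent.S18265

theorem normal_aux {S P K L : Type*} [CommRing S] [IsDomain S] [CommRing P] [IsDomain P] [IsIntegrallyClosed P]
    [Field K] [Algebra S K] [IsFractionRing S K] [Field L] [Algebra P L] [IsFractionRing P L]
    (f : S →+* P) (hf : Function.Injective f)
    (key : ∀ (p : P) (a b : S), f b ≠ 0 → p * f b = f a → ∃ y, f y = p) :
    IsIntegrallyClosed S := by
  have hinj : Function.Injective ((algebraMap P L).comp f) := (IsFractionRing.injective P L).comp hf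
  let ι : K →+* L := IsFractionRing.lift hinj
  refine (isIntegrallyClosed_iff K).2 fun {x} hx => ?_
  obtain ⟨a, b, hb, rfl⟩ := IsFractionRing.div_surjective (A := S) x
  have hl : ∀ r, ι (algebraMap S K r) = algebraMap P L (f r) := fun r => IsFractionRing.lift_algebraMap hinj r
  have hi : IsIntegral P (ι (algebraMap S K a / algebraMap S K b)) := by
    obtain ⟨q, hq, hq0⟩ := hx
    refine ⟨q.map f, hq.map _, ?_⟩
    have := congrArg ι hq0
    rw [map_zero, Polynomial.hom_eval₂] at this
    rw [Polynomial.eval₂_map]
    have e : ι.comp (algebraMap S K) = (algebraMap P L).comp f := RingHom.ext hl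
    rwa [e] at this
  obtain ⟨p, hp⟩ := IsIntegrallyClosed.algebraMap_eq_of_integral hi
  have hb0 : f b ≠ 0 := (map_ne_zero_iff f hf).2 (nonZeroDivisors.ne_zero hb)
  have hpb : p * f b = f a := by
    apply IsFractionRing.injective P L
    have hb1 : algebraMap P L (f b) ≠ 0 := fun h =>
      hb0 (IsFractionRing.injective P L (h.trans (map_zero _).symm))
    rw [map_mul, hp, map_div₀, hl, hl]
    exact div_mul_cancel₀ _ hb1
  obtain ⟨y, rfl⟩ := key p a b hb0 hpb
  refine ⟨y, ?_⟩
  have hbK : algebraMap S K b ≠ 0 := IsFractionRing.to_map_ne_zero_of_mem_nonZeroDivisors hb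
  rw [eq_div_iff hbK, ← map_mul]
  exact congrArg _ (hf (by rw [map_mul]; exact hpb))

/-- Let k be an algebraically closed field and n, m natural numbers, and let R be the ring of polynomial
functions of m vectors of k^(n+1) invariant under the special linear group SL(n+1, k) acting on all
the vectors at once and under the rescalings of the individual vectors by units with product 1
(equivalently: invariant and homogeneous of one and the same degree in each vector) — the graded
ring of invariant sections whose Proj is the quotient variety of ordered m-point sets in projective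
n-space. Then R is integrally closed in its field of fractions; hence that quotient variety is
normal. (Only the normality assertion of the source's statement is given here; its dimension,
rationality and singular-locus assertions are not.) -/
theorem result (k : Type u) [Field k] [IsAlgClosed k] (n m : ℕ) :
    IsIntegrallyClosed (W4c5pointsetsdelpezzo.invRing k n m) := by
  set R := W4c5pointsetsdelpezzo.invRing k n m
  let P := W4c5pointsetsdelpezzo.TupleRing k n m
  have key : ∀ (p : P) (a b : R), (b : P) ≠ 0 → p * b = a → p ∈ R := by
    intro p a b hb h
    have ha := a.2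
    have hb' := b.2
    simp only [R, W4c5pointsetsdelpezzo.invRing, Algebra.mem_inf, Algebra.mem_iInf, AlgHom.mem_equalizer,
      AlgHom.id_apply] at ha hb' ⊢
    refine ⟨fun g => mul_right_cancel₀ hb ?_, fun s => mul_right_cancel₀ hb ?_⟩
    · rw [AlgHom.id_apply, h]
      nth_rw 1 [← hb'.1 g]
      rw [← map_mul, h, ha.1 g]
    · rw [AlgHom.id_apply, h]
      nth_rw 1 [← hb'.2 s]
      rw [← map_mul, h, ha.2 s]
  exact normal_aux (K := FractionRing R) (L := FractionRing P) R.val.toRingHom Subtype.val_injective
    fun p a b hb h => ⟨⟨p, key p a b hb h⟩, rfl⟩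

end Groth.Agent.S18265
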