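import Mathlib
import Groth.Statements.S18283
-- import your own Groth.Agent.* helpers here

set_option autoImplicit false
universe u v
open CAlgX

namespace Groth.Agent.S18283

/-- Let A be a commutative ring, ι a finite index type, H a finite set of indices (the head indices) and
c : ι → ι → A a table of coefficients; for j ∈ H put f_j = e_j − Σ_{i ∉ H} c_{ji} e_i in the free
module A^ι, so that each f_j has head e_j with coefficient 1 and tail supported outside H. If a
submodule M of A^ι contains every f_j with j ∈ H, then M is the A-span of these f_j if and only if
every wedge product of |H|+1 elements of M vanishes in the (|H|+1)-st exterior power of A^ι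
(equivalently, every (|H|+1)-minor of every matrix whose rows lie in M vanishes). The published
statement is the case where A is a Noetherian algebra over a field of characteristic zero, A^ι is
the degree-(m+1) part of the polynomial ring over A with its basis of terms, H is the set of
degree-(m+1) terms of a strongly stable monomial ideal generated in degree m, and M is the
degree-(m+1) part of an ideal generated by a marked set on that monomial ideal; this row allows any
commutative ring and any submodule containing the marked polynomials. -/
theorem result
    {A : Type u} [CommRing A] {ι : Type v} [Fintype ι] [DecidableEq ι]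
    (H : Finset ι) (c : ι → ι → A) (M : Submodule A (ι → A))
    (hf : ∀ j ∈ H, (Pi.single j (1 : A) - ∑ i ∈ Hᶜ, c j i • Pi.single i (1 : A)) ∈ M) :
    M = Submodule.span A ((fun j => Pi.single j (1 : A) - ∑ i ∈ Hᶜ, c j i • Pi.single i (1 : A)) '' ↑H)
      ↔ ∀ v : Fin (H.card + 1) → ι → A, (∀ k, v k ∈ M) →
          exteriorPower.ιMulti A (H.card + 1) v = 0 := by
  classical
  constructor
  · intro hM v hv
    let fb : H → ι → A := fun j => Pi.single (j : ι) (1 : A) - ∑ i ∈ Hᶜ, c j i • Pi.single i (1 : A)
    let L : (H → A) →ₗ[A] (ι → A) := Fintype.linearCombination A fb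
    have hvk : ∀ k, ∃ w, L w = v k := fun k => by
      have h : v k ∈ Submodule.span A (Set.range fb) := by
        have h' := hv k
        rw [hM, Set.image_eq_range] at h'
        exact h'
      rw [← Fintype.range_linearCombination] at h
      exact h
    choose w hw using hvk
    have h0 : (exteriorPower.ιMulti A (H.card + 1)).compLinearMap L = 0 := by
      refine (Pi.basisFun A H).ext_alternating fun i hi => ?_
      have := Fintype.card_le_of_injective i hi
      simp at this
    have := congrFun (congrArg DFunLike.coe h0) w
    simpa [hw] using this
  · intro hw
    refine le_antisymm (fun m hm => ?_) (Submodule.span_le.2 (by rintro _ ⟨j, hj, rfl⟩; exact hf j hj))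
    let fj : ι → ι → A := fun j => Pi.single j (1 : A) - ∑ i ∈ Hᶜ, c j i • Pi.single i (1 : A)
    have hfH : ∀ j, ∀ i ∈ H, fj j i = if j = i then 1 else 0 := fun j i hi => by
      simp [fj, Pi.single_apply, hi, eq_comm]
    set m' := m - ∑ j ∈ H, m j • fj j with hm'
    have hm'H : ∀ i ∈ H, m' i = 0 := fun i hi => by
      simp [hm', hfH _ _ hi, hi]
    have hm'M : m' ∈ M := M.sub_mem hm (M.sum_mem fun j hj => M.smul_mem _ (hf j hj))
    have hz : m' = 0 := by
      funext i
      by_cases hi : i ∈ H
      · exact hm'H i hi
      let el : Fin H.card → ι := fun a => (H.equivFin.symm a : ι)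
      have hel : ∀ a, el a ∈ H := fun a => (H.equivFin.symm a).2
      have heli : Function.Injective el := Subtype.val_injective.comp H.equivFin.symm.injective
      let v : Fin (H.card + 1) → ι → A := Fin.snoc (fun a => fj (el a)) m'
      let col : Fin (H.card + 1) → ι := Fin.snoc el i
      have hv : ∀ k, v k ∈ M := fun k => by
        refine Fin.lastCases ?_ (fun a => ?_) k
        · simpa [v] using hm'M
        · simp only [v, Fin.snoc_castSucc]; exact hf _ (hel a)
      have h := congrArg (exteriorPower.alternatingMapLinearEquiv
        ((Matrix.detRowAlternating (R := A) (n := Fin (H.card + 1))).compLinearMap (LinearMap.funLeft A A col))) (hw v hv)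
      rw [exteriorPower.alternatingMapLinearEquiv_apply_ιMulti, map_zero] at h
      change Matrix.det (Matrix.of fun k l => v k (col l)) = 0 at h
      rw [Matrix.det_of_isUpperTriangular, Fin.prod_univ_castSucc] at h
      · simpa [v, col, hfH _ _ (hel _)] using h
      · intro k l hkl
        revert hkl
        refine Fin.lastCases ?_ (fun a => ?_) k <;> refine Fin.lastCases ?_ (fun b => ?_) l <;> intro hkl
        · simp at hkl
        · simp [v, col, hm'H _ (hel b)]
        · exact absurd hkl (not_lt.2 (Fin.le_last _))
        · simp only [id_eq] at hkl
          simp [v, col, hfH _ _ (hel b), heli.eq_iff, (ne_of_lt (Fin.castSucc_lt_castSucc_iff.1 hkl)).symm]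
    rw [sub_eq_zero] at hz
    rw [hz]
    exact Submodule.sum_mem _ fun j hj => Submodule.smul_mem _ _ (Submodule.subset_span ⟨j, hj, rfl⟩)

end Groth.Agent.S18283
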