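import Groth.Statements.S18317
import Groth.Agent.FpqcTorsor.FiniteField
-- import your own Groth.Agent.* helpers here

set_option autoImplicit false
set_option linter.style.haveILetI false
universe u
open CategoryTheory AlgebraicGeometry
open NonAbH1

namespace Groth.Agent.S18317

/-- Let K be a field and G a finite connected K-group scheme (G → Spec K finite, G connected as a
topological space). Then every G-torsor X over Spec K for the étale topology (a K-scheme with an
action of G whose shear map G ×_K X → X ×_K X is an isomorphism and which acquires a section over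
the members of some étale covering of Spec K) is trivial: X has a K-point. -/
theorem result (K : Type u) [Field K]
    (G X : Over (Spec (CommRingCat.of K))) [GrpObj G] [IsFinite G.hom] [ConnectedSpace G.left]
    (a : AlgGrp.Action G X) (h : NonAbH1.IsTorsorFor Scheme.etalePrecoverage a) :
    NonAbH1.HasSectionOver X (𝟙 (Spec (CommRingCat.of K))) := by
  obtain ⟨R, hR, hsec⟩ := h.2
  have hle : Scheme.etalePrecoverage ≤ Scheme.fppfPrecoverage := by
    rw [Scheme.fppfPrecoverage_eq_inf]
    exact le_inf (Scheme.precoverage_mono fun _ _ f hf => by have := hf; infer_instance)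
      (Scheme.precoverage_mono fun _ _ f hf => by have := hf; infer_instance)
  have h' := FpqcTorsor.isTorsorFor_fpqc_of_fppf a ⟨h.1, R, hle _ hR, hsec⟩
  haveI := FpqcTorsor.isFinite_of_isTorsorFor a h'
  have hR' : R ∈ (Scheme.precoverage @Etale) (Spec (CommRingCat.of K)) := hR
  obtain ⟨𝒰, h𝒰⟩ := Precoverage.mem_iff_exists_zeroHypercover.1 hR'
  obtain ⟨hsurj, hprop⟩ := (Scheme.ofArrows_mem_precoverage_iff (X := 𝒰.X) (f := 𝒰.f) _).1 (h𝒰.symm ▸ hR')
  obtain ⟨i, p, -⟩ := hsurj default
  obtain ⟨t, ht⟩ := hsec (𝒰.f i) (h𝒰 ▸ ⟨i⟩)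
  haveI : Etale (𝒰.f i) := hprop i
  obtain ⟨x, -, -, φ, hφ, hfd, hsep⟩ :=
    SmoothDense.exists_separable_closedPoint (𝒰.f i) isOpen_univ ⟨p, trivial⟩
  letI := φ.toAlgebra
  haveI := hfd
  haveI := hsep
  exact FpqcTorsor.hasSection_of_separable_point a h.1 ((𝒰.X i).residueField x)
    (Over.homMk ((𝒰.X i).fromSpecResidueField x ≫ t) (by
      show ((𝒰.X i).fromSpecResidueField x ≫ t) ≫ X.hom = Spec.map (CommRingCat.ofHom φ)
      rw [Category.assoc, ht, hφ]))

end Groth.Agent.S18317
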