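import Groth.Statements.S18319
import Groth.Agent.FpqcTorsor.FiniteField
-- import your own Groth.Agent.* helpers here

set_option autoImplicit false
set_option linter.style.haveILetI false
universe u
open CategoryTheory AlgebraicGeometry
open NonAbH1

namespace Groth.Agent.S18319

/-- Let K be a perfect field and G a finite connected K-group scheme (G → Spec K finite, G connected).
Then every G-torsor X over Spec K for the fppf topology (simply transitive action, a section over
the members of some fppf covering of Spec K) is trivial: X has a K-point. -/
theorem result (K : Type u) [Field K]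
    [PerfectField K] (G X : Over (Spec (CommRingCat.of K))) [GrpObj G] [IsFinite G.hom] [ConnectedSpace G.left]
    (a : AlgGrp.Action G X) (h : NonAbH1.IsTorsorFor Scheme.fppfPrecoverage a) :
    NonAbH1.HasSectionOver X (𝟙 (Spec (CommRingCat.of K))) := by
  have h' := FpqcTorsor.isTorsorFor_fpqc_of_fppf a h
  haveI := FpqcTorsor.isFinite_of_isTorsorFor a h'
  haveI := FpqcTorsor.surjective_of_isTorsorFor a h'
  haveI := FpqcTorsor.isClosed_singleton_of_isFinite X.hom
  obtain ⟨x, -⟩ := X.hom.surjective default
  haveI : IsClosedImmersion (X.left.fromSpecResidueField x) :=
    IsClosedImmersion.of_isPreimmersion _ (isClosed_discrete _)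
  let φ := Spec.preimage (R := CommRingCat.of K) (X.left.fromSpecResidueField x ≫ X.hom)
  have hφ : Spec.map φ = X.left.fromSpecResidueField x ≫ X.hom := Spec.map_preimage _
  haveI : IsFinite (Spec.map φ) := by rw [hφ]; infer_instance
  letI := φ.hom.toAlgebra
  haveI : FiniteDimensional K (X.left.residueField x) := (IsFinite.SpecMap_iff φ).1 inferInstance
  haveI : Algebra.IsSeparable K (X.left.residueField x) := inferInstance
  exact FpqcTorsor.hasSection_of_separable_point a h.1 (X.left.residueField x)
    (Over.homMk (X.left.fromSpecResidueField x) hφ.symm)

end Groth.Agent.S18319
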