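import Groth.Statements.S18343
import Groth.Agent.NilClosed.Basic
-- import your own Groth.Agent.* helpers here

set_option autoImplicit false
universe u
open CategoryTheory CategoryTheory.Limits AlgebraicGeometry
open CategoryTheory CategoryTheory.Limits AlgebraicGeometry
open MultCurve

namespace Groth.Agent.S18343

theorem IsKernelPairHelper {D C X : Scheme.{u}} (i : D ⟶ C) (f : C ⟶ X) [Mono f] :
    IsPullback i (𝟙 D) f (i ≫ f) :=
  IsPullback.of_isLimit' ⟨by simp⟩ (PullbackCone.IsLimit.mk _ (fun c => c.snd)
    (fun c => by rw [← cancel_mono f, Category.assoc]; exact c.condition.symm)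
    (fun c => Category.comp_id _) (fun c m _ h2 => by rw [← h2]; exact (Category.comp_id m).symm))

/-- Suppose C is a ribbon on the reduced scheme D via the closed immersion i : D ⟶ C (meaning the ideal
of D squares to zero and is locally generated by a single section z whose annihilator lies in (z)),
and consider an arbitrary morphism of schemes f : C ⟶ X. The morphism f is a closed immersion
exactly when two things hold: the composite i ≫ f, i.e. f restricted to D, is a closed immersion,
and pulling back along f the ideal of the scheme-theoretic image of D in X yields the entire ideal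
of D in C. This second requirement amounts to surjectivity of the map α_f that sends the pullback of
the conormal sheaf of the image of D in X onto the conormal bundle of D in C. (The statement is
given for arbitrary schemes and any morphism f; the published version assumes all schemes are of
finite type over a field and D is connected, but the proof relies on neither assumption.) -/
theorem result (D C X : Scheme.{u}) (i : D ⟶ C)
    (hR : MultCurve.IsRibbon i) (f : C ⟶ X) :
    IsClosedImmersion f ↔ (IsClosedImmersion (i ≫ f) ∧ (i ≫ f).ker.comap f = i.ker) := by
  obtain ⟨⟨hi, hn, -⟩, -⟩ := hR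
  haveI := hi
  have hn' : ∀ U : C.affineOpens, (i.ker.ideal U) ^ 2 = ⊥ := fun U => by
    have h := congrArg (fun I => Scheme.IdealSheafData.ideal I U) hn
    simpa using h
  constructor
  · intro h
    haveI := h
    haveI : IsClosedImmersion (i ≫ f) := inferInstance
    refine ⟨inferInstance, ?_⟩
    have hm : IsPullback i (𝟙 D) f (i ≫ f) := (IsKernelPairHelper i f)
    exact (Scheme.IdealSheafData.ker_fst_of_isClosedImmersion (i ≫ f) f).symm.trans
      ((Scheme.Hom.ker_comp_of_isIso hm.isoPullback.hom (pullback.fst f (i ≫ f))).symm.trans
        (congrArg Scheme.Hom.ker hm.isoPullback_hom_fst))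
  · rintro ⟨h1, h2⟩
    haveI := h1
    refine Groth.Agent.NilClosed.isClosedImmersion_of_nilpotent i f i.ker 2 hn' (fun U => le_rfl) ?_
    intro V U hUV h
    refine le_trans ?_ le_sup_left
    conv_lhs => rw [← h2, Groth.Agent.IdealComap.ideal_comap _ f U V h]
    refine Ideal.map_mono fun a ha => ?_
    rw [Ideal.mem_comap, Scheme.Hom.ker_apply, RingHom.mem_ker]
    rw [Scheme.Hom.ker_apply, RingHom.mem_ker] at ha
    obtain ⟨U, hU⟩ := U
    subst hUV
    rw [← f.app_eq_appLE]
    rw [Scheme.Hom.comp_app] at ha
    exact ha

end Groth.Agent.S18343
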