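import Groth.Statements.S1835
import Mathlib.RingTheory.Ideal.KrullsHeightTheorem
import Mathlib.RingTheory.IntegralClosure.IntegralRestrict
import Mathlib.RingTheory.Ideal.GoingUp

set_option autoImplicit false
universe u
open CycAlg

namespace Groth.Agent.S1835

/-- Let R be a Noetherian local ring of dimension 1, a a nonzerodivisor in the maximal ideal and b a
nonzerodivisor. There is an integer n such that whenever b = a^m c in some finite extension ring R ⊆
R', one has m ≤ n. -/
theorem result (R : Type u) [CommRing R] [IsNoetherianRing R] [IsLocalRing R] (hR : ringKrullDim R = 1) (a b : R) (ha : a ∈ nonZeroDivisors R) (ham : a ∈ IsLocalRing.maximalIdeal R) (hb : b ∈ nonZeroDivisors R) : ∃ n : ℕ, ∀ (R' : Type u) [CommRing R'] [Algebra R R'], Function.Injective (algebraMap R R') → Module.Finite R R' → ∀ (m : ℕ) (c : R'), algebraMap R R' b = algebraMap R R' a ^ m * c → m ≤ n := by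
  classical
  have hmax : ∀ p : Ideal R, p.IsPrime → Ideal.span {b} ≤ p → p = IsLocalRing.maximalIdeal R := by
    intro p hp hbp
    by_contra hne
    have hlt : p < IsLocalRing.maximalIdeal R :=
      lt_of_le_of_ne (IsLocalRing.le_maximalIdeal hp.ne_top) hne
    have h1 := Ideal.height_strict_mono_of_isPrime hlt
    have h2 := IsLocalRing.maximalIdeal_height_eq_ringKrullDim (R := R)
    rw [hR] at h2
    have h3 : (IsLocalRing.maximalIdeal R).height = 1 := WithBot.coe_injective h2
    rw [h3, ENat.lt_one_iff_eq_zero, Ideal.height_eq_zero_iff] at h1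
    exact Set.disjoint_left.mp (Ideal.disjoint_nonZeroDivisors_of_mem_minimalPrimes h1)
      (hbp (Ideal.mem_span_singleton_self b)) hb
  have hrad : a ∈ (Ideal.span {b}).radical := by
    rw [Ideal.radical_eq_sInf, Submodule.mem_sInf]
    rintro p ⟨hbp, hp⟩
    rw [hmax p hp hbp]
    exact ham
  obtain ⟨N, hN⟩ := hrad
  obtain ⟨d, hd⟩ := Ideal.mem_span_singleton'.mp hN
  refine ⟨N, fun R' _ _ hinj hfin m c hc => ?_⟩
  by_contra hm
  push Not at hm
  obtain ⟨j, rfl⟩ : ∃ j, m = N + (j + 1) := ⟨m - N - 1, by omega⟩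
  have : Algebra.IsIntegral R R' := Algebra.IsIntegral.of_finite R R'
  have hjac : algebraMap R R' a ∈ Ideal.jacobson (⊥ : Ideal R') := by
    rw [Ideal.jacobson, Submodule.mem_sInf]
    rintro M ⟨-, hM⟩
    have := Ideal.isMaximal_comap_of_isIntegral_of_isMaximal (R := R) M
    have e := IsLocalRing.eq_maximalIdeal this
    exact (show a ∈ Ideal.comap (algebraMap R R') M from e ▸ ham)
  have he : algebraMap R R' a ^ N * (1 - algebraMap R R' a ^ (j + 1) * c * algebraMap R R' d) = 0 := by
    have : algebraMap R R' a ^ N = algebraMap R R' d * algebraMap R R' b := by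
      rw [← map_pow, ← hd, map_mul]
    rw [mul_sub, mul_one, sub_eq_zero]
    calc algebraMap R R' a ^ N = algebraMap R R' d * algebraMap R R' b := this
      _ = _ := by rw [hc, pow_add]; ring
  have hu : IsUnit (1 - algebraMap R R' a ^ (j + 1) * c * algebraMap R R' d) := by
    have hmem : algebraMap R R' a ^ (j + 1) * c * algebraMap R R' d ∈ Ideal.jacobson (⊥ : Ideal R') :=
      Ideal.mul_mem_right _ _ (Ideal.mul_mem_right _ _ (Ideal.pow_mem_of_mem _ hjac _ (Nat.succ_pos j)))
    have := Ideal.mem_jacobson_bot.mp hmem (-1)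
    rwa [mul_neg, mul_one, neg_add_eq_sub] at this
  rw [hu.mul_left_eq_zero, ← map_pow, ← map_zero (algebraMap R R')] at he
  have : a ^ N ∈ nonZeroDivisors R := pow_mem ha N
  rw [hinj he] at this
  exact zero_notMem_nonZeroDivisors this

end Groth.Agent.S1835
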