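import Groth.Statements.S18363
import Mathlib
-- import your own Groth.Agent.* helpers here

set_option autoImplicit false
universe u
open CategoryTheory
open CAlg

namespace Groth.Agent.S18363

/-- Let R be a Noetherian local ring with maximal ideal m, and P, Q ideals of R such that P + Q contains
a power of m while R/P and R/Q are both reduced of Krull dimension one. Let I and J be nonzero
finitely generated R-modules with P·I = 0 and Q·J = 0, such that every element of R whose class in
R/P is a non-zero-divisor acts injectively on I, and every element whose class in R/Q is a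
non-zero-divisor acts injectively on J. Then the group Ext¹_R(I, J) is nonzero. (This is the stalk
statement behind the existence of a non-split extension of a torsion-free rank-one sheaf on a
subcurve Y by one on a subcurve Z of a reduced projective curve, at a point where Y and Z meet
without sharing a component; in that situation the modules moreover have rank one at the generic
points of their supports and P ∩ Q = 0, two assumptions the argument does not use.) -/
theorem result
    (R : Type u) [CommRing R] [IsNoetherianRing R] [IsLocalRing R]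
    (P Q : Ideal R) (hPQ : ∃ n : ℕ, IsLocalRing.maximalIdeal R ^ n ≤ P ⊔ Q)
    [IsReduced (R ⧸ P)] [IsReduced (R ⧸ Q)]
    (hPdim : ringKrullDim (R ⧸ P) = 1) (hQdim : ringKrullDim (R ⧸ Q) = 1)
    (I J : Type u) [AddCommGroup I] [Module R I] [Module.Finite R I] [Nontrivial I]
    [AddCommGroup J] [Module R J] [Module.Finite R J] [Nontrivial J]
    (hPI : ∀ p ∈ P, ∀ x : I, p • x = 0) (hQJ : ∀ q ∈ Q, ∀ y : J, q • y = 0)
    (hItf : ∀ r : R, Ideal.Quotient.mk P r ∈ nonZeroDivisors (R ⧸ P) → ∀ x : I, r • x = 0 → x = 0)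
    (hJtf : ∀ r : R, Ideal.Quotient.mk Q r ∈ nonZeroDivisors (R ⧸ Q) → ∀ y : J, r • y = 0 → y = 0) :
    Nontrivial (Abelian.Ext (ModuleCat.of R I) (ModuleCat.of R J) 1) := by
  classical
  let m := IsLocalRing.maximalIdeal R
  let π := Ideal.Quotient.mk Q
  haveI hntQ : Nontrivial (R ⧸ Q) := by
    by_contra h
    haveI := not_nontrivial_iff_subsingleton.1 h
    rw [ringKrullDim_eq_bot_of_subsingleton] at hQdim
    exact absurd hQdim WithBot.bot_ne_one
  haveI : IsLocalRing (R ⧸ Q) := .of_surjective' π Ideal.Quotient.mk_surjective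
  -- a nonzerodivisor of `R ⧸ Q` in the maximal ideal
  have hmin : ∀ p ∈ minimalPrimes (R ⧸ Q), p ≠ IsLocalRing.maximalIdeal (R ⧸ Q) := fun p hp h => by
    haveI := hp.1.1
    have h1 := Ideal.height_eq_zero_iff.2 hp
    rw [h] at h1
    have h2 := IsLocalRing.maximalIdeal_height_eq_ringKrullDim (R := R ⧸ Q)
    rw [h1, hQdim] at h2
    exact absurd h2 (by norm_num)
  obtain ⟨y, hym, hy⟩ : ∃ y ∈ IsLocalRing.maximalIdeal (R ⧸ Q), ∀ p ∈ minimalPrimes (R ⧸ Q), y ∉ p := by
    by_contra h
    push Not at h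
    have hsub : (IsLocalRing.maximalIdeal (R ⧸ Q) : Set (R ⧸ Q)) ⊆ ⋃ p ∈ minimalPrimes (R ⧸ Q), (p : Set (R ⧸ Q)) :=
      fun z hz => by
        obtain ⟨p, hp, hzp⟩ := h z hz
        exact Set.mem_biUnion hp hzp
    obtain ⟨p, hp, hle⟩ := (Ideal.subset_union_prime_finite (minimalPrimes.finite_of_isNoetherianRing (R ⧸ Q)) ⊥ ⊥
      (f := fun p => p) (fun p hp _ _ => hp.1.1)).1 hsub
    exact hmin p hp ((IsLocalRing.maximalIdeal.isMaximal _).eq_of_le hp.1.1.ne_top hle).symm
  obtain ⟨x, rfl⟩ := Ideal.Quotient.mk_surjective y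
  have hxnz : π x ∈ nonZeroDivisors (R ⧸ Q) := by
    rw [mem_nonZeroDivisors_iff_right]
    intro z hz
    have : z ∈ nilradical (R ⧸ Q) := by
      rw [nilradical_eq_sInf, Submodule.mem_sInf]
      intro p hp
      obtain ⟨q, hq, hqp⟩ := @Ideal.exists_minimalPrimes_le _ _ ⊥ p hp bot_le
      exact hqp ((hq.1.1.mem_or_mem (hz ▸ zero_mem q)).resolve_right (hy q hq))
    exact IsReduced.eq_zero z this
  have hxm : x ∈ m := fun hu => hym (hu.map π)
  -- powers of the maximal ideal lie in `Q + (x)`
  obtain ⟨N, hN⟩ : ∃ N, m ^ N ≤ Q ⊔ Ideal.span {x} := by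
    refine Ideal.exists_pow_le_of_le_radical_of_fg ?_ (IsNoetherian.noetherian m)
    rw [← Ideal.sInf_minimalPrimes]
    refine le_sInf fun p hp => ?_
    haveI := hp.1.1
    have hQp : Q ≤ p := le_sup_left.trans hp.1.2
    haveI : (p.map π).IsPrime := Ideal.map_isPrime_of_surjective Ideal.Quotient.mk_surjective (by rwa [Ideal.mk_ker])
    have hmax : p.map π = IsLocalRing.maximalIdeal (R ⧸ Q) := by
      by_contra hne
      have hlt := lt_of_le_of_ne (IsLocalRing.le_maximalIdeal (Ideal.IsPrime.ne_top ‹(p.map π).IsPrime›)) hne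
      have h1 := Ideal.height_add_one_le_of_lt_of_isPrime hlt
      have h2 := IsLocalRing.maximalIdeal_height_eq_ringKrullDim (R := R ⧸ Q)
      rw [hQdim] at h2
      rw [WithBot.coe_eq_one.1 h2] at h1
      have h0 : (p.map π).height = 0 := by
        by_contra h0
        have h3 : (1 : ℕ∞) + 1 ≤ (p.map π).height + 1 :=
          add_le_add (Order.one_le_iff_pos.2 (pos_iff_ne_zero.2 h0)) le_rfl
        exact absurd (h3.trans h1) (by norm_num)
      exact hy _ (Ideal.height_eq_zero_iff.1 h0)
        (Ideal.mem_map_of_mem π (hp.1.2 (Submodule.mem_sup_right (Ideal.mem_span_singleton_self x))))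
    intro r hr
    have hr' : π r ∈ p.map π := by
      rw [hmax]
      exact fun hu => by
        obtain ⟨s, hs⟩ := hu.exists_right_inv
        obtain ⟨s, rfl⟩ := Ideal.Quotient.mk_surjective s
        rw [← map_mul, ← map_one π, Ideal.Quotient.eq] at hs
        have hQm : Q ≤ m := IsLocalRing.le_maximalIdeal fun h => (not_subsingleton (R ⧸ Q)) (Ideal.Quotient.subsingleton_iff.2 h)
        exact (IsLocalRing.maximalIdeal.isMaximal R).ne_top ((Ideal.eq_top_iff_one _).2
          (by have h9 := sub_mem (m.mul_mem_right s hr) (hQm hs); rwa [sub_sub_cancel] at h9))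
    exact (Ideal.mem_quotient_iff_mem hQp).1 hr'
  -- the multiplication by `x` on `J`
  let μ : J →ₗ[R] J := LinearMap.lsmul R J x
  have hμ : Function.Injective μ := (injective_iff_map_eq_zero _).2 fun j hj => hJtf x hxnz j hj
  have hpow : ∀ j : J, ∀ r ∈ m ^ N, r • j ∈ LinearMap.range μ := fun j r hr => by
    obtain ⟨q, hq, w, hw, rfl⟩ := Submodule.mem_sup.1 (hN hr)
    obtain ⟨c, rfl⟩ := Ideal.mem_span_singleton'.1 hw
    exact ⟨c • j, by simp [μ, add_smul, hQJ q hq j, mul_smul, smul_comm x c]⟩
  obtain ⟨j₀, hj₀⟩ : ∃ j, j ∉ LinearMap.range μ := by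
    by_contra h
    push Not at h
    have htop : (⊤ : Submodule R J) ≤ m • ⊤ := fun j _ => by
      obtain ⟨j', rfl⟩ := h j
      exact Submodule.smul_mem_smul hxm Submodule.mem_top
    exact top_ne_bot (Submodule.eq_bot_of_le_smul_of_le_jacobson_bot m ⊤ (Module.finite_def.1 inferInstance) htop
      (IsLocalRing.maximalIdeal_le_jacobson ⊥))
  obtain ⟨v, hv, hvm⟩ : ∃ v, v ∉ LinearMap.range μ ∧ ∀ r ∈ m, r • v ∈ LinearMap.range μ := by
    have aux : ∀ k, ∀ j, j ∉ LinearMap.range μ → (∀ r ∈ m ^ k, r • j ∈ LinearMap.range μ) →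
        ∃ v, v ∉ LinearMap.range μ ∧ ∀ r ∈ m, r • v ∈ LinearMap.range μ := by
      intro k
      induction k with
      | zero => intro j hj h; exact absurd (by simpa using h 1 (by simp)) hj
      | succ k ih =>
        intro j hj h
        by_cases hk : ∀ r ∈ m ^ k, r • j ∈ LinearMap.range μ
        · exact ih j hj hk
        push Not at hk
        obtain ⟨r, hr, hrj⟩ := hk
        exact ⟨r • j, hrj, fun s hs => by
          rw [← mul_smul]; exact h _ (by rw [pow_succ']; exact Ideal.mul_mem_mul hs hr)⟩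
    exact aux N j₀ hj₀ (hpow j₀)
  -- a surjection onto the residue field
  let k := IsLocalRing.ResidueField R
  obtain ⟨ρ, hρ⟩ : ∃ ρ : I →ₗ[R] k, ρ ≠ 0 := by
    haveI : Nontrivial (TensorProduct R k I) := by
      refine not_subsingleton_iff_nontrivial.1 fun h => not_subsingleton I ?_
      exact IsLocalRing.subsingleton_tensorProduct.1 h
    obtain ⟨z, hz⟩ := exists_ne (0 : TensorProduct R k I)
    obtain ⟨φ, hφ⟩ : ∃ φ : Module.Dual k (TensorProduct R k I), φ z ≠ 0 := by
      by_contra h
      push Not at h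
      exact hz ((Module.forall_dual_apply_eq_zero_iff k z).1 h)
    refine ⟨((φ.restrictScalars R).comp (TensorProduct.mk R k I 1)), fun h => hφ ?_⟩
    have hφ0 : φ = 0 := LinearMap.ext fun w => by
      induction w using TensorProduct.induction_on with
      | zero => simp
      | add a b ha hb => simp [ha, hb]
      | tmul a b =>
        have := LinearMap.congr_fun h b
        simp only [LinearMap.comp_apply, TensorProduct.mk_apply, LinearMap.restrictScalars_apply, LinearMap.zero_apply] at this
        rw [show a ⊗ₜ[R] b = a • ((1 : k) ⊗ₜ[R] b) by rw [TensorProduct.smul_tmul', smul_eq_mul, mul_one],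
          map_smul, this, smul_zero, LinearMap.zero_apply]
    simp [hφ0]
  -- the extension
  let W : Submodule R J := LinearMap.range μ ⊔ Submodule.span R {v}
  let g₀ : W →ₗ[R] J ⧸ LinearMap.range μ := (Submodule.mkQ _).comp W.subtype
  let c : k →ₗ[R] J ⧸ LinearMap.range μ := Submodule.liftQ _ (LinearMap.toSpanSingleton R _ (Submodule.Quotient.mk v))
    (fun r hr => by
      rw [LinearMap.mem_ker, LinearMap.toSpanSingleton_apply, ← Submodule.Quotient.mk_smul, Submodule.Quotient.mk_eq_zero]
      exact hvm r hr)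
  have hc : ∀ r : R, c (IsLocalRing.residue R r) = Submodule.Quotient.mk (r • v) := fun r => rfl
  have hcinj : Function.Injective c := (injective_iff_map_eq_zero _).2 fun z hz => by
    obtain ⟨r, rfl⟩ := IsLocalRing.residue_surjective z
    rw [hc, Submodule.Quotient.mk_eq_zero] at hz
    by_contra hne
    have hu : IsUnit r := by
      by_contra hu
      exact hne ((IsLocalRing.residue_eq_zero_iff r).2 hu)
    obtain ⟨s, hs⟩ := hu.exists_left_inv
    exact hv (by simpa [← mul_smul, hs] using (LinearMap.range μ).smul_mem s hz)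
  let μW : J →ₗ[R] W := μ.codRestrict W fun j => Submodule.mem_sup_left ⟨j, rfl⟩
  have hg : ∀ w : W, g₀ w ∈ LinearMap.range c := fun w => by
    obtain ⟨a, ha, b, hb, hab⟩ := Submodule.mem_sup.1 w.2
    obtain ⟨r, rfl⟩ := Submodule.mem_span_singleton.1 hb
    refine ⟨IsLocalRing.residue R r, ?_⟩
    rw [hc]
    show Submodule.Quotient.mk (r • v) = Submodule.Quotient.mk (w : J)
    rw [← hab, Submodule.Quotient.eq]
    simpa using neg_mem ha
  let g : W →ₗ[R] k := (LinearEquiv.ofInjective c hcinj).symm.toLinearMap.comp (g₀.codRestrict _ hg)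
  have hg' : ∀ w, c (g w) = g₀ w := fun w => congrArg Subtype.val
    ((LinearEquiv.ofInjective c hcinj).apply_symm_apply (⟨g₀ w, hg w⟩ : LinearMap.range c))
  have hgs : Function.Surjective g := fun z => by
    obtain ⟨r, rfl⟩ := IsLocalRing.residue_surjective z
    refine ⟨⟨r • v, Submodule.mem_sup_right (Submodule.smul_mem _ r (Submodule.mem_span_singleton_self v))⟩, hcinj ?_⟩
    rw [hg', hc]; rfl
  let S : ShortComplex (ModuleCat.{u} R) := ShortComplex.moduleCatMk μW g (LinearMap.ext fun j => hcinj (by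
    rw [LinearMap.comp_apply, hg', LinearMap.zero_apply, map_zero]
    exact (Submodule.Quotient.mk_eq_zero _).2 ⟨j, rfl⟩))
  have hS : S.ShortExact := by
    refine @ShortComplex.ShortExact.mk _ _ _ S ?_ ?_ ?_
    · rw [ShortComplex.moduleCat_exact_iff]
      intro w hw
      change g w = 0 at hw
      have : g₀ w = 0 := by rw [← hg', hw, map_zero]
      obtain ⟨j, hj⟩ := (Submodule.Quotient.mk_eq_zero _).1 this
      exact ⟨j, Subtype.ext hj⟩
    · exact (ModuleCat.mono_iff_injective _).2 fun a b h => hμ (congrArg Subtype.val h)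
    · exact (ModuleCat.epi_iff_surjective _).2 hgs
  by_contra hsub
  haveI : Subsingleton (Abelian.Ext (ModuleCat.of R I) S.X₁ 1) := not_nontrivial_iff_subsingleton.1 hsub
  obtain ⟨x₂, hx₂⟩ := Abelian.Ext.covariant_sequence_exact₃ (ModuleCat.of R I) hS
    (Abelian.Ext.mk₀ (ModuleCat.ofHom ρ : ModuleCat.of R I ⟶ S.X₃)) (zero_add 1) (Subsingleton.elim _ _)
  obtain ⟨s, rfl⟩ := (Abelian.Ext.mk₀_bijective _ _).2 x₂
  rw [Abelian.Ext.mk₀_comp_mk₀] at hx₂
  have hsg := (Abelian.Ext.mk₀_bijective _ _).1 hx₂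
  -- maps from `I` to `J` vanish
  obtain ⟨n, hn⟩ := hPQ
  let sI : I →ₗ[R] W := s.hom
  have hs0 : ∀ i : I, sI i = 0 := fun i => by
    refine Subtype.ext (hJtf (x ^ n) (by rw [map_pow]; exact pow_mem hxnz n) _ ?_)
    obtain ⟨p, hp, q, hq, hpq⟩ := Submodule.mem_sup.1 (hn (Ideal.pow_mem_pow hxm n))
    rw [← hpq, add_smul, hQJ q hq, add_zero]
    have : ((p • sI i : W) : J) = 0 := by rw [← map_smul, hPI p hp i, map_zero]; rfl
    exact this
  refine hρ (LinearMap.ext fun i => ?_)
  have h7 : g (sI i) = ρ i := congrArg (fun f => f.hom i) hsg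
  rw [← h7, hs0 i, map_zero]
  rfl

end Groth.Agent.S18363
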