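import Groth.Statements.S18364
import Mathlib.RingTheory.Ideal.MinimalPrime.Localization
import Mathlib.Algebra.Module.LocalizedModule.Basic
-- import your own Groth.Agent.* helpers here

set_option autoImplicit false
universe u
open CAlg

namespace Groth.Agent.S18364

/-- Let A be a Noetherian ring, π an element of A, and (𝔓_i)_{i ∈ ι} an injective finite family listing
exactly the minimal prime ideals over (π). Let M be a finitely generated A-module and M̄ = M/πM. For
a subset T of ι let K(T) ⊆ M̄ be the submodule of elements whose image in the localisation of M̄ at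
𝔓_i is zero for every i ∈ T, and N(T) ⊆ M its preimage in M. Assume K(ι) = 0, i.e. no nonzero
element of M̄ vanishes at all the minimal primes (every associated prime of M̄ is one of the 𝔓_i).
Then for every subset Y of ι with complement Z one has N(Y) ∩ N(Z) = πM, and the same construction
applied to the module N(Y) instead of M — the preimage in N(Y) of the elements of N(Y)/πN(Y)
vanishing at every 𝔓_i with i ∈ Z — is, as a submodule of M, equal to N(Y) ∩ N(Z). (Geometric
meaning: A is the local ring of a flat family of curves over a discrete valuation ring with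
uniformizer π at a point of the reduced special fibre, M the stalk of a torsion-free rank-one sheaf
I, Y a set of components of the special fibre through the point, and N(Y) the stalk of the kernel
I^Y of I → I(s)_Y; the statement is (I^Y)^Z = I^Y ∩ I^Z = πI. Reducedness of A/πA, flatness and rank
one are not used.) -/
theorem result
    (A : Type u) [CommRing A] [IsNoetherianRing A] (π : A)
    (ι : Type) [Finite ι] (𝔓 : ι → Ideal A) [∀ i, (𝔓 i).IsPrime]
    (h𝔓 : ∀ i, 𝔓 i ∈ (Ideal.span {π}).minimalPrimes) (h𝔓inj : Function.Injective 𝔓)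
    (h𝔓surj : ∀ 𝔔 ∈ (Ideal.span {π}).minimalPrimes, ∃ i, 𝔓 i = 𝔔)
    (M : Type u) [AddCommGroup M] [Module A M] [Module.Finite A M]
    (K : Set ι → Submodule A (M ⧸ Ideal.span {π} • (⊤ : Submodule A M)))
    (hK : ∀ T : Set ι, K T = ⨅ i ∈ T, LinearMap.ker
      (LocalizedModule.mkLinearMap (𝔓 i).primeCompl (M ⧸ Ideal.span {π} • (⊤ : Submodule A M))))
    (htf : K Set.univ = ⊥)
    (N : Set ι → Submodule A M)
    (hN : ∀ T : Set ι, N T = (K T).comap (Submodule.mkQ (Ideal.span {π} • (⊤ : Submodule A M))))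
    (Y : Set ι) :
    N Y ⊓ N Yᶜ = Ideal.span {π} • (⊤ : Submodule A M) ∧
    Submodule.map (N Y).subtype
      ((⨅ i ∈ Yᶜ, LinearMap.ker (LocalizedModule.mkLinearMap (𝔓 i).primeCompl
          (↥(N Y) ⧸ Ideal.span {π} • (⊤ : Submodule A ↥(N Y))))).comap
        (Submodule.mkQ (Ideal.span {π} • (⊤ : Submodule A ↥(N Y)))))
      = N Y ⊓ N Yᶜ := by
  classical
  have memker : ∀ (i : ι) {P : Type u} [AddCommGroup P] [Module A P] (x : P),
      x ∈ LinearMap.ker (LocalizedModule.mkLinearMap (𝔓 i).primeCompl P) ↔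
        ∃ s ∉ 𝔓 i, s • x = 0 := by
    intro i P _ _ x
    rw [LinearMap.mem_ker,
      IsLocalizedModule.eq_zero_iff (𝔓 i).primeCompl (LocalizedModule.mkLinearMap (𝔓 i).primeCompl P)]
    exact ⟨fun ⟨c, hc⟩ => ⟨c.1, c.2, hc⟩, fun ⟨s, hs, h⟩ => ⟨⟨s, hs⟩, h⟩⟩
  have memN : ∀ (T : Set ι) (x : M), x ∈ N T ↔
      ∀ i ∈ T, ∃ s ∉ 𝔓 i, s • x ∈ Ideal.span {π} • (⊤ : Submodule A M) := by
    intro T x
    simp only [hN, hK, Submodule.mem_comap, Submodule.mem_iInf, memker, ← map_smul,
      Submodule.mkQ_apply, Submodule.Quotient.mk_eq_zero, ← Submodule.Quotient.mk_smul]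
  have inter : N Y ⊓ N Yᶜ = Ideal.span {π} • (⊤ : Submodule A M) := by
    have hKK : K Y ⊓ K Yᶜ = ⊥ := by
      rw [← htf, hK, hK, hK, ← iInf_union, Set.union_compl_self]
    rw [hN, hN, ← Submodule.comap_inf, hKK, Submodule.comap_bot, Submodule.ker_mkQ]
  refine ⟨inter, le_antisymm ?_ ?_⟩
  · rintro _ ⟨⟨x, hx⟩, hx', rfl⟩
    refine ⟨hx, (memN _ _).2 fun i hi => ?_⟩
    simp only [SetLike.mem_coe, Submodule.mem_comap, Submodule.mem_iInf, memker] at hx'
    obtain ⟨s, hs, h⟩ := hx' i hi
    rw [← map_smul, Submodule.mkQ_apply, Submodule.Quotient.mk_eq_zero,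
      Submodule.ideal_span_singleton_smul] at h
    obtain ⟨y, -, hy⟩ := Submodule.mem_smul_pointwise_iff_exists _ _ _ |>.1 h
    refine ⟨s, hs, ?_⟩
    rw [Submodule.ideal_span_singleton_smul]
    exact Submodule.mem_smul_pointwise_iff_exists _ _ _ |>.2
      ⟨(y : M), trivial, congrArg Subtype.val hy⟩
  · intro x hx
    refine ⟨⟨x, hx.1⟩, ?_, rfl⟩
    simp only [SetLike.mem_coe, Submodule.mem_comap, Submodule.mem_iInf, memker]
    intro i hi
    rw [inter, Submodule.ideal_span_singleton_smul] at hx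
    obtain ⟨m, -, rfl⟩ := Submodule.mem_smul_pointwise_iff_exists _ _ _ |>.1 hx
    -- an element outside `𝔓 i` dying at every component in `Y`
    let J : ι → Ideal A := fun j =>
      { carrier := {a | ∃ t ∉ 𝔓 j, t * a ∈ Ideal.span {π}}
        zero_mem' := ⟨1, (Ideal.ne_top_iff_one _).1 (Ideal.IsPrime.ne_top inferInstance), by simp⟩
        add_mem' := by
          rintro a b ⟨s, hs, h⟩ ⟨t, ht, h'⟩
          refine ⟨s * t, fun hm => (Ideal.IsPrime.mem_or_mem inferInstance hm).elim hs ht, ?_⟩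
          rw [show s * t * (a + b) = t * (s * a) + s * (t * b) by ring]
          exact add_mem (Ideal.mul_mem_left _ _ h) (Ideal.mul_mem_left _ _ h')
        smul_mem' := by
          rintro c a ⟨s, hs, h⟩
          exact ⟨s, hs, by rw [smul_eq_mul, mul_left_comm]; exact Ideal.mul_mem_left _ _ h⟩ }
    have hJ : ∀ j ∈ Y, ¬ J j ≤ 𝔓 i := by
      intro j hj hle
      have hji : 𝔓 j ≤ 𝔓 i := by
        intro a ha
        by_contra hai
        have hdisj : ¬ Disjoint (Ideal.span {π} : Set A)
            ((𝔓 j).primeCompl ⊔ Submonoid.powers a : Submonoid A) := by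
          intro hd
          obtain ⟨Q, hQ, hQle, hQd⟩ := Ideal.exists_le_prime_disjoint _ _ hd
          have hle' : Q ≤ 𝔓 j := fun q hq => by
            by_contra h'
            exact Set.disjoint_left.1 hQd hq
              ((le_sup_left : (𝔓 j).primeCompl ≤ _) h')
          have haQ : a ∈ Q := (h𝔓 j).2 ⟨hQ, hQle⟩ hle' ha
          exact Set.disjoint_left.1 hQd haQ
            ((le_sup_right : Submonoid.powers a ≤ _) (Submonoid.mem_powers a))
        obtain ⟨q, hq, hq'⟩ := Set.not_disjoint_iff.1 hdisj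
        obtain ⟨t, ht, _, ⟨k, rfl⟩, rfl⟩ := Submonoid.mem_sup.1 hq'
        exact hai (Ideal.IsPrime.mem_of_pow_mem inferInstance k (hle ⟨t, ht, hq⟩))
      have : 𝔓 j = 𝔓 i :=
        le_antisymm hji ((h𝔓 i).2 ⟨inferInstance, (h𝔓 j).1.2⟩ hji)
      exact hi (h𝔓inj this ▸ hj)
    have : Fintype ι := Fintype.ofFinite ι
    have hnot : ¬ (Y.toFinset.inf J) ≤ 𝔓 i := fun h => by
      obtain ⟨j, hj, hjle⟩ := (Ideal.IsPrime.inf_le' inferInstance).1 h
      exact hJ j (Set.mem_toFinset.1 hj) hjle
    obtain ⟨s, hs, hsi⟩ := SetLike.not_le_iff_exists.1 hnot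
    have hsm : s • m ∈ N Y := (memN _ _).2 fun j hj => by
      obtain ⟨t, ht, h⟩ := Finset.inf_le (f := J) (Set.mem_toFinset.2 hj) hs
      refine ⟨t, ht, ?_⟩
      rw [smul_smul]
      exact Submodule.smul_mem_smul h trivial
    refine ⟨s, hsi, ?_⟩
    rw [← map_smul, Submodule.mkQ_apply, Submodule.Quotient.mk_eq_zero,
      Submodule.ideal_span_singleton_smul]
    exact Submodule.mem_smul_pointwise_iff_exists _ _ _ |>.2
      ⟨⟨s • m, hsm⟩, trivial, Subtype.ext (smul_comm π s m)⟩

end Groth.Agent.S18364
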