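import Groth.Statements.S18365
import Mathlib
-- import your own Groth.Agent.* helpers here

set_option autoImplicit false
set_option backward.isDefEq.respectTransparency.types false
universe u
open CAlg

namespace Groth.Agent.S18365

/-- Let A be a Noetherian ring, π an element of A, (𝔓_i)_{i ∈ ι} an injective finite family listing
exactly the minimal prime ideals over (π), and M a finitely generated A-module on which π acts
injectively; put M̄ = M/πM. For T ⊆ ι let K(T) ⊆ M̄ be the submodule of elements whose image in the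
localisation of M̄ at 𝔓_i vanishes for every i ∈ T, and N(T) ⊆ M its preimage; assume K(ι) = 0.
Suppose that M̄ decomposes at Y, i.e. K(Y) + K(Yᶜ) = M̄, and that for a subset Z the module
N(Y)/πN(Y) decomposes at Z, i.e. its submodule of elements vanishing at every 𝔓_i (i ∈ Z) and its
submodule of elements vanishing at every 𝔓_i (i ∉ Z) together span it. Then M̄ decomposes at Z: K(Z)
+ K(Zᶜ) = M̄. (Geometric meaning: for a flat family of curves over a discrete valuation ring with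
uniformizer π, I a torsion-free rank-one sheaf flat over the base, Y a subcurve of the special fibre
X(s) at which I(s) decomposes and I^Y = ker(I → I(s)_Y): if I^Y(s) decomposes at a subcurve Z then
so does I(s); decomposition of a sheaf at Z is the surjectivity of I(s) → I(s)_Z ⊕ I(s)_{Z^c},
checked on stalks. Reducedness of the special fibre and rank one are not used.) -/
theorem result
    (A : Type u) [CommRing A] [IsNoetherianRing A] (π : A)
    (ι : Type) [Finite ι] (𝔓 : ι → Ideal A) [∀ i, (𝔓 i).IsPrime]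
    (h𝔓 : ∀ i, 𝔓 i ∈ (Ideal.span {π}).minimalPrimes) (h𝔓inj : Function.Injective 𝔓)
    (h𝔓surj : ∀ 𝔔 ∈ (Ideal.span {π}).minimalPrimes, ∃ i, 𝔓 i = 𝔔)
    (M : Type u) [AddCommGroup M] [Module A M] [Module.Finite A M]
    (hπ : ∀ m : M, π • m = 0 → m = 0)
    (K : Set ι → Submodule A (M ⧸ Ideal.span {π} • (⊤ : Submodule A M)))
    (hK : ∀ T : Set ι, K T = ⨅ i ∈ T, LinearMap.ker
      (LocalizedModule.mkLinearMap (𝔓 i).primeCompl (M ⧸ Ideal.span {π} • (⊤ : Submodule A M))))
    (htf : K Set.univ = ⊥)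
    (N : Set ι → Submodule A M)
    (hN : ∀ T : Set ι, N T = (K T).comap (Submodule.mkQ (Ideal.span {π} • (⊤ : Submodule A M))))
    (Y Z : Set ι) (hY : K Y ⊔ K Yᶜ = ⊤)
    (K' : Set ι → Submodule A (↥(N Y) ⧸ Ideal.span {π} • (⊤ : Submodule A ↥(N Y))))
    (hK' : ∀ T : Set ι, K' T = ⨅ i ∈ T, LinearMap.ker
      (LocalizedModule.mkLinearMap (𝔓 i).primeCompl (↥(N Y) ⧸ Ideal.span {π} • (⊤ : Submodule A ↥(N Y)))))
    (hZ : K' Z ⊔ K' Zᶜ = ⊤) :
    K Z ⊔ K Zᶜ = ⊤ := by
  have hKmem : ∀ (T : Set ι) x, x ∈ K T ↔ ∀ i ∈ T, ∃ s : (𝔓 i).primeCompl, (s : A) • x = 0 := by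
    intro T x
    rw [hK]
    simp only [Submodule.mem_iInf, LinearMap.mem_ker]
    refine forall₂_congr fun i _ => ?_
    rw [IsLocalizedModule.eq_zero_iff (𝔓 i).primeCompl]
    rfl
  have hKmem' : ∀ (T : Set ι) x, x ∈ K' T ↔ ∀ i ∈ T, ∃ s : (𝔓 i).primeCompl, (s : A) • x = 0 := by
    intro T x
    rw [hK']
    simp only [Submodule.mem_iInf, LinearMap.mem_ker]
    refine forall₂_congr fun i _ => ?_
    rw [IsLocalizedModule.eq_zero_iff (𝔓 i).primeCompl]
    rfl
  have hinf : ∀ (T : Set ι) x, x ∈ K T → x ∈ K Tᶜ → x = 0 := by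
    intro T x h1 h2
    rw [← Submodule.mem_bot A, ← htf, hKmem]
    intro i _
    by_cases hi : i ∈ T
    · exact (hKmem T x).mp h1 i hi
    · exact (hKmem Tᶜ x).mp h2 i hi
  let φ : (↥(N Y) ⧸ (Ideal.span {π} • (⊤ : Submodule A ↥(N Y)))) →ₗ[A] M ⧸ (Ideal.span {π} • (⊤ : Submodule A M)) := Submodule.mapQ (Ideal.span {π} • (⊤ : Submodule A ↥(N Y))) (Ideal.span {π} • (⊤ : Submodule A M)) (N Y).subtype (by
    rw [Submodule.smul_le]
    exact fun r hr n _ => by
      rw [Submodule.mem_comap, map_smul]; exact Submodule.smul_mem_smul hr trivial)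
  have hπN : ∀ m : M, π • m ∈ N Y := fun m => by
    rw [hN, Submodule.mem_comap, Submodule.mkQ_apply,
      (Submodule.Quotient.mk_eq_zero (Ideal.span {π} • (⊤ : Submodule A M))).mpr (Submodule.smul_mem_smul (Ideal.mem_span_singleton_self π) trivial)]
    exact zero_mem _
  let ψ₀ : M →ₗ[A] ↥(N Y) :=
    { toFun := fun m => ⟨π • m, hπN m⟩
      map_add' := fun a b => Subtype.ext (smul_add π a b)
      map_smul' := fun c a => Subtype.ext (smul_comm π c a) }
  let ψ : (M ⧸ (Ideal.span {π} • (⊤ : Submodule A M))) →ₗ[A] ↥(N Y) ⧸ (Ideal.span {π} • (⊤ : Submodule A ↥(N Y))) := Submodule.mapQ (Ideal.span {π} • (⊤ : Submodule A M)) (Ideal.span {π} • (⊤ : Submodule A ↥(N Y))) ψ₀ (by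
    rw [Submodule.smul_le]
    exact fun r hr n _ => by
      rw [Submodule.mem_comap, map_smul]; exact Submodule.smul_mem_smul hr trivial)
  have hψker : ∀ x, ψ x = 0 ↔ x ∈ K Y := by
    intro x
    obtain ⟨m, rfl⟩ := Submodule.Quotient.mk_surjective _ x
    show Submodule.Quotient.mk (ψ₀ m) = 0 ↔ _
    rw [Submodule.Quotient.mk_eq_zero, Submodule.ideal_span_singleton_smul,
      Submodule.mem_smul_pointwise_iff_exists]
    constructor
    · rintro ⟨n, -, hn⟩
      have h1 : π • (n : M) = π • m := congrArg Subtype.val hn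
      have h2 : (n : M) = m := sub_eq_zero.mp (hπ _ (by rw [smul_sub, h1, sub_self]))
      have h3 : m ∈ N Y := h2 ▸ n.2
      rw [hN] at h3
      exact h3
    · intro hm
      exact ⟨⟨m, (hN Y).symm ▸ hm⟩, trivial, rfl⟩
  have hφψ : ∀ y, φ y = 0 → ∃ x, ψ x = y := by
    intro y hy
    obtain ⟨n, rfl⟩ := Submodule.Quotient.mk_surjective _ y
    have h1 : (n : M) ∈ (Ideal.span {π} • (⊤ : Submodule A M)) := (Submodule.Quotient.mk_eq_zero (Ideal.span {π} • (⊤ : Submodule A M))).mp hy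
    rw [Submodule.ideal_span_singleton_smul, Submodule.mem_smul_pointwise_iff_exists] at h1
    obtain ⟨m, -, hm⟩ := h1
    exact ⟨Submodule.Quotient.mk m, congrArg Submodule.Quotient.mk (Subtype.ext hm : ψ₀ m = n)⟩
  have hφK : ∀ T y, y ∈ K' T → φ y ∈ K T := by
    intro T y hy
    rw [hKmem]
    intro i hi
    obtain ⟨s, hs⟩ := (hKmem' T y).mp hy i hi
    exact ⟨s, by rw [← map_smul, hs, map_zero]⟩
  rw [eq_top_iff]
  rintro x -
  obtain ⟨x₁, hx₁, x₂, hx₂, rfl⟩ := Submodule.mem_sup.mp (hY.ge (Submodule.mem_top (x := x)))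
  refine add_mem ?_ ?_
  · obtain ⟨m, rfl⟩ := Submodule.Quotient.mk_surjective _ x₁
    have hm : m ∈ N Y := by rw [hN]; exact hx₁
    obtain ⟨a, ha, b, hb, hab⟩ := Submodule.mem_sup.mp
      (hZ.ge (Submodule.mem_top (x := Submodule.Quotient.mk (⟨m, hm⟩ : ↥(N Y)))))
    have : φ a + φ b = Submodule.Quotient.mk m := by rw [← map_add, hab]; rfl
    rw [← this]
    exact add_mem (Submodule.mem_sup_left (hφK Z a ha)) (Submodule.mem_sup_right (hφK Zᶜ b hb))
  · obtain ⟨a, ha, b, hb, hab⟩ := Submodule.mem_sup.mp (hZ.ge (Submodule.mem_top (x := ψ x₂)))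
    have hsum : φ a + φ b = 0 := by
      rw [← map_add, hab]
      obtain ⟨m, rfl⟩ := Submodule.Quotient.mk_surjective _ x₂
      exact (Submodule.Quotient.mk_eq_zero (Ideal.span {π} • (⊤ : Submodule A M))).mpr
        (Submodule.smul_mem_smul (Ideal.mem_span_singleton_self π) trivial)
    have hb' : φ b = -φ a := eq_neg_of_add_eq_zero_right hsum
    have ha0 : φ a = 0 := hinf Z _ (hφK Z a ha) (by
      rw [← neg_neg (φ a), ← hb']; exact neg_mem (hφK Zᶜ b hb))
    have key : ∀ (T : Set ι) y, y ∈ K' T → φ y = 0 → ∃ u ∈ K Yᶜ, u ∈ K T ∧ ψ u = y := by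
      intro T y hy hy0
      obtain ⟨u, rfl⟩ := hφψ y hy0
      obtain ⟨u₁, hu₁, u₂, hu₂, rfl⟩ := Submodule.mem_sup.mp (hY.ge (Submodule.mem_top (x := u)))
      have he : ψ (u₁ + u₂) = ψ u₂ := by rw [map_add, (hψker u₁).mpr hu₁, zero_add]
      refine ⟨u₂, hu₂, (hKmem T u₂).mpr fun i hi => ?_, he.symm⟩
      obtain ⟨s, hs⟩ := (hKmem' T _).mp hy i hi
      rw [he, ← map_smul, hψker] at hs
      exact ⟨s, hinf Y _ hs (Submodule.smul_mem _ _ hu₂)⟩
    obtain ⟨u, hu, huZ, rfl⟩ := key Z a ha ha0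
    obtain ⟨v, hv, hvZ, rfl⟩ := key Zᶜ b hb (by rw [hb', ha0, neg_zero])
    have : x₂ = u + v := sub_eq_zero.mp (hinf Y _ ((hψker _).mp (by rw [map_sub, map_add, hab, sub_self]))
      (sub_mem hx₂ (add_mem hu hv)))
    rw [this]
    exact add_mem (Submodule.mem_sup_left huZ) (Submodule.mem_sup_right hvZ)

end Groth.Agent.S18365
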