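import Groth.Statements.S18370


set_option autoImplicit false
universe u
open CategoryTheory CategoryTheory.Limits MonoidalCategory CartesianMonoidalCategory MonObj GrpObj AlgebraicGeometry
open GrpSch

namespace Groth.Agent.S18370

/-- Let S be a scheme and G a commutative S-group scheme which is killed by a natural number n, i.e. the
n-th power map of G is the trivial homomorphism, and let n = a·b with a and b coprime. If i_a : G_a
→ G and i_b : G_b → G are scheme-theoretic kernels of the a-th and b-th power maps of G, then the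
morphism G_a ×_S G_b → G sending (x, y) to i_a(x)·i_b(y) is an isomorphism of S-schemes. (The
published statement assumes n ≠ 0; the case n = 0, where {a, b} = {0, 1} and one kernel is all of G
while the other is trivial, is included here.) -/
theorem result {S : Scheme.{u}} (G Ga Gb : Over S)
    [GrpObj G] [IsCommMonObj G] (n a b : ℕ) (hn : n = a * b) (hab : Nat.Coprime a b)
    (hG : (𝟙 G) ^ n = 1)
    (ia : Ga ⟶ G) (hia : AlgGrp.IsKernel ia ((𝟙 G) ^ a))
    (ib : Gb ⟶ G) (hib : AlgGrp.IsKernel ib ((𝟙 G) ^ b)) :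
    IsIso ((fst Ga Gb ≫ ia) * (snd Ga Gb ≫ ib)) := by
  have hn' : ∀ {T : Over S} (x : T ⟶ G), x ^ n = 1 := fun x => by
    have h1 : x ≫ ((𝟙 G) ^ n) = x ≫ (1 : G ⟶ G) := by rw [hG]
    rwa [comp_pow, Category.comp_id, comp_one] at h1
  have hker : ∀ {N : Over S} (i : N ⟶ G) (m : ℕ), AlgGrp.IsKernel i ((𝟙 G) ^ m) →
      (∀ {T : Over S} (x : T ⟶ G), x ^ m = 1 → ∃! z : T ⟶ N, z ≫ i = x) ∧ i ^ m = 1 := by
    intro N i m hi
    have hw : i ^ m = 1 := by
      have := hi.w
      rwa [comp_pow, Category.comp_id, ← Hom.one_def] at this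
    refine ⟨fun x hx => ?_, hw⟩
    have hx' : x ≫ ((𝟙 G) ^ m) = toUnit _ ≫ η[G] := by
      rw [comp_pow, Category.comp_id, hx, Hom.one_def]
    refine ⟨hi.lift x (toUnit _) hx', hi.lift_fst _ _ _, fun z hz => hi.hom_ext ?_ (toUnit_unique _ _)⟩
    rw [hz, hi.lift_fst]
  obtain ⟨la, hia'⟩ := hker ia a hia
  obtain ⟨lb, hib'⟩ := hker ib b hib
  obtain ⟨u, v, huv⟩ : ∃ u v : ℤ, (a : ℤ) * u + (b : ℤ) * v = 1 := by
    exact ⟨Nat.gcdA a b, Nat.gcdB a b, by
      rw [← Nat.gcd_eq_gcd_ab, hab.gcd_eq_one]; rfl⟩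
  have pa : ((𝟙 G : G ⟶ G) ^ ((b : ℤ) * v)) ^ a = 1 := by
    rw [← zpow_natCast _ a, ← zpow_mul, show (b : ℤ) * v * a = (n : ℤ) * v by subst hn; push_cast; ring,
      zpow_mul, zpow_natCast, hn', one_zpow]
  have pb : ((𝟙 G : G ⟶ G) ^ ((a : ℤ) * u)) ^ b = 1 := by
    rw [← zpow_natCast _ b, ← zpow_mul, show (a : ℤ) * u * b = (n : ℤ) * u by subst hn; push_cast; ring,
      zpow_mul, zpow_natCast, hn', one_zpow]
  obtain ⟨za, hza, -⟩ := la _ pa
  obtain ⟨zb, hzb, -⟩ := lb _ pb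
  refine ⟨⟨lift za zb, ?_, ?_⟩⟩
  · set x := fst Ga Gb ≫ ia with hx
    set y := snd Ga Gb ≫ ib with hy
    have hxa : x ^ (a : ℤ) = 1 := by rw [zpow_natCast, hx, ← comp_pow, hia', comp_one]
    have hyb : y ^ (b : ℤ) = 1 := by rw [zpow_natCast, hy, ← comp_pow, hib', comp_one]
    have hxy : ∀ m : ℤ, (x * y) ≫ ((𝟙 G : G ⟶ G) ^ m) = (x * y) ^ m := fun m => by
      rw [comp_zpow, Category.comp_id]
    apply CartesianMonoidalCategory.hom_ext
    · rw [Category.assoc, lift_fst, Category.id_comp]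
      refine (la x (by rw [← zpow_natCast]; exact hxa)).unique ?_ hx.symm
      rw [Category.assoc, hza, hxy, mul_zpow, zpow_mul y, hyb, one_zpow, _root_.mul_one]
      have : x ^ ((b : ℤ) * v) = x ^ ((1 : ℤ) - (a : ℤ) * u) := by rw [← huv]; ring_nf
      rw [this, zpow_sub, zpow_one, zpow_mul, hxa, one_zpow, inv_one, _root_.mul_one]
    · rw [Category.assoc, lift_snd, Category.id_comp]
      refine (lb y (by rw [← zpow_natCast]; exact hyb)).unique ?_ hy.symm
      rw [Category.assoc, hzb, hxy, mul_zpow, zpow_mul x, hxa, one_zpow, _root_.one_mul]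
      have : y ^ ((a : ℤ) * u) = y ^ ((1 : ℤ) - (b : ℤ) * v) := by rw [← huv]; ring_nf
      rw [this, zpow_sub, zpow_one, zpow_mul, hyb, one_zpow, inv_one, _root_.mul_one]
  · rw [comp_mul, lift_fst_assoc, lift_snd_assoc, hza, hzb, ← zpow_add, add_comm, huv, zpow_one]

end Groth.Agent.S18370
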