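import Groth.Statements.S18375
import Groth.Agent.PhiStabLib.Tree

set_option autoImplicit false
universe u
open PhiStab

namespace Groth.Agent.S18375

open PhiStab in
/-- Let (V, E, ends) be a finite multigraph and T a set of edges forming a spanning tree (the spanning
subgraph with edge set T is connected and contains no circuit), b an integer and φ a nondegenerate
real weighting of the vertices with Σ_v φ v = b. Then there is a unique integer multidegree m for
which the sheaf datum (m, Tᶜ), not locally free exactly at the edges outside T, has total degree b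
and is φ-stable. This is the statement that a stable pointed curve with this dual graph carries a
φ-stable rank-1 torsion-free sheaf of degree g - 1 = b failing to be locally free exactly at the
nodes outside T, of uniquely determined multidegree, written for the combinatorial datum. -/
theorem result {V E : Type u} [Fintype V] [Fintype E] [DecidableEq V] [DecidableEq E]
    (ends : E → V × V) (T : Finset E)
    (hT : DualGr.IsTree (spanEnds ends T)) (b : ℤ) (φ : V → ℝ) (hφ : (∑ v : V, φ v) = (b : ℝ))
    (hnd : Nondegenerate ends φ) :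
    ∃! m : V → ℤ, totDeg m Tᶜ = b ∧ IsStable ends φ m Tᶜ := by
  classical
  obtain ⟨r⟩ := hT.1.1
  obtain ⟨m, hm, y, hy, hsl⟩ := Groth.Agent.PhiStabLib.exists_datum φ T r (hT.1.2 r) b hφ
  have hst : IsStable ends φ m Tᶜ := hnd m Tᶜ (by rw [hφ, hm]) fun A _ _ => by
    have h0 : 0 ≤ Groth.Agent.PhiStabLib.slack ends φ m Tᶜ A := by
      rw [hsl A]
      refine Finset.sum_nonneg fun e _ => ?_
      have := abs_le.mp (hy e)
      split_ifs with p q r <;> linarith
    simp only [Groth.Agent.PhiStabLib.slack] at h0
    linarith
  refine ⟨m, ⟨hm, hst⟩, fun m' hm' => ?_⟩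
  have key : ∀ μ : V → ℤ, totDeg μ Tᶜ = b → IsStable ends φ μ Tᶜ → ∀ e : {e // e ∈ T},
      0 < Groth.Agent.PhiStabLib.slack ends φ μ Tᶜ (side (spanEnds ends T) e) ∧
        Groth.Agent.PhiStabLib.slack ends φ μ Tᶜ (side (spanEnds ends T) e) < 1 := by
    intro μ hμ hμs e
    set S := side (spanEnds ends T) e with hS
    have h1 : (ends e.1).1 ∈ S := Groth.Agent.PhiStabLib.tail_mem_side (ends := spanEnds ends T) e
    have h2 : (ends e.1).2 ∉ S := Groth.Agent.PhiStabLib.head_notMem_side (ends := spanEnds ends T) hT.2 e
    have hne : S ≠ Finset.univ := fun h => h2 (Finset.eq_univ_iff_forall.mp h _)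
    have hA := hμs S ⟨_, h1⟩ hne
    have hB := hμs Sᶜ ⟨_, Finset.mem_compl.mpr h2⟩ (fun h =>
      Finset.mem_compl.mp (Finset.eq_univ_iff_forall.mp h _) h1)
    have hsum := Groth.Agent.PhiStabLib.slack_add_compl (ends := ends) φ μ Tᶜ (by rw [hφ, hμ]) S
    have hcard : (Finset.univ.filter fun f : E => f ∉ Tᶜ ∧ (((ends f).1 ∈ S ∧ (ends f).2 ∉ S) ∨
        ((ends f).1 ∉ S ∧ (ends f).2 ∈ S))) = {e.1} := by
      ext f
      simp only [Finset.mem_filter, Finset.mem_univ, true_and, Finset.mem_compl, not_not, Finset.mem_singleton]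
      constructor
      · rintro ⟨hf, hc⟩
        by_contra hne'
        have := Groth.Agent.PhiStabLib.side_iff (ends := spanEnds ends T) (e := e) (f := ⟨f, hf⟩)
          (fun h => hne' (congrArg Subtype.val h))
        simp only [spanEnds, ← hS] at this
        tauto
      · rintro rfl
        exact ⟨e.2, Or.inl ⟨h1, h2⟩⟩
    rw [hcard, Finset.card_singleton, Nat.cast_one] at hsum
    simp only [Groth.Agent.PhiStabLib.slack] at hsum ⊢
    constructor <;> linarith
  have hd : (fun v => ((m' v : ℝ) - (m v : ℝ))) = 0 := by
    refine Groth.Agent.PhiStabLib.eq_zero_of_sides hT _ ?_ fun e => ?_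
    · have h1 := hm'.1.trans hm.symm
      simp only [totDeg, add_left_inj] at h1
      rw [Finset.sum_sub_distrib, sub_eq_zero]
      exact_mod_cast h1
    · obtain ⟨a1, a2⟩ := key m hm hst e
      obtain ⟨b1, b2⟩ := key m' hm'.1 hm'.2 e
      simp only [Groth.Agent.PhiStabLib.slack_eq, Finset.sum_sub_distrib] at a1 a2 b1 b2
      rw [Finset.sum_sub_distrib]
      have hlt : |((∑ v ∈ side (spanEnds ends T) e, m' v) - ∑ v ∈ side (spanEnds ends T) e, m v : ℤ)| < 1 := by
        have : |((((∑ v ∈ side (spanEnds ends T) e, m' v) - ∑ v ∈ side (spanEnds ends T) e, m v : ℤ)) : ℝ)| < 1 := by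
          push_cast
          rw [abs_lt]
          constructor <;> linarith
        exact_mod_cast this
      have h0 := Int.abs_lt_one_iff.mp hlt
      exact_mod_cast h0
  funext v
  have := congrFun hd v
  simp only [Pi.zero_apply, sub_eq_zero] at this
  exact_mod_cast this

end Groth.Agent.S18375
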