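import Groth.Statements.S18376
import Groth.Agent.PhiStabLib.Basic

set_option autoImplicit false
universe u
open PhiStab

namespace Groth.Agent.S18376

open PhiStab in
/-- Let (V, E, ends) be a connected finite multigraph, b an integer, and φ₁, φ₂ real weightings of the
vertices with Σ_v φ₁ v = Σ_v φ₂ v = b, φ₁ nondegenerate. Then every φ₁-stable sheaf datum (m, N) of
total degree b is φ₂-semistable if and only if φ₂ lies in the closed stability polytope of φ₁, that
is, for every elementary vertex set S and every integer d with d - Σ_{v ∈ S} φ₁ v + cut S / 2 > 0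
one has d - Σ_{v ∈ S} φ₂ v + cut S / 2 ≥ 0. Membership in the closure of the polytope is expressed
by this half-space condition, the form in which the source's proof uses it; the sheaves of degree g
- 1 = b on stable pointed curves with this dual graph enter through their combinatorial data. -/
theorem result {V E : Type u} [Fintype V] [Fintype E] [DecidableEq V] [DecidableEq E]
    (ends : E → V × V)
    (hconn : LabGraph.Connected ends) (b : ℤ) (φ₁ φ₂ : V → ℝ) (h₁ : (∑ v : V, φ₁ v) = (b : ℝ))
    (h₂ : (∑ v : V, φ₂ v) = (b : ℝ)) (hnd : Nondegenerate ends φ₁) :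
    (∀ (m : V → ℤ) (N : Finset E), totDeg m N = b → IsStable ends φ₁ m N → IsSemistable ends φ₂ m N) ↔
      InClosedPolytope ends φ₁ φ₂ := by
  classical
  have hell : ∀ (φ : V → ℝ) (m : V → ℤ) (N : Finset E) (S : Finset V),
      ell ends S (degOn ends m N S) φ = Groth.Agent.PhiStabLib.slack ends φ m N S := by
    intro φ m N S; simp only [ell, Groth.Agent.PhiStabLib.slack]; ring
  have hel : ∀ S : Finset V, IsElementary ends S → S.Nonempty ∧ S ≠ Finset.univ := by
    rintro S ⟨⟨⟨v⟩, -⟩, ⟨⟨w⟩, -⟩⟩
    refine ⟨⟨v.1, v.2⟩, fun h => ?_⟩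
    have := Finset.mem_compl.mp w.2
    exact this (Finset.eq_univ_iff_forall.mp h _)
  constructor
  · intro h S hS d hd
    obtain ⟨hSne, hSu⟩ := hel S hS
    have hc := (Groth.Agent.PhiStabLib.connected_indEnds_iff S).mp hS.1
    have hc' := (Groth.Agent.PhiStabLib.connected_indEnds_iff Sᶜ).mp hS.2
    obtain ⟨s, hs⟩ := hSne
    obtain ⟨w, hw⟩ := hc'.1
    have hcross : ∃ e : E, ((ends e).1 ∈ S ∧ (ends e).2 ∉ S) ∨ ((ends e).1 ∉ S ∧ (ends e).2 ∈ S) := by
      by_contra hno
      push Not at hno
      have key : ∀ z, Relation.ReflTransGen (LabGraph.Adj ends) s z → z ∈ S := by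
        intro z hz
        induction hz with
        | refl => exact hs
        | tail _ hst ih =>
          obtain ⟨e, he⟩ := hst
          have := hno e
          rcases he with he | he <;> simp only [he] at this <;> tauto
      exact Finset.mem_compl.mp hw (key w (hconn.2 s w))
    obtain ⟨e₀, he₀⟩ := hcross
    let T : Finset E := inner ends S ∪ inner ends Sᶜ ∪ {e₀}
    have hlift : ∀ (X : Finset V), inner ends X ⊆ T → ∀ a b, Groth.Agent.PhiStabLib.RIn ends X a b →
        Relation.ReflTransGen (LabGraph.Adj (spanEnds ends T)) a b := by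
      intro X hX a b hab
      refine Relation.ReflTransGen.mono (fun p q hpq => ?_) _ _ hab
      obtain ⟨⟨e, he⟩, hp, hq⟩ := hpq
      refine ⟨⟨e, hX ?_⟩, he⟩
      rcases he with he | he <;> simp [PhiStab.inner, he, hp, hq]
    have h1 := hlift S (fun e he => by simp [T, he])
    have h2 := hlift Sᶜ (fun e he => by simp [T, he])
    have hT : ∀ v, Relation.ReflTransGen (LabGraph.Adj (spanEnds ends T)) s v := by
      intro v
      by_cases hv : v ∈ S
      · exact h1 s v (hc.2 s hs v hv)
      have hv' := Finset.mem_compl.mpr hv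
      rcases he₀ with ⟨ha, hb⟩ | ⟨ha, hb⟩
      · exact ((h1 _ _ (hc.2 s hs _ ha)).tail (c := (ends e₀).2) ⟨⟨e₀, by simp [T]⟩, Or.inl rfl⟩).trans
          (h2 _ _ (hc'.2 _ (Finset.mem_compl.mpr hb) v hv'))
      · exact ((h1 _ _ (hc.2 s hs _ hb)).tail (c := (ends e₀).1) ⟨⟨e₀, by simp [T]⟩, Or.inr rfl⟩).trans
          (h2 _ _ (hc'.2 _ (Finset.mem_compl.mpr ha) v hv'))
    obtain ⟨m, hm, y, hy, hsl⟩ := Groth.Agent.PhiStabLib.exists_datum φ₁ T s hT b h₁
    have hdeg : (∑ v, φ₁ v) = (totDeg m Tᶜ : ℝ) := by rw [h₁, hm]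
    have hss : IsSemistable ends φ₁ m Tᶜ := by
      intro A _ _
      have h0 : 0 ≤ Groth.Agent.PhiStabLib.slack ends φ₁ m Tᶜ A := by
        rw [hsl A]
        refine Finset.sum_nonneg fun e _ => ?_
        have := abs_le.mp (hy e)
        split_ifs with p q r <;> linarith
      simp only [Groth.Agent.PhiStabLib.slack] at h0
      linarith
    have hst : IsStable ends φ₁ m Tᶜ := hnd m Tᶜ hdeg hss
    have hle : Groth.Agent.PhiStabLib.slack ends φ₁ m Tᶜ S ≤ 1 := by
      rw [hsl S, Finset.sum_eq_single e₀]
      · have := abs_le.mp (hy e₀)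
        split_ifs with p q r <;> linarith
      · intro e he hne
        rw [if_neg]
        simp only [T, Finset.mem_union, Finset.mem_singleton, hne, or_false, PhiStab.inner, Finset.mem_filter,
          Finset.mem_univ, true_and, Finset.mem_compl] at he
        tauto
      · intro hn; exact absurd (by simp [T]) hn
    have hfin := h m Tᶜ hm hst S (hel S hS).1 hSu
    have h3 : degOn ends m Tᶜ S ≤ d := by
      have : (degOn ends m Tᶜ S : ℝ) < (d : ℝ) + 1 := by
        simp only [Groth.Agent.PhiStabLib.slack] at hle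
        simp only [ell] at hd
        linarith
      exact_mod_cast Int.lt_add_one_iff.mp (by exact_mod_cast this)
    have h4 : (degOn ends m Tᶜ S : ℝ) ≤ (d : ℝ) := by exact_mod_cast h3
    simp only [ell]
    linarith
  · intro h m N hm hst A hA hA'
    by_contra hcon
    have hdeg : (∑ v, φ₂ v) = (totDeg m N : ℝ) := by rw [h₂, hm]
    obtain ⟨T, hT, hTb⟩ := Groth.Agent.PhiStabLib.exists_bad_elementary φ₂ m N hconn hdeg (fun a => a < 0)
      (fun a b hab => by by_contra h'; push Not at h'; linarith [h'.1, h'.2]) hA hA'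
      (by simp only [Groth.Agent.PhiStabLib.slack]; linarith)
    have h1 := hst T (hel T hT).1 (hel T hT).2
    have h2 := h T hT (degOn ends m N T) (by simp only [ell]; linarith)
    rw [hell] at h2
    linarith

end Groth.Agent.S18376
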