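import Groth.Statements.S18377
import Groth.Agent.Verlinde.Dual

set_option autoImplicit false
open Complex
open VerlindeComb

namespace Groth.Agent.S18377

/-- Let r, k ≥ 1 be integers and v_1 > v_2 > ⋯ > v_r ≥ 0 integers below r + k; put z_j = exp(2πi v_j /
(r + k)) and, for μ = (μ_1, …, μ_r), let S_μ(z) = det(z_j^{μ_i + r - i}) / det(z_j^{r - i}) be the
value of the Schur polynomial (the z_j are distinct, so the Vandermonde denominator is nonzero).
Then, summing over all μ with k > μ_1 ≥ ⋯ ≥ μ_r ≥ 0 and writing μ* = (k - μ_r, …, k - μ_1), one has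
Σ_μ S_μ(z) S_{μ*}(z) = exp(2πi k (v_1 + ⋯ + v_r) / (r + k)) · k (r + k)^{r-1} / ∏_{i<j} (2 sin(π
(v_i - v_j) / (r + k)))². Indices are 0-based below: μ i stands for μ_{i+1}. -/
theorem result (r k : ℕ) (hr : 1 ≤ r) (hk : 1 ≤ k)
    (v : Fin r → ℕ) (hv : StrictAnti v) (hvlt : ∀ i, v i < r + k)
    (z : Fin r → ℂ) (hz : ∀ j, z j = Complex.exp (2 * Real.pi * Complex.I * (v j : ℂ) / ((r : ℂ) + k)))
    (S : (Fin r → ℕ) → ℂ)
    (hS : ∀ μ : Fin r → ℕ, S μ =
      (Matrix.of fun i j : Fin r => z j ^ (μ i + (r - 1 - (i : ℕ)))).det /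
        (Matrix.of fun i j : Fin r => z j ^ (r - 1 - (i : ℕ))).det) :
    (∑ μ ∈ (Finset.univ : Finset (Fin r → Fin k)).filter (fun μ : Fin r → Fin k => Antitone μ),
        S (fun i => (μ i : ℕ)) * S (fun i => k - (μ (Fin.rev i) : ℕ))) =
      Complex.exp (2 * Real.pi * Complex.I * (k : ℂ) * ((∑ j, v j : ℕ) : ℂ) / ((r : ℂ) + k)) *
        ((k : ℂ) * ((r : ℂ) + k) ^ (r - 1)) /
        (∏ p ∈ (Finset.univ : Finset (Fin r × Fin r)).filter (fun p => p.1 < p.2),
          (((2 : ℝ) * Real.sin (Real.pi * ((v p.1 : ℝ) - (v p.2 : ℝ)) / ((r : ℝ) + k))) ^ 2 : ℝ) : ℂ) := by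
  have : NeZero (r + k) := ⟨by omega⟩
  set n := r + k with hn
  have hnc : (r : ℂ) + k = (n : ℂ) := by rw [hn]; push_cast; ring
  have hnr : (r : ℝ) + k = (n : ℝ) := by rw [hn]; push_cast; ring
  let vF : Fin r → Fin n := fun j => ⟨v j, hvlt j⟩
  have hvF : Function.Injective vF := fun i j h => hv.injective (congrArg Fin.val h)
  set w : Fin r → ZMod n := fun j => (v j : ZMod n) with hw
  have hwi : Function.Injective w := fun i j h => hvF (Verlinde.cls_inj h)
  have hcls : Verlinde.cls vF = w := rfl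
  have hD : Verlinde.D (Verlinde.del n r) w ≠ 0 := hcls ▸ Verlinde.D_del_ne_zero hvF
  have hzc : ∀ j, z j = ZMod.stdAddChar ((v j : ℕ) : ZMod n) := fun j => by
    rw [hz, Verlinde.char_natCast, hnc]
  have hP := Verlinde.sin_prod (n := n) v
  rw [Verlinde.D_neg_del] at hP
  rw [hnr, ← Complex.ofReal_prod, hP]
  let f : (Fin r → ℕ) → ℂ := fun a => Verlinde.G w (-w) 0 (fun i => (a i : ZMod n))
  set sg : ℂ := ((Equiv.Perm.sign (Fin.revPerm : Equiv.Perm (Fin r)) : ℤ) : ℂ) with hsg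
  have hterm : ∀ μ : Fin r → Fin k, S (fun i => (μ i : ℕ)) * S (fun i => k - (μ (Fin.rev i) : ℕ)) =
      sg * ZMod.stdAddChar (-∑ j, w j) / (Verlinde.D (Verlinde.del n r) w) ^ 2 *
        f (fun i => (μ i : ℕ) + (r - 1 - (i : ℕ))) := by
    intro μ
    rw [hS, hS, Verlinde.schur_eq z v hzc, Verlinde.schur_eq z v hzc,
      Verlinde.D_dual hn (fun i => (μ i : ℕ)) (fun i => (μ i).isLt.le)]
    simp only [f, Verlinde.G, neg_zero, zero_mul, AddChar.map_zero_eq_one, one_mul]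
    rw [Verlinde.D_comm (Verlinde.expo n r fun i => (μ i : ℕ)),
      Verlinde.D_comm (Verlinde.expo n r fun i => (μ i : ℕ))]
    rw [← hw, hsg]
    unfold Verlinde.expo
    ring
  have hsum : ∑ μ ∈ (Finset.univ : Finset (Fin r → Fin k)).filter
      (fun μ : Fin r → Fin k => Antitone μ), f (fun i => (μ i : ℕ) + (r - 1 - (i : ℕ))) =
      (k : ℂ) * (n : ℂ) ^ (r - 1) := by
    rw [Verlinde.sum_antitone (n := n) (by omega) f, Finset.sum_filter]
    have h := Verlinde.sum_avoid w hwi ((n - 1 : ℕ) : ZMod n)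
    refine (Finset.sum_congr rfl fun u _ => ?_).trans (h.trans ?_)
    · refine if_congr (forall_congr' fun i => ?_) rfl rfl
      have hi := (u i).isLt
      constructor
      · intro hlt he
        have := congrArg ZMod.val he
        rw [Verlinde.cls_apply, ZMod.val_natCast_of_lt hi, ZMod.val_natCast_of_lt (by omega)] at this
        omega
      · intro hne
        rcases Nat.lt_or_ge ((u i : ℕ) + 1) n with h' | h'
        · omega
        · exfalso
          refine hne ?_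
          rw [Verlinde.cls_apply, show (u i : ℕ) = n - 1 by omega]
    · have hn0 : (n : ℂ) ≠ 0 := Nat.cast_ne_zero.2 (NeZero.ne n)
      obtain ⟨q, hq⟩ : ∃ q, r = q + 1 := ⟨r - 1, by omega⟩
      rw [div_eq_iff hn0, hq, Nat.add_sub_cancel, hn, hq]
      push_cast
      ring
  rw [Finset.sum_congr rfl fun μ _ => hterm μ, ← Finset.mul_sum, hsum, hnc]
  have hk' : (ZMod.stdAddChar (-∑ j, w j) : ℂ) *
      ZMod.stdAddChar (-((r - 1 : ℕ) : ZMod n) * ∑ j, w j) =
      Complex.exp (2 * Real.pi * Complex.I * (k : ℂ) * ((∑ j, v j : ℕ) : ℂ) / (n : ℂ)) := by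
    have h0 : ((r - 1 : ℕ) : ZMod n) + 1 + (k : ZMod n) = 0 := by
      have h1 : r - 1 + 1 + k = n := by omega
      have h2 := congrArg (fun x : ℕ => (x : ZMod n)) h1
      simpa using h2
    rw [← AddChar.map_add_eq_mul,
      show -∑ j, w j + -((r - 1 : ℕ) : ZMod n) * ∑ j, w j = ((k * ∑ j, v j : ℕ) : ZMod n) by
        rw [hw]; push_cast; linear_combination -(∑ j, (v j : ZMod n)) * h0,
      Verlinde.char_natCast]
    congr 1
    push_cast
    ring
  have hsg2 : sg * sg = 1 := by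
    rcases Int.units_eq_one_or (Equiv.Perm.sign (Fin.revPerm : Equiv.Perm (Fin r))) with h | h <;>
      simp [hsg, h]
  rw [← hk']
  have hc : (ZMod.stdAddChar (-((r - 1 : ℕ) : ZMod n) * ∑ j, w j) : ℂ) ≠ 0 :=
    (AddChar.val_isUnit _ _).ne_zero
  have hs0 : sg ≠ 0 := fun h => by simp [h] at hsg2
  simp only [hw] at hD hc ⊢
  field_simp
  linear_combination ((k : ℂ) * (n : ℂ) ^ (r - 1) * (ZMod.stdAddChar (-∑ j, w j) : ℂ)) * hsg2

end Groth.Agent.S18377
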