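import Groth.Statements.S18378
import Groth.Agent.Verlinde.Dual

set_option autoImplicit false
open Complex
open VerlindeComb

namespace Groth.Agent.S18378

/-- Let r, k ≥ 1 be integers and v, v' two integer vectors with r + k > v_1 > ⋯ > v_r ≥ 0 and r + k >
v'_1 > ⋯ > v'_r ≥ 0 whose difference v - v' is not a constant vector (a, …, a). Put z_j = exp(2πi
v_j / (r + k)), z'_j = exp(2πi v'_j / (r + k)), let S_μ(w) = det(w_j^{μ_i + r - i}) / det(w_j^{r -
i}) be the Schur value at w = z or z', and write |x| for the sum of the coordinates of a vector and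
μ* = (k - μ_r, …, k - μ_1). Then the sum over all μ with k ≥ μ_1 ≥ ⋯ ≥ μ_{r-1} ≥ μ_r = 0 of exp(-2πi
|μ| |v| / (r (r + k))) · exp(-2πi |μ*| |v'| / (r (r + k))) · S_μ(z) · S_{μ*}(z') is zero. The
vanishing is the orthogonality of distinct characters and holds exactly for non-equivalent v, v';
for v - v' constant the sum is nonzero. Indices are 0-based below: μ i stands for μ_{i+1}. -/
theorem result (r k : ℕ) (hr : 1 ≤ r)
    (hk : 1 ≤ k) (v v' : Fin r → ℕ) (hv : StrictAnti v) (hvlt : ∀ i, v i < r + k) (hv' : StrictAnti v')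
    (hv'lt : ∀ i, v' i < r + k) (hne : ¬ ∃ a : ℤ, ∀ i, (v i : ℤ) - (v' i : ℤ) = a)
    (z z' : Fin r → ℂ) (hz : ∀ j, z j = Complex.exp (2 * Real.pi * Complex.I * (v j : ℂ) / ((r : ℂ) + k)))
    (hz' : ∀ j, z' j = Complex.exp (2 * Real.pi * Complex.I * (v' j : ℂ) / ((r : ℂ) + k)))
    (S S' : (Fin r → ℕ) → ℂ)
    (hS : ∀ μ : Fin r → ℕ, S μ =
      (Matrix.of fun i j : Fin r => z j ^ (μ i + (r - 1 - (i : ℕ)))).det /
        (Matrix.of fun i j : Fin r => z j ^ (r - 1 - (i : ℕ))).det)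
    (hS' : ∀ μ : Fin r → ℕ, S' μ =
      (Matrix.of fun i j : Fin r => z' j ^ (μ i + (r - 1 - (i : ℕ)))).det /
        (Matrix.of fun i j : Fin r => z' j ^ (r - 1 - (i : ℕ))).det) :
    (∑ μ ∈ (Finset.univ : Finset (Fin r → Fin (k + 1))).filter
        (fun μ : Fin r → Fin (k + 1) => Antitone μ ∧ ∀ i : Fin r, (i : ℕ) = r - 1 → (μ i : ℕ) = 0),
      Complex.exp (-(2 * Real.pi * Complex.I * ((∑ i, (μ i : ℕ) : ℕ) : ℂ) * ((∑ j, v j : ℕ) : ℂ) /
          ((r : ℂ) * ((r : ℂ) + k)))) *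
      Complex.exp (-(2 * Real.pi * Complex.I * ((∑ i, (k - (μ (Fin.rev i) : ℕ)) : ℕ) : ℂ) *
          ((∑ j, v' j : ℕ) : ℂ) / ((r : ℂ) * ((r : ℂ) + k)))) *
      S (fun i => (μ i : ℕ)) * S' (fun i => k - (μ (Fin.rev i) : ℕ))) = 0 := by
  obtain ⟨p, rfl⟩ : ∃ p, r = p + 2 := by
    refine ⟨r - 2, ?_⟩
    by_contra hcon
    obtain rfl : r = 1 := by omega
    exact hne ⟨(v 0 : ℤ) - v' 0, fun i => by rw [Subsingleton.elim i 0]⟩
  have : NeZero (p + 2 + k) := ⟨by omega⟩
  set n := p + 2 + k with hn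
  have hnc : ((p + 2 : ℕ) : ℂ) + k = (n : ℂ) := by rw [hn]; push_cast; ring
  set a : Fin (p + 2) → ZMod n := fun j => (v j : ZMod n) with ha
  set a' : Fin (p + 2) → ZMod n := fun j => (v' j : ZMod n) with ha'
  let vF : Fin (p + 2) → Fin n := fun j => ⟨v j, hvlt j⟩
  let vF' : Fin (p + 2) → Fin n := fun j => ⟨v' j, hv'lt j⟩
  have hcls : Verlinde.cls vF = a := rfl
  have hcls' : Verlinde.cls vF' = a' := rfl
  have hD : Verlinde.D (Verlinde.del n (p + 2)) a ≠ 0 := hcls ▸ Verlinde.D_del_ne_zero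
    (v := vF) (fun i j h => hv.injective (congrArg Fin.val h))
  have hD' : Verlinde.D (Verlinde.del n (p + 2)) a' ≠ 0 := hcls' ▸ Verlinde.D_del_ne_zero
    (v := vF') (fun i j h => hv'.injective (congrArg Fin.val h))
  have hzc : ∀ j, z j = ZMod.stdAddChar ((v j : ℕ) : ZMod n) := fun j => by
    rw [hz, Verlinde.char_natCast, hnc]
  have hzc' : ∀ j, z' j = ZMod.stdAddChar ((v' j : ℕ) : ZMod n) := fun j => by
    rw [hz', Verlinde.char_natCast, hnc]
  obtain ⟨N, hN⟩ : ∃ N, (p + 2) * n = N + 1 := ⟨(p + 2) * n - 1, by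
    have : 0 < (p + 2) * n := Nat.mul_pos (by omega) (by omega)
    omega⟩
  set V := ∑ j, v j with hV
  set V' := ∑ j, v' j with hV'
  set A := V + N * V' with hA
  set C := ∑ i : Fin (p + 2), (p + 2 - 1 - (i : ℕ)) with hC
  have hAz : ∑ i, a i + ∑ i, (-a') i = (A : ZMod n) := by
    have h1 : ((N : ℕ) : ZMod n) + 1 = 0 := by
      have h2 := congrArg (fun x : ℕ => (x : ZMod n)) hN
      simpa using h2.symm
    simp only [Pi.neg_apply, Finset.sum_neg_distrib, hA, hV, hV', ha, ha']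
    push_cast
    linear_combination -(∑ j, (v' j : ZMod n)) * h1
  let f : (Fin (p + 2) → ℕ) → ℂ := fun x =>
    if ∀ i : Fin (p + 2), (i : ℕ) = p + 2 - 1 → x i = 0 then
      Complex.exp (-(2 * Real.pi * Complex.I * A * ((∑ j, x j : ℕ) : ℂ) /
        (((p + 2 : ℕ) : ℂ) * n))) * Verlinde.D a (fun i => (x i : ZMod n)) *
        Verlinde.D (-a') (fun i => (x i : ZMod n)) else 0
  set K : ℂ := Complex.exp (-(2 * Real.pi * Complex.I * (((p + 2 : ℕ) : ℂ) * k * V' - C * ((V : ℂ) - V')) /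
        (((p + 2 : ℕ) : ℂ) * n))) *
      (((Equiv.Perm.sign (Fin.revPerm : Equiv.Perm (Fin (p + 2))) : ℤ) : ℂ) *
        ZMod.stdAddChar (-∑ j, a' j)) /
      (Verlinde.D (Verlinde.del n (p + 2)) a * Verlinde.D (Verlinde.del n (p + 2)) a') with hK
  have hterm : ∀ μ : Fin (p + 2) → Fin (k + 1),
      (∀ i : Fin (p + 2), (i : ℕ) = p + 2 - 1 → (μ i : ℕ) = 0) →
      Complex.exp (-(2 * Real.pi * Complex.I * ((∑ i, (μ i : ℕ) : ℕ) : ℂ) * ((V : ℕ) : ℂ) /
          (((p + 2 : ℕ) : ℂ) * (((p + 2 : ℕ) : ℂ) + k)))) *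
      Complex.exp (-(2 * Real.pi * Complex.I * ((∑ i, (k - (μ (Fin.rev i) : ℕ)) : ℕ) : ℂ) *
          ((V' : ℕ) : ℂ) / (((p + 2 : ℕ) : ℂ) * (((p + 2 : ℕ) : ℂ) + k)))) *
      S (fun i => (μ i : ℕ)) * S' (fun i => k - (μ (Fin.rev i) : ℕ)) =
      K * f (fun i => (μ i : ℕ) + (p + 2 - 1 - (i : ℕ))) := by
    intro μ h0
    rw [hS, hS', Verlinde.schur_eq z v hzc, Verlinde.schur_eq z' v' hzc',
      Verlinde.D_dual hn (fun i => (μ i : ℕ)) (fun i => Nat.lt_succ_iff.1 (μ i).isLt)]
    simp only [f]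
    rw [if_pos (fun i hi => by rw [h0 i hi, hi]; omega)]
    rw [Verlinde.D_comm (Verlinde.expo n (p + 2) fun i => (μ i : ℕ)),
      Verlinde.D_comm (Verlinde.expo n (p + 2) fun i => (μ i : ℕ))]
    set m := ∑ i, (μ i : ℕ) with hm
    have hdual : (((∑ i, (k - (μ (Fin.rev i) : ℕ))) : ℕ) : ℂ) = ((p + 2 : ℕ) : ℂ) * k - m := by
      rw [eq_sub_iff_add_eq, ← Nat.cast_add, ← Nat.cast_mul]
      congr 1
      rw [hm, ← Equiv.sum_comp Fin.revPerm (fun i => (μ i : ℕ)), ← Finset.sum_add_distrib]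
      rw [Finset.sum_congr rfl (g := fun _ => k) fun i _ => ?_]
      · simp
      · have := (μ (Fin.rev i)).isLt
        simp only [Fin.revPerm_apply]
        omega
    have hx : ((∑ j : Fin (p + 2), ((μ j : ℕ) + (p + 2 - 1 - (j : ℕ))) : ℕ) : ℂ) = (m : ℂ) + C := by
      rw [Finset.sum_add_distrib, Nat.cast_add]
    have hexp : Complex.exp (-(2 * Real.pi * Complex.I * (m : ℂ) * (V : ℂ) /
          (((p + 2 : ℕ) : ℂ) * (n : ℂ)))) *
        Complex.exp (-(2 * Real.pi * Complex.I * (((p + 2 : ℕ) : ℂ) * k - m) *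
          (V' : ℂ) / (((p + 2 : ℕ) : ℂ) * (n : ℂ)))) =
        Complex.exp (-(2 * Real.pi * Complex.I * (((p + 2 : ℕ) : ℂ) * k * V' - C * ((V : ℂ) - V')) /
          (((p + 2 : ℕ) : ℂ) * n))) *
        Complex.exp (-(2 * Real.pi * Complex.I * A * ((m : ℂ) + C) /
          (((p + 2 : ℕ) : ℂ) * n))) := by
      rw [← Complex.exp_add, ← Complex.exp_add, Complex.exp_eq_exp_iff_exists_int]
      refine ⟨((V' * (m + C) : ℕ) : ℤ), ?_⟩
      have hN' : (N : ℂ) = ((p + 2 : ℕ) : ℂ) * (n : ℂ) - 1 := by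
        rw [eq_sub_iff_add_eq, ← Nat.cast_mul, hN, Nat.cast_add, Nat.cast_one]
      have h1 : (n : ℂ) ≠ 0 := Nat.cast_ne_zero.2 (NeZero.ne n)
      have h2 : ((p + 2 : ℕ) : ℂ) ≠ 0 := Nat.cast_ne_zero.2 (by omega)
      rw [hA]
      push_cast
      rw [hN']
      push_cast at h2 ⊢
      field_simp
      ring
    rw [hx, hdual, hnc, hexp, hK, ← ha, ← ha']
    unfold Verlinde.expo
    ring
  rw [Finset.sum_congr rfl fun μ hμ => hterm μ (Finset.mem_filter.1 hμ).2.2, ← Finset.mul_sum]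
  refine mul_eq_zero_of_right _ ?_
  have hred : ∑ μ ∈ (Finset.univ : Finset (Fin (p + 2) → Fin (k + 1))).filter
      (fun μ : Fin (p + 2) → Fin (k + 1) => Antitone μ ∧
        ∀ i : Fin (p + 2), (i : ℕ) = p + 2 - 1 → (μ i : ℕ) = 0),
        f (fun i => (μ i : ℕ) + (p + 2 - 1 - (i : ℕ))) =
      ∑ u ∈ Verlinde.idx n (p + 2), Verlinde.tw A a (-a') u := by
    calc _ = ∑ μ ∈ (Finset.univ : Finset (Fin (p + 2) → Fin (k + 1))).filter
          (fun μ : Fin (p + 2) → Fin (k + 1) => Antitone μ),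
          f (fun i => (μ i : ℕ) + (p + 2 - 1 - (i : ℕ))) := by
          rw [← Finset.filter_filter, Finset.sum_filter]
          refine Finset.sum_congr rfl fun μ _ => ?_
          split_ifs with h
          · rfl
          · simp only [f]
            rw [if_neg]
            exact fun h' => h fun i hi => by have := h' i hi; omega
      _ = _ := by
          rw [Verlinde.sum_antitone (n := n) (by omega) f, Verlinde.idx,
            ← Finset.filter_filter (p := fun u : Fin (p + 2) → Fin n => StrictAnti u),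
            Finset.sum_filter, Finset.sum_filter (p := fun u : Fin (p + 2) → Fin n =>
              ∀ i : Fin (p + 2), (i : ℕ) = p + 2 - 1 → (u i : ℕ) = 0)]
          refine Finset.sum_congr rfl fun u _ => ?_
          rw [if_pos fun i => by have := (u i).isLt; omega]
          rfl
  rw [hred]
  by_cases hdvd : (p + 2) ∣ A
  swap
  · exact Verlinde.sum_tw_eq_zero A a (-a') hAz hdvd
  obtain ⟨m, hm⟩ := hdvd
  have htw : ∀ u ∈ Verlinde.idx n (p + 2),
      Verlinde.tw A a (-a') u = Verlinde.G a (-a') (m : ZMod n) (Verlinde.cls u) := by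
    intro u _
    have : ∑ j, Verlinde.cls u j = (((∑ j, (u j : ℕ)) : ℕ) : ZMod n) := by
      push_cast; rfl
    rw [Verlinde.tw, Verlinde.G, this, neg_mul, ← Nat.cast_mul (α := ZMod n), AddChar.map_neg_eq_inv,
      Verlinde.char_natCast, ← Complex.exp_neg, hm]
    congr 3
    have h2 : ((p + 2 : ℕ) : ℂ) ≠ 0 := Nat.cast_ne_zero.2 (by omega)
    push_cast
    push_cast at h2
    field_simp
  rw [Finset.sum_congr rfl htw]
  have hzero : ∑ w : Fin (p + 2) → ZMod n, Verlinde.G a (-a') (m : ZMod n) w = 0 := by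
    refine Verlinde.sum_G_eq_zero a (-a') _ fun π => ?_
    by_contra hall
    push Not at hall
    have he : ∀ i, ∃ e : ℤ, (v i : ℤ) - (v' (π i) : ℤ) = (m : ℤ) - n * V' + n * e := by
      intro i
      have h := hall i
      simp only [Pi.neg_apply, ha, ha'] at h
      have h' : (((v i : ℤ) - (v' (π i) : ℤ) - ((m : ℤ) - (n : ℤ) * V') : ℤ) : ZMod n) = 0 := by
        push_cast
        rw [ZMod.natCast_self]
        linear_combination h
      obtain ⟨e, he⟩ := (ZMod.intCast_zmod_eq_zero_iff_dvd _ _).1 h'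
      exact ⟨e, by linear_combination he⟩
    choose e he using he
    have hadj : ∀ i j, e i ≤ e j + 1 := by
      intro i j
      have h1 := hvlt i
      have h2 := hv'lt (π j)
      have h3 := he i
      have h4 := he j
      by_contra hc
      push Not at hc
      have : (n : ℤ) * 2 ≤ (n : ℤ) * (e i - e j) :=
        mul_le_mul_of_nonneg_left (by omega) (Int.natCast_nonneg n)
      have h5 : (n : ℤ) * (e i - e j) =
          ((v i : ℤ) - v' (π i)) - ((v j : ℤ) - v' (π j)) := by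
        linear_combination h4 - h3
      omega
    have hes : ∑ i, e i = 0 := by
      have h1 : ∑ i, ((v i : ℤ) - (v' (π i) : ℤ)) = (V : ℤ) - V' := by
        rw [Finset.sum_sub_distrib, Equiv.sum_comp π (fun i => (v' i : ℤ)), hV, hV']
        push_cast; rfl
      rw [Finset.sum_congr rfl fun i _ => he i, Finset.sum_add_distrib, ← Finset.mul_sum] at h1
      simp only [Finset.sum_const, Finset.card_univ, Fintype.card_fin, nsmul_eq_mul] at h1
      have h2 := congrArg (fun x : ℕ => (x : ℤ)) hm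
      have h3 := congrArg (fun x : ℕ => (x : ℤ)) hN
      simp only [hA] at h2
      push_cast at h1 h2 h3
      have h4 : (n : ℤ) * ∑ i, e i = 0 := by linear_combination h1 + h2 + (V' : ℤ) * h3
      exact (mul_eq_zero.1 h4).resolve_left (by exact_mod_cast NeZero.ne n)
    have he0 : ∀ i, e i = 0 := by
      intro i
      by_contra hne'
      rcases lt_or_gt_of_ne hne' with hlt | hgt
      · have : ∑ j, e j < ∑ _j : Fin (p + 2), (0 : ℤ) :=
          Finset.sum_lt_sum (fun j _ => by have := hadj j i; omega) ⟨i, Finset.mem_univ i, hlt⟩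
        simp [hes] at this
      · have : ∑ _j : Fin (p + 2), (0 : ℤ) < ∑ j, e j :=
          Finset.sum_lt_sum (fun j _ => by have := hadj i j; omega) ⟨i, Finset.mem_univ i, hgt⟩
        simp [hes] at this
    have heq : ∀ i, (v i : ℤ) - (v' (π i) : ℤ) = (m : ℤ) - n * V' := fun i => by
      have := he i
      rw [he0 i, mul_zero, add_zero] at this
      exact this
    have hmono : StrictMono π := by
      intro i j hij
      have := hv hij
      have := heq i
      have := heq j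
      by_contra hc
      push Not at hc
      have := hv'.antitone hc
      omega
    have hπ : ∀ i, π i = i := by
      have := (StrictMono.range_inj hmono strictMono_id).1 (by
        rw [Set.range_id, π.surjective.range_eq])
      exact fun i => congrFun this i
    refine hne ⟨(m : ℤ) - n * V', fun i => ?_⟩
    have := heq i
    rwa [hπ] at this
  have hsum := Verlinde.r_mul_sum_G (n := n) (r := p + 2) (by omega) a (-a') (m := (m : ZMod n))
    (by rw [hAz, hm, Nat.cast_mul])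
  rw [hzero, mul_zero, zero_eq_mul] at hsum
  exact hsum.resolve_left (mul_ne_zero (Nat.cast_ne_zero.2 (NeZero.ne n))
    (Nat.cast_ne_zero.2 (Nat.factorial_ne_zero _)))

end Groth.Agent.S18378
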