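import Groth.Statements.S18379
import Groth.Agent.Verlinde.Schur

set_option autoImplicit false
open VerlindeComb

namespace Groth.Agent.S18379

/-- Let r, k ≥ 1 be integers. Summing over all integer vectors v with r + k > v_1 > v_2 > ⋯ > v_{r-1} >
v_r = 0, one has Σ_v ∏_{i<j} (2 sin(π (v_i - v_j) / (r + k)))² = r (r + k)^{r-1}; that is, the
genus-zero Verlinde number of rank r and level k with no parabolic points, defined as (r (r +
k)^{r-1})⁻¹ times this sum, equals 1. Indices are 0-based below: v i stands for v_{i+1}. -/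
theorem result (r k : ℕ) (hr : 1 ≤ r) (hk : 1 ≤ k) :
    (∑ v ∈ (Finset.univ : Finset (Fin r → Fin (r + k))).filter
        (fun v : Fin r → Fin (r + k) => StrictAnti v ∧ ∀ i : Fin r, (i : ℕ) = r - 1 → (v i : ℕ) = 0),
      ∏ p ∈ (Finset.univ : Finset (Fin r × Fin r)).filter (fun p => p.1 < p.2),
        ((2 : ℝ) * Real.sin (Real.pi * ((v p.1 : ℕ) - (v p.2 : ℕ) : ℝ) / ((r : ℝ) + k))) ^ 2) =
      (r : ℝ) * ((r : ℝ) + k) ^ (r - 1) := by
  have : NeZero (r + k) := ⟨by omega⟩
  apply Complex.ofReal_injective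
  have hterm : ∀ v : Fin r → Fin (r + k),
      ((∏ p ∈ (Finset.univ : Finset (Fin r × Fin r)).filter (fun p => p.1 < p.2),
        ((2 : ℝ) * Real.sin (Real.pi * ((v p.1 : ℕ) - (v p.2 : ℕ) : ℝ) / ((r : ℝ) + k))) ^ 2 : ℝ) : ℂ)
      = Verlinde.G (Verlinde.del (r + k) r) (-Verlinde.del (r + k) r) 0 (Verlinde.cls v) := by
    intro v
    have h := Verlinde.sin_prod (n := r + k) (fun j => (v j : ℕ))
    rw [Nat.cast_add] at h
    rw [h, Verlinde.G, neg_zero, zero_mul, AddChar.map_zero_eq_one, one_mul]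
    rfl
  rw [Complex.ofReal_sum, Finset.sum_congr rfl fun v _ => hterm v]
  have h := Verlinde.r_mul_sum_G (n := r + k) hr (Verlinde.del (r + k) r)
    (-Verlinde.del (r + k) r) (m := 0) (by simp)
  rw [Verlinde.sum_G_neg _ (Verlinde.del_injective (by omega))] at h
  have hn : ((r + k : ℕ) : ℂ) * (r.factorial : ℂ) ≠ 0 :=
    mul_ne_zero (Nat.cast_ne_zero.2 (by omega)) (Nat.cast_ne_zero.2 r.factorial_ne_zero)
  refine mul_left_cancel₀ hn (h.symm.trans ?_)
  obtain ⟨q, rfl⟩ : ∃ q, r = q + 1 := ⟨r - 1, by omega⟩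
  push_cast
  ring

end Groth.Agent.S18379
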