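import Groth.Statements.S18386
import Mathlib
-- import your own Groth.Agent.* helpers here

set_option autoImplicit false
universe u
open LVCorr

namespace Groth.Agent.S18386

open AlgebraicGeometry in
/-- Let X be a connected Noetherian scheme and I a quasi-coherent sheaf of ideals on X, different from
the structure sheaf, such that I^k = I^(k+1) for some natural number k. Then I^k = 0. -/
theorem result (X : Scheme.{u}) [AlgebraicGeometry.IsNoetherian X]
    [ConnectedSpace X] (I : X.IdealSheafData) (hI : I ≠ ⊤) (k : ℕ)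
    (h : I ^ k = I ^ (k + 1)) : I ^ k = ⊥ := by
  rcases Nat.eq_zero_or_pos k with rfl | hk
  · exact absurd (by simpa using h.symm) hI
  have hidem : ∀ U : X.affineOpens, ∃ e : Γ(X, U.1), IsIdempotentElem e ∧ (I.ideal U) ^ k = Ideal.span {e} := fun U => by
    haveI : IsNoetherianRing Γ(X, U.1) := IsLocallyNoetherian.component_noetherian U
    refine (Ideal.isIdempotentElem_iff_of_fg _ (IsNoetherian.noetherian _)).mp ?_
    have h1 : (I.ideal U) ^ k = (I.ideal U) ^ (k + 1) := by
      have := congrFun (congrArg Scheme.IdealSheafData.ideal h) U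
      simpa using this
    have h2 : ∀ j : ℕ, (I.ideal U) ^ (k + j) = (I.ideal U) ^ k := fun j => by
      induction j with
      | zero => simp
      | succ j ih => rw [← add_assoc, pow_succ, ih, ← pow_succ, ← h1]
    show (I.ideal U) ^ k * (I.ideal U) ^ k = (I.ideal U) ^ k
    rw [← pow_add, h2 k]
  have hclopen : IsClopen (I.support : Set X) := by
    refine ⟨I.support.isClosed, isOpen_iff_forall_mem_open.mpr fun x hx => ?_⟩
    obtain ⟨_, ⟨(U : X.Opens), hU, rfl⟩, hxU, -⟩ :=
      X.isBasis_affineOpens.exists_subset_of_mem_open (Set.mem_univ x) isOpen_univ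
    obtain ⟨e, he, hs⟩ := hidem ⟨U, hU⟩
    refine ⟨(I.support : Set X) ∩ U, Set.inter_subset_left, ?_, hx, hxU⟩
    rw [← Scheme.IdealSheafData.support_pow I k hk.ne',
      Scheme.IdealSheafData.coe_support_inter (I ^ k) ⟨U, hU⟩, Scheme.IdealSheafData.ideal_pow, Pi.pow_apply, hs,
      Scheme.zeroLocus_span]
    have h2 : X.zeroLocus (U := U) {e} ∩ U = (X.basicOpen (1 - e) : Set X) := by
      rw [Scheme.zeroLocus_singleton]
      ext y
      constructor
      · rintro ⟨hy, hyU⟩
        rw [SetLike.mem_coe, Scheme.mem_basicOpen X (1 - e) y hyU, map_sub, map_one]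
        have hy' : ¬ IsUnit ((X.presheaf.germ U y hyU) e) := fun hu => hy ((Scheme.mem_basicOpen X e y hyU).mpr hu)
        exact (IsLocalRing.isUnit_or_isUnit_one_sub_self _).resolve_left hy'
      · intro hy
        have hyU : y ∈ U := X.basicOpen_le _ hy
        refine ⟨fun hy2 => ?_, hyU⟩
        rw [SetLike.mem_coe, Scheme.mem_basicOpen X _ y hyU] at hy
        rw [SetLike.mem_coe, Scheme.mem_basicOpen X _ y hyU] at hy2
        have h0 : (X.presheaf.germ U y hyU) e * (X.presheaf.germ U y hyU) (1 - e) = 0 := by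
          rw [← map_mul, mul_sub, mul_one, he.eq, sub_self, map_zero]
        exact (hy2.mul hy).ne_zero h0
    rw [h2]
    exact (X.basicOpen (1 - e)).2
  have huniv : (I.support : Set X) = Set.univ := by
    refine hclopen.eq_univ ?_
    rw [Set.nonempty_iff_ne_empty]
    intro he
    exact hI ((Scheme.IdealSheafData.support_eq_bot_iff (I := I)).mp (SetLike.coe_injective (by simpa using he)))
  refine Scheme.IdealSheafData.ext (funext fun U => ?_)
  obtain ⟨e, he, hs⟩ := hidem U
  rw [Scheme.IdealSheafData.ideal_pow, Pi.pow_apply, hs, Scheme.IdealSheafData.ideal_bot, Pi.bot_apply,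
    Ideal.span_singleton_eq_bot]
  have hb : X.basicOpen e = ⊥ := by
    rw [eq_bot_iff]
    intro y hy
    have hyU : y ∈ U.1 := X.basicOpen_le _ hy
    have h1 : y ∈ ((I ^ k).support : Set X) ∩ U.1 := ⟨by rw [Scheme.IdealSheafData.support_pow I k hk.ne', huniv]; trivial, hyU⟩
    rw [Scheme.IdealSheafData.coe_support_inter, Scheme.IdealSheafData.ideal_pow, Pi.pow_apply, hs,
      Scheme.zeroLocus_span, Scheme.zeroLocus_singleton] at h1
    exact h1.1 hy
  exact he.eq_zero_of_isNilpotent ((Scheme.isNilpotent_iff_basicOpen_eq_bot_of_isCompact U.2.isCompact e).mpr hb)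

end Groth.Agent.S18386
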