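import Groth.Statements.S18387
import Mathlib.RingTheory.Artinian.Ring
import Mathlib.LinearAlgebra.FiniteDimensional.Lemmas
import Mathlib.LinearAlgebra.Dimension.Finite
-- import your own Groth.Agent.* helpers here

set_option autoImplicit false
universe u
open LVCorr

namespace Groth.Agent.S18387

/-- In the affine form which its proof establishes. Let A be a commutative algebra over a field F which
is finite-dimensional of dimension d over F. Then the d-th power of the nilradical of A vanishes.
(Applied to the fibre algebra A = B/mB of a quasi-finite morphism over a closed point with maximal
ideal m, this says that the d-th power of the radical of mB lies in mB, i.e. the ramification of the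
morphism at that point is at most the degree d of the fibre.) -/
theorem result (F A : Type u) [Field F] [CommRing A] [Algebra F A]
    [FiniteDimensional F A] : nilradical A ^ Module.finrank F A = ⊥ := by
  have : IsArtinianRing A := IsArtinianRing.of_finite F A
  set N := nilradical A with hN
  have hnil : IsNilpotent N := IsArtinianRing.isNilpotent_nilradical
  have key : ∀ k : ℕ, N ^ k ≠ ⊥ →
      k + Module.finrank F ((N ^ k).restrictScalars F) ≤ Module.finrank F A := by
    intro k
    induction k with
    | zero => intro _; simpa using Submodule.finrank_le ((N ^ 0).restrictScalars F)
    | succ k ih =>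
      intro hk
      have hle : N ^ (k + 1) ≤ N ^ k := Ideal.pow_le_pow_right (Nat.le_succ k)
      have hk' : N ^ k ≠ ⊥ := fun h ↦ hk (le_bot_iff.mp (h ▸ hle))
      have hlt : N ^ (k + 1) < N ^ k := by
        refine lt_of_le_of_ne hle fun h ↦ hk ?_
        have hconst : ∀ j, N ^ (k + j) = N ^ k := by
          intro j
          induction j with
          | zero => rfl
          | succ j ihj => rw [← Nat.add_assoc, pow_succ, ihj, ← pow_succ, h]
        obtain ⟨j, hj⟩ := hnil
        rw [h, ← hconst j, pow_add, hj]
        simp
      have := Submodule.finrank_lt_finrank_of_lt
        (s := (N ^ (k + 1)).restrictScalars F) (t := (N ^ k).restrictScalars F) (by simpa using hlt)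
      have := ih hk'
      omega
  by_contra hne
  have h1 := key _ hne
  have h0 : Module.finrank F ((N ^ Module.finrank F A).restrictScalars F) = 0 := by omega
  apply hne
  rw [Submodule.finrank_eq_zero, Submodule.restrictScalars_eq_bot_iff] at h0
  exact h0

end Groth.Agent.S18387
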