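import Mathlib
import Groth.Statements.S18389
-- import your own Groth.Agent.* helpers here

set_option autoImplicit false
universe u
open LVCorr

namespace Groth.Agent.S18389

open AlgebraicGeometry CategoryTheory in
/-- Let j : C → C̄ be an open immersion with dense image and jX : X → X̄ an open immersion, and let c₁ :
C → X and c̄₁ : C̄ → X̄ satisfy j followed by c̄₁ equals c₁ followed by jX, with c̄₁ separated. Let
U be an open subset of X such that c₁⁻¹(U) is dense in C and the restriction c₁⁻¹(U) → U of c₁ is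
proper. Then c̄₁⁻¹(jX(U)) = j(c₁⁻¹(U)) as open subsets of C̄. (In the source all schemes are
separated of finite type over a field, C̄ and X̄ are compactifications of a correspondence and of X,
so that c̄₁ is automatically separated.) -/
theorem result {C Cb X Xb : Scheme.{u}}
    (j : C ⟶ Cb) [IsOpenImmersion j] (hj : DenseRange j.base)
    (jX : X ⟶ Xb) [IsOpenImmersion jX] (c₁ : C ⟶ X) (cb₁ : Cb ⟶ Xb) [IsSeparated cb₁]
    (h : j ≫ cb₁ = c₁ ≫ jX) (U : X.Opens) (hU : Dense ((c₁ ⁻¹ᵁ U : C.Opens) : Set C))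
    [IsProper (c₁ ∣_ U)] :
    cb₁ ⁻¹ᵁ (jX ''ᵁ U) = j ''ᵁ (c₁ ⁻¹ᵁ U) := by
  refine le_antisymm ?_ ?_
  · let U' : C.Opens := c₁ ⁻¹ᵁ U
    let W : Cb.Opens := cb₁ ⁻¹ᵁ (jX ''ᵁ U)
    have hsub : Set.range (U'.ι ≫ j).base ⊆ Set.range W.ι.base := by
      rw [Scheme.Opens.range_ι]
      rintro _ ⟨z, rfl⟩
      refine ⟨c₁ z.1, z.2, ?_⟩
      show (c₁ ≫ jX) z.1 = (j ≫ cb₁) z.1
      rw [h]
    let k : (U' : Scheme) ⟶ W := IsOpenImmersion.lift W.ι (U'.ι ≫ j) hsub
    have hk : k ≫ W.ι = U'.ι ≫ j := IsOpenImmersion.lift_fac _ _ _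
    have hkc : k ≫ (cb₁ ∣_ (jX ''ᵁ U)) = (c₁ ∣_ U) ≫ (jX.isoImage U).hom := by
      rw [← cancel_mono (jX ''ᵁ U).ι, Category.assoc, morphismRestrict_ι, Category.assoc, Scheme.Hom.isoImage_hom_ι,
        morphismRestrict_ι_assoc, reassoc_of% hk, h]
    haveI : UniversallyClosed (k ≫ (cb₁ ∣_ (jX ''ᵁ U))) := by rw [hkc]; infer_instance
    haveI : UniversallyClosed k := UniversallyClosed.of_comp_of_isSeparated k (cb₁ ∣_ (jX ''ᵁ U))
    have hcl : IsClosed (Set.range k.base) := k.isClosedMap.isClosed_range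
    intro x hx
    have hd : Dense (j.base '' (U' : Set C)) := hj.dense_image j.continuous hU
    have hmem : (⟨x, hx⟩ : W) ∈ closure (Set.range k.base) := by
      refine mem_closure_iff.2 fun O hO hxO => ?_
      obtain ⟨y, hy, c, hc, rfl⟩ := hd.inter_open_nonempty _ (W.2.isOpenEmbedding_subtypeVal.isOpenMap O hO) ⟨x, ⟨x, hx⟩, hxO, rfl⟩
      obtain ⟨o, ho, hoc⟩ := hy
      refine ⟨o, ho, ⟨c, hc⟩, Subtype.ext ?_⟩
      show (k ≫ W.ι) ⟨c, hc⟩ = o.1
      rw [hk, hoc]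
      rfl
    obtain ⟨c, hc⟩ := hcl.closure_subset hmem
    refine ⟨c.1, c.2, ?_⟩
    show (U'.ι ≫ j) c = x
    rw [← hk]
    exact congrArg Subtype.val hc
  · rintro _ ⟨c, hc, rfl⟩
    refine ⟨c₁ c, hc, ?_⟩
    show (c₁ ≫ jX) c = (j ≫ cb₁) c
    rw [h]

end Groth.Agent.S18389
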