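import Mathlib
import Groth.Statements.S18390
-- import your own Groth.Agent.* helpers here

set_option autoImplicit false
universe u
open LVCorr

namespace Groth.Agent.S18390

/-- In the affine, ring-theoretic form which its proof establishes. Let φ : A' → A be a ring
homomorphism, I' a finitely generated ideal of A' and I an ideal of A containing the image of I'.
Then some power I'^k is mapped into I^(k+1) if and only if for every n ≥ 1 and every a ∈ I'^n there
is a k with φ(a)^k ∈ I^(nk+1). (Geometrically, for a morphism f : (X, Z) → (X', Z') of pairs with Z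
a closed subscheme of the preimage of Z', the normal cone of Z in X is the spectrum of the
associated graded algebra of I, and the second condition says that the induced map of normal cones
sends the normal cone of Z set-theoretically into the zero section Z'; the source states the
equivalence in that language.) -/
theorem result (A' A : Type u) [CommRing A'] [CommRing A]
    (φ : A' →+* A) (I' : Ideal A') (hI' : I'.FG) (I : Ideal A) (hle : I'.map φ ≤ I) :
    (∃ k : ℕ, (I' ^ k).map φ ≤ I ^ (k + 1)) ↔
      ∀ n : ℕ, 1 ≤ n → ∀ a ∈ I' ^ n, ∃ k : ℕ, 1 ≤ k ∧ φ a ^ k ∈ I ^ (n * k + 1) := by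
  classical
  constructor
  · rintro ⟨k, hk⟩ n hn a ha
    refine ⟨k + 1, Nat.succ_pos k, ?_⟩
    have h1 : φ a ^ (k + 1) ∈ ((I' ^ k).map φ) ^ n * (I'.map φ) ^ n := by
      have : a ^ (k + 1) ∈ (I' ^ k) ^ n * I' ^ n := by
        rw [← pow_mul, ← pow_add, show k * n + n = n * (k + 1) by ring, pow_mul]
        exact Ideal.pow_mem_pow ha (k + 1)
      have := Ideal.mem_map_of_mem φ this
      rwa [Ideal.map_mul, Ideal.map_pow, Ideal.map_pow φ I' n, map_pow] at this
    have h2 : ((I' ^ k).map φ) ^ n * (I'.map φ) ^ n ≤ I ^ (n * (k + 1) + 1) := by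
      refine (Ideal.mul_mono (Ideal.pow_right_mono hk n) (Ideal.pow_right_mono hle n)).trans ?_
      rw [← pow_mul, ← pow_add]
      exact Ideal.pow_le_pow_right (by nlinarith)
    exact h2 h1
  · intro h
    suffices ∀ t : Finset A', (∀ a ∈ t, a ∈ I') → ∃ K : ℕ, (Ideal.span (t : Set A')).map φ ^ K ≤ I ^ (K + 1) by
      obtain ⟨t, ht⟩ := hI'
      obtain ⟨K, hK⟩ := this t (fun a ha => ht ▸ Ideal.subset_span ha)
      refine ⟨K, ?_⟩
      rw [Ideal.map_pow, ← ht]
      exact hK
    intro t
    induction t using Finset.induction with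
    | empty => intro _; exact ⟨1, by simp⟩
    | insert b t _ ih =>
      intro hmem
      obtain ⟨K, hK⟩ := ih fun a ha => hmem a (Finset.mem_insert_of_mem ha)
      have hb : b ∈ I' := hmem b (Finset.mem_insert_self b t)
      obtain ⟨k, -, hk⟩ := h 1 le_rfl b (by rwa [pow_one])
      rw [one_mul] at hk
      set X := Ideal.span ({φ b} : Set A)
      set Y := (Ideal.span (t : Set A')).map φ
      have hX : X ≤ I := by
        rw [Ideal.span_singleton_le_iff_mem]; exact hle (Ideal.mem_map_of_mem φ hb)
      have hY : Y ≤ I := (Ideal.map_mono (Ideal.span_le.2 fun a ha => hmem a (Finset.mem_insert_of_mem ha))).trans hle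
      have hXk : X ^ k ≤ I ^ (k + 1) := by
        rw [Ideal.span_singleton_pow, Ideal.span_singleton_le_iff_mem]; exact hk
      refine ⟨K + k, ?_⟩
      rw [Finset.coe_insert, Ideal.span_insert, Ideal.map_sup, Ideal.map_span, Set.image_singleton]
      change (X + Y) ^ (K + k) ≤ _
      rw [add_pow, Ideal.sum_eq_sup]
      refine Finset.sup_le fun m hm => le_trans Ideal.mul_le_left ?_
      have hm' : m ≤ K + k := Nat.lt_succ_iff.1 (Finset.mem_range.1 hm)
      rcases le_or_gt k m with hkm | hkm
      · calc X ^ m * Y ^ (K + k - m) = X ^ k * (X ^ (m - k) * Y ^ (K + k - m)) := by rw [← mul_assoc, ← pow_add, Nat.add_sub_cancel' hkm]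
          _ ≤ I ^ (k + 1) * (I ^ (m - k) * I ^ (K + k - m)) := Ideal.mul_mono hXk (Ideal.mul_mono (Ideal.pow_right_mono hX _) (Ideal.pow_right_mono hY _))
          _ = I ^ (K + k + 1) := by rw [← pow_add, ← pow_add]; congr 1; omega
      · calc X ^ m * Y ^ (K + k - m) = X ^ m * (Y ^ K * Y ^ (k - m)) := by rw [← pow_add]; congr 2; omega
          _ ≤ I ^ m * (I ^ (K + 1) * I ^ (k - m)) := Ideal.mul_mono (Ideal.pow_right_mono hX _) (Ideal.mul_mono hK (Ideal.pow_right_mono hY _))
          _ = I ^ (K + k + 1) := by rw [← pow_add, ← pow_add]; congr 1; omega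

end Groth.Agent.S18390
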