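import Groth.Statements.S18391
import Mathlib.RingTheory.Ideal.UFD
import Mathlib.RingTheory.DiscreteValuationRing.TFAE
import Mathlib.RingTheory.Localization.AtPrime.Basic
import Mathlib.RingTheory.Ideal.KrullsHeightTheorem
-- import your own Groth.Agent.* helpers here

set_option autoImplicit false
universe u
open LVCorr

namespace Groth.Agent.S18391

/-- Let A be a normal (integrally closed) Noetherian domain and z an element of A such that the radical
of the principal ideal (z) is prime. Then there exist elements w, t of A and a natural number r,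
with w not in the radical of (z), such that in the localization A[1/w] the ideal generated by z
equals the ideal generated by t^r and the ideal generated by t is prime. (The condition on w is the
one the printed proof produces and the later use of the lemma needs.) -/
theorem result (A : Type u) [CommRing A] [IsDomain A]
    [IsNoetherianRing A] [IsIntegrallyClosed A] (z : A) (hz : (Ideal.span {z}).radical.IsPrime) :
    ∃ (w t : A) (r : ℕ), w ∉ (Ideal.span {z}).radical ∧
      Ideal.span {algebraMap A (Localization.Away w) z} =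
        Ideal.span {algebraMap A (Localization.Away w) t ^ r} ∧
      (Ideal.span {algebraMap A (Localization.Away w) t}).IsPrime := by
  classical
  set P := (Ideal.span {z}).radical with hP
  by_cases hz0 : z = 0
  · subst hz0
    refine ⟨1, 0, 1, fun h ↦ hz.ne_top ((Ideal.eq_top_iff_one _).mpr h), by simp, ?_⟩
    rw [map_zero, Ideal.span_singleton_zero]
    have : IsDomain (Localization.Away (1 : A)) :=
      IsLocalization.isDomain_localization (Submonoid.powers_le.mpr (one_mem _))
    exact Ideal.isPrime_bot
  have hzP : z ∈ P := Ideal.le_radical (Ideal.mem_span_singleton_self z)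
  have hmin : P ∈ (Ideal.span {z}).minimalPrimes :=
    ⟨⟨hz, Ideal.le_radical⟩, fun q hq _ ↦ hq.1.radical_le_iff.mpr hq.2⟩
  have : (Ideal.span {z} : Ideal A).IsPrincipal := ⟨⟨z, rfl⟩⟩
  have hht : P.height ≤ 1 := Ideal.height_le_one_of_isPrincipal_of_mem_minimalPrimes _ P hmin
  let L := Localization.AtPrime P
  have hL : IsIntegrallyClosed L :=
    isIntegrallyClosed_of_isLocalization L P.primeCompl P.primeCompl_le_nonZeroDivisors
  have hprimes : ∀ Q : Ideal L, Q ≠ ⊥ → Q.IsPrime → Q = IsLocalRing.maximalIdeal L := by
    intro Q hQ hQp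
    have hle : Q.comap (algebraMap A L) ≤ P := by
      exact (Ideal.comap_mono (IsLocalRing.le_maximalIdeal hQp.ne_top)).trans_eq
        (IsLocalization.AtPrime.under_maximalIdeal L P)
    have hqp : (Q.comap (algebraMap A L)).IsPrime := inferInstance
    have hq0 : Q.comap (algebraMap A L) ≠ ⊥ := fun h ↦ hQ (by
      rw [← IsLocalization.map_under P.primeCompl L Q]
      exact (congrArg (Ideal.map (algebraMap A L)) h).trans Ideal.map_bot)
    have heq : Q.comap (algebraMap A L) = P := by
      by_contra hne
      have hfin : P.FiniteHeight :=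
        P.finiteHeight_iff.mpr (Or.inr (ne_top_of_le_ne_top ENat.one_ne_top hht))
      have h1 := (Ideal.height_strict_mono_of_isPrime_of_isPrime (lt_of_le_of_ne hle hne)).trans_le hht
      rw [Order.lt_one_iff, Ideal.height_eq_zero_iff_eq_bot] at h1
      exact hq0 h1
    rw [← IsLocalization.map_under P.primeCompl L Q,
      ← IsLocalization.map_under P.primeCompl L (IsLocalRing.maximalIdeal L),
      IsLocalization.AtPrime.under_maximalIdeal L P]
    exact congrArg (Ideal.map (algebraMap A L)) heq
  have hiff := (tfae_of_isNoetherianRing_of_isLocalRing_of_isDomain L).out 3 4 rfl rfl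
  have hpr : (IsLocalRing.maximalIdeal L).IsPrincipal := hiff.mp ⟨hL, hprimes⟩
  have hiff' := (tfae_of_isNoetherianRing_of_isLocalRing_of_isDomain L).out 4 6 rfl rfl
  -- write a generator with numerator in `A`
  obtain ⟨π, hπ⟩ := hpr
  obtain ⟨t, s, rfl⟩ := IsLocalization.exists_mk'_eq P.primeCompl π
  have hinj : Function.Injective (algebraMap A L) :=
    IsLocalization.injective L P.primeCompl_le_nonZeroDivisors
  have hgen : IsLocalRing.maximalIdeal L = Ideal.span {algebraMap A L t} := by
    rw [hπ]
    refine Ideal.span_singleton_eq_span_singleton.mpr ?_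
    exact ⟨(IsLocalization.map_units L s).unit, IsLocalization.mk'_spec L t s⟩
  have hmemP : ∀ g, g ∈ P ↔ algebraMap A L g ∈ IsLocalRing.maximalIdeal L := fun g ↦
    (SetLike.ext_iff.mp (IsLocalization.AtPrime.under_maximalIdeal L P) g).symm
  have htP : t ∈ P := (hmemP t).mpr (hgen ▸ Ideal.mem_span_singleton_self _)
  have hfrac : ∀ g ∈ P, ∃ a, ∃ c ∉ P, c * g = t * a := by
    intro g hg
    obtain ⟨x, hx⟩ := Ideal.mem_span_singleton'.mp (hgen ▸ (hmemP g).mp hg)
    obtain ⟨a, c, rfl⟩ := IsLocalization.exists_mk'_eq P.primeCompl x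
    refine ⟨a, c, c.2, hinj ?_⟩
    rw [map_mul, map_mul, ← hx]
    rw [← IsLocalization.mk'_spec L a c]
    ring
  choose! num den hden hfe using hfrac
  -- the order of `z`
  have ht0 : algebraMap A L t ≠ 0 := fun h ↦ by
    have := (hmemP z).mp hzP
    rw [hgen, h, Ideal.mem_span_singleton, zero_dvd_iff] at this
    exact hz0 (hinj (by rw [this, map_zero]))
  obtain ⟨r, hr⟩ := hiff'.mp
    ⟨⟨_, hgen⟩⟩ (Ideal.span {algebraMap A L z})
    (by rw [Ne, Ideal.span_singleton_eq_bot]; exact fun h ↦ hz0 (hinj (by rw [h, map_zero])))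
  rw [hgen, Ideal.span_singleton_pow, Ideal.span_singleton_eq_span_singleton] at hr
  obtain ⟨v, hv⟩ := hr
  obtain ⟨a, c, hac⟩ := IsLocalization.exists_mk'_eq P.primeCompl (v : L)
  have hzc : t ^ r * c = z * a := hinj (by
    rw [map_mul, map_mul, map_pow, ← hv, ← hac, ← IsLocalization.mk'_spec L a c]
    ring)
  have haP : a ∉ P := fun h ↦ by
    have h1 := (hmemP a).mp h
    rw [← IsLocalization.mk'_spec L a c, hac] at h1
    exact h1 ((v.isUnit).mul (IsLocalization.map_units L c))
  obtain ⟨gens, hgens⟩ := IsNoetherian.noetherian P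
  refine ⟨(∏ g ∈ gens, den g) * (a * c), t, r, ?_, ?_, ?_⟩
  · refine fun h ↦ (hz.mem_or_mem h).elim (fun h ↦ ?_) fun h ↦ (hz.mem_or_mem h).elim haP c.2
    obtain ⟨g, hg, hgP⟩ := hz.prod_mem_iff.mp h
    exact hden g (hgens ▸ Submodule.subset_span hg) hgP
  all_goals set w := (∏ g ∈ gens, den g) * (a * c) with hw
  all_goals have hunit : ∀ b, b ∣ w → IsUnit (algebraMap A (Localization.Away w) b) :=
    fun b hb ↦ isUnit_of_dvd_unit (map_dvd _ hb) (IsLocalization.Away.algebraMap_isUnit w)
  · have h1 := congrArg (algebraMap A (Localization.Away w)) hzc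
    rw [map_mul, map_mul, map_pow] at h1
    rw [← Ideal.span_singleton_mul_right_unit
        (hunit a ⟨(∏ g ∈ gens, den g) * c, by rw [hw]; ring⟩) (algebraMap A (Localization.Away w) z),
      ← h1, Ideal.span_singleton_mul_right_unit (hunit c ⟨(∏ g ∈ gens, den g) * a, by rw [hw]; ring⟩)]
  · have hdisj : Disjoint (Submonoid.powers w : Set A) (P : Set A) := by
      rw [Ideal.disjoint_powers_iff_notMem _ hz.isRadical]
      refine fun h ↦ (hz.mem_or_mem h).elim (fun h ↦ ?_) fun h ↦ (hz.mem_or_mem h).elim haP c.2
      obtain ⟨g, hg, hgP⟩ := hz.prod_mem_iff.mp h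
      exact hden g (hgens ▸ Submodule.subset_span hg) hgP
    have hmap := IsLocalization.isPrime_of_isPrime_disjoint (Submonoid.powers w)
      (Localization.Away w) P hz hdisj
    refine (show Ideal.span {algebraMap A (Localization.Away w) t} =
      Ideal.map (algebraMap A (Localization.Away w)) P from ?_) ▸ hmap
    refine le_antisymm ?_ ?_
    · rw [Ideal.span_singleton_le_iff_mem]
      exact Ideal.mem_map_of_mem _ htP
    · rw [← hgens, Ideal.map_span, Ideal.span_le]
      rintro _ ⟨g, hg, rfl⟩
      have h1 := congrArg (algebraMap A (Localization.Away w))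
        (hfe g (hgens ▸ Submodule.subset_span hg))
      rw [map_mul, map_mul] at h1
      have hu := hunit (den g) ((Finset.dvd_prod_of_mem den hg).mul_right _)
      rw [SetLike.mem_coe, Ideal.mem_span_singleton]
      exact hu.dvd_mul_left.mp ⟨_, h1⟩

end Groth.Agent.S18391
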