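import Groth.Statements.S18392
import Groth.Agent.S18391
import Mathlib.RingTheory.UniqueFactorizationDomain.Basic
import Mathlib.RingTheory.PrincipalIdealDomain
-- import your own Groth.Agent.* helpers here

set_option autoImplicit false
universe u
open LVCorr

namespace Groth.Agent.S18392

/-- Let A be a normal (integrally closed) Noetherian domain and z an element of A such that the radical
of (z) is prime. Then for every non-empty open subset V of Spec A contained in the basic open set
D(z) (that is, every non-empty open subset of Spec A[1/z]) there is an element x of A, not in the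
radical of (z), such that the basic open set D(xz) = Spec A[1/xz] is contained in V. -/
theorem result (A : Type u) [CommRing A]
    [IsDomain A] [IsNoetherianRing A] [IsIntegrallyClosed A] (z : A)
    (hz : (Ideal.span {z}).radical.IsPrime) (V : Set (PrimeSpectrum A)) (hV : IsOpen V)
    (hVz : V ⊆ (PrimeSpectrum.basicOpen z : Set (PrimeSpectrum A))) (hne : V.Nonempty) :
    ∃ x : A, x ∉ (Ideal.span {z}).radical ∧
      ((PrimeSpectrum.basicOpen (x * z) : TopologicalSpace.Opens (PrimeSpectrum A)) :
        Set (PrimeSpectrum A)) ⊆ V := by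
  classical
  have hz0 : z ≠ 0 := by
    rintro rfl
    obtain ⟨q, hq⟩ := hne
    exact hVz hq q.asIdeal.zero_mem
  obtain ⟨J, hJ⟩ := (PrimeSpectrum.isClosed_iff_zeroLocus_ideal Vᶜ).mp hV.isClosed_compl
  obtain ⟨f, hfJ, hf0⟩ : ∃ f ∈ J, f ≠ 0 := by
    by_contra! h
    obtain ⟨q, hq⟩ := hne
    have : q ∈ Vᶜ := hJ ▸ fun g hg ↦ (h g hg).symm ▸ q.asIdeal.zero_mem
    exact this hq
  obtain ⟨w, t, r, hw, hzt, htp⟩ := Groth.Agent.S18391.result A z hz
  let B := Localization.Away w
  let j := algebraMap A B
  have hw0 : w ≠ 0 := fun h ↦ hw (h ▸ zero_mem _)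
  have hpow : Submonoid.powers w ≤ nonZeroDivisors A :=
    powers_le_nonZeroDivisors_of_noZeroDivisors hw0
  have : IsDomain B := IsLocalization.isDomain_localization hpow
  have : IsNoetherianRing B := IsLocalization.isNoetherianRing (Submonoid.powers w) B inferInstance
  have hinj : Function.Injective j := IsLocalization.injective B hpow
  have hzu : ¬ IsUnit (j z) := by
    intro hu
    obtain ⟨s, hs⟩ := hu.exists_right_inv
    obtain ⟨a, ⟨_, k, rfl⟩, rfl⟩ := IsLocalization.exists_mk'_eq (Submonoid.powers w) s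
    have : z * a = w ^ k := hinj (by
      rw [map_mul, ← IsLocalization.mk'_spec B a (⟨w ^ k, k, rfl⟩ : Submonoid.powers w),
        ← mul_assoc]
      exact (congrArg (· * j (w ^ k)) hs).trans (one_mul _))
    exact hw (hz.mem_of_pow_mem k
      (this ▸ Ideal.mul_mem_right _ _ (Ideal.le_radical (Ideal.mem_span_singleton_self z))))
  obtain ⟨u, hu⟩ := Ideal.span_singleton_eq_span_singleton.mp hzt
  have hr : r ≠ 0 := by
    rintro rfl
    rw [pow_zero] at hu
    exact hzu (IsUnit.of_mul_eq_one _ hu)
  have ht0 : j t ≠ 0 := fun h ↦ hz0 (hinj (by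
    rw [show algebraMap A (Localization.Away w) t = 0 from h, zero_pow hr] at hu
    rw [map_zero]; exact u.mul_left_eq_zero.mp hu))
  have htprime : Prime (j t) := (Ideal.span_singleton_prime ht0).mp htp
  obtain ⟨n, b, hb, hfb⟩ := WfDvdMonoid.max_power_factor (a₀ := j f)
    (fun h ↦ hf0 (hinj (h.trans (map_zero j).symm))) htprime.irreducible
  obtain ⟨x, ⟨_, k, rfl⟩, hx⟩ :=
    IsLocalization.exists_mk'_eq (Submonoid.powers w) ((u : B) ^ n * b ^ r)
  have hx' : j x = (u : B) ^ n * b ^ r * j w ^ k := by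
    rw [← map_pow, ← hx]
    exact (IsLocalization.mk'_spec B x (⟨w ^ k, k, rfl⟩ : Submonoid.powers w)).symm
  have key : f ^ r * w ^ k = z ^ n * x := hinj (by
    rw [map_mul, map_mul, map_pow, map_pow, map_pow, hx', hfb, mul_pow, ← pow_mul, mul_comm n r,
      pow_mul]
    rw [show j t ^ r = j z * u from hu.symm]
    ring)
  refine ⟨x, fun hxP ↦ hb ?_, fun q hq ↦ by_contra fun hqV ↦ ?_⟩
  · obtain ⟨N, hN⟩ := hxP
    obtain ⟨c, hc⟩ := Ideal.mem_span_singleton'.mp hN
    have h1 : j t ∣ j x ^ N := by
      rw [← map_pow, ← hc, map_mul, show j z = j t ^ r * (↑u⁻¹ : B) from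
        by rw [← show j z * u = j t ^ r from hu, Units.mul_inv_cancel_right]]
      exact ((dvd_pow_self _ hr).mul_right _).mul_left _
    have h2 := htprime.dvd_of_dvd_pow h1
    rw [hx', mul_assoc] at h2
    rcases htprime.dvd_or_dvd h2 with h | h
    · exact absurd (isUnit_of_dvd_unit h (u.isUnit.pow n)) htprime.not_unit
    rcases htprime.dvd_or_dvd h with h | h
    · exact htprime.dvd_of_dvd_pow h
    · exact absurd (isUnit_of_dvd_unit h ((IsLocalization.Away.algebraMap_isUnit w).pow k))
        htprime.not_unit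
  · have hq' : x * z ∉ q.asIdeal := hq
    have hfq : f ∈ q.asIdeal := (hJ ▸ (show q ∈ Vᶜ from hqV) : q ∈ PrimeSpectrum.zeroLocus J) hfJ
    have : z ^ n * x ∈ q.asIdeal :=
      key ▸ q.asIdeal.mul_mem_right _ (Ideal.pow_mem_of_mem _ hfq r (Nat.pos_of_ne_zero hr))
    rcases q.isPrime.mem_or_mem this with h | h
    · exact hq' (q.asIdeal.mul_mem_left _ (q.isPrime.mem_of_pow_mem n h))
    · exact hq' (q.asIdeal.mul_mem_right _ h)

end Groth.Agent.S18392
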