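import Groth.Statements.S18393
import Mathlib
-- import your own Groth.Agent.* helpers here

set_option autoImplicit false
universe u v
open LVCorr

namespace Groth.Agent.S18393

/-- Stated for the underlying continuous maps. Let c₁, c₂ : C → X be continuous maps with C a Noetherian
topological space, let Z be a closed subset of X and B the closure in C of c₂⁻¹(Z) ∖ c₁⁻¹(Z). Call Z
locally invariant when every point x of Z has an open neighbourhood U such that every y in C with
c₂(y) ∈ Z ∩ U and c₁(y) ∈ U satisfies c₁(y) ∈ Z. Then Z is locally invariant if and only if for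
every irreducible subset T of B the closures of c₁(T) and of c₂(T) in X are disjoint. (The source
states this for a correspondence c = (c₁, c₂) : C → X × X of separated schemes of finite type over
an algebraically closed field and for the irreducible components of B; the condition for all
irreducible subsets of B is the same condition.) -/
theorem result {C : Type u} {X : Type v}
    [TopologicalSpace C] [TopologicalSpace X] [TopologicalSpace.NoetherianSpace C]
    (c₁ c₂ : C → X) (hc₁ : Continuous c₁) (hc₂ : Continuous c₂) (Z : Set X) (hZ : IsClosed Z) :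
    (∀ x ∈ Z, ∃ U : Set X, IsOpen U ∧ x ∈ U ∧
        ∀ y : C, c₂ y ∈ Z → c₂ y ∈ U → c₁ y ∈ U → c₁ y ∈ Z) ↔
      ∀ T : Set C, T ⊆ closure (c₂ ⁻¹' Z \ c₁ ⁻¹' Z) → IsIrreducible T →
        closure (c₁ '' T) ∩ closure (c₂ '' T) = ∅ := by
  classical
  have hBZ : closure (c₂ ⁻¹' Z \ c₁ ⁻¹' Z) ⊆ c₂ ⁻¹' Z :=
    closure_minimal Set.sdiff_subset (hZ.preimage hc₂)
  constructor
  · intro h T hT hirr
    rw [Set.eq_empty_iff_forall_notMem]
    rintro x ⟨hx1, hx2⟩
    have hxZ : x ∈ Z := by
      refine closure_minimal ?_ hZ hx2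
      rintro _ ⟨t, ht, rfl⟩
      exact hBZ (hT ht)
    obtain ⟨U, hU, hxU, hUZ⟩ := h x hxZ
    obtain ⟨_, ha, t₁, ht₁, rfl⟩ := mem_closure_iff.mp hx1 U hU hxU
    obtain ⟨_, hb, t₂, ht₂, rfl⟩ := mem_closure_iff.mp hx2 U hU hxU
    obtain ⟨z, hzT, hz⟩ := hirr.2 (c₁ ⁻¹' U) (c₂ ⁻¹' U) (hU.preimage hc₁) (hU.preimage hc₂)
      ⟨t₁, ht₁, ha⟩ ⟨t₂, ht₂, hb⟩
    obtain ⟨y, ⟨hy1, hy2⟩, hyZ, hynZ⟩ := mem_closure_iff.mp (hT hzT) _
      ((hU.preimage hc₁).inter (hU.preimage hc₂)) hz
    exact hynZ (hUZ y hyZ hy2 hy1)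
  · intro h x hxZ
    obtain ⟨S, hSf, -, hSirr, hS⟩ :=
      TopologicalSpace.NoetherianSpace.exists_finite_set_isClosed_irreducible
        (isClosed_closure (s := c₂ ⁻¹' Z \ c₁ ⁻¹' Z))
    refine ⟨(⋃ T ∈ S, if x ∈ closure (c₁ '' T) then closure (c₂ '' T) else closure (c₁ '' T))ᶜ,
      ?_, ?_, ?_⟩
    · refine isOpen_compl_iff.mpr (hSf.isClosed_biUnion fun T _ => ?_)
      split <;> exact isClosed_closure
    · simp only [Set.mem_compl_iff, Set.mem_iUnion, not_exists]
      intro T hT hx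
      by_cases h1 : x ∈ closure (c₁ '' T)
      · rw [if_pos h1] at hx
        have := h T (by rw [hS]; exact Set.subset_sUnion_of_mem hT) (hSirr T hT)
        exact (Set.eq_empty_iff_forall_notMem.mp this x) ⟨h1, hx⟩
      · rw [if_neg h1] at hx
        exact h1 hx
    · intro y hy h2 h1
      by_contra hn
      have hyB : y ∈ closure (c₂ ⁻¹' Z \ c₁ ⁻¹' Z) := subset_closure ⟨hy, hn⟩
      rw [hS] at hyB
      obtain ⟨T, hT, hyT⟩ := hyB
      simp only [Set.mem_compl_iff, Set.mem_iUnion, not_exists] at h1 h2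
      have e1 := h1 T hT
      have e2 := h2 T hT
      by_cases hx1 : x ∈ closure (c₁ '' T)
      · rw [if_pos hx1] at e2
        exact e2 (subset_closure ⟨y, hyT, rfl⟩)
      · rw [if_neg hx1] at e1
        exact e1 (subset_closure ⟨y, hyT, rfl⟩)

end Groth.Agent.S18393
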