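import Groth.Statements.S18399
import Mathlib
-- import your own Groth.Agent.* helpers here

set_option autoImplicit false
set_option backward.isDefEq.respectTransparency.types false
universe u
open CAlg

namespace Groth.Agent.S18399

/-- Let k be a field and A a regular local k-algebra with residue field k (the structure map from k onto
the residue field of A is surjective), let σ be a k-algebra endomorphism of A of finite order n with
n invertible in k, and let I_σ be the ideal of A generated by the elements f - σ f. Then I_σ is
generated by finitely many elements of the maximal ideal whose classes in the cotangent space m/m^2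
are linearly independent over the residue field. (Such elements are part of a regular system of
parameters of A, hence part of a regular sequence, which is the printed conclusion; the generators
with independent classes are what the argument produces.) -/
theorem result {k : Type u} [Field k] {A : Type u} [CommRing A] [Algebra k A] [IsRegularLocalRing A] (hres : Function.Surjective ⇑(algebraMap k (IsLocalRing.ResidueField A))) (σ : A →ₐ[k] A) (n : ℕ) (hσ : ∀ a : A, (⇑σ)^[n] a = a) (hn : (n : k) ≠ 0) : ∃ (m : ℕ) (f : Fin m → ↥(IsLocalRing.maximalIdeal A)), Ideal.span (Set.range fun i : Fin m => (f i : A)) = Ideal.span (Set.range fun a : A => a - σ a) ∧ LinearIndependent (IsLocalRing.ResidueField A) (fun i : Fin m => (IsLocalRing.maximalIdeal A).toCotangent (f i)) := by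
  classical
  set m := IsLocalRing.maximalIdeal A with hm
  set I := Ideal.span (Set.range fun a : A => a - σ a) with hI
  -- basics
  have hnA : IsUnit (n : A) := by
    have : IsUnit (n : k) := isUnit_iff_ne_zero.mpr hn
    simpa using this.map (algebraMap k A)
  obtain ⟨v, hv⟩ := hnA.exists_left_inv
  have hnpos : 0 < n := Nat.pos_of_ne_zero fun h => hn (by simp [h])
  have hσv : σ v = v := by
    have h1 : σ v * (n : A) = v * (n : A) := by rw [hv, ← map_natCast σ n, ← map_mul, hv, map_one]
    exact hnA.mul_left_injective h1
  have hdm : ∀ a : A, a - σ a ∈ m := by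
    intro a
    obtain ⟨c, hc⟩ := hres (IsLocalRing.residue A a)
    have hcm : a - algebraMap k A c ∈ m := by
      rw [hm, ← IsLocalRing.residue_eq_zero_iff, map_sub, ← hc]
      exact sub_eq_zero.mpr rfl
    have hbij : Function.Bijective σ := by
      refine ⟨fun x y hxy => ?_, fun x => ⟨(σ)^[n - 1] x, ?_⟩⟩
      · rw [← hσ x, ← hσ y, show n = (n - 1) + 1 by omega, Function.iterate_succ_apply,
          Function.iterate_succ_apply, hxy]
      · rw [← Function.iterate_succ_apply' (⇑σ), Nat.succ_eq_add_one, show n - 1 + 1 = n by omega]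
        exact hσ x
    have hσm : σ (a - algebraMap k A c) ∈ m := by
      rw [hm, IsLocalRing.mem_maximalIdeal, mem_nonunits_iff]
      intro hu
      exact hcm ((MulEquiv.isUnit_map (AlgEquiv.ofBijective σ hbij)).mp hu)
    have : a - σ a = (a - algebraMap k A c) - σ (a - algebraMap k A c) := by
      rw [map_sub, AlgHom.commutes]; ring
    rw [this]
    exact sub_mem hcm hσm
  have hIm : I ≤ m := Ideal.span_le.mpr (by rintro _ ⟨a, rfl⟩; exact hdm a)
  have hDI : ∀ a, a - σ a ∈ I := fun a => Ideal.subset_span ⟨a, rfl⟩
  -- averaging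
  let P : A → A := fun a => v * ∑ i ∈ Finset.range n, (σ)^[i] a
  have hσP : ∀ a, σ (P a) = P a := by
    intro a
    simp only [P, map_mul, hσv, map_sum, ← Function.iterate_succ_apply' (⇑σ)]
    congr 1
    have h1 := Finset.sum_range_succ' (fun i => (σ)^[i] a) n
    have h2 := Finset.sum_range_succ (fun i => (σ)^[i] a) n
    rw [h2] at h1
    simp only [hσ, Function.iterate_zero_apply] at h1
    exact (add_right_cancel h1).symm
  have hP : ∀ a, ∃ b, a - P a = b - σ b := by
    intro a
    refine ⟨v * ∑ i ∈ Finset.range n, ∑ j ∈ Finset.range i, (σ)^[j] a, ?_⟩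
    rw [map_mul, hσv, map_sum, ← mul_sub, ← Finset.sum_sub_distrib]
    have : ∀ i, ∑ j ∈ Finset.range i, (σ)^[j] a - σ (∑ j ∈ Finset.range i, (σ)^[j] a) = a - (σ)^[i] a := by
      intro i
      induction i with
      | zero => simp
      | succ i ih =>
        rw [Finset.sum_range_succ, map_add, add_sub_add_comm, ih, Function.iterate_succ_apply']
        ring
    simp only [this, Finset.sum_sub_distrib, Finset.sum_const, Finset.card_range, nsmul_eq_mul, P]
    rw [mul_sub, ← mul_assoc, hv, one_mul]
  have hPD : ∀ b, P (b - σ b) = 0 := by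
    intro b
    have : ∀ i, (σ)^[i] (b - σ b) = (σ)^[i] b - (σ)^[i + 1] b := fun i => by
      induction i with
      | zero => simp
      | succ i ih => simp only [Function.iterate_succ_apply', ih, map_sub]
    simp only [P, this]
    rw [Finset.sum_range_sub', hσ, Function.iterate_zero_apply, sub_self, mul_zero]
  have hPfix : ∀ a, σ a = a → P a = a := by
    intro a ha
    have : ∀ i, (σ)^[i] a = a := fun i => Function.iterate_fixed ha i
    simp only [P, this, Finset.sum_const, Finset.card_range, nsmul_eq_mul]
    rw [← mul_assoc, hv, one_mul]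
  have hPadd : ∀ a b, P (a + b) = P a + P b := fun a b => by
    simp only [P, iterate_map_add, Finset.sum_add_distrib, mul_add]
  have hσmI : ∀ x ∈ m * I, ∀ i, (σ)^[i] x ∈ m * I := by
    intro x hx i
    induction i with
    | zero => exact hx
    | succ i ih =>
      rw [Function.iterate_succ_apply']
      have hle : Ideal.map σ.toRingHom (m * I) ≤ m * I := by
        rw [Ideal.map_mul]
        refine Ideal.mul_mono (Ideal.map_le_iff_le_comap.mpr fun y hy => ?_) (Ideal.map_le_iff_le_comap.mpr (Ideal.span_le.mpr ?_))
        · have := sub_mem hy (hdm y)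
          simpa using this
        · rintro _ ⟨a, rfl⟩
          show σ (a - σ a) ∈ I
          rw [map_sub]; exact hDI _
      exact hle (Ideal.mem_map_of_mem _ ih)
  have key : ∀ e ∈ m ^ 2, e - P e ∈ m * I := by
    intro e he
    rw [pow_two] at he
    refine Submodule.mul_induction_on he (fun a ha b hb => ?_) (fun x y hx hy => ?_)
    · obtain ⟨a', ha'⟩ := hP a
      obtain ⟨b', hb'⟩ := hP b
      have ha1 : a - P a ∈ I := ha' ▸ hDI _
      have hb1 : b - P b ∈ I := hb' ▸ hDI _
      have ha0 : P a ∈ m := by simpa using sub_mem ha (hIm ha1)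
      let r := (a - P a) * b + P a * (b - P b)
      have hr : r ∈ m * I := add_mem (by rw [mul_comm (a - P a) b]; exact Ideal.mul_mem_mul hb ha1) (Ideal.mul_mem_mul ha0 hb1)
      have e1 : a * b = P a * P b + r := by simp only [r]; ring
      have e2 : P (P a * P b) = P a * P b := hPfix _ (by rw [map_mul, hσP, hσP])
      have hPr : P r ∈ m * I := Ideal.mul_mem_left _ _ (Submodule.sum_mem _ fun i _ => hσmI r hr i)
      rw [e1, hPadd, e2, add_sub_add_left_eq_sub]
      exact sub_mem hr hPr
    · rw [hPadd, add_sub_add_comm]; exact add_mem hx hy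
  -- the classes of the differences
  let D : Set m.Cotangent := Set.range fun a => m.toCotangent ⟨a - σ a, hdm a⟩
  obtain ⟨B, hBD, hspan, hB⟩ := exists_linearIndependent (IsLocalRing.ResidueField A) D
  have : Finite B := hB.finite
  obtain ⟨l, ⟨eB⟩⟩ := Finite.exists_equiv_fin B
  choose g hg using fun i : Fin l => hBD (eB.symm i).2
  refine ⟨l, fun i => ⟨g i - σ (g i), hdm _⟩, ?_, ?_⟩
  swap
  · have : (fun i : Fin l => m.toCotangent ⟨g i - σ (g i), hdm _⟩) = (fun i => ((eB.symm i : B) : m.Cotangent)) :=
      funext hg
    rw [this]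
    exact hB.comp _ eB.symm.injective
  set J := Ideal.span (Set.range fun i : Fin l => g i - σ (g i)) with hJ
  have hJI : J ≤ I := Ideal.span_le.mpr (by rintro _ ⟨i, rfl⟩; exact hDI _)
  refine le_antisymm hJI (Submodule.le_of_le_smul_of_le_jacobson_bot (IsNoetherian.noetherian I)
    (IsLocalRing.maximalIdeal_le_jacobson ⊥) ?_)
  refine Ideal.span_le.mpr ?_
  rintro _ ⟨a, rfl⟩
  have hmem : m.toCotangent ⟨a - σ a, hdm a⟩ ∈ Submodule.span (IsLocalRing.ResidueField A)
      (Set.range fun i : Fin l => ((eB.symm i : B) : m.Cotangent)) := by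
    rw [show (Set.range fun i : Fin l => ((eB.symm i : B) : m.Cotangent)) = B from by
      rw [Set.range_comp' Subtype.val eB.symm, eB.symm.range_eq_univ, Set.image_univ, Subtype.range_coe]]
    rw [hspan]; exact Submodule.subset_span ⟨a, rfl⟩
  obtain ⟨c, hc⟩ := (Submodule.mem_span_range_iff_exists_fun _).mp hmem
  choose c' hc' using fun i => hres (c i)
  let e := (a - σ a) - ∑ i, algebraMap k A (c' i) * (g i - σ (g i))
  have he : e ∈ m ^ 2 := by
    have h0 : m.toCotangent (⟨a - σ a, hdm a⟩ - ∑ i, algebraMap k A (c' i) • (⟨g i - σ (g i), hdm _⟩ : m)) = 0 := by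
      rw [map_sub, map_sum, ← hc, sub_eq_zero]
      refine Finset.sum_congr rfl fun i _ => ?_
      rw [map_smul, show m.toCotangent ⟨g i - σ (g i), hdm _⟩ = ((eB.symm i : B) : m.Cotangent) from hg i, ← hc' i]
      rfl
    have := (Ideal.toCotangent_eq_zero m _).mp h0
    simp only [AddSubgroupClass.coe_sub, AddSubmonoidClass.coe_finset_sum, Submodule.coe_smul, smul_eq_mul] at this
    exact this
  have heD : e - P e = e := by
    have : P e = 0 := by
      have : e = (a - ∑ i, algebraMap k A (c' i) * g i) - σ (a - ∑ i, algebraMap k A (c' i) * g i) := by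
        simp only [e, map_sub, map_sum, map_mul, AlgHom.commutes, mul_sub, Finset.sum_sub_distrib]
        ring
      rw [this]; exact hPD _
    rw [this, sub_zero]
  have := key e he
  rw [heD] at this
  show a - σ a ∈ J ⊔ m • I
  have hsum : a - σ a = (∑ i, algebraMap k A (c' i) * (g i - σ (g i))) + e := by simp [e]
  rw [hsum]
  exact add_mem (Submodule.mem_sup_left (Submodule.sum_mem _ fun i _ =>
    Ideal.mul_mem_left _ _ (Ideal.subset_span ⟨i, rfl⟩))) (Submodule.mem_sup_right this)

end Groth.Agent.S18399
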