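import Groth.Statements.S18406
import Groth.Agent.Cubics.PlaneApp

set_option autoImplicit false
universe u
open Cubic

namespace Groth.Agent.S18406

open MvPolynomial in
/-- Let f be a nonzero homogeneous cubic in three variables over ℂ whose plane curve is smooth (at every
nonzero zero of f some partial derivative is nonzero), and let v and v′ be flexes of the curve, that
is nonzero zeros of f through each of which some line meets the curve with multiplicity three (there
is a vector w linearly independent from the point with f(point + t·w) = t³·f(w) for every t). Then a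
projective automorphism of the curve carries the point of v to the point of v′: there are an
invertible matrix A whose substitution X_i ↦ Σ_j A_ij X_j multiplies f by a constant c, and a
constant d with A·v = d·v′. (The published statement gives more: a subgroup of the projective
automorphism group isomorphic to C₃ × C₃ acts simply transitively on the nine flexes; only
transitivity is stated here.) -/
theorem result (f : MvPolynomial (Fin 3) ℂ) (hf : f.IsHomogeneous 3)
    (hf0 : f ≠ 0) (hsm : ∀ v : Fin 3 → ℂ, v ≠ 0 → eval v f = 0 → ∃ i : Fin 3, eval v (pderiv i f) ≠ 0)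
    (v v' : Fin 3 → ℂ) (hv : v ≠ 0) (hv' : v' ≠ 0) (hfv : eval v f = 0) (hfv' : eval v' f = 0)
    (hflex : (∃ w : Fin 3 → ℂ, LinearIndependent ℂ ![v, w] ∧ ∀ t : ℂ, eval (v + t • w) f = t ^ 3 * eval w f))
    (hflex' : (∃ w : Fin 3 → ℂ, LinearIndependent ℂ ![v', w] ∧ ∀ t : ℂ, eval (v' + t • w) f = t ^ 3 * eval w f)) :
    ∃ (A : Matrix (Fin 3) (Fin 3) ℂ) (c d : ℂ), IsUnit A.det ∧
      aeval (fun i : Fin 3 => ∑ j : Fin 3, C (A i j) * X j) f = C c * f ∧ A.mulVec v = d • v' := by
  obtain ⟨B, k, c, hB, hk, hc, h⟩ := Cubics.hesse_setup f hf hsm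
  have hinj : Function.Injective (B⁻¹).mulVec := fun x y hxy => by
    simpa [Cubics.inv_mulVec_cancel hB] using congrArg B.mulVec hxy
  have hne : ∀ {u : Fin 3 → ℂ}, u ≠ 0 → (B⁻¹).mulVec u ≠ 0 := fun hu h0 =>
    hu (hinj (by rw [h0, Matrix.mulVec_zero]))
  obtain ⟨σ, d, a, hd, hp, ha, h1⟩ :=
    Cubics.exists_mon_to (hne hv) (Cubics.ninePt_of_flex hB hk hc h ⟨hfv, hflex⟩)
  obtain ⟨σ', d', a', hd', hp', ha', h1'⟩ :=
    Cubics.exists_mon_to (hne hv') (Cubics.ninePt_of_flex hB hk hc h ⟨hfv', hflex'⟩)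
  set M := Cubics.mon σ d
  set M' := Cubics.mon σ' d'
  have hMinj : ∀ (τ : Equiv.Perm (Fin 3)) {e : Fin 3 → ℂ}, e 0 * e 1 * e 2 = 1 →
      IsUnit (Cubics.mon τ e).det := fun τ e he => by
    refine (Matrix.isUnit_iff_isUnit_det _).1 (Matrix.mulVec_injective_iff_isUnit.1 ?_)
    exact Cubics.mon_inj τ (by rw [he]; exact one_ne_zero)
  have hM : IsUnit M.det := hMinj σ hp
  refine ⟨B * M' * M⁻¹ * B⁻¹, 1, a' / a, ?_, (Cubics.subst_eq_iff _ f f 1).2 fun x => ?_, ?_⟩
  · simp only [Matrix.det_mul, Matrix.det_nonsing_inv, IsUnit.mul_iff]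
    exact ⟨⟨⟨hB, hMinj σ' hp'⟩, hM.ringInverse⟩, hB.ringInverse⟩
  · simp only [← Matrix.mulVec_mulVec]
    rw [h, Cubics.hes_mon_sym k σ' hd' hp', one_mul,
      ← Cubics.hes_mon_sym k σ hd hp (M⁻¹.mulVec _), Cubics.inv_mulVec_cancel hM, ← h,
      Cubics.inv_mulVec_cancel hB]
  · simp only [← Matrix.mulVec_mulVec]
    have hMv : M⁻¹.mulVec ((B⁻¹).mulVec v) = a⁻¹ • ![0, 1, -1] := by
      have := congrArg M⁻¹.mulVec h1
      rw [Cubics.inv_mulVec_cancel' hM, Matrix.mulVec_smul] at this
      rw [this, smul_smul, inv_mul_cancel₀ ha, one_smul]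
    rw [hMv, Matrix.mulVec_smul, h1', smul_smul, Matrix.mulVec_smul, Cubics.inv_mulVec_cancel hB,
      div_eq_inv_mul]

end Groth.Agent.S18406
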