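import Groth.Statements.S18407
import Groth.Agent.Cubics.Eckardt

set_option autoImplicit false
universe u
open Cubic

namespace Groth.Agent.S18407

open MvPolynomial in
/-- Let f be a nonzero homogeneous cubic in four variables over ℂ whose surface S = V_+(f) ⊂ P³ is
smooth (at every nonzero zero of f some partial derivative is nonzero); a line on S is a
2-dimensional subspace of ℂ⁴ on which f vanishes, and an Eckardt point of S is a nonzero vector
lying on three distinct lines on S. If e is an Eckardt point of S, there is exactly one involutory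
matrix A (A² = 1) whose +1-eigenspace is a hyperplane and with A·e = −e, such that the substitution
X_i ↦ Σ_j A_ij X_j multiplies f by a constant — that is, a projective involution preserving S whose
fixed locus is the disjoint union of a plane and the point of e. (Normalising A² = 1 and A·e = −e
singles out one matrix in the class of the involution.) -/
theorem result (f : MvPolynomial (Fin 4) ℂ) (hf : f.IsHomogeneous 3)
    (hf0 : f ≠ 0) (hsm : ∀ v : Fin 4 → ℂ, v ≠ 0 → eval v f = 0 → ∃ i : Fin 4, eval v (pderiv i f) ≠ 0)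
    (e : Fin 4 → ℂ) (he : e ≠ 0)
    (hE : (∃ U : Fin 3 → Submodule ℂ (Fin 4 → ℂ), Function.Injective U ∧
        ∀ i : Fin 3, Module.finrank ℂ ↥(U i) = 2 ∧ e ∈ U i ∧ ∀ u ∈ U i, eval u f = 0)) :
    ∃! A : Matrix (Fin 4) (Fin 4) ℂ, A * A = 1 ∧ Module.finrank ℂ ↥(LinearMap.ker (Matrix.toLin' A - LinearMap.id)) = 3 ∧
        A.mulVec e = -e ∧ ∃ c : ℂ, aeval (fun i : Fin 4 => ∑ j : Fin 4, C (A i j) * X j) f = C c * f := by
  obtain ⟨C₀, hF, hD⟩ := Cubics.exists_tri f hf
  have hs : C₀.Smooth := Cubics.Tri.smooth_of f C₀ hF hD hsm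
  have hinv : ∀ {A : Matrix (Fin 4) (Fin 4) ℂ},
      (∃ c : ℂ, aeval (fun i : Fin 4 => ∑ j : Fin 4, C (A i j) * X j) f = C c * f) →
      ∃ c : ℂ, ∀ x, C₀.F (A.mulVec x) = c * C₀.F x := by
    rintro A ⟨c, hc⟩
    exact ⟨c, fun x => by rw [← hF, ← hF]; exact (Cubics.subst_eq_iff A f f c).1 hc x⟩
  rw [Cubics.threeLines_iff hF] at hE
  have hEck := Cubics.IsEck.of_threeLines hs he hE
  obtain ⟨A, hA⟩ := Cubics.exists_isRefl hs he hEck
  refine ⟨A, ⟨hA.sq, Nat.succ_injective (hA.finrank_ker he), hA.mulVec_self, 1, ?_⟩, ?_⟩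
  · rw [Cubics.subst_eq_iff]
    intro v
    rw [hF, hF, hA.invariant hEck.1, one_mul]
  · rintro B ⟨h1, h2, h3, h4⟩
    obtain ⟨c, hc⟩ := hinv h4
    exact ((Cubics.isRefl_of_invol hs he hEck.1 h1 h2 h3 hc).unique hs he hEck.1 hA)

end Groth.Agent.S18407
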