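import Groth.Statements.S18409
import Groth.Agent.Cubics.Eckardt

set_option autoImplicit false
universe u
open Cubic

namespace Groth.Agent.S18409

open MvPolynomial in
/-- Let f be a nonzero homogeneous cubic in four variables over ℂ whose surface S = V_+(f) ⊂ P³ is
smooth (at every nonzero zero of f some partial derivative is nonzero); a line on S is a
2-dimensional subspace of ℂ⁴ on which f vanishes, and an Eckardt point of S is a nonzero vector
lying on three distinct lines on S. Let e and e′ be Eckardt points of S that are not proportional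
and let L be their span, a plane in ℂ⁴, i.e. the line of P³ through the two points. Then exactly one
of the two cases occurs: either f vanishes identically on L (the line lies on S), or L contains a
third Eckardt point e″, proportional to neither e nor e′, and every zero of f in L is proportional
to e, e′ or e″ (the line meets S in exactly three points, all Eckardt points). -/
theorem result (f : MvPolynomial (Fin 4) ℂ) (hf : f.IsHomogeneous 3)
    (hf0 : f ≠ 0) (hsm : ∀ v : Fin 4 → ℂ, v ≠ 0 → eval v f = 0 → ∃ i : Fin 4, eval v (pderiv i f) ≠ 0)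
    (e e' : Fin 4 → ℂ) (he : e ≠ 0) (he' : e' ∉ Submodule.span ℂ {e})
    (hE : (∃ U : Fin 3 → Submodule ℂ (Fin 4 → ℂ), Function.Injective U ∧
        ∀ i : Fin 3, Module.finrank ℂ ↥(U i) = 2 ∧ e ∈ U i ∧ ∀ u ∈ U i, eval u f = 0))
    (hE' : (∃ U : Fin 3 → Submodule ℂ (Fin 4 → ℂ), Function.Injective U ∧
        ∀ i : Fin 3, Module.finrank ℂ ↥(U i) = 2 ∧ e' ∈ U i ∧ ∀ u ∈ U i, eval u f = 0)) :
    Xor (∀ u ∈ Submodule.span ℂ {e, e'}, eval u f = 0)
      (∃ e'' : Fin 4 → ℂ, e'' ∈ Submodule.span ℂ {e, e'} ∧ e'' ∉ Submodule.span ℂ {e} ∧ e'' ∉ Submodule.span ℂ {e'} ∧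
        (∃ U : Fin 3 → Submodule ℂ (Fin 4 → ℂ), Function.Injective U ∧
        ∀ i : Fin 3, Module.finrank ℂ ↥(U i) = 2 ∧ e'' ∈ U i ∧ ∀ u ∈ U i, eval u f = 0) ∧
        ∀ u ∈ Submodule.span ℂ {e, e'}, eval u f = 0 →
          u ∈ Submodule.span ℂ {e} ∨ u ∈ Submodule.span ℂ {e'} ∨ u ∈ Submodule.span ℂ {e''}) := by
  obtain ⟨C₀, hF, hD⟩ := Cubics.exists_tri f hf
  have hs : C₀.Smooth := Cubics.Tri.smooth_of f C₀ hF hD hsm
  have hinv : ∀ {A : Matrix (Fin 4) (Fin 4) ℂ},
      (∃ c : ℂ, aeval (fun i : Fin 4 => ∑ j : Fin 4, C (A i j) * X j) f = C c * f) →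
      ∃ c : ℂ, ∀ x, C₀.F (A.mulVec x) = c * C₀.F x := by
    rintro A ⟨c, hc⟩
    exact ⟨c, fun x => by rw [← hF, ← hF]; exact (Cubics.subst_eq_iff A f f c).1 hc x⟩
  rw [Cubics.threeLines_iff hF] at hE hE'
  have he'0 : e' ≠ 0 := fun h => he' (h ▸ zero_mem _)
  have hEck := Cubics.IsEck.of_threeLines hs he hE
  have hEck' := Cubics.IsEck.of_threeLines hs he'0 hE'
  obtain ⟨hab, hline⟩ := Cubics.line_facts hEck hEck'
  simp only [Cubics.threeLines_iff hF]
  simp only [hF]
  by_cases ha : C₀.T e e e' = 0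
  · have hall : ∀ u ∈ Submodule.span ℂ {e, e'}, C₀.F u = 0 := by
      intro u hu
      obtain ⟨s, t, rfl⟩ := Submodule.mem_span_pair.1 hu
      rw [hline, ha, hab.1 ha]; ring
    refine Or.inl ⟨hall, ?_⟩
    rintro ⟨e'', h1, h2, h3, -, hz⟩
    have key : ∀ s : ℂ, s ≠ 0 → ∃ c : ℂ, c • e'' = e + s • e' := by
      intro s hs0
      have hm : e + s • e' ∈ Submodule.span ℂ {e, e'} :=
        Submodule.mem_span_pair.2 ⟨1, s, by rw [one_smul]⟩
      rcases hz _ hm (hall _ hm) with h | h | h
      · obtain ⟨c, hc⟩ := Submodule.mem_span_singleton.1 h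
        have := (Cubics.smul_ne_self he' (a := 1 - c) (b := s)
          (by rw [sub_smul, hc, one_smul]; abel) he).2
        exact absurd this hs0
      · obtain ⟨c, hc⟩ := Submodule.mem_span_singleton.1 h
        have := (Cubics.smul_ne_self he' (a := 1) (b := s - c)
          (by rw [sub_smul, hc, one_smul]; abel) he).1
        exact absurd this one_ne_zero
      · exact Submodule.mem_span_singleton.1 h
    obtain ⟨c, hc⟩ := key 1 one_ne_zero
    obtain ⟨d, hd⟩ := key 2 two_ne_zero
    obtain ⟨h5, h6⟩ := Cubics.smul_ne_self he' (a := d - c) (b := d - 2 * c)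
      (calc (d - c) • e + (d - 2 * c) • e'
          = d • (e + (1 : ℂ) • e') - c • (e + (2 : ℂ) • e') := by module
        _ = 0 := by rw [← hc, ← hd, smul_smul, smul_smul, mul_comm, sub_self]) he
    have hc0 : c = 0 := by linear_combination h5 - h6
    rw [hc0, zero_smul, one_smul] at hc
    exact he' (Submodule.mem_span_singleton.2
      ⟨-1, by rw [neg_one_smul]; exact (eq_neg_of_add_eq_zero_right hc.symm).symm⟩)
  · obtain ⟨A, hA⟩ := Cubics.exists_isRefl hs he hEck
    have hAe' : Cubics.IsEck C₀ (A.mulVec e') := hEck'.map hA.sq (hA.invariant hEck.1)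
    obtain ⟨φ, hAx, -, hφ⟩ := hA
    have hb : C₀.T e e' e' = -φ e' * C₀.T e e e' := hφ e'
    have hp : φ e' ≠ 0 := fun h => ha (hab.2 (by rw [hb, h]; ring))
    rw [hAx] at hAe'
    have hne : e' + φ e' • e ≠ 0 := fun h => one_ne_zero (Cubics.smul_ne_self he'
      (a := φ e') (b := 1) (by rw [← h]; module) he).2
    refine Or.inr ⟨⟨e' + φ e' • e, ?_, ?_, ?_, hAe'.threeLines hs hne, ?_⟩, ?_⟩
    · exact Submodule.mem_span_pair.2 ⟨φ e', 1, by module⟩
    · intro h
      obtain ⟨c, hc⟩ := Submodule.mem_span_singleton.1 h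
      exact one_ne_zero (Cubics.smul_ne_self he' (a := φ e' - c) (b := 1)
        (by rw [sub_smul, hc]; module) he).2
    · intro h
      obtain ⟨c, hc⟩ := Submodule.mem_span_singleton.1 h
      exact hp (Cubics.smul_ne_self he' (a := φ e') (b := 1 - c)
        (by rw [sub_smul, hc]; module) he).1
    · intro u hu h0
      obtain ⟨s, t, rfl⟩ := Submodule.mem_span_pair.1 hu
      rw [hline] at h0
      by_cases hs0 : s = 0
      · exact Or.inr (Or.inl (Submodule.mem_span_singleton.2 ⟨t, by rw [hs0]; simp⟩))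
      by_cases ht0 : t = 0
      · exact Or.inl (Submodule.mem_span_singleton.2 ⟨s, by rw [ht0]; simp⟩)
      have hst : s = t * φ e' := by
        have : 3 * s * t * C₀.T e e e' * (s - t * φ e') = 0 := by rw [hb] at h0; linear_combination h0
        simpa [hs0, ht0, ha, sub_eq_zero] using this
      exact Or.inr (Or.inr (Submodule.mem_span_singleton.2 ⟨t, by rw [hst]; module⟩))
    · intro hall
      have h := hall _ (Submodule.mem_span_pair.2 ⟨1, 1, rfl⟩)
      have h' := hall _ (Submodule.mem_span_pair.2 ⟨1, -1, rfl⟩)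
      rw [hline] at h h'
      exact ha (by linear_combination (1 / 6 : ℂ) * h - (1 / 6 : ℂ) * h')

end Groth.Agent.S18409
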