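import Groth.Statements.S18410
import Groth.Agent.Cubics.Eckardt

set_option autoImplicit false
universe u
open Cubic

namespace Groth.Agent.S18410

open MvPolynomial in
/-- Let f be a nonzero homogeneous cubic in four variables over ℂ whose surface S = V_+(f) ⊂ P³ is
smooth (at every nonzero zero of f some partial derivative is nonzero); a line on S is a
2-dimensional subspace of ℂ⁴ on which f vanishes, and an Eckardt point of S is a nonzero vector
lying on three distinct lines on S. Let e, e′ be non-proportional Eckardt points of S such that f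
vanishes on their span (the line joining them lies on S), and let A, A′ be their Eckardt
involutions: an involutory matrix A (A² = 1) whose +1-eigenspace is a hyperplane and with A·e = −e,
such that the substitution X_i ↦ Σ_j A_ij X_j multiplies f by a constant — that is, a projective
involution preserving S whose fixed locus is the disjoint union of a plane and the point of e, and
likewise A′ for e′. Then the two involutions commute as projective transformations (A·A′ is a scalar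
multiple of A′·A) and each fixes the other point (A·e′ is proportional to e′ and A′·e to e). -/
theorem result (f : MvPolynomial (Fin 4) ℂ) (hf : f.IsHomogeneous 3)
    (hf0 : f ≠ 0) (hsm : ∀ v : Fin 4 → ℂ, v ≠ 0 → eval v f = 0 → ∃ i : Fin 4, eval v (pderiv i f) ≠ 0)
    (e e' : Fin 4 → ℂ) (he : e ≠ 0) (he' : e' ∉ Submodule.span ℂ {e})
    (hE : (∃ U : Fin 3 → Submodule ℂ (Fin 4 → ℂ), Function.Injective U ∧
        ∀ i : Fin 3, Module.finrank ℂ ↥(U i) = 2 ∧ e ∈ U i ∧ ∀ u ∈ U i, eval u f = 0))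
    (hE' : (∃ U : Fin 3 → Submodule ℂ (Fin 4 → ℂ), Function.Injective U ∧
        ∀ i : Fin 3, Module.finrank ℂ ↥(U i) = 2 ∧ e' ∈ U i ∧ ∀ u ∈ U i, eval u f = 0))
    (hL : ∀ u ∈ Submodule.span ℂ {e, e'}, eval u f = 0)
    (A A' : Matrix (Fin 4) (Fin 4) ℂ)
    (hA : A * A = 1 ∧ Module.finrank ℂ ↥(LinearMap.ker (Matrix.toLin' A - LinearMap.id)) = 3 ∧
        A.mulVec e = -e ∧ ∃ c : ℂ, aeval (fun i : Fin 4 => ∑ j : Fin 4, C (A i j) * X j) f = C c * f)
    (hA' : A' * A' = 1 ∧ Module.finrank ℂ ↥(LinearMap.ker (Matrix.toLin' A' - LinearMap.id)) = 3 ∧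
        A'.mulVec e' = -e' ∧ ∃ c : ℂ, aeval (fun i : Fin 4 => ∑ j : Fin 4, C (A' i j) * X j) f = C c * f) :
    (∃ c : ℂ, A * A' = c • (A' * A)) ∧ (∃ d : ℂ, A.mulVec e' = d • e') ∧ (∃ d : ℂ, A'.mulVec e = d • e) := by
  obtain ⟨C₀, hF, hD⟩ := Cubics.exists_tri f hf
  have hs : C₀.Smooth := Cubics.Tri.smooth_of f C₀ hF hD hsm
  have hinv : ∀ {A : Matrix (Fin 4) (Fin 4) ℂ},
      (∃ c : ℂ, aeval (fun i : Fin 4 => ∑ j : Fin 4, C (A i j) * X j) f = C c * f) →
      ∃ c : ℂ, ∀ x, C₀.F (A.mulVec x) = c * C₀.F x := by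
    rintro A ⟨c, hc⟩
    exact ⟨c, fun x => by rw [← hF, ← hF]; exact (Cubics.subst_eq_iff A f f c).1 hc x⟩
  rw [Cubics.threeLines_iff hF] at hE hE'
  have he'0 : e' ≠ 0 := fun h => he' (h ▸ zero_mem _)
  have hEck := Cubics.IsEck.of_threeLines hs he hE
  have hEck' := Cubics.IsEck.of_threeLines hs he'0 hE'
  obtain ⟨hab, hline⟩ := Cubics.line_facts hEck hEck'
  simp only [hF] at hL
  obtain ⟨a1, a2, a3, a4⟩ := hA
  obtain ⟨c, hc⟩ := hinv a4
  obtain ⟨φ, hAx, -, hφ⟩ := Cubics.isRefl_of_invol hs he hEck.1 a1 a2 a3 hc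
  obtain ⟨b1, b2, b3, b4⟩ := hA'
  obtain ⟨c', hc'⟩ := hinv b4
  obtain ⟨φ', hAx', -, hφ'⟩ := Cubics.isRefl_of_invol hs he'0 hEck'.1 b1 b2 b3 hc'
  have h := hL _ (Submodule.mem_span_pair.2 ⟨1, 1, rfl⟩)
  have h' := hL _ (Submodule.mem_span_pair.2 ⟨1, -1, rfl⟩)
  rw [hline] at h h'
  have ha : C₀.T e e e' = 0 := by linear_combination (1 / 6 : ℂ) * h - (1 / 6 : ℂ) * h'
  have hb := hab.1 ha
  have ha' : C₀.T e' e' e = 0 := by rw [C₀.rev]; exact hb
  -- each reflection fixes the other point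
  have key : ∀ {e e' : Cubics.Vec 4}, e ≠ 0 → e' ∉ Submodule.span ℂ {e} → Cubics.IsEck C₀ e →
      Cubics.IsEck C₀ e' → C₀.T e e e' = 0 → C₀.T e' e' e = 0 →
      ∀ φ' : Cubics.Vec 4 →ₗ[ℂ] ℂ, (∀ x, C₀.T e' x x = -φ' x * C₀.T e' e' x) → φ' e = 0 := by
    intro e e' he hne hEck hEck' ha ha' φ' hφ'
    obtain ⟨h, hh, hne'⟩ := Cubics.noDouble hs he hEck hne ha hEck'.1
    have h0 : C₀.T e e' h = 0 := hEck.2 _ _ ha hh
    have h1 := hφ' (e + h)
    simp only [map_add, LinearMap.add_apply, hφ' e, hφ' h, ha', C₀.swap23 e' h e,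
      C₀.swap12 e' e h, h0] at h1
    have : φ' e * C₀.T e' e' h = 0 := by linear_combination h1
    simpa [hne'] using this
  have hne2 : e ∉ Submodule.span ℂ {e'} := fun hm => by
    obtain ⟨d, rfl⟩ := Submodule.mem_span_singleton.1 hm
    exact he' (Submodule.mem_span_singleton.2 ⟨d⁻¹, by
      rw [smul_smul, inv_mul_cancel₀ (fun h => he (by rw [h, zero_smul])), one_smul]⟩)
  have h1 : φ' e = 0 := key he he' hEck hEck' ha ha' φ' hφ'
  have h2 : φ e' = 0 := key he'0 hne2 hEck' hEck ha' ha φ hφ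
  refine ⟨⟨1, ?_⟩, ⟨1, by rw [hAx, h2]; simp⟩, ⟨1, by rw [hAx', h1]; simp⟩⟩
  rw [one_smul]
  refine Matrix.mulVec_injective (funext fun x => ?_)
  rw [← Matrix.mulVec_mulVec, ← Matrix.mulVec_mulVec, hAx (A'.mulVec x), hAx' (A.mulVec x), hAx x,
    hAx' x]
  simp only [map_add, map_smul, h1, h2, smul_eq_mul, mul_zero, add_zero]
  abel

end Groth.Agent.S18410
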