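import Groth.Statements.S18411
import Groth.Agent.Cubics.Eckardt

set_option autoImplicit false
universe u
open Cubic

namespace Groth.Agent.S18411

open MvPolynomial in
/-- Let f be a nonzero homogeneous cubic in four variables over ℂ whose surface S = V_+(f) ⊂ P³ is
smooth (at every nonzero zero of f some partial derivative is nonzero); a line on S is a
2-dimensional subspace of ℂ⁴ on which f vanishes, and an Eckardt point of S is a nonzero vector
lying on three distinct lines on S. Let e, e′, e″ be pairwise non-proportional Eckardt points of S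
spanning a single plane L = span(e, e′) of ℂ⁴ on which f does not vanish identically (three
collinear Eckardt points whose line is not on S), and let A, A′, A″ be their Eckardt involutions: an
involutory matrix A (A² = 1) whose +1-eigenspace is a hyperplane and with A·e = −e, such that the
substitution X_i ↦ Σ_j A_ij X_j multiplies f by a constant — that is, a projective involution
preserving S whose fixed locus is the disjoint union of a plane and the point of e, and likewise for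
e′ and e″. Then the three involutions generate, as projective transformations, a group isomorphic to
the symmetric group on three letters: the product A·A′ is not a scalar matrix, its cube is, and A″
is a scalar multiple of A·A′·A. -/
theorem result (f : MvPolynomial (Fin 4) ℂ) (hf : f.IsHomogeneous 3)
    (hf0 : f ≠ 0) (hsm : ∀ v : Fin 4 → ℂ, v ≠ 0 → eval v f = 0 → ∃ i : Fin 4, eval v (pderiv i f) ≠ 0)
    (e e' e'' : Fin 4 → ℂ) (he : e ≠ 0) (he' : e' ∉ Submodule.span ℂ {e})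
    (he''1 : e'' ∉ Submodule.span ℂ {e}) (he''2 : e'' ∉ Submodule.span ℂ {e'}) (he''L : e'' ∈ Submodule.span ℂ {e, e'})
    (hE : (∃ U : Fin 3 → Submodule ℂ (Fin 4 → ℂ), Function.Injective U ∧
        ∀ i : Fin 3, Module.finrank ℂ ↥(U i) = 2 ∧ e ∈ U i ∧ ∀ u ∈ U i, eval u f = 0))
    (hE' : (∃ U : Fin 3 → Submodule ℂ (Fin 4 → ℂ), Function.Injective U ∧
        ∀ i : Fin 3, Module.finrank ℂ ↥(U i) = 2 ∧ e' ∈ U i ∧ ∀ u ∈ U i, eval u f = 0))
    (hE'' : (∃ U : Fin 3 → Submodule ℂ (Fin 4 → ℂ), Function.Injective U ∧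
        ∀ i : Fin 3, Module.finrank ℂ ↥(U i) = 2 ∧ e'' ∈ U i ∧ ∀ u ∈ U i, eval u f = 0))
    (hL : ¬ ∀ u ∈ Submodule.span ℂ {e, e'}, eval u f = 0)
    (A A' A'' : Matrix (Fin 4) (Fin 4) ℂ)
    (hA : A * A = 1 ∧ Module.finrank ℂ ↥(LinearMap.ker (Matrix.toLin' A - LinearMap.id)) = 3 ∧
        A.mulVec e = -e ∧ ∃ c : ℂ, aeval (fun i : Fin 4 => ∑ j : Fin 4, C (A i j) * X j) f = C c * f)
    (hA' : A' * A' = 1 ∧ Module.finrank ℂ ↥(LinearMap.ker (Matrix.toLin' A' - LinearMap.id)) = 3 ∧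
        A'.mulVec e' = -e' ∧ ∃ c : ℂ, aeval (fun i : Fin 4 => ∑ j : Fin 4, C (A' i j) * X j) f = C c * f)
    (hA'' : A'' * A'' = 1 ∧ Module.finrank ℂ ↥(LinearMap.ker (Matrix.toLin' A'' - LinearMap.id)) = 3 ∧
        A''.mulVec e'' = -e'' ∧ ∃ c : ℂ, aeval (fun i : Fin 4 => ∑ j : Fin 4, C (A'' i j) * X j) f = C c * f) :
    (¬ ∃ c : ℂ, A * A' = c • (1 : Matrix (Fin 4) (Fin 4) ℂ)) ∧ (∃ c : ℂ, (A * A') ^ 3 = c • (1 : Matrix (Fin 4) (Fin 4) ℂ)) ∧
      ∃ c : ℂ, A'' = c • (A * A' * A) := by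
  obtain ⟨C₀, hF, hD⟩ := Cubics.exists_tri f hf
  have hs : C₀.Smooth := Cubics.Tri.smooth_of f C₀ hF hD hsm
  have hinv : ∀ {A : Matrix (Fin 4) (Fin 4) ℂ},
      (∃ c : ℂ, aeval (fun i : Fin 4 => ∑ j : Fin 4, C (A i j) * X j) f = C c * f) →
      ∃ c : ℂ, ∀ x, C₀.F (A.mulVec x) = c * C₀.F x := by
    rintro A ⟨c, hc⟩
    exact ⟨c, fun x => by rw [← hF, ← hF]; exact (Cubics.subst_eq_iff A f f c).1 hc x⟩
  rw [Cubics.threeLines_iff hF] at hE hE'
  have he'0 : e' ≠ 0 := fun h => he' (h ▸ zero_mem _)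
  have hEck := Cubics.IsEck.of_threeLines hs he hE
  have hEck' := Cubics.IsEck.of_threeLines hs he'0 hE'
  obtain ⟨hab, hline⟩ := Cubics.line_facts hEck hEck'
  rw [Cubics.threeLines_iff hF] at hE''
  simp only [hF] at hL
  have he''0 : e'' ≠ 0 := fun h => he''1 (h ▸ zero_mem _)
  have hEck'' := Cubics.IsEck.of_threeLines hs he''0 hE''
  obtain ⟨a1, a2, a3, a4⟩ := hA
  obtain ⟨c, hc⟩ := hinv a4
  have rA := Cubics.isRefl_of_invol hs he hEck.1 a1 a2 a3 hc
  obtain ⟨b1, b2, b3, b4⟩ := hA'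
  obtain ⟨c', hc'⟩ := hinv b4
  have rA' := Cubics.isRefl_of_invol hs he'0 hEck'.1 b1 b2 b3 hc'
  obtain ⟨d1, d2, d3, d4⟩ := hA''
  obtain ⟨c'', hc''⟩ := hinv d4
  have rA'' := Cubics.isRefl_of_invol hs he''0 hEck''.1 d1 d2 d3 hc''
  have ha : C₀.T e e e' ≠ 0 := by
    intro ha
    refine hL fun u hu => ?_
    obtain ⟨s, t, rfl⟩ := Submodule.mem_span_pair.1 hu
    rw [hline, ha, hab.1 ha]; ring
  obtain ⟨φ, hAx, hφe, hφ⟩ := id rA
  obtain ⟨φ', hAx', hφe', hφ'⟩ := id rA'
  set p := φ e' with hpdef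
  set q := φ' e with hqdef
  have hb : C₀.T e e' e' = -p * C₀.T e e e' := hφ e'
  have ha2 : C₀.T e e e' = -q * C₀.T e e' e' := by
    have := hφ' e
    rw [C₀.rev e' e e, C₀.rev e' e' e] at this
    exact this
  have hp : p ≠ 0 := fun h => ha (hab.2 (by rw [hb, h]; ring))
  have hpq : p * q = 1 := by
    have : C₀.T e e e' * (p * q - 1) = 0 := by
      rw [hb] at ha2; linear_combination -ha2
    simpa [ha, sub_eq_zero] using this
  have hq : q ≠ 0 := right_ne_zero_of_mul_eq_one hpq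
  have hne : ∀ r : ℂ, e' + r • e ≠ 0 := fun r h => one_ne_zero (Cubics.smul_ne_self he'
    (a := r) (b := 1) (by rw [← h]; module) he).2
  have hB : Cubics.IsRefl C₀ (A * A' * A) (A.mulVec e') := rA.conj hEck.1 rA'
  have hB0 : C₀.F (A.mulVec e') = 0 := by rw [rA.invariant hEck.1, hEck'.1]
  have hC : Cubics.IsRefl C₀ (A' * A * A') (A'.mulVec e) := rA'.conj hEck'.1 rA
  have heq1 : A.mulVec e' = e' + p • e := hAx e'
  have heq2 : A'.mulVec e = q • A.mulVec e' := by
    rw [hAx' e, heq1, smul_add, smul_smul, mul_comm q p, hpq, one_smul, ← hqdef]; abel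
  rw [heq2] at hC
  have hC' := hC.smul (inv_ne_zero hq)
  rw [smul_smul, inv_mul_cancel₀ hq, one_smul] at hC'
  have hB1 : A.mulVec e' ≠ 0 := heq1 ▸ hne p
  have hBC : A' * A * A' = A * A' * A := hC'.unique hs hB1 hB0 hB
  refine ⟨?_, ⟨1, ?_⟩, ⟨1, ?_⟩⟩
  · rintro ⟨r, hr⟩
    have h2 : A' = r • A := by
      calc A' = (A * A) * A' := by rw [a1, one_mul]
        _ = A * (A * A') := mul_assoc _ _ _
        _ = r • A := by rw [hr, mul_smul_comm, mul_one]
    have h3 := hAx' e
    rw [h2, Matrix.smul_mulVec, a3, ← hqdef] at h3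
    exact hq (Cubics.smul_ne_self he' (a := 1 + r) (b := q)
      (calc (1 + r) • e + q • e' = (e + q • e') - r • (-e) := by module
        _ = 0 := by rw [h3, sub_self]) he).2
  · rw [one_smul, show (A * A') ^ 3 = A * A' * A * (A' * A * A') by
      rw [pow_succ, pow_two]; noncomm_ring, hBC, hB.sq]
  · rw [one_smul]
    obtain ⟨s, t, hst⟩ := Submodule.mem_span_pair.1 he''L
    have h0 : C₀.F e'' = 0 := hEck''.1
    rw [← hst, hline] at h0
    have ht : t ≠ 0 := fun h => he''1 (Submodule.mem_span_singleton.2 ⟨s, by rw [← hst, h]; simp⟩)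
    have hs0 : s ≠ 0 := fun h => he''2 (Submodule.mem_span_singleton.2 ⟨t, by rw [← hst, h]; simp⟩)
    have hst' : s = t * p := by
      have : 3 * s * t * C₀.T e e e' * (s - t * p) = 0 := by rw [hb] at h0; linear_combination h0
      simpa [hs0, ht, ha, sub_eq_zero] using this
    have he3 : e'' = t • A.mulVec e' := by rw [heq1, ← hst, hst']; module
    rw [he3] at rA''
    have r3 := rA''.smul (inv_ne_zero ht)
    rw [smul_smul, inv_mul_cancel₀ ht, one_smul] at r3
    exact r3.unique hs hB1 hB0 hB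

end Groth.Agent.S18411
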