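import Groth.Statements.S18412
import Groth.Agent.Cubics.Count

set_option autoImplicit false
universe u
open Cubic

namespace Groth.Agent.S18412

open MvPolynomial in
/-- For all k ∈ ℂ outside a finite set, the Hesse cubic h_k = X₀³ + X₁³ + X₂³ − 3k·X₀X₁X₂ has exactly 18
projective automorphisms; spelled without quotients as: the matrices A of determinant 1 whose
substitution X_i ↦ Σ_j A_ij X_j carries h_k to a constant multiple of h_k are exactly 54 in number
(every projective class has three lifts of determinant one, so 54 = 3 · 18). As every smooth plane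
cubic over ℂ is projectively equivalent to some h_k, this is the statement that the general smooth
plane cubic has a projective automorphism group of order 18. -/
theorem result :
    ∃ T : Finset ℂ, ∀ k : ℂ, k ∉ T →
      Nat.card {A : Matrix (Fin 3) (Fin 3) ℂ // A.det = 1 ∧
        ∃ c : ℂ, aeval (fun i : Fin 3 => ∑ j : Fin 3, C (A i j) * X j) (HesseCubic.form k) =
          C c * HesseCubic.form k} = 54 := by
  classical
  let Q : Polynomial ℂ := (Polynomial.X ^ 3 - 1) * (Polynomial.X * (Polynomial.X ^ 3 + 8)) *
    (Polynomial.X ^ 6 - 20 * Polynomial.X ^ 3 - 8)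
  have hQ : Q ≠ 0 := fun h => by
    have := congrArg (Polynomial.eval 2) h
    norm_num [Q] at this
  refine ⟨(Polynomial.finite_setOf_isRoot hQ).toFinset, fun k hk => ?_⟩
  simp only [Set.Finite.mem_toFinset, Set.mem_setOf_eq, Polynomial.IsRoot, Q, Polynomial.eval_mul,
    Polynomial.eval_sub, Polynomial.eval_add, Polynomial.eval_pow, Polynomial.eval_X,
    Polynomial.eval_one, Polynomial.eval_ofNat, mul_eq_zero, not_or] at hk
  obtain ⟨⟨h1, h2, h3⟩, h4⟩ := hk
  refine (Nat.card_congr (Equiv.subtypeEquivRight fun A => ?_)).trans
    (Cubics.card_aut1 (k := k) (sub_ne_zero.1 h1) (mul_ne_zero h2 h3) h4)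
  simp only [Cubics.subst_eq_iff, Cubics.eval_form]

end Groth.Agent.S18412
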