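import Groth.Statements.S18415
import Groth.Agent.EtSite.ASSheaf

set_option autoImplicit false
universe u
open CategoryTheory AlgebraicGeometry
open EtCoh

namespace Groth.Agent.S18415

/-- Let p be a prime and X a scheme with p = 0 in Γ(X, O_X). Then the Artin–Schreier endomorphism x ↦
x^p − x of the additive group sheaf G_a on the small étale site of X is an epimorphism of abelian
étale sheaves (the right-hand exactness of 0 → Z/p → G_a → G_a → 0 on X_et). (The published example
takes X a variety over a field of characteristic p; this row assumes only that p = 0 in Γ(X, O_X).) -/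
theorem result
    (p : ℕ) (hp : p.Prime) {X : Scheme.{u}} (h0 : (p : Γ(X, ⊤)) = 0) :
    Epi (W4c5etcohweilstudent.artinSchreierEndo X p hp h0) := by
  have := Fact.mk hp
  have hP : Epi (EtSite.ASSheaf.P h0) := EtSite.ASSheaf.epi_P h0
  have e : W4c5etcohweilstudent.artinSchreierEndo X p hp h0 = -EtSite.ASSheaf.P h0 := by
    apply Sheaf.hom_ext
    ext U s
    refine ULift.ext _ _ ?_
    change (show Γ(U.unop.left, ⊤) from s.down) ^ p - (show Γ(U.unop.left, ⊤) from s.down) =
      -((show Γ(U.unop.left, ⊤) from s.down) - (show Γ(U.unop.left, ⊤) from s.down) ^ p)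
    rw [neg_sub]
  rw [e]
  infer_instance

end Groth.Agent.S18415
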