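import Mathlib
import Groth.Statements.S18420
-- import your own Groth.Agent.* helpers here

set_option autoImplicit false
universe u v
open DPow

namespace Groth.Agent.S18420

open Finset MvPolynomial

noncomputable section

/-- The coefficient ring: a polynomial ring surjecting onto `R`. -/
abbrev Cov (R : Type u) := MvPolynomial R ℤ

/-- The `ℚ`-algebra in which the divided powers are computed. -/
abbrev Amb (R : Type u) (N : ℕ) := MvPolynomial (Fin N) (MvPolynomial R ℚ)

variable (R : Type u) (N : ℕ)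

/-- The structure map of the coefficients. -/
def iota : Cov R →+* Amb R N := MvPolynomial.C.comp (MvPolynomial.map (Int.castRingHom ℚ))

open scoped Classical in
/-- Divided powers in the ambient algebra. -/
def dpA : DividedPowers (⊤ : Ideal (Amb R N)) := DividedPowers.RatAlgebra.dividedPowers _

/-- `X_i^[n]` in the ambient algebra. -/
def yA (i : Fin N) (n : ℕ) : Amb R N := (dpA R N).dpow n (MvPolynomial.X i)

variable {R N}

lemma monomial_mul_law {P : Type*} [CommRing P] (x : Fin N → ℕ → P) (hx0 : ∀ i, x i 0 = 1)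
    (hxmul : ∀ i n m, x i n * x i m = ((n + m).choose n : P) * x i (n + m)) (e : Fin N →₀ ℕ) (i : Fin N) (n : ℕ) :
    e.prod (fun i k => x i k) * x i n =
      ((e i + n).choose (e i) : P) * (e + Finsupp.single i n).prod (fun i k => x i k) := by
  classical
  rw [Finsupp.prod_fintype _ _ hx0, Finsupp.prod_fintype _ _ hx0,
    ← mul_prod_erase univ _ (mem_univ i), ← mul_prod_erase univ (fun j => x j _) (mem_univ i)]
  have h : ∀ j ∈ univ.erase i, x j ((e + Finsupp.single i n : Fin N →₀ ℕ) j) = x j (e j) := fun j hj => by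
    rw [Finsupp.add_apply, Finsupp.single_eq_of_ne (Finset.mem_erase.1 hj).1, add_zero]
  rw [prod_congr rfl h, Finsupp.add_apply, Finsupp.single_eq_same, mul_right_comm, hxmul, mul_assoc]

lemma yA_zero (i : Fin N) : yA R N i 0 = 1 := (dpA R N).dpow_zero Submodule.mem_top

lemma yA_mul (i : Fin N) (n m : ℕ) :
    yA R N i n * yA R N i m = ((n + m).choose n : Amb R N) * yA R N i (n + m) :=
  (dpA R N).mul_dpow Submodule.mem_top

/-- The divided monomials. -/
def YA (e : Fin N →₀ ℕ) : Amb R N := e.prod fun i k => yA R N i k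

lemma factorial_mul_YA (e : Fin N →₀ ℕ) :
    ((∏ i, (e i).factorial : ℕ) : Amb R N) * YA e = MvPolynomial.monomial e 1 := by
  rw [YA, Finsupp.prod_fintype _ _ (fun i => yA_zero i), Nat.cast_prod, ← prod_mul_distrib, monomial_eq,
    map_one, one_mul, Finsupp.prod_fintype _ _ (fun i => pow_zero _)]
  exact prod_congr rfl fun i _ => (dpA R N).factorial_mul_dpow_eq_pow Submodule.mem_top

lemma coeff_YA (e f : Fin N →₀ ℕ) :
    ((∏ i, (e i).factorial : ℕ) : MvPolynomial R ℚ) * MvPolynomial.coeff f (YA e : Amb R N) =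
      if e = f then 1 else 0 := by
  classical
  have h := congrArg (MvPolynomial.coeff f) (factorial_mul_YA (R := R) e)
  rw [← map_natCast (MvPolynomial.C : MvPolynomial R ℚ →+* Amb R N), MvPolynomial.coeff_C_mul,
    MvPolynomial.coeff_monomial] at h
  exact h

/-- A combination of divided monomials in the ambient algebra. -/
def repA (c : (Fin N →₀ ℕ) →₀ Cov R) : Amb R N := c.sum fun e r => iota R N r * YA e

lemma repA_eq_zero {c : (Fin N →₀ ℕ) →₀ Cov R} (h : repA c = 0) : c = 0 := by
  classical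
  ext1 f
  have h1 := congrArg (fun a : Amb R N => ((∏ i, (f i).factorial : ℕ) : MvPolynomial R ℚ) * MvPolynomial.coeff f a) h
  simp only [repA, Finsupp.sum, MvPolynomial.coeff_sum, mul_sum, MvPolynomial.coeff_zero, mul_zero] at h1
  rw [Finset.sum_eq_single f] at h1
  · rw [iota, RingHom.comp_apply, MvPolynomial.coeff_C_mul, mul_left_comm, coeff_YA, if_pos rfl, mul_one] at h1
    exact MvPolynomial.map_injective _ Int.cast_injective (h1.trans (map_zero _).symm)
  · intro e _ hef
    have h2 := coeff_YA (R := R) e f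
    rw [if_neg hef, mul_eq_zero] at h2
    have hne : ((∏ i, (e i).factorial : ℕ) : MvPolynomial R ℚ) ≠ 0 :=
      Nat.cast_ne_zero.2 (Finset.prod_ne_zero_iff.2 fun i _ => Nat.factorial_ne_zero _)
    rw [iota, RingHom.comp_apply, MvPolynomial.coeff_C_mul, h2.resolve_left hne, mul_zero, mul_zero]
  · intro hf
    rw [Finsupp.notMem_support_iff.1 hf]
    simp [iota]

variable (R N)

/-- All expressions in the generators. -/
abbrev Expr := MvPolynomial (Fin N × ℕ) (Cov R)

/-- Their values in the ambient algebra. -/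
def evA : Expr R N →+* Amb R N := MvPolynomial.eval₂Hom (iota R N) fun q => yA R N q.1 q.2

/-- The covering divided power algebra. -/
abbrev Pc := (evA R N).range

/-- `X_i^[n]` in the covering algebra. -/
def yP (i : Fin N) (n : ℕ) : Pc R N := ⟨yA R N i n, MvPolynomial.X (i, n), MvPolynomial.eval₂Hom_X' _ _ _⟩

/-- The augmentation ideal of the covering algebra. -/
def Ic : Ideal (Pc R N) := Ideal.span {y | ∃ (i : Fin N) (n : ℕ), 1 ≤ n ∧ y = yP R N i n}

variable {R N}

lemma constantCoeff_yA (i : Fin N) {n : ℕ} (hn : 1 ≤ n) : MvPolynomial.constantCoeff (yA R N i n) = 0 := by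
  have h := congrArg MvPolynomial.constantCoeff
    ((dpA R N).factorial_mul_dpow_eq_pow (n := n) (a := MvPolynomial.X i) Submodule.mem_top)
  rw [map_mul, map_natCast, map_pow, MvPolynomial.constantCoeff_X, zero_pow (by omega)] at h
  exact (mul_eq_zero.1 h).resolve_left (Nat.cast_ne_zero.2 (Nat.factorial_ne_zero n))

lemma constantCoeff_of_mem_Ic {a : Pc R N} (ha : a ∈ Ic R N) :
    MvPolynomial.constantCoeff (a : Amb R N) = 0 := by
  induction ha using Submodule.span_induction with
  | mem y hy => obtain ⟨i, n, hn, rfl⟩ := hy; exact constantCoeff_yA i hn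
  | zero => simp
  | add a b _ _ ha hb => simp [ha, hb]
  | smul r a _ ha => simp [smul_eq_mul, ha]

lemma dpow_mem_Ic {a : Pc R N} (ha : a ∈ Ic R N) :
    ∀ n : ℕ, ∃ b : Pc R N, (b : Amb R N) = (dpA R N).dpow n (a : Amb R N) ∧ (n ≠ 0 → b ∈ Ic R N) := by
  induction ha using Submodule.span_induction with
  | mem y hy =>
    obtain ⟨i, m, hm, rfl⟩ := hy
    intro n
    refine ⟨(Nat.uniformBell n m : Pc R N) * yP R N i (n * m), ?_, fun hn => ?_⟩
    · change _ = (dpA R N).dpow n ((dpA R N).dpow m (MvPolynomial.X i))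
      rw [(dpA R N).dpow_comp (by omega) Submodule.mem_top]
      simp [yP, yA]
    · refine Ideal.mul_mem_left _ _ (Ideal.subset_span ⟨i, n * m, ?_, rfl⟩)
      exact Nat.one_le_iff_ne_zero.2 (Nat.mul_ne_zero hn (by omega))
  | zero =>
    intro n
    rcases eq_or_ne n 0 with rfl | hn
    · exact ⟨1, by simp [(dpA R N).dpow_zero Submodule.mem_top], fun h => absurd rfl h⟩
    · exact ⟨0, by simp [(dpA R N).dpow_eval_zero hn], fun _ => zero_mem _⟩
  | add x y _ _ hx hy =>
    choose bx hbx hbxI using hx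
    choose by' hby hbyI using hy
    intro n
    refine ⟨∑ k ∈ Finset.HasAntidiagonal.antidiagonal n, bx k.1 * by' k.2, ?_, fun hn => Ideal.sum_mem _ fun k hk => ?_⟩
    · rw [Subring.coe_add, (dpA R N).dpow_add Submodule.mem_top Submodule.mem_top, AddSubmonoidClass.coe_finset_sum]
      exact sum_congr rfl fun k _ => by rw [Subring.coe_mul, hbx, hby]
    · rw [Finset.HasAntidiagonal.mem_antidiagonal] at hk
      rcases eq_or_ne k.1 0 with h | h
      · exact Ideal.mul_mem_left _ _ (hbyI _ (by omega))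
      · exact Ideal.mul_mem_right _ _ (hbxI _ h)
  | smul r x _ hx =>
    intro n
    obtain ⟨b, hb, hbI⟩ := hx n
    refine ⟨r ^ n * b, ?_, fun hn => Ideal.mul_mem_left _ _ (hbI hn)⟩
    rw [smul_eq_mul, Subring.coe_mul, Subring.coe_mul, (dpA R N).dpow_mul Submodule.mem_top, hb]
    rfl

variable (R N)

open scoped Classical in
/-- The divided power operations of the covering algebra. -/
def gfun (n : ℕ) (a : Pc R N) : Pc R N :=
  if h : a ∈ Ic R N then (dpow_mem_Ic h n).choose else 0

variable {R N}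

lemma coe_gfun {n : ℕ} {a : Pc R N} (h : a ∈ Ic R N) :
    (gfun R N n a : Amb R N) = (dpA R N).dpow n (a : Amb R N) := by
  rw [gfun, dif_pos h]; exact (dpow_mem_Ic h n).choose_spec.1

lemma gfun_mem {n : ℕ} (hn : n ≠ 0) {a : Pc R N} (h : a ∈ Ic R N) : gfun R N n a ∈ Ic R N := by
  rw [gfun, dif_pos h]; exact (dpow_mem_Ic h n).choose_spec.2 hn

variable (R N)

/-- The divided power structure of the covering algebra. -/
def dpC : DividedPowers (Ic R N) where
  dpow := gfun R N
  dpow_null h := by rw [gfun, dif_neg h]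
  dpow_zero h := Subtype.ext (by rw [coe_gfun h]; exact (dpA R N).dpow_zero Submodule.mem_top)
  dpow_one h := Subtype.ext (by rw [coe_gfun h]; exact (dpA R N).dpow_one Submodule.mem_top)
  dpow_mem hn h := gfun_mem hn h
  dpow_add {n x y} hx hy := Subtype.ext (by
    rw [coe_gfun (add_mem hx hy), Subring.coe_add, (dpA R N).dpow_add Submodule.mem_top Submodule.mem_top,
      AddSubmonoidClass.coe_finset_sum]
    exact sum_congr rfl fun k _ => by rw [Subring.coe_mul, coe_gfun hx, coe_gfun hy])
  dpow_mul {n a x} hx := Subtype.ext (by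
    rw [coe_gfun (Ideal.mul_mem_left _ _ hx), Subring.coe_mul, (dpA R N).dpow_mul Submodule.mem_top,
      Subring.coe_mul, coe_gfun hx]
    rfl)
  mul_dpow {m n x} hx := Subtype.ext (by
    rw [Subring.coe_mul, coe_gfun hx, coe_gfun hx, (dpA R N).mul_dpow Submodule.mem_top, Subring.coe_mul,
      coe_gfun hx]
    simp)
  dpow_comp {m n x} hn hx := Subtype.ext (by
    rw [coe_gfun (gfun_mem hn hx), coe_gfun hx, (dpA R N).dpow_comp hn Submodule.mem_top, Subring.coe_mul,
      coe_gfun hx]
    simp)

variable {R N}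

section Target

variable [CommRing R] {P : Type v} [CommRing P] [Algebra R P]

/-- `R' → R`. -/
def piR (R : Type u) [CommRing R] : Cov R →+* R := MvPolynomial.eval₂Hom (Int.castRingHom R) id

/-- Values of expressions in the target. -/
def evP (x : Fin N → ℕ → P) : Expr R N →+* P :=
  MvPolynomial.eval₂Hom ((algebraMap R P).comp (piR R)) fun q => x q.1 q.2

/-- A combination of monomials in the target. -/
def repP (x : Fin N → ℕ → P) (c : (Fin N →₀ ℕ) →₀ Cov R) : P :=
  c.sum fun e r => algebraMap R P (piR R r) * e.prod fun i k => x i k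

variable {x : Fin N → ℕ → P} (hx0 : ∀ i, x i 0 = 1)
  (hxmul : ∀ i n m, x i n * x i m = ((n + m).choose n : P) * x i (n + m))

include hx0 hxmul in
lemma exists_rep (q : Expr R N) : ∃ c, evA R N q = repA c ∧ evP x q = repP x c := by
  classical
  induction q using MvPolynomial.induction_on with
  | C r =>
    refine ⟨Finsupp.single 0 r, ?_, ?_⟩
    · rw [repA, Finsupp.sum_single_index (by simp), evA, MvPolynomial.eval₂Hom_C, YA, Finsupp.prod_zero_index, mul_one]
    · rw [repP, Finsupp.sum_single_index (by simp), evP, MvPolynomial.eval₂Hom_C, Finsupp.prod_zero_index, mul_one]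
      rfl
  | add p q hp hq =>
    obtain ⟨c, h1, h2⟩ := hp
    obtain ⟨d, h3, h4⟩ := hq
    refine ⟨c + d, ?_, ?_⟩
    · rw [map_add, h1, h3, repA, repA, repA, Finsupp.sum_add_index' (by simp) (by intros; simp [add_mul])]
    · rw [map_add, h2, h4, repP, repP, repP, Finsupp.sum_add_index' (by simp) (by intros; simp [add_mul])]
  | mul_X p q hp =>
    obtain ⟨i, n⟩ := q
    obtain ⟨c, h1, h2⟩ := hp
    refine ⟨c.sum fun e r => Finsupp.single (e + Finsupp.single i n) (r * ((e i + n).choose (e i) : Cov R)), ?_, ?_⟩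
    · rw [map_mul, h1, evA, MvPolynomial.eval₂Hom_X', repA, repA,
        Finsupp.sum_sum_index (by simp) (by intros; simp [add_mul]), Finsupp.sum, Finset.sum_mul, Finsupp.sum]
      refine sum_congr rfl fun e _ => ?_
      rw [Finsupp.sum_single_index (by simp), mul_assoc, YA, monomial_mul_law (yA R N) yA_zero yA_mul, map_mul,
        map_natCast, mul_assoc]
      rfl
    · rw [map_mul, h2, evP, MvPolynomial.eval₂Hom_X', repP, repP,
        Finsupp.sum_sum_index (by simp) (by intros; simp [add_mul]), Finsupp.sum, Finset.sum_mul, Finsupp.sum]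
      refine sum_congr rfl fun e _ => ?_
      rw [Finsupp.sum_single_index (by simp), mul_assoc, monomial_mul_law x hx0 hxmul, map_mul, map_natCast,
        map_mul, map_natCast, mul_assoc]

include hx0 hxmul in
lemma ker_le : RingHom.ker (evA R N) ≤ RingHom.ker (evP x) := by
  intro q hq
  obtain ⟨c, h1, h2⟩ := exists_rep hx0 hxmul q
  rw [RingHom.mem_ker] at hq ⊢
  rw [h2, repA_eq_zero (h1.symm.trans hq)]
  exact Finsupp.sum_zero_index

/-- The map of the covering algebra to the target. -/
def phi : Pc R N →+* P :=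
  (evA R N).rangeRestrict.liftOfSurjective (evA R N).rangeRestrict_surjective
    ⟨evP x, by rw [RingHom.ker_rangeRestrict]; exact ker_le hx0 hxmul⟩

lemma phi_rangeRestrict (q : Expr R N) : phi hx0 hxmul ((evA R N).rangeRestrict q) = evP x q :=
  RingHom.liftOfRightInverse_comp_apply _ _ _ _ _

lemma phi_yP (i : Fin N) (n : ℕ) : phi hx0 hxmul (yP R N i n) = x i n := by
  rw [show yP R N i n = (evA R N).rangeRestrict (MvPolynomial.X (i, n)) from
    Subtype.ext (MvPolynomial.eval₂Hom_X' (iota R N) (fun q : Fin N × ℕ => yA R N q.1 q.2) (i, n)).symm, phi_rangeRestrict]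
  exact MvPolynomial.eval₂Hom_X' _ _ _

lemma YA_eq_coe (e : Fin N →₀ ℕ) : (YA e : Amb R N) = ((e.prod fun i k => yP R N i k : Pc R N) : Amb R N) := by
  rw [Finsupp.prod, SubmonoidClass.coe_finset_prod]
  rfl

lemma prod_yP_mem (e : Fin N →₀ ℕ) (he : e ≠ 0) : (e.prod fun i k => yP R N i k) ∈ Ic R N := by
  obtain ⟨i, hi⟩ := Finsupp.support_nonempty_iff.2 he
  rw [Finsupp.prod, ← mul_prod_erase _ _ hi]
  exact Ideal.mul_mem_right _ _ (Ideal.subset_span ⟨i, e i, Nat.one_le_iff_ne_zero.2 (Finsupp.mem_support_iff.1 hi), rfl⟩)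

/-- The coefficients in the covering algebra. -/
def iotaP : Cov R →+* Pc R N := (evA R N).rangeRestrict.comp MvPolynomial.C

lemma isSubDPIdeal_ker (b : Module.Basis (Fin N →₀ ℕ) R P) (hb : ∀ e : Fin N →₀ ℕ, b e = e.prod (fun i k => x i k)) :
    (dpC R N).IsSubDPIdeal (RingHom.ker (phi hx0 hxmul) ⊓ Ic R N) := by
  classical
  let S : Set (Pc R N) := {a | ∃ (r : Cov R) (e : Fin N →₀ ℕ), piR R r = 0 ∧ e ≠ 0 ∧
    a = iotaP r * e.prod fun i k => yP R N i k}
  have hsub : RingHom.ker (phi hx0 hxmul) ⊓ Ic R N ≤ Ideal.span S := by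
    rintro a ⟨ha1, ha2⟩
    obtain ⟨q, rfl⟩ := (evA R N).rangeRestrict_surjective a
    obtain ⟨c, h1, h2⟩ := exists_rep hx0 hxmul q
    rw [SetLike.mem_coe, RingHom.mem_ker, phi_rangeRestrict, h2] at ha1
    have hc : ∀ e, piR R (c e) = 0 := by
      intro e
      have h3 : repP x c = c.sum fun e r => piR R r • b e := by
        simp only [repP, Algebra.smul_def, hb]
      rw [h3] at ha1
      have h4 := congrArg (fun p => b.repr p e) ha1
      simp only [Finsupp.sum, map_sum, map_smul, Module.Basis.repr_self, Finsupp.smul_single, smul_eq_mul, mul_one,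
        map_zero, Finsupp.coe_finsetSum, Finset.sum_apply, Finsupp.single_apply, Finset.sum_ite_eq',
        Finsupp.coe_zero, Pi.zero_apply] at h4
      by_cases he : e ∈ c.support
      · rwa [if_pos he] at h4
      · rw [Finsupp.notMem_support_iff.1 he, map_zero]
    have hc0 : c 0 = 0 := by
      have h5 := constantCoeff_of_mem_Ic ha2
      rw [RingHom.coe_rangeRestrict, h1, repA, Finsupp.sum, map_sum, Finset.sum_eq_single 0] at h5
      · rw [YA, Finsupp.prod_zero_index, mul_one, iota, RingHom.comp_apply, MvPolynomial.constantCoeff_C] at h5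
        exact MvPolynomial.map_injective _ Int.cast_injective (h5.trans (map_zero _).symm)
      · intro e _ he
        rw [map_mul, YA_eq_coe, constantCoeff_of_mem_Ic (prod_yP_mem e he), mul_zero]
      · intro h0
        rw [Finsupp.notMem_support_iff.1 h0, map_zero, zero_mul, map_zero]
    have heq : (evA R N).rangeRestrict q = c.sum fun e r => iotaP r * e.prod fun i k => yP R N i k := by
      refine Subtype.ext ?_
      rw [RingHom.coe_rangeRestrict, h1, repA, Finsupp.sum, Finsupp.sum, AddSubmonoidClass.coe_finset_sum]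
      refine sum_congr rfl fun e _ => ?_
      rw [Subring.coe_mul, YA_eq_coe]
      congr 1
      exact (MvPolynomial.eval₂Hom_C _ _ _).symm
    rw [heq]
    refine Ideal.sum_mem _ fun e he => Ideal.subset_span ⟨c e, e, hc e, ?_, rfl⟩
    rintro rfl
    exact Finsupp.mem_support_iff.1 he hc0
  have hS : ∀ a ∈ Ideal.span S, a ∈ Ic R N ∧ ∀ n ≠ 0, phi hx0 hxmul ((dpC R N).dpow n a) = 0 := by
    intro a ha
    induction ha using Submodule.span_induction with
    | mem a ha =>
      obtain ⟨r, e, hr, he, rfl⟩ := ha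
      refine ⟨Ideal.mul_mem_left _ _ (prod_yP_mem e he), fun n hn => ?_⟩
      have h6 : phi hx0 hxmul (iotaP r : Pc R N) = 0 := by
        rw [iotaP, RingHom.comp_apply, phi_rangeRestrict, evP, MvPolynomial.eval₂Hom_C, RingHom.comp_apply, hr,
          map_zero]
      rw [(dpC R N).dpow_mul (prod_yP_mem e he), map_mul, map_pow, h6, zero_pow hn, zero_mul]
    | zero => exact ⟨zero_mem _, fun n hn => by rw [(dpC R N).dpow_eval_zero hn, map_zero]⟩
    | add a a' _ _ ha ha' =>
      refine ⟨add_mem ha.1 ha'.1, fun n hn => ?_⟩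
      rw [(dpC R N).dpow_add ha.1 ha'.1, map_sum]
      refine sum_eq_zero fun k hk => ?_
      rw [Finset.HasAntidiagonal.mem_antidiagonal] at hk
      rcases eq_or_ne k.1 0 with h | h
      · rw [map_mul, ha'.2 k.2 (by omega), mul_zero]
      · rw [map_mul, ha.2 k.1 h, zero_mul]
    | smul r a _ ha =>
      refine ⟨Ideal.mul_mem_left _ _ ha.1, fun n hn => ?_⟩
      rw [smul_eq_mul, (dpC R N).dpow_mul ha.1, map_mul, ha.2 n hn, mul_zero]
  exact ⟨inf_le_right, fun n hn a ha => ⟨(hS a (hsub ha)).2 n hn, (dpC R N).dpow_mem hn ha.2⟩⟩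

end Target

end

/-- Let R be a commutative ring and P = R⟨X_1, …, X_N⟩ the divided power polynomial algebra over R,
presented concretely as an R-algebra P with elements x i n = X_i^[n] (i < N, n ≥ 0) such that
X_i^[0] = 1, X_i^[n] · X_i^[m] = C(n+m, n) X_i^[n+m], and the monomials ∏_i X_i^[e_i] (e ranging
over exponent vectors) form an R-basis of P. Let P_+ be the ideal generated by the X_i^[n] with n ≥
1 (the augmentation ideal). Then there is exactly one divided power structure γ on P_+ with
γ_n(X_i^[1]) = X_i^[n] for all i and all n. (The universal property that the source states alongside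
is not restated here.) -/
theorem result (R : Type u) [CommRing R] (N : ℕ)
    (P : Type v) [CommRing P] [Algebra R P] (x : Fin N → ℕ → P)
    (hx0 : ∀ i, x i 0 = 1)
    (hxmul : ∀ i n m, x i n * x i m = ((n + m).choose n : P) * x i (n + m))
    (b : Module.Basis (Fin N →₀ ℕ) R P) (hb : ∀ e : Fin N →₀ ℕ, b e = e.prod (fun i k => x i k)) :
    ∃! γ : DividedPowers (Ideal.span {y : P | ∃ (i : Fin N) (n : ℕ), 1 ≤ n ∧ y = x i n}),
      ∀ (i : Fin N) (n : ℕ), γ.dpow n (x i 1) = x i n := by
  classical
  have hsurj : Function.Surjective (phi (R := R) hx0 hxmul : Pc R N →+* P) := by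
    intro p
    have hp : p ∈ (phi (R := R) hx0 hxmul : Pc R N →+* P).range := by
      rw [← b.linearCombination_repr p, Finsupp.linearCombination_apply, Finsupp.sum]
      refine sum_mem fun e _ => ?_
      rw [Algebra.smul_def]
      refine mul_mem ⟨iotaP (MvPolynomial.X (b.repr p e)), ?_⟩ ⟨e.prod fun i k => yP R N i k, ?_⟩
      · rw [iotaP, RingHom.comp_apply, phi_rangeRestrict, evP, MvPolynomial.eval₂Hom_C, RingHom.comp_apply, piR,
          MvPolynomial.eval₂Hom_X']
        rfl
      · rw [map_finsuppProd, hb]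
        simp only [phi_yP]
    exact hp
  have hJ : Ideal.span {y : P | ∃ (i : Fin N) (n : ℕ), 1 ≤ n ∧ y = x i n} =
      (Ic R N).map (phi hx0 hxmul) := by
    rw [Ic, Ideal.map_span]
    congr 1
    ext y
    constructor
    · rintro ⟨i, n, hn, rfl⟩
      exact ⟨yP R N i n, ⟨i, n, hn, rfl⟩, phi_yP _ _ _ _⟩
    · rintro ⟨_, ⟨i, n, hn, rfl⟩, rfl⟩
      exact ⟨i, n, hn, phi_yP _ _ _ _⟩
  have hmem : ∀ (i : Fin N) (n : ℕ), 1 ≤ n →
      x i n ∈ Ideal.span {y : P | ∃ (i : Fin N) (n : ℕ), 1 ≤ n ∧ y = x i n} :=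
    fun i n hn => Ideal.subset_span ⟨i, n, hn, rfl⟩
  let γ := DividedPowers.Quotient.OfSurjective.dividedPowers (dpC R N) hsurj hJ
    (isSubDPIdeal_ker hx0 hxmul b hb)
  have hγ : ∀ (i : Fin N) (n : ℕ), γ.dpow n (x i 1) = x i n := by
    intro i n
    have hy : yP R N i 1 ∈ Ic R N := Ideal.subset_span ⟨i, 1, le_rfl, rfl⟩
    rw [← phi_yP (R := R) hx0 hxmul i 1, DividedPowers.Quotient.OfSurjective.dpow_apply _ _ _ _ hy]
    rw [show (dpC R N).dpow n (yP R N i 1) = yP R N i n from Subtype.ext ?_, phi_yP]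
    rw [show (dpC R N).dpow n (yP R N i 1) = gfun R N n (yP R N i 1) from rfl, coe_gfun hy]
    change (dpA R N).dpow n ((dpA R N).dpow 1 (MvPolynomial.X i)) = _
    rw [(dpA R N).dpow_one Submodule.mem_top]
    rfl
  refine ⟨γ, hγ, fun γ' hγ' => ?_⟩
  have hle : Ideal.span {y : P | ∃ (i : Fin N) (n : ℕ), 1 ≤ n ∧ y = x i n} ≤ DividedPowers.dpEqualizer γ' γ := by
    rw [Ideal.span_le]
    rintro _ ⟨i, n, hn, rfl⟩
    refine ⟨hmem i n hn, fun m => ?_⟩
    conv_lhs => rw [← hγ' i n]
    conv_rhs => rw [← hγ i n]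
    rw [γ'.dpow_comp (by omega) (hmem i 1 le_rfl), γ.dpow_comp (by omega) (hmem i 1 le_rfl), hγ', hγ]
  exact DividedPowers.ext γ' γ fun n a ha => (hle ha).2 n

end Groth.Agent.S18420
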