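import Groth.Statements.S18423
import Groth.Agent.DepthSections.EtaleHeight
import Mathlib
-- import your own Groth.Agent.* helpers here

set_option autoImplicit false
set_option linter.style.haveILetI false
set_option backward.isDefEq.respectTransparency false
universe u v
open Pi1

namespace Groth.Agent.S18423

theorem etale_aux {A B : Type u} [CommRing A] [CommRing B] [Algebra A B] [IsNoetherianRing A] [IsLocalRing A]
    (hdim : (2 : WithBot ℕ∞) ≤ ringKrullDim A) [Module.Finite A B] [Module.Flat A B]
    (h : ∀ q : PrimeSpectrum B, q.asIdeal.comap (algebraMap A B) ≠ IsLocalRing.maximalIdeal A →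
      q ∈ Algebra.unramifiedLocus A B) : Algebra.Etale A B := by
  refine DepthSections.etale_of_fibres_or_height fun p hp => ?_
  by_cases hpm : p = IsLocalRing.maximalIdeal A
  · right
    subst hpm
    rw [← IsLocalRing.maximalIdeal_height_eq_ringKrullDim (R := A)] at hdim
    exact WithBot.coe_le_coe.mp hdim
  · left
    have hcl : IsClosed (PrimeSpectrum.comap (algebraMap A B) '' (Algebra.unramifiedLocus A B)ᶜ) :=
      PrimeSpectrum.isClosedMap_comap_of_isIntegral _ (algebraMap_isIntegral_iff.mpr inferInstance) _
        Algebra.isOpen_unramifiedLocus.isClosed_compl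
    have hp' : (⟨p, hp⟩ : PrimeSpectrum A) ∉ PrimeSpectrum.comap (algebraMap A B) '' (Algebra.unramifiedLocus A B)ᶜ := by
      rintro ⟨q, hq, hqp⟩
      exact hq (h q (by rw [← PrimeSpectrum.comap_asIdeal, hqp]; exact hpm))
    obtain ⟨_, ⟨g, rfl⟩, hpg, hg⟩ :=
      PrimeSpectrum.isTopologicalBasis_basic_opens.exists_subset_of_mem_open (show _ ∈ _ᶜ from hp') hcl.isOpen_compl
    have hsub : ↑(PrimeSpectrum.basicOpen (algebraMap A B g)) ⊆ Algebra.unramifiedLocus A B := fun q hq => by
      by_contra hq'
      exact hg (show PrimeSpectrum.comap (algebraMap A B) q ∈ PrimeSpectrum.basicOpen g from hq) ⟨q, hq', rfl⟩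
    haveI := Algebra.basicOpen_subset_unramifiedLocus_iff.mp hsub
    exact DepthSections.fibre_formallyUnramified_of_away g (Localization.Away (algebraMap A B g)) p hpg

/-- Let A be a Noetherian local ring of Krull dimension at least 2 and B a finite flat commutative
A-algebra. If B is etale over A at every prime of B lying over a non-maximal prime of A (that is,
Spec B is etale over the punctured spectrum of A), then B is etale over A. -/
theorem result (A : Type u) (B : Type v) [CommRing A] [CommRing B]
    [Algebra A B] [IsNoetherianRing A] [IsLocalRing A] (hdim : (2 : WithBot ℕ∞) ≤ ringKrullDim A)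
    [Module.Finite A B] [Module.Flat A B]
    (h : ∀ q : PrimeSpectrum B, q.asIdeal.comap (algebraMap A B) ≠ IsLocalRing.maximalIdeal A →
      Algebra.IsEtaleAt A q.asIdeal) :
    Algebra.Etale A B := by
  haveI : Small.{u} B := by
    obtain ⟨n, f, hf⟩ := Module.Finite.exists_fin' A B
    exact small_of_surjective hf
  let e : Shrink.{u} B ≃ₐ[A] B := Shrink.algEquiv A B
  haveI : Module.Finite A (Shrink.{u} B) := Module.Finite.equiv e.symm.toLinearEquiv
  haveI : Module.Flat A (Shrink.{u} B) := Module.Flat.of_linearEquiv e.toLinearEquiv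
  haveI := etale_aux (A := A) (B := Shrink.{u} B) hdim fun q' hq' => by
    let q : PrimeSpectrum B := PrimeSpectrum.comap e.symm.toRingHom q'
    have hqq : q'.asIdeal = q.asIdeal.comap e.toRingHom := by
      ext x; simp [q]
    have hcomap : q.asIdeal.comap (algebraMap A B) = q'.asIdeal.comap (algebraMap A (Shrink.{u} B)) := by
      ext x; simp [q]
    haveI := h q (hcomap ▸ hq')
    let e' : Localization.AtPrime q'.asIdeal ≃ₐ[A] Localization.AtPrime q.asIdeal :=
      IsLocalization.algEquivOfAlgEquiv _ _ e (by
        ext x
        show (∃ y ∈ q'.asIdeal.primeCompl, e y = x) ↔ x ∈ q.asIdeal.primeCompl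
        constructor
        · rintro ⟨y, hy, rfl⟩ hc
          exact hy (hqq ▸ hc)
        · intro hx
          refine ⟨e.symm x, fun hc => hx ?_, e.apply_symm_apply x⟩
          exact hc)
    exact Algebra.FormallyUnramified.of_equiv e'.symm
  exact Algebra.Etale.of_equiv e

end Groth.Agent.S18423
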