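import Mathlib
import Groth.Statements.S18429
-- import your own Groth.Agent.* helpers here

set_option autoImplicit false
universe u
open SpinCurv

namespace Groth.Agent.S18429

/-- Let n ≥ 1 and r ≥ 2 be integers and let e_0, …, e_{nr} be integers with e_0 = e_{nr} = 0 (the
coefficients of a chain of nr - 1 exceptional curves joining two non-exceptional components with
coefficient zero) such that at every interior index 1 ≤ j ≤ nr - 1 the second difference e_{j-1} - 2
e_j + e_{j+1} (the degree of the divisor Σ e_i E_i on the j-th curve of the chain) is divisible by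
r. Then there are integers e'_0, …, e'_{nr}, with e'_j ≡ e_j modulo r for every interior j, with
e'_0 = e'_{nr} = 0 and every e'_j ≤ 0, whose second differences at the interior indices are each 0
or r, and are nonzero at no two distinct interior indices. -/
theorem result (n r : ℕ) (hn : 1 ≤ n) (hr : 2 ≤ r)
    (e : ℕ → ℤ) (he0 : e 0 = 0) (henr : e (n * r) = 0)
    (hdiv : ∀ j : ℕ, 1 ≤ j → j < n * r → (r : ℤ) ∣ e (j - 1) - 2 * e j + e (j + 1)) :
    ∃ e' : ℕ → ℤ, e' 0 = 0 ∧ e' (n * r) = 0 ∧
      (∀ j : ℕ, 1 ≤ j → j < n * r → (r : ℤ) ∣ e' j - e j) ∧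
      (∀ j : ℕ, j ≤ n * r → e' j ≤ 0) ∧
      (∀ j : ℕ, 1 ≤ j → j < n * r →
        (e' (j - 1) - 2 * e' j + e' (j + 1) = 0 ∨ e' (j - 1) - 2 * e' j + e' (j + 1) = r)) ∧
      (∀ j j' : ℕ, 1 ≤ j → j < n * r → 1 ≤ j' → j' < n * r →
        e' (j - 1) - 2 * e' j + e' (j + 1) ≠ 0 → e' (j' - 1) - 2 * e' j' + e' (j' + 1) ≠ 0 → j = j') := by
  classical
  set c : ℤ := (-(e 1)) % (r : ℤ) with hc
  have hr0 : (r : ℤ) ≠ 0 := by exact_mod_cast (by omega : r ≠ 0)
  have hc0 : 0 ≤ c := Int.emod_nonneg _ hr0
  have hcr : c < r := Int.emod_lt_of_pos _ (by exact_mod_cast (by omega : 0 < r))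
  have hce : (r : ℤ) ∣ e 1 + c := by
    rw [hc]
    exact ⟨-((-(e 1)) / r), by have := Int.emod_add_mul_ediv (-(e 1)) r; linarith⟩
  have hlin : ∀ j : ℕ, j ≤ n * r → (r : ℤ) ∣ e j - j * e 1 := by
    intro j
    induction j using Nat.strong_induction_on with
    | _ j ih =>
      intro hj
      match j with
      | 0 => simp [he0]
      | 1 => simp
      | j + 2 =>
        have h1 := ih j (by omega) (by omega)
        have h2 := ih (j + 1) (by omega) (by omega)
        have h3 := hdiv (j + 1) (by omega) (by omega)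
        rw [show j + 1 - 1 = j by omega, show j + 1 + 1 = j + 2 by omega] at h3
        have := dvd_add (dvd_sub h3 h1) (dvd_mul_of_dvd_right h2 (2 : ℤ))
        obtain ⟨w, hw⟩ := this
        exact ⟨w, by push_cast at hw ⊢; linarith⟩
  set t : ℤ := (n : ℤ) * (r - c) with ht
  let e' : ℕ → ℤ := fun j => -c * j + r * max 0 ((j : ℤ) - t)
  have ht0 : 0 ≤ t := mul_nonneg (by positivity) (by linarith)
  have htN : t ≤ (n : ℤ) * r := mul_le_mul_of_nonneg_left (by linarith) (by positivity)
  refine ⟨e', ?_, ?_, fun j hj1 hj => ?_, fun j hj => ?_, fun j hj1 hj => ?_, fun j j' hj1 hj hj1' hj' h h' => ?_⟩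
  · simp only [e']
    rw [max_eq_left (by push_cast; linarith)]; simp
  · simp only [e']
    push_cast
    rw [max_eq_right (by linarith), ht]; ring
  · simp only [e']
    have := dvd_add (dvd_mul_of_dvd_right hce (-(j : ℤ))) (dvd_mul_right (r : ℤ) (max 0 ((j : ℤ) - t)))
    obtain ⟨w, hw⟩ := dvd_sub this (hlin j hj.le)
    exact ⟨w, by linear_combination hw⟩
  · simp only [e']
    have hjN : (j : ℤ) ≤ n * r := by exact_mod_cast hj
    rcases le_total ((j : ℤ) - t) 0 with h | h
    · rw [max_eq_left h]; nlinarith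
    · rw [max_eq_right h, ht]; nlinarith
  · simp only [e']
    rw [Nat.cast_sub hj1]
    push_cast
    rcases lt_trichotomy (j : ℤ) t with h | h | h
    · left; rw [max_eq_left (by linarith), max_eq_left (by linarith), max_eq_left (by linarith)]; ring
    · right; rw [max_eq_left (by linarith), max_eq_left (by linarith), max_eq_right (by linarith)]; rw [← h]; ring
    · left; rw [max_eq_right (by linarith), max_eq_right (by linarith), max_eq_right (by linarith)]; ring
  · have key : ∀ i : ℕ, 1 ≤ i → e' (i - 1) - 2 * e' i + e' (i + 1) ≠ 0 → (i : ℤ) = t := by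
      intro i hi hne
      by_contra hit
      apply hne
      simp only [e']
      rw [Nat.cast_sub hi]
      push_cast
      rcases lt_or_gt_of_ne hit with h | h
      · rw [max_eq_left (by linarith), max_eq_left (by linarith), max_eq_left (by linarith)]; ring
      · rw [max_eq_right (by linarith), max_eq_right (by linarith), max_eq_right (by linarith)]; ring
    exact_mod_cast (key j hj1 h).trans (key j' hj1' h').symm

end Groth.Agent.S18429
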