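import Groth.Statements.S18431
import Mathlib.Tactic

set_option autoImplicit false
universe u
open SpinCurv

namespace Groth.Agent.S18431

/-- Let R be a Noetherian local ring in which the natural number r is invertible and let ξ, ζ ∈ R
satisfy ξ^r = 1 and ζ^r = 1. Then either ξ = ζ, or ξ - ζ is a unit of R. (Consequently an element of
R annihilated by ξ - ζ is zero unless ξ = ζ. In the published setting R is moreover complete; the
step does not use completeness.) -/
theorem result (R : Type u) [CommRing R] [IsNoetherianRing R] [IsLocalRing R]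
    (r : ℕ) (hr : IsUnit (r : R)) (ξ ζ : R) (hξ : ξ ^ r = 1) (hζ : ζ ^ r = 1) :
    ξ = ζ ∨ IsUnit (ξ - ζ) := by
  by_cases hu : IsUnit (ξ - ζ)
  · exact Or.inr hu
  · left
    have hr0 : r ≠ 0 := fun h => by simp [h] at hr
    have hmem : ξ - ζ ∈ IsLocalRing.maximalIdeal R := hu
    have hζu : IsUnit ζ := IsUnit.of_mul_eq_one (a := ζ) (ζ ^ (r - 1)) (by rw [← pow_succ', Nat.sub_add_cancel (by omega), hζ])
    obtain ⟨u, rfl⟩ := hζu
    have hprod : (∑ i ∈ Finset.range r, ξ ^ i * (u : R) ^ (r - 1 - i)) * (ξ - u) = 0 := by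
      rw [geom_sum₂_mul, hξ, hζ, sub_self]
    have hsum : IsUnit (∑ i ∈ Finset.range r, ξ ^ i * (u : R) ^ (r - 1 - i)) := by
      rw [← IsLocalRing.residue_ne_zero_iff_isUnit, map_sum]
      have he : IsLocalRing.residue R ξ = IsLocalRing.residue R u := Ideal.Quotient.eq.2 hmem
      have : ∀ i ∈ Finset.range r, IsLocalRing.residue R (ξ ^ i * (u : R) ^ (r - 1 - i)) = IsLocalRing.residue R u ^ (r - 1) := by
        intro i hi
        rw [map_mul, map_pow, map_pow, he, ← pow_add]
        congr 1; have := Finset.mem_range.1 hi; omega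
      rw [Finset.sum_congr rfl this, Finset.sum_const, Finset.card_range, nsmul_eq_mul]
      refine mul_ne_zero ?_ (pow_ne_zero _ (IsLocalRing.residue_ne_zero_iff_isUnit _ |>.2 u.isUnit))
      rw [← map_natCast (IsLocalRing.residue R), IsLocalRing.residue_ne_zero_iff_isUnit]
      exact hr
    exact sub_eq_zero.1 ((hsum.mul_right_eq_zero).1 hprod)

end Groth.Agent.S18431
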