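import Mathlib
import Groth.Statements.S18434
-- import your own Groth.Agent.* helpers here

set_option autoImplicit false
universe u
open SpinCurv

namespace Groth.Agent.S18434

/-- Let k be a field, u, v ≥ 1 integers and w ∈ k nonzero. In the ring A = k[[x, y]]/(xy), the quotient
A/(x^u, w y^v) has dimension u + v - 1 over k (a basis is 1, x, …, x^{u-1}, y, …, y^{v-1}); this is
the length of the cokernel at the node of a map whose image is generated by x^u and w y^v. -/
theorem result (k : Type u) [Field k] (u v : ℕ) (hu : 1 ≤ u) (hv : 1 ≤ v)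
    (w : k) (hw : w ≠ 0) :
    Module.finrank k (SpinCurv.NodeRing k 0 ⧸
      Ideal.span {SpinCurv.NodeRing.x k 0 ^ u, algebraMap k (SpinCurv.NodeRing k 0) w * SpinCurv.NodeRing.y k 0 ^ v}) =
      u + v - 1 := by
  classical
  set I : Ideal (MvPowerSeries (Fin 2) k) := Ideal.span {(MvPowerSeries.X 0 * MvPowerSeries.X 1 - MvPowerSeries.C 0)} with hI
  set J : Ideal (SpinCurv.NodeRing k 0) := Ideal.span {SpinCurv.NodeRing.x k 0 ^ u, algebraMap k (SpinCurv.NodeRing k 0) w * SpinCurv.NodeRing.y k 0 ^ v} with hJ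
  let idx : Fin u ⊕ Fin (v - 1) → (Fin 2 →₀ ℕ) :=
    Sum.elim (fun a => Finsupp.single 0 (a : ℕ)) (fun b => Finsupp.single 1 ((b : ℕ) + 1))
  let φ : MvPowerSeries (Fin 2) k →ₗ[k] (Fin u ⊕ Fin (v - 1) → k) := LinearMap.pi fun a => MvPowerSeries.coeff (idx a)
  let π : MvPowerSeries (Fin 2) k →ₐ[k] (SpinCurv.NodeRing k 0 ⧸ J) :=
    (Ideal.Quotient.mkₐ k J).comp (Ideal.Quotient.mkₐ k _)
  have hπ : Function.Surjective π :=
    (Ideal.Quotient.mkₐ_surjective k J).comp (Ideal.Quotient.mkₐ_surjective k _)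
  have hφ : Function.Surjective φ := by
    intro c
    have hinj : Function.Injective idx := by
      rintro (a | a) (b | b) h <;> have h0 := DFunLike.congr_fun h 0 <;> have h1 := DFunLike.congr_fun h 1 <;>
        simp [idx] at h0 h1 <;> first | (congr 1; exact Fin.ext (by omega)) | omega
    refine ⟨Function.extend idx c 0, funext fun a => ?_⟩
    exact hinj.extend_apply c 0 a
  have hidx : ∀ a, idx a 0 < u ∧ idx a 1 < v ∧ (idx a 0 = 0 ∨ idx a 1 = 0) := by
    rintro (a | a) <;> simp [idx] <;> omega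
  have hz : ∀ A B C : MvPowerSeries (Fin 2) k,
      φ (MvPowerSeries.X 0 * (MvPowerSeries.X 1 * A) + MvPowerSeries.X 0 ^ u * B + MvPowerSeries.X 1 ^ v * C) = 0 := by
    intro A B C
    funext a
    obtain ⟨h0, h1, h2⟩ := hidx a
    simp only [φ, LinearMap.pi_apply, map_add, Pi.zero_apply]
    rw [MvPowerSeries.X_pow_dvd_iff.mp (Dvd.intro B rfl) _ h0, MvPowerSeries.X_pow_dvd_iff.mp (Dvd.intro C rfl) _ h1]
    rcases h2 with h2 | h2
    · rw [MvPowerSeries.X_dvd_iff.mp (Dvd.intro _ rfl) _ h2]; simp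
    · rw [MvPowerSeries.X_dvd_iff.mp (show MvPowerSeries.X 1 ∣ MvPowerSeries.X 0 * (MvPowerSeries.X 1 * A) from
        Dvd.intro (MvPowerSeries.X 0 * A) (by ring)) _ h2]; simp
  have hdec : ∀ f, φ f = 0 → ∃ A B C : MvPowerSeries (Fin 2) k,
      f = MvPowerSeries.X 0 * (MvPowerSeries.X 1 * A) + MvPowerSeries.X 0 ^ u * B + MvPowerSeries.X 1 ^ v * C := by
    intro f hf
    let f1 : MvPowerSeries (Fin 2) k := fun n => if u ≤ n 0 then f n else 0
    let f2 : MvPowerSeries (Fin 2) k := fun n => if n 0 < u ∧ v ≤ n 1 then f n else 0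
    let f3 : MvPowerSeries (Fin 2) k := fun n => if n 0 < u ∧ n 1 < v then f n else 0
    have hsum : f = f3 + f1 + f2 := by
      ext n
      simp only [map_add, MvPowerSeries.coeff_apply, f1, f2, f3]
      split_ifs <;> first | (exfalso; omega) | simp
    obtain ⟨B, hB⟩ := (MvPowerSeries.X_pow_dvd_iff (s := (0 : Fin 2)) (n := u) (φ := f1)).mpr
      (fun n hn => by simp [MvPowerSeries.coeff_apply, f1]; omega)
    obtain ⟨C, hC⟩ := (MvPowerSeries.X_pow_dvd_iff (s := (1 : Fin 2)) (n := v) (φ := f2)).mpr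
      (fun n hn => by simp [MvPowerSeries.coeff_apply, f2]; omega)
    have key : ∀ n : Fin 2 →₀ ℕ, n 0 = 0 ∨ n 1 = 0 → f3 n = 0 := by
      intro n hn
      simp only [f3]
      split_ifs with h
      · by_cases h1 : n 1 = 0
        · have := congrFun hf (Sum.inl ⟨n 0, h.1⟩)
          have e : idx (Sum.inl ⟨n 0, h.1⟩) = n := by ext i; fin_cases i <;> simp [idx, h1]
          simpa [φ, e, MvPowerSeries.coeff_apply] using this
        · have hn0 : n 0 = 0 := by tauto
          have := congrFun hf (Sum.inr ⟨n 1 - 1, by omega⟩)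
          have e : idx (Sum.inr ⟨n 1 - 1, by omega⟩) = n := by ext i; fin_cases i <;> simp [idx, hn0]; omega
          simpa [φ, e, MvPowerSeries.coeff_apply] using this
      · rfl
    obtain ⟨g, hg⟩ := (MvPowerSeries.X_dvd_iff (s := (0 : Fin 2)) (φ := f3)).mpr
      (fun n hn => key n (Or.inl hn))
    obtain ⟨A, hA⟩ := (MvPowerSeries.X_dvd_iff (s := (1 : Fin 2)) (φ := g)).mpr (fun n hn => by
      have h := key (Finsupp.single 0 1 + n) (Or.inr (by simp [hn]))
      have h' : MvPowerSeries.coeff (Finsupp.single 0 1 + n) f3 = 0 := h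
      rw [hg, MvPowerSeries.X_def, MvPowerSeries.coeff_add_monomial_mul, one_mul] at h'
      exact h')
    exact ⟨A, B, C, by rw [hsum, hg, hA, hB, hC]⟩
  have hker : LinearMap.ker π.toLinearMap = LinearMap.ker φ := by
    ext f
    simp only [LinearMap.mem_ker, AlgHom.toLinearMap_apply]
    constructor
    · intro hf
      have hm : Ideal.Quotient.mk I f ∈ J := Ideal.Quotient.eq_zero_iff_mem.mp hf
      rw [hJ, Ideal.mem_span_pair] at hm
      obtain ⟨a, b, hab⟩ := hm
      obtain ⟨a, rfl⟩ := Ideal.Quotient.mk_surjective a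
      obtain ⟨b, rfl⟩ := Ideal.Quotient.mk_surjective b
      have hab' : Ideal.Quotient.mk I (a * MvPowerSeries.X 0 ^ u + b * (MvPowerSeries.C w * MvPowerSeries.X 1 ^ v)) = Ideal.Quotient.mk I f := hab
      obtain ⟨c, hc⟩ := Ideal.mem_span_singleton.mp (Ideal.Quotient.eq.mp hab')
      have : f = MvPowerSeries.X 0 * (MvPowerSeries.X 1 * (-c)) + MvPowerSeries.X 0 ^ u * a + MvPowerSeries.X 1 ^ v * (b * MvPowerSeries.C w) := by
        rw [map_zero, sub_zero] at hc
        linear_combination -hc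
      rw [this]; exact hz _ _ _
    · intro hf
      obtain ⟨A, B, C, rfl⟩ := hdec f hf
      refine Ideal.Quotient.eq_zero_iff_mem.mpr ?_
      change Ideal.Quotient.mk I _ ∈ J
      rw [map_add, map_add]
      refine J.add_mem (J.add_mem ?_ ?_) ?_
      · have : Ideal.Quotient.mk I (MvPowerSeries.X 0 * (MvPowerSeries.X 1 * A)) = 0 :=
          Ideal.Quotient.eq_zero_iff_mem.mpr (Ideal.mem_span_singleton.mpr ⟨A, by rw [map_zero, sub_zero]; ring⟩)
        rw [this]; exact J.zero_mem
      · rw [map_mul, map_pow]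
        exact J.mul_mem_right _ (Ideal.subset_span (Or.inl rfl))
      · have : MvPowerSeries.X 1 ^ v * C = (MvPowerSeries.C w⁻¹ * C) * (MvPowerSeries.C w * MvPowerSeries.X 1 ^ v) := by
          have hw1 : MvPowerSeries.C (σ := Fin 2) w⁻¹ * MvPowerSeries.C w = 1 := by rw [← map_mul, inv_mul_cancel₀ hw, map_one]
          linear_combination -(MvPowerSeries.X (R := k) (1 : Fin 2) ^ v * C) * hw1
        rw [this, map_mul]
        exact J.mul_mem_left _ (Ideal.subset_span (Or.inr rfl))
  rw [← (π.toLinearMap.quotKerEquivOfSurjective hπ).finrank_eq, hker, (φ.quotKerEquivOfSurjective hφ).finrank_eq,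
    Module.finrank_fintype_fun_eq_card]
  simp; omega

end Groth.Agent.S18434
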