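import Groth.Statements.S18438
-- import your own Groth.Agent.* helpers here
import Groth.Agent.SurfRR.Adjunction
import Groth.Agent.SurfRR.Setup
import Groth.Agent.SurfRR.Embed
import Groth.Agent.SurfRR.CurveInt
import Groth.Agent.CohDual.SmoothEquidim
import Groth.Agent.IntTh.Nakai

set_option autoImplicit false
universe u
open CategoryTheory CategoryTheory.Limits AlgebraicGeometry TopologicalSpace
open Surf

namespace Groth.Agent.S18438

/-- Let k be an algebraically closed field and X a smooth projective surface over k whose anticanonical
module is ample: X is an integral scheme, proper and smooth over k of dimension 2, W is a canonical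
module (a second exterior power of Ω_{X/k}) and D a tensor inverse of W which is ample. Intersection
numbers of invertible modules are (L·M) = χ(O_X) − χ(L) − χ(M) + χ(L ⊗ M), so that for a closed
subscheme C with ideal I_C one has C·C = (I_C·I_C) and K·C = −(I_C·W). If C ⊆ X is an integral
closed one-dimensional subscheme with C·C < 0, then C is an exceptional curve of the first kind: C·C
= −1, K·C = −1 and H¹(C, O_C) = 0. (The published statement concerns del Pezzo surfaces of degree d
embedded in projective d-space; its argument uses only the ampleness of the anticanonical module,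
which is the hypothesis taken here.) -/
theorem result (k : Type u) [Field k] [IsAlgClosed k] (X : Scheme.{u})
    [X.Over (Spec (CommRingCat.of k))] [IsIntegral X] [IsProper (X ↘ (Spec (CommRingCat.of k)))] [Smooth (X ↘ (Spec (CommRingCat.of k)))]
    (hdim : topologicalKrullDim X = 2)
    (W : X.Modules) (hW : ExtPow.IsExtPow 2 (Omega.sheaf (X ↘ (Spec (CommRingCat.of k)))) W)
    (D : X.Modules) (hD : ClSub.IsInverseOf D W) (hample : CohB1.IsAmple D)
    (C : X.IdealSheafData) (hC : IsIntegral C.subscheme) (hC1 : topologicalKrullDim (C.support : Set X) = 1)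
    (hneg : FGA.intNum k X 2 ![ClSub.idealMod C, ClSub.idealMod C] (Coh.structureModule X) < 0) :
    FGA.intNum k X 2 ![ClSub.idealMod C, ClSub.idealMod C] (Coh.structureModule X) = -1 ∧
      FGA.intNum k X 2 ![ClSub.idealMod C, W] (Coh.structureModule X) = 1 ∧
      Subsingleton (Coh.HH C.subscheme (Coh.structureModule C.subscheme) 1) := by
  have hproj := SurfRR.exists_embedding k hample
  have hreg : ∀ x : X, IsRegularLocalRing (X.presheaf.stalk x) := fun x =>
    CohDual.SmoothEquidim.isRegularLocalRing_stalk (X ↘ Spec (CommRingCat.of k)) x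
  haveI : IsLocallyNoetherian X := LocallyOfFiniteType.isLocallyNoetherian (X ↘ Spec (CommRingCat.of k))
  obtain ⟨hWi, hdual⟩ := SurfRR.canonical_spec hdim hreg hproj W hW
  haveI := hC
  letI : C.subscheme.Over (Spec (CommRingCat.of k)) := ⟨C.subschemeι ≫ (X ↘ Spec (CommRingCat.of k))⟩
  have hd1 : topologicalKrullDim C.subscheme = 1 := by
    rw [CurveDeg.dim_source C.subschemeι, Scheme.IdealSheafData.range_subschemeι, hC1]
  have hadj := SurfRR.adjunction_integral k hdim hreg hWi hdual C.subschemeι hd1
  have hI := SurfRR.isInvertible_idealMod_of_regular hdim hreg C.subschemeι hd1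
  obtain ⟨eD⟩ := hD
  have key := SurfRR.intNum_ideal_inverse k hdim.le C.subschemeι hI hample.1 eD
  have hpos := IntTh.inumOn_pos_of_isAmple k hample C.subschemeι (d := 1) hd1
  rw [show List.replicate 1 D = [D] from rfl, IntTh.inumOn_single] at hpos
  have hdeg : Curv2.deg k C.subscheme ((Scheme.Modules.pullback C.subschemeι).obj D) 1 =
      Curv2.euler k C.subscheme ((Scheme.Modules.pullback C.subschemeι).obj D) -
        Curv2.euler k C.subscheme (Coh.structureModule C.subscheme) := by
    rw [Curv2.deg]; push_cast; ring
  rw [hdeg, SurfRR.intNum_pair k hdim.le hI hWi] at key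
  rw [Scheme.IdealSheafData.ker_subschemeι] at hI hadj key
  rw [SurfRR.intNum_pair k hdim.le hI hI] at hneg ⊢
  rw [SurfRR.intNum_pair k hdim.le hI hWi]
  have h1 : Module.finrank k (Coh.HH C.subscheme (Coh.structureModule C.subscheme) 1) = 0 := by omega
  refine ⟨by omega, by omega, ?_⟩
  haveI : IsProper (C.subscheme ↘ Spec (CommRingCat.of k)) :=
    inferInstanceAs (IsProper (C.subschemeι ≫ (X ↘ Spec (CommRingCat.of k))))
  haveI : IsLocallyNoetherian C.subscheme := LocallyOfFiniteType.isLocallyNoetherian C.subschemeι
  haveI := HilbPoly.finite_HH (k := k) (InvPow.isCoh_of_isInvertible (HilbPoly.isInvertible_structureModule C.subscheme)) 1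
  haveI : Module.Free k (Coh.HH C.subscheme (Coh.structureModule C.subscheme) 1) := Module.Free.of_divisionRing k _
  exact (Module.finrank_zero_iff (R := k)).1 h1

end Groth.Agent.S18438
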