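import Groth.Statements.S18440
-- import your own Groth.Agent.* helpers here
import Groth.Agent.SurfRR.K3
import Groth.Agent.SurfRR.Setup
import Groth.Agent.SurfRR.Embed
import Groth.Agent.CohDual.SmoothEquidim
import Groth.Agent.IntTh.Positive

set_option autoImplicit false
universe u
open CategoryTheory CategoryTheory.Limits AlgebraicGeometry TopologicalSpace
open Surf

namespace Groth.Agent.S18440

/-- Let k be an algebraically closed field and X a smooth projective surface over k (an integral scheme,
proper and smooth over k of dimension 2) with H¹(X, O_X) = 0, and W a canonical module of X (a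
second exterior power of Ω_{X/k}). Let C ⊆ X be an integral closed one-dimensional subscheme, smooth
over k, of arithmetic genus one, written χ(O_C) = 0 with the Euler characteristic of O_C computed on
X through the closed immersion (k being algebraically closed and C integral, H⁰(C, O_C) = k, so this
says dim_k H¹(C, O_C) = 1), whose module O_X(C) — a tensor inverse N of the ideal I_C — is ample.
Then W ≅ I_C, that is ω_X ≅ O_X(−C) (existence of an isomorphism of invertible modules). (The
published statement is that a smooth del Pezzo surface of degree d embedded in projective d-space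
has canonical module O_X(−1); its argument takes C a general hyperplane section and uses about the
embedding only that C is a smooth curve of genus one and that H¹(X, O_X) vanishes, facts it draws
from results quoted without proof; those two properties are the hypotheses here.) -/
theorem result (k : Type u) [Field k] [IsAlgClosed k] (X : Scheme.{u})
    [X.Over (Spec (CommRingCat.of k))] [IsIntegral X] [IsProper (X ↘ (Spec (CommRingCat.of k)))] [Smooth (X ↘ (Spec (CommRingCat.of k)))]
    (hdim : topologicalKrullDim X = 2)
    (W : X.Modules) (hW : ExtPow.IsExtPow 2 (Omega.sheaf (X ↘ (Spec (CommRingCat.of k)))) W)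
    (hq : Subsingleton (Coh.HH X (Coh.structureModule X) 1))
    (C : X.IdealSheafData) (hC : IsIntegral C.subscheme) (hC1 : topologicalKrullDim (C.support : Set X) = 1)
    (hCs : Smooth (C.subschemeι ≫ (X ↘ (Spec (CommRingCat.of k)))))
    (hg : Curv2.euler k X (ClSub.quotMod C) = 0)
    (N : X.Modules) (hN : ClSub.IsInverseOf N (ClSub.idealMod C)) (hNample : CohB1.IsAmple N) :
    Nonempty (W ≅ ClSub.idealMod C) := by
  have hproj := SurfRR.exists_embedding k hNample
  have hreg : ∀ x : X, IsRegularLocalRing (X.presheaf.stalk x) := fun x =>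
    CohDual.SmoothEquidim.isRegularLocalRing_stalk (X ↘ Spec (CommRingCat.of k)) x
  haveI := SurfRR.smooth_two (k := k) hdim hreg
  haveI : IsLocallyNoetherian X := LocallyOfFiniteType.isLocallyNoetherian (X ↘ Spec (CommRingCat.of k))
  obtain ⟨hWi, hdual⟩ := SurfRR.canonical_spec hdim hreg hproj W hW
  have hOinv := HilbPoly.isInvertible_structureModule X
  have hO : Coh.IsCoh (Coh.structureModule X) := InvPow.isCoh_of_isInvertible hOinv
  obtain ⟨eN⟩ := hN
  have hNi := hNample.1
  have hI : PicF.IsInvertible (ClSub.idealMod C) := NegVanish.isInvertible_of_inverse hNi ⟨eN⟩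
  let S : ShortComplex X.Modules :=
    ShortComplex.mk (ClSub.idealModι C) (ClSub.toSubscheme C) (kernel.condition _)
  haveI : Epi (ClSub.toSubscheme C) := HilbPoly.epi_toSubscheme _
  haveI : Mono (ClSub.idealModι C) := inferInstanceAs (Mono (kernel.ι _))
  have hS : S.ShortExact :=
    { exact := ShortComplex.exact_of_f_is_kernel _ (kernelIsKernel _)
      mono_f := inferInstanceAs (Mono (kernel.ι _))
      epi_g := inferInstanceAs (Epi (ClSub.toSubscheme C)) }
  have hadd : Curv2.euler k X (Coh.structureModule X) = Curv2.euler k X (ClSub.idealMod C) +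
      Curv2.euler k X (ClSub.quotMod C) :=
    by
      have h := HilbPoly.euler_additive (k := k) hS (InvPow.isCoh_of_isInvertible hI) hO (HilbPoly.isCoh_quotMod C)
      dsimp only [S] at h
      exact h
  rw [hg, add_zero] at hadd
  have hrr := SurfRR.riemann_roch k hdim.le hWi hdual hI
  rw [SurfRR.intNum_pair k hdim.le hI hI, SurfRR.intNum_pair k hdim.le hI hWi, ← hadd] at hrr
  obtain ⟨c⟩ := ProjTwist.nonempty_tensorMod_comm (ClSub.idealMod C) N
  have hNI := SurfRR.inum_inv k hdim.le hNi eN hI
  have hNN : 0 < IntTh.inum k [N, N] (Coh.structureModule X) :=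
    IntTh.inum_pos_of_ample k (r := 2) rfl (fun A hA => by
      rcases List.mem_cons.1 hA with rfl | hA
      · exact hNample
      · rw [List.mem_singleton.1 hA]; exact hNample) (hdim.trans Nat.cast_ofNat.symm)
  have hIN : IntTh.inum k [ClSub.idealMod C, N] (Coh.structureModule X) = -IntTh.inum k [N, N] (Coh.structureModule X) :=
    SurfRR.inum_inv k hdim.le hNi eN hNi
  have h0I : Module.finrank k (Coh.HH X (ClSub.idealMod C) 0) = 0 := by
    by_contra hne
    have h1 := SurfRR.inum_nonneg_of_section k hdim.le hI
      (Module.nontrivial_of_finrank_pos (Nat.pos_of_ne_zero hne)) hNample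
    omega
  have hs0 := SurfRR.euler_eq k hdim.le hO
  rw [SurfRR.finrank_h0 k (X := X), Module.finrank_zero_of_subsingleton (M := Coh.HH X (Coh.structureModule X) 1)] at hs0
  have hsI := SurfRR.euler_eq k hdim.le (InvPow.isCoh_of_isInvertible hI)
  rw [h0I] at hsI
  have hd := SurfRR.finrank_h2 k hdual hI (c ≪≫ eN)
  have hWN := InvPow.isInvertible_tensorMod hWi hNi
  have hpos : 0 < Module.finrank k (Coh.HH X (CohB1.tensorMod W N) 0) := by
    push_cast at hs0 hsI
    omega
  obtain ⟨t⟩ := SurfRR.trivial_of_section_degree_zero k hdim.le hWN (Module.nontrivial_of_finrank_pos hpos) hNample (by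
    rw [SurfRR.inum_tensor k hdim.le hWi hNi hNi]
    have h1 : IntTh.inum k [ClSub.idealMod C, W] (Coh.structureModule X) = -IntTh.inum k [N, W] (Coh.structureModule X) :=
      SurfRR.inum_inv k hdim.le hNi eN hWi
    rw [IntTh.inum_swap k hWi hNi]
    have h2 : IntTh.inum k [ClSub.idealMod C, N] (Coh.structureModule X) = IntTh.inum k [N, ClSub.idealMod C] (Coh.structureModule X) :=
      IntTh.inum_swap k hI hNi _ _
    omega)
  obtain ⟨a⟩ := HilbPoly.nonempty_assoc W hNi hI
  exact ⟨(SecTwist.unitorR W).symm ≪≫ (ProjTwist.nonempty_tensorMod_iso (Iso.refl W) eN.symm).some ≪≫ a ≪≫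
    (ProjTwist.nonempty_tensorMod_iso t (Iso.refl (ClSub.idealMod C))).some ≪≫
    (ProjTwist.nonempty_tensorMod_comm (Coh.structureModule X) (ClSub.idealMod C)).some ≪≫ SecTwist.unitorR _⟩

end Groth.Agent.S18440
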