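import Groth.Statements.S18451
-- import your own Groth.Agent.* helpers here
import Groth.Agent.SurfRR.CurveConfig
import Groth.Agent.S8914

set_option autoImplicit false
universe u
open CategoryTheory CategoryTheory.Limits AlgebraicGeometry TopologicalSpace
open Surf

namespace Groth.Agent.S18451

/-- Let k be an algebraically closed field of characteristic zero and X a smooth projective surface over
k (integral, proper and smooth over k, of dimension 2, carrying an ample invertible module). Let
C_1, …, C_r be pairwise distinct integral curves on X (integral closed one-dimensional subschemes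
with ideal sheaves I_1, …, I_r) and write G_{ij} = (I_i·I_j) = χ(O_X) − χ(I_i) − χ(I_j) + χ(I_i ⊗
I_j) for their intersection matrix. Suppose the classes of the C_i span a negative definite
sublattice modulo numerical equivalence: for every integer vector a such that Σ_i a_i [C_i] is
numerically nontrivial, meaning that Σ_i a_i (I_i·M) ≠ 0 for some invertible O_X-module M, one has
Σ_{i,j} a_i a_j G_{ij} < 0. Then the classes are linearly independent, i.e. G itself is negative
definite: Σ_{i,j} a_i a_j G_{ij} < 0 for every nonzero integer vector a. -/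
theorem result (k : Type u) [Field k] [IsAlgClosed k] [CharZero k]
    (X : Scheme.{u}) [X.Over (Spec (CommRingCat.of k))] [IsProper (X ↘ (Spec (CommRingCat.of k)))]
    [Smooth (X ↘ (Spec (CommRingCat.of k)))] [IsIntegral X] (hdim : topologicalKrullDim X = 2)
    (hproj : ∃ H : X.Modules, CohB1.IsAmple H)
    (r : ℕ) (C : Fin r → X.IdealSheafData) (hC : Function.Injective C)
    (hCi : ∀ i, IsIntegral (C i).subscheme) (hCd : ∀ i, topologicalKrullDim ((C i).support : Set X) = 1)
    (hneg : ∀ a : Fin r → ℤ,
      (∃ M : X.Modules, PicF.IsInvertible M ∧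
        ∑ i, a i * FGA.intNum k X 2 ![(ClSub.idealMod (C i)), M] (Coh.structureModule X) ≠ 0) →
      ∑ i, ∑ j, a i * a j * FGA.intNum k X 2 ![(ClSub.idealMod (C i)), (ClSub.idealMod (C j))] (Coh.structureModule X) < 0) :
    ∀ a : Fin r → ℤ, a ≠ 0 →
      ∑ i, ∑ j, a i * a j * FGA.intNum k X 2 ![(ClSub.idealMod (C i)), (ClSub.idealMod (C j))] (Coh.structureModule X) < 0 := by
  obtain ⟨H, hH⟩ := hproj
  obtain ⟨H', ⟨e⟩⟩ := NegVanish.exists_inverse hH.1
  have hH' : PicF.IsInvertible H' := NegVanish.isInvertible_of_inverse hH.1 ⟨e⟩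
  have hinv := fun i => SurfRR.isInvertible_idealMod_curve k hdim (hCi i) (hCd i)
  intro a ha
  by_contra hnot
  have htriv : ∀ M : X.Modules, PicF.IsInvertible M →
      ∑ i, a i * FGA.intNum k X 2 ![(ClSub.idealMod (C i)), M] (Coh.structureModule X) = 0 := fun M hM => by
    by_contra h
    exact hnot (hneg a ⟨M, hM, h⟩)
  obtain ⟨p, q, hp, hq, hpq, hapq⟩ := SurfRR.exists_parts a
  have hM : ∀ M : X.Modules, PicF.IsInvertible M →
      ∑ i, p i * FGA.intNum k X 2 ![(ClSub.idealMod (C i)), M] (Coh.structureModule X) =
      ∑ i, q i * FGA.intNum k X 2 ![(ClSub.idealMod (C i)), M] (Coh.structureModule X) := fun M hM => by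
    have h := htriv M hM
    simp only [hapq, sub_mul, Finset.sum_sub_distrib, sub_eq_zero] at h
    exact h
  have hp0 : p = 0 := by
    by_contra hp0
    have hlt := hneg p ⟨H', hH', fun h => hp0 (SurfRR.eq_zero_of_ample k hdim C hCi hCd hH e hp h)⟩
    have hpos := SurfRR.sum_disjoint_nonneg (G := fun i j => FGA.intNum k X 2 ![(ClSub.idealMod (C i)), (ClSub.idealMod (C j))] (Coh.structureModule X))
      (fun i j h => SurfRR.intNum_offdiag_nonneg k hdim C hC hCi hCd h) hq hp (fun i => by rw [mul_comm, hpq i])
    have he : ∑ i, ∑ j, p i * p j * FGA.intNum k X 2 ![(ClSub.idealMod (C i)), (ClSub.idealMod (C j))] (Coh.structureModule X) =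
        ∑ i, ∑ j, q i * p j * FGA.intNum k X 2 ![(ClSub.idealMod (C i)), (ClSub.idealMod (C j))] (Coh.structureModule X) := by
      rw [Finset.sum_comm (γ := Fin r), Finset.sum_comm (γ := Fin r) (f := fun i j => q i * p j * _)]
      refine Finset.sum_congr rfl fun j _ => ?_
      calc ∑ i, p i * p j * _ = p j * ∑ i, p i * FGA.intNum k X 2 ![(ClSub.idealMod (C i)), (ClSub.idealMod (C j))] (Coh.structureModule X) := by
            rw [Finset.mul_sum]; exact Finset.sum_congr rfl fun i _ => by ring
        _ = ∑ i, q i * p j * _ := by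
            rw [hM _ (hinv j), Finset.mul_sum]; exact Finset.sum_congr rfl fun i _ => by ring
    rw [he] at hlt
    exact absurd hlt (not_lt.2 hpos)
  have hq0 : q = 0 := by
    refine SurfRR.eq_zero_of_ample k hdim C hCi hCd hH e hq ?_
    rw [← hM _ hH', hp0]
    simp
  exact ha (funext fun i => by rw [hapq i, hp0, hq0]; simp)

end Groth.Agent.S18451
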