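import Groth.Statements.S18457
import Mathlib.Tactic
import Mathlib.Algebra.Order.Chebyshev

set_option autoImplicit false
open Finset
open Surf

namespace Groth.Agent.S18457

/-- In the Picard lattice of the plane blown up at n ≤ 8 points, with basis h, e_1, …, e_n, form h² = 1,
e_i² = −1, all other products 0, and anticanonical class D = 3h − Σ e_i, let d·h − Σ a_i e_i be a
class with all a_i ≥ 0 (the class of the strict transform of a degree-d plane curve having
multiplicity a_i at the i-th point) which is a (−2)-class orthogonal to D, that is d² − Σ a_i² = −2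
and 3d = Σ a_i. Then one of the following holds: d = 1 and every a_i is 0 or 1 with exactly three
equal to 1; d = 2 and every a_i is 0 or 1 with exactly six equal to 1; d = 3, n = 8, and one a_i
equals 2 while the remaining seven equal 1. The published statement is geometric: under the
general-position hypotheses on the points, no smooth rational curve on the blown-up plane is
orthogonal to D; this row is the lattice enumeration its proof carries out (a line through three of
the points, a conic through six, a cubic through all eight and singular at one). -/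
theorem result (n : ℕ) (hn : n ≤ 8)
    (d : ℤ) (a : Fin n → ℤ) (ha : ∀ i, 0 ≤ a i)
    (hsq : d ^ 2 - ∑ i, (a i) ^ 2 = -2) (hK : 3 * d = ∑ i, a i) :
    (d = 1 ∧ (∀ i, a i = 0 ∨ a i = 1) ∧ (Finset.univ.filter (fun i => a i = 1)).card = 3) ∨
      (d = 2 ∧ (∀ i, a i = 0 ∨ a i = 1) ∧ (Finset.univ.filter (fun i => a i = 1)).card = 6) ∨
      (d = 3 ∧ n = 8 ∧ ∃ j, a j = 2 ∧ ∀ i, i ≠ j → a i = 1) := by
  have hsum2 : ∑ i, a i ^ 2 = d ^ 2 + 2 := by linarith
  have hd0 : 0 ≤ d := by
    have : 0 ≤ ∑ i, a i := Finset.sum_nonneg fun i _ => ha i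
    linarith
  have hn' : (n : ℤ) ≤ 8 := by exact_mod_cast hn
  have hd4 : d ≤ 4 := by
    have h := sq_sum_le_card_mul_sum_sq (s := (Finset.univ : Finset (Fin n))) (f := a)
    simp only [Finset.card_univ, Fintype.card_fin, hsum2, ← hK] at h
    have : (n : ℤ) * (d ^ 2 + 2) ≤ 8 * (d ^ 2 + 2) := mul_le_mul_of_nonneg_right hn' (by positivity)
    nlinarith
  have hA : ∀ i, 0 ≤ a i * (a i - 1) := fun i => by
    rcases le_or_gt (a i) 0 with h | h
    · have := ha i; nlinarith
    · nlinarith
  have hB : ∀ i, 0 ≤ (a i - 1) * (a i - 2) := fun i => by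
    rcases le_or_gt (a i) 1 with h | h
    · nlinarith
    · nlinarith
  have hAs : ∑ i, a i * (a i - 1) = (d - 1) * (d - 2) := by
    simp only [mul_sub, mul_one, Finset.sum_sub_distrib, ← sq, hsum2, ← hK]; ring
  have hBs : ∑ i, (a i - 1) * (a i - 2) = d ^ 2 + 2 - 9 * d + 2 * n := by
    have : ∀ i, (a i - 1) * (a i - 2) = a i ^ 2 - 3 * a i + 2 := fun i => by ring
    simp only [this, Finset.sum_add_distrib, Finset.sum_sub_distrib, ← Finset.mul_sum, hsum2, ← hK,
      Finset.sum_const, Finset.card_univ, Fintype.card_fin, nsmul_eq_mul]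
    ring
  interval_cases d
  · exfalso
    have : ∀ i ∈ (Finset.univ : Finset (Fin n)), a i = 0 :=
      (Finset.sum_eq_zero_iff_of_nonneg fun i _ => ha i).1 (by linarith)
    rw [Finset.sum_eq_zero (fun i hi => by rw [this i hi]; ring)] at hsum2
    norm_num at hsum2
  · left
    have hz := (Finset.sum_eq_zero_iff_of_nonneg (fun i _ => hA i)).1 (by simpa using hAs)
    have h01 : ∀ i, a i = 0 ∨ a i = 1 := fun i => by
      rcases mul_eq_zero.1 (hz i (Finset.mem_univ i)) with h | h
      · exact Or.inl h
      · exact Or.inr (by linarith)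
    refine ⟨rfl, h01, ?_⟩
    have : ((Finset.univ.filter (fun i => a i = 1)).card : ℤ) = ∑ i, a i := by
      rw [Finset.card_filter, Nat.cast_sum]
      refine Finset.sum_congr rfl fun i _ => ?_
      rcases h01 i with h | h <;> simp [h]
    omega
  · right; left
    have hz := (Finset.sum_eq_zero_iff_of_nonneg (fun i _ => hA i)).1 (by simpa using hAs)
    have h01 : ∀ i, a i = 0 ∨ a i = 1 := fun i => by
      rcases mul_eq_zero.1 (hz i (Finset.mem_univ i)) with h | h
      · exact Or.inl h
      · exact Or.inr (by linarith)
    refine ⟨rfl, h01, ?_⟩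
    have : ((Finset.univ.filter (fun i => a i = 1)).card : ℤ) = ∑ i, a i := by
      rw [Finset.card_filter, Nat.cast_sum]
      refine Finset.sum_congr rfl fun i _ => ?_
      rcases h01 i with h | h <;> simp [h]
    omega
  · right; right
    have hn8 : n = 8 := by
      have := Finset.sum_nonneg (s := Finset.univ) (fun i _ => hB i)
      omega
    refine ⟨rfl, hn8, ?_⟩
    have hz := (Finset.sum_eq_zero_iff_of_nonneg (fun i _ => hB i)).1 (by rw [hBs, hn8]; norm_num)
    have h12 : ∀ i, a i = 1 ∨ a i = 2 := fun i => by
      rcases mul_eq_zero.1 (hz i (Finset.mem_univ i)) with h | h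
      · exact Or.inl (by linarith)
      · exact Or.inr (by linarith)
    have h1 : ∑ i, (a i - 1) = 1 := by
      simp only [Finset.sum_sub_distrib, ← hK, Finset.sum_const, Finset.card_univ, Fintype.card_fin,
        nsmul_eq_mul, hn8]
      norm_num
    obtain ⟨j, hj⟩ : ∃ j, a j = 2 := by
      by_contra hc
      push Not at hc
      rw [Finset.sum_eq_zero (fun i _ => by rcases h12 i with h | h <;> simp_all)] at h1
      exact absurd h1 (by norm_num)
    refine ⟨j, hj, fun i hi => ?_⟩
    rcases h12 i with h | h
    · exact h
    · exfalso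
      have := Finset.add_le_sum (f := fun i => a i - 1) (s := Finset.univ)
        (fun l _ => by rcases h12 l with h | h <;> simp [h]) (Finset.mem_univ i) (Finset.mem_univ j) hi
      rw [h1, h, hj] at this
      norm_num at this
  · exfalso
    have := Finset.sum_nonneg (s := Finset.univ) (fun i _ => hB i)
    omega

end Groth.Agent.S18457
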