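import Groth.Statements.S18458
-- import your own Groth.Agent.* helpers here
import Groth.Agent.SurfRR.CurveConfig

set_option autoImplicit false
universe u
open CategoryTheory CategoryTheory.Limits AlgebraicGeometry TopologicalSpace
open Surf

namespace Groth.Agent.S18458

/-- Let k be an algebraically closed field of characteristic zero and X a smooth projective surface over
k (integral, proper and smooth over k, of dimension 2, carrying an ample invertible module). Let
C_1, …, C_r be pairwise distinct integral curves on X with ideal sheaves I_i whose intersection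
matrix is negative definite: Σ_{i,j} a_i a_j (I_i·I_j) < 0 for every nonzero integer vector a, where
(A·B) = χ(O_X) − χ(A) − χ(B) + χ(A ⊗ B). Then there is an invertible O_X-module L (the sheaf of a
divisor H) which is nef and big and is orthogonal to exactly the curves C_i: writing (L·C) = χ(O_C ⊗
L) − χ(O_C) for the degree of L on an integral curve C, one has (L·C) ≥ 0 for every integral curve
C, (L·L) > 0, and (L·C) = 0 if and only if C is one of the C_i. -/
theorem result (k : Type u) [Field k] [IsAlgClosed k] [CharZero k]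
    (X : Scheme.{u}) [X.Over (Spec (CommRingCat.of k))] [IsProper (X ↘ (Spec (CommRingCat.of k)))]
    [Smooth (X ↘ (Spec (CommRingCat.of k)))] [IsIntegral X] (hdim : topologicalKrullDim X = 2)
    (hproj : ∃ H : X.Modules, CohB1.IsAmple H)
    (r : ℕ) (C : Fin r → X.IdealSheafData) (hC : Function.Injective C)
    (hCi : ∀ i, IsIntegral (C i).subscheme) (hCd : ∀ i, topologicalKrullDim ((C i).support : Set X) = 1)
    (hneg : ∀ a : Fin r → ℤ, a ≠ 0 →
      ∑ i, ∑ j, a i * a j * FGA.intNum k X 2 ![(ClSub.idealMod (C i)), (ClSub.idealMod (C j))] (Coh.structureModule X) < 0) :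
    ∃ L : X.Modules, PicF.IsInvertible L ∧
      (∀ D : X.IdealSheafData, IsIntegral D.subscheme → topologicalKrullDim (D.support : Set X) = 1 →
        0 ≤ Curv2.euler k X (CohB1.tensorMod (ClSub.quotMod D) L) - Curv2.euler k X (ClSub.quotMod D)) ∧
      0 < FGA.intNum k X 2 ![L, L] (Coh.structureModule X) ∧
      (∀ D : X.IdealSheafData, IsIntegral D.subscheme → topologicalKrullDim (D.support : Set X) = 1 →
        (Curv2.euler k X (CohB1.tensorMod (ClSub.quotMod D) L) - Curv2.euler k X (ClSub.quotMod D) = 0 ↔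
          ∃ i, D = C i)) := by
  classical
  obtain ⟨H, hH⟩ := hproj
  obtain ⟨H', ⟨e⟩⟩ := NegVanish.exists_inverse hH.1
  have hle := hdim.le
  have hinv := fun i => SurfRR.isInvertible_idealMod_curve k hdim (hCi i) (hCd i)
  choose N hN using fun i => NegVanish.exists_inverse (hinv i)
  have hNi : ∀ i, PicF.IsInvertible (N i) := fun i => NegVanish.isInvertible_of_inverse (hinv i) (hN i)
  let P : X.Modules → X.Modules → ℤ := fun A B => IntTh.inum k [A, B] (Coh.structureModule X)
  let deg : X.IdealSheafData → X.Modules → ℤ := fun D A =>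
    Curv2.euler k X (CohB1.tensorMod (ClSub.quotMod D) A) - Curv2.euler k X (ClSub.quotMod D)
  have hdeg : ∀ (D : X.IdealSheafData) (A : X.Modules), PicF.IsInvertible (ClSub.idealMod D) → PicF.IsInvertible A →
      deg D A = -P A (ClSub.idealMod D) := fun D A hD hA => by
    simp only [deg, P]
    rw [SurfRR.euler_quotMod_sub k hdim hD hA, SurfRR.intNum_pair k hle hD hA, IntTh.inum_swap k hD hA]
  have hH' : PicF.IsInvertible H' := NegVanish.isInvertible_of_inverse hH.1 ⟨e⟩
  have hh : ∀ D : X.IdealSheafData, IsIntegral D.subscheme → topologicalKrullDim (D.support : Set X) = 1 →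
      0 < -P H (ClSub.idealMod D) := fun D h1 h2 => by
    have hD := SurfRR.isInvertible_idealMod_curve k hdim h1 h2
    have h := SurfRR.intNum_ample_inverse_pos k hdim h1 h2 hH e
    rw [SurfRR.intNum_pair k hle hD hH', IntTh.inum_swap k hD hH', SurfRR.inum_inv k hle hH.1 e hD] at h
    exact h
  let G : Matrix (Fin r) (Fin r) ℤ := Matrix.of fun i j =>
    FGA.intNum k X 2 ![(ClSub.idealMod (C i)), (ClSub.idealMod (C j))] (Coh.structureModule X)
  have hdet : G.det ≠ 0 := fun h => by
    obtain ⟨v, hv, hv0⟩ := Matrix.exists_mulVec_eq_zero_iff.2 h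
    refine (hneg v hv).ne (Finset.sum_eq_zero fun i _ => ?_)
    have h2 : ∑ j, G i j * v j = 0 := congrFun hv0 i
    calc ∑ j, v i * v j * _ = v i * ∑ j, G i j * v j := by
          rw [Finset.mul_sum]; exact Finset.sum_congr rfl fun j _ => by simp only [G, Matrix.of_apply]; ring
      _ = 0 := by rw [h2, mul_zero]
  let h : Fin r → ℤ := fun j => -P H (ClSub.idealMod (C j))
  let a : Fin r → ℤ := (-G.det) • Matrix.vecMul h G.adjugate
  have ha : ∀ j, ∑ i, a i * G i j = -(G.det * G.det) * h j := fun j => by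
    have : Matrix.vecMul a G = (-(G.det * G.det)) • h := by
      rw [Matrix.smul_vecMul, Matrix.vecMul_vecMul, Matrix.adjugate_mul, Matrix.vecMul_smul, Matrix.vecMul_one,
        smul_smul, neg_mul]
    exact congrFun this j
  have hm : (0 : ℤ) < G.det * G.det := mul_self_pos.2 hdet
  obtain ⟨p, q, hp, hq, hpq, hapq⟩ := SurfRR.exists_parts a
  have hG : ∀ i j, i ≠ j → 0 ≤ G i j := fun i j h => SurfRR.intNum_offdiag_nonneg k hdim C hC hCi hCd h
  have hsum : ∑ j, q j * ∑ i, a i * G i j ≤ 0 := Finset.sum_nonpos fun j _ => mul_nonpos_of_nonneg_of_nonpos (hq j) (by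
    rw [ha j]; nlinarith [hh (C j) (hCi j) (hCd j)])
  have he : ∑ j, q j * ∑ i, a i * G i j = ∑ i, ∑ j, p i * q j * G i j - ∑ i, ∑ j, q i * q j * G i j := by
    simp only [Finset.mul_sum, hapq]
    rw [Finset.sum_comm, ← Finset.sum_sub_distrib]
    refine Finset.sum_congr rfl fun i _ => ?_
    rw [← Finset.sum_sub_distrib]
    exact Finset.sum_congr rfl fun j _ => by ring
  have hpos := SurfRR.sum_disjoint_nonneg hG hp hq hpq
  have hq0 : q = 0 := by
    by_contra hq0
    have hqq : ∑ i, ∑ j, q i * q j * G i j < 0 := hneg q hq0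
    linarith
  have ha0 : ∀ i, 0 ≤ a i := fun i => by rw [hapq i, hq0]; simpa using hp i
  obtain ⟨m, hm'⟩ : ∃ m : ℕ, (m : ℤ) = G.det * G.det := ⟨_, Int.toNat_of_nonneg hm.le⟩
  obtain ⟨L, hL, hLP⟩ := SurfRR.exists_prod k hdim hH.1 m N hNi fun i => (a i).toNat
  simp only [fun i => Int.toNat_of_nonneg (ha0 i), hm'] at hLP
  have hNP : ∀ i, ∀ M, PicF.IsInvertible M → P (N i) M = -P (ClSub.idealMod (C i)) M := fun i M hM =>
    SurfRR.inum_inv k hle (hinv i) (hN i).some hM
  have hGP : ∀ i j, G i j = P (ClSub.idealMod (C i)) (ClSub.idealMod (C j)) := fun i j =>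
    SurfRR.intNum_pair k hle (hinv i) (hinv j)
  have hzero : ∀ j, P L (ClSub.idealMod (C j)) = 0 := fun j => by
    have h1 := hLP _ (hinv j)
    simp only [P] at hNP hGP ⊢
    rw [h1, show ∑ i, a i * IntTh.inum k [N i, ClSub.idealMod (C j)] (Coh.structureModule X) = -∑ i, a i * G i j from by
      rw [← Finset.sum_neg_distrib]
      exact Finset.sum_congr rfl fun i _ => by rw [hNP i _ (hinv j), hGP i j, mul_neg], ha j]
    simp only [h, P]
    ring
  have hother : ∀ D : X.IdealSheafData, IsIntegral D.subscheme → topologicalKrullDim (D.support : Set X) = 1 →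
      (¬ ∃ i, D = C i) → 0 < -P L (ClSub.idealMod D) := fun D h1 h2 hne => by
    have hD := SurfRR.isInvertible_idealMod_curve k hdim h1 h2
    have hsum' : ∑ i, a i * IntTh.inum k [N i, ClSub.idealMod D] (Coh.structureModule X) ≤ 0 :=
      Finset.sum_nonpos fun i _ => mul_nonpos_of_nonneg_of_nonpos (ha0 i) (by
        have h3 := SurfRR.intNum_nonneg_of_not_subset k hdim (hinv i) (hCi i) (hCd i) hD
          (SurfRR.not_subset_curve k hdim (hCi i) (hCd i) h1 h2 fun hh => hne ⟨i, hh.symm⟩)
        rw [SurfRR.intNum_pair k hle (hinv i) hD] at h3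
        have h4 := hNP i _ hD
        simp only [P] at h4
        linarith)
    have h1' := hLP _ hD
    have h5 := mul_pos hm (hh D h1 h2)
    simp only [P] at h5 ⊢
    linarith
  have hHH : 0 < P H H := by
    have := IntTh.inum_pos_of_isAmple k (X := X) (d := 2) hH (by rw [hdim]; rfl)
    simpa using this
  have hNH : ∀ i, 0 < P (N i) H := fun i => by
    have h1 := hNP i H hH.1
    have h2 := hh (C i) (hCi i) (hCd i)
    simp only [P] at h1 h2 ⊢
    rw [IntTh.inum_swap k hH.1 (hinv i)] at h2
    linarith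
  have hLH : 0 < P L H := by
    show 0 < IntTh.inum k [L, H] (Coh.structureModule X)
    rw [hLP H hH.1]
    exact add_pos_of_pos_of_nonneg (mul_pos hm hHH) (Finset.sum_nonneg fun i _ => mul_nonneg (ha0 i) (hNH i).le)
  refine ⟨L, hL, fun D h1 h2 => ?_, ?_, fun D h1 h2 => ?_⟩
  · show 0 ≤ deg D L
    rw [hdeg D L (SurfRR.isInvertible_idealMod_curve k hdim h1 h2) hL]
    by_cases hD : ∃ i, D = C i
    · obtain ⟨i, rfl⟩ := hD
      rw [hzero i, neg_zero]
    · exact (hother D h1 h2 hD).le
  · rw [SurfRR.intNum_pair k hle hL hL, hLP L hL]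
    refine add_pos_of_pos_of_nonneg (mul_pos hm ?_) (Finset.sum_nonneg fun i _ => le_of_eq ?_)
    · rw [IntTh.inum_swap k hH.1 hL]; exact hLH
    · have h1 := hNP i L hL
      have h2 := hzero i
      simp only [P] at h1 h2
      rw [h1, IntTh.inum_swap k (hinv i) hL, h2, neg_zero, mul_zero]
  · show deg D L = 0 ↔ _
    rw [hdeg D L (SurfRR.isInvertible_idealMod_curve k hdim h1 h2) hL]
    refine ⟨fun h0 => ?_, ?_⟩
    · by_contra hD
      exact (hother D h1 h2 hD).ne' h0
    · rintro ⟨i, rfl⟩
      rw [hzero i, neg_zero]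

end Groth.Agent.S18458
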