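import Groth.Statements.S18462
-- import your own Groth.Agent.* helpers here
import Groth.Agent.SurfRR.CurveConfig
import Groth.Agent.S8914

set_option autoImplicit false
universe u
open CategoryTheory CategoryTheory.Limits AlgebraicGeometry TopologicalSpace
open Surf

namespace Groth.Agent.S18462

/-- Let k be an algebraically closed field of characteristic zero and X a smooth projective surface over
k (integral, proper and smooth over k, of dimension 2, carrying an ample invertible module). Let
C_1, …, C_r be pairwise distinct integral curves on X with ideal sheaves I_i and negative definite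
intersection matrix (Σ_{i,j} a_i a_j (I_i·I_j) < 0 for every nonzero integer vector a, where (A·B) =
χ(O_X) − χ(A) − χ(B) + χ(A ⊗ B)), let F be an effective Cartier divisor on X, with ideal I_F, none
of whose components is a C_i, and let s_1, …, s_r be integers such that the divisor class F + Σ_i
s_i C_i is orthogonal to every C_j, that is (F·C_j) + Σ_i s_i (C_i·C_j) = 0, written here as
deg(I_F|_{C_j}) = χ(O_{C_j} ⊗ I_F) − χ(O_{C_j}) = Σ_i s_i (I_i·I_j) for every j. Then all the s_i
are nonnegative. The published statement allows real coefficients s_i; this row takes integer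
coefficients. Its second assertion, that s_i > 0 on every connected group of the C_i one of which
meets F positively, is not restated. -/
theorem result (k : Type u) [Field k] [IsAlgClosed k] [CharZero k]
    (X : Scheme.{u}) [X.Over (Spec (CommRingCat.of k))] [IsProper (X ↘ (Spec (CommRingCat.of k)))]
    [Smooth (X ↘ (Spec (CommRingCat.of k)))] [IsIntegral X] (hdim : topologicalKrullDim X = 2)
    (hproj : ∃ H : X.Modules, CohB1.IsAmple H)
    (r : ℕ) (C : Fin r → X.IdealSheafData) (hC : Function.Injective C)
    (hCi : ∀ i, IsIntegral (C i).subscheme) (hCd : ∀ i, topologicalKrullDim ((C i).support : Set X) = 1)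
    (hneg : ∀ a : Fin r → ℤ, a ≠ 0 →
      ∑ i, ∑ j, a i * a j * FGA.intNum k X 2 ![(ClSub.idealMod (C i)), (ClSub.idealMod (C j))] (Coh.structureModule X) < 0)
    (F : X.IdealSheafData) (hF : FGA.IsEffCartier F) (hFC : ∀ i, ¬ ((C i).support : Set X) ⊆ (F.support : Set X))
    (s : Fin r → ℤ)
    (horth : ∀ j, Curv2.euler k X (CohB1.tensorMod (ClSub.quotMod (C j)) (ClSub.idealMod F)) - Curv2.euler k X (ClSub.quotMod (C j)) =
      ∑ i, s i * FGA.intNum k X 2 ![(ClSub.idealMod (C i)), (ClSub.idealMod (C j))] (Coh.structureModule X)) :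
    ∀ i, 0 ≤ s i := by
  have hinv := fun i => SurfRR.isInvertible_idealMod_curve k hdim (hCi i) (hCd i)
  have hFi : PicF.IsInvertible (ClSub.idealMod F) := (Groth.Agent.S8914.result F).2 hF
  obtain ⟨p, q, hp, hq, hpq, hspq⟩ := SurfRR.exists_parts s
  let G : Fin r → Fin r → ℤ := fun i j =>
    FGA.intNum k X 2 ![(ClSub.idealMod (C i)), (ClSub.idealMod (C j))] (Coh.structureModule X)
  have hG : ∀ i j, i ≠ j → 0 ≤ G i j := fun i j h => SurfRR.intNum_offdiag_nonneg k hdim C hC hCi hCd h
  have hle : ∀ j, ∑ i, s i * G i j ≤ 0 := fun j => by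
    rw [← horth j, SurfRR.euler_quotMod_sub k hdim (hinv j) hFi, neg_nonpos]
    exact SurfRR.intNum_nonneg_of_not_subset k hdim (hinv j) (hCi j) (hCd j) hFi (hFC j)
  have hsum : ∑ j, q j * ∑ i, s i * G i j ≤ 0 :=
    Finset.sum_nonpos fun j _ => mul_nonpos_of_nonneg_of_nonpos (hq j) (hle j)
  have he : ∑ j, q j * ∑ i, s i * G i j = ∑ i, ∑ j, p i * q j * G i j - ∑ i, ∑ j, q i * q j * G i j := by
    simp only [Finset.mul_sum, hspq]
    rw [Finset.sum_comm, ← Finset.sum_sub_distrib]
    refine Finset.sum_congr rfl fun i _ => ?_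
    rw [← Finset.sum_sub_distrib]
    exact Finset.sum_congr rfl fun j _ => by ring
  have hpos := SurfRR.sum_disjoint_nonneg hG hp hq hpq
  by_contra hcon
  have hq0 : q ≠ 0 := fun h => hcon fun i => by
    have hqi : q i = 0 := congrFun h i
    rw [hspq i, hqi, sub_zero]
    exact hp i
  have hqq : ∑ i, ∑ j, q i * q j * G i j < 0 := hneg q hq0
  linarith

end Groth.Agent.S18462
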