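import Groth.Statements.S18463
-- import your own Groth.Agent.* helpers here
import Groth.Agent.SurfRR.CurveConfig
import Groth.Agent.S8914
import Groth.Agent.IntTh.Criteria

set_option autoImplicit false
universe u
open CategoryTheory CategoryTheory.Limits AlgebraicGeometry TopologicalSpace
open Surf

namespace Groth.Agent.S18463

/-- Let k be an algebraically closed field of characteristic zero and X a smooth projective surface over
k (integral, proper and smooth over k, of dimension 2, carrying an ample invertible module). Let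
C_1, …, C_r be pairwise distinct integral curves on X with ideal sheaves I_i and negative definite
intersection matrix (Σ_{i,j} a_i a_j (I_i·I_j) < 0 for every nonzero integer vector a, where (A·B) =
χ(O_X) − χ(A) − χ(B) + χ(A ⊗ B)), let F be an effective Cartier divisor on X, with ideal I_F, none
of whose components is a C_i, and let s_1, …, s_r be integers such that F is numerically equivalent
to Σ_i s_i C_i: (I_F·M) = Σ_i s_i (I_i·M) for every invertible O_X-module M (equivalently (F·D) = Σ
s_i (C_i·D) for every divisor D). Then F = 0, i.e. I_F = O_X, and every s_i is 0. The published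
statement writes the hypothesis as [F] + Σ s_i[C_i] = 0 with real s_i; this row writes F ≡ Σ s_i C_i
with integer s_i, which is the same after changing the signs of the s_i. -/
theorem result (k : Type u) [Field k] [IsAlgClosed k] [CharZero k]
    (X : Scheme.{u}) [X.Over (Spec (CommRingCat.of k))] [IsProper (X ↘ (Spec (CommRingCat.of k)))]
    [Smooth (X ↘ (Spec (CommRingCat.of k)))] [IsIntegral X] (hdim : topologicalKrullDim X = 2)
    (hproj : ∃ H : X.Modules, CohB1.IsAmple H)
    (r : ℕ) (C : Fin r → X.IdealSheafData) (hC : Function.Injective C)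
    (hCi : ∀ i, IsIntegral (C i).subscheme) (hCd : ∀ i, topologicalKrullDim ((C i).support : Set X) = 1)
    (hneg : ∀ a : Fin r → ℤ, a ≠ 0 →
      ∑ i, ∑ j, a i * a j * FGA.intNum k X 2 ![(ClSub.idealMod (C i)), (ClSub.idealMod (C j))] (Coh.structureModule X) < 0)
    (F : X.IdealSheafData) (hF : FGA.IsEffCartier F) (hFC : ∀ i, ¬ ((C i).support : Set X) ⊆ (F.support : Set X))
    (s : Fin r → ℤ)
    (hnum : ∀ M : X.Modules, PicF.IsInvertible M →
      FGA.intNum k X 2 ![(ClSub.idealMod F), M] (Coh.structureModule X) =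
        ∑ i, s i * FGA.intNum k X 2 ![(ClSub.idealMod (C i)), M] (Coh.structureModule X)) :
    F = ⊤ ∧ ∀ i, s i = 0 := by
  obtain ⟨H, hH⟩ := hproj
  obtain ⟨H', ⟨e⟩⟩ := NegVanish.exists_inverse hH.1
  have hH' : PicF.IsInvertible H' := NegVanish.isInvertible_of_inverse hH.1 ⟨e⟩
  have hinv := fun i => SurfRR.isInvertible_idealMod_curve k hdim (hCi i) (hCd i)
  have hFi : PicF.IsInvertible (ClSub.idealMod F) := (Groth.Agent.S8914.result F).2 hF
  obtain ⟨p, q, hp, hq, hpq, hspq⟩ := SurfRR.exists_parts s
  let G : Fin r → Fin r → ℤ := fun i j =>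
    FGA.intNum k X 2 ![(ClSub.idealMod (C i)), (ClSub.idealMod (C j))] (Coh.structureModule X)
  have hG : ∀ i j, i ≠ j → 0 ≤ G i j := fun i j h => SurfRR.intNum_offdiag_nonneg k hdim C hC hCi hCd h
  have hle : ∀ j, 0 ≤ ∑ i, s i * G i j := fun j => by
    rw [← hnum _ (hinv j), SurfRR.intNum_symm k hdim hFi (hinv j)]
    exact SurfRR.intNum_nonneg_of_not_subset k hdim (hinv j) (hCi j) (hCd j) hFi (hFC j)
  have hsum : 0 ≤ ∑ j, p j * ∑ i, s i * G i j := Finset.sum_nonneg fun j _ => mul_nonneg (hp j) (hle j)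
  have he : ∑ j, p j * ∑ i, s i * G i j = ∑ i, ∑ j, p i * p j * G i j - ∑ i, ∑ j, q i * p j * G i j := by
    simp only [Finset.mul_sum, hspq]
    rw [Finset.sum_comm, ← Finset.sum_sub_distrib]
    refine Finset.sum_congr rfl fun i _ => ?_
    rw [← Finset.sum_sub_distrib]
    exact Finset.sum_congr rfl fun j _ => by ring
  have hpos := SurfRR.sum_disjoint_nonneg hG hq hp (fun i => by rw [mul_comm, hpq i])
  have hp0 : p = 0 := by
    by_contra hp0
    have hpp : ∑ i, ∑ j, p i * p j * G i j < 0 := hneg p hp0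
    linarith
  obtain ⟨M, ⟨eM⟩⟩ := NegVanish.exists_inverse hFi
  have hM : PicF.IsInvertible M := NegVanish.isInvertible_of_inverse hFi ⟨eM⟩
  obtain ⟨c⟩ := ProjTwist.nonempty_tensorMod_comm M (ClSub.idealMod F)
  obtain ⟨σ, hσ⟩ := ConnDiv.exists_section_compl_support hFi hM ⟨c ≪≫ eM⟩
  have hη : genericPoint X ∉ (F.support : Set X) := HilbPoly.notMem_support_of_maximal hF fun y hy =>
    hy.antisymm (genericPoint_specializes y) |>.eq
  have hgen : genericPoint X ∈ (ProjUniv.genOpen hM σ : Set X) := not_not.1 fun h => hη (hσ.le h)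
  have hσ0 : σ ≠ 0 := IntTh.ne_zero_of_mem_genOpen hM hgen
  haveI := SurfRR.smooth_two (k := k) hdim
    (fun y => CohDual.SmoothEquidim.isRegularLocalRing_stalk (X ↘ Spec (CommRingCat.of k)) y)
  have hid : FGA.intNum k X 2 ![(ClSub.idealMod F), H'] (Coh.structureModule X) =
      IntTh.inum k [M, H] (Coh.structureModule X) := by
    rw [SurfRR.intNum_pair k hdim.le hFi hH', IntTh.inum_swap k hFi hH', SurfRR.inum_inv k hdim.le hH.1 e hFi,
      IntTh.inum_swap k hH.1 hFi, IntTh.inum_swap k hM hH.1, IntTh.inum_swap k hH.1 hM,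
      SurfRR.inum_inv k hdim.le hFi eM hH.1]
  have hrhs := hnum H' hH'
  simp only [hspq, hp0, Pi.zero_apply, zero_sub, neg_mul, Finset.sum_neg_distrib] at hrhs
  have hqs : 0 ≤ ∑ i, q i * FGA.intNum k X 2 ![(ClSub.idealMod (C i)), H'] (Coh.structureModule X) :=
    Finset.sum_nonneg fun i _ => mul_nonneg (hq i) (SurfRR.intNum_ample_inverse_pos k hdim (hCi i) (hCd i) hH e).le
  have htop : ProjUniv.genOpen hM σ = ⊤ := by
    by_contra h
    have := SurfRR.inum_pos_of_zero k hdim.le hM σ hσ0 h hH
    linarith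
  have hq0 : q = 0 := by
    refine SurfRR.eq_zero_of_ample k hdim C hCi hCd hH e hq ?_
    obtain ⟨τ⟩ := SurfRR.nonempty_iso_of_genOpen_eq_top hM σ htop
    have h0 : IntTh.inum k [M, H] (Coh.structureModule X) = 0 := by
      rw [IntTh.inum_head_congr k τ, IntTh.inum_head_unit]
    linarith
  refine ⟨?_, fun i => by rw [hspq i, hp0, hq0]; simp⟩
  rw [htop] at hσ
  exact (Scheme.IdealSheafData.support_eq_bot_iff F).1 (SetLike.coe_injective (by simpa using hσ.symm))

end Groth.Agent.S18463
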