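import Groth.Statements.S18464
import Groth.Agent.ForSys.Bertini
-- import your own Groth.Agent.* helpers here

set_option autoImplicit false
universe u
open CategoryTheory CategoryTheory.Limits AlgebraicGeometry
open LefPen

namespace Groth.Agent.S18464

/-- Let k be an infinite field, r a natural number, d ≥ 1 an integer, and m ≥ C(r+d, d), the number of
monomials of degree d in r+1 variables. In the space of m-tuples of vectors of k^(r+1) (homogeneous
coordinate vectors of m points of projective r-space; a zero vector is allowed and imposes no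
condition), the tuples such that the only form of degree d vanishing at all of them is the zero form
make up a Zariski-open subset which contains the non-vanishing locus of a not identically zero
polynomial function, so a dense open subset. (The published statement is the openness and density of
the corresponding locus in the m-fold product of projective r-space over the ground field; here the
ground field is any infinite field and the statement is made on coordinate vectors.) -/
theorem result (k : Type u) [Field k] [Infinite k]
    (r d m : ℕ) (hd : 1 ≤ d) (hm : Nat.choose (r + d) d ≤ m) :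
    LefPen.IsZOpen k {x : Fin m → (Fin (r + 1) → k) |
      ∀ G : LefPen.Form r k d, (∀ i : Fin m, MvPolynomial.aeval (x i) G.1 = 0) → G = 0} ∧
    LefPen.IsGeneric k {x : Fin m → (Fin (r + 1) → k) |
      ∀ G : LefPen.Form r k d, (∀ i : Fin m, MvPolynomial.aeval (x i) G.1 = 0) → G = 0} := by
  classical
  let Ω := ForSys.Mon r d
  let e := ForSys.formEquiv k r d
  let row : (Fin (r + 1) → k) → Ω → k := fun y β => MvPolynomial.eval y (MvPolynomial.monomial β.1 1)
  have hrow : ∀ y (G : LefPen.Form r k d), MvPolynomial.aeval y G.1 = ∑ β, e G β * row y β := fun y G => by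
    conv_lhs => rw [← e.symm_apply_apply G]
    show MvPolynomial.aeval y (∑ β, MvPolynomial.monomial β.1 (e G β)) = _
    rw [map_sum]
    refine Finset.sum_congr rfl fun β _ => ?_
    simp [row, MvPolynomial.aeval_monomial, MvPolynomial.eval_monomial]
  have hcard : Fintype.card Ω = Nat.choose (r + d) d := by
    rw [← Nat.choose_symm_add, ← ForSys.card_mon_in (n := r) (d := d) (id : Fin (r + 1) → Fin (r + 1)) Function.injective_id]
    exact (Fintype.card_congr (Equiv.subtypeUnivEquiv fun β i _ => ⟨i, rfl⟩)).symm
  let V := Fin m → (Fin (r + 1) → k)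
  let e' : V ≃ₗ[k] (Fin m × Fin (r + 1) → k) := (LinearEquiv.curry k k (Fin m) (Fin (r + 1))).symm
  let Dp : (Ω → Fin m) → MvPolynomial (Fin m × Fin (r + 1)) k := fun σ =>
    Matrix.det (Matrix.of fun α β : Ω => MvPolynomial.rename (fun i => (σ α, i)) (MvPolynomial.monomial β.1 (1 : k)))
  have hDp : ∀ σ (x : V), MvPolynomial.eval (e' x) (Dp σ) = Matrix.det (Matrix.of fun α β : Ω => row (x (σ α)) β) := by
    intro σ x
    rw [RingHom.map_det]
    congr 1
    funext α β
    simp only [RingHom.mapMatrix_apply, Matrix.map_apply, Matrix.of_apply, MvPolynomial.eval_rename]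
    rfl
  have hgood : ∀ σ (x : V), MvPolynomial.eval (e' x) (Dp σ) ≠ 0 →
      ∀ G : LefPen.Form r k d, (∀ i : Fin m, MvPolynomial.aeval (x i) G.1 = 0) → G = 0 := by
    intro σ x hx G hG
    rw [hDp] at hx
    refine e.injective (Eq.trans ?_ (map_zero e).symm)
    refine Matrix.eq_zero_of_mulVec_eq_zero hx (funext fun α => ?_)
    rw [Matrix.mulVec, dotProduct, Pi.zero_apply, ← hG (σ α), hrow]
    exact Finset.sum_congr rfl fun β _ => mul_comm _ _
  have hfind : ∀ S : Set (Fin (r + 1) → k),
      (∀ G : LefPen.Form r k d, (∀ y ∈ S, MvPolynomial.aeval y G.1 = 0) → G = 0) →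
      ∃ P : Ω → (Fin (r + 1) → k), (∀ α, P α ∈ S) ∧ Matrix.det (Matrix.of fun α β : Ω => row (P α) β) ≠ 0 := by
    intro S hS
    have hspan : Submodule.span k (row '' S) = ⊤ := by
      rw [← Subspace.dualAnnihilator_inj, Submodule.dualAnnihilator_top, Submodule.eq_bot_iff]
      intro φ hφ
      rw [Submodule.mem_dualAnnihilator] at hφ
      have hG := hS (e.symm fun β => φ (Pi.single β 1)) fun y hy => by
        rw [hrow, e.apply_symm_apply, ← hφ _ (Submodule.subset_span ⟨y, hy, rfl⟩)]
        conv_rhs => rw [pi_eq_sum_univ' (row y)]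
        rw [map_sum]
        refine Finset.sum_congr rfl fun x _ => ?_
        rw [map_smul, smul_eq_mul, mul_comm]
      refine LinearMap.pi_ext' fun β => LinearMap.ext_ring ?_
      have := congrFun ((congrArg e hG).trans (map_zero e)) β
      rw [e.apply_symm_apply] at this
      simpa using this
    obtain ⟨b, hbsub, hbspan, hblin⟩ := exists_linearIndependent k (row '' S)
    rw [hspan] at hbspan
    let B := Module.Basis.mk hblin (by rw [Subtype.range_coe, hbspan])
    haveI : Finite b := Module.Finite.finite_basis B
    haveI : Fintype b := Fintype.ofFinite _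
    let ε : Ω ≃ b := Fintype.equivOfCardEq (by rw [← Module.finrank_eq_card_basis B, Module.finrank_pi])
    choose P hPS hP using fun α : Ω => hbsub (ε α).2
    refine ⟨P, hPS, ((Matrix.isUnit_iff_isUnit_det _).mp (Matrix.linearIndependent_rows_iff_isUnit.mp ?_)).ne_zero⟩
    have h2 : LinearIndependent k fun α => ((ε α : b) : Ω → k) := hblin.comp ε ε.injective
    rw [show (fun α => ((ε α : b) : Ω → k)) = fun α => row (P α) from funext fun α => (hP α).symm] at h2
    exact h2
  refine ⟨fun x hx => ?_, ?_⟩
  · obtain ⟨P, hP, hdet⟩ := hfind (Set.range x) fun G hG => hx G fun i => hG _ ⟨i, rfl⟩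
    choose σ hσ using hP
    refine ⟨(ForSys.polyEquiv e' (Dp σ)).1, (ForSys.polyEquiv e' (Dp σ)).2, ?_, fun w hw => hgood σ w (by
      rwa [ForSys.polyEquiv_apply] at hw)⟩
    rw [ForSys.polyEquiv_apply, hDp]
    rwa [show (fun α β : Ω => row (x (σ α)) β) = fun α β => row (P α) β from funext fun α => by rw [hσ]]
  · obtain ⟨P, -, hdet⟩ := hfind Set.univ fun G hG => Subtype.ext (MvPolynomial.funext fun y => by
      rw [← MvPolynomial.aeval_eq_eval, hG y (Set.mem_univ y), show ((0 : LefPen.Form r k d).1) = 0 from rfl, map_zero])
    let σ : Ω ↪ Fin m := (Fintype.equivFin Ω).toEmbedding.trans (Fin.castLEEmb (by omega))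
    refine ForSys.isGeneric_of_coords e' _ (Dp σ) ?_ fun x hx => hgood σ x hx
    intro h0
    refine hdet ?_
    have h1 := hDp σ (Function.extend σ P 0)
    rw [h0, map_zero] at h1
    rw [h1]
    congr 1
    funext α β
    simp [σ.injective.extend_apply]

end Groth.Agent.S18464
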