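import Groth.Statements.S18465
-- import your own Groth.Agent.* helpers here

set_option autoImplicit false
universe u v w x
open WildLef

namespace Groth.Agent.S18465

/-- Let f : G₁ → G₂ be a homomorphism of groups, ρ : G₂ → Γ a homomorphism with finite image G, and A a
nontrivial commutative ring. Let G₂ act on the group algebra A[G] through ρ followed by the left
regular representation, and G₁ through f. If the elements of A[G] fixed by G₁ coincide with those
fixed by G₂, then ρ ∘ f and ρ have the same image. (The published statement has Γ a general linear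
group GL_r(A); over the zero ring that group is trivial, so requiring A nontrivial and allowing any
target group loses nothing.) -/
theorem result
    {G₁ : Type u} {G₂ : Type v} {Γ : Type w} [Group G₁] [Group G₂] [Group Γ]
    (f : G₁ →* G₂) (ρ : G₂ →* Γ) [Finite ρ.range] (A : Type x) [CommRing A] [Nontrivial A]
    (h : {x : MonoidAlgebra A ρ.range | ∀ g : G₁, MonoidAlgebra.of A ρ.range (ρ.rangeRestrict (f g)) * x = x} =
      {x : MonoidAlgebra A ρ.range | ∀ g : G₂, MonoidAlgebra.of A ρ.range (ρ.rangeRestrict g) * x = x}) :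
    (ρ.comp f).range = ρ.range := by
  classical
  have := Fintype.ofFinite ρ.range
  let H : Subgroup ρ.range := (ρ.rangeRestrict.comp f).range
  let x : MonoidAlgebra A ρ.range := ∑ a ∈ Finset.univ.filter (· ∈ H), MonoidAlgebra.single a (1 : A)
  have hc : ∀ a, x.coeff a = if a ∈ H then 1 else 0 := fun a => by
    simp [x, MonoidAlgebra.coeff_sum, Finsupp.finsetSum_apply, Finsupp.single_apply]
  have hx : ∀ g₁ : G₁, MonoidAlgebra.of A ρ.range (ρ.rangeRestrict (f g₁)) * x = x := fun g₁ => by
    ext a
    rw [MonoidAlgebra.of_apply, MonoidAlgebra.coeff_single_mul_apply, one_mul, hc, hc]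
    refine if_congr ?_ rfl rfl
    exact H.mul_mem_cancel_left (H.inv_mem ⟨g₁, rfl⟩)
  have hx' : ∀ g₂ : G₂, MonoidAlgebra.of A ρ.range (ρ.rangeRestrict g₂) * x = x := (Set.ext_iff.mp h x).mp hx
  refine le_antisymm ?_ ?_
  · rintro _ ⟨g, rfl⟩; exact ⟨f g, rfl⟩
  · rintro _ ⟨g₂, rfl⟩
    have := congrArg (fun z : MonoidAlgebra A ρ.range => z.coeff (ρ.rangeRestrict g₂)) (hx' g₂)
    simp only [MonoidAlgebra.of_apply, MonoidAlgebra.coeff_single_mul_apply, one_mul, hc, inv_mul_cancel,
      H.one_mem, if_true] at this
    by_cases hm : ρ.rangeRestrict g₂ ∈ H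
    · obtain ⟨g₁, hg₁⟩ := hm
      exact ⟨g₁, congrArg Subtype.val hg₁⟩
    · rw [if_neg hm] at this; exact absurd this one_ne_zero

end Groth.Agent.S18465
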