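import Mathlib
import Mathlib.RingTheory.Bialgebra.GroupLike
import Mathlib.LinearAlgebra.FiniteDimensional.Basic
import Groth.Statements.S18466
-- import your own Groth.Agent.* helpers here

set_option autoImplicit false
universe u
open Hopf

namespace Groth.Agent.S18466

open scoped TensorProduct

set_option backward.isDefEq.respectTransparency false
set_option backward.isDefEq.respectTransparency.types false

/-- Let k be a field and n ≥ 1. The constant group scheme ℤ/n over k is self-dual, that is, isomorphic
to its Cartier dual μ_n — equivalently the Hopf algebra of k-valued functions on the cyclic group of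
order n and the group algebra of that group over k (group elements group-like) are isomorphic as
bialgebras — precisely when the field k has a primitive n-th root of unity, i.e. k contains n
distinct n-th roots of unity in k. (The published statement assumes that the characteristic of k
does not divide n; both directions hold without that assumption by the same argument, since a
primitive n-th root of unity forces n to be nonzero in k, so it is omitted here.) -/
theorem result
    (k : Type u) [Field k] (n : ℕ) [NeZero n] :
    Nonempty (ConstGrp.F k (Multiplicative (ZMod n)) ≃ₐc[k] MonoidAlgebra k (Multiplicative (ZMod n))) ↔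
      ∃ ζ : k, IsPrimitiveRoot ζ n := by
  classical
  have hgl : ∀ f : (ConstGrp.F k (Multiplicative (ZMod n))), IsGroupLikeElem k f ↔ (f 1 = 1 ∧ ∀ a b, f (a * b) = f a * f b) := by
    intro f
    constructor
    · intro h
      refine ⟨(ConstGrp.counit_apply k _ f).symm.trans h.counit_eq_one, fun a b => ?_⟩
      have h' := (ConstGrp.pair_comul k _ f a b).symm
      rw [h.comul_eq_tmul_self, ConstGrp.pair_tmul] at h'
      exact h'
    · rintro ⟨h1, h2⟩
      refine ⟨by rw [ConstGrp.counit_apply]; exact h1, ?_⟩
      rw [ConstGrp.comul_eq_sum]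
      conv_rhs => rw [ConstGrp.eq_sum_smul_e f, TensorProduct.sum_tmul]
      refine Finset.sum_congr rfl fun a _ => ?_
      rw [TensorProduct.tmul_sum]
      refine Finset.sum_congr rfl fun b _ => ?_
      rw [h2, TensorProduct.smul_tmul', TensorProduct.tmul_smul, TensorProduct.smul_tmul', smul_smul, mul_comm]
  have hgen : ∀ g : (Multiplicative (ZMod n)), g = Multiplicative.ofAdd (1 : ZMod n) ^ (Multiplicative.toAdd g).val := by
    intro g
    rw [← ofAdd_nsmul]
    simp
  constructor
  · rintro ⟨φ⟩
    let γ : (Multiplicative (ZMod n)) := Multiplicative.ofAdd (1 : ZMod n)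
    let f : (ConstGrp.F k (Multiplicative (ZMod n))) := φ.symm (MonoidAlgebra.of k (Multiplicative (ZMod n)) γ)
    obtain ⟨h1, h2⟩ := (hgl f).mp ((MonoidAlgebra.isGroupLikeElem_of γ).map φ.symm)
    let fh : (Multiplicative (ZMod n)) →* k := { toFun := fun a => f a, map_one' := h1, map_mul' := h2 }
    have hval : ∀ (i : ℕ) (g : (Multiplicative (ZMod n))), (f ^ i) g = (f g) ^ i := fun i g => by
      induction i with
      | zero => rfl
      | succ i ih => rw [pow_succ, pow_succ, ConstGrp.mul_apply, ih]
    refine ⟨f γ, ?_, fun i hi => ?_⟩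
    · show fh γ ^ n = 1
      rw [← map_pow, ← ofAdd_nsmul]
      simp
    · have hf : f ^ i = 1 := ConstGrp.ext fun g => by
        rw [hval, ConstGrp.one_apply]
        show fh g ^ i = 1
        rw [hgen g, map_pow, ← pow_mul, mul_comm, pow_mul]
        show (f γ ^ i) ^ _ = 1
        rw [hi, one_pow]
      have : (MonoidAlgebra.of k (Multiplicative (ZMod n)) γ) ^ i = 1 := by
        have := congrArg φ hf
        rwa [map_pow, map_one, show φ f = MonoidAlgebra.of k (Multiplicative (ZMod n)) γ from φ.toAlgEquiv.apply_symm_apply _] at this
      rw [← map_pow, ← map_one (MonoidAlgebra.of k (Multiplicative (ZMod n)))] at this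
      have h3 : γ ^ i = 1 := MonoidAlgebra.of_injective this
      rw [← ofAdd_nsmul] at h3
      exact (ZMod.natCast_eq_zero_iff i n).mp (by simpa using congrArg Multiplicative.toAdd h3)
  · rintro ⟨ζ, hζ⟩
    have hp : ∀ a b : ℕ, (a : ZMod n) = b → ζ ^ a = ζ ^ b := by
      intro a b h
      rw [pow_eq_pow_mod a hζ.pow_eq_one, pow_eq_pow_mod b hζ.pow_eq_one, (ZMod.natCast_eq_natCast_iff' a b n).mp h]
    let c : (Multiplicative (ZMod n)) → (ConstGrp.F k (Multiplicative (ZMod n))) := fun m => fun g => ζ ^ ((Multiplicative.toAdd m).val * (Multiplicative.toAdd g).val)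
    have hc : ∀ m, IsGroupLikeElem k (c m) := fun m => (hgl _).mpr ⟨by simp [c], fun a b => by
      show ζ ^ _ = ζ ^ _ * ζ ^ _
      rw [← pow_add]
      exact hp _ _ (by simp [toAdd_mul, mul_add])⟩
    let Mh : (Multiplicative (ZMod n)) →* GroupLike k (ConstGrp.F k (Multiplicative (ZMod n))) :=
      { toFun := fun m => ⟨c m, hc m⟩
        map_one' := GroupLike.val_injective (ConstGrp.ext fun g => by
          show ζ ^ _ = 1
          simp)
        map_mul' := fun a b => GroupLike.val_injective (ConstGrp.ext fun g => by
          show ζ ^ _ = ζ ^ _ * ζ ^ _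
          rw [← pow_add]
          exact hp _ _ (by simp [toAdd_mul, add_mul])) }
    have hinj : Function.Injective Mh := fun a b h => by
      have h1 := congrArg (fun x : GroupLike k (ConstGrp.F k (Multiplicative (ZMod n))) => x.val (Multiplicative.ofAdd (1 : ZMod n))) h
      have h2 : ζ ^ ((Multiplicative.toAdd a).val * (1 : ZMod n).val) = ζ ^ ((Multiplicative.toAdd b).val * (1 : ZMod n).val) := h1
      rcases eq_or_ne n 1 with hn | hn
      · subst hn; exact Subsingleton.elim (α := ZMod 1) _ _
      · haveI : Fact (1 < n) := ⟨by have := NeZero.ne n; omega⟩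
        rw [ZMod.val_one, mul_one, mul_one] at h2
        exact Multiplicative.toAdd.injective (ZMod.val_injective n (hζ.pow_inj (ZMod.val_lt _) (ZMod.val_lt _) h2))
    let ψ : MonoidAlgebra k (Multiplicative (ZMod n)) →ₐc[k] (ConstGrp.F k (Multiplicative (ZMod n))) := MonoidAlgebra.liftGroupLikeBialgHom.comp (MonoidAlgebra.mapDomainBialgHom k Mh)
    have hψ : ∀ m, ψ (MonoidAlgebra.single m 1) = (Mh m).val := fun m => by simp [ψ]
    have hψinj : Function.Injective ψ := by
      have hli : LinearIndependent k (fun m => ψ.toAlgHom.toLinearMap (MonoidAlgebra.basis (Multiplicative (ZMod n)) k m)) := by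
        have := (linearIndep_groupLikeVal (R := k) (A := (ConstGrp.F k (Multiplicative (ZMod n))))).comp Mh hinj
        rw [show (fun m => ψ.toAlgHom.toLinearMap (MonoidAlgebra.basis (Multiplicative (ZMod n)) k m)) = GroupLike.val ∘ ⇑Mh from
          funext fun m => by rw [MonoidAlgebra.basis_apply]; exact hψ m]
        exact this
      exact LinearMap.injective_of_linearIndependent (MonoidAlgebra.basis (Multiplicative (ZMod n)) k).span_eq hli
    haveI : Module.Finite k (MonoidAlgebra k (Multiplicative (ZMod n))) := Module.Finite.of_basis (MonoidAlgebra.basis (Multiplicative (ZMod n)) k)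
    have hdim : Module.finrank k (MonoidAlgebra k (Multiplicative (ZMod n))) = Module.finrank k (ConstGrp.F k (Multiplicative (ZMod n))) := by
      rw [Module.finrank_eq_card_basis (MonoidAlgebra.basis (Multiplicative (ZMod n)) k), Module.finrank_eq_card_basis (ConstGrp.basis k (Multiplicative (ZMod n)))]
    have hψsurj : Function.Surjective ψ :=
      (LinearMap.injective_iff_surjective_of_finrank_eq_finrank hdim (f := ψ.toAlgHom.toLinearMap)).mp hψinj
    exact ⟨(BialgEquiv.ofBijective ψ ⟨hψinj, hψsurj⟩).symm⟩

end Groth.Agent.S18466
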