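import Groth.Statements.S18467
import Mathlib
-- import your own Groth.Agent.* helpers here

set_option autoImplicit false
universe u
open Hopf

namespace Groth.Agent.S18467

/-- Let p be a prime and R a commutative ring containing an element u with u(p − 1) = 1, and let χ be a
homomorphism from the group of units of ℤ/p to the group of units of R such that χ(m) − 1 is a unit
of R for every m ≠ 1. For 0 ≤ i < p − 1 put e_i = u · Σ_m χ(m)^{−i} [m] in the group algebra
R[(ℤ/p)ˣ]. Then the e_i are idempotents, e_i e_j = 0 for i ≠ j, and Σ_i e_i = 1. (The published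
statement is for algebras over the subring of the p-adic integers generated over ℤ by the values of
the Teichmüller character χ and by 1/(p(p − 1)); the hypotheses on R and χ here are the properties
of that situation which the computation uses, so the row is stated for every such pair.) -/
theorem result
    (p : ℕ) [Fact p.Prime] (R : Type u) [CommRing R] (u : R) (hu : u * ((p - 1 : ℕ) : R) = 1)
    (χ : (ZMod p)ˣ →* Rˣ) (hχ : ∀ m : (ZMod p)ˣ, m ≠ 1 → IsUnit ((χ m : R) - 1)) :
    CompleteOrthogonalIdempotents (fun i : Fin (p - 1) =>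
      u • ∑ m : (ZMod p)ˣ, ((χ m⁻¹ : Rˣ) : R) ^ (i : ℕ) • MonoidAlgebra.of R (ZMod p)ˣ m) := by
  classical
  let P : ℕ → ((ZMod p)ˣ →* R) := fun i =>
    { toFun := fun m => ((χ m⁻¹ : Rˣ) : R) ^ i
      map_one' := by simp
      map_mul' := fun a b => by rw [mul_inv, map_mul, Units.val_mul, mul_pow] }
  have hcyc : IsCyclic (ZMod p)ˣ := ZMod.isCyclic_units_prime Fact.out
  obtain ⟨g, hg⟩ := hcyc.exists_generator
  have hord : orderOf g = p - 1 := by
    rw [orderOf_eq_card_of_forall_mem_zpowers hg, Nat.card_eq_fintype_card, ZMod.card_units]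
  have hS : ∀ i j : Fin (p - 1), ∑ m, P i m * P j m⁻¹ = if i = j then ((p - 1 : ℕ) : R) else 0 := by
    intro i j
    let Q : (ZMod p)ˣ → R := fun m => ((χ (m ^ (j : ℕ) * (m⁻¹) ^ (i : ℕ)) : Rˣ) : R)
    have hPQ : ∀ m, P i m * P j m⁻¹ = Q m := fun m => by
      simp only [P, Q, MonoidHom.coe_mk, OneHom.coe_mk, inv_inv, map_mul, map_pow, Units.val_mul,
        Units.val_pow_eq_pow_val]
      ring
    simp only [hPQ]
    split_ifs with h
    · subst h
      simp [Q, ← mul_pow, ZMod.card_units, Nat.totient_prime (Fact.out : p.Prime)]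
    · set m0 := g ^ (j : ℕ) * (g⁻¹) ^ (i : ℕ) with hm0
      have hne : m0 ≠ 1 := fun he => by
        rw [hm0, inv_pow, mul_inv_eq_one] at he
        have := pow_inj_mod.mp he
        rw [hord, Nat.mod_eq_of_lt j.isLt, Nat.mod_eq_of_lt i.isLt] at this
        exact h (Fin.ext this.symm)
      have hshift : ((χ m0 : Rˣ) : R) * ∑ m, Q m = ∑ m, Q m := by
        rw [Finset.mul_sum]
        refine Fintype.sum_equiv (Equiv.mulLeft g) _ _ fun m => ?_
        simp only [Q, hm0, Equiv.coe_mulLeft, ← Units.val_mul, ← map_mul, mul_pow, mul_inv]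
        congr 2
        exact mul_mul_mul_comm _ _ _ _
      refine (hχ m0 hne).mul_right_eq_zero.mp ?_
      rw [sub_mul, one_mul, hshift, sub_self]
  have hmul : ∀ i j : Fin (p - 1),
      (u • ∑ m, P i m • MonoidAlgebra.of R (ZMod p)ˣ m) * (u • ∑ m, P j m • MonoidAlgebra.of R (ZMod p)ˣ m) =
        (u * (u * ∑ m, P i m * P j m⁻¹)) • ∑ l, P j l • MonoidAlgebra.of R (ZMod p)ˣ l := by
    intro i j
    have h1 : ∀ m, (P i m • MonoidAlgebra.of R (ZMod p)ˣ m) * ∑ n, P j n • MonoidAlgebra.of R (ZMod p)ˣ n =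
        (P i m * P j m⁻¹) • ∑ l, P j l • MonoidAlgebra.of R (ZMod p)ˣ l := by
      intro m
      rw [Finset.mul_sum, Finset.smul_sum]
      refine Fintype.sum_equiv (Equiv.mulLeft m) _ _ fun n => ?_
      rw [smul_mul_smul_comm, ← map_mul, smul_smul, Equiv.coe_mulLeft, map_mul (P j)]
      congr 1
      have : P j m⁻¹ * P j m = 1 := by rw [← map_mul, inv_mul_cancel, map_one]
      linear_combination (-(P i m * P j n)) * this
    rw [smul_mul_smul_comm, Finset.sum_mul]
    simp only [h1, ← Finset.sum_smul, smul_smul]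
    congr 1
    ring
  refine ⟨⟨fun i => ?_, fun i j hij => ?_⟩, ?_⟩
  · show (u • ∑ m, P i m • MonoidAlgebra.of R (ZMod p)ˣ m) * (u • ∑ m, P i m • MonoidAlgebra.of R (ZMod p)ˣ m) = _
    rw [hmul, hS, if_pos rfl, hu, mul_one]
    rfl
  · show (u • ∑ m, P i m • MonoidAlgebra.of R (ZMod p)ˣ m) * (u • ∑ m, P j m • MonoidAlgebra.of R (ZMod p)ˣ m) = _
    rw [hmul, hS, if_neg hij, mul_zero, mul_zero, zero_smul]
  · rw [← Finset.smul_sum, Finset.sum_comm]
    simp only [← Finset.sum_smul]
    rw [Finset.sum_eq_single 1]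
    · simp [smul_smul, hu, MonoidAlgebra.one_def]
    · intro m _ hm
      have hx : ((χ m⁻¹ : Rˣ) : R) ^ (p - 1) = 1 := by
        rw [← Units.val_pow_eq_pow_val, ← map_pow]
        have : (m⁻¹) ^ (p - 1) = 1 := ZMod.units_pow_card_sub_one_eq_one p _
        rw [this, map_one, Units.val_one]
      have h0 : ∑ i : Fin (p - 1), ((χ m⁻¹ : Rˣ) : R) ^ (i : ℕ) = 0 := by
        rw [Fin.sum_univ_eq_sum_range (fun i => ((χ m⁻¹ : Rˣ) : R) ^ i)]
        refine (hχ m⁻¹ (by simpa using hm)).mul_left_eq_zero.mp ?_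
        rw [geom_sum_mul, hx, sub_self]
      rw [h0, zero_smul]
    · exact fun h => absurd (Finset.mem_univ _) h

end Groth.Agent.S18467
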