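import Groth.Statements.S18468
import Groth.Agent.OTLib.Basic


set_option autoImplicit false
universe u
open OortTate

namespace Groth.Agent.S18468

/-- Let p be a prime, R a commutative ring containing u with u(p − 1) = 1, and χ a homomorphism from the
units of ℤ/p to the units of R such that χ(m) − 1 is a unit for every m ≠ 1 (the situation of an
algebra over the subring Λ_p of the p-adic integers generated by the Teichmüller values and 1/(p(p −
1)), with χ the Teichmüller character, which is the published setting). Let A be a commutative Hopf
algebra over R such that the p-th convolution power of the identity of A is the neutral element ε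
followed by the unit (the affine group G = Spec A is killed by p), so that for a unit m of ℤ/p the
power map [m] of A depends only on m. For 0 ≤ i < p − 1 let I_i ⊆ A be the submodule of those f with
ε(f) = 0 and [m]f = χ(m)^i f for every m. Then the augmentation ideal ker ε is the internal direct
sum of the I_i (the family is independent and its supremum is ker ε), and each I_i is the image of
ker ε under the averaging operator u Σ_m χ(m)^{−i}[m]. (The published statement is for the Hopf
algebra of a group scheme of order p over a Λ_p-algebra, which is commutative and killed by p; the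
hypotheses here are what the argument uses.) -/
theorem result
    (p : ℕ) [Fact p.Prime] (R : Type u) [CommRing R] (u : R) (hu : u * ((p - 1 : ℕ) : R) = 1)
    (χ : (ZMod p)ˣ →* Rˣ) (hχ : ∀ m : (ZMod p)ˣ, m ≠ 1 → IsUnit ((χ m : R) - 1))
    (A : Type u) [CommRing A] [HopfAlgebra R A]
    (hp : (WithConv.toConv (AlgHom.id R A)) ^ p = 1) :
    iSupIndep (fun i : Fin (p - 1) => OortTate.eigenAug R A p χ (i : ℕ)) ∧
      (⨆ i : Fin (p - 1), OortTate.eigenAug R A p χ (i : ℕ)) =
        LinearMap.ker (Bialgebra.counitAlgHom R A).toLinearMap ∧
      ∀ i : Fin (p - 1), OortTate.eigenAug R A p χ (i : ℕ) =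
        Submodule.map (OortTate.proj R A p u χ (i : ℕ))
          (LinearMap.ker (Bialgebra.counitAlgHom R A).toLinearMap) := by
  classical
  refine ⟨?_, ?_, fun i => ?_⟩
  · rw [iSupIndep_def]
    intro i
    rw [Submodule.disjoint_def]
    intro f hf hf'
    have h0 : ∀ g ∈ ⨆ (j) (_ : j ≠ i), OortTate.eigenAug R A p χ (j : ℕ),
        OortTate.proj R A p u χ (i : ℕ) g = 0 := by
      intro g hg
      have hle : (⨆ (j) (_ : j ≠ i), OortTate.eigenAug R A p χ (j : ℕ)) ≤
          LinearMap.ker (OortTate.proj R A p u χ (i : ℕ)) := iSup₂_le fun j hj g hg =>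
        Groth.Agent.OTLib.proj_eq_zero hχ (by
          rw [Nat.mod_eq_of_lt i.2, Nat.mod_eq_of_lt j.2]
          exact fun h => hj (Fin.ext h.symm)) hg
      exact hle hg
    rw [← Groth.Agent.OTLib.proj_eq_self hu hf]
    exact h0 f hf'
  · refine le_antisymm (iSup_le fun i => Groth.Agent.OTLib.eigenAug_le_ker _) fun f hf => ?_
    rw [← Groth.Agent.OTLib.sum_proj hu hχ f, ← Fin.sum_univ_eq_sum_range (fun i => OortTate.proj R A p u χ i f)]
    exact Submodule.sum_mem _ fun i _ => Submodule.mem_iSup_of_mem i
      (Groth.Agent.OTLib.proj_mem hp _ (by simpa using hf))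
  · refine le_antisymm (fun f hf => ⟨f, Groth.Agent.OTLib.eigenAug_le_ker _ hf,
      Groth.Agent.OTLib.proj_eq_self hu hf⟩) ?_
    rintro _ ⟨f, hf, rfl⟩
    exact Groth.Agent.OTLib.proj_mem hp _ (by simpa using hf)

end Groth.Agent.S18468
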