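import Groth.Statements.S18473
import Groth.Agent.OTLib.Dual


set_option autoImplicit false
universe u
open OortTate

namespace Groth.Agent.S18473

/-- With the preceding computation: let p be a prime, R a commutative ring containing u with u(p − 1) =
1, and χ a homomorphism from the units of ℤ/p to the units of R such that χ(m) − 1 is a unit for
every m ≠ 1 (the situation of an algebra over the subring Λ_p of the p-adic integers generated by
the Teichmüller values and 1/(p(p − 1)), with χ the Teichmüller character, which is the published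
setting); assume moreover χ(m) ≡ m modulo pR for every m. In the group algebra over R of the cyclic
group of order p, written R[T]/(T^p − 1) with T group-like (the Hopf algebra of μ_p, on which the
power map [m] sends T to T^m), put y_i = u Σ_m χ(m)^{−i}(T^m − 1), the average of T − 1 for the
character χ^i. Then the elements y_0, …, y_{p−2} are a basis of the augmentation ideal (they are
linearly independent and span the kernel of the counit), the R-algebra is generated by y_1 alone,
and y_1^p = w·y_1 for a unique w ∈ R (the constant w_p of the classification). -/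
theorem result
    (p : ℕ) [Fact p.Prime] (R : Type u) [CommRing R] (u : R) (hu : u * ((p - 1 : ℕ) : R) = 1)
    (χ : (ZMod p)ˣ →* Rˣ) (hχ : ∀ m : (ZMod p)ˣ, m ≠ 1 → IsUnit ((χ m : R) - 1))
    (hχp : ∀ m : (ZMod p)ˣ, ((χ m : Rˣ) : R) - (((m : ZMod p).val : ℕ) : R) ∈ Ideal.span ({(p : R)} : Set R)) :
    LinearIndependent R (fun i : Fin (p - 1) => OortTate.ygen R p u χ (i : ℕ)) ∧
      Submodule.span R (Set.range (fun i : Fin (p - 1) => OortTate.ygen R p u χ (i : ℕ))) =
        LinearMap.ker (Bialgebra.counitAlgHom R (MonoidAlgebra R (Multiplicative (ZMod p)))).toLinearMap ∧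
      Algebra.adjoin R ({OortTate.ygen R p u χ 1} : Set (MonoidAlgebra R (Multiplicative (ZMod p)))) = ⊤ ∧
      ∃! w : R, OortTate.ygen R p u χ 1 ^ p = w • OortTate.ygen R p u χ 1 := by
  classical
  have hrk := Groth.Agent.OTLib.rankAtStalk_group (R := R) (p := p)
  have hid := Groth.Agent.OTLib.pow_prime_eq_one hrk
  have hp1 : 0 < p - 1 := by have := (Fact.out : p.Prime).two_le; omega
  have hz : ∀ (i : ℕ) (r : R), r • OortTate.ygen R p u χ i = 0 → r = 0 := fun i r hr =>
    Groth.Agent.OTLib.ygen_smul_eq_zero hu hχ hχp i hr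
  refine ⟨?_, ?_, ?_, ?_⟩
  · rw [Fintype.linearIndependent_iff]
    intro c hc i
    refine hz (i : ℕ) _ ?_
    have h := congrArg (fun a => (Groth.Agent.OTLib.pr u χ (i : ℕ) hid a : MonoidAlgebra R (Multiplicative (ZMod p)))) hc
    simp only [map_sum, map_smul, map_zero, Submodule.coe_zero, AddSubmonoidClass.coe_finsetSum,
      Submodule.coe_smul] at h
    rw [Finset.sum_eq_single i] at h
    · rwa [Groth.Agent.OTLib.pr_of_mem hid hu (Groth.Agent.OTLib.ygen_mem _ hid)] at h
    · intro j _ hj
      rw [Groth.Agent.OTLib.pr_of_mem_ne hid hχ ?_ (Groth.Agent.OTLib.ygen_mem _ hid), Submodule.coe_zero, smul_zero]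
      rw [Nat.mod_eq_of_lt i.2, Nat.mod_eq_of_lt j.2]
      exact fun h => hj (Fin.ext h.symm)
    · simp
  · refine le_antisymm (Submodule.span_le.2 ?_) fun f hf => ?_
    · rintro _ ⟨i, rfl⟩
      exact Groth.Agent.OTLib.eigenAug_le_ker _ (Groth.Agent.OTLib.ygen_mem _ hid)
    · have h0 : Coalgebra.counit (R := R) f = 0 := by simpa using hf
      rw [← Groth.Agent.OTLib.sum_pr hid hu hχ f, h0, map_zero, zero_add]
      refine Submodule.sum_mem _ fun i hi => ?_
      have h := ((Groth.Agent.OTLib.span_ygen hu i hid).ge (Groth.Agent.OTLib.pr u χ i hid f).2)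
      refine Submodule.span_mono (Set.singleton_subset_iff.2 ?_) h
      exact ⟨(⟨i, Finset.mem_range.1 hi⟩ : Fin (p - 1)), rfl⟩
  · refine top_unique fun f _ => ?_
    obtain ⟨g, rfl⟩ := Groth.Agent.OTLib.lift_surjective hu hχ hχp hrk f
    induction g using TensorAlgebra.induction with
    | algebraMap r => rw [AlgHom.commutes]; exact Subalgebra.algebraMap_mem _ r
    | ι x =>
      rw [TensorAlgebra.lift_ι_apply]
      obtain ⟨c, hc⟩ := Submodule.mem_span_singleton.1 ((Groth.Agent.OTLib.span_ygen hu 1 hid).ge x.2)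
      rw [Submodule.subtype_apply, ← hc]
      exact Subalgebra.smul_mem _ (Algebra.self_mem_adjoin_singleton R _) c
    | mul a b ha hb => rw [map_mul]; exact mul_mem (ha trivial) (hb trivial)
    | add a b ha hb => rw [map_add]; exact add_mem (ha trivial) (hb trivial)
  · have hp2 : 2 ≤ p := (Fact.out : p.Prime).two_le
    have hmem : OortTate.ygen R p u χ 1 ^ p ∈ OortTate.eigenAug R (MonoidAlgebra R (Multiplicative (ZMod p))) p χ 1 := by
      have h := Groth.Agent.OTLib.pow_le_eigenAug p (by omega)
        (Submodule.pow_mem_pow _ (Groth.Agent.OTLib.ygen_mem (u := u) (χ := χ) 1 hid) p)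
      rwa [Groth.Agent.OTLib.eigenAug_mod, show p % (p - 1) = 1 % (p - 1) by
        rw [show p = 1 + (p - 1) by omega]; simp, ← Groth.Agent.OTLib.eigenAug_mod] at h
    obtain ⟨w, hw⟩ := Submodule.mem_span_singleton.1 ((Groth.Agent.OTLib.span_ygen hu 1 hid).ge hmem)
    refine ⟨w, hw.symm, fun w' hw' => sub_eq_zero.1 (hz 1 _ ?_)⟩
    rw [sub_smul, ← hw']
    exact sub_eq_zero.2 hw.symm

end Groth.Agent.S18473
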