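import Groth.Statements.S18475
import Groth.Agent.OTLib.Classify


set_option autoImplicit false
universe u
open OortTate

namespace Groth.Agent.S18475

/-- Let p be a prime, R a commutative ring containing u with u(p − 1) = 1, and χ a homomorphism from the
units of ℤ/p to the units of R such that χ(m) − 1 is a unit for every m ≠ 1 (the situation of an
algebra over the subring Λ_p of the p-adic integers generated by the Teichmüller values and 1/(p(p −
1)), with χ the Teichmüller character, which is the published setting); assume moreover χ(m) ≡ m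
modulo pR for every m. Let A and A' be commutative and cocommutative Hopf algebras over R, finitely
generated and projective as R-modules of rank p at every prime (group schemes G, G' of order p over
Spec R), with dual Hopf algebras A^D = Hom_R(A, R) and A'^D (the Cartier duals; for a unit m of ℤ/p
the power map [m] acts on all four algebras). Suppose the χ-eigenspaces of the augmentation ideals
are free of rank one with chosen generators: I_1(A) = R·x and I_1(A^D) = R·ξ with ξ(x) = 1, and
similarly I_1(A') = R·x', I_1(A'^D) = R·ξ' with ξ'(x') = 1 (this is the case of a local base R);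
write x^p = α x, ξ^p = β ξ, x'^p = α' x', ξ'^p = β' ξ' with α, β, α', β' ∈ R. If there is a unit v
of R with α' = v^{p−1} α and β' = v^{−(p−1)} β, then A and A' are isomorphic as bialgebras over R,
i.e. G ≅ G'. (This is the injectivity of the classification map G ↦ (I_1, a, b) in the case where
the invertible module I_1 is free, the case the copy spells out; the general statement compares
triples consisting of an invertible module with two maps.) The published argument obtains
commutativity and p-torsion of G over a locally Noetherian base; this row allows any commutative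
ring R, over which both still hold. -/
theorem result
    (p : ℕ) [Fact p.Prime] (R : Type u) [CommRing R] (u : R) (hu : u * ((p - 1 : ℕ) : R) = 1)
    (χ : (ZMod p)ˣ →* Rˣ) (hχ : ∀ m : (ZMod p)ˣ, m ≠ 1 → IsUnit ((χ m : R) - 1))
    (hχp : ∀ m : (ZMod p)ˣ, ((χ m : Rˣ) : R) - (((m : ZMod p).val : ℕ) : R) ∈ Ideal.span ({(p : R)} : Set R))
    (A : Type u) [CommRing A] [HopfAlgebra R A] [Coalgebra.IsCocomm R A] [Module.Finite R A]
    [Module.Projective R A] (hrk : ∀ q : PrimeSpectrum R, Module.rankAtStalk A q = p)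
    (A' : Type u) [CommRing A'] [HopfAlgebra R A'] [Coalgebra.IsCocomm R A'] [Module.Finite R A']
    [Module.Projective R A'] (hrk' : ∀ q : PrimeSpectrum R, Module.rankAtStalk A' q = p)
    (x : A) (hx : Submodule.span R {x} = OortTate.eigenAug R A p χ 1)
    (ξ : CartDual.D R A) (hξ : Submodule.span R {ξ} = OortTate.eigenAug R (CartDual.D R A) p χ 1)
    (hxξ : CartDual.toDual R A ξ x = 1)
    (x' : A') (hx' : Submodule.span R {x'} = OortTate.eigenAug R A' p χ 1)
    (ξ' : CartDual.D R A') (hξ' : Submodule.span R {ξ'} = OortTate.eigenAug R (CartDual.D R A') p χ 1)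
    (hxξ' : CartDual.toDual R A' ξ' x' = 1)
    (α β α' β' : R) (hα : x ^ p = α • x) (hβ : ξ ^ p = β • ξ) (hα' : x' ^ p = α' • x')
    (hβ' : ξ' ^ p = β' • ξ')
    (v : Rˣ) (hαv : α' = ((v ^ (p - 1) : Rˣ) : R) * α) (hβv : β' = ((v⁻¹ ^ (p - 1) : Rˣ) : R) * β) :
    Nonempty (A ≃ₐc[R] A') := by
  classical
  have hid := Groth.Agent.OTLib.pow_prime_eq_one (R := R) (A := A) hrk
  have hid' := Groth.Agent.OTLib.pow_prime_eq_one (R := R) (A := A') hrk'
  have hxm : x ∈ OortTate.eigenAug R A p χ 1 := hx ▸ Submodule.mem_span_singleton_self x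
  have hxm' : x' ∈ OortTate.eigenAug R A' p χ 1 := hx' ▸ Submodule.mem_span_singleton_self x'
  let c : Rˣ := v⁻¹
  have hξ1 : ξ.ofConv x = 1 := hxξ
  have hξ1' : ξ'.ofConv x' = 1 := hxξ'
  let θ₀ : OortTate.eigenAug R A p χ 1 →ₗ[R] OortTate.eigenAug R A' p χ 1 :=
    LinearMap.toSpanSingleton R _ ((c : R) • ⟨x', hxm'⟩) ∘ₗ ξ.ofConv ∘ₗ (OortTate.eigenAug R A p χ 1).subtype
  let θ₁ : OortTate.eigenAug R A' p χ 1 →ₗ[R] OortTate.eigenAug R A p χ 1 :=
    LinearMap.toSpanSingleton R _ (((c⁻¹ : Rˣ) : R) • ⟨x, hxm⟩) ∘ₗ ξ'.ofConv ∘ₗ (OortTate.eigenAug R A' p χ 1).subtype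
  have hθ₀ : ∀ f : OortTate.eigenAug R A p χ 1, ∃ r : R, (f : A) = r • x ∧ (θ₀ f : A') = (r * c) • x' := by
    intro f
    obtain ⟨r, hr⟩ := Submodule.mem_span_singleton.1 (hx.ge f.2)
    refine ⟨r, hr.symm, ?_⟩
    change ((ξ.ofConv (f : A)) • (c : R) • (⟨x', hxm'⟩ : OortTate.eigenAug R A' p χ 1) : OortTate.eigenAug R A' p χ 1).1 = _
    rw [← hr, map_smul, hξ1, smul_eq_mul, mul_one, smul_smul]
    rfl
  have hθ₁ : ∀ f : OortTate.eigenAug R A' p χ 1, ∃ r : R, (f : A') = r • x' ∧ (θ₁ f : A) = (r * (c⁻¹ : Rˣ)) • x := by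
    intro f
    obtain ⟨r, hr⟩ := Submodule.mem_span_singleton.1 (hx'.ge f.2)
    refine ⟨r, hr.symm, ?_⟩
    change ((ξ'.ofConv (f : A')) • ((c⁻¹ : Rˣ) : R) • (⟨x, hxm⟩ : OortTate.eigenAug R A p χ 1) : OortTate.eigenAug R A p χ 1).1 = _
    rw [← hr, map_smul, hξ1', smul_eq_mul, mul_one, smul_smul]
    rfl
  let θ : OortTate.eigenAug R A p χ 1 ≃ₗ[R] OortTate.eigenAug R A' p χ 1 := LinearEquiv.ofLinearMap θ₀ θ₁
    (LinearMap.ext fun f => Subtype.ext (by
      obtain ⟨r, hr, hr'⟩ := hθ₁ f
      obtain ⟨s, hs, hs'⟩ := hθ₀ (θ₁ f)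
      have hsr : s = r * (c⁻¹ : Rˣ) := by
        have := congrArg ξ.ofConv (hs.symm.trans hr')
        rwa [map_smul, map_smul, hξ1, smul_eq_mul, mul_one, smul_eq_mul, mul_one] at this
      rw [LinearMap.comp_apply, LinearMap.id_apply, hs', hsr, hr, mul_assoc, Units.inv_mul, mul_one]))
    (LinearMap.ext fun f => Subtype.ext (by
      obtain ⟨r, hr, hr'⟩ := hθ₀ f
      obtain ⟨s, hs, hs'⟩ := hθ₁ (θ₀ f)
      have hsr : s = r * c := by
        have := congrArg ξ'.ofConv (hs.symm.trans hr')
        rwa [map_smul, map_smul, hξ1', smul_eq_mul, mul_one, smul_eq_mul, mul_one] at this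
      rw [LinearMap.comp_apply, LinearMap.id_apply, hs', hsr, hr, mul_assoc, Units.mul_inv, mul_one]))
  have hcα : (c : R) ^ p * α' = α * c := by
    rw [hαv, ← Units.val_pow_eq_pow_val, ← mul_assoc, ← Units.val_mul, mul_comm α]
    congr 2
    obtain ⟨s, rfl⟩ : ∃ s, p = s + 1 := ⟨p - 1, by have := (Fact.out : p.Prime).two_le; omega⟩
    simp only [c, Nat.add_sub_cancel, inv_pow, pow_succ]
    group
  have hcβ : (c : R) ^ p * β = β' * c := by
    rw [hβv, ← Units.val_pow_eq_pow_val, mul_comm (((v⁻¹ ^ (p - 1) : Rˣ) : R)) β, mul_assoc, ← Units.val_mul,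
      mul_comm _ β]
    congr 2
    obtain ⟨s, rfl⟩ : ∃ s, p = s + 1 := ⟨p - 1, by have := (Fact.out : p.Prime).two_le; omega⟩
    simp only [c, Nat.add_sub_cancel, pow_succ]
  refine Groth.Agent.OTLib.nonempty_bialgEquiv hu hχ hχp hrk hrk' θ (fun f g hfg => ?_)
    (fun φ φ' ψ ψ' hφ hψ hψ' => ?_)
  · choose r hr hr' using fun i => hθ₀ (f i)
    obtain ⟨s, hs, hs'⟩ := hθ₀ g
    have hsr : s = (∏ i, r i) * α := by
      have h := hs.symm.trans hfg
      simp only [hr, Finset.prod_smul, Finset.prod_const, Finset.card_univ, Fintype.card_fin, hα, smul_smul] at h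
      have := congrArg ξ.ofConv h
      rwa [map_smul, map_smul, hξ1, smul_eq_mul, mul_one, smul_eq_mul, mul_one] at this
    change (θ₀ g : A') = ∏ i, (θ₀ (f i) : A')
    simp only [hr', hs', hsr, Finset.prod_smul, Finset.prod_mul_distrib, Finset.prod_const, Finset.card_univ,
      Fintype.card_fin, hα', smul_smul]
    rw [mul_assoc, mul_assoc, hcα]
  · intro f
    obtain ⟨s, hs, hs'⟩ := hθ₀ f
    have hspan : ∀ i, ∃ r : R, (φ i : CartDual.D R A) = r • ξ := fun i =>
      (Submodule.mem_span_singleton.1 (hξ.ge (φ i).2)).imp fun _ h => h.symm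
    have hspan' : ∀ i, ∃ r : R, (φ' i : CartDual.D R A') = r • ξ' := fun i =>
      (Submodule.mem_span_singleton.1 (hξ'.ge (φ' i).2)).imp fun _ h => h.symm
    choose r hr using hspan
    choose r' hr' using hspan'
    have hrr : ∀ i, r i = r' i * c := fun i => by
      have h := hφ i ⟨x, hxm⟩
      obtain ⟨t, ht, ht'⟩ := hθ₀ ⟨x, hxm⟩
      have ht1 : t = 1 := by
        have h2 := congrArg ξ.ofConv ht
        rw [map_smul, smul_eq_mul] at h2
        change ξ.ofConv x = _ at h2
        rw [hξ1, mul_one] at h2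
        exact h2.symm
      change (φ i : CartDual.D R A).ofConv x = (φ' i : CartDual.D R A').ofConv (θ₀ ⟨x, hxm⟩ : A') at h
      rw [ht', ht1, one_mul, hr, hr', WithConv.ofConv_smul, WithConv.ofConv_smul, LinearMap.smul_apply,
        LinearMap.smul_apply, hξ1, map_smul, hξ1'] at h
      simpa [mul_comm] using h
    change (ψ : CartDual.D R A).ofConv (f : A) = (ψ' : CartDual.D R A').ofConv (θ₀ f : A')
    rw [hψ, hψ', hs', hs]
    simp only [hr, hr', Finset.prod_smul, Finset.prod_const, Finset.card_univ, Fintype.card_fin, hβ, hβ',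
      smul_smul, WithConv.ofConv_smul, LinearMap.smul_apply, map_smul, hξ1, hξ1', smul_eq_mul, mul_one, hrr,
      Finset.prod_mul_distrib]
    rw [mul_assoc (∏ i, r' i), hcβ]
    ring

end Groth.Agent.S18475
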