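import Groth.Statements.S18476
import Mathlib
-- import your own Groth.Agent.* helpers here

set_option autoImplicit false
universe u
open FmlGrp

namespace Groth.Agent.S18476
variable {O : Type u} [CommRing O] [IsLocalRing O]

open PowerSeries in
lemma subst_split (f c : PowerSeries O) (hf : PowerSeries.HasSubst f) :
    PowerSeries.subst f c = C (constantCoeff c)
      + f * PowerSeries.subst f (PowerSeries.mk fun n => PowerSeries.coeff (n + 1) c) := by
  conv_lhs => rw [eq_X_mul_shift_add_const c]
  rw [subst_add hf, subst_mul hf, subst_X hf, subst_C]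
  rw [add_comm]
  rfl

open PowerSeries in
lemma X_pow_dvd_subst_sub (f : PowerSeries O) (hf : constantCoeff f = 0) (c : PowerSeries O)
    (K : ℕ) :
    (X : PowerSeries O) ^ K ∣ PowerSeries.subst f c - ∑ k ∈ Finset.range K, C (coeff k c) * f ^ k := by
  induction K generalizing c with
  | zero => simp
  | succ K ih =>
    have hS : PowerSeries.HasSubst f := HasSubst.of_constantCoeff_zero' hf
    obtain ⟨e, he⟩ := ih (PowerSeries.mk fun n => PowerSeries.coeff (n + 1) c)
    obtain ⟨e₁, he₁⟩ := X_dvd_iff.mpr hf
    refine ⟨e₁ * e, ?_⟩
    rw [subst_split f c hS, Finset.sum_range_succ']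
    simp only [coeff_mk] at he
    have : ∑ k ∈ Finset.range K, C (coeff (k + 1) c) * f ^ (k + 1)
        = f * ∑ k ∈ Finset.range K, C (coeff (k + 1) c) * f ^ k := by
      rw [Finset.mul_sum]; refine Finset.sum_congr rfl fun k _ => by ring
    rw [this, pow_zero, mul_one, coeff_zero_eq_constantCoeff_apply]
    have h2 : PowerSeries.subst f (PowerSeries.mk fun n => PowerSeries.coeff (n + 1) c)
        = (∑ k ∈ Finset.range K, C (coeff (k + 1) c) * f ^ k) + X ^ K * e := by
      rw [← he]; ring
    rw [h2, he₁]; ring

open PowerSeries in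
lemma key_exists [IsAdicComplete (IsLocalRing.maximalIdeal O) O]
    (f : PowerSeries O) (hf : constantCoeff f = 0) (hg : f.map (IsLocalRing.residue O) ≠ 0) :
    ∃ (n : ℕ) (b : Fin n → PowerSeries O), ∀ g : PowerSeries O, ∃! c : Fin n → PowerSeries O,
      g = ∑ i, PowerSeries.subst f (c i) * b i := by
  classical
  set d := (f.map (IsLocalRing.residue O)).order.toNat with hd
  have hS : PowerSeries.HasSubst f := HasSubst.of_constantCoeff_zero' hf
  refine ⟨d, fun i => X ^ (i : ℕ), fun g => ?_⟩
  let T : PowerSeries O → PowerSeries O := fun h => h /ʷ f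
  have hdiv : ∀ h : PowerSeries O, h = f * T h + ∑ i : Fin d, C ((h %ʷ f).coeff i) * X ^ (i : ℕ) := by
    intro h
    have h1 : (h %ʷ f) = ∑ i : Fin d, Polynomial.C ((h %ʷ f).coeff i) * Polynomial.X ^ (i : ℕ) := by
      have hlt := degree_weierstrassMod_lt h f
      rw [← hd] at hlt
      rw [Fin.sum_univ_eq_sum_range
        (fun i => Polynomial.C ((h %ʷ f).coeff i) * Polynomial.X ^ i) d]
      by_cases hz : (h %ʷ f) = 0
      · rw [hz]; simp
      · exact Polynomial.as_sum_range_C_mul_X_pow' _ ((Polynomial.natDegree_lt_iff_degree_lt hz).mpr hlt)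
    have h2 := eq_mul_weierstrassDiv_add_weierstrassMod h hg
    conv_lhs => rw [h2, h1]
    congr 1
    rw [← Polynomial.coeToPowerSeries.ringHom_apply, map_sum]
    refine Finset.sum_congr rfl fun i _ => ?_
    simp
  have hex : ∀ K (h : PowerSeries O), f ^ K ∣ h -
      ∑ i : Fin d, (∑ k ∈ Finset.range K, C (((T^[k] h) %ʷ f).coeff i) * f ^ k) * X ^ (i : ℕ) := by
    intro K
    induction K with
    | zero => intro h; simp
    | succ K ih =>
      intro h
      obtain ⟨e, he⟩ := ih (T h)
      refine ⟨e, ?_⟩
      have : ∀ i : Fin d, ∑ k ∈ Finset.range (K + 1), C (((T^[k] h) %ʷ f).coeff i) * f ^ k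
          = C ((h %ʷ f).coeff i)
            + f * ∑ k ∈ Finset.range K, C (((T^[k] (T h)) %ʷ f).coeff i) * f ^ k := by
        intro i
        rw [Finset.sum_range_succ', add_comm, Finset.mul_sum]
        congr 1
        · simp
        · refine Finset.sum_congr rfl fun k _ => ?_
          rw [Function.iterate_succ_apply]; ring
      simp only [this, add_mul, Finset.sum_add_distrib, mul_assoc, ← Finset.mul_sum]
      conv_lhs => arg 1; rw [hdiv h]
      linear_combination f * he
  let c : Fin d → PowerSeries O := fun i => PowerSeries.mk fun k => ((T^[k] g) %ʷ f).coeff i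
  have hc : g = ∑ i, PowerSeries.subst f (c i) * X ^ (i : ℕ) := by
    rw [← sub_eq_zero]
    ext m
    have h1 : (X : PowerSeries O) ^ (m + 1) ∣ g - ∑ i, PowerSeries.subst f (c i) * X ^ (i : ℕ) := by
      have hA := (pow_dvd_pow_of_dvd (X_dvd_iff.mpr hf) (m + 1)).trans (hex (m + 1) g)
      have hB : (X : PowerSeries O) ^ (m + 1) ∣ ∑ i : Fin d, (PowerSeries.subst f (c i)
          - ∑ k ∈ Finset.range (m + 1), C (coeff k (c i)) * f ^ k) * X ^ (i : ℕ) :=
        Finset.dvd_sum fun i _ => dvd_mul_of_dvd_left (X_pow_dvd_subst_sub f hf (c i) (m + 1)) _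
      have := dvd_sub hA hB
      convert this using 1
      simp only [c, coeff_mk, sub_mul, Finset.sum_sub_distrib]
      ring
    rw [map_zero]
    exact X_pow_dvd_iff.mp h1 m (by omega)
  refine ⟨c, hc, fun c' hc' => ?_⟩
  have huniq : ∀ (k : ℕ) (e : Fin d → PowerSeries O),
      ∑ i, PowerSeries.subst f (e i) * X ^ (i : ℕ) = 0 → ∀ i, coeff k (e i) = 0 := by
    intro k
    induction k using Nat.strong_induction_on with
    | _ k ih =>
      intro e he
      set r : Polynomial O := ∑ i : Fin d, Polynomial.C (constantCoeff (e i)) * Polynomial.X ^ (i : ℕ)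
      set q : PowerSeries O := ∑ i : Fin d,
        PowerSeries.subst f (PowerSeries.mk fun n => coeff (n + 1) (e i)) * X ^ (i : ℕ)
      have hr : r.degree < d := Polynomial.degree_sum_fin_lt _
      have h0 : (0 : PowerSeries O) = f * q + (r : PowerSeries O) := by
        rw [← he, ← Polynomial.coeToPowerSeries.ringHom_apply, map_sum, Finset.mul_sum,
          ← Finset.sum_add_distrib]
        refine Finset.sum_congr rfl fun i _ => ?_
        rw [subst_split f (e i) hS]
        simp
        ring
      obtain ⟨hq, hr0⟩ := IsWeierstrassDivision.eq_zero hg (q := q) (r := r) ⟨hr, h0⟩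
      intro i
      rcases k with _ | k
      · have := congrArg (fun P : Polynomial O => P.coeff i) hr0
        simp only [r, Polynomial.finsetSum_coeff, Polynomial.coeff_C_mul_X_pow, Fin.val_inj,
          Finset.sum_ite_eq, Finset.mem_univ, if_true, Polynomial.coeff_zero] at this
        rw [coeff_zero_eq_constantCoeff_apply]
        exact this
      · have := ih k (Nat.lt_succ_self k) _ hq i
        simpa using this
  funext i
  rw [← sub_eq_zero]
  ext k
  rw [map_zero]
  refine huniq k (fun i => c' i - c i) ?_ i
  simp only [subst_sub hS, sub_mul, Finset.sum_sub_distrib]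
  rw [← hc, ← hc', sub_self]

open PowerSeries in
lemma key_not_finite (f : PowerSeries O) (hS : PowerSeries.HasSubst f)
    (h : f.map (IsLocalRing.residue O) = 0) {n : ℕ} (b : Fin n → PowerSeries O)
    (hb : ∀ g : PowerSeries O, ∃ c : Fin n → PowerSeries O,
      g = ∑ i, PowerSeries.subst f (c i) * b i) : False := by
  set k := IsLocalRing.ResidueField O
  have htop : (⊤ : Submodule k (PowerSeries k)) ≤
      Submodule.span k (Set.range fun i => (b i).map (IsLocalRing.residue O)) := by
    intro x _
    obtain ⟨g, rfl⟩ := PowerSeries.map_surjective (IsLocalRing.residue O)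
      Ideal.Quotient.mk_surjective x
    obtain ⟨c, hc⟩ := hb g
    rw [hc, map_sum]
    refine Submodule.sum_mem _ fun i _ => ?_
    have : PowerSeries.map (IsLocalRing.residue O) (PowerSeries.subst f (c i) * b i) =
        IsLocalRing.residue O (constantCoeff (c i)) • (b i).map (IsLocalRing.residue O) := by
      rw [subst_split f (c i) hS, map_mul, map_add, map_mul, h, zero_mul, add_zero, map_C,
        smul_eq_C_mul]
    rw [this]
    exact Submodule.smul_mem _ _ (Submodule.subset_span ⟨i, rfl⟩)
  have hfin : Module.Finite k (PowerSeries k) :=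
    ⟨by rw [← top_le_iff.mp htop]; exact Submodule.fg_span (Set.finite_range _)⟩
  have : Module.Finite k (Polynomial k) :=
    Module.Finite.of_injective (Polynomial.coeToPowerSeries.algHom k (R := k)).toLinearMap (by
      intro p q hpq
      simpa using hpq)
  exact Polynomial.not_finite this

end Groth.Agent.S18476

namespace Groth.Agent.S18476

/-- Let O be a complete discrete valuation ring whose maximal ideal m contains the prime number p, and
let F be a one-dimensional formal group law over O, with multiplication-by-p series f = [p]_F(X) = X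
+_F ⋯ +_F X ∈ O[[X]]. Then f has a coefficient outside m (f is not ≡ 0 mod m) if and only if F is
p-divisible in the sense that O[[X]] is free of finite rank over itself through the substitution
endomorphism X ↦ f: there are finitely many power series b_1, …, b_n such that every power series g
can be written uniquely as Σ_i c_i(f(X))·b_i. (The published statement asserts instead that F is
p-divisible iff F does not reduce to X + Y modulo m; that is false — over the p-adic integers the
law φ⁻¹(φ(X) + φ(Y)) with φ = X + X^{p+1} is not congruent to X + Y modulo p, yet its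
multiplication-by-p series φ⁻¹(pφ(X)) vanishes modulo p — and the printed proof establishes exactly
the criterion on f stated here.) The published setting is the valuation ring of a finite extension
of ℚ_p; the argument uses only that O is a complete discrete valuation ring with p in its maximal
ideal. -/
theorem result
    (O : Type u) [CommRing O] [IsDomain O] [IsDiscreteValuationRing O]
    [IsAdicComplete (IsLocalRing.maximalIdeal O) O]
    (p : ℕ) [Fact p.Prime] (hp : (p : O) ∈ IsLocalRing.maximalIdeal O)
    (F : FormalGroup O) :
    (∃ n : ℕ, PowerSeries.coeff n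
        ((p • (show F.Point Unit from ⟨PowerSeries.X, PowerSeries.HasSubst.X'⟩)).val) ∉
          IsLocalRing.maximalIdeal O) ↔
      ∃ (n : ℕ) (b : Fin n → PowerSeries O), ∀ g : PowerSeries O, ∃! c : Fin n → PowerSeries O,
        g = ∑ i, PowerSeries.subst
          ((p • (show F.Point Unit from ⟨PowerSeries.X, PowerSeries.HasSubst.X'⟩)).val) (c i) * b i := by
  generalize (p • (show F.Point Unit from ⟨PowerSeries.X, PowerSeries.HasSubst.X'⟩)) = P
  obtain ⟨f, hP⟩ := P
  change (∃ n : ℕ, PowerSeries.coeff n (f : PowerSeries O) ∉ _) ↔ _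
  have hf : PowerSeries.constantCoeff (f : PowerSeries O) = 0 :=
    (show IsNilpotent (PowerSeries.constantCoeff (f : PowerSeries O)) from hP).eq_zero
  constructor
  · rintro ⟨n, hn⟩
    refine key_exists f hf fun h => hn ?_
    rw [← IsLocalRing.residue_eq_zero_iff, ← PowerSeries.coeff_map, h, map_zero]
  · rintro ⟨n, b, hb⟩
    by_contra hne
    push Not at hne
    refine key_not_finite f hP ?_ b fun g => (hb g).exists
    ext m
    rw [PowerSeries.coeff_map, map_zero, IsLocalRing.residue_eq_zero_iff]
    exact hne m

end Groth.Agent.S18476
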