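import Groth.Statements.S18477
import Groth.Agent.OTLib.Pairing


set_option autoImplicit false
universe u
open scoped TensorProduct
open OortTate

namespace Groth.Agent.S18477

/-- Let p be a prime, R a commutative ring containing u with u(p − 1) = 1, and χ a homomorphism from the
units of ℤ/p to the units of R such that χ(m) − 1 is a unit for every m ≠ 1 (the situation of an
algebra over the subring Λ_p of the p-adic integers generated by the Teichmüller values and 1/(p(p −
1)), with χ the Teichmüller character, which is the published setting); assume moreover χ(m) ≡ m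
modulo pR for every m. Let A be a commutative and cocommutative Hopf algebra over R, finitely
generated and projective as an R-module of rank p at every prime (a group scheme G of order p), A^D
= Hom_R(A, R) its dual Hopf algebra (Cartier dual), δ ∈ A ⊗ A^D the canonical element — the one with
(id ⊗ ev_a)(δ) = a for every a ∈ A, corresponding to the identity of A — and ϕ the R-algebra map
from the group algebra of ℤ/p (the Hopf algebra R[T]/(T^p − 1) of μ_p, T group-like) to A ⊗ A^D with
ϕ(T) = δ; ϕ is the comorphism of the Cartier pairing G × G^D → μ_p. Let I_1(A) ⊆ A and I_1(A^D) ⊆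
A^D be the χ-eigenspaces of the augmentation ideals under the power maps [m], and y_1 = u Σ_m
χ(m)^{−1}(T^m − 1). Then ϕ(y_1) generates the image of I_1(A) ⊗ I_1(A^D) in A ⊗ A^D as an R-module,
and r·ϕ(y_1) = 0 only for r = 0 (so that image is free of rank one on ϕ(y_1)). The published
argument obtains commutativity and p-torsion of G over a locally Noetherian base; this row allows
any commutative ring R, over which both still hold. -/
theorem result
    (p : ℕ) [Fact p.Prime] (R : Type u) [CommRing R] (u : R) (hu : u * ((p - 1 : ℕ) : R) = 1)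
    (χ : (ZMod p)ˣ →* Rˣ) (hχ : ∀ m : (ZMod p)ˣ, m ≠ 1 → IsUnit ((χ m : R) - 1))
    (hχp : ∀ m : (ZMod p)ˣ, ((χ m : Rˣ) : R) - (((m : ZMod p).val : ℕ) : R) ∈ Ideal.span ({(p : R)} : Set R))
    (A : Type u) [CommRing A] [HopfAlgebra R A] [Coalgebra.IsCocomm R A] [Module.Finite R A]
    [Module.Projective R A] (hrk : ∀ q : PrimeSpectrum R, Module.rankAtStalk A q = p)
    (δ : A ⊗[R] CartDual.D R A)
    (hδ : ∀ a : A, TensorProduct.rid R A
      (LinearMap.lTensor A ((Module.Dual.eval R A a) ∘ₗ (CartDual.toDual R A).toLinearMap) δ) = a)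
    (ϕ : MonoidAlgebra R (Multiplicative (ZMod p)) →ₐ[R] A ⊗[R] CartDual.D R A)
    (hϕ : ϕ (OortTate.muT R p) = δ) :
    Submodule.span R {ϕ (OortTate.ygen R p u χ 1)} =
        LinearMap.range (TensorProduct.map (OortTate.eigenAug R A p χ 1).subtype
          (OortTate.eigenAug R (CartDual.D R A) p χ 1).subtype) ∧
      ∀ r : R, r • ϕ (OortTate.ygen R p u χ 1) = 0 → r = 0 := by
  classical
  have hid := Groth.Agent.OTLib.pow_prime_eq_one (R := R) (A := A) hrk
  have := Groth.Agent.OTLib.finite_eigenAug (χ := χ) hid hu 1
  have := Groth.Agent.OTLib.projective_eigenAug (χ := χ) hid hu 1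
  have hθδ : Groth.Agent.OTLib.theta δ = WithConv.toConv LinearMap.id := by
    refine WithConv.ext (LinearMap.ext fun a => ?_)
    change _ = a
    conv_rhs => rw [← hδ a]
    clear hδ hϕ
    induction δ using TensorProduct.induction_on with
    | zero => simp
    | add y y' hy hy' => simp only [map_add, WithConv.ofConv_add, LinearMap.add_apply, hy, hy']
    | tmul x φ => simp [Groth.Agent.OTLib.theta_tmul]
  have hθϕ : Groth.Agent.OTLib.theta.comp ϕ = Groth.Agent.OTLib.univHom hid :=
    Groth.Agent.OTLib.univHom_unique hid _ (by rw [AlgHom.comp_apply, hϕ, hθδ])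
  have hy : Groth.Agent.OTLib.theta (ϕ (OortTate.ygen R p u χ 1)) = Groth.Agent.OTLib.proje u χ 1 hid := by
    rw [← AlgHom.comp_apply, hθϕ]
    exact Groth.Agent.OTLib.univHom_ygen hid 1
  refine ⟨le_antisymm ?_ ?_, fun r hr => ?_⟩
  · rw [Submodule.span_le, Set.singleton_subset_iff]
    obtain ⟨n, a, φ, hframe⟩ := Groth.Agent.OTLib.exists_dualFrame R (OortTate.eigenAug R A p χ 1)
    refine ⟨∑ i, a i ⊗ₜ ⟨Groth.Agent.OTLib.extendDual u χ 1 hid (φ i),
      Groth.Agent.OTLib.extendDual_mem hid 1 (φ i)⟩, ?_⟩
    refine Groth.Agent.OTLib.theta_injective (WithConv.ext (LinearMap.ext fun c => ?_))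
    rw [hy, Groth.Agent.OTLib.proje_apply]
    conv_rhs => rw [← hframe (Groth.Agent.OTLib.pr u χ 1 hid c)]
    simp only [map_sum, TensorProduct.map_tmul, WithConv.ofConv_sum, LinearMap.sum_apply,
      Submodule.subtype_apply, Groth.Agent.OTLib.theta_tmul, AddSubmonoidClass.coe_finsetSum, Submodule.coe_smul]
    rfl
  · rintro _ ⟨z, rfl⟩
    induction z using TensorProduct.induction_on with
    | zero => simp
    | add y y' h h' => rw [map_add]; exact Submodule.add_mem _ h h'
    | tmul x φ =>
      refine Submodule.mem_span_singleton.2 ⟨(φ : CartDual.D R A) (x : A),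
        Groth.Agent.OTLib.theta_injective ?_⟩
      rw [map_smul, hy, TensorProduct.map_tmul, Submodule.subtype_apply, Submodule.subtype_apply,
        Groth.Agent.OTLib.theta_tmul_eigen hid hu hχ hχp hrk x φ]
  · refine Groth.Agent.OTLib.eq_zero_of_smul_eq_zero (Groth.Agent.OTLib.rankAtStalk_eigenAug hu hχ hχp hrk 1)
      fun f => Subtype.ext ?_
    have h := congrArg (fun z => (Groth.Agent.OTLib.theta z).ofConv (f : A)) hr
    simp only [map_smul, hy, map_zero, WithConv.ofConv_smul, WithConv.ofConv_zero, LinearMap.smul_apply,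
      LinearMap.zero_apply, Groth.Agent.OTLib.proje_apply, Groth.Agent.OTLib.pr_of_mem hid hu f.2] at h
    exact h

end Groth.Agent.S18477
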