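import Groth.Statements.S18479
import Mathlib
-- import your own Groth.Agent.* helpers here

set_option autoImplicit false
universe u v
open scoped TensorProduct
open OortTate

namespace Groth.Agent.S18479

/-- Let R be a commutative ring and A a commutative Hopf algebra over R whose augmentation ideal ker ε
is a free R-module of rank one with generator x (this is the situation of a group scheme of order 2
over a local ring: A free of rank 2, so ker ε is free of rank 1). Then there are a, b ∈ R with x² =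
a·x, Δ(x) = x ⊗ 1 + 1 ⊗ x + b·(x ⊗ x), and ab = −2; thus A is the Hopf algebra R[T]/(T² − aT) with
comultiplication T ↦ T ⊗ 1 + 1 ⊗ T + b T ⊗ T. (The copy works over a Noetherian local ring to get
freeness; the computation uses only that ker ε is free on x.) -/
theorem result
    (R : Type u) [CommRing R] (A : Type v) [CommRing A] [HopfAlgebra R A]
    (x : A) (hx : Bialgebra.counitAlgHom R A x = 0)
    (hgen : ∀ f : A, Bialgebra.counitAlgHom R A f = 0 → ∃ r : R, f = r • x)
    (hfree : ∀ r : R, r • x = 0 → r = 0) :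
    ∃ a b : R, x * x = a • x ∧
      Bialgebra.comulAlgHom R A x = x ⊗ₜ[R] 1 + 1 ⊗ₜ[R] x + b • (x ⊗ₜ[R] x) ∧ a * b = -2 := by
  classical
  let ε := Bialgebra.counitAlgHom R A
  have hdec : ∀ f : A, ∃ r : R, f = ε f • (1 : A) + r • x := fun f => by
    obtain ⟨r, hr⟩ := hgen (f - ε f • (1 : A)) (by simp [ε, map_sub, map_smul])
    exact ⟨r, by rw [← hr]; abel⟩
  choose π hπ using hdec
  have huniq : ∀ (f : A) (r c : R), f = c • (1 : A) + r • x → π f = r := fun f r c h => by
    have hεf : ε f = c := by rw [h]; simp [ε, map_add, map_smul, hx]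
    have h2 : (π f - r) • x = 0 := by
      have := (hπ f).symm.trans h
      rw [hεf, add_right_inj] at this
      rw [sub_smul, this, sub_self]
    exact sub_eq_zero.1 (hfree _ h2)
  let P : A →ₗ[R] R :=
    { toFun := π
      map_add' := fun f g => huniq _ _ (ε f + ε g) (by
        conv_lhs => rw [hπ f, hπ g]
        simp only [add_smul]; abel)
      map_smul' := fun c f => huniq _ _ (c * ε f) (by
        conv_lhs => rw [hπ f]
        simp only [smul_add, smul_smul, smul_eq_mul, RingHom.id_apply]) }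
  have hP1 : P 1 = 0 := huniq _ _ 1 (by simp)
  have hPx : P x = 1 := huniq _ _ 0 (by simp)
  let Φ : A ⊗[R] A →ₗ[R] R := (TensorProduct.lid R R).toLinearMap ∘ₗ TensorProduct.map P P
  obtain ⟨a, ha⟩ := hgen (x * x) (by rw [map_mul, hx, mul_zero])
  have hspan : ∀ t : A ⊗[R] A, ∃ c₀ c₁ c₂ c₃ : R, t = c₀ • ((1:A) ⊗ₜ[R] (1:A)) + c₁ • (x ⊗ₜ[R] 1) + c₂ • ((1:A) ⊗ₜ[R] x) + c₃ • (x ⊗ₜ[R] x) := by
    intro t
    induction t using TensorProduct.induction_on with
    | zero => exact ⟨0, 0, 0, 0, by simp⟩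
    | tmul f g =>
      refine ⟨ε f * ε g, π f * ε g, ε f * π g, π f * π g, ?_⟩
      conv_lhs => rw [hπ f, hπ g]
      simp only [TensorProduct.add_tmul, TensorProduct.tmul_add, TensorProduct.smul_tmul', TensorProduct.tmul_smul, smul_smul, smul_add]
      rw [mul_comm (ε f) (ε g), mul_comm (π f) (ε g), mul_comm (ε f) (π g), mul_comm (π f) (π g)]
      abel
    | add s t hs ht =>
      obtain ⟨a0, a1, a2, a3, rfl⟩ := hs
      obtain ⟨b0, b1, b2, b3, rfl⟩ := ht
      exact ⟨a0 + b0, a1 + b1, a2 + b2, a3 + b3, by simp only [add_smul]; abel⟩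
  obtain ⟨c₀, c₁, c₂, b, hΔ⟩ := hspan (Bialgebra.comulAlgHom R A x)
  have hεx : (Coalgebra.counit : A →ₗ[R] R) x = 0 := hx
  have hε1 : (Coalgebra.counit : A →ₗ[R] R) 1 = 1 := Bialgebra.counit_one
  have hΔ' : (Coalgebra.comul : A →ₗ[R] A ⊗[R] A) x = c₀ • ((1:A) ⊗ₜ[R] (1:A)) + c₁ • (x ⊗ₜ[R] 1) + c₂ • ((1:A) ⊗ₜ[R] x) + b • (x ⊗ₜ[R] x) := hΔ
  have hr := congrArg (TensorProduct.lid R A) (Coalgebra.rTensor_counit_comul (R := R) x)
  have hl := congrArg (TensorProduct.rid R A) (Coalgebra.lTensor_counit_comul (R := R) x)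
  simp only [hΔ', map_add, map_smul, LinearMap.rTensor_tmul, LinearMap.lTensor_tmul, hε1, hεx, TensorProduct.lid_tmul, TensorProduct.rid_tmul, one_smul, zero_smul, smul_zero, add_zero] at hr hl
  have hc2 : c₂ = 1 := by have := congrArg P hr; simpa [hP1, hPx] using this
  have hc1 : c₁ = 1 := by have := congrArg P hl; simpa [hP1, hPx] using this
  have hc0 : c₀ = 0 := by have := congrArg ε hr; simpa [ε, hεx, hε1] using this
  rw [hc0, hc1, hc2, zero_smul, zero_add, one_smul, one_smul] at hΔ hΔ'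
  have hsq := congrArg (Bialgebra.comulAlgHom R A) ha
  rw [map_mul, map_smul, hΔ] at hsq
  simp only [mul_add, add_mul, smul_mul_assoc, mul_smul_comm, Algebra.TensorProduct.tmul_mul_tmul, one_mul, mul_one, ha] at hsq
  have hquad := congrArg Φ hsq
  simp only [Φ, map_add, map_smul, LinearMap.comp_apply, LinearEquiv.coe_coe, TensorProduct.map_tmul, TensorProduct.lid_tmul, hP1, hPx, smul_eq_mul, mul_one, mul_zero, zero_mul, add_zero, zero_add] at hquad
  obtain ⟨s, hs⟩ := hgen (HopfAlgebra.antipode R x) (show (Coalgebra.counit : A →ₗ[R] R) _ = 0 by rw [HopfAlgebra.counit_antipode, hεx])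
  have hanti := HopfAlgebra.mul_antipode_rTensor_comul_apply (R := R) x
  simp only [hΔ', map_add, map_smul, LinearMap.rTensor_tmul, LinearMap.mul'_apply, hs, HopfAlgebra.antipode_one, mul_one, one_mul, smul_mul_assoc, ha, hεx, map_zero] at hanti
  have hlin := congrArg P hanti
  simp only [map_add, map_smul, hPx, smul_eq_mul, mul_one, map_zero] at hlin
  refine ⟨a, b, ha, hΔ, ?_⟩
  linear_combination (-s) * hquad + (a * b + 2) * hlin

end Groth.Agent.S18479
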