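import Groth.Statements.S18480
import Mathlib.RingTheory.HopfAlgebra.Basic
import Mathlib.RingTheory.Bialgebra.Equiv
import Mathlib.Tactic.LinearCombination
import Mathlib.Tactic.Module


set_option autoImplicit false
universe u v
open scoped TensorProduct
open OortTate

namespace Groth.Agent.S18480


section Aux

variable {R : Type*} [CommRing R] {A : Type*} [CommRing A] [HopfAlgebra R A]

theorem exists_coord (x : A) (hx : Bialgebra.counitAlgHom R A x = 0)
    (hgen : ∀ f : A, Bialgebra.counitAlgHom R A f = 0 → ∃ r : R, f = r • x)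
    (hfree : ∀ r : R, r • x = 0 → r = 0) :
    ∃ π : A →ₗ[R] R, π 1 = 0 ∧ π x = 1 ∧ ∀ f, f = Bialgebra.counitAlgHom R A f • (1 : A) + π f • x := by
  have h : ∀ f : A, ∃ r : R, f - Bialgebra.counitAlgHom R A f • (1 : A) = r • x := fun f => hgen _ (by simp)
  choose π hπ using h
  have huniq : ∀ f r, f - Bialgebra.counitAlgHom R A f • (1 : A) = r • x → π f = r := fun f r hr =>
    sub_eq_zero.1 (hfree _ (by rw [sub_smul, ← hπ, hr, sub_self]))
  let π' : A →ₗ[R] R :=
    { toFun := π
      map_add' := fun f g => huniq _ _ (by rw [map_add, add_smul, add_smul, ← hπ, ← hπ]; abel)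
      map_smul' := fun r f => huniq _ _ (by
        rw [RingHom.id_apply, smul_eq_mul, mul_smul, ← hπ, map_smul, smul_sub, smul_eq_mul, mul_smul]) }
  refine ⟨π', huniq _ 0 (by simp), huniq _ 1 (by rw [hx, zero_smul, sub_zero, one_smul]),
    fun f => ?_⟩
  change f = _ + π f • x
  rw [← hπ, add_sub_cancel]

end Aux



/-- Let R be a commutative ring and let A and A' be commutative Hopf algebras over R whose augmentation
ideals are free of rank one with generators x and x', with constants a, b and a', b' ∈ R such that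
x² = a x, Δ(x) = x ⊗ 1 + 1 ⊗ x + b x ⊗ x and x'² = a' x', Δ(x') = x' ⊗ 1 + 1 ⊗ x' + b' x' ⊗ x' (the
group schemes of order two G_{a,b} and G_{a',b'}). Then A and A' are isomorphic as bialgebras over R
(G_{a,b} ≅ G_{a',b'} as group schemes) if and only if there is a unit s of R with a = a'·s and b' =
b·s. -/
theorem result
    (R : Type u) [CommRing R] (A : Type v) [CommRing A] [HopfAlgebra R A]
    (x : A) (hx : Bialgebra.counitAlgHom R A x = 0)
    (hgen : ∀ f : A, Bialgebra.counitAlgHom R A f = 0 → ∃ r : R, f = r • x)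
    (hfree : ∀ r : R, r • x = 0 → r = 0)
    (a b : R) (hxa : x * x = a • x)
    (hxb : Bialgebra.comulAlgHom R A x = x ⊗ₜ[R] 1 + 1 ⊗ₜ[R] x + b • (x ⊗ₜ[R] x))
    (A' : Type v) [CommRing A'] [HopfAlgebra R A']
    (x' : A') (hx' : Bialgebra.counitAlgHom R A' x' = 0)
    (hgen' : ∀ f : A', Bialgebra.counitAlgHom R A' f = 0 → ∃ r : R, f = r • x')
    (hfree' : ∀ r : R, r • x' = 0 → r = 0)
    (a' b' : R) (hxa' : x' * x' = a' • x')
    (hxb' : Bialgebra.comulAlgHom R A' x' = x' ⊗ₜ[R] 1 + 1 ⊗ₜ[R] x' + b' • (x' ⊗ₜ[R] x')) :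
    Nonempty (A ≃ₐc[R] A') ↔ ∃ s : Rˣ, a = a' * (s : R) ∧ b' = b * (s : R) := by
  obtain ⟨π, hπ1, hπx, hπ⟩ := exists_coord x hx hgen hfree
  obtain ⟨π', hπ1', hπx', hπ'⟩ := exists_coord x' hx' hgen' hfree'
  constructor
  · rintro ⟨e⟩
    have hε : ∀ f, Bialgebra.counitAlgHom R A' (e f) = Bialgebra.counitAlgHom R A f := fun f => by
      simp
    obtain ⟨s, hs⟩ := hgen' (e x) (by rw [hε, hx])
    obtain ⟨t, ht⟩ := hgen (e.symm x') (by
      rw [← hε, BialgEquiv.apply_symm_apply, hx'])
    have hst : s * t = 1 := by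
      have h := congrArg (fun z => π' (e z)) ht
      simp only [BialgEquiv.apply_symm_apply, map_smul, hs, hπx', smul_eq_mul, mul_one] at h
      rw [h, mul_comm]
    refine ⟨⟨s, t, hst, by rw [mul_comm, hst]⟩, ?_, ?_⟩
    · have h := congrArg e hxa
      rw [map_mul, map_smul, hs, smul_mul_smul_comm, hxa', smul_smul, smul_smul] at h
      have h2 := congrArg π' h
      simp only [map_smul, hπx', smul_eq_mul, mul_one] at h2
      linear_combination (-t) * h2 + (a' * s - a) * hst
    · have h0 : TensorProduct.map (e : A →ₗ[R] A') (e : A →ₗ[R] A') (Coalgebra.comul (R := R) x) = Coalgebra.comul (R := R) (e x) :=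
        CoalgHomClass.map_comp_comul_apply e x
      rw [show Coalgebra.comul (R := R) x = _ from hxb, hs, map_smul,
        show Coalgebra.comul (R := R) x' = _ from hxb'] at h0
      have h2 := congrArg ((TensorProduct.lid R R).toLinearMap ∘ₗ TensorProduct.map π' π') h0
      simp only [map_add, map_smul, TensorProduct.map_tmul, LinearMap.comp_apply,
        hπ1', hπx', LinearEquiv.coe_coe, TensorProduct.lid_tmul, smul_eq_mul, mul_zero,
        add_zero, zero_add, mul_one] at h2
      change π' (e x) * π' (e 1) + π' (e 1) * π' (e x) + b * (π' (e x) * π' (e x)) = s * b' at h2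
      rw [hs, map_one, hπ1', map_smul, hπx', smul_eq_mul] at h2
      linear_combination (-t) * h2 + (b * s - b') * hst
  · rintro ⟨s, ha, hb⟩
    let L : A →ₗ[R] A' := LinearMap.toSpanSingleton R A' 1 ∘ₗ (Bialgebra.counitAlgHom R A).toLinearMap +
      LinearMap.toSpanSingleton R A' ((s : R) • x') ∘ₗ π
    let L' : A' →ₗ[R] A := LinearMap.toSpanSingleton R A 1 ∘ₗ (Bialgebra.counitAlgHom R A').toLinearMap +
      LinearMap.toSpanSingleton R A (((s⁻¹ : Rˣ) : R) • x) ∘ₗ π'
    have hL1 : L 1 = 1 := by simp [L, hπ1]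
    have hLx : L x = (s : R) • x' := by
      change Bialgebra.counitAlgHom R A x • (1 : A') + π x • ((s : R) • x') = _
      rw [hx, hπx, zero_smul, one_smul, zero_add]
    have hL1' : L' 1 = 1 := by simp [L', hπ1']
    have hLx' : L' x' = ((s⁻¹ : Rˣ) : R) • x := by
      change Bialgebra.counitAlgHom R A' x' • (1 : A) + π' x' • (((s⁻¹ : Rˣ) : R) • x) = _
      rw [hx', hπx', zero_smul, one_smul, zero_add]
    have hmul : ∀ f g, L (f * g) = L f * L g := fun f g => by
      rw [hπ f, hπ g]
      simp only [map_add, map_smul, add_mul, mul_add, smul_mul_assoc, mul_smul_comm, one_mul, mul_one, hL1, hLx,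
        hxa, hxa', smul_smul, ha]
      module
    let φ : A →ₐ[R] A' := AlgHom.ofLinearMap L hL1 hmul
    have h1 : ∀ f, L' (L f) = f := fun f => by
      conv_lhs => rw [hπ f]
      simp only [map_add, map_smul, hL1, hL1', hLx, hLx', smul_smul]
      conv_rhs => rw [hπ f]
      simp [mul_assoc]
    have h2 : ∀ f, L (L' f) = f := fun f => by
      conv_lhs => rw [hπ' f]
      simp only [map_add, map_smul, hL1, hL1', hLx, hLx', smul_smul]
      conv_rhs => rw [hπ' f]
      simp [mul_assoc]
    let e : A ≃ₐ[R] A' := AlgEquiv.ofBijective φ (Function.bijective_iff_has_inverse.2 ⟨L', h1, h2⟩)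
    refine ⟨BialgEquiv.ofAlgEquiv e (AlgHom.ext fun f => ?_) (AlgHom.ext fun f => ?_)⟩
    · change Bialgebra.counitAlgHom R A' (L f) = Bialgebra.counitAlgHom R A f
      conv_lhs => rw [hπ f]
      rw [map_add, map_smul, map_smul, hL1, hLx, map_add, map_smul, map_smul, map_smul, hx', map_one]
      simp
    · change Algebra.TensorProduct.map φ φ (Bialgebra.comulAlgHom R A f) = Bialgebra.comulAlgHom R A' (L f)
      rw [hπ f]
      simp only [map_add, map_smul, hxb, hxb', hL1, hLx, map_one, Algebra.TensorProduct.map_tmul]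
      have hφ1 : φ 1 = 1 := map_one φ
      have hφx : φ x = (s : R) • x' := hLx
      rw [hφx, hb]
      simp only [← TensorProduct.smul_tmul', TensorProduct.tmul_smul, smul_add, smul_smul]
      module

end Groth.Agent.S18480
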