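import Groth.Statements.S18484
import Mathlib

set_option autoImplicit false
universe u
open CategoryTheory CategoryTheory.Limits AlgebraicGeometry MonObj
open Neron

namespace Groth.Agent.S18484

/-- Let R be a Dedekind domain with fraction field K, X a Spec R-scheme which is a Néron model of its
generic fibre X_K, and i : G → X a closed immersion with G smooth over Spec R. Then G is a Néron
model of its generic fibre G_K: smooth, separated, of finite type, and for every smooth Spec
R-scheme Y restriction to generic fibres is a bijection from R-morphisms Y → G onto K-morphisms Y_K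
→ G_K. (The source states this for a closed subgroup scheme of a Néron model; the group laws play no
part and are not assumed. The converse direction of the source, that a Néron model is a closed
subgroup of a Néron model, is immediate and not stated.) -/
theorem result (R : Type u) [CommRing R] [IsDedekindDomain R]
    (X G : Over (Spec (CommRingCat.of R))) (hX : Neron.IsNeronModelOf R X ((Neron.genericFibre R).obj X) (Iso.refl _))
    (i : G ⟶ X) [IsClosedImmersion i.left] [Smooth G.hom] :
    Neron.IsNeronModelOf R G ((Neron.genericFibre R).obj G) (Iso.refl _) := by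
  obtain ⟨hsm, hsep, hlft, hqc, huniv⟩ := hX
  haveI : IsSeparated G.hom := by rw [← Over.w i]; infer_instance
  haveI : QuasiCompact G.hom := by rw [← Over.w i]; infer_instance
  refine ⟨inferInstance, inferInstance, inferInstance, inferInstance, fun Y hY => ⟨?_, ?_⟩⟩
  · intro g₁ g₂ h
    simp only [Iso.refl_hom, Category.comp_id] at h
    have h' : g₁ ≫ i = g₂ ≫ i := (huniv Y hY).1 (by
      simp only [Iso.refl_hom, Category.comp_id, Functor.map_comp, h])
    ext : 1
    exact (cancel_mono i.left).1 (congrArg CommaMorphism.left h')
  · intro h
    obtain ⟨g, hg⟩ := (huniv Y hY).2 (h ≫ (Neron.genericFibre R).map i)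
    simp only [Iso.refl_hom, Category.comp_id] at hg
    have hw : ((Neron.genericFibre R).map g).left ≫ pullback.fst X.hom (Neron.genPt R) =
        pullback.fst Y.hom (Neron.genPt R) ≫ g.left := pullback.lift_fst _ _ _
    have hwi : ((Neron.genericFibre R).map i).left ≫ pullback.fst X.hom (Neron.genPt R) =
        pullback.fst G.hom (Neron.genPt R) ≫ i.left := pullback.lift_fst _ _ _
    haveI : IsDominant (Neron.genPt R) := ⟨by
      show DenseRange (PrimeSpectrum.comap (algebraMap R (FractionRing R)))
      rw [PrimeSpectrum.denseRange_comap_iff_ker_le_nilRadical, (RingHom.injective_iff_ker_eq_bot _).1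
        (IsFractionRing.injective R (FractionRing R))]
      exact bot_le⟩
    haveI : IsSchemeTheoreticallyDominant (Neron.genPt R) := .of_isDominant _
    haveI : Flat Y.hom := inferInstance
    let z := pullback.snd i.left g.left
    let φ : pullback Y.hom (Neron.genPt R) ⟶ pullback i.left g.left :=
      pullback.lift (h.left ≫ pullback.fst G.hom (Neron.genPt R)) (pullback.fst Y.hom (Neron.genPt R)) (by
        rw [Category.assoc, ← hwi, ← hw, hg, Over.comp_left, Category.assoc])
    have hker : z.ker ≤ Scheme.Hom.ker (𝟙 Y.left) := by
      have h1 := φ.le_ker_comp z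
      rw [pullback.lift_snd, Scheme.Hom.ker_eq_bot (pullback.fst Y.hom (Neron.genPt R))] at h1
      rw [Scheme.Hom.ker_eq_bot_of_isIso (𝟙 Y.left)]
      exact h1
    have hs := IsClosedImmersion.lift_fac z (𝟙 Y.left) hker
    set s := IsClosedImmersion.lift z (𝟙 Y.left) hker
    have hfac : (s ≫ pullback.fst i.left g.left) ≫ i.left = g.left := by
      rw [Category.assoc, pullback.condition, ← Category.assoc, hs, Category.id_comp]
    refine ⟨Over.homMk (s ≫ pullback.fst i.left g.left) (by
      rw [← Over.w i, ← Category.assoc, hfac, Over.w g]), ?_⟩
    simp only [Iso.refl_hom, Category.comp_id]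
    set g' : Y ⟶ G := Over.homMk (s ≫ pullback.fst i.left g.left) _
    have hgi : g' ≫ i = g := by ext : 1; exact hfac
    have h2 : (Neron.genericFibre R).map g' ≫ (Neron.genericFibre R).map i = h ≫ (Neron.genericFibre R).map i := by
      rw [← Functor.map_comp, hgi, hg]
    have hmono : Mono ((Neron.genericFibre R).map i) :=
      haveI : Mono i := Over.mono_of_mono_left i
      inferInstance
    exact (cancel_mono _).1 h2

end Groth.Agent.S18484
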