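import Mathlib
import Groth.Statements.S18490
-- import your own Groth.Agent.* helpers here

set_option autoImplicit false
universe u
open CategoryTheory CategoryTheory.Limits AlgebraicGeometry
open FlatMor

namespace Groth.Agent.S18490

theorem flat_retract {R A B : CommRingCat.{u}} (a : R ⟶ A) (b : A ⟶ B) {A' : CommRingCat.{u}} (c : B ⟶ A')
    (hiso : IsIso (b ≫ c)) (h : (a ≫ b).hom.Flat) : a.hom.Flat := by
  algebraize [a.hom, (a ≫ b).hom]
  let i : A →ₗ[R] B :=
    { toFun := b.hom
      map_add' := b.hom.map_add
      map_smul' := fun r x => by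
        change b.hom (a.hom r * x) = (a ≫ b).hom r * b.hom x
        rw [map_mul]; rfl }
  let r : B →ₗ[R] A :=
    { toFun := fun y => (inv (b ≫ c)).hom (c.hom y)
      map_add' := by simp
      map_smul' := fun s y => by
        change (inv (b ≫ c)).hom (c.hom ((a ≫ b).hom s * y)) = a.hom s * (inv (b ≫ c)).hom (c.hom y)
        rw [map_mul, map_mul]
        congr 1
        exact RingHom.congr_fun (congrArg CommRingCat.Hom.hom (IsIso.hom_inv_id (b ≫ c))) (a.hom s) }
  exact Module.Flat.of_retract i r (LinearMap.ext fun x =>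
    RingHom.congr_fun (congrArg CommRingCat.Hom.hom (IsIso.hom_inv_id (b ≫ c))) x)

/-- Let f : X → S and g : Y → S be morphisms of schemes and suppose that g has a section y : S → Y. If
the structure morphism X ×_S Y → S (first projection followed by f) is quasi-compact, then so is f;
likewise for locally of finite type, for separated, and for flat. (Finite type, also listed in the
source, is the conjunction of the first two.) -/
theorem result {X Y S : Scheme.{u}} (f : X ⟶ S) (g : Y ⟶ S)
    (y : S ⟶ Y) (hy : y ≫ g = 𝟙 S) :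
    (QuasiCompact (pullback.fst f g ≫ f) → QuasiCompact f) ∧
    (LocallyOfFiniteType (pullback.fst f g ≫ f) → LocallyOfFiniteType f) ∧
    (IsSeparated (pullback.fst f g ≫ f) → IsSeparated f) ∧
    (Flat (pullback.fst f g ≫ f) → Flat f) := by
  let σ : X ⟶ pullback f g := pullback.lift (𝟙 X) (f ≫ y) (by rw [Category.id_comp, Category.assoc, hy, Category.comp_id])
  have hσ : σ ≫ pullback.fst f g = 𝟙 X := pullback.lift_fst _ _ _
  have hf : f = σ ≫ (pullback.fst f g ≫ f) := by rw [← Category.assoc, hσ, Category.id_comp]
  have hσp : ∀ x, pullback.fst f g (σ x) = x := fun x => by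
    rw [← Scheme.Hom.comp_apply, hσ]; rfl
  refine ⟨fun h => ?_, fun h => ?_, fun h => ?_, fun h => ?_⟩
  · refine ⟨fun U hU hc => ?_⟩
    have h1 := (h.isCompact_preimage U hU hc).image (pullback.fst f g).continuous
    convert h1 using 1
    ext x
    constructor
    · intro hx
      exact ⟨σ x, by simpa [Scheme.Hom.comp_apply, hσp] using hx, hσp x⟩
    · rintro ⟨z, hz, rfl⟩
      simpa [Scheme.Hom.comp_apply] using hz
  · haveI : LocallyOfFiniteType (σ ≫ pullback.fst f g) := by rw [hσ]; infer_instance
    haveI : IsImmersion (σ ≫ pullback.fst f g) := by rw [hσ]; infer_instance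
    haveI : IsImmersion σ := IsImmersion.of_comp σ (pullback.fst f g)
    rw [hf]; infer_instance
  · haveI : Mono σ := by
      have : Mono (σ ≫ pullback.fst f g) := by rw [hσ]; infer_instance
      exact mono_of_mono σ (pullback.fst f g)
    haveI : IsSeparated σ := inferInstance
    rw [hf]; infer_instance
  · rw [Flat.iff_flat_stalkMap]
    intro x'
    obtain ⟨x, rfl⟩ : ∃ x, x' = pullback.fst f g (σ x) := ⟨x', (hσp x').symm⟩
    set p := pullback.fst f g
    have hiso : IsIso (p.stalkMap (σ x) ≫ σ.stalkMap x) := by
      rw [← Scheme.Hom.stalkMap_comp]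
      haveI : IsOpenImmersion (σ ≫ p) := by rw [hσ]; infer_instance
      exact inferInstanceAs (IsIso ((σ ≫ p).stalkMap x))
    have hfl : ((p ≫ f).stalkMap (σ x)).hom.Flat := (Flat.iff_flat_stalkMap _).1 h (σ x)
    rw [Scheme.Hom.stalkMap_comp] at hfl
    exact Groth.Agent.S18490.flat_retract _ _ _ hiso hfl

end Groth.Agent.S18490
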