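import Groth.Statements.S18538
import Mathlib.RingTheory.TensorProduct.IncludeLeftSubRight
-- import your own Groth.Agent.* helpers here

set_option autoImplicit false
universe u
open EtAlg

namespace Groth.Agent.S18538

/-- Let A ⊆ B be an injective finite extension of integrally closed domains, with fraction fields K ⊆ L
and L separable over K. Then A → B → B ⊗_A B is exact, the second map being b ↦ b ⊗ 1 - 1 ⊗ b: every
element of B whose two images in B ⊗_A B agree comes from A. -/
theorem result
    (A B K L : Type u) [CommRing A] [CommRing B] [IsDomain A] [IsDomain B]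
    [IsIntegrallyClosed A] [IsIntegrallyClosed B] [Algebra A B] [FaithfulSMul A B] [Module.Finite A B]
    [Field K] [Field L] [Algebra A K] [IsFractionRing A K] [Algebra B L] [IsFractionRing B L]
    [Algebra K L] [Algebra A L] [IsScalarTower A K L] [IsScalarTower A B L]
    [Algebra.IsSeparable K L] :
    Algebra.IsEffective A B := by
    intro s
    refine ⟨fun hs => ?_, Algebra.TensorProduct.includeLeftSubRight_zero_of_mem_range⟩
    let jB : B →ₐ[A] L := IsScalarTower.toAlgHom A B L
    let φ : TensorProduct A B B →ₐ[A] TensorProduct K L L :=
      Algebra.TensorProduct.lift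
        (((Algebra.TensorProduct.includeLeft : L →ₐ[K] TensorProduct K L L).restrictScalars A).comp jB)
        (((Algebra.TensorProduct.includeRight : L →ₐ[K] TensorProduct K L L).restrictScalars A).comp jB)
        (fun _ _ => Commute.all _ _)
    have hs' : Algebra.TensorProduct.includeLeftSubRight K L (jB s) = 0 := by
      have := congrArg φ hs
      simpa [φ] using this
    obtain ⟨x, hx⟩ := ((Algebra.IsEffective.of_faithfullyFlat K L) (jB s)).mp hs'
    have hint : IsIntegral A x := by
      refine (isIntegral_algHom_iff (IsScalarTower.toAlgHom A K L) (algebraMap K L).injective).mp ?_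
      exact hx ▸ (Algebra.IsIntegral.isIntegral (R := A) s).map jB
    obtain ⟨a, ha⟩ := IsIntegrallyClosed.isIntegral_iff.mp hint
    refine ⟨a, IsFractionRing.injective B L ?_⟩
    change algebraMap B L (algebraMap A B a) = jB s
    rw [← hx, ← IsScalarTower.algebraMap_apply A B L, IsScalarTower.algebraMap_apply A K L, ha]
    rfl

end Groth.Agent.S18538
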