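import Mathlib
import Groth.Statements.S18539
-- import your own Groth.Agent.* helpers here

set_option autoImplicit false
universe u v w
open CAlg

namespace Groth.Agent.S18539

/-- For a commutative ring R, R-modules M and N and elements r₁, r₂ of R such that r₁ is a
non-zero-divisor on N and r₂ is a non-zero-divisor on N/r₁N, the element r₁ is a non-zero-divisor on
the module Hom_R(M, N) and r₂ is a non-zero-divisor on Hom_R(M, N)/r₁Hom_R(M, N). (Weak regularity
on both sides: no condition that the quotient by (r₁, r₂) is nonzero, which would fail for M = 0.) -/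
theorem result
    (R : Type u) [CommRing R] (M : Type v) (N : Type w)
    [AddCommGroup M] [Module R M] [AddCommGroup N] [Module R N]
    (r₁ r₂ : R) (h : RingTheory.Sequence.IsWeaklyRegular N [r₁, r₂]) :
    RingTheory.Sequence.IsWeaklyRegular (M →ₗ[R] N) [r₁, r₂] := by
  rw [RingTheory.Sequence.isWeaklyRegular_cons_iff, RingTheory.Sequence.isWeaklyRegular_cons_iff] at h ⊢
  obtain ⟨h1, h2, -⟩ := h
  refine ⟨fun a b hab => LinearMap.ext fun m => h1 (LinearMap.congr_fun hab m), ?_,
    RingTheory.Sequence.IsWeaklyRegular.nil R _⟩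
  intro a b hab
  rw [← sub_eq_zero] at hab ⊢
  dsimp only at hab
  rw [← smul_sub] at hab
  generalize a - b = c at hab ⊢
  obtain ⟨φ, rfl⟩ := Submodule.Quotient.mk_surjective _ c
  rw [← Submodule.Quotient.mk_smul, Submodule.Quotient.mk_eq_zero, Submodule.mem_smul_pointwise_iff_exists] at hab
  obtain ⟨ψ, -, hψ⟩ := hab
  have hmem : ∀ m, ∃ n, r₁ • n = φ m := by
    intro m
    have h0 : r₂ • (Submodule.Quotient.mk (φ m) : QuotSMulTop r₁ N) = 0 := by
      rw [← Submodule.Quotient.mk_smul, Submodule.Quotient.mk_eq_zero, Submodule.mem_smul_pointwise_iff_exists]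
      exact ⟨ψ m, trivial, LinearMap.congr_fun hψ m⟩
    have h00 : (Submodule.Quotient.mk (φ m) : QuotSMulTop r₁ N) = 0 := h2 (h0.trans (smul_zero r₂).symm)
    rw [Submodule.Quotient.mk_eq_zero, Submodule.mem_smul_pointwise_iff_exists] at h00
    obtain ⟨n, -, hn⟩ := h00
    exact ⟨n, hn⟩
  choose θ hθ using hmem
  let θ' : M →ₗ[R] N :=
    { toFun := θ
      map_add' := fun x y => h1 (by simp only [smul_add, hθ, map_add])
      map_smul' := fun c x => h1 (by simp only [RingHom.id_apply, smul_comm r₁ c, hθ, map_smul]) }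
  rw [Submodule.Quotient.mk_eq_zero, Submodule.mem_smul_pointwise_iff_exists]
  exact ⟨θ', trivial, LinearMap.ext hθ⟩

end Groth.Agent.S18539
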