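import Groth.Statements.S18543
import Mathlib.RingTheory.Etale.Field
import Mathlib.RingTheory.Bialgebra.Convolution
import Mathlib.RingTheory.HopfAlgebra.Convolution
import Mathlib.FieldTheory.IsAlgClosed.AlgebraicClosure
import Mathlib.LinearAlgebra.FreeModule.Finite.Matrix


set_option autoImplicit false
universe u
open Hopf

namespace Groth.Agent.S18543

open WithConv TensorProduct
set_option maxHeartbeats 800000

theorem inv_mul_cancel_point {R A C : Type*} [CommRing R] [CommRing A] [CommRing C] [HopfAlgebra R A]
    [Algebra R C] (f : WithConv (A →ₐ[R] C)) :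
    toConv (f.ofConv.comp (HopfAlgebra.antipodeAlgHom R A)) * f = 1 := by
  have H : (Algebra.TensorProduct.lmul' R).comp (Algebra.TensorProduct.map f.ofConv f.ofConv) =
    f.ofConv.comp (Algebra.TensorProduct.lmul' R) := by ext <;> simp
  trans toConv <| ((Algebra.TensorProduct.lmul' R).comp (Algebra.TensorProduct.map f.ofConv f.ofConv)).comp
    ((Algebra.TensorProduct.map
    (HopfAlgebra.antipodeAlgHom R A) (.id _ _)).comp (Bialgebra.comulAlgHom R A))
  · rw [AlgHom.comp_assoc, ← AlgHom.comp_assoc (Algebra.TensorProduct.map f.ofConv f.ofConv),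
      ← Algebra.TensorProduct.map_comp]; rfl
  rw [H, AlgHom.comp_assoc, WithConv.ext_iff, ← AlgHom.toLinearMap_injective.eq_iff]
  change f.ofConv.toLinearMap.comp (toConv (HopfAlgebra.antipode R (A := A)) * toConv LinearMap.id).ofConv =
    ofConv (1 : WithConv <| A →ₗ[R] C)
  rw [LinearMap.antipode_mul_id]
  ext
  simp


/-- Let p be a prime number, k a field of characteristic p and A a finite-dimensional commutative,
cocommutative Hopf algebra over k — the coordinate ring of a finite commutative group scheme G over
k — such that A is étale over k and dim_k A = p^n for some n (G is an étale group scheme of p-power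
order). Then the Cartier dual A^∨ = Hom_k(A, k), with its convolution ring structure, is a local
ring; that is, the Cartier dual group scheme G^∨ = Spec A^∨ is infinitesimal (its underlying space
is a single point). -/
theorem result (p : ℕ) [Fact p.Prime]
    (k : Type u) [Field k] [CharP k p] (A : Type u) [CommRing A] [HopfAlgebra k A] [Coalgebra.IsCocomm k A]
    [Module.Finite k A] [Algebra.Etale k A] (n : ℕ) (hA : Module.finrank k A = p ^ n) :
    IsLocalRing (CartDual.D k A) := by
  let K := AlgebraicClosure k
  let B := TensorProduct k K A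
  haveI : Algebra.Etale K B := inferInstance
  let e : B ≃ₐ[K] (PrimeSpectrum B → K) := Algebra.FormallyEtale.equivPiOfIsSepClosed K B
  haveI : Module.Finite K B := inferInstance
  haveI : IsArtinianRing B := isArtinian_of_tower K inferInstance
  let pt : PrimeSpectrum B → WithConv (A →ₐ[k] K) := fun P => toConv
    ((((Pi.evalAlgHom K (fun _ => K) P).comp e.toAlgHom).restrictScalars k).comp
      Algebra.TensorProduct.includeRight)
  have hinj : Function.Injective pt := by
    intro P Q h
    by_contra hne
    classical
    have h' : (Pi.evalAlgHom K (fun _ => K) P).comp e.toAlgHom =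
        (Pi.evalAlgHom K (fun _ => K) Q).comp e.toAlgHom := by
      refine Algebra.TensorProduct.ext (AlgHom.ext fun x => ?_) (AlgHom.ext fun a => ?_)
      · show ((Pi.evalAlgHom K (fun _ => K) P).comp e.toAlgHom) (algebraMap K B x) =
          ((Pi.evalAlgHom K (fun _ => K) Q).comp e.toAlgHom) (algebraMap K B x)
        rw [AlgHom.commutes, AlgHom.commutes]
      · exact DFunLike.congr_fun (congrArg WithConv.ofConv h) a
    have := DFunLike.congr_fun h' (e.symm (Pi.single P 1))
    simp [Ne.symm hne] at this
  haveI : Fintype (PrimeSpectrum B) := Fintype.ofFinite _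
  haveI : Finite (A →ₐ[k] K) := inferInstance
  haveI : Finite (WithConv (A →ₐ[k] K)) := Finite.of_equiv _ (WithConv.equiv (A →ₐ[k] K)).symm
  have hdim : Fintype.card (PrimeSpectrum B) = p ^ n := by
    rw [← hA, ← Module.finrank_baseChange (R := K) (S := k) (M' := A)]
    exact ((e.toLinearEquiv.finrank_eq).trans (Module.finrank_fintype_fun_eq_card K)).symm
  have hcard : Nat.card (WithConv (A →ₐ[k] K)) = p ^ n := by
    refine le_antisymm ?_ ?_
    · rw [Nat.card_congr (WithConv.equiv (A →ₐ[k] K)), ← hA]
      exact card_algHom_le_finrank k A K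
    · rw [← hdim, Fintype.card_eq_nat_card]
      exact Nat.card_le_card_of_injective pt hinj
  letI : Group (WithConv (A →ₐ[k] K)) :=
    { (inferInstance : Monoid (WithConv (A →ₐ[k] K))) with
      inv := fun f => toConv (f.ofConv.comp (HopfAlgebra.antipodeAlgHom k A))
      inv_mul_cancel := inv_mul_cancel_point }
  have hord : ∀ g : WithConv (A →ₐ[k] K), g ^ p ^ n = 1 := fun g => by
    rw [← hcard]; exact pow_card_eq_one' (G := WithConv (A →ₐ[k] K))
  haveI : CharP K p := charP_of_injective_algebraMap (algebraMap k K).injective p
  let C := WithConv (A →ₗ[k] K)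
  have hinjC : Function.Injective (algebraMap K C) := by
    intro c d h
    have := DFunLike.congr_fun (congrArg WithConv.ofConv h) (1 : A)
    have hc : ∀ x : K, (algebraMap K C x).ofConv 1 = x := fun x => by
      rw [Algebra.algebraMap_eq_smul_one, WithConv.ofConv_smul, LinearMap.smul_apply,
        LinearMap.convOne_apply, Bialgebra.counit_one, map_one, smul_eq_mul, mul_one]
    rwa [hc, hc] at this
  haveI : CharP C p := charP_of_injective_algebraMap hinjC p
  haveI : ExpChar C p := ExpChar.prime Fact.out
  let lift : CartDual.D k A → C := fun f => toConv ((Algebra.linearMap k K).comp f.ofConv)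
  have hlift : ∀ f g : CartDual.D k A, lift (f * g) = lift f * lift g := by
    intro f g
    apply (WithConv.equiv (A →ₗ[k] K)).injective
    exact LinearMap.algHom_comp_convMul_distrib (Algebra.ofId k K) f g
  have hinjl : Function.Injective lift := by
    intro f g h
    apply (WithConv.equiv (A →ₗ[k] k)).injective
    refine LinearMap.ext fun a => (algebraMap k K).injective ?_
    exact DFunLike.congr_fun (congrArg WithConv.ofConv h) a
  have hone : lift 1 = 1 := by
    apply (WithConv.equiv (A →ₗ[k] K)).injective
    ext a
    simp [lift, LinearMap.convOne_apply]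
  have hpow : ∀ (f : CartDual.D k A) (m : ℕ), lift (f ^ m) = lift f ^ m := by
    intro f m
    induction m with
    | zero => simpa using hone
    | succ m ih => rw [pow_succ, hlift, ih, pow_succ]
  have hnil : ∀ f : CartDual.D k A, f.ofConv 1 = 0 → IsNilpotent f := by
    intro f hf
    refine ⟨p ^ n, hinjl ?_⟩
    rw [hpow, show lift 0 = 0 by apply (WithConv.equiv (A →ₗ[k] K)).injective; ext; simp [lift]]
    classical
    let g : B →ₗ[K] K := TensorProduct.AlgebraTensorModule.lift
      (LinearMap.toSpanSingleton K (A →ₗ[k] K) (lift f).ofConv)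
    let c : PrimeSpectrum B → K := fun P => g (e.symm (Pi.single P 1))
    have hsum : ∀ a : A, (lift f).ofConv a = ∑ P, c P * (pt P).ofConv a := by
      intro a
      have h1 : g ((1 : K) ⊗ₜ[k] a) = (lift f).ofConv a := by
        show (TensorProduct.AlgebraTensorModule.lift _) _ = _
        rw [TensorProduct.AlgebraTensorModule.lift_tmul]
        simp
      have h2 : e ((1 : K) ⊗ₜ[k] a) = ∑ P, (pt P).ofConv a • (Pi.single P 1 : PrimeSpectrum B → K) := by
        funext Q
        simp [pt, Pi.single_apply]
        rfl
      rw [← h1, ← e.symm_apply_apply ((1 : K) ⊗ₜ[k] a), h2, map_sum, map_sum]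
      refine Finset.sum_congr rfl fun P _ => ?_
      rw [map_smul, map_smul, smul_eq_mul, mul_comm]
    let toC : WithConv (A →ₐ[k] K) → C := fun x => toConv x.ofConv.toLinearMap
    have hC : lift f = ∑ P, algebraMap K C (c P) * toC (pt P) := by
      apply (WithConv.equiv (A →ₗ[k] K)).injective
      refine LinearMap.ext fun a => ?_
      show (lift f).ofConv a = (∑ P, algebraMap K C (c P) * toC (pt P)).ofConv a
      rw [hsum]
      rw [WithConv.ofConv_sum, LinearMap.sum_apply]
      refine Finset.sum_congr rfl fun P _ => ?_
      rw [← Algebra.smul_def]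
      rfl
    have hsum0 : ∑ P, c P = 0 := by
      have := hsum 1
      simp only [map_one, mul_one] at this
      rw [← this]
      simp [lift, hf]
    rw [hC, sum_pow_char_pow]
    simp only [mul_pow]
    have hpt : ∀ P, toC (pt P) ^ p ^ n = 1 := by
      intro P
      have h1 : toC ((pt P) ^ p ^ n) = toC (pt P) ^ p ^ n := AlgHom.toLinearMap_convPow _ _
      rw [← h1, hord]
      exact AlgHom.toLinearMap_convOne
    simp only [hpt, mul_one]
    rw [← Finset.sum_congr rfl fun P _ => map_pow (algebraMap K C) (c P) (p ^ n), ← map_sum,
      ← sum_pow_char_pow, hsum0, zero_pow (pow_ne_zero _ (Fact.out : p.Prime).ne_zero), map_zero]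
  haveI : Nontrivial (CartDual.D k A) := ⟨⟨0, 1, fun h => by
    have := DFunLike.congr_fun (congrArg WithConv.ofConv h) (1 : A)
    simp [LinearMap.convOne_apply] at this⟩⟩
  refine IsLocalRing.of_isUnit_or_isUnit_one_sub_self fun f => ?_
  have key : ∀ f : CartDual.D k A, f.ofConv 1 ≠ 0 → IsUnit f := by
    intro f hf
    have hu : IsUnit (algebraMap k (CartDual.D k A) (f.ofConv 1)) := (IsUnit.mk0 _ hf).map _
    have hn : IsNilpotent (f - algebraMap k (CartDual.D k A) (f.ofConv 1)) := hnil _ (by
      simp [LinearMap.convAlgebraMap_apply])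
    have := hn.isUnit_add_left_of_commute hu (Commute.all _ _)
    simpa using this
  by_cases hf : f.ofConv 1 = 0
  · exact Or.inr ((hnil f hf).isUnit_one_sub)
  · exact Or.inl (key f hf)

end Groth.Agent.S18543
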