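import Groth.Statements.S18544
import Mathlib
-- import your own Groth.Agent.* helpers here

set_option autoImplicit false
universe u
open CAlg

namespace Groth.Agent.S18544

open Polynomial in
theorem poly_eq_one {F : Type u} [Field F] [Infinite F] (q : F[X]) (h : ∀ a b, q.eval (a + b) = q.eval a * q.eval b)
    (h0 : q.eval 0 = 1) : q = 1 := by
  have hmul : q * q.comp (-X) = 1 := Polynomial.funext fun c => by
    rw [eval_mul, eval_comp, eval_neg, eval_X, ← h, add_neg_cancel, h0, eval_one]
  have hdeg := natDegree_eq_zero_of_isUnit (IsUnit.of_mul_eq_one _ hmul)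
  rw [eq_C_of_natDegree_eq_zero hdeg] at h0 ⊢
  rw [eval_C] at h0; rw [h0, C_1]

open Polynomial in
theorem poly_eq_X_pow {F : Type u} [Field F] [Infinite F] (q : F[X]) (h : ∀ a b, q.eval (a * b) = q.eval a * q.eval b)
    (h1 : q.eval 1 = 1) : ∃ m : ℕ, q = X ^ m := by
  classical
  refine ⟨q.natDegree, ?_⟩
  have hq0 : q ≠ 0 := fun e => by rw [e, eval_zero] at h1; exact zero_ne_one h1
  have hk : ∀ k, ∀ s, q.coeff k * s ^ k = q.eval s * q.coeff k := fun k s => by
    have e : q.comp (C s * X) = C (q.eval s) * q := Polynomial.funext fun t => by simp [h]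
    have := congrArg (fun p => coeff p k) e
    simp only [comp_C_mul_X_coeff, coeff_C_mul] at this
    exact this
  have hlead : q.coeff q.natDegree ≠ 0 := leadingCoeff_ne_zero.2 hq0
  have hev : ∀ s, q.eval s = s ^ q.natDegree := fun s => by
    have := hk q.natDegree s
    exact mul_right_cancel₀ hlead (by rw [← this, mul_comm])
  exact Polynomial.funext fun s => by rw [hev, eval_pow, eval_X]


/-- Let F be an algebraically closed field of characteristic zero, n a natural number, and N a nonzero
polynomial over F in the n² matrix entries whose evaluation on n × n matrices is multiplicative,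
N(xy) = N(x)·N(y) for all x, y (a norm form on the matrix algebra M_n(F) over F). Then N is a
natural power of the determinant: for some m, N(x) = det(x)^m for every matrix x. The published
statement concerns norm forms of any central simple algebra over a subfield; this row is the case of
the full matrix algebra over an algebraically closed field, which is the case its proof treats. -/
theorem result (F : Type u) [Field F] [IsAlgClosed F]
    [CharZero F] (n : ℕ) (N : MvPolynomial (Fin n × Fin n) F) (hN : N ≠ 0)
    (hmul : ∀ x y : Matrix (Fin n) (Fin n) F,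
      MvPolynomial.eval (fun ij : Fin n × Fin n => (x * y) ij.1 ij.2) N =
        MvPolynomial.eval (fun ij : Fin n × Fin n => x ij.1 ij.2) N * MvPolynomial.eval (fun ij : Fin n × Fin n => y ij.1 ij.2) N) :
    ∃ m : ℕ, ∀ x : Matrix (Fin n) (Fin n) F,
      MvPolynomial.eval (fun ij : Fin n × Fin n => x ij.1 ij.2) N = x.det ^ m := by
  classical
  open Matrix in
  set f : Matrix (Fin n) (Fin n) F → F := fun x => MvPolynomial.eval (fun ij => x ij.1 ij.2) N with hf
  replace hmul : ∀ x y, f (x * y) = f x * f y := hmul
  have h1 : f 1 = 1 := by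
    obtain ⟨v, hv⟩ : ∃ v : Fin n × Fin n → F, MvPolynomial.eval v N ≠ 0 := by
      by_contra h; push Not at h; exact hN (MvPolynomial.funext fun v => by rw [h, map_zero])
    have := hmul 1 (Matrix.of fun i j => v (i, j))
    rw [one_mul] at this
    exact (mul_eq_right₀ (show f (Matrix.of fun i j => v (i, j)) ≠ 0 from hv)).1 this.symm
  have pol : ∀ L : Matrix (Fin n) (Fin n) (Polynomial F), ∀ t, (MvPolynomial.aeval (fun ij => L ij.1 ij.2) N).eval t =
      f (L.map (Polynomial.eval t)) := fun L t => by
    rw [← Polynomial.coe_evalRingHom, MvPolynomial.aeval_def, MvPolynomial.eval₂_comp_left]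
    simp only [hf]
    rw [show (Polynomial.evalRingHom t).comp (algebraMap F (Polynomial F)) = RingHom.id F from RingHom.ext fun x => by simp]
    rfl
  have htr : ∀ (i j : Fin n) (c : F), i ≠ j → f (Matrix.transvection i j c) = 1 := by
    intro i j c hij
    set q := MvPolynomial.aeval (fun ij => Matrix.transvection i j (Polynomial.X : Polynomial F) ij.1 ij.2) N
    have hq : ∀ t, q.eval t = f (Matrix.transvection i j t) := fun t => by
      rw [pol]; congr 1
      ext a b; simp [Matrix.transvection, Matrix.one_apply, Matrix.single_apply, apply_ite (Polynomial.eval t)]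
    have := poly_eq_one q (fun a b => by rw [hq, hq, hq, ← hmul, Matrix.transvection_mul_transvection_same i j hij]) (by
      rw [hq, Matrix.transvection_zero, h1])
    rw [← hq, this, Polynomial.eval_one]
  have hsingle : ∀ i : Fin n, ∃ m : ℕ, ∀ t : F, f (Matrix.diagonal (Function.update (fun _ => (1 : F)) i t)) = t ^ m := by
    intro i
    set q := MvPolynomial.aeval (fun ij => Matrix.diagonal (Function.update (fun _ => (1 : Polynomial F)) i Polynomial.X) ij.1 ij.2) N
    have hq : ∀ t, q.eval t = f (Matrix.diagonal (Function.update (fun _ => (1 : F)) i t)) := fun t => by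
      rw [pol]; congr 1
      rw [Matrix.diagonal_map (Polynomial.eval_zero)]
      congr 1; funext a
      by_cases ha : a = i <;> simp [ha]
    obtain ⟨m, hm⟩ := poly_eq_X_pow q (fun a b => by
      rw [hq, hq, hq, ← hmul, Matrix.diagonal_mul_diagonal]
      congr 2; funext c
      by_cases hc : c = i <;> simp [hc]) (by rw [hq]; simp [h1])
    exact ⟨m, fun t => by rw [← hq, hm]; simp⟩
  choose m hm using hsingle
  have hdiag : ∀ D : Fin n → F, f (Matrix.diagonal D) = ∏ i, D i ^ m i := by
    intro D
    have key : ∀ s : Finset (Fin n), f (Matrix.diagonal (fun i => if i ∈ s then D i else 1)) = ∏ i ∈ s, D i ^ m i := by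
      intro s
      induction s using Finset.induction_on with
      | empty => simp [h1]
      | insert a s ha ih =>
        rw [Finset.prod_insert ha, ← ih, ← hm a, ← hmul, Matrix.diagonal_mul_diagonal]
        congr 2; funext c
        by_cases hc : c = a
        · subst hc; simp [ha]
        · simp [hc]
    simpa using key Finset.univ
  rcases Nat.eq_zero_or_pos n with rfl | hn
  · exact ⟨0, fun x => by rw [pow_zero]; exact (show x = 1 from Subsingleton.elim _ _) ▸ h1⟩
  set m₀ := m ⟨0, hn⟩
  have hm0 : ∀ i, m i = m₀ := by
    intro i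
    set σ := Equiv.swap i ⟨0, hn⟩
    set S : Matrix (Fin n) (Fin n) F := (1 : Matrix (Fin n) (Fin n) F).submatrix σ id
    have hSS : S * S = 1 := by
      ext a b; simp only [S, Matrix.mul_apply, Matrix.submatrix_apply, Matrix.one_apply, id_eq]
      rw [Finset.sum_eq_single (σ a)] <;> simp +contextual [σ, eq_comm]
    have hconj : ∀ D : Fin n → F, S * Matrix.diagonal D * S = Matrix.diagonal (fun a => D (σ a)) := by
      intro D; ext a b
      rw [Matrix.mul_apply, Finset.sum_eq_single (σ a)] <;>
        simp +contextual [S, Matrix.mul_diagonal, Matrix.one_apply, Matrix.diagonal_apply, σ, eq_comm]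
    have he : (fun t : F => t ^ m i) = fun t => t ^ m₀ := funext fun t => by
      have := congrArg f (hconj (Function.update (fun _ => (1 : F)) i t))
      rw [hmul, hmul, mul_comm (f S), mul_assoc, ← hmul, hSS, h1, mul_one, hm] at this
      rw [this, show (fun a => Function.update (fun _ => (1 : F)) i t (σ a)) = Function.update (fun _ => (1 : F)) ⟨0, hn⟩ t from
        funext fun a => by simp only [Function.update_apply, σ, Equiv.swap_apply_def]; split_ifs <;> simp_all, hm]
    have e := congrArg Polynomial.natDegree
      (Polynomial.funext (p := (Polynomial.X : Polynomial F) ^ m i) (q := Polynomial.X ^ m₀) fun t => by simpa using congrFun he t)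
    simpa using e
  refine ⟨m₀, ?_⟩
  have hns : ∀ x : Matrix (Fin n) (Fin n) F, x.det ≠ 0 → f x = x.det ^ m₀ := by
    intro x hx
    refine Matrix.diagonal_transvection_induction_of_det_ne_zero (fun y => f y = y.det ^ m₀) x hx ?_ ?_ ?_
    · intro D _; rw [hdiag, Matrix.det_diagonal, ← Finset.prod_pow]; simp [hm0]
    · intro t; rw [Matrix.TransvectionStruct.toMatrix, htr _ _ _ t.hij, Matrix.det_transvection_of_ne _ _ t.hij, one_pow]
    · intro A B _ _ hA hB; rw [hmul, hA, hB, Matrix.det_mul, mul_pow]
  set Dp : MvPolynomial (Fin n × Fin n) F := (Matrix.mvPolynomialX (Fin n) (Fin n) F).det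
  have hD : ∀ v : Fin n × Fin n → F, MvPolynomial.eval v Dp = (Matrix.of fun i j => v (i, j)).det := fun v => by
    rw [RingHom.map_det]; congr 1; ext a b; simp [Matrix.mvPolynomialX]
  have hzero : (N - Dp ^ m₀) * Dp = 0 := MvPolynomial.funext fun v => by
    rw [map_mul, map_sub, map_pow, map_zero, hD]
    by_cases hv : (Matrix.of fun i j => v (i, j)).det = 0
    · rw [hv, mul_zero]
    · rw [show MvPolynomial.eval v N = f (Matrix.of fun i j => v (i, j)) from rfl, hns _ hv, sub_self, zero_mul]
  have hDp : Dp ≠ 0 := fun e => by
    have := hD (fun ij => (1 : Matrix (Fin n) (Fin n) F) ij.1 ij.2)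
    rw [e, map_zero, show (Matrix.of fun i j => (1 : Matrix (Fin n) (Fin n) F) i j) = 1 from rfl, Matrix.det_one] at this
    exact zero_ne_one this
  intro x
  have := congrArg (MvPolynomial.eval fun ij => x ij.1 ij.2) ((mul_eq_zero.1 hzero).resolve_right hDp)
  rw [map_sub, map_pow, hD, map_zero, sub_eq_zero] at this
  exact this

end Groth.Agent.S18544
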