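import Groth.Statements.S18545
import Mathlib.LinearAlgebra.BilinearForm.Orthogonal
import Mathlib.Order.Atoms

set_option autoImplicit false
universe u
open AbVar

namespace Groth.Agent.S18545

/-- A step in the proof of Tate's isogeny result over finite fields, in linear-algebra form. Let K be a
field and V a K-vector space of finite dimension 2g carrying a nondegenerate alternating bilinear
form e. Let F be a K-subalgebra of End(V) which is isomorphic as a K-algebra to a finite product K ×
⋯ × K and which is spanned over K by a set S of similitudes of e (for each s in S there is a nonzero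
scalar c with e(s x, s y) = c·e(x, y) for all x, y). Let D be a set of endomorphisms of V such that
every F-stable isotropic subspace W of dimension g (a maximal isotropic subspace) is D-stable. Then
every F-stable isotropic subspace of V is D-stable. (In the application V is the rational ℓ-adic
Tate module of an abelian variety over a finite field with the Riemann form of a polarisation, F the
algebra generated by the Galois group, split for the chosen ℓ, and D the commutant of the image of
the endomorphism algebra; the hypothesis on maximal isotropic subspaces is the step obtained from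
the finiteness of isomorphism classes.) -/
theorem result (K : Type u) [Field K]
    (V : Type u) [AddCommGroup V] [Module K V] [FiniteDimensional K V] (g : ℕ) (hV : Module.finrank K V = 2 * g)
    (e : LinearMap.BilinForm K V) (he : e.IsAlt) (hnd : e.Nondegenerate)
    (F : Subalgebra K (Module.End K V)) (r : ℕ) (hF : Nonempty (F ≃ₐ[K] (Fin r → K)))
    (S : Set (Module.End K V)) (hS : Submodule.span K S = Subalgebra.toSubmodule F)
    (hsim : ∀ s ∈ S, ∃ c : K, c ≠ 0 ∧ ∀ x y : V, e (s x) (s y) = c * e x y)
    (D : Set (Module.End K V))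
    (hmax : ∀ W : Submodule K V, (∀ f ∈ F, ∀ w ∈ W, f w ∈ W) → (∀ x ∈ W, ∀ y ∈ W, e x y = 0) →
      Module.finrank K W = g → ∀ d ∈ D, ∀ w ∈ W, d w ∈ W)
    (W : Submodule K V) (hWF : ∀ f ∈ F, ∀ w ∈ W, f w ∈ W) (hWiso : ∀ x ∈ W, ∀ y ∈ W, e x y = 0) :
    ∀ d ∈ D, ∀ w ∈ W, d w ∈ W := by
  classical
  obtain ⟨φ⟩ := hF
  -- the projections to the eigenspaces
  let ε : Fin r → F := fun i => φ.symm (Pi.single i 1)
  have hεf : ∀ (i : Fin r) (f : Module.End K V), f ∈ F → ∀ z, ∃ a : K,
      f ((ε i : Module.End K V) z) = a • (ε i : Module.End K V) z := fun i f hf z => by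
    refine ⟨φ ⟨f, hf⟩ i, ?_⟩
    have : (⟨f, hf⟩ : F) * ε i = φ ⟨f, hf⟩ i • ε i := by
      apply φ.injective
      rw [map_mul, map_smul, φ.apply_symm_apply]
      ext j
      rcases eq_or_ne j i with rfl | hj <;> simp [*]
    exact congrArg (fun u : F => (u : Module.End K V) z) this
  have hε1 : ∀ z, ∑ i, (ε i : Module.End K V) z = z := fun z => by
    have : ∑ i, ε i = 1 := by
      apply φ.injective
      simp [ε, map_sum, Finset.univ_sum_single]
      rfl
    have h2 := congrArg (fun u : F => (u : Module.End K V) z) this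
    simpa using h2
  let Stab : Submodule K V → Prop := fun M =>
    (∀ f ∈ F, ∀ w ∈ M, f w ∈ M) ∧ ∀ x ∈ M, ∀ y ∈ M, e x y = 0
  -- the orthogonal of a stable subspace is stable
  have horth : ∀ M : Submodule K V, (∀ f ∈ F, ∀ w ∈ M, f w ∈ M) →
      ∀ f ∈ F, ∀ w ∈ e.orthogonal M, f w ∈ e.orthogonal M := by
    intro M hM f hf w hw
    have : f ∈ Submodule.span K S := hS ▸ hf
    clear hf
    induction this using Submodule.span_induction with
    | mem s hs =>
      obtain ⟨c, hc, hsc⟩ := hsim s hs
      have hsF : s ∈ F := by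
        have : s ∈ Submodule.span K S := Submodule.subset_span hs
        rwa [hS] at this
      have hinj : Function.Injective s := (injective_iff_map_eq_zero s).2 fun z hz =>
        hnd.1 z fun y => (mul_eq_zero.1 (by rw [← hsc, hz, map_zero, LinearMap.zero_apply])).resolve_left hc
      let sM : M →ₗ[K] M := (s.comp M.subtype).codRestrict M fun m => hM s hsF m m.2
      have hsM : Function.Surjective sM := LinearMap.injective_iff_surjective.1
        fun a b h => Subtype.ext (hinj (congrArg Subtype.val h))
      intro m hm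
      obtain ⟨m', hm'⟩ := hsM ⟨m, hm⟩
      have hm'' : s m' = m := congrArg Subtype.val hm'
      show e m (s w) = 0
      rw [← hm'', hsc, show e (m' : V) w = 0 from hw m' m'.2, mul_zero]
    | zero => simp
    | add a b _ _ ha hb => rw [LinearMap.add_apply]; exact add_mem ha hb
    | smul c a _ ha => rw [LinearMap.smul_apply]; exact Submodule.smul_mem _ c ha
  have hadd : ∀ M : Submodule K V, Stab M → ∀ (i : Fin r) z,
      (ε i : Module.End K V) z ∈ e.orthogonal M → Stab (M ⊔ K ∙ (ε i : Module.End K V) z) := by
    intro M hM i z hz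
    refine ⟨fun f hf w hw => ?_, fun x hx y hy => ?_⟩
    · obtain ⟨m, hm, u, hu, rfl⟩ := Submodule.mem_sup.1 hw
      obtain ⟨a, rfl⟩ := Submodule.mem_span_singleton.1 hu
      obtain ⟨b, hb⟩ := hεf i f hf z
      rw [map_add, map_smul, hb]
      exact add_mem (Submodule.mem_sup_left (hM.1 f hf m hm))
        (Submodule.mem_sup_right (Submodule.smul_mem _ _ (Submodule.smul_mem _ _
          (Submodule.mem_span_singleton_self _))))
    · obtain ⟨m, hm, u, hu, rfl⟩ := Submodule.mem_sup.1 hx
      obtain ⟨m', hm', u', hu', rfl⟩ := Submodule.mem_sup.1 hy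
      obtain ⟨a, rfl⟩ := Submodule.mem_span_singleton.1 hu
      obtain ⟨a', rfl⟩ := Submodule.mem_span_singleton.1 hu'
      have h1 : e m ((ε i : Module.End K V) z) = 0 := hz m hm
      have h2 : e ((ε i : Module.End K V) z) m' = 0 := he.isRefl _ _ (hz m' hm')
      simp [hM.2 m hm m' hm', h1, h2, he.self_eq_zero]
  -- maximal stable isotropic subspaces are Lagrangian
  have hext : ∀ M : Submodule K V, Stab M → ∃ M', M ≤ M' ∧ Stab M' ∧ Module.finrank K M' = g := by
    intro M hM
    obtain ⟨M', ⟨hle, hM'⟩, hmaxi⟩ := (wellFounded_gt (α := Submodule K V)).has_min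
      {N | M ≤ N ∧ Stab N} ⟨M, le_rfl, hM⟩
    refine ⟨M', hle, hM', ?_⟩
    have hperp : e.orthogonal M' = M' := by
      refine le_antisymm (fun z hz => ?_) fun z hz m hm => hM'.2 m hm z hz
      rw [← hε1 z]
      refine Submodule.sum_mem _ fun i _ => ?_
      by_contra hi
      refine hmaxi (M' ⊔ K ∙ (ε i : Module.End K V) z) ⟨hle.trans le_sup_left, hadd M' hM' i z
        (horth M' hM'.1 _ (ε i).2 z hz)⟩ (lt_of_le_of_ne le_sup_left fun h => hi ?_)
      rw [h]
      exact Submodule.mem_sup_right (Submodule.mem_span_singleton_self _)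
    have := LinearMap.BilinForm.finrank_orthogonal hnd M'
    rw [hperp, hV] at this
    have hle' := M'.finrank_le
    omega
  intro d hd w hw
  by_contra hdw
  obtain ⟨i, hi⟩ : ∃ i, (ε i : Module.End K V) (d w) ∉ W := by
    by_contra! h
    exact hdw (hε1 (d w) ▸ Submodule.sum_mem _ fun i _ => h i)
  have key : ∀ M : Submodule K V, W ≤ M → Stab M → Module.finrank K M = g →
      (ε i : Module.End K V) (d w) ∈ M :=
    fun M hWM hM hg => hM.1 _ (ε i).2 _ (hmax M hM.1 hM.2 hg d hd w (hWM hw))
  obtain ⟨M, hWM, hM, hg⟩ := hext W ⟨hWF, hWiso⟩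
  have hperpx : (ε i : Module.End K V) (d w) ∈ e.orthogonal W := fun m hm =>
    hM.2 m (hWM hm) _ (key M hWM hM hg)
  obtain ⟨y, hy, hxy⟩ : ∃ y ∈ e.orthogonal W, e y ((ε i : Module.End K V) (d w)) ≠ 0 := by
    by_contra! h
    apply hi
    rw [← LinearMap.BilinForm.orthogonal_orthogonal hnd he.isRefl W]
    exact h
  obtain ⟨j, hj⟩ : ∃ j, e ((ε j : Module.End K V) y) ((ε i : Module.End K V) (d w)) ≠ 0 := by
    by_contra! h
    apply hxy
    rw [← hε1 y, map_sum, LinearMap.sum_apply]
    exact Finset.sum_eq_zero fun j _ => h j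
  obtain ⟨M', hle, hM', hg'⟩ := hext _ (hadd W ⟨hWF, hWiso⟩ j y (horth W hWF _ (ε j).2 y hy))
  exact hj (hM'.2 _ (hle (Submodule.mem_sup_right (Submodule.mem_span_singleton_self _))) _
    (key M' (le_sup_left.trans hle) hM' hg'))

end Groth.Agent.S18545
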