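import Mathlib
import Groth.Statements.S18546
-- import your own Groth.Agent.* helpers here

set_option autoImplicit false
open scoped TensorProduct
universe u v
open GalCoh

namespace Groth.Agent.S18546

open scoped TensorProduct

/-- Let G be a group acting linearly on a vector space V of dimension 2 over the field 𝔽₂ with two
elements. Then the short exact sequence of G-modules 0 → V → S²V → Λ²V → 0 (v ↦ v·v, x·y ↦ x ∧ y)
splits G-equivariantly. Here, for a vector space V over the field with two elements carrying a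
linear action ρ of a group G, write N_a ⊆ V ⊗ V for the span of the tensors v ⊗ v and N_s ⊆ N_a for
the span of the tensors x ⊗ y + y ⊗ x, so that S²V = (V ⊗ V)/N_s, Λ²V = (V ⊗ V)/N_a and the
surjection S²V → Λ²V, x·y ↦ x ∧ y, is G-equivariant for the diagonal action; a G-equivariant linear
section of this surjection is the same thing as a G-stable subspace W of V ⊗ V with W ∩ N_a = N_s
and W + N_a = V ⊗ V, which is how the splitting is stated. (The source has the absolute Galois group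
of a field acting continuously; any group is allowed here.) -/
theorem result (G : Type u) [Group G] (V : Type v)
    [AddCommGroup V] [Module (ZMod 2) V] (hV : Module.finrank (ZMod 2) V = 2)
    (ρ : Representation (ZMod 2) G V) :
    ∃ W : Submodule (ZMod 2) (V ⊗[ZMod 2] V),
      (∀ g : G, ∀ w ∈ W, ρ.tprod ρ g w ∈ W) ∧
      W ⊓ Submodule.span (ZMod 2) (Set.range fun v : V => v ⊗ₜ[ZMod 2] v) =
        Submodule.span (ZMod 2) (Set.range fun p : V × V => p.1 ⊗ₜ[ZMod 2] p.2 + p.2 ⊗ₜ[ZMod 2] p.1) ∧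
      W ⊔ Submodule.span (ZMod 2) (Set.range fun v : V => v ⊗ₜ[ZMod 2] v) = ⊤ := by
  classical
  haveI : Module.Finite (ZMod 2) V := Module.finite_of_finrank_eq_succ hV
  let b := Module.finBasisOfFinrankEq (ZMod 2) V hV
  let β := b.tensorProduct b
  let c : V ⊗[ZMod 2] V → Fin 2 → Fin 2 → ZMod 2 := fun w i j => β.repr w (i, j)
  have hc : ∀ x y i j, c (x ⊗ₜ[ZMod 2] y) i j = b.repr x i * b.repr y j := fun x y i j => by
    simp [c, β, mul_comm]
  have hadd : ∀ w w', c (w + w') = c w + c w' := fun w w' => by ext; simp [c]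
  have hsmul : ∀ (r : ZMod 2) w, c (r • w) = r • c w := fun r w => by ext; simp [c]
  let W : Submodule (ZMod 2) (V ⊗[ZMod 2] V) :=
    { carrier := {w | c w 0 0 = c w 1 1 ∧ c w 0 1 + c w 1 0 = c w 0 0}
      add_mem' := fun {w w'} h h' => by
        show c (w + w') 0 0 = c (w + w') 1 1 ∧ c (w + w') 0 1 + c (w + w') 1 0 = c (w + w') 0 0
        have e1 : c w 0 0 = c w 1 1 := h.1
        have e2 : c w 0 1 + c w 1 0 = c w 0 0 := h.2
        have e3 : c w' 0 0 = c w' 1 1 := h'.1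
        have e4 : c w' 0 1 + c w' 1 0 = c w' 0 0 := h'.2
        simp only [hadd, Pi.add_apply]
        exact ⟨by rw [e1, e3], by linear_combination e2 + e4⟩
      zero_mem' := by simp [c]
      smul_mem' := fun r w h => by
        simp only [Set.mem_ofPred_eq, hsmul, Pi.smul_apply, smul_eq_mul] at *
        exact ⟨by rw [h.1], by rw [← mul_add, h.2]⟩ }
  have two : (2 : ZMod 2) = 0 := rfl
  have hW : ∀ w, w ∈ W ↔ c w 0 0 = c w 1 1 ∧ c w 0 1 + c w 1 0 = c w 0 0 := fun w => Iff.rfl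
  let Na := Submodule.span (ZMod 2) (Set.range fun v : V => v ⊗ₜ[ZMod 2] v)
  let Ns := Submodule.span (ZMod 2) (Set.range fun p : V × V => p.1 ⊗ₜ[ZMod 2] p.2 + p.2 ⊗ₜ[ZMod 2] p.1)
  have hNa : ∀ w ∈ Na, c w 0 1 = c w 1 0 := fun w hw => by
    induction hw using Submodule.span_induction with
    | mem x hx => obtain ⟨v, rfl⟩ := hx; simp only [hc]; ring
    | zero => simp [c]
    | add x y _ _ hx hy => simp [hadd, hx, hy]
    | smul r x _ hx => simp [hsmul, hx]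
  have hsum : ∀ w, w = c w 0 0 • (b 0 ⊗ₜ[ZMod 2] b 0) + c w 1 1 • (b 1 ⊗ₜ[ZMod 2] b 1) + c w 0 1 • (b 0 ⊗ₜ[ZMod 2] b 1) + c w 1 0 • (b 1 ⊗ₜ[ZMod 2] b 0) := fun w => by
    conv_lhs => rw [← β.sum_repr w, Fintype.sum_prod_type, Fin.sum_univ_two, Fin.sum_univ_two, Fin.sum_univ_two]
    simp [c, β]
    abel
  have key : ∀ x₀ x₁ y₀ y₁ : ZMod 2, ((x₀, x₁) ≠ (0, 0) ∧ (y₀, y₁) ≠ (0, 0) ∧ (x₀, x₁) ≠ (y₀, y₁)) →
      ((x₀ * x₀ + y₀ * y₀ + x₀ * y₀ = x₁ * x₁ + y₁ * y₁ + x₁ * y₁ ∧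
        (x₀ * x₁ + y₀ * y₁ + x₀ * y₁) + (x₁ * x₀ + y₁ * y₀ + x₁ * y₀) = x₀ * x₀ + y₀ * y₀ + x₀ * y₀) ∧
      ((x₀ * y₀ + y₀ * x₀ = x₁ * y₁ + y₁ * x₁ ∧ (x₀ * y₁ + y₀ * x₁) + (x₁ * y₀ + y₁ * x₀) = x₀ * y₀ + y₀ * x₀))) := by decide
  refine ⟨W, fun g w hw => ?_, le_antisymm ?_ ?_, ?_⟩
  · obtain ⟨h1, h2⟩ := (hW w).1 hw
    have e : w = c w 0 0 • (b 0 ⊗ₜ[ZMod 2] b 0 + b 1 ⊗ₜ[ZMod 2] b 1 + b 0 ⊗ₜ[ZMod 2] b 1) +
        c w 1 0 • (b 0 ⊗ₜ[ZMod 2] b 1 + b 1 ⊗ₜ[ZMod 2] b 0) := by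
      conv_lhs => rw [hsum w, ← h1, show c w 0 1 = c w 0 0 + c w 1 0 by linear_combination h2 - c w 1 0 * two]
      simp only [smul_add, add_smul]
      abel
    set u₀ := ρ g (b 0) with hu₀
    set u₁ := ρ g (b 1) with hu₁
    have hinj : Function.Injective (ρ g) := fun a a' h => by
      have := congrArg (ρ g⁻¹) h
      rwa [← Module.End.mul_apply, ← map_mul, ← Module.End.mul_apply, ← map_mul, inv_mul_cancel, map_one, Module.End.one_apply, Module.End.one_apply] at this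
    have hne : ∀ v : V, v ≠ 0 → (b.repr v 0, b.repr v 1) ≠ (0, 0) := fun v hv h => hv (b.repr.injective (by
      ext i; fin_cases i <;> simp [(Prod.mk.inj h).1, (Prod.mk.inj h).2]))
    have hne' : (b.repr u₀ 0, b.repr u₀ 1) ≠ (b.repr u₁ 0, b.repr u₁ 1) := fun h => by
      have : u₀ = u₁ := b.repr.injective (by ext i; fin_cases i; exacts [(Prod.mk.inj h).1, (Prod.mk.inj h).2])
      exact absurd (b.injective (hinj this)) (by decide)
    obtain ⟨kt, ks⟩ := key _ _ _ _ ⟨hne u₀ (fun h => b.ne_zero 0 (hinj (h.trans (map_zero _).symm))),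
      hne u₁ (fun h => b.ne_zero 1 (hinj (h.trans (map_zero _).symm))), hne'⟩
    rw [e, map_add, map_smul, map_smul]
    refine add_mem (W.smul_mem _ ?_) (W.smul_mem _ ?_)
    · rw [hW]
      simp only [map_add, Representation.tprod_apply, TensorProduct.map_tmul, ← hu₀, ← hu₁, hadd, Pi.add_apply, hc]
      exact kt
    · rw [hW]
      simp only [map_add, Representation.tprod_apply, TensorProduct.map_tmul, ← hu₀, ← hu₁, hadd, Pi.add_apply, hc]
      exact ks
  · rintro w ⟨hw, hwa⟩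
    obtain ⟨h1, h2⟩ := (hW w).1 hw
    have h3 := hNa w hwa
    have h00 : c w 0 0 = 0 := by linear_combination -h2 + h3 + c w 1 0 * two
    rw [hsum w, ← h1, h00, h3, zero_smul, zero_smul, zero_add, zero_add, ← smul_add]
    exact Submodule.smul_mem _ _ (Submodule.subset_span ⟨(b 0, b 1), rfl⟩)
  · refine Submodule.span_le.2 ?_
    rintro _ ⟨⟨x, y⟩, rfl⟩
    refine ⟨(hW _).2 ?_, ?_⟩
    · simp only [hadd, Pi.add_apply, hc]
      constructor <;> ring_nf <;> simp [show (2 : ZMod 2) = 0 from rfl]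
    · show x ⊗ₜ[ZMod 2] y + y ⊗ₜ[ZMod 2] x ∈ Na
      have : x ⊗ₜ[ZMod 2] y + y ⊗ₜ[ZMod 2] x = (x + y) ⊗ₜ[ZMod 2] (x + y) - x ⊗ₜ[ZMod 2] x - y ⊗ₜ[ZMod 2] y := by
        simp only [TensorProduct.add_tmul, TensorProduct.tmul_add]
        abel
      rw [this]
      exact sub_mem (sub_mem (Submodule.subset_span ⟨_, rfl⟩) (Submodule.subset_span ⟨_, rfl⟩)) (Submodule.subset_span ⟨_, rfl⟩)
  · rw [eq_top_iff]
    intro w _
    have hs : b 0 ⊗ₜ[ZMod 2] b 1 + b 1 ⊗ₜ[ZMod 2] b 0 ∈ W := by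
      rw [hW]; simp [hadd, hc, show (1 : ZMod 2) + 1 = 0 from rfl]
    have ht : b 0 ⊗ₜ[ZMod 2] b 0 + b 1 ⊗ₜ[ZMod 2] b 1 + b 0 ⊗ₜ[ZMod 2] b 1 ∈ W := by
      rw [hW]; simp [hadd, hc, show (1 : ZMod 2) + 1 = 0 from rfl]
    have d : ∀ v : V, v ⊗ₜ[ZMod 2] v ∈ W ⊔ Na := fun v => Submodule.mem_sup_right (Submodule.subset_span ⟨v, rfl⟩)
    have h01 : b 0 ⊗ₜ[ZMod 2] b 1 ∈ W ⊔ Na := by
      have := sub_mem (sub_mem (Submodule.mem_sup_left (T := Na) ht) (d (b 0))) (d (b 1))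
      convert this using 1
      abel
    have h10 : b 1 ⊗ₜ[ZMod 2] b 0 ∈ W ⊔ Na := by
      have := sub_mem (Submodule.mem_sup_left (T := Na) hs) h01
      convert this using 1
      abel
    rw [hsum w]
    exact add_mem (add_mem (add_mem (Submodule.smul_mem _ _ (d _)) (Submodule.smul_mem _ _ (d _))) (Submodule.smul_mem _ _ h01)) (Submodule.smul_mem _ _ h10)

end Groth.Agent.S18546
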