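import Groth.Statements.S18547
import Mathlib
-- import your own Groth.Agent.* helpers here

set_option autoImplicit false
open scoped TensorProduct
universe u v
open GalCoh

namespace Groth.Agent.S18547

open scoped TensorProduct

set_option maxRecDepth 100000 in
set_option synthInstance.maxSize 4096 in
set_option synthInstance.maxHeartbeats 400000 in
theorem key : ∀ a b c r0 r1 r2 s0 s1 s2 u0 u1 u2 : ZMod 2,
    a * (r0 * s1 + r1 * s0) + b * (r0 * s2 + r2 * s0) + c * (r1 * s2 + r2 * s1) = a →
    a * (r0 * u1 + r1 * u0) + b * (r0 * u2 + r2 * u0) + c * (r1 * u2 + r2 * u1) = b →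
    a * (s0 * u1 + s1 * u0) + b * (s0 * u2 + s2 * u0) + c * (s1 * u2 + s2 * u1) = c →
    ((a + b + a * b) * r0 + (a + c + a * c) * r1 + (b + c + b * c) * r2
        + a * r0 * r1 + b * r0 * r2 + c * r1 * r2 = a + b + a * b) ∧
    ((a + b + a * b) * s0 + (a + c + a * c) * s1 + (b + c + b * c) * s2
        + a * s0 * s1 + b * s0 * s2 + c * s1 * s2 = a + c + a * c) ∧
    ((a + b + a * b) * u0 + (a + c + a * c) * u1 + (b + c + b * c) * u2
        + a * u0 * u1 + b * u0 * u2 + c * u1 * u2 = b + c + b * c) := by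
  decide +kernel

set_option maxHeartbeats 2000000

/-- Let G be a group acting linearly on a vector space V of dimension 3 over the field 𝔽₂ with two
elements. Then the connecting map (Λ²V)^G → H¹(G, V) of the short exact sequence of G-modules 0 → V
→ S²V → Λ²V → 0 (v ↦ v·v, x·y ↦ x ∧ y) is zero; equivalently, every G-invariant element of Λ²V is
the image of a G-invariant element of S²V. Here N_a ⊆ V ⊗ V is the span of the tensors v ⊗ v and N_s
⊆ N_a the span of the tensors x ⊗ y + y ⊗ x, so that S²V = (V ⊗ V)/N_s and Λ²V = (V ⊗ V)/N_a with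
the diagonal action of G, and the statement reads: a tensor t whose class modulo N_a is G-invariant
is congruent modulo N_a to a tensor whose class modulo N_s is G-invariant. (The source writes the
rank hypothesis on the lattice M with V = M/2M, which has the same rank, and has the absolute Galois
group of a field acting; any group is allowed here.) -/
theorem result (G : Type u) [Group G] (V : Type v)
    [AddCommGroup V] [Module (ZMod 2) V] (hV : Module.finrank (ZMod 2) V = 3)
    (ρ : Representation (ZMod 2) G V) (t : V ⊗[ZMod 2] V)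
    (ht : ∀ g : G, ρ.tprod ρ g t - t ∈ Submodule.span (ZMod 2) (Set.range fun v : V => v ⊗ₜ[ZMod 2] v)) :
    ∃ t' : V ⊗[ZMod 2] V, t' - t ∈ Submodule.span (ZMod 2) (Set.range fun v : V => v ⊗ₜ[ZMod 2] v) ∧
      ∀ g : G, ρ.tprod ρ g t' - t' ∈
        Submodule.span (ZMod 2) (Set.range fun p : V × V => p.1 ⊗ₜ[ZMod 2] p.2 + p.2 ⊗ₜ[ZMod 2] p.1) := by
  classical
  have : Module.Finite (ZMod 2) V := Module.finite_of_finrank_eq_succ hV
  let b := Module.finBasisOfFinrankEq (ZMod 2) V hV
  let B := b.tensorProduct b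
  let C : V ⊗[ZMod 2] V → Fin 3 → Fin 3 → ZMod 2 := fun z i j => B.repr z (i, j)
  have hC : ∀ u v i j, C (u ⊗ₜ v) i j = b.repr u i * b.repr v j := by
    intro u v i j
    simp [C, B, mul_comm]
  have hsym : ∀ z ∈ Submodule.span (ZMod 2) (Set.range fun v : V => v ⊗ₜ[ZMod 2] v),
      ∀ i j, C z i j = C z j i := by
    intro z hz
    induction hz using Submodule.span_induction with
    | mem x hx => obtain ⟨v, rfl⟩ := hx; intro i j; rw [hC, hC, mul_comm]
    | zero => intro i j; simp [C]
    | add x y _ _ hx hy => intro i j; simp only [C] at hx hy ⊢; simp [hx i j, hy i j]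
    | smul a x _ hx => intro i j; simp only [C] at hx ⊢; simp [hx i j]
  let Na := Submodule.span (ZMod 2) (Set.range fun v : V => v ⊗ₜ[ZMod 2] v)
  let w : Fin 3 → Fin 3 → ZMod 2 := fun i j => C t i j + C t j i
  let d : Fin 3 → ZMod 2 := ![w 0 1 + w 0 2 + w 0 1 * w 0 2,
    w 0 1 + w 1 2 + w 0 1 * w 1 2, w 0 2 + w 1 2 + w 0 2 * w 1 2]
  let D : V ⊗[ZMod 2] V := ∑ k, (d k + C t k k) • (b k ⊗ₜ b k)
  have hD : D ∈ Na := Submodule.sum_mem _ fun k _ =>
    Submodule.smul_mem _ _ (Submodule.subset_span ⟨b k, rfl⟩)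
  refine ⟨t + D, by simpa [Na] using hD, fun g => ?_⟩
  have hgD : ρ.tprod ρ g D ∈ Na := by
    rw [map_sum]
    refine Submodule.sum_mem _ fun k _ => ?_
    rw [map_smul]
    exact Submodule.smul_mem _ _ (Submodule.subset_span ⟨ρ g (b k), by simp⟩)
  let z := ρ.tprod ρ g (t + D) - (t + D)
  have hz : z ∈ Na := by
    have : z = (ρ.tprod ρ g t - t) + (ρ.tprod ρ g D - D) := by simp only [z, map_add]; abel
    rw [this]
    exact Na.add_mem (ht g) (Na.sub_mem hgD hD)
  let M : Fin 3 → Fin 3 → ZMod 2 := fun i k => b.repr (ρ g (b k)) i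
  have hM : ∀ u i, b.repr (ρ g u) i = ∑ k, M i k * b.repr u k := by
    intro u i
    conv_lhs => rw [← b.sum_repr u, map_sum, map_sum, Finsupp.finsetSum_apply]
    refine Finset.sum_congr rfl fun k _ => ?_
    rw [map_smul, map_smul, Finsupp.smul_apply, smul_eq_mul, mul_comm]
  have hT : ∀ x i j, C (ρ.tprod ρ g x) i j = ∑ k, ∑ l, M i k * M j l * C x k l := by
    intro x i j
    induction x using TensorProduct.induction_on with
    | zero => simp [C]
    | tmul u v =>
      rw [show ρ.tprod ρ g (u ⊗ₜ v) = ρ g u ⊗ₜ ρ g v by simp, hC, hM, hM, Finset.sum_mul_sum]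
      simp only [hC]
      refine Finset.sum_congr rfl fun k _ => Finset.sum_congr rfl fun l _ => ?_
      ring
    | add x y hx hy =>
      simp only [C] at hx hy ⊢
      rw [map_add, map_add, Finsupp.add_apply, hx, hy]
      simp [mul_add, Finset.sum_add_distrib]
  have hsq : ∀ x : ZMod 2, x * x = x := by decide
  have hneg : ∀ x y : ZMod 2, x - y = x + y := by decide
  have two : ∀ x : ZMod 2, x + x = 0 := by decide
  have hw : ∀ i j, (∑ k, ∑ l, M i k * M j l * C t k l) + (∑ k, ∑ l, M j k * M i l * C t k l) =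
      C t i j + C t j i := by
    intro i j
    have h := hsym _ (ht g) i j
    rw [← hT, ← hT]
    simp only [C, map_sub, Finsupp.sub_apply] at h ⊢
    grind
  have hk := key (w 0 1) (w 0 2) (w 1 2) (M 0 0) (M 0 1) (M 0 2) (M 1 0) (M 1 1) (M 1 2)
    (M 2 0) (M 2 1) (M 2 2)
    (by have h := hw 0 1; simp only [Fin.sum_univ_three] at h; simp only [w]; grind)
    (by have h := hw 0 2; simp only [Fin.sum_univ_three] at h; simp only [w]; grind)
    (by have h := hw 1 2; simp only [Fin.sum_univ_three] at h; simp only [w]; grind)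
  have hC' : ∀ k l, C (t + D) k l = if k = l then d k else C t k l := by
    intro k l
    have : ∀ x y : ZMod 2, x + (y + x) = y := by decide
    have hB : ∀ u v k l, B.repr (u ⊗ₜ[ZMod 2] v) (k, l) = b.repr u k * b.repr v l := hC
    simp only [C, D, map_add, map_sum, map_smul, Fin.sum_univ_three, Finsupp.add_apply,
      Finsupp.smul_apply, hB, smul_eq_mul, Module.Basis.repr_self, Finsupp.single_apply]
    fin_cases k <;> fin_cases l <;> simp [this]
  have hdiag : ∀ i, C z i i = 0 := by
    intro i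
    have e : C z i i = (∑ k, ∑ l, M i k * M i l * C (t + D) k l) + C (t + D) i i := by
      rw [← hT]; simp only [C, z, map_sub, Finsupp.sub_apply, hneg]
    rw [e]
    simp only [Fin.sum_univ_three, hC']
    obtain ⟨k0, k1, k2⟩ := hk
    fin_cases i <;> simp [d, w, hsq] at k0 k1 k2 ⊢ <;> grind
  have hdec : z = C z 0 1 • (b 0 ⊗ₜ b 1 + b 1 ⊗ₜ b 0) + C z 0 2 • (b 0 ⊗ₜ b 2 + b 2 ⊗ₜ b 0)
      + C z 1 2 • (b 1 ⊗ₜ b 2 + b 2 ⊗ₜ b 1) := by
    apply B.repr.injective
    ext ⟨i, j⟩
    have h1 := hsym z hz 0 1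
    have h2 := hsym z hz 0 2
    have h3 := hsym z hz 1 2
    have d0 := hdiag 0
    have d1 := hdiag 1
    have d2 := hdiag 2
    have hB : ∀ u v k l, B.repr (u ⊗ₜ[ZMod 2] v) (k, l) = b.repr u k * b.repr v l := hC
    simp only [C] at h1 h2 h3 d0 d1 d2 ⊢
    simp only [map_add, map_smul, Finsupp.add_apply, Finsupp.smul_apply, hB, smul_eq_mul,
      Module.Basis.repr_self, Finsupp.single_apply]
    fin_cases i <;> fin_cases j <;> simp [h1, h2, h3, d0, d1, d2]
  change z ∈ _
  rw [hdec]
  exact Submodule.add_mem _ (Submodule.add_mem _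
    (Submodule.smul_mem _ _ (Submodule.subset_span ⟨(b 0, b 1), rfl⟩))
    (Submodule.smul_mem _ _ (Submodule.subset_span ⟨(b 0, b 2), rfl⟩)))
    (Submodule.smul_mem _ _ (Submodule.subset_span ⟨(b 1, b 2), rfl⟩))

end Groth.Agent.S18547
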