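import Groth.Statements.S18548
import Mathlib
-- import your own Groth.Agent.* helpers here

set_option autoImplicit false
open scoped TensorProduct
universe u v w
open GalCoh

namespace Groth.Agent.S18548

/-- Let G be a group acting linearly on a vector space V over the field 𝔽₂ with two elements, and
suppose V is a permutation module: G permutes the vectors of some basis of V. Then the short exact
sequence of G-modules 0 → V → S²V → Λ²V → 0 (v ↦ v·v, x·y ↦ x ∧ y) splits G-equivariantly. Here, for
a vector space V over the field with two elements carrying a linear action ρ of a group G, write N_a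
⊆ V ⊗ V for the span of the tensors v ⊗ v and N_s ⊆ N_a for the span of the tensors x ⊗ y + y ⊗ x,
so that S²V = (V ⊗ V)/N_s, Λ²V = (V ⊗ V)/N_a and the surjection S²V → Λ²V, x·y ↦ x ∧ y, is
G-equivariant for the diagonal action; a G-equivariant linear section of this surjection is the same
thing as a G-stable subspace W of V ⊗ V with W ∩ N_a = N_s and W + N_a = V ⊗ V, which is how the
splitting is stated. (The source has the absolute Galois group of a field acting continuously; any
group and any basis index set are allowed here.) -/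
theorem result (G : Type u) [Group G] (V : Type v)
    [AddCommGroup V] [Module (ZMod 2) V] (ρ : Representation (ZMod 2) G V)
    (ι : Type w) (b : Module.Basis ι (ZMod 2) V) (hb : ∀ g : G, ∀ i : ι, ∃ j : ι, ρ g (b i) = b j) :
    ∃ W : Submodule (ZMod 2) (V ⊗[ZMod 2] V),
      (∀ g : G, ∀ w ∈ W, ρ.tprod ρ g w ∈ W) ∧
      W ⊓ Submodule.span (ZMod 2) (Set.range fun v : V => v ⊗ₜ[ZMod 2] v) =
        Submodule.span (ZMod 2) (Set.range fun p : V × V => p.1 ⊗ₜ[ZMod 2] p.2 + p.2 ⊗ₜ[ZMod 2] p.1) ∧
      W ⊔ Submodule.span (ZMod 2) (Set.range fun v : V => v ⊗ₜ[ZMod 2] v) = ⊤ := by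
  classical
  letI := IsWellOrder.linearOrder (@WellOrderingRel ι)
  let t : ι × ι → V ⊗[ZMod 2] V := fun p => b p.1 ⊗ₜ[ZMod 2] b p.2
  let B := b.tensorProduct b
  have hB : ∀ p, B p = t p := fun p => Module.Basis.tensorProduct_apply' b b p
  set Na := Submodule.span (ZMod 2) (Set.range fun v : V => v ⊗ₜ[ZMod 2] v)
  set Ns := Submodule.span (ZMod 2) (Set.range fun p : V × V => p.1 ⊗ₜ[ZMod 2] p.2 + p.2 ⊗ₜ[ZMod 2] p.1)
  let W : Submodule (ZMod 2) (V ⊗[ZMod 2] V) := Submodule.span (ZMod 2) (t '' {p | p.1 ≠ p.2})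
  have htwo : ∀ x : V ⊗[ZMod 2] V, x + x = 0 := fun x => by
    rw [← two_smul (ZMod 2) x, show (2 : ZMod 2) = 0 from by decide, zero_smul]
  have hS : ∀ x y : V, x ⊗ₜ[ZMod 2] y + y ⊗ₜ[ZMod 2] x ∈ W := by
    let S : V ⊗[ZMod 2] V →ₗ[ZMod 2] V ⊗[ZMod 2] V :=
      LinearMap.id + (TensorProduct.comm (ZMod 2) V V).toLinearMap
    have h : LinearMap.range S ≤ W := by
      rw [LinearMap.range_eq_map, ← B.span_eq, Submodule.map_span, Submodule.span_le]
      rintro _ ⟨_, ⟨p, rfl⟩, rfl⟩
      rw [hB]
      rcases eq_or_ne p.1 p.2 with h | h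
      · have : S (t p) = 0 := by simp [S, t, h, htwo]
        rw [this]
        exact W.zero_mem
      · have : S (t p) = t p + t (p.2, p.1) := by simp [S, t]
        rw [this]
        exact add_mem (Submodule.subset_span ⟨p, h, rfl⟩) (Submodule.subset_span ⟨(p.2, p.1), h.symm, rfl⟩)
    intro x y
    simpa [S] using h ⟨x ⊗ₜ[ZMod 2] y, rfl⟩
  refine ⟨W, ?_, le_antisymm ?_ ?_, ?_⟩
  · intro g w hw
    have hle : W ≤ W.comap (ρ.tprod ρ g) := by
      refine Submodule.span_le.mpr ?_
      rintro _ ⟨p, hp, rfl⟩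
      obtain ⟨i, hi⟩ := hb g p.1
      obtain ⟨j, hj⟩ := hb g p.2
      have hij : i ≠ j := fun h => by
        refine hp (b.injective ?_)
        have h2 : ρ g (b p.1) = ρ g (b p.2) := by rw [hi, hj, h]
        have h3 := congrArg (ρ g⁻¹) h2
        simpa [← Module.End.mul_apply, ← map_mul] using h3
      refine Submodule.subset_span ⟨(i, j), hij, ?_⟩
      simp [t, Representation.tprod_apply, hi, hj]
    exact hle hw
  · rintro z ⟨hzW, hzN⟩
    let L : V ⊗[ZMod 2] V →ₗ[ZMod 2] V ⊗[ZMod 2] V :=
      B.constr (ZMod 2) fun p => if p.1 < p.2 then t p + t (p.2, p.1) else 0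
    let D : V ⊗[ZMod 2] V →ₗ[ZMod 2] V ⊗[ZMod 2] V :=
      B.constr (ZMod 2) fun p => if p.1 = p.2 then t p else 0
    let E := D + L - LinearMap.id
    have hL : ∀ p, L (t p) = if p.1 < p.2 then t p + t (p.2, p.1) else 0 := fun p => by
      rw [← hB p, Module.Basis.constr_basis, hB]
    have hD : ∀ p, D (t p) = if p.1 = p.2 then t p else 0 := fun p => by
      rw [← hB p, Module.Basis.constr_basis, hB]
    have hE : E.comp (LinearMap.id + (TensorProduct.comm (ZMod 2) V V).toLinearMap) = 0 := by
      refine B.ext fun p => ?_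
      have hsw : (TensorProduct.comm (ZMod 2) V V) (t p) = t (p.2, p.1) := by simp [t]
      rw [hB, LinearMap.comp_apply, LinearMap.add_apply, LinearMap.id_apply, LinearEquiv.coe_coe, hsw,
        LinearMap.zero_apply, map_add]
      simp only [E, LinearMap.sub_apply, LinearMap.add_apply, LinearMap.id_apply, hL, hD]
      obtain ⟨i, j⟩ := p
      rcases lt_trichotomy i j with h | h | h
      · simp [h, h.not_gt, h.ne, h.ne']
      · subst h; simp
      · simp [h, h.not_gt, h.ne, h.ne']
    have hdiag : ∀ v : V, E (v ⊗ₜ[ZMod 2] v) = 0 := by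
      intro v
      have hv : v ∈ Submodule.span (ZMod 2) (Set.range b) := by rw [b.span_eq]; exact Submodule.mem_top
      induction hv using Submodule.span_induction with
      | mem x hx =>
        obtain ⟨i, rfl⟩ := hx
        show E (t (i, i)) = 0
        simp [E, hL, hD]
      | zero => simp
      | add x y _ _ hx hy =>
        have h := LinearMap.congr_fun hE (x ⊗ₜ[ZMod 2] y)
        simp only [LinearMap.comp_apply, LinearMap.add_apply, LinearMap.id_apply, LinearEquiv.coe_coe,
          TensorProduct.comm_tmul, LinearMap.zero_apply, map_add] at h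
        rw [TensorProduct.add_tmul, TensorProduct.tmul_add, TensorProduct.tmul_add, map_add, map_add,
          map_add, hx, hy]
        rw [zero_add, add_zero]
        exact h
      | smul c x _ hx =>
        rw [TensorProduct.smul_tmul_smul, map_smul, hx, smul_zero]
    have hz0 : E z = 0 := by
      have : Na ≤ LinearMap.ker E := Submodule.span_le.mpr (by rintro _ ⟨v, rfl⟩; exact hdiag v)
      exact this hzN
    have hDz : D z = 0 := by
      have : W ≤ LinearMap.ker D := Submodule.span_le.mpr (by
        rintro _ ⟨p, hp, rfl⟩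
        show D (t p) = 0
        rw [hD]
        exact if_neg hp)
      exact this hzW
    have hLz : z = L z := by
      simp only [E, LinearMap.sub_apply, LinearMap.add_apply, LinearMap.id_apply, hDz, zero_add] at hz0
      exact (sub_eq_zero.mp hz0).symm
    rw [hLz]
    have : LinearMap.range L ≤ Ns := by
      rw [Module.Basis.constr_range, Submodule.span_le]
      rintro _ ⟨p, rfl⟩
      dsimp only
      split_ifs with h
      · exact Submodule.subset_span ⟨(b p.1, b p.2), rfl⟩
      · exact Ns.zero_mem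
    exact this ⟨z, rfl⟩
  · refine Submodule.span_le.mpr ?_
    rintro _ ⟨⟨x, y⟩, rfl⟩
    refine ⟨hS x y, ?_⟩
    have h : x ⊗ₜ[ZMod 2] y + y ⊗ₜ[ZMod 2] x =
        (x + y) ⊗ₜ[ZMod 2] (x + y) - x ⊗ₜ[ZMod 2] x - y ⊗ₜ[ZMod 2] y := by
      simp only [TensorProduct.add_tmul, TensorProduct.tmul_add]; abel
    show x ⊗ₜ[ZMod 2] y + y ⊗ₜ[ZMod 2] x ∈ Na
    rw [h]
    exact sub_mem (sub_mem (Submodule.subset_span ⟨x + y, rfl⟩) (Submodule.subset_span ⟨x, rfl⟩))
      (Submodule.subset_span ⟨y, rfl⟩)
  · rw [eq_top_iff, ← B.span_eq, Submodule.span_le]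
    rintro _ ⟨p, rfl⟩
    rw [hB]
    rcases eq_or_ne p.1 p.2 with h | h
    · exact Submodule.mem_sup_right (Submodule.subset_span ⟨b p.1, by simp [t, h]⟩)
    · exact Submodule.mem_sup_left (Submodule.subset_span ⟨p, h, rfl⟩)

end Groth.Agent.S18548
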