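import Groth.Statements.S18549
import Groth.Agent.S18548
-- import your own Groth.Agent.* helpers here

set_option autoImplicit false
open scoped TensorProduct
universe u v
open GalCoh

namespace Groth.Agent.S18549

/-- Over the real numbers, that is for the group G = Gal(ℂ/ℝ) of order 2 acting linearly on a
finite-dimensional vector space V over the field 𝔽₂ with two elements, the short exact sequence of
G-modules 0 → V → S²V → Λ²V → 0 (v ↦ v·v, x·y ↦ x ∧ y) splits G-equivariantly. Here, for a vector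
space V over the field with two elements carrying a linear action ρ of a group G, write N_a ⊆ V ⊗ V
for the span of the tensors v ⊗ v and N_s ⊆ N_a for the span of the tensors x ⊗ y + y ⊗ x, so that
S²V = (V ⊗ V)/N_s, Λ²V = (V ⊗ V)/N_a and the surjection S²V → Λ²V, x·y ↦ x ∧ y, is G-equivariant for
the diagonal action; a G-equivariant linear section of this surjection is the same thing as a
G-stable subspace W of V ⊗ V with W ∩ N_a = N_s and W + N_a = V ⊗ V, which is how the splitting is
stated. (G is any group of order 2 here; V is taken finite-dimensional, the case covered by the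
structure theory of finitely generated modules over 𝔽₂[G] that the argument uses.) -/
theorem result (G : Type u) [Group G] (hG : Nat.card G = 2)
    (V : Type v) [AddCommGroup V] [Module (ZMod 2) V] [Module.Finite (ZMod 2) V]
    (ρ : Representation (ZMod 2) G V) :
    ∃ W : Submodule (ZMod 2) (V ⊗[ZMod 2] V),
      (∀ g : G, ∀ w ∈ W, ρ.tprod ρ g w ∈ W) ∧
      W ⊓ Submodule.span (ZMod 2) (Set.range fun v : V => v ⊗ₜ[ZMod 2] v) =
        Submodule.span (ZMod 2) (Set.range fun p : V × V => p.1 ⊗ₜ[ZMod 2] p.2 + p.2 ⊗ₜ[ZMod 2] p.1) ∧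
      W ⊔ Submodule.span (ZMod 2) (Set.range fun v : V => v ⊗ₜ[ZMod 2] v) = ⊤ := by
  classical
  obtain ⟨g0, hg0, hg0u⟩ := (Nat.card_eq_two_iff' (1 : G)).1 hG
  have hg : ∀ g : G, g = 1 ∨ g = g0 := fun g => (em (g = 1)).imp id (hg0u g)
  have hsq : g0 * g0 = 1 := (hg (g0 * g0)).resolve_right fun h => hg0 (mul_eq_left.1 h)
  set s : V →ₗ[ZMod 2] V := ρ g0 with hsdef
  have hss : ∀ x, s (s x) = x := fun x => by
    rw [hsdef, ← Module.End.mul_apply, ← map_mul, hsq, map_one, Module.End.one_apply]
  have htwo : ∀ x : V, x + x = 0 := fun x => by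
    rw [← two_smul (ZMod 2) x, show (2 : ZMod 2) = 0 from by decide, zero_smul]
  let N : V →ₗ[ZMod 2] V := s + LinearMap.id
  have hN : ∀ x, N x = s x + x := fun x => rfl
  let I := LinearMap.range N
  have hsI : ∀ a : I, s (a : V) = a := by
    rintro ⟨_, x, rfl⟩
    simp only [hN, map_add, hss, add_comm]
  obtain ⟨K, hK⟩ := Submodule.exists_isCompl (I.comap (LinearMap.ker N).subtype)
  obtain ⟨sec, hsec⟩ := N.rangeRestrict.exists_rightInverse_of_surjective N.range_rangeRestrict
  have hsec' : ∀ a : I, N (sec a) = a := fun a => congrArg Subtype.val (LinearMap.congr_fun hsec a)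
  let Φ : (I × (I × K)) →ₗ[ZMod 2] V :=
    LinearMap.coprod sec (LinearMap.coprod (s.comp sec) ((LinearMap.ker N).subtype.comp K.subtype))
  have hΦ : ∀ a b k, Φ (a, b, k) = sec a + (s (sec b) + ((k : LinearMap.ker N) : V)) := fun a b k => rfl
  have hinj : Function.Injective Φ := by
    rw [← LinearMap.ker_eq_bot, LinearMap.ker_eq_bot']
    rintro ⟨a, b, k⟩ h
    rw [hΦ] at h
    have hk : N ((k : LinearMap.ker N) : V) = 0 := (k : LinearMap.ker N).2
    have hb : N (s (sec b)) = (b : V) := by rw [hN, hss, add_comm, ← hN, hsec']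
    have h1 := congrArg N h
    rw [map_add, map_add, hsec', hb, hk, add_zero, map_zero] at h1
    have hab : a = b := Subtype.ext (by rw [← add_zero (a : V), ← htwo (b : V), ← add_assoc, h1, zero_add])
    subst hab
    rw [← add_assoc, add_comm (sec a), ← hN, hsec'] at h
    have hak : (a : V) = ((k : LinearMap.ker N) : V) := by
      rw [← add_zero (a : V), ← htwo ((k : LinearMap.ker N) : V), ← add_assoc, h, zero_add]
    have hk0 : (k : LinearMap.ker N) = 0 :=
      Submodule.disjoint_def.1 hK.disjoint _ (by rw [Submodule.mem_comap, Submodule.subtype_apply, ← hak]; exact a.2) k.2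
    have ha0 : a = 0 := Subtype.ext (by rw [hak, hk0]; rfl)
    rw [ha0, show k = 0 from Subtype.ext hk0]
    rfl
  have hsurj : Function.Surjective Φ := by
    intro v
    let a : I := ⟨N v, v, rfl⟩
    have hm : v - sec a ∈ LinearMap.ker N := by
      rw [LinearMap.mem_ker, map_sub, hsec', sub_self]
    obtain ⟨i, hi, k, hk, hik⟩ := Submodule.mem_sup.1 (show (⟨_, hm⟩ : LinearMap.ker N) ∈ I.comap (LinearMap.ker N).subtype ⊔ K by
      rw [hK.sup_eq_top]; trivial)
    refine ⟨(a + ⟨i, hi⟩, ⟨i, hi⟩, ⟨k, hk⟩), ?_⟩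
    have h2 : s (sec ⟨i, hi⟩) + sec ⟨i, hi⟩ = (i : V) := by rw [← hN]; exact hsec' _
    have h3 : (i : V) + (k : V) = v - sec a := congrArg Subtype.val hik
    rw [hΦ, map_add]
    calc sec a + sec ⟨i, hi⟩ + (s (sec ⟨i, hi⟩) + (k : V))
        = sec a + ((s (sec ⟨i, hi⟩) + sec ⟨i, hi⟩) + (k : V)) := by abel
      _ = v := by rw [h2, h3, add_sub_cancel]
  let bI := Module.Free.chooseBasis (ZMod 2) I
  let b := (bI.prod (bI.prod (Module.Free.chooseBasis (ZMod 2) K))).map (LinearEquiv.ofBijective Φ ⟨hinj, hsurj⟩)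
  refine Groth.Agent.S18548.result G V ρ _ b fun g i => ?_
  rcases hg g with rfl | rfl
  · exact ⟨i, by simp⟩
  rw [← hsdef]
  rcases i with j | j | j
  · exact ⟨Sum.inr (Sum.inl j), by simp [b, hΦ]⟩
  · exact ⟨Sum.inl j, by simp [b, hΦ, hss]⟩
  · refine ⟨Sum.inr (Sum.inr j), ?_⟩
    have hkk := ((Module.Free.chooseBasis (ZMod 2) K j : K) : LinearMap.ker N).2
    rw [LinearMap.mem_ker, hN] at hkk
    have hkk' : ∀ x : V, s x + x = 0 → s x = x := fun x hx => by
      rw [← add_zero (s x), ← htwo x, ← add_assoc, hx, zero_add]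
    simpa [b, hΦ] using hkk' _ hkk

end Groth.Agent.S18549
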