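import Mathlib
import Groth.Statements.S18560
-- import your own Groth.Agent.* helpers here

set_option autoImplicit false
universe u v
open PtQuiv

namespace Groth.Agent.S18560

/-- Let K be a field and s i ∈ K² (i in a finite index type) nonzero vectors, regarded as a
representation of the quiver with a central vertex carrying the plane and one vertex per i carrying
a line that maps to the plane by 1 ↦ s i. For a weight θ in the hypersimplex (0 ≤ θ i ≤ 1, Σ θ i =
2, central weight -1) the representation is θ-semistable if and only if, for every vector v, the
indices i with s i on the line K ∙ v have total weight at most 1. (The published statement is over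
an algebraically closed field, assumes semistability for some interior weight instead of s i ≠ 0,
and phrases the bound through the classes of pairwise proportional s i; any field is allowed here.
Its further assertion that the bounding walls, where the total weight of one proportionality class
equals 1, do not meet in the interior of the hypersimplex is not part of this row.) -/
theorem result (K : Type u) [Field K] (ι : Type v) [Fintype ι]
    (s : ι → (Fin 2 → K)) (hs : ∀ i, s i ≠ 0) (θ : ι → ℚ) (h0 : ∀ i, 0 ≤ θ i)
    (h1 : ∀ i, θ i ≤ 1) (h2 : ∑ i, θ i = 2) :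
    PtQuiv.QSemistable (-1) θ s ↔
      ∀ (J : Finset ι) (v : Fin 2 → K), (∀ i ∈ J, s i ∈ K ∙ v) → ∑ i ∈ J, θ i ≤ 1 := by
  have hbot : ∀ (J : Finset ι), (∀ i ∈ J, s i ∈ (⊥ : Submodule K (Fin 2 → K))) → J = ∅ := by
    intro J hJ
    rw [Finset.eq_empty_iff_forall_notMem]
    exact fun i hi => hs i (by simpa using hJ i hi)
  constructor
  · rintro ⟨-, h⟩ J v hJ
    by_cases hv : v = 0
    · subst hv
      rw [hbot J (by simpa using hJ)]; simp
    · have := h (K ∙ v) J hJ
      rw [PtQuiv.QWt, finrank_span_singleton hv] at this
      push_cast at this; linarith
  · intro h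
    refine ⟨by rw [h2]; ring, fun L I hI => ?_⟩
    have hle : Module.finrank K L ≤ 2 := by simpa using Submodule.finrank_le L
    rw [PtQuiv.QWt]
    rcases (by omega : Module.finrank K L = 0 ∨ Module.finrank K L = 1 ∨ Module.finrank K L = 2) with e | e | e
    · have hL : L = ⊥ := Submodule.finrank_eq_zero.mp e
      rw [e, hbot I (by simpa [hL, PtQuiv.QSubrep] using hI)]; simp
    · have hL : L ≠ ⊥ := by intro hL; rw [hL] at e; simp at e
      obtain ⟨v, hv, hv0⟩ := L.exists_mem_ne_zero_of_ne_bot hL
      have hLv : K ∙ v = L := Submodule.eq_of_le_of_finrank_eq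
        ((Submodule.span_singleton_le_iff_mem _ _).mpr hv) (by rw [finrank_span_singleton hv0, e])
      have := h I v (fun i hi => hLv ▸ hI i hi)
      rw [e]; push_cast; linarith
    · have : ∑ i ∈ I, θ i ≤ ∑ i, θ i := Finset.sum_le_univ_sum_of_nonneg h0
      rw [e]; push_cast; linarith

end Groth.Agent.S18560
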