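import Mathlib
import Groth.Statements.S18561
-- import your own Groth.Agent.* helpers here

set_option autoImplicit false
universe u v
open PtQuiv

namespace Groth.Agent.S18561

/-- Let K be a field and s i ∈ K² (i in a finite index type) nonzero vectors, regarded as a
representation of the quiver with a central vertex carrying the plane and one vertex per i carrying
a line mapping to the plane by 1 ↦ s i. Then the representation is stable for some weight of the
hypersimplex (0 ≤ θ i ≤ 1, Σ θ i = 2, central weight -1) if and only if the s i fall into at least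
three proportionality classes, i.e. three of them are pairwise non-proportional. (The published
statement is over an algebraically closed field and assumes semistability for some interior weight
instead of s i ≠ 0; any field is allowed here. Its further assertions, that the set of semistability
weights is full-dimensional exactly in this case and is a wall otherwise, are not part of this row.) -/
theorem result (K : Type u) [Field K] (ι : Type v)
    [Fintype ι] (s : ι → (Fin 2 → K)) (hs : ∀ i, s i ≠ 0) :
    (∃ θ : ι → ℚ, (∀ i, 0 ≤ θ i) ∧ (∀ i, θ i ≤ 1) ∧ ∑ i, θ i = 2 ∧ PtQuiv.QStable (-1) θ s) ↔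
      ∃ i j k : ι, s i ∉ K ∙ s j ∧ s j ∉ K ∙ s k ∧ s i ∉ K ∙ s k := by
  classical
  have hsym : ∀ a b : ι, s a ∈ K ∙ s b → K ∙ s a = K ∙ s b := by
    intro a b h
    exact Submodule.eq_of_le_of_finrank_eq ((Submodule.span_singleton_le_iff_mem _ _).mpr h)
      (by rw [finrank_span_singleton (hs a), finrank_span_singleton (hs b)])
  let cl : ι → Finset ι := fun a => Finset.univ.filter (fun j => s j ∈ K ∙ s a)
  have hmem : ∀ a, a ∈ cl a := fun a => by simp [cl, Submodule.mem_span_singleton_self]
  have hcl : ∀ a b, b ∈ cl a → cl b = cl a := by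
    intro a b hb
    have h := hsym b a (Finset.mem_filter.mp hb).2
    simp only [cl, h]
  constructor
  · rintro ⟨θ, h0, h1, h2, ⟨-, hss⟩, hst⟩
    have hlt : ∀ (a : ι), ∑ j ∈ cl a, θ j < 1 := by
      intro a
      have hsub : PtQuiv.QSubrep s (K ∙ s a) (cl a) := fun j hj => (Finset.mem_filter.mp hj).2
      have hle := hss _ _ hsub
      rw [PtQuiv.QWt, finrank_span_singleton (hs a)] at hle
      push_cast at hle
      rcases lt_or_eq_of_le (by linarith : ∑ j ∈ cl a, θ j ≤ 1) with h | h
      · exact h
      · exfalso
        rcases hst _ _ hsub (by rw [PtQuiv.QWt, finrank_span_singleton (hs a), h]; norm_num) with ⟨hb, -⟩ | ⟨ht, -⟩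
        · exact hs a (by simpa using hb)
        · have := finrank_span_singleton (K := K) (hs a)
          rw [ht, finrank_top] at this; simp at this
    by_contra hc
    push Not at hc
    obtain ⟨i, hi⟩ : ∃ i : ι, True := by
      by_contra h
      haveI : IsEmpty ι := ⟨fun i => h ⟨i, trivial⟩⟩
      simp at h2
    by_cases hall : ∀ j, j ∈ cl i
    · have := hlt i
      rw [Finset.eq_univ_iff_forall.mpr hall, h2] at this; linarith
    · push Not at hall
      obtain ⟨j, hj⟩ := hall
      have hji : s j ∉ K ∙ s i := by simpa [cl] using hj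
      have hcov : Finset.univ ⊆ cl i ∪ cl j := by
        intro k _
        by_contra hk
        simp only [cl, Finset.mem_union, Finset.mem_filter, Finset.mem_univ, true_and, not_or] at hk
        exact hk.1 (hc k j i hk.2 hji)
      have hU : ∑ k, θ k ≤ ∑ k ∈ cl i, θ k + ∑ k ∈ cl j, θ k := by
        calc ∑ k, θ k ≤ ∑ k ∈ cl i ∪ cl j, θ k := Finset.sum_le_sum_of_subset_of_nonneg hcov (fun a _ _ => h0 a)
          _ ≤ _ := by
            rw [← Finset.sum_union_inter]
            exact le_add_of_nonneg_right (Finset.sum_nonneg (fun a _ => h0 a))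
      linarith [hlt i, hlt j]
  · rintro ⟨i, j, k, hij, hjk, hik⟩
    let w : ι → ℚ := fun a => 1 / ((cl a).card : ℚ)
    have hcpos : ∀ a, (0 : ℚ) < ((cl a).card : ℚ) := fun a => by exact_mod_cast Finset.card_pos.mpr ⟨a, hmem a⟩
    have hwpos : ∀ a, 0 < w a := fun a => div_pos one_pos (hcpos a)
    have hone : ∀ a, ∑ b ∈ cl a, w b = 1 := by
      intro a
      rw [Finset.sum_congr rfl (fun b hb => by simp only [w, hcl a b hb] : ∀ b ∈ cl a, w b = 1 / ((cl a).card : ℚ))]
      rw [Finset.sum_const, nsmul_eq_mul, mul_one_div_cancel (hcpos a).ne']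
    have hdis : ∀ a b, s a ∉ K ∙ s b → Disjoint (cl a) (cl b) := by
      intro a b h
      rw [Finset.disjoint_left]
      intro x hx hx'
      simp only [cl, Finset.mem_filter, Finset.mem_univ, true_and] at hx hx'
      exact h (by rw [← hsym x b hx', hsym x a hx]; exact Submodule.mem_span_singleton_self _)
    set c := ∑ a, w a with hcdef
    have hc3 : (3 : ℚ) ≤ c := by
      have := Finset.sum_le_univ_sum_of_nonneg (s := cl i ∪ cl j ∪ cl k) (fun a => (hwpos a).le)
      rw [Finset.sum_union (Finset.disjoint_union_left.mpr ⟨hdis i k hik, hdis j k hjk⟩),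
        Finset.sum_union (hdis i j hij), hone, hone, hone] at this
      linarith
    let θ : ι → ℚ := fun a => 2 * w a / c
    have hθ : ∀ a, 0 < θ a := fun a => div_pos (mul_pos two_pos (hwpos a)) (by linarith)
    have hw1 : ∀ a, w a ≤ 1 := fun a => by
      rw [div_le_one (hcpos a)]; exact_mod_cast Finset.card_pos.mpr ⟨a, hmem a⟩
    have hsum : ∑ a, θ a = 2 := by
      simp only [θ, ← Finset.sum_div, ← Finset.mul_sum, ← hcdef]
      field_simp
    have key : ∀ (L : Submodule K (Fin 2 → K)) (I : Finset ι), PtQuiv.QSubrep s L I →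
        PtQuiv.QWt K (-1) θ L I ≤ 0 ∧ (PtQuiv.QWt K (-1) θ L I = 0 →
          (L = ⊥ ∧ I = ∅) ∨ (L = ⊤ ∧ I = Finset.univ)) := by
      intro L I hI
      have hle : Module.finrank K L ≤ 2 := by simpa using Submodule.finrank_le L
      rw [PtQuiv.QWt]
      rcases (by omega : Module.finrank K L = 0 ∨ Module.finrank K L = 1 ∨ Module.finrank K L = 2) with e | e | e
      · have hL : L = ⊥ := Submodule.finrank_eq_zero.mp e
        have hI0 : I = ∅ := by
          rw [Finset.eq_empty_iff_forall_notMem]
          exact fun a ha => hs a (by simpa [hL] using hI a ha)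
        rw [e, hI0]; exact ⟨by simp, fun _ => Or.inl ⟨hL, rfl⟩⟩
      · have : ∑ a ∈ I, θ a < 1 := by
          by_cases hI0 : I = ∅
          · simp [hI0]
          obtain ⟨a, ha⟩ := Finset.nonempty_of_ne_empty hI0
          have hLv : K ∙ s a = L := Submodule.eq_of_le_of_finrank_eq
            ((Submodule.span_singleton_le_iff_mem _ _).mpr (hI a ha)) (by rw [finrank_span_singleton (hs a), e])
          have hsub : I ⊆ cl a := fun b hb => by simpa [cl, hLv] using hI b hb
          have := Finset.sum_le_sum_of_subset_of_nonneg hsub (fun b _ _ => (hθ b).le)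
          have h3 : ∑ b ∈ cl a, θ b = 2 / c := by
            simp only [θ, ← Finset.sum_div, ← Finset.mul_sum, hone, mul_one]
          have h4 : 2 / c < 1 := by rw [div_lt_one (by linarith)]; linarith
          linarith
        rw [e]; push_cast
        exact ⟨by linarith, fun h => by linarith⟩
      · have hI' : ∑ a ∈ I, θ a ≤ 2 := hsum ▸ Finset.sum_le_univ_sum_of_nonneg (fun a => (hθ a).le)
        rw [e]; push_cast
        refine ⟨by linarith, fun h => Or.inr ⟨?_, ?_⟩⟩
        · exact Submodule.eq_top_of_finrank_eq (by simpa using e)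
        · by_contra hne
          obtain ⟨a, -, ha⟩ := Finset.exists_of_ssubset (Finset.ssubset_univ_iff.mpr hne)
          have := Finset.sum_lt_sum_of_subset (Finset.subset_univ I) (Finset.mem_univ a) ha (hθ a) (fun b _ _ => (hθ b).le)
          linarith
    refine ⟨θ, fun a => (hθ a).le, fun a => ?_, hsum,
      ⟨by rw [hsum]; ring, fun L I h => (key L I h).1⟩, fun L I h => (key L I h).2⟩
    simp only [θ]
    rw [div_le_one (by linarith)]
    linarith [hw1 a]

end Groth.Agent.S18561
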