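import Groth.Statements.S18573
import Groth.Agent.ProjSpaceBC.Basic
import Groth.Agent.S3557

set_option autoImplicit false
universe u
open CategoryTheory AlgebraicGeometry
open REq

namespace Groth.Agent.S18573

/-- Let Y be a scheme over a field k and K a field containing k. Let V and W be closed subsets of Y with
V ∪ W = Y such that no K-point of Y has its image in V ∩ W. If p is a K-point of Y lying in V and q
a K-point of Y lying in W, then p and q are not R-equivalent on Y. (The published step concerns
k-points of the special fibre of a proper flat scheme over a discrete valuation ring, that is K = k;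
this row is stated for any scheme Y over k and K-points for any field K containing k.) -/
theorem result (k : Type u) [Field k] (Y : Scheme.{u})
    (g : Y ⟶ Spec (CommRingCat.of k)) (K : Type u) [Field K] [Algebra k K]
    (V W : Set Y) (hV : IsClosed V) (hW : IsClosed W) (hVW : V ∪ W = Set.univ)
    (hT : ∀ z : REq.Pts g K, ¬ (Set.range z.1.base ⊆ V ∩ W))
    (p q : REq.Pts g K) (hp : Set.range p.1.base ⊆ V) (hq : Set.range q.1.base ⊆ W) :
    ¬ REq.REquiv g K p q := by
  haveI : AlgebraicGeometry.IsIntegral (Proj (CohB1.polyGrading 1 K)) :=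
    (Groth.Agent.S3557.result (CohB1.polyGrading 1 K) (fun f _ hf => hf.eq_zero)).2
      ⟨⟨MvPolynomial.X 0, HomogeneousIdeal.mem_irrelevant_of_mem _ Nat.one_pos (MvPolynomial.isHomogeneous_X _ _),
        MvPolynomial.X_ne_zero 0⟩, fun f _ g _ h => mul_eq_zero.1 h⟩
  haveI : IrreducibleSpace (CohB1.ProjSpace 1 K) := inferInstanceAs (IrreducibleSpace (Proj (CohB1.polyGrading 1 K)))
  haveI : PreirreducibleSpace (REq.P1K K) := by
    constructor
    have h := ((PreirreducibleSpace.isPreirreducible_univ (X := CohB1.ProjSpace 1 K)).image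
      (Groth.Agent.ProjSpaceBC.toOver 1 K).base (Groth.Agent.ProjSpaceBC.toOver 1 K).continuous.continuousOn)
    rwa [Set.image_univ, Set.range_eq_univ.2 (Groth.Agent.ProjSpaceBC.toOver 1 K).surjective] at h
  let P : REq.Pts g K → Prop := fun z => Set.range z.1.base ⊆ V
  have hlink : ∀ A B, REq.ElemLink g K A B → (P A ↔ P B) := by
    rintro A B ⟨U, h, a, b, -, -, -, hA, hB⟩
    have hpre : IsPreirreducible (Set.univ : Set (U : Scheme.{u})) := by
      have : PreirreducibleSpace (U : Scheme.{u}) :=
        Topology.IsOpenEmbedding.preirreducibleSpace U.ι.isOpenEmbedding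
      exact this.isPreirreducible_univ
    have hcov : Set.univ ⊆ h.base ⁻¹' V ∪ h.base ⁻¹' W := fun x _ => by
      have : h.base x ∈ V ∪ W := hVW ▸ Set.mem_univ _
      exact this
    rcases (isPreirreducible_iff_isClosed_union_isClosed.1 hpre) _ _ (hV.preimage h.continuous)
        (hW.preimage h.continuous) hcov with hU | hU
    · have hall : ∀ (C : REq.Pts g K) (c : Spec (CommRingCat.of K) ⟶ (U : Scheme.{u})), c ≫ h = C.1 → P C := by
        intro C c hc
        rintro _ ⟨x, rfl⟩
        rw [← hc]
        exact hU (Set.mem_univ (c.base x))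
      exact ⟨fun _ => hall B b hB, fun _ => hall A a hA⟩
    · have hall : ∀ (C : REq.Pts g K) (c : Spec (CommRingCat.of K) ⟶ (U : Scheme.{u})), c ≫ h = C.1 → ¬ P C := by
        intro C c hc hPC
        refine hT C ?_
        rintro y hy
        refine ⟨hPC hy, ?_⟩
        obtain ⟨x, rfl⟩ := hy
        rw [← hc]
        exact hU (Set.mem_univ (c.base x))
      exact iff_of_false (hall A a hA) (hall B b hB)
  intro h
  have key : P p ↔ P q := by
    clear hp hq
    induction h with
    | rel x y hxy => exact hlink x y hxy
    | refl x => exact Iff.rfl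
    | symm x y hxy ih => exact (ih).symm
    | trans x y z _ _ ih1 ih2 => exact ih1.trans ih2
  exact hT q fun y hy => ⟨key.1 hp hy, hq hy⟩

end Groth.Agent.S18573
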