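import Groth.Statements.S18577
import Mathlib
import Groth.Agent.ProjPoint.Basic
import Groth.Agent.ProjSpaceBC.Basic
-- import your own Groth.Agent.* helpers here

set_option autoImplicit false
universe u
open CategoryTheory AlgebraicGeometry
open REq

namespace Groth.Agent.S18577

open Groth.Agent CategoryTheory.Limits REq

section aux
open HomogeneousLocalization ProjPoint

variable {R : Type u} [CommRing R] {n : ℕ} {T : Type u} [CommRing T]

/-- A point computed on the chart of any linear form not vanishing at it. -/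
theorem point_eq_chart (φ : R →+* T) (v : Fin (n + 1) → T) (i : Fin (n + 1)) (hi : IsUnit (v i))
    (g : MvPolynomial (Fin (n + 1)) R) (hg : g ∈ CohB1.polyGrading n R 1)
    (hgu : IsUnit (MvPolynomial.eval₂Hom φ v g)) :
    point φ v i hi = Spec.map (CommRingCat.ofHom (evalAway φ v g hgu)) ≫
      Proj.awayι (CohB1.polyGrading n R) g hg one_pos := by
  have hxu : IsUnit (MvPolynomial.eval₂Hom φ v (MvPolynomial.X i * g)) := by
    rw [map_mul]; exact (isUnit_eval_X hi).mul hgu
  rw [point, ← evalAway_comp_awayMap φ v hg rfl (isUnit_eval_X hi) hxu,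
    ← evalAway_comp_awayMap φ v (X_mem i) (mul_comm _ _) hgu hxu,
    CommRingCat.ofHom_comp, CommRingCat.ofHom_comp, Spec.map_comp, Spec.map_comp,
    Category.assoc, Category.assoc, Proj.SpecMap_awayMap_awayι, Proj.SpecMap_awayMap_awayι]

/-- Points lie over the expected point of the base. -/
theorem point_toSpec (φ : R →+* T) (v : Fin (n + 1) → T) (i : Fin (n + 1)) (hi : IsUnit (v i)) :
    point φ v i hi ≫ CohB1.ProjSpace.toSpec n R = Spec.map (CommRingCat.ofHom φ) := by
  unfold CohB1.ProjSpace.toSpec CohB1.ProjSpace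
  rw [point, Category.assoc, Proj.awayι_toSpecZero_assoc, ← Spec.map_comp, ← Spec.map_comp]
  congr 1
  ext r
  show IsLocalization.Away.lift (S := Localization.Away (MvPolynomial.X i : MvPolynomial (Fin (n + 1)) R))
    (MvPolynomial.X i) (isUnit_eval_X hi) (HomogeneousLocalization.mk _ : Away _ _).val = φ r
  rw [HomogeneousLocalization.val_mk, Localization.mk_eq_mk', ]
  erw [IsLocalization.mk'_one, IsLocalization.Away.lift_eq]
  exact MvPolynomial.eval₂_C φ v r

/-- Every point with values in a field has coordinates. -/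
theorem exists_point {K : Type u} [Field K] (p : Spec (CommRingCat.of K) ⟶ Proj (CohB1.polyGrading n R)) :
    ∃ (φ : R →+* K) (v : Fin (n + 1) → K) (i : Fin (n + 1)) (hi : IsUnit (v i)), p = point φ v i hi := by
  let pt : Spec (CommRingCat.of K) := (⊥ : PrimeSpectrum K)
  obtain ⟨i, hi⟩ := TopologicalSpace.Opens.mem_iSup.mp
    (show p pt ∈ ⨆ i, Proj.basicOpen (CohB1.polyGrading n R) (MvPolynomial.X i) by
      rw [iSup_basicOpen_X]; trivial)
  let ι := Proj.awayι (CohB1.polyGrading n R) (MvPolynomial.X i) (X_mem i) one_pos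
  have hr : Set.range p ⊆ Set.range ι := by
    rintro _ ⟨y, rfl⟩
    obtain rfl : y = pt := Subsingleton.elim (α := PrimeSpectrum K) _ _
    show p pt ∈ ι.opensRange
    rw [Proj.opensRange_awayι]
    exact hi
  refine ⟨_, _, i, _, ((IsOpenImmersion.lift_fac ι p hr).symm.trans ?_).trans
    (SpecMap_awayι_eq_point i (Spec.preimage (IsOpenImmersion.lift ι p hr)).hom)⟩
  rw [CommRingCat.ofHom_hom, Spec.map_preimage]

variable {K : Type u} [Field K] (v w : Fin (n + 1) → K)

/-- The ring map defining the line through two points. -/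
noncomputable def lineRingHom : MvPolynomial (Fin (n + 1)) (ULift.{u} ℤ) →+* MvPolynomial (Fin 2) K :=
  MvPolynomial.eval₂Hom (MvPolynomial.C.comp (ProjSpaceBC.zHom K))
    (fun j => MvPolynomial.C (v j) * MvPolynomial.X 0 + MvPolynomial.C (w j) * MvPolynomial.X 1)

theorem lineRingHom_mem {d : ℕ} (p : MvPolynomial (Fin (n + 1)) (ULift.{u} ℤ))
    (hp : MvPolynomial.IsHomogeneous p d) : MvPolynomial.IsHomogeneous (lineRingHom v w p) d := by
  have h := MvPolynomial.IsHomogeneous.eval₂ (n := 1) hp (MvPolynomial.C.comp (ProjSpaceBC.zHom K))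
    (fun j => MvPolynomial.C (v j) * MvPolynomial.X (0 : Fin 2) + MvPolynomial.C (w j) * MvPolynomial.X (1 : Fin 2))
    (fun r => MvPolynomial.isHomogeneous_C _ _)
    (fun j => ((MvPolynomial.isHomogeneous_X K (0 : Fin 2)).C_mul (v j)).add
      ((MvPolynomial.isHomogeneous_X K (1 : Fin 2)).C_mul (w j)))
  rw [one_mul] at h
  exact h

/-- The graded map defining the line through two points. -/
noncomputable def lineHom : CohB1.polyGrading n (ULift.{u} ℤ) →+*ᵍ CohB1.polyGrading 1 K :=
  { lineRingHom v w with map_mem := fun {_ p} hp => lineRingHom_mem v w p hp }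

theorem lineHom_apply (p : MvPolynomial (Fin (n + 1)) (ULift.{u} ℤ)) :
    lineHom v w p = MvPolynomial.eval₂Hom (MvPolynomial.C.comp (ProjSpaceBC.zHom K))
      (fun j => MvPolynomial.C (v j) * MvPolynomial.X 0 + MvPolynomial.C (w j) * MvPolynomial.X 1) p := rfl

theorem lineHom_irrelevant (h : LinearIndependent K ![v, w]) :
    HomogeneousIdeal.irrelevant (CohB1.polyGrading 1 K) ≤
      (HomogeneousIdeal.irrelevant (CohB1.polyGrading n (ULift.{u} ℤ))).map (lineHom v w) := by
  show (HomogeneousIdeal.irrelevant (CohB1.polyGrading 1 K)).toIdeal ≤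
    ((HomogeneousIdeal.irrelevant (CohB1.polyGrading n (ULift.{u} ℤ))).map (lineHom v w)).toIdeal
  set J := ((HomogeneousIdeal.irrelevant (CohB1.polyGrading n (ULift.{u} ℤ))).map (lineHom v w)).toIdeal
  obtain ⟨g, hg⟩ := (Fintype.linearCombination K ![v, w]).exists_leftInverse_of_injective
    (LinearMap.ker_eq_bot.mpr h.fintypeLinearCombination_injective)
  have hX : ∀ a : Fin 2, (MvPolynomial.X a : MvPolynomial (Fin 2) K) ∈ J := fun a => by
    let c : Fin (n + 1) → K := fun j => g (Pi.single j 1) a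
    have hc : ∀ u : Fin (n + 1) → K, g u a = ∑ j, c j * u j := fun u => by
      conv_lhs => rw [pi_eq_sum_univ' u]
      simp [c, mul_comm]
    have hv : ∑ j, c j * v j = (Pi.single 0 1 : Fin 2 → K) a := by
      rw [← hc]
      have h1 := congrFun (DFunLike.congr_fun hg (Pi.single (0 : Fin 2) (1 : K))) a
      simpa [Fintype.linearCombination_apply] using h1
    have hw : ∑ j, c j * w j = (Pi.single 1 1 : Fin 2 → K) a := by
      rw [← hc]
      have h1 := congrFun (DFunLike.congr_fun hg (Pi.single (1 : Fin 2) (1 : K))) a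
      simpa [Fintype.linearCombination_apply] using h1
    have hmem : (∑ j, MvPolynomial.C (c j) * lineHom v w (MvPolynomial.X j) : MvPolynomial (Fin 2) K) ∈ J :=
      Ideal.sum_mem _ fun j _ => Ideal.mul_mem_left _ _
        (Ideal.mem_map_of_mem _ (HomogeneousIdeal.mem_irrelevant_of_mem _ one_pos (X_mem j)))
    convert hmem using 1
    simp only [lineHom_apply, MvPolynomial.eval₂Hom_X', mul_add, ← mul_assoc, ← map_mul, Finset.sum_add_distrib,
      ← Finset.sum_mul, ← map_sum, hv, hw]
    fin_cases a <;> simp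
  refine (HomogeneousIdeal.toIdeal_irrelevant_le _).mpr fun d hd p hp => ?_
  rw [MvPolynomial.as_sum p]
  refine Ideal.sum_mem _ fun m hm => ?_
  obtain ⟨a, ha⟩ : ∃ a, m a ≠ 0 := by
    by_contra hc
    push Not at hc
    have := hp (MvPolynomial.mem_support_iff.mp hm)
    simp [show m = 0 from Finsupp.ext hc] at this
    omega
  refine Ideal.mem_of_dvd _ ?_ (hX a)
  rw [MvPolynomial.X_dvd_monomial]
  exact Or.inr ha

/-- The line map sends the point with coordinates `e` to `e₀ v + e₁ w`. -/
theorem point_comp_line (h : LinearIndependent K ![v, w]) (e : Fin 2 → K) (i : Fin 2) (hi : IsUnit (e i))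
    (l : Fin (n + 1)) (hl : IsUnit (v l * e 0 + w l * e 1)) :
    point (RingHom.id K) e i hi ≫ Proj.map (lineHom v w) (lineHom_irrelevant v w h) =
      point (ProjSpaceBC.zHom K) (fun j => v j * e 0 + w j * e 1) l hl := by
  have hev : ∀ p, MvPolynomial.eval₂Hom (RingHom.id K) e (lineHom v w p) =
      MvPolynomial.eval₂Hom (ProjSpaceBC.zHom K) (fun j => v j * e 0 + w j * e 1) p := fun p => by
    rw [lineHom_apply, MvPolynomial.map_eval₂Hom]
    refine MvPolynomial.eval₂Hom_congr ?_ (funext fun j => ?_) rfl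
    · ext r; simp
    · simp
  have hgu : IsUnit (MvPolynomial.eval₂Hom (RingHom.id K) e (lineHom v w (MvPolynomial.X l))) := by
    rw [hev]; exact isUnit_eval_X hl
  rw [point_eq_chart _ e i hi _ ((lineHom v w).2 (X_mem l)) hgu, Category.assoc]
  erw [Proj.awayι_comp_map (hs := X_mem l)]
  rw [← Spec.map_comp_assoc, point]
  congr 2
  ext z
  obtain ⟨k, a, ha, rfl⟩ := Away.mk_surjective _ (X_mem l) z
  show evalAway _ e _ hgu (Away.map (lineHom v w) _ (Away.mk _ (X_mem l) k a ha)) = _
  rw [Away.map_mk]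
  refine ((isUnit_eval_X (φ := ProjSpaceBC.zHom K) (v := fun j => v j * e 0 + w j * e 1) hl).pow k).mul_left_injective ?_
  dsimp only
  simp only [CommRingCat.hom_ofHom]
  rw [evalAway_mk _ _ (isUnit_eval_X hl) (X_mem l) k a ha, ← hev (MvPolynomial.X l), ← hev a]
  exact evalAway_mk _ _ hgu _ k _ _

theorem comp_lift_fst {C : Type*} [Category C] {P0 X1 Y W Q Q' : C} [HasPullbacks C] (p : P0 ⟶ X1) (t : X1 ⟶ Y) [IsIso t]
    (m : X1 ⟶ Q) {q : Q ⟶ W} {q' : Q' ⟶ W} (g : Y ⟶ Q') (h : (inv t ≫ m) ≫ q = g ≫ q') :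
    ((p ≫ t) ≫ pullback.lift (inv t ≫ m) g h) ≫ pullback.fst q q' = p ≫ m := by
  rw [Category.assoc, Category.assoc, pullback.lift_fst, IsIso.hom_inv_id_assoc]

theorem comp_lift_snd {C : Type*} [Category C] {P0 Y Y' W Q Q' : C} [HasPullbacks C] (s : P0 ⟶ Y) (a : Y ⟶ Q)
    {q : Q ⟶ W} {q' : Q' ⟶ W} (T : Y ⟶ Y') (g : Y' ⟶ Q') (h : a ≫ q = (T ≫ g) ≫ q') (hs : s ≫ T ≫ g = s ≫ T ≫ g) :
    (s ≫ pullback.lift a (T ≫ g) h) ≫ pullback.snd q q' = (s ≫ T) ≫ g := by
  rw [Category.assoc, pullback.lift_snd, Category.assoc]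

end aux

/-- Let k be a field, V an open subscheme of projective n-space over k and K a field containing k. Then
any two K-points of V are directly R-linked in V: there are an open subscheme of the projective line
over K, a morphism from it to V over k, and two K-rational points of that open mapping to the given
points. (The published remark concerns k-points; this row is stated for K-points, K any field
containing k.) -/
theorem result (k : Type u) [Field k] (n : ℕ)
    (V : (CohB1.ProjSpaceOver n (Spec (CommRingCat.of k))).Opens) (K : Type u) [Field K] [Algebra k K]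
    (A B : REq.Pts (V.ι ≫ CohB1.ProjSpaceOver.toBase n (Spec (CommRingCat.of k))) K) :
    REq.ElemLink (V.ι ≫ CohB1.ProjSpaceOver.toBase n (Spec (CommRingCat.of k))) K A B := by
  classical
  let Z : Type u := ULift.{u} ℤ
  let S := Spec (CommRingCat.of k)
  let T : P1K K ⟶ Spec (CommRingCat.of K) := P1K.toSpec K
  let sec : (e : Fin 2 → K) → (i : Fin 2) → IsUnit (e i) → (Spec (CommRingCat.of K) ⟶ P1K K) :=
    fun e i hi => ProjPoint.point (RingHom.id K) e i hi ≫ ProjSpaceBC.toOver 1 K
  have hsec : ∀ e i hi, sec e i hi ≫ T = 𝟙 _ := fun e i hi => by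
    simp only [sec, T, P1K.toSpec, CohB1.ProjSpaceOver.toBase]
    erw [Category.assoc, ProjSpaceBC.toOver_snd, point_toSpec]
    exact Spec.map_id _
  let e0 : Fin 2 → K := ![1, 0]
  let e1 : Fin 2 → K := ![0, 1]
  have he0 : IsUnit (e0 0) := by simp [e0]
  have he1 : IsUnit (e1 1) := by simp [e1]
  by_cases hAB : A.1 = B.1
  · refine ⟨⊤, Scheme.Opens.ι _ ≫ T ≫ A.1, sec e0 0 he0 ≫ (Scheme.topIso _).inv,
      sec e0 0 he0 ≫ (Scheme.topIso _).inv, ?_, ?_, ?_, ?_, ?_⟩
    · simp only [Category.assoc, A.2]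
      rfl
    all_goals simp only [← Scheme.topIso_hom, Category.assoc, Iso.inv_hom_id_assoc, ← hAB]
    all_goals try exact hsec e0 0 he0
    all_goals rw [← Category.assoc, hsec]; exact Category.id_comp _
  let A' : Spec (CommRingCat.of K) ⟶ Proj (CohB1.polyGrading n Z) := A.1 ≫ V.ι ≫ pullback.fst _ _
  let B' : Spec (CommRingCat.of K) ⟶ Proj (CohB1.polyGrading n Z) := B.1 ≫ V.ι ≫ pullback.fst _ _
  obtain ⟨φA, v, iA, hvA, hA⟩ := exists_point A'
  obtain ⟨φB, w, iB, hwB, hB⟩ := exists_point B'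
  obtain rfl : φA = ProjSpaceBC.zHom K := RingHom.ext_int
    (f := φA.comp ULift.ringEquiv.symm.toRingHom) (g := Int.castRingHom K) |> fun h => by
      refine RingHom.ext fun x => ?_
      obtain ⟨x⟩ := x
      exact DFunLike.congr_fun h x
  obtain rfl : φB = ProjSpaceBC.zHom K := RingHom.ext_int
    (f := φB.comp ULift.ringEquiv.symm.toRingHom) (g := Int.castRingHom K) |> fun h => by
      refine RingHom.ext fun x => ?_
      obtain ⟨x⟩ := x
      exact DFunLike.congr_fun h x
  have hind : LinearIndependent K ![v, w] := by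
    rw [LinearIndependent.pair_iff' (fun h0 => hvA.ne_zero (congrFun h0 iA))]
    intro c hc
    apply hAB
    have hc' : ∀ j, w j = c * v j := fun j => (congrFun hc j).symm
    have hcu : IsUnit c := (IsUnit.mul_iff.mp ((hc' iB) ▸ hwB)).1
    rw [← cancel_mono V.ι]
    refine pullback.hom_ext ?_ ?_
    · refine (Category.assoc _ _ _).trans (Eq.trans ?_ (Category.assoc _ _ _).symm)
      show A' = B'
      rw [hA, hB, ProjPoint.point_eq _ hcu hc' iA iB hvA hwB]
    · refine (Category.assoc _ _ _).trans (Eq.trans ?_ (Category.assoc _ _ _).symm)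
      exact A.2.trans B.2.symm
  let ℓ : P1K K ⟶ CohB1.ProjSpaceOver n S :=
    pullback.lift (inv (ProjSpaceBC.toOver 1 K) ≫ Proj.map (lineHom v w) (lineHom_irrelevant v w hind))
      (T ≫ REq.specMap k K) (specULiftZIsTerminal.hom_ext _ _)
  have hℓ : ∀ (e : Fin 2 → K) i hi (l : Fin (n + 1)) (u : Fin (n + 1) → K) (hu : IsUnit (u l))
      (_ : (fun j => v j * e 0 + w j * e 1) = u) (P : Spec (CommRingCat.of K) ⟶ CohB1.ProjSpaceOver n S),
      P ≫ pullback.fst _ _ = ProjPoint.point (ProjSpaceBC.zHom K) u l hu →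
      P ≫ CohB1.ProjSpaceOver.toBase n S = REq.specMap k K → sec e i hi ≫ ℓ = P := by
    intro e i hi l u hu hue P h1 h2
    subst hue
    refine pullback.hom_ext ?_ ?_
    · refine Eq.trans ?_ h1.symm
      exact (comp_lift_fst (X1 := CohB1.ProjSpace 1 K) (Y := CohB1.ProjSpaceOver 1 (Spec (CommRingCat.of K))) _ (ProjSpaceBC.toOver 1 K) _ _ _).trans (point_comp_line v w hind e i hi l hu)
    · refine Eq.trans ?_ h2.symm
      exact (comp_lift_snd _ _ _ _ _ rfl).trans ((congrArg (· ≫ REq.specMap k K) (hsec e i hi)).trans (Category.id_comp _))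
  have ha := hℓ e0 0 he0 iA v hvA (funext fun j => by simp [e0]) (A.1 ≫ V.ι)
    (by rw [Category.assoc]; exact hA) (by rw [Category.assoc]; exact A.2)
  have hb := hℓ e1 1 he1 iB w hwB (funext fun j => by simp [e1]) (B.1 ≫ V.ι)
    (by rw [Category.assoc]; exact hB) (by rw [Category.assoc]; exact B.2)
  let U : (P1K K).Opens := ℓ ⁻¹ᵁ V
  have hmem : ∀ (s : Spec (CommRingCat.of K) ⟶ P1K K) (P : Spec (CommRingCat.of K) ⟶ (V : Scheme.{u})),
      s ≫ ℓ = P ≫ V.ι → Set.range s ⊆ Set.range U.ι := by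
    rintro s P hs _ ⟨y, rfl⟩
    rw [Scheme.Opens.range_ι]
    show ℓ (s y) ∈ V
    rw [← Scheme.Hom.comp_apply, hs, Scheme.Hom.comp_apply]
    exact (P y).2
  refine ⟨U, ℓ ∣_ V, IsOpenImmersion.lift U.ι _ (hmem _ _ ha), IsOpenImmersion.lift U.ι _ (hmem _ _ hb),
    ?_, ?_, ?_, ?_, ?_⟩
  · rw [← Category.assoc, morphismRestrict_ι, Category.assoc]
    congr 1
    simp only [ℓ]
    exact pullback.lift_snd _ _ _
  · rw [IsOpenImmersion.lift_fac_assoc]; exact hsec _ _ _
  · rw [IsOpenImmersion.lift_fac_assoc]; exact hsec _ _ _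
  · rw [← cancel_mono V.ι, Category.assoc, morphismRestrict_ι, IsOpenImmersion.lift_fac_assoc]
    exact ha
  · rw [← cancel_mono V.ι, Category.assoc, morphismRestrict_ι, IsOpenImmersion.lift_fac_assoc]
    exact hb


end Groth.Agent.S18577
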