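import Groth.Statements.S18578
import Mathlib
import Groth.Agent.ArtinFlat.HB
import Groth.Agent.AuslBuchs.Ufd
-- import your own Groth.Agent.* helpers here

set_option autoImplicit false
universe u
open LogDiff

namespace Groth.Agent.S18578

open TensorProduct in
/-- A form regular along a prime cannot have a logarithmic pole along it. -/
theorem no_pole {k R K : Type u} [Field k] [CharZero k] [CommRing R] [IsDomain R] [IsNoetherianRing R]
    [Algebra k R] [Algebra.FormallySmooth k R] [Algebra.EssFiniteType k R]
    [Field K] [Algebra R K] [IsFractionRing R K] [Algebra k K] [IsScalarTower k R K]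
    {r : ℕ} (f : Fin r → R) (π : R) (hπ : Prime π) (hπf : ∀ i, ¬ π ∣ f i)
    (a b : R) (ha : a ≠ 0) (hab : π ∣ a) (hb : ¬ π ∣ b) (η : Ω[R⁄k]) (c : Fin r → R)
    (h : (algebraMap R K a)⁻¹ • KaehlerDifferential.D k K (algebraMap R K a) -
        (algebraMap R K b)⁻¹ • KaehlerDifferential.D k K (algebraMap R K b) =
      KaehlerDifferential.map k k R K η +
        ∑ i, (algebraMap R K (c i) * (algebraMap R K (f i))⁻¹) •
          KaehlerDifferential.D k K (algebraMap R K (f i))) : False := by
  classical
  obtain ⟨e, a', ha', rfl⟩ := WfDvdMonoid.max_power_factor ha hπ.irreducible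
  have he : e ≠ 0 := by rintro rfl; exact ha' (by simpa using hab)
  let P := Ideal.span {π}
  haveI hP : P.IsPrime := (Ideal.span_singleton_prime hπ.ne_zero).2 hπ
  have hmemP : ∀ x, x ∈ P ↔ π ∣ x := fun x => Ideal.mem_span_singleton
  let R' := Localization.AtPrime P
  have hle : P.primeCompl ≤ nonZeroDivisors R := P.primeCompl_le_nonZeroDivisors
  letI : Algebra R' K := (IsLocalization.lift (S := R') (M := P.primeCompl) (g := algebraMap R K)
    (fun y => IsLocalization.map_units K (⟨y.1, hle y.2⟩ : nonZeroDivisors R))).toAlgebra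
  haveI : IsScalarTower R R' K := IsScalarTower.of_algebraMap_eq fun x => (IsLocalization.lift_eq _ x).symm
  haveI : IsScalarTower k R' K := IsScalarTower.of_algebraMap_eq fun x => by
    rw [IsScalarTower.algebraMap_apply k R K, IsScalarTower.algebraMap_apply k R R',
      ← IsScalarTower.algebraMap_apply R R' K]
  haveI : IsDomain R' := IsLocalization.isDomain_of_le_nonZeroDivisors _ hle
  haveI : IsFractionRing R' K := IsFractionRing.isFractionRing_of_isDomain_of_isLocalization P.primeCompl R' K
  haveI : Algebra.FormallySmooth R R' := Algebra.FormallySmooth.of_isLocalization P.primeCompl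
  haveI : Algebra.FormallySmooth k R' := Algebra.FormallySmooth.comp k R R'
  haveI : Algebra.EssFiniteType k R' := Algebra.EssFiniteType.comp k R R'
  let ρ : Ω[R'⁄k] →ₗ[R'] Ω[K⁄k] := KaehlerDifferential.map k k R' K
  haveI : IsLocalizedModule (nonZeroDivisors R') ρ := KaehlerDifferential.isLocalizedModule_map k R' K (nonZeroDivisors R')
  have hρ : Function.Injective ρ := by
    intro x y hxy
    obtain ⟨s, hs⟩ := IsLocalizedModule.exists_of_eq (S := nonZeroDivisors R') (f := ρ) hxy
    exact smul_right_injective _ (nonZeroDivisors.ne_zero s.2) hs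
  have hu : ∀ x : R, ¬ π ∣ x → IsUnit (algebraMap R R' x) := fun x hx =>
    IsLocalization.map_units R' (⟨x, fun h => hx ((hmemP x).1 h)⟩ : P.primeCompl)
  have hdlog : ∀ x : R, ¬ π ∣ x → ∃ ω : Ω[R'⁄k],
      (algebraMap R K x)⁻¹ • KaehlerDifferential.D k K (algebraMap R K x) = ρ ω := by
    intro x hx
    obtain ⟨u, hu'⟩ := hu x hx
    refine ⟨(↑u⁻¹ : R') • KaehlerDifferential.D k R' (algebraMap R R' x), ?_⟩
    rw [map_smul, KaehlerDifferential.map_D, ← IsScalarTower.algebraMap_apply, IsScalarTower.algebraMap_apply R R' K,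
      ← hu', ← algebraMap_smul K (↑u⁻¹ : R'), map_units_inv]
  have hη : ∀ η : Ω[R⁄k], KaehlerDifferential.map k k R K η = ρ (KaehlerDifferential.map k k R R' η) := by
    intro η
    have hmem : η ∈ Submodule.span R (Set.range (KaehlerDifferential.D k R)) := by
      rw [KaehlerDifferential.span_range_derivation]; trivial
    induction hmem using Submodule.span_induction with
    | mem x hx =>
      obtain ⟨y, rfl⟩ := hx
      simp only [ρ, KaehlerDifferential.map_D]
      rw [← IsScalarTower.algebraMap_apply]
    | zero => simp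
    | add x y _ _ hx hy => simp only [map_add, hx, hy]
    | smul s x _ hx => rw [map_smul, map_smul, hx, LinearMap.map_smul_of_tower]
  obtain ⟨ω₁, hω₁⟩ := hdlog a' ha'
  obtain ⟨ω₂, hω₂⟩ := hdlog b hb
  choose w hw using fun i => hdlog (f i) (hπf i)
  let ω : Ω[R'⁄k] := KaehlerDifferential.map k k R R' η + (∑ i, algebraMap R R' (c i) • w i) - ω₁ + ω₂
  have hπK : algebraMap R K π ≠ 0 := (map_ne_zero_iff _ (IsFractionRing.injective R K)).2 hπ.ne_zero
  have ha'K : algebraMap R K a' ≠ 0 :=
    (map_ne_zero_iff _ (IsFractionRing.injective R K)).2 fun h => ha' (h ▸ dvd_zero π)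
  have key : (e : K) • ((algebraMap R K π)⁻¹ • KaehlerDifferential.D k K (algebraMap R K π)) = ρ ω := by
    have h1 : (algebraMap R K (π ^ e * a'))⁻¹ • KaehlerDifferential.D k K (algebraMap R K (π ^ e * a')) =
        (e : K) • ((algebraMap R K π)⁻¹ • KaehlerDifferential.D k K (algebraMap R K π)) + ρ ω₁ := by
      rw [← hω₁, map_mul, map_pow, Derivation.leibniz, Derivation.leibniz_pow, smul_add, add_comm]
      set d := KaehlerDifferential.D k K (algebraMap R K π)
      set p := algebraMap R K π
      set q := algebraMap R K a'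
      simp only [← Nat.cast_smul_eq_nsmul K, smul_smul]
      congr 2
      · obtain ⟨e', rfl⟩ := Nat.exists_eq_succ_of_ne_zero he
        rw [Nat.succ_sub_one, pow_succ]
        field_simp
      · field_simp
    rw [h1, hω₂] at h
    have h2 : ∑ i, (algebraMap R K (c i) * (algebraMap R K (f i))⁻¹) • KaehlerDifferential.D k K (algebraMap R K (f i)) =
        ρ (∑ i, algebraMap R R' (c i) • w i) := by
      rw [map_sum]
      refine Finset.sum_congr rfl fun i _ => ?_
      rw [mul_smul, hw, map_smul, ← algebraMap_smul K (algebraMap R R' (c i)), ← IsScalarTower.algebraMap_apply]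
    rw [hη, h2] at h
    simp only [ω, map_add, map_sub]
    rw [← h]
    abel
  have key' : (e : R') • KaehlerDifferential.D k R' (algebraMap R R' π) = algebraMap R R' π • ω := by
    apply hρ
    rw [map_smul, map_smul, KaehlerDifferential.map_D, ← IsScalarTower.algebraMap_apply, ← key,
      ← algebraMap_smul K (e : R'), map_natCast, ← algebraMap_smul K (algebraMap R R' π),
      ← IsScalarTower.algebraMap_apply, smul_smul, smul_smul]
    congr 1
    field_simp
  -- the conormal map is split injective
  let κ := IsLocalRing.ResidueField R'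
  haveI : Algebra.EssFiniteType R' κ := inferInstance
  haveI : Algebra.EssFiniteType k κ := Algebra.EssFiniteType.comp k R' κ
  haveI : Algebra.FormallySmooth k κ := inferInstance
  obtain ⟨l, hl⟩ := (Algebra.FormallySmooth.iff_split_injection (R := k) (P := R') (A := κ)
    IsLocalRing.residue_surjective).1 inferInstance
  have hm : IsLocalRing.maximalIdeal R' = Ideal.span {algebraMap R R' π} := by
    rw [← Localization.AtPrime.map_eq_maximalIdeal, Ideal.map_span, Set.image_singleton]
  have hπker : algebraMap R R' π ∈ RingHom.ker (algebraMap R' κ) := by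
    rw [RingHom.mem_ker]
    exact (IsLocalRing.residue_eq_zero_iff _).2 (by rw [hm]; exact Ideal.mem_span_singleton_self _)
  have h0 : (1 : κ) ⊗ₜ[R'] KaehlerDifferential.D k R' (algebraMap R R' π) = 0 := by
    have h3 := congrArg (fun z => (1 : κ) ⊗ₜ[R'] z) key'
    simp only [TensorProduct.tmul_smul] at h3
    rw [TensorProduct.smul_tmul' (algebraMap R R' π), Algebra.smul_def (algebraMap R R' π) (1 : κ),
      RingHom.mem_ker.1 hπker, zero_mul, TensorProduct.zero_tmul, ← algebraMap_smul κ (e : R'), map_natCast] at h3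
    haveI : CharZero κ := charZero_of_injective_algebraMap (algebraMap k κ).injective
    exact (smul_eq_zero.1 h3).resolve_left (Nat.cast_ne_zero.2 he)
  have h4 : Ideal.toCotangent _ (⟨_, hπker⟩ : RingHom.ker (algebraMap R' κ)) = 0 := by
    have h5 := LinearMap.congr_fun hl (Ideal.toCotangent _ (⟨_, hπker⟩ : RingHom.ker (algebraMap R' κ)))
    rw [LinearMap.comp_apply, KaehlerDifferential.kerCotangentToTensor_toCotangent, h0, map_zero] at h5
    exact h5.symm
  rw [Ideal.toCotangent_eq_zero] at h4
  change algebraMap R R' π ∈ RingHom.ker (algebraMap R' κ) ^ 2 at h4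
  rw [show RingHom.ker (algebraMap R' κ) = IsLocalRing.maximalIdeal R' from
    IsLocalRing.ker_residue, hm, Ideal.span_singleton_pow, Ideal.mem_span_singleton] at h4
  obtain ⟨z, hz⟩ := h4
  have hne : algebraMap R R' π ≠ 0 :=
    (map_ne_zero_iff _ (IsLocalization.injective R' hle)).2 hπ.ne_zero
  have hunit : IsUnit (algebraMap R R' π) := by
    refine IsUnit.of_mul_eq_one z (mul_left_cancel₀ hne ?_)
    rw [mul_one, ← mul_assoc, ← pow_two]
    exact hz.symm
  exact (IsLocalRing.notMem_maximalIdeal.2 hunit) (by rw [hm]; exact Ideal.mem_span_singleton_self _)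

/-- The degree-one case, stated at the local ring of a point. Let k be a field of characteristic zero, B
a smooth k-algebra, R the localization of B at a prime ideal, K the fraction field of R and f_1, …,
f_r prime elements of R. If g is a unit of K whose logarithmic differential g⁻¹dg in Ω_{K/k} is the
image of a form η ∈ Ω_{R/k} plus an R-linear combination Σ c_i f_i⁻¹df_i, then g⁻¹dg = v⁻¹dv + Σ b_i
f_i⁻¹df_i for a unit v of R and integers b_i. (When the f_i are part of a regular system of
parameters the hypothesis says that g⁻¹dg has at worst logarithmic poles along the divisor f_1⋯f_r =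
0 at this point, and the statement is the stalkwise injectivity of 1-forms with logarithmic poles
modulo logarithmic differentials of functions invertible off the divisor into Ω¹_K modulo
logarithmic differentials; it is stated here for arbitrary prime elements f_i.) -/
theorem result
    {k B R K : Type u} [Field k] [CharZero k] [CommRing B] [Algebra k B] [Algebra.Smooth k B]
    (p : Ideal B) [p.IsPrime] [CommRing R] [Algebra B R] [IsLocalization.AtPrime R p]
    [Algebra k R] [IsScalarTower k B R]
    [Field K] [Algebra R K] [IsFractionRing R K] [Algebra k K] [IsScalarTower k R K]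
    {r : ℕ} (f : Fin r → R) (hf : ∀ i, Prime (f i))
    (g : Kˣ) (η : Ω[R⁄k]) (c : Fin r → R)
    (h : (g : K)⁻¹ • KaehlerDifferential.D k K (g : K) =
      KaehlerDifferential.map k k R K η +
        ∑ i, (algebraMap R K (c i) * (algebraMap R K (f i))⁻¹) •
          KaehlerDifferential.D k K (algebraMap R K (f i))) :
    ∃ (v : Rˣ) (b : Fin r → ℤ),
      (g : K)⁻¹ • KaehlerDifferential.D k K (g : K) =
        (algebraMap R K (v : R))⁻¹ • KaehlerDifferential.D k K (algebraMap R K (v : R)) +
          ∑ i, ((b i : K) * (algebraMap R K (f i))⁻¹) •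
            KaehlerDifferential.D k K (algebraMap R K (f i)) := by
  classical
  haveI := ArtinFlat.HB.isRegularRing_of_smooth k B
  haveI hreg : IsRegularLocalRing (Localization.AtPrime p) := IsRegularRing.isRegularLocalRing_localization p
  haveI : IsRegularLocalRing R :=
    IsRegularLocalRing.of_ringEquiv (IsLocalization.algEquiv p.primeCompl (Localization.AtPrime p) R).toRingEquiv
  haveI := DepthLib.isDomain_of_isRegularLocalRing R
  haveI := AuslBuchs.uniqueFactorizationMonoid_of_isRegularLocalRing R
  haveI : Algebra.FormallySmooth B R := Algebra.FormallySmooth.of_isLocalization p.primeCompl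
  haveI : Algebra.FormallySmooth k R := Algebra.FormallySmooth.comp k B R
  haveI : Algebra.EssFiniteType B R := Algebra.EssFiniteType.of_isLocalization R p.primeCompl
  haveI : Algebra.EssFiniteType k R := Algebra.EssFiniteType.comp k B R
  let L : K → Ω[K⁄k] := fun x => x⁻¹ • KaehlerDifferential.D k K x
  let φ : R → Ω[K⁄k] := fun x => L (algebraMap R K x)
  have hφmul : ∀ x y : R, x ≠ 0 → y ≠ 0 → φ (x * y) = φ x + φ y := by
    intro x y hx hy
    have hx' : algebraMap R K x ≠ 0 := (map_ne_zero_iff _ (IsFractionRing.injective R K)).2 hx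
    have hy' : algebraMap R K y ≠ 0 := (map_ne_zero_iff _ (IsFractionRing.injective R K)).2 hy
    simp only [φ, L, map_mul, Derivation.leibniz, smul_add, smul_smul]
    rw [add_comm]
    congr 2 <;> field_simp
  let Good : Ω[K⁄k] → Prop := fun ω => ∃ (v : Rˣ) (b : Fin r → ℤ),
    ω = φ (v : R) + ∑ i, ((b i : K) * (algebraMap R K (f i))⁻¹) • KaehlerDifferential.D k K (algebraMap R K (f i))
  have hφ1 : φ 1 = 0 := by simp [φ, L]
  have hG0 : Good 0 := ⟨1, 0, by simp [hφ1]⟩
  have hGadd : ∀ ω ω', Good ω → Good ω' → Good (ω + ω') := by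
    rintro _ _ ⟨v, b, rfl⟩ ⟨v', b', rfl⟩
    refine ⟨v * v', b + b', ?_⟩
    rw [Units.val_mul, hφmul _ _ v.ne_zero v'.ne_zero]
    simp only [Pi.add_apply, Int.cast_add, add_mul, add_smul, Finset.sum_add_distrib]
    abel
  have hGunit : ∀ v : Rˣ, Good (φ (v : R)) := fun v => ⟨v, 0, by simp⟩
  have hGneg : ∀ ω, Good ω → Good (-ω) := by
    rintro _ ⟨v, b, rfl⟩
    refine ⟨v⁻¹, -b, ?_⟩
    have h1 := hφmul _ _ v.ne_zero (v⁻¹).ne_zero
    rw [Units.mul_inv, hφ1] at h1
    rw [eq_neg_of_add_eq_zero_right h1.symm]
    simp only [Pi.neg_apply, Int.cast_neg, neg_mul, neg_smul, Finset.sum_neg_distrib]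
    abel
  have hGf : ∀ i, Good (φ (f i)) := by
    intro i
    refine ⟨1, Pi.single i 1, ?_⟩
    rw [Finset.sum_eq_single i]
    · simp [φ, L]
    · intro j _ hji
      simp [hji]
    · simp
  -- elements with all prime factors among the f
  have hGood : ∀ x : R, x ≠ 0 → (∀ π, Prime π → π ∣ x → ∃ i, π ∣ f i) → Good (φ x) := by
    intro x
    induction x using UniqueFactorizationMonoid.induction_on_prime with
    | h₁ => intro h; exact absurd rfl h
    | h₂ x hx =>
      intro _ _
      obtain ⟨v, rfl⟩ := hx
      exact hGunit v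
    | h₃ x q hx hq ih =>
      intro _ hprimes
      rw [hφmul q x hq.ne_zero hx]
      refine hGadd _ _ ?_ (ih hx fun π hπ hd => hprimes π hπ (hd.mul_left q))
      obtain ⟨i, hi⟩ := hprimes q hq (dvd_mul_right q x)
      obtain ⟨v, hv⟩ := hq.associated_of_dvd (hf i) hi
      have h1 : φ (f i) = φ q + φ (v : R) := by rw [← hv, hφmul q _ hq.ne_zero v.ne_zero]
      rw [eq_sub_of_add_eq h1.symm, sub_eq_add_neg]
      exact hGadd _ _ (hGf i) (hGneg _ (hGunit v))
  -- write `g` as a fraction
  obtain ⟨a₀, b₀, hb₀, hab⟩ := IsFractionRing.div_surjective R (g : K)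
  have hb₀0 : b₀ ≠ 0 := nonZeroDivisors.ne_zero hb₀
  have hLg : ∀ a b : R, b ≠ 0 → algebraMap R K a / algebraMap R K b = g → a ≠ 0 ∧ L g = φ a - φ b := by
    intro a b hb hg
    have ha : a ≠ 0 := by
      rintro rfl
      rw [map_zero, zero_div] at hg
      exact g.ne_zero hg.symm
    have ha' : algebraMap R K a ≠ 0 := (map_ne_zero_iff _ (IsFractionRing.injective R K)).2 ha
    have hb' : algebraMap R K b ≠ 0 := (map_ne_zero_iff _ (IsFractionRing.injective R K)).2 hb
    refine ⟨ha, ?_⟩
    have e : algebraMap R K a = (g : K) * algebraMap R K b := by rw [← hg, div_mul_cancel₀ _ hb']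
    simp only [φ, L, e, Derivation.leibniz, smul_add, smul_smul]
    rw [show ((g : K) * algebraMap R K b)⁻¹ * (g : K) = (algebraMap R K b)⁻¹ by field_simp [g.ne_zero],
      show ((g : K) * algebraMap R K b)⁻¹ * algebraMap R K b = (g : K)⁻¹ by field_simp [g.ne_zero]]
    abel
  have main : ∀ a : R, ∀ b : R, b ≠ 0 → algebraMap R K a / algebraMap R K b = g → Good (L g) := by
    intro a
    refine wellFounded_dvdNotUnit.induction (C := fun a : R => ∀ b : R, b ≠ 0 →
      algebraMap R K a / algebraMap R K b = g → Good (L g)) a ?_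
    · intro a ih b hb hg
      obtain ⟨ha, hL⟩ := hLg a b hb hg
      by_cases hex : ∃ π, Prime π ∧ π ∣ a ∧ ∀ i, ¬ π ∣ f i
      · obtain ⟨π, hπ, hπa, hπf⟩ := hex
        by_cases hπb : π ∣ b
        · obtain ⟨a', rfl⟩ := hπa
          obtain ⟨b', rfl⟩ := hπb
          refine ih a' ⟨right_ne_zero_of_mul ha, π, hπ.not_isUnit, mul_comm π a'⟩ b' (right_ne_zero_of_mul hb) ?_
          rw [← hg, map_mul, map_mul,
            mul_div_mul_left _ _ ((map_ne_zero_iff _ (IsFractionRing.injective R K)).2 hπ.ne_zero)]
        · exact (no_pole f π hπ hπf a b ha hπa hπb η c (hL.symm.trans h)).elim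
      · push Not at hex
        rw [hL, sub_eq_add_neg]
        refine hGadd _ _ (hGood a ha fun π hπ hd => hex π hπ hd) (hGneg _ (hGood b hb fun π hπ hd => ?_))
        by_contra hno
        push Not at hno
        have hna : ¬ π ∣ a := fun hd' => (hex π hπ hd').elim fun i hi => hno i hi
        refine no_pole (K := K) f π hπ hno b a hb hd hna (-η) (-c) ?_
        rw [← neg_sub]
        show -(φ a - φ b) = _
        rw [← hL]
        show -((g : K)⁻¹ • KaehlerDifferential.D k K (g : K)) = _
        rw [h, map_neg]
        simp [Finset.sum_neg_distrib, add_comm]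
  exact main a₀ b₀ hb₀0 hab

end Groth.Agent.S18578
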