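import Mathlib
import Groth.Statements.S18579
-- import your own Groth.Agent.* helpers here

set_option autoImplicit false
universe u
open LogDiff

namespace Groth.Agent.S18579

section

variable {R : Type*} [CommRing R] [IsDomain R] {ι : Type*} [DecidableEq ι] (f : ι → R)

lemma exists_factor (hf : ∀ i, Prime (f i)) (m : ι → ℕ) (s : Finset ι) :
    ∀ x y : R, ∀ (w : Rˣ), x * y = w * ∏ i ∈ s, f i ^ m i → ∃ (u : Rˣ) (e : ι → ℕ), x = u * ∏ i ∈ s, f i ^ e i := by
  induction s using Finset.induction_on with
  | empty =>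
    intro x y w hxy
    rw [Finset.prod_empty, mul_one] at hxy
    obtain ⟨u, hu⟩ := isUnit_of_mul_isUnit_left (hxy ▸ w.isUnit : IsUnit (x * y))
    exact ⟨u, 0, by simp [hu]⟩
  | @insert a s has ih =>
    intro x y w hxy
    rw [Finset.prod_insert has, mul_comm (f a ^ m a), ← mul_assoc] at hxy
    obtain ⟨i, j, b, c, -, hbc, hx, -⟩ := mul_eq_mul_prime_pow (hf a) hxy
    obtain ⟨u, e, hb⟩ := ih b c w hbc.symm
    refine ⟨u, Function.update e a i, ?_⟩
    rw [Finset.prod_insert has, Function.update_self, hx, hb]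
    rw [Finset.prod_congr rfl (fun j hj => by rw [Function.update_of_ne (fun (hja : j = a) => has (hja ▸ hj))] : ∀ j ∈ s, f j ^ Function.update e a i j = f j ^ e j)]
    ring

lemma exponents_le [Fintype ι] (hf : ∀ i, Prime (f i)) (hfa : ∀ i j, Associated (f i) (f j) → i = j)
    (u u' : Rˣ) (p q : ι → ℕ) (h : (u : R) * ∏ i, f i ^ p i = u' * ∏ i, f i ^ q i) (i : ι) : p i ≤ q i := by
  by_contra hlt
  push Not at hlt
  rw [← Finset.mul_prod_erase _ _ (Finset.mem_univ i), ← Finset.mul_prod_erase _ _ (Finset.mem_univ i)] at h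
  have hne : f i ^ q i ≠ 0 := pow_ne_zero _ (hf i).ne_zero
  obtain ⟨d, hd⟩ : ∃ d, p i = q i + (d + 1) := ⟨p i - q i - 1, by omega⟩
  rw [hd, pow_add] at h
  have h2 : f i ∣ (u' : R) * ∏ j ∈ Finset.univ.erase i, f j ^ q j := by
    refine ⟨f i ^ d * ((u : R) * ∏ j ∈ Finset.univ.erase i, f j ^ p j), mul_left_cancel₀ hne ?_⟩
    rw [pow_succ] at h
    linear_combination -h
  rcases (hf i).dvd_or_dvd h2 with h3 | h3
  · exact (hf i).not_unit (isUnit_of_dvd_unit h3 u'.isUnit)
  · obtain ⟨j, hj, hij⟩ := (hf i).exists_mem_finset_dvd h3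
    have := hfa i j ((hf i).associated_of_dvd (hf j) ((hf i).dvd_of_dvd_pow hij))
    exact (Finset.mem_erase.1 hj).1 this.symm

end


/-- The exact sequence for units (first Milnor K-groups) when every component of the divisor is removed.
Let k be a field, B a smooth k-algebra, R the localization of B at a prime ideal, K the fraction
field of R and f_1, …, f_r pairwise non-associate prime elements of R. If w is a unit of K such that
w and w⁻¹ both lie in R[1/(f_1⋯f_r)], i.e. each becomes an element of R after multiplication by a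
power of f_1⋯f_r, then there is exactly one pair (v, b) consisting of a unit v of R and integers
b_1, …, b_r with w = v · ∏ f_i^{b_i} in K. (This is the exactness of 0 → Γ(Spec R, O^×) → Γ(Spec R ∖
V(f_1⋯f_r), O^×) → ℤ^r → 0, the last map being the orders along the f_i. The published statement
takes the f_i to be local equations of the components of a normal crossings divisor, over a field of
characteristic zero; this row allows arbitrary pairwise non-associate prime elements and any field.) -/
theorem result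
    {k B R K : Type u} [Field k] [CommRing B] [Algebra k B] [Algebra.Smooth k B]
    (p : Ideal B) [p.IsPrime] [CommRing R] [Algebra B R] [IsLocalization.AtPrime R p]
    [Field K] [Algebra R K] [IsFractionRing R K]
    {r : ℕ} (f : Fin r → R) (hf : ∀ i, Prime (f i)) (hfa : ∀ i j, Associated (f i) (f j) → i = j)
    (w : Kˣ)
    (hw : ∃ (a : R) (n : ℕ), (w : K) * algebraMap R K ((∏ i, f i) ^ n) = algebraMap R K a)
    (hw' : ∃ (a : R) (n : ℕ), (w⁻¹ : Kˣ) * algebraMap R K ((∏ i, f i) ^ n) = algebraMap R K a) :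
    ∃! vb : Rˣ × (Fin r → ℤ),
      (w : K) = algebraMap R K (vb.1 : R) * ∏ i, (algebraMap R K (f i)) ^ (vb.2 i) := by
  classical
  have : IsDomain R := (IsFractionRing.injective R K).isDomain
  obtain ⟨a, n, ha⟩ := hw
  obtain ⟨a', n', ha'⟩ := hw'
  have hinj : Function.Injective (algebraMap R K) := IsFractionRing.injective R K
  have hne : ∀ i, algebraMap R K (f i) ≠ 0 := fun i h => (hf i).ne_zero (hinj (by rw [h, map_zero]))
  have hprod : a * a' = ((1 : Rˣ) : R) * ∏ i, f i ^ (n + n') := by
    apply hinj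
    rw [Units.val_one, one_mul, map_mul, ← ha, ← ha', Finset.prod_pow, mul_mul_mul_comm, ← Units.val_mul,
      mul_inv_cancel, Units.val_one, one_mul, ← map_mul, ← pow_add]
  obtain ⟨v, e, he⟩ := exists_factor f hf _ Finset.univ a a' 1 hprod
  have hw_eq : (w : K) = algebraMap R K (v : R) * ∏ i, algebraMap R K (f i) ^ ((e i : ℤ) - n) := by
    have hP : algebraMap R K ((∏ i, f i) ^ n) = ∏ i, algebraMap R K (f i) ^ n := by
      rw [map_pow, map_prod, Finset.prod_pow]
    have hP0 : ∏ i, algebraMap R K (f i) ^ n ≠ 0 := Finset.prod_ne_zero_iff.2 fun i _ => pow_ne_zero _ (hne i)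
    refine mul_right_cancel₀ hP0 ?_
    rw [← hP, ha, he, map_mul, map_prod, mul_assoc, hP, ← Finset.prod_mul_distrib]
    congr 1
    refine Finset.prod_congr rfl fun i _ => ?_
    rw [map_pow, zpow_sub₀ (hne i), zpow_natCast, zpow_natCast, div_mul_cancel₀ _ (pow_ne_zero _ (hne i))]
  refine ⟨(v, fun i => (e i : ℤ) - n), hw_eq, ?_⟩
  rintro ⟨v', b⟩ hb
  change (w : K) = algebraMap R K (v' : R) * ∏ i, algebraMap R K (f i) ^ b i at hb
  set c : Fin r → ℤ := fun i => (e i : ℤ) - n with hc
  set s : Fin r → ℤ := fun i => (|b i| + |c i|) with hs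
  have key : ∀ (d : Fin r → ℤ) (x : Rˣ), (∀ i, 0 ≤ d i + s i) →
      algebraMap R K ((x : R) * ∏ i, f i ^ (d i + s i).toNat) =
        algebraMap R K (x : R) * (∏ i, algebraMap R K (f i) ^ d i) * ∏ i, algebraMap R K (f i) ^ s i := by
    intro d x hd
    rw [map_mul, map_prod, mul_assoc, ← Finset.prod_mul_distrib]
    congr 1
    refine Finset.prod_congr rfl fun i _ => ?_
    rw [map_pow, ← zpow_add₀ (hne i), ← zpow_natCast, Int.toNat_of_nonneg (hd i)]
  have hb0 : ∀ i, 0 ≤ b i + s i := fun i => by have := neg_abs_le (b i); have := abs_nonneg (c i); simp only [hs]; linarith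
  have hc0 : ∀ i, 0 ≤ c i + s i := fun i => by have := neg_abs_le (c i); have := abs_nonneg (b i); simp only [hs]; linarith
  have heq : (v' : R) * ∏ i, f i ^ (b i + s i).toNat = (v : R) * ∏ i, f i ^ (c i + s i).toNat := by
    apply hinj
    rw [key b v' hb0, key c v hc0, ← hb, ← hw_eq]
  have hbc : ∀ i, b i = c i := fun i => by
    have := exponents_le f hf hfa _ _ _ _ heq i
    have := exponents_le f hf hfa _ _ _ _ heq.symm i
    have := hb0 i; have := hc0 i; omega
  obtain rfl : b = c := funext hbc
  have : (v' : R) = v := by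
    refine mul_right_cancel₀ ?_ heq
    exact Finset.prod_ne_zero_iff.2 fun i _ => pow_ne_zero _ (hf i).ne_zero
  rw [Units.ext this]

end Groth.Agent.S18579
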