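import Groth.Statements.S18589
import Mathlib
-- import your own Groth.Agent.* helpers here

set_option autoImplicit false
open CAlg

namespace Groth.Agent.S18589

/-- For a prime p and every natural number n, the n-th Witt addition polynomial over the integers (the
polynomial S_n with (x + y)_n = S_n(x_0, y_0, …, x_n, y_n) for p-typical Witt vectors x, y) is
weighted homogeneous of weighted degree p ^ n for the grading in which the variables x_i and y_i
have weight p ^ i. -/
theorem result (p : ℕ) [Fact p.Prime] (n : ℕ) :
    MvPolynomial.IsWeightedHomogeneous (fun i : Fin 2 × ℕ => p ^ i.2) (WittVector.wittAdd p n) (p ^ n) := by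
  set w : Fin 2 × ℕ → ℕ := fun i => p ^ i.2
  have hW : ∀ n, ∀ j : Fin 2, MvPolynomial.IsWeightedHomogeneous w
      (MvPolynomial.rename (Prod.mk j) (wittPolynomial p ℤ n)) (p ^ n) := by
    intro n j
    rw [wittPolynomial_eq_sum_C_mul_X_pow, map_sum]
    refine MvPolynomial.IsWeightedHomogeneous.sum _ _ _ fun i hi => ?_
    rw [map_mul, map_pow (MvPolynomial.rename (Prod.mk j)) (MvPolynomial.X i), MvPolynomial.rename_X,
      MvPolynomial.rename_C]
    have : p ^ n = 0 + (p ^ (n - i)) • w (j, i) := by
      rw [smul_eq_mul, zero_add]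
      simp only [w]
      rw [← pow_add, Nat.sub_add_cancel (Finset.mem_range_succ_iff.mp hi)]
    rw [this]
    exact (MvPolynomial.isWeightedHomogeneous_C w _).mul
      ((MvPolynomial.isWeightedHomogeneous_X ℤ w (j, i)).pow _)
  induction n using Nat.strong_induction_on with
  | _ n IH =>
    have key := wittStructureInt_prop p (MvPolynomial.X (0 : Fin 2) + MvPolynomial.X 1) n
    rw [map_add, MvPolynomial.bind₁_X_right, MvPolynomial.bind₁_X_right] at key
    conv_lhs at key => rw [wittPolynomial_eq_sum_C_mul_X_pow, map_sum, Finset.sum_range_succ]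
    simp only [map_mul, map_pow, MvPolynomial.bind₁_C_right, MvPolynomial.bind₁_X_right, Nat.sub_self,
      pow_zero, pow_one] at key
    have h : MvPolynomial.C ((p : ℤ) ^ n) * WittVector.wittAdd p n =
        MvPolynomial.rename (Prod.mk 0) (wittPolynomial p ℤ n) +
          MvPolynomial.rename (Prod.mk 1) (wittPolynomial p ℤ n) -
          ∑ i ∈ Finset.range n, MvPolynomial.C ((p : ℤ) ^ i) * WittVector.wittAdd p i ^ p ^ (n - i) := by
      rw [eq_sub_iff_add_eq]
      simp only [WittVector.wittAdd, map_pow] at key ⊢
      rw [add_comm]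
      exact key
    have hh : MvPolynomial.IsWeightedHomogeneous w
        (MvPolynomial.C ((p : ℤ) ^ n) * WittVector.wittAdd p n) (p ^ n) := by
      rw [h]
      refine ((hW n 0).add (hW n 1)).sub (MvPolynomial.IsWeightedHomogeneous.sum _ _ _ fun i hi => ?_)
      have hin := Finset.mem_range.mp hi
      have : p ^ n = 0 + (p ^ (n - i)) • (p ^ i) := by
        rw [smul_eq_mul, zero_add, ← pow_add, Nat.sub_add_cancel hin.le]
      rw [this]
      exact (MvPolynomial.isWeightedHomogeneous_C w _).mul ((IH i hin).pow _)
    intro d hd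
    refine hh ?_
    rw [MvPolynomial.coeff_C_mul]
    exact mul_ne_zero (pow_ne_zero _ (Int.natCast_ne_zero.mpr (Fact.out : p.Prime).ne_zero)) hd

end Groth.Agent.S18589
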