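import Groth.Statements.S1859
import Mathlib

set_option autoImplicit false
universe u
open CategoryTheory AlgebraicGeometry
open Cyc

namespace Groth.Agent.S1859

theorem residueDegree_comp {X Y Z : Scheme.{u}} (f : X ⟶ Y) (g : Y ⟶ Z) (x : X) :
    (f ≫ g).residueDegree x = f.residueDegree x * g.residueDegree (f x) := by
  let φ := (g.residueFieldMap (f x)).hom
  let ψ := (f.residueFieldMap x).hom
  letI := φ.toAlgebra
  letI := ψ.toAlgebra
  letI : Algebra (Z.residueField (g (f x))) (X.residueField x) := (ψ.comp φ).toAlgebra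
  haveI : IsScalarTower (Z.residueField (g (f x))) (Y.residueField (f x)) (X.residueField x) :=
    IsScalarTower.of_algebraMap_eq fun _ => rfl
  have h := Module.finrank_mul_finrank (Z.residueField (g (f x))) (Y.residueField (f x)) (X.residueField x)
  have e : ((f ≫ g).residueFieldMap x).hom = ψ.comp φ := by rw [Scheme.residueFieldMap_comp]; rfl
  show @Module.finrank _ _ _ _ ((f ≫ g).residueFieldMap x).hom.toAlgebra.toModule = _
  rw [e, mul_comm]
  exact h.symm


/-- For proper morphisms f : X → Y and g : Y → Z and a k-cycle α on X, g_*(f_*α) = (g ∘ f)_*α. Here a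
pair (X, δ) with Cyc.IsSetup plays the role of a scheme locally of finite type over a fixed base
with a dimension function (X locally Noetherian with universally catenary local rings, δ a dimension
function), and Cyc.DeltaCompat records that the dimension function upstairs is the induced one. -/
theorem result (X Y Z : Scheme.{u}) (δX : X → ℤ) (δY : Y → ℤ) (δZ : Z → ℤ) (hX : Cyc.IsSetup X δX) (hY : Cyc.IsSetup Y δY) (hZ : Cyc.IsSetup Z δZ) (f : X ⟶ Y) (g : Y ⟶ Z) [IsProper f] [IsProper g] (hf : Cyc.DeltaCompat f δX δY) (hg : Cyc.DeltaCompat g δY δZ) (k : ℤ) (α : AlgebraicCycle X ℤ) (hα : α ∈ Cyc.Zk X δX k) : AlgebraicCycle.map g δY δZ (AlgebraicCycle.map f δX δY α) = AlgebraicCycle.map (f ≫ g) δX δZ α := by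
  classical
  have hw : ∀ x, ((AlgebraicCycle.mapCoeff f δX δY x : ℕ) : ℤ) * (AlgebraicCycle.mapCoeff g δY δZ (f x) : ℕ) =
      (AlgebraicCycle.mapCoeff (f ≫ g) δX δZ x : ℕ) := by
    intro x
    obtain ⟨m, -, hm⟩ := hf x
    obtain ⟨n, -, hn⟩ := hg (f x)
    simp only [AlgebraicCycle.mapCoeff]
    by_cases h : δX x = δZ ((f ≫ g).base x)
    · have h' : δX x = δZ (g (f x)) := h
      rw [if_pos h, if_pos (show δX x = δY (f.base x) by omega),
        if_pos (show δY (f x) = δZ (g.base (f x)) by omega), residueDegree_comp]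
      push_cast; rfl
    · rw [if_neg h]
      by_cases h1 : δX x = δY (f.base x)
      · rw [if_neg (c := δY (f x) = δZ (g.base (f x))) fun h2 => h (h1.trans h2)]
        simp
      · rw [if_neg h1]; simp
  refine DFunLike.ext _ _ fun z => ?_
  obtain ⟨U, hU, hzU, -⟩ := PrespectralSpace.isTopologicalBasis.exists_subset_of_mem_open
    (Set.mem_univ z) isOpen_univ
  have hfin : {x : X | g (f x) = z ∧ α x ≠ 0}.Finite :=
    Set.Finite.subset (α.locallyFiniteSupport.finite_inter_support_of_isCompact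
      ((f ≫ g).isSpectralMap.2 hU.1 hU.2)) fun x hx => ⟨show g (f x) ∈ U from hx.1.symm ▸ hzU, hx.2⟩
  let S : Finset X := hfin.toFinset
  have hS : ∀ x, x ∈ S ↔ g (f x) = z ∧ α x ≠ 0 := fun x => by simp [S]
  have hinner : ∀ y, g y = z → (AlgebraicCycle.map f δX δY α) y =
      ∑ x ∈ S.filter (fun x => f x = y), α x * (AlgebraicCycle.mapCoeff f δX δY x : ℕ) := by
    intro y hy
    rw [AlgebraicCycle.map, Function.locallyFinsupp.map_apply]
    refine finsum_mem_eq_sum_of_inter_support_eq _ ?_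
    ext x
    constructor
    · rintro ⟨(hx : f x = y), h0⟩
      exact ⟨Finset.mem_filter.2 ⟨(hS x).2 ⟨by rw [hx, hy], left_ne_zero_of_mul h0⟩, hx⟩, h0⟩
    · rintro ⟨hx, h0⟩
      exact ⟨(Finset.mem_filter.1 hx).2, h0⟩
  have lhs : (AlgebraicCycle.map g δY δZ (AlgebraicCycle.map f δX δY α)) z =
      ∑ y ∈ S.image (fun x => f x), (AlgebraicCycle.map f δX δY α) y * (AlgebraicCycle.mapCoeff g δY δZ y : ℕ) := by
    rw [AlgebraicCycle.map, Function.locallyFinsupp.map_apply]
    refine finsum_mem_eq_sum_of_inter_support_eq _ ?_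
    ext y
    constructor
    · rintro ⟨(hy : g y = z), h0⟩
      refine ⟨?_, h0⟩
      by_contra hne
      refine left_ne_zero_of_mul h0 ((hinner y hy).trans (Finset.sum_eq_zero fun x hx => ?_))
      exact absurd (Finset.mem_image.2 ⟨x, (Finset.mem_filter.1 hx).1, (Finset.mem_filter.1 hx).2⟩) hne
    · rintro ⟨hy, h0⟩
      obtain ⟨x, hx, rfl⟩ := Finset.mem_image.1 hy
      exact ⟨((hS x).1 hx).1, h0⟩
  have rhs : (AlgebraicCycle.map (f ≫ g) δX δZ α) z =
      ∑ x ∈ S, α x * (AlgebraicCycle.mapCoeff (f ≫ g) δX δZ x : ℕ) := by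
    rw [AlgebraicCycle.map, Function.locallyFinsupp.map_apply]
    refine finsum_mem_eq_sum_of_inter_support_eq _ ?_
    ext x
    constructor
    · rintro ⟨hx, h0⟩
      exact ⟨(hS x).2 ⟨hx, left_ne_zero_of_mul h0⟩, h0⟩
    · rintro ⟨hx, h0⟩
      exact ⟨((hS x).1 hx).1, h0⟩
  rw [lhs, rhs, ← Finset.sum_fiberwise_of_maps_to (t := S.image fun x => f x) (g := fun x => f x)
    (fun x hx => Finset.mem_image_of_mem _ hx)]
  refine Finset.sum_congr rfl fun y hy => ?_
  obtain ⟨x0, hx0, rfl⟩ := Finset.mem_image.1 hy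
  rw [hinner _ ((hS x0).1 hx0).1, Finset.sum_mul]
  refine Finset.sum_congr rfl fun x hx => ?_
  rw [← (Finset.mem_filter.1 hx).2, mul_assoc, hw]

end Groth.Agent.S1859
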