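import Groth.Statements.S18590
import Groth.Agent.WittFilLib.Basic
import Mathlib.Algebra.Polynomial.Coeff

set_option autoImplicit false
universe u
open CAlg

namespace Groth.Agent.S18590

variable {A K : Type u} [CommRing A] [CommRing K] [Algebra A K]

/-- Polynomials whose `k`-th coefficient lies in `M k` (constant coefficients in `A + M 0`). -/
def gradedSub (M : ℕ → Submodule A K)
    (hmul : ∀ (i j : ℕ) (a b : K), a ∈ M i → b ∈ M j → a * b ∈ M (i + j)) :
    Subalgebra A (Polynomial K) :=
  let M' : ℕ → Submodule A K := fun k => if k = 0 then M 0 ⊔ Submodule.span A {1} else M k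
  have hM' : ∀ i j (a b : K), a ∈ M' i → b ∈ M' j → a * b ∈ M' (i + j) := by
    have h1 : ∀ (a b : K) (k : ℕ), a ∈ M 0 ⊔ Submodule.span A {1} → b ∈ M k → a * b ∈ M k := by
      intro a b k ha hb
      obtain ⟨x, hx, y, hy, rfl⟩ := Submodule.mem_sup.mp ha
      obtain ⟨c, rfl⟩ := Submodule.mem_span_singleton.mp hy
      rw [add_mul, smul_mul_assoc, one_mul]
      exact add_mem (by simpa using hmul 0 k x b hx hb) (Submodule.smul_mem _ _ hb)
    intro i j a b ha hb
    simp only [M'] at *
    rcases Nat.eq_zero_or_pos i with hi | hi <;> rcases Nat.eq_zero_or_pos j with hj | hj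
    · subst hi hj
      simp only [↓reduceIte, add_zero] at *
      obtain ⟨x, hx, y, hy, rfl⟩ := Submodule.mem_sup.mp hb
      obtain ⟨c, rfl⟩ := Submodule.mem_span_singleton.mp hy
      rw [mul_add, mul_smul_comm, mul_one]
      exact add_mem (Submodule.mem_sup_left (h1 a x 0 ha hx)) (Submodule.smul_mem _ _ ha)
    · subst hi
      simp only [↓reduceIte, zero_add, if_neg (show j ≠ 0 by omega)] at *
      exact h1 a b j ha hb
    · subst hj
      simp only [↓reduceIte, add_zero, if_neg (show i ≠ 0 by omega)] at *
      rw [mul_comm]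
      exact h1 b a i hb ha
    · simp only [if_neg (show i ≠ 0 by omega), if_neg (show j ≠ 0 by omega),
        if_neg (show i + j ≠ 0 by omega)] at *
      exact hmul i j a b ha hb
  { carrier := {P | ∀ k, P.coeff k ∈ M' k}
    mul_mem' := fun {P Q} hP hQ k => by
      rw [Polynomial.coeff_mul]
      refine Submodule.sum_mem _ fun x hx => ?_
      rw [← Finset.mem_antidiagonal.mp hx]
      exact hM' _ _ _ _ (hP _) (hQ _)
    add_mem' := fun {P Q} hP hQ k => by rw [Polynomial.coeff_add]; exact add_mem (hP k) (hQ k)
    algebraMap_mem' := fun a k => by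
      rw [Polynomial.algebraMap_apply, Polynomial.coeff_C]
      split
      · next h =>
        subst h
        simp only [M', ↓reduceIte]
        rw [Algebra.algebraMap_eq_smul_one]
        exact Submodule.mem_sup_right (Submodule.smul_mem _ _ (Submodule.mem_span_singleton_self 1))
      · exact zero_mem _ }

theorem mem_gradedSub {M : ℕ → Submodule A K}
    {hmul : ∀ (i j : ℕ) (a b : K), a ∈ M i → b ∈ M j → a * b ∈ M (i + j)} {k : ℕ} (hk : k ≠ 0)
    {P : Polynomial K} (hP : P ∈ gradedSub M hmul) : P.coeff k ∈ M k := by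
  have := hP k
  simpa [if_neg hk] using this

theorem C_mul_X_pow_mem {M : ℕ → Submodule A K}
    (hmul : ∀ (i j : ℕ) (a b : K), a ∈ M i → b ∈ M j → a * b ∈ M (i + j)) {m : ℕ} (hm : m ≠ 0)
    {c : K} (hc : c ∈ M m) : Polynomial.C c * Polynomial.X ^ m ∈ gradedSub M hmul := by
  intro k
  rw [Polynomial.coeff_C_mul_X_pow]
  split
  · next h =>
    subst h
    simpa [if_neg hm] using hc
  · exact zero_mem _

/-- Let p be a prime, A a commutative ring, K a commutative A-algebra of characteristic p and M_0, M_1,
M_2, … A-submodules of K with M_i · M_j ⊆ M_(i+j) for all i, j. Then the subset of the ring W(K) of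
p-typical Witt vectors consisting of the vectors whose n-th coordinate lies in M_(p^n) for every n
is closed under addition and under multiplication by the image of W(A) under W of the structure map;
in other words it is a W(A)-submodule of W(K). (The published statement is the case of an integral
normal noetherian scheme X of characteristic p with function field K, an affine open subset U with
coordinate ring A, and M_k the module of sections over U of the divisorial sheaf of k·D for a real
Weil divisor D on X; these form such a multiplicative family, and the subset is then the module of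
sections over U of the Witt divisorial sheaf of D inside W(K). Only the two stated properties of
that family enter.) -/
theorem result
    (p : ℕ) [Fact p.Prime] (A K : Type u) [CommRing A] [CommRing K] [Algebra A K] [CharP K p]
    (M : ℕ → Submodule A K)
    (hmul : ∀ (i j : ℕ) (a b : K), a ∈ M i → b ∈ M j → a * b ∈ M (i + j)) :
    (∀ φ ψ : WittVector p K, (∀ n : ℕ, φ.coeff n ∈ M (p ^ n)) → (∀ n : ℕ, ψ.coeff n ∈ M (p ^ n)) →
        ∀ n : ℕ, (φ + ψ).coeff n ∈ M (p ^ n)) ∧
      (∀ (x : WittVector p A) (φ : WittVector p K), (∀ n : ℕ, φ.coeff n ∈ M (p ^ n)) →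
        ∀ n : ℕ, (WittVector.map (algebraMap A K) x * φ).coeff n ∈ M (p ^ n)) := by
  classical
  let S := gradedSub M hmul
  let τ := WittVector.teichmuller p (Polynomial.X : Polynomial K)
  let C' := WittVector.map (p := p) (Polynomial.C : K →+* Polynomial K)
  let ι := WittVector.map (p := p) S.val.toRingHom
  have hne : ∀ n : ℕ, p ^ n ≠ 0 := fun n => pow_ne_zero _ (Fact.out : p.Prime).ne_zero
  have hlift : ∀ φ : WittVector p K, (∀ n, φ.coeff n ∈ M (p ^ n)) →
      ∃ Φ : WittVector p S, ι Φ = C' φ * τ := by
    intro φ hφ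
    refine ⟨WittVector.mk p fun n => ⟨_, C_mul_X_pow_mem hmul (hne n) (hφ n)⟩, ?_⟩
    ext1 n
    rw [WittFilLib.mul_teichmuller_coeff]
    simp [ι, C', WittVector.map_coeff]
  have hdown : ∀ (Ψ : WittVector p S) (ψ : WittVector p K), ι Ψ = C' ψ * τ →
      ∀ n, ψ.coeff n ∈ M (p ^ n) := by
    intro Ψ ψ h n
    have h1 : ((Ψ.coeff n : S) : Polynomial K) = Polynomial.C (ψ.coeff n) * Polynomial.X ^ p ^ n := by
      have h2 := congrArg (fun z => WittVector.coeff z n) h
      simp only [τ, WittFilLib.mul_teichmuller_coeff] at h2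
      simpa [ι, C', τ, WittVector.map_coeff] using h2
    have h3 := mem_gradedSub (hne n) (Ψ.coeff n).2
    rw [h1, Polynomial.coeff_C_mul_X_pow, if_pos rfl] at h3
    exact h3
  refine ⟨fun φ ψ hφ hψ => ?_, fun x φ hφ => ?_⟩
  · obtain ⟨Φ, hΦ⟩ := hlift φ hφ
    obtain ⟨Ψ, hΨ⟩ := hlift ψ hψ
    exact hdown (Φ + Ψ) _ (by rw [map_add, hΦ, hΨ, map_add, add_mul])
  · obtain ⟨Φ, hΦ⟩ := hlift φ hφ
    refine hdown (WittVector.map (algebraMap A S) x * Φ) _ ?_
    have h1 : ι (WittVector.map (algebraMap A S) x) = C' (WittVector.map (algebraMap A K) x) := by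
      ext1 n
      simp [ι, C', WittVector.map_coeff, Polynomial.algebraMap_eq]
    rw [map_mul, hΦ, h1, map_mul, mul_assoc]

end Groth.Agent.S18590
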