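import Groth.Statements.S18591
import Mathlib
-- import your own Groth.Agent.* helpers here

set_option autoImplicit false
universe v u
open W4c5suslinpi1ab

namespace Groth.Agent.S18591

section Aux
open CategoryTheory MonoidalCategory Functor.LaxMonoidal Functor.OplaxMonoidal

private lemma projR_adj {C : Type u} [Category.{v} C] [MonoidalCategory C]
    {D : Type u} [Category.{v} D] [MonoidalCategory D] {L : C ⥤ D} {R : D ⥤ C} (adj : L ⊣ R)
    [L.OplaxMonoidal] [R.LaxMonoidal] [adj.IsMonoidal] (A : D) (B : C) :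
    L.map (W4c5suslinpi1ab.projR adj A B) ≫ adj.counit.app _ =
      δ L _ _ ≫ (adj.counit.app A ▷ L.obj B) := by
  rw [W4c5suslinpi1ab.projR, L.map_comp, Category.assoc, Adjunction.map_μ_comp_counit_app_tensor]
  erw [← δ_natural_right_assoc]
  congr 1
  rw [← MonoidalCategory.id_tensorHom, MonoidalCategory.tensorHom_comp_tensorHom]
  simp [MonoidalCategory.tensorHom_id]

private lemma projL_adj {C : Type u} [Category.{v} C] [MonoidalCategory C]
    {D : Type u} [Category.{v} D] [MonoidalCategory D] {L : C ⥤ D} {R : D ⥤ C} (adj : L ⊣ R)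
    [L.OplaxMonoidal] [R.LaxMonoidal] [adj.IsMonoidal] (A : C) (B : D) :
    L.map (W4c5suslinpi1ab.projL adj A B) ≫ adj.counit.app _ =
      δ L _ _ ≫ (L.obj A ◁ adj.counit.app B) := by
  rw [W4c5suslinpi1ab.projL, L.map_comp, Category.assoc, Adjunction.map_μ_comp_counit_app_tensor]
  erw [← δ_natural_left_assoc]
  congr 1
  rw [← MonoidalCategory.tensorHom_id, MonoidalCategory.tensorHom_comp_tensorHom]
  simp [MonoidalCategory.id_tensorHom]

end Aux

open CategoryTheory MonoidalCategory Functor.LaxMonoidal Functor.OplaxMonoidal in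
/-- In a square of adjunctions between monoidal categories — fL ⊣ fR from the base S₀ to Y₁, pL ⊣ pR
from Y₁ to X (both left adjoints oplax monoidal, right adjoints with the induced lax structure), qL
⊣ qR from Y₂ to X, a functor gR : Y₂ ⥤ S₀ and a natural transformation ν : qR ⋙ gR ⟶ pR ⋙ fR from
which the base change fL gR ⟶ pR qL is built, the adjoint under the composite adjunction fL ⋙ pL ⊣
pR ⋙ fR of the exterior product fR A ⊗ gR B ⟶ fR pR (pL A ⊗ qL B) is the oplax comparison map of fL
⋙ pL followed by (pL of the counit of adjf at A) ⊗ (pL of the base change at B, then the counit of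
adjp at qL B). (The published statement assumes symmetric monoidal categories and monoidal pullbacks
and writes the domain of this map as a tensor product of pullbacks; here only oplax left adjoints
are assumed and the oplax comparison map is kept explicit.) -/
theorem result {S₀ : Type u} [Category.{v} S₀] [MonoidalCategory S₀]
    {Y₁ : Type u} [Category.{v} Y₁] [MonoidalCategory Y₁]
    {Y₂ : Type u} [Category.{v} Y₂] [MonoidalCategory Y₂]
    {X : Type u} [Category.{v} X] [MonoidalCategory X]
    {fL : S₀ ⥤ Y₁} {fR : Y₁ ⥤ S₀} (adjf : fL ⊣ fR) [fL.OplaxMonoidal] [fR.LaxMonoidal]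
    [adjf.IsMonoidal] {gR : Y₂ ⥤ S₀}
    {pL : Y₁ ⥤ X} {pR : X ⥤ Y₁} (adjp : pL ⊣ pR) [pL.OplaxMonoidal] [pR.LaxMonoidal]
    [adjp.IsMonoidal] {qL : Y₂ ⥤ X} {qR : X ⥤ Y₂} (adjq : qL ⊣ qR)
    (ν : qR ⋙ gR ⟶ pR ⋙ fR) (A : Y₁) (B : Y₂) :
    ((adjf.comp adjp).homEquiv _ _).symm (W4c5suslinpi1ab.extProd adjf adjp adjq ν A B) =
      δ (fL ⋙ pL) (fR.obj A) (gR.obj B) ≫
        (pL.map (adjf.counit.app A) ⊗ₘ
          (pL.map ((W4c5suslinpi1ab.bcMor adjf adjq ν).app B) ≫ adjp.counit.app (qL.obj B))) := by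
  have hf : fL.map (W4c5suslinpi1ab.extProd adjf adjp adjq ν A B) ≫ adjf.counit.app _ =
      δ fL _ _ ≫ (adjf.counit.app A ▷ fL.obj (gR.obj B)) ≫
        (A ◁ (W4c5suslinpi1ab.bcMor adjf adjq ν).app B) ≫
          W4c5suslinpi1ab.projL adjp A (qL.obj B) := by
    rw [W4c5suslinpi1ab.extProd, ← fR.map_comp, fL.map_comp, Category.assoc]
    erw [adjf.counit.naturality, reassoc_of% projR_adj adjf A (gR.obj B)]
    simp
  rw [Adjunction.comp_homEquiv, Equiv.symm_trans_apply, Adjunction.homEquiv_counit,
    Adjunction.homEquiv_counit, hf, Functor.map_comp, Functor.map_comp, Functor.map_comp,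
    Category.assoc, Category.assoc, Category.assoc, projL_adj]
  erw [← δ_natural_right_assoc, ← δ_natural_left_assoc]
  simp only [Functor.OplaxMonoidal.comp_δ, Category.assoc]
  congr 2
  rw [MonoidalCategory.tensorHom_def, MonoidalCategory.whiskerLeft_comp]
  rfl

end Groth.Agent.S18591
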