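import Mathlib
import Groth.Statements.S18598
-- import your own Groth.Agent.* helpers here

set_option autoImplicit false
universe u
open SSRed

namespace Groth.Agent.S18598

/-- Let O be a commutative integral domain of characteristic zero, n a positive integer such that no
prime number dividing n is a unit in O, and α an element of O of finite multiplicative order such
that (α − 1)² is divisible by n in O. Then α = 1 if n ≥ 5, α² = 1 if n = 4, α³ = 1 if n = 3, and α⁴
= 1 if n = 2. -/
theorem result (O : Type u) [CommRing O] [IsDomain O] [CharZero O]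
    (n : ℕ) (hn : 0 < n) (hO : ∀ p : ℕ, p.Prime → p ∣ n → ¬ IsUnit (p : O))
    (α : O) (hα : IsOfFinOrder α) (h : (n : O) ∣ (α - 1) ^ 2) :
    (5 ≤ n → α = 1) ∧ (n = 4 → α ^ 2 = 1) ∧ (n = 3 → α ^ 3 = 1) ∧ (n = 2 → α ^ 4 = 1) := by
  have hz : IsPrimitiveRoot α (orderOf α) := IsPrimitiveRoot.orderOf α
  have hm : 0 < orderOf α := hα.orderOf_pos
  by_cases hα1 : α = 1
  · simp [hα1]
  rcases (by omega : n = 1 ∨ 2 ≤ n) with hn1 | hn2
  · exact ⟨fun h => by omega, fun h => by omega, fun h => by omega, fun h => by omega⟩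
  obtain ⟨p, hp, hpn⟩ := Nat.exists_prime_and_dvd (show n ≠ 1 by omega)
  haveI : NeZero (orderOf α) := ⟨hm.ne'⟩
  have key : (α - 1) ^ (orderOf α).totient ∣ Polynomial.eval 1 (Polynomial.cyclotomic (orderOf α) O) := by
    rw [Polynomial.cyclotomic_eq_prod_X_sub_primitiveRoots hz, Polynomial.eval_prod, ← hz.card_primitiveRoots,
      ← Finset.prod_const]
    refine Finset.prod_dvd_prod_of_dvd _ _ fun μ hμ => ?_
    rw [mem_primitiveRoots hm] at hμ
    obtain ⟨i, _, rfl⟩ := hz.eq_pow_of_pow_eq_one hμ.pow_eq_one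
    simp only [Polynomial.eval_sub, Polynomial.eval_X, Polynomial.eval_C]
    have := sub_one_dvd_pow_sub_one α i
    rw [← neg_sub (α ^ i) 1]
    exact this.neg_right
  by_cases hpp : ∃ q : ℕ, q.Prime ∧ ∃ k, q ^ k = orderOf α
  swap
  · exfalso
    push_neg at hpp
    rw [Polynomial.eval_one_cyclotomic_not_prime_pow (fun {q} hq k => hpp q hq k)] at key
    have hu : IsUnit (α - 1) := (isUnit_pow_iff (Nat.totient_pos.mpr hm).ne').mp (isUnit_of_dvd_one key)
    exact hO p hp hpn (isUnit_of_dvd_unit ((Nat.cast_dvd_cast hpn).trans h) (hu.pow 2))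
  obtain ⟨q, hq, k, hk⟩ := hpp
  cases k with
  | zero => exact absurd (orderOf_eq_one_iff.mp (by rw [← hk]; simp)) hα1
  | succ k =>
  haveI : Fact q.Prime := ⟨hq⟩
  rw [← hk, Polynomial.eval_one_cyclotomic_prime_pow, Nat.totient_prime_pow_succ hq] at key
  have h2 : (n : O) ^ (q ^ k * (q - 1)) ∣ (q : O) ^ 2 := by
    refine (pow_dvd_pow_of_dvd h _).trans ?_
    rw [← pow_mul, mul_comm 2, pow_mul]
    exact pow_dvd_pow_of_dvd key 2
  have hφ : 1 ≤ q ^ k * (q - 1) := Nat.one_le_iff_ne_zero.mpr (Nat.mul_ne_zero (pow_ne_zero _ hq.ne_zero) (by have := hq.two_le; omega))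
  have hall : ∀ r : ℕ, r.Prime → r ∣ n → r = q := by
    intro r hr hrn
    by_contra hne
    have hd : (r : O) ∣ (q : O) ^ 2 :=
      ((Nat.cast_dvd_cast hrn).trans (dvd_pow_self _ (by omega))).trans h2
    have hc : IsCoprime (r : O) ((q : O) ^ 2) := by
      have := (Nat.isCoprime_iff_coprime.mpr ((Nat.coprime_primes hr hq).mpr hne)).map (Int.castRingHom O)
      simpa using this.pow_right (n := 2)
    exact hO r hr hrn (hc.isUnit_of_dvd' dvd_rfl hd)
  have hna := Nat.eq_prime_pow_of_unique_prime_dvd (show n ≠ 0 by omega) (fun {d} hd hdn => hall d hd hdn)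
  set a := n.primeFactorsList.length
  have ha : 1 ≤ a := by
    by_contra hc
    rw [show a = 0 by omega] at hna; simp at hna; omega
  have hb : a * (q ^ k * (q - 1)) ≤ 2 := by
    by_contra hc
    apply hO q hq (hna ▸ dvd_pow_self q (by omega))
    have h3 : (q : O) ^ 2 * (q : O) ^ (a * (q ^ k * (q - 1)) - 2) ∣ (q : O) ^ 2 * 1 := by
      rw [← pow_add, mul_one, Nat.add_sub_cancel' (by omega), pow_mul]
      rw [hna] at h2
      simpa using h2
    exact (isUnit_pow_iff (by omega)).mp
      (isUnit_of_dvd_one ((mul_dvd_mul_iff_left (pow_ne_zero _ (Nat.cast_ne_zero.mpr hq.ne_zero))).mp h3))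
  have hq2 := hq.two_le
  have hqk : 1 ≤ q ^ k := Nat.one_le_pow _ _ (by omega)
  have hq3 : q ≤ 3 := by
    have : 1 * (1 * (q - 1)) ≤ a * (q ^ k * (q - 1)) := Nat.mul_le_mul ha (Nat.mul_le_mul hqk le_rfl)
    omega
  have hak : a * q ^ k ≤ 2 := by
    have : a * (q ^ k * 1) ≤ a * (q ^ k * (q - 1)) := Nat.mul_le_mul le_rfl (Nat.mul_le_mul le_rfl (by omega))
    rw [mul_one] at this
    omega
  have hk1 : k ≤ 1 := by
    by_contra hc
    have : 4 ≤ q ^ k := le_trans (Nat.pow_le_pow_left hq2 2) (Nat.pow_le_pow_right (by omega) (by omega))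
    nlinarith
  have ha2 : a ≤ 2 := by nlinarith
  have hp' := pow_orderOf_eq_one α
  rw [← hk] at hp'
  have e4 : α ^ 2 = 1 → α ^ 4 = 1 := fun e => by rw [show α ^ 4 = (α ^ 2) ^ 2 by ring, e, one_pow]
  interval_cases q <;> interval_cases k <;> interval_cases a <;>
    refine ⟨fun h5 => ?_, fun h5 => ?_, fun h5 => ?_, fun h5 => ?_⟩ <;>
    first
      | (exfalso; simp at hna hb hak; omega)
      | omega
      | simpa using hp'
      | exact e4 (by simpa using hp')

end Groth.Agent.S18598
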