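import Groth.Statements.S1861
import Groth.Agent.FibreTrdeg.Basic
-- import your own Groth.Agent.* helpers here

set_option autoImplicit false
universe u
open CategoryTheory AlgebraicGeometry
open Cyc

namespace Groth.Agent.S1861

/-- Let f : X → Y be flat, locally of finite type, of relative dimension r, y a point of Y and x a point
of X that is generic in an irreducible component of f⁻¹ of the closure of y (that is, x lies in that
closed set and has no proper generalization in it). Then f(x) = y and δX(x) = δY(y) + r. Here a pair
(X, δ) with Cyc.IsSetup plays the role of a scheme locally of finite type over a fixed base with a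
dimension function (X locally Noetherian with universally catenary local rings, δ a dimension
function), and Cyc.DeltaCompat records that the dimension function upstairs is the induced one. -/
theorem result (X Y : Scheme.{u}) (δX : X → ℤ) (δY : Y → ℤ) (hX : Cyc.IsSetup X δX) (hY : Cyc.IsSetup Y δY) (f : X ⟶ Y) [Flat f] [LocallyOfFiniteType f] (r : ℕ) (hr : Cyc.HasRelDim f r) (hδ : Cyc.DeltaCompat f δX δY) (y : Y) (x : X) (hx : f x ∈ closure ({y} : Set Y)) (hmax : ∀ x' : X, f x' ∈ closure ({y} : Set Y) → x' ⤳ x → x' = x) : f x = y ∧ δX x = δY y + r := by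
    have hy : f x = y := by
      obtain ⟨x', hx', e⟩ := Flat.generalizingMap f (specializes_iff_mem_closure.2 hx)
      rw [← hmax x' (e ▸ subset_closure rfl) hx']
      exact e
    refine ⟨hy, ?_⟩
    subst hy
    obtain ⟨x0, hx0⟩ : x ∈ Set.range (f.fiberι (f x)) := by rw [f.range_fiberι]; exact rfl
    have hmax0 : FibDim.IsMax' x0 := fun w hw => (f.fiberι (f x)).isEmbedding.injective (by
      rw [hx0]
      refine hmax _ ?_ ((hw.map (f.fiberι (f x)).continuous).trans (specializes_of_eq hx0))
      have : f.fiberι (f x) w ∈ f ⁻¹' {f x} := (f.range_fiberι (f x)).le ⟨w, rfl⟩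
      exact subset_closure this)
    obtain ⟨n, hn, hn'⟩ := FibreTrdeg.exists_trdeg_fibre f (f x) x0
    rw [hr (f x) _ (FibDim.closure_mem_components hmax0)] at hn'
    have hrn : r = n := by exact_mod_cast hn'
    obtain ⟨m, hm, hm'⟩ := hδ (f.fiberι (f x) x0)
    rw [hn] at hm
    have hnm : n = m := by exact_mod_cast hm
    rw [hx0] at hm'
    rw [hm', hrn, hnm]

end Groth.Agent.S1861
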