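import Groth.Statements.S18614
import Groth.Agent.LinTopLib.Defs
-- import your own Groth.Agent.* helpers here

set_option autoImplicit false
universe u v
open LinTop

namespace Groth.Agent.S18614

/-- Let k be a field carrying the discrete topology and M a separated topological k-module with a
k-linear topology (the open k-submodules form a basis of neighbourhoods of zero and M is a
topological additive group). For a closed submodule M₁, the perpendicular of the perpendicular of
M₁, both taken with respect to the pairing of M with its continuous dual (the continuous k-linear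
maps M → k), is M₁ itself: an element killed by every continuous functional vanishing on M₁ belongs
to M₁. -/
theorem result (k : Type u) (M : Type v) [Field k]
    [TopologicalSpace k] [DiscreteTopology k] [AddCommGroup M] [Module k M] [TopologicalSpace M]
    [IsTopologicalAddGroup M] [IsLinearTopology k M] [T2Space M]
    (M₁ : Submodule k M) (hM₁ : IsClosed (M₁ : Set M)) (x : M)
    (hx : ∀ φ : M →L[k] k, (∀ m ∈ M₁, φ m = 0) → φ x = 0) : x ∈ M₁ := by
  by_contra hx'
  have h0 : (fun y => x - y) ⁻¹' (M₁ : Set M)ᶜ ∈ nhds (0 : M) :=
    (continuous_const.sub continuous_id).continuousAt.preimage_mem_nhds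
      (hM₁.isOpen_compl.mem_nhds (by simpa using hx'))
  obtain ⟨U, hU, hUV⟩ := (IsLinearTopology.hasBasis_open_submodule k).mem_iff.1 h0
  have hxW : x ∉ M₁ ⊔ U := fun h => by
    obtain ⟨m, hm, u, hu, rfl⟩ := Submodule.mem_sup.1 h
    exact hUV hu (by simpa using hm)
  obtain ⟨g, hg, hgW⟩ := Submodule.exists_le_ker_of_notMem hxW
  have hcont : Continuous g := by
    refine continuous_of_continuousAt_zero g ?_
    rw [ContinuousAt, map_zero, nhds_discrete k, Filter.tendsto_pure]
    filter_upwards [hU.mem_nhds U.zero_mem] with y hy
    exact hgW (le_sup_right (a := M₁) hy)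
  exact hg (hx ⟨g, hcont⟩ fun m hm => hgW (le_sup_left (b := U) hm))

end Groth.Agent.S18614
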