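import Groth.Statements.S18615
import Groth.Agent.LinTopLib.Defs
-- import your own Groth.Agent.* helpers here

set_option autoImplicit false
universe u v
open LinTop

namespace Groth.Agent.S18615

/-- Let k be a field carrying the discrete topology and M a separated topological k-module with a
k-linear topology (open k-submodules form a basis of neighbourhoods of zero, M a topological
additive group). For closed submodules M₁ ⊆ M₂ there is a short exact sequence 0 → M₂^⊥ → M₁^⊥ →
(M₂/M₁)^* → 0 of plain k-modules, where ⊥ denotes the annihilator in the continuous dual of M and *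
the continuous dual. Stated here as its one non-formal part, surjectivity on the right: every
continuous functional on M₂ (subspace topology) that vanishes on M₁ is the restriction of a
continuous functional on M vanishing on M₁ (continuous functionals on M₂/M₁ being the continuous
functionals on M₂ that kill M₁). -/
theorem result (k : Type u) (M : Type v) [Field k]
    [TopologicalSpace k] [DiscreteTopology k] [AddCommGroup M] [Module k M] [TopologicalSpace M]
    [IsTopologicalAddGroup M] [IsLinearTopology k M] [T2Space M]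
    (M₁ M₂ : Submodule k M) (h₁₂ : M₁ ≤ M₂) (hM₁ : IsClosed (M₁ : Set M))
    (hM₂ : IsClosed (M₂ : Set M)) (ψ : M₂ →L[k] k)
    (hψ : ∀ m : M₂, (m : M) ∈ M₁ → ψ m = 0) :
    ∃ φ : M →L[k] k, (∀ m ∈ M₁, φ m = 0) ∧ ∀ m : M₂, φ (m : M) = ψ m := by
  have hK : (⇑ψ) ⁻¹' {0} ∈ nhds (0 : M₂) :=
    ((isOpen_discrete {(0 : k)}).preimage ψ.continuous).mem_nhds (map_zero ψ)
  rw [nhds_induced, Filter.mem_comap] at hK
  obtain ⟨t, ht, htK⟩ := hK
  obtain ⟨U, hU, hUt⟩ := (IsLinearTopology.hasBasis_open_submodule k).mem_iff.1 ht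
  let W : Submodule k M := M₁ ⊔ U
  have hker : W.comap M₂.subtype ≤ LinearMap.ker ψ.toLinearMap := by
    intro m hm
    obtain ⟨m₁, hm₁, u, hu, hmu⟩ := Submodule.mem_sup.1 hm
    have hu2 : u ∈ M₂ := by
      have e : u = (m : M) - m₁ := eq_sub_of_add_eq' hmu
      exact e ▸ M₂.sub_mem m.2 (h₁₂ hm₁)
    have h1 : ψ ⟨u, hu2⟩ = 0 := htK (show ((⟨u, hu2⟩ : M₂) : M) ∈ t from hUt hu)
    have h2 : ψ ⟨m₁, h₁₂ hm₁⟩ = 0 := hψ _ hm₁
    have : m = ⟨m₁, h₁₂ hm₁⟩ + ⟨u, hu2⟩ := Subtype.ext hmu.symm
    rw [LinearMap.mem_ker, this, map_add]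
    show ψ _ + ψ _ = 0
    rw [h1, h2, add_zero]
  let e := Submodule.mapQ (W.comap M₂.subtype) W M₂.subtype le_rfl
  have he : LinearMap.ker e = ⊥ := Submodule.ker_liftQ_eq_bot _ _ _ (by
    rw [LinearMap.ker_comp, Submodule.ker_mkQ])
  obtain ⟨l, hl⟩ := LinearMap.exists_leftInverse_of_injective e he
  let g : M →ₗ[k] k := (Submodule.liftQ _ ψ.toLinearMap hker ∘ₗ l) ∘ₗ W.mkQ
  have hgW : ∀ y ∈ W, g y = 0 := fun y hy => by
    simp [g, (Submodule.Quotient.mk_eq_zero W).2 hy]
  have hcont : Continuous g := by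
    refine continuous_of_continuousAt_zero g ?_
    rw [ContinuousAt, map_zero, nhds_discrete k, Filter.tendsto_pure]
    filter_upwards [hU.mem_nhds U.zero_mem] with y hy
    exact hgW y (le_sup_right (a := M₁) hy)
  refine ⟨⟨g, hcont⟩, fun m hm => hgW m (le_sup_left (b := U) hm), fun m => ?_⟩
  have : l (e (Submodule.Quotient.mk m)) = Submodule.Quotient.mk m := LinearMap.congr_fun hl _
  show Submodule.liftQ _ ψ.toLinearMap hker (l (e (Submodule.Quotient.mk m))) = ψ m
  rw [this]
  rfl

end Groth.Agent.S18615
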