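import Groth.Statements.S1863
import Groth.Agent.CycDiv.Basic
-- import your own Groth.Agent.* helpers here

set_option autoImplicit false
universe u
open CategoryTheory AlgebraicGeometry
open Cyc

namespace Groth.Agent.S1863

/-- Let U ⊆ X be open and α, β k-cycles on X whose restrictions to U are rationally equivalent on U (for
the restricted dimension function). Then there is a k-cycle γ on X vanishing on U with α rationally
equivalent to β + γ. Here a pair (X, δ) with Cyc.IsSetup plays the role of a scheme locally of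
finite type over a fixed base with a dimension function (X locally Noetherian with universally
catenary local rings, δ a dimension function). -/
theorem result (X : Scheme.{u}) (δ : X → ℤ) (hX : Cyc.IsSetup X δ) (U : X.Opens) (k : ℤ) (α β : AlgebraicCycle X ℤ) (hα : α ∈ Cyc.Zk X δ k) (hβ : β ∈ Cyc.Zk X δ k) (αU βU : AlgebraicCycle (↑U : Scheme.{u}) ℤ) (hαU : ∀ u : ↥U, αU u = α (U.ι u)) (hβU : ∀ u : ↥U, βU u = β (U.ι u)) (h : Cyc.RatEquiv (fun u : ↥U => δ (U.ι u)) k αU βU) : ∃ γ : AlgebraicCycle X ℤ, γ ∈ Cyc.Zk X δ k ∧ (∀ x : X, x ∈ U → γ x = 0) ∧ Cyc.RatEquiv δ k α (β + γ) := by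
  classical
  obtain ⟨hLN, -, hδ⟩ := hX
  haveI := hLN
  obtain ⟨ι, ξ, f, hξ, hf, hlf, hdiv⟩ := h
  let η : ι → X := fun i => U.ι (ξ i)
  let g : (i : ι) → X.residueField (η i) := fun i => CycDiv.pushVal U.ι (ξ i) (f i)
  have hfam : ∀ V : X.Opens, IsAffineOpen V → {i | (closure {η i} ∩ (V : Set X)).Nonempty}.Finite := by
    intro V hV
    haveI : IsNoetherianRing Γ(X, V) := IsLocallyNoetherian.component_noetherian ⟨V, hV⟩
    have hmem : ∀ i, (closure {η i} ∩ (V : Set X)).Nonempty → η i ∈ V := by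
      rintro i ⟨y, hy, hyV⟩
      exact (specializes_iff_mem_closure.mpr hy).mem_open V.2 hyV
    have hcpt : IsCompact (U.ι ⁻¹' (V : Set X)) := by
      haveI := (noetherianSpace_of_isAffineOpen V hV)
      rw [U.ι.isOpenEmbedding.isInducing.isCompact_iff, Set.image_preimage_eq_inter_range]
      have := (TopologicalSpace.NoetherianSpace.isCompact
        (Subtype.val ⁻¹' Set.range U.ι : Set V)).image continuous_subtype_val
      exact (Subtype.image_preimage_coe (V : Set X) (Set.range U.ι)) ▸ this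
    choose W hWo hmemW hWfin using hlf
    obtain ⟨S, hS⟩ := hcpt.elim_finite_subcover W hWo (fun u _ => Set.mem_iUnion.mpr ⟨u, hmemW u⟩)
    refine (S.finite_toSet.biUnion fun u _ => hWfin u).subset fun i hi => ?_
    obtain ⟨u, hu, hiu⟩ := Set.mem_iUnion₂.mp (hS (show ξ i ∈ U.ι ⁻¹' (V : Set X) from hmem i hi))
    exact Set.mem_biUnion hu ⟨ξ i, subset_closure rfl, hiu⟩
  have hne : ∀ (i : ι) (x : X), Cyc.divFun δ (η i) (g i) x ≠ 0 → η i ⤳ x ∧ δ x = k := by
    intro i x hx
    rw [Cyc.divFun] at hx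
    split_ifs at hx with h'
    · refine ⟨h'.1, ?_⟩
      have h2 : δ x + 1 = δ (η i) := h'.2
      have h3 : δ (η i) = k + 1 := hξ i
      omega
    · exact absurd rfl hx
  let Dfun : X → ℤ := fun x => ∑ᶠ i, Cyc.divFun δ (η i) (g i) x
  have hDk : ∀ x, δ x ≠ k → Dfun x = 0 := fun x hx =>
    finsum_eq_zero_of_forall_eq_zero fun i => by
      by_contra hc
      exact hx (hne i x hc).2
  let D : AlgebraicCycle X ℤ :=
    { toFun := Dfun
      supportWithinDomain' := by simp
      supportLocallyFiniteWithinDomain' := fun z _ => by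
        obtain ⟨V, hV, hzV, -⟩ := exists_isAffineOpen_mem_and_subset (X := X) (x := z) (U := ⊤) trivial
        refine ⟨V, V.2.mem_nhds hzV, ((hfam V hV).biUnion fun i _ =>
          CycDiv.exists_nhd_finite_divFun δ hδ (η i) (g i) (CycDiv.pushVal_ne_zero _ _ _ (hf i)) hV).subset ?_⟩
        rintro x ⟨hxV, hx⟩
        obtain ⟨i, hi⟩ : ∃ i, Cyc.divFun δ (η i) (g i) x ≠ 0 := by
          by_contra hc
          push Not at hc
          exact hx (finsum_eq_zero_of_forall_eq_zero hc)
        exact Set.mem_biUnion ⟨x, specializes_iff_mem_closure.mp (hne i x hi).1, hxV⟩ ⟨hxV, hi⟩ }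
  refine ⟨α - β - D, fun x hx => ?_, fun x hxU => ?_, ι, η, g, hξ,
    fun i => CycDiv.pushVal_ne_zero _ _ _ (hf i), fun x => ?_, fun x => ?_⟩
  · show α x - β x - Dfun x = 0
    rw [hα x hx, hβ x hx, hDk x hx]
    simp
  · obtain ⟨u, rfl⟩ : ∃ u : U, U.ι u = x := ⟨⟨x, hxU⟩, rfl⟩
    show α (U.ι u) - β (U.ι u) - Dfun (U.ι u) = 0
    rw [← hαU, ← hβU, sub_eq_zero]
    refine (hdiv u).trans (finsum_congr fun i => ?_)
    exact (CycDiv.divFun_comp U.ι δ (ξ i) u (f i)).symm
  · obtain ⟨V, hV, hzV, -⟩ := exists_isAffineOpen_mem_and_subset (X := X) (x := x) (U := ⊤) trivial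
    exact ⟨V, V.2, hzV, hfam V hV⟩
  · show α x - (β x + (α x - β x - Dfun x)) = _
    ring_nf
    rfl


end Groth.Agent.S1863
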