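import Groth.Statements.S18635
import Mathlib
import Groth.Agent.GrInj.NonHomBass
import Groth.Agent.GrInj.NonHom
import Groth.Agent.LocCohLib.Shift
-- import your own Groth.Agent.* helpers here

set_option autoImplicit false
universe u
open GrLC CategoryTheory

namespace Groth.Agent.S18635

/-- Let R be a commutative Noetherian ℤ-graded ring and M a *injective graded R-module (an injective
object of the category of graded R-modules). Then M fails to be injective as an ordinary R-module —
equivalently, since a *injective graded module has ordinary injective dimension at most 1, its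
ordinary injective dimension is exactly 1 — if and only if there is a prime ideal p of R which is
not graded and whose graded core p* (the largest graded ideal contained in p, itself a prime) is an
associated prime of M. -/
theorem result (R : Type u) [CommRing R] [IsNoetherianRing R] (𝒜 : ℤ → AddSubgroup R) [GradedRing 𝒜] (M : Type u) [AddCommGroup M] [Module R M] (ℳ : ℤ → AddSubgroup M) [DirectSum.Decomposition ℳ] [SetLike.GradedSMul 𝒜 ℳ] (hM : GrLC.IsStarInj 𝒜 ℳ) : ¬ Module.Injective R M ↔ ∃ p : Ideal R, p.IsPrime ∧ ¬ Ideal.IsHomogeneous 𝒜 p ∧ (Ideal.homogeneousCore 𝒜 p).toIdeal ∈ associatedPrimes R M := by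
  classical
  have hdata : ∀ p : Ideal R, ∀ hp : p.IsPrime, ¬ Ideal.IsHomogeneous 𝒜 p →
      (@GrLC.bassNum R _ (Ideal.homogeneousCore 𝒜 p).toIdeal (Ideal.IsPrime.homogeneousCore (𝒜 := 𝒜) (I := p) hp) M _ _ 0 = 0 ↔
        ¬ (Ideal.homogeneousCore 𝒜 p).toIdeal ∈ associatedPrimes R M) := by
    intro p hp _
    haveI := Ideal.IsPrime.homogeneousCore (𝒜 := 𝒜) (I := p) hp
    obtain ⟨b⟩ := GrInj.nonempty_pBasis (Ideal.homogeneousCore 𝒜 p) ℳ
    rw [GrInj.bassNum_core _ b, ENat.card_eq_zero_iff_empty]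
    constructor
    · intro he hass
      obtain ⟨y, hy⟩ := (isAssociatedPrime_iff.1 hass).2
      have hmem : ∀ r : R, r ∈ (Ideal.homogeneousCore 𝒜 p).toIdeal ↔ r • y = 0 := fun r => by
        rw [hy, Submodule.mem_colon_singleton, Submodule.mem_bot]
      obtain ⟨s, -, hs, hmem'⟩ := b.spanning y fun r hr => (hmem r).1 hr
      rw [Set.eq_empty_iff_forall_notMem.2 fun t ht => he.elim ⟨t, ht⟩, Submodule.span_empty, Submodule.mem_bot] at hmem'
      exact hs ((hmem s).2 hmem')
    · intro hass
      refine ⟨fun ⟨t, ht⟩ => hass (isAssociatedPrime_iff.2 ⟨inferInstance, t, ?_⟩)⟩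
      ext r
      rw [Submodule.mem_colon_singleton, Submodule.mem_bot]
      refine ⟨fun hr => b.killed t ht r hr, fun hr => ?_⟩
      exact b.indep {t} (fun _ => r) (by simpa using ht) (by simpa using hr) t (Finset.mem_singleton_self t)
  have hone : ∀ p : Ideal R, ∀ hp : p.IsPrime, ¬ Ideal.IsHomogeneous 𝒜 p →
      @GrLC.bassNum R _ p hp M _ _ 1 = @GrLC.bassNum R _ (Ideal.homogeneousCore 𝒜 p).toIdeal
        (Ideal.IsPrime.homogeneousCore (𝒜 := 𝒜) (I := p) hp) M _ _ 0 := by
    intro p hp hph
    haveI := Ideal.IsPrime.homogeneousCore (𝒜 := 𝒜) (I := p) hp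
    have hPq : (Ideal.homogeneousCore 𝒜 p).toIdeal ≤ p := Ideal.toIdeal_homogeneousCore_le 𝒜 p
    have hcore : ∀ d, ∀ a ∈ 𝒜 d, a ∈ p → a ∈ (Ideal.homogeneousCore 𝒜 p).toIdeal :=
      fun d a ha hap => Ideal.mem_homogeneousCore_of_homogeneous_of_mem ⟨d, ha⟩ hap
    obtain ⟨π, hπ, hπP, hπx⟩ := GrInj.exists_uniformizer (q := p) hPq hcore fun h => hph (by
      rw [← h]; exact (Ideal.homogeneousCore 𝒜 p).isHomogeneous)
    exact GrInj.bassNum_above _ hPq hcore hπ hπP hπx 0 M ℳ
  constructor
  · intro hinj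
    by_contra hno
    push Not at hno
    refine hinj (GrInj.injective_of_ext_residue fun p hp => ?_)
    by_cases hph : Ideal.IsHomogeneous 𝒜 p
    · obtain ⟨P, rfl⟩ : ∃ P : HomogeneousIdeal 𝒜, P.toIdeal = p := ⟨⟨p, hph⟩, rfl⟩
      haveI : Module.Finite R (GMod.of 𝒜 (R ⧸ P.toIdeal) (quotGr 𝒜 P)).carrier :=
        inferInstanceAs (Module.Finite R (R ⧸ P.toIdeal))
      exact GrInj.subsingleton_ext_loc P.toIdeal.primeCompl hM 0 (GMod.of 𝒜 (R ⧸ P.toIdeal) (quotGr 𝒜 P))
    · have h1 := hone p hp hph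
      rw [(hdata p hp hph).2 (hno p hp hph)] at h1
      have h2 : Subsingleton (Abelian.Ext.{u} (ModuleCat.of (Localization.AtPrime p)
          (IsLocalRing.ResidueField (Localization.AtPrime p))) (GrInj.locMod p.primeCompl M) 1) :=
        Module.length_eq_zero_iff.1 h1
      obtain ⟨e⟩ := GrInj.nonempty_iso_residueField p
      refine subsingleton_of_forall_eq 0 fun x => ?_
      have h0 : (Abelian.Ext.mk₀ e.inv).comp x (zero_add _) = 0 := @Subsingleton.elim _ h2 _ _
      rw [← Abelian.Ext.mk₀_id_comp x, ← e.hom_inv_id, ← Abelian.Ext.mk₀_comp_mk₀,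
        Abelian.Ext.comp_assoc_of_second_deg_zero, h0, Abelian.Ext.comp_zero]
  · rintro ⟨p, hp, hph, hass⟩ hinj
    haveI := hp
    haveI : Injective (ModuleCat.of R M) := Module.injective_object_of_injective_module R M
    haveI : Injective (GrInj.locMod p.primeCompl M) := LocCohLib.injective_localized p.primeCompl (ModuleCat.of R M)
    have h1 : GrLC.bassNum p M 1 = 0 := by
      show Module.length _ (Abelian.Ext.{u} _ (GrInj.locMod p.primeCompl M) 1) = 0
      rw [Module.length_eq_zero_iff]
      exact subsingleton_of_forall_eq 0 fun x => Abelian.Ext.eq_zero_of_injective x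
    exact (hdata p hp hph).1 ((hone p hp hph).symm.trans h1) hass

end Groth.Agent.S18635
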