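import Groth.Statements.S18637
import Mathlib
import Groth.Agent.GrInj.Ext
import Groth.Agent.GrInj.Prime
import Groth.Agent.S13220
-- import your own Groth.Agent.* helpers here

set_option autoImplicit false
universe u
open GrLC

namespace Groth.Agent.S18637

section
open GrLC

variable {R : Type u} [CommRing R] [IsNoetherianRing R] (𝒜 : ℤ → AddSubgroup R) [GradedRing 𝒜]
  (m : HomogeneousIdeal 𝒜) [m.toIdeal.IsMaximal]
  {E' : Type u} [AddCommGroup E'] [Module R E'] {𝓔 : ℤ → AddSubgroup E'} [DirectSum.Decomposition 𝓔]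
  [SetLike.GradedSMul 𝒜 𝓔]

theorem extend_of_pow_le (hI : IsStarInj 𝒜 𝓔) (j : ℕ) : ∀ J : Ideal R, m.toIdeal ^ j ≤ J →
    ∀ g : J →ₗ[R] E', ∃ y : E', ∀ x : J, g x = (x : R) • y := by
  intro J
  induction J using WellFoundedGT.induction with
  | ind J ih =>
    intro hJ g
    by_cases hT : J = ⊤
    · subst hT
      exact ⟨g ⟨1, Submodule.mem_top⟩, fun x => by
        rw [← map_smul]; congr 1; exact Subtype.ext (mul_one _).symm⟩
    classical
    have hex : ∃ t, m.toIdeal ^ t ≤ J := ⟨j, hJ⟩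
    let t := Nat.find hex
    have ht : t ≠ 0 := fun h => hT (top_le_iff.1 (by
      have := Nat.find_spec hex
      rw [show Nat.find hex = 0 from h, pow_zero, Ideal.one_eq_top] at this
      exact this))
    obtain ⟨x, hx, hxJ⟩ := SetLike.not_le_iff_exists.1 (Nat.find_min hex (show t - 1 < Nat.find hex by omega))
    have hmx : ∀ r ∈ m.toIdeal, r * x ∈ J := fun r hr => Nat.find_spec hex (by
      rw [show Nat.find hex = (t - 1) + 1 by omega, pow_succ']
      exact Ideal.mul_mem_mul hr hx)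
    let S : GMod.{u} 𝒜 := GrInj.subMod 𝒜 (ℳ := 𝒜) m.toIdeal m.isHomogeneous
    haveI : Module.Finite R S.carrier := inferInstanceAs (Module.Finite R m.toIdeal)
    let f : S.carrier →ₗ[R] R := GrInj.subInc 𝒜 m.toIdeal m.isHomogeneous
    let h : S.carrier →ₗ[R] E' :=
      g ∘ₗ LinearMap.codRestrict J (LinearMap.mulRight R x ∘ₗ (f)) fun z => hmx _ (by
        let z' : m.toIdeal := z
        exact z'.2)
    obtain ⟨v, hv⟩ := GrInj.exists_extension hI (GrInj.grHom_subInc (𝒜 := 𝒜) m.isHomogeneous)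
      (GrInj.subInc_injective (𝒜 := 𝒜) m.isHomogeneous) h
    have hy : ∀ r (hr : r ∈ m.toIdeal), g ⟨r * x, hmx r hr⟩ = r • v (1 : R) := fun r hr => by
      let z : m.toIdeal := ⟨r, hr⟩
      refine (LinearMap.congr_fun hv (show S.carrier from z)).symm.trans ?_
      show v r = r • v (1 : R)
      rw [← map_smul, smul_eq_mul, mul_one]
    let π : (J × R) →ₗ[R] R := LinearMap.coprod J.subtype (LinearMap.toSpanSingleton R R x)
    let ψ : (J × R) →ₗ[R] E' := LinearMap.coprod g (LinearMap.toSpanSingleton R E' (v (1 : R)))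
    have hker : LinearMap.ker π ≤ LinearMap.ker ψ := by
      rintro ⟨a, r⟩ har
      have h1 : (a : R) + r * x = 0 := har
      have hrx : r * x ∈ J := by
        rw [eq_neg_of_add_eq_zero_right h1]; exact neg_mem a.2
      have hrm : r ∈ m.toIdeal := by
        by_contra hrm
        obtain ⟨s, i, hi, hsi⟩ := Ideal.IsMaximal.exists_inv ‹m.toIdeal.IsMaximal› hrm
        refine hxJ ?_
        have h3 : x = s * (r * x) + i * x := by rw [← mul_assoc, ← add_mul, hsi, one_mul]
        rw [h3]
        exact add_mem (J.mul_mem_left s hrx) (hmx i hi)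
      show g a + r • v (1 : R) = 0
      rw [← hy r hrm, ← map_add, show a + ⟨r * x, hmx r hrm⟩ = 0 from Subtype.ext h1, map_zero]
    have hlt : J < LinearMap.range π := lt_of_le_of_ne (fun a ha => ⟨(⟨a, ha⟩, 0), by simp [π]⟩)
      fun h => hxJ (h ▸ ⟨(0, 1), by simp [π]⟩)
    obtain ⟨y, hy'⟩ := ih (LinearMap.range π) hlt (hJ.trans hlt.le)
      ((LinearMap.ker π).liftQ ψ hker ∘ₗ π.quotKerEquivRange.symm.toLinearMap)
    refine ⟨y, fun a => ?_⟩
    have h4 := hy' ⟨π (a, 0), LinearMap.mem_range_self π _⟩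
    rw [LinearMap.comp_apply, LinearEquiv.coe_coe, LinearMap.quotKerEquivRange_symm_apply_image π (a, 0)] at h4
    simpa [π, ψ] using h4

theorem baer (hI : IsStarInj 𝒜 𝓔) (htor : gam m.toIdeal E' = ⊤) : Module.Baer R E' := by
  intro I g
  classical
  let T : ℕ →o Submodule R I := ⟨fun n =>
    { carrier := {x | ∀ r ∈ m.toIdeal ^ n, r • g x = 0}
      add_mem' := fun {a b} ha hb r hr => by rw [map_add, smul_add, ha r hr, hb r hr, add_zero]
      zero_mem' := fun r _ => by rw [map_zero, smul_zero]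
      smul_mem' := fun c a ha r hr => by rw [map_smul, smul_comm, ha r hr, smul_zero] },
    fun p q hpq a ha r hr => ha r (Ideal.pow_le_pow_right hpq hr)⟩
  obtain ⟨k, hk⟩ := monotone_stabilizes_iff_noetherian.2 (inferInstance : IsNoetherian R I) T
  have hkill : ∀ x : I, ∀ r ∈ m.toIdeal ^ k, r • g x = 0 := fun x => by
    obtain ⟨n, hn⟩ : g x ∈ gam m.toIdeal E' := htor ▸ Submodule.mem_top
    have h1 : x ∈ T (max k n) := T.monotone (le_max_right k n) hn
    rw [← hk _ (le_max_left k n)] at h1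
    exact h1
  obtain ⟨c, hc⟩ := Ideal.exists_pow_inf_eq_pow_smul m.toIdeal (I : Submodule R R)
  have hvan : ∀ x : I, (x : R) ∈ m.toIdeal ^ (k + c) → g x = 0 := fun x hx => by
    have h1 : (x : R) ∈ (m.toIdeal ^ k) • (I : Submodule R R) := by
      have h2 : (x : R) ∈ m.toIdeal ^ (k + c) • (⊤ : Submodule R R) ⊓ I :=
        ⟨by rw [smul_eq_mul, Ideal.mul_top]; exact hx, x.2⟩
      rw [hc (k + c) (by omega), Nat.add_sub_cancel] at h2
      exact Submodule.smul_mono le_rfl inf_le_right h2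
    have h3 : x ∈ (m.toIdeal ^ k) • (⊤ : Submodule R I) := by
      rwa [Submodule.mem_smul_top_iff]
    exact Submodule.smul_induction_on (p := fun z => g z = 0) h3
      (fun r hr z _ => by rw [map_smul, hkill z r hr])
      fun a b ha hb => by rw [map_add, ha, hb, add_zero]
  let P : (I × (m.toIdeal ^ (k + c) : Ideal R)) →ₗ[R] R :=
    LinearMap.coprod I.subtype (m.toIdeal ^ (k + c)).subtype
  let ψ : (I × (m.toIdeal ^ (k + c) : Ideal R)) →ₗ[R] E' := g ∘ₗ LinearMap.fst R _ _
  have hker : LinearMap.ker P ≤ LinearMap.ker ψ := by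
    rintro ⟨a, b⟩ hab
    exact hvan a (by rw [eq_neg_of_add_eq_zero_left (show (a : R) + b = 0 from hab)]; exact neg_mem b.2)
  obtain ⟨y, hy⟩ := extend_of_pow_le 𝒜 m hI (k + c) (LinearMap.range P)
    (fun a ha => ⟨(0, ⟨a, ha⟩), by simp [P]⟩)
    ((LinearMap.ker P).liftQ ψ hker ∘ₗ P.quotKerEquivRange.symm.toLinearMap)
  refine ⟨LinearMap.toSpanSingleton R E' y, fun x hx => ?_⟩
  have h4 := hy ⟨P (⟨x, hx⟩, 0), LinearMap.mem_range_self P _⟩
  rw [LinearMap.comp_apply, LinearEquiv.coe_coe, LinearMap.quotKerEquivRange_symm_apply_image P (⟨x, hx⟩, 0)] at h4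
  simpa [P, ψ] using h4.symm

end

/-- Let R be a commutative Noetherian ℤ-graded ring and m a maximal ideal of R which is graded. If e :
R/m → E is a *injective envelope of R/m in the category of graded R-modules (E graded and
*injective, e degree-preserving and injective, every nonzero graded submodule of E meeting the
image), then e is an injective hull of R/m as an ordinary R-module: E is an injective R-module and e
is an essential injection. -/
theorem result (R : Type u) [CommRing R] [IsNoetherianRing R] (𝒜 : ℤ → AddSubgroup R) [GradedRing 𝒜] (m : HomogeneousIdeal 𝒜) [m.toIdeal.IsMaximal] (E' : Type u) [AddCommGroup E'] [Module R E'] (𝓔 : ℤ → AddSubgroup E') [DirectSum.Decomposition 𝓔] [SetLike.GradedSMul 𝒜 𝓔] (e : (R ⧸ m.toIdeal) →ₗ[R] E') (he : GrLC.IsStarInjHull 𝒜 (GrLC.quotGr 𝒜 m) 𝓔 e) : InjHull.IsInjectiveHull e := by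
  haveI : m.toIdeal.IsPrime := Ideal.IsMaximal.isPrime inferInstance
  exact ⟨GrInj.isEssentialInj 𝒜 he.toIsStarEss,
    Module.Baer.injective (baer 𝒜 m he.starInj (S13220.result R 𝒜 m E' 𝓔 e he))⟩

end Groth.Agent.S18637
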