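import Groth.Statements.S18638
import Mathlib
import Groth.Agent.GrInj.CanSocle
-- import your own Groth.Agent.* helpers here

set_option autoImplicit false
universe u
open GrLC

namespace Groth.Agent.S18638

/-- Let R be a graded ring defined over a field which is Cohen–Macaulay, and K_R its canonical module.
Then R is Gorenstein exactly when K_R is isomorphic to a degree shift R(a) of R for some integer a,
that is, there is a bijective R-linear map R → K_R homogeneous of some fixed degree. Here 'graded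
ring defined over a field' means R = ⊕_{n ≥ 0} R_n is Noetherian with R_0 a field (so R is finitely
generated over R_0), m = R_+ is its unique graded maximal ideal and n = dim R; the canonical module
K_R (the graded dual of H^n_m(R)) is represented by a finitely generated graded module C together
with a homogeneous isomorphism from Hom_R(C, E) onto H^n_m(R), where E is a *injective envelope of
R/m and H^n_m(R) is computed from a *injective resolution of R in the graded category; by graded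
Matlis duality this says exactly that C ≅ K_R as graded modules. -/
theorem result (R : Type u) [CommRing R] [LocCoh.IsCohenMacaulayRing R] (𝒜 : ℤ → AddSubgroup R) [GradedRing 𝒜] (hpos : ∀ n : ℤ, n < 0 → 𝒜 n = ⊥) (h0 : IsField (GrLC.deg0 𝒜)) (m : HomogeneousIdeal 𝒜) (hm : GrLC.IsStarLocal 𝒜 m) (hmsp : m.toIdeal = Ideal.span (⋃ n ∈ Set.Ioi (0 : ℤ), (𝒜 n : Set R))) (n : ℕ) (hn : ringKrullDim R = n) (I : GrLC.StarInjRes 𝒜 𝒜) (E' : Type u) [AddCommGroup E'] [Module R E'] (𝓔 : ℤ → AddSubgroup E') [DirectSum.Decomposition 𝓔] [SetLike.GradedSMul 𝒜 𝓔] (e : (R ⧸ m.toIdeal) →ₗ[R] E') (he : GrLC.IsStarInjHull 𝒜 (GrLC.quotGr 𝒜 m) 𝓔 e) (C : Type u) [AddCommGroup C] [Module R C] (𝒞 : ℤ → AddSubgroup C) [DirectSum.Decomposition 𝒞] [SetLike.GradedSMul 𝒜 𝒞] (hC : GrLC.IsStarCanonical 𝒜 𝒞 𝓔 m n I) : LocCoh.IsGorensteinRing R ↔ ∃ (a : ℤ) (f : R →ₗ[R] C), Function.Bijective f ∧ GrLC.IsGrHomDeg 𝒜 𝒞 f a := by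
  haveI : m.toIdeal.IsMaximal := GrInj.star_isMaximal hpos hm
  obtain ⟨hfin, φ, hφ⟩ := hC
  haveI : Module.Finite R C := hfin
  rw [GrInj.isGorensteinRing_iff_socle hpos hm hn I, GrInj.length_socle_dual e he.toIsStarEss C φ, Nat.cast_eq_one]
  constructor
  · intro h
    obtain ⟨d, x, hx, hspan⟩ := GrInj.exists_generator (𝒞 := 𝒞) hpos
      (fun r hr => GrInj.pr_zero_of_mem_pow hpos hmsp 1 r (by rwa [pow_one]) 0 (by norm_num)) h
    refine ⟨d, LinearMap.toSpanSingleton R C x, ⟨(injective_iff_map_eq_zero _).2 fun s hs => ?_, fun y => ?_⟩,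
      fun g s hs => GrInj.smul_mem_gr hs hx⟩
    · refine GrInj.eq_zero_of_pr (ℳ := 𝒜) fun g => ?_
      have hs0 : GrInj.pr 𝒜 g s • x = 0 := by
        have h1 := congrArg (GrInj.pr 𝒞 (g + d)) (show s • x = 0 from hs)
        rw [map_zero, ← GrInj.sum_supp (ℳ := 𝒜) s, Finset.sum_smul, map_sum] at h1
        rw [Finset.sum_eq_single g (fun i _ hi => GrInj.pr_of_ne
          (GrInj.smul_mem_gr (GrInj.pr_mem (ℳ := 𝒜) i s) hx) (by omega)) (fun h => by rw [GrInj.pr_eq_zero h, zero_smul, map_zero]),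
          GrInj.pr_of_mem (GrInj.smul_mem_gr (GrInj.pr_mem (ℳ := 𝒜) g s) hx)] at h1
        exact h1
      refine GrInj.eq_zero_of_smul_top_cm hpos hm hmsp hn I (GrInj.pr_mem g s) fun c => ?_
      rw [← φ.apply_symm_apply c, ← map_smul]
      refine (congrArg φ (LinearMap.ext fun y => ?_)).trans (map_zero φ)
      obtain ⟨r, rfl⟩ := Submodule.mem_span_singleton.1 (show y ∈ Submodule.span R {x} by rw [hspan]; trivial)
      show GrInj.pr 𝒜 g s • φ.symm c (r • x) = 0
      rw [← map_smul, smul_comm, hs0, smul_zero, map_zero]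
    · obtain ⟨r, rfl⟩ := Submodule.mem_span_singleton.1 (show y ∈ Submodule.span R {x} by rw [hspan]; trivial)
      exact ⟨r, rfl⟩
  · rintro ⟨-, f, hf, -⟩
    let eq : TensorProduct R (R ⧸ m.toIdeal) C ≃ₗ[R ⧸ m.toIdeal] (R ⧸ m.toIdeal) :=
      (TensorProduct.AlgebraTensorModule.congr (LinearEquiv.refl (R ⧸ m.toIdeal) (R ⧸ m.toIdeal))
        (LinearEquiv.ofBijective f hf).symm).trans (TensorProduct.AlgebraTensorModule.rid R (R ⧸ m.toIdeal) (R ⧸ m.toIdeal))
    letI : Field (R ⧸ m.toIdeal) := Ideal.Quotient.field m.toIdeal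
    rw [eq.finrank_eq]
    exact Module.finrank_self _

end Groth.Agent.S18638
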