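import Groth.Statements.S18639
import Mathlib
import Groth.Agent.GrInj.NonHom
import Groth.Agent.CanonMod.InjDim
import Groth.Agent.S13215
-- import your own Groth.Agent.* helpers here

set_option autoImplicit false
universe u
open GrLC

namespace Groth.Agent.S18639

theorem injDim_of_gmod {R : Type u} [CommRing R] [IsNoetherianRing R] {𝒜 : ℤ → AddSubgroup R} [GradedRing 𝒜]
    (Z : GMod.{u} 𝒜) (h : IsStarInj 𝒜 Z.gr) : CategoryTheory.HasInjectiveDimensionLT (ModuleCat.of R Z.carrier) 2 :=
  GrInj.injDimLT_two_of_starInj h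

open Groth.Agent.GrInj CategoryTheory in
open CategoryTheory.Abelian (Ext) in
theorem starInj_of_ext_loc {R : Type u} [CommRing R] [IsNoetherianRing R] {𝒜 : ℤ → AddSubgroup R} [GradedRing 𝒜]
    {m : HomogeneousIdeal 𝒜} (hm : IsStarLocal 𝒜 m) [m.toIdeal.IsPrime] (Z : GMod.{u} 𝒜)
    (hext : ∀ P : HomogeneousIdeal 𝒜, P.toIdeal.IsPrime → Subsingleton
      (Ext.{u} (locMod m.toIdeal.primeCompl (R ⧸ P.toIdeal)) (locMod m.toIdeal.primeCompl Z.carrier) 1)) :
    IsStarInj 𝒜 Z.gr := by
  classical
  obtain ⟨X, f, hf⟩ := GrInj.exists_hull 𝒜 Z.gr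
  have hess := GrInj.isEssentialInj 𝒜 hf.toIsStarEss
  have hH : (LinearMap.range f).IsHomogeneous X.gr := GrInj.hom_range hf.grHom
  have hsurj : Function.Surjective f := by
    intro x
    by_contra hx
    obtain ⟨i, hi⟩ : ∃ i, GrInj.pr X.gr i x ∉ LinearMap.range f := by
      by_contra h
      push Not at h
      exact hx (GrInj.mem_of_pr (ℳ := X.gr) (P := LinearMap.range f) h)
    let col : X.carrier → Ideal R := fun z => (LinearMap.range f).comap (LinearMap.toSpanSingleton R X.carrier z)
    have hcol : ∀ z r, r ∈ col z ↔ r • z ∈ LinearMap.range f := fun z r => Iff.rfl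
    let T : Set (Ideal R) := {J | ∃ (g : ℤ) (z : X.carrier), z ∈ X.gr g ∧ z ∉ LinearMap.range f ∧ J = col z}
    obtain ⟨J, ⟨g, z, hz, hzr, rfl⟩, hmax⟩ :=
      (set_has_maximal_iff_noetherian.2 inferInstance) T ⟨_, i, _, GrInj.pr_mem i x, hi, rfl⟩
    have hhom : (col z).IsHomogeneous 𝒜 := fun d r hr => by
      show GrInj.pr 𝒜 d r • z ∈ LinearMap.range f
      have h := hH (d + g) ((hcol z r).1 hr)
      have he : GrInj.pr X.gr (d + g) (r • z) = GrInj.pr 𝒜 d r • z := by
        rw [← GrInj.sum_supp (ℳ := 𝒜) r, Finset.sum_smul, map_sum, map_sum, Finset.sum_smul]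
        refine Finset.sum_congr rfl fun t _ => ?_
        rcases eq_or_ne t d with rfl | ht
        · rw [GrInj.pr_of_mem (GrInj.pr_mem (ℳ := 𝒜) t r), GrInj.pr_of_mem (GrInj.smul_mem_gr (GrInj.pr_mem t r) hz)]
        · rw [GrInj.pr_of_ne (GrInj.pr_mem (ℳ := 𝒜) t r) ht, zero_smul,
            GrInj.pr_of_ne (GrInj.smul_mem_gr (GrInj.pr_mem (ℳ := 𝒜) t r) hz) (by omega)]
      rw [← he]
      exact h
    have hne : col z ≠ ⊤ := fun h => hzr (by
      have := (hcol z 1).1 (h ▸ Submodule.mem_top)
      rwa [one_smul] at this)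
    haveI hP : (col z).IsPrime := GrInj.isPrime_of_homogeneous 𝒜 hhom hne fun {a b p q} hp hq hpq => by
      by_contra h
      push Not at h
      have hle : col z ≤ col (q • z) := fun r hr => by
        rw [hcol, smul_comm]; exact (LinearMap.range f).smul_mem q ((hcol z r).1 hr)
      refine hmax (col (q • z)) ⟨b + g, q • z, GrInj.smul_mem_gr hq hz, fun hmem => h.2 ((hcol z q).2 hmem), rfl⟩
        (lt_of_le_of_ne hle fun e => h.1 ?_)
      rw [e, hcol, ← mul_smul]
      exact hpq
    let P : HomogeneousIdeal 𝒜 := ⟨col z, hhom⟩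
    have hle : P.toIdeal ≤ m.toIdeal := GrInj.star_le hm P hne
    exact GrInj.false_of_ess_of_ext m.toIdeal.primeCompl hess (fun s hs h => hs (hle h)) (z := z)
      (fun r => Iff.rfl) (hext P hP)
  exact GrInj.starInj_of_retract hf.starInj hf.grHom
    (r := (LinearEquiv.ofBijective f ⟨hf.injective, hsurj⟩).symm.toLinearMap)
    (GrInj.grHom_symm (LinearEquiv.ofBijective f ⟨hf.injective, hsurj⟩) hf.grHom)
    (LinearMap.ext fun x => (LinearEquiv.ofBijective f ⟨hf.injective, hsurj⟩).symm_apply_apply x)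

/-- Let R be a graded ring defined over a field which is Cohen–Macaulay, with graded maximal ideal m and
canonical module K_R. Then (i) K_R is a Cohen–Macaulay R-module — stated here at m: the localisation
of K_R at m is a Cohen–Macaulay module over R_m, which is what the published proof computes (the Ext
groups of the residue field into K_R vanish outside degree n = dim R) — and (ii) K_R has finite
injective dimension as an R-module. Here 'graded ring defined over a field' means R = ⊕_{n ≥ 0} R_n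
is Noetherian with R_0 a field (so R is finitely generated over R_0), m = R_+ is its unique graded
maximal ideal and n = dim R; the canonical module K_R (the graded dual of H^n_m(R)) is represented
by a finitely generated graded module C together with a homogeneous isomorphism from Hom_R(C, E)
onto H^n_m(R), where E is a *injective envelope of R/m and H^n_m(R) is computed from a *injective
resolution of R in the graded category; by graded Matlis duality this says exactly that C ≅ K_R as
graded modules. -/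
theorem result (R : Type u) [CommRing R] [LocCoh.IsCohenMacaulayRing R] (𝒜 : ℤ → AddSubgroup R) [GradedRing 𝒜] (hpos : ∀ n : ℤ, n < 0 → 𝒜 n = ⊥) (h0 : IsField (GrLC.deg0 𝒜)) (m : HomogeneousIdeal 𝒜) (hm : GrLC.IsStarLocal 𝒜 m) (hmsp : m.toIdeal = Ideal.span (⋃ n ∈ Set.Ioi (0 : ℤ), (𝒜 n : Set R))) [m.toIdeal.IsMaximal] (n : ℕ) (hn : ringKrullDim R = n) (I : GrLC.StarInjRes 𝒜 𝒜) (E' : Type u) [AddCommGroup E'] [Module R E'] (𝓔 : ℤ → AddSubgroup E') [DirectSum.Decomposition 𝓔] [SetLike.GradedSMul 𝒜 𝓔] (e : (R ⧸ m.toIdeal) →ₗ[R] E') (he : GrLC.IsStarInjHull 𝒜 (GrLC.quotGr 𝒜 m) 𝓔 e) (C : Type u) [AddCommGroup C] [Module R C] (𝒞 : ℤ → AddSubgroup C) [DirectSum.Decomposition 𝒞] [SetLike.GradedSMul 𝒜 𝒞] (hC : GrLC.IsStarCanonical 𝒜 𝒞 𝓔 m n I) : LocCoh.IsCohenMacaulayModule (Localization.AtPrime m.toIdeal) (LocalizedModule m.toIdeal.primeCompl C) ∧ ∃ N : ℕ, CategoryTheory.HasInjectiveDimensionLT (ModuleCat.of R C) N := by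
  classical
  obtain ⟨f, hf⟩ := GrInj.exists_hull_loc m he
  obtain ⟨eK⟩ := GrInj.nonempty_canonical_loc m I he hC _ f hf
  obtain ⟨hfin, -, -⟩ := hC
  haveI : Module.Finite R C := hfin
  haveI : LocCoh.IsCohenMacaulayLocalRing (Localization.AtPrime m.toIdeal) :=
    LocCoh.IsCohenMacaulayRing.isCohenMacaulayLocalRing_localization m.toIdeal
  have hd : ringKrullDim (Localization.AtPrime m.toIdeal) = n := by
    rw [IsLocalization.AtPrime.ringKrullDim_eq_height m.toIdeal, ← GrInj.ringKrullDim_eq_height_star hpos hm, hn]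
  refine ⟨?_, ?_⟩
  · show Module.supportDim _ _ = _
    rw [CanonMod.supportDim_eq hd hf eK, CanonMod.depth_eq_self hd hf eK]
    rfl
  obtain ⟨X⟩ := S13215.result R 𝒜 C 𝒞
  let S := m.toIdeal.primeCompl
  have hC0 : CategoryTheory.HasInjectiveDimensionLT (GrInj.locMod S C) (n + 1) := CanonMod.injDim hd hf eK
  have hkey : ∀ j k : ℕ, j + k = n → ∀ (Y : GMod.{u} 𝒜), Module.Finite R Y.carrier →
      Subsingleton (CategoryTheory.Abelian.Ext.{u} (GrInj.locMod S Y.carrier)
        (GrInj.locMod S (LinearMap.ker (X.d j))) (k + 1)) := by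
    intro j
    induction j with
    | zero =>
      intro k hk Y _
      obtain rfl : k = n := by omega
      let e0 : C ≃ₗ[R] LinearMap.ker (X.d 0) :=
        LinearEquiv.ofInjective X.ε X.ε_injective ≪≫ₗ LinearEquiv.ofEq _ _ X.exact_zero.symm
      let eA : LocalizedModule S C ≃ₗ[Localization S] LocalizedModule S (LinearMap.ker (X.d 0)) :=
        (IsLocalizedModule.mapEquiv S (LocalizedModule.mkLinearMap S C)
          (LocalizedModule.mkLinearMap S (LinearMap.ker (X.d 0))) (Localization S) e0)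
      haveI := hC0
      haveI := CategoryTheory.hasInjectiveDimensionLT_of_iso (X := GrInj.locMod S C)
        (X' := GrInj.locMod S (LinearMap.ker (X.d 0))) eA.toModuleIso (k + 1)
      exact CategoryTheory.HasInjectiveDimensionLT.subsingleton _ (k + 1) (k + 1) le_rfl _
    | succ j ih =>
      intro k hk Y hY
      have hS := LocCohLib.locSeq_shortExact (S13224.sq_exact X j) S
      refine subsingleton_of_forall_eq 0 fun x => ?_
      obtain ⟨y, hy⟩ := CategoryTheory.Abelian.Ext.covariant_sequence_exact₃ _ hS x (rfl : k + 1 + 1 = k + 2)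
        (@Subsingleton.elim _ (ih (k + 1) (by omega) Y hY) _ _)
      have hy0 : y = 0 := by
        haveI := hY
        exact @Subsingleton.elim _ (GrInj.subsingleton_ext_loc S (X.starInj j) k Y) y 0
      rw [← hy, hy0, CategoryTheory.Abelian.Ext.zero_comp]
      rfl
  have hZn : CategoryTheory.HasInjectiveDimensionLT (S13224.Zc X n) 2 := by
    let Z : GMod.{u} 𝒜 := GrInj.subMod 𝒜 (LinearMap.ker (X.d n)) (GrInj.hom_ker (X.d_grHom n))
    have hZ : GrLC.IsStarInj 𝒜 Z.gr := starInj_of_ext_loc hm Z fun P _ =>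
      hkey n 0 rfl (GMod.of 𝒜 (R ⧸ P.toIdeal) (GrLC.quotGr 𝒜 P)) (inferInstanceAs (Module.Finite R (R ⧸ P.toIdeal)))
    exact injDim_of_gmod Z hZ
  have hback : ∀ k j : ℕ, j + k = n → CategoryTheory.HasInjectiveDimensionLT (S13224.Zc X j) (k + 2) := by
    intro k
    induction k with
    | zero => intro j hj; obtain rfl : j = n := by omega
              exact hZn
    | succ k ih =>
      intro j hj
      haveI := ih (j + 1) (by omega)
      haveI : CategoryTheory.HasInjectiveDimensionLT (S13224.sq X j).X₂ 2 := GrInj.injDimLT_two_of_starInj (X.starInj j)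
      exact (S13224.sq_exact X j).hasInjectiveDimensionLT_X₁ (k + 2) (ih (j + 1) (by omega))
        (CategoryTheory.hasInjectiveDimensionLT_of_ge _ 2 (k + 2 + 1) (by omega))
  haveI := hback n 0 (zero_add n)
  exact ⟨n + 2, CategoryTheory.hasInjectiveDimensionLT_of_iso (S13224.augIso X).symm (n + 2)⟩

end Groth.Agent.S18639
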