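import Groth.Statements.S1864
import Groth.Agent.GrpSchField.Profinite
import Mathlib.AlgebraicGeometry.AlgClosed.Basic

set_option autoImplicit false
universe u v
open CategoryTheory MonoidalCategory CartesianMonoidalCategory MonObj GrpObj AlgebraicGeometry
open GrpSch

namespace Groth.Agent.S1864

/-- Let G be a group scheme locally of finite type over an algebraically closed field and g₁, …, g_n
finitely many closed points of G. Then some affine open of G contains all the g_i. -/
theorem result (K : Type u) [Field K] [IsAlgClosed K] (G : Over (Spec (CommRingCat.of K))) [GrpObj G] [LocallyOfFiniteType G.hom] (n : ℕ) (g : Fin n → G.left) (hg : ∀ i, IsClosed ({g i} : Set G.left)) : ∃ U : G.left.Opens, IsAffineOpen U ∧ ∀ i, g i ∈ U := by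
  have := LocallyOfFiniteType.jacobsonSpace G.hom
  let ι' := ULift.{u} (Fin n)
  let R : ι' → CommRingCat.{u} := fun _ => CommRingCat.of K
  let f := inv (sigmaSpec R) ≫ CategoryTheory.Limits.Sigma.desc fun i : ι' =>
    pointOfClosedPoint G.hom (g i.down) (hg i.down)
  have hf : f ≫ G.hom = Spec.map (CommRingCat.ofHom (algebraMap K (ι' → K))) := by
    rw [Category.assoc, IsIso.inv_comp_eq]
    refine CategoryTheory.Limits.Sigma.hom_ext _ _ fun i => ?_
    rw [CategoryTheory.Limits.Sigma.ι_desc_assoc, pointOfClosedPoint_comp, ι_sigmaSpec_assoc,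
      ← Spec.map_comp, ← Spec.map_id]
    rfl
  obtain ⟨U, hU, hfU⟩ := Groth.Agent.GrpSchField.exists_affineOpen_of_profinite
    (fun x hx => ⟨pointOfClosedPoint G.hom x hx, pointOfClosedPoint_comp _ _ _,
      pointOfClosedPoint_apply _ _ _ _⟩)
    (fun a => ⟨⊤, n, Algebra.mem_top, ⟨Subalgebra.topEquiv.trans
      (AlgEquiv.piCongrLeft K (fun _ : Fin n => K) Equiv.ulift)⟩⟩) f hf
  refine ⟨U, hU, fun i => hfU ?_⟩
  refine ⟨(CategoryTheory.Limits.Sigma.ι _ (ULift.up i) ≫ sigmaSpec R) (IsLocalRing.closedPoint K), ?_⟩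
  have h : (CategoryTheory.Limits.Sigma.ι (fun i => Spec (R i)) (ULift.up i) ≫ sigmaSpec R) ≫ f =
      pointOfClosedPoint G.hom (g i) (hg i) := by
    rw [Category.assoc, IsIso.hom_inv_id_assoc, CategoryTheory.Limits.Sigma.ι_desc]
  exact (Scheme.Hom.comp_apply _ f _).symm.trans ((congrArg
    (fun m : Spec (CommRingCat.of K) ⟶ G.left => m (IsLocalRing.closedPoint K)) h).trans
    (pointOfClosedPoint_apply _ _ _ _))

end Groth.Agent.S1864
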