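import Groth.Statements.S18640
import Mathlib
import Groth.Agent.GrInj.CanLoc
import Groth.Agent.GrInj.CanSocle
import Groth.Agent.GrInj.Type
import Groth.Agent.CanonMod.InjDim
-- import your own Groth.Agent.* helpers here

set_option autoImplicit false
universe u
open scoped TensorProduct
open GrLC

namespace Groth.Agent.S18640

open CategoryTheory IsLocalRing in
open CategoryTheory.Abelian (Ext) in
theorem length_ext_canon {A : Type u} [CommRing A] [LocCoh.IsCohenMacaulayLocalRing A] {n : ℕ}
    (hn : ringKrullDim A = n) {E : Type u} [AddCommGroup E] [Module A E] {f : ResidueField A →ₗ[A] E}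
    (hf : InjHull.IsInjectiveHull f) {K : Type u} [AddCommGroup K] [Module A K] [Module.Finite A K]
    (eK : (K →ₗ[A] E) ≃ₗ[A] LocCoh.H (maximalIdeal A) n A) :
    Module.length A (Ext.{u} (ModuleCat.of A (ResidueField A)) (ModuleCat.of A K) n) = 1 := by
  classical
  obtain ⟨rs, hl, hreg, hmem⟩ := DepthLib.natCast_le_idealDepth_iff.1 (CanonMod.depth_ge hn hf eK)
  have hlen := GrInj.LocalType.length_ext_regular n rs K hl hreg hmem
  let P := K ⧸ Ideal.ofList rs • (⊤ : Submodule A K)
  let S := GrInj.LocalType.socle (A := A) P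
  have hS : Module.IsTorsionBySet A S (maximalIdeal A) := fun x a => Subtype.ext
    ((Submodule.mem_torsionBySet_iff _ _).1 x.2 a)
  letI : Module (A ⧸ maximalIdeal A) S := hS.module
  haveI : IsScalarTower A (A ⧸ maximalIdeal A) S := hS.isScalarTower
  letI := Ideal.Quotient.field (maximalIdeal A)
  haveI : Module.Finite A S := Module.Finite.iff_fg.2 (IsNoetherian.noetherian S)
  haveI : Module.Finite (A ⧸ maximalIdeal A) S := Module.Finite.of_restrictScalars_finite A _ _
  haveI : IsArtinian A S :=
    isArtinian_of_surjective_algebraMap (R := A ⧸ maximalIdeal A) (S := A) Ideal.Quotient.mk_surjective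
  let X := Ext.{u} (ModuleCat.of A (ResidueField A)) (ModuleCat.of A K) n
  have hX : IsFiniteLength A X := by
    rw [← Module.length_ne_top_iff, hlen, Module.length_ne_top_iff, isFiniteLength_iff_isNoetherian_isArtinian]
    exact ⟨inferInstance, inferInstance⟩
  obtain ⟨d⟩ := CanonMod.nonempty_duality hn eK hf.isInjective n 0 (zero_add n)
    (ModuleCat.of A (ResidueField A))
  have hT : LocCoh.IsPowerTorsion (maximalIdeal A) X := fun x => ⟨1, fun a ha => by
    rw [pow_one] at ha
    have hN : a • 𝟙 (ModuleCat.of A (ResidueField A)) = 0 := ModuleCat.hom_ext (LinearMap.ext fun y => by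
      obtain ⟨y, rfl⟩ := IsLocalRing.residue_surjective y
      show a • residue A y = 0
      rw [Algebra.smul_def]
      show residue A a * residue A y = 0
      rw [show residue A a = 0 from Ideal.Quotient.eq_zero_iff_mem.2 ha, zero_mul])
    conv_lhs => rw [← Ext.mk₀_id_comp x, ← Ext.smul_comp, ← Ext.mk₀_smul, hN, Ext.mk₀_zero, Ext.zero_comp]⟩
  rw [← MatlisLib.length_dual hf hX hT, ← d.length_eq]
  have hsurj : Function.Surjective (LocCohLib.h0 (maximalIdeal A) (ModuleCat.of A (ResidueField A))) := fun z => by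
    refine (LocCohLib.h0_mem_range z).2 ⟨1, fun a ha => ?_⟩
    obtain ⟨y, rfl⟩ := IsLocalRing.residue_surjective z
    rw [pow_one] at ha
    show a • residue A y = 0
    rw [Algebra.smul_def]
    show residue A a * residue A y = 0
    rw [show residue A a = 0 from Ideal.Quotient.eq_zero_iff_mem.2 ha, zero_mul]
  rw [(LinearEquiv.ofBijective (LocCohLib.h0 (maximalIdeal A) (ModuleCat.of A (ResidueField A)))
    ⟨LocCohLib.h0_injective, hsurj⟩).length_eq]
  haveI : IsSimpleModule A (A ⧸ maximalIdeal A) :=
    isSimpleModule_iff_isCoatom.2 (Ideal.isMaximal_def.1 (maximalIdeal.isMaximal A))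
  exact Module.length_eq_one A (A ⧸ maximalIdeal A)

/-- Let R be a graded ring defined over a field which is Cohen–Macaulay, with graded maximal ideal m, n
= dim R, residue field k = R/m and canonical module K_R. Then (iii) the type of K_R is 1: the Bass
number μ_n(m, K_R), the k-dimension of Ext^n over R_m of k into (K_R)_m, equals 1; and (iv) the type
of R, namely μ_n(m, R), equals ν(K_R) = dim_k (K_R / m K_R), the minimal number of generators of K_R
(written as the k-dimension of k ⊗_R K_R). Here 'graded ring defined over a field' means R = ⊕_{n ≥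
0} R_n is Noetherian with R_0 a field (so R is finitely generated over R_0), m = R_+ is its unique
graded maximal ideal and n = dim R; the canonical module K_R (the graded dual of H^n_m(R)) is
represented by a finitely generated graded module C together with a homogeneous isomorphism from
Hom_R(C, E) onto H^n_m(R), where E is a *injective envelope of R/m and H^n_m(R) is computed from a
*injective resolution of R in the graded category; by graded Matlis duality this says exactly that C
≅ K_R as graded modules. -/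
theorem result (R : Type u) [CommRing R] [LocCoh.IsCohenMacaulayRing R] (𝒜 : ℤ → AddSubgroup R) [GradedRing 𝒜] (hpos : ∀ n : ℤ, n < 0 → 𝒜 n = ⊥) (h0 : IsField (GrLC.deg0 𝒜)) (m : HomogeneousIdeal 𝒜) (hm : GrLC.IsStarLocal 𝒜 m) (hmsp : m.toIdeal = Ideal.span (⋃ n ∈ Set.Ioi (0 : ℤ), (𝒜 n : Set R))) [m.toIdeal.IsMaximal] (n : ℕ) (hn : ringKrullDim R = n) (I : GrLC.StarInjRes 𝒜 𝒜) (E' : Type u) [AddCommGroup E'] [Module R E'] (𝓔 : ℤ → AddSubgroup E') [DirectSum.Decomposition 𝓔] [SetLike.GradedSMul 𝒜 𝓔] (e : (R ⧸ m.toIdeal) →ₗ[R] E') (he : GrLC.IsStarInjHull 𝒜 (GrLC.quotGr 𝒜 m) 𝓔 e) (C : Type u) [AddCommGroup C] [Module R C] (𝒞 : ℤ → AddSubgroup C) [DirectSum.Decomposition 𝒞] [SetLike.GradedSMul 𝒜 𝒞] (hC : GrLC.IsStarCanonical 𝒜 𝒞 𝓔 m n I) : GrLC.bassNum m.toIdeal C n = 1 ∧ GrLC.bassNum m.toIdeal R n = (Module.finrank (R ⧸ m.toIdeal) ((R ⧸ m.toIdeal) ⊗[R] C) : ℕ∞) := by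
  classical
  have hvan := GrInj.subsingleton_H_cm hpos hm hn I
  refine ⟨?_, ?_⟩
  · obtain ⟨f, hf⟩ := GrInj.exists_hull_loc m he
    obtain ⟨eK⟩ := GrInj.nonempty_canonical_loc m I he hC _ f hf
    obtain ⟨hfin, -, -⟩ := hC
    haveI : Module.Finite R C := hfin
    haveI : LocCoh.IsCohenMacaulayLocalRing (Localization.AtPrime m.toIdeal) :=
      LocCoh.IsCohenMacaulayRing.isCohenMacaulayLocalRing_localization m.toIdeal
    have hd : ringKrullDim (Localization.AtPrime m.toIdeal) = n := by
      rw [IsLocalization.AtPrime.ringKrullDim_eq_height m.toIdeal, ← GrInj.ringKrullDim_eq_height_star hpos hm, hn]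
    exact length_ext_canon hd hf eK
  · obtain ⟨hfin, φ, -⟩ := hC
    haveI : Module.Finite R C := hfin
    rw [GrInj.bassNum_eq_length_socle m I n hvan, GrInj.length_socle_dual e he.toIsStarEss C φ]

end Groth.Agent.S18640
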