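import Groth.Statements.S18641
import Mathlib
import Groth.Agent.GrInj.VeroH
import Groth.Agent.S13215
-- import your own Groth.Agent.* helpers here

set_option autoImplicit false
universe u
open GrLC

namespace Groth.Agent.S18641

theorem finrank_zero {R : Type u} [CommRing R] {𝒜 : ℤ → AddSubgroup R} [GradedRing 𝒜] (h0 : IsField (GrLC.deg0 𝒜)) :
    Module.finrank (GrLC.deg0 𝒜) (GrLC.comp 𝒜 𝒜 0) = 1 := by
  letI := h0.toField
  let e : GrLC.comp 𝒜 𝒜 0 ≃ₗ[GrLC.deg0 𝒜] GrLC.deg0 𝒜 :=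
    { toFun := fun x => ⟨x.1, x.2⟩
      invFun := fun x => ⟨x.1, x.2⟩
      map_add' := fun _ _ => rfl
      map_smul' := fun _ _ => rfl
      left_inv := fun _ => rfl
      right_inv := fun _ => rfl }
  rw [e.finrank_eq, Module.finrank_self]

/-- Let R be a graded ring defined over a field which is Gorenstein, and let q ≥ 1 be an integer
dividing the a-invariant a(R). Then the Veronese subring R^(q) is a Gorenstein ring. Here 'graded
ring defined over a field' means R = ⊕_{n ≥ 0} R_n is Noetherian with R_0 a field, and m = R_+ is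
its unique graded maximal ideal. The a-invariant a(R) is the largest degree in which the graded
local cohomology H^n_m(R) (n = dim R, m = R_+), computed from a *injective resolution of R in the
graded category, is nonzero. The Veronese subring R^(q) = ⊕_j R_{jq}, regraded by (R^(q))_j =
R_{jq}, is presented abstractly as a ℤ-graded ring R' with an injective ring homomorphism φ : R' → R
carrying R'_j onto R_{jq} for every j. -/
theorem result (R : Type u) [CommRing R] [LocCoh.IsGorensteinRing R] (𝒜 : ℤ → AddSubgroup R) [GradedRing 𝒜] (hpos : ∀ n : ℤ, n < 0 → 𝒜 n = ⊥) (h0 : IsField (GrLC.deg0 𝒜)) (m : HomogeneousIdeal 𝒜) (hm : GrLC.IsStarLocal 𝒜 m) (hmsp : m.toIdeal = Ideal.span (⋃ n ∈ Set.Ioi (0 : ℤ), (𝒜 n : Set R))) (n : ℕ) (hn : ringKrullDim R = n) (I : GrLC.StarInjRes 𝒜 𝒜) (a : ℤ) (ha : GrLC.endDeg (I.Hgr m n) = ((a : WithTop ℤ) : WithBot (WithTop ℤ))) (q : ℕ) (hq : 0 < q) (R' : Type u) [CommRing R'] (𝒜' : ℤ → AddSubgroup R')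 [GradedRing 𝒜'] (φ : R' →+* R) (hφ : Function.Injective φ) (hdeg : ∀ j : ℤ, (𝒜' j).map (φ : R' →+ R) = 𝒜 (j * q)) (hdvd : (q : ℤ) ∣ a) : LocCoh.IsGorensteinRing R' := by
  classical
  letI := φ.toAlgebra
  haveI := GrInj.isCohenMacaulayRing_of_gorenstein (R := R)
  have hv : GrInj.IsVero 𝒜' q 𝒜 := hdeg
  haveI := GrInj.isNoetherianRing_vero hv hq hφ
  let m' : HomogeneousIdeal 𝒜' := ⟨Ideal.span (⋃ j ∈ Set.Ioi (0 : ℤ), (𝒜' j : Set R')),
    Ideal.homogeneous_span _ _ fun x hx => by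
      simp only [Set.mem_iUnion] at hx
      obtain ⟨i, -, hx⟩ := hx
      exact ⟨i, hx⟩⟩
  have hm'sp : m'.toIdeal = Ideal.span (⋃ j ∈ Set.Ioi (0 : ℤ), (𝒜' j : Set R')) := rfl
  have hpos' := GrInj.vero_pos hv hq hφ hpos
  have hm' := GrInj.isStarLocal_of_field hpos' (GrInj.vero_field hv hφ h0) hm'sp
  obtain ⟨F⟩ := S13215.result R' 𝒜' R' 𝒜'
  have hvan := GrInj.subsingleton_H_cm hpos hm hn I
  rw [GrInj.isGorensteinRing_iff_socle_van hpos' hm'
    ((GrInj.vero_dim hv hq hφ hpos hmsp).trans hn) F fun i hi =>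
      GrInj.vero_subsingleton hv hq hφ hmsp hm'sp I F (hvan i hi)]
  obtain ⟨j₀, hj₀⟩ := hdvd
  have hj : j₀ * (q : ℤ) = a := by rw [hj₀, mul_comm]
  have honly : ∀ j, ∀ c ∈ I.Hgr m n (j * q), c ≠ 0 →
      (∀ t : ℤ, 0 < t → ∀ r ∈ 𝒜 (t * q), r • c = 0) → j = j₀ := by
    intro j c hc hc0 hk
    obtain ⟨r, hr, hne⟩ := GrInj.exists_smul_ne_zero hpos h0 hmsp I ha hn hc hc0
    rw [show a - j * q = (j₀ - j) * q by rw [sub_mul, hj]] at hr
    rcases lt_trichotomy (j₀ - j) 0 with h | h | h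
    · exact absurd (by rw [AddSubgroup.mem_bot.1 ((hpos _ (mul_neg_of_neg_of_pos h (by omega))).le hr), zero_smul]) hne
    · omega
    · exact absurd (hk _ h r hr) hne
  have hkill : ∀ c ∈ I.Hgr m n (j₀ * q), ∀ t : ℤ, 0 < t → ∀ r ∈ 𝒜 (t * q), r • c = 0 := by
    intro c hc t ht r hr
    refine GrInj.eq_zero_above I ha (g := t * q + j₀ * q) (by nlinarith) ?_
    obtain ⟨z, hz, rfl⟩ := hc
    exact ⟨r • z, (I.X n).gsmul.smul_mem hr hz, map_smul _ r z⟩
  rw [GrInj.length_vero_socle hv hq hφ hpos hmsp hm'sp I F j₀ honly hkill]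
  letI := h0.toField
  obtain ⟨hfr, hfin⟩ := GrInj.finrank_comp_eq_finrank_Hcomp hpos h0 hmsp I ha hn 0
  rw [sub_zero] at hfr hfin
  rw [hj, Module.length_eq_finrank, hfr, finrank_zero h0, Nat.cast_one]

end Groth.Agent.S18641
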