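import Groth.Statements.S18642
import Mathlib
import Groth.Agent.GrInj.VeroConv
import Groth.Agent.S13215
import Groth.Agent.S18656
-- import your own Groth.Agent.* helpers here

set_option autoImplicit false
universe u
open GrLC

namespace Groth.Agent.S18642

theorem agree_of_smul {R : Type u} [CommRing R] {𝒜 : ℤ → AddSubgroup R} [GradedRing 𝒜] {M : Type u} [AddCommGroup M]
    [Module R M] {ℳ : ℤ → AddSubgroup M} [DirectSum.Decomposition ℳ] [SetLike.GradedSMul 𝒜 ℳ] {K : Type u} [AddCommGroup K]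
    {v : ℤ} {T : Set R} (hT : ∀ r ∈ T, r ∈ 𝒜 v) (A B : M →+ K) (g : ℤ)
    (h : ∀ r ∈ T, ∀ z ∈ ℳ (g - v), A (r • z) = B (r • z)) :
    ∀ z ∈ Ideal.span T • (⊤ : Submodule R M), A (GrInj.pr ℳ g z) = B (GrInj.pr ℳ g z) := by
  intro z hz
  refine Submodule.smul_induction_on (p := fun z => A (GrInj.pr ℳ g z) = B (GrInj.pr ℳ g z)) hz
    (fun r hr z _ => ?_) (fun p p' hp hp' => by rw [map_add, map_add, map_add, hp, hp'])
  induction hr using Submodule.span_induction generalizing z with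
  | mem r hr => rw [GrInj.pr_smul' (hT r hr)]; exact h r hr _ (GrInj.pr_mem _ z)
  | zero => rw [zero_smul, map_zero, map_zero, map_zero]
  | add p p' _ _ hp hp' => rw [add_smul, map_add, map_add, map_add, hp z trivial, hp' z trivial]
  | smul b p _ hp => rw [smul_eq_mul, mul_comm, mul_smul]; exact hp (b • z) trivial

/-- Let R be a graded ring defined over a field which is Cohen–Macaulay and generated over R_0 by R_1,
with dim R ≥ 2, and let q ≥ 1. If the Veronese subring R^(q) is a Gorenstein ring, then R is a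
Gorenstein ring and q divides the a-invariant a(R). Here 'graded ring defined over a field' means R
= ⊕_{n ≥ 0} R_n is Noetherian with R_0 a field, and m = R_+ is its unique graded maximal ideal. The
a-invariant a(R) is the largest degree in which the graded local cohomology H^n_m(R) (n = dim R, m =
R_+), computed from a *injective resolution of R in the graded category, is nonzero. The Veronese
subring R^(q) = ⊕_j R_{jq}, regraded by (R^(q))_j = R_{jq}, is presented abstractly as a ℤ-graded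
ring R' with an injective ring homomorphism φ : R' → R carrying R'_j onto R_{jq} for every j. -/
theorem result (R : Type u) [CommRing R] [LocCoh.IsCohenMacaulayRing R] (𝒜 : ℤ → AddSubgroup R) [GradedRing 𝒜] (hpos : ∀ n : ℤ, n < 0 → 𝒜 n = ⊥) (h0 : IsField (GrLC.deg0 𝒜)) (m : HomogeneousIdeal 𝒜) (hm : GrLC.IsStarLocal 𝒜 m) (hmsp : m.toIdeal = Ideal.span (⋃ n ∈ Set.Ioi (0 : ℤ), (𝒜 n : Set R))) (hstd : Ideal.span (⋃ n ∈ Set.Ioi (0 : ℤ), (𝒜 n : Set R)) = Ideal.span ((𝒜 1 : AddSubgroup R) : Set R)) (n : ℕ) (hn : ringKrullDim R = n) (h2 : 2 ≤ n) (I : GrLC.StarInjRes 𝒜 𝒜) (q : ℕ) (hq : 0 < q) (R' : Type u) [CommRing R'] (𝒜' : ℤ → AddSubgroup R') [GradedRing 𝒜'] (φ : R' →+* R) (hφ : Function.Injective φ) (hdeg : ∀ j : ℤ, (𝒜' j).map (φ : R' →+ R) = 𝒜 (j * q)) [LocCoh.IsGorensteinRing R'] : LocCoh.IsGorensteinRing R ∧ ∃ a : ℤ, GrLC.endDeg (I.Hgr m n) = ((a : WithTop ℤ) : WithBot (WithTop ℤ)) ∧ (q : ℤ) ∣ a := by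
  classical
  letI := φ.toAlgebra
  letI := h0.toField
  haveI := GrInj.isCohenMacaulayRing_of_gorenstein (R := R')
  have hv : GrInj.IsVero 𝒜' q 𝒜 := hdeg
  obtain ⟨i, rfl⟩ : ∃ i, n = i + 1 := ⟨n - 1, by omega⟩
  let m' : HomogeneousIdeal 𝒜' := ⟨Ideal.span (⋃ j ∈ Set.Ioi (0 : ℤ), (𝒜' j : Set R')),
    Ideal.homogeneous_span _ _ fun x hx => by
      simp only [Set.mem_iUnion] at hx
      obtain ⟨t, -, hx⟩ := hx
      exact ⟨t, hx⟩⟩
  have hm'sp : m'.toIdeal = Ideal.span (⋃ j ∈ Set.Ioi (0 : ℤ), (𝒜' j : Set R')) := rfl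
  have hpos' := GrInj.vero_pos hv hq hφ hpos
  have hm' := GrInj.isStarLocal_of_field hpos' (GrInj.vero_field hv hφ h0) hm'sp
  have hn' := (GrInj.vero_dim hv hq hφ hpos hmsp).trans hn
  have hstd' : m.toIdeal = Ideal.span ((𝒜 1 : AddSubgroup R) : Set R) := hmsp.trans hstd
  obtain ⟨F⟩ := S13215.result R' 𝒜' R' 𝒜'
  have hvan := GrInj.subsingleton_H_cm hpos hm hn I
  have hvan' : ∀ t < i + 1, Subsingleton (F.H m' t) := fun t ht =>
    GrInj.vero_subsingleton hv hq hφ hmsp hm'sp I F (hvan t ht)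
  have hsimple : IsSimpleModule R' (Submodule.torsionBySet R' (F.H m' (i + 1)) m'.toIdeal) :=
    Module.length_eq_one_iff.1 ((GrInj.isGorensteinRing_iff_socle_van hpos' hm' hn' F hvan').1 inferInstance)
  haveI hntS : Nontrivial (Submodule.torsionBySet R' (F.H m' (i + 1)) m'.toIdeal) := IsSimpleModule.nontrivial R' _
  have hne : ¬ Subsingleton (I.H m (i + 1)) := fun h => by
    haveI := GrInj.vero_subsingleton hv hq hφ hmsp hm'sp I F h
    exact false_of_nontrivial_of_subsingleton (Submodule.torsionBySet R' (F.H m' (i + 1)) m'.toIdeal)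
  obtain ⟨Ξ, hΞi, hΞs, hΞg, hΞg'⟩ :=
    GrInj.exists_veroH hv hq hφ (GrInj.vero_radical hv hq hmsp hm'sp) I F (i + 1)
  obtain ⟨a, ha⟩ := GrInj.exists_endDeg hpos hmsp I hne
  letI := (S13225.isInternal_Hgr I m (i + 1)).chooseDecomposition
  letI := (S13225.isInternal_Hgr F m' (i + 1)).chooseDecomposition
  haveI hgs : SetLike.GradedSMul 𝒜 (I.Hgr m (i + 1)) := ⟨fun {p p'} r c hr hc => by
    obtain ⟨z, hz, rfl⟩ := hc
    exact ⟨r • z, (I.X (i + 1)).gsmul.smul_mem hr hz, map_smul _ r z⟩⟩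
  haveI hgs' : SetLike.GradedSMul 𝒜' (F.Hgr m' (i + 1)) := ⟨fun {p p'} r c hr hc => by
    obtain ⟨z, hz, rfl⟩ := hc
    exact ⟨r • z, (F.X (i + 1)).gsmul.smul_mem hr hz, map_smul _ r z⟩⟩
  -- the degree of the socle over the subring
  have hqz : (0 : ℤ) < q := by exact_mod_cast hq
  let j₀ : ℤ := a / (q : ℤ)
  have hb1 : j₀ * q ≤ a := Int.ediv_mul_le a (by omega)
  have hb2 : a < j₀ * q + q := by
    have := Int.lt_ediv_add_one_mul_self a hqz
    rw [add_mul, one_mul] at this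
    exact this
  have hH : ∀ t, t ≤ a → I.Hcomp m (i + 1) t ≠ ⊥ := fun t ht =>
    S18656.result R 𝒜 hpos h0 m hm hmsp hstd (i + 1) hn (by omega) I a ha t ht
  obtain ⟨cb, hcb, hcb0⟩ := Submodule.exists_mem_ne_zero_of_ne_bot (hH (j₀ * q) hb1)
  obtain ⟨xb, hxb, hxbc⟩ := hΞg' j₀ cb hcb
  have hS : ∀ (j : ℤ), ∀ x ∈ F.Hgr m' (i + 1) j,
      (∀ t : ℤ, 0 < t → ∀ r ∈ 𝒜 (t * q), r • Ξ x = 0) → ∀ s ∈ m'.toIdeal, s • x = 0 := by
    intro j x _ hk s hs
    rw [hm'sp] at hs
    induction hs using Submodule.span_induction with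
    | mem y hy =>
      simp only [Set.mem_iUnion] at hy
      obtain ⟨t, ht, hy⟩ := hy
      refine hΞi ?_
      rw [hΞs, map_zero]
      exact hk t ht _ (hv.map_mem hy)
    | zero => exact zero_smul R' x
    | add p p' _ _ hp hp' => rw [add_smul, hp, hp', add_zero]
    | smul b p _ hp => rw [smul_eq_mul, mul_smul, hp, smul_zero]
  have hkill : ∀ c ∈ I.Hgr m (i + 1) (j₀ * q), ∀ t : ℤ, 0 < t → ∀ r ∈ 𝒜 (t * q), r • c = 0 := by
    intro c hc t ht r hr
    refine GrInj.eq_zero_above I ha (g := t * q + j₀ * q) (by nlinarith) ?_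
    obtain ⟨z, hz, rfl⟩ := hc
    exact ⟨r • z, (I.X (i + 1)).gsmul.smul_mem hr hz, map_smul _ r z⟩
  have hxbS : ∀ s ∈ m'.toIdeal, s • xb = 0 := hS j₀ xb hxb fun t ht r hr => by
    rw [hxbc]; exact hkill cb hcb t ht r hr
  have hsoc' : ∀ j, ∀ x ∈ F.Hgr m' (i + 1) j, (∀ s ∈ m'.toIdeal, s • x = 0) →
      ∃ r ∈ 𝒜 0, Ξ x = r • cb ∧ (x ≠ 0 → j = j₀) := by
    intro j x hx hk
    have hxb0 : xb ≠ 0 := fun h => hcb0 (by rw [← hxbc, h, map_zero])
    haveI := hsimple
    obtain ⟨s, hs⟩ := IsSimpleModule.toSpanSingleton_surjective R'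
      (show (⟨xb, (Submodule.mem_torsionBySet_iff _ _).2 fun r => hxbS r r.2⟩ :
        Submodule.torsionBySet R' (F.H m' (i + 1)) m'.toIdeal) ≠ 0 from fun h => hxb0 (congrArg Subtype.val h))
      ⟨x, (Submodule.mem_torsionBySet_iff _ _).2 fun r => hk r r.2⟩
    have hs' : s • xb = x := congrArg Subtype.val hs
    have h1 : x = GrInj.pr 𝒜' 0 s • xb := by
      rw [← hs', ← sub_eq_zero, ← sub_smul]
      exact hxbS _ (GrInj.sub_pr_zero_mem hpos' hm'sp s)
    refine ⟨algebraMap R' R (GrInj.pr 𝒜' 0 s), ?_, by rw [h1, hΞs, hxbc], fun hne => by_contra fun hj => hne ?_⟩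
    · have := hv.map_mem (GrInj.pr_mem (ℳ := 𝒜') 0 s)
      rwa [zero_mul] at this
    · have h2 : x ∈ F.Hgr m' (i + 1) j₀ := by
        rw [h1]
        have := GrInj.smul_mem_gr (𝒜 := 𝒜') (GrInj.pr_mem (ℳ := 𝒜') 0 s) hxb
        rwa [zero_add] at this
      rw [← GrInj.pr_of_mem hx]
      exact GrInj.pr_of_ne h2 (Ne.symm hj)
  have hone : ∀ c ∈ I.Hgr m (i + 1) (j₀ * q), ∃ r : GrLC.deg0 𝒜, c = (r : R) • cb := by
    intro c hc
    obtain ⟨x, hx, rfl⟩ := hΞg' j₀ c hc
    obtain ⟨r, hr, hxr, -⟩ := hsoc' j₀ x hx (hS j₀ x hx (hkill _ hc))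
    exact ⟨⟨r, hr⟩, hxr⟩
  -- it is the top degree
  have hba : j₀ * q = a := by
    by_contra hne'
    obtain ⟨h1', hh1, hh10⟩ := Submodule.exists_mem_ne_zero_of_ne_bot (hH (j₀ * q + 1) (by omega))
    exact hh10 (GrInj.eq_zero_of_one_dim hpos h0 hstd' hmsp hn h2 I hone hh1)
  refine ⟨?_, a, ha, ⟨j₀, by rw [← hba, mul_comm]⟩⟩
  rw [hba] at hcb hone
  have ha' : GrLC.endDeg (F.Hgr m' (i + 1)) = ((j₀ : WithTop ℤ) : WithBot (WithTop ℤ)) := by
    refine le_antisymm (iSup₂_le fun j hj => ?_) (le_iSup₂_of_le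
      (f := fun (t : ℤ) (_ : F.Hgr m' (i + 1) t ≠ ⊥) => ((t : WithTop ℤ) : WithBot (WithTop ℤ))) j₀ ?_ le_rfl)
    · refine WithBot.coe_le_coe.2 (WithTop.coe_le_coe.2 (by_contra fun hlt => hj ?_))
      refine (AddSubgroup.eq_bot_iff_forall _).2 fun x hx => hΞi ?_
      rw [map_zero]
      exact GrInj.eq_zero_above I ha (g := j * q) (by nlinarith) (hΞg j x hx)
    · exact fun h => hcb0 (by rw [← hxbc, AddSubgroup.mem_bot.1 (h.le hxb), map_zero])
  have hmult : ∀ j, ∀ x ∈ F.Hgr m' (i + 1) j, x ≠ 0 → ∃ r ∈ 𝒜' (j₀ - j), r • x ≠ 0 := by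
    intro j x hx hx0
    obtain ⟨e, r, hr, -, hne', hk⟩ := GrInj.exists_socle_multiple hpos' hm'sp F ha' hx hx0
    obtain ⟨_, -, -, hj⟩ := hsoc' (e + j) (r • x) (GrInj.smul_mem_gr hr hx) hk
    have := hj hne'
    exact ⟨r, (show e = j₀ - j by omega) ▸ hr, hne'⟩
  -- the pairing on the side of the cohomology
  have hnd : ∀ t : ℤ, ∀ c ∈ I.Hgr m (i + 1) (a - t * q), c ≠ 0 → ∃ r ∈ 𝒜 (t * q), r • c ≠ 0 := by
    intro t c hc hc0
    rw [show a - t * q = (j₀ - t) * q by rw [sub_mul, hba]] at hc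
    obtain ⟨x, hx, rfl⟩ := hΞg' _ c hc
    obtain ⟨r, hr, hne'⟩ := hmult _ x hx fun h => hc0 (by rw [h, map_zero])
    refine ⟨algebraMap R' R r, ?_, fun h => hne' (hΞi (by rw [hΞs, h, map_zero]))⟩
    have := hv.map_mem hr
    rwa [sub_sub_cancel] at this
  -- faithfulness on the side of the ring
  have hdep : ((2 : ℕ) : ℕ∞) ≤ LocCoh.idealDepth m.toIdeal R := by
    refine (LocCohLib.natCast_le_idealDepth_iff_vanishing m.toIdeal R 2).2 fun t ht => ?_
    rcases t with _ | t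
    · obtain ⟨e⟩ := S13224.zero_case I m
      exact @Function.Injective.subsingleton _ _ _ e.symm.injective (hvan 0 (by omega))
    · obtain ⟨e⟩ := S13224.succ_case I m t
      exact @Function.Injective.subsingleton _ _ _ e.symm.injective (hvan _ (by omega))
  obtain ⟨X, hX, hXr, -⟩ := DepthLib.two_le_idealDepth_iff.1 hdep
  have hfaith : ∀ f : ℤ, ∀ r ∈ 𝒜 f, r ≠ 0 → ∃ h ∈ I.Hgr m (i + 1) (a - f), r • h ≠ 0 := by
    intro f r hr hr0
    obtain ⟨v, t, hvt⟩ : ∃ (v : ℕ) (t : ℤ), f + v = t * q := by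
      refine ⟨((-f) % (q : ℤ)).toNat, -((-f) / (q : ℤ)), ?_⟩
      rw [Int.toNat_of_nonneg (Int.emod_nonneg _ (by omega))]
      have := Int.mul_ediv_add_emod (-f) q
      linarith
    obtain ⟨w, hw, hrw⟩ : ∃ w ∈ 𝒜 (v : ℤ), r * w ≠ 0 := by
      by_contra hall
      push Not at hall
      have hz : ∀ z ∈ Ideal.span ((𝒜 (v : ℤ) : AddSubgroup R) : Set R), z * r = 0 := fun z hz => by
        induction hz using Submodule.span_induction with
        | mem z hz => rw [mul_comm]; exact hall z hz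
        | zero => exact zero_mul r
        | add p p' _ _ hp hp' => rw [add_mul, hp, hp', add_zero]
        | smul b p _ hp => rw [smul_eq_mul, mul_assoc, hp, mul_zero]
      exact hr0 ((hXr.pow v) (show X ^ v • r = X ^ v • (0 : R) by
        rw [smul_eq_mul, smul_eq_mul, mul_zero]
        exact hz _ (GrInj.pow_le_span_piece hstd' v (Ideal.pow_mem_pow hX v))))
    have hrwd : r * w ∈ 𝒜 (t * q) := hvt ▸ SetLike.mul_mem_graded hr hw
    obtain ⟨s, hs, hsw⟩ := (hv t).ge hrwd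
    have hs0 : s ≠ 0 := fun h => hrw (by rw [← hsw, h]; exact map_zero _)
    obtain ⟨x, j, hx, hsx⟩ : ∃ x j, x ∈ F.Hgr m' (i + 1) j ∧ s • x ≠ 0 := by
      by_contra hall
      push Not at hall
      refine hs0 (GrInj.eq_zero_of_smul_top_cm hpos' hm' hm'sp hn' F hs fun c => ?_)
      induction c using GrInj.induction (F.Hgr m' (i + 1)) with
      | h0 => exact smul_zero s
      | hh g x hx => exact hall x g hx
      | hadd p p' hp hp' => rw [smul_add, hp, hp', add_zero]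
    obtain ⟨r', hr', hne'⟩ := hmult _ (s • x) (GrInj.smul_mem_gr hs hx) hsx
    refine ⟨w • Ξ (r' • x), ?_, fun h => hne' (hΞi ?_)⟩
    · have h1 := GrInj.smul_mem_gr hw (hΞg _ _ (GrInj.smul_mem_gr hr' hx))
      rwa [show (v : ℤ) + (j₀ - (t + j) + j) * q = a - f by linear_combination hvt + hba] at h1
    · rw [map_zero, smul_comm, hΞs, show algebraMap R' R s = r * w from hsw, mul_smul, h]
  -- the socle of the ring
  obtain ⟨ψ, hψ, -⟩ := Submodule.exists_dual_map_eq_bot_of_notMem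
    (p := (⊥ : Submodule (GrLC.deg0 𝒜) (I.H m (i + 1)))) (x := cb) (by simpa using hcb0) inferInstance
  have hψz : ∀ c ∈ I.Hgr m (i + 1) a, ψ c = 0 → c = 0 := fun c hc h => by
    obtain ⟨r, rfl⟩ := hone c hc
    have h1 : ψ (r • cb) = 0 := h
    rw [map_smul, smul_eq_mul, mul_eq_zero] at h1
    rcases h1 with h1 | h1
    · rw [h1]; exact zero_smul R cb
    · exact absurd h1 hψ
  have hrep : ∀ (t : ℤ) (l : I.Hcomp m (i + 1) (a - t * q) →ₗ[GrLC.deg0 𝒜] GrLC.deg0 𝒜),
      ∃ r : GrLC.comp 𝒜 𝒜 (t * q), ∀ h : I.Hcomp m (i + 1) (a - t * q), ψ ((r : R) • (h : I.H m (i + 1))) = l h := by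
    intro t l
    let β : GrLC.comp 𝒜 𝒜 (t * q) →ₗ[GrLC.deg0 𝒜] (I.Hcomp m (i + 1) (a - t * q) →ₗ[GrLC.deg0 𝒜] GrLC.deg0 𝒜) :=
      LinearMap.mk₂ (GrLC.deg0 𝒜) (fun r c => ψ ((r : R) • (c : I.H m (i + 1))))
        (fun p p' c => by show ψ (((p : R) + p') • (c : I.H m (i + 1))) = _; rw [add_smul, map_add])
        (fun s p c => by show ψ (((s : R) * p) • (c : I.H m (i + 1))) = _; rw [mul_smul, ← map_smul]; rfl)
        (fun p c d => by show ψ ((p : R) • ((c : I.H m (i + 1)) + d)) = _; rw [smul_add, map_add])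
        (fun s p c => by show ψ ((p : R) • ((s : R) • (c : I.H m (i + 1)))) = _; rw [smul_comm, ← map_smul]; rfl)
    have hβ : Function.Injective β.flip := (injective_iff_map_eq_zero _).2 fun c hc => by
      by_contra hne'
      obtain ⟨r, hr, hr'⟩ := hnd t _ c.2 fun h => hne' (Subtype.ext h)
      refine hr' (hψz _ ?_ (LinearMap.congr_fun hc ⟨r, hr⟩))
      have := GrInj.smul_mem_gr (𝒜 := 𝒜) hr (show (c : I.H m (i + 1)) ∈ I.Hgr m (i + 1) (a - t * q) from c.2)
      rwa [add_sub_cancel] at this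
    haveI := GrInj.isNoetherian_piece 𝒜 (M := R) (ℳ := 𝒜) (t * q)
    haveI : Module.Finite (GrLC.deg0 𝒜) (GrLC.comp 𝒜 𝒜 (t * q)) := Module.IsNoetherian.finite _ _
    obtain ⟨L', hL'⟩ := LinearMap.dualMap_surjective_of_injective hβ l
    obtain ⟨r, hr⟩ := (Module.evalEquiv (GrLC.deg0 𝒜) (GrLC.comp 𝒜 𝒜 (t * q))).surjective L'
    exact ⟨r, fun h => by rw [← hL', ← hr]; rfl⟩
  have hsocdeg : ∀ g, ∀ c ∈ I.Hgr m (i + 1) g, c ≠ 0 → (∀ s ∈ m.toIdeal, s • c = 0) → g = a := by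
    intro g c hc hc0 hk
    by_contra hga
    have hlt : g < a := by
      by_contra h
      exact hc0 (GrInj.eq_zero_above I ha (by omega) hc)
    obtain ⟨v, t, hvt⟩ : ∃ (v : ℕ) (t : ℤ), a - g + v = t * q := by
      refine ⟨((g - a) % (q : ℤ)).toNat, -((g - a) / (q : ℤ)), ?_⟩
      rw [Int.toNat_of_nonneg (Int.emod_nonneg _ (by omega))]
      have := Int.mul_ediv_add_emod (g - a) q
      linarith
    obtain ⟨L, hL, -⟩ := Submodule.exists_dual_map_eq_bot_of_notMem
      (p := (⊥ : Submodule (GrLC.deg0 𝒜) (I.H m (i + 1)))) (x := c) (by simpa using hc0) inferInstance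
    let lw : 𝒜 (v : ℤ) → (I.Hcomp m (i + 1) (a - t * q) →ₗ[GrLC.deg0 𝒜] GrLC.deg0 𝒜) := fun w =>
      { toFun := fun h => L ((w : R) • (h : I.H m (i + 1)))
        map_add' := fun p p' => by show L ((w : R) • ((p : I.H m (i + 1)) + p')) = _; rw [smul_add, map_add]
        map_smul' := fun s p => by
          show L ((w : R) • ((s : R) • (p : I.H m (i + 1)))) = _
          rw [smul_comm, RingHom.id_apply, ← map_smul]; rfl }
    choose η hη using fun w => hrep t (lw w)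
    have hpush : ∀ (w : 𝒜 (v : ℤ)) (h : I.H m (i + 1)), h ∈ I.Hgr m (i + 1) (g - v) →
        ψ ((η w : R) • h) = L ((w : R) • h) := fun w h hh =>
      hη w ⟨h, show h ∈ I.Hgr m (i + 1) (a - t * q) by rwa [show a - t * q = g - v by linarith]⟩
    have hsym : ∀ w w' : 𝒜 (v : ℤ), (w : R) * (η w' : R) = (w' : R) * (η w : R) := by
      intro w w'
      by_contra hne'
      have hmem : (w : R) * (η w' : R) - (w' : R) * (η w : R) ∈ 𝒜 (v + t * q) :=
        sub_mem (SetLike.mul_mem_graded w.2 (η w').2) (SetLike.mul_mem_graded w'.2 (η w).2)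
      obtain ⟨h, hh, hne''⟩ := hfaith _ _ hmem (sub_ne_zero.2 hne')
      refine hne'' (hψz _ ?_ ?_)
      · have := GrInj.smul_mem_gr hmem hh
        rwa [add_sub_cancel] at this
      · have hm1 : (w : R) • h ∈ I.Hgr m (i + 1) (g - v) := by
          have := GrInj.smul_mem_gr w.2 hh
          rwa [show (v : ℤ) + (a - (v + t * q)) = g - v by linarith] at this
        have hm2 : (w' : R) • h ∈ I.Hgr m (i + 1) (g - v) := by
          have := GrInj.smul_mem_gr w'.2 hh
          rwa [show (v : ℤ) + (a - (v + t * q)) = g - v by linarith] at this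
        rw [sub_smul, map_sub, mul_smul, mul_smul, smul_comm (w : R) (η w' : R), smul_comm (w' : R) (η w : R),
          hpush w' _ hm1, hpush w _ hm2, smul_comm (w' : R) (w : R), sub_self]
    have hdepJ : (2 : ℕ∞) ≤ LocCoh.idealDepth (Ideal.span ((𝒜 (v : ℤ) : AddSubgroup R) : Set R)) R := by
      refine (DepthLib.natCast_le_idealDepth_iff_forall_localization (n := 2)).2 fun p _ hp => ?_
      exact (DepthLib.natCast_le_idealDepth_iff_forall_localization (n := 2)).1 hdep p fun y hy =>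
        Ideal.IsPrime.mem_of_pow_mem ‹_› v (hp (GrInj.pow_le_span_piece hstd' v (Ideal.pow_mem_pow hy v)))
    obtain ⟨ξ, hξd, hξ⟩ := GrInj.exists_mul_eq_of_sym (e := a - g) (fun w => (η w : R))
      (fun w => hvt.symm ▸ (η w).2) hsym hdepJ
    obtain ⟨N, s, hs⟩ := Submodule.fg_iff_exists_fin_generating_family.1
      (IsNoetherian.noetherian (Ideal.span ((𝒜 (v : ℤ) : AddSubgroup R) : Set R)))
    have hdimJ : ringKrullDim (R ⧸ Ideal.span (Set.range s)) < ((i + 1 : ℕ) : WithBot ℕ∞) := by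
      rw [show Ideal.span (Set.range s) = Ideal.span ((𝒜 (v : ℤ) : AddSubgroup R) : Set R) from hs]
      haveI := GrInj.star_isMaximal hpos hm
      haveI : Ring.KrullDimLE 0 (R ⧸ Ideal.span ((𝒜 (v : ℤ) : AddSubgroup R) : Set R)) := by
        refine Ring.krullDimLE_zero_iff.2 fun P hP => ?_
        have hle : m.toIdeal ≤ P.comap (Ideal.Quotient.mk _) := fun y hy => by
          haveI := hP
          refine Ideal.IsPrime.mem_of_pow_mem (inferInstance : (P.comap (Ideal.Quotient.mk _)).IsPrime) v ?_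
          rw [Ideal.mem_comap, Ideal.Quotient.eq_zero_iff_mem.2
            (GrInj.pow_le_span_piece hstd' v (Ideal.pow_mem_pow hy v))]
          exact zero_mem _
        have hmax : (P.comap (Ideal.Quotient.mk (Ideal.span ((𝒜 (v : ℤ) : AddSubgroup R) : Set R)))).IsMaximal := by
          have h1 := Ideal.IsMaximal.eq_of_le ‹m.toIdeal.IsMaximal› (Ideal.comap_ne_top _ hP.ne_top) hle
          rw [← h1]; infer_instance
        have hπ : Function.Surjective (Ideal.Quotient.mk (Ideal.span ((𝒜 (v : ℤ) : AddSubgroup R) : Set R))) :=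
          Ideal.Quotient.mk_surjective
        have hPP := Ideal.map_comap_of_surjective _ hπ P
        rcases Ideal.map_eq_top_or_isMaximal_of_surjective _ hπ hmax with h | h
        · exact absurd (hPP.symm.trans h) hP.ne_top
        · exact hPP ▸ h
      exact lt_of_le_of_lt Order.KrullDimLE.krullDim_le (by exact_mod_cast (Nat.succ_pos i))
    have hJtop := GrInj.span_smul_top_H m hn s hdimJ I c
    have hall := agree_of_smul (ℳ := I.Hgr m (i + 1)) (v := (v : ℤ)) (T := ((𝒜 (v : ℤ) : AddSubgroup R) : Set R))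
      (fun r hr => hr) L.toAddMonoidHom
      (AddMonoidHom.mk' (fun x : I.H m (i + 1) => ψ (ξ • x)) fun x y => (congrArg ψ (smul_add ξ x y)).trans (map_add ψ _ _))
      g fun r hr z hz => (hpush ⟨r, hr⟩ z hz).symm.trans (congrArg ψ
        ((congrArg (fun x => x • z) ((hξ ⟨r, hr⟩).trans (mul_comm _ _))).trans (mul_smul _ _ _)))
    have := hall c (by rwa [show Ideal.span (Set.range s) = Ideal.span ((𝒜 (v : ℤ) : AddSubgroup R) : Set R) from hs] at hJtop)
    rw [GrInj.pr_of_mem hc] at this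
    exact hL (this.trans ((congrArg ψ (hk ξ (GrInj.mem_a m hpos hmsp (by omega) hξd))).trans (map_zero ψ)))
  rw [GrInj.isGorensteinRing_iff_socle hpos hm hn I, GrInj.length_killed hpos hmsp _
    fun r hr x => Subtype.ext ((Submodule.mem_torsionBySet_iff _ _).1 x.2 ⟨r, hr⟩)]
  let S := Submodule.torsionBySet R (I.H m (i + 1)) m.toIdeal
  have hmem : ∀ x : I.H m (i + 1), x ∈ S ↔ x ∈ I.Hcomp m (i + 1) a := by
    intro x
    constructor
    · intro hx
      show x ∈ I.Hgr m (i + 1) a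
      rw [← GrInj.sum_supp (ℳ := I.Hgr m (i + 1)) x]
      refine sum_mem fun g _ => ?_
      by_cases hg : GrInj.pr (I.Hgr m (i + 1)) g x = 0
      · rw [hg]; exact zero_mem _
      refine hsocdeg g _ (GrInj.pr_mem g x) hg (fun r hr => ?_) ▸ GrInj.pr_mem g x
      rw [← GrInj.sum_supp (ℳ := 𝒜) r, Finset.sum_smul]
      refine Finset.sum_eq_zero fun d _ => ?_
      rw [← GrInj.pr_smul (GrInj.pr_mem d r), show GrInj.pr 𝒜 d r • x = 0 from
        (Submodule.mem_torsionBySet_iff _ _).1 hx ⟨_, m.isHomogeneous d hr⟩, map_zero]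
    · intro hx
      exact (Submodule.mem_torsionBySet_iff _ _).2 fun r => GrInj.top_killed hmsp I ha hx r.2
  let θ : S ≃ₗ[GrLC.deg0 𝒜] I.Hcomp m (i + 1) a :=
    { toFun := fun x => ⟨x.1, (hmem _).1 x.2⟩
      invFun := fun x => ⟨x.1, (hmem _).2 x.2⟩
      map_add' := fun _ _ => rfl
      map_smul' := fun _ _ => rfl
      left_inv := fun _ => rfl
      right_inv := fun _ => rfl }
  have hfr : Module.finrank (GrLC.deg0 𝒜) (I.Hcomp m (i + 1) a) = 1 :=
    finrank_eq_one ⟨cb, hcb⟩ (fun h => hcb0 (congrArg Subtype.val h)) fun w => by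
      obtain ⟨r, hr⟩ := hone w w.2
      exact ⟨r, Subtype.ext hr.symm⟩
  haveI := Module.finite_of_finrank_eq_succ hfr
  rw [show Module.length (GrLC.deg0 𝒜) (Submodule.torsionBySet R (I.H m (i + 1)) m.toIdeal) =
    Module.length (GrLC.deg0 𝒜) (I.Hcomp m (i + 1) a) from θ.length_eq, Module.length_eq_finrank, hfr, Nat.cast_one]

end Groth.Agent.S18642
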