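import Groth.Statements.S18654
import Mathlib
import Groth.Agent.GrInj.Hilbert
import Groth.Agent.GrInj.FreeReg
-- import your own Groth.Agent.* helpers here

set_option autoImplicit false
universe u
open GrLC

namespace Groth.Agent.S18654

section
open Groth.Agent.GrInj
variable {R : Type u} [CommRing R] {𝒜 : ℤ → AddSubgroup R} [GradedRing 𝒜]

/-- Multiplication by the generic linear form does not decrease dimensions. -/
theorem finrank_le_succ [IsNoetherianRing R] (h0 : IsField (GrLC.deg0 𝒜)) {N : ℕ} (b : Fin N → R)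
    (hb : ∀ i, b i ∈ 𝒜 1) (hann : ∀ r : R, (∀ i, b i * r = 0) → r = 0) (n : ℤ) :
    Module.finrank (GrLC.deg0 𝒜) (GrLC.comp 𝒜 𝒜 n) ≤ Module.finrank (GrLC.deg0 𝒜) (GrLC.comp 𝒜 𝒜 (n + 1)) := by
  letI := h0.toField
  haveI := isNoetherian_piece 𝒜 (M := R) (ℳ := 𝒜) n
  haveI := isNoetherian_piece 𝒜 (M := R) (ℳ := 𝒜) (n + 1)
  haveI : Module.Finite (GrLC.deg0 𝒜) (GrLC.comp 𝒜 𝒜 n) := Module.IsNoetherian.finite _ _
  haveI : Module.Finite (GrLC.deg0 𝒜) (GrLC.comp 𝒜 𝒜 (n + 1)) := Module.IsNoetherian.finite _ _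
  let u := Module.finBasis (GrLC.deg0 𝒜) (GrLC.comp 𝒜 𝒜 n)
  let w := Module.finBasis (GrLC.deg0 𝒜) (GrLC.comp 𝒜 𝒜 (n + 1))
  have hmem : ∀ (l : Fin N) i, b l * (u i : R) ∈ GrLC.comp 𝒜 𝒜 (n + 1) := fun l i => by
    show b l * (u i : R) ∈ 𝒜 (n + 1)
    rw [add_comm]
    exact SetLike.mul_mem_graded (hb l) (u i).2
  let Mx : Fin (Module.finrank (GrLC.deg0 𝒜) (GrLC.comp 𝒜 𝒜 n)) →
      Fin (Module.finrank (GrLC.deg0 𝒜) (GrLC.comp 𝒜 𝒜 (n + 1))) → Polynomial (GrLC.deg0 𝒜) := fun i j =>
    ∑ l : Fin N, Polynomial.monomial (l : ℕ) (w.repr ⟨_, hmem l i⟩ j)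
  let φ : Polynomial (GrLC.deg0 𝒜) →+* Polynomial R := Polynomial.mapRingHom (GrLC.deg0 𝒜).subtype
  let f : Polynomial R := ∑ l : Fin N, Polynomial.monomial (l : ℕ) (b l)
  have hf : f ∈ nonZeroDivisors (Polynomial R) := by
    by_contra hnot
    obtain ⟨r, hr0, hr⟩ := Polynomial.notMem_nonZeroDivisors_iff.1 hnot
    refine hr0 (hann r fun i => ?_)
    have h1 := congrArg (fun P => Polynomial.coeff P (i : ℕ)) hr
    simp only [Polynomial.coeff_smul, Polynomial.coeff_zero, f, Polynomial.finsetSum_coeff,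
      Polynomial.coeff_monomial, smul_eq_mul] at h1
    rw [Finset.sum_eq_single i (fun j _ hj => if_neg fun h => hj (Fin.ext h))
      (fun h => absurd (Finset.mem_univ _) h), if_pos rfl, mul_comm] at h1
    exact h1
  have hrow : ∀ i, ∑ j, φ (Mx i j) * Polynomial.C (w j : R) = f * Polynomial.C (u i : R) := by
    intro i
    simp only [Mx, f, map_sum, Finset.sum_mul, φ, Polynomial.coe_mapRingHom, Polynomial.map_monomial,
      Polynomial.monomial_mul_C]
    rw [Finset.sum_comm]
    refine Finset.sum_congr rfl fun l _ => ?_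
    rw [← map_sum]
    congr 1
    have h := congrArg Subtype.val (w.sum_repr ⟨_, hmem l i⟩)
    rw [Submodule.coe_sum] at h
    exact h
  have hind : LinearIndependent (Polynomial (GrLC.deg0 𝒜)) Mx := by
    refine Fintype.linearIndependent_iff.2 fun P hP => ?_
    have hcol : ∀ j, ∑ i, P i * Mx i j = 0 := fun j => by simpa using congr_fun hP j
    have h1 : f * ∑ i, φ (P i) * Polynomial.C (u i : R) = 0 := by
      rw [Finset.mul_sum]
      calc ∑ i, f * (φ (P i) * Polynomial.C (u i : R))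
          = ∑ i, φ (P i) * ∑ j, φ (Mx i j) * Polynomial.C (w j : R) :=
            Finset.sum_congr rfl fun i _ => by rw [hrow, mul_left_comm]
        _ = ∑ j, φ (∑ i, P i * Mx i j) * Polynomial.C (w j : R) := by
            simp only [Finset.mul_sum, map_sum, map_mul, Finset.sum_mul, mul_assoc]
            rw [Finset.sum_comm]
        _ = 0 := Finset.sum_eq_zero fun j _ => by rw [hcol, map_zero, zero_mul]
    have h2 := (mem_nonZeroDivisors_iff.1 hf).1 _ h1
    intro i
    refine Polynomial.ext fun k => ?_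
    rw [Polynomial.coeff_zero]
    have h3 := congrArg (fun Q => Polynomial.coeff Q k) h2
    simp only [Polynomial.finsetSum_coeff, Polynomial.coeff_mul_C, Polynomial.coeff_zero, φ,
      Polynomial.coe_mapRingHom, Polynomial.coeff_map] at h3
    refine Fintype.linearIndependent_iff.1 u.linearIndependent (fun i => (P i).coeff k) (Subtype.ext ?_) i
    rw [Submodule.coe_sum]
    exact h3
  have := hind.fintype_card_le_finrank
  simpa using this

end

/-- Let R be a graded ring defined over a field k = R_0 which is Cohen–Macaulay and generated over k by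
R_1, with dim R ≥ 1, and write H(n, R) = dim_k R_n. Then H(n + 1, R) ≥ H(n, R) for every integer n.
Here 'graded ring defined over a field' means R = ⊕_{n ≥ 0} R_n is Noetherian with R_0 a field, and
m = R_+ is its unique graded maximal ideal. -/
theorem result (R : Type u) [CommRing R] [LocCoh.IsCohenMacaulayRing R] (𝒜 : ℤ → AddSubgroup R) [GradedRing 𝒜] (hpos : ∀ n : ℤ, n < 0 → 𝒜 n = ⊥) (h0 : IsField (GrLC.deg0 𝒜)) (hstd : Ideal.span (⋃ n ∈ Set.Ioi (0 : ℤ), (𝒜 n : Set R)) = Ideal.span ((𝒜 1 : AddSubgroup R) : Set R)) (h1 : 1 ≤ ringKrullDim R) (n : ℤ) : Module.finrank (GrLC.deg0 𝒜) (GrLC.comp 𝒜 𝒜 n) ≤ Module.finrank (GrLC.deg0 𝒜) (GrLC.comp 𝒜 𝒜 (n + 1)) := by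
  letI := h0.toField
  let m := GrInj.irrel 𝒜
  obtain ⟨s, hs, hspan⟩ := GrInj.exists_gens (a := m) (GrInj.irrel_def.trans hstd)
  refine finrank_le_succ h0 (fun i => ((Finset.equivFin s).symm i : R)) (fun i => hs _ (Finset.coe_mem _)) ?_ n
  intro r hr
  by_contra hr0
  have hmax : m.toIdeal.IsMaximal := by
    refine Ideal.isMaximal_iff.2 ⟨fun h => ?_, fun J x hJ hx hxJ => ?_⟩
    · have h1 : ∀ y ∈ m.toIdeal, GrInj.pr 𝒜 0 y = 0 := fun y hy => by
        induction hy using Submodule.span_induction with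
        | mem y hy =>
          simp only [Set.mem_iUnion] at hy
          obtain ⟨i, hi, hy⟩ := hy
          exact GrInj.pr_of_ne hy (ne_of_gt hi)
        | zero => exact map_zero _
        | add p q _ _ hp hq => rw [map_add, hp, hq, add_zero]
        | smul c p hpm hp =>
          rw [← GrInj.sum_supp (ℳ := 𝒜) c, Finset.sum_smul, map_sum]
          refine Finset.sum_eq_zero fun d _ => ?_
          rw [GrInj.pr_smul' (GrInj.pr_mem (ℳ := 𝒜) d c)]
          rcases lt_trichotomy d 0 with h | rfl | h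
          · rw [AddSubgroup.mem_bot.1 ((hpos d h).le (GrInj.pr_mem (ℳ := 𝒜) d c)), zero_smul]
          · rw [sub_zero, hp, smul_zero]
          · rw [AddSubgroup.mem_bot.1 ((hpos (0 - d) (by omega)).le (GrInj.pr_mem (ℳ := 𝒜) (0 - d) p)), smul_zero]
      have h2 := h1 1 h
      rw [GrInj.pr_of_mem (SetLike.one_mem_graded 𝒜)] at h2
      haveI : Subsingleton R := subsingleton_of_zero_eq_one h2.symm
      simp at h1 hr0
      exact hr0 (Subsingleton.elim _ _)
    · have hsub : x - GrInj.pr 𝒜 0 x ∈ m.toIdeal := by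
        refine GrInj.mem_of_pr (ℳ := 𝒜) (P := m.toIdeal) fun i => ?_
        rw [map_sub]
        rcases eq_or_ne i 0 with rfl | hi
        · rw [GrInj.pr_of_mem (GrInj.pr_mem (ℳ := 𝒜) 0 x), sub_self]; exact zero_mem _
        · rw [GrInj.pr_of_ne (GrInj.pr_mem 0 x) hi.symm, sub_zero]
          exact GrInj.mem_a m hpos GrInj.irrel_def hi (GrInj.pr_mem i x)
      have hne : (⟨GrInj.pr 𝒜 0 x, GrInj.pr_mem 0 x⟩ : GrLC.deg0 𝒜) ≠ 0 := fun h => hx (by
        have h' : GrInj.pr 𝒜 0 x = 0 := congrArg Subtype.val h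
        rwa [h', sub_zero] at hsub)
      obtain ⟨c, hc⟩ := h0.mul_inv_cancel hne
      have hc' : GrInj.pr 𝒜 0 x * (c : R) = 1 := congrArg Subtype.val hc
      rw [← hc']
      exact J.mul_mem_right _ (by simpa using sub_mem hxJ (hJ hsub))
  have hht : (1 : ℕ∞) ≤ m.toIdeal.height := by
    refine WithBot.coe_le_coe.1 (le_trans h1 ?_)
    refine le_of_eq (GrInj.ringKrullDim_eq_height_star (m := m) hpos ?_)
    refine ⟨⟨fun h => hmax.ne_top (congrArg HomogeneousIdeal.toIdeal h), fun K hK => HomogeneousIdeal.ext ?_⟩, fun K hK => ?_⟩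
    · exact hmax.out.2 (HomogeneousIdeal.toIdeal K) (lt_of_le_of_ne hK.le fun h => hK.ne (HomogeneousIdeal.ext h))
    · refine HomogeneousIdeal.ext (hmax.eq_of_le ?_ ?_).symm
      · exact fun h => hK.1 (HomogeneousIdeal.ext (by simpa using h))
      · intro y hy
        induction hy using Submodule.span_induction with
        | mem y hy =>
          simp only [Set.mem_iUnion] at hy
          obtain ⟨i, hi, hy⟩ := hy
          by_contra hyK
          let J : HomogeneousIdeal 𝒜 :=
            ⟨HomogeneousIdeal.toIdeal K ⊔ Ideal.span {y}, K.isHomogeneous.sup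
              (Ideal.homogeneous_span 𝒜 _ (by rintro _ rfl; exact ⟨i, hy⟩))⟩
          have hJ : J = ⊤ := hK.2 J (lt_of_le_of_ne (show HomogeneousIdeal.toIdeal K ≤ _ from le_sup_left)
            fun h => hyK (h.symm ▸ (Submodule.mem_sup_right (Ideal.subset_span rfl) : y ∈ J.toIdeal)))
          have h1' : (1 : R) ∈ HomogeneousIdeal.toIdeal K ⊔ Ideal.span {y} := by
            rw [show HomogeneousIdeal.toIdeal K ⊔ Ideal.span {y} = J.toIdeal from rfl, hJ]; trivial
          obtain ⟨p, hp, q, hq, hpq⟩ := Submodule.mem_sup.1 h1'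
          obtain ⟨c, rfl⟩ := Ideal.mem_span_singleton'.1 hq
          have h0' := congrArg (GrInj.pr 𝒜 0) hpq
          rw [map_add, mul_comm c, ← smul_eq_mul, GrInj.pr_smul' (ℳ := 𝒜) hy,
            AddSubgroup.mem_bot.1 ((hpos (0 - i) (by have := Set.mem_Ioi.1 hi; omega)).le (GrInj.pr_mem (ℳ := 𝒜) (0 - i) c)),
            smul_zero, add_zero, GrInj.pr_of_mem (SetLike.one_mem_graded 𝒜)] at h0'
          exact hK.1 (HomogeneousIdeal.ext (by
            rw [HomogeneousIdeal.toIdeal_top, Ideal.eq_top_iff_one, ← h0']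
            exact K.isHomogeneous 0 hp))
        | zero => exact zero_mem _
        | add p q _ _ hp hq => exact add_mem hp hq
        | smul c p _ hp => exact Submodule.smul_mem _ c hp
  have hdep : (1 : ℕ∞) ≤ LocCoh.idealDepth m.toIdeal R := by
    rw [(S14424.result R).1 inferInstance _ hmax.ne_top]; exact hht
  have hzero := (Groth.Agent.LocCohLib.natCast_le_idealDepth_iff_vanishing m.toIdeal R 1).1 (by simpa using hdep) 0 one_pos
  obtain ⟨F⟩ := S13215.result R 𝒜 R 𝒜
  obtain ⟨e⟩ := S13224.zero_case F m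
  haveI : Subsingleton (F.H m 0) :=
    haveI : Subsingleton (LocCoh.H m.toIdeal 0 R) := hzero
    e.injective.subsingleton
  refine hr0 (GrInj.eq_zero_of_pr (ℳ := 𝒜) fun d => GrInj.eq_zero_of_van (X := GrInj.selfMod 𝒜)
    (GrInj.van_of_res F (eq_bot_iff.2 fun c _ => (Submodule.mem_bot _).2 (Subsingleton.elim (h := by assumption) c 0)))
    (GrInj.pr_mem (ℳ := 𝒜) d r) (S13225.gam_homogeneous (ℳ := 𝒜) m d (show r ∈ GrLC.gam m.toIdeal R from ⟨1, fun y hy => ?_⟩)))
  rw [pow_one, ← hspan] at hy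
  induction hy using Submodule.span_induction with
  | mem y hy =>
    have := hr (Finset.equivFin s ⟨y, hy⟩)
    rw [Equiv.symm_apply_apply] at this
    exact this
  | zero => exact zero_mul r
  | add p q _ _ hp hq => rw [add_smul, hp, hq, add_zero]
  | smul c p _ hp => rw [smul_assoc, hp, smul_zero]

end Groth.Agent.S18654
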