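import Groth.Statements.S18655
import Mathlib
import Groth.Agent.GrInj.VeroH
import Groth.Agent.S13215
-- import your own Groth.Agent.* helpers here

set_option autoImplicit false
universe u
open GrLC

namespace Groth.Agent.S18655

theorem mem_span_piece {R : Type u} [CommRing R] {𝒜 : ℤ → AddSubgroup R} [GradedRing 𝒜]
    (hstd : Ideal.span (⋃ n ∈ Set.Ioi (0 : ℤ), (𝒜 n : Set R)) = Ideal.span ((𝒜 1 : AddSubgroup R) : Set R))
    (q : ℕ) : ∀ s : ℤ, (q : ℤ) ≤ s → ∀ y ∈ 𝒜 s, y ∈ Ideal.span ((𝒜 (q : ℤ) : AddSubgroup R) : Set R) := by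
  induction q with
  | zero =>
    intro s _ y _
    rw [← mul_one y]
    exact Ideal.mul_mem_left _ _ (Ideal.subset_span (SetLike.one_mem_graded 𝒜))
  | succ q ih =>
    intro s hs y hy
    have hym : y ∈ Ideal.span ((𝒜 1 : AddSubgroup R) : Set R) :=
      hstd ▸ Ideal.subset_span (Set.mem_biUnion (show s ∈ Set.Ioi (0 : ℤ) by simp only [Set.mem_Ioi]; omega) hy)
    have hb : ∀ p ∈ Ideal.span ((𝒜 1 : AddSubgroup R) : Set R), ∀ b : R,
        GrInj.pr 𝒜 s (b • p) ∈ Ideal.span ((𝒜 ((q + 1 : ℕ) : ℤ) : AddSubgroup R) : Set R) := by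
      intro p hp
      induction hp using Submodule.span_induction with
      | mem l hl =>
        intro b
        rw [smul_eq_mul, mul_comm, ← smul_eq_mul, GrInj.pr_smul' (show l ∈ 𝒜 1 from hl)]
        have h := ih (s - 1) (by omega) _ (GrInj.pr_mem (ℳ := 𝒜) (s - 1) b)
        generalize GrInj.pr 𝒜 (s - 1) b = w at h ⊢
        induction h using Submodule.span_induction with
        | mem z hz =>
          refine Ideal.subset_span ?_
          rw [show ((q + 1 : ℕ) : ℤ) = 1 + (q : ℤ) by omega]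
          exact SetLike.mul_mem_graded (show l ∈ 𝒜 1 from hl) hz
        | zero => rw [smul_zero]; exact zero_mem _
        | add u v _ _ hu hv => rw [smul_add]; exact add_mem hu hv
        | smul c u _ hu => rw [smul_comm]; exact Submodule.smul_mem _ c hu
      | zero => intro b; rw [smul_zero, map_zero]; exact zero_mem _
      | add u v _ _ hu hv => intro b; rw [smul_add, map_add]; exact add_mem (hu b) (hv b)
      | smul c u _ hu => intro b; rw [smul_smul]; exact hu _
    have := hb y hym 1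
    rwa [one_smul, GrInj.pr_of_mem hy] at this

/-- Let R be a graded ring defined over a field k = R_0 which is Gorenstein and generated over k by R_1,
of dimension n, and let q ≥ 1. Then the type r(R^(q)) of the Veronese subring equals H(j + a(R), R)
= dim_k R_{j + a(R)}, where j is the smallest multiple of q with j + a(R) ≥ 0 (so j + a(R) is the
remainder ρ of a(R) modulo q, 0 ≤ ρ < q; the statement is written in terms of ρ). Here the type of
R^(q) is the Bass number μ_n(m', R^(q)), the dimension over the residue field of Ext^n over the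
local ring of R^(q) at its graded maximal ideal m' = (R^(q))_+ (R^(q) has dimension n). Here 'graded
ring defined over a field' means R = ⊕_{n ≥ 0} R_n is Noetherian with R_0 a field, and m = R_+ is
its unique graded maximal ideal. The a-invariant a(R) is the largest degree in which the graded
local cohomology H^n_m(R) (n = dim R, m = R_+), computed from a *injective resolution of R in the
graded category, is nonzero. The Veronese subring R^(q) = ⊕_j R_{jq}, regraded by (R^(q))_j =
R_{jq}, is presented abstractly as a ℤ-graded ring R' with an injective ring homomorphism φ : R' → R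
carrying R'_j onto R_{jq} for every j. -/
theorem result (R : Type u) [CommRing R] [LocCoh.IsGorensteinRing R] (𝒜 : ℤ → AddSubgroup R) [GradedRing 𝒜] (hpos : ∀ n : ℤ, n < 0 → 𝒜 n = ⊥) (h0 : IsField (GrLC.deg0 𝒜)) (m : HomogeneousIdeal 𝒜) (hm : GrLC.IsStarLocal 𝒜 m) (hmsp : m.toIdeal = Ideal.span (⋃ n ∈ Set.Ioi (0 : ℤ), (𝒜 n : Set R))) (hstd : Ideal.span (⋃ n ∈ Set.Ioi (0 : ℤ), (𝒜 n : Set R)) = Ideal.span ((𝒜 1 : AddSubgroup R) : Set R)) (n : ℕ) (hn : ringKrullDim R = n) (I : GrLC.StarInjRes 𝒜 𝒜) (a : ℤ) (ha : GrLC.endDeg (I.Hgr m n) = ((a : WithTop ℤ) : WithBot (WithTop ℤ))) (q : ℕ) (hq : 0 < q) (R' : Type u) [CommRing R'] (𝒜' : ℤ → AddSubgroup R') [GradedRing 𝒜'] (φ : R' →+* R) (hφ : Function.Injective φ) (hdeg : ∀ j : ℤ, (𝒜' j).map (φ : R' →+ R) = 𝒜 (j * q)) (m' : HomogeneousIdeal 𝒜') [m'.toIdeal.IsMaximal] (hm'sp : m'.toIdeal = Ideal.span (⋃ j ∈ Set.Ioi (0 : ℤ), (𝒜' j : Set R'))) (ρ : ℤ) (hρ0 : 0 ≤ ρ) (hρq : ρ < q) (hρa : (q : ℤ) ∣ a - ρ) : GrLC.bassNum m'.toIdeal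 R' n = (Module.finrank (GrLC.deg0 𝒜) (GrLC.comp 𝒜 𝒜 ρ) : ℕ∞) := by
  classical
  letI := φ.toAlgebra
  haveI := GrInj.isCohenMacaulayRing_of_gorenstein (R := R)
  have hv : GrInj.IsVero 𝒜' q 𝒜 := hdeg
  haveI := GrInj.isNoetherianRing_vero hv hq hφ
  obtain ⟨F⟩ := S13215.result R' 𝒜' R' 𝒜'
  have hvan := GrInj.subsingleton_H_cm hpos hm hn I
  rw [GrInj.bassNum_eq_length_socle m' F n fun i hi =>
    GrInj.vero_subsingleton hv hq hφ hmsp hm'sp I F (hvan i hi)]
  obtain ⟨j₀, hj₀⟩ := hρa
  have hj : j₀ * (q : ℤ) = a - ρ := by rw [hj₀, mul_comm]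
  have honly : ∀ j, ∀ c ∈ I.Hgr m n (j * q), c ≠ 0 →
      (∀ t : ℤ, 0 < t → ∀ r ∈ 𝒜 (t * q), r • c = 0) → j = j₀ := by
    intro j c hc hc0 hk
    obtain ⟨r, hr, hne⟩ := GrInj.exists_smul_ne_zero hpos h0 hmsp I ha hn hc hc0
    have h0' : 0 ≤ a - j * q := by
      by_contra hlt
      exact hne (by rw [AddSubgroup.mem_bot.1 ((hpos _ (by omega)).le hr), zero_smul])
    by_cases hlt : a - j * q < q
    · have h1 : (q : ℤ) * (j₀ - j) = (a - j * q) - ρ := by rw [mul_sub, ← hj₀, mul_comm (q : ℤ) j]; ring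
      rcases lt_trichotomy (j₀ - j) 0 with h | h | h
      · nlinarith
      · omega
      · nlinarith
    · exfalso
      apply hne
      have hmem := mem_span_piece hstd q _ (by omega) r hr
      clear hne hr
      induction hmem using Submodule.span_induction with
      | mem z hz => exact hk 1 one_pos z (by rwa [one_mul])
      | zero => exact zero_smul R c
      | add u v _ _ hu hv => rw [add_smul, hu, hv, add_zero]
      | smul b u _ hu => rw [smul_eq_mul, mul_smul, hu, smul_zero]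
  have hkill : ∀ c ∈ I.Hgr m n (j₀ * q), ∀ t : ℤ, 0 < t → ∀ r ∈ 𝒜 (t * q), r • c = 0 := by
    intro c hc t ht r hr
    refine GrInj.eq_zero_above I ha (g := t * q + j₀ * q) (by nlinarith) ?_
    obtain ⟨z, hz, rfl⟩ := hc
    exact ⟨r • z, (I.X n).gsmul.smul_mem hr hz, map_smul _ r z⟩
  rw [GrInj.length_vero_socle hv hq hφ hpos hmsp hm'sp I F j₀ honly hkill]
  letI := h0.toField
  obtain ⟨hfr, hfin⟩ := GrInj.finrank_comp_eq_finrank_Hcomp hpos h0 hmsp I ha hn ρ
  rw [hj, Module.length_eq_finrank, hfr]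

end Groth.Agent.S18655
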