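import Groth.Statements.S18643
import Mathlib
import Groth.Agent.S18641
import Groth.Agent.S18655
import Groth.Agent.S18654
-- import your own Groth.Agent.* helpers here

set_option autoImplicit false
universe u
open GrLC

namespace Groth.Agent.S18643

/-- Let R be a graded ring defined over a field k = R_0 which is Gorenstein and generated over k by R_1,
with dim R ≥ 1 and dim_k R_1 ≥ 2, and let q ≥ 1. Then the Veronese subring R^(q) is a Gorenstein
ring if and only if q divides the a-invariant a(R). Here 'graded ring defined over a field' means R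
= ⊕_{n ≥ 0} R_n is Noetherian with R_0 a field, and m = R_+ is its unique graded maximal ideal. The
a-invariant a(R) is the largest degree in which the graded local cohomology H^n_m(R) (n = dim R, m =
R_+), computed from a *injective resolution of R in the graded category, is nonzero. The Veronese
subring R^(q) = ⊕_j R_{jq}, regraded by (R^(q))_j = R_{jq}, is presented abstractly as a ℤ-graded
ring R' with an injective ring homomorphism φ : R' → R carrying R'_j onto R_{jq} for every j. -/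
theorem result (R : Type u) [CommRing R] [LocCoh.IsGorensteinRing R] (𝒜 : ℤ → AddSubgroup R) [GradedRing 𝒜] (hpos : ∀ n : ℤ, n < 0 → 𝒜 n = ⊥) (h0 : IsField (GrLC.deg0 𝒜)) (m : HomogeneousIdeal 𝒜) (hm : GrLC.IsStarLocal 𝒜 m) (hmsp : m.toIdeal = Ideal.span (⋃ n ∈ Set.Ioi (0 : ℤ), (𝒜 n : Set R))) (hstd : Ideal.span (⋃ n ∈ Set.Ioi (0 : ℤ), (𝒜 n : Set R)) = Ideal.span ((𝒜 1 : AddSubgroup R) : Set R)) (hR1 : 2 ≤ Module.finrank (GrLC.deg0 𝒜) (GrLC.comp 𝒜 𝒜 1)) (n : ℕ) (hn : ringKrullDim R = n) (h1 : 1 ≤ n) (I : GrLC.StarInjRes 𝒜 𝒜) (a : ℤ) (ha : GrLC.endDeg (I.Hgr m n) = ((a : WithTop ℤ) : WithBot (WithTop ℤ))) (q : ℕ) (hq : 0 < q) (R' : Type u) [CommRing R'] (𝒜' : ℤ → AddSubgroup R') [GradedRing 𝒜'] (φ : R' →+* R) (hφ : Function.Injective φ) (hdeg : ∀ j : ℤ, (𝒜' j).map (φ : R' →+ R) = 𝒜 (j * q)) : LocCoh.IsGorensteinRing R' ↔ (q : ℤ) ∣ a := by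
  refine ⟨fun hG => ?_, fun hdvd => S18641.result R 𝒜 hpos h0 m hm hmsp n hn I a ha q hq R' 𝒜' φ hφ hdeg hdvd⟩
  classical
  by_contra hndvd
  letI := φ.toAlgebra
  haveI := GrInj.isCohenMacaulayRing_of_gorenstein (R := R)
  have hv : GrInj.IsVero 𝒜' q 𝒜 := hdeg
  haveI := GrInj.isNoetherianRing_vero hv hq hφ
  let m' : HomogeneousIdeal 𝒜' := ⟨Ideal.span (⋃ j ∈ Set.Ioi (0 : ℤ), (𝒜' j : Set R')),
    Ideal.homogeneous_span _ _ fun x hx => by
      simp only [Set.mem_iUnion] at hx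
      obtain ⟨i, -, hx⟩ := hx
      exact ⟨i, hx⟩⟩
  have hm'sp : m'.toIdeal = Ideal.span (⋃ j ∈ Set.Ioi (0 : ℤ), (𝒜' j : Set R')) := rfl
  have hpos' := GrInj.vero_pos hv hq hφ hpos
  have hm' := GrInj.isStarLocal_of_field hpos' (GrInj.vero_field hv hφ h0) hm'sp
  haveI := GrInj.star_isMaximal hpos' hm'
  obtain ⟨F⟩ := S13215.result R' 𝒜' R' 𝒜'
  have hvan := GrInj.subsingleton_H_cm hpos hm hn I
  have hvan' : ∀ i < n, Subsingleton (F.H m' i) := fun i hi =>
    GrInj.vero_subsingleton hv hq hφ hmsp hm'sp I F (hvan i hi)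
  have h := S18655.result R 𝒜 hpos h0 m hm hmsp hstd n hn I a ha q hq R' 𝒜' φ hφ hdeg m' hm'sp (a % q)
    (Int.emod_nonneg a (by omega)) (Int.emod_lt_of_pos a (by omega)) (Int.dvd_self_sub_emod)
  rw [GrInj.bassNum_eq_length_socle m' F n hvan', (GrInj.isGorensteinRing_iff_socle_van hpos' hm'
    ((GrInj.vero_dim hv hq hφ hpos hmsp).trans hn) F hvan').1 hG] at h
  have hρ : 1 ≤ a % (q : ℤ) := by
    have h1 := Int.emod_nonneg a (show (q : ℤ) ≠ 0 by omega)
    have h2 : a % (q : ℤ) ≠ 0 := fun h => hndvd (Int.dvd_of_emod_eq_zero h)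
    omega
  obtain ⟨t, ht⟩ : ∃ t : ℕ, a % (q : ℤ) = 1 + t := ⟨(a % (q : ℤ) - 1).toNat, by omega⟩
  have hmono : ∀ t : ℕ, 2 ≤ Module.finrank (GrLC.deg0 𝒜) (GrLC.comp 𝒜 𝒜 (1 + t)) := by
    intro t
    induction t with
    | zero => rwa [Nat.cast_zero, add_zero]
    | succ t ih =>
      have := S18654.result R 𝒜 hpos h0 hstd (by rw [hn]; exact_mod_cast h1) (1 + t)
      rw [Nat.cast_succ, ← add_assoc]
      omega
  rw [ht] at h
  have h2 := hmono t
  have h3 : Module.finrank (GrLC.deg0 𝒜) (GrLC.comp 𝒜 𝒜 (1 + t)) = 1 := by exact_mod_cast h.symm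
  omega

end Groth.Agent.S18643
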