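import Groth.Statements.S18644
import Mathlib
import Groth.Agent.GrInj.TopShift
import Groth.Agent.GrInj.StarLoc
import Groth.Agent.GrInj.TopDim
import Groth.Agent.GrInj.StdReg
import Groth.Agent.GrInj.Koszul
import Groth.Agent.FlatDescent.Slicing.Open
-- import your own Groth.Agent.* helpers here

set_option autoImplicit false
universe u
open GrLC

namespace Groth.Agent.S18644

section
open Groth.Agent.GrInj
variable {R : Type u} [CommRing R] [IsNoetherianRing R] {𝒜 : ℤ → AddSubgroup R} [GradedRing 𝒜]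

theorem exists_basis_one (h0 : IsField (GrLC.deg0 𝒜)) {a : HomogeneousIdeal 𝒜}
    (ha : a.toIdeal = Ideal.span ((𝒜 1 : AddSubgroup R) : Set R)) :
    ∃ (N : ℕ) (b : Fin N → R), (∀ i, b i ∈ 𝒜 1) ∧ Ideal.span (Set.range b) = a.toIdeal ∧
      (∀ c : Fin N → GrLC.deg0 𝒜, ∑ i, (c i : R) * b i = 0 → c = 0) ∧
      N = Module.finrank (GrLC.deg0 𝒜) (GrLC.comp 𝒜 𝒜 1) := by
  haveI := isNoetherian_piece 𝒜 (M := R) (ℳ := 𝒜) 1
  letI := h0.toField
  haveI : Module.Finite (GrLC.deg0 𝒜) (GrLC.comp 𝒜 𝒜 1) := Module.IsNoetherian.finite _ _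
  let B := Module.finBasis (GrLC.deg0 𝒜) (GrLC.comp 𝒜 𝒜 1)
  refine ⟨_, fun i => (B i : R), fun i => (B i).2, le_antisymm (Ideal.span_le.2 ?_) ?_, fun c hc => ?_, rfl⟩
  · rintro _ ⟨i, rfl⟩
    rw [ha]
    exact Ideal.subset_span (B i).2
  · rw [ha, Ideal.span_le]
    intro x hx
    have h := congrArg Subtype.val (B.sum_repr ⟨x, hx⟩)
    rw [Submodule.coe_sum] at h
    rw [SetLike.mem_coe, show x = ∑ i, ((B.repr ⟨x, hx⟩ i • B i : GrLC.comp 𝒜 𝒜 1) : R) from h.symm]
    exact sum_mem fun i _ => Ideal.mul_mem_left _ _ (Ideal.subset_span ⟨i, rfl⟩)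
  · refine funext fun i => Fintype.linearIndependent_iff.1 B.linearIndependent c (Subtype.ext ?_) i
    rw [Submodule.coe_sum]
    exact hc

theorem card_le_of_span {a : HomogeneousIdeal 𝒜} (hpos : ∀ n : ℤ, n < 0 → 𝒜 n = ⊥)
    (h0 : IsField (GrLC.deg0 𝒜)) [a.toIdeal.IsMaximal] (ha0 : ∀ x ∈ a.toIdeal, pr 𝒜 0 x = 0)
    (hmem : ∀ d : ℤ, d ≠ 0 → ∀ x : R, pr 𝒜 d x ∈ a.toIdeal)
    {N : ℕ} (b : Fin N → R) (hb : ∀ i, b i ∈ 𝒜 1) (hba : ∀ i, b i ∈ a.toIdeal)
    (hli : ∀ c : Fin N → GrLC.deg0 𝒜, ∑ i, (c i : R) * b i = 0 → c = 0)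
    (hreg : IsRegularLocalRing (Localization.AtPrime a.toIdeal)) {r : ℕ} (hr : ringKrullDim R = r) : N ≤ r := by
  classical
  letI := h0.toField
  let L := Localization.AtPrime a.toIdeal
  have hs : (IsLocalRing.maximalIdeal L).spanFinrank ≤ r := by
    have h1 := hreg.spanFinrank_maximalIdeal
    rw [IsLocalization.AtPrime.ringKrullDim_eq_height a.toIdeal L] at h1
    have h2 : (a.toIdeal.height : WithBot ℕ∞) ≤ r := hr ▸ Ideal.height_le_ringKrullDim_of_ne_top (Ideal.IsPrime.ne_top inferInstance)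
    rw [← h1] at h2
    exact_mod_cast h2
  obtain ⟨s, hscard, hspan⟩ : ∃ s : Finset L, s.card ≤ r ∧ Ideal.span (s : Set L) = IsLocalRing.maximalIdeal L := by
    have hfg : (IsLocalRing.maximalIdeal L).FG := IsNoetherian.noetherian _
    obtain ⟨t, ht, hts⟩ := Submodule.FG.exists_span_finset_card_eq_spanFinrank (p := IsLocalRing.maximalIdeal L) hfg
    exact ⟨t, ht.le.trans hs, hts⟩
  choose x hx using fun g : L => IsLocalization.surj a.toIdeal.primeCompl g
  have hxm : ∀ g ∈ s, (x g).1 ∈ a.toIdeal := fun g hg => by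
    rw [← IsLocalization.AtPrime.to_map_mem_maximal_iff L a.toIdeal, ← hx g]
    exact Ideal.mul_mem_right _ _ (hspan.le (Ideal.subset_span hg))
  let W : Submodule (GrLC.deg0 𝒜) R :=
    Submodule.span (GrLC.deg0 𝒜) ((fun g => pr 𝒜 1 (x g).1) '' (s : Set L))
  have hbW : ∀ i, b i ∈ W := by
    intro i
    have h1 : algebraMap R L (b i) ∈ Ideal.map (algebraMap R L) (Ideal.span ((fun g => (x g).1) '' (s : Set L))) := by
      have h2 : algebraMap R L (b i) ∈ Ideal.span (s : Set L) :=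
        hspan.ge ((IsLocalization.AtPrime.to_map_mem_maximal_iff L a.toIdeal _).2 (hba i))
      refine Ideal.span_le.2 ?_ h2
      intro g hg
      have hu := IsLocalization.map_units L (x g).2
      rw [SetLike.mem_coe, ← Ideal.mul_unit_mem_iff_mem _ hu, hx g]
      exact Ideal.mem_map_of_mem _ (Ideal.subset_span ⟨g, hg, rfl⟩)
    rw [IsLocalization.algebraMap_mem_map_algebraMap_iff a.toIdeal.primeCompl] at h1
    obtain ⟨u, hu, hub⟩ := h1
    have hgen : ∀ y ∈ Ideal.span ((fun g => (x g).1) '' (s : Set L)), pr 𝒜 1 y ∈ W := by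
      intro y hy
      obtain ⟨c, hc, rfl⟩ := (Finsupp.mem_span_image_iff_linearCombination R).1 hy
      rw [Finsupp.linearCombination_apply, Finsupp.sum, map_sum]
      refine sum_mem fun g hg => ?_
      have hxg := hxm g (hc hg)
      have hsum : ∀ y : R, y ∈ a.toIdeal → pr 𝒜 1 (c g * y) = pr 𝒜 0 (c g) * pr 𝒜 1 y := by
        intro y hy
        conv_lhs => rw [← sum_supp (ℳ := 𝒜) (c g), Finset.sum_mul, map_sum]
        rw [Finset.sum_eq_single 0]
        · rw [← smul_eq_mul, pr_smul' (pr_mem (ℳ := 𝒜) 0 (c g)), sub_zero, smul_eq_mul]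
        · intro d _ hd
          rw [← smul_eq_mul, pr_smul' (pr_mem (ℳ := 𝒜) d (c g)), smul_eq_mul]
          rcases lt_or_gt_of_ne hd with h | h
          · rw [AddSubgroup.mem_bot.1 ((hpos d h).le (pr_mem (ℳ := 𝒜) d (c g))), zero_mul]
          · rcases eq_or_lt_of_le (show (1 : ℤ) ≤ d from h) with h' | h'
            · rw [← h', sub_self, ha0 y hy, mul_zero]
            · rw [AddSubgroup.mem_bot.1 ((hpos (1 - d) (by omega)).le (pr_mem (ℳ := 𝒜) (1 - d) y)), mul_zero]
        · intro h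
          rw [pr_eq_zero h, zero_mul, map_zero]
      rw [smul_eq_mul, hsum _ hxg]
      exact W.smul_mem (⟨pr 𝒜 0 (c g), pr_mem 0 (c g)⟩ : GrLC.deg0 𝒜) (Submodule.subset_span ⟨g, hc hg, rfl⟩)
    have h3 := hgen _ hub
    rw [mul_comm, ← smul_eq_mul, pr_smul' (ℳ := 𝒜) (hb i), sub_self, smul_eq_mul] at h3
    have hu0 : (⟨pr 𝒜 0 u, pr_mem 0 u⟩ : GrLC.deg0 𝒜) ≠ 0 := fun h => hu (by
      have h' : pr 𝒜 0 u = 0 := congrArg Subtype.val h
      exact mem_of_pr (ℳ := 𝒜) (P := a.toIdeal) fun j => by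
        rcases eq_or_ne j 0 with rfl | hj
        · rw [h']; exact zero_mem _
        · exact hmem j hj u)
    have h4 := W.smul_mem (⟨pr 𝒜 0 u, pr_mem 0 u⟩ : GrLC.deg0 𝒜)⁻¹ h3
    have h5 := congrArg Subtype.val (inv_mul_cancel₀ hu0)
    convert h4 using 1
    show b i = ((⟨pr 𝒜 0 u, pr_mem 0 u⟩ : GrLC.deg0 𝒜)⁻¹ : GrLC.deg0 𝒜).1 * (b i * pr 𝒜 0 u)
    rw [mul_left_comm, show _ * pr 𝒜 0 u = (1 : R) from h5, mul_one]
  have hind : LinearIndependent (GrLC.deg0 𝒜) fun i => (⟨b i, hbW i⟩ : W) :=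
    Fintype.linearIndependent_iff.2 fun c hc i => congr_fun (hli c (by
      have := congrArg Subtype.val hc
      rw [Submodule.coe_sum] at this
      exact this)) i
  haveI : Module.Finite (GrLC.deg0 𝒜) W := Module.Finite.span_of_finite _ (s.finite_toSet.image _)
  have h6 := hind.fintype_card_le_finrank
  rw [Fintype.card_fin] at h6
  refine h6.trans (le_trans ?_ hscard)
  have hW : W = Submodule.span (GrLC.deg0 𝒜) ((s.image fun g => pr 𝒜 1 (x g).1 : Finset R) : Set R) := by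
    rw [Finset.coe_image]
  rw [(LinearEquiv.ofEq _ _ hW).finrank_eq]
  exact (finrank_span_finset_le_card _).trans Finset.card_image_le

theorem exists_top_eq {m : HomogeneousIdeal 𝒜} (hpos : ∀ n : ℤ, n < 0 → 𝒜 n = ⊥) (hm : GrLC.IsStarLocal 𝒜 m)
    (hmsp : m.toIdeal = Ideal.span (⋃ n ∈ Set.Ioi (0 : ℤ), (𝒜 n : Set R))) {N : ℕ} (b : Fin N → R)
    (hb : ∀ i, b i ∈ 𝒜 1) (hspan : Ideal.span (Set.range b) = m.toIdeal)
    (hwr : RingTheory.Sequence.IsWeaklyRegular R (List.ofFn b))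
    (hofl : Ideal.ofList (List.ofFn b) • (⊤ : Submodule R R) = m.toIdeal)
    (I : GrLC.StarInjRes 𝒜 (selfMod 𝒜).gr) (hI : ∀ i < N, Subsingleton (I.H m i)) :
    ∃ Q : GMod.{u} 𝒜, ¬ Van m 0 0 Q ∧ (∀ n, 0 < n → Van m 0 n Q) ∧ ∃ F : GrLC.StarInjRes 𝒜 Q.gr,
      GrLC.endDeg (F.Hgr m 0) = GrLC.endDeg (I.Hgr m (0 + N)) +
        (((N : ℤ) : WithTop ℤ) : WithBot (WithTop ℤ)) := by
  let P : Submodule R (selfMod 𝒜).carrier := m.toIdeal
  have hP : P.IsHomogeneous (selfMod 𝒜).gr := fun i x hx => m.isHomogeneous i hx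
  let Q : GMod.{u} 𝒜 := quoMod 𝒜 P hP
  obtain ⟨F⟩ := S13215.result R 𝒜 Q.carrier Q.gr
  refine ⟨Q, fun h => ?_, fun n hn => ?_, F, ?_⟩
  · refine star_ne_top hm ((Ideal.eq_top_iff_one _).2 ((Submodule.Quotient.mk_eq_zero _).1 ?_))
    refine eq_zero_of_van (X := Q) h
      (show P.mkQ (1 : R) ∈ Q.gr 0 from ⟨(1 : R), SetLike.one_mem_graded 𝒜, rfl⟩) ⟨1, fun s hs => ?_⟩
    rw [pow_one] at hs
    exact (Submodule.Quotient.mk_smul _ s (1 : R)).symm.trans
      ((Submodule.Quotient.mk_eq_zero _).2 (Ideal.mul_mem_right _ _ hs))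
  · refine van_zero_of fun q hq _ => ?_
    obtain ⟨x, hx, rfl⟩ := hq
    exact (Submodule.Quotient.mk_eq_zero _).2 (mem_a m hpos hmsp hn.ne' hx)
  · have key : ∀ (Y : GMod.{u} 𝒜) (π : (selfMod 𝒜).carrier →ₗ[R] Y.carrier), IsGrHom (selfMod 𝒜).gr Y.gr π →
        Function.Surjective π → LinearMap.ker π = Ideal.ofList (List.ofFn b) • ⊤ →
        ∀ F : GrLC.StarInjRes 𝒜 Y.gr, GrLC.endDeg (F.Hgr m 0) = GrLC.endDeg (I.Hgr m (0 + N)) +
          (((N : ℤ) : WithTop ℤ) : WithBot (WithTop ℤ)) :=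
      fun Y π h1 h2 h3 F => by
      have hsum : ((Finset.univ : Finset (Fin N)).sum fun _ => (1 : ℤ)) = (N : ℤ) := by simp
      rw [← hsum]
      exact endDeg_regular_quotient (a := m) hpos N b (fun _ => 1) hb
        (fun i => hspan.le (Ideal.subset_span ⟨i, rfl⟩)) (selfMod 𝒜) I hwr 0 (fun i hi => hI i (by omega))
        Y.carrier Y.gr π h1 h2 h3 F
    exact key Q (Submodule.mkQ P) (fun i x hx => ⟨x, hx, rfl⟩)
      (Submodule.mkQ_surjective _) ((Submodule.ker_mkQ _).trans hofl.symm) F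

end

/-- Let R be a graded ring defined over a field k = R_0 which is Cohen–Macaulay and generated over k by
R_1, of dimension r. Then a(R) = −r holds exactly when R is isomorphic to the polynomial ring over k
in r variables. Here 'graded ring defined over a field' means R = ⊕_{n ≥ 0} R_n is Noetherian with
R_0 a field, and m = R_+ is its unique graded maximal ideal. The a-invariant a(R) is the largest
degree in which the graded local cohomology H^n_m(R) (n = dim R, m = R_+), computed from a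
*injective resolution of R in the graded category, is nonzero. (The inequality a(R) ≥ −r of the same
lemma is stated separately.) -/
theorem result (R : Type u) [CommRing R] [LocCoh.IsCohenMacaulayRing R] (𝒜 : ℤ → AddSubgroup R) [GradedRing 𝒜] (hpos : ∀ n : ℤ, n < 0 → 𝒜 n = ⊥) (h0 : IsField (GrLC.deg0 𝒜)) (m : HomogeneousIdeal 𝒜) (hm : GrLC.IsStarLocal 𝒜 m) (hmsp : m.toIdeal = Ideal.span (⋃ n ∈ Set.Ioi (0 : ℤ), (𝒜 n : Set R))) (hstd : Ideal.span (⋃ n ∈ Set.Ioi (0 : ℤ), (𝒜 n : Set R)) = Ideal.span ((𝒜 1 : AddSubgroup R) : Set R)) (r : ℕ) (hr : ringKrullDim R = r) (I : GrLC.StarInjRes 𝒜 𝒜) : GrLC.endDeg (I.Hgr m r) = (((-(r : ℤ) : ℤ) : WithTop ℤ) : WithBot (WithTop ℤ)) ↔ Nonempty (R ≃+* MvPolynomial (Fin r) (GrLC.deg0 𝒜)) := by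
  letI := h0.toField
  haveI := GrInj.star_isMaximal hpos hm
  have hhom : m.toIdeal = Ideal.span ((𝒜 1 : AddSubgroup R) : Set R) := hmsp.trans hstd
  have hmem : ∀ d : ℤ, d ≠ 0 → ∀ x : R, GrInj.pr 𝒜 d x ∈ m.toIdeal := fun d hd x =>
    GrInj.mem_a m hpos hmsp hd (GrInj.pr_mem d x)
  have ha0 : ∀ x ∈ m.toIdeal, GrInj.pr 𝒜 0 x = 0 := fun x hx => by
    by_contra h
    have hx0 : GrInj.pr 𝒜 0 x ∈ m.toIdeal := m.isHomogeneous 0 hx
    obtain ⟨c, hc⟩ := h0.mul_inv_cancel (a := (⟨GrInj.pr 𝒜 0 x, GrInj.pr_mem 0 x⟩ : GrLC.deg0 𝒜))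
      (fun h' => h (congrArg Subtype.val h'))
    refine GrInj.star_ne_top hm ((Ideal.eq_top_iff_one _).2 ?_)
    rw [← show GrInj.pr 𝒜 0 x * (c : R) = 1 from congrArg Subtype.val hc]
    exact Ideal.mul_mem_right _ _ hx0
  obtain ⟨N, b, hb, hspan, hli, -⟩ := exists_basis_one h0 hhom
  let φ : GrLC.deg0 𝒜 →+* R := (GrLC.deg0 𝒜).subtype
  have hφ : ∀ c, φ c ∈ 𝒜 0 := fun c => c.2
  have hsurj : Function.Surjective (MvPolynomial.eval₂Hom φ b) := GrInj.eval_surjective φ b hb hpos hspan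
    (fun n hn x hx => GrInj.mem_a m hpos hmsp hn.ne' hx) fun x hx => ⟨⟨x, hx⟩, rfl⟩
  have hdim : ringKrullDim (MvPolynomial (Fin N) (GrLC.deg0 𝒜)) = N := by
    rw [MvPolynomial.ringKrullDim_of_isNoetherianRing, ringKrullDim_eq_zero_of_field]
    simp
  have hhi : ∀ k, r < k → Subsingleton (I.H m k) := fun k hk => GrInj.subsingleton_H_above hr I m hk
  constructor
  · intro ha
    have hreg : GrInj.VanAbove m 0 (GrInj.selfMod 𝒜) := fun k n hkn => by
      refine GrInj.van_of_res I ?_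
      rcases lt_trichotomy k r with h | rfl | h
      · haveI := GrInj.subsingleton_H_cm hpos hm hr I k h
        exact eq_bot_iff.2 fun c _ => (Submodule.mem_bot _).2 (Subsingleton.elim (h := GrInj.subsingleton_H_cm hpos hm hr I k h) c 0)
      · have h1 := (GrInj.endDeg_le_iff _ _).1 ha.le n (by omega)
        exact eq_bot_iff.2 fun c hc => (Submodule.mem_bot _).2 (AddSubgroup.mem_bot.1 (h1.le hc))
      · exact eq_bot_iff.2 fun c _ => (Submodule.mem_bot _).2 (Subsingleton.elim (h := hhi k h) c 0)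
    have hdep : 0 < N → ∀ x : R, x ∈ GrLC.gam m.toIdeal R → x = 0 := by
      intro hN x hx
      refine GrInj.eq_zero_of_pr (ℳ := 𝒜) fun n => ?_
      refine GrInj.eq_zero_of_van (X := GrInj.selfMod 𝒜) (GrInj.van_of_res I ?_) (GrInj.pr_mem (ℳ := 𝒜) n x)
        (S13225.gam_homogeneous (ℳ := 𝒜) m n hx)
      rcases Nat.eq_zero_or_pos r with rfl | hr0
      · exfalso
        have h1 := GrInj.eq_zero_of_van (X := GrInj.selfMod 𝒜) (hreg 0 1 (by norm_num)) (hb ⟨0, hN⟩) (by
          have hh : m.toIdeal ≤ nilradical R := by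
            rw [nilradical_eq_sInf]
            refine le_sInf fun P (hP : P.IsPrime) => ?_
            haveI := hP
            haveI := Ideal.IsPrime.homogeneousCore (𝒜 := 𝒜) hP
            have hht : m.toIdeal.height = 0 := by
              have := (GrInj.ringKrullDim_eq_height_star hpos hm).symm.trans hr
              exact_mod_cast this
            refine le_trans (le_of_eq ?_) (Ideal.toIdeal_homogeneousCore_le 𝒜 P)
            by_contra hne
            have hlt := lt_of_le_of_ne (GrInj.star_le hm (P.homogeneousCore 𝒜) (Ideal.IsPrime.ne_top inferInstance)) (Ne.symm hne)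
            have h3 := Ideal.height_strict_mono_of_isPrime hlt
            rw [hht] at h3
            exact not_lt_bot h3
          obtain ⟨K, hK⟩ := Ideal.exists_pow_le_of_le_radical_of_fg hh (IsNoetherian.noetherian m.toIdeal)
          exact ⟨K, fun s hs => by
            rw [(Ideal.mem_bot).1 (hK hs)]; exact zero_smul _ _⟩)
        have h2 := hli (Pi.single ⟨0, hN⟩ 1) (by
          rw [Finset.sum_eq_single ⟨0, hN⟩ (fun i _ hi => by rw [Pi.single_eq_of_ne hi]; exact zero_mul _)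
            (fun h => absurd (Finset.mem_univ _) h), Pi.single_eq_same]
          exact (one_mul _).trans h1)
        exact one_ne_zero ((Pi.single_eq_same (M := fun _ : Fin N => GrLC.deg0 𝒜) _ _).symm.trans (congr_fun h2 ⟨0, hN⟩))
      · exact eq_bot_iff.2 fun c _ => (Submodule.mem_bot _).2
          (Subsingleton.elim (h := GrInj.subsingleton_H_cm hpos hm hr I 0 hr0) c 0)
    have hinj : Function.Injective (MvPolynomial.eval₂Hom φ b) :=
      GrInj.eval_injective φ hφ b hb hdep hreg hspan hsurj Subtype.val_injective hli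
    let e := RingEquiv.ofBijective _ ⟨hinj, hsurj⟩
    have hN : N = r := by
      have := (ringKrullDim_eq_of_ringEquiv e).symm.trans hdim
      rw [hr] at this
      exact_mod_cast this.symm
    exact ⟨hN ▸ e.symm⟩
  · rintro ⟨e⟩
    haveI : IsRegularRing R := IsRegularRing.of_ringEquiv e.symm
    haveI : IsDomain R := e.toMulEquiv.isDomain (MvPolynomial (Fin r) (GrLC.deg0 𝒜))
    have hle : N ≤ r := card_le_of_span hpos h0 ha0 hmem b hb (fun i => hspan.le (Ideal.subset_span ⟨i, rfl⟩))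
      hli inferInstance hr
    have hinj : Function.Injective (MvPolynomial.eval₂Hom φ b) := by
      refine (injective_iff_map_eq_zero _).2 fun P hP => by_contra fun hP0 => ?_
      have := ringKrullDim_succ_le_of_surjective (MvPolynomial.eval₂Hom φ b) hsurj
        (mem_nonZeroDivisors_iff_ne_zero.2 hP0) hP
      rw [hdim, hr] at this
      have h' : r + 1 ≤ N := by exact_mod_cast this
      omega
    let e' := RingEquiv.ofBijective _ ⟨hinj, hsurj⟩
    obtain rfl : N = r := by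
      have := (ringKrullDim_eq_of_ringEquiv e').symm.trans hdim
      rw [hr] at this
      exact_mod_cast this.symm
    have hwr : RingTheory.Sequence.IsWeaklyRegular R (List.ofFn b) := by
      refine ((e'.toAddEquiv).isWeaklyRegular_congr (as := List.ofFn fun i => (MvPolynomial.X i : MvPolynomial (Fin N) (GrLC.deg0 𝒜)))
        (bs := List.ofFn b) ?_).1 (Groth.FlatDescent.Slicing.isWeaklyRegular_X N _)
      rw [List.forall₂_iff_get]
      refine ⟨by simp, fun i h₁ h₂ z => ?_⟩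
      simp only [List.get_eq_getElem, List.getElem_ofFn]
      show MvPolynomial.eval₂Hom φ b (_ * z) = _ * MvPolynomial.eval₂Hom φ b z
      rw [map_mul, MvPolynomial.eval₂Hom_X']
    have hofl : Ideal.ofList (List.ofFn b) • (⊤ : Submodule R R) = m.toIdeal := by
      rw [smul_eq_mul, Ideal.mul_top, ← hspan]
      congr 1
      ext y
      rw [Ideal.ofList, show {r : R | r ∈ List.ofFn b} = Set.range b from Set.ext fun r => List.mem_ofFn]
    obtain ⟨Q, hQ0, hQ1, F, hmain⟩ := exists_top_eq hpos hm hmsp b hb hspan hwr hofl I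
      fun i hi => GrInj.subsingleton_H_cm hpos hm hr I i hi
    have hF : GrLC.endDeg (F.Hgr m 0) = (((0 : ℤ) : WithTop ℤ) : WithBot (WithTop ℤ)) := by
      refine le_antisymm ((GrInj.endDeg_le_iff _ _).2 fun n hn => ?_) (le_iSup₂ (f := fun (p : ℤ) (_ : F.Hgr m 0 p ≠ ⊥) =>
        ((p : WithTop ℤ) : WithBot (WithTop ℤ))) 0 fun hbot => ?_)
      · exact eq_bot_iff.2 fun c hc => AddSubgroup.mem_bot.2 ((Submodule.mem_bot _).1 ((hQ1 n hn F).le hc))
      · exact hQ0 (GrInj.van_of_res F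
          (eq_bot_iff.2 fun c hc => (Submodule.mem_bot _).2 (AddSubgroup.mem_bot.1 (hbot.le hc))))
    rw [hF, zero_add] at hmain
    suffices key : ∀ A : WithBot (WithTop ℤ),
        (((0 : ℤ) : WithTop ℤ) : WithBot (WithTop ℤ)) = A + (((N : ℤ) : WithTop ℤ) : WithBot (WithTop ℤ)) →
        A = (((-(N : ℤ) : ℤ) : WithTop ℤ) : WithBot (WithTop ℤ)) from key _ hmain
    intro A hA
    induction A using WithBot.recBotCoe with
    | bot => rw [WithBot.bot_add] at hA; exact absurd hA WithBot.coe_ne_bot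
    | coe A =>
      induction A using WithTop.recTopCoe with
      | top => rw [← WithBot.coe_add, WithTop.top_add] at hA; exact absurd (WithBot.coe_inj.1 hA) WithTop.coe_ne_top
      | coe A =>
        norm_cast at hA ⊢
        omega

end Groth.Agent.S18644
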