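import Groth.Statements.S18650
import Mathlib
import Groth.Agent.GrInj.StarTop
import Groth.Agent.GrInj.GorCrit
import Groth.Agent.LocCohLib.GorOfH
import Groth.Agent.LocCohLib.Grothendieck
-- import your own Groth.Agent.* helpers here

set_option autoImplicit false
universe u
open GrLC

namespace Groth.Agent.S18650

/-- The case M = R of the published statement. Let R be a commutative Noetherian ℤ-graded ring which is
H-local, i.e. has a unique maximal graded ideal m, and which is Cohen–Macaulay, with ht m = n. Then
R is a Gorenstein ring if and only if the graded local cohomology module H^n_m(R) is an injective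
object of the category of graded R-modules. Here H^n_m(R) is computed from a *injective resolution I
of R in the graded category, and its *injectivity is expressed as the existence of a *injective
graded R-module X and an R-linear isomorphism H^n_m(R) ≅ X preserving degrees. (The published item
is stated for a Cohen–Macaulay graded module M and the notion of Gorenstein module; this row is its
case M = R.) -/
theorem result (R : Type u) [CommRing R] [LocCoh.IsCohenMacaulayRing R] (𝒜 : ℤ → AddSubgroup R) [GradedRing 𝒜] (m : HomogeneousIdeal 𝒜) (hm : GrLC.IsStarLocal 𝒜 m) (n : ℕ) (hn : m.toIdeal.height = n) (I : GrLC.StarInjRes 𝒜 𝒜) : LocCoh.IsGorensteinRing R ↔ ∃ (X : GrLC.GMod.{u} 𝒜) (φ : I.H m n ≃ₗ[R] X.carrier), GrLC.IsStarInj 𝒜 X.gr ∧ GrLC.IsGrHom (I.Hgr m n) X.gr φ.toLinearMap := by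
  classical
  haveI := GrInj.star_isPrime hm
  constructor
  · intro hG
    letI : DirectSum.Decomposition (quotGr 𝒜 m) := (GrInj.isInternal_quotGr m).chooseDecomposition
    obtain ⟨X, e, he⟩ := GrInj.exists_hull 𝒜 (quotGr 𝒜 m)
    obtain ⟨g, φ, hφ⟩ := GrInj.exists_equiv_hull hm hn I he
    refine ⟨GrInj.shMod 𝒜 X (-g), φ, GrInj.starInj_sh 𝒜 he.starInj (-g), fun h x hx => ?_⟩
    show φ.toLinearMap x ∈ X.gr (h - -g)
    rw [sub_neg_eq_add]
    exact hφ h x hx
  · rintro ⟨X, φ, hX, -⟩
    let A := Localization.AtPrime m.toIdeal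
    let S := m.toIdeal.primeCompl
    obtain ⟨eL⟩ := GrInj.nonempty_H_loc (m := m) I n
    have hTX : LocCoh.IsPowerTorsion m.toIdeal X.carrier := fun y => by
      obtain ⟨k, hk⟩ := GrInj.torsion_H I m n (φ.symm y)
      exact ⟨k, fun r hr => by rw [← φ.apply_symm_apply y, ← map_smul, hk r hr, map_zero]⟩
    haveI hXinj : Module.Injective A (LocalizedModule S X.carrier) :=
      GrInj.injective_of_torsion_of_ext (GrInj.torsion_loc m.toIdeal hTX)
        (GrInj.subsingleton_ext_residueField m hX 0)
    let eX : LocalizedModule S X.carrier ≃ₗ[A] LocCoh.H (IsLocalRing.maximalIdeal A) n A :=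
      ((IsLocalizedModule.mapEquiv S (LocalizedModule.mkLinearMap S (I.H m n))
        (LocalizedModule.mkLinearMap S X.carrier) A φ).symm).trans eL
    haveI : Module.Injective A ((localCohomology (IsLocalRing.maximalIdeal A) n).obj (ModuleCat.of A A)) :=
      ⟨fun P Q _ _ _ _ f hf g => by
        obtain ⟨h, hh⟩ := Module.Injective.out f hf (eX.symm.toLinearMap ∘ₗ g)
        exact ⟨eX.toLinearMap ∘ₗ h, fun p => by
          show eX (h (f p)) = g p
          rw [hh p]
          exact eX.apply_symm_apply _⟩⟩
    haveI := LocCoh.IsCohenMacaulayRing.isCohenMacaulayLocalRing_localization (R := R) m.toIdeal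
    have hdim : Module.supportDim A A = ((n : ℕ∞) : WithBot ℕ∞) := by
      rw [Module.supportDim_self_eq_ringKrullDim, IsLocalization.AtPrime.ringKrullDim_eq_height m.toIdeal A, hn]
    have hdep : LocCoh.depth A A = (n : ℕ∞) :=
      (WithBot.coe_injective (hdim.symm.trans LocCoh.IsCohenMacaulayLocalRing.supportDim_eq_depth)).symm
    have hvan : ∀ i, i ≠ n →
        Subsingleton ((localCohomology (IsLocalRing.maximalIdeal A) i).obj (ModuleCat.of A A)) := fun i hi => by
      rcases lt_or_gt_of_ne hi with h | h
      · exact (LocCohLib.natCast_le_idealDepth_iff_vanishing (IsLocalRing.maximalIdeal A) A n).1 hdep.ge i h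
      · refine LocCohLib.subsingleton_of_dimLt (IsLocalRing.maximalIdeal A) i _ (LocCohLib.DimLt.of_supportDim ?_)
        show Module.supportDim A A < _
        rw [hdim]
        exact WithBot.coe_lt_coe.2 (Nat.cast_lt.2 h)
    refine GrInj.isGorensteinRing_of_star hm (GorLib.isGorensteinLocalRing_iff.2 ⟨n + 1, fun i hi => ?_⟩)
    obtain ⟨t, rfl⟩ : ∃ t, i = t + 1 := ⟨i - 1, by omega⟩
    exact LocCohLib.Gor.ext_vanish_of_injective_H hvan t (by omega)

end Groth.Agent.S18650
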