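import Groth.Statements.S18653
import Mathlib
-- import your own Groth.Agent.* helpers here

set_option autoImplicit false
universe u
open GrLC

namespace Groth.Agent.S18653

section
open DirectSum
variable {k : Type u} [Field k] {R : Type u} [CommRing R] [IsDomain R] [Algebra k R] {𝒜 : ℤ → Submodule k R}
  [GradedAlgebra 𝒜]

theorem mem_graded_int_pow {r : R} {i : ℤ} (hr : r ∈ 𝒜 i) (n : ℕ) : r ^ n ∈ 𝒜 (n * i) := by
  have := SetLike.pow_mem_graded (A := 𝒜) n hr
  rwa [nsmul_eq_mul] at this

/-- The pieces of a one-dimensional graded domain have bounded dimension. -/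
theorem exists_dim_bound (hpos : ∀ n : ℤ, n < 0 → 𝒜 n = ⊥) [Algebra.FiniteType k R] (h1 : ringKrullDim R = 1)
    {n : ℤ} (hn : 0 < n) {a : R} (ha : a ∈ 𝒜 n) (ha0 : a ≠ 0) :
    ∃ N : ℕ, ∀ m : ℤ, ∀ (l : ℕ) (w : Fin l → R), (∀ i, w i ∈ 𝒜 m) → LinearIndependent k w → l ≤ N := by
  classical
  haveI : IsNoetherianRing R := Algebra.FiniteType.isNoetherianRing k R
  haveI : Ring.KrullDimLE 1 R := Ring.krullDimLE_iff.2 (by rw [h1]; exact le_rfl)
  haveI : Ring.KrullDimLE 0 (R ⧸ Ideal.span {a}) := Ring.krullDimLE_zero_iff.2 fun P hP => by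
    have hmax : (P.comap (Ideal.Quotient.mk (Ideal.span {a}))).IsMaximal :=
      Ring.krullDimLE_one_iff_of_noZeroDivisors.1 inferInstance _ (fun h => ha0 (by
        have : a ∈ P.comap (Ideal.Quotient.mk (Ideal.span {a})) := by
          rw [Ideal.mem_comap, Ideal.Quotient.eq_zero_iff_mem.2 (Ideal.mem_span_singleton_self a)]
          exact zero_mem _
        rw [h] at this
        exact (Submodule.mem_bot R).1 this)) (hP.comap _)
    have h2 : (P.comap (Ideal.Quotient.mk (Ideal.span {a}))).map (Ideal.Quotient.mk (Ideal.span {a})) = P :=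
      Ideal.map_comap_of_surjective _ Ideal.Quotient.mk_surjective P
    rcases Ideal.map_eq_top_or_isMaximal_of_surjective (Ideal.Quotient.mk (Ideal.span {a}))
      Ideal.Quotient.mk_surjective hmax with h | h
    · exact absurd (h2 ▸ h) hP.ne_top
    · exact h2 ▸ h
  haveI : IsArtinianRing (R ⧸ Ideal.span {a}) := isArtinianRing_iff_krullDimLE_zero.2 inferInstance
  haveI : Module.Finite k (R ⧸ Ideal.span {a}) := (Module.finite_iff_isArtinianRing k (R ⧸ Ideal.span {a})).2 inferInstance
  obtain ⟨s, hs⟩ := Module.Finite.fg_top (R := k) (M := R ⧸ Ideal.span {a})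
  choose f hf using fun x : R ⧸ Ideal.span {a} => Ideal.Quotient.mk_surjective x
  let V : Finset (ℤ × R) := s.biUnion fun x =>
    (DFinsupp.support (DirectSum.decompose 𝒜 (f x))).image fun i => (i, (DirectSum.decompose 𝒜 (f x) i : R))
  have hV : ∀ p ∈ V, p.2 ∈ 𝒜 p.1 := by
    intro p hp
    obtain ⟨x, -, hx⟩ := Finset.mem_biUnion.1 hp
    obtain ⟨i, -, rfl⟩ := Finset.mem_image.1 hx
    exact (DirectSum.decompose 𝒜 (f x) i).2
  let W : Submodule k R := Submodule.span k ((fun p : ℤ × R => p.2) '' (V : Set (ℤ × R)))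
  have hspan : ∀ r : R, ∃ w ∈ W, ∃ t : R, r = w + a * t := by
    intro r
    have hr : Ideal.Quotient.mk (Ideal.span {a}) r ∈ Submodule.span k (s : Set (R ⧸ Ideal.span {a})) := by
      rw [hs]; trivial
    have key : ∀ y ∈ Submodule.span k (s : Set (R ⧸ Ideal.span {a})),
        ∃ w ∈ W, Ideal.Quotient.mk (Ideal.span {a}) w = y := by
      intro y hy
      induction hy using Submodule.span_induction with
      | mem y hy =>
        refine ⟨f y, ?_, hf y⟩
        rw [← DirectSum.sum_support_decompose 𝒜 (f y)]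
        exact sum_mem fun i hi => Submodule.subset_span ⟨(i, _), Finset.mem_coe.2 (Finset.mem_biUnion.2
          ⟨y, hy, Finset.mem_image.2 ⟨i, hi, rfl⟩⟩), rfl⟩
      | zero => exact ⟨0, zero_mem _, map_zero _⟩
      | add y z _ _ hy hz =>
        obtain ⟨w, hw, rfl⟩ := hy
        obtain ⟨v, hv, rfl⟩ := hz
        exact ⟨w + v, add_mem hw hv, map_add _ _ _⟩
      | smul c y _ hy =>
        obtain ⟨w, hw, rfl⟩ := hy
        exact ⟨c • w, W.smul_mem c hw, rfl⟩
    obtain ⟨w, hw, hwr⟩ := key _ hr
    obtain ⟨t, ht⟩ := Ideal.mem_span_singleton'.1 (Ideal.Quotient.eq.1 hwr.symm)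
    exact ⟨w, hw, t, by rw [mul_comm, ht, add_sub_cancel]⟩
  let T : ℤ → Finset R := fun m => (V.filter fun p => p.1 ≤ m ∧ n ∣ (m - p.1)).image fun p =>
    a ^ ((m - p.1) / n).toNat * p.2
  have hT : ∀ d : ℕ, ∀ m : ℤ, m < (d : ℤ) * n → ∀ r ∈ 𝒜 m, r ∈ Submodule.span k (T m : Set R) := by
    intro d
    induction d with
    | zero =>
      intro m hm r hr
      rw [hpos m (by simpa using hm), Submodule.mem_bot] at hr
      rw [hr]; exact zero_mem _
    | succ d ih =>
      intro m hm r hr
      obtain ⟨w, hw, t, rfl⟩ := hspan r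
      rw [← DirectSum.decompose_of_mem_same 𝒜 hr, DirectSum.decompose_add, DirectSum.add_apply, Submodule.coe_add]
      refine add_mem ?_ ?_
      · clear hr
        induction hw using Submodule.span_induction with
        | mem y hy =>
          obtain ⟨p, hp, rfl⟩ := hy
          by_cases hpm : p.1 = m
          · rw [DirectSum.decompose_of_mem_same 𝒜 (show p.2 ∈ 𝒜 m from hpm ▸ hV p hp)]
            refine Submodule.subset_span (Finset.mem_coe.2 (Finset.mem_image.2 ⟨p, Finset.mem_filter.2
              ⟨hp, hpm.le, ⟨0, by omega⟩⟩, ?_⟩))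
            rw [show m - p.1 = 0 by omega, Int.zero_ediv, Int.toNat_zero, pow_zero, one_mul]
          · rw [DirectSum.decompose_of_mem_ne 𝒜 (hV p hp) hpm]
            exact zero_mem _
        | zero => rw [DirectSum.decompose_zero, DirectSum.zero_apply]; exact zero_mem _
        | add y z _ _ hy hz =>
          rw [DirectSum.decompose_add, DirectSum.add_apply, Submodule.coe_add]; exact add_mem hy hz
        | smul c y _ hy =>
          rw [DirectSum.decompose_smul]
          exact Submodule.smul_mem _ c hy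
      · have h2 : (DirectSum.decompose 𝒜 (a * t) m : R) = a * (DirectSum.decompose 𝒜 t (m - n) : R) := by
          have := DirectSum.coe_decompose_mul_add_of_left_mem 𝒜 (a := a) (b := t) (j := m - n) ha
          rwa [add_sub_cancel] at this
        rw [h2]
        have h3 := ih (m - n) (by push_cast at hm; nlinarith) _ (DirectSum.decompose 𝒜 t (m - n)).2
        generalize ((DirectSum.decompose 𝒜 t (m - n) : 𝒜 (m - n)) : R) = z at h3 ⊢
        induction h3 using Submodule.span_induction with
        | mem y hy =>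
          obtain ⟨p, hp, rfl⟩ := Finset.mem_image.1 (Finset.mem_coe.1 hy)
          obtain ⟨hpV, hle, c, hc⟩ := Finset.mem_filter.1 hp
          have hc0 : 0 ≤ c := by
            by_contra hneg
            nlinarith
          refine Submodule.subset_span (Finset.mem_coe.2 (Finset.mem_image.2 ⟨p, Finset.mem_filter.2
            ⟨hpV, by omega, c + 1, by linarith⟩, ?_⟩))
          rw [show (m - p.1) = n * (c + 1) by linarith, hc, Int.mul_ediv_cancel_left _ hn.ne',
            Int.mul_ediv_cancel_left _ hn.ne', Int.toNat_add hc0 zero_le_one, pow_add]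
          simp [mul_comm, mul_assoc, mul_left_comm]
        | zero => rw [mul_zero]; exact zero_mem _
        | add y z _ _ hy hz => rw [mul_add]; exact add_mem hy hz
        | smul c y _ hy => rw [mul_smul_comm]; exact Submodule.smul_mem _ c hy
  refine ⟨V.card, fun m l w hw hli => ?_⟩
  have hsub : ∀ i, w i ∈ Submodule.span k (T m : Set R) := fun i =>
    hT (m.natAbs + 1) m (by push_cast; nlinarith [le_abs_self m, abs_nonneg m, mul_le_mul_of_nonneg_left (show (1 : ℤ) ≤ n by omega) (show (0 : ℤ) ≤ |m| + 1 by positivity)]) _ (hw i)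
  let w' : Fin l → Submodule.span k (T m : Set R) := fun i => ⟨w i, hsub i⟩
  have hli' : LinearIndependent k w' := LinearIndependent.of_comp (Submodule.span k (T m : Set R)).subtype hli
  haveI : Module.Finite k (Submodule.span k (T m : Set R)) := Module.Finite.span_of_finite k (T m).finite_toSet
  have h4 := hli'.fintype_card_le_finrank
  rw [Fintype.card_fin] at h4
  exact h4.trans ((finrank_span_finset_le_card (T m)).trans ((Finset.card_image_le).trans (Finset.card_filter_le _ _)))

/-- Each piece is at most one-dimensional. -/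
theorem exists_smul_eq_of_same_degree [IsAlgClosed k] (hpos : ∀ n : ℤ, n < 0 → 𝒜 n = ⊥) [Algebra.FiniteType k R]
    (h1 : ringKrullDim R = 1) (h0 : 𝒜 0 = Submodule.span k {(1 : R)}) {n : ℤ} {a b : R} (ha : a ∈ 𝒜 n)
    (hb : b ∈ 𝒜 n) (ha0 : a ≠ 0) : ∃ c : k, c • a = b := by
  rcases lt_trichotomy n 0 with hn | rfl | hn
  · rw [hpos n hn, Submodule.mem_bot] at ha
    exact absurd ha ha0
  · rw [h0] at ha hb
    obtain ⟨c, rfl⟩ := Submodule.mem_span_singleton.1 ha
    obtain ⟨d, rfl⟩ := Submodule.mem_span_singleton.1 hb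
    have hc : c ≠ 0 := fun h => ha0 (by rw [h, zero_smul])
    exact ⟨d / c, by rw [smul_smul, div_mul_cancel₀ d hc]⟩
  obtain ⟨N, hN⟩ := exists_dim_bound hpos h1 hn ha ha0
  let K := FractionRing R
  let u : K := algebraMap R K b / algebraMap R K a
  have haK : algebraMap R K a ≠ 0 := fun h => ha0 (IsFractionRing.injective R K (h.trans (map_zero _).symm))
  have hu : IsAlgebraic k u := by
    by_contra hu
    let w : Fin (N + 1) → R := fun i => a ^ (N - (i : ℕ)) * b ^ (i : ℕ)
    have hw : ∀ i, w i ∈ 𝒜 (N * n) := fun i => by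
      have h := SetLike.GradedMul.mul_mem (mem_graded_int_pow ha (N - (i : ℕ))) (mem_graded_int_pow hb (i : ℕ))
      rwa [show ((N - (i : ℕ) : ℕ) : ℤ) * n + ((i : ℕ) : ℤ) * n = N * n by
        rw [← add_mul, ← Nat.cast_add, Nat.sub_add_cancel (Nat.lt_succ_iff.1 i.2)]] at h
    have hli : LinearIndependent k w := by
      refine Fintype.linearIndependent_iff.2 fun c hc i => ?_
      let P : Polynomial k := ∑ i : Fin (N + 1), Polynomial.monomial (i : ℕ) (c i)
      have hP : P = 0 := (transcendental_iff.1 hu) P (by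
        have h2 := congrArg (algebraMap R K) hc
        simp only [map_sum, map_zero, Algebra.smul_def, map_mul, map_pow, w,
          ← IsScalarTower.algebraMap_apply k R K] at h2
        simp only [P, map_sum, Polynomial.aeval_monomial]
        refine (mul_right_inj' (pow_ne_zero N haK)).1 ?_
        rw [mul_zero, ← h2, Finset.mul_sum]
        refine Finset.sum_congr rfl fun j _ => ?_
        have e : algebraMap R K b = u * algebraMap R K a := (div_mul_cancel₀ _ haK).symm
        rw [e, mul_pow]
        rw [show algebraMap R K a ^ N = algebraMap R K a ^ (N - (j : ℕ)) * algebraMap R K a ^ (j : ℕ) from by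
          rw [← pow_add, Nat.sub_add_cancel (Nat.lt_succ_iff.1 j.2)]]
        ring)
      have h3 := congrArg (fun p => Polynomial.coeff p (i : ℕ)) hP
      simp only [P, Polynomial.finsetSum_coeff, Polynomial.coeff_monomial, Polynomial.coeff_zero] at h3
      rwa [Finset.sum_eq_single i (fun j _ hj => if_neg fun h => hj (Fin.ext h)) (fun h => absurd (Finset.mem_univ i) h),
        if_pos rfl] at h3
    have := hN _ _ w hw hli
    omega
  obtain ⟨c, hc⟩ := minpoly.mem_range_of_degree_eq_one k u
    (IsAlgClosed.degree_eq_one_of_irreducible k (minpoly.irreducible hu.isIntegral))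
  refine ⟨c, IsFractionRing.injective R K ?_⟩
  rw [Algebra.smul_def, map_mul, ← IsScalarTower.algebraMap_apply k R K,
    show algebraMap k K c = u from hc]
  exact div_mul_cancel₀ _ haK

end

/-- Let R be a graded ring defined over an algebraically closed field k which is an integral domain of
dimension one. Then R is isomorphic to a semigroup ring (the subring of k[T] spanned by the
monomials T^h, h in an additive submonoid H of ℕ); moreover, if R is generated over k by R_1, then R
is a polynomial ring k[T]. Here a graded ring defined over k is a commutative k-algebra of finite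
type graded in nonnegative degrees by k-subspaces with degree-zero part k·1; the isomorphisms
asserted are ring isomorphisms. -/
theorem result (k : Type u) [Field k] [IsAlgClosed k] (R : Type u) [CommRing R] [IsDomain R] [Algebra k R] (𝒜 : ℤ → Submodule k R) [GradedAlgebra 𝒜] (hpos : ∀ n : ℤ, n < 0 → 𝒜 n = ⊥) (h0 : 𝒜 0 = Submodule.span k {(1 : R)}) [Algebra.FiniteType k R] (h1 : ringKrullDim R = 1) : (∃ H : AddSubmonoid ℕ, Nonempty (R ≃+* AddMonoidAlgebra k H)) ∧ (Ideal.span (⋃ n ∈ Set.Ioi (0 : ℤ), (𝒜 n : Set R)) = Ideal.span ((𝒜 1 : Submodule k R) : Set R) → Nonempty (R ≃+* Polynomial k)) := by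
  classical
  let K := FractionRing R
  have hone := fun {n : ℤ} {a b : R} (ha : a ∈ 𝒜 n) (hb : b ∈ 𝒜 n) (ha0 : a ≠ 0) =>
    exists_smul_eq_of_same_degree hpos h1 h0 ha hb ha0
  have hi : Function.Injective (algebraMap R K) := IsFractionRing.injective R K
  let G : AddSubgroup ℤ :=
    { carrier := {g | ∃ i, ∃ y ∈ 𝒜 (i + g), ∃ x ∈ 𝒜 i, y ≠ 0 ∧ x ≠ 0}
      zero_mem' := ⟨0, 1, by simpa using SetLike.one_mem_graded 𝒜, 1, SetLike.one_mem_graded 𝒜, one_ne_zero, one_ne_zero⟩
      add_mem' := by
        rintro g g' ⟨i, y, hy, x, hx, hy0, hx0⟩ ⟨j, y', hy', x', hx', hy0', hx0'⟩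
        refine ⟨i + j, y * y', ?_, x * x', SetLike.GradedMul.mul_mem hx hx', mul_ne_zero hy0 hy0', mul_ne_zero hx0 hx0'⟩
        rw [show i + j + (g + g') = i + g + (j + g') by ring]
        exact SetLike.GradedMul.mul_mem hy hy'
      neg_mem' := by
        rintro g ⟨i, y, hy, x, hx, hy0, hx0⟩
        exact ⟨i + g, x, by rwa [add_neg_cancel_right], y, hy, hx0, hy0⟩ }
  have hposne : ∃ m : ℤ, 0 < m ∧ ∃ r ∈ 𝒜 m, r ≠ 0 := by
    by_contra hno
    push Not at hno
    have hsurj : Function.Surjective (algebraMap k R) := fun r => by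
      have : r ∈ 𝒜 0 := by
        rw [← DirectSum.sum_support_decompose 𝒜 r]
        refine sum_mem fun i _ => ?_
        rcases lt_trichotomy i 0 with h | rfl | h
        · have h2 : ((DirectSum.decompose 𝒜 r i : 𝒜 i) : R) = 0 :=
            (Submodule.mem_bot k).1 ((hpos i h).le (DirectSum.decompose 𝒜 r i).2)
          rw [h2]; exact zero_mem _
        · exact (DirectSum.decompose 𝒜 r 0).2
        · rw [hno i h _ (DirectSum.decompose 𝒜 r i).2]; exact zero_mem _
      rw [h0] at this
      obtain ⟨c, hc⟩ := Submodule.mem_span_singleton.1 this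
      exact ⟨c, by rw [← hc, Algebra.smul_def, mul_one]⟩
    have h2 := ringKrullDim_le_of_surjective (algebraMap k R) hsurj
    rw [h1, ringKrullDim_eq_zero_of_field] at h2
    exact absurd h2 (by decide)
  obtain ⟨g, hg0, hgG, hdvd⟩ : ∃ g : ℤ, 0 < g ∧ g ∈ G ∧ ∀ m ∈ G, g ∣ m := by
    obtain ⟨e, he⟩ := Int.subgroup_cyclic G
    obtain ⟨m, hm, r, hr, hr0⟩ := hposne
    have hmG : m ∈ G := ⟨0, r, by rwa [zero_add], 1, SetLike.one_mem_graded 𝒜, hr0, one_ne_zero⟩
    have he0 : e ≠ 0 := by
      rintro rfl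
      rw [he, AddSubgroup.mem_closure_singleton] at hmG
      obtain ⟨j, hj⟩ := hmG
      simp at hj
      omega
    have hmem : e ∈ G := by rw [he]; exact AddSubgroup.subset_closure rfl
    refine ⟨|e|, abs_pos.2 he0, ?_, fun n hn => (abs_dvd e n).2 ?_⟩
    · rcases abs_choice e with h | h <;> rw [h]
      exacts [hmem, neg_mem hmem]
    · rw [he, AddSubgroup.mem_closure_singleton] at hn
      obtain ⟨j, rfl⟩ := hn
      exact ⟨j, by simp [mul_comm]⟩
  obtain ⟨i₀, y, hy, x, hx, hy0, hx0⟩ := hgG
  let τ : K := algebraMap R K y / algebraMap R K x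
  have hxK : algebraMap R K x ≠ 0 := fun h => hx0 (hi (h.trans (map_zero _).symm))
  have hexp : ∀ m, ∀ r ∈ 𝒜 m, r ≠ 0 → ∃ (j : ℕ) (c : k), m = j * g ∧ c ≠ 0 ∧
      algebraMap R K r = algebraMap k K c * τ ^ j := by
    intro m r hr hr0
    have hm0 : 0 ≤ m := by
      by_contra h
      rw [hpos m (by omega), Submodule.mem_bot] at hr
      exact hr0 hr
    obtain ⟨l, hl⟩ := hdvd m ⟨0, r, by rwa [zero_add], 1, SetLike.one_mem_graded 𝒜, hr0, one_ne_zero⟩
    obtain ⟨j, rfl⟩ : ∃ j : ℕ, l = j := ⟨l.toNat, (Int.toNat_of_nonneg (by nlinarith)).symm⟩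
    have hl' : m = j * g := by rw [hl, mul_comm]
    have hyj := mem_graded_int_pow hy j
    have hrx : r * x ^ j ∈ 𝒜 ((j : ℤ) * (i₀ + g)) := by
      have h := SetLike.GradedMul.mul_mem hr (mem_graded_int_pow hx j)
      rwa [show m + (j : ℤ) * i₀ = (j : ℤ) * (i₀ + g) by rw [hl']; ring] at h
    obtain ⟨c, hc⟩ := hone hyj hrx (pow_ne_zero _ hy0)
    have hc0 : c ≠ 0 := fun h => mul_ne_zero hr0 (pow_ne_zero _ hx0) (by rw [← hc, h, zero_smul])
    refine ⟨j, c, hl', hc0, ?_⟩
    have h2 := congrArg (algebraMap R K) hc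
    rw [Algebra.smul_def, map_mul, map_mul, map_pow, map_pow, ← IsScalarTower.algebraMap_apply k R K] at h2
    show _ = _ * (algebraMap R K y / algebraMap R K x) ^ j
    rw [div_pow, ← mul_div_assoc, h2, mul_div_assoc, div_self (pow_ne_zero _ hxK), mul_one]
  have hτ : Transcendental k τ := by
    intro halg
    obtain ⟨c, hc⟩ := minpoly.mem_range_of_degree_eq_one k τ
      (IsAlgClosed.degree_eq_one_of_irreducible k (minpoly.irreducible halg.isIntegral))
    have h2 : algebraMap k K c * algebraMap R K x = algebraMap R K y := by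
      rw [show algebraMap k K c = τ from hc]
      exact div_mul_cancel₀ _ hxK
    rw [IsScalarTower.algebraMap_apply k R K, ← map_mul, ← Algebra.smul_def] at h2
    have h3 : c • x ∈ 𝒜 i₀ := Submodule.smul_mem _ c hx
    rw [hi h2] at h3
    have h4 := DirectSum.decompose_of_mem_same 𝒜 h3
    rw [DirectSum.decompose_of_mem_ne 𝒜 hy (by omega)] at h4
    exact hy0 h4.symm
  let H : AddSubmonoid ℕ :=
    { carrier := {j | ∃ r ∈ 𝒜 ((j : ℤ) * g), r ≠ 0}
      zero_mem' := ⟨1, by simpa using SetLike.one_mem_graded 𝒜, one_ne_zero⟩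
      add_mem' := by
        rintro a b ⟨r, hr, hr0⟩ ⟨s, hs, hs0⟩
        refine ⟨r * s, ?_, mul_ne_zero hr0 hs0⟩
        rw [Nat.cast_add, add_mul]
        exact SetLike.GradedMul.mul_mem hr hs }
  let Φ : AddMonoidAlgebra k H →ₐ[k] K := AddMonoidAlgebra.lift k K H
    { toFun := fun h => τ ^ ((Multiplicative.toAdd h : H) : ℕ)
      map_one' := by simp
      map_mul' := fun a b => by rw [← pow_add]; rfl }
  have hΦ : ∀ (h : H) (c : k), Φ (AddMonoidAlgebra.single h c) = algebraMap k K c * τ ^ (h : ℕ) := fun h c => by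
    show AddMonoidAlgebra.lift k K H _ (AddMonoidAlgebra.single h c) = _
    rw [AddMonoidAlgebra.lift_single, Algebra.smul_def]
    rfl
  have hΦi : Function.Injective Φ := by
    let e : AddMonoidAlgebra k H →ₐ[k] Polynomial k :=
      (Polynomial.toFinsuppIsoAlg k).symm.toAlgHom.comp (AddMonoidAlgebra.mapDomainAlgHom k k H.subtype)
    have he : Function.Injective e :=
      (Polynomial.toFinsuppIsoAlg k).symm.injective.comp (AddMonoidAlgebra.mapDomain_injective Subtype.val_injective)
    have heq : Φ = (Polynomial.aeval τ).comp e := by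
      refine AlgHom.ext fun f => ?_
      induction f using AddMonoidAlgebra.induction_on with
      | of h =>
        show Φ (AddMonoidAlgebra.single h 1) = Polynomial.aeval τ (e (AddMonoidAlgebra.single h 1))
        rw [hΦ, map_one, one_mul]
        have h2 : e (AddMonoidAlgebra.single h 1) = Polynomial.monomial (h : ℕ) 1 := by
          simp only [e, AlgHom.comp_apply]
          refine ((Polynomial.toFinsuppIsoAlg k).symm_apply_eq).2 ?_
          simp
        rw [h2, Polynomial.aeval_monomial, map_one, one_mul]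
      | add p q hp hq => simp only [map_add, hp, hq]
      | smul c p hp => simp only [map_smul, hp]
    rw [heq]
    exact (transcendental_iff_injective.1 hτ).comp he
  have hrange : Φ.range = (IsScalarTower.toAlgHom k R K).range := by
    refine le_antisymm ?_ ?_
    · rintro _ ⟨f, rfl⟩
      induction f using AddMonoidAlgebra.induction_on with
      | of h =>
        obtain ⟨r, hr, hr0⟩ := h.2
        obtain ⟨j, c, hj, hc, he⟩ := hexp _ r hr hr0
        have hjh : j = (h : ℕ) := by
          have := mul_right_cancel₀ hg0.ne' hj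
          exact_mod_cast this.symm
        refine ⟨c⁻¹ • r, ?_⟩
        show algebraMap R K (c⁻¹ • r) = Φ (AddMonoidAlgebra.single h 1)
        rw [hΦ, map_one, one_mul, Algebra.smul_def, map_mul, ← IsScalarTower.algebraMap_apply k R K, he,
          ← mul_assoc, ← map_mul, inv_mul_cancel₀ hc, map_one, one_mul, hjh]
      | add p q hp hq => rw [map_add]; exact add_mem hp hq
      | smul c p hp =>
        show Φ (c • p) ∈ _
        rw [map_smul]; exact Subalgebra.smul_mem _ hp c
    · rintro _ ⟨r, rfl⟩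
      rw [← DirectSum.sum_support_decompose 𝒜 r, map_sum]
      refine sum_mem fun i _ => ?_
      by_cases hr0 : (DirectSum.decompose 𝒜 r i : R) = 0
      · rw [hr0, map_zero]; exact zero_mem _
      · obtain ⟨j, c, hj, hc, he⟩ := hexp i _ (DirectSum.decompose 𝒜 r i).2 hr0
        refine ⟨AddMonoidAlgebra.single ⟨j, _, hj ▸ (DirectSum.decompose 𝒜 r i).2, hr0⟩ c, ?_⟩
        exact (hΦ _ _).trans he.symm
  let eR : R ≃ₐ[k] AddMonoidAlgebra k H :=
    (AlgEquiv.ofInjective (IsScalarTower.toAlgHom k R K) hi).trans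
      ((Subalgebra.equivOfEq _ _ hrange.symm).trans (AlgEquiv.ofInjective Φ hΦi).symm)
  refine ⟨⟨H, ⟨eR.toRingEquiv⟩⟩, fun hgen => ?_⟩
  obtain ⟨a, ha, ha0⟩ : ∃ a ∈ 𝒜 1, a ≠ 0 := by
    by_contra hno
    push Not at hno
    obtain ⟨m, hm, r, hr, hr0⟩ := hposne
    have h2 : r ∈ Ideal.span ((𝒜 1 : Submodule k R) : Set R) :=
      hgen ▸ Ideal.subset_span (Set.mem_biUnion (Set.mem_Ioi.2 hm) hr)
    rw [show Ideal.span ((𝒜 1 : Submodule k R) : Set R) = ⊥ from Ideal.span_eq_bot.2 fun z hz => hno z hz,
      Ideal.mem_bot] at h2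
    exact hr0 h2
  have hg1 : g = 1 := Int.eq_one_of_dvd_one hg0.le
    (hdvd 1 ⟨0, a, by rwa [zero_add], 1, SetLike.one_mem_graded 𝒜, ha0, one_ne_zero⟩)
  have hH : ∀ j : ℕ, j ∈ H := fun j => ⟨a ^ j, by
    have := mem_graded_int_pow ha j
    rwa [hg1], pow_ne_zero _ ha0⟩
  let eH : H ≃+ ℕ :=
    { toFun := fun h => h.1
      invFun := fun j => ⟨j, hH j⟩
      left_inv := fun h => rfl
      right_inv := fun j => rfl
      map_add' := fun h h' => rfl }
  exact ⟨(eR.trans ((AddMonoidAlgebra.domCongr k k eH).trans (Polynomial.toFinsuppIsoAlg k).symm)).toRingEquiv⟩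

end Groth.Agent.S18653
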