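import Groth.Statements.S18657
import Mathlib
import Groth.Agent.GrInj.TopQuot
import Groth.Agent.GrInj.Ext
import Groth.Agent.GrInj.Hilbert
import Groth.Agent.S18656
import Groth.Agent.S13225
-- import your own Groth.Agent.* helpers here

set_option autoImplicit false
universe u
open GrLC

namespace Groth.Agent.S18657

/-- Let R be a graded ring defined over a field k = R_0 which is Cohen–Macaulay and generated over k by
R_1, of dimension r ≥ 2, with canonical module K_R and a-invariant a(R). Then dim_k (K_R)_n ≥ 2 for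
every n > −a(R). Here 'graded ring defined over a field' means R = ⊕_{n ≥ 0} R_n is Noetherian with
R_0 a field (so R is finitely generated over R_0), m = R_+ is its unique graded maximal ideal and n
= dim R; the canonical module K_R (the graded dual of H^n_m(R)) is represented by a finitely
generated graded module C together with a homogeneous isomorphism from Hom_R(C, E) onto H^n_m(R),
where E is a *injective envelope of R/m and H^n_m(R) is computed from a *injective resolution of R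
in the graded category; by graded Matlis duality this says exactly that C ≅ K_R as graded modules.
The a-invariant a(R) is the largest degree in which the graded local cohomology H^n_m(R) (n = dim R,
m = R_+), computed from a *injective resolution of R in the graded category, is nonzero. -/
theorem result (R : Type u) [CommRing R] [LocCoh.IsCohenMacaulayRing R] (𝒜 : ℤ → AddSubgroup R) [GradedRing 𝒜] (hpos : ∀ n : ℤ, n < 0 → 𝒜 n = ⊥) (h0 : IsField (GrLC.deg0 𝒜)) (m : HomogeneousIdeal 𝒜) (hm : GrLC.IsStarLocal 𝒜 m) (hmsp : m.toIdeal = Ideal.span (⋃ n ∈ Set.Ioi (0 : ℤ), (𝒜 n : Set R))) (hstd : Ideal.span (⋃ n ∈ Set.Ioi (0 : ℤ), (𝒜 n : Set R)) = Ideal.span ((𝒜 1 : AddSubgroup R) : Set R)) (n : ℕ) (hn : ringKrullDim R = n) (h2 : 2 ≤ n) (I : GrLC.StarInjRes 𝒜 𝒜) (a : ℤ) (ha : GrLC.endDeg (I.Hgr m n) = ((a : WithTop ℤ) : WithBot (WithTop ℤ))) (E' : Type u) [AddCommGroup E'] [Module R E'] (𝓔 : ℤ → AddSubgroup E') [DirectSum.Decomposition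 𝓔] [SetLike.GradedSMul 𝒜 𝓔] (e : (R ⧸ m.toIdeal) →ₗ[R] E') (he : GrLC.IsStarInjHull 𝒜 (GrLC.quotGr 𝒜 m) 𝓔 e) (C : Type u) [AddCommGroup C] [Module R C] (𝒞 : ℤ → AddSubgroup C) [DirectSum.Decomposition 𝒞] [SetLike.GradedSMul 𝒜 𝒞] (hC : GrLC.IsStarCanonical 𝒜 𝒞 𝓔 m n I) (j : ℤ) (hj : -a < j) : 2 ≤ Module.finrank (GrLC.deg0 𝒜) (GrLC.comp 𝒜 𝒞 j) := by
  classical
  letI := h0.toField
  obtain ⟨i, rfl⟩ : ∃ i, n = i + 1 := ⟨n - 1, by omega⟩
  obtain ⟨hfin, φ, hφ⟩ := hC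
  haveI : Module.Finite R C := hfin
  letI := (S13225.isInternal_Hgr I m (i + 1)).chooseDecomposition
  haveI hgs : SetLike.GradedSMul 𝒜 (I.Hgr m (i + 1)) := ⟨fun {p q} r c hr hc => by
    obtain ⟨z, hz, rfl⟩ := hc
    exact ⟨r • z, (I.X (i + 1)).gsmul.smul_mem hr hz, map_smul _ r z⟩⟩
  have hstd' : m.toIdeal = Ideal.span ((𝒜 1 : AddSubgroup R) : Set R) := hmsp.trans hstd
  obtain ⟨g, rfl⟩ : ∃ g, j = -g := ⟨-j, (neg_neg j).symm⟩
  have hH : ∀ t, t ≤ a → I.Hcomp m (i + 1) t ≠ ⊥ := fun t ht =>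
    S18656.result R 𝒜 hpos h0 m hm hmsp hstd (i + 1) hn (by omega) I a ha t ht
  -- the socle of the hull
  let ε₀ : E' := e (Ideal.Quotient.mk m.toIdeal 1)
  have hess : ∀ d, ∀ y ∈ 𝓔 d, y ≠ 0 → ∃ r ∈ 𝒜 (-d), ∃ c ∈ 𝒜 0, r • y = c • ε₀ ∧ r • y ≠ 0 := by
    intro d y hy hy0
    obtain ⟨z, ⟨hz, q, hq⟩, hz0⟩ := Submodule.exists_mem_ne_zero_of_ne_bot
      (he.essential _ (GrInj.hom_span_singleton 𝒜 hy) (by simpa [Submodule.span_singleton_eq_bot] using hy0))
    obtain ⟨s, rfl⟩ := Submodule.mem_span_singleton.1 hz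
    obtain ⟨b, rfl⟩ := Ideal.Quotient.mk_surjective q
    have hb : b - GrInj.pr 𝒜 0 b ∈ m.toIdeal := GrInj.mem_of_pr (ℳ := 𝒜) (P := m.toIdeal) fun t => by
      rw [map_sub]
      rcases eq_or_ne t 0 with rfl | ht
      · rw [GrInj.pr_of_mem (GrInj.pr_mem (ℳ := 𝒜) 0 b), sub_self]; exact zero_mem _
      · rw [GrInj.pr_of_ne (GrInj.pr_mem 0 b) ht.symm, sub_zero]
        exact GrInj.mem_a m hpos hmsp ht (GrInj.pr_mem t b)
    have hz1 : s • y = GrInj.pr 𝒜 0 b • ε₀ := by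
      rw [← hq, Ideal.Quotient.mk_eq_mk_iff_sub_mem _ _ |>.2 hb]
      show _ = GrInj.pr 𝒜 0 b • e (Ideal.Quotient.mk m.toIdeal 1)
      rw [← map_smul]
      exact congrArg (fun x => e (Ideal.Quotient.mk m.toIdeal x)) (mul_one _).symm
    have hpr : GrInj.pr 𝓔 0 (s • y) = GrInj.pr 𝒜 (-d) s • y := by
      rw [← GrInj.sum_supp (ℳ := 𝒜) s, Finset.sum_smul, map_sum, map_sum, Finset.sum_smul]
      refine Finset.sum_congr rfl fun t _ => ?_
      rcases eq_or_ne t (-d) with rfl | ht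
      · rw [GrInj.pr_of_mem (GrInj.pr_mem (ℳ := 𝒜) (-d) s), GrInj.pr_of_mem]
        have h := GrInj.smul_mem_gr (GrInj.pr_mem (ℳ := 𝒜) (-d) s) hy
        rwa [neg_add_cancel] at h
      · rw [GrInj.pr_of_ne (GrInj.pr_mem t s) ht, zero_smul,
          GrInj.pr_of_ne (GrInj.smul_mem_gr (GrInj.pr_mem (ℳ := 𝒜) t s) hy) (by omega)]
    have hmem : s • y ∈ 𝓔 0 := by
      rw [hz1]
      have h := GrInj.smul_mem_gr (GrInj.pr_mem (ℳ := 𝒜) 0 b) (he.grHom 0 _ ⟨1, SetLike.one_mem_graded 𝒜, rfl⟩)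
      rwa [add_zero] at h
    rw [GrInj.pr_of_mem hmem] at hpr
    exact ⟨_, GrInj.pr_mem _ s, _, GrInj.pr_mem 0 b, hpr.symm.trans hz1, by rwa [← hpr]⟩
  have hzero : ∀ y ∈ 𝓔 0, ∃ c : GrLC.deg0 𝒜, y = (c : R) • ε₀ := by
    intro y hy
    by_cases hy0 : y = 0
    · exact ⟨0, hy0.trans (zero_smul R ε₀).symm⟩
    obtain ⟨r, hr, c, hc, hrc, hr0⟩ := hess 0 y hy hy0
    rw [neg_zero] at hr
    have hne : (⟨r, hr⟩ : GrLC.deg0 𝒜) ≠ 0 := fun h => hr0 (by rw [show r = 0 from congrArg Subtype.val h, zero_smul])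
    obtain ⟨t, ht⟩ := h0.mul_inv_cancel hne
    refine ⟨t * ⟨c, hc⟩, ?_⟩
    show y = ((t : R) * c) • ε₀
    rw [mul_smul, ← hrc, smul_smul, mul_comm, show r * (t : R) = 1 from congrArg Subtype.val ht, one_smul]
  -- assume the piece has dimension at most one
  by_contra hlt
  haveI := GrInj.isNoetherian_piece 𝒜 (M := C) (ℳ := 𝒞) (-g)
  haveI : Module.Finite (GrLC.deg0 𝒜) (GrLC.comp 𝒜 𝒞 (-g)) := Module.IsNoetherian.finite _ _
  obtain ⟨u, hu⟩ := finrank_le_one_iff.1 (show Module.finrank (GrLC.deg0 𝒜) (GrLC.comp 𝒜 𝒞 (-g)) ≤ 1 by omega)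
  -- a map of degree `g` is determined by its value on `u`
  have hdet : ∀ lam : C →ₗ[R] E', lam ∈ GrLC.homDeg 𝒜 𝒞 𝓔 g → lam u = 0 → lam = 0 := by
    intro lam hlam hlu
    refine GrInj.hom_ext (ℳ := 𝒞) fun d x hx => ?_
    rw [LinearMap.zero_apply]
    by_contra hne
    obtain ⟨r, hr, -, -, -, hr0⟩ := hess _ _ (hlam d x hx) hne
    have hrx := GrInj.smul_mem_gr hr hx
    rw [show -(d + g) + d = -g by omega] at hrx
    obtain ⟨c, hc⟩ := hu ⟨r • x, hrx⟩
    apply hr0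
    rw [← map_smul, show r • x = (c : R) • (u : C) from (congrArg Subtype.val hc).symm, map_smul, hlu, smul_zero]
  -- every class of degree `g` comes from a map of degree `g`
  have hsurj : ∀ c ∈ I.Hgr m (i + 1) g, ∃ lam ∈ GrLC.homDeg 𝒜 𝒞 𝓔 g, φ lam = c := by
    intro c hc
    obtain ⟨D, hD⟩ := GrInj.exists_sum_homComp 𝒜 (ℳ := 𝒞) (𝒩 := 𝓔) (φ.symm c)
    have hcomp : ∀ d, GrInj.homComp 𝒜 (ℳ := 𝒞) (𝒩 := 𝓔) (φ.symm c) d ∈ GrLC.homDeg 𝒜 𝒞 𝓔 d := fun d x y hy => by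
      rw [GrInj.homComp_of_mem _ _ hy]
      exact GrInj.pr_mem _ _
    have h1 : c = ∑ d ∈ D, GrInj.pr (I.Hgr m (i + 1)) g (φ (GrInj.homComp 𝒜 (ℳ := 𝒞) (𝒩 := 𝓔) (φ.symm c) d)) := by
      rw [← map_sum (GrInj.pr (I.Hgr m (i + 1)) g),
        show (∑ d ∈ D, φ (GrInj.homComp 𝒜 (ℳ := 𝒞) (𝒩 := 𝓔) (φ.symm c) d)) =
          φ (∑ d ∈ D, GrInj.homComp 𝒜 (ℳ := 𝒞) (𝒩 := 𝓔) (φ.symm c) d) from (map_sum φ.toLinearMap _ D).symm,
        hD, φ.apply_symm_apply, GrInj.pr_of_mem hc]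
    by_cases hgD : g ∈ D
    · refine ⟨_, hcomp g, ?_⟩
      rw [Finset.sum_eq_single g (fun d _ hd => GrInj.pr_of_ne (show φ _ ∈ I.Hgr m (i + 1) d from hφ d _ (hcomp d)) hd) (fun h => absurd hgD h)] at h1
      exact (h1.trans (GrInj.pr_of_mem (show φ _ ∈ I.Hgr m (i + 1) g from hφ g _ (hcomp g)))).symm
    · refine ⟨0, zero_mem _, ?_⟩
      rw [map_zero, h1, Finset.sum_eq_zero fun d hd => ?_]
      exact GrInj.pr_of_ne (hφ d _ (hcomp d)) fun h => hgD (h ▸ hd)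
  have hval : ∀ lam ∈ GrLC.homDeg 𝒜 𝒞 𝓔 g, ∃ c : GrLC.deg0 𝒜, lam u = (c : R) • ε₀ := fun lam hlam => by
    refine hzero _ ?_
    have h := hlam _ (u : C) u.2
    rwa [neg_add_cancel] at h
  obtain ⟨c0, hc0, hc00⟩ := Submodule.exists_mem_ne_zero_of_ne_bot (hH g (by omega))
  obtain ⟨lam0, hlam0, hφ0⟩ := hsurj c0 hc0
  obtain ⟨κ0, hκ0⟩ := hval lam0 hlam0
  have hκne : κ0 ≠ 0 := fun h => hc00 (by
    rw [← hφ0, hdet lam0 hlam0 (by rw [hκ0, h]; exact zero_smul R ε₀), map_zero])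
  have hspan : ∀ c ∈ I.Hgr m (i + 1) g, ∃ r : GrLC.deg0 𝒜, c = (r : R) • c0 := by
    intro c hc
    obtain ⟨lam, hlam, rfl⟩ := hsurj c hc
    obtain ⟨κ, hκ⟩ := hval lam hlam
    obtain ⟨t, ht⟩ := h0.mul_inv_cancel hκne
    refine ⟨κ * t, ?_⟩
    have h1 : lam - (κ * t) • lam0 = 0 := hdet _ (sub_mem hlam ((GrLC.homDeg 𝒜 𝒞 𝓔 g).smul_mem _ hlam0)) (by
      rw [LinearMap.sub_apply, LinearMap.smul_apply, hκ, hκ0]
      show _ - ((κ : R) * t) • ((κ0 : R) • ε₀) = 0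
      rw [smul_smul, mul_assoc, mul_comm (t : R), show (κ0 : R) * t = 1 from congrArg Subtype.val ht, mul_one, sub_self])
    rw [sub_eq_zero.1 h1, ← hφ0]
    exact map_smul φ ((κ * t : GrLC.deg0 𝒜) : R) lam0
  obtain ⟨h1', hh1, hh10⟩ := Submodule.exists_mem_ne_zero_of_ne_bot (hH (g + 1) (by omega))
  obtain ⟨ψ, hψ⟩ := Submodule.exists_dual_map_eq_bot_of_notMem
    (p := (⊥ : Submodule (GrLC.deg0 𝒜) (I.H m (i + 1)))) (x := h1') (by simpa using hh10) inferInstance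
  let T : GrLC.comp 𝒜 𝒜 1 →ₗ[GrLC.deg0 𝒜] GrLC.deg0 𝒜 :=
    { toFun := fun l => ψ ((l : R) • c0)
      map_add' := fun p q => by
        show ψ (((p : R) + q) • c0) = _
        rw [add_smul, map_add]
      map_smul' := fun r p => by
        show ψ (((r : R) * p) • c0) = r • ψ ((p : R) • c0)
        rw [← map_smul, mul_smul]; rfl }
  obtain ⟨x1, hx1⟩ : ∃ x1 : GrLC.comp 𝒜 𝒜 1, ∀ l : GrLC.comp 𝒜 𝒜 1, ∃ c : GrLC.deg0 𝒜, T (l - c • x1) = 0 := by
    by_cases hT : ∀ l, T l = 0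
    · exact ⟨0, fun l => ⟨0, hT _⟩⟩
    push Not at hT
    obtain ⟨x, hx⟩ := hT
    exact ⟨x, fun l => ⟨T l / T x, by rw [map_sub, map_smul, smul_eq_mul, div_mul_cancel₀ _ hx, sub_self]⟩⟩
  haveI := GrInj.isNoetherian_piece 𝒜 (M := R) (ℳ := 𝒜) 1
  obtain ⟨N, s, hs⟩ := Submodule.fg_iff_exists_fin_generating_family.1 (IsNoetherian.noetherian (LinearMap.ker T))
  let f : Fin N → R := fun t => (s t : R)
  let J : Ideal R := Ideal.span (Set.range f)
  have hJ : ∀ l : GrLC.comp 𝒜 𝒜 1, T l = 0 → (l : R) ∈ J := fun l hl => by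
    have h : l ∈ Submodule.span (GrLC.deg0 𝒜) (Set.range s) := hs.symm ▸ hl
    induction h using Submodule.span_induction with
    | mem x hx => obtain ⟨t, rfl⟩ := hx; exact Ideal.subset_span ⟨t, rfl⟩
    | zero => exact zero_mem _
    | add p q _ _ hp hq => exact add_mem (hp (by simp_all)) (hq (by simp_all))
    | smul r p _ hp => exact J.mul_mem_left (r : R) (hp (by simp_all))
  have hdimJ : ringKrullDim (R ⧸ J) ≤ 1 := by
    let Φ : Polynomial (GrLC.deg0 𝒜) →+* R ⧸ J :=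
      Polynomial.eval₂RingHom ((Ideal.Quotient.mk J).comp (GrLC.deg0 𝒜).subtype) (Ideal.Quotient.mk J (x1 : R))
    have hpiece : ∀ t : ℕ, ∀ y ∈ 𝒜 (t : ℤ), Ideal.Quotient.mk J y ∈ Φ.range := by
      intro t
      induction t with
      | zero => intro y hy; exact ⟨Polynomial.C ⟨y, hy⟩, by simp [Φ]⟩
      | succ t ih =>
        intro y hy
        have hym : y ∈ Ideal.span ((𝒜 1 : AddSubgroup R) : Set R) := hstd' ▸ GrInj.mem_a m hpos hmsp (by omega) hy
        have hb : ∀ p ∈ Ideal.span ((𝒜 1 : AddSubgroup R) : Set R), ∀ b : R,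
            Ideal.Quotient.mk J (GrInj.pr 𝒜 ((t + 1 : ℕ) : ℤ) (b • p)) ∈ Φ.range := by
          intro p hp
          induction hp using Submodule.span_induction with
          | mem l hl =>
            intro b
            rw [smul_eq_mul, mul_comm, ← smul_eq_mul, GrInj.pr_smul' (show l ∈ 𝒜 1 from hl), smul_eq_mul, map_mul]
            refine mul_mem ?_ ?_
            · obtain ⟨d, hd⟩ := hx1 ⟨l, hl⟩
              rw [Ideal.Quotient.mk_eq_mk_iff_sub_mem _ _ |>.2 (hJ _ hd : l - (d : R) * (x1 : R) ∈ J)]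
              exact ⟨Polynomial.C d * Polynomial.X, by simp [Φ]; exact (map_mul _ _ _).symm⟩
            · rw [show ((t + 1 : ℕ) : ℤ) - 1 = (t : ℤ) by omega]
              exact ih _ (GrInj.pr_mem _ b)
          | zero => intro b; rw [smul_zero, map_zero, map_zero]; exact zero_mem _
          | add p q _ _ hp hq => intro b; rw [smul_add, map_add, map_add]; exact add_mem (hp b) (hq b)
          | smul r p _ hp => intro b; rw [smul_smul]; exact hp _
        have := hb y hym 1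
        rwa [one_smul, GrInj.pr_of_mem hy] at this
    have hΦ : Function.Surjective Φ := fun y => by
      obtain ⟨y, rfl⟩ := Ideal.Quotient.mk_surjective y
      show Ideal.Quotient.mk J y ∈ Φ.range
      rw [← GrInj.sum_supp (ℳ := 𝒜) y, map_sum]
      refine sum_mem fun d _ => ?_
      rcases lt_or_ge d 0 with hd | hd
      · rw [AddSubgroup.mem_bot.1 ((hpos d hd).le (GrInj.pr_mem (ℳ := 𝒜) d y)), map_zero]; exact zero_mem _
      · obtain ⟨t, rfl⟩ := Int.eq_ofNat_of_zero_le hd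
        exact hpiece t _ (GrInj.pr_mem _ y)
    refine (ringKrullDim_le_of_surjective Φ hΦ).trans ?_
    rw [Polynomial.ringKrullDim_of_isNoetherianRing, ringKrullDim_eq_zero_of_field]
    rfl
  have hJlt : ringKrullDim (R ⧸ J) < ((i + 1 : ℕ) : WithBot ℕ∞) :=
    hdimJ.trans_lt (by exact_mod_cast (show 1 < i + 1 by omega))
  have hkill : ∀ c ∈ J • (⊤ : Submodule R (I.H m (i + 1))), ψ (GrInj.pr (I.Hgr m (i + 1)) (g + 1) c) = 0 := by
    intro c hc
    refine Submodule.smul_induction_on (p := fun z => ψ (GrInj.pr (I.Hgr m (i + 1)) (g + 1) z) = 0) hc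
      (fun r hr z _ => ?_) (fun p q hp hq => by rw [map_add, map_add, hp, hq, add_zero])
    induction hr using Submodule.span_induction generalizing z with
    | mem r hr =>
      obtain ⟨t, rfl⟩ := hr
      show ψ (GrInj.pr (I.Hgr m (i + 1)) (g + 1) ((s t : R) • z)) = 0
      rw [GrInj.pr_smul' (show (s t : R) ∈ 𝒜 1 from (s t).2), add_sub_cancel_right]
      obtain ⟨d, hd⟩ := hspan _ (GrInj.pr_mem g z)
      rw [hd, smul_comm]
      have hT : T (s t) = 0 := by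
        have : s t ∈ LinearMap.ker T := hs ▸ Submodule.subset_span ⟨t, rfl⟩
        exact this
      show ψ (d • ((s t : R) • c0)) = 0
      rw [map_smul, show ψ ((s t : R) • c0) = 0 from hT, smul_zero]
    | zero => rw [zero_smul, map_zero, map_zero]
    | add p q _ _ hp hq => rw [add_smul, map_add, map_add, hp z trivial, hq z trivial, add_zero]
    | smul b p _ hp => rw [smul_eq_mul, mul_comm, mul_smul]; exact hp (b • z) trivial
  have := hkill h1' (GrInj.span_smul_top_H m hn f hJlt I h1')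
  rw [GrInj.pr_of_mem (show h1' ∈ I.Hgr m (i + 1) (g + 1) from hh1)] at this
  exact hψ.1 this

end Groth.Agent.S18657
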