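import Groth.Statements.S18658
import Mathlib
import Groth.Agent.GrInj.CanPairing
import Groth.Agent.GrInj.VeroH
-- import your own Groth.Agent.* helpers here

set_option autoImplicit false
universe u
open GrLC

namespace Groth.Agent.S18658

/-- Let R be a graded ring defined over a field, q ≥ 1, and R' = R^(q) its Veronese subring. Then K_{R'}
= (K_R)^(q): the canonical module of R' is the Veronese submodule ⊕_j (K_R)_{jq} of the canonical
module of R. Stated here as: for canonical modules C of R and C' of R' there is an injective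
additive map g : C' → C, semilinear over the inclusion φ : R' → R, carrying C'_j onto C_{jq} for
every j. Here 'graded ring defined over a field' means R = ⊕_{n ≥ 0} R_n is Noetherian with R_0 a
field, and m = R_+ is its unique graded maximal ideal. Both R and R' have dimension n = dim R; the
canonical module of each is represented by a finitely generated graded module together with a
homogeneous isomorphism from its Hom into a *injective envelope of the residue field onto the top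
graded local cohomology H^n of the ring with support in its irrelevant ideal, computed from a
*injective resolution in the graded category (by graded Matlis duality this pins the module up to
graded isomorphism). The Veronese subring R^(q) = ⊕_j R_{jq}, regraded by (R^(q))_j = R_{jq}, is
presented abstractly as a ℤ-graded ring R' with an injective ring homomorphism φ : R' → R carrying
R'_j onto R_{jq} for every j. -/
theorem result (R : Type u) [CommRing R] [IsNoetherianRing R] (𝒜 : ℤ → AddSubgroup R) [GradedRing 𝒜] (hpos : ∀ n : ℤ, n < 0 → 𝒜 n = ⊥) (h0 : IsField (GrLC.deg0 𝒜)) (m : HomogeneousIdeal 𝒜) (hm : GrLC.IsStarLocal 𝒜 m) (hmsp : m.toIdeal = Ideal.span (⋃ n ∈ Set.Ioi (0 : ℤ), (𝒜 n : Set R))) (n : ℕ) (hn : ringKrullDim R = n) (I : GrLC.StarInjRes 𝒜 𝒜) (E' : Type u) [AddCommGroup E'] [Module R E'] (𝓔 : ℤ → AddSubgroup E') [DirectSum.Decomposition 𝓔] [SetLike.GradedSMul 𝒜 𝓔] (e : (R ⧸ m.toIdeal) →ₗ[R] E') (he : GrLC.IsStarInjHull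 𝒜 (GrLC.quotGr 𝒜 m) 𝓔 e) (C : Type u) [AddCommGroup C] [Module R C] (𝒞 : ℤ → AddSubgroup C) [DirectSum.Decomposition 𝒞] [SetLike.GradedSMul 𝒜 𝒞] (hC : GrLC.IsStarCanonical 𝒜 𝒞 𝓔 m n I) (q : ℕ) (hq : 0 < q) (R' : Type u) [CommRing R'] (𝒜' : ℤ → AddSubgroup R') [GradedRing 𝒜'] (φ : R' →+* R) (hφ : Function.Injective φ) (hdeg : ∀ j : ℤ, (𝒜' j).map (φ : R' →+ R) = 𝒜 (j * q)) (m' : HomogeneousIdeal 𝒜') (hm' : GrLC.IsStarLocal 𝒜' m') (hm'sp : m'.toIdeal = Ideal.span (⋃ j ∈ Set.Ioi (0 : ℤ), (𝒜' j : Set R'))) (I' : GrLC.StarInjRes 𝒜' 𝒜') (E'' : Type u) [AddCommGroup E''] [Module R' E''] (𝓔'' : ℤ → AddSubgroup E'') [DirectSum.Decomposition 𝓔''] [SetLike.GradedSMul 𝒜' 𝓔''] (e' : (R' ⧸ m'.toIdeal) →ₗ[R'] E'') (he' : GrLC.IsStarInjHull 𝒜' (GrLC.quotGr 𝒜' m') 𝓔'' e') (C' : Type u) [AddCommGroup C'] [Module R' C'] (𝒞' : ℤ → AddSubgroup C') [DirectSum.Decomposition 𝒞'] [SetLike.GradedSMul 𝒜' 𝒞'] (hC' : GrLC.IsStarCanonical 𝒜' 𝒞' 𝓔'' m' n I')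 : ∃ g : C' →ₛₗ[φ] C, Function.Injective g ∧ ∀ j : ℤ, (𝒞' j).map (g : C' →+ C) = 𝒞 (j * q) := by
  classical
  letI : Algebra R' R := φ.toAlgebra
  have h : GrInj.IsVero 𝒜' q 𝒜 := hdeg
  haveI : IsNoetherianRing R' := GrInj.isNoetherianRing_vero h hq hφ
  have hpos' := GrInj.vero_pos h hq hφ hpos
  have h0' := GrInj.vero_field h hφ h0
  obtain ⟨φ₀, hφ₀⟩ := GrInj.exists_deg0Equiv h hφ
  obtain ⟨Ξ, hΞi, hΞs, hΞg, hΞg'⟩ :=
    GrInj.exists_veroH h hq hφ (GrInj.vero_radical h hq hmsp hm'sp) I I' n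
  obtain ⟨hCf, φC, hφC⟩ := hC
  obtain ⟨hCf', φC', hφC'⟩ := hC'
  letI := (S13225.isInternal_Hgr I m n).chooseDecomposition
  letI := (S13225.isInternal_Hgr I' m' n).chooseDecomposition
  haveI : SetLike.GradedSMul 𝒜 (I.Hgr m n) := GrInj.gsmul_mk fun a b r hr x hx => GrInj.smul_mem_Hcomp I hr hx
  haveI : SetLike.GradedSMul 𝒜' (I'.Hgr m' n) :=
    GrInj.gsmul_mk fun a b r hr x hx => GrInj.smul_mem_Hcomp I' hr hx
  let e₁ : E' := e (Ideal.Quotient.mk m.toIdeal 1)
  let e₁' : E'' := e' (Ideal.Quotient.mk m'.toIdeal 1)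
  have huniq := fun (a b : GrLC.deg0 𝒜) => GrInj.coeff_unique hpos h0 hmsp he.toIsStarEss (c := a) (c' := b)
  have huniq' := fun (a b : GrLC.deg0 𝒜') => GrInj.coeff_unique hpos' h0' hm'sp he'.toIsStarEss (c := a) (c' := b)
  have hval' : ∀ (j : ℤ), ∀ x' ∈ 𝒞' j, ∀ h' ∈ I'.Hgr m' n (-j), φC'.symm h' x' ∈ 𝓔'' 0 := fun j x' hx' h' hh => by
    have := GrInj.symm_mem_homDeg φC' hφC' hh j x' hx'
    rwa [add_neg_cancel] at this
  -- the characterisation of the image
  let Spec : ℤ → C' → C → Prop := fun j x' x => x ∈ 𝒞 (j * q) ∧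
    ∀ h' ∈ I'.Hgr m' n (-j), ∀ c : GrLC.deg0 𝒜', φC'.symm h' x' = (c : R') • e₁' →
      φC.symm (Ξ h') x = φ (c : R') • e₁
  have hSu : ∀ j, ∀ x' ∈ 𝒞' j, ∀ x y, Spec j x' x → Spec j x' y → x = y := by
    intro j x' hx' x y hx hy
    rw [← sub_eq_zero]
    by_contra hne
    obtain ⟨f, hf, hfx⟩ := GrInj.exists_functional hpos h0 hmsp he (sub_mem hx.1 hy.1) hne
    obtain ⟨h', hh, hΞh⟩ := hΞg' (-j) (φC f) (by rw [neg_mul]; exact hφC _ f hf)
    obtain ⟨c, hc⟩ := GrInj.exists_coeff hpos' h0' hm'sp he'.toIsStarEss (hval' j x' hx' h' hh)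
    have h1 := hx.2 h' hh c hc
    have h2 := hy.2 h' hh c hc
    rw [hΞh, φC.symm_apply_apply] at h1 h2
    rw [map_sub, h1, h2, sub_self] at hfx
    have h3 : (1 : GrLC.deg0 𝒜) = 0 := huniq 1 0 (by
      rw [OneMemClass.coe_one, one_smul, ZeroMemClass.coe_zero, zero_smul]; exact hfx.symm)
    obtain ⟨a, b, hab⟩ := h0.exists_pair_ne
    exact hab (by rw [← one_mul a, ← one_mul b, h3, zero_mul, zero_mul])
  have hex : ∀ j, ∀ x' ∈ 𝒞' j, ∃ x, Spec j x' x := by
    intro j x' hx'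
    have hdegq : ∀ hh : GrLC.comp 𝒜 (I.Hgr m n) (-(j * q)), (hh : I.H m n) ∈ I.Hgr m n (-j * q) := fun hh => by
      rw [neg_mul]; exact hh.2
    choose pre hpre hpre' using fun hh : GrLC.comp 𝒜 (I.Hgr m n) (-(j * q)) => hΞg' (-j) _ (hdegq hh)
    choose c hc using fun hh => GrInj.exists_coeff hpos' h0' hm'sp he'.toIsStarEss (hval' j x' hx' _ (hpre hh))
    let u : GrLC.comp 𝒜 (I.Hgr m n) (-(j * q)) →ₗ[GrLC.deg0 𝒜] GrLC.deg0 𝒜 :=
      { toFun := fun hh => φ₀ (c hh)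
        map_add' := fun hh hh' => by
          rw [← map_add]
          refine congrArg φ₀ (huniq' _ _ ?_)
          rw [← hc, Subring.coe_add, add_smul, ← hc, ← hc,
            show pre (hh + hh') = pre hh + pre hh' from hΞi (by rw [hpre', map_add, hpre', hpre']; rfl),
            map_add, LinearMap.add_apply]
        map_smul' := fun a hh => by
          obtain ⟨b, rfl⟩ := φ₀.surjective a
          rw [RingHom.id_apply, smul_eq_mul, ← map_mul]
          refine congrArg φ₀ (huniq' _ _ ?_)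
          rw [← hc, Subring.coe_mul, mul_smul, ← hc,
            show pre (φ₀ b • hh) = (b : R') • pre hh from hΞi (by rw [hpre', hΞs, hpre', ← hφ₀]; rfl),
            map_smul, LinearMap.smul_apply] }
    obtain ⟨x, hx, -⟩ := GrInj.exists_rep hpos h0 hmsp he φC hφC (j * q) u
    refine ⟨x, x.2, fun h' hh b hb => ?_⟩
    have hmem : Ξ h' ∈ I.Hgr m n (-(j * q)) := by rw [← neg_mul]; exact hΞg _ _ hh
    refine (hx ⟨Ξ h', hmem⟩).trans ?_
    show ((φ₀ (c ⟨Ξ h', hmem⟩) : GrLC.deg0 𝒜) : R) • e₁ = _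
    rw [hφ₀]
    refine congrArg (fun r : R' => φ r • e₁) (congrArg Subtype.val (huniq' _ _ ?_))
    rw [← hc, show pre ⟨Ξ h', hmem⟩ = h' from hΞi (hpre' _)]
    exact hb
  choose G hG using fun j (x' : 𝒞' j) => hex j x' x'.2
  have hGadd : ∀ j (a b : 𝒞' j), G j (a + b) = G j a + G j b := fun j a b =>
    hSu j _ (a + b).2 _ _ (hG j (a + b)) ⟨add_mem (hG j a).1 (hG j b).1, fun h' hh c hc => by
      obtain ⟨ca, hca⟩ := GrInj.exists_coeff hpos' h0' hm'sp he'.toIsStarEss (hval' j _ a.2 h' hh)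
      obtain ⟨cb, hcb⟩ := GrInj.exists_coeff hpos' h0' hm'sp he'.toIsStarEss (hval' j _ b.2 h' hh)
      rw [map_add, (hG j a).2 h' hh ca hca, (hG j b).2 h' hh cb hcb, ← add_smul, ← map_add]
      refine congrArg (fun r : R' => φ r • e₁) (congrArg Subtype.val (huniq' (ca + cb) c ?_))
      rw [← hc, Subring.coe_add, add_smul, ← hca, ← hcb, AddSubgroup.coe_add, map_add]⟩
  let g₀ : C' →+ C := (DirectSum.toAddMonoid fun j => AddMonoidHom.mk' (G j) (hGadd j)).comp
    (DirectSum.decomposeAddEquiv 𝒞').toAddMonoidHom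
  have hg₀ : ∀ j (x' : 𝒞' j), g₀ x' = G j x' := fun j x' => by
    show DirectSum.toAddMonoid _ (DirectSum.decompose 𝒞' (x' : C')) = _
    rw [DirectSum.decompose_coe, DirectSum.toAddMonoid_of]
    rfl
  have hsmul : ∀ (r : R') (x : C'), g₀ (r • x) = φ r • g₀ x := by
    intro r x
    induction x using GrInj.induction 𝒞' with
    | h0 => rw [smul_zero, map_zero, smul_zero]
    | hh j x hx =>
      induction r using GrInj.induction 𝒜' with
      | h0 => rw [zero_smul, map_zero, map_zero, zero_smul]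
      | hh i r hr =>
        have hrx : r • x ∈ 𝒞' (i + j) := GrInj.smul_mem_gr hr hx
        rw [show g₀ (r • x) = G (i + j) ⟨r • x, hrx⟩ from hg₀ _ ⟨_, hrx⟩,
          show g₀ x = G j ⟨x, hx⟩ from hg₀ _ ⟨_, hx⟩]
        refine hSu (i + j) _ hrx _ _ (hG _ ⟨_, hrx⟩) ⟨?_, fun h' hh c hc => ?_⟩
        · have := GrInj.smul_mem_gr (ℳ := 𝒞) (h.map_mem hr) (hG j ⟨x, hx⟩).1
          rwa [← add_mul] at this
        · have hrh : r • h' ∈ I'.Hgr m' n (-j) := by
            have := GrInj.smul_mem_gr (ℳ := I'.Hgr m' n) hr hh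
            rwa [show i + -(i + j) = -j by ring] at this
          have h1 := (hG j ⟨x, hx⟩).2 (r • h') hrh c (by
            rw [map_smul, LinearMap.smul_apply, ← map_smul]; exact hc)
          rw [hΞs, map_smul, LinearMap.smul_apply] at h1
          rw [map_smul]
          exact h1
      | hadd a b ha hb => rw [add_smul, map_add, ha, hb, map_add, add_smul]
    | hadd a b ha hb => rw [smul_add, map_add, ha, hb, map_add, smul_add]
  let g : C' →ₛₗ[φ] C := { toFun := g₀, map_add' := map_add g₀, map_smul' := hsmul }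
  have hmem : ∀ j, ∀ x ∈ 𝒞' j, g₀ x ∈ 𝒞 (j * q) := fun j x hx => by
    rw [show g₀ x = G j ⟨x, hx⟩ from hg₀ _ ⟨_, hx⟩]; exact (hG j ⟨x, hx⟩).1
  have hker : ∀ j, ∀ x ∈ 𝒞' j, g₀ x = 0 → x = 0 := by
    intro j x hx hgx
    by_contra hx0
    obtain ⟨f, hf, hfx⟩ := GrInj.exists_functional hpos' h0' hm'sp he' hx hx0
    have h1 := (hG j ⟨x, hx⟩).2 (φC' f) (hφC' _ f hf) 1 (by
      rw [φC'.symm_apply_apply, hfx, OneMemClass.coe_one, one_smul])
    rw [← hg₀ _ ⟨x, hx⟩, hgx, map_zero, OneMemClass.coe_one, map_one, one_smul] at h1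
    have h3 : (1 : GrLC.deg0 𝒜) = 0 := huniq 1 0 (by
      rw [OneMemClass.coe_one, one_smul, ZeroMemClass.coe_zero, zero_smul]; exact h1.symm)
    obtain ⟨a, b, hab⟩ := h0.exists_pair_ne
    exact hab (by rw [← one_mul a, ← one_mul b, h3, zero_mul, zero_mul])
  refine ⟨g, (injective_iff_map_eq_zero g₀).2 fun x hx => ?_, fun j => le_antisymm ?_ fun y hy => ?_⟩
  · refine GrInj.eq_zero_of_pr (ℳ := 𝒞') fun j => hker j _ (GrInj.pr_mem j x) ?_
    have hq0 : (q : ℤ) ≠ 0 := by exact_mod_cast hq.ne'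
    have h1 := congrArg (GrInj.pr 𝒞 (j * q)) hx
    rw [map_zero, ← GrInj.sum_supp (ℳ := 𝒞') x, map_sum, map_sum] at h1
    rw [Finset.sum_eq_single j (fun i _ hi => GrInj.pr_of_ne (hmem i _ (GrInj.pr_mem i x))
      (fun hij => hi (mul_right_cancel₀ hq0 hij))) (fun hns => by
        rw [GrInj.pr_eq_zero hns, map_zero, map_zero]),
      GrInj.pr_of_mem (hmem j _ (GrInj.pr_mem j x))] at h1
    exact h1
  · rintro _ ⟨x, hx, rfl⟩
    exact hmem j x hx
  · -- every element of degree `j * q` is reached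
    have hdeg : ∀ hh : GrLC.comp 𝒜' (I'.Hgr m' n) (-j), Ξ (hh : I'.H m' n) ∈ I.Hgr m n (-(j * q)) :=
      fun hh => by rw [← neg_mul]; exact hΞg _ _ hh.2
    choose c hc using fun hh : GrLC.comp 𝒜' (I'.Hgr m' n) (-j) => GrInj.exists_coeff hpos h0 hmsp
      he.toIsStarEss (y := φC.symm (Ξ (hh : I'.H m' n)) y) (by
        have := GrInj.symm_mem_homDeg φC hφC (hdeg hh) (j * q) y hy
        rwa [add_neg_cancel] at this)
    let u : GrLC.comp 𝒜' (I'.Hgr m' n) (-j) →ₗ[GrLC.deg0 𝒜'] GrLC.deg0 𝒜' :=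
      { toFun := fun hh => φ₀.symm (c hh)
        map_add' := fun hh hh' => by
          rw [← map_add]
          refine congrArg φ₀.symm (huniq _ _ ?_)
          rw [← hc, Subring.coe_add, add_smul, ← hc, ← hc, Submodule.coe_add, map_add, map_add,
            LinearMap.add_apply]
        map_smul' := fun a hh => by
          rw [RingHom.id_apply, smul_eq_mul]
          refine φ₀.injective ?_
          rw [map_mul, φ₀.apply_symm_apply, φ₀.apply_symm_apply]
          refine huniq _ _ ?_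
          rw [← hc, Subring.coe_mul, mul_smul, ← hc, show ((a • hh : GrLC.comp 𝒜' (I'.Hgr m' n) (-j)) :
            I'.H m' n) = (a : R') • (hh : I'.H m' n) from rfl, hΞs, map_smul, LinearMap.smul_apply, hφ₀] }
    obtain ⟨x, hx, -⟩ := GrInj.exists_rep hpos' h0' hm'sp he' φC' hφC' j u
    refine ⟨x, x.2, ?_⟩
    show g₀ (x : C') = y
    rw [show g₀ (x : C') = G j ⟨x.1, x.2⟩ from hg₀ _ ⟨_, x.2⟩]
    refine hSu j _ x.2 _ _ (hG j ⟨x.1, x.2⟩) ⟨hy, fun h' hh b hb => ?_⟩
    have hb' : u ⟨h', hh⟩ = b := huniq' _ _ ((hx ⟨h', hh⟩).symm.trans hb)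
    rw [← hb']
    refine (hc ⟨h', hh⟩).trans ?_
    show _ = φ ((φ₀.symm (c ⟨h', hh⟩) : GrLC.deg0 𝒜') : R') • e₁
    rw [show φ ((φ₀.symm (c ⟨h', hh⟩) : GrLC.deg0 𝒜') : R') = (c ⟨h', hh⟩ : R) from by
      have := hφ₀ (φ₀.symm (c ⟨h', hh⟩)); rw [φ₀.apply_symm_apply] at this; exact this.symm]

end Groth.Agent.S18658
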