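import Groth.Statements.S18662
import Mathlib
import Groth.Agent.GrInj.Serre
-- import your own Groth.Agent.* helpers here

set_option autoImplicit false
universe u
open GrLC

namespace Groth.Agent.S18662

/-- Let R be a graded ring defined over a field, m = R_+, and M a graded R-module satisfying condition
(**): there is a homogeneous f ∈ R_d with d > 0 such that multiplication by f on M is bijective.
Then H^q_m(M) = 0 for every integer q (graded local cohomology, computed from any *injective
resolution of M in the graded category). Here 'graded ring defined over a field' means R = ⊕_{n ≥ 0}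
R_n is Noetherian with R_0 a field, and m = R_+ is its unique graded maximal ideal. -/
theorem result (R : Type u) [CommRing R] [IsNoetherianRing R] (𝒜 : ℤ → AddSubgroup R) [GradedRing 𝒜] (hpos : ∀ n : ℤ, n < 0 → 𝒜 n = ⊥) (h0 : IsField (GrLC.deg0 𝒜)) (m : HomogeneousIdeal 𝒜) (hm : GrLC.IsStarLocal 𝒜 m) (hmsp : m.toIdeal = Ideal.span (⋃ n ∈ Set.Ioi (0 : ℤ), (𝒜 n : Set R))) (M : Type u) [AddCommGroup M] [Module R M] (ℳ : ℤ → AddSubgroup M) [DirectSum.Decomposition ℳ] [SetLike.GradedSMul 𝒜 ℳ] (d : ℤ) (hd : 0 < d) (f : R) (hf : f ∈ 𝒜 d) (hbij : Function.Bijective (fun x : M => f • x)) (E : GrLC.StarInjRes 𝒜 ℳ) (q : ℕ) : Subsingleton (E.H m q) := by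
  let σ : M ≃ₗ[R] M := LinearEquiv.ofBijective (LinearMap.lsmul R M f) hbij
  have hf' : IsGrHom (GrInj.shGr ℳ d) ℳ (LinearMap.lsmul R M f) := GrInj.grHom_lsmul hf
  have hg : IsGrHom ℳ (GrInj.shGr ℳ d) σ.symm.toLinearMap := fun g x hx =>
    GrInj.inverse_grHom hf' hbij.1 (show f • σ.symm x ∈ ℳ g by
      rw [show f • σ.symm x = σ (σ.symm x) from rfl, σ.apply_symm_apply]; exact hx)
  have hid : IsGrHom (GrInj.shGr ℳ d) (GrInj.shGr ℳ d) (σ.symm.toLinearMap ∘ₗ LinearMap.lsmul R M f) :=
    fun g x hx => hg g _ (hf' g x hx)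
  have hinj : ∀ c : E.H m q, f • c = 0 → c = 0 := by
    intro c hc
    have hid' : IsGrHom (GrInj.shGr ℳ d) (GrInj.shGr ℳ d) (LinearMap.id : M →ₗ[R] M) := fun _ _ h => h
    have key := LinearMap.congr_fun (GrInj.ind_comp (E := GrInj.shiftRes E d) (F := E) (G := GrInj.shiftRes E d)
      m hf' hg hid q) c
    have heq : σ.symm.toLinearMap ∘ₗ LinearMap.lsmul R M f = LinearMap.id :=
      LinearMap.ext fun x => σ.symm_apply_apply x
    have h1 : GrInj.ind (GrInj.shiftRes E d) (GrInj.shiftRes E d) m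
        (σ.symm.toLinearMap ∘ₗ LinearMap.lsmul R M f) hid q c = c := by
      revert hid
      rw [heq]
      intro hid key
      rw [GrInj.ind_id m hid q]; rfl
    have h2 : GrInj.ind (GrInj.shiftRes E d) E m (LinearMap.lsmul R M f) hf' q c = 0 :=
      (GrInj.ind_lsmul m hf q c).trans hc
    exact h1.symm.trans (key.trans ((congrArg _ h2).trans (map_zero _)))
  refine ⟨fun c c' => ?_⟩
  suffices h : ∀ c : E.H m q, c = 0 from (h c).trans (h c').symm
  intro c
  obtain ⟨z, rfl⟩ := Submodule.mkQ_surjective _ c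
  obtain ⟨k, hk⟩ := z.2.1
  have hfm : f ∈ m.toIdeal := hmsp ▸ Ideal.subset_span (Set.mem_biUnion (Set.mem_Ioi.2 hd) hf)
  have h0 : f ^ k • z = 0 := Subtype.ext (hk _ (Ideal.pow_mem_pow hfm k))
  have hall : ∀ (k : ℕ) (c : E.H m q), f ^ k • c = 0 → c = 0 := by
    intro k
    induction k with
    | zero => intro c h; rwa [pow_zero, one_smul] at h
    | succ k ih => intro c h; exact ih c (hinj _ (by rw [smul_smul, ← pow_succ']; exact h))
  exact hall k _ (by rw [← map_smul, h0, map_zero])

end Groth.Agent.S18662
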