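import Groth.Statements.S18663
import Groth.Agent.SegreOne.Converse
import Groth.Agent.SegreOne.Hcomp


set_option autoImplicit false
universe u
open scoped TensorProduct
open GrSegre

namespace Groth.Agent.S18663

/-- Let R and S be graded rings defined over a field k which are Cohen–Macaulay, with dim R = 1 and dim
S = s ≥ 1, and let T = R # S be their Segre product. (iii) If s ≥ 2, then T is a Cohen–Macaulay ring
if and only if H^1_{R_+}(R) # S = 0, that is, for every degree n, H^1_{R_+}(R)_n = 0 or S_n = 0.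
(iv) If s = 1, then T is a Cohen–Macaulay ring. Here a graded ring defined over k is a commutative
k-algebra of finite type, graded in nonnegative degrees by k-subspaces with degree-zero part k·1;
the graded local cohomology pieces are computed from a *injective resolution of R in the graded
category; the Segre product T = ⊕_n R_n ⊗_k S_n is presented abstractly as a graded k-algebra T with
an injective k-algebra homomorphism ψ : T → R ⊗_k S carrying T_n onto the k-span of the elementary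
tensors a ⊗ b with a ∈ R_n, b ∈ S_n. -/
theorem result (k : Type u) [Field k] (R : Type u) [CommRing R] [Algebra k R] (𝒜 : ℤ → Submodule k R) [GradedAlgebra 𝒜] (hposR : ∀ n : ℤ, n < 0 → 𝒜 n = ⊥) (h0R : 𝒜 0 = Submodule.span k {(1 : R)}) [Algebra.FiniteType k R] (S : Type u) [CommRing S] [Algebra k S] (ℬ : ℤ → Submodule k S) [GradedAlgebra ℬ] (hposS : ∀ n : ℤ, n < 0 → ℬ n = ⊥) (h0S : ℬ 0 = Submodule.span k {(1 : S)}) [Algebra.FiniteType k S] (T : Type u) [CommRing T] [Algebra k T] (𝒯 : ℤ → Submodule k T) [GradedAlgebra 𝒯] (ψ : T →ₐ[k] TensorProduct k R S) (hψ : Function.Injective ψ) (hdegT : ∀ n : ℤ, (𝒯 n).map ψ.toLinearMap = Submodule.span k {x : TensorProduct k R S | ∃ a ∈ 𝒜 n, ∃ b ∈ ℬ n, x = a ⊗ₜ[k] b}) [LocCoh.IsCohenMacaulayRing R] [LocCoh.IsCohenMacaulayRing S] (mR : HomogeneousIdeal 𝒜) (hmR : mR.toIdeal = Ideal.span (⋃ n ∈ Set.Ioi (0 : ℤ), (𝒜 n : Set R))) (I : GrLC.StarInjRes 𝒜 𝒜) (hr : ringKrullDim R = 1) (s : ℕ) (hs : ringKrullDim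 S = s) (h1s : 1 ≤ s) : (2 ≤ s → (LocCoh.IsCohenMacaulayRing T ↔ ∀ n : ℤ, I.Hcomp mR 1 n = ⊥ ∨ ℬ n = ⊥)) ∧ (s = 1 → LocCoh.IsCohenMacaulayRing T) := by
  classical
  have hA : SegreDim.IsStd 𝒜 := ⟨hposR, h0R⟩
  have hB : SegreDim.IsStd ℬ := ⟨hposS, h0S⟩
  have : IsNoetherianRing R := Algebra.FiniteType.isNoetherianRing k R
  have : IsNoetherianRing S := Algebra.FiniteType.isNoetherianRing k S
  have : Nontrivial R := by
    by_contra h
    rw [not_nontrivial_iff_subsingleton] at h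
    rw [ringKrullDim_eq_bot_of_subsingleton] at hr; simp at hr
  have : Nontrivial S := by
    by_contra h
    rw [not_nontrivial_iff_subsingleton] at h
    rw [ringKrullDim_eq_bot_of_subsingleton] at hs; simp at hs
  obtain ⟨eR, f, heR, hf, hfz⟩ := SegreOne.exists_regular hA hr.ge
  obtain ⟨eS, g, heS, hg, hgz⟩ := SegreOne.exists_regular hB (by rw [hs]; exact_mod_cast h1s)
  obtain ⟨D₀, hD₀, hnorm⟩ := SegreDim.exists_normalization hB hs
  obtain ⟨aR, rfl⟩ : ∃ a : ℕ, eR = (a : ℤ) := ⟨eR.toNat, by omega⟩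
  obtain ⟨aS, rfl⟩ : ∃ a : ℕ, eS = (a : ℤ) := ⟨eS.toNat, by omega⟩
  obtain ⟨d₀, rfl⟩ : ∃ a : ℕ, D₀ = (a : ℤ) := ⟨D₀.toNat, by omega⟩
  obtain ⟨P, hP, -, X, -, hX⟩ := hnorm (aR * aS) (Nat.mul_pos (by omega) (by omega))
  set D : ℕ := d₀ * (aR * aS)
  have hD : 0 < D := Nat.mul_pos (by omega) (Nat.mul_pos (by omega) (by omega))
  have hDZ : (d₀ : ℤ) * ((aR * aS : ℕ) : ℤ) = (D : ℤ) := by simp [D]
  have hP' : ∀ i, P i ∈ ℬ (D : ℤ) := fun i => hDZ ▸ hP i
  set F := f ^ (d₀ * aS)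
  set G := g ^ (d₀ * aR)
  have hF : F ∈ 𝒜 (D : ℤ) := by
    have := SegreOne.gpow_mem hf (d₀ * aS)
    rwa [show ((d₀ * aS : ℕ) : ℤ) * aR = (D : ℤ) by simp [D]; ring] at this
  have hG : G ∈ ℬ (D : ℤ) := by
    have := SegreOne.gpow_mem hg (d₀ * aR)
    rwa [show ((d₀ * aR : ℕ) : ℤ) * aS = (D : ℤ) by simp [D]; ring] at this
  have hFz : F ∈ nonZeroDivisors R := pow_mem hfz _
  have hGz : G ∈ nonZeroDivisors S := pow_mem hgz _
  have hDi : (0 : ℤ) < D := by omega
  have hpos : mR.toIdeal = SegreDim.pos 𝒜 := by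
    rw [hmR, SegreDim.pos]
    congr 1
    ext x
    simp
  have hFm : F ∈ mR.toIdeal := hpos ▸ SegreDim.mem_pos hDi hF
  have hrad : mR.toIdeal ≤ (Ideal.span {F}).radical := hpos ▸ SegreOne.pos_le_radical hA hr.le hF hFz
  refine ⟨fun h2s => ⟨fun hT n => ?_, fun h => ?_⟩, fun hs1 => ?_⟩
  · by_cases hn : ℬ n = ⊥
    · exact Or.inr hn
    refine Or.inl ((SegreOne.hcomp_eq_bot_iff hF hFz mR hFm hrad I n).2 (SegreOne.full_pow fun i => ?_))
    have := SegreOne.full_of_cohenMacaulay ψ hψ hdegT hA hB hr.le (by rw [hs]; exact_mod_cast h2s) hD hF hFz hG hGz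
      (SegreOne.piece_ne_bot_up hG hGz hn i)
    rwa [add_assoc, show (i : ℤ) * D + D = ((i : ℤ) + 1) * D by ring] at this
  · refine SegreOne.isCohenMacaulayRing_of_periodic ψ hψ hdegT hA hB hr.le hD hF hFz hs hP' hX hG hGz fun n hn => ?_
    have := (SegreOne.hcomp_eq_bot_iff hF hFz mR hFm hrad I n).1 ((h n).resolve_right hn) 1
    simpa using this
  · subst hs1
    exact SegreOne.isCohenMacaulayRing_dim_one ψ hψ hdegT hA hB hr.le (by rw [hs]; simp) hDi hF hFz hG hGz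

end Groth.Agent.S18663
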