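import Groth.Statements.S18664
import Groth.Agent.SegreOne.Main


set_option autoImplicit false
universe u
open scoped TensorProduct
open GrSegre

namespace Groth.Agent.S18664

/-- Let R and S be standard graded rings defined over a field k which are Cohen–Macaulay, with dim R = 1
and dim S ≥ 2. Then the Segre product T = R # S is a Cohen–Macaulay ring if and only if R is a
polynomial ring over k (in one variable). Here a graded ring defined over k is a commutative
k-algebra of finite type, graded in nonnegative degrees by k-subspaces with degree-zero part k·1,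
standard graded when its irrelevant ideal is generated by the degree-one piece; the Segre product T
= ⊕_n R_n ⊗_k S_n is presented abstractly as a graded k-algebra T with an injective k-algebra
homomorphism ψ : T → R ⊗_k S carrying T_n onto the k-span of the elementary tensors a ⊗ b with a ∈
R_n, b ∈ S_n. -/
theorem result (k : Type u) [Field k] (R : Type u) [CommRing R] [Algebra k R] (𝒜 : ℤ → Submodule k R) [GradedAlgebra 𝒜] (hposR : ∀ n : ℤ, n < 0 → 𝒜 n = ⊥) (h0R : 𝒜 0 = Submodule.span k {(1 : R)}) [Algebra.FiniteType k R] (S : Type u) [CommRing S] [Algebra k S] (ℬ : ℤ → Submodule k S) [GradedAlgebra ℬ] (hposS : ∀ n : ℤ, n < 0 → ℬ n = ⊥) (h0S : ℬ 0 = Submodule.span k {(1 : S)}) [Algebra.FiniteType k S] (T : Type u) [CommRing T] [Algebra k T] (𝒯 : ℤ → Submodule k T) [GradedAlgebra 𝒯] (ψ : T →ₐ[k] TensorProduct k R S) (hψ : Function.Injective ψ) (hdegT : ∀ n : ℤ, (𝒯 n).map ψ.toLinearMap = Submodule.span k {x : TensorProduct k R S | ∃ a ∈ 𝒜 n, ∃ b ∈ ℬ n, x = a ⊗ₜ[k] b}) [LocCoh.IsCohenMacaulayRing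 R] [LocCoh.IsCohenMacaulayRing S] (hstdR : Ideal.span (⋃ n ∈ Set.Ioi (0 : ℤ), (𝒜 n : Set R)) = Ideal.span ((𝒜 1 : Submodule k R) : Set R)) (hstdS : Ideal.span (⋃ n ∈ Set.Ioi (0 : ℤ), (ℬ n : Set S)) = Ideal.span ((ℬ 1 : Submodule k S) : Set S)) (hr : ringKrullDim R = 1) (hs : 2 ≤ ringKrullDim S) : LocCoh.IsCohenMacaulayRing T ↔ Nonempty (R ≃ₐ[k] Polynomial k) := by
  have hA : SegreDim.IsStd 𝒜 := ⟨hposR, h0R⟩
  have hB : SegreDim.IsStd ℬ := ⟨hposS, h0S⟩
  constructor
  · intro hT
    obtain ⟨x, -, hx⟩ := SegreOne.poly_of_cohenMacaulay ψ hψ hdegT hA hB (SegreDim.pos_le_of_std hstdR) hr hs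
    exact ⟨(AlgEquiv.ofBijective _ hx).symm⟩
  · rintro ⟨E⟩
    have : IsNoetherianRing R := Algebra.FiniteType.isNoetherianRing k R
    have : Nontrivial R := E.toRingEquiv.toEquiv.nontrivial
    obtain ⟨p, hp⟩ := SegreOne.piece_one_le_span_singleton hA E
    obtain ⟨e, f, he, hf, hnz⟩ := SegreOne.exists_regular hA hr.ge
    obtain ⟨x, hx, -, hb⟩ := SegreOne.exists_bijective_aeval hA (SegreDim.pos_le_of_std hstdR) he hf hnz le_rfl
      fun s hs hs0 t ht => by
        rw [Nat.cast_one] at hs ht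
        obtain ⟨c, rfl⟩ := Submodule.mem_span_singleton.1 (hp hs)
        obtain ⟨c', rfl⟩ := Submodule.mem_span_singleton.1 (hp ht)
        have hc : c ≠ 0 := fun h => hs0 (by rw [h, zero_smul])
        exact Submodule.mem_span_singleton.2 ⟨c' * c⁻¹, by rw [smul_smul, inv_mul_cancel_right₀ hc]⟩
    obtain ⟨eT⟩ := SegreOne.nonempty_equiv_right ψ hψ hdegT hA hB hx hb
    exact Catenary.isCohenMacaulayRing_of_ringEquiv eT.symm

end Groth.Agent.S18664
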