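import Groth.Statements.S18666
import Groth.Agent.ProjCM.UnitDegOne
-- import your own Groth.Agent.* helpers here

set_option autoImplicit false
universe u
open GrProj

namespace Groth.Agent.S18666

open AlgebraicGeometry


open AlgebraicGeometry Pointwise in
/-- Let A = ⊕_{n ≥ 0} A_n be a commutative Noetherian graded ring satisfying condition (#) — there is an
integer d_0 such that for every d ≥ d_0 the Veronese subring A^(d) is generated by A_d over A_0,
equivalently A_{(n+1)d} is additively generated by the products A_d A_{nd} for every n ≥ 1 — and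
assume A is a Gorenstein ring. Then X = Proj A is a Gorenstein scheme: all of its local rings are
Gorenstein local rings. (The Cohen–Macaulay case of the same lemma is stated separately.) -/
theorem result (A : Type u) [CommRing A] (𝒜 : ℕ → AddSubgroup A) [GradedRing 𝒜] [LocCoh.IsGorensteinRing A] (hsharp : ∃ d₀ : ℕ, ∀ d : ℕ, d₀ ≤ d → ∀ n : ℕ, 1 ≤ n → 𝒜 ((n + 1) * d) = AddSubgroup.closure ((𝒜 d : Set A) * (𝒜 (n * d) : Set A))) (x : Proj 𝒜) : LocCoh.IsGorensteinLocalRing ((Proj 𝒜).presheaf.stalk x) := by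
  obtain ⟨d₀, hd₀⟩ := hsharp
  obtain ⟨e, he, t, ht, htx⟩ := ProjCM.exists_notMem 𝒜 x
  haveI hp : x.asHomogeneousIdeal.toIdeal.IsPrime := x.isPrime
  have htD : ∀ D, t ^ D ∉ x.asHomogeneousIdeal := fun D h => htx (hp.mem_of_pow_mem D h)
  have key : ∀ D, d₀ ≤ D → ∃ s ∈ 𝒜 D, s ∉ x.asHomogeneousIdeal := fun D hD => by
    obtain ⟨m, rfl⟩ : ∃ m, e = m + 1 := ⟨e - 1, by omega⟩
    have h1 := SetLike.pow_mem_graded (A := 𝒜) D ht
    rw [smul_eq_mul, mul_comm] at h1
    rcases Nat.eq_zero_or_pos m with rfl | hm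
    · exact ⟨t ^ D, by simpa using h1, htD D⟩
    · rw [hd₀ D hD m hm] at h1
      by_contra hall
      push Not at hall
      refine htD D (AddSubgroup.closure_induction (fun z hz => ?_) (zero_mem _) (fun y z _ _ hy hz => add_mem hy hz)
        (fun y _ hy => x.asHomogeneousIdeal.toIdeal.neg_mem hy) h1)
      obtain ⟨a, ha, b, -, rfl⟩ := Set.mem_mul.1 hz
      exact Ideal.mul_mem_right _ _ (hall a ha)
  obtain ⟨s, hs, hsx⟩ := key d₀ le_rfl
  obtain ⟨s', hs', hsx'⟩ := key (d₀ + 1) d₀.le_succ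
  have hfx : s * s' ∉ x.asHomogeneousIdeal := fun h => (hp.mem_or_mem h).elim hsx hsx'
  obtain ⟨y, ⟨ey⟩⟩ := ProjCM.exists_stalk_equiv 𝒜 x (SetLike.mul_mem_graded hs hs') (by omega) hfx
  haveI := ProjCM.isGorensteinRing_away 𝒜 hs hs'
  haveI := LocCoh.IsGorensteinRing.isGorensteinLocalRing_localization
    (A := HomogeneousLocalization.Away 𝒜 (s * s')) y.asIdeal
  exact (GorLib.gorenstein_iff_of_ringEquiv (A := Localization.AtPrime y.asIdeal) (B := (Proj 𝒜).presheaf.stalk x) ey.symm).1 inferInstance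

end Groth.Agent.S18666
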