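import Groth.Statements.S1867
import Groth.Agent.DimFun.Basic
import Groth.Agent.DimInequality.Basic
import Groth.Agent.DimZeroFin.Basic
-- import your own Groth.Agent.* helpers here

set_option autoImplicit false
universe u
open CategoryTheory AlgebraicGeometry
open Cyc

namespace Groth.Agent.S1867

/-- Let f : X → Y be a proper morphism of integral schemes with Y locally Noetherian, mapping the
generic point to the generic point with finite extension of function fields, and let ξ be a point of
Y whose local ring has dimension 1. Then f is finite over some open neighbourhood of ξ. -/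
theorem result (X Y : Scheme.{u}) [IsIntegral X] [IsIntegral Y] [IsLocallyNoetherian Y] (f : X ⟶ Y) [IsProper f] (hgen : f (genericPoint X) = genericPoint Y) (hfin : (f.residueFieldMap (genericPoint X)).hom.Finite) (ξ : Y) (hξ : ringKrullDim (Y.presheaf.stalk ξ) = 1) : ∃ V : Y.Opens, ξ ∈ V ∧ IsFinite (f ∣_ V) := by
    have hfib : ∀ x : X, f x = ξ → ∀ x' : X, f x' = ξ → x' ⤳ x → x' = x := by
      intro x hfx x' hfx' hspec
      by_contra hne
      subst hfx
      obtain ⟨U, hU, hxU, -⟩ := exists_isAffineOpen_mem_and_subset (X := Y) (x := f x) (U := ⊤) trivial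
      obtain ⟨V, hV, hxV, hVU⟩ := exists_isAffineOpen_mem_and_subset (X := X) (x := x) (U := f ⁻¹ᵁ U) hxU
      have hx'V : x' ∈ V := hspec.mem_open V.2 hxV
      have hηV : genericPoint X ∈ V := (genericPoint_specializes x).mem_open V.2 hxV
      haveI : Nonempty U := ⟨⟨f x, hxU⟩⟩
      haveI : Nonempty V := ⟨⟨x, hxV⟩⟩
      haveI : IsNoetherianRing Γ(Y, U) := IsLocallyNoetherian.component_noetherian ⟨U, hU⟩
      letI := (f.appLE U V hVU).hom.toAlgebra
      haveI : Algebra.FiniteType Γ(Y, U) Γ(X, V) := RingHom.finiteType_algebraMap.1 (f.finiteType_appLE hU hV hVU)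
      have hinjV : Function.Injective (DimFun.evalRes (X := X) hηV) := (injective_iff_map_eq_zero _).2 fun a ha => by
        rw [DimFun.evalRes_eq_zero_iff hV hηV, hV.primeIdealOf_genericPoint, genericPoint_eq_bot_of_affine] at ha
        exact ha
      have hinjU : Function.Injective (DimFun.evalRes (X := Y) (V := U) (hVU hηV)) := (injective_iff_map_eq_zero _).2 fun a ha => by
        rw [DimFun.evalRes_eq_zero_iff hU (hVU hηV)] at ha
        have e : hU.primeIdealOf ⟨f (genericPoint X), hVU hηV⟩ = ⊥ := by
          rw [show (⟨f (genericPoint X), hVU hηV⟩ : U) = ⟨genericPoint Y, hgen ▸ hVU hηV⟩ from Subtype.ext hgen,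
            hU.primeIdealOf_genericPoint, genericPoint_eq_bot_of_affine]
        rw [e] at ha
        exact ha
      haveI : FaithfulSMul Γ(Y, U) Γ(X, V) := (faithfulSMul_iff_algebraMap_injective _ _).2 fun a b hab => by
        refine hinjU ((f.residueFieldMap (genericPoint X)).hom.injective ?_)
        rw [← DimFun.evalRes_comm f hVU hηV, ← DimFun.evalRes_comm f hVU hηV]
        exact congrArg (DimFun.evalRes hηV) hab
      have htr : Algebra.trdeg Γ(Y, U) Γ(X, V) = 0 := by
        letI := (f.residueFieldMap (genericPoint X)).hom.toAlgebra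
        haveI : Module.Finite (Y.residueField (f (genericPoint X))) (X.residueField (genericPoint X)) := hfin
        rw [← DimFun.trdeg_eq_of_fractions (R := Γ(Y, U)) (D := Γ(X, V)) (K := Y.residueField (f (genericPoint X)))
          (F := X.residueField (genericPoint X)) (DimFun.evalRes (X := Y) (V := U) (hVU hηV)) (DimFun.evalRes hηV) hinjV
          (fun a => DimFun.evalRes_comm f hVU hηV a) (DimFun.evalRes_fractions hU (hVU hηV)) (DimFun.evalRes_fractions hV hηV)]
        exact trdeg_eq_zero
      set q := hV.primeIdealOf ⟨x, hxV⟩ with hq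
      set q' := hV.primeIdealOf ⟨x', hx'V⟩ with hq'
      have hle : q'.asIdeal ≤ q.asIdeal := (DimFun.fromSpec_specializes_iff hV q' q).1 (by
        rw [hV.fromSpec_primeIdealOf, hV.fromSpec_primeIdealOf]; exact hspec)
      have hlt : q'.asIdeal < q.asIdeal := lt_of_le_of_ne hle fun e => hne (by
        have := congrArg hV.fromSpec (PrimeSpectrum.ext e : q' = q)
        rwa [hV.fromSpec_primeIdealOf, hV.fromSpec_primeIdealOf] at this)
      have hp : PrimeSpectrum.comap (algebraMap Γ(Y, U) Γ(X, V)) q = hU.primeIdealOf ⟨f x, hxU⟩ := by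
        apply hU.fromSpec.isOpenEmbedding.injective
        rw [hU.fromSpec_primeIdealOf]
        show _ = f x
        refine Eq.trans ?_ (congrArg f (hV.fromSpec_primeIdealOf ⟨x, hxV⟩))
        refine Eq.trans ?_ (Scheme.Hom.comp_apply hV.fromSpec f _)
        erw [          ← IsAffineOpen.SpecMap_appLE_fromSpec f hU hV hVU, Scheme.Hom.comp_apply]
      have hp' : PrimeSpectrum.comap (algebraMap Γ(Y, U) Γ(X, V)) q' = hU.primeIdealOf ⟨f x, hxU⟩ := by
        apply hU.fromSpec.isOpenEmbedding.injective
        rw [hU.fromSpec_primeIdealOf]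
        show _ = f x
        refine Eq.trans ?_ ((congrArg f (hV.fromSpec_primeIdealOf ⟨x', hx'V⟩)).trans hfx')
        refine Eq.trans ?_ (Scheme.Hom.comp_apply hV.fromSpec f _)
        erw [          ← IsAffineOpen.SpecMap_appLE_fromSpec f hU hV hVU, Scheme.Hom.comp_apply]
      have hht : (q.asIdeal.under Γ(Y, U)).height = 1 := by
        rw [show q.asIdeal.under Γ(Y, U) = (hU.primeIdealOf ⟨f x, hxU⟩).asIdeal from congrArg PrimeSpectrum.asIdeal hp]
        letI := TopCat.Presheaf.algebra_section_stalk Y.presheaf ⟨f x, hxU⟩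
        haveI := hU.isLocalization_stalk ⟨f x, hxU⟩
        rw [IsLocalization.AtPrime.ringKrullDim_eq_height (hU.primeIdealOf ⟨f x, hxU⟩).asIdeal (Y.presheaf.stalk (f x))] at hξ
        exact_mod_cast hξ
      obtain ⟨hq1, hp1, b, e, h1, h2, -, h4, h5⟩ := DimInequality.height_inequality (R := Γ(Y, U)) q.asIdeal
      rw [htr] at h4
      have he : e = 0 := by exact_mod_cast h4.symm
      rw [hht] at h2
      have hp1' : hp1 = 1 := by exact_mod_cast h2.symm
      have hq'0 : q'.asIdeal ≠ ⊥ := fun h => by
        have e0 : (PrimeSpectrum.comap (algebraMap Γ(Y, U) Γ(X, V)) q).asIdeal = ⊥ := by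
          rw [show PrimeSpectrum.comap (algebraMap Γ(Y, U) Γ(X, V)) q = PrimeSpectrum.comap (algebraMap Γ(Y, U) Γ(X, V)) q' from hp.trans hp'.symm,
            PrimeSpectrum.comap_asIdeal, h]
          exact (RingHom.ker_eq_comap_bot (algebraMap Γ(Y, U) Γ(X, V))).symm.trans
            ((RingHom.injective_iff_ker_eq_bot _).1 (FaithfulSMul.algebraMap_injective _ _))
        rw [show q.asIdeal.under Γ(Y, U) = ⊥ from e0, Ideal.height_bot] at hht
        exact zero_ne_one hht
      haveI : IsNoetherianRing Γ(X, V) := Algebra.FiniteType.isNoetherianRing Γ(Y, U) Γ(X, V)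
      have a0 := DimFun.height_pos q'.asIdeal hq'0
      have a1 := Ideal.height_strict_mono_of_isPrime hlt
      obtain ⟨c, hc⟩ := DimFun.exists_height_eq q'.asIdeal
      rw [hc] at a0 a1
      rw [h1] at a1
      have a0' : 0 < c := by exact_mod_cast a0
      have a1' : c < hq1 := by exact_mod_cast a1
      omega
    refine exists_isFinite_morphismRestrict_of_finite_preimage_singleton f ξ ?_
    haveI : LocallyOfFiniteType (f.fiberToSpecResidueField ξ) :=
      MorphismProperty.of_isPullback (IsPullback.of_hasPullback f (Y.fromSpecResidueField ξ)) (inferInstanceAs (LocallyOfFiniteType f))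
    haveI : QuasiCompact (f.fiberToSpecResidueField ξ) :=
      MorphismProperty.of_isPullback (IsPullback.of_hasPullback f (Y.fromSpecResidueField ξ)) (inferInstanceAs (QuasiCompact f))
    haveI : IsLocallyNoetherian (f.fiber ξ) := LocallyOfFiniteType.isLocallyNoetherian (f.fiberToSpecResidueField ξ)
    haveI : CompactSpace (f.fiber ξ) := QuasiCompact.compactSpace_of_compactSpace (f.fiberToSpecResidueField ξ)
    haveI : IsNoetherian (f.fiber ξ) := { }
    haveI : DiscreteTopology (f.fiber ξ) := DimZeroFin.discreteTopology_of_forall_specializes fun a b hab => by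
      have hmem : ∀ c, f (f.fiberι ξ c) = ξ := fun c => (f.range_fiberι ξ).le ⟨c, rfl⟩
      exact (f.fiberι ξ).isEmbedding.injective (hfib _ (hmem b) _ (hmem a) (hab.map (f.fiberι ξ).continuous))
    haveI : Finite (f.fiber ξ) := finite_of_compact_of_discrete
    exact Set.finite_coe_iff.1 (Finite.of_equiv _ (f.fiberHomeo ξ).toEquiv)

end Groth.Agent.S1867
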