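import Groth.Statements.S18671
import Mathlib
import Groth.Agent.GrInj.Veronese
-- import your own Groth.Agent.* helpers here

set_option autoImplicit false
universe u
open GrLC

namespace Groth.Agent.S18671

section
open Groth.Agent.GrInj
variable {R R' : Type u} [CommRing R] [CommRing R'] [Algebra R' R]
  {𝒜 : ℤ → AddSubgroup R} [GradedRing 𝒜] {𝒜' : ℤ → AddSubgroup R'} [GradedRing 𝒜'] {q : ℕ}

theorem vPr_grHom {X Y : GMod.{u} 𝒜} (f : X.carrier →ₗ[R] Y.carrier) (hf : IsGrHom X.gr Y.gr f)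
    (x : X.carrier) : vPr Y q (f x) = f (vPr X q x) := by
  induction x using GrInj.induction X.gr with
  | h0 => simp only [map_zero]
  | hh g m hm =>
    rw [vPr_of_mem X hm, vPr_of_mem Y (hf g m hm)]
    split_ifs <;> simp
  | hadd a b ha hb => simp only [map_add, ha, hb]

theorem mem_gam_vero (h : IsVero 𝒜' q 𝒜) (hq : 0 < q) (X : GMod.{u} 𝒜) (I : Ideal R')
    (x : (vero X h hq).carrier) :
    x ∈ gam I (vero X h hq).carrier ↔ veroIncl X h hq x ∈ gam (I.map (algebraMap R' R)) X.carrier := by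
  refine exists_congr fun k => ?_
  rw [← Ideal.map_pow]
  refine Iff.trans ?_ (LocCohLib.annihilated_map_iff (R := R') (R' := R) (I ^ k) (ModuleCat.of R X.carrier)
    (veroIncl X h hq x)).symm
  refine forall₂_congr fun r _ => ?_
  exact ⟨fun hx => (veroIncl_smul X h hq r x).symm.trans ((congrArg _ hx).trans (map_zero _)),
    fun hx => veroIncl_injective X h hq ((veroIncl_smul X h hq r x).trans (hx.trans (map_zero _).symm))⟩

end

/-- Let R be a graded ring defined over a field, q ≥ 1, R' = R^(q) its Veronese subring with m' = R'_+,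
and M a graded R-module with Veronese submodule M^(q) = ⊕_j M_{jq}, a graded R'-module. Then
H^p_{m'}(M^(q)) ≅ (H^p_m(M))^(q) for every p. Stated here, for M finitely generated, as the equality
of dimensions dim H^p_{m'}(M^(q))_j = dim H^p_m(M)_{jq} over the degree-zero fields R'_0 ≅ R_0, for
all p and j (the published isomorphism is one of graded R'-modules; all these pieces are
finite-dimensional). Here 'graded ring defined over a field' means R = ⊕_{n ≥ 0} R_n is Noetherian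
with R_0 a field, and m = R_+ is its unique graded maximal ideal. The graded local cohomologies are
computed from *injective resolutions in the respective graded categories; the Veronese subring R^(q)
= ⊕_j R_{jq}, regraded by (R^(q))_j = R_{jq}, is presented abstractly as a ℤ-graded ring R' with an
injective ring homomorphism φ : R' → R carrying R'_j onto R_{jq} for every j. The module M^(q) is
presented as a graded R'-module M' with an injective additive map g : M' → M, semilinear over φ,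
carrying M'_j onto M_{jq} for every j. -/
theorem result (R : Type u) [CommRing R] [IsNoetherianRing R] (𝒜 : ℤ → AddSubgroup R) [GradedRing 𝒜] (hpos : ∀ n : ℤ, n < 0 → 𝒜 n = ⊥) (h0 : IsField (GrLC.deg0 𝒜)) (m : HomogeneousIdeal 𝒜) (hm : GrLC.IsStarLocal 𝒜 m) (hmsp : m.toIdeal = Ideal.span (⋃ n ∈ Set.Ioi (0 : ℤ), (𝒜 n : Set R))) (M : Type u) [AddCommGroup M] [Module R M] (ℳ : ℤ → AddSubgroup M) [DirectSum.Decomposition ℳ] [SetLike.GradedSMul 𝒜 ℳ] [Module.Finite R M] (E : GrLC.StarInjRes 𝒜 ℳ) (q : ℕ) (hq : 0 < q) (R' : Type u) [CommRing R'] (𝒜' : ℤ → AddSubgroup R') [GradedRing 𝒜'] (φ : R' →+* R) (hφ : Function.Injective φ) (hdeg : ∀ j : ℤ, (𝒜' j).map (φ : R' →+ R) = 𝒜 (j * q)) (m' : HomogeneousIdeal 𝒜') (hm' : GrLC.IsStarLocal 𝒜' m') (hm'sp : m'.toIdeal = Ideal.span (⋃ j ∈ Set.Ioi (0 : ℤ), (𝒜' j : Set R'))) (M' : Type u) [AddCommGroup M'] [Module R' M'] (ℳ' : ℤ → AddSubgroup M') [DirectSum.Decomposition ℳ'] [SetLike.GradedSMul 𝒜' ℳ'] (g : M' →ₛₗ[φ]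 M) (hg : Function.Injective g) (hgdeg : ∀ j : ℤ, (ℳ' j).map (g : M' →+ M) = ℳ (j * q)) (F : GrLC.StarInjRes 𝒜' ℳ') (p : ℕ) (j : ℤ) : Module.finrank (GrLC.deg0 𝒜') (F.Hcomp m' p j) = Module.finrank (GrLC.deg0 𝒜) (E.Hcomp m p (j * q)) := by
  letI : Algebra R' R := φ.toAlgebra
  have h : GrInj.IsVero 𝒜' q 𝒜 := hdeg
  haveI : IsNoetherianRing R' := GrInj.isNoetherianRing_vero h hq hφ
  let a : HomogeneousIdeal 𝒜 := ⟨m'.toIdeal.map (algebraMap R' R), GrInj.map_isHomogeneous h m'⟩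
  have hrad : a.toIdeal.radical = m.toIdeal.radical := by
    refine le_antisymm (Ideal.radical_mono ?_) (Ideal.radical_le_radical_iff.2 ?_)
    · show m'.toIdeal.map (algebraMap R' R) ≤ _
      rw [hm'sp, Ideal.map_span, Ideal.span_le, hmsp]
      rintro _ ⟨c, hc, rfl⟩
      simp only [Set.mem_iUnion] at hc
      obtain ⟨i, hi, hc⟩ := hc
      refine Ideal.subset_span (Set.mem_biUnion (x := i * q) ?_ (h.map_mem hc))
      exact mul_pos (Set.mem_Ioi.1 hi) (by exact_mod_cast hq)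
    · rw [hmsp, Ideal.span_le]
      intro x hx
      simp only [Set.mem_iUnion] at hx
      obtain ⟨i, hi, hx⟩ := hx
      have hxq : x ^ q ∈ 𝒜 (i * q) := by
        have := SetLike.pow_mem_graded (A := 𝒜) q hx
        rwa [nsmul_eq_mul, mul_comm] at this
      obtain ⟨c, hc, hcx⟩ := (h i).ge hxq
      refine ⟨q, hcx ▸ Ideal.mem_map_of_mem _ ?_⟩
      rw [hm'sp]
      exact Ideal.subset_span (Set.mem_biUnion hi hc)
  have hgam : ∀ (X : Type u) [AddCommGroup X] [Module R X], GrLC.gam a.toIdeal X = GrLC.gam m.toIdeal X :=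
    fun X _ _ => GrInj.gam_congr hrad X
  let MM : GMod.{u} 𝒜 := GMod.of 𝒜 M ℳ
  choose d' hd' hd'c using fun n => GrInj.exists_veroMap h hq (E.d n) (E.d_grHom n)
  have hgM : ∀ x : M', g x ∈ GrInj.veroSub MM q := fun x => by
    induction x using GrInj.induction ℳ' with
    | h0 => rw [map_zero]; exact zero_mem _
    | hh i y hy => exact le_iSup (fun j : ℤ => MM.gr (j * q)) i ((hgdeg i).le ⟨y, hy, rfl⟩)
    | hadd a b ha hb => rw [map_add]; exact add_mem ha hb
  have hgsurj : ∀ y ∈ GrInj.veroSub MM q, ∃ x : M', g x = y := fun y hy =>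
    AddSubgroup.iSup_induction _ (C := fun y => ∃ x : M', g x = y) hy
      (fun j z hz => by obtain ⟨c, -, hc⟩ := (hgdeg j).ge hz; exact ⟨c, hc⟩) ⟨0, map_zero g⟩
      fun a b ⟨c, hc⟩ ⟨c', hc'⟩ => ⟨c + c', by rw [map_add, hc, hc']⟩
  have hεmem : ∀ x : M', E.ε (g x) ∈ GrInj.veroSub (E.X 0) q := fun x => by
    rw [← GrInj.vPr_id MM (hgM x), show E.ε (GrInj.vPr MM q (g x)) = GrInj.vPr (E.X 0) q (E.ε (g x)) from
      (vPr_grHom (X := MM) E.ε E.ε_grHom (g x)).symm]
    exact GrInj.vPr_mem _ _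
  let ε' : M' →ₗ[R'] (GrInj.vero (E.X 0) h hq).carrier :=
    { toFun := fun x => (⟨E.ε (g x), hεmem x⟩ : GrInj.veroSub (E.X 0) q)
      map_add' := fun x y => Subtype.ext ((congrArg E.ε (map_add g x y)).trans (map_add E.ε _ _))
      map_smul' := fun r x => Subtype.ext ((congrArg E.ε (map_smulₛₗ g r x)).trans (map_smul E.ε _ _)) }
  let Y : GrInj.AcRes ℳ' m' :=
    { X := fun n => GrInj.vero (E.X n) h hq
      d := d'
      ε := ε'
      d_grHom := hd'
      ε_grHom := fun i x hx => E.ε_grHom (i * q) (g x) ((hgdeg i).le ⟨x, hx, rfl⟩)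
      ε_injective := fun x y hxy => hg (E.ε_injective (congrArg (GrInj.veroIncl (E.X 0) h hq) hxy))
      exact_zero := by
        refine le_antisymm (fun u hu => ?_) ?_
        · obtain ⟨n, hn⟩ := E.exact_zero.le (show E.d 0 (GrInj.veroIncl (E.X 0) h hq u) = 0 by
            rw [← hd'c, LinearMap.mem_ker.1 hu, map_zero])
          obtain ⟨x, hx⟩ := hgsurj _ (GrInj.vPr_mem MM (q := q) n)
          refine ⟨x, GrInj.veroIncl_injective (E.X 0) h hq ?_⟩
          show E.ε (g x) = _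
          rw [hx, show E.ε (GrInj.vPr MM q n) = GrInj.vPr (E.X 0) q (E.ε n) from
            (vPr_grHom (X := MM) E.ε E.ε_grHom n).symm, hn]
          exact GrInj.vPr_id (E.X 0) u.2
        · rintro _ ⟨x, rfl⟩
          exact GrInj.veroIncl_injective (E.X 1) h hq
            ((hd'c 0 _).trans ((E.exact_zero.ge ⟨g x, rfl⟩).trans (map_zero _).symm))
      exact_succ := fun n => by
        refine le_antisymm (fun u hu => ?_) ?_
        · obtain ⟨w, hw⟩ := (E.exact_succ n).le (show E.d (n + 1) (GrInj.veroIncl (E.X (n + 1)) h hq u) = 0 by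
            rw [← hd'c, LinearMap.mem_ker.1 hu, map_zero])
          refine ⟨(⟨GrInj.vPr (E.X n) q w, GrInj.vPr_mem _ w⟩ : GrInj.veroSub (E.X n) q),
            GrInj.veroIncl_injective (E.X (n + 1)) h hq ?_⟩
          rw [hd'c]
          show E.d n (GrInj.vPr (E.X n) q w) = _
          rw [← vPr_grHom (E.d n) (E.d_grHom n), hw]
          exact GrInj.vPr_id (E.X (n + 1)) u.2
        · rintro _ ⟨x, rfl⟩
          exact GrInj.veroIncl_injective (E.X (n + 1 + 1)) h hq
            ((hd'c (n + 1) _).trans ((congrArg _ (hd'c n x)).trans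
              (((E.exact_succ n).ge ⟨_, rfl⟩).trans (map_zero _).symm)))
      acyclic := fun n => GrInj.acyclic_vero (E.X n) h hq m'.toIdeal (S13217.acyclic a (E.starInj n)) }
  obtain ⟨e₁⟩ := GrInj.AcRes.nonempty_pieceEquiv Y F p j
  obtain ⟨e₂⟩ := GrInj.AcRes.nonempty_pieceEquiv (GrInj.AcRes.ofStar E m) E p (j * q)
  rw [← e₁.finrank_eq, ← e₂.finrank_eq]
  let S := GrInj.AcRes.ofStar E m
  let φ₀ : GrLC.deg0 𝒜' →+* GrLC.deg0 𝒜 :=
    (φ.comp (GrLC.deg0 𝒜').subtype).codRestrict (GrLC.deg0 𝒜) fun r => by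
      show φ r.1 ∈ 𝒜 0
      have := h.map_mem (j := 0) r.2
      rwa [zero_mul] at this
  have hφ₀ : Function.Bijective φ₀ := by
    refine ⟨fun r s hrs => Subtype.ext (hφ (congrArg Subtype.val hrs)), fun r => ?_⟩
    obtain ⟨c, hc, hcr⟩ := (h 0).ge (show r.1 ∈ 𝒜 (0 * q) by rw [zero_mul]; exact r.2)
    exact ⟨⟨c, hc⟩, Subtype.ext hcr⟩
  have htor : ∀ n x, x ∈ GrLC.gam m'.toIdeal (GrInj.vero (E.X n) h hq).carrier ↔
      GrInj.veroIncl (E.X n) h hq x ∈ GrLC.gam m.toIdeal (E.X n).carrier := fun n x => by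
    rw [← hgam]; exact mem_gam_vero h hq (E.X n) m'.toIdeal x
  let σ : Y.coc p j →ₛₗ[φ₀] S.coc p (j * q) :=
    { toFun := fun x => ⟨GrInj.veroIncl (E.X p) h hq x.1, x.2.1, (htor p x.1).1 x.2.2.1,
        ((hd'c p x.1).symm.trans ((congrArg _ x.2.2.2).trans (map_zero _)))⟩
      map_add' := fun _ _ => Subtype.ext (map_add _ _ _)
      map_smul' := fun r x => Subtype.ext (GrInj.veroIncl_smul (E.X p) h hq r.1 x.1) }
  have hσ : ∀ x : Y.coc p j, x.1 ∈ Y.cob p ↔ (σ x).1 ∈ S.cob p := by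
    intro x
    show x.1 ∈ Y.cob p ↔ GrInj.veroIncl (E.X p) h hq x.1 ∈ S.cob p
    cases p with
    | zero =>
      constructor
      · intro hx
        rw [(Submodule.mem_bot R').1 hx, map_zero]
        exact zero_mem _
      · intro hx
        exact (Submodule.mem_bot R').2
          (GrInj.veroIncl_injective (E.X 0) h hq (((Submodule.mem_bot R (M := (E.X 0).carrier)).1 hx).trans (map_zero _).symm))
    | succ p =>
      constructor
      · rintro ⟨y, hy, hyx⟩
        exact ⟨GrInj.veroIncl (E.X p) h hq y, (htor p y).1 hy, (hd'c p y).symm.trans (congrArg _ hyx)⟩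
      · rintro ⟨y, hy, hyx⟩
        obtain ⟨z, -, hz⟩ := GrInj.exists_veroIncl (E.X p) h hq (GrInj.pr_mem (ℳ := (E.X p).gr) (j * q) y)
        refine ⟨z, (htor p z).2 (hz ▸ S13225.gam_homogeneous m (j * q) hy),
          GrInj.veroIncl_injective (E.X (p + 1)) h hq ?_⟩
        rw [hd'c, hz, ← GrInj.pr_grHom (E.d_grHom p), show E.d p y = GrInj.veroIncl (E.X (p + 1)) h hq x.1 from hyx,
          GrInj.pr_of_mem (show GrInj.veroIncl (E.X (p + 1)) h hq x.1 ∈ (E.X (p + 1)).gr (j * q) from x.2.1)]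
  let θ : Y.piece p j →ₛₗ[φ₀] S.piece p (j * q) := Submodule.mapQ _ _ σ fun x hx => (hσ x).1 hx
  have hθ : Function.Bijective θ := by
    refine ⟨(injective_iff_map_eq_zero θ).2 fun c hc => ?_, fun c => ?_⟩
    · obtain ⟨x, rfl⟩ := Submodule.Quotient.mk_surjective _ c
      exact (Submodule.Quotient.mk_eq_zero _).2 ((hσ x).2 ((Submodule.Quotient.mk_eq_zero (p := ((S.cob p).restrictScalars (GrLC.deg0 𝒜)).comap (S.coc p (j * q)).subtype) (x := σ x)).1 hc))
    · obtain ⟨y, rfl⟩ := Submodule.Quotient.mk_surjective _ c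
      obtain ⟨z, hz, hzy⟩ := GrInj.exists_veroIncl (E.X p) h hq y.2.1
      have h1 : Y.d p z = 0 := GrInj.veroIncl_injective (E.X (p + 1)) h hq
        ((hd'c p z).trans ((congrArg _ hzy).trans (y.2.2.2.trans (map_zero _).symm)))
      exact ⟨Submodule.Quotient.mk ⟨z, hz, (htor p z).2 (hzy ▸ y.2.2.1), h1⟩,
        congrArg Submodule.Quotient.mk (Subtype.ext hzy)⟩
  exact congrArg Cardinal.toNat (rank_eq_of_equiv_equiv φ₀ (AddEquiv.ofBijective θ.toAddMonoidHom hθ)
    hφ₀ fun r c => map_smulₛₗ θ r c)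

end Groth.Agent.S18671
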