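import Groth.Statements.S18672
import Mathlib

set_option autoImplicit false
universe u
open GrLC

namespace Groth.Agent.S18672

section

variable {R : Type*} [CommRing R] (𝒜 : ℤ → AddSubgroup R) [GradedRing 𝒜]

theorem mem_closure_step (hstd : Ideal.span (⋃ n ∈ Set.Ioi (0 : ℤ), (𝒜 n : Set R)) = Ideal.span ((𝒜 1 : AddSubgroup R) : Set R))
    {n : ℤ} (hn : 0 < n) {x : R} (hx : x ∈ 𝒜 n) :
    x ∈ AddSubgroup.closure {z | ∃ u ∈ 𝒜 (n - 1), ∃ v ∈ 𝒜 1, z = u * v} := by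
  classical
  have hxs : x ∈ Ideal.span ((𝒜 1 : AddSubgroup R) : Set R) := by
    rw [← hstd]; exact Ideal.subset_span (Set.mem_biUnion hn hx)
  have key : ∀ y ∈ Ideal.span ((𝒜 1 : AddSubgroup R) : Set R), ∀ r : R,
      GradedRing.proj 𝒜 n (r * y) ∈ AddSubgroup.closure {z | ∃ u ∈ 𝒜 (n - 1), ∃ v ∈ 𝒜 1, z = u * v} := by
    intro y hy
    induction hy using Submodule.span_induction with
    | mem v hv =>
      intro r
      refine AddSubgroup.subset_closure ⟨DirectSum.decompose 𝒜 r (n - 1), SetLike.coe_mem _, v, hv, ?_⟩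
      rw [GradedRing.proj_apply]
      conv_lhs => rw [show n = (n - 1) + 1 by omega]
      exact DirectSum.coe_decompose_mul_add_of_right_mem 𝒜 hv
    | zero => intro r; rw [mul_zero, map_zero]; exact zero_mem _
    | add u v _ _ hu hv => intro r; rw [mul_add, map_add]; exact add_mem (hu r) (hv r)
    | smul c u _ hu => intro r; rw [smul_eq_mul, ← mul_assoc]; exact hu _
  have h1 := key x hxs 1
  rwa [one_mul, GradedRing.proj_apply, DirectSum.decompose_of_mem_same 𝒜 hx] at h1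

theorem mem_closure_mul (hstd : Ideal.span (⋃ n ∈ Set.Ioi (0 : ℤ), (𝒜 n : Set R)) = Ideal.span ((𝒜 1 : AddSubgroup R) : Set R))
    (m : ℤ) (hm : 0 ≤ m) : ∀ (n : ℕ) (x : R), x ∈ 𝒜 (m + n) →
    x ∈ AddSubgroup.closure {z | ∃ u ∈ 𝒜 (n : ℤ), ∃ v ∈ 𝒜 m, z = u * v}
  | 0, x, hx => AddSubgroup.subset_closure ⟨1, SetLike.one_mem_graded 𝒜, x, by simpa using hx, (one_mul x).symm⟩
  | n + 1, x, hx => by
    have h := mem_closure_step 𝒜 hstd (n := m + ((n + 1 : ℕ) : ℤ)) (by omega) hx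
    rw [show m + ((n + 1 : ℕ) : ℤ) - 1 = m + (n : ℤ) by omega] at h
    refine AddSubgroup.closure_induction ?_ (zero_mem _) (fun _ _ _ _ => add_mem) (fun _ _ => neg_mem) h
    rintro z ⟨u, hu, v, hv, rfl⟩
    have ih := mem_closure_mul hstd m hm n u hu
    refine AddSubgroup.closure_induction
      (p := fun y _ => y * v ∈ AddSubgroup.closure {z | ∃ u ∈ 𝒜 ((n + 1 : ℕ) : ℤ), ∃ v ∈ 𝒜 m, z = u * v})
      ?_ (by rw [zero_mul]; exact zero_mem _) (fun y y' _ _ h h' => by rw [add_mul]; exact add_mem h h')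
      (fun y _ h => by rw [neg_mul]; exact neg_mem h) ih
    rintro y ⟨a, ha, b, hb, rfl⟩
    refine AddSubgroup.subset_closure ⟨a * v, ?_, b, hb, by ring⟩
    rw [Nat.cast_succ]
    exact SetLike.mul_mem_graded ha hv

end

/-- Let R be a graded ring defined over a field k = R_0 which is Cohen–Macaulay and generated over k by
R_1 (the standing hypotheses of this section; only generation in degree one is used), q ≥ 1, R' =
R^(q), and a an integer. Then the Veronese submodule [R(a)]^(q) = ⊕_j R_{a+jq} is generated over R'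
by its piece R(a)_n = R_{a+n}, where n is the smallest multiple of q with n + a ≥ 0. Here 'graded
ring defined over a field' means R = ⊕_{n ≥ 0} R_n is Noetherian with R_0 a field, and m = R_+ is
its unique graded maximal ideal. The Veronese subring R^(q) = ⊕_j R_{jq}, regraded by (R^(q))_j =
R_{jq}, is presented abstractly as a ℤ-graded ring R' with an injective ring homomorphism φ : R' → R
carrying R'_j onto R_{jq} for every j. The module [R(a)]^(q) is presented as a graded R'-module M'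
with an injective additive map g : M' → R, semilinear over φ, carrying M'_j onto R_{a+jq} for every
j; with n = j₀q, the conclusion is that the R'-span of M'_{j₀} is all of M'. -/
theorem result (R : Type u) [CommRing R] [LocCoh.IsCohenMacaulayRing R] (𝒜 : ℤ → AddSubgroup R) [GradedRing 𝒜] (hpos : ∀ n : ℤ, n < 0 → 𝒜 n = ⊥) (h0 : IsField (GrLC.deg0 𝒜)) (hstd : Ideal.span (⋃ n ∈ Set.Ioi (0 : ℤ), (𝒜 n : Set R)) = Ideal.span ((𝒜 1 : AddSubgroup R) : Set R)) (q : ℕ) (hq : 0 < q) (R' : Type u) [CommRing R'] (𝒜' : ℤ → AddSubgroup R') [GradedRing 𝒜'] (φ : R' →+* R) (hφ : Function.Injective φ) (hdeg : ∀ j : ℤ, (𝒜' j).map (φ : R' →+ R) = 𝒜 (j * q)) (a : ℤ) (M' : Type u) [AddCommGroup M'] [Module R' M'] (ℳ' : ℤ → AddSubgroup M') [DirectSum.Decomposition ℳ'] [SetLike.GradedSMul 𝒜' ℳ'] (g : M' →ₛₗ[φ] R) (hg : Function.Injective g) (hgdeg : ∀ j : ℤ, (ℳ' j).map (g : M' →+ R) = 𝒜 (a + j * q)) (j₀ : ℤ) (hj₀ : 0 ≤ a + j₀ * q) (hj₀' : a +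 (j₀ - 1) * q < 0) : Submodule.span R' ((ℳ' j₀ : AddSubgroup M') : Set M') = ⊤ := by
  classical
  refine eq_top_iff.2 fun x _ => ?_
  rw [← DirectSum.sum_support_decompose ℳ' x]
  refine Submodule.sum_mem _ fun j _ => ?_
  generalize hy : (DirectSum.decompose ℳ' x j : M') = y
  have hyj : y ∈ ℳ' j := hy ▸ SetLike.coe_mem _
  have hgy : g y ∈ 𝒜 (a + j * q) := (hgdeg j).le (AddSubgroup.mem_map_of_mem _ hyj)
  rcases lt_or_ge j j₀ with hj | hj
  · have hneg : a + j * q < 0 := by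
      have : j * (q : ℤ) ≤ (j₀ - 1) * q := mul_le_mul_of_nonneg_right (by omega) (Int.natCast_nonneg q)
      omega
    rw [hpos _ hneg, AddSubgroup.mem_bot] at hgy
    rw [hg (hgy.trans (map_zero g).symm)]
    exact zero_mem _
  obtain ⟨d, hd⟩ := Int.le.dest hj
  have hyeq : a + j * q = (a + j₀ * q) + ((d * q : ℕ) : ℤ) := by rw [← hd]; push_cast; ring
  rw [hyeq] at hgy
  have h := mem_closure_mul 𝒜 hstd (a + j₀ * q) hj₀ (d * q) (g y) hgy
  suffices ∃ y' ∈ Submodule.span R' ((ℳ' j₀ : AddSubgroup M') : Set M'), g y' = g y by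
    obtain ⟨y', hy', e⟩ := this
    exact hg e ▸ hy'
  refine AddSubgroup.closure_induction
    (p := fun z _ => ∃ y' ∈ Submodule.span R' ((ℳ' j₀ : AddSubgroup M') : Set M'), g y' = z)
    ?_ ⟨0, zero_mem _, map_zero g⟩
    (fun _ _ _ _ ⟨y₁, h₁, e₁⟩ ⟨y₂, h₂, e₂⟩ => ⟨y₁ + y₂, add_mem h₁ h₂, by rw [map_add, e₁, e₂]⟩)
    (fun _ _ ⟨y₁, h₁, e₁⟩ => ⟨-y₁, neg_mem h₁, by rw [map_neg, e₁]⟩) h
  rintro z ⟨u, hu, v, hv, rfl⟩
  have hu' : u ∈ (𝒜' (d : ℤ)).map (φ : R' →+ R) := by rw [hdeg]; exact_mod_cast hu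
  obtain ⟨r, -, rfl⟩ := AddSubgroup.mem_map.1 hu'
  obtain ⟨w, hw, rfl⟩ := AddSubgroup.mem_map.1 ((hgdeg j₀).ge hv)
  exact ⟨r • w, Submodule.smul_mem _ r (Submodule.subset_span hw), map_smulₛₗ g r w⟩


end Groth.Agent.S18672
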