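import Groth.Statements.S18685
import Mathlib
import Groth.Agent.GLatRes.Basic
-- import your own Groth.Agent.* helpers here

set_option autoImplicit false
open GLat

namespace Groth.Agent.S18685

/-- For a finite group G and a finitely generated G-module A there is an exact sequence 0 → P → F → A →
0 of finitely generated G-modules with P a permutation lattice and F a flasque lattice; rendered by
equivariant ℤ-linear maps i : P → F injective, π : F → A surjective, with range i = ker π. -/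
theorem result (G : Type) [Group G] [Finite G]
    (A : Type) [AddCommGroup A] [Module.Finite ℤ A] (ρ : Representation ℤ G A) :
    ∃ (P : Type) (_ : AddCommGroup P) (F : Type) (_ : AddCommGroup F)
      (_ : Module.Finite ℤ P) (_ : Module.Free ℤ P) (_ : Module.Finite ℤ F) (_ : Module.Free ℤ F)
      (σ : Representation ℤ G P) (τ : Representation ℤ G F) (i : P →ₗ[ℤ] F) (π : F →ₗ[ℤ] A),
      GLat.IsEquivariant σ τ i ∧ GLat.IsEquivariant τ ρ π ∧ Function.Injective i ∧ Function.Surjective π ∧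
      LinearMap.range i = LinearMap.ker π ∧ GLat.IsPermutation σ ∧ GLat.IsFlasque τ := by
  obtain ⟨ι₀, hfin₀, act₀, π₀, heq₀, hsur₀, -⟩ := GLatRes.exists_cover ρ
  have hK₀ : ∀ g x, x ∈ LinearMap.ker π₀ → GLatRes.perm (G := G) ι₀ g x ∈ LinearMap.ker π₀ := fun g x hx => by
    rw [LinearMap.mem_ker, heq₀, LinearMap.mem_ker.1 hx, map_zero]
  haveI : Module.Finite ℤ (LinearMap.ker π₀) := Module.Finite.iff_fg.2 (IsNoetherian.noetherian _)
  let ρC := GLatRes.sub (GLatRes.perm (G := G) ι₀) (LinearMap.ker π₀) hK₀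
  obtain ⟨ι, hfin, act, i, hK, hie, hinj, hfree, hfl⟩ := GLatRes.exists_flasque_res ρC
  let j : LinearMap.ker π₀ →ₗ[ℤ] (ι₀ → ℤ) × (ι → ℤ) := (LinearMap.ker π₀).subtype.prod (-i)
  let σp : Representation ℤ G ((ι₀ → ℤ) × (ι → ℤ)) := (GLatRes.perm ι₀).prod (GLatRes.perm ι)
  have hJ : ∀ g x, x ∈ LinearMap.range j → σp g x ∈ LinearMap.range j := by
    rintro g _ ⟨c, rfl⟩
    refine ⟨ρC g c, Prod.ext rfl ?_⟩
    show -(i (ρC g c)) = GLatRes.perm (G := G) ι g (-(i c))
    rw [hie, map_neg]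
  let τ := GLatRes.quot σp (LinearMap.range j) hJ
  haveI := hfree
  haveI : Module.IsTorsionFree ℤ (((ι₀ → ℤ) × (ι → ℤ)) ⧸ LinearMap.range j) := by
    refine Module.IsTorsionFree.of_smul_eq_zero fun n z hz => ?_
    by_cases hn : n = 0
    · exact Or.inl hn
    refine Or.inr ?_
    obtain ⟨⟨x, p⟩, rfl⟩ := Submodule.mkQ_surjective _ z
    rw [← map_smul, Submodule.mkQ_apply, Submodule.Quotient.mk_eq_zero] at hz
    obtain ⟨c, hc⟩ := hz
    have hc1 : (c : ι₀ → ℤ) = n • x := congrArg Prod.fst hc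
    have hc2 : -(i c) = n • p := congrArg Prod.snd hc
    have hp : p ∈ LinearMap.range i := by
      have h0 : n • (LinearMap.range i).mkQ p = 0 := by
        rw [← map_smul, ← hc2, map_neg, Submodule.mkQ_apply, (Submodule.Quotient.mk_eq_zero (LinearMap.range i) (x := i c)).2 ⟨c, rfl⟩, neg_zero]
      exact (Submodule.Quotient.mk_eq_zero _).1 ((smul_eq_zero.1 h0).resolve_left hn)
    obtain ⟨d, rfl⟩ := hp
    have hcd : c = n • (-d) := hinj (by rw [smul_neg, map_neg, map_smul, ← hc2, neg_neg])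
    rw [Submodule.mkQ_apply, Submodule.Quotient.mk_eq_zero]
    refine ⟨-d, Prod.ext ?_ (by simp [j])⟩
    show ((-d : LinearMap.ker π₀) : ι₀ → ℤ) = x
    refine smul_right_injective _ hn ?_
    show n • ((-d : LinearMap.ker π₀) : ι₀ → ℤ) = n • x
    rw [← hc1, hcd]; rfl
  haveI : Module.Free ℤ (((ι₀ → ℤ) × (ι → ℤ)) ⧸ LinearMap.range j) := Module.free_of_finite_type_torsion_free'
  let π : (((ι₀ → ℤ) × (ι → ℤ)) ⧸ LinearMap.range j) →ₗ[ℤ] A :=
    (LinearMap.range j).liftQ (π₀ ∘ₗ LinearMap.fst ℤ _ _) (by rintro _ ⟨c, rfl⟩; exact c.2)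
  let e₀ : (ι₀ → ℤ) →ₗ[ℤ] ((ι₀ → ℤ) × (ι → ℤ)) ⧸ LinearMap.range j := (LinearMap.range j).mkQ ∘ₗ LinearMap.inl ℤ _ _
  have he₀ : Function.Injective e₀ := by
    rw [injective_iff_map_eq_zero]
    intro x hx
    obtain ⟨c, hc⟩ := (Submodule.Quotient.mk_eq_zero _).1 hx
    have h2 : -(i c) = 0 := congrArg Prod.snd hc
    rw [neg_eq_zero, ← map_zero i] at h2
    have h1 : (c : ι₀ → ℤ) = x := congrArg Prod.fst hc
    rw [← h1, hinj h2]; rfl
  refine ⟨ι → ℤ, inferInstance, ((ι₀ → ℤ) × (ι → ℤ)) ⧸ LinearMap.range j, inferInstance, inferInstance, inferInstance, inferInstance, inferInstance,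
    GLatRes.perm ι, τ, (LinearMap.range j).mkQ ∘ₗ LinearMap.inr ℤ _ _, π, fun g p => ?_, fun g z => ?_, ?_, ?_, ?_,
    GLatRes.isPermutation_perm, ?_⟩
  · show Submodule.Quotient.mk ((0 : ι₀ → ℤ), GLatRes.perm (G := G) ι g p) = Submodule.Quotient.mk (GLatRes.perm (G := G) ι₀ g 0, GLatRes.perm (G := G) ι g p)
    rw [map_zero]
  · obtain ⟨⟨x, p⟩, rfl⟩ := Submodule.mkQ_surjective _ z
    exact heq₀ g x
  · rw [injective_iff_map_eq_zero]
    intro p hp
    obtain ⟨c, hc⟩ := (Submodule.Quotient.mk_eq_zero _).1 hp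
    have h1 : (c : ι₀ → ℤ) = 0 := congrArg Prod.fst hc
    have h2 : -(i c) = p := congrArg Prod.snd hc
    rw [← h2, show c = 0 from Subtype.ext h1, map_zero, neg_zero]
  · intro a
    obtain ⟨x, hx⟩ := hsur₀ a
    exact ⟨(LinearMap.range j).mkQ (x, 0), hx⟩
  · ext z
    constructor
    · rintro ⟨p, rfl⟩
      exact map_zero π₀
    · intro hz
      obtain ⟨⟨x, p⟩, rfl⟩ := Submodule.mkQ_surjective _ z
      refine ⟨p + i ⟨x, hz⟩, (Submodule.Quotient.eq _).2 ⟨-⟨x, hz⟩, Prod.ext ?_ ?_⟩⟩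
      · show -x = (0 : ι₀ → ℤ) - x
        rw [zero_sub]
      · show -(i (-⟨x, hz⟩)) = p + i ⟨x, hz⟩ - p
        rw [map_neg, neg_neg, add_sub_cancel_left]
  · intro H m hm
    haveI : Fintype H := Fintype.ofFinite H
    set SF := Submodule.span ℤ {x | ∃ (h : H) (y : ((ι₀ → ℤ) × (ι → ℤ)) ⧸ LinearMap.range j), x = τ (h : G) y - y}
    let q : (((ι₀ → ℤ) × (ι → ℤ)) ⧸ LinearMap.range j) →ₗ[ℤ] (ι → ℤ) ⧸ LinearMap.range i :=
      (LinearMap.range j).liftQ ((LinearMap.range i).mkQ ∘ₗ LinearMap.snd ℤ _ _) (by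
        rintro _ ⟨c, rfl⟩
        exact (Submodule.Quotient.mk_eq_zero _).2 (Submodule.neg_mem _ ⟨c, rfl⟩))
    have hqe : ∀ g z, q (τ g z) = GLatRes.quot (GLatRes.perm (G := G) ι) (LinearMap.range i) hK g (q z) := by
      intro g z
      obtain ⟨⟨x, p⟩, rfl⟩ := Submodule.mkQ_surjective _ z
      rfl
    have hqs : Function.Surjective q := fun w => by
      obtain ⟨p, rfl⟩ := Submodule.mkQ_surjective _ w
      exact ⟨(LinearMap.range j).mkQ (0, p), rfl⟩
    rw [finsum_eq_sum_of_fintype] at hm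
    have hq := hfl H (q m) (by
      rw [finsum_eq_sum_of_fintype]
      simp only [← hqe, ← map_sum, hm, map_zero])
    obtain ⟨z, hz, hzq⟩ : ∃ z ∈ SF, q z = q m := by
      refine (Submodule.mem_map).1 ((Submodule.span_le (p := SF.map q)).2 ?_ hq)
      rintro _ ⟨h, y, rfl⟩
      obtain ⟨y', rfl⟩ := hqs y
      exact ⟨τ (h : G) y' - y', Submodule.subset_span ⟨h, y', rfl⟩, by rw [map_sub, hqe]⟩
    obtain ⟨y, hy⟩ : ∃ y, e₀ y = m - z := by
      have h0 : q (m - z) = 0 := by rw [map_sub, hzq, sub_self]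
      generalize m - z = w at h0
      obtain ⟨⟨x, p⟩, rfl⟩ := Submodule.mkQ_surjective _ w
      obtain ⟨d, hd⟩ := (Submodule.Quotient.mk_eq_zero _).1 h0
      refine ⟨x + (d : ι₀ → ℤ), (Submodule.Quotient.eq _).2 ⟨d, Prod.ext ?_ ?_⟩⟩
      · show (d : ι₀ → ℤ) = x + (d : ι₀ → ℤ) - x
        rw [add_sub_cancel_left]
      · show -(i d) = (0 : ι → ℤ) - p
        rw [zero_sub, ← show i d = p from hd]
    have hee : ∀ g x, e₀ (GLatRes.perm (G := G) ι₀ g x) = τ g (e₀ x) := fun g x => by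
      show Submodule.Quotient.mk (GLatRes.perm (G := G) ι₀ g x, (0 : ι → ℤ)) = Submodule.Quotient.mk (GLatRes.perm (G := G) ι₀ g x, GLatRes.perm (G := G) ι g 0)
      rw [map_zero]
    have hy0 := GLatRes.flasque_perm H y (by
      refine he₀ ?_
      have hz0 := GLatRes.norm_zero_of_mem H τ hz
      rw [finsum_eq_sum_of_fintype] at hz0 ⊢
      simp only [map_sum, hee, hy, map_sub, Finset.sum_sub_distrib, hm, hz0, sub_self, map_zero])
    have hy1 : m - z ∈ SF := by
      rw [← hy]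
      refine (Submodule.span_le (p := SF.comap e₀)).2 ?_ hy0
      rintro _ ⟨h, w, rfl⟩
      exact Submodule.subset_span ⟨h, e₀ w, by rw [map_sub, hee]⟩
    have := Submodule.add_mem _ hy1 hz
    rwa [sub_add_cancel] at this

end Groth.Agent.S18685
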