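import Groth.Statements.S18686
import Mathlib
import Groth.Agent.GLatRes.Basic
-- import your own Groth.Agent.* helpers here

set_option autoImplicit false
open GLat

namespace Groth.Agent.S18686

/-- For a finite group G and a G-lattice A (finitely generated and free over ℤ) there is an exact
sequence 0 → A → P → F → 0 of G-lattices with P a permutation lattice and F flasque (a flasque
resolution of A); rendered by equivariant ℤ-linear maps i : A → P injective, π : P → F surjective,
with range i = ker π. -/
theorem result (G : Type) [Group G] [Finite G]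
    (A : Type) [AddCommGroup A] [Module.Finite ℤ A] [Module.Free ℤ A] (ρ : Representation ℤ G A) :
    ∃ (P : Type) (_ : AddCommGroup P) (F : Type) (_ : AddCommGroup F)
      (_ : Module.Finite ℤ P) (_ : Module.Free ℤ P) (_ : Module.Finite ℤ F) (_ : Module.Free ℤ F)
      (σ : Representation ℤ G P) (τ : Representation ℤ G F) (i : A →ₗ[ℤ] P) (π : P →ₗ[ℤ] F),
      GLat.IsEquivariant ρ σ i ∧ GLat.IsEquivariant σ τ π ∧ Function.Injective i ∧ Function.Surjective π ∧
      LinearMap.range i = LinearMap.ker π ∧ GLat.IsPermutation σ ∧ GLat.IsFlasque τ := by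
  obtain ⟨ι, hfin, act, i, hK, hie, hinj, hfree, hfl⟩ := GLatRes.exists_flasque_res ρ
  exact ⟨ι → ℤ, inferInstance, (ι → ℤ) ⧸ LinearMap.range i, inferInstance, inferInstance, inferInstance, inferInstance, hfree,
    GLatRes.perm ι, GLatRes.quot (GLatRes.perm (G := G) ι) (LinearMap.range i) hK, i, (LinearMap.range i).mkQ, hie,
    fun g m => rfl, hinj, Submodule.mkQ_surjective _, (Submodule.ker_mkQ _).symm, GLatRes.isPermutation_perm, hfl⟩

end Groth.Agent.S18686
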