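import Groth.Statements.S18687
import Mathlib
import Groth.Agent.GLatRes.Basic
-- import your own Groth.Agent.* helpers here

set_option autoImplicit false
open GLat

namespace Groth.Agent.S18687

/-- For a finite group G and a G-lattice A (finitely generated and free over ℤ) there is an exact
sequence 0 → A → Q → P → 0 of G-lattices with Q coflasque and P a permutation lattice (a coflasque
resolution of A); rendered by equivariant ℤ-linear maps i : A → Q injective, π : Q → P surjective,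
with range i = ker π. -/
theorem result (G : Type) [Group G] [Finite G]
    (A : Type) [AddCommGroup A] [Module.Finite ℤ A] [Module.Free ℤ A] (ρ : Representation ℤ G A) :
    ∃ (Q : Type) (_ : AddCommGroup Q) (P : Type) (_ : AddCommGroup P)
      (_ : Module.Finite ℤ Q) (_ : Module.Free ℤ Q) (_ : Module.Finite ℤ P) (_ : Module.Free ℤ P)
      (σ : Representation ℤ G Q) (τ : Representation ℤ G P) (i : A →ₗ[ℤ] Q) (π : Q →ₗ[ℤ] P),
      GLat.IsEquivariant ρ σ i ∧ GLat.IsEquivariant σ τ π ∧ Function.Injective i ∧ Function.Surjective π ∧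
      LinearMap.range i = LinearMap.ker π ∧ GLat.IsCoflasque σ ∧ GLat.IsPermutation τ := by
  obtain ⟨ι, hfin, act, i, hK, hie, hinj, hfree, -⟩ := GLatRes.exists_flasque_res ρ
  obtain ⟨ι', hfin', act', π', heq', hsur', hlift'⟩ := GLatRes.exists_cover (GLatRes.quot (GLatRes.perm (G := G) ι) (LinearMap.range i) hK)
  let σp : Representation ℤ G ((ι → ℤ) × (ι' → ℤ)) := (GLatRes.perm ι).prod (GLatRes.perm ι')
  let D : ((ι → ℤ) × (ι' → ℤ)) →ₗ[ℤ] (ι → ℤ) ⧸ LinearMap.range i :=
    (LinearMap.range i).mkQ ∘ₗ LinearMap.fst ℤ _ _ - π' ∘ₗ LinearMap.snd ℤ _ _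
  have hQ : ∀ g x, x ∈ LinearMap.ker D → σp g x ∈ LinearMap.ker D := by
    rintro g ⟨p, p'⟩ hx
    have hx' : (LinearMap.range i).mkQ p = π' p' := sub_eq_zero.1 hx
    show (LinearMap.range i).mkQ (GLatRes.perm (G := G) ι g p) - π' (GLatRes.perm (G := G) ι' g p') = 0
    rw [heq', ← hx', sub_eq_zero]
    rfl
  haveI : Module.Finite ℤ (LinearMap.ker D) := Module.Finite.iff_fg.2 (IsNoetherian.noetherian _)
  let a' : A →ₗ[ℤ] LinearMap.ker D := ((LinearMap.inl ℤ _ _) ∘ₗ i).codRestrict _ fun a => by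
    show (LinearMap.range i).mkQ (i a) - π' 0 = 0
    rw [map_zero, sub_zero]
    exact (Submodule.Quotient.mk_eq_zero _).2 ⟨a, rfl⟩
  have hK' : ∀ g x, x ∈ LinearMap.ker π' → GLatRes.perm (G := G) ι' g x ∈ LinearMap.ker π' := fun g x hx => by
    rw [LinearMap.mem_ker, heq', LinearMap.mem_ker.1 hx, map_zero]
  refine ⟨LinearMap.ker D, inferInstance, ι' → ℤ, inferInstance, inferInstance, inferInstance, inferInstance, inferInstance,
    GLatRes.sub σp (LinearMap.ker D) hQ, GLatRes.perm ι', a', (LinearMap.snd ℤ _ _) ∘ₗ (LinearMap.ker D).subtype,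
    fun g a => Subtype.ext (Prod.ext (hie g a) (map_zero (GLatRes.perm (G := G) ι' g)).symm), fun g x => rfl, ?_, ?_, ?_, ?_,
    GLatRes.isPermutation_perm⟩
  · intro a b h
    exact hinj (congrArg Prod.fst (congrArg Subtype.val h))
  · intro p'
    obtain ⟨p, hp⟩ := Submodule.mkQ_surjective (LinearMap.range i) (π' p')
    exact ⟨⟨(p, p'), sub_eq_zero.2 hp⟩, rfl⟩
  · ext ⟨⟨p, p'⟩, hx⟩
    constructor
    · rintro ⟨a, ha⟩
      exact (congrArg Prod.snd (congrArg Subtype.val ha)).symm
    · intro h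
      have h' : p' = 0 := h
      subst h'
      have hx' : (LinearMap.range i).mkQ p - π' 0 = 0 := hx
      rw [map_zero, sub_zero] at hx'
      obtain ⟨a, ha⟩ := (Submodule.Quotient.mk_eq_zero _).1 hx'
      exact ⟨a, Subtype.ext (Prod.ext ha rfl)⟩
  · intro H f hf
    obtain ⟨p, hp⟩ := GLatRes.coflasque_perm H (fun a => (f a).1.1) (fun a b => congrArg Prod.fst (congrArg Subtype.val (hf a b)))
    obtain ⟨p', hp'⟩ := hsur' ((LinearMap.range i).mkQ p)
    let q : LinearMap.ker D := ⟨(p, p'), sub_eq_zero.2 hp'.symm⟩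
    have hmem : ∀ a : H, (f a).1.2 - (GLatRes.perm (G := G) ι' (a : G) p' - p') ∈ LinearMap.ker π' := fun a => by
      have h1 : (LinearMap.range i).mkQ (f a).1.1 = π' (f a).1.2 := sub_eq_zero.1 (f a).2
      rw [LinearMap.mem_ker, map_sub, map_sub, ← h1, heq', hp', hp a, map_sub]
      exact sub_self _
    obtain ⟨c, hc⟩ := GLatRes.coflasque_ker (GLatRes.quot (GLatRes.perm (G := G) ι) (LinearMap.range i) hK) π' hK' heq' hlift'
      H (fun a => ⟨_, hmem a⟩) (fun a b => by
        have h2 : (f (a * b)).1.2 = (f a).1.2 + GLatRes.perm (G := G) ι' (a : G) (f b).1.2 := congrArg Prod.snd (congrArg Subtype.val (hf a b))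
        refine Subtype.ext ?_
        show (f (a * b)).1.2 - (GLatRes.perm (G := G) ι' ((a * b : H) : G) p' - p') = (f a).1.2 - (GLatRes.perm (G := G) ι' (a : G) p' - p') + GLatRes.perm (G := G) ι' (a : G) ((f b).1.2 - (GLatRes.perm (G := G) ι' (b : G) p' - p'))
        rw [h2, Subgroup.coe_mul, map_mul, Module.End.mul_apply, map_sub, map_sub]
        abel)
    refine ⟨⟨(p, p' + c.1), ?_⟩, fun a => Subtype.ext (Prod.ext (hp a) ?_)⟩
    · show (LinearMap.range i).mkQ p - π' (p' + c.1) = 0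
      rw [map_add, hp', LinearMap.mem_ker.1 c.2, add_zero, sub_self]
    · show (f a).1.2 = GLatRes.perm (G := G) ι' (a : G) (p' + c.1) - (p' + c.1)
      have h3 : (f a).1.2 - (GLatRes.perm (G := G) ι' (a : G) p' - p') = GLatRes.perm (G := G) ι' (a : G) c.1 - c.1 := congrArg Subtype.val (hc a)
      rw [map_add, eq_add_of_sub_eq h3]
      abel

end Groth.Agent.S18687
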