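import Groth.Statements.S18700
import Groth.Agent.DepthLib.Ext

set_option autoImplicit false
universe u
open QGor

namespace Groth.Agent.S18700

/-- Affine form. Let A be a Noetherian ring, I an ideal, and G the kernel of a linear map u : E⁰ → E¹ of
finite A-modules. If depth_I E⁰ ≥ 1 then depth_I G ≥ 1; if depth_I E⁰ ≥ 2 and depth_I E¹ ≥ 1 then
depth_I G ≥ 2. -/
theorem result (A : Type u) [CommRing A] [IsNoetherianRing A] (I : Ideal A)
    (E0 E1 : Type u) [AddCommGroup E0] [Module A E0] [Module.Finite A E0] [AddCommGroup E1] [Module A E1]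
    [Module.Finite A E1] (u : E0 →ₗ[A] E1) :
    (1 ≤ LocCoh.idealDepth I E0 → 1 ≤ LocCoh.idealDepth I (LinearMap.ker u)) ∧
    (2 ≤ LocCoh.idealDepth I E0 → 1 ≤ LocCoh.idealDepth I E1 → 2 ≤ LocCoh.idealDepth I (LinearMap.ker u)) := by
  have h1 : ∀ I' : Ideal A, 1 ≤ LocCoh.idealDepth I' E0 → 1 ≤ LocCoh.idealDepth I' (LinearMap.ker u) := by
    intro I' h
    obtain ⟨x, hx, hreg⟩ := DepthLib.one_le_idealDepth_iff.mp h
    exact DepthLib.one_le_idealDepth_iff.mpr ⟨x, hx, hreg.submodule _ _⟩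
  refine ⟨h1 I, fun h2 h2' => ?_⟩
  obtain ⟨x, hx, hreg⟩ := DepthLib.one_le_idealDepth_iff.mp h2'
  have hrange : 1 ≤ LocCoh.idealDepth I (LinearMap.range u) :=
    DepthLib.one_le_idealDepth_iff.mpr ⟨x, hx, hreg.submodule _ _⟩
  exact_mod_cast DepthLib.natCast_le_idealDepth_left (n := 1) (f := (LinearMap.ker u).subtype)
    (g := u.rangeRestrict) (Submodule.injective_subtype _) u.surjective_rangeRestrict
    (LinearMap.exact_iff.mpr (by rw [Submodule.range_subtype, LinearMap.ker_rangeRestrict]))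
    (by exact_mod_cast h2) (by exact_mod_cast hrange)

end Groth.Agent.S18700
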