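import Groth.Statements.S18701
import Groth.Agent.DepthLib.Kernel
import Groth.Agent.DepthLib.SkHom

set_option autoImplicit false
universe u
open QGor

namespace Groth.Agent.S18701

/-- Affine form. Let A be a Noetherian ring and G the kernel of a linear map u : E⁰ → E¹ of finite
A-modules. If E⁰ has (S_1) then G has (S_1). If Supp G ⊆ Supp E¹, E¹ has (S_1) and E⁰ has (S_2),
then G has (S_2). -/
theorem result (A : Type u) [CommRing A] [IsNoetherianRing A]
    (E0 E1 : Type u) [AddCommGroup E0] [Module A E0] [Module.Finite A E0] [AddCommGroup E1] [Module A E1]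
    [Module.Finite A E1] (u : E0 →ₗ[A] E1) :
    (LocCoh.HasSk 1 A E0 → LocCoh.HasSk 1 A (LinearMap.ker u)) ∧
    (Module.support A (LinearMap.ker u) ⊆ Module.support A E1 → LocCoh.HasSk 1 A E1 → LocCoh.HasSk 2 A E0 →
      LocCoh.HasSk 2 A (LinearMap.ker u)) := by
  constructor
  · intro h
    rw [DepthLib.hasSk_one_iff] at h ⊢
    intro p hp q hq
    exact h p (associatedPrimes.subset_of_injective (Submodule.injective_subtype _) hp)
      q (associatedPrimes.subset_of_injective (Submodule.injective_subtype _) hq)
  · intro hsupp h1 h2 p _
    let i := LocalizedModule.map p.primeCompl (LinearMap.ker u).subtype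
    let g := LocalizedModule.map p.primeCompl u
    have hi : Function.Injective i := LocalizedModule.map_injective _ _ (Submodule.injective_subtype _)
    have hex : Function.Exact i g := LocalizedModule.map_exact _ _ _ (LinearMap.exact_subtype_ker_map u)
    set Gp := LocalizedModule p.primeCompl (LinearMap.ker u)
    set d0 := LocCoh.depth (Localization.AtPrime p) (LocalizedModule p.primeCompl E0) with hd0
    set d1 := LocCoh.depth (Localization.AtPrime p) (LocalizedModule p.primeCompl E1) with hd1
    have hX0 : Module.supportDim (Localization.AtPrime p) Gp ≤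
        Module.supportDim (Localization.AtPrime p) (LocalizedModule p.primeCompl E0) :=
      Module.supportDim_le_of_injective i hi
    have hX1 : Module.supportDim (Localization.AtPrime p) Gp ≤
        Module.supportDim (Localization.AtPrime p) (LocalizedModule p.primeCompl E1) :=
      DepthLib.supportDim_mono_of_support_subset (DepthLib.support_localization_mono hsupp p)
    refine DepthLib.withBot_le_coe (k := 2) (a := min d0 (d1 + 1)) (min_le_left _ _) ?_ fun n hn hna => ?_
    · rw [WithBot.coe_min, WithBot.coe_add, WithBot.coe_one]
      refine le_min ((min_le_min le_rfl hX0).trans (h2 p)) ?_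
      refine le_trans ?_ (add_le_add (h1 p) (le_refl (1 : WithBot ℕ∞)))
      rcases le_total ((1 : ℕ) : WithBot ℕ∞)
          (Module.supportDim (Localization.AtPrime p) (LocalizedModule p.primeCompl E1)) with hc | hc
      · rw [min_eq_left hc]
        exact (min_le_left _ _).trans (by norm_num)
      · rw [min_eq_right hc]
        exact (min_le_right _ _).trans (hX1.trans (le_add_of_nonneg_right (by norm_num)))
    · obtain ⟨hn0, hn1⟩ := le_min_iff.mp hna
      rcases n with _ | _ | _ | n
      · simp
      · exact DepthLib.one_le_idealDepth_of_injective i hi (by simpa [hd0, LocCoh.depth] using hn0)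
      · refine DepthLib.two_le_idealDepth_of_exact i g hi hex (by simpa [hd0, LocCoh.depth] using hn0) ?_
        have : ((1 : ℕ) : ℕ∞) + 1 ≤ d1 + 1 := by norm_num at hn1 ⊢; exact hn1
        exact_mod_cast (ENat.add_le_add_iff_right ENat.one_ne_top).mp this
      · omega

end Groth.Agent.S18701
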