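import Groth.Statements.S18703
import Groth.Agent.DepthLib.Reflexive

set_option autoImplicit false
universe u
open QGor

namespace Groth.Agent.S18703

/-- Affine form. Let A be a Noetherian ring and I an ideal with depth_I A ≥ 1. Let G be a finite
A-module such that G_p is a reflexive A_p-module for every prime p not containing I (G is reflexive
off V(I)). If depth_I G ≥ 2, then G is reflexive. -/
theorem result (A : Type u) [CommRing A] [IsNoetherianRing A] (I : Ideal A)
    (hA : 1 ≤ LocCoh.idealDepth I A)
    (G : Type u) [AddCommGroup G] [Module A G] [Module.Finite A G]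
    (hU : ∀ p : PrimeSpectrum A, ¬ I ≤ p.asIdeal →
      Module.IsReflexive (Localization.AtPrime p.asIdeal) (LocalizedModule p.asIdeal.primeCompl G))
    (hG : 2 ≤ LocCoh.idealDepth I G) : Module.IsReflexive A G := by
  refine DepthLib.isReflexive_of_forall_localization fun p hp => ?_
  by_cases hle : I ≤ p
  · refine Or.inr ⟨hG.trans (DepthLib.idealDepth_le_depth_localization p hle),
      (hA.trans (DepthLib.idealDepth_le_depth_localization p hle)).trans
        (DepthLib.depth_localization_self p).le⟩
  · exact Or.inl (hU ⟨p, hp⟩ hle)

end Groth.Agent.S18703
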