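import Groth.Statements.S18704
import Groth.Agent.DepthLib.Reflexive

set_option autoImplicit false
universe u
open QGor

namespace Groth.Agent.S18704

/-- Affine form. Let A be a Noetherian ring with Serre's condition (S_2), I an ideal with ht I ≥ 2
(every prime containing I has height ≥ 2), and G a finite A-module with G_p reflexive for every
prime p not containing I. Then the following are equivalent: (i) G has (S_2) and dim Supp(G_p) ≥ 2
for every prime p ⊇ I in Supp G; (ii) depth_I G ≥ 2; (iii) G is reflexive. -/
theorem result (A : Type u) [CommRing A] [IsNoetherianRing A]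
    (hA : LocCoh.HasSk 2 A A) (I : Ideal A) (hI : 2 ≤ I.height)
    (G : Type u) [AddCommGroup G] [Module A G] [Module.Finite A G]
    (hU : ∀ p : PrimeSpectrum A, ¬ I ≤ p.asIdeal →
      Module.IsReflexive (Localization.AtPrime p.asIdeal) (LocalizedModule p.asIdeal.primeCompl G)) :
    ((LocCoh.HasSk 2 A G ∧ ∀ p : PrimeSpectrum A, I ≤ p.asIdeal → p ∈ Module.support A G →
        (2 : WithBot ℕ∞) ≤ Module.supportDim (Localization.AtPrime p.asIdeal) (LocalizedModule p.asIdeal.primeCompl G)) ↔
      2 ≤ LocCoh.idealDepth I G) ∧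
    (2 ≤ LocCoh.idealDepth I G ↔ Module.IsReflexive A G) := by
  have hIA : 2 ≤ LocCoh.idealDepth I A := by
    rw [DepthLib.idealDepth_eq_iInf]
    refine le_iInf₂ fun p hp => ?_
    have h := hA p.asIdeal
    rw [DepthLib.supportDim_localization_self] at h
    rw [min_eq_left (show ((2 : ℕ) : WithBot ℕ∞) ≤ p.asIdeal.height from
      WithBot.coe_le_coe.mpr (hI.trans (Ideal.height_mono hp)))] at h
    exact WithBot.coe_le_coe.mp h
  have hiii : 2 ≤ LocCoh.idealDepth I G ↔ Module.IsReflexive A G := by
    refine ⟨fun hG => DepthLib.isReflexive_of_forall_localization fun p hp => ?_, fun hr => ?_⟩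
    · by_cases hle : I ≤ p
      · exact Or.inr ⟨hG.trans (DepthLib.idealDepth_le_depth_localization p hle),
          ((le_trans one_le_two hIA).trans (DepthLib.idealDepth_le_depth_localization p hle)).trans
            (DepthLib.depth_localization_self p).le⟩
      · exact Or.inl (hU ⟨p, hp⟩ hle)
    · rw [DepthLib.idealDepth_congr (Module.evalEquiv A G)]
      exact DepthLib.two_le_idealDepth_linearMap hIA
  refine ⟨⟨fun ⟨hS, hdim⟩ => ?_, fun hG => ?_⟩, hiii⟩
  · rw [DepthLib.idealDepth_eq_iInf]
    refine le_iInf₂ fun p hp => ?_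
    by_cases hsupp : p ∈ Module.support A G
    · have h := hS p.asIdeal
      rw [min_eq_left (show ((2 : ℕ) : WithBot ℕ∞) ≤ _ from hdim p hp hsupp)] at h
      exact WithBot.coe_le_coe.mp h
    · haveI := Module.notMem_support_iff.mp hsupp
      rw [DepthLib.depth_eq_top_of_subsingleton]; exact le_top
  · haveI := hiii.mp hG
    refine ⟨DepthLib.hasSk_congr (Module.evalEquiv A G).symm (DepthLib.hasSk_linearMap le_rfl hA), ?_⟩
    intro p hp hsupp
    haveI : Nontrivial (LocalizedModule p.asIdeal.primeCompl G) := hsupp
    exact (WithBot.coe_le_coe.mpr (hG.trans (DepthLib.idealDepth_le_depth_localization p.asIdeal hp))).trans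
      (DepthLib.depth_le_supportDim _)

end Groth.Agent.S18704
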