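import Groth.Statements.S18708
import Groth.Agent.S18700
import Groth.Agent.FlatSerre.OffClosedSeq

set_option autoImplicit false
universe u
open QGor

namespace Groth.Agent.S18708

/-- Affine-local form at a point of the equivalence (b) ⇔ (c) ⇔ (b″) and of the note after it. Let A → B
be a local homomorphism of Noetherian local rings, m the maximal ideal of A, J an ideal of B and 0 →
F → E⁰ → E¹ → G → 0 an exact sequence of finite B-modules with E⁰, E¹ flat over A, G_q flat over A
for every prime q not containing J, depth_J (E⁰/mE⁰) ≥ 2 and depth_J (E¹/mE¹) ≥ 1. Then depth_J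
(F/mF) ≥ 2 (the restriction map of the closed fibre of F off V(J) is bijective) if and only if G is
flat over A, if and only if depth_J (F/m^(n+1)F) ≥ 2 for all n; and when G is flat over A so is F. -/
theorem result (A B : Type u) [CommRing A] [CommRing B]
    [IsNoetherianRing A] [IsNoetherianRing B] [IsLocalRing A] [IsLocalRing B] [Algebra A B]
    [IsLocalHom (algebraMap A B)] (J : Ideal B)
    (F E0 E1 G : Type u) [AddCommGroup F] [Module B F] [Module A F] [IsScalarTower A B F] [Module.Finite B F]
    [AddCommGroup E0] [Module B E0] [Module A E0] [IsScalarTower A B E0] [Module.Finite B E0] [Module.Flat A E0]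
    [AddCommGroup E1] [Module B E1] [Module A E1] [IsScalarTower A B E1] [Module.Finite B E1] [Module.Flat A E1]
    [AddCommGroup G] [Module B G] [Module A G] [IsScalarTower A B G] [Module.Finite B G]
    (f : F →ₗ[B] E0) (u : E0 →ₗ[B] E1) (v : E1 →ₗ[B] G)
    (hf : Function.Injective f) (hfu : Function.Exact f u) (huv : Function.Exact u v) (hv : Function.Surjective v)
    (hGU : ∀ q : PrimeSpectrum B, ¬ J ≤ q.asIdeal → FlatCA.FlatAt A q.asIdeal G)
    (h0 : 2 ≤ LocCoh.idealDepth J (EGA4.FibMod A B E0)) (h1 : 1 ≤ LocCoh.idealDepth J (EGA4.FibMod A B E1)) :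
    (2 ≤ LocCoh.idealDepth J (EGA4.FibMod A B F) ↔ Module.Flat A G) ∧
    (Module.Flat A G ↔ ∀ n : ℕ, 2 ≤ LocCoh.idealDepth J (F ⧸ ((EGA4.mB A B) ^ (n + 1) • (⊤ : Submodule B F)))) ∧
    (Module.Flat A G → Module.Flat A F) := by
  let g : E1 →ₗ[B] G := v
  let K : Submodule B E1 := LinearMap.range u
  let u' : E0 →ₗ[B] K := u.rangeRestrict
  let ι : K →ₗ[B] E1 := K.subtype
  have hfu' : Function.Exact f u' := LinearMap.exact_iff.mpr (by
    rw [LinearMap.ker_rangeRestrict]; exact hfu.linearMap_ker_eq)
  have hu' : Function.Surjective u' := u.surjective_rangeRestrict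
  have hι : Function.Injective ι := Subtype.val_injective
  have hιv : Function.Exact ι v := LinearMap.exact_iff.mpr (by
    rw [Submodule.range_subtype]; exact huv.linearMap_ker_eq)
  have hflat : Module.Flat A G → Module.Flat A K ∧ Module.Flat A F := fun _ => by
    haveI : Module.Flat A K := Groth.Agent.FlatSerre.flat_of_exact (ι.restrictScalars A) (v.restrictScalars A) hι hιv hv
    exact ⟨‹_›, Groth.Agent.FlatSerre.flat_of_exact (f.restrictScalars A) (u'.restrictScalars A) hf hfu' hu'⟩
  have A1 : Module.Flat A G → 2 ≤ LocCoh.idealDepth J (EGA4.FibMod A B F) := fun hG => by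
    obtain ⟨_, -⟩ := hflat hG
    let u0 := (Groth.Agent.FlatSerre.fibMap (A := A) ι) ∘ₗ (Groth.Agent.FlatSerre.fibMap (A := A) u')
    have hi := Groth.Agent.FlatSerre.fibMap_injective_of_flat (A := A) f u' hf hfu' hu'
    have hi' := Groth.Agent.FlatSerre.fibMap_injective_of_flat (A := A) ι v hι hιv hv
    have hker : LinearMap.ker u0 = LinearMap.range (Groth.Agent.FlatSerre.fibMap (A := A) f) := by
      rw [LinearMap.ker_comp_of_ker_eq_bot _ (LinearMap.ker_eq_bot.mpr hi')]
      exact (Groth.Agent.FlatSerre.fibMap_exact (A := A) f u' hfu' hu').linearMap_ker_eq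
    rw [Groth.Agent.DepthLib.idealDepth_congr ((LinearEquiv.ofInjective _ hi).trans (LinearEquiv.ofEq _ _ hker.symm))]
    exact (Groth.Agent.S18700.result B J _ _ u0).2 h0 h1
  have A2 : 2 ≤ LocCoh.idealDepth J (EGA4.FibMod A B F) → Module.Flat A G := fun h2 => by
    have hK : ∀ q : PrimeSpectrum B, ¬ J ≤ q.asIdeal → FlatCA.FlatAt A q.asIdeal K := fun q hq =>
      Groth.Agent.FlatSerre.flatAt_of_exact ι v hι hιv hv q.asIdeal (hGU q hq)
        (Groth.Agent.FlatSerre.flatAt_of_flat q.asIdeal)
    have hi := Groth.Agent.FlatSerre.fibMap_injective_of_depth (A := A) f u' hf hfu' hu' hK (le_trans one_le_two h2)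
    haveI : Module.Flat A K := Groth.Agent.FlatSerre.flat_of_fibMap_injective f u' hfu' hu' hi
    have hK1 : (1 : ℕ∞) ≤ LocCoh.idealDepth J (EGA4.FibMod A B K) := by
      exact_mod_cast Groth.Agent.DepthLib.natCast_le_idealDepth_right (n := 1) hi
        (Groth.Agent.FlatSerre.fibMap_surjective (A := A) u' hu')
        (Groth.Agent.FlatSerre.fibMap_exact (A := A) f u' hfu' hu')
        (by exact_mod_cast le_trans one_le_two h0) (by exact_mod_cast h2)
    exact Groth.Agent.FlatSerre.flat_of_fibMap_injective ι v hιv hv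
      (Groth.Agent.FlatSerre.fibMap_injective_of_depth (A := A) ι v hι hιv hv hGU hK1)
  refine ⟨⟨A2, A1⟩, ⟨fun hG n => ?_, fun h => A2 ?_⟩, fun hG => (hflat hG).2⟩
  · haveI := (hflat hG).2
    rw [EGA4.mB, ← Ideal.map_pow]
    exact Groth.Agent.FlatSerre.natCast_le_idealDepth_quot_pow (A := A) 2 (A1 hG) _
  · have h := h 0
    rwa [Groth.Agent.DepthLib.idealDepth_congr (Submodule.quotEquivOfEq _ (EGA4.mB A B • ⊤ : Submodule B F)
      (by rw [zero_add, pow_one]))] at h

end Groth.Agent.S18708
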