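import Groth.Statements.S18710
import Groth.Agent.DepthLib.FlatDepth

set_option autoImplicit false
universe u
open QGor

namespace Groth.Agent.S18710

open TensorProduct in
/-- Affine form. Let A → B be a flat homomorphism of Noetherian rings and I an ideal of A with V(I)
contained in the image of Spec B → Spec A (every prime containing I is a contraction of a prime of
B). Then ht(IB) = ht(I) (codimension of the preimage equals codimension), and for every finite
A-module G one has depth_{IB} (B ⊗_A G) = depth_I G. -/
theorem result (A B : Type u) [CommRing A] [CommRing B]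
    [IsNoetherianRing A] [IsNoetherianRing B] [Algebra A B] [Module.Flat A B] (I : Ideal A)
    (hI : ∀ p : PrimeSpectrum A, I ≤ p.asIdeal → ∃ q : PrimeSpectrum B, q.asIdeal.comap (algebraMap A B) = p.asIdeal)
    (G : Type u) [AddCommGroup G] [Module A G] [Module.Finite A G] :
    (I.map (algebraMap A B)).height = I.height ∧
    LocCoh.idealDepth (I.map (algebraMap A B)) (B ⊗[A] G) = LocCoh.idealDepth I G := by
  have hI' : ∀ p : Ideal A, p.IsPrime → I ≤ p → p.map (algebraMap A B) ≠ ⊤ := fun p hp hle =>
    DepthLib.map_ne_top_of_exists_comap_eq (let ⟨q, hq⟩ := hI ⟨p, hp⟩ hle; ⟨q.asIdeal, q.isPrime, hq⟩)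
  refine ⟨le_antisymm ?_ ?_, DepthLib.idealDepth_baseChange_eq hI'⟩
  · rw [Ideal.height_eq_inf_minimalPrimes (I := I)]
    refine le_iInf₂ fun p hp => ?_
    haveI := hp.isPrime
    obtain ⟨q₀, hq₀⟩ := hI ⟨p, hp.isPrime⟩ hp.le
    obtain ⟨q, hq, hle⟩ := Ideal.exists_minimalPrimes_le (Ideal.map_le_iff_le_comap.mpr hq₀.ge)
    haveI := hq.isPrime
    haveI := DepthLib.liesOver_of_mem_minimalPrimes_map (p := p) hq hle hq₀
    exact (Ideal.height_mono ((Ideal.map_mono hp.le).trans hq.le)).trans
      (DepthLib.height_eq_of_mem_minimalPrimes_map p q hq).le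
  · rw [Ideal.height_eq_inf_minimalPrimes (I := I.map (algebraMap A B))]
    refine le_iInf₂ fun q hq => ?_
    haveI := hq.isPrime
    have hle : I ≤ q.under A := Ideal.map_le_iff_le_comap.mp hq.le
    rw [Ideal.height_eq_height_add_of_liesOver_of_hasGoingDown (q.under A) q]
    exact (Ideal.height_mono hle).trans le_self_add

end Groth.Agent.S18710
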