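import Groth.Statements.S18715
import Groth.Agent.DualCx.Existence
import Groth.Agent.DualCx.CMLocus
import Groth.Agent.S2710
import Groth.Agent.DepthLib.CohenMacaulay
-- import your own Groth.Agent.* helpers here

set_option autoImplicit false
universe u
open CategoryTheory
attribute [local instance] HasDerivedCategory.standard
open QGor

namespace Groth.Agent.S18715

/-- Affine form. Let A be a Noetherian ring with a dualizing complex ω and M a finite A-module. For
every k ≥ 1 the S_k-locus {p : M_p satisfies (S_k) over A_p} is open in Spec A. (The Cohen–Macaulay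
and Gorenstein loci, also treated there, are separate known statements.) -/
theorem result (A : Type u) [CommRing A] [IsNoetherianRing A]
    (ω : Dual.D A) (hω : Dual.IsDualizing A ω) (M : Type u) [AddCommGroup M] [Module A M] [Module.Finite A M]
    (k : ℕ) (hk : 1 ≤ k) :
    IsOpen {p : PrimeSpectrum A | EGA4.HasSkAt k A M p.asIdeal} := by
  refine Groth.Agent.S2710.result k hk A (fun p _ => ?_) M
  have hs : Function.Surjective (Ideal.Quotient.mk p) := Ideal.Quotient.mk_surjective
  obtain ⟨ω₁, hω₁⟩ := Groth.Agent.DualCx.HasDC.of_surjective (A := A) ⟨ω, hω⟩ hs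
  obtain ⟨W, a, b, hW, hinj, hzero, ⟨e⟩⟩ := Groth.Agent.DualCx.exists_model hω₁.finite_injective_dimension
  haveI := hW
  haveI := hinj
  have hsupp : ∀ q : PrimeSpectrum (A ⧸ p), q ∈ Module.support (A ⧸ p) (A ⧸ p) := fun q =>
    Module.mem_support_iff_of_finite.2 (le_of_eq_of_le (Module.annihilator_eq_bot.2 inferInstance) bot_le)
  refine ⟨_, Groth.Agent.DualCx.isOpen_cm a b hω₁ hzero e (A ⧸ p), ?_, fun q hq => ?_⟩
  · refine ⟨⊥, Or.inr (Groth.Agent.DualCx.isCohenMacaulayModule_minimal (A ⧸ p) (hsupp _) fun r _ hr => le_antisymm hr bot_le)⟩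
  · haveI : IsNoetherianRing (Localization.AtPrime q.asIdeal) :=
      IsLocalization.isNoetherianRing q.asIdeal.primeCompl _ inferInstance
    haveI : Nontrivial (LocalizedModule q.asIdeal.primeCompl (A ⧸ p)) := Module.mem_support_iff.1 (hsupp q)
    haveI : Module.Finite (Localization.AtPrime q.asIdeal) (LocalizedModule q.asIdeal.primeCompl (A ⧸ p)) :=
      Module.Finite.of_isLocalizedModule q.asIdeal.primeCompl (LocalizedModule.mkLinearMap q.asIdeal.primeCompl (A ⧸ p))
    rcases hq with hq | hq
    · exact absurd hq (not_subsingleton_iff_nontrivial.2 inferInstance)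
    · exact Groth.Agent.DepthLib.hasSk_of_isCohenMacaulayModule hq k

end Groth.Agent.S18715
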