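import Groth.Statements.S18725
import Groth.Agent.S18708
import Groth.Agent.FlatSerre.OffClosedAt
import Groth.Agent.FlatDescent.Presentation

set_option autoImplicit false
universe u
open QGor

namespace Groth.Agent.S18725

open Groth.Agent.FlatSerre in
/-- The criterion at one prime. -/
theorem local_aux (A B : Type u) [CommRing A] [CommRing B]
    [IsNoetherianRing A] [IsNoetherianRing B] [Algebra A B] (J : Ideal B)
    (F E0 E1 G : Type u) [AddCommGroup F] [Module B F] [Module A F] [IsScalarTower A B F] [Module.Finite B F]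
    [AddCommGroup E0] [Module B E0] [Module A E0] [IsScalarTower A B E0] [Module.Finite B E0] [Module.Flat A E0]
    [AddCommGroup E1] [Module B E1] [Module A E1] [IsScalarTower A B E1] [Module.Finite B E1] [Module.Flat A E1]
    [AddCommGroup G] [Module B G] [Module A G] [IsScalarTower A B G] [Module.Finite B G]
    (f : F →ₗ[B] E0) (u : E0 →ₗ[B] E1) (v : E1 →ₗ[B] G)
    (hf : Function.Injective f) (hfu : Function.Exact f u) (huv : Function.Exact u v) (hv : Function.Surjective v)
    (hGU : ∀ q : PrimeSpectrum B, ¬ J ≤ q.asIdeal → FlatCA.FlatAt A q.asIdeal G)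
    (h0 : ∀ q : PrimeSpectrum B, J ≤ q.asIdeal →
      2 ≤ LocCoh.idealDepth (q.asIdeal.map (algebraMap B (EGA4.FibLocRing A B q.asIdeal))) (EGA4.FibLocMod A B q.asIdeal E0))
    (h1 : ∀ q : PrimeSpectrum B, J ≤ q.asIdeal →
      1 ≤ LocCoh.idealDepth (q.asIdeal.map (algebraMap B (EGA4.FibLocRing A B q.asIdeal))) (EGA4.FibLocMod A B q.asIdeal E1))
    (n : Ideal B) [n.IsPrime] :
    (FlatCA.FlatAt A n G → FlatCA.FlatAt A n F ∧ ∀ q : PrimeSpectrum B, q.asIdeal ≤ n → J ≤ q.asIdeal →
        q.asIdeal.comap (algebraMap A B) = n.comap (algebraMap A B) →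
        2 ≤ LocCoh.idealDepth (q.asIdeal.map (algebraMap B (EGA4.FibLocRing A B q.asIdeal))) (EGA4.FibLocMod A B q.asIdeal F)) ∧
    ((∀ q : PrimeSpectrum B, q.asIdeal ≤ n → J ≤ q.asIdeal →
        2 ≤ LocCoh.idealDepth (q.asIdeal.map (algebraMap B (EGA4.FibLocRing A B q.asIdeal))) (EGA4.FibLocMod A B q.asIdeal F)) →
      FlatCA.FlatAt A n G) := by
  let p := n.comap (algebraMap A B)
  let Ap := Localization.AtPrime p
  let Bn := Localization.AtPrime n
  letI : Algebra Ap Bn := (Localization.localRingHom p n (algebraMap A B) rfl).toAlgebra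
  haveI : IsScalarTower A Ap Bn := .of_algebraMap_eq fun x => by
    rw [RingHom.algebraMap_toAlgebra, Localization.localRingHom_to_map, ← IsScalarTower.algebraMap_apply]
  haveI : IsLocalHom (algebraMap Ap Bn) := Localization.isLocalHom_localRingHom p n (algebraMap A B) rfl
  letI mF : Module Ap (LocalizedModule n.primeCompl F) := Module.compHom _ (algebraMap Ap Bn)
  letI m0 : Module Ap (LocalizedModule n.primeCompl E0) := Module.compHom _ (algebraMap Ap Bn)
  letI m1 : Module Ap (LocalizedModule n.primeCompl E1) := Module.compHom _ (algebraMap Ap Bn)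
  letI mG : Module Ap (LocalizedModule n.primeCompl G) := Module.compHom _ (algebraMap Ap Bn)
  have tw : ∀ (X : Type u) [AddCommGroup X] [Module B X] [Module A X] [IsScalarTower A B X]
      [Module Ap (LocalizedModule n.primeCompl X)] [IsScalarTower Ap Bn (LocalizedModule n.primeCompl X)],
      IsScalarTower A Ap (LocalizedModule n.primeCompl X) := fun X _ _ _ _ _ _ => .of_algebraMap_smul fun r x => by
    haveI := isScalarTower_localizedModule (A := A) X n
    rw [← algebraMap_smul Bn (algebraMap A Ap r) x, ← IsScalarTower.algebraMap_apply, algebraMap_smul]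
  haveI : IsScalarTower Ap Bn (LocalizedModule n.primeCompl F) := .of_algebraMap_smul fun _ _ => rfl
  haveI : IsScalarTower Ap Bn (LocalizedModule n.primeCompl E0) := .of_algebraMap_smul fun _ _ => rfl
  haveI : IsScalarTower Ap Bn (LocalizedModule n.primeCompl E1) := .of_algebraMap_smul fun _ _ => rfl
  haveI : IsScalarTower Ap Bn (LocalizedModule n.primeCompl G) := .of_algebraMap_smul fun _ _ => rfl
  haveI := tw F; haveI := tw E0; haveI := tw E1; haveI := tw G
  haveI : Module.Finite Bn (LocalizedModule n.primeCompl F) := Module.Finite.of_isLocalizedModule n.primeCompl (LocalizedModule.mkLinearMap n.primeCompl F)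
  haveI : Module.Finite Bn (LocalizedModule n.primeCompl E0) := Module.Finite.of_isLocalizedModule n.primeCompl (LocalizedModule.mkLinearMap n.primeCompl E0)
  haveI : Module.Finite Bn (LocalizedModule n.primeCompl E1) := Module.Finite.of_isLocalizedModule n.primeCompl (LocalizedModule.mkLinearMap n.primeCompl E1)
  haveI : Module.Finite Bn (LocalizedModule n.primeCompl G) := Module.Finite.of_isLocalizedModule n.primeCompl (LocalizedModule.mkLinearMap n.primeCompl G)
  haveI : Module.Flat A (LocalizedModule n.primeCompl E0) := flat_localizedModule n.primeCompl E0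
  haveI : Module.Flat A (LocalizedModule n.primeCompl E1) := flat_localizedModule n.primeCompl E1
  haveI : Module.Flat Ap (LocalizedModule n.primeCompl E0) := (Module.flat_iff_of_isLocalization Ap p.primeCompl _).2 inferInstance
  haveI : Module.Flat Ap (LocalizedModule n.primeCompl E1) := (Module.flat_iff_of_isLocalization Ap p.primeCompl _).2 inferInstance
  let J' : Ideal Bn := J.map (algebraMap B Bn)
  have hG' : ∀ Q : PrimeSpectrum Bn, ¬ J' ≤ Q.asIdeal → FlatCA.FlatAt Ap Q.asIdeal (LocalizedModule n.primeCompl G) := by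
    intro Q hQ
    haveI := flat_localized_twice (A := A) G n Q.asIdeal
      (hGU ⟨Q.asIdeal.comap (algebraMap B Bn), inferInstance⟩ fun h => hQ (Ideal.map_le_iff_le_comap.mpr h))
    exact (Module.flat_iff_of_isLocalization Ap p.primeCompl _).2 inferInstance
  have hfib : ∀ (X : Type u) [AddCommGroup X] [Module B X] [Module A X] [IsScalarTower A B X] [Module.Finite B X] (k : ℕ),
      (k : ℕ∞) ≤ LocCoh.idealDepth J' (EGA4.FibMod Ap Bn (LocalizedModule n.primeCompl X)) ↔
        ∀ q : PrimeSpectrum B, q.asIdeal ≤ n → J ≤ q.asIdeal → q.asIdeal.comap (algebraMap A B) = p →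
          (k : ℕ∞) ≤ LocCoh.idealDepth (q.asIdeal.map (algebraMap B (EGA4.FibLocRing A B q.asIdeal))) (EGA4.FibLocMod A B q.asIdeal X) := by
    intro X _ _ _ _ _ k
    rw [← natCast_le_idealDepth_fibLocMod_iff (A := A) X n J k, Groth.Agent.DepthLib.idealDepth_congr
      (Submodule.quotEquivOfEq (EGA4.mB Ap Bn • ⊤ : Submodule Bn (LocalizedModule n.primeCompl X))
        (p.map (algebraMap A Bn) • ⊤) (by
          rw [EGA4.mB, ← Localization.AtPrime.map_eq_maximalIdeal, Ideal.map_map, ← IsScalarTower.algebraMap_eq]))]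
  have H := S18708.result Ap Bn J' _ _ _ _ (LocalizedModule.map n.primeCompl f) (LocalizedModule.map n.primeCompl u)
    (LocalizedModule.map n.primeCompl v) (LocalizedModule.map_injective _ f hf) (LocalizedModule.map_exact _ f u hfu)
    (LocalizedModule.map_exact _ u v huv) (LocalizedModule.map_surjective _ v hv) hG'
    (by exact_mod_cast (hfib E0 2).mpr fun q _ hJ _ => by exact_mod_cast h0 q hJ)
    (by exact_mod_cast (hfib E1 1).mpr fun q _ hJ _ => by exact_mod_cast h1 q hJ)
  have hflatG : FlatCA.FlatAt A n G ↔ Module.Flat Ap (LocalizedModule n.primeCompl G) :=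
    (Module.flat_iff_of_isLocalization Ap p.primeCompl _).symm
  refine ⟨fun h => ⟨?_, fun q hqn hJ hqp => ?_⟩, fun h => hflatG.mpr (H.1.mp ?_)⟩
  · exact (Module.flat_iff_of_isLocalization Ap p.primeCompl _).1 (H.2.2 (hflatG.mp h))
  · exact_mod_cast (hfib F 2).mp (by exact_mod_cast H.1.mpr (hflatG.mp h)) q hqn hJ hqp
  · exact_mod_cast (hfib F 2).mpr fun q hqn hJ _ => by exact_mod_cast h q hqn hJ


/-- Affine form of the equivalence (c) ⇔ (d). Let A → B be a homomorphism of finite type between
Noetherian rings, J an ideal of B and 0 → F → E⁰ → E¹ → G → 0 an exact sequence of finite B-modules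
such that E⁰, E¹ are flat over A, G_q is flat over A for every prime q not containing J, and for
every prime q ⊇ J with contraction p the fibre stalk E⁰_q/pE⁰_q has depth ≥ 2 and E¹_q/pE¹_q has
depth ≥ 1. Then for a prime n of B the following are equivalent: G is flat over A at n; there is a
basic open neighbourhood D(s) of n such that at every prime q ∈ D(s) the module F is flat over A at
q and, if q ⊇ J, the fibre stalk F_q/pF_q has depth ≥ 2 (the restriction maps of the fibres of F off
V(J) are bijective on D(s)). -/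
theorem result (A B : Type u) [CommRing A] [CommRing B]
    [IsNoetherianRing A] [IsNoetherianRing B] [Algebra A B] (hft : Algebra.FiniteType A B) (J : Ideal B)
    (F E0 E1 G : Type u) [AddCommGroup F] [Module B F] [Module A F] [IsScalarTower A B F] [Module.Finite B F]
    [AddCommGroup E0] [Module B E0] [Module A E0] [IsScalarTower A B E0] [Module.Finite B E0] [Module.Flat A E0]
    [AddCommGroup E1] [Module B E1] [Module A E1] [IsScalarTower A B E1] [Module.Finite B E1] [Module.Flat A E1]
    [AddCommGroup G] [Module B G] [Module A G] [IsScalarTower A B G] [Module.Finite B G]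
    (f : F →ₗ[B] E0) (u : E0 →ₗ[B] E1) (v : E1 →ₗ[B] G)
    (hf : Function.Injective f) (hfu : Function.Exact f u) (huv : Function.Exact u v) (hv : Function.Surjective v)
    (hGU : ∀ q : PrimeSpectrum B, ¬ J ≤ q.asIdeal → FlatCA.FlatAt A q.asIdeal G)
    (h0 : ∀ q : PrimeSpectrum B, J ≤ q.asIdeal →
      2 ≤ LocCoh.idealDepth (q.asIdeal.map (algebraMap B (EGA4.FibLocRing A B q.asIdeal))) (EGA4.FibLocMod A B q.asIdeal E0))
    (h1 : ∀ q : PrimeSpectrum B, J ≤ q.asIdeal →
      1 ≤ LocCoh.idealDepth (q.asIdeal.map (algebraMap B (EGA4.FibLocRing A B q.asIdeal))) (EGA4.FibLocMod A B q.asIdeal E1))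
    (n : PrimeSpectrum B) :
    FlatCA.FlatAt A n.asIdeal G ↔
      ∃ s : B, s ∉ n.asIdeal ∧ ∀ q : PrimeSpectrum B, s ∉ q.asIdeal →
        FlatCA.FlatAt A q.asIdeal F ∧
        (J ≤ q.asIdeal →
          2 ≤ LocCoh.idealDepth (q.asIdeal.map (algebraMap B (EGA4.FibLocRing A B q.asIdeal))) (EGA4.FibLocMod A B q.asIdeal F)) := by
  have L := fun m : PrimeSpectrum B => local_aux A B J F E0 E1 G f u v hf hfu huv hv hGU h0 h1 m.asIdeal
  refine ⟨fun hn => ?_, fun ⟨s, hs, h⟩ => (L n).2 fun q hqn hJ => (h q fun hsq => hs (hqn hsq)).2 hJ⟩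
  haveI : Algebra.FinitePresentation A B := Algebra.FinitePresentation.of_finiteType.mp hft
  haveI : Module.FinitePresentation B G := Module.finitePresentation_of_finite B G
  obtain ⟨_, ⟨s, rfl⟩, hns, hsub⟩ := PrimeSpectrum.isTopologicalBasis_basic_opens.exists_subset_of_mem_open
    (show n ∈ {q : PrimeSpectrum B | FlatCA.FlatAt A q.asIdeal G} from hn) (Groth.FlatDescent.isOpen_flatLocus_fp A G)
  refine ⟨s, hns, fun q hq => ⟨((L q).1 (hsub hq)).1, fun hJ => ((L q).1 (hsub hq)).2 q le_rfl hJ rfl⟩⟩

end Groth.Agent.S18725
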