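import Groth.Statements.S18750
import Groth.Agent.BlowUpLib.Props2

set_option autoImplicit false
universe u
open CategoryTheory CategoryTheory.Limits AlgebraicGeometry TopologicalSpace
open ModPair

namespace Groth.Agent.S18750

/-- Let (S, I_S), (T, J), (X, I) be schemes with quasi-coherent ideal sheaves of effective Cartier
divisors and f : X ⟶ S, g : T ⟶ S morphisms satisfying the modulus condition, and let Y₀ be the
scheme-theoretic image of pr₁⁻¹(X°) ∩ pr₂⁻¹(T°) in X ×_S T. Then the ambient product exists: there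
are a blowing up π : Y ⟶ Y₀ of Y₀ in the sum of the two pulled-back moduli and an ideal sheaf K on Y
whose product with the exceptional ideal is the product of the pull-backs of I and J (the divisor
D_X + D_T − E exists). -/
theorem result {S T X : Scheme.{u}} (IS : S.IdealSheafData)
    (J : T.IdealSheafData) (I : X.IdealSheafData) (hS : BlowUp.IsEffCartierIdeal IS)
    (hT : BlowUp.IsEffCartierIdeal J) (hX : BlowUp.IsEffCartierIdeal I)
    (f : X ⟶ S) (hf : ModPair.IsAmbient I IS f) (g : T ⟶ S) (hg : ModPair.IsAmbient J IS g) :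
    ∃ (Y : Scheme.{u}) (π : Y ⟶ ModPair.mprod f g I J) (K : Y.IdealSheafData),
      ModPair.IsAmbProd f g I J π K := by
  obtain ⟨Y, π, hπ⟩ := Groth.Agent.BlowUpLib.exists_isBlowUp (ModPair.prodCentre f g I J)
  have hprod := Groth.Agent.ModPairBasic.ec_comap_image (O := ModPair.prodInterior f g I J)
    (Groth.Agent.ModPairBasic.isLocPrincipal_mul
      (Groth.Agent.ModPairBasic.isLocPrincipal_comap (Groth.Agent.ModPairBasic.isLocPrincipal_of_ec hX) (pullback.fst f g))
      (Groth.Agent.ModPairBasic.isLocPrincipal_comap (Groth.Agent.ModPairBasic.isLocPrincipal_of_ec hT) (pullback.snd f g)))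
    (Groth.Agent.ModPairBasic.prodInterior_eq f g I J)
  rw [Groth.Agent.BlowUpLib.comap_mul, ← Scheme.IdealSheafData.comap_comp,
    ← Scheme.IdealSheafData.comap_comp] at hprod
  have hA := Groth.Agent.ModPairBasic.ec_comap_of_isBlowUp hπ (Groth.Agent.BlowUpLib.ec_of_mul hprod)
  have hB := Groth.Agent.ModPairBasic.ec_comap_of_isBlowUp hπ
    (Groth.Agent.BlowUpLib.ec_of_mul (by rw [mul_comm]; exact hprod))
  have hsum : (ModPair.prodCentre f g I J).comap π = _ := Scheme.IdealSheafData.comap_sup ..
  obtain ⟨A', B', -, -, hA', -, -, -⟩ :=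
    Groth.Agent.ModPairBasic.exists_residual hA hB (hsum ▸ hπ.1)
  refine ⟨Y, π, A' * (J.comap (ModPair.mprodι f g I J ≫ pullback.snd f g)).comap π, hπ, ?_⟩
  rw [hsum, mul_right_comm, ← hA']

end Groth.Agent.S18750
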