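import Groth.Statements.S18739
import Groth.Agent.ModPairBasic.Localization
import Groth.Agent.S18750
-- import your own Groth.Agent.* helpers here

set_option autoImplicit false
universe u
open CategoryTheory CategoryTheory.Limits AlgebraicGeometry TopologicalSpace
open ModPair

namespace Groth.Agent.S18739

/-- The localization of the category of modulus pairs and ambient morphisms at the class of abstract
admissible blow-ups has all finite limits. -/
theorem result :
    HasFiniteLimits (ModPair.Pair.admBlowup.{u}).Localization := by
  have := Groth.Agent.S18738.result.{u}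
  obtain ⟨T, ⟨hT⟩⟩ := Groth.Agent.ModPairBasic.exists_terminal.{u}
  have := Groth.Agent.ModPairBasic.hasTerminal_of_fractions (ModPair.Pair.admBlowup.{u}) (ModPair.Pair.admBlowup.{u}).Q hT
  have : HasPullbacks (ModPair.Pair.admBlowup.{u}).Localization :=
    Groth.Agent.ModPairBasic.hasPullback_of_fractions (ModPair.Pair.admBlowup.{u}) (ModPair.Pair.admBlowup.{u}).Q
      fun {P T X} g f => by
        obtain ⟨Y, π, K, hY⟩ := Groth.Agent.S18750.result P.mod T.mod X.mod P.isEffCartier T.isEffCartier X.isEffCartier
          f.hom f.cond g.hom g.cond
        obtain ⟨hK, hX, hT', -⟩ := Groth.Agent.BlowUpLib.ambProd_props T.isEffCartier X.isEffCartier f.hom g.hom π K hY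
        exact ⟨_, _, _, Groth.Agent.ModPairBasic.isPullback_ambProd hY hK hX hT'⟩
  exact hasFiniteLimits_of_hasTerminal_and_pullbacks

end Groth.Agent.S18739
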