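import Groth.Statements.S18741
import Groth.Agent.SliceLoc.Basic

set_option autoImplicit false
universe v₁ v₂ v₃ u₁ u₂ u₃
open CategoryTheory
open ModPair

namespace Groth.Agent.S18741

/-- Let C be a category, W a class of morphisms of C admitting a calculus of right fractions, and S an
object of C; let W_S be the class of morphisms of the slice category over S whose underlying
morphism lies in W. Then the canonical functor from the localization of the slice category C/S at
W_S to the slice category over S of the localization of C at W is an equivalence: for every
localization functor L : C ⥤ D at W, every localization functor L' : C/S ⥤ E at W_S, and every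
functor Φ : E ⥤ D/L(S) through which the functor C/S ⥤ D/L(S) induced by L factors up to
isomorphism, Φ is an equivalence of categories. -/
theorem result {C : Type u₁}
    [Category.{v₁} C] (W : MorphismProperty C) [W.HasRightCalculusOfFractions] (S : C)
    {D : Type u₂} [Category.{v₂} D] (L : C ⥤ D) [L.IsLocalization W]
    {E : Type u₃} [Category.{v₃} E] (L' : Over S ⥤ E)
    [L'.IsLocalization (W.inverseImage (Over.forget S))]
    (Φ : E ⥤ Over (L.obj S)) (e : L' ⋙ Φ ≅ Over.post L) : Φ.IsEquivalence := by
  let P : ObjectProperty (Over S) := fun _ => True
  let F : Over S ⥤ P.FullSubcategory := P.lift (𝟭 _) (fun _ => trivial)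
  let eqv : P.FullSubcategory ≌ Over S :=
    { functor := P.ι, inverse := F, unitIso := Iso.refl _, counitIso := Iso.refl _ }
  have hL : (P.ι ⋙ L').IsLocalization (SliceLoc.WS W S P) := by
    have := Functor.IsLocalization.of_equivalence_source L' (W.inverseImage (Over.forget S)) (P.ι ⋙ L')
      (SliceLoc.WS W S P) eqv.symm
      (fun X Y f hf => MorphismProperty.le_isoClosure _ _ hf)
      (fun X Y f hf => Localization.inverts L' (W.inverseImage (Over.forget S)) _ hf)
      (Iso.refl _)
    exact this
  have h := SliceLoc.full_faithful (W := W) (L := L) (S := S) (P := P) (fun _ _ _ _ _ => trivial) (P.ι ⋙ L') Φ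
    (Functor.associator _ _ _ ≪≫ Functor.isoWhiskerLeft P.ι e)
  have := h.1
  have := h.2
  have := SliceLoc.essSurj_of_total (W := W) (L := L) (S := S) (P := P) (P.ι ⋙ L') Φ
    (Functor.associator _ _ _ ≪≫ Functor.isoWhiskerLeft P.ι e) (fun _ => trivial)
  exact { }

end Groth.Agent.S18741
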