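import Groth.Statements.S18748
import Groth.Agent.ModPairBasic.CoprodAdm
import Mathlib.CategoryTheory.Localization.FiniteProducts

set_option autoImplicit false
universe u
open CategoryTheory CategoryTheory.Limits AlgebraicGeometry TopologicalSpace
open ModPair

namespace Groth.Agent.S18748

/-- The localization of the category of modulus pairs and ambient morphisms at the class of abstract
admissible blow-ups has binary coproducts, and the localization functor carries the coproduct of two
modulus pairs (the disjoint union of the total spaces with the disjoint union of the moduli) to a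
coproduct. (The source also states that the interior functor detects these coproducts; that part is
not included.) -/
theorem result :
    HasBinaryCoproducts (ModPair.Pair.admBlowup.{u}).Localization ∧
      PreservesColimitsOfShape (Discrete WalkingPair) (ModPair.Pair.admBlowup.{u}).Q := by
  let W := ModPair.Pair.admBlowup.{u}
  have := ModPairBasic.respectsIso_admBlowup.{u}
  have : HasColimitsOfShape (Discrete WalkingPair) ModPair.Pair.{u} := by
    refine ⟨fun F => ?_⟩
    obtain ⟨c, ⟨hc⟩, -⟩ := ModPairBasic.exists_cofan (F.obj ∘ Discrete.mk)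
    have : HasCoproduct (F.obj ∘ Discrete.mk) := HasColimit.mk ⟨c, hc⟩
    exact hasColimit_of_iso Discrete.natIsoFunctor
  have := ModPairBasic.stableUnderCoproducts.{0, u} WalkingPair
  have : W.ContainsIdentities := ⟨fun P => ⟨(Scheme.IdealSheafData.comap_id P.mod).symm, inferInstanceAs (IsProper (𝟙 P.total)),
    inferInstanceAs (IsIso (𝟙 P.total ∣_ _))⟩⟩
  have hop : W.op.IsStableUnderProductsOfShape WalkingPair := by
    refine ⟨fun X₁ X₂ c₁ c₂ h₁ h₂ f hf α hα => ?_⟩
    let ε := (Discrete.opposite WalkingPair)
    have := this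
    exact ((inferInstance : W.IsStableUnderCoproductsOfShape WalkingPair).condition
      (Discrete.functor fun j => (X₂.obj ⟨j⟩).unop) (Discrete.functor fun j => (X₁.obj ⟨j⟩).unop)
      (Cofan.mk c₂.pt.unop fun j => (c₂.π.app ⟨j⟩).unop) (Cofan.mk c₁.pt.unop fun j => (c₁.π.app ⟨j⟩).unop)
      (Cofan.IsColimit.mk _ (fun s => (h₂.lift (Cone.mk (Opposite.op s.pt) (Discrete.natTrans fun j => (s.inj j.as).op))).unop)
        (fun s j => congrArg Quiver.Hom.unop (h₂.fac (Cone.mk (Opposite.op s.pt) (Discrete.natTrans fun j => (s.inj j.as).op)) ⟨j⟩))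
        (fun s m hm => Quiver.Hom.op_inj (h₂.uniq (Cone.mk (Opposite.op s.pt) (Discrete.natTrans fun j => (s.inj j.as).op)) m.op
          (fun j => congrArg Quiver.Hom.op (hm j.as)))))
      (Cofan.IsColimit.mk _ (fun s => (h₁.lift (Cone.mk (Opposite.op s.pt) (Discrete.natTrans fun j => (s.inj j.as).op))).unop)
        (fun s j => congrArg Quiver.Hom.unop (h₁.fac (Cone.mk (Opposite.op s.pt) (Discrete.natTrans fun j => (s.inj j.as).op)) ⟨j⟩))
        (fun s m hm => Quiver.Hom.op_inj (h₁.uniq (Cone.mk (Opposite.op s.pt) (Discrete.natTrans fun j => (s.inj j.as).op)) m.op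
          (fun j => congrArg Quiver.Hom.op (hm j.as)))))
      (Discrete.natTrans fun j => (f.app ⟨j.as⟩).unop) (fun j => hf ⟨j.as⟩) α.unop
      (fun j => congrArg Quiver.Hom.unop (hα ⟨j.as⟩)))
  have : HasBinaryProducts W.Localizationᵒᵖ :=
    Localization.hasProductsOfShape W.Q.op W.op WalkingPair
  have hp : PreservesLimitsOfShape (Discrete WalkingPair) W.Q.op :=
    Localization.preservesProductsOfShape W.Q.op W.op WalkingPair
  refine ⟨?_, ⟨fun {F} => ?_⟩⟩
  · have : HasLimitsOfShape (Discrete WalkingPair)ᵒᵖ W.Localizationᵒᵖ :=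
      hasLimitsOfShape_of_equivalence (Discrete.opposite WalkingPair).symm
    exact hasColimitsOfShape_of_hasLimitsOfShape_op
  · have : PreservesLimitsOfShape (Discrete WalkingPair)ᵒᵖ W.Q.op :=
      preservesLimitsOfShape_of_equiv (Discrete.opposite WalkingPair).symm _
    exact preservesColimit_of_op _ _

end Groth.Agent.S18748
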