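import Groth.Statements.S18753
import Mathlib
import Groth.Agent.IdealComap.Basic
-- import your own Groth.Agent.* helpers here

set_option autoImplicit false
universe u
open CategoryTheory CategoryTheory.Limits AlgebraicGeometry TopologicalSpace
open ModPair

namespace Groth.Agent.S18753

open scoped TensorProduct

/-- The criterion of quasi-finiteness over a semi-valuation ring. -/
theorem quasiFinite {O : Type u} [CommRing O] [IsLocalRing O] (R : ValuationSubring (IsLocalRing.ResidueField O))
    (f : ↥((R.toSubring).comap (IsLocalRing.residue O))) [IsLocalization.Away f O]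
    {B : Type u} [CommRing B] [Algebra ↥((R.toSubring).comap (IsLocalRing.residue O)) B]
    [Algebra.FiniteType ↥((R.toSubring).comap (IsLocalRing.residue O)) B]
    (hf : ∀ b : B, algebraMap _ B f * b = 0 → b = 0)
    [Algebra.QuasiFinite O (O ⊗[↥((R.toSubring).comap (IsLocalRing.residue O))] B)] :
    Algebra.QuasiFinite ↥((R.toSubring).comap (IsLocalRing.residue O)) B := by
  classical
  let A := ↥((R.toSubring).comap (IsLocalRing.residue O))
  let κ := IsLocalRing.ResidueField O
  refine ⟨fun P _ => ?_⟩
  by_cases hfP : f ∈ P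
  swap
  · -- a fibre over the interior is a fibre over `O`
    let lP : O →+* P.ResidueField := IsLocalization.Away.lift f (g := algebraMap A P.ResidueField)
      (isUnit_iff_ne_zero.mpr fun h => hfP (Ideal.algebraMap_residueField_eq_zero.mp h))
    letI : Algebra O P.ResidueField := lP.toAlgebra
    haveI : IsScalarTower A O P.ResidueField := IsScalarTower.of_algebraMap_eq fun a => (IsLocalization.Away.lift_eq f _ a).symm
    have h1 : Algebra.QuasiFinite P.ResidueField (P.ResidueField ⊗[O] (O ⊗[A] B)) := inferInstance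
    haveI := Module.Finite.of_quasiFinite (R := P.ResidueField) (S := P.ResidueField ⊗[O] (O ⊗[A] B))
    exact Module.Finite.equiv (Algebra.TensorProduct.cancelBaseChange A O P.ResidueField P.ResidueField B).toLinearEquiv
  -- the elements of the maximal ideal of `O` are divisible by all powers of `f`
  let M : Ideal A := RingHom.ker ((IsLocalRing.residue O).comp ((R.toSubring).comap (IsLocalRing.residue O)).subtype)
  have hM : ∀ a : A, a ∈ M ↔ IsLocalRing.residue O (a : O) = 0 := fun a => Iff.rfl
  have hfu : IsUnit (f : O) := IsLocalization.Away.algebraMap_isUnit (S := O) f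
  have hdiv : ∀ a ∈ M, ∀ n, ∃ a' ∈ M, a = f ^ n * a' := by
    intro a ha n
    have hr : IsLocalRing.residue O ((↑(hfu.pow n).unit⁻¹ : O) * (a : O)) = 0 := by rw [map_mul, (hM a).mp ha, mul_zero]
    refine ⟨⟨(↑(hfu.pow n).unit⁻¹ : O) * (a : O), by show IsLocalRing.residue O _ ∈ R; rw [hr]; exact zero_mem R⟩, hr, Subtype.ext ?_⟩
    show (a : O) = (f : O) ^ n * (_ * (a : O))
    rw [← mul_assoc, (hfu.pow n).mul_val_inv, one_mul]
  have hMP : M ≤ P := fun a ha => by
    obtain ⟨a', -, rfl⟩ := hdiv a ha 1
    rw [pow_one]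
    exact P.mul_mem_right _ hfP
  let MB : Ideal B := M.map (algebraMap A B)
  have hMB : ∀ (x : B) (n : ℕ), algebraMap A B f ^ n * x ∈ MB → x ∈ MB := by
    intro x n hx
    have h1 : MB ≤ Ideal.span {algebraMap A B f ^ n} * MB := by
      show M.map (algebraMap A B) ≤ _
      rw [Ideal.map_le_iff_le_comap]
      intro a ha
      obtain ⟨a', ha', rfl⟩ := hdiv a ha n
      rw [Ideal.mem_comap, map_mul, map_pow]
      exact Ideal.mul_mem_mul (Ideal.mem_span_singleton_self _) (Ideal.mem_map_of_mem _ ha')
    obtain ⟨y, hy, hxy⟩ := Ideal.mem_span_singleton_mul.mp (h1 hx)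
    have h2 : ∀ n z, algebraMap A B f ^ n * z = 0 → z = 0 := by
      intro n
      induction n with
      | zero => intro z hz; simpa using hz
      | succ n ih => intro z hz; exact hf z (ih _ (by rwa [← mul_assoc, ← pow_succ]))
    rw [show x = y from sub_eq_zero.mp (h2 n _ (by rw [mul_sub, hxy, sub_self]))]
    exact hy
  -- the algebra over the residue field of `O`
  let T := κ ⊗[A] B
  haveI : Algebra.QuasiFinite κ (κ ⊗[O] (O ⊗[A] B)) := inferInstance
  haveI := Module.Finite.of_quasiFinite (R := κ) (S := κ ⊗[O] (O ⊗[A] B))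
  haveI : Module.Finite κ T := Module.Finite.equiv (Algebra.TensorProduct.cancelBaseChange A O κ κ B).toLinearEquiv
  let Bm := Localization.Away (algebraMap A (B ⧸ MB) f)
  let lO : O →+* Bm := IsLocalization.Away.lift f (g := algebraMap A Bm) (by
    rw [IsScalarTower.algebraMap_apply A (B ⧸ MB) Bm]; exact IsLocalization.Away.algebraMap_isUnit _)
  have hlO : ∀ a : A, lO (a : O) = algebraMap A Bm a := fun a => IsLocalization.Away.lift_eq f _ a
  have hlO0 : ∀ o ∈ IsLocalRing.maximalIdeal O, lO o = 0 := by
    intro o ho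
    have hr : IsLocalRing.residue O o = 0 := (IsLocalRing.residue_eq_zero_iff o).mpr ho
    have ho' : o ∈ (R.toSubring).comap (IsLocalRing.residue O) := by
      show IsLocalRing.residue O o ∈ R
      rw [hr]; exact zero_mem R
    rw [hlO ⟨o, ho'⟩, IsScalarTower.algebraMap_apply A (B ⧸ MB) Bm]
    exact (congrArg _ (Ideal.Quotient.eq_zero_iff_mem.mpr (Ideal.mem_map_of_mem _ (show (⟨o, ho'⟩ : A) ∈ M from hr)))).trans
      (map_zero _)
  let lκ : κ →+* Bm := Ideal.Quotient.lift _ lO hlO0
  let lκ' : κ →ₐ[A] Bm := { lκ with commutes' := fun a => hlO a }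
  let Φ : T →ₐ[A] Bm := Algebra.TensorProduct.lift lκ' (IsScalarTower.toAlgHom A B Bm) fun _ _ => Commute.all _ _
  have hker : ∀ x : B, (1 : κ) ⊗ₜ[A] x = (0 : T) → x ∈ MB := by
    intro x hx
    have h := congrArg Φ hx
    rw [Algebra.TensorProduct.lift_tmul, map_one, one_mul, map_zero, IsScalarTower.toAlgHom_apply,
      IsScalarTower.algebraMap_apply B (B ⧸ MB) Bm] at h
    obtain ⟨⟨c, n, rfl⟩, hc⟩ := (IsLocalization.map_eq_zero_iff (Submonoid.powers (algebraMap A (B ⧸ MB) f)) Bm _).mp h
    refine hMB x n (Ideal.Quotient.eq_zero_iff_mem.mp ?_)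
    rw [map_mul, map_pow]
    exact hc
  let v := R.valuation
  have hpoly : ∀ b : B, ∃ g : Polynomial A, Polynomial.aeval b g ∈ MB ∧ ∃ i, IsUnit (g.coeff i) := by
    intro b
    obtain ⟨q, hq, hq'⟩ : IsIntegral κ ((1 : κ) ⊗ₜ[A] b : T) := Algebra.IsIntegral.isIntegral _
    obtain ⟨i, hi, hmax⟩ := Finset.exists_max_image q.support (fun j => v (q.coeff j))
      (Polynomial.support_nonempty.mpr hq.ne_zero)
    have hne : q.coeff i ≠ 0 := Polynomial.mem_support_iff.mp hi
    let p : Polynomial κ := Polynomial.C (q.coeff i)⁻¹ * q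
    have hmem : ∀ j, p.coeff j ∈ R := by
      intro j
      rw [Polynomial.coeff_C_mul, ← R.valuation_le_one_iff, map_mul, map_inv₀,
        inv_mul_le_one₀ (zero_lt_iff.mpr ((map_ne_zero v).mpr hne))]
      by_cases hj : j ∈ q.support
      · exact hmax j hj
      · rw [Polynomial.notMem_support_iff.mp hj, map_zero]; exact zero_le'
    obtain ⟨g, hg⟩ := (Polynomial.lifts_iff_coeff_lifts (f := algebraMap A κ) p).mpr fun j => by
      obtain ⟨o, ho⟩ := IsLocalRing.residue_surjective (p.coeff j)
      exact ⟨⟨o, by show IsLocalRing.residue O o ∈ R; rw [ho]; exact hmem j⟩, ho⟩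
    change g.map (algebraMap A κ) = p at hg
    refine ⟨g, hker _ ?_, i, ?_⟩
    · show (Algebra.TensorProduct.includeRight : B →ₐ[A] T) (Polynomial.aeval b g) = 0
      rw [← Polynomial.aeval_algHom_apply, ← Polynomial.aeval_map_algebraMap κ, hg, map_mul,
        Algebra.TensorProduct.includeRight_apply, Polynomial.aeval_def, Polynomial.aeval_def]
      exact mul_eq_zero_of_right _ hq'
    · have hone : IsLocalRing.residue O (g.coeff i : O) = 1 := by
        have h := congrArg (fun r => Polynomial.coeff r i) hg
        simp only [Polynomial.coeff_map, p, Polynomial.coeff_C_mul, inv_mul_cancel₀ hne] at h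
        exact h
      obtain ⟨z, hz⟩ := IsLocalRing.residue_ne_zero_iff_isUnit (g.coeff i : O) |>.mp (by rw [hone]; exact one_ne_zero)
      have hzm : (↑z⁻¹ : O) ∈ (R.toSubring).comap (IsLocalRing.residue O) := by
        show IsLocalRing.residue O (↑z⁻¹ : O) ∈ R
        rw [map_units_inv, hz, hone, inv_one]
        exact one_mem R
      exact IsUnit.of_mul_eq_one (a := g.coeff i) ⟨_, hzm⟩ (Subtype.ext (by
        show (g.coeff i : O) * (↑z⁻¹ : O) = 1
        rw [← hz, Units.mul_inv]))
  haveI : Algebra.IsIntegral P.ResidueField (P.Fiber B) := by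
    refine ⟨fun x => ?_⟩
    induction x using TensorProduct.induction_on with
    | zero => exact isIntegral_zero
    | add x y hx hy => exact hx.add hy
    | tmul c b =>
      obtain ⟨g, hg, i, hi⟩ := hpoly b
      have hzero : (Algebra.TensorProduct.includeRight : B →ₐ[A] P.Fiber B) (Polynomial.aeval b g) = 0 := by
        have hle : MB ≤ RingHom.ker (Algebra.TensorProduct.includeRight : B →ₐ[A] P.Fiber B).toRingHom := by
          show M.map (algebraMap A B) ≤ _
          rw [Ideal.map_le_iff_le_comap]
          intro a ha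
          show (Algebra.TensorProduct.includeRight : B →ₐ[A] P.Fiber B) (algebraMap A B a) = 0
          rw [AlgHom.commutes, IsScalarTower.algebraMap_apply A P.ResidueField (P.Fiber B),
            Ideal.algebraMap_residueField_eq_zero.mpr (hMP ha), map_zero]
        exact hle hg
      have h1 : IsAlgebraic P.ResidueField ((1 : P.ResidueField) ⊗ₜ[A] b : P.Fiber B) := by
        refine ⟨g.map (algebraMap A P.ResidueField), fun h0 => ?_, ?_⟩
        · have := congrArg (fun p => Polynomial.coeff p i) h0
          simp only [Polynomial.coeff_map, Polynomial.coeff_zero] at this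
          exact (hi.map (algebraMap A P.ResidueField)).ne_zero this
        · rw [Polynomial.aeval_map_algebraMap]
          show Polynomial.aeval ((Algebra.TensorProduct.includeRight : B →ₐ[A] P.Fiber B) b) g = 0
          rw [Polynomial.aeval_algHom_apply, hzero]
      have h2 := (isIntegral_algebraMap (R := P.ResidueField) (A := P.Fiber B) (x := c)).mul
        (isAlgebraic_iff_isIntegral.mp h1)
      rwa [Algebra.TensorProduct.algebraMap_apply, Algebra.TensorProduct.tmul_mul_tmul, one_mul, mul_one] at h2
  exact Algebra.IsIntegral.finite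

/-- Let O be a local ring with residue field κ, R a valuation ring of κ, A ⊆ O the subring of elements
whose residue class lies in R (the fibre product ring R ×_κ O, a semi-valuation ring), and f an
element of A such that O is the localization of A obtained by inverting f. Equip P = Spec A with the
modulus V(f), the closed subscheme cut out by f (an effective Cartier divisor: f is a unit of O, so
a nonzerodivisor of A), whose interior is Spec O. Let q : Q ⟶ P be a proper, minimal morphism of
modulus pairs (the modulus of Q is the pull-back of V(f) and is an effective Cartier divisor) whose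
restriction over the interior of P is a finite morphism. Then q is finite. -/
theorem result {O : Type u} [CommRing O]
    [IsLocalRing O] (R : ValuationSubring (IsLocalRing.ResidueField O))
    (f : ↥((R.toSubring).comap (IsLocalRing.residue O)))
    [IsLocalization.Away f O] {Q : Scheme.{u}} (IQ : Q.IdealSheafData)
    (hQ : BlowUp.IsEffCartierIdeal IQ)
    (q : Q ⟶ Spec (CommRingCat.of ↥((R.toSubring).comap (IsLocalRing.residue O))))
    (hq : ModPair.IsMinimal IQ
      (Spec.map (CommRingCat.ofHom (Ideal.Quotient.mk (Ideal.span {f})))).ker q)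
    [IsProper q]
    (hfin : IsFinite (q ∣_ ModPair.interior
      (Spec.map (CommRingCat.ofHom (Ideal.Quotient.mk (Ideal.span {f})))).ker)) :
    IsFinite q := by
  let A := ↥((R.toSubring).comap (IsLocalRing.residue O))
  let J := (Spec.map (CommRingCat.ofHom (Ideal.Quotient.mk (Ideal.span {f} : Ideal A)))).ker
  let K := Spec.map (CommRingCat.ofHom (algebraMap A O))
  suffices LocallyQuasiFinite q from IsFinite.of_isProper_of_locallyQuasiFinite q
  -- the generic part
  have hrange : Set.range K ⊆ Set.range (ModPair.interior J).ι := by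
    rintro _ ⟨x, rfl⟩
    rw [Scheme.Opens.range_ι]
    show K x ∉ J.support
    rw [← SetLike.mem_coe, Scheme.Hom.support_ker]
    intro hx
    have hsub : closure (Set.range (Spec.map (CommRingCat.ofHom (Ideal.Quotient.mk (Ideal.span {f} : Ideal A))))) ⊆
        PrimeSpectrum.zeroLocus {f} := by
      refine closure_minimal ?_ (PrimeSpectrum.isClosed_zeroLocus _)
      rintro _ ⟨y, rfl⟩
      refine (PrimeSpectrum.mem_zeroLocus _ _).mpr (Set.singleton_subset_iff.mpr ?_)
      show Ideal.Quotient.mk _ f ∈ y.asIdeal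
      rw [Ideal.Quotient.eq_zero_iff_mem.mpr (Ideal.mem_span_singleton_self f)]
      exact zero_mem _
    have h2 := (PrimeSpectrum.mem_zeroLocus _ _).mp (hsub hx)
    exact x.isPrime.ne_top (Ideal.eq_top_of_isUnit_mem _ (h2 rfl) (IsLocalization.Away.algebraMap_isUnit f))
  have hK : IsFinite (pullback.snd q K) := by
    let k := IsOpenImmersion.lift (ModPair.interior J).ι K hrange
    have hk : k ≫ (ModPair.interior J).ι = K := IsOpenImmersion.lift_fac _ _ _
    haveI : IsFinite (q ∣_ ModPair.interior J) := hfin
    have h := (IsPullback.of_hasPullback (q ∣_ ModPair.interior J) k).paste_horiz (isPullback_morphismRestrict q _).flip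
    rw [hk] at h
    have e := h.isoPullback_hom_snd
    rw [← MorphismProperty.cancel_left_of_respectsIso @IsFinite h.isoPullback.hom, e]
    exact MorphismProperty.pullback_snd _ _ inferInstance
  choose U hxU h₀ hh₀ hU using hQ
  refine (IsZariskiLocalAtSource.iff_of_openCover (P := @LocallyQuasiFinite)
    (Q.openCoverOfIsOpenCover (fun x => (U x).1) (.mk (top_le_iff.mp fun x _ =>
      TopologicalSpace.Opens.mem_iSup.mpr ⟨x, hxU x⟩)))).mpr fun x => ?_
  show LocallyQuasiFinite ((U x).1.ι ≫ q)
  have hUx : IsAffineOpen (U x).1 := (U x).2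
  rw [← MorphismProperty.cancel_left_of_respectsIso @LocallyQuasiFinite hUx.isoSpec.inv]
  rw [← Category.assoc, IsAffineOpen.isoSpec_inv_ι]
  let φ := (Scheme.ΓSpecIso (CommRingCat.of A)).inv ≫ q.appLE ⊤ (U x).1 le_top
  have hφ : Spec.map φ = hUx.fromSpec ≫ q := by
    rw [Spec.map_comp, ← Scheme.isoSpec_Spec_inv, ← IsAffineOpen.fromSpec_top]
    exact IsAffineOpen.SpecMap_appLE_fromSpec _ (isAffineOpen_top _) hUx _
  have hideal : IQ.ideal (U x) = Ideal.span {φ.hom f} := by
    rw [hq, IdealComap.ideal_comap _ _ _ ⟨⊤, isAffineOpen_top _⟩ le_top, Scheme.Hom.ker_apply]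
    have hker : RingHom.ker ((Spec.map (CommRingCat.ofHom (Ideal.Quotient.mk (Ideal.span {f} : Ideal A)))).app ⊤).hom =
        Ideal.span {(Scheme.ΓSpecIso (CommRingCat.of A)).inv.hom f} := by
      have hnat := Scheme.ΓSpecIso_inv_naturality (CommRingCat.ofHom (Ideal.Quotient.mk (Ideal.span {f} : Ideal A)))
      ext z
      obtain ⟨a, rfl⟩ := (Scheme.ΓSpecIso (CommRingCat.of A)).symm.commRingCatIsoToRingEquiv.surjective z
      change (Spec.map _).appTop.hom ((Scheme.ΓSpecIso (CommRingCat.of A)).inv.hom a) = 0 ↔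
        (Scheme.ΓSpecIso (CommRingCat.of A)).symm.commRingCatIsoToRingEquiv a ∈ _
      have e := congr($(hnat).hom a)
      simp only [CommRingCat.hom_comp, RingHom.comp_apply] at e
      rw [← e]
      refine ((map_eq_zero_iff _ (Scheme.ΓSpecIso (CommRingCat.of (A ⧸ Ideal.span {f}))).symm.commRingCatIsoToRingEquiv.injective).trans
        Ideal.Quotient.eq_zero_iff_mem).trans ?_
      rw [Ideal.mem_span_singleton, Ideal.mem_span_singleton]
      exact (map_dvd_iff (Scheme.ΓSpecIso (CommRingCat.of A)).symm.commRingCatIsoToRingEquiv).symm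
    rw [hker, Ideal.map_span, Set.image_singleton]
    rfl
  have hreg : ∀ b, φ.hom f * b = 0 → b = 0 := by
    intro b hb
    obtain ⟨d, hd⟩ := Ideal.mem_span_singleton'.mp (show h₀ x ∈ Ideal.span {φ.hom f} by
      rw [← hideal, hU x]; exact Ideal.mem_span_singleton_self _)
    refine (hh₀ x).1 b ?_
    rw [← hd, mul_assoc, hb, mul_zero]
  have hft : φ.hom.FiniteType := by
    refine (HasRingHomProperty.Spec_iff (P := @LocallyOfFiniteType)).mp ?_
    rw [hφ]; infer_instance
  have hgen : LocallyQuasiFinite (pullback.snd (Spec.map φ) K) := by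
    rw [hφ, ← pullbackRightPullbackFstIso_inv_snd_snd q K hUx.fromSpec]
    infer_instance
  rw [← hφ]
  refine (HasRingHomProperty.Spec_iff (P := @LocallyQuasiFinite)).mpr ?_
  algebraize [φ.hom]
  have h := MorphismProperty.cancel_left_of_respectsIso @LocallyQuasiFinite (pullbackSpecIso A Γ(Q, (U x).1) O).inv
    (pullback.snd (Spec.map (CommRingCat.ofHom (algebraMap A Γ(Q, (U x).1)))) K)
  rw [pullbackSpecIso_inv_snd] at h
  have h2 := (HasRingHomProperty.Spec_iff (P := @LocallyQuasiFinite)).mp (h.mpr hgen)
  let _ : Algebra O (Γ(Q, (U x).1) ⊗[A] O) := Algebra.TensorProduct.rightAlgebra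
  haveI : Algebra.QuasiFinite O (Γ(Q, (U x).1) ⊗[A] O) := h2
  let ec : (Γ(Q, (U x).1) ⊗[A] O) ≃ₐ[O] O ⊗[A] Γ(Q, (U x).1) :=
    { (Algebra.TensorProduct.comm A Γ(Q, (U x).1) O).toRingEquiv with commutes' := fun o => rfl }
  haveI : Algebra.QuasiFinite O (O ⊗[A] Γ(Q, (U x).1)) := (Algebra.QuasiFinite.iff_of_algEquiv ec).mp inferInstance
  exact quasiFinite R f hreg

end Groth.Agent.S18753
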