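import Groth.Statements.S18755
import Groth.Agent.ModPairBasic.Localization
import Groth.Agent.ModPairBasic.BlowUp
import Groth.Agent.ModPairBasic.Mul
import Groth.Agent.ModPairBasic.Prod

set_option autoImplicit false
universe u
open CategoryTheory CategoryTheory.Limits AlgebraicGeometry TopologicalSpace
open ModPair

namespace Groth.Agent.S18755

/-- Let (S₀, I₀), (S₁, I₁), (T, J), (X, I) be schemes with quasi-coherent ideal sheaves of effective
Cartier divisors, f : X ⟶ S₁, g : T ⟶ S₁ and σ : S₁ ⟶ S₀ morphisms satisfying the modulus condition,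
and let (Y₁, K₁) with π₁ and (Y₀, K₀) with π₀ be ambient products of (X, I) and (T, J) over S₁ and
over S₀ (the latter for f ≫ σ and g ≫ σ): blow-ups of the scheme-theoretic image of the product of
the interiors inside X ×_{S₁} T, resp. X ×_{S₀} T, in the intersection of the pulled-back moduli,
with K·E = D_X·D_T. Then the ambient product is functorial in the base: there is a unique morphism φ
: Y₁ ⟶ Y₀ compatible with the maps to X ×_{S₀} T (through the canonical X ×_{S₁} T ⟶ X ×_{S₀} T),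
and every such φ is minimal, K₁ = K₀.comap φ. -/
theorem result {S₀ S₁ T X Y₁ Y₀ : Scheme.{u}} (I₀ : S₀.IdealSheafData)
    (I₁ : S₁.IdealSheafData) (J : T.IdealSheafData) (I : X.IdealSheafData)
    (h₀ : BlowUp.IsEffCartierIdeal I₀) (h₁ : BlowUp.IsEffCartierIdeal I₁)
    (hT : BlowUp.IsEffCartierIdeal J) (hX : BlowUp.IsEffCartierIdeal I)
    (f : X ⟶ S₁) (hf : ModPair.IsAmbient I I₁ f) (g : T ⟶ S₁) (hg : ModPair.IsAmbient J I₁ g)
    (σ : S₁ ⟶ S₀) (hσ : ModPair.IsAmbient I₁ I₀ σ)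
    (π₁ : Y₁ ⟶ ModPair.mprod f g I J) (K₁ : Y₁.IdealSheafData) (hY₁ : ModPair.IsAmbProd f g I J π₁ K₁)
    (π₀ : Y₀ ⟶ ModPair.mprod (f ≫ σ) (g ≫ σ) I J) (K₀ : Y₀.IdealSheafData)
    (hY₀ : ModPair.IsAmbProd (f ≫ σ) (g ≫ σ) I J π₀ K₀) :
    (∃! φ : Y₁ ⟶ Y₀, φ ≫ π₀ ≫ ModPair.mprodι (f ≫ σ) (g ≫ σ) I J =
        π₁ ≫ ModPair.mprodι f g I J ≫ pullback.mapDesc f g σ) ∧
      ∀ φ : Y₁ ⟶ Y₀, φ ≫ π₀ ≫ ModPair.mprodι (f ≫ σ) (g ≫ σ) I J =
          π₁ ≫ ModPair.mprodι f g I J ≫ pullback.mapDesc f g σ →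
        ModPair.IsMinimal K₁ K₀ φ := by
  open Groth.Agent.ModPairBasic in
  have := quasiCompact_prodInterior_ι f g (isLocPrincipal_of_ec hX) (isLocPrincipal_of_ec hT)
  open Groth.Agent.ModPairBasic in
  have := quasiCompact_prodInterior_ι (f ≫ σ) (g ≫ σ) (isLocPrincipal_of_ec hX) (isLocPrincipal_of_ec hT)
  set ι₁ := ModPair.mprodι f g I J
  set ι₀ := ModPair.mprodι (f ≫ σ) (g ≫ σ) I J
  set A := (I.comap (ι₁ ≫ pullback.fst f g)).comap π₁ with hAdef
  set B := (J.comap (ι₁ ≫ pullback.snd f g)).comap π₁ with hBdef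
  set h := π₁ ≫ ι₁ ≫ pullback.mapDesc f g σ with hh
  have hfst : h ≫ pullback.fst _ _ = π₁ ≫ ι₁ ≫ pullback.fst f g := by
    simp only [hh, Category.assoc, pullback.mapDesc, pullback.lift_fst, Category.comp_id]
  have hsnd : h ≫ pullback.snd _ _ = π₁ ≫ ι₁ ≫ pullback.snd f g := by
    simp only [hh, Category.assoc, pullback.mapDesc, pullback.lift_snd, Category.comp_id]
  have hE : BlowUp.IsEffCartierIdeal (A ⊔ B) := by
    have := hY₁.1.1
    rwa [ModPair.prodCentre, Scheme.IdealSheafData.comap_sup] at this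
  obtain ⟨hA, hB⟩ := show BlowUp.IsEffCartierIdeal A ∧ BlowUp.IsEffCartierIdeal B from by
    have hl := ModPairBasic.isLocPrincipal_mul
      (ModPairBasic.isLocPrincipal_comap (ModPairBasic.isLocPrincipal_of_ec hX) (pullback.fst f g))
      (ModPairBasic.isLocPrincipal_comap (ModPairBasic.isLocPrincipal_of_ec hT) (pullback.snd f g))
    have hm := ModPairBasic.ec_comap_image (O := ModPair.prodInterior f g I J) hl
      (ModPairBasic.prodInterior_eq f g I J)
    rw [BlowUpLib.comap_mul] at hm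
    simp only [← Scheme.IdealSheafData.comap_comp] at hm
    refine ⟨ModPairBasic.ec_comap_of_isBlowUp hY₁.1 (ModPairBasic.ec_of_le hm
      (ModPairBasic.isLocPrincipal_comap (ModPairBasic.isLocPrincipal_of_ec hX) _) fun U => ?_),
      ModPairBasic.ec_comap_of_isBlowUp hY₁.1 (ModPairBasic.ec_of_le hm
      (ModPairBasic.isLocPrincipal_comap (ModPairBasic.isLocPrincipal_of_ec hT) _) fun U => ?_)⟩
    · rw [Scheme.IdealSheafData.ideal_mul, Pi.mul_apply]; exact Ideal.mul_le_left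
    · rw [Scheme.IdealSheafData.ideal_mul, Pi.mul_apply]; exact Ideal.mul_le_right
  have hD := ModPairBasic.dense_of_ec (ModPairBasic.ec_mul hA hB)
  obtain ⟨c₀, hc₀⟩ := ModPairBasic.exists_lift_image (ModPair.prodInterior (f ≫ σ) (g ≫ σ) I J)
    (ModPair.interior (A * B)) h fun w hw => by
      rw [ModPairBasic.interior_mul] at hw
      refine ⟨?_, ?_⟩
      · show pullback.fst (f ≫ σ) (g ≫ σ) (h w) ∈ ModPair.interior I
        rw [← Scheme.Hom.comp_apply, hfst]
        have := hw.1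
        rw [hAdef, ← Scheme.IdealSheafData.comap_comp, ← ModPairBasic.preimage_interior] at this
        exact this
      · show pullback.snd (f ≫ σ) (g ≫ σ) (h w) ∈ ModPair.interior J
        rw [← Scheme.Hom.comp_apply, hsnd]
        have := hw.2
        rw [hBdef, ← Scheme.IdealSheafData.comap_comp, ← ModPairBasic.preimage_interior] at this
        exact this
  have hI : (I.comap (ι₀ ≫ pullback.fst _ _)).comap c₀ = A := by
    rw [hAdef, ← Scheme.IdealSheafData.comap_comp, ← Scheme.IdealSheafData.comap_comp, ← Category.assoc, hc₀, hfst]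
  have hJ : (J.comap (ι₀ ≫ pullback.snd _ _)).comap c₀ = B := by
    rw [hBdef, ← Scheme.IdealSheafData.comap_comp, ← Scheme.IdealSheafData.comap_comp, ← Category.assoc, hc₀, hsnd]
  have hcentre : (ModPair.prodCentre (f ≫ σ) (g ≫ σ) I J).comap c₀ = A ⊔ B := by
    rw [ModPair.prodCentre, Scheme.IdealSheafData.comap_sup, hI, hJ]
  obtain ⟨φ₀, hφ₀, huniq⟩ := hY₀.1.2 Y₁ c₀ (hcentre ▸ hE)
  have heq : ∀ φ : Y₁ ⟶ Y₀, φ ≫ π₀ ≫ ι₀ = h → φ ≫ π₀ = c₀ := fun φ hφ => by
    rw [← cancel_mono ι₀, Category.assoc, hφ, hc₀]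
  refine ⟨⟨φ₀, by show φ₀ ≫ π₀ ≫ ι₀ = h; rw [← Category.assoc, hφ₀, hc₀], fun φ hφ => huniq φ (heq φ hφ)⟩,
    fun φ hφ => ?_⟩
  have hc := heq φ hφ
  have h0 := congrArg (fun L => Scheme.IdealSheafData.comap L φ) hY₀.2
  simp only [BlowUpLib.comap_mul, ← Scheme.IdealSheafData.comap_comp] at h0
  rw [hc, hcentre] at h0
  have h1 : K₁ * (A ⊔ B) = A * B := by
    have := hY₁.2
    rwa [ModPair.prodCentre, Scheme.IdealSheafData.comap_sup] at this
  refine ModPairBasic.mul_right_cancel_ec hE (h1.trans (Eq.symm (h0.trans ?_)))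
  congr 1
  · rw [← hI, ← Scheme.IdealSheafData.comap_comp, ← hc, Category.assoc]
  · rw [← hJ, ← Scheme.IdealSheafData.comap_comp, ← hc, Category.assoc]

end Groth.Agent.S18755
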