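import Groth.Statements.S1876
import Mathlib.Algebra.Homology.DerivedCategory.KProjective
import Mathlib.Algebra.Category.ModuleCat.Projective
import Mathlib.LinearAlgebra.Trace
import Mathlib.Tactic

set_option autoImplicit false
set_option linter.style.haveILetI false
set_option backward.isDefEq.respectTransparency false
set_option backward.isDefEq.respectTransparency.types false
universe u
open CategoryTheory
attribute [local instance] HasDerivedCategory.standard
open Trace

namespace Groth.Agent.S1876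

variable {Λ : Type u} [CommRing Λ]

lemma isKProjective (P : DRing.Cx Λ) (a b : ℤ) (hP : DRing.VanishesOutside P a b) (hPf : DRing.TermwiseFiniteFree P) :
    CochainComplex.IsKProjective P := by
  haveI : ∀ i, Projective (P.X i) := fun i => by
    haveI := (hPf i).2
    infer_instance
  haveI : P.IsStrictlyLE b := (CochainComplex.isStrictlyLE_iff P b).2 fun i hi => hP i (Or.inr hi)
  exact CochainComplex.isKProjective_of_projective P b

lemma exists_map_eq (P Q : DRing.Cx Λ) [CochainComplex.IsKProjective P] (φ : DRing.toD P ⟶ DRing.toD Q) :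
    ∃ u : P ⟶ Q, DerivedCategory.Q.map u = φ := by
  obtain ⟨g, hg⟩ := (CochainComplex.IsKProjective.Qh_map_bijective P _).surjective
    ((DerivedCategory.quotientCompQhIso (ModuleCat.{u} Λ)).hom.app P ≫ φ ≫
      (DerivedCategory.quotientCompQhIso (ModuleCat.{u} Λ)).inv.app Q)
  obtain ⟨u, rfl⟩ := (HomotopyCategory.quotient (ModuleCat.{u} Λ) (ComplexShape.up ℤ)).map_surjective g
  refine ⟨u, ?_⟩
  rw [← cancel_epi ((DerivedCategory.quotientCompQhIso (ModuleCat.{u} Λ)).hom.app P),
    ← DerivedCategory.quotientCompQhIso_hom_naturality, hg]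
  simp

lemma homotopy_of_map_eq (P Q : DRing.Cx Λ) [CochainComplex.IsKProjective P] (u v : P ⟶ Q)
    (h : DerivedCategory.Q.map u = DerivedCategory.Q.map v) : Nonempty (Homotopy u v) := by
  refine ⟨HomotopyCategory.homotopyOfEq _ _ ((CochainComplex.IsKProjective.Qh_map_bijective P _).injective ?_)⟩
  rw [← cancel_mono ((DerivedCategory.quotientCompQhIso (ModuleCat.{u} Λ)).hom.app Q),
    DerivedCategory.quotientCompQhIso_hom_naturality, DerivedCategory.quotientCompQhIso_hom_naturality, h]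

/-- The alternating trace only depends on the homotopy class. -/
lemma altTrace_homotopy (P : DRing.Cx Λ) (a b : ℤ) (hP : DRing.VanishesOutside P a b) (hPf : DRing.TermwiseFiniteFree P)
    {F G : P ⟶ P} (H : Homotopy F G) :
    ∑ i ∈ Finset.Icc a b, ((i.negOnePow : ℤˣ) : ℤ) • LinearMap.trace Λ (P.X i) (F.f i).hom =
      ∑ i ∈ Finset.Icc a b, ((i.negOnePow : ℤˣ) : ℤ) • LinearMap.trace Λ (P.X i) (G.f i).hom := by
  haveI : ∀ i, Module.Finite Λ (P.X i) := fun i => (hPf i).1
  haveI : ∀ i, Module.Free Λ (P.X i) := fun i => (hPf i).2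
  let T : ℤ → Λ := fun i => LinearMap.trace Λ (P.X i) (P.d i (i + 1) ≫ H.hom (i + 1) i).hom
  let U : ℤ → Λ := fun i => ((i.negOnePow : ℤˣ) : ℤ) • T i
  have hF : ∀ j, LinearMap.trace Λ (P.X j) (F.f j).hom = T j + T (j - 1) + LinearMap.trace Λ (P.X j) (G.f j).hom := by
    intro j
    rw [H.comm j, dNext_eq _ (show (ComplexShape.up ℤ).Rel j (j + 1) from rfl),
      prevD_eq _ (show (ComplexShape.up ℤ).Rel (j - 1) j by simp), ModuleCat.hom_add, ModuleCat.hom_add, map_add, map_add]
    congr 2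
    have e : ∀ j' i', j' = i' + 1 → ∀ (hd : P.X i' ⟶ P.X j') (hh : P.X j' ⟶ P.X i'),
        LinearMap.trace Λ (P.X j') (hh ≫ hd).hom = LinearMap.trace Λ (P.X i') (hd ≫ hh).hom := by
      intro j' i' _ hd hh
      rw [ModuleCat.hom_comp, ModuleCat.hom_comp, LinearMap.trace_comp_comm']
    refine (e j (j - 1) (by omega) (P.d (j - 1) j) (H.hom j (j - 1))).trans ?_
    obtain ⟨i, rfl⟩ : ∃ i, j = i + 1 := ⟨j - 1, by omega⟩
    rw [add_sub_cancel_right]
  have hU0 : ∀ i, i < a ∨ b ≤ i → U i = 0 := by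
    intro i hi
    have : P.d i (i + 1) = 0 := by
      rcases hi with hi | hi
      · exact (hP i (Or.inl hi)).eq_of_src _ _
      · exact (hP (i + 1) (Or.inr (by omega))).eq_of_tgt _ _
    simp [U, T, this]
  have hdiff : ∑ i ∈ Finset.Icc a b, U i = ∑ i ∈ Finset.Icc a b, U (i - 1) := by
    rw [← Finset.sum_image (f := U) (g := fun i => i - 1) (fun x _ y _ h => by simpa using h)]
    rw [Finset.sum_subset (show Finset.Icc a b ⊆ Finset.Icc (a - 1) b from Finset.Icc_subset_Icc (by omega) le_rfl)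
      fun i hi hi' => hU0 i (by simp only [Finset.mem_Icc] at hi hi'; omega)]
    refine (Finset.sum_subset (fun i hi => ?_) fun i hi hi' => hU0 i ?_).symm
    · simp only [Finset.mem_image, Finset.mem_Icc] at hi ⊢; obtain ⟨x, hx, rfl⟩ := hi; omega
    · simp only [Finset.mem_image, Finset.mem_Icc, not_exists, not_and] at hi hi'
      by_contra hc
      exact hi' (i + 1) (by omega) (by omega)
  simp only [hF, smul_add, Finset.sum_add_distrib, add_eq_right]
  show ∑ i ∈ Finset.Icc a b, U i + _ = 0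
  rw [hdiff, ← Finset.sum_add_distrib]
  refine Finset.sum_eq_zero fun i _ => ?_
  show (((i - 1).negOnePow : ℤˣ) : ℤ) • T (i - 1) + _ = 0
  rw [Int.negOnePow_sub, Int.negOnePow_one]
  simp

/-- Commutative coefficient ring, finite free terms: let P and Q be bounded complexes of finite free
Λ-modules with chain endomorphisms f and g, and α : P ≅ Q an isomorphism in the derived category
D(Λ) with α ∘ f = g ∘ α there. Then Σ_i (−1)^i Tr(f^i | P^i) = Σ_i (−1)^i Tr(g^i | Q^i); that is,
the trace of an endomorphism of a perfect object of D(Λ) is well defined. -/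
theorem result (Λ : Type u) [CommRing Λ] (P Q : DRing.Cx Λ) (a b : ℤ) (hP : DRing.VanishesOutside P a b) (hQ : DRing.VanishesOutside Q a b) (hPf : DRing.TermwiseFiniteFree P) (hQf : DRing.TermwiseFiniteFree Q) (f : P ⟶ P) (g : Q ⟶ Q) (α : DRing.toD P ≅ DRing.toD Q) (h : α.hom ≫ DerivedCategory.Q.map g = DerivedCategory.Q.map f ≫ α.hom) : ∑ i ∈ Finset.Icc a b, ((i.negOnePow : ℤˣ) : ℤ) • LinearMap.trace Λ (P.X i) (f.f i).hom = ∑ i ∈ Finset.Icc a b, ((i.negOnePow : ℤˣ) : ℤ) • LinearMap.trace Λ (Q.X i) (g.f i).hom := by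
  haveI := isKProjective P a b hP hPf
  haveI := isKProjective Q a b hQ hQf
  haveI : ∀ i, Module.Finite Λ (P.X i) := fun i => (hPf i).1
  haveI : ∀ i, Module.Free Λ (P.X i) := fun i => (hPf i).2
  haveI : ∀ i, Module.Finite Λ (Q.X i) := fun i => (hQf i).1
  haveI : ∀ i, Module.Free Λ (Q.X i) := fun i => (hQf i).2
  obtain ⟨u, hu⟩ := exists_map_eq P Q α.hom
  obtain ⟨v, hv⟩ := exists_map_eq Q P α.inv
  obtain ⟨H₁⟩ := homotopy_of_map_eq P P f (f ≫ u ≫ v) (by simp [hu, hv])
  obtain ⟨H₂⟩ := homotopy_of_map_eq Q Q g (v ≫ f ≫ u) (by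
    rw [← cancel_epi α.hom, h]; simp [hu, hv])
  rw [altTrace_homotopy P a b hP hPf H₁, altTrace_homotopy Q a b hQ hQf H₂]
  refine Finset.sum_congr rfl fun i _ => ?_
  congr 1
  simp only [HomologicalComplex.comp_f, ModuleCat.hom_comp]
  rw [LinearMap.trace_comp_comm' (R := Λ), LinearMap.comp_assoc, ← LinearMap.comp_assoc (u.f i).hom]
  exact LinearMap.trace_comp_comm' _ _

end Groth.Agent.S1876
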