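import Groth.Statements.S18762
import Groth.Agent.FpqcTorsor.FiniteField
-- import your own Groth.Agent.* helpers here

set_option autoImplicit false
set_option linter.style.haveILetI false
set_option backward.isDefEq.respectTransparency false
universe u
open CategoryTheory CategoryTheory.Limits MonoidalCategory CartesianMonoidalCategory MonObj GrpObj AlgebraicGeometry
open NonAbH1

namespace Groth.Agent.S18762

/-- A field-valued point of a separated scheme over a field at a rational point is that rational point. -/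
theorem eq_comp_of_mem_range {k : Type u} [Field k] {G : Scheme.{u}} (p : G ⟶ Spec (CommRingCat.of k))
    [IsSeparated p] (e : Spec (CommRingCat.of k) ⟶ G) (he : e ≫ p = 𝟙 _)
    {Z : Scheme.{u}} [AlgebraicGeometry.IsReduced Z] (v : Z ⟶ G) (hv : Set.range v ⊆ Set.range e) :
    v = (v ≫ p) ≫ e := by
  haveI : IsClosedImmersion (e ≫ p) := by rw [he]; infer_instance
  haveI : IsClosedImmersion e := IsClosedImmersion.of_comp e p
  haveI : Surjective (pullback.fst v e) := ⟨fun z => by
    obtain ⟨b, hb⟩ := hv ⟨z, rfl⟩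
    obtain ⟨w, hw, -⟩ := Scheme.Pullback.exists_preimage_pullback (f := v) (g := e) z b hb.symm
    exact ⟨w, hw⟩⟩
  haveI : IsIso (pullback.fst v e) := isIso_of_isClosedImmersion_of_surjective _
  let w := inv (pullback.fst v e) ≫ pullback.snd v e
  have hw : w ≫ e = v := by simp [w, ← pullback.condition]
  have hw2 : v ≫ p = w := by rw [← hw, Category.assoc, he, Category.comp_id]
  rw [hw2, hw]

/-- Let X be a connected scheme over a field k with a rational point x, let G, G₁, G₂ be finite group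
schemes over k with homomorphisms φ₁ : G₁ → G and φ₂ : G₂ → G, and let T, T₁, T₂ be torsors over X
(fppf-locally trivial) under the base changes to X of G, G₁, G₂ respectively, each pointed by a
k-point lying over x. Let f₁ : T₁ → T and f₂ : T₂ → T be morphisms of pointed torsors: X-morphisms
which intertwine the actions along φ₁, φ₂ and send the marked points of T₁, T₂ to that of T. Then
the fibre product T₁ ×_T T₂ maps surjectively onto X. (The published statement assumes X also
quasi-compact and reduced and concludes that T₁ ×_T T₂ is a torsor over X; this row assumes only X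
connected and concludes that T₁ ×_T T₂ maps onto X.) -/
theorem result
    (k : Type u) [Field k] (X : Scheme.{u}) [X.Over (Spec (CommRingCat.of k))] [ConnectedSpace X]
    (x : Spec (CommRingCat.of k) ⟶ X) (hx : x ≫ (X ↘ Spec (CommRingCat.of k)) = 𝟙 _)
    (G G₁ G₂ : Over (Spec (CommRingCat.of k))) [GrpObj G] [GrpObj G₁] [GrpObj G₂]
    [IsFinite G.hom] [IsFinite G₁.hom] [IsFinite G₂.hom]
    (φ₁ : G₁ ⟶ G) (φ₂ : G₂ ⟶ G) [IsMonHom φ₁] [IsMonHom φ₂]
    (T T₁ T₂ : Over X)
    (a : AlgGrp.Action (Red.bc (X ↘ Spec (CommRingCat.of k)) G) T)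
    (a₁ : AlgGrp.Action (Red.bc (X ↘ Spec (CommRingCat.of k)) G₁) T₁)
    (a₂ : AlgGrp.Action (Red.bc (X ↘ Spec (CommRingCat.of k)) G₂) T₂)
    (hT : NonAbH1.IsTorsorFor Scheme.fppfPrecoverage a)
    (hT₁ : NonAbH1.IsTorsorFor Scheme.fppfPrecoverage a₁)
    (hT₂ : NonAbH1.IsTorsorFor Scheme.fppfPrecoverage a₂)
    (t : Spec (CommRingCat.of k) ⟶ T.left) (t₁ : Spec (CommRingCat.of k) ⟶ T₁.left)
    (t₂ : Spec (CommRingCat.of k) ⟶ T₂.left)
    (ht : t ≫ T.hom = x) (ht₁ : t₁ ≫ T₁.hom = x) (ht₂ : t₂ ≫ T₂.hom = x)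
    (f₁ : T₁ ⟶ T) (f₂ : T₂ ⟶ T)
    (hf₁ : AlgGrp.Action.IsEquivariant a₁ (a.restrict ((Over.pullback (X ↘ Spec (CommRingCat.of k))).map φ₁)) f₁)
    (hf₂ : AlgGrp.Action.IsEquivariant a₂ (a.restrict ((Over.pullback (X ↘ Spec (CommRingCat.of k))).map φ₂)) f₂)
    (hft₁ : t₁ ≫ f₁.left = t) (hft₂ : t₂ ≫ f₂.left = t) :
    Surjective (pullback f₁ f₂).hom := by
  let π := X ↘ Spec (CommRingCat.of k)
  let GX := Red.bc π G
  let G1X := Red.bc π G₁
  let G2X := Red.bc π G₂
  haveI : IsFinite GX.hom := by show IsFinite (pullback.snd G.hom π); infer_instance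
  haveI : IsFinite G1X.hom := by show IsFinite (pullback.snd G₁.hom π); infer_instance
  haveI : IsFinite G2X.hom := by show IsFinite (pullback.snd G₂.hom π); infer_instance
  haveI : Flat G1X.hom := by show Flat (pullback.snd G₁.hom π); infer_instance
  haveI : Flat G2X.hom := by show Flat (pullback.snd G₂.hom π); infer_instance
  haveI : LocallyOfFinitePresentation G1X.hom := by
    show LocallyOfFinitePresentation (pullback.snd G₁.hom π); infer_instance
  haveI : LocallyOfFinitePresentation G2X.hom := by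
    show LocallyOfFinitePresentation (pullback.snd G₂.hom π); infer_instance
  have h1 := FpqcTorsor.isTorsorFor_fpqc_of_fppf a₁ hT₁
  have h2 := FpqcTorsor.isTorsorFor_fpqc_of_fppf a₂ hT₂
  haveI := FpqcTorsor.isFinite_of_isTorsorFor a₁ h1
  haveI := FpqcTorsor.flat_of_isTorsorFor a₁ h1
  haveI := FpqcTorsor.locallyOfFinitePresentation_of_isTorsorFor a₁ h1
  haveI := FpqcTorsor.isFinite_of_isTorsorFor a₂ h2
  haveI := FpqcTorsor.flat_of_isTorsorFor a₂ h2
  haveI := FpqcTorsor.locallyOfFinitePresentation_of_isTorsorFor a₂ h2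
  let θ : GX ⊗ T ⟶ T ⊗ T := lift a.act (snd GX T)
  haveI : IsIso θ := hT.1
  let Q : Over X := T₁ ⊗ T₂
  haveI : IsFinite Q.hom := by show IsFinite (pullback.fst T₁.hom T₂.hom ≫ T₁.hom); infer_instance
  haveI : Flat Q.hom := by show Flat (pullback.fst T₁.hom T₂.hom ≫ T₁.hom); infer_instance
  haveI : LocallyOfFinitePresentation Q.hom := by
    show LocallyOfFinitePresentation (pullback.fst T₁.hom T₂.hom ≫ T₁.hom); infer_instance
  let g : Q ⟶ GX := lift (fst T₁ T₂ ≫ f₁) (snd T₁ T₂ ≫ f₂) ≫ inv θ ≫ fst GX T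
  let δ : Q.left ⟶ G.left := g.left ≫ pullback.fst G.hom π
  haveI := FpqcTorsor.isClosed_singleton_of_isFinite G.hom
  let E : Set G.left := Set.range η[G].left
  have hone : ∀ z, (η[GX].left ≫ pullback.fst G.hom π) z ∈ E := by
    have : ∃ r, η[GX].left ≫ pullback.fst G.hom π = r ≫ η[G].left := by
      refine ⟨(Functor.LaxMonoidal.ε (Over.pullback π)).left ≫ pullback.fst _ π, ?_⟩
      show ((Functor.LaxMonoidal.ε (Over.pullback π)) ≫ (Over.pullback π).map η[G]).left ≫ _ = _
      simp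
    obtain ⟨r, hr⟩ := this
    intro z
    rw [hr, Scheme.Hom.comp_apply]
    exact ⟨_, rfl⟩
  let Z : Set X := Q.hom '' (δ ⁻¹' E)
  have hZo : IsOpen Z := Q.hom.isOpenMap _ ((isOpen_discrete E).preimage δ.continuous)
  have hZc : IsClosed Z := Q.hom.isClosedMap _ ((isClosed_discrete E).preimage δ.continuous)
  have hZ : Z.Nonempty := by
    let v₁ : Over.mk x ⟶ T₁ := Over.homMk t₁ ht₁
    let v₂ : Over.mk x ⟶ T₂ := Over.homMk t₂ ht₂
    let v : Over.mk x ⟶ T := Over.homMk t ht
    have e1 : v₁ ≫ f₁ = v := Over.OverMorphism.ext hft₁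
    have e2 : v₂ ≫ f₂ = v := Over.OverMorphism.ext hft₂
    have hl : lift (toUnit (Over.mk x) ≫ η[GX]) v ≫ θ = lift v v := by
      apply CartesianMonoidalCategory.hom_ext
      · simp only [θ, Category.assoc, lift_fst]
        have h1 : lift (toUnit (Over.mk x) ≫ η[GX]) v =
            lift (toUnit (Over.mk x)) v ≫ (η[GX] ▷ T) := by
          apply CartesianMonoidalCategory.hom_ext <;> simp
        rw [h1, Category.assoc, a.one_act]
        simp
      · simp [θ]
    have hg : lift v₁ v₂ ≫ g = toUnit (Over.mk x) ≫ η[GX] := by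
      simp only [g, comp_lift_assoc, lift_fst_assoc, lift_snd_assoc, e1, e2]
      rw [← hl]
      simp
    refine ⟨_, (lift v₁ v₂).left (default : Spec (CommRingCat.of k)), ?_, rfl⟩
    show ((lift v₁ v₂).left ≫ g.left ≫ pullback.fst G.hom π) (default : Spec (CommRingCat.of k)) ∈ E
    have : (lift v₁ v₂).left ≫ g.left = (toUnit (Over.mk x)).left ≫ η[GX].left := congrArg CommaMorphism.left hg
    rw [← Category.assoc, this, Category.assoc, Scheme.Hom.comp_apply]
    exact hone _
  have hZu : Z = Set.univ := IsClopen.eq_univ ⟨hZc, hZo⟩ hZ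
  refine ⟨fun p => ?_⟩
  obtain ⟨q, hq, hqp⟩ : p ∈ Z := hZu ▸ Set.mem_univ p
  let Y : Over X := Over.mk (Q.left.fromSpecResidueField q ≫ Q.hom)
  haveI : AlgebraicGeometry.IsReduced Y.left := inferInstanceAs (AlgebraicGeometry.IsReduced (Spec (Q.left.residueField q)))
  let y : Y ⟶ Q := Over.homMk (Q.left.fromSpecResidueField q)
  have hy : y ≫ g = toUnit Y ≫ η[GX] := by
    refine Over.OverMorphism.ext ?_
    refine pullback.hom_ext ?_ ((Category.assoc _ _ _).trans ((Over.w (y ≫ g)).trans (Over.w (toUnit Y ≫ η[GX])).symm))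
    have hrange : ∀ (w : Y ⟶ GX), (∀ z, (w.left ≫ pullback.fst G.hom π) z ∈ E) →
        w.left ≫ pullback.fst G.hom π = (Q.left.fromSpecResidueField q ≫ Q.hom ≫ π) ≫ η[G].left := by
      intro w hw
      have := eq_comp_of_mem_range G.hom η[G].left (Over.w η[G]) (w.left ≫ pullback.fst G.hom π)
        (Set.range_subset_iff.2 hw)
      rw [this]
      congr 1
      rw [Category.assoc, pullback.condition, ← Category.assoc, ← Category.assoc]
      exact congrArg (· ≫ π) (Over.w w)
    have ha1 : ∀ z, ((y ≫ g).left ≫ pullback.fst G.hom π) z ∈ E := fun z => by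
      have : y.left z = q := Scheme.fromSpecResidueField_apply _ z
      show δ (y.left z) ∈ E
      rw [this]; exact hq
    have ha2 : ∀ z, ((toUnit Y ≫ η[GX]).left ≫ pullback.fst G.hom π) z ∈ E := fun z => hone ((toUnit Y).left z)
    exact (hrange (y ≫ g) ha1).trans (hrange (toUnit Y ≫ η[GX]) ha2).symm
  have hyeq : y ≫ fst T₁ T₂ ≫ f₁ = y ≫ snd T₁ T₂ ≫ f₂ := by
    let w : Y ⟶ GX ⊗ T := y ≫ lift (fst T₁ T₂ ≫ f₁) (snd T₁ T₂ ≫ f₂) ≫ inv θ
    have hθ2 : inv θ ≫ snd GX T = snd T T := by rw [IsIso.inv_comp_eq]; simp [θ]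
    have hθ1 : inv θ ≫ a.act = fst T T := by rw [IsIso.inv_comp_eq]; simp [θ]
    have hw1 : w ≫ a.act = y ≫ fst T₁ T₂ ≫ f₁ := by simp [w, hθ1]
    have hw2 : w ≫ snd GX T = y ≫ snd T₁ T₂ ≫ f₂ := by simp [w, hθ2]
    have hw0 : w ≫ fst GX T = toUnit Y ≫ η[GX] := by
      rw [← hy]; simp [w, g]
    have hw : w = lift (toUnit Y) (y ≫ snd T₁ T₂ ≫ f₂) ≫ (η[GX] ▷ T) := by
      apply CartesianMonoidalCategory.hom_ext
      · rw [hw0]; simp
      · rw [hw2]; simp
    rw [← hw1, hw, Category.assoc, a.one_act]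
    simp
  let l : Y ⟶ pullback f₁ f₂ := pullback.lift (y ≫ fst T₁ T₂) (y ≫ snd T₁ T₂) (by simpa using hyeq)
  refine ⟨l.left (default : Spec (Q.left.residueField q)), ?_⟩
  show (l.left ≫ (pullback f₁ f₂).hom) (default : Spec (Q.left.residueField q)) = p
  rw [Over.w l]
  show (Q.left.fromSpecResidueField q ≫ Q.hom) (default : Spec (Q.left.residueField q)) = p
  rw [Scheme.Hom.comp_apply, Scheme.fromSpecResidueField_apply]
  exact hqp

end Groth.Agent.S18762
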