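import Groth.Statements.S18763
import Groth.Agent.FpqcTorsor.LocalSections
-- import your own Groth.Agent.* helpers here

set_option autoImplicit false
set_option linter.style.haveILetI false
set_option backward.isDefEq.respectTransparency false
universe u
open CategoryTheory CategoryTheory.Limits MonoidalCategory CartesianMonoidalCategory MonObj GrpObj AlgebraicGeometry
open AlgGrp

namespace Groth.Agent.S18763

/-- Let G be a finite group scheme over a field k and H a closed subgroup scheme of G, and let (Q, q₀)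
with its G-action be the homogeneous space G/H for the fppf topology (the orbit map of q₀ is an fppf
H-torsor onto Q). Let N be a closed subgroup scheme of G which is the kernel of the action of G on
Q: a point g of G with values in a k-scheme T factors through N exactly when g acts as the identity
on all points of Q with values in T-schemes. Then N (the core of H in G) is normal in G, is
contained in H, and contains every closed normal subgroup scheme of G which is contained in H. (The
published definition takes the core to be the kernel of the linear representation of G on the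
coordinate ring of G/H; this is the same subgroup as the kernel of the action on G/H used here.) -/
theorem result
    (k : Type u) [Field k]
    (G : Over (Spec (CommRingCat.of k))) [GrpObj G] [IsFinite G.hom]
    (H : Over (Spec (CommRingCat.of k))) [GrpObj H] (i : H ⟶ G) [IsMonHom i] [IsClosedImmersion i.left]
    (Q : Over (Spec (CommRingCat.of k))) (aQ : AlgGrp.Action G Q) (q₀ : 𝟙_ (Over (Spec (CommRingCat.of k))) ⟶ Q)
    (hQ : ChGrp.IsHomog Scheme.fppfPrecoverage i aQ q₀)
    (N : Over (Spec (CommRingCat.of k))) [GrpObj N] (n : N ⟶ G) [IsMonHom n] [IsClosedImmersion n.left]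
    (hN : ∀ (T : Over (Spec (CommRingCat.of k))) (g : T ⟶ G),
      (∃ g' : T ⟶ N, g' ≫ n = g) ↔
        ∀ (T' : Over (Spec (CommRingCat.of k))) (v : T' ⟶ T) (q : T' ⟶ Q), lift (v ≫ g) q ≫ aQ.act = q) :
    AlgGrp.IsNormalHom n ∧ (∃ m : N ⟶ H, m ≫ i = n) ∧
      ∀ (N' : Over (Spec (CommRingCat.of k))) [GrpObj N'] (n' : N' ⟶ G) [IsMonHom n'] [IsClosedImmersion n'.left],
        AlgGrp.IsNormalHom n' → (∃ m' : N' ⟶ H, m' ≫ i = n') → ∃ r : N' ⟶ N, r ≫ n = n' := by
  let ρ : G ⟶ Q := aQ.orbitMap q₀
  obtain ⟨-, hsq, hloc⟩ := hQ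
  have hρ : FpqcTorsor.LocSections ρ := by
    obtain ⟨R, hR, hsec⟩ := hloc
    exact ⟨R, Scheme.fppfPrecoverage_le_fpqcPrecoverage _ hR, hsec⟩
  have orb : ∀ {T : Over (Spec (CommRingCat.of k))} (g : T ⟶ G),
      g ≫ ρ = lift g (toUnit T ≫ q₀) ≫ aQ.act := fun g => aQ.comp_orbitMap g q₀
  have act_mul : ∀ {T : Over (Spec (CommRingCat.of k))} (g g' : T ⟶ G),
      (g * g') ≫ ρ = lift g (g' ≫ ρ) ≫ aQ.act := fun g g' => by
    rw [orb, orb, AlgGrp.Action.lift_mul_act]
  have fixH : ∀ {T : Over (Spec (CommRingCat.of k))} (h : T ⟶ H), (h ≫ i) ≫ ρ = (1 : T ⟶ G) ≫ ρ := fun {T} h => by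
    have := congrArg (lift (1 : T ⟶ G) h ≫ ·) hsq.w
    simp only [lift_fst_assoc, lift_whiskerLeft_assoc, Category.assoc] at this
    rw [← Category.assoc (lift _ _) μ[G], ← Hom.mul_def, _root_.one_mul] at this
    exact this.symm
  have fixN : ∀ {T T' : Over (Spec (CommRingCat.of k))} (m : T ⟶ N) (v : T' ⟶ T) (q : T' ⟶ Q),
      lift (v ≫ m ≫ n) q ≫ aQ.act = q := fun {T T'} m v q => (hN T (m ≫ n)).1 ⟨m, rfl⟩ T' v q
  refine ⟨?_, ?_, ?_⟩
  · intro T g m
    obtain ⟨n', hn'⟩ := (hN T (g * (m ≫ n) * g⁻¹)).2 fun T' v q => by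
      rw [MonObj.comp_mul, MonObj.comp_mul, GrpObj.comp_inv, AlgGrp.Action.lift_mul_act, AlgGrp.Action.lift_mul_act,
        fixN m v, ← AlgGrp.Action.lift_mul_act, mul_inv_cancel, AlgGrp.Action.lift_one_act]
    exact ⟨n', hn'.symm⟩
  · have h0 : n ≫ ρ = (1 : N ⟶ G) ≫ ρ := by
      rw [orb, orb, AlgGrp.Action.lift_one_act]
      have := fixN (𝟙 N) (𝟙 N) (toUnit N ≫ q₀)
      simpa using this
    obtain ⟨p, hp1, hp2⟩ := hsq.exists_lift (1 : N ⟶ G) n h0.symm
    refine ⟨p ≫ snd G H, ?_⟩
    have hp : p = lift (1 : N ⟶ G) (p ≫ snd G H) := by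
      apply CartesianMonoidalCategory.hom_ext
      · rw [hp1, lift_fst]
      · rw [lift_snd]
    rw [hp, lift_whiskerLeft_assoc, ← Hom.mul_def, _root_.one_mul] at hp2
    exact hp2
  · intro N' _ n' _ _ hnorm ⟨m', hm'⟩
    obtain ⟨r, hr⟩ := (hN N' n').2 fun T' v q => by
      have key : lift (fst N' Q ≫ n') (snd N' Q) ≫ aQ.act = snd N' Q := by
        refine (hρ.whiskerLeft N').epi ?_
        rw [comp_lift_assoc, whiskerLeft_fst_assoc, whiskerLeft_snd]
        obtain ⟨b, hb⟩ := hnorm _ (snd N' G)⁻¹ (fst N' G)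
        have e : (fst N' G ≫ n') * snd N' G = snd N' G * (b ≫ n') := by
          rw [← hb, _root_.inv_inv]
          simp only [← _root_.mul_assoc, mul_inv_cancel, _root_.one_mul]
        rw [← act_mul, e, act_mul, ← hm', ← Category.assoc b m' i, fixH, ← act_mul, _root_.mul_one]
      have := congrArg (lift v q ≫ ·) key
      simp only [comp_lift_assoc, lift_fst_assoc, lift_snd] at this
      exact this
    exact ⟨r, hr⟩

end Groth.Agent.S18763
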