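import Groth.Statements.S18764
import Groth.Agent.FpqcTorsor.Points
import Groth.Agent.FpqcTorsor.SelfFlat
import Groth.Agent.S18762
import Groth.Agent.AlgSpLib.LocP
-- import your own Groth.Agent.* helpers here

set_option autoImplicit false
set_option linter.style.haveILetI false
set_option backward.isDefEq.respectTransparency false
universe u
open CategoryTheory CategoryTheory.Limits MonoidalCategory CartesianMonoidalCategory MonObj GrpObj AlgebraicGeometry
open NonAbH1

namespace Groth.Agent.S18764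

/-- Let k be a field and X a quasi-compact k-scheme, connected and reduced, having a k-point x; let G,
G₁, G₂ be finite group schemes over k with homomorphisms φ₁ : G₁ → G and φ₂ : G₂ → G, and let T, T₁,
T₂ be torsors over X (fppf-locally trivial) under the base changes to X of G, G₁, G₂ respectively,
each pointed by a k-point lying over x. Let f₁ : T₁ → T and f₂ : T₂ → T be morphisms of pointed
torsors: X-morphisms which intertwine the actions along φ₁, φ₂ and send the marked points of T₁, T₂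
to that of T. Let P be the fibre product group scheme G₁ ×_G G₂ with its projections π₁, π₂. Then
the fibre product T₁ ×_T T₂ carries an action of the base change of P for which both projections to
T₁ and T₂ are equivariant (along π₁, π₂) and which makes it a torsor over X (fppf-locally trivial).
(The published statement says that such an X has a fundamental group scheme; this row states the
closure of finite pointed torsors under fibre products to which it is reduced.) -/
theorem result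
    (k : Type u) [Field k] (X : Scheme.{u}) [X.Over (Spec (CommRingCat.of k))] [ConnectedSpace X]
    [CompactSpace X] [AlgebraicGeometry.IsReduced X]
    (x : Spec (CommRingCat.of k) ⟶ X) (hx : x ≫ (X ↘ Spec (CommRingCat.of k)) = 𝟙 _)
    (G G₁ G₂ : Over (Spec (CommRingCat.of k))) [GrpObj G] [GrpObj G₁] [GrpObj G₂]
    [IsFinite G.hom] [IsFinite G₁.hom] [IsFinite G₂.hom]
    (φ₁ : G₁ ⟶ G) (φ₂ : G₂ ⟶ G) [IsMonHom φ₁] [IsMonHom φ₂]
    (T T₁ T₂ : Over X)
    (a : AlgGrp.Action (Red.bc (X ↘ Spec (CommRingCat.of k)) G) T)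
    (a₁ : AlgGrp.Action (Red.bc (X ↘ Spec (CommRingCat.of k)) G₁) T₁)
    (a₂ : AlgGrp.Action (Red.bc (X ↘ Spec (CommRingCat.of k)) G₂) T₂)
    (hT : NonAbH1.IsTorsorFor Scheme.fppfPrecoverage a)
    (hT₁ : NonAbH1.IsTorsorFor Scheme.fppfPrecoverage a₁)
    (hT₂ : NonAbH1.IsTorsorFor Scheme.fppfPrecoverage a₂)
    (t : Spec (CommRingCat.of k) ⟶ T.left) (t₁ : Spec (CommRingCat.of k) ⟶ T₁.left)
    (t₂ : Spec (CommRingCat.of k) ⟶ T₂.left)
    (ht : t ≫ T.hom = x) (ht₁ : t₁ ≫ T₁.hom = x) (ht₂ : t₂ ≫ T₂.hom = x)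
    (f₁ : T₁ ⟶ T) (f₂ : T₂ ⟶ T)
    (hf₁ : AlgGrp.Action.IsEquivariant a₁ (a.restrict ((Over.pullback (X ↘ Spec (CommRingCat.of k))).map φ₁)) f₁)
    (hf₂ : AlgGrp.Action.IsEquivariant a₂ (a.restrict ((Over.pullback (X ↘ Spec (CommRingCat.of k))).map φ₂)) f₂)
    (hft₁ : t₁ ≫ f₁.left = t) (hft₂ : t₂ ≫ f₂.left = t)
    (P : Over (Spec (CommRingCat.of k))) [GrpObj P] (π₁ : P ⟶ G₁) (π₂ : P ⟶ G₂) [IsMonHom π₁] [IsMonHom π₂]
    (hP : IsPullback π₁ π₂ φ₁ φ₂) :
    ∃ c : AlgGrp.Action (Red.bc (X ↘ Spec (CommRingCat.of k)) P) (pullback f₁ f₂),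
      AlgGrp.Action.IsEquivariant c (a₁.restrict ((Over.pullback (X ↘ Spec (CommRingCat.of k))).map π₁)) (pullback.fst f₁ f₂) ∧
      AlgGrp.Action.IsEquivariant c (a₂.restrict ((Over.pullback (X ↘ Spec (CommRingCat.of k))).map π₂)) (pullback.snd f₁ f₂) ∧
      NonAbH1.IsTorsorFor Scheme.fppfPrecoverage c := by
  let πX := X ↘ Spec (CommRingCat.of k)
  let PX := Red.bc πX P
  let q₁ : PX ⟶ Red.bc πX G₁ := (Over.pullback πX).map π₁
  let q₂ : PX ⟶ Red.bc πX G₂ := (Over.pullback πX).map π₂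
  let ψ₁ : Red.bc πX G₁ ⟶ Red.bc πX G := (Over.pullback πX).map φ₁
  let ψ₂ : Red.bc πX G₂ ⟶ Red.bc πX G := (Over.pullback πX).map φ₂
  haveI : IsMonHom q₁ := inferInstanceAs (IsMonHom ((Over.pullback πX).map π₁))
  haveI : IsMonHom q₂ := inferInstanceAs (IsMonHom ((Over.pullback πX).map π₂))
  have hPX : IsPullback q₁ q₂ ψ₁ ψ₂ := hP.map (Over.pullback πX)
  have e₁ : ∀ {W : Over X} (g : W ⟶ Red.bc πX G₁) (s : W ⟶ T₁),
      FpqcTorsor.pt a₁ g s ≫ f₁ = FpqcTorsor.pt a (g ≫ ψ₁) (s ≫ f₁) := fun g s => by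
    unfold FpqcTorsor.pt
    rw [Category.assoc, hf₁]
    simp only [AlgGrp.Action.restrict, ← Category.assoc]
    congr 1
    apply CartesianMonoidalCategory.hom_ext <;> simp [ψ₁, πX]
  have e₂ : ∀ {W : Over X} (g : W ⟶ Red.bc πX G₂) (s : W ⟶ T₂),
      FpqcTorsor.pt a₂ g s ≫ f₂ = FpqcTorsor.pt a (g ≫ ψ₂) (s ≫ f₂) := fun g s => by
    unfold FpqcTorsor.pt
    rw [Category.assoc, hf₂]
    simp only [AlgGrp.Action.restrict, ← Category.assoc]
    congr 1
    apply CartesianMonoidalCategory.hom_ext <;> simp [ψ₂, πX]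
  let Z := pullback f₁ f₂
  let A : PX ⊗ Z ⟶ Z := pullback.lift
    (FpqcTorsor.pt a₁ (fst PX Z ≫ q₁) (snd PX Z ≫ pullback.fst f₁ f₂))
    (FpqcTorsor.pt a₂ (fst PX Z ≫ q₂) (snd PX Z ≫ pullback.snd f₁ f₂))
    (by rw [e₁, e₂]; simp only [Category.assoc, hPX.w, pullback.condition])
  have A₁ : ∀ {W : Over X} (g : W ⟶ PX) (z : W ⟶ Z), lift g z ≫ A ≫ pullback.fst f₁ f₂ =
      FpqcTorsor.pt a₁ (g ≫ q₁) (z ≫ pullback.fst f₁ f₂) := fun g z => by
    simp only [A, pullback.lift_fst]; rw [FpqcTorsor.comp_pt]; simp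
  have A₂ : ∀ {W : Over X} (g : W ⟶ PX) (z : W ⟶ Z), lift g z ≫ A ≫ pullback.snd f₁ f₂ =
      FpqcTorsor.pt a₂ (g ≫ q₂) (z ≫ pullback.snd f₁ f₂) := fun g z => by
    simp only [A, pullback.lift_snd]; rw [FpqcTorsor.comp_pt]; simp
  let c : AlgGrp.Action PX Z :=
    { act := A
      one_act := by
        have h : (η[PX] ▷ Z) = lift (toUnit (𝟙_ _ ⊗ Z) ≫ η[PX]) (snd _ Z) := by
          apply CartesianMonoidalCategory.hom_ext <;> simp [toUnit_unique (fst (𝟙_ (Over X)) Z) (toUnit _)]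
        rw [h]
        apply pullback.hom_ext
        · rw [Category.assoc, A₁, Category.assoc, IsMonHom.one_hom, ← Hom.one_def, FpqcTorsor.pt_one]
          exact ((leftUnitor_hom Z).symm ▸ rfl)
        · rw [Category.assoc, A₂, Category.assoc, IsMonHom.one_hom, ← Hom.one_def, FpqcTorsor.pt_one]
          exact ((leftUnitor_hom Z).symm ▸ rfl)
      mul_act := by
        apply AlgGrp.Action.hom_ext_lift₃
        intro W g g' z
        have hl : lift (lift g g') z ≫ (μ[PX] ▷ Z) = lift (g * g') z := by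
          rw [lift_whiskerRight, ← Hom.mul_def]
        have hr : lift (lift g g') z ≫ (α_ PX PX Z).hom ≫ (PX ◁ A) = lift g (lift g' z ≫ A) := by
          rw [← Category.assoc, lift_lift_associator_hom, lift_whiskerLeft]
        rw [reassoc_of% hl, reassoc_of% hr]
        apply pullback.hom_ext
        · simp only [Category.assoc, A₁]
          rw [MonObj.mul_comp, FpqcTorsor.pt_mul]
        · simp only [Category.assoc, A₂]
          rw [MonObj.mul_comp, FpqcTorsor.pt_mul] }
  have hc₁ : AlgGrp.Action.IsEquivariant c (a₁.restrict q₁) (pullback.fst f₁ f₂) := by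
    show A ≫ pullback.fst f₁ f₂ = (PX ◁ pullback.fst f₁ f₂) ≫ (q₁ ▷ T₁) ≫ a₁.act
    simp only [A, pullback.lift_fst, FpqcTorsor.pt]
    rw [← Category.assoc]
    congr 1
    apply CartesianMonoidalCategory.hom_ext
    · rw [lift_fst, Category.assoc, whiskerRight_fst, whiskerLeft_fst_assoc]
    · rw [lift_snd, Category.assoc, whiskerRight_snd, whiskerLeft_snd]
  have hc₂ : AlgGrp.Action.IsEquivariant c (a₂.restrict q₂) (pullback.snd f₁ f₂) := by
    show A ≫ pullback.snd f₁ f₂ = (PX ◁ pullback.snd f₁ f₂) ≫ (q₂ ▷ T₂) ≫ a₂.act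
    simp only [A, pullback.lift_snd, FpqcTorsor.pt]
    rw [← Category.assoc]
    congr 1
    apply CartesianMonoidalCategory.hom_ext
    · rw [lift_fst, Category.assoc, whiskerRight_fst, whiskerLeft_fst_assoc]
    · rw [lift_snd, Category.assoc, whiskerRight_snd, whiskerLeft_snd]
  refine ⟨c, hc₁, hc₂, ?_⟩
  -- the pseudo-torsor property
  let θ : PX ⊗ Z ⟶ Z ⊗ Z := lift A (snd PX Z)
  let z : Z ⊗ Z ⟶ Z := fst Z Z
  let z' : Z ⊗ Z ⟶ Z := snd Z Z
  obtain ⟨g₁, hg₁⟩ := FpqcTorsor.exists_pt a₁ hT₁.1 (z' ≫ pullback.fst f₁ f₂) (z ≫ pullback.fst f₁ f₂)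
  obtain ⟨g₂, hg₂⟩ := FpqcTorsor.exists_pt a₂ hT₂.1 (z' ≫ pullback.snd f₁ f₂) (z ≫ pullback.snd f₁ f₂)
  have hg : g₁ ≫ ψ₁ = g₂ ≫ ψ₂ := by
    refine FpqcTorsor.pt_cancel a hT.1 (x := z' ≫ pullback.fst f₁ f₂ ≫ f₁) ?_
    have h1 := e₁ g₁ (z' ≫ pullback.fst f₁ f₂)
    have h2 := e₂ g₂ (z' ≫ pullback.snd f₁ f₂)
    rw [hg₁] at h1
    rw [hg₂] at h2
    simp only [Category.assoc, pullback.condition] at h1 h2 ⊢
    rw [← h1, ← h2]
  let ψ : Z ⊗ Z ⟶ PX ⊗ Z := lift (hPX.lift g₁ g₂ hg) z'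
  have hψθ : ψ ≫ θ = 𝟙 _ := by
    apply CartesianMonoidalCategory.hom_ext
    · simp only [θ, Category.assoc, lift_fst, Category.id_comp]
      apply pullback.hom_ext
      · simp only [ψ, Category.assoc, A₁, hPX.lift_fst, hg₁]; rfl
      · simp only [ψ, Category.assoc, A₂, hPX.lift_snd, hg₂]; rfl
    · simp [θ, ψ, z']
  have hθψ : θ ≫ ψ = 𝟙 _ := by
    have hz' : θ ≫ z' = snd PX Z := by simp [θ, z']
    have hz : θ ≫ z = A := by simp [θ, z]
    apply CartesianMonoidalCategory.hom_ext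
    · simp only [ψ, Category.assoc, lift_fst, Category.id_comp]
      apply hPX.hom_ext
      · rw [Category.assoc, hPX.lift_fst]
        refine FpqcTorsor.pt_cancel a₁ hT₁.1 (x := snd PX Z ≫ pullback.fst f₁ f₂) ?_
        have := congrArg (θ ≫ ·) hg₁
        simp only [FpqcTorsor.comp_pt, reassoc_of% hz', reassoc_of% hz] at this
        rw [this, ← A₁]
        simp
      · rw [Category.assoc, hPX.lift_snd]
        refine FpqcTorsor.pt_cancel a₂ hT₂.1 (x := snd PX Z ≫ pullback.snd f₁ f₂) ?_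
        have := congrArg (θ ≫ ·) hg₂
        simp only [FpqcTorsor.comp_pt, reassoc_of% hz', reassoc_of% hz] at this
        rw [this, ← A₂]
        simp
    · simp [ψ, hz']
  haveI hθ : IsIso θ := ⟨ψ, hθψ, hψθ⟩
  -- flatness
  have h1 := FpqcTorsor.isTorsorFor_fpqc_of_fppf a₁ hT₁
  have h2 := FpqcTorsor.isTorsorFor_fpqc_of_fppf a₂ hT₂
  have h0 := FpqcTorsor.isTorsorFor_fpqc_of_fppf a hT
  haveI : IsFinite (Red.bc πX G).hom := by show IsFinite (pullback.snd G.hom πX); infer_instance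
  haveI : IsFinite (Red.bc πX G₁).hom := by show IsFinite (pullback.snd G₁.hom πX); infer_instance
  haveI : IsFinite (Red.bc πX G₂).hom := by show IsFinite (pullback.snd G₂.hom πX); infer_instance
  haveI : Flat (Red.bc πX G₁).hom := by show Flat (pullback.snd G₁.hom πX); infer_instance
  haveI : Flat (Red.bc πX G₂).hom := by show Flat (pullback.snd G₂.hom πX); infer_instance
  haveI : LocallyOfFinitePresentation (Red.bc πX G₁).hom := by
    show LocallyOfFinitePresentation (pullback.snd G₁.hom πX); infer_instance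
  haveI : LocallyOfFinitePresentation (Red.bc πX G₂).hom := by
    show LocallyOfFinitePresentation (pullback.snd G₂.hom πX); infer_instance
  haveI := FpqcTorsor.isFinite_of_isTorsorFor a h0
  haveI := FpqcTorsor.isFinite_of_isTorsorFor a₁ h1
  haveI := FpqcTorsor.isFinite_of_isTorsorFor a₂ h2
  haveI := FpqcTorsor.locallyOfFinitePresentation_of_isTorsorFor a₁ h1
  haveI := FpqcTorsor.locallyOfFinitePresentation_of_isTorsorFor a₂ h2
  haveI : IsFinite (f₂.left ≫ T.hom) := by rw [Over.w f₂]; infer_instance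
  haveI : IsFinite f₂.left := IsFinite.of_comp f₂.left T.hom
  haveI : LocallyOfFinitePresentation (f₂.left ≫ T.hom) := by rw [Over.w f₂]; infer_instance
  haveI : LocallyOfFinitePresentation f₂.left := AlgSpLib.locallyOfFinitePresentation_of_comp f₂.left T.hom inferInstance inferInstance
  have hsq := (IsPullback.of_hasPullback f₁ f₂).map (Over.forget X)
  haveI : IsFinite (pullback.fst f₁ f₂).left :=
    MorphismProperty.of_isPullback (P := @IsFinite) hsq.flip (inferInstance : IsFinite f₂.left)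
  haveI : LocallyOfFinitePresentation (pullback.fst f₁ f₂).left :=
    MorphismProperty.of_isPullback (P := @LocallyOfFinitePresentation) hsq.flip
      (inferInstance : LocallyOfFinitePresentation f₂.left)
  haveI : IsFinite Z.hom := by rw [← Over.w (pullback.fst f₁ f₂)]; infer_instance
  haveI : LocallyOfFinitePresentation Z.hom := by rw [← Over.w (pullback.fst f₁ f₂)]; infer_instance
  haveI : Surjective Z.hom :=
    S18762.result k X x hx G G₁ G₂ φ₁ φ₂ T T₁ T₂ a a₁ a₂ hT hT₁ hT₂ t t₁ t₂ ht ht₁ ht₂ f₁ f₂ hf₁ hf₂ hft₁ hft₂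
  have hsqP := hP.map (Over.forget _)
  haveI : IsFinite (φ₂.left ≫ G.hom) := by rw [Over.w φ₂]; infer_instance
  haveI : IsFinite φ₂.left := IsFinite.of_comp φ₂.left G.hom
  haveI : IsFinite π₁.left :=
    MorphismProperty.of_isPullback (P := @IsFinite) hsqP.flip (inferInstance : IsFinite φ₂.left)
  haveI : IsFinite P.hom := by rw [← Over.w π₁]; infer_instance
  let e : (PX ⊗ Z).left ≅ (Z ⊗ Z).left := (Over.forget X).mapIso (asIso θ)
  have he : e.hom ≫ pullback.snd Z.hom Z.hom = pullback.snd PX.hom Z.hom :=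
    congrArg CommaMorphism.left (lift_snd A (snd PX Z))
  haveI : Flat PX.hom := by show Flat (pullback.snd P.hom πX); infer_instance
  haveI : IsFinite PX.hom := by show IsFinite (pullback.snd P.hom πX); infer_instance
  haveI : Flat (pullback.snd Z.hom Z.hom) :=
    (MorphismProperty.cancel_left_of_respectsIso @Flat e.hom _).1 (he ▸ inferInstance)
  haveI : Flat Z.hom := FpqcTorsor.flat_of_self Z.hom (P.hom.finrank default) fun w => by
    rw [← Scheme.Hom.finrank_comp_left_of_isIso e.hom]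
    have := Scheme.Hom.finrank_pullback_snd PX.hom Z.hom w
    rw [← he] at this
    erw [this]
    show (pullback.snd P.hom πX).finrank _ = _
    rw [Scheme.Hom.finrank_pullback_snd]
    exact congrArg _ (Subsingleton.elim _ _)
  exact ⟨hθ, Presieve.singleton Z.hom, Scheme.Hom.singleton_mem_fppfPrecoverage Z.hom,
    fun S' g hg => by obtain ⟨⟩ := hg; exact ⟨𝟙 _, Category.id_comp _⟩⟩

end Groth.Agent.S18764
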