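import Groth.Statements.S18774
import Groth.Agent.CurveVB.Bound
import Groth.Agent.S1536
-- import your own Groth.Agent.* helpers here

set_option autoImplicit false
set_option backward.isDefEq.respectTransparency false
universe u
open CategoryTheory CategoryTheory.Limits AlgebraicGeometry
open VBCurve

namespace Groth.Agent.S18774
open Groth.Agent

/-- Let k be a finite field and C a smooth proper geometrically integral curve over k (proper, smooth
and geometrically integral over k, of dimension one), and write g = dim_k H^1(C, O_C). Let E be a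
finite locally free O_C-module and F a finite locally free submodule of E of rank r' ≥ 1 (a
monomorphism F → E). Then deg F ≤ r' · (dim_k H^0(C, E) + g − 1), that is, the slope of F is at most
h^0(C, E) + g − 1; here the degree of a rank-n locally free module G is χ(G) − n·χ(O_C). -/
theorem result (k : Type u) [Field k] [Finite k] (X : Scheme.{u}) [X.Over (Spec (CommRingCat.of k))]
    [IsProper (X ↘ Spec (CommRingCat.of k))] [Smooth (X ↘ Spec (CommRingCat.of k))]
    [GeometricallyIntegral (X ↘ Spec (CommRingCat.of k))] (hdim : topologicalKrullDim ↥X = 1)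
    (E : X.Modules) (hE : FlatMod.IsFinLocFree E) (F : X.Modules) (r' : ℕ) (hr' : 0 < r')
    (hF : FlatMod.IsFinLocFreeOfRank r' F) (i : F ⟶ E) [Mono i] :
    Curv2.deg k X F r' ≤ (r' : ℤ) * ((Module.finrank k (Coh.HH X E 0) : ℤ) + (Curv2.genus k X : ℤ) - 1) := by
  haveI : GeometricallyConnected (X ↘ Spec (CommRingCat.of k)) := ⟨fun K hK q Y fst snd hp => by
    haveI := GeometricallyIrreducible.geometrically_irreducibleSpace (f := X ↘ Spec (CommRingCat.of k)) q fst snd hp
    infer_instance⟩
  haveI : IsIntegral X := CurveVB.isIntegral_of_geometricallyConnected (X ↘ Spec (CommRingCat.of k))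
  haveI : IsLocallyNoetherian X := LocallyOfFiniteType.isLocallyNoetherian (X ↘ Spec (CommRingCat.of k))
  have h := CurveVB.euler_le_h0_of_mono k hdim (DCohPerf.isCoh_finLocFree (CurveVB.finLocFree_of_rank hF))
    (DCohPerf.isCoh_finLocFree hE) i
  have h0 := S1536.result k X
  have hO : Curv2.euler k X (Coh.structureModule X) = 1 - (Curv2.genus k X : ℤ) := by
    rw [CurveGenus0.euler_eq k hdim (InvPow.isCoh_of_isInvertible (HilbPoly.isInvertible_structureModule X))]
    simp only [CurveDeg.hdim', HilbPoly.hdim, h0, Curv2.genus]
    simp
  have hr : (1 : ℤ) ≤ r' := by exact_mod_cast hr'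
  simp only [Curv2.deg, hO]
  nlinarith [mul_le_mul_of_nonneg_right hr (Int.natCast_nonneg (Module.finrank k (Coh.HH X E 0)))]

end Groth.Agent.S18774
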