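import Mathlib
import Groth.Statements.S18790
-- import your own Groth.Agent.* helpers here

set_option autoImplicit false
universe u v w
open TorusGr

namespace Groth.Agent.S18790

/-- Let `A` be a commutative algebra over a field `k`, graded by an additive commutative group `M` (for
`M` the character group of a split torus `T`, a `T`-action on `Spec A`), let `J` be the ideal
generated by the homogeneous elements of non-zero degree (its zero locus is the fixed-point
subscheme) and let `m ⊇ J` be a maximal ideal with residue field `k` (a fixed rational point) at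
which the fixed-point subscheme is the reduced point: `J` and `m` agree after localizing at `m`.
Then the cotangent space `m/m²` has no part of weight zero: every degree-zero element of `m` lies in
`m²`. (The published statement has `M ≅ ℤ^r`, a split torus, and phrases the conclusion as the
non-vanishing of the weights of a semi-invariant basis of `m/m²`; here `M` is any additive
commutative group, i.e. any diagonalizable group.) -/
theorem result
    {k : Type u} [Field k] {M : Type v} [AddCommGroup M] [DecidableEq M]
    {A : Type w} [CommRing A] [Algebra k A] (𝒜 : M → Submodule k A) [GradedAlgebra 𝒜]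
    (m : Ideal A) [m.IsMaximal] (hrat : Function.Surjective (algebraMap k (A ⧸ m)))
    (hfix : ∀ i : M, i ≠ 0 → ∀ a ∈ 𝒜 i, a ∈ m)
    (hred : ∀ a ∈ m, ∃ s ∉ m, s * a ∈ Ideal.span {b : A | ∃ i : M, i ≠ 0 ∧ b ∈ 𝒜 i})
    {f : A} (hf0 : f ∈ 𝒜 0) (hfm : f ∈ m) : f ∈ m ^ 2 := by
  classical
  set J := Ideal.span {b : A | ∃ i : M, i ≠ 0 ∧ b ∈ 𝒜 i}
  set π : A →+ A := AddMonoidHom.mk' (fun x => (DirectSum.decompose 𝒜 x 0 : A)) (fun a b => by simp)
  have hπ0 : ∀ x ∈ 𝒜 0, π x = x := fun x hx => DirectSum.decompose_of_mem_same 𝒜 hx
  have hπi : ∀ (i : M) (x : A), i ≠ 0 → x ∈ 𝒜 i → π x = 0 := fun i x hi hx => DirectSum.decompose_of_mem_ne 𝒜 hx hi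
  have hsub : ∀ x : A, x - π x ∈ m := fun x => by
    induction x using DirectSum.Decomposition.inductionOn 𝒜 with
    | zero => simp
    | @homogeneous i x =>
      by_cases hi : i = 0
      · subst hi; rw [hπ0 _ x.2, sub_self]; exact m.zero_mem
      · rw [hπi i _ hi x.2, sub_zero]; exact hfix i hi _ x.2
    | add a b ha hb => rw [map_add, add_sub_add_comm]; exact m.add_mem ha hb
  have hJ : ∀ x ∈ J, π x ∈ m ^ 2 := by
    have key : ∀ (i : M) (b : A), i ≠ 0 → b ∈ 𝒜 i → ∀ c, π (c * b) ∈ m ^ 2 := by
      intro i b hi hb c
      induction c using DirectSum.Decomposition.inductionOn 𝒜 with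
      | zero => simp
      | @homogeneous j c =>
        have hcb : (c : A) * b ∈ 𝒜 (j + i) := SetLike.GradedMul.mul_mem c.2 hb
        by_cases hji : j + i = 0
        · have hj : j ≠ 0 := fun h => hi (by simpa [h] using hji)
          rw [hπ0 _ (hji ▸ hcb), sq]
          exact Ideal.mul_mem_mul (hfix j hj _ c.2) (hfix i hi _ hb)
        · rw [hπi _ _ hji hcb]; exact zero_mem _
      | add a a' ha ha' => rw [add_mul, map_add]; exact add_mem ha ha'
    intro x hx
    suffices H : ∀ c, π (c * x) ∈ m ^ 2 by simpa using H 1
    induction hx using Submodule.span_induction with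
    | mem b hb => obtain ⟨i, hi, hbi⟩ := hb; exact key i b hi hbi
    | zero => intro c; simp
    | add a b _ _ ha hb => intro c; rw [mul_add, map_add]; exact add_mem (ha c) (hb c)
    | smul r a _ ha => intro c; rw [smul_eq_mul, ← mul_assoc]; exact ha _
  obtain ⟨s, hs, hsf⟩ := hred f hfm
  have hmul : π (s * f) = π s * f := by
    clear hs hsf
    induction s using DirectSum.Decomposition.inductionOn 𝒜 with
    | zero => simp
    | @homogeneous j c =>
      have hcf : (c : A) * f ∈ 𝒜 j := by simpa using SetLike.GradedMul.mul_mem c.2 hf0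
      by_cases hj : j = 0
      · subst hj; rw [hπ0 _ hcf, hπ0 _ c.2]
      · rw [hπi j _ hj hcf, hπi j _ hj c.2, zero_mul]
    | add a b ha hb => rw [add_mul, map_add, map_add, ha, hb, add_mul]
  have hs0 : π s ∉ m := fun h => hs (by simpa using m.add_mem (hsub s) h)
  obtain ⟨a, μ, hμ, hsum⟩ := ‹m.IsMaximal›.exists_inv hs0
  have e : f = a * (π s * f) + μ * f := by linear_combination (-f) * hsum
  rw [e]
  exact add_mem (Ideal.mul_mem_left _ a (hmul ▸ hJ _ hsf)) (by rw [sq]; exact Ideal.mul_mem_mul hμ hfm)

end Groth.Agent.S18790
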