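import Groth.Statements.S18791
import Mathlib
-- import your own Groth.Agent.* helpers here

set_option autoImplicit false
universe u v w x
open TorusGr

namespace Groth.Agent.S18791

/-- Let `φ : B → A` be a degree-preserving homomorphism of commutative algebras over a field `k` graded
by an additive commutative group `M` (for `M` the character group of a split torus, an equivariant
morphism `Spec A → Spec B`), and let `m` be a maximal ideal of `A` containing all homogeneous
elements of non-zero degree (a fixed point). Then the ideal of those `b` whose image is zero in the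
local ring `A_m` is homogeneous: the homogeneous (weight) components of such a `b` again die in
`A_m`. Since `A_m` embeds in its completion when `A` is Noetherian, these are the elements of `B`
that die in the completed local ring. (The published lemma asserts moreover that, for `B = k[Y_1, …,
Y_d]` mapping the `Y_i` to semi-invariant lifts of a basis of `m/m²`, the kernel of the induced
surjection of completions `k[[Y]] → Â_m` is generated by semi-invariant polynomials; generation of
that kernel by polynomials can fail, so only the statement about polynomial elements of the kernel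
is recorded here. The published statement has `M ≅ ℤ^r` (a split torus) and `B` the polynomial ring
on the lifts; here `M` is any additive commutative group and `B` any `M`-graded `k`-algebra.) -/
theorem result
    {k : Type u} [Field k] {M : Type v} [AddCommGroup M] [DecidableEq M]
    {A : Type w} [CommRing A] [Algebra k A] (𝒜 : M → Submodule k A) [GradedAlgebra 𝒜]
    {B : Type x} [CommRing B] [Algebra k B] (ℬ : M → Submodule k B) [GradedAlgebra ℬ]
    (φ : B →ₐ[k] A) (hφ : ∀ i : M, ∀ b ∈ ℬ i, φ b ∈ 𝒜 i)
    (m : Ideal A) [m.IsMaximal] (hfix : ∀ i : M, i ≠ 0 → ∀ a ∈ 𝒜 i, a ∈ m) :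
    (RingHom.ker ((algebraMap A (Localization.AtPrime m)).comp (φ : B →+* A))).IsHomogeneous ℬ := by
  classical
  have hdec : ∀ (b : B) (i : M), ((DirectSum.decompose 𝒜 (φ b) i : 𝒜 i) : A) = φ ((DirectSum.decompose ℬ b i : ℬ i) : B) := by
    intro b i
    induction b using DirectSum.Decomposition.inductionOn ℬ with
    | zero => simp
    | @homogeneous j b =>
      rcases eq_or_ne j i with rfl | hne
      · rw [DirectSum.decompose_of_mem_same _ (hφ _ _ b.2), DirectSum.decompose_of_mem_same _ b.2]
      · rw [DirectSum.decompose_of_mem_ne _ (hφ _ _ b.2) hne, DirectSum.decompose_of_mem_ne _ b.2 hne, map_zero]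
    | add b c hb hc => simp [map_add, DirectSum.decompose_add, hb, hc]
  intro i₀ b hb
  let L := Localization.AtPrime m
  let π := algebraMap A L
  rw [RingHom.mem_ker, RingHom.comp_apply] at hb ⊢
  change π (φ ((DirectSum.decompose ℬ b i₀ : ℬ i₀) : B)) = 0
  rw [← hdec]
  set a := φ b with ha
  obtain ⟨⟨s, hs⟩, hsa⟩ := (IsLocalization.map_eq_zero_iff m.primeCompl L a).1 hb
  let comp : A → M → A := fun x j => ((DirectSum.decompose 𝒜 x j : 𝒜 j) : A)
  have hcompm : ∀ j, j ≠ 0 → comp s j ∈ m := fun j hj => hfix j hj _ (DirectSum.decompose 𝒜 s j).2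
  let T := (DirectSum.decompose 𝒜 s).support ∪ {0}
  have hsum : ∑ j ∈ T, comp s j = s := by
    conv_rhs => rw [← DirectSum.sum_support_decompose 𝒜 s]
    symm
    refine Finset.sum_subset Finset.subset_union_left fun j _ hj => ?_
    simpa [comp] using hj
  have hs0 : comp s 0 ∉ m := fun h => hs (by
    rw [← hsum]
    exact Ideal.sum_mem _ fun j _ => if hj : j = 0 then hj ▸ h else hcompm j hj)
  have hrel : ∀ i, ∑ j ∈ T, comp s j * comp a (i - j) = 0 := by
    intro i
    have h0 : comp (s * a) i = 0 := by
      show ((DirectSum.decompose 𝒜 (s * a) i : 𝒜 i) : A) = 0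
      rw [show s * a = 0 from hsa]; simp
    rw [← h0]
    conv_rhs => rw [← hsum, Finset.sum_mul]
    show _ = ((DirectSum.decompose 𝒜 (∑ j ∈ T, comp s j * a) i : 𝒜 i) : A)
    rw [DirectSum.decompose_sum, DFinsupp.finsetSum_apply, AddSubmonoidClass.coe_finsetSum]
    refine Finset.sum_congr rfl fun j _ => ?_
    have h := DirectSum.coe_decompose_mul_add_of_left_mem 𝒜 (i := j) (j := i - j) (a := comp s j) (b := a) (DirectSum.decompose 𝒜 s j).2
    rw [add_sub_cancel] at h
    exact h.symm
  let N : Submodule L L := Submodule.span L (((DirectSum.decompose 𝒜 a).support.image fun i => π (comp a i) : Finset L) : Set L)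
  have hin : ∀ i, π (comp a i) ∈ N := by
    intro i
    by_cases hi : i ∈ (DirectSum.decompose 𝒜 a).support
    · exact Submodule.subset_span (Finset.mem_image_of_mem (fun i => π (comp a i)) hi)
    · have : comp a i = 0 := by simpa [comp] using hi
      rw [this, map_zero]; exact zero_mem _
  have hle : N ≤ IsLocalRing.maximalIdeal L • N := by
    refine Submodule.span_le.2 ?_
    intro z hz
    obtain ⟨i, -, rfl⟩ := Finset.mem_image.1 (Finset.mem_coe.1 hz)
    obtain ⟨u, hu⟩ := IsLocalization.map_units L (⟨comp s 0, hs0⟩ : m.primeCompl)
    have h := congrArg π (hrel i)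
    rw [map_sum, map_zero, ← Finset.add_sum_erase T _ (Finset.mem_union_right _ (Finset.mem_singleton_self 0)), sub_zero, map_mul] at h
    have hu' : (↑u : L) = π (comp s 0) := hu
    have he : π (comp a i) = (↑u⁻¹ : L) • (-∑ j ∈ T.erase 0, π (comp s j * comp a (i - j))) := by
      rw [← eq_neg_of_add_eq_zero_left h, ← hu', smul_eq_mul, ← mul_assoc, Units.inv_mul, one_mul]
    rw [SetLike.mem_coe, he]
    refine Submodule.smul_mem _ _ (neg_mem (Submodule.sum_mem _ fun j hj => ?_))
    rw [map_mul, ← smul_eq_mul]
    refine Submodule.smul_mem_smul ?_ (hin _)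
    rw [← Localization.AtPrime.map_eq_maximalIdeal]
    exact Ideal.mem_map_of_mem _ (hcompm j (Finset.ne_of_mem_erase hj))
  have hN := Submodule.eq_bot_of_le_smul_of_le_jacobson_bot (IsLocalRing.maximalIdeal L) N (Submodule.fg_span (Finset.finite_toSet _)) hle (IsLocalRing.maximalIdeal_le_jacobson _)
  simpa [hN] using hin i₀

end Groth.Agent.S18791
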