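import Groth.Statements.S18794
import Mathlib
-- import your own Groth.Agent.* helpers here

set_option autoImplicit false
universe u v w
open scoped TensorProduct
open DefMod

namespace Groth.Agent.S18794

section

open TensorProduct

variable {K E L M : Type*} [Field K] [AddCommGroup E] [Module K E] [Field L] [Algebra K L]
  [Field M] [Algebra K M]

lemma rTensor_baseChange (φ : L →ₐ[K] M) (T : E →ₗ[K] E) (y : L ⊗[K] E) :
    φ.toLinearMap.rTensor E (T.baseChange L y) = T.baseChange M (φ.toLinearMap.rTensor E y) := by
  induction y using TensorProduct.induction_on with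
  | zero => simp
  | tmul l e => simp
  | add u v hu hv => simp [hu, hv]

lemma rTensor_smul (φ : L →ₐ[K] M) (l : L) (y : L ⊗[K] E) :
    φ.toLinearMap.rTensor E (l • y) = φ l • φ.toLinearMap.rTensor E y := by
  induction y using TensorProduct.induction_on with
  | zero => simp
  | tmul l' e => simp [TensorProduct.smul_tmul']
  | add u v hu hv => simp [hu, hv, smul_add]

lemma retr_smul (φ : L →ₐ[K] M) (s : M →ₗ[K] L) (hs : ∀ l c, s (φ l * c) = l * s c) (c : M)
    (y : L ⊗[K] E) : s.rTensor E (c • φ.toLinearMap.rTensor E y) = s c • y := by
  induction y using TensorProduct.induction_on with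
  | zero => simp
  | tmul l e => simp [TensorProduct.smul_tmul', mul_comm c, hs, mul_comm l]
  | add u v hu hv => simp [hu, hv, smul_add]

lemma rTensor_injective (φ : L →ₐ[K] M) :
    Function.Injective (φ.toLinearMap.rTensor E) :=
  Module.Flat.rTensor_preserves_injective_linearMap _ φ.injective

lemma eq_top_of_one_tmul {N : Submodule L (L ⊗[K] E)} (h : ∀ e : E, (1 : L) ⊗ₜ[K] e ∈ N) :
    N = ⊤ := by
  rw [eq_top_iff]
  intro y h_; clear h_
  induction y using TensorProduct.induction_on with
  | zero => exact zero_mem _
  | tmul l e =>
    have := N.smul_mem l (h e)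
    rwa [TensorProduct.smul_tmul', smul_eq_mul, mul_one] at this
  | add u v hu hv => exact add_mem hu hv

end


/-- Let E be a left module over an associative algebra D over a field K of characteristic zero. For a
field extension L of K, the base change L ⊗_K E is a module over L ⊗_K D, i.e. an L-vector space
with a commuting action of D; call it irreducible when it is nonzero and its only L-subspaces stable
under every element of D are 0 and the whole space. Then E is absolutely irreducible (its base
change to an algebraic closure of K is irreducible) if and only if L ⊗_K E is irreducible for every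
finite extension L of K. (Finite extensions are taken in the universe of K.) -/
theorem result
    {K : Type u} [Field K] [CharZero K]
    {D : Type v} [Ring D] [Algebra K D]
    {E : Type w} [AddCommGroup E] [Module K E] [Module D E] [IsScalarTower K D E] :
    (Nontrivial (AlgebraicClosure K ⊗[K] E) ∧ ∀ N : Submodule (AlgebraicClosure K) (AlgebraicClosure K ⊗[K] E), (∀ (d : D) (x : AlgebraicClosure K ⊗[K] E), x ∈ N → (DistribSMul.toLinearMap K E d).baseChange (AlgebraicClosure K) x ∈ N) → N = ⊥ ∨ N = ⊤) ↔
      ∀ (L : Type u) [Field L] [Algebra K L] [FiniteDimensional K L],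
        (Nontrivial (L ⊗[K] E) ∧ ∀ N : Submodule (L) (L ⊗[K] E), (∀ (d : D) (x : L ⊗[K] E), x ∈ N → (DistribSMul.toLinearMap K E d).baseChange (L) x ∈ N) → N = ⊥ ∨ N = ⊤) := by
  constructor
  · rintro ⟨hnt, hbar⟩ L _ _ _
    let φ : L →ₐ[K] AlgebraicClosure K := IsAlgClosed.lift
    letI : Algebra L (AlgebraicClosure K) := φ.toRingHom.toAlgebra
    haveI : IsScalarTower K L (AlgebraicClosure K) := IsScalarTower.of_algHom φ
    obtain ⟨s, hs⟩ := LinearMap.exists_leftInverse_of_injective
      (Algebra.linearMap L (AlgebraicClosure K)) (LinearMap.ker_eq_bot.mpr φ.injective)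
    have hs1 : s 1 = 1 := by
      have h := LinearMap.congr_fun hs 1
      simpa using h
    have hsmul : ∀ l c, (s.restrictScalars K) (φ l * c) = l * (s.restrictScalars K) c := fun l c => by
      show s (φ l * c) = l * s c
      rw [show φ l * c = l • c from rfl, map_smul, smul_eq_mul]
    have hS : ∀ e : E, (s.restrictScalars K).rTensor E ((1 : AlgebraicClosure K) ⊗ₜ[K] e) =
        (1 : L) ⊗ₜ[K] e := fun e => by simp [hs1]
    refine ⟨?_, fun N hN => ?_⟩
    · obtain ⟨e, he⟩ : ∃ e : E, e ≠ 0 := by
        by_contra! h
        haveI : Subsingleton E := ⟨fun a b => by rw [h a, h b]⟩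
        exact not_subsingleton (AlgebraicClosure K ⊗[K] E) inferInstance
      refine ⟨⟨(1 : L) ⊗ₜ[K] e, 0, fun h => he ?_⟩⟩
      obtain ⟨t, ht⟩ := LinearMap.exists_leftInverse_of_injective
        (Algebra.linearMap K L) (LinearMap.ker_eq_bot.mpr (algebraMap K L).injective)
      have h1 : t 1 = 1 := by simpa using LinearMap.congr_fun ht 1
      have := congrArg (fun z => TensorProduct.lid K E (t.rTensor E z)) h
      simpa [h1] using this
    · by_cases hbot : N = ⊥
      · exact Or.inl hbot
      refine Or.inr ?_
      set Nb : Submodule (AlgebraicClosure K) (AlgebraicClosure K ⊗[K] E) :=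
        Submodule.span _ (φ.toLinearMap.rTensor E '' (N : Set (L ⊗[K] E))) with hNb
      rcases hbar Nb (fun d x hx => by
        induction hx using Submodule.span_induction with
        | mem y hy =>
          obtain ⟨n, hn, rfl⟩ := hy
          exact Submodule.subset_span ⟨_, hN d n hn, rTensor_baseChange φ _ n⟩
        | zero => simp
        | add u v _ _ hu hv => rw [map_add]; exact add_mem hu hv
        | smul c u _ hu => rw [map_smul]; exact Submodule.smul_mem _ c hu) with h | h
      · exfalso
        apply hbot
        rw [eq_bot_iff]
        intro n hn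
        have h1 : φ.toLinearMap.rTensor E n ∈ Nb := Submodule.subset_span ⟨n, hn, rfl⟩
        rw [h, Submodule.mem_bot] at h1
        exact (Submodule.mem_bot _).mpr (rTensor_injective φ (h1.trans (map_zero _).symm))
      · have hkey : ∀ y ∈ Nb, ∀ c : AlgebraicClosure K,
            (s.restrictScalars K).rTensor E (c • y) ∈ N := by
          intro y hy
          induction hy using Submodule.span_induction with
          | mem y hy =>
            obtain ⟨n, hn, rfl⟩ := hy
            intro c
            rw [retr_smul φ _ hsmul c n]
            exact N.smul_mem _ hn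
          | zero => intro c; simp
          | add u v _ _ hu hv => intro c; rw [smul_add, map_add]; exact add_mem (hu c) (hv c)
          | smul a u _ hu => intro c; rw [smul_smul]; exact hu _
        refine eq_top_of_one_tmul fun e => ?_
        have := hkey ((1 : AlgebraicClosure K) ⊗ₜ[K] e) (h ▸ Submodule.mem_top) 1
        rwa [one_smul, hS] at this
  · intro h
    refine ⟨?_, fun N hN => ?_⟩
    · obtain ⟨hnt, -⟩ := h K
      exact (rTensor_injective (E := E) (Algebra.ofId K (AlgebraicClosure K))).nontrivial
    · by_cases hbot : N = ⊥
      · exact Or.inl hbot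
      refine Or.inr ?_
      obtain ⟨x, hx, hx0⟩ := Submodule.exists_mem_ne_zero_of_ne_bot hbot
      obtain ⟨S, rfl⟩ := TensorProduct.exists_finset x
      classical
      let L : IntermediateField K (AlgebraicClosure K) :=
        IntermediateField.adjoin K ((S.image Prod.fst : Finset (AlgebraicClosure K)) : Set (AlgebraicClosure K))
      haveI : FiniteDimensional K L := IntermediateField.finiteDimensional_adjoin
        fun z _ => Algebra.IsIntegral.isIntegral z
      obtain ⟨-, hL⟩ := h L
      let N' : Submodule L (L ⊗[K] E) :=
        { carrier := {y | L.val.toLinearMap.rTensor E y ∈ N}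
          zero_mem' := by simp
          add_mem' := fun {a b} ha hb => by
            show L.val.toLinearMap.rTensor E (a + b) ∈ N
            rw [map_add]; exact add_mem ha hb
          smul_mem' := fun l y hy => by
            show L.val.toLinearMap.rTensor E (l • y) ∈ N
            rw [rTensor_smul]; exact N.smul_mem _ hy }
      rcases hL N' (fun d y hy => by
        show L.val.toLinearMap.rTensor E _ ∈ N
        rw [rTensor_baseChange]
        exact hN d _ hy) with hb | ht
      · exfalso
        let y : L ⊗[K] E := ∑ i ∈ S.attach,
          (⟨i.1.1, IntermediateField.subset_adjoin K _ (Finset.mem_coe.mpr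
            (Finset.mem_image.mpr ⟨i.1, i.2, rfl⟩))⟩ : L) ⊗ₜ[K] i.1.2
        have hy : L.val.toLinearMap.rTensor E y = ∑ i ∈ S, i.1 ⊗ₜ[K] i.2 := by
          rw [← Finset.sum_attach S fun i => i.1 ⊗ₜ[K] i.2]
          simp [y, map_sum]
        have hyN : y ∈ N' := by
          show L.val.toLinearMap.rTensor E y ∈ N
          rw [hy]; exact hx
        rw [hb, Submodule.mem_bot] at hyN
        rw [hyN, map_zero] at hy
        exact hx0 hy.symm
      · refine eq_top_of_one_tmul fun e => ?_
        have h1 : (1 : L) ⊗ₜ[K] e ∈ N' := ht ▸ Submodule.mem_top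
        have h2 : L.val.toLinearMap.rTensor E ((1 : L) ⊗ₜ[K] e) ∈ N := h1
        simpa using h2

end Groth.Agent.S18794
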