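import Groth.Statements.S18795
import Mathlib
-- import your own Groth.Agent.* helpers here

set_option autoImplicit false
universe u v w
open scoped TensorProduct
open DefMod

namespace Groth.Agent.S18795

/-- Let E be a left module over an associative algebra D over a field K of characteristic zero. Assume
that the D-linear endomorphisms of E form a finite-dimensional K-vector space, that E has a finite
presentation over D, and that E is absolutely irreducible: its base change K̄ ⊗_K E to an algebraic
closure K̄ of K is nonzero and its only K̄-subspaces stable under every element of D are 0 and the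
whole space. Then End_D(E) = K: every D-linear endomorphism of E is multiplication by a scalar from
K. -/
theorem result
    {K : Type u} [Field K] [CharZero K]
    {D : Type v} [Ring D] [Algebra K D]
    {E : Type w} [AddCommGroup E] [Module K E] [Module D E] [IsScalarTower K D E]
    [Module.Finite K (E →ₗ[D] E)] [Module.FinitePresentation D E]
    (habs : (Nontrivial (AlgebraicClosure K ⊗[K] E) ∧ ∀ N : Submodule (AlgebraicClosure K) (AlgebraicClosure K ⊗[K] E), (∀ (d : D) (x : AlgebraicClosure K ⊗[K] E), x ∈ N → (DistribSMul.toLinearMap K E d).baseChange (AlgebraicClosure K) x ∈ N) → N = ⊥ ∨ N = ⊤))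
    (φ : E →ₗ[D] E) : ∃ c : K, ∀ x : E, φ x = c • x := by
  by_cases hE : Subsingleton E
  · exact ⟨0, fun x => Subsingleton.elim _ _⟩
  haveI : Nontrivial E := not_subsingleton_iff_nontrivial.1 hE
  obtain ⟨hnt, hirr⟩ := habs
  let ρ : Module.End D E →ₐ[K] Module.End K E :=
    { toFun := fun f => f.restrictScalars K
      map_one' := rfl
      map_mul' := fun _ _ => rfl
      map_zero' := rfl
      map_add' := fun _ _ => rfl
      commutes' := fun c => LinearMap.ext fun x => rfl }
  let β : Module.End D E →ₐ[K] Module.End (AlgebraicClosure K) (AlgebraicClosure K ⊗[K] E) :=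
    (Module.End.baseChangeHom K (AlgebraicClosure K) E).comp ρ
  let Φ := β φ
  have hΦ0 : IsIntegral K Φ := (IsIntegral.of_finite K (φ : Module.End D E)).map β
  have hΦ : IsIntegral (AlgebraicClosure K) Φ := hΦ0.tower_top
  obtain ⟨l, hl⟩ := IsAlgClosed.exists_root (minpoly (AlgebraicClosure K) Φ)
    (minpoly.degree_pos hΦ).ne'
  obtain ⟨g, hg⟩ := Polynomial.dvd_iff_isRoot.2 hl
  have hgne : Polynomial.aeval Φ g ≠ 0 := by
    intro h0
    have hgm : g.Monic := by
      refine (Polynomial.monic_X_sub_C l).of_mul_monic_left ?_
      rw [← hg]; exact minpoly.monic hΦ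
    have h1 := minpoly.min (AlgebraicClosure K) Φ hgm h0
    rw [hg, Polynomial.degree_mul, Polynomial.degree_X_sub_C] at h1
    rw [Polynomial.degree_eq_natDegree hgm.ne_zero] at h1
    norm_cast at h1
    omega
  obtain ⟨v, hv⟩ : ∃ v, Polynomial.aeval Φ g v ≠ 0 := by
    by_contra! h; exact hgne (LinearMap.ext h)
  have hker : LinearMap.ker (Φ - algebraMap (AlgebraicClosure K) _ l) = ⊤ := by
    refine (hirr _ fun d x hx => ?_).resolve_left ?_
    · rw [LinearMap.mem_ker, LinearMap.sub_apply, Module.algebraMap_end_apply, sub_eq_zero] at hx ⊢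
      rw [← map_smul, ← hx]
      change ((φ.restrictScalars K).baseChange (AlgebraicClosure K) ∘ₗ
        (DistribSMul.toLinearMap K E d).baseChange (AlgebraicClosure K)) x =
        ((DistribSMul.toLinearMap K E d).baseChange (AlgebraicClosure K) ∘ₗ
        (φ.restrictScalars K).baseChange (AlgebraicClosure K)) x
      rw [← LinearMap.baseChange_comp, ← LinearMap.baseChange_comp]
      congr 2
      exact LinearMap.ext fun e => φ.map_smul d e
    · refine fun hbot => hv ?_
      rw [LinearMap.ker_eq_bot'] at hbot
      refine hbot _ ?_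
      have e := congrArg (fun f : Polynomial (AlgebraicClosure K) => Polynomial.aeval Φ f v) hg
      simp only [minpoly.aeval, map_mul, map_sub, Polynomial.aeval_X, Polynomial.aeval_C] at e
      have h0 := congrArg (fun f : Module.End (AlgebraicClosure K) (AlgebraicClosure K ⊗[K] E) => f v) (minpoly.aeval (AlgebraicClosure K) Φ)
      exact e.symm.trans h0
  obtain ⟨e, he⟩ := exists_ne (0 : E)
  have key : ∀ (f : E →ₗ[K] K) (x : E),
      algebraMap K (AlgebraicClosure K) (f (φ x)) = l * algebraMap K (AlgebraicClosure K) (f x) := by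
    intro f x
    have hx : Φ ((1 : AlgebraicClosure K) ⊗ₜ[K] x) = l • ((1 : AlgebraicClosure K) ⊗ₜ[K] x) := by
      have := LinearMap.mem_ker.1 (hker ▸ Submodule.mem_top : (1 : AlgebraicClosure K) ⊗ₜ[K] x ∈
        LinearMap.ker (Φ - algebraMap (AlgebraicClosure K) _ l))
      rwa [LinearMap.sub_apply, Module.algebraMap_end_apply, sub_eq_zero] at this
    change (φ.restrictScalars K).baseChange (AlgebraicClosure K) ((1 : AlgebraicClosure K) ⊗ₜ[K] x) = _ at hx
    rw [LinearMap.baseChange_tmul] at hx
    have h2 := congrArg (fun z => TensorProduct.AlgebraTensorModule.rid K (AlgebraicClosure K)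
      (AlgebraicClosure K) (f.baseChange (AlgebraicClosure K) z)) hx
    simp only [map_smul, smul_eq_mul] at h2
    simpa [Algebra.smul_def] using h2
  obtain ⟨f, hf⟩ := Module.Projective.exists_dual_ne_zero K he
  have hc : l = algebraMap K (AlgebraicClosure K) (f (φ e) / f e) := by
    rw [map_div₀, key, mul_div_assoc, div_self ((map_ne_zero _).2 hf), mul_one]
  refine ⟨f (φ e) / f e, fun x => ?_⟩
  rw [← sub_eq_zero, ← Module.forall_dual_apply_eq_zero_iff K]
  intro g'
  rw [map_sub, map_smul, smul_eq_mul, sub_eq_zero]
  apply (algebraMap K (AlgebraicClosure K)).injective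
  rw [key, hc, map_mul]

end Groth.Agent.S18795
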