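import Groth.Statements.S18796
import Mathlib
-- import your own Groth.Agent.* helpers here

set_option autoImplicit false
universe u v w w' u'
open scoped TensorProduct
open DefMod

namespace Groth.Agent.S18796

section

open TensorProduct

variable {K P F ι : Type*} [Field K] [CommRing P] [Algebra K P] [AddCommGroup F] [Module K F]

/-- The coefficient of a tensor at a basis vector of the first factor. -/
noncomputable def coef (b : Module.Basis ι K P) (i : ι) : P ⊗[K] F →ₗ[K] F :=
  (TensorProduct.lid K F).toLinearMap.comp ((b.coord i).rTensor F)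

lemma coef_tmul (b : Module.Basis ι K P) (i : ι) (p : P) (f : F) :
    coef b i (p ⊗ₜ[K] f) = b.repr p i • f := by simp [coef]

lemma coef_sum (b : Module.Basis ι K P) (c : ι →₀ F) (j : ι) :
    coef b j (c.sum fun i f => b i ⊗ₜ[K] f) = c j := by
  classical
  rw [map_finsuppSum, Finsupp.sum, Finset.sum_eq_single j]
  · simp [coef_tmul]
  · intro i _ hij
    simp [coef_tmul, hij]
  · intro hj
    simp [coef_tmul, Finsupp.notMem_support_iff.mp hj]

lemma coef_ext (b : Module.Basis ι K P) {y z : P ⊗[K] F} (h : ∀ i, coef b i y = coef b i z) :
    y = z := by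
  obtain ⟨c, rfl⟩ := TensorProduct.eq_repr_basis_left b y
  obtain ⟨c', rfl⟩ := TensorProduct.eq_repr_basis_left b z
  have : c = c' := Finsupp.ext fun i => by simpa [coef_sum] using h i
  rw [this]

lemma coef_baseChange (b : Module.Basis ι K P) (i : ι) (T : F →ₗ[K] F) (y : P ⊗[K] F) :
    coef b i (T.baseChange P y) = T (coef b i y) := by
  induction y using TensorProduct.induction_on with
  | zero => simp
  | tmul p f => simp [coef_tmul]
  | add u v hu hv => simp [hu, hv]

end


/-- Let K be a field of characteristic zero, D an associative K-algebra, E a left D-module that is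
finitely presented over D, F a left D-module and P a commutative K-algebra. The canonical P-linear
map Φ : P ⊗_K Hom_D(E, F) → Hom_P(P ⊗_K E, P ⊗_K F), determined by p ⊗ f ↦ p · (1_P ⊗ f), is
injective, and its image consists exactly of the P-linear maps that commute with the action of every
element of D; in other words Φ identifies P ⊗_K Hom_D(E, F) with the module of homomorphisms P ⊗_K E
→ P ⊗_K F over P ⊗_K D. The map Φ is pinned here by its values on pure tensors. -/
theorem result
    {K : Type u} [Field K] [CharZero K]
    {D : Type v} [Ring D] [Algebra K D]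
    {E : Type w} [AddCommGroup E] [Module K E] [Module D E] [IsScalarTower K D E]
    [Module.FinitePresentation D E]
    {F : Type w'} [AddCommGroup F] [Module K F] [Module D F] [IsScalarTower K D F]
    (P : Type u') [CommRing P] [Algebra K P]
    (Φ : P ⊗[K] (E →ₗ[D] F) →ₗ[P] (P ⊗[K] E →ₗ[P] P ⊗[K] F))
    (hΦ : ∀ (p : P) (f : E →ₗ[D] F), Φ (p ⊗ₜ[K] f) = p • (f.restrictScalars K).baseChange P) :
    Function.Injective Φ ∧
      ∀ g : P ⊗[K] E →ₗ[P] P ⊗[K] F,
        g ∈ LinearMap.range Φ ↔
          ∀ d : D, g ∘ₗ (DistribSMul.toLinearMap K E d).baseChange P =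
            (DistribSMul.toLinearMap K F d).baseChange P ∘ₗ g := by
  classical
  let b := Module.Basis.ofVectorSpace K P
  constructor
  · rw [injective_iff_map_eq_zero]
    intro x hx
    obtain ⟨c, rfl⟩ := TensorProduct.eq_repr_basis_left b x
    have hc : c = 0 := Finsupp.ext fun j => LinearMap.ext fun e => by
      have h := congrArg (coef b j) (LinearMap.congr_fun hx ((1 : P) ⊗ₜ[K] e))
      simp only [Finsupp.sum, map_sum, LinearMap.sum_apply, hΦ, LinearMap.smul_apply,
        LinearMap.baseChange_tmul, TensorProduct.smul_tmul', smul_eq_mul, mul_one,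
        LinearMap.coe_restrictScalars, coef_tmul, LinearMap.zero_apply, map_zero] at h
      rw [Finset.sum_eq_single j (fun i _ hij => by simp [hij])
        (fun hj => by simp [Finsupp.notMem_support_iff.mp hj])] at h
      simpa using h
    rw [hc, Finsupp.sum_zero_index]
  · intro g
    constructor
    · rintro ⟨x, rfl⟩ d
      induction x using TensorProduct.induction_on with
      | zero => simp
      | tmul p f =>
        rw [hΦ]
        refine TensorProduct.AlgebraTensorModule.ext fun q e => ?_
        simp [TensorProduct.smul_tmul']
      | add u v hu hv => rw [map_add, LinearMap.add_comp, LinearMap.comp_add, hu, hv]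
    · intro hg
      let f : _ → (E →ₗ[D] F) := fun i =>
        { toFun := fun e => coef b i (g ((1 : P) ⊗ₜ[K] e))
          map_add' := fun u v => by rw [TensorProduct.tmul_add, map_add, map_add]
          map_smul' := fun d e => by
            have h := LinearMap.congr_fun (hg d) ((1 : P) ⊗ₜ[K] e)
            simp only [LinearMap.comp_apply, LinearMap.baseChange_tmul] at h
            show coef b i (g ((1 : P) ⊗ₜ[K] (DistribSMul.toLinearMap K E d e))) = _
            rw [h, coef_baseChange]
            rfl }
      obtain ⟨t, ht⟩ := Module.Finite.fg_top (R := D) (M := E)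
      choose c hc using fun e : E => TensorProduct.eq_repr_basis_left b (g ((1 : P) ⊗ₜ[K] e))
      let s := t.biUnion fun e => (c e).support
      have hout : ∀ i ∉ s, f i = 0 := fun i hi => LinearMap.ext_on ht fun e he => by
        show coef b i (g ((1 : P) ⊗ₜ[K] e)) = 0
        rw [← hc e, coef_sum, ← Finsupp.notMem_support_iff]
        exact fun h => hi (Finset.mem_biUnion.mpr ⟨e, Finset.mem_coe.mp he, h⟩)
      refine ⟨∑ i ∈ s, b i ⊗ₜ[K] f i, TensorProduct.AlgebraTensorModule.ext fun q e => ?_⟩
      have hq : q ⊗ₜ[K] e = q • ((1 : P) ⊗ₜ[K] e) := by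
        rw [TensorProduct.smul_tmul', smul_eq_mul, mul_one]
      rw [hq, map_smul, map_smul]
      congr 1
      refine coef_ext b fun j => ?_
      simp only [map_sum, LinearMap.sum_apply, hΦ, LinearMap.smul_apply,
        LinearMap.baseChange_tmul, TensorProduct.smul_tmul', smul_eq_mul, mul_one,
        LinearMap.coe_restrictScalars, coef_tmul]
      by_cases hj : j ∈ s
      · rw [Finset.sum_eq_single j (fun i _ hij => by simp [hij]) (fun h => absurd hj h)]
        simp [f]
      · rw [Finset.sum_eq_zero fun i hi => by simp [show i ≠ j from fun h => hj (h ▸ hi)]]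
        exact (LinearMap.congr_fun (hout j hj) e).symm

end Groth.Agent.S18796
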