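import Mathlib
import Groth.Statements.S18797
-- import your own Groth.Agent.* helpers here

set_option autoImplicit false
universe u v w
open DefMod

namespace Groth.Agent.S18797

/-- Let K be a field of characteristic zero, O a commutative K-algebra with a K-linear derivation ∂, and
E a finite free O-module equipped with a K-linear map ∂_E satisfying the Leibniz rule ∂_E(a e) =
∂(a) e + a ∂_E(e) (a differential module). The induced derivation on End_O(E) sends φ to ∂_E ∘ φ − φ
∘ ∂_E, which is again O-linear; the trace End_O(E) → O is compatible with the two derivations: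
tr(∂_E ∘ φ − φ ∘ ∂_E) = ∂(tr φ). Here the O-linear map ψ = ∂_E ∘ φ − φ ∘ ∂_E is given by its values.
(The published lemma also asserts that the trace is split surjective and that it respects commutator
brackets; the split surjectivity fails for E = 0 over a nonzero ring and holds only in positive
rank, and neither clause is restated.) -/
theorem result
    {K : Type u} [Field K] [CharZero K]
    {O : Type v} [CommRing O] [Algebra K O] (δ : Derivation K O O)
    {E : Type w} [AddCommGroup E] [Module O E] [Module K E] [IsScalarTower K O E]
    [Module.Free O E] [Module.Finite O E]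
    (δE : E →ₗ[K] E) (hδE : ∀ (a : O) (e : E), δE (a • e) = δ a • e + a • δE e)
    (φ ψ : E →ₗ[O] E) (hψ : ∀ e : E, ψ e = δE (φ e) - φ (δE e)) :
    LinearMap.trace O E ψ = δ (LinearMap.trace O E φ) := by
  classical
  rcases subsingleton_or_nontrivial O with hO | hO
  · exact Subsingleton.elim _ _
  let b := Module.Free.chooseBasis O E
  rw [LinearMap.trace_eq_matrix_trace O b, LinearMap.trace_eq_matrix_trace O b, Matrix.trace, Matrix.trace, map_sum]
  simp only [Matrix.diag_apply, LinearMap.toMatrix_apply]
  have h1 : ∀ i, b.repr (δE (φ (b i))) i = δ (b.repr (φ (b i)) i) + ∑ j, b.repr (φ (b i)) j * b.repr (δE (b j)) i := fun i => by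
    conv_lhs => rw [← b.sum_repr (φ (b i))]
    simp only [map_sum, hδE, map_add, map_smul, Finsupp.coe_finset_sum, Finsupp.coe_add, Finsupp.coe_smul, Finset.sum_apply, Pi.add_apply, Pi.smul_apply, smul_eq_mul, Finset.sum_add_distrib, b.repr_self]
    congr 1
    simp [Finsupp.single_apply]
  have h2 : ∀ i, b.repr (φ (δE (b i))) i = ∑ j, b.repr (δE (b i)) j * b.repr (φ (b j)) i := fun i => by
    conv_lhs => rw [← b.sum_repr (δE (b i))]
    simp only [map_sum, map_smul, Finsupp.coe_finset_sum, Finsupp.coe_smul, Finset.sum_apply, Pi.smul_apply, smul_eq_mul]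
  simp only [hψ, map_sub, Finsupp.coe_sub, Pi.sub_apply, h1, h2, Finset.sum_sub_distrib, Finset.sum_add_distrib]
  rw [add_sub_assoc, sub_eq_zero.2 ?_, add_zero]
  rw [Finset.sum_comm]
  exact Finset.sum_congr rfl fun _ _ => Finset.sum_congr rfl fun _ _ => mul_comm _ _

end Groth.Agent.S18797
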