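import Groth.Statements.S18800
import Mathlib.RingTheory.Flat.Basic
import Mathlib.LinearAlgebra.TensorProduct.Quotient
import Mathlib.RingTheory.Nakayama
import Mathlib.RingTheory.HopkinsLevitzki
import Mathlib.Order.Atoms


set_option autoImplicit false
universe u v w w'
open DefMod

namespace Groth.Agent.S18800

open TensorProduct in
theorem mem_colon_smul {R : Type*} [CommRing R] {F : Type*} [AddCommGroup F] [Module R F]
    [Module.Flat R F] (J : Ideal R) (t : R) {y : F} (hy : t • y ∈ J • (⊤ : Submodule R F)) :
    y ∈ LinearMap.ker (J.mkQ ∘ₗ LinearMap.mulRight R t) • (⊤ : Submodule R F) := by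
  let f : R →ₗ[R] R ⧸ J := J.mkQ ∘ₗ LinearMap.mulRight R t
  have hex := Module.Flat.rTensor_exact F (LinearMap.exact_subtype_ker_map f)
  have h0 : f.rTensor F ((1 : R) ⊗ₜ[R] y) = 0 := by
    rw [LinearMap.rTensor_tmul]
    have : f 1 = t • (Ideal.Quotient.mk J 1 : R ⧸ J) := by
      change Submodule.Quotient.mk (1 * t) = t • Submodule.Quotient.mk (1 : R)
      rw [← Submodule.Quotient.mk_smul, one_mul, smul_eq_mul, mul_one]
    rw [this, TensorProduct.smul_tmul, map_one]
    apply (TensorProduct.quotTensorEquivQuotSMul F J).injective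
    rw [map_zero]
    show (TensorProduct.quotTensorEquivQuotSMul F J) ((Ideal.Quotient.mk J 1) ⊗ₜ[R] (t • y)) = 0
    rw [TensorProduct.quotTensorEquivQuotSMul_mk_tmul, one_smul, Submodule.Quotient.mk_eq_zero]
    exact hy
  obtain ⟨z, hz⟩ := (hex _).1 h0
  have hy' : y = TensorProduct.lid R F ((LinearMap.ker f).subtype.rTensor F z) := by
    rw [hz, TensorProduct.lid_tmul, one_smul]
  rw [hy']
  clear hz hy'
  induction z using TensorProduct.induction_on with
  | zero => simp
  | add a b ha hb => rw [map_add, map_add]; exact Submodule.add_mem _ ha hb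
  | tmul a b =>
    rw [LinearMap.rTensor_tmul, TensorProduct.lid_tmul]
    exact Submodule.smul_mem_smul a.2 trivial


/-- Let E be a nonzero left module over an associative algebra D over a field K of characteristic zero,
whose D-linear endomorphisms are exactly the scalars of K; let R be an Artinian local K-algebra with
residue field K and (F, θ) a deformation of E over R: F carries commuting R- and D-module structures
and is flat over R, and θ : F → E is D-linear, semilinear over the augmentation R → K, surjective,
with kernel m_R F. Then every automorphism of (F, θ) is multiplication by an element of 1 + m_R: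
every endomorphism α of F that is R-linear and D-linear and satisfies θ ∘ α = θ is multiplication by
a unique element r of R, and the residue of r in K is 1. -/
theorem result
    {K : Type u} [Field K] [CharZero K]
    {D : Type v} [Ring D] [Algebra K D]
    {E : Type w} [AddCommGroup E] [Module K E] [Module D E] [IsScalarTower K D E] [Nontrivial E]
    (hE : ∀ ψ : E →ₗ[D] E, ∃ c : K, ∀ y : E, ψ y = c • y)
    (R : ArtFun.Art K K)
    {F : Type w'} [AddCommGroup F] [Module K F] [Module R F] [Module D F]
    [IsScalarTower K R F] [IsScalarTower K D F] [SMulCommClass R D F] [Module.Flat R F]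
    (θ : F →ₗ[D] E) (hθ : ∀ (r : R) (x : F), θ (r • x) = R.res r • θ x)
    (hθsurj : Function.Surjective θ)
    (hθker : ∀ x : F, θ x = 0 ↔ x ∈ IsLocalRing.maximalIdeal R • (⊤ : Submodule R F))
    (α : F →ₗ[R] F) (hαD : ∀ (d : D) (x : F), α (d • x) = d • α x) (hαθ : ∀ x : F, θ (α x) = θ x) :
    ∃! r : R, R.res r = 1 ∧ ∀ x : F, α x = r • x := by
  classical
  haveI : SMulCommClass D R F := SMulCommClass.symm _ _ _
  set 𝔪 := IsLocalRing.maximalIdeal (R : Type u) with h𝔪
  have hres : ∀ r : R, r ∈ 𝔪 ↔ R.res r = 0 := fun r => by
    rw [h𝔪, ArtFun.Art.mem_maximalIdeal_iff]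
  have hproper : (𝔪 • (⊤ : Submodule R F)) ≠ ⊤ := by
    intro h
    obtain ⟨e, he⟩ := exists_ne (0 : E)
    obtain ⟨x, rfl⟩ := hθsurj e
    refine he ((hθker x).2 ?_)
    rw [h]
    exact Submodule.mem_top
  -- existence modulo every ideal
  have hexist : ∀ I : Ideal R, (∃ r : R, R.res r = 1 ∧ ∀ x, α x - r • x ∈ I • (⊤ : Submodule R F)) →
      ∃ r : R, R.res r = 1 ∧ ∀ x, α x = r • x := by
    intro I
    induction I using WellFoundedLT.induction with
    | ind I ih =>
      rintro ⟨r, hr, hrI⟩
      rcases eq_or_ne I ⊥ with rfl | hI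
      · exact ⟨r, hr, fun x => sub_eq_zero.1 (by simpa using hrI x)⟩
      have hmI : 𝔪 • I < I := by
        refine lt_of_le_of_ne Submodule.smul_le_right fun h => hI ?_
        exact Submodule.eq_bot_of_le_smul_of_le_jacobson_bot 𝔪 I (IsNoetherian.noetherian I) h.ge
          (IsLocalRing.maximalIdeal_le_jacobson _)
      obtain ⟨J, hJI, hJ⟩ : ∃ J : Ideal R, J ⋖ I ∧ 𝔪 • I ≤ J := by
        obtain ⟨J, h1, h2⟩ := exists_le_covBy_of_lt hmI
        exact ⟨J, h2, h1⟩
      obtain ⟨t, htI, htJ⟩ := SetLike.exists_of_lt hJI.lt
      have hsup : J ⊔ Ideal.span {t} = I := by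
        refine (hJI.eq_or_eq le_sup_left (sup_le hJI.le ((Ideal.span_singleton_le_iff_mem _).2 htI))).resolve_left ?_
        intro h
        exact htJ (h ▸ Submodule.mem_sup_right (Ideal.mem_span_singleton_self t))
      have hker : ∀ a, a ∈ LinearMap.ker (J.mkQ ∘ₗ LinearMap.mulRight R t) → a ∈ 𝔪 := by
        intro a ha
        by_contra h
        obtain ⟨u, rfl⟩ := (IsLocalRing.notMem_maximalIdeal.1 h)
        have h' : (u : R) * t ∈ J := (Submodule.Quotient.mk_eq_zero J).1 ha
        exact htJ ((Ideal.unit_mul_mem_iff_mem J u.isUnit).1 h')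
      have hcol : ∀ y : F, t • y ∈ J • (⊤ : Submodule R F) → θ y = 0 := fun y hy =>
        (hθker y).2 (Submodule.smul_mono_left hker (mem_colon_smul J t hy))
      have hβ : ∀ x, ∃ y : F, α x - r • x - t • y ∈ J • (⊤ : Submodule R F) := by
        intro x
        have h := hrI x
        rw [← hsup, Submodule.sup_smul, Submodule.ideal_span_singleton_smul] at h
        obtain ⟨a, ha, b, hb, hab⟩ := Submodule.mem_sup.1 h
        obtain ⟨y, -, rfl⟩ := (Submodule.mem_smul_pointwise_iff_exists _ _ _).1 hb
        exact ⟨y, by rw [← hab, add_sub_cancel_right]; exact ha⟩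
      choose y hy using hβ
      have huniq : ∀ x y', α x - r • x - t • y' ∈ J • (⊤ : Submodule R F) → θ (y x) = θ y' := by
        intro x y' h
        rw [← sub_eq_zero, ← map_sub]
        refine hcol _ ?_
        rw [smul_sub]
        convert Submodule.sub_mem _ h (hy x) using 1
        abel
      have hm : ∀ x, θ x = 0 → θ (y x) = 0 := by
        intro x hx
        rw [huniq x 0 ?_, map_zero]
        rw [smul_zero, sub_zero]
        refine Submodule.smul_mono_left hJ ?_
        rw [Submodule.smul_assoc]
        have hx' := (hθker x).1 hx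
        refine Submodule.smul_induction_on hx' (fun a ha z _ => ?_) fun a b ha hb => ?_
        · rw [map_smul, smul_comm r a z, ← smul_sub]
          exact Submodule.smul_mem_smul ha (hrI z)
        · convert Submodule.add_mem _ ha hb using 1
          rw [map_add, smul_add]; abel
      have hadd : ∀ a b, θ (y (a + b)) = θ (y a) + θ (y b) := by
        intro a b
        rw [← map_add]
        refine huniq _ _ ?_
        convert Submodule.add_mem _ (hy a) (hy b) using 1
        rw [map_add, smul_add, smul_add]; abel
      have hDJ : ∀ (d : D) (z : F), z ∈ J • (⊤ : Submodule R F) → d • z ∈ J • (⊤ : Submodule R F) := by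
        intro d z hz
        refine Submodule.smul_induction_on hz (fun a ha z _ => ?_) fun a b ha hb => ?_
        · rw [smul_comm d a z]; exact Submodule.smul_mem_smul ha trivial
        · rw [smul_add]; exact Submodule.add_mem _ ha hb
      have hwd : ∀ a b, θ a = θ b → θ (y a) = θ (y b) := by
        intro a b h
        have h' := hadd (a - b) b
        rw [sub_add_cancel, hm (a - b) (by rw [map_sub, h, sub_self]), zero_add] at h'
        exact h'
      let ψ : E →ₗ[D] E :=
        { toFun := fun e => θ (y (Function.surjInv hθsurj e))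
          map_add' := fun e e' => by
            rw [← hadd]
            exact hwd _ _ (by simp [Function.surjInv_eq hθsurj, map_add])
          map_smul' := fun d e => by
            rw [RingHom.id_apply, ← map_smul]
            refine (hwd _ (d • Function.surjInv hθsurj e) (by simp [Function.surjInv_eq hθsurj])).trans
              (huniq _ _ ?_)
            convert hDJ d _ (hy (Function.surjInv hθsurj e)) using 1
            rw [smul_sub, smul_sub, hαD, smul_comm d r, smul_comm d t] }
      obtain ⟨c, hc⟩ := hE ψ
      obtain ⟨s, hs⟩ := R.res_surjective c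
      have hkey : ∀ x, θ (y x) = θ (s • x) := by
        intro x
        rw [hθ, hs, ← hc]
        exact hwd _ _ (Function.surjInv_eq hθsurj _).symm
      refine ih J hJI.lt ⟨r + t * s, ?_, fun x => ?_⟩
      · rcases eq_or_ne (R.res t) 0 with h0 | h0
        · rw [map_add, map_mul, h0, zero_mul, add_zero, hr]
        · have hI1 : I = ⊤ := Ideal.eq_top_of_isUnit_mem _ htI
            (IsLocalRing.notMem_maximalIdeal.1 fun h => h0 ((hres t).1 h))
          have hs0 : s ∈ 𝔪 := by
            rw [hres]
            have hJm : J ≤ 𝔪 := IsLocalRing.le_maximalIdeal (hI1 ▸ hJI.lt.ne)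
            obtain ⟨x, hx⟩ : ∃ x, x ∉ 𝔪 • (⊤ : Submodule R F) := by
              by_contra h
              push Not at h
              exact hproper (top_unique fun x _ => h x)
            have h1 : α x - r • x ∈ 𝔪 • (⊤ : Submodule R F) := by
              rw [← hθker, map_sub, hαθ, hθ, hr, one_smul, sub_self]
            have h2 : t • y x ∈ 𝔪 • (⊤ : Submodule R F) := by
              have := Submodule.sub_mem _ h1 (Submodule.smul_mono_left hJm (hy x))
              rwa [sub_sub_cancel] at this
            rw [← hθker, hθ, hkey, hθ] at h2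
            rcases smul_eq_zero.1 h2 with h3 | h3
            · exact absurd h3 h0
            rcases smul_eq_zero.1 h3 with h4 | h4
            · exact h4
            · exact absurd ((hθker x).1 h4) hx
          rw [map_add, map_mul, (hres s).1 hs0, mul_zero, add_zero, hr]
      · have h1 : t • (y x - s • x) ∈ J • (⊤ : Submodule R F) := by
          have hmt : ∀ z ∈ 𝔪 • (⊤ : Submodule R F), t • z ∈ J • (⊤ : Submodule R F) := by
            intro z hz
            refine Submodule.smul_induction_on hz (fun a ha z _ => ?_) fun a b ha hb => ?_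
            · rw [smul_smul]
              refine Submodule.smul_mem_smul (hJ ?_) trivial
              rw [mul_comm]
              exact Submodule.smul_mem_smul ha htI
            · rw [smul_add]; exact Submodule.add_mem _ ha hb
          refine hmt _ ((hθker _).1 ?_)
          rw [map_sub, hkey, sub_self]
        convert Submodule.add_mem _ (hy x) h1 using 1
        rw [add_smul, mul_smul, smul_sub]; abel
  obtain ⟨r, hr, hr'⟩ := hexist ⊤ ⟨1, map_one _, fun x => by
    rw [Submodule.top_smul]; exact Submodule.mem_top⟩
  refine ⟨r, ⟨hr, hr'⟩, fun r' hr'' => sub_eq_zero.1 ?_⟩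
  by_contra hne
  apply hproper
  refine top_unique fun x _ => ?_
  have hz : (r' - r) • x ∈ (⊥ : Ideal R) • (⊤ : Submodule R F) := by
    rw [sub_smul, ← hr', ← hr''.2, sub_self]; exact Submodule.zero_mem _
  refine Submodule.smul_mono_left (fun a ha => ?_) (mem_colon_smul ⊥ (r' - r) hz)
  by_contra h
  obtain ⟨u, rfl⟩ := (IsLocalRing.notMem_maximalIdeal.1 h)
  have h' : (u : R) * (r' - r) = 0 := (Submodule.Quotient.mk_eq_zero (⊥ : Ideal R)).1 ha
  exact hne ((u.mul_right_eq_zero).1 h')

end Groth.Agent.S18800
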