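import Groth.Statements.S18801
import Mathlib.RingTheory.LocalRing.Module
import Mathlib.RingTheory.LocalRing.ResidueField.Basic
import Mathlib.RingTheory.Artinian.Ring
import Mathlib.RingTheory.Nakayama
import Mathlib.RingTheory.HopkinsLevitzki

set_option autoImplicit false
universe u v w w' w''
open CategoryTheory
open DefMod

namespace Groth.Agent.S18801

/-- Over a local ring whose maximal ideal is nilpotent, every flat module (not necessarily finitely
generated) is free. -/
theorem free_of_flat {R : Type u} {M : Type w'} [CommRing R] [IsLocalRing R] (hR : IsNilpotent (IsLocalRing.maximalIdeal R))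
    [AddCommGroup M] [Module R M] [Module.Flat R M] : Module.Free R M := by
  classical
  let k := IsLocalRing.ResidueField R
  let b := Module.Free.chooseBasis k (TensorProduct R k M)
  have hsurj : Function.Surjective (TensorProduct.mk R k M 1) :=
    TensorProduct.mk_surjective R M k IsLocalRing.residue_surjective
  choose v hv using fun i => hsurj (b i)
  have hli : LinearIndependent R v := Module.IsLocalRing.linearIndependent_of_flat v (by
    rw [show (TensorProduct.mk R k M 1 ∘ v) = b from funext hv]
    exact b.linearIndependent)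
  set P := Submodule.span R (Set.range v) with hP
  have h1 : (⊤ : Submodule R M) ≤ P ⊔ IsLocalRing.maximalIdeal R • ⊤ := by
    intro m _
    obtain ⟨c, hc⟩ := (Finsupp.mem_span_range_iff_exists_finsupp).1
      (b.span_eq ▸ Submodule.mem_top : TensorProduct.mk R k M 1 m ∈ Submodule.span k (Set.range b))
    choose r hr using fun i => IsLocalRing.residue_surjective (R := R) (c i)
    let p := c.sum fun i _ => r i • v i
    have hp : p ∈ P := Submodule.sum_mem _ fun i _ =>
      P.smul_mem _ (Submodule.subset_span ⟨i, rfl⟩)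
    have hk : m - p ∈ LinearMap.ker (TensorProduct.mk R k M 1) := by
      rw [LinearMap.mem_ker, map_sub, sub_eq_zero, ← hc, map_finsuppSum]
      refine Finset.sum_congr rfl fun i _ => ?_
      simp only [map_smul, hv, ← hr i, ← IsLocalRing.ResidueField.algebraMap_eq]
      rw [algebraMap_smul]
    replace hk : m - p ∈ LinearMap.ker (TensorProduct.mk R (R ⧸ IsLocalRing.maximalIdeal R) M 1) := hk
    rw [LinearMap.ker_tensorProductMk] at hk
    exact Submodule.mem_sup.2 ⟨p, hp, m - p, hk, add_sub_cancel _ _⟩
  have hn : ∀ n : ℕ, (⊤ : Submodule R M) ≤ P ⊔ IsLocalRing.maximalIdeal R ^ n • ⊤ := by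
    intro n
    induction n with
    | zero => simp
    | succ n ih =>
      refine ih.trans (sup_le le_sup_left ?_)
      calc IsLocalRing.maximalIdeal R ^ n • (⊤ : Submodule R M)
          ≤ IsLocalRing.maximalIdeal R ^ n • (P ⊔ IsLocalRing.maximalIdeal R • ⊤) :=
            Submodule.smul_mono le_rfl h1
        _ ≤ P ⊔ IsLocalRing.maximalIdeal R ^ (n + 1) • ⊤ := by
            rw [Submodule.smul_sup, ← Submodule.mul_smul, ← pow_succ]
            exact sup_le_sup_right Submodule.smul_le_right _
  obtain ⟨n, hn0⟩ := hR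
  exact Module.Free.of_basis (Module.Basis.mk hli (by simpa [hn0] using hn n))

/-- Endomorphisms of a deformation of a module with scalar endomorphisms are scalars. -/
theorem exists_scalar {K : Type u} [Field K] {D : Type v} [Ring D] [Algebra K D]
    {E : Type w} [AddCommGroup E] [Module K E] [Module D E]
    (hE : ∀ ψ : E →ₗ[D] E, ∃ c : K, ∀ y : E, ψ y = c • y) (R : ArtFun.Art K K)
    {F : Type w'} [AddCommGroup F] [Module R F] [Module D F] [SMulCommClass R D F] [Module.Free R F]
    (θ : F →ₗ[D] E) (hθ : ∀ (r : R) (x : F), θ (r • x) = R.res r • θ x)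
    (hθsurj : Function.Surjective θ)
    (hθker : ∀ x : F, θ x = 0 ↔ x ∈ IsLocalRing.maximalIdeal R • (⊤ : Submodule R F))
    (β : F →ₗ[R] F) (hβD : ∀ (d : D) (x : F), β (d • x) = d • β x) :
    ∃ r : R, ∀ x, β x = r • x := by
  classical
  let P : Set (Ideal R) := {J | ∃ r : R, ∀ x, β x - r • x ∈ J • (⊤ : Submodule R F)}
  obtain ⟨J, ⟨r, hr⟩, hmin⟩ := (wellFounded_lt (α := Ideal R)).has_min P ⟨⊤, 0, fun x => by simp⟩
  by_cases hJ : J = ⊥
  · exact ⟨r, fun x => by simpa [hJ, sub_eq_zero] using hr x⟩
  exfalso
  set m := IsLocalRing.maximalIdeal R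
  -- a maximal proper subideal
  have hne : m * J ≠ J := fun h =>
    hJ (Submodule.eq_bot_of_le_smul_of_le_jacobson_bot m J (IsNoetherian.noetherian J) h.ge
      (IsLocalRing.maximalIdeal_le_jacobson ⊥))
  obtain ⟨J', ⟨hJ'1, hJ'2⟩, hJ'max⟩ := (wellFounded_gt (α := Ideal R)).has_min
    {I : Ideal R | m * J ≤ I ∧ I < J} ⟨m * J, le_rfl, lt_of_le_of_ne Ideal.mul_le_right hne⟩
  obtain ⟨c, hcJ, hcJ'⟩ := SetLike.exists_of_lt hJ'2
  have hcover : J = J' ⊔ Ideal.span {c} := by
    by_contra h
    have hle : J' ⊔ Ideal.span {c} ≤ J := sup_le hJ'2.le (Ideal.span_le.mpr (by simpa using hcJ))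
    refine hJ'max _ ⟨hJ'1.trans le_sup_left, lt_of_le_of_ne hle (Ne.symm h)⟩ ?_
    exact lt_of_le_not_ge le_sup_left fun hle' => hcJ' (hle' (Ideal.mem_sup_right (Ideal.mem_span_singleton_self c)))
  have hcm : ∀ a ∈ m, c * a ∈ J' := fun a ha => mul_comm a c ▸ hJ'1 (Ideal.mul_mem_mul ha hcJ)
  -- well-definedness of the residual endomorphism
  have huniq : ∀ y : F, c • y ∈ J' • (⊤ : Submodule R F) → θ y = 0 := by
    intro y hy
    let bF := Module.Free.chooseBasis R F
    rw [hθker, ← bF.linearCombination_repr y, Finsupp.linearCombination_apply]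
    refine Submodule.sum_mem _ fun i _ => ?_
    refine Submodule.smul_mem_smul ((IsLocalRing.mem_maximalIdeal _).mpr fun hu => ?_) Submodule.mem_top
    have h1 : c * bF.repr y i ∈ J' := by
      have h2 : bF.repr (c • y) i ∈ J' := by
        refine Submodule.smul_induction_on hy (fun a ha z _ => ?_) (fun a b ha hb => ?_)
        · simp [Ideal.mul_mem_right _ _ ha]
        · simpa using add_mem ha hb
      simpa using h2
    obtain ⟨u, hu⟩ := hu
    exact hcJ' (by simpa [← hu, mul_assoc] using J'.mul_mem_right (↑u⁻¹ : R) h1)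
  have hex : ∀ x, ∃ y, β x - r • x - c • y ∈ J' • (⊤ : Submodule R F) := by
    intro x
    have h := hr x
    rw [hcover, Submodule.sup_smul] at h
    obtain ⟨a, ha, b, hb, hab⟩ := Submodule.mem_sup.mp h
    obtain ⟨y, rfl⟩ : ∃ y, c • y = b := by
      rw [Submodule.ideal_span_singleton_smul] at hb
      obtain ⟨y, -, hy⟩ := hb
      exact ⟨y, hy⟩
    exact ⟨y, by rw [← hab]; simpa using ha⟩
  choose Y hY using hex
  have hYeq : ∀ x y, β x - r • x - c • y ∈ J' • (⊤ : Submodule R F) → θ (Y x) = θ y := fun x y h => by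
    rw [← sub_eq_zero, ← map_sub]
    apply huniq
    rw [smul_sub]
    simpa using sub_mem h (hY x)
  have hstab : ∀ (d : D) (z : F), z ∈ J' • (⊤ : Submodule R F) → d • z ∈ J' • (⊤ : Submodule R F) := by
    intro d z hz
    refine Submodule.smul_induction_on hz (fun a ha w _ => ?_) (fun a b ha hb => ?_)
    · rw [← smul_comm a d w]
      exact Submodule.smul_mem_smul ha Submodule.mem_top
    · rw [smul_add]; exact add_mem ha hb
  let ψ : F →ₗ[D] E :=
    { toFun := fun x => θ (Y x)
      map_add' := fun x y => by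
        rw [← map_add]
        refine hYeq _ _ ?_
        convert add_mem (hY x) (hY y) using 1
        simp only [map_add, smul_add]; abel
      map_smul' := fun d x => by
        rw [RingHom.id_apply, ← map_smul]
        refine hYeq _ _ ?_
        convert hstab d _ (hY x) using 1
        simp only [smul_sub, hβD, smul_comm r d, smul_comm c d] }
  have hψ : LinearMap.ker θ ≤ LinearMap.ker ψ := by
    intro x hx
    show θ (Y x) = 0
    have h := (hθker x).mp hx
    refine (hYeq x 0 ?_).trans (map_zero θ)
    rw [smul_zero, sub_zero]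
    refine Submodule.smul_induction_on h (fun a ha z _ => ?_) (fun a b ha hb => ?_)
    · rw [map_smul, smul_comm r a, ← smul_sub]
      have h2 : a • (β z - r • z) ∈ (m * J) • (⊤ : Submodule R F) := by
        rw [← smul_eq_mul, Submodule.smul_assoc]
        exact Submodule.smul_mem_smul ha (hr z)
      exact Submodule.smul_mono_left hJ'1 h2
    · have h3 : β (a + b) - r • (a + b) = (β a - r • a) + (β b - r • b) := by
        rw [map_add, smul_add]; abel
      rw [h3]; exact add_mem ha hb
  let ψ' : E →ₗ[D] E := ((LinearMap.ker θ).liftQ ψ hψ).comp (θ.quotKerEquivOfSurjective hθsurj).symm.toLinearMap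
  obtain ⟨s, hs⟩ := hE ψ'
  obtain ⟨s', hs'⟩ := R.res_surjective s
  refine hmin J' ⟨r + c * s', fun x => ?_⟩ hJ'2
  have hθy : θ (Y x - s' • x) = 0 := by
    rw [map_sub, hθ, hs', ← hs, sub_eq_zero]
    show ψ x = (LinearMap.ker θ).liftQ ψ hψ ((θ.quotKerEquivOfSurjective hθsurj).symm (θ x))
    rw [show (θ.quotKerEquivOfSurjective hθsurj).symm (θ x) = Submodule.Quotient.mk x from
      (LinearEquiv.symm_apply_eq _).mpr rfl, Submodule.liftQ_apply]
  have hcy : c • (Y x - s' • x) ∈ J' • (⊤ : Submodule R F) := by
    refine Submodule.smul_induction_on ((hθker _).mp hθy) (fun a ha z _ => ?_) (fun a b ha hb => ?_)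
    · rw [smul_smul]; exact Submodule.smul_mem_smul (hcm a ha) Submodule.mem_top
    · rw [smul_add]; exact add_mem ha hb
  convert add_mem (hY x) hcy using 1
  simp only [add_smul, mul_smul, smul_sub]; abel

/-- Fix a field K of characteristic zero and an associative K-algebra D, and suppose E is a nonzero left
D-module whose only D-linear endomorphisms are scalars from K. Take a surjection π : R' → R between
Artinian local K-algebras, each having residue field K. Suppose (F', θ') is a deformation of E over
R' and (F, θ) one over R (meaning: the ring and D-actions commute, the module is flat, and θ' resp.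
θ is D-linear, semilinear with respect to the augmentation, onto, and has kernel m_{R'} F' resp. m_R
F). Suppose further that u : F' → F is a morphism of deformations lying over π, i.e. u is D-linear,
π-semilinear, satisfies θ ∘ u = θ', is onto, and has kernel (ker π) F' (hence u induces R ⊗_{R'} F'
≅ F). Under these assumptions the map Aut(F', θ') → Aut(F, θ) is onto: given any bijection α of F
that is both R-linear and D-linear with θ ∘ α = θ, there exists an R'-linear, D-linear bijection α'
of F' satisfying θ' ∘ α' = θ' and u ∘ α' = α ∘ u. (The second assertion of the corollary, namely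
that E has a prorepresentable deformation functor once Ext¹_D(E, E) is additionally
finite-dimensional, is not formalized here.) -/
theorem result
    {K : Type u} [Field K] [CharZero K]
    {D : Type v} [Ring D] [Algebra K D]
    {E : Type w} [AddCommGroup E] [Module K E] [Module D E] [IsScalarTower K D E] [Nontrivial E]
    (hE : ∀ ψ : E →ₗ[D] E, ∃ c : K, ∀ y : E, ψ y = c • y)
    {R' R : ArtFun.Art K K} (π : R' ⟶ R) (hπ : Function.Surjective π)
    {F' : Type w''} [AddCommGroup F'] [Module K F'] [Module R' F'] [Module D F']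
    [IsScalarTower K R' F'] [IsScalarTower K D F'] [SMulCommClass R' D F'] [Module.Flat R' F']
    (θ' : F' →ₗ[D] E) (hθ' : ∀ (r : R') (x : F'), θ' (r • x) = R'.res r • θ' x)
    (hθ'surj : Function.Surjective θ')
    (hθ'ker : ∀ x : F', θ' x = 0 ↔ x ∈ IsLocalRing.maximalIdeal R' • (⊤ : Submodule R' F'))
    {F : Type w'} [AddCommGroup F] [Module K F] [Module R F] [Module D F]
    [IsScalarTower K R F] [IsScalarTower K D F] [SMulCommClass R D F] [Module.Flat R F]
    (θ : F →ₗ[D] E) (hθ : ∀ (r : R) (x : F), θ (r • x) = R.res r • θ x)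
    (hθsurj : Function.Surjective θ)
    (hθker : ∀ x : F, θ x = 0 ↔ x ∈ IsLocalRing.maximalIdeal R • (⊤ : Submodule R F))
    (u : F' →ₗ[D] F) (huπ : ∀ (r : R') (x : F'), u (r • x) = π r • u x)
    (huθ : ∀ x : F', θ (u x) = θ' x) (husurj : Function.Surjective u)
    (huker : ∀ x : F', u x = 0 ↔ x ∈ (RingHom.ker π.toAlgHom) • (⊤ : Submodule R' F'))
    (α : F →ₗ[R] F) (hαD : ∀ (d : D) (x : F), α (d • x) = d • α x) (hαθ : ∀ x : F, θ (α x) = θ x)
    (hαbij : Function.Bijective α) :
    ∃ α' : F' →ₗ[R'] F', (∀ (d : D) (x : F'), α' (d • x) = d • α' x) ∧ (∀ x : F', θ' (α' x) = θ' x) ∧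
      Function.Bijective α' ∧ ∀ x : F', u (α' x) = α (u x) := by
  have : Module.Free R F := free_of_flat (IsArtinianRing.isNilpotent_jacobson_bot (R := R) |> fun h => by
    rwa [IsLocalRing.jacobson_eq_maximalIdeal ⊥ bot_ne_top] at h)
  obtain ⟨r, hr⟩ := exists_scalar hE R θ hθ hθsurj hθker α hαD
  obtain ⟨r', hr'⟩ := hπ r
  let α' : F' →ₗ[R'] F' := r' • LinearMap.id
  have hu : ∀ x, u (α' x) = α (u x) := fun x => by
    show u (r' • x) = _
    rw [huπ, hr', hr]
  have hθα : ∀ x, θ' (α' x) = θ' x := fun x => by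
    rw [← huθ, hu, hαθ, huθ]
  refine ⟨α', fun d x => smul_comm r' d x, hθα, ?_, hu⟩
  have hr'u : IsUnit r' := by
    by_contra h
    obtain ⟨y, hy⟩ := exists_ne (0 : E)
    obtain ⟨x, rfl⟩ := hθ'surj y
    refine hy ?_
    rw [← hθα x]
    exact (hθ'ker _).mpr (Submodule.smul_mem_smul ((IsLocalRing.mem_maximalIdeal r').mpr h) Submodule.mem_top)
  obtain ⟨v, rfl⟩ := hr'u
  exact Function.bijective_iff_has_inverse.mpr ⟨fun x => (↑v⁻¹ : R') • x,
    fun x => by show (↑v⁻¹ : R') • (↑v : R') • x = x; rw [smul_smul, Units.inv_mul, one_smul],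
    fun x => by show (↑v : R') • (↑v⁻¹ : R') • x = x; rw [smul_smul, Units.mul_inv, one_smul]⟩

end Groth.Agent.S18801
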