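import Groth.Statements.S18802
import Mathlib
-- import your own Groth.Agent.* helpers here

set_option autoImplicit false
universe u v w w' w''
open DefMod

namespace Groth.Agent.S18802

/-- Let K be a field of characteristic zero, D an associative K-algebra and E, F left D-modules. A
K-linear map s : D → Hom_K(E, F) with s(ab)(e) = a s(b)(e) + s(a)(b e) (a derivation into the
bimodule Hom_K(E, F), i.e. a Hochschild 1-cocycle) defines the twisted sum F ⊕_s E = F × E with a ·
(f, e) = (a f + s(a) e, a e), an extension of E by F. Every extension of left D-modules 0 → F → Q →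
E → 0 arises this way: there are such an s and a D-linear isomorphism Q ≅ F ⊕_s E carrying the given
map F → Q to the inclusion f ↦ (f, 0) and compatible with the two projections onto E. (Together with
the splitting criterion this identifies derivations modulo principal derivations with Ext¹_D(E, F);
the compatibility of that identification with addition and scalars is not restated.) -/
theorem result
    {K : Type u} [Field K] [CharZero K]
    {D : Type v} [Ring D] [Algebra K D]
    {E : Type w} [AddCommGroup E] [Module K E] [Module D E] [IsScalarTower K D E]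
    {F : Type w'} [AddCommGroup F] [Module K F] [Module D F] [IsScalarTower K D F]
    {Q : Type w''} [AddCommGroup Q] [Module D Q]
    (i : F →ₗ[D] Q) (p : Q →ₗ[D] E) (hi : Function.Injective i) (hp : Function.Surjective p)
    (hex : Function.Exact i p) :
    ∃ (s : D →ₗ[K] E →ₗ[K] F) (hs : W4c6defoisocp1.IsHomDerivation s) (Φ : Q ≃ₗ[D] W4c6defoisocp1.TwistExt s hs),
      (∀ f : F, Φ (i f) = W4c6defoisocp1.TwistExt.inl f) ∧ ∀ q : Q, W4c6defoisocp1.TwistExt.snd (Φ q) = p q := by
  letI : Module K Q := Module.compHom Q (algebraMap K D)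
  have hkQ : ∀ (k : K) (q : Q), k • q = algebraMap K D k • q := fun _ _ => rfl
  haveI : IsScalarTower K D Q := ⟨fun k a q => by rw [hkQ, Algebra.smul_def, mul_smul]⟩
  let pK : Q →ₗ[K] E := p.restrictScalars K
  obtain ⟨σ, hσ⟩ := pK.exists_rightInverse_of_surjective (LinearMap.range_eq_top.2 hp)
  have hσ' : ∀ e, p (σ e) = e := fun e => LinearMap.congr_fun hσ e
  have hmem : ∀ q, ∃ f, i f = q - σ (p q) := fun q => (hex _).1 (by rw [map_sub, hσ', sub_self])
  choose r₀ hr₀ using hmem
  let r : Q →ₗ[K] F :=
    { toFun := r₀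
      map_add' := fun x y => hi (by rw [map_add i, hr₀, hr₀, hr₀, map_add, map_add]; abel)
      map_smul' := fun k x => hi (by
        rw [RingHom.id_apply, LinearMap.map_smul_of_tower i k, hr₀, hr₀, LinearMap.map_smul_of_tower p k,
          map_smul, smul_sub]) }
  have hr : ∀ q, i (r q) = q - σ (p q) := hr₀
  have hri : ∀ f, r (i f) = f := fun f => hi (by
    rw [hr, hex.apply_apply_eq_zero, map_zero, sub_zero])
  let s : D →ₗ[K] E →ₗ[K] F :=
    LinearMap.mk₂ K (fun a e => r (a • σ e))
      (fun a b e => by rw [add_smul, map_add]) (fun k a e => by rw [smul_assoc, map_smul])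
      (fun a e e' => by rw [map_add, smul_add, map_add])
      (fun k a e => by rw [σ.map_smul, smul_comm a k, r.map_smul])
  have hs0 : ∀ a e, s a e = r (a • σ e) := fun a e => rfl
  have hdec : ∀ q, q = i (r q) + σ (p q) := fun q => by rw [hr, sub_add_cancel]
  have hlin : ∀ (a : D) (q : Q), r (a • q) = a • r q + s a (p q) := fun a q => by
    conv_lhs => rw [hdec q, smul_add, ← LinearMap.map_smul i, map_add, hri]
    rfl
  have hs : W4c6defoisocp1.IsHomDerivation s := fun a b e => by
    rw [hs0, mul_smul, hlin, hs0 b, map_smul p, hσ']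
  let Φ₀ : Q →ₗ[D] W4c6defoisocp1.TwistExt s hs :=
    { toFun := fun q => W4c6defoisocp1.TwistExt.mk (r q, p q)
      map_add' := fun x y => W4c6defoisocp1.TwistExt.ext (by simp) (by simp)
      map_smul' := fun a x => W4c6defoisocp1.TwistExt.ext (by simp [hlin]) (by simp) }
  have hbij : Function.Bijective Φ₀ := by
    refine ⟨fun x y h => ?_, fun z => ⟨i (W4c6defoisocp1.TwistExt.val z).1 +
      σ (W4c6defoisocp1.TwistExt.val z).2, ?_⟩⟩
    · have h1 : r x = r y := congrArg (fun z => (W4c6defoisocp1.TwistExt.val z).1) h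
      have h2 : p x = p y := congrArg (fun z => (W4c6defoisocp1.TwistExt.val z).2) h
      rw [hdec x, hdec y, h1, h2]
    · have h0 : r (σ (W4c6defoisocp1.TwistExt.val z).2) = 0 := hi (by rw [hr, hσ', sub_self, map_zero])
      exact W4c6defoisocp1.TwistExt.ext (by simp [Φ₀, hri, h0]) (by simp [Φ₀, hex.apply_apply_eq_zero, hσ'])
  refine ⟨s, hs, LinearEquiv.ofBijective Φ₀ hbij, fun f => ?_, fun q => rfl⟩
  exact W4c6defoisocp1.TwistExt.ext (by simp [Φ₀, hri]) (by simp [Φ₀, hex.apply_apply_eq_zero])

end Groth.Agent.S18802
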