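import Groth.Statements.S18806
import Groth.Agent.ComodBasic.Basic

set_option autoImplicit false
universe u v v' w w' x
open TensorProduct
open HopfRep

namespace Groth.Agent.S18806

open Groth.Agent.ComodBasic

/-- Let k be a field, i : C → D an injective morphism of k-coalgebras and V a right D-comodule with
coaction ρ : V → V ⊗ D. If ρ(v) lies in the image of V ⊗ C → V ⊗ D (induced by i) for every v, then
V comes from a C-comodule: there is a C-comodule structure on V whose coaction, followed by V ⊗ C →
V ⊗ D, is ρ. (The source states this for left comodules over the coordinate bialgebras of an affine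
monoid scheme over k and of its group of units, assumed open and schematically dense, and uses that
assumption only through the injectivity of the restriction map of coordinate rings; the row is the
right-comodule mirror image for any injective coalgebra map. The converse direction is immediate.) -/
theorem result (k : Type u) [Field k]
    (C : Type v) [AddCommGroup C] [Module k C] [Coalgebra k C]
    (D : Type v') [AddCommGroup D] [Module k D] [Coalgebra k D]
    (i : C →ₗc[k] D) (hi : Function.Injective i)
    (V : Type w) [AddCommGroup V] [Module k V] [HopfRep.Comod k D V]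
    (h : ∀ v : V, HopfRep.Comod.coact (k := k) (A := D) v ∈ LinearMap.range ((i : C →ₗ[k] D).lTensor V)) :
    ∃ c : HopfRep.Comod k C V,
      (i : C →ₗ[k] D).lTensor V ∘ₗ c.coact = HopfRep.Comod.coact (k := k) (A := D) := by
  obtain ⟨p, hp⟩ := (i : C →ₗ[k] D).exists_leftInverse_of_injective (LinearMap.ker_eq_bot.2 hi)
  let ρ : V →ₗ[k] V ⊗[k] C := p.lTensor V ∘ₗ HopfRep.Comod.coact (k := k) (A := D)
  have hρ : (i : C →ₗ[k] D).lTensor V ∘ₗ ρ = HopfRep.Comod.coact (k := k) (A := D) := by
    refine LinearMap.ext fun v => ?_
    obtain ⟨y, hy⟩ := h v
    simp only [ρ, LinearMap.comp_apply, ← hy, ← LinearMap.lTensor_comp_apply, hp]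
    simp
  refine ⟨⟨ρ, ?_, ?_⟩, hρ⟩
  · refine LinearMap.ext fun v => ?_
    have hinj : Function.Injective
        (LinearMap.lTensor V (TensorProduct.map (i : C →ₗ[k] D) (i : C →ₗ[k] D))) := by
      refine Function.LeftInverse.injective (g := LinearMap.lTensor V (TensorProduct.map p p)) fun x => ?_
      rw [← LinearMap.lTensor_comp_apply, ← TensorProduct.map_comp, hp]
      simp
    refine hinj ?_
    have h' := LinearMap.congr_fun (HopfRep.Comod.coassoc (k := k) (A := D) (V := V)) v
    rw [← hρ] at h'
    simp only [LinearMap.comp_apply, LinearEquiv.coe_coe] at h' ⊢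
    simp only [← LinearMap.lTensor_comp_apply] at h' ⊢
    rw [CoalgHomClass.map_comp_comul i]
    rw [← h']
    generalize ρ v = x
    induction x using TensorProduct.induction_on with
    | zero => simp
    | add a b ha hb => simp [ha, hb]
    | tmul a b =>
      simp only [LinearMap.lTensor_tmul, LinearMap.rTensor_tmul, LinearMap.comp_apply]
      generalize ρ a = y
      induction y using TensorProduct.induction_on with
      | zero => simp
      | add c d hc hd => simp only [map_add, TensorProduct.add_tmul, hc, hd]
      | tmul c d => simp
  · rw [← CoalgHomClass.counit_comp i, LinearMap.lTensor_comp, LinearMap.comp_assoc, hρ]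
    exact HopfRep.Comod.counit_comp

end Groth.Agent.S18806
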