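import Groth.Statements.S18808
import Groth.Agent.ComodBasic.Basic

set_option autoImplicit false
universe u v v' w w' x
open TensorProduct
open HopfRep

namespace Groth.Agent.S18808

open Groth.Agent.ComodBasic

/-- Let k be a field, i : C → D an injective morphism of k-coalgebras and V a right D-comodule with
coaction ρ. Call a D-subcomodule K of V admissible when the induced coaction of V/K, namely ρ
followed by the projection V ⊗ D → (V/K) ⊗ D, takes all its values in the image of (V/K) ⊗ C → (V/K)
⊗ D (so that V/K comes from a C-comodule). Then there is a least admissible D-subcomodule of V: V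
has a largest quotient D-comodule coming from C, through which every D-comodule map from V to a
comodule coming from C factors. (The source states this for left comodules over the coordinate
bialgebras of an affine monoid scheme and its open schematically dense group of units, as the
existence of a universal map from a representation of the unit group to a representation of the
monoid; it uses that assumption only through the injectivity of the restriction map.) -/
theorem result (k : Type u) [Field k]
    (C : Type v) [AddCommGroup C] [Module k C] [Coalgebra k C]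
    (D : Type v') [AddCommGroup D] [Module k D] [Coalgebra k D]
    (i : C →ₗc[k] D) (hi : Function.Injective i)
    (V : Type w) [AddCommGroup V] [Module k V] [HopfRep.Comod k D V] :
    ∃ K : Submodule k V, HopfRep.IsSubcomod (k := k) (A := D) K ∧
      (∀ v : V, K.mkQ.rTensor D (HopfRep.Comod.coact (k := k) (A := D) v) ∈
        LinearMap.range ((i : C →ₗ[k] D).lTensor (V ⧸ K))) ∧
      ∀ K' : Submodule k V, HopfRep.IsSubcomod (k := k) (A := D) K' →
        (∀ v : V, K'.mkQ.rTensor D (HopfRep.Comod.coact (k := k) (A := D) v) ∈
          LinearMap.range ((i : C →ₗ[k] D).lTensor (V ⧸ K'))) → K ≤ K' := by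
  obtain ⟨p, hp⟩ := (i : C →ₗ[k] D).exists_leftInverse_of_injective (LinearMap.ker_eq_bot.2 hi)
  let K : Submodule (Cv k D) V := Submodule.span (Cv k D)
    {x | ∃ (φ : D →ₗ[k] k) (v : V), φ ∘ₗ (i : C →ₗ[k] D) = 0 ∧ x = act φ v}
  have key : ∀ (K' : Submodule k V) (v : V),
      K'.mkQ.rTensor D (HopfRep.Comod.coact (k := k) (A := D) v) ∈
        LinearMap.range ((i : C →ₗ[k] D).lTensor (V ⧸ K')) ↔
      ∀ φ : D →ₗ[k] k, φ ∘ₗ (i : C →ₗ[k] D) = 0 → act φ v ∈ K' := by
    intro K' v
    constructor
    · rintro ⟨y, hy⟩ φ hφ
      have := congrArg (slice φ) hy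
      rw [slice_lTensor, hφ, slice_zero, slice_rTensor] at this
      exact (Submodule.Quotient.mk_eq_zero K').1 this.symm
    · intro hv
      refine ⟨p.lTensor _ (K'.mkQ.rTensor D (HopfRep.Comod.coact (k := k) (A := D) v)),
        eq_of_slice fun φ => ?_⟩
      rw [slice_lTensor, slice_lTensor, slice_rTensor, slice_rTensor, ← sub_eq_zero, ← map_sub,
        Submodule.mkQ_apply, Submodule.Quotient.mk_eq_zero]
      have h0 : (φ ∘ₗ (i : C →ₗ[k] D) ∘ₗ p - φ) ∘ₗ (i : C →ₗ[k] D) = 0 := by
        simp [LinearMap.sub_comp, LinearMap.comp_assoc, hp]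
      have := hv _ h0
      rw [act_apply, sub_eq_add_neg, slice_add, ← neg_one_smul k φ, slice_smul, neg_one_smul,
        ← sub_eq_add_neg] at this
      exact this
  refine ⟨K.restrictScalars k, isSubcomod_restrict K,
    fun v => (key _ v).2 fun φ hφ => Submodule.subset_span ⟨φ, v, hφ, rfl⟩, fun K' hK' h v hv => ?_⟩
  refine (show K ≤ toSub K' hK' from Submodule.span_le.2 ?_) hv
  rintro _ ⟨φ, w, hφ, rfl⟩
  exact (key K' w).1 (h w) φ hφ

end Groth.Agent.S18808
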