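import Groth.Statements.S18809
import Groth.Agent.ComodBasic.Basic

set_option autoImplicit false
universe u v v' w w' x
open TensorProduct
open HopfRep

namespace Groth.Agent.S18809

open Groth.Agent.ComodBasic

/-- Let k be a field and i : C → D an injective morphism of k-coalgebras. If every right D-comodule is
semisimple (every subcomodule has a complementary subcomodule), then every right C-comodule is
semisimple. (The source states this for the coordinate bialgebras of an affine monoid scheme over k
and of its open schematically dense group of units, through the injectivity of the restriction map,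
with semisimple meaning that every representation is a sum of irreducible subrepresentations;
D-comodules are quantified in the universe of the given C-comodule.) -/
theorem result (k : Type u) [Field k]
    (C : Type v) [AddCommGroup C] [Module k C] [Coalgebra k C]
    (D : Type v') [AddCommGroup D] [Module k D] [Coalgebra k D]
    (i : C →ₗc[k] D) (hi : Function.Injective i)
    (hD : ∀ (W : Type w) [AddCommGroup W] [Module k W] [HopfRep.Comod k D W], HopfRep.IsSemisimpleComod k D W)
    (V : Type w) [AddCommGroup V] [Module k V] [HopfRep.Comod k C V] :
    HopfRep.IsSemisimpleComod k C V := by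
  obtain ⟨p, hp⟩ := (i : C →ₗ[k] D).exists_leftInverse_of_injective (LinearMap.ker_eq_bot.2 hi)
  letI : HopfRep.Comod k D V :=
    { coact := (i : C →ₗ[k] D).lTensor V ∘ₗ HopfRep.Comod.coact (k := k) (A := C)
      coassoc := by
        refine LinearMap.ext fun v => ?_
        have h := congrArg (LinearMap.lTensor V (TensorProduct.map (i : C →ₗ[k] D) (i : C →ₗ[k] D)))
          (LinearMap.congr_fun (HopfRep.Comod.coassoc (k := k) (A := C) (V := V)) v)
        simp only [LinearMap.comp_apply, LinearEquiv.coe_coe] at h ⊢
        rw [← LinearMap.lTensor_comp_apply, CoalgHomClass.map_comp_comul i,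
          LinearMap.lTensor_comp_apply] at h
        rw [← h]
        generalize HopfRep.Comod.coact (k := k) (A := C) v = x
        induction x using TensorProduct.induction_on with
        | zero => simp
        | add a b ha hb => simp [ha, hb]
        | tmul a b =>
          simp only [LinearMap.lTensor_tmul, LinearMap.rTensor_tmul, LinearMap.comp_apply]
          generalize HopfRep.Comod.coact (k := k) (A := C) a = y
          induction y using TensorProduct.induction_on with
          | zero => simp
          | add c d hc hd => simp only [map_add, TensorProduct.add_tmul, hc, hd]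
          | tmul c d => simp
      counit_comp := by
        rw [← LinearMap.comp_assoc, ← LinearMap.lTensor_comp, CoalgHomClass.counit_comp i]
        exact HopfRep.Comod.counit_comp }
  intro W hW
  have hW' : HopfRep.IsSubcomod (k := k) (A := D) W := (isSubcomod_iff W).2 fun ψ w hw => by
    have h := (isSubcomod_iff W).1 hW (WithConv.toConv (ψ.ofConv ∘ₗ (i : C →ₗ[k] D))) w hw
    change slice ψ.ofConv ((i : C →ₗ[k] D).lTensor V (HopfRep.Comod.coact w)) ∈ W
    rw [slice_lTensor]
    exact h
  obtain ⟨W', hW'', hc⟩ := hD V W hW'
  refine ⟨W', (isSubcomod_iff W').2 fun φ w hw => ?_, hc⟩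
  have h := (isSubcomod_iff W').1 hW'' (WithConv.toConv (φ.ofConv ∘ₗ p)) w hw
  change slice (φ.ofConv ∘ₗ p) ((i : C →ₗ[k] D).lTensor V (HopfRep.Comod.coact w)) ∈ W' at h
  rw [slice_lTensor, LinearMap.comp_assoc, hp, LinearMap.comp_id] at h
  exact h

end Groth.Agent.S18809
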