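import Groth.Statements.S18810
import Groth.Agent.ComodBasic.Basic
import Mathlib.RingTheory.SimpleModule.Isotypic

set_option autoImplicit false
universe u v v' w w' x
open TensorProduct
open HopfRep

namespace Groth.Agent.S18810

open Groth.Agent.ComodBasic

/-- Let k be a field, C a k-coalgebra, V a right C-comodule and (S_j) a family of simple C-comodules
which are pairwise non-isomorphic (for j ≠ j' no k-linear isomorphism S_j ≃ S_j' commutes with the
coactions). For each j let V[j] be the isotypic component of type S_j: the sum of the images of all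
comodule maps S_j → V (equivalently of all simple subcomodules of V isomorphic to S_j, a nonzero
such map being injective). Then the family j ↦ V[j] is independent, so that the socle of V is the
direct sum of its isotypic components. (The source states this for representations of an affine
monoid scheme over k, i.e. left comodules over its coordinate bialgebra; the row is the
right-comodule form over any coalgebra.) -/
theorem result (k : Type u) [Field k]
    (C : Type v) [AddCommGroup C] [Module k C] [Coalgebra k C]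
    (V : Type w) [AddCommGroup V] [Module k V] [HopfRep.Comod k C V]
    {ι : Type x} (S : ι → Type w') [∀ j, AddCommGroup (S j)] [∀ j, Module k (S j)]
    [∀ j, HopfRep.Comod k C (S j)] (hS : ∀ j, HopfRep.IsSimpleComod k C (S j))
    (hne : ∀ j j', j ≠ j' → ∀ e : S j ≃ₗ[k] S j', ¬ Hoch.IsComodHom C (e : S j →ₗ[k] S j')) :
    iSupIndep (fun j => ⨆ f : {f : S j →ₗ[k] V // Hoch.IsComodHom C f}, LinearMap.range f.1) := by
  classical
  haveI : ∀ j, IsSimpleModule (Cv k C) (S j) := fun j => isSimpleComod_iff.1 (hS j)
  let c : ι → Submodule (Cv k C) V := fun j => ⨆ f : S j →ₗ[Cv k C] V, LinearMap.range f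
  have heq : (fun j => ⨆ f : {f : S j →ₗ[k] V // Hoch.IsComodHom C f}, LinearMap.range f.1) =
      fun j => (c j).restrictScalars k := by
    funext j
    rw [Submodule.restrictScalars_iSup]
    exact le_antisymm
      (iSup_le fun f => le_iSup_of_le (toLin f.1 f.2) le_rfl)
      (iSup_le fun f => le_iSup_of_le ⟨f.restrictScalars k, isComodHom_restrict f⟩ le_rfl)
  rw [heq]
  have hcomp : ∀ j, c j ≠ ⊥ → c j ∈ isotypicComponents (Cv k C) V ∧
      ∃ T : Submodule (Cv k C) V, T ≤ c j ∧ Nonempty (T ≃ₗ[Cv k C] S j) := by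
    intro j hj
    obtain ⟨f, hf⟩ : ∃ f : S j →ₗ[Cv k C] V, f ≠ 0 := by
      by_contra h
      push Not at h
      exact hj (eq_bot_iff.2 (iSup_le fun f => by simp [h f]))
    let e := (LinearEquiv.ofInjective f (LinearMap.injective_of_ne_zero hf)).symm
    haveI : IsSimpleModule (Cv k C) (LinearMap.range f) := IsSimpleModule.congr e
    refine ⟨⟨LinearMap.range f, inferInstance, ?_⟩, LinearMap.range f, le_iSup (fun g : S j →ₗ[Cv k C] V => LinearMap.range g) f, ⟨e⟩⟩
    rw [e.isotypicComponent_eq]
    refine le_antisymm (iSup_le fun g => ?_) (sSup_le ?_)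
    · by_cases hg : g = 0
      · simp [hg]
      · exact le_sSup ⟨(LinearEquiv.ofInjective g (LinearMap.injective_of_ne_zero hg)).symm⟩
    · rintro m ⟨em⟩
      refine le_iSup_of_le (m.subtype ∘ₗ em.symm.toLinearMap) ?_
      rw [LinearMap.range_comp, LinearEquiv.range, Submodule.map_top, Submodule.range_subtype]
  intro j
  rw [disjoint_iff]
  simp only [← Submodule.restrictScalars_iSup, ← Submodule.restrictScalars_inf,
    Submodule.restrictScalars_eq_bot_iff, ← disjoint_iff]
  by_cases hj : c j = ⊥
  · rw [hj]; exact disjoint_bot_left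
  obtain ⟨hjm, T, hT, ⟨eT⟩⟩ := hcomp j hj
  refine ((sSupIndep_isotypicComponents (R := Cv k C) (M := V)) hjm).mono_right (iSup₂_le fun j' hj' => ?_)
  by_cases hj2 : c j' = ⊥
  · simp [hj2]
  obtain ⟨hjm', T', hT', ⟨eT'⟩⟩ := hcomp j' hj2
  refine le_sSup ⟨hjm', fun h : c j' = c j => ?_⟩
  obtain ⟨S₀, hS₀, hcS⟩ := hjm
  haveI : IsSimpleModule (Cv k C) T := IsSimpleModule.congr eT
  haveI : IsSimpleModule (Cv k C) T' := IsSimpleModule.congr eT'
  obtain ⟨e₁⟩ := isIsotypicOfType_submodule_iff.1 (IsIsotypicOfType.isotypicComponent (Cv k C) V S₀) T (hcS ▸ hT)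
  obtain ⟨e₂⟩ := isIsotypicOfType_submodule_iff.1 (IsIsotypicOfType.isotypicComponent (Cv k C) V S₀) T' (hcS ▸ h ▸ hT')
  let e : S j' ≃ₗ[Cv k C] S j := eT'.symm.trans (e₂.trans (e₁.symm.trans eT))
  exact hne j' j hj' (e.restrictScalars k) (isComodHom_restrict e.toLinearMap)

end Groth.Agent.S18810
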