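import Groth.Statements.S18811
import Mathlib
-- import your own Groth.Agent.* helpers here

set_option autoImplicit false
universe u
open CategoryTheory CategoryTheory.Limits AlgebraicGeometry
open Variety

namespace Groth.Agent.S18811

/-- Let k be a field and X, Y quasi-compact k-schemes whose diagonal morphisms over k are affine
(semi-separated; for instance X and Y separated over k). Then the canonical map Γ(X, O_X) ⊗_k Γ(Y,
O_Y) → Γ(X ×_k Y, O) is an isomorphism: the commutative square of rings of global sections formed by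
Spec k, X, Y and X ×_k Y with the pullback maps along the structure morphisms and the two
projections is a pushout square of commutative rings. -/
theorem result (k : Type u) [Field k]
    (X : Scheme.{u}) [X.Over (Spec (CommRingCat.of k))] [CompactSpace ↥X]
    [IsAffineHom (pullback.diagonal (X ↘ (Spec (CommRingCat.of k))))]
    (Y : Scheme.{u}) [Y.Over (Spec (CommRingCat.of k))] [CompactSpace ↥Y]
    [IsAffineHom (pullback.diagonal (Y ↘ (Spec (CommRingCat.of k))))] :
    IsPushout (X ↘ (Spec (CommRingCat.of k))).appTop (Y ↘ (Spec (CommRingCat.of k))).appTop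
      (pullback.fst (X ↘ (Spec (CommRingCat.of k))) (Y ↘ (Spec (CommRingCat.of k)))).appTop
      (pullback.snd (X ↘ (Spec (CommRingCat.of k))) (Y ↘ (Spec (CommRingCat.of k)))).appTop := by
  let S := Spec (CommRingCat.of k)
  have hqX : QuasiSeparated (X ↘ S) := ⟨inferInstance⟩
  have hqY : QuasiSeparated (Y ↘ S) := ⟨inferInstance⟩
  haveI := quasiSeparatedSpace_of_quasiSeparated (X ↘ S)
  haveI := quasiSeparatedSpace_of_quasiSeparated (Y ↘ S)
  have hfield : IsField Γ(S, ⊤) :=
    MulEquiv.isField (Field.toIsField k) (Scheme.ΓSpecIso (CommRingCat.of k)).commRingCatIsoToRingEquiv.toMulEquiv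
  have hflat : ∀ {A : Type u} [CommRing A] (φ : Γ(S, ⊤) →+* A), φ.Flat := fun φ => by
    letI := hfield.toField
    letI := φ.toAlgebra
    show Module.Flat _ _
    exact inferInstance
  haveI : Flat (Y ↘ S) := by
    rw [HasRingHomProperty.iff_appLE (P := @Flat)]
    intro U V e
    obtain hU | hU : (U : S.Opens) = ⊤ ∨ (U : S.Opens) = ⊥ := by
      by_cases hh : ∃ p, p ∈ (U : S.Opens)
      · obtain ⟨p, hp⟩ := hh
        exact Or.inl (eq_top_iff.2 fun q _ => by rwa [Subsingleton.elim q p])
      · exact Or.inr (eq_bot_iff.2 fun q hq => absurd ⟨q, hq⟩ hh)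
    · obtain ⟨U, hU'⟩ := U
      subst hU
      exact hflat _
    · have hV : (V : Y.Opens) = ⊥ := eq_bot_iff.2 fun q hq => by
        have := e hq
        rw [hU] at this
        exact this
      haveI : Subsingleton Γ(Y, V) := by
        rw [hV]; exact CommRingCat.subsingleton_of_isTerminal (Y.sheaf.isTerminalOfEmpty)
      letI := ((Y ↘ S).appLE U V e).hom.toAlgebra
      show Module.Flat _ _
      infer_instance
  have H := IsPullback.of_hasPullback (X ↘ S) (Y ↘ S)
  have hiso := isIso_pushoutSection_of_isCompact_of_flat_right_of_ringHomFlat H (US := ⊤) (UT := ⊤)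
    (UX := ⊤) (UY := ⊤) le_top le_top (by simp) (isAffineOpen_top _) isCompact_univ
    (by simpa using isQuasiSeparated_univ) isCompact_univ (by simpa using isQuasiSeparated_univ)
    (hflat _)
  have h := (isIso_pushoutSection_iff H (US := ⊤) (UT := ⊤) (UX := ⊤) (UY := ⊤) le_top le_top
    (by simp)).1 hiso
  simpa [Scheme.Hom.appLE, Scheme.Hom.appTop] using h

end Groth.Agent.S18811
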