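import Groth.Statements.S18813
import Groth.Agent.ComodBasic.HochVanish
import Mathlib.RingTheory.Bialgebra.TensorProduct
import Mathlib.RingTheory.HopfAlgebra.TensorProduct


set_option autoImplicit false
universe u
open scoped TensorProduct
open HopfRep

namespace Groth.Agent.S18813

/-- Let k be a field, K a field extension of k and A a commutative Hopf algebra over k, the coordinate
ring of an affine group scheme G (no finiteness assumed). Then G is linearly reductive (every
finite-dimensional A-comodule is semisimple) if and only if the base change G_K is (every
finite-dimensional comodule over the K-Hopf algebra K ⊗_k A is semisimple). (The source phrases both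
sides as semisimplicity of all representations, which over a field is equivalent to semisimplicity
of the finite-dimensional ones since every comodule is the union of its finite-dimensional
subcomodules.) -/
theorem result (k K A : Type u) [Field k] [Field K]
    [Algebra k K] [CommRing A] [HopfAlgebra k A] :
    HopfRep.IsLinearlyReductive k A ↔ HopfRep.IsLinearlyReductive K (K ⊗[k] A) := by
  open Groth.Agent.ComodBasic TensorProduct in
  exact (by
    have hcm : ∀ (α : A →ₗ[k] k) (x : A), slice ((AlgebraTensorModule.rid k K K).toLinearMap ∘ₗ α.baseChange K)
        (CoalgebraStruct.comul (R := K) ((1 : K) ⊗ₜ[k] x)) = (1 : K) ⊗ₜ[k] slice α (CoalgebraStruct.comul (R := k) x) := by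
      intro α x
      simp only [TensorProduct.comul_tmul, CommSemiring.comul_apply]
      generalize CoalgebraStruct.comul (R := k) x = z
      induction z using TensorProduct.induction_on with
      | zero => simp
      | add p q hp hq => simp only [tmul_add, map_add, hp, hq]
      | tmul p q => simp
    constructor
    · intro h
      obtain ⟨α, hα, h1⟩ := exists_isLeftInt h
      let αK := (AlgebraTensorModule.rid k K K).toLinearMap ∘ₗ α.baseChange K
      have hαK : IsLeftInt αK := by
        intro y
        induction y using TensorProduct.induction_on with
        | zero => simp
        | add p q hp hq => simp only [map_add, add_smul, hp, hq]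
        | tmul c x =>
          rw [show c ⊗ₜ[k] x = c • ((1 : K) ⊗ₜ[k] x) by rw [smul_tmul', smul_eq_mul, mul_one], map_smul,
            map_smul, map_smul, hcm, hα, tmul_smul]
          simp [αK, Algebra.TensorProduct.one_def, smul_tmul', mul_comm, Algebra.smul_def]
      intro V _ _ _ _
      exact isSemisimpleComod_iff.2 (isSemisimpleModule_of_isLeftInt hαK (by
        simp [αK, Algebra.TensorProduct.one_def, h1]))
    · intro h
      obtain ⟨β, hβ, h1⟩ := exists_isLeftInt h
      obtain ⟨e, he⟩ := Module.Projective.exists_dual_ne_zero k (one_ne_zero (α := K))
      let e' := (e 1)⁻¹ • e
      have he' : e' 1 = 1 := inv_mul_cancel₀ he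
      let α : A →ₗ[k] k := e' ∘ₗ β.restrictScalars k ∘ₗ TensorProduct.mk k K A 1
      have hα : IsLeftInt α := by
        intro x
        have h2 := congrArg (lslice e') (hβ ((1 : K) ⊗ₜ[k] x))
        refine Eq.trans ?_ (h2.trans ?_)
        · simp only [TensorProduct.comul_tmul, CommSemiring.comul_apply]
          generalize CoalgebraStruct.comul (R := k) x = z
          induction z using TensorProduct.induction_on with
          | zero => simp
          | add p q hp hq => simp only [tmul_add, map_add, hp, hq]
          | tmul p q => simp [α, TensorProduct.smul_tmul']
        · rw [Algebra.TensorProduct.one_def, TensorProduct.smul_tmul', lslice_tmul, smul_eq_mul, mul_one]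
          rfl
      intro V _ _ _ _
      exact isSemisimpleComod_iff.2 (isSemisimpleModule_of_isLeftInt hα (by
        simp only [α, LinearMap.comp_apply, TensorProduct.mk_apply, LinearMap.restrictScalars_apply]
        rw [← Algebra.TensorProduct.one_def, h1, he'])))

end Groth.Agent.S18813
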