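import Groth.Statements.S18814
import Groth.Agent.ComodBasic.Reductive


set_option autoImplicit false
universe u v v' w w'
open TensorProduct
open HopfRep

namespace Groth.Agent.S18814
open Groth.Agent.ComodBasic

/-- Let k be a field, C and D commutative bialgebras over k (coordinate rings of affine monoid schemes M
and N) and V a k-vector space carrying a right C-comodule structure with coaction ρ_C : V → V ⊗ C
and a right D-comodule structure with coaction ρ_D : V → V ⊗ D which commute: (ρ_C ⊗ id_D) ∘ ρ_D and
(ρ_D ⊗ id_C) ∘ ρ_C agree in V ⊗ C ⊗ D after reassociating and swapping the last two factors (the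
actions of M and N on V commute). Assume V is semisimple as a D-comodule. Then for every simple
D-comodule S the isotypic component of V of type S, the sum of the images of all D-comodule maps S →
V, is a C-subcomodule of V. (The source works with left comodules; this is the right-comodule form.) -/
theorem result (k : Type u) [Field k]
    (C : Type v) [CommRing C] [Bialgebra k C] (D : Type v') [CommRing D] [Bialgebra k D]
    (V : Type w) [AddCommGroup V] [Module k V] [HopfRep.Comod k C V] [HopfRep.Comod k D V]
    (hcomm : (TensorProduct.assoc k V C D).toLinearMap ∘ₗ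
        (HopfRep.Comod.coact (k := k) (A := C) (V := V)).rTensor D ∘ₗ HopfRep.Comod.coact (k := k) (A := D) =
      (TensorProduct.comm k D C).toLinearMap.lTensor V ∘ₗ (TensorProduct.assoc k V D C).toLinearMap ∘ₗ
        (HopfRep.Comod.coact (k := k) (A := D) (V := V)).rTensor C ∘ₗ HopfRep.Comod.coact (k := k) (A := C))
    (hV : HopfRep.IsSemisimpleComod k D V)
    (S : Type w') [AddCommGroup S] [Module k S] [HopfRep.Comod k D S] (hS : HopfRep.IsSimpleComod k D S) :
    HopfRep.IsSubcomod (k := k) (A := C)
      (⨆ f : {f : S →ₗ[k] V // Hoch.IsComodHom D f}, LinearMap.range f.1) := by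
  refine (isSubcomod_iff _).2 fun φ w hw => ?_
  -- the action of `C` commutes with the action of `D`
  have hcomm' : ∀ (ψ : Cv k D) (v : V), act φ.ofConv (ψ • v) = ψ • act φ.ofConv v := by
    intro ψ v
    have h := congrArg (fun z => slice φ.ofConv ((LinearMap.lTensor V
      ((TensorProduct.rid k C).toLinearMap ∘ₗ LinearMap.lTensor C ψ.ofConv)) z)) (LinearMap.congr_fun hcomm v)
    simp only [LinearMap.comp_apply, LinearEquiv.coe_coe] at h
    rw [smul_def, smul_def, act_apply (C := D) ψ.ofConv v]
    rw [act_apply (C := C) φ.ofConv (slice ψ.ofConv _), act_apply (C := D) ψ.ofConv (act φ.ofConv v)]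
    rw [act_apply (C := C) φ.ofConv v]
    revert h
    generalize hx : HopfRep.Comod.coact (k := k) (A := D) v = x
    generalize hy : HopfRep.Comod.coact (k := k) (A := C) v = y
    intro h
    have h1 : ∀ x : V ⊗[k] D, slice φ.ofConv (LinearMap.lTensor V
          ((TensorProduct.rid k C).toLinearMap ∘ₗ LinearMap.lTensor C ψ.ofConv)
          (TensorProduct.assoc k V C D ((HopfRep.Comod.coact (k := k) (A := C) (V := V)).rTensor D x))) =
        slice φ.ofConv (HopfRep.Comod.coact (k := k) (A := C) (slice ψ.ofConv x)) := by
      intro x
      induction x using TensorProduct.induction_on with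
      | zero => simp
      | add a b ha hb => simp only [map_add, ha, hb]
      | tmul a d =>
        rw [LinearMap.rTensor_tmul, slice_tmul, map_smul]
        generalize HopfRep.Comod.coact (k := k) (A := C) a = z
        induction z using TensorProduct.induction_on with
        | zero => simp
        | add a b ha hb => simp only [TensorProduct.add_tmul, map_add, smul_add, ha, hb]
        | tmul a c => simp [smul_smul, mul_comm]
    have h2 : ∀ y : V ⊗[k] C, slice φ.ofConv (LinearMap.lTensor V
          ((TensorProduct.rid k C).toLinearMap ∘ₗ LinearMap.lTensor C ψ.ofConv)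
          ((TensorProduct.comm k D C).toLinearMap.lTensor V
            (TensorProduct.assoc k V D C ((HopfRep.Comod.coact (k := k) (A := D) (V := V)).rTensor C y)))) =
        slice ψ.ofConv (HopfRep.Comod.coact (k := k) (A := D) (slice φ.ofConv y)) := by
      intro y
      induction y using TensorProduct.induction_on with
      | zero => simp
      | add a b ha hb => simp only [map_add, ha, hb]
      | tmul a d =>
        rw [LinearMap.rTensor_tmul, slice_tmul, map_smul]
        generalize HopfRep.Comod.coact (k := k) (A := D) a = z
        induction z using TensorProduct.induction_on with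
        | zero => simp
        | add a b ha hb => simp only [TensorProduct.add_tmul, map_add, smul_add, ha, hb]
        | tmul a c => simp [smul_smul, mul_comm]
    rw [h1, h2] at h
    exact h
  have hφhom : Hoch.IsComodHom D (act φ.ofConv : V →ₗ[k] V) := (isComodHom_iff _).2 hcomm'
  change act φ.ofConv w ∈ _
  clear hS hV
  suffices h : (⨆ f : {f : S →ₗ[k] V // Hoch.IsComodHom D f}, LinearMap.range f.1) ≤
      Submodule.comap (act φ.ofConv) (⨆ f : {f : S →ₗ[k] V // Hoch.IsComodHom D f}, LinearMap.range f.1) from h hw
  refine iSup_le fun f => ?_
  rintro _ ⟨s, rfl⟩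
  exact Submodule.mem_iSup_of_mem
    ⟨act φ.ofConv ∘ₗ f.1, (isComodHom_restrict (toLin _ hφhom ∘ₗ toLin _ f.2))⟩ ⟨s, rfl⟩

end Groth.Agent.S18814
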