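import Groth.Statements.S18818
import Groth.Agent.ComodBasic.Basic


set_option autoImplicit false
universe u v w
open TensorProduct
open HopfRep

namespace Groth.Agent.S18818
open Groth.Agent.ComodBasic

/-- Let k be a field, C a k-coalgebra and V a right C-comodule which is semisimple in the sense that
every subcomodule has a complementary subcomodule (equivalently every injective comodule map into V
splits). Then V is completely reducible: V is the sum of its simple subcomodules, the nonzero
subcomodules W whose only subcomodules are 0 and W. (The source states this for representations of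
an affine monoid scheme over k, i.e. left comodules over its coordinate bialgebra; the converse
implication and the stability of the class under subobjects and quotients are not part of this row.) -/
theorem result (k : Type u) [Field k]
    (C : Type v) [AddCommGroup C] [Module k C] [Coalgebra k C]
    (V : Type w) [AddCommGroup V] [Module k V] [HopfRep.Comod k C V] (hV : HopfRep.IsSemisimpleComod k C V) :
    (⨆ W : {W : Submodule k V // HopfRep.IsSubcomod (k := k) (A := C) W ∧ W ≠ ⊥ ∧
        ∀ W' : Submodule k V, HopfRep.IsSubcomod (k := k) (A := C) W' → W' ≤ W → W' = ⊥ ∨ W' = W},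
      (W.1 : Submodule k V)) = ⊤ := by
  haveI := isSemisimpleComod_iff.1 hV
  refine top_unique fun v _ => ?_
  have h : (v : V) ∈ sSup {m : Submodule (Cv k C) V | IsSimpleModule (Cv k C) m} :=
    IsSemisimpleModule.sSup_simples_eq_top (Cv k C) V ▸ Submodule.mem_top
  rw [sSup_eq_iSup'] at h
  refine Submodule.iSup_induction _ (motive := fun x => x ∈ _) h ?_ (Submodule.zero_mem _) fun x y hx hy => Submodule.add_mem _ hx hy
  rintro ⟨m, hm⟩ x hx
  have hne : m ≠ ⊥ := by
    intro e
    haveI : IsSimpleModule (Cv k C) m := hm
    haveI := IsSimpleModule.nontrivial (Cv k C) m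
    subst e
    obtain ⟨a, b, hab⟩ := exists_pair_ne (⊥ : Submodule (Cv k C) V)
    exact hab (Subsingleton.elim _ _)
  have hat : IsAtom m := isSimpleModule_iff_isAtom.1 hm
  refine Submodule.mem_iSup_of_mem ⟨m.restrictScalars k, isSubcomod_restrict m,
    fun e => hne (Submodule.restrictScalars_injective k _ _ (e.trans (Submodule.restrictScalars_bot k _ V).symm)),
    fun W' hW' hle => ?_⟩ hx
  rcases hat.le_iff.1 (show toSub W' hW' ≤ m from hle) with e | e
  · left; rw [(toSub_eq_iff hW' _).1 e, Submodule.restrictScalars_bot]
  · right; exact (toSub_eq_iff hW' _).1 e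

end Groth.Agent.S18818
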