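import Groth.Statements.S18819
import Groth.Agent.ComodBasic.Basic
import Mathlib.RingTheory.SimpleModule.Isotypic

set_option autoImplicit false
universe u v w w'
open TensorProduct
open HopfRep

namespace Groth.Agent.S18819

open Groth.Agent.ComodBasic

/-- Let k be a field, C a k-coalgebra and V a right C-comodule which is the sum of finitely many simple
subcomodules, given as the images of comodule maps g_i : K_i → V (i < n) from simple comodules K_i.
If S is a simple comodule and f : S → V a nonzero comodule map (so that its image is a simple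
subcomodule of V), then S is isomorphic as a comodule to some K_i: there is a k-linear isomorphism S
≃ K_i commuting with the coactions. (The source states this for representations of an affine monoid
scheme over k with the subrepresentations given as subspaces; here the simple subcomodules are
presented as images of maps from simple comodules.) -/
theorem result (k : Type u) [Field k]
    (C : Type v) [AddCommGroup C] [Module k C] [Coalgebra k C]
    (V : Type w) [AddCommGroup V] [Module k V] [HopfRep.Comod k C V]
    {n : ℕ} (K : Fin n → Type w') [∀ i, AddCommGroup (K i)] [∀ i, Module k (K i)] [∀ i, HopfRep.Comod k C (K i)]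
    (hK : ∀ i, HopfRep.IsSimpleComod k C (K i)) (g : ∀ i, K i →ₗ[k] V) (hg : ∀ i, Hoch.IsComodHom C (g i))
    (hsum : (⨆ i, LinearMap.range (g i)) = ⊤)
    (S : Type w') [AddCommGroup S] [Module k S] [HopfRep.Comod k C S] (hS : HopfRep.IsSimpleComod k C S)
    (f : S →ₗ[k] V) (hf : Hoch.IsComodHom C f) (hf0 : f ≠ 0) :
    ∃ (i : Fin n) (e : S ≃ₗ[k] K i), Hoch.IsComodHom C (e : S →ₗ[k] K i) := by

  haveI := isSimpleComod_iff.1 hS
  haveI : ∀ i, IsSimpleModule (Cv k C) (K i) := fun i => isSimpleComod_iff.1 (hK i)
  let F : S →ₗ[Cv k C] V := toLin f hf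
  have hF0 : F ≠ 0 := fun h => hf0 (LinearMap.ext fun x => LinearMap.congr_fun h x)
  let G := fun i => toLin (g i) (hg i)
  haveI : IsSimpleModule (Cv k C) (LinearMap.range F) :=
    IsSimpleModule.congr (LinearEquiv.ofInjective F (LinearMap.injective_of_ne_zero hF0)).symm
  haveI : ∀ m : (Set.range fun i => LinearMap.range (G i)), IsSemisimpleModule (Cv k C) m := by
    rintro ⟨_, i, rfl⟩
    exact IsSemisimpleModule.range _
  have hle : LinearMap.range F ≤ sSup (Set.range fun i => LinearMap.range (G i)) := by
    rw [sSup_range]
    intro x _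
    rw [← Submodule.restrictScalars_mem k, Submodule.restrictScalars_iSup]
    exact hsum.ge trivial
  obtain ⟨_, ⟨i, rfl⟩, T, hT, ⟨e⟩⟩ := Submodule.le_linearEquiv_of_le_sSup (LinearMap.range F) _ hle
  have hTne : T ≠ ⊥ := fun h => @not_subsingleton _ (IsSimpleModule.nontrivial (Cv k C) (LinearMap.range F))
    (h ▸ e.toEquiv).subsingleton
  have hG0 : G i ≠ 0 := fun h => hTne <| le_bot_iff.1 <| hT.trans <| by simp [h]
  let eG := LinearEquiv.ofInjective (G i) (LinearMap.injective_of_ne_zero hG0)
  haveI : IsSimpleModule (Cv k C) (LinearMap.range (G i)) := IsSimpleModule.congr eG.symm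
  have hTeq : T = LinearMap.range (G i) := ((isSimpleModule_iff_isAtom.1 this).le_iff_eq hTne).1 hT
  let φ : S ≃ₗ[Cv k C] K i := (LinearEquiv.ofInjective F (LinearMap.injective_of_ne_zero hF0)).trans
    (e.trans ((LinearEquiv.ofEq _ _ hTeq).trans eG.symm))
  exact ⟨i, φ.restrictScalars k, isComodHom_restrict φ.toLinearMap⟩

end Groth.Agent.S18819
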