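import Groth.Statements.S18820
import Mathlib
-- import your own Groth.Agent.* helpers here

set_option autoImplicit false
universe u
open CategoryTheory MonoidalCategory CartesianMonoidalCategory AlgebraicGeometry
open AlgGrp

namespace Groth.Agent.S18820

/-- Let k be a field, M a k-scheme (in the source a monoid k-scheme) acting on a k-scheme X through a :
M ×_k X → X, and z : Z → X a closed immersion which is surjective (a closed subscheme defined by an
ideal all of whose sections are nilpotent, e.g. the reduction of X), stable under the action: a_Z :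
M ×_k Z → Z satisfies (id_M × z) followed by a = a_Z followed by z. For an open subset U of X the
following are equivalent: (i) U is stable, i.e. a maps M ×_k U into U; (ii) U ∩ Z is stable, i.e.
a_Z maps M ×_k (U ∩ Z) into U ∩ Z. (The monoid axioms of the source play no role and are not
assumed.) -/
theorem result (k : Type u) [Field k]
    (M X Z : Over (Spec (CommRingCat.of k))) (a : M ⊗ X ⟶ X) (aZ : M ⊗ Z ⟶ Z) (z : Z ⟶ X)
    [IsClosedImmersion z.left] [Surjective z.left] (hz : (M ◁ z) ≫ a = aZ ≫ z) (U : X.left.Opens) :
    (CartesianMonoidalCategory.snd M X).left ⁻¹ᵁ U ≤ a.left ⁻¹ᵁ U ↔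
      (CartesianMonoidalCategory.snd M Z).left ⁻¹ᵁ (z.left ⁻¹ᵁ U) ≤ aZ.left ⁻¹ᵁ (z.left ⁻¹ᵁ U) := by
  haveI : Surjective (M ◁ z).left := by
    have h : IsPullback (M ◁ z).left (CartesianMonoidalCategory.snd M Z).left (CartesianMonoidalCategory.snd M X).left z.left := by
      refine IsPullback.of_right (h₁₂ := (CartesianMonoidalCategory.fst M X).left) (v₁₃ := M.hom) (h₂₂ := X.hom) ?_ ?_
        (IsPullback.of_hasPullback M.hom X.hom).flip.flip
      · have e1 : (M ◁ z).left ≫ (CartesianMonoidalCategory.fst M X).left = (CartesianMonoidalCategory.fst M Z).left := by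
          rw [← Over.comp_left, whiskerLeft_fst]
        rw [e1, Over.w]
        exact IsPullback.of_hasPullback M.hom Z.hom
      · rw [← Over.comp_left, whiskerLeft_snd, Over.comp_left]
    exact MorphismProperty.of_isPullback (P := @Surjective) h.flip ‹Surjective z.left›
  have hs : ∀ q, (CartesianMonoidalCategory.snd M X).left ((M ◁ z).left q) = z.left ((CartesianMonoidalCategory.snd M Z).left q) := by
    intro q
    exact congrArg (fun m : (M ⊗ Z).left ⟶ X.left => m q) (congrArg CommaMorphism.left (whiskerLeft_snd M z))
  have ha : ∀ q, a.left ((M ◁ z).left q) = z.left (aZ.left q) := by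
    intro q
    exact congrArg (fun m : (M ⊗ Z).left ⟶ X.left => m q) (congrArg CommaMorphism.left hz)
  constructor
  · intro h q hq
    show z.left (aZ.left q) ∈ U
    rw [← ha]
    exact h (show (CartesianMonoidalCategory.snd M X).left _ ∈ U by rw [hs]; exact hq)
  · intro h p hp
    obtain ⟨q, rfl⟩ := (M ◁ z).left.surjective p
    show a.left _ ∈ U
    rw [ha]
    exact h (show z.left _ ∈ U by rw [← hs]; exact hp)

end Groth.Agent.S18820
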