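import Groth.Statements.S18821
import Mathlib
-- import your own Groth.Agent.* helpers here

set_option autoImplicit false
universe u
open CategoryTheory MonoidalCategory CartesianMonoidalCategory MonObj AlgebraicGeometry
open AlgGrp

namespace Groth.Agent.S18821

/-- Let k be a commutative ring and M a monoid k-scheme (a monoid object in k-schemes). Then the group
k-functor of units T ↦ M(T)^× is representable by a k-scheme: there are a k-scheme G and a
monomorphism i : G → M such that, for every k-scheme T, a T-valued point of M factors through i if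
and only if it is invertible in the monoid M(T). If moreover M is affine then G is affine. -/
theorem result (k : Type u) [CommRing k]
    (M : Over (Spec (CommRingCat.of k))) [MonObj M] :
    ∃ (G : Over (Spec (CommRingCat.of k))) (i : G ⟶ M), Mono i ∧
      (∀ (T : Over (Spec (CommRingCat.of k))) (m : T ⟶ M), (∃ g : T ⟶ G, g ≫ i = m) ↔ IsUnit m) ∧
      (IsAffine M.left → IsAffine G.left) := by
  obtain ⟨d, hd⟩ : ∃ d : Over (Spec (CommRingCat.of k)), d = M ⊗ M := ⟨_, rfl⟩
  let e : 𝟙_ _ ⟶ M ⊗ M := lift η[M] η[M]
  let f : M ⊗ M ⟶ M ⊗ M := lift (fst M M * snd M M) (snd M M * fst M M)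
  let G := Limits.pullback f e
  let i : G ⟶ M := Limits.pullback.fst f e ≫ fst M M
  have hf : ∀ {T : Over (Spec (CommRingCat.of k))} (a b : T ⟶ M), lift a b ≫ f = lift (a * b) (b * a) := fun a b => by
    simp only [f, comp_lift, Hom.mul_def, ← Category.assoc, lift_fst, lift_snd]
  have he : ∀ {T : Over (Spec (CommRingCat.of k))}, toUnit T ≫ e = lift (1 : T ⟶ M) 1 := by
    intro T; simp only [e, comp_lift, Hom.one_def]
  have hG : ∀ {T : Over (Spec (CommRingCat.of k))} (g : T ⟶ G),
      (g ≫ i) * (g ≫ Limits.pullback.fst f e ≫ snd M M) = 1 ∧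
      (g ≫ Limits.pullback.fst f e ≫ snd M M) * (g ≫ i) = 1 := by
    intro T g
    have h := congrArg (g ≫ ·) (Limits.pullback.condition (f := f) (g := e))
    rw [← Category.assoc, ← Category.assoc, show g ≫ Limits.pullback.snd f e = toUnit T from toUnit_unique _ _, he,
      show g ≫ Limits.pullback.fst f e = lift (g ≫ i) (g ≫ Limits.pullback.fst f e ≫ snd M M) from
        hom_ext _ _ (by simp [i]) (by simp), hf] at h
    exact ⟨by simpa using congrArg (· ≫ fst M M) h, by simpa using congrArg (· ≫ snd M M) h⟩
  refine ⟨G, i, ⟨fun {T} g g' h => ?_⟩, fun T m => ⟨?_, fun hm => ?_⟩, fun hM => ?_⟩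
  · have hinv : g ≫ Limits.pullback.fst f e ≫ snd M M = g' ≫ Limits.pullback.fst f e ≫ snd M M :=
      left_inv_eq_right_inv (hG g).2 (by rw [h]; exact (hG g').1)
    apply Limits.pullback.hom_ext
    · apply hom_ext
      · simpa [i] using h
      · simpa using hinv
    · exact toUnit_unique _ _
  · rintro ⟨g, rfl⟩
    exact ⟨⟨_, _, (hG g).1, (hG g).2⟩, rfl⟩
  · obtain ⟨u, rfl⟩ := hm
    refine ⟨Limits.pullback.lift (lift (u : T ⟶ M) ↑u⁻¹) (toUnit T) ?_, ?_⟩
    · rw [hf, he, Units.mul_inv, Units.inv_mul]
    · simp only [i, Limits.pullback.lift_fst_assoc, lift_fst]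
  · haveI : IsAffine (M ⊗ M).left := by
      rw [Over.tensorObj_left]; infer_instance
    haveI : IsAffine (𝟙_ (Over (Spec (CommRingCat.of k)))).left := by
      rw [Over.tensorUnit_left]; infer_instance
    haveI : IsAffine (Limits.pullback ((Over.forget _).map f) ((Over.forget _).map e)) := by
      haveI : IsAffine ((Over.forget (Spec (CommRingCat.of k))).obj (M ⊗ M)) := ‹IsAffine (M ⊗ M).left›
      haveI : IsAffine ((Over.forget (Spec (CommRingCat.of k))).obj (𝟙_ _)) := ‹IsAffine (𝟙_ (Over (Spec (CommRingCat.of k)))).left›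
      infer_instance
    exact IsAffine.of_isIso (Limits.PreservesPullback.iso (Over.forget _) f e).hom

end Groth.Agent.S18821
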