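import Groth.Statements.S18823
import Groth.Agent.EssFree.Apps
-- import your own Groth.Agent.* helpers here

set_option autoImplicit false
universe u
open CategoryTheory MonoidalCategory CartesianMonoidalCategory AlgebraicGeometry
open AlgGrp

set_option backward.isDefEq.respectTransparency false

namespace Groth.Agent.S18823

/-- Let k be a field, X a separated k-scheme, M a k-scheme (in the source a monoid k-scheme) acting on X
through a : M ×_k X → X, and i : G → M a morphism of k-schemes which is a scheme-theoretically
dominant open immersion: no nonzero quasi-coherent ideal of O_M restricts to zero on G (for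
quasi-compact i this is the usual schematic density, O_M → i_*O_G injective; in the source G is the
group of units of M, open and schematically dense). For a k-scheme T and a T-valued point x of X, x
is fixed under M, i.e. a ∘ (id_M × x) = x ∘ pr_T on M ×_k T, if and only if x is fixed under G, i.e.
a ∘ (i × x) = x ∘ pr_T on G ×_k T. Thus the fixed-point subpresheaves X^M and X^G of X are equal.
(The published statement has no separatedness assumption on X and reduces to points landing in an
affine open; the step asserting that the equalizer of the two maps M ×_k T → X is closed uses that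
the target is separated, so X is taken separated here, the case the printed argument establishes.
The monoid structure and the action axioms play no role in that argument and are not assumed.) -/
theorem result (k : Type u) [Field k]
    (M G X : Over (Spec (CommRingCat.of k))) [IsSeparated X.hom] (a : M ⊗ X ⟶ X) (i : G ⟶ M)
    [IsOpenImmersion i.left] [IsSchemeTheoreticallyDominant i.left]
    (T : Over (Spec (CommRingCat.of k))) (x : T ⟶ X) :
    (M ◁ x) ≫ a = CartesianMonoidalCategory.snd M T ≫ x ↔
      (G ◁ x) ≫ (i ▷ X) ≫ a = CartesianMonoidalCategory.snd G T ≫ x := by
  constructor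
  · intro h
    rw [whisker_exchange_assoc, h, ← Category.assoc, whiskerRight_snd]
  · intro h
    obtain ⟨Z, t, ht, hZ⟩ := Groth.Agent.EssFree.exists_closed_eqLocus (X := T) (G := M) (W := X)
      (Groth.Agent.EssFree.isEssentiallyFree_field T.hom)
      ((β_ T M).hom ≫ (M ◁ x) ≫ a) (CartesianMonoidalCategory.fst T M ≫ x)
    obtain ⟨z, hz⟩ := (hZ G i).mpr fun S'' s y => by
      have hs := congrArg (CartesianMonoidalCategory.lift s y ≫ ·) h
      simp only [lift_snd_assoc, lift_whiskerLeft_assoc, lift_whiskerRight_assoc] at hs
      rw [lift_braiding_hom_assoc, lift_whiskerLeft_assoc, lift_fst_assoc]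
      exact hs
    haveI : IsIso t.left := by
      haveI := ht
      rw [IsClosedImmersion.isIso_iff_ker_eq_bot]
      refine le_bot_iff.mp ?_
      rw [← Scheme.Hom.ker_eq_bot i.left, ← hz, Over.comp_left]
      exact Scheme.Hom.le_ker_comp _ _
    haveI : IsIso ((Over.forget (Spec (CommRingCat.of k))).map t) := inferInstanceAs (IsIso t.left)
    haveI : IsIso t := isIso_of_reflects_iso t (Over.forget (Spec (CommRingCat.of k)))
    have h1 := (hZ M (𝟙 M)).mp ⟨inv t, IsIso.inv_hom_id t⟩ (T ⊗ M) (CartesianMonoidalCategory.snd T M)
      (CartesianMonoidalCategory.fst T M)
    rw [Category.comp_id, lift_fst_snd, Category.id_comp, Category.id_comp] at h1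
    have h2 := congrArg ((β_ M T).hom ≫ ·) h1
    simp only [SymmetricCategory.symmetry_assoc, braiding_hom_fst_assoc] at h2
    exact h2

end Groth.Agent.S18823
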