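import Groth.Statements.S18824
import Mathlib
-- import your own Groth.Agent.* helpers here

set_option autoImplicit false
universe u
open CategoryTheory MonoidalCategory CartesianMonoidalCategory MonObj AlgebraicGeometry
open AlgGrp

namespace Groth.Agent.S18824

section Aux
variable {S : Scheme.{u}} {G X : Over S} [GrpObj G] (a : AlgGrp.Action G X)

/-- the shear isomorphism `(g, x) ↦ (g, g · x)` -/
private noncomputable def shear : G ⊗ X ≅ G ⊗ X where
  hom := lift (fst G X) a.act
  inv := lift (fst G X) (lift (fst G X ≫ GrpObj.inv) (snd G X) ≫ a.act)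
  hom_inv_id := by
    apply CartesianMonoidalCategory.hom_ext
    · simp
    · have h1 : lift (fst G X ≫ GrpObj.inv) a.act ≫ a.act =
          lift (lift (fst G X ≫ GrpObj.inv) (fst G X)) (snd G X) ≫ (μ[G] ▷ X) ≫ a.act := by
        rw [a.mul_act]
        simp
      have h2 : lift (fst G X ≫ GrpObj.inv) (fst G X) ≫ μ[G] = toUnit _ ≫ η[G] := by
        simp
      rw [Category.assoc, lift_snd, Category.id_comp, comp_lift_assoc]
      simp only [lift_fst_assoc, lift_snd]
      rw [h1, lift_whiskerRight_assoc, h2]
      calc lift (toUnit _ ≫ η[G]) (snd G X) ≫ a.act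
          = lift (toUnit _) (snd G X) ≫ (η[G] ▷ X) ≫ a.act := by simp
        _ = snd G X := by rw [a.one_act]; simp
  inv_hom_id := by
    apply CartesianMonoidalCategory.hom_ext
    · simp
    · rw [Category.assoc, lift_snd, Category.id_comp]
      have h1 : lift (fst G X) (lift (fst G X ≫ GrpObj.inv) (snd G X) ≫ a.act) ≫ a.act =
          lift (lift (fst G X) (fst G X ≫ GrpObj.inv)) (snd G X) ≫ (μ[G] ▷ X) ≫ a.act := by
        rw [a.mul_act]
        simp
      rw [h1, lift_whiskerRight_assoc]
      have h2 : lift (fst G X) (fst G X ≫ GrpObj.inv) ≫ μ[G] = toUnit _ ≫ η[G] := by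
        simp
      rw [h2]
      calc lift (toUnit _ ≫ η[G]) (snd G X) ≫ a.act
          = lift (toUnit _) (snd G X) ≫ (η[G] ▷ X) ≫ a.act := by simp
        _ = snd G X := by rw [a.one_act]; simp

private lemma isPullback_whiskerLeft_snd (G : Over S) {Y Z : Over S} (f : Y ⟶ Z) :
    IsPullback (G ◁ f).left (snd G Y).left (snd G Z).left f.left := by
  have big : IsPullback (snd G Y).left ((G ◁ f).left ≫ (fst G Z).left) (f.left ≫ Z.hom) G.hom := by
    rw [Over.w f, ← Over.comp_left, whiskerLeft_fst, Over.snd_left, Over.fst_left]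
    exact (IsPullback.of_hasPullback G.hom Y.hom).flip
  have bot : IsPullback (snd G Z).left (fst G Z).left Z.hom G.hom := by
    rw [Over.snd_left, Over.fst_left]
    exact (IsPullback.of_hasPullback G.hom Z.hom).flip
  refine (IsPullback.of_bot big ?_ bot).flip
  rw [← Over.comp_left, ← Over.comp_left, whiskerLeft_snd]

end Aux

/-- Let k be a field, G a locally algebraic group over k (a group k-scheme locally of finite type)
acting on a k-scheme X through a : G ×_k X → X, and U an open subset of X. Let G·U ⊆ X be the image
under a of G ×_k U (the preimage of U under the projection). Then G·U is open in X, contains U, is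
G-stable in the sense that a maps G ×_k (G·U) into G·U, and is the smallest such set: every G-stable
open subset of X containing U contains G·U. -/
theorem result (k : Type u) [Field k]
    (G X : Over (Spec (CommRingCat.of k))) [GrpObj G] [LocallyOfFiniteType G.hom] (a : AlgGrp.Action G X)
    (U : Set ↥X.left) (hU : IsOpen U) :
    IsOpen (a.act.left.base '' ((CartesianMonoidalCategory.snd G X).left.base ⁻¹' U)) ∧
      U ⊆ a.act.left.base '' ((CartesianMonoidalCategory.snd G X).left.base ⁻¹' U) ∧
      a.act.left.base '' ((CartesianMonoidalCategory.snd G X).left.base ⁻¹'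
          (a.act.left.base '' ((CartesianMonoidalCategory.snd G X).left.base ⁻¹' U))) ⊆
        a.act.left.base '' ((CartesianMonoidalCategory.snd G X).left.base ⁻¹' U) ∧
      ∀ W : Set ↥X.left, IsOpen W → U ⊆ W →
        a.act.left.base '' ((CartesianMonoidalCategory.snd G X).left.base ⁻¹' W) ⊆ W →
          a.act.left.base '' ((CartesianMonoidalCategory.snd G X).left.base ⁻¹' U) ⊆ W := by
  refine ⟨?_, ?_, ?_, fun W _ hUW hW => le_trans (Set.image_mono (Set.preimage_mono hUW)) hW⟩
  · have h : a.act = (shear a).hom ≫ snd G X := by simp [shear]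
    have : UniversallyOpen (snd G X).left := by
      rw [Over.snd_left]; infer_instance
    have : IsIso (shear a).hom.left :=
      inferInstanceAs (IsIso ((Over.forget _).map (shear a).hom))
    have : UniversallyOpen a.act.left := by
      rw [h, Over.comp_left]; infer_instance
    exact Scheme.Hom.isOpenMap a.act.left _
      (hU.preimage ((snd G X).left.base.hom.continuous))
  · intro x hx
    let s : X ⟶ G ⊗ X := (λ_ X).inv ≫ (η[G] ▷ X)
    have h1 : s ≫ a.act = 𝟙 X := by simp [s, a.one_act]
    have h2 : s ≫ snd G X = 𝟙 X := by simp [s]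
    refine ⟨s.left.base x, ?_, ?_⟩
    · show (snd G X).left.base (s.left.base x) ∈ U
      have := congr(($h2).left.base x)
      simp at this ⊢
      rw [this]; exact hx
    · have := congr(($h1).left.base x)
      simpa using this
  · rintro _ ⟨q, ⟨p, hp, hpq⟩, rfl⟩
    obtain ⟨r, hr1, hr2⟩ := Scheme.exists_preimage_of_isPullback
      (isPullback_whiskerLeft_snd G a.act) q p hpq.symm
    refine ⟨((α_ G G X).inv ≫ (μ[G] ▷ X)).left.base r, ?_, ?_⟩
    · show (snd G X).left.base _ ∈ U
      have : ((α_ G G X).inv ≫ (μ[G] ▷ X)) ≫ snd G X = snd G (G ⊗ X) ≫ snd G X := by simp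
      rw [← Scheme.Hom.comp_apply, ← Over.comp_left, this, Over.comp_left,
        Scheme.Hom.comp_apply, hr2]
      exact hp
    · have : ((α_ G G X).inv ≫ (μ[G] ▷ X)) ≫ a.act = (G ◁ a.act) ≫ a.act := by
        rw [Category.assoc, a.mul_act, Iso.inv_hom_id_assoc]
      have := congr(($this).left.base r)
      simp at this ⊢
      rw [this, hr1]

end Groth.Agent.S18824
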