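import Groth.Statements.S18826
import Groth.Agent.GrpSchField.Orbit
import Mathlib

set_option autoImplicit false
universe u
open CategoryTheory MonoidalCategory CartesianMonoidalCategory MonObj AlgebraicGeometry
open AlgGrp

namespace Groth.Agent.S18826

open Groth.Agent.GrpSchField in
theorem isPullback_restrict {A B X Y : Scheme.{u}} {a : A ⟶ X} {c : A ⟶ B} {f : X ⟶ Y} {b : B ⟶ Y}
    (sq : IsPullback a c f b) (W : B.Opens) (O : Y.Opens) (e : W ≤ b ⁻¹ᵁ O) (e' : c ⁻¹ᵁ W ≤ a ⁻¹ᵁ (f ⁻¹ᵁ O)) :
    IsPullback (a.resLE (f ⁻¹ᵁ O) (c ⁻¹ᵁ W) e') (c ∣_ W) (f ∣_ O) (b.resLE O W e) := by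
  refine IsPullback.of_right (h₁₂ := (f ⁻¹ᵁ O).ι) (h₂₂ := O.ι) (v₁₃ := f) ?_ ?_
    (isPullback_morphismRestrict f O).flip
  · simpa only [Scheme.Hom.resLE_comp_ι] using (isPullback_morphismRestrict c W).flip.paste_horiz sq
  · rw [← cancel_mono O.ι]
    simp only [Category.assoc, morphismRestrict_ι, Scheme.Hom.resLE_comp_ι, Scheme.Hom.resLE_comp_ι_assoc,
      morphismRestrict_ι_assoc]
    rw [sq.w]

open Groth.Agent.GrpSchField in
theorem preimage_le {A B X Y : Scheme.{u}} {a : A ⟶ X} {c : A ⟶ B} {f : X ⟶ Y} {b : B ⟶ Y}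
    (w : a ≫ f = c ≫ b) (W : B.Opens) (O : Y.Opens) (e : W ≤ b ⁻¹ᵁ O) : c ⁻¹ᵁ W ≤ a ⁻¹ᵁ (f ⁻¹ᵁ O) := by
  rw [← Scheme.Hom.comp_preimage, w, Scheme.Hom.comp_preimage]
  exact c.preimage_mono e

/-- Let k be a field, G a locally algebraic group over k (a group k-scheme locally of finite type)
acting on k-schemes X and Y, and f : X → Y a G-equivariant k-morphism. Let P be a property of
morphisms of schemes which is local on the target for the Zariski topology, stable under base
change, and descends along flat surjective universally open morphisms (the published hypothesis is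
descent along fpqc morphisms; the printed argument descends only along the restriction G ×_k U → G·U
of the action, which is flat, surjective and universally open). Then there is a largest open subset
V of Y such that the restriction f⁻¹(V) → V of f has P, and this V is G-stable: the action G ×_k Y →
Y maps G ×_k V into V. -/
theorem result (k : Type u) [Field k]
    (G X Y : Over (Spec (CommRingCat.of k))) [GrpObj G] [LocallyOfFiniteType G.hom]
    (aX : AlgGrp.Action G X) (aY : AlgGrp.Action G Y) (f : X ⟶ Y) (hf : (G ◁ f) ≫ aY.act = aX.act ≫ f)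
    (P : MorphismProperty Scheme.{u}) [IsZariskiLocalAtTarget P] [P.IsStableUnderBaseChange]
    [P.DescendsAlong (@Flat ⊓ @Surjective ⊓ @UniversallyOpen)] :
    ∃ V : Y.left.Opens, P (f.left ∣_ V) ∧ (∀ V' : Y.left.Opens, P (f.left ∣_ V') → V' ≤ V) ∧
      (CartesianMonoidalCategory.snd G Y).left ⁻¹ᵁ V ≤ aY.act.left ⁻¹ᵁ V := by
  classical
  let V : Y.left.Opens := ⨆ V' : {V' : Y.left.Opens // P (f.left ∣_ V')}, V'.1
  have hmax : ∀ V' : Y.left.Opens, P (f.left ∣_ V') → V' ≤ V := fun V' h =>
    le_iSup (fun V' : {V' : Y.left.Opens // P (f.left ∣_ V')} => V'.1) ⟨V', h⟩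
  have hPV : P (f.left ∣_ V) := by
    refine IsZariskiLocalAtTarget.of_iSup_eq_top (P := P)
      (fun V' : {V' : Y.left.Opens // P (f.left ∣_ V')} => V.ι ⁻¹ᵁ V'.1) ?_ fun V' => ?_
    · rw [← Scheme.Hom.preimage_iSup]
      exact V.ι_preimage_self
    · rw [P.arrow_mk_iso_iff (morphismRestrictRestrict f.left V (V.ι ⁻¹ᵁ V'.1) ≪≫
        morphismRestrictEq f.left (V := V'.1) (by
          rw [Scheme.Hom.image_preimage_eq_opensRange_inf, Scheme.Opens.opensRange_ι]
          exact inf_eq_right.mpr (hmax V'.1 V'.2)))]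
      exact V'.2
  refine ⟨V, hPV, hmax, ?_⟩
  -- the two cartesian squares
  have hfst : (G ◁ f).left ≫ (CartesianMonoidalCategory.fst G Y).left =
      (CartesianMonoidalCategory.fst G X).left := by
    rw [← Over.comp_left, whiskerLeft_fst]
  have hsnd : (G ◁ f).left ≫ (CartesianMonoidalCategory.snd G Y).left =
      (CartesianMonoidalCategory.snd G X).left ≫ f.left := by
    rw [← Over.comp_left, whiskerLeft_snd, Over.comp_left]
  have sq2 : IsPullback (CartesianMonoidalCategory.snd G X).left (G ◁ f).left f.left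
      (CartesianMonoidalCategory.snd G Y).left := by
    refine IsPullback.of_bot (v₂₁ := (CartesianMonoidalCategory.fst G Y).left) (v₂₂ := Y.hom) (h₃₁ := G.hom)
      ?_ hsnd.symm (IsPullback.of_hasPullback G.hom Y.hom).flip
    rw [hfst, Over.w f]
    exact (IsPullback.of_hasPullback G.hom X.hom).flip
  have hcomm : (G ◁ f) ≫ (Groth.Agent.GrpSchField.actShear aY).hom =
      (Groth.Agent.GrpSchField.actShear aX).hom ≫ (G ◁ f) := by
    apply CartesianMonoidalCategory.hom_ext
    · simp [Groth.Agent.GrpSchField.actShear]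
    · simp [Groth.Agent.GrpSchField.actShear, hf]
  let eX : (G ⊗ X).left ≅ (G ⊗ X).left := (Over.forget _).mapIso (Groth.Agent.GrpSchField.actShear aX)
  let eY : (G ⊗ Y).left ≅ (G ⊗ Y).left := (Over.forget _).mapIso (Groth.Agent.GrpSchField.actShear aY)
  have sq1 : IsPullback aX.act.left (G ◁ f).left f.left aY.act.left := by
    refine IsPullback.of_iso sq2 eX.symm (Iso.refl _) eY.symm (Iso.refl _) ?_ ?_ (by simp) ?_
    · rw [Iso.refl_hom, Category.comp_id, Iso.symm_hom, Iso.eq_inv_comp]
      show (Groth.Agent.GrpSchField.actShear aX).hom.left ≫ _ = _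
      rw [← Over.comp_left]; simp [Groth.Agent.GrpSchField.actShear]
    · rw [Iso.symm_hom, Iso.symm_hom, ← cancel_mono eY.hom, Category.assoc, Iso.inv_hom_id, Category.comp_id,
        Category.assoc]
      show _ = eX.inv ≫ (G ◁ f).left ≫ (Groth.Agent.GrpSchField.actShear aY).hom.left
      rw [← Over.comp_left, hcomm, Over.comp_left]
      show _ = eX.inv ≫ eX.hom ≫ _
      rw [Iso.inv_hom_id_assoc]
    · rw [Iso.refl_hom, Category.comp_id, Iso.symm_hom, Iso.eq_inv_comp]
      show (Groth.Agent.GrpSchField.actShear aY).hom.left ≫ _ = _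
      rw [← Over.comp_left]; simp [Groth.Agent.GrpSchField.actShear]
  let W : (G ⊗ Y).left.Opens := (CartesianMonoidalCategory.snd G Y).left ⁻¹ᵁ V
  have hPW : P ((G ◁ f).left ∣_ W) :=
    MorphismProperty.of_isPullback (isPullback_restrict sq2 W V le_rfl (preimage_le sq2.w W V le_rfl)) hPV
  have : Flat aY.act.left := Groth.Agent.GrpSchField.flat_act aY
  have : UniversallyOpen G.hom := inferInstance
  have : UniversallyOpen aY.act.left := by
    have h : aY.act = (Groth.Agent.GrpSchField.actShear aY).hom ≫ CartesianMonoidalCategory.snd G Y := by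
      simp [Groth.Agent.GrpSchField.actShear]
    rw [h, Over.comp_left]
    have : IsIso (Groth.Agent.GrpSchField.actShear aY).hom.left := inferInstanceAs (IsIso eY.hom)
    have : UniversallyOpen (CartesianMonoidalCategory.snd G Y).left :=
      inferInstanceAs (UniversallyOpen (Limits.pullback.snd G.hom Y.hom))
    exact MorphismProperty.comp_mem @UniversallyOpen _ _ inferInstance inferInstance
  let O : Y.left.Opens := ⟨aY.act.left '' (W : Set _), aY.act.left.isOpenMap _ W.2⟩
  have e : W ≤ aY.act.left ⁻¹ᵁ O := fun w hw => ⟨w, hw, rfl⟩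
  let a := aY.act.left.resLE O W e
  have ha : a ≫ O.ι = W.ι ≫ aY.act.left := Scheme.Hom.resLE_comp_ι _ _
  have hs : Surjective a := ⟨fun y => by
    obtain ⟨w, hw, hwy⟩ := y.2
    refine ⟨⟨w, hw⟩, O.ι.injective ?_⟩
    rw [← Scheme.Hom.comp_apply, ha]
    exact hwy⟩
  have hu : UniversallyOpen a :=
    IsZariskiLocalAtTarget.restrict (P := @UniversallyOpen) (f := aY.act.left) inferInstance O |> fun h =>
      MorphismProperty.comp_mem @UniversallyOpen ((G ⊗ Y).left.homOfLE e) (aY.act.left ∣_ O) inferInstance h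
  have hQ : (@Flat ⊓ @Surjective ⊓ @UniversallyOpen : MorphismProperty Scheme.{u}) a :=
    ⟨⟨(inferInstance : Flat (aY.act.left.resLE O W e)), hs⟩, hu⟩
  have hPO : P (f.left ∣_ O) := MorphismProperty.of_isPullback_of_descendsAlong
    (P := P) (Q := @Flat ⊓ @Surjective ⊓ @UniversallyOpen)
    (isPullback_restrict sq1 W O e (preimage_le sq1.w W O e)).flip hQ hPW
  exact fun w hw => hmax O hPO (e hw)

end Groth.Agent.S18826
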