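import Groth.Statements.S18829
import Groth.Agent.S18813
import Groth.Agent.HopfFF.SplitUnip
import Mathlib.RingTheory.Bialgebra.MonoidAlgebra


set_option autoImplicit false
universe u
open scoped TensorProduct
open HopfRep

namespace Groth.Agent.S18829

/-- Let k be a field and A a finitely generated commutative Hopf algebra over k, the coordinate ring of
an affine algebraic group T. Suppose T is a torus: for some algebraically closed field extension K
of k the base change K ⊗_k A is isomorphic as a K-bialgebra to the group algebra over K of a free
abelian group ℤ^n (T_K is a split torus of rank n). Then T is linearly reductive in the sense that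
every finite-dimensional A-comodule is semisimple. (The source's definition of a torus asks for such
an isomorphism over every algebraically closed extension; one suffices for the printed argument. The
source's notion of a linearly reductive algebraic group also includes smoothness of T over k, which
this row does not assert.) -/
theorem result (k K A : Type u) [Field k] [Field K]
    [Algebra k K] [IsAlgClosed K] [CommRing A] [HopfAlgebra k A] [Algebra.FiniteType k A] (n : ℕ)
    (e : (K ⊗[k] A) ≃ₐc[K] MonoidAlgebra K (Multiplicative (Fin n → ℤ))) :
    HopfRep.IsLinearlyReductive k A := by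
  open Groth.Agent.ComodBasic in
  exact (by
    refine (S18813.result k K A).2 ?_
    let f : MonoidAlgebra K (Multiplicative (Fin n → ℤ)) →ₐc[K] K ⊗[k] A :=
      (e.symm : MonoidAlgebra K (Multiplicative (Fin n → ℤ)) ≃ₐc[K] K ⊗[k] A)
    have hD : IsDiagonalizable K (K ⊗[k] A) := by
      refine top_le_iff.1 ?_
      rintro b -
      have h : e b ∈ Submodule.span K {a : MonoidAlgebra K (Multiplicative (Fin n → ℤ)) | IsGroupLikeElem K a} :=
        (MonoidAlgebra.span_isGroupLikeElem (R := K) (A := K) (G := Multiplicative (Fin n → ℤ))).symm ▸ Submodule.mem_top
      have h2 := Submodule.mem_map_of_mem (f := (e.symm : MonoidAlgebra K (Multiplicative (Fin n → ℤ)) ≃ₐc[K] K ⊗[k] A).toLinearMap) h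
      rw [Submodule.map_span] at h2
      rw [show b = e.symm (e b) from (e.symm_apply_apply b).symm]
      refine Submodule.span_mono ?_ h2
      rintro _ ⟨a, ha, rfl⟩
      exact ha.map e.symm
    obtain ⟨I, hI⟩ := HopfFF.Split.exists_integral hD
    intro V _ _ _ _
    exact isSemisimpleComod_iff.2 (isSemisimpleModule_of_isLeftInt hI.slice_comul hI.map_one))

end Groth.Agent.S18829
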