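import Groth.Statements.S18830
import Mathlib
-- import your own Groth.Agent.* helpers here

set_option autoImplicit false
universe u
open CategoryTheory MonoidalCategory CartesianMonoidalCategory MonObj AlgebraicGeometry
open AlgGrp

namespace Groth.Agent.S18830

/-- Let k be a field and M an algebraic monoid over k (a monoid k-scheme of finite type). Let i : G → M
be its group of units: a monomorphism of k-schemes through which a T-valued point of M factors if
and only if it is invertible in the monoid M(T). Then G is of finite type over k, i.e. the unit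
group is an algebraic group. -/
theorem result (k : Type u) [Field k]
    (M G : Over (Spec (CommRingCat.of k))) [MonObj M] [LocallyOfFiniteType M.hom] [QuasiCompact M.hom]
    (i : G ⟶ M) [Mono i]
    (hi : ∀ (T : Over (Spec (CommRingCat.of k))) (m : T ⟶ M), (∃ g : T ⟶ G, g ≫ i = m) ↔ IsUnit m) :
    LocallyOfFiniteType G.hom ∧ QuasiCompact G.hom := by
  let e : 𝟙_ _ ⟶ M ⊗ M := lift η[M] η[M]
  let f : M ⊗ M ⟶ M ⊗ M := lift (fst M M * snd M M) (snd M M * fst M M)
  let G' := Limits.pullback f e
  let j : G' ⟶ M := Limits.pullback.fst f e ≫ fst M M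
  have hf : ∀ {T : Over (Spec (CommRingCat.of k))} (a b : T ⟶ M), lift a b ≫ f = lift (a * b) (b * a) := fun a b => by
    simp only [f, comp_lift, Hom.mul_def, ← Category.assoc, lift_fst, lift_snd]
  have he : ∀ {T : Over (Spec (CommRingCat.of k))}, toUnit T ≫ e = lift (1 : T ⟶ M) 1 := by
    intro T; simp only [e, comp_lift, Hom.one_def]
  have hG : ∀ {T : Over (Spec (CommRingCat.of k))} (g : T ⟶ G'),
      (g ≫ j) * (g ≫ Limits.pullback.fst f e ≫ snd M M) = 1 ∧
      (g ≫ Limits.pullback.fst f e ≫ snd M M) * (g ≫ j) = 1 := by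
    intro T g
    have h := congrArg (g ≫ ·) (Limits.pullback.condition (f := f) (g := e))
    rw [← Category.assoc, ← Category.assoc, show g ≫ Limits.pullback.snd f e = toUnit T from toUnit_unique _ _, he,
      show g ≫ Limits.pullback.fst f e = lift (g ≫ j) (g ≫ Limits.pullback.fst f e ≫ snd M M) from
        hom_ext _ _ (by simp [j]) (by simp), hf] at h
    exact ⟨by simpa using congrArg (· ≫ fst M M) h, by simpa using congrArg (· ≫ snd M M) h⟩
  haveI hmono : Mono j := ⟨fun {T} g g' h => by
    have hinv : g ≫ Limits.pullback.fst f e ≫ snd M M = g' ≫ Limits.pullback.fst f e ≫ snd M M :=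
      left_inv_eq_right_inv (hG g).2 (by rw [h]; exact (hG g').1)
    apply Limits.pullback.hom_ext
    · apply hom_ext
      · simpa [j] using h
      · simpa using hinv
    · exact toUnit_unique _ _⟩
  obtain ⟨ψ, hψ⟩ := (hi G' j).mpr ⟨⟨_, _, (hG (𝟙 G')).1, (hG (𝟙 G')).2⟩, by simp⟩
  obtain ⟨u, hu⟩ := (hi G i).mp ⟨𝟙 G, by simp⟩
  let φ : G ⟶ G' := Limits.pullback.lift (lift (u : G ⟶ M) ↑u⁻¹) (toUnit G)
    (by rw [hf, he, Units.mul_inv, Units.inv_mul])
  have hφ : φ ≫ j = i := by
    simp only [φ, j, Limits.pullback.lift_fst_assoc, lift_fst, hu]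
  let iso : G ≅ G' := ⟨φ, ψ, by rw [← cancel_mono i, Category.assoc, hψ, hφ, Category.id_comp],
    by rw [← cancel_mono j, Category.assoc, hφ, hψ, Category.id_comp]⟩
  haveI : LocallyOfFiniteType (M ⊗ M).hom := by
    rw [Over.tensorObj_hom]; infer_instance
  haveI : QuasiCompact (M ⊗ M).hom := by
    rw [Over.tensorObj_hom]; infer_instance
  haveI : IsLocallyNoetherian (M ⊗ M).left := LocallyOfFiniteType.isLocallyNoetherian (M ⊗ M).hom
  have hw : e.left ≫ (M ⊗ M).hom = (𝟙_ (Over (Spec (CommRingCat.of k)))).hom := Over.w e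
  rw [Over.tensorUnit_hom] at hw
  haveI : IsImmersion (e.left ≫ (M ⊗ M).hom) := hw ▸ (MorphismProperty.id_mem @IsImmersion _)
  haveI : IsImmersion e.left := IsImmersion.of_comp e.left (M ⊗ M).hom
  haveI : QuasiCompact (e.left ≫ (M ⊗ M).hom) := hw ▸ (MorphismProperty.id_mem @QuasiCompact _)
  haveI : QuasiSeparated (M ⊗ M).hom := inferInstance
  haveI : QuasiCompact e.left := QuasiCompact.of_comp e.left (M ⊗ M).hom
  have hsq : IsPullback (Limits.pullback.fst f e).left (Limits.pullback.snd f e).left f.left e.left :=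
    (IsPullback.of_hasPullback f e).map (Over.forget _)
  haveI : LocallyOfFiniteType e.left := inferInstance
  haveI : LocallyOfFiniteType (Limits.pullback.fst f e).left := MorphismProperty.of_isPullback hsq.flip ‹LocallyOfFiniteType e.left›
  haveI : QuasiCompact (Limits.pullback.fst f e).left := MorphismProperty.of_isPullback hsq.flip ‹QuasiCompact e.left›
  have hG' : G.hom = iso.hom.left ≫ (Limits.pullback.fst f e).left ≫ (M ⊗ M).hom := by
    rw [Over.w (Limits.pullback.fst f e), Over.w iso.hom]
  haveI : IsIso iso.hom.left := ((Over.forget _).mapIso iso).isIso_hom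
  rw [hG']
  exact ⟨inferInstance, inferInstance⟩

end Groth.Agent.S18830
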