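import Groth.Statements.S18832
import Groth.Agent.S12322
import Groth.Agent.S10826
import Groth.Agent.ComplDeriv.PowerSeries
import Groth.Agent.HilbLoc.Rep.ObsBound

set_option autoImplicit false
universe u
open Polynomial
open DefT

set_option backward.isDefEq.respectTransparency false
set_option maxHeartbeats 2000000

namespace Groth.Agent.S18832

open ArtFun ArtFun.Art IsLocalRing
open Groth.Agent.ArtFunLib Groth.Agent.DefAffHull Groth.Agent.HilbLoc.Rep

variable {k : Type u} [Field k]

/-- Jets of order `l`. -/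
abbrev Jet (k : Type u) [Field k] (l : ℕ) : Type u := k[X] ⧸ Ideal.span {(X : k[X]) ^ l}

/-- The class of the variable. -/
noncomputable def jX (k : Type u) [Field k] (l : ℕ) : Jet k l := Ideal.Quotient.mk _ X

theorem jX_pow (l : ℕ) : jX k l ^ l = 0 := by
  rw [jX, ← map_pow, Ideal.Quotient.eq_zero_iff_mem]
  exact Ideal.mem_span_singleton_self _

/-- Evaluation at zero. -/
noncomputable def jres (l : ℕ) (hl : 1 ≤ l) : Jet k l →ₐ[k] k :=
  Ideal.Quotient.liftₐ _ (Polynomial.aeval (0 : k)) fun p hp => by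
    obtain ⟨q, rfl⟩ := Ideal.mem_span_singleton'.1 hp
    simp [zero_pow (Nat.one_le_iff_ne_zero.1 hl)]

theorem jres_jX (l : ℕ) (hl : 1 ≤ l) : jres l hl (jX k l) = 0 := by
  change Polynomial.aeval (0 : k) (X : k[X]) = 0
  simp

theorem exists_jX_mul (l : ℕ) (hl : 1 ≤ l) (y : Jet k l) :
    ∃ z, y = algebraMap k _ (jres l hl y) + jX k l * z := by
  obtain ⟨p, rfl⟩ := Ideal.Quotient.mk_surjective y
  refine ⟨Ideal.Quotient.mk _ p.divX, ?_⟩
  conv_lhs => rw [← Polynomial.X_mul_divX_add p, map_add, map_mul]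
  rw [add_comm]
  refine congrArg₂ (· + ·) (congrArg (Ideal.Quotient.mk _) ?_) rfl
  change Polynomial.C _ = Polynomial.C (Polynomial.aeval (0 : k) p)
  rw [Polynomial.coe_aeval_eq_eval, Polynomial.coeff_zero_eq_eval_zero]

theorem isNilpotent_of_jres {l : ℕ} (hl : 1 ≤ l) {y : Jet k l} (h : jres l hl y = 0) : IsNilpotent y := by
  obtain ⟨z, hz⟩ := exists_jX_mul l hl y
  rw [h, map_zero, zero_add] at hz
  exact ⟨l, by rw [hz, mul_pow, jX_pow, zero_mul]⟩

/-- The jets as an object. -/
@[reducible] noncomputable def jetArt (l : ℕ) (hl : 1 ≤ l) : Art k k :=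
  haveI : Module.Finite k (Jet k l) := (Polynomial.monic_X_pow (R := k) l).finite_quotient
  haveI : Nontrivial (Jet k l) := (jres l hl).toRingHom.domain_nontrivial
  { carrier := Jet k l
    isLocalRing := IsLocalRing.of_isUnit_or_isUnit_one_sub_self fun y => by
      by_cases h : jres l hl y = 0
      · exact Or.inr (isNilpotent_of_jres hl h).isUnit_one_sub
      · obtain ⟨z, hz⟩ := exists_jX_mul l hl y
        left
        rw [hz]
        refine IsNilpotent.isUnit_add_left_of_commute ⟨l, ?_⟩ ((Ne.isUnit h).map _) (Commute.all _ _)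
        rw [mul_pow, jX_pow, zero_mul]
    isArtinianRing := IsArtinianRing.of_finite k _
    res := jres l hl
    res_surjective := fun c => ⟨algebraMap k _ c, AlgHom.commutes _ c⟩ }

/-- Truncation of jets. -/
noncomputable abbrev jmap {l l' : ℕ} (h : l ≤ l') : Jet k l' →ₐ[k] Jet k l :=
  Ideal.Quotient.factorₐ k (Ideal.span_singleton_le_span_singleton.mpr (pow_dvd_pow (X : k[X]) h))

theorem jres_jmap {l l' : ℕ} (hl : 1 ≤ l) (h : l ≤ l') (y : Jet k l') :
    jres l hl (jmap h y) = jres l' (hl.trans h) y := by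
  obtain ⟨p, rfl⟩ := Ideal.Quotient.mk_surjective y
  rfl

theorem jmap_surjective {l l' : ℕ} (h : l ≤ l') : Function.Surjective (jmap (k := k) h) :=
  Ideal.Quotient.factor_surjective (Ideal.span_singleton_le_span_singleton.mpr (pow_dvd_pow (X : k[X]) h))

theorem aeval_mul_of_isHomogeneous {d N : ℕ} {F : MvPolynomial (Fin d) k} (hF : F.IsHomogeneous N)
    {B : Type u} [CommRing B] [Algebra k B] (t : B) (w : Fin d → B) :
    MvPolynomial.aeval (fun i => t * w i) F = t ^ N * MvPolynomial.aeval w F := by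
  classical
  conv_lhs => rw [F.as_sum]
  conv_rhs => rw [F.as_sum]
  rw [map_sum, map_sum, Finset.mul_sum]
  refine Finset.sum_congr rfl fun e he => ?_
  rw [MvPolynomial.aeval_monomial, MvPolynomial.aeval_monomial, mul_left_comm]
  congr 1
  have hdeg : e.degree = N :=
    (DFunLike.congr_fun Finsupp.degree_eq_weight_one e).trans (hF (MvPolynomial.mem_support_iff.1 he))
  simp only [Finsupp.prod, mul_pow, Finset.prod_mul_distrib, Finset.prod_pow_eq_pow_sum]
  rw [← hdeg, Finsupp.degree_apply]

/-- A power series killed by every curve of given order and tangent vanishes. -/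
theorem exists_jet_ne_zero [Infinite k] {d : ℕ} {f : MvPowerSeries (Fin d) k} (hf : f ≠ 0)
    (hf2 : f ∈ maximalIdeal (MvPowerSeries (Fin d) k) ^ 2) :
    ∃ (N : ℕ) (v : Fin d → k), 2 ≤ N ∧ ∀ χ : MvPowerSeries (Fin d) k →ₐ[k] Jet k (N + 1),
      (∀ i, ∃ r, χ (MvPowerSeries.X i) = jX k (N + 1) * (algebraMap k _ (v i) + jX k (N + 1) * r)) → χ f ≠ 0 := by
  classical
  obtain ⟨e₀, he₀⟩ : ∃ e, MvPowerSeries.coeff e f ≠ 0 := by
    by_contra h
    push Not at h
    exact hf (MvPowerSeries.ext fun e => by rw [h e, map_zero])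
  have hex : ∃ n, ∃ e : Fin d →₀ ℕ, e.degree = n ∧ MvPowerSeries.coeff e f ≠ 0 := ⟨_, e₀, rfl, he₀⟩
  let N := Nat.find hex
  obtain ⟨e, he, hef⟩ := Nat.find_spec hex
  have hlow : ∀ e : Fin d →₀ ℕ, e.degree < N → MvPowerSeries.coeff e f = 0 := fun e h => by
    by_contra hne
    exact Nat.find_min hex h ⟨e, rfl, hne⟩
  let F : MvPolynomial (Fin d) k := MvPowerSeries.truncTotal (N + 1) f
  have hFc : ∀ e : Fin d →₀ ℕ, e.degree < N + 1 → F.coeff e = MvPowerSeries.coeff e f := fun e h =>
    MvPowerSeries.coeff_truncTotal _ h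
  have hF0 : F ≠ 0 := fun h => hef (by rw [← hFc e (he.trans_lt (Nat.lt_succ_self _)), h, MvPolynomial.coeff_zero])
  have hFh : F.IsHomogeneous N := fun e he => by
    rw [Finsupp.weight_apply]
    have h1 : e.degree < N + 1 := by
      by_contra h
      exact he (MvPowerSeries.coeff_truncTotal_eq_zero _ (not_lt.1 h))
    have h2 : ¬ e.degree < N := fun h => he ((hFc e h1).trans (hlow e h))
    have h3 : e.degree = N := by omega
    rw [← h3, Finsupp.degree_apply]
    simp [Finsupp.sum]
  have hN2 : 2 ≤ N := by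
    by_contra h
    have hN : e.degree ≤ 1 := by omega
    rcases Nat.le_one_iff_eq_zero_or_eq_one.1 hN with h0 | h1
    · rw [Finsupp.degree_eq_zero_iff] at h0
      subst h0
      exact hef (by
        rw [MvPowerSeries.coeff_zero_eq_constantCoeff_apply]
        by_contra hne
        exact (IsLocalRing.mem_maximalIdeal _).1 (Ideal.pow_le_self two_ne_zero hf2)
          (MvPowerSeries.isUnit_iff_constantCoeff.2 (Ne.isUnit hne)))
    · obtain ⟨i, rfl⟩ : ∃ i, e = Finsupp.single i 1 := by
        obtain ⟨i, hi⟩ : ∃ i, e i ≠ 0 := by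
          by_contra hc
          push Not at hc
          rw [show e = 0 from Finsupp.ext hc, map_zero] at h1
          exact zero_ne_one h1
        refine ⟨i, ?_⟩
        have hle : Finsupp.single i 1 ≤ e := Finsupp.single_le_iff.2 (Nat.one_le_iff_ne_zero.2 hi)
        have := congrArg Finsupp.degree (tsub_add_cancel_of_le hle)
        rw [map_add, Finsupp.degree_single, h1, Nat.succ_inj, Finsupp.degree_eq_zero_iff] at this
        rw [← tsub_add_cancel_of_le hle, this, zero_add]
      exact hef (ComplDeriv.coeff_single_eq_zero_of_mem_sq d k hf2 i)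
  obtain ⟨v, hv⟩ : ∃ v, MvPolynomial.eval v F ≠ 0 := by
    by_contra h
    push Not at h
    exact hF0 (MvPolynomial.funext fun v => by rw [h v, map_zero])
  refine ⟨N, v, hN2, fun χ hχ h0 => ?_⟩
  choose r hr using hχ
  let t := jX k (N + 1)
  let w : Fin d → Jet k (N + 1) := fun i => algebraMap k _ (v i) + t * r i
  have htail : χ (f - (F : MvPowerSeries (Fin d) k)) = 0 := by
    have hm := Ideal.mem_map_of_mem χ (S10826.mem_pow_span_X (N + 1) (f - (F : MvPowerSeries (Fin d) k))
      fun e he => by rw [map_sub, MvPolynomial.coeff_coe, hFc e he, sub_self])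
    rw [Ideal.map_pow, Ideal.map_span] at hm
    have hle : Ideal.span (χ '' Set.range MvPowerSeries.X) ≤ Ideal.span {t} := Ideal.span_le.2 (by
      rintro _ ⟨_, ⟨i, rfl⟩, rfl⟩
      exact Ideal.mem_span_singleton'.2 ⟨w i, by rw [mul_comm, hr i]⟩)
    have := Ideal.pow_right_mono hle (N + 1) hm
    rwa [Ideal.span_singleton_pow, jX_pow, Ideal.span_singleton_eq_bot.2 rfl, Ideal.mem_bot] at this
  have hFχ : χ (F : MvPowerSeries (Fin d) k) = MvPolynomial.aeval (fun i => t * w i) F := by
    have h := MvPolynomial.aeval_unique (χ.comp (MvPolynomial.coeToMvPowerSeries.algHom k))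
    have h2 : χ (F : MvPowerSeries (Fin d) k) = χ.comp (MvPolynomial.coeToMvPowerSeries.algHom k) F := by
      simp
    rw [h2, h]
    congr 1
    ext i
    simp [hr i, t, w]
  rw [map_sub, h0, zero_sub, neg_eq_zero, hFχ, aeval_mul_of_isHomogeneous hFh] at htail
  obtain ⟨z, hz⟩ := exists_jX_mul (N + 1) (Nat.le_add_left 1 N) (MvPolynomial.aeval w F)
  have hres : jres (N + 1) (Nat.le_add_left 1 N) (MvPolynomial.aeval w F) = MvPolynomial.eval v F := by
    rw [← AlgHom.comp_apply, MvPolynomial.comp_aeval]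
    refine congrArg (fun u => MvPolynomial.eval u F) (funext fun i => ?_)
    change jres _ _ (algebraMap k _ (v i) + t * r i) = v i
    rw [map_add, map_mul, AlgHom.commutes, jres_jX, zero_mul, add_zero, Algebra.algebraMap_self_apply]
  rw [hz, hres, mul_add, ← mul_assoc, ← pow_succ, jX_pow, zero_mul, add_zero, mul_comm, ← Algebra.smul_def,
    smul_eq_zero] at htail
  rcases htail with h | h
  · exact hv h
  · replace h : (Ideal.Quotient.mk _ (X : k[X]) : Jet k (N + 1)) ^ N = 0 := h
    rw [← map_pow, Ideal.Quotient.eq_zero_iff_mem, Ideal.mem_span_singleton] at h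
    have := Polynomial.natDegree_le_of_dvd h (pow_ne_zero N Polynomial.X_ne_zero)
    simp at this

/-- Let k be an algebraically closed field of characteristic zero, A a finitely generated k-algebra and
m a maximal ideal of A. Then A_m is a regular local ring (the pointed scheme (Spec A, m) is smooth
at m) if and only if, for every l ≥ 1, every k-algebra homomorphism φ : A → k[X]/(X^l) mapping m
into the nilpotent elements extends to a k-algebra homomorphism ψ : A → k[X]/(X^(l+1)) reducing to φ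
modulo X^l. Only jets along Spec k[X]/(X^l) are tested, not all local Artinian algebras. -/
theorem result (k : Type u) [Field k] [IsAlgClosed k] [CharZero k]
    (A : Type u) [CommRing A] [Algebra k A] [Algebra.FiniteType k A]
    (m : Ideal A) [m.IsMaximal] :
    IsRegularLocalRing (Localization.AtPrime m) ↔
      ∀ (l : ℕ), 1 ≤ l →
        ∀ (φ : A →ₐ[k] (k[X] ⧸ Ideal.span {(X : k[X]) ^ l})),
          (∀ a ∈ m, IsNilpotent (φ a)) →
          ∃ ψ : A →ₐ[k] (k[X] ⧸ Ideal.span {(X : k[X]) ^ (l + 1)}),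
            (Ideal.Quotient.factorₐ k
                (Ideal.span_singleton_le_span_singleton.mpr (pow_dvd_pow (X : k[X]) (Nat.le_succ l)))).comp ψ = φ := by
  classical
  haveI : Module.Finite k (A ⧸ m) := by
    letI := Ideal.Quotient.field m
    exact finite_of_finite_type_of_isJacobsonRing k (A ⧸ m)
  letI : Field (A ⧸ m) := Ideal.Quotient.field m
  let ek : k ≃ₐ[k] A ⧸ m := AlgEquiv.ofBijective (Algebra.ofId k (A ⧸ m))
    IsAlgClosed.algebraMap_bijective_of_isIntegral
  let resA : A →ₐ[k] k := ek.symm.toAlgHom.comp (Ideal.Quotient.mkₐ k m)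
  have hresA : ∀ a, resA a = 0 ↔ a ∈ m := fun a => (map_eq_zero_iff _ ek.symm.injective).trans
    Ideal.Quotient.eq_zero_iff_mem
  haveI : IsNoetherianRing A := Algebra.FiniteType.isNoetherianRing k A
  let R := Localization.AtPrime m
  haveI : IsNoetherianRing R := IsLocalization.isNoetherianRing m.primeCompl R inferInstance
  let res : R →ₐ[k] k := IsLocalization.liftAlgHom (M := m.primeCompl) (f := resA)
    fun s => Ne.isUnit fun h => s.2 ((hresA _).1 h)
  have hres : ∀ a, res (algebraMap A R a) = resA a := fun a => IsLocalization.lift_eq _ a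
  let Rc : CRing k k := completion res
  haveI : IsNoetherianRing Rc.carrier := Rc.isNoetherianRing
  obtain ⟨d, Q, Φ, c, hΦ, hΦs, hsq, -, -⟩ := exists_presentation Rc
  let ιA : A →ₐ[k] R := IsScalarTower.toAlgHom k A R
  let toA : ∀ {T : Art k k}, HomSet Rc.carrier Rc.res T → (A →ₐ[k] T) := fun {T} ψ => (restrict (res := res) ψ).1.comp ιA
  have htoA_res : ∀ {T : Art k k} (ψ : HomSet Rc.carrier Rc.res T) a, T.res (toA ψ a) = resA a := fun {T} ψ a =>
    (DFunLike.congr_fun (restrict (res := res) ψ).2 _).trans (hres a)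
  have htoA_inj : ∀ {T : Art k k} (ψ ψ' : HomSet Rc.carrier Rc.res T), toA ψ = toA ψ' → ψ = ψ' := fun {T} ψ ψ' h =>
    (bijective_restrict (res := res) T).1 (Subtype.ext (IsLocalization.algHom_ext m.primeCompl h))
  have hext : ∀ {T : Art k k} (φ : A →ₐ[k] T), (∀ a, T.res (φ a) = resA a) →
      ∃ ψ : HomSet Rc.carrier Rc.res T, toA ψ = φ := fun {T} φ hφ => by
    have hu : ∀ s : m.primeCompl, IsUnit (φ s) := fun s => by
      refine IsLocalRing.notMem_maximalIdeal.1 fun h => s.2 ((hresA _).1 ?_)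
      rw [← hφ]
      exact (Art.mem_maximalIdeal_iff T _).1 h
    let φR : R →ₐ[k] T := IsLocalization.liftAlgHom (M := m.primeCompl) (f := φ) hu
    have hφR : ∀ a, φR (algebraMap A R a) = φ a := fun a => IsLocalization.lift_eq _ a
    obtain ⟨ψ, hψ⟩ := (bijective_restrict (res := res) T).2 ⟨φR, IsLocalization.algHom_ext m.primeCompl
      (AlgHom.ext fun a => (congrArg T.res (hφR a)).trans ((hφ a).trans (hres a).symm))⟩
    refine ⟨ψ, AlgHom.ext fun a => ?_⟩
    exact (DFunLike.congr_fun (congrArg Subtype.val hψ) _).trans (hφR a)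
  let Ψ : MvPowerSeries (Fin d) k →ₐ[k] Rc.carrier := Φ.comp Q.e.symm.toAlgHom
  have hΨ : Function.Surjective Ψ := hΦs.comp Q.e.symm.surjective
  haveI : IsNoetherianRing (MvPowerSeries (Fin d) k) := S12322.noeth
  have hXres : ∀ {T : Art k k} (χ : MvPowerSeries (Fin d) k →ₐ[k] T) i, T.res (χ (MvPowerSeries.X i)) = 0 :=
    fun {T} χ i => (mem_maximalIdeal_iff_res (T.res.comp χ) _).1
      ((IsLocalRing.mem_maximalIdeal _).2 fun h => by simpa using MvPowerSeries.isUnit_iff_constantCoeff.1 h)
  let e : (MvPowerSeries (Fin d) k ⧸ RingHom.ker Ψ) ≃ₐ[k] Rc.carrier := Ideal.quotientKerAlgEquivOfSurjective hΨ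
  have hdesc : ∀ {T : Art k k} (χ : MvPowerSeries (Fin d) k →ₐ[k] T), (∀ z, Ψ z = 0 → χ z = 0) →
      ∃ ψ : HomSet Rc.carrier Rc.res T, ∀ z, ψ.1 (Ψ z) = χ z := fun {T} χ hχ => by
    refine ⟨⟨(Ideal.Quotient.liftₐ _ χ hχ).comp e.symm.toAlgHom, S12322.algHom_field_ext _ _⟩, fun z => ?_⟩
    change Ideal.Quotient.liftₐ _ χ hχ (e.symm (Ψ z)) = _
    rw [show e.symm (Ψ z) = Ideal.Quotient.mk _ z from (AlgEquiv.symm_apply_eq _).2 rfl]
    rfl
  have hsq' : RingHom.ker Ψ ≤ maximalIdeal (MvPowerSeries (Fin d) k) ^ 2 := fun z hz => by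
    have h1 : Q.e.symm z ∈ maximalIdeal Q.ring.carrier ^ 2 := hsq hz
    have h2 := Ideal.mem_map_of_mem Q.e.toAlgHom h1
    have h3 : (maximalIdeal Q.ring.carrier).map Q.e.toAlgHom ≤
        maximalIdeal (MvPowerSeries (Fin d) k) := Ideal.map_le_iff_le_comap.2 fun a ha =>
      (IsLocalRing.mem_maximalIdeal _).2 fun hu => (IsLocalRing.mem_maximalIdeal _).1 ha
        ((MulEquiv.isUnit_map Q.e.toRingEquiv.toMulEquiv).1 hu)
    rw [Ideal.map_pow] at h2
    have h4 := Ideal.pow_right_mono h3 2 h2
    simpa using h4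
  constructor
  · -- regular local rings are formally smooth
    intro hreg l hl φ hφ
    have hRc : IsRegularLocalRing Rc.carrier := PP16Lib.isRegularLocalRing_iff_completion.1 hreg
    obtain ⟨hdim, hdom⟩ := ps_dim Q
    have hinj : ∀ z, Ψ z = 0 → z = 0 := fun z hz => by
      by_contra hne
      haveI := hdom
      have hne' : Q.e.symm z ≠ 0 := fun h => hne ((map_eq_zero_iff _ Q.e.symm.injective).1 h)
      haveI : IsRegularLocalRing (MvPowerSeries (Fin d) (kRing k).carrier) :=
        PP16Lib.isRegularLocalRing_mvPowerSeries d k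
      haveI : IsRegularLocalRing Q.ring.carrier := IsRegularLocalRing.of_ringEquiv Q.e.toRingEquiv.symm
      have h1 := ringKrullDim_quotient_succ_le_of_nonZeroDivisor (mem_nonZeroDivisors_of_ne_zero hne')
      let e' : (Q.ring.carrier ⧸ RingHom.ker Φ) ≃+* Rc.carrier :=
        RingHom.quotientKerEquivOfSurjective (f := Φ.toRingHom) hΦs
      have h2 : ringKrullDim Rc.carrier ≤ ringKrullDim (Q.ring.carrier ⧸ Ideal.span {Q.e.symm z}) := by
        rw [← ringKrullDim_eq_of_ringEquiv e']
        exact ringKrullDim_le_of_surjective (Ideal.Quotient.factor ((Ideal.span_singleton_le_iff_mem _).2 hz))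
          (Ideal.Quotient.factor_surjective _)
      haveI : IsNoetherianRing Rc.carrier := Rc.isNoetherianRing
      have hc := finrank_cotangent_of_surjective Φ.toRingHom hΦs hsq
      have hd1 := @IsRegularLocalRing.spanFinrank_maximalIdeal _ _ hRc
      rw [IsLocalRing.spanFinrank_maximalIdeal_eq_finrank_cotangentSpace, hc] at hd1
      have hd2 := IsRegularLocalRing.spanFinrank_maximalIdeal (R := Q.ring.carrier)
      have h3 := (add_le_add h2 le_rfl).trans h1
      rw [← hd1, hd2, hdim] at h3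
      have h4 : (d : WithBot ℕ∞) + 1 ≤ (d : WithBot ℕ∞) := h3
      have h5 : d + 1 ≤ d := by exact_mod_cast h4
      omega
    have hφres : ∀ a, jres l hl (φ a) = resA a := fun a => by
      have hm : a - algebraMap k A (resA a) ∈ m := (hresA _).1 (by simp)
      have h := ((hφ _ hm).map (jres l hl)).eq_zero
      rw [map_sub φ, φ.commutes, map_sub, AlgHom.commutes, Algebra.algebraMap_self_apply, sub_eq_zero] at h
      exact h
    obtain ⟨ψ, hψ⟩ := hext (T := jetArt l hl) φ hφres
    let μ : jetArt (k := k) (l + 1) (hl.trans l.le_succ) ⟶ jetArt l hl :=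
      ⟨jmap l.le_succ, AlgHom.ext fun y => jres_jmap hl l.le_succ y⟩
    choose y hy using fun i => jmap_surjective (k := k) l.le_succ (ψ.1 (Ψ (MvPowerSeries.X i)))
    obtain ⟨χ, hχ, -⟩ := S12322.existsUnique_hom d (jetArt (l + 1) (hl.trans l.le_succ)) y fun i => by
      refine (jres_jmap hl l.le_succ (y i)).symm.trans ?_
      rw [hy]
      exact hXres (T := jetArt l hl) (ψ.1.comp Ψ) i
    obtain ⟨ψ', hψ'⟩ := hdesc χ fun z hz => by rw [hinj z hz, map_zero]
    refine ⟨toA ψ', ?_⟩
    have heq : μ.toAlgHom.comp χ = ψ.1.comp Ψ :=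
      (S12322.existsUnique_hom d (jetArt l hl) (fun i => ψ.1 (Ψ (MvPowerSeries.X i)))
        fun i => hXres (T := jetArt l hl) (ψ.1.comp Ψ) i).unique
        (fun i => (congrArg μ (hχ i)).trans (hy i)) fun i => rfl
    have hmap : HomSet.map μ ψ' = ψ := Subtype.ext (AlgHom.ext fun r => by
      obtain ⟨z, rfl⟩ := hΨ r
      exact (congrArg μ (hψ' z)).trans (DFunLike.congr_fun heq z))
    rw [← hψ, ← hmap]
    rfl
  · -- curvilinear jets detect singularities
    intro hjet
    have hbot : ∀ f, Ψ f = 0 → f = 0 := fun f hf => by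
      by_contra hne
      obtain ⟨N, v, hN, hv⟩ := exists_jet_ne_zero hne (hsq' hf)
      obtain ⟨χ₂, hχ₂, -⟩ := S12322.existsUnique_hom d (jetArt (k := k) 2 one_le_two)
        (fun i => jX k 2 * algebraMap k _ (v i)) fun i => by
          change jres 2 one_le_two (jX k 2 * _) = 0
          rw [map_mul, jres_jX, zero_mul]
      obtain ⟨ψ₂, hψ₂⟩ := hdesc χ₂ fun z hz => by
        have h := Ideal.mem_map_of_mem χ₂ (hsq' hz)
        rw [Ideal.map_pow] at h
        have hle : (maximalIdeal (MvPowerSeries (Fin d) k)).map χ₂ ≤ Ideal.span {jX k 2} :=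
          Ideal.map_le_iff_le_comap.2 fun a ha => by
            obtain ⟨w, hw⟩ := exists_jX_mul 2 one_le_two (χ₂ a)
            have h0 : jres 2 one_le_two (χ₂ a) = 0 :=
              (mem_maximalIdeal_iff_res ((jetArt (k := k) 2 one_le_two).res.comp χ₂) a).1 ha
            rw [h0, map_zero, zero_add] at hw
            exact Ideal.mem_span_singleton'.2 ⟨w, (mul_comm _ _).trans hw.symm⟩
        have h' := Ideal.pow_right_mono hle 2 h
        rwa [Ideal.span_singleton_pow, jX_pow, Ideal.span_singleton_eq_bot.2 rfl, Ideal.mem_bot] at h'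
      have hstep : ∀ (l : ℕ) (hl : 2 ≤ l), ∃ φ : A →ₐ[k] Jet k l, (jmap hl).comp φ = toA ψ₂ := by
        intro l hl
        induction l, hl using Nat.le_induction with
        | base => exact ⟨toA ψ₂, AlgHom.ext fun a => by
            obtain ⟨p, hp⟩ := Ideal.Quotient.mk_surjective (toA ψ₂ a)
            rw [AlgHom.comp_apply, ← hp]
            rfl⟩
        | succ l hl ih =>
          obtain ⟨φ, hφ⟩ := ih
          obtain ⟨ψ, hψ⟩ := hjet l (one_le_two.trans hl) φ fun a ha => by
            refine isNilpotent_of_jres (one_le_two.trans hl) ?_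
            rw [← jres_jmap one_le_two hl, show jmap hl (φ a) = toA ψ₂ a from DFunLike.congr_fun hφ a]
            exact (htoA_res ψ₂ a).trans ((hresA a).2 ha)
          refine ⟨ψ, ?_⟩
          rw [← hφ, ← hψ, ← AlgHom.comp_assoc]
          refine congrArg (fun g => AlgHom.comp g ψ) (AlgHom.ext fun y => ?_)
          obtain ⟨p, rfl⟩ := Ideal.Quotient.mk_surjective y
          rfl
      obtain ⟨φ, hφ⟩ := hstep (N + 1) (by omega)
      have h1 : 1 ≤ N + 1 := Nat.le_add_left 1 N
      obtain ⟨ψ, hψ⟩ := hext (T := jetArt (N + 1) h1) φ fun a => by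
        change jres (N + 1) h1 (φ a) = resA a
        rw [← jres_jmap one_le_two (show 2 ≤ N + 1 by omega),
          show jmap (show 2 ≤ N + 1 by omega) (φ a) = toA ψ₂ a from DFunLike.congr_fun hφ a]
        exact htoA_res ψ₂ a
      let μ : jetArt (k := k) (N + 1) h1 ⟶ jetArt 2 one_le_two :=
        ⟨jmap (show 2 ≤ N + 1 by omega), AlgHom.ext fun y => jres_jmap one_le_two (show 2 ≤ N + 1 by omega) y⟩
      have hmap : HomSet.map μ ψ = ψ₂ := htoA_inj _ _ (by rw [← hφ, ← hψ]; rfl)
      refine hv (ψ.1.comp Ψ) (fun i => ?_) ((congrArg ψ.1 hf).trans (map_zero _))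
      obtain ⟨z, hz⟩ := exists_jX_mul (N + 1) h1 (ψ.1 (Ψ (MvPowerSeries.X i)))
      have h0 : jres (N + 1) h1 (ψ.1 (Ψ (MvPowerSeries.X i))) = 0 :=
        hXres (T := jetArt (N + 1) h1) (ψ.1.comp Ψ) i
      rw [h0, map_zero, zero_add] at hz
      obtain ⟨z', hz'⟩ := exists_jX_mul (N + 1) h1 z
      refine ⟨z', hz.trans ?_⟩
      suffices hc : jres (N + 1) h1 z = v i by rw [← hc, ← hz']
      have h2 : μ (ψ.1 (Ψ (MvPowerSeries.X i))) = jX k 2 * algebraMap k _ (v i) :=
        (DFunLike.congr_fun (congrArg Subtype.val hmap) _).trans ((hψ₂ _).trans (hχ₂ i))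
      rw [hz, hz'] at h2
      have h3 : jX k 2 * (algebraMap k _ (jres (N + 1) h1 z) + jX k 2 * μ z') =
          jX k 2 * algebraMap k _ (v i) := by
        refine Eq.trans ?_ h2
        rw [map_mul, map_add, map_mul, AlgHom.commutes]
        rfl
      rw [mul_add, ← mul_assoc, ← sq, jX_pow, zero_mul, add_zero, ← sub_eq_zero, ← mul_sub, ← map_sub,
        mul_comm, ← Algebra.smul_def, smul_eq_zero, sub_eq_zero] at h3
      refine h3.resolve_right fun h => ?_
      replace h : (Ideal.Quotient.mk _ (X : k[X]) : Jet k 2) = 0 := h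
      rw [Ideal.Quotient.eq_zero_iff_mem, Ideal.mem_span_singleton] at h
      have := Polynomial.natDegree_le_of_dvd h Polynomial.X_ne_zero
      simp at this
    haveI : IsRegularLocalRing (MvPowerSeries (Fin d) k) := PP16Lib.isRegularLocalRing_mvPowerSeries d k
    have : IsRegularLocalRing Rc.carrier := IsRegularLocalRing.of_ringEquiv
      (RingEquiv.ofBijective Ψ.toRingHom ⟨(injective_iff_map_eq_zero _).2 hbot, hΨ⟩)
    exact PP16Lib.isRegularLocalRing_iff_completion.2 this


end Groth.Agent.S18832
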