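import Groth.Statements.S18834
import Groth.Agent.ComodBasic.Orbit


set_option autoImplicit false
universe u
open TensorProduct
open GIT

namespace Groth.Agent.S18834
open Groth.Agent.ComodBasic

/-- Let k be an algebraically closed field of characteristic zero, G = Spec A a linearly reductive
affine group over k (A a commutative Hopf algebra whose finite-dimensional comodules are semisimple)
acting on an affine k-scheme Spec R of finite type (a multiplicative coaction of A on R), and R^G
the ring of invariants. Then for every ideal I of R^G the ideal I·R of R generated by I satisfies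
(I·R) ∩ R^G = I. (The section also assumes Spec R irreducible; that hypothesis plays no role here
and is not carried.) -/
theorem result (k : Type u) [Field k] [IsAlgClosed k] [CharZero k]
    (A : Type u) [CommRing A] [HopfAlgebra k A] (hG : HopfRep.IsLinearlyReductive k A)
    (R : Type u) [CommRing R] [Algebra k R] [Algebra.FiniteType k R]
    [HopfRep.Comod k A R] [GLin.IsCoactAlg k A R]
    (I : Ideal (GLin.invariants k A R)) :
    Ideal.comap (GLin.invariants k A R).val.toRingHom
        (Ideal.map (GLin.invariants k A R).val.toRingHom I) = I := by
  haveI : TameAct.IsHopfMod k A R R := isHopfMod_self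
  haveI : IsSemisimpleModule (Cv k A) R := isSemisimpleModule_of_finite hG R
  obtain ⟨E, hE, hE'⟩ := exists_reynolds (k := k) (A := A) R
  refine le_antisymm (fun y hy => ?_) Ideal.le_comap_map
  rw [Ideal.mem_comap] at hy
  rw [Ideal.map, Submodule.mem_span_set'] at hy
  obtain ⟨n, c, g, hg⟩ := hy
  choose g' hg' hg'' using fun i => (g i).2
  have he : y = ∑ i, (⟨E (c i), hE _⟩ : GLin.invariants k A R) * g' i := by
    refine Subtype.ext ?_
    rw [AddSubmonoidClass.coe_finsetSum, ← hE' (y : R) y.2]
    refine Eq.trans (congrArg E hg.symm) ?_
    rw [map_sum]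
    refine Finset.sum_congr rfl fun i _ => ?_
    rw [← hg'' i, smul_eq_mul, mul_comm, ← smul_eq_mul]
    refine (proj_fixed_smul E hE hE' (show ((g' i : R)) ∈ HopfRep.fixedPts k A R from (g' i).2) (c i)).trans ?_
    simp [mul_comm]
  rw [he]
  exact Ideal.sum_mem _ fun i _ => Ideal.mul_mem_left _ _ (hg' i)

end Groth.Agent.S18834
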