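import Groth.Statements.S18837
import Mathlib
import Groth.Agent.DefSplit.Basic
-- import your own Groth.Agent.* helpers here

set_option autoImplicit false
universe u
open Polynomial TensorProduct
open Deform

namespace Groth.Agent.S18837

/-- Let k be an algebraically closed field of characteristic zero, n ≥ 1, D = k[X]/(X^(n+1)) (given with
a k-algebra isomorphism e identifying the class of X with τ ∈ D), and B a finitely generated
k-algebra which is a flat D-algebra such that B/tB is smooth over k, where t is the image of τ in B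
(an affine open of a flat deformation of a smooth k-scheme over Spec D); put B' = B/t^nB. Then
Ω_(B/D) is a projective B-module, B' ⊗_B Ω_(B/k) is a projective B'-module, and the sequence 0 → B'
→ B' ⊗_B Ω_(B/k) → B' ⊗_B Ω_(B/D) → 0 is exact, the first map being b ↦ b · (1 ⊗ dt) and the second
the base change of the canonical surjection Ω_(B/k) → Ω_(B/D). The source states this for a flat
proper family over Spec D with smooth central fibre; the statement is local and is given here on an
affine open. -/
theorem result (k : Type u) [Field k] [IsAlgClosed k] [CharZero k] (n : ℕ) (hn : 1 ≤ n)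
    (D : Type u) [CommRing D] [Algebra k D] (τ : D)
    (e : (k[X] ⧸ Ideal.span {(X : k[X]) ^ (n + 1)}) ≃ₐ[k] D)
    (he : e (Ideal.Quotient.mk (Ideal.span {(X : k[X]) ^ (n + 1)}) X) = τ)
    (B : Type u) [CommRing B] [Algebra k B] [Algebra D B] [IsScalarTower k D B]
    [Algebra.FiniteType k B] [Module.Flat D B]
    (t : B) (ht : t = algebraMap D B τ) (hsm : Algebra.Smooth k (B ⧸ Ideal.span {t})) :
    Module.Projective B (Ω[B⁄D]) ∧
    Module.Projective (B ⧸ Ideal.span {t ^ n}) ((B ⧸ Ideal.span {t ^ n}) ⊗[B] Ω[B⁄k]) ∧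
    Function.Injective
      (LinearMap.toSpanSingleton (B ⧸ Ideal.span {t ^ n}) ((B ⧸ Ideal.span {t ^ n}) ⊗[B] Ω[B⁄k])
        ((1 : (B ⧸ Ideal.span {t ^ n})) ⊗ₜ[B] KaehlerDifferential.D k B t)) ∧
    Function.Exact
      (LinearMap.toSpanSingleton (B ⧸ Ideal.span {t ^ n}) ((B ⧸ Ideal.span {t ^ n}) ⊗[B] Ω[B⁄k])
        ((1 : (B ⧸ Ideal.span {t ^ n})) ⊗ₜ[B] KaehlerDifferential.D k B t))
      (LinearMap.baseChange (B ⧸ Ideal.span {t ^ n}) (KaehlerDifferential.map k D B B)) ∧
    Function.Surjective (LinearMap.baseChange (B ⧸ Ideal.span {t ^ n}) (KaehlerDifferential.map k D B B)) := by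
  classical
  haveI : Algebra.FormallySmooth k (B ⧸ Ideal.span {t}) := hsm.formallySmooth
  haveI := DefSplit.formallySmooth e he ht
  haveI hP : Module.Projective B (Ω[B⁄D]) := inferInstance
  have hdt : KaehlerDifferential.D D B t = 0 := by rw [ht]; exact Derivation.map_algebraMap _ _
  set B' := B ⧸ Ideal.span {t ^ n}
  obtain ⟨r, hr⟩ := DefSplit.exists_retraction e he ht
  let r' : B' ⊗[B] Ω[B⁄k] →ₗ[B'] B' := r.liftBaseChange B'
  set v : B' ⊗[B] Ω[B⁄k] := (1 : B') ⊗ₜ[B] KaehlerDifferential.D k B t
  have hv : r' v = 1 := by simp [r', v, hr]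
  set p := LinearMap.baseChange B' (KaehlerDifferential.map k D B B)
  have hex : Function.Exact (LinearMap.toSpanSingleton B' (B' ⊗[B] Ω[B⁄k]) v) p := by
    have hex1 : Function.Exact (LinearMap.toSpanSingleton B (Ω[B⁄k]) (KaehlerDifferential.D k B t))
        (KaehlerDifferential.map k D B B) := by
      intro η
      refine ⟨fun h => ?_, ?_⟩
      · obtain ⟨b, rfl⟩ := DefSplit.exists_of_map_eq_zero e he ht η h
        exact ⟨b, rfl⟩
      · rintro ⟨b, rfl⟩
        rw [LinearMap.toSpanSingleton_apply, map_smul, KaehlerDifferential.map_D, Algebra.algebraMap_self,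
          RingHom.id_apply, hdt, smul_zero]
    have hex2 := lTensor_exact B' hex1 (KaehlerDifferential.map_surjective k D B)
    intro z
    constructor
    · intro hz
      obtain ⟨w, rfl⟩ := (hex2 z).1 hz
      induction w using TensorProduct.induction_on with
      | zero => exact ⟨0, by simp⟩
      | tmul c b =>
        refine ⟨b • c, ?_⟩
        rw [LinearMap.toSpanSingleton_apply, LinearMap.lTensor_tmul, LinearMap.toSpanSingleton_apply,
          TensorProduct.tmul_smul, TensorProduct.smul_tmul', TensorProduct.smul_tmul', smul_eq_mul, mul_one]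
      | add x y hx hy =>
        obtain ⟨a, ha⟩ := hx ((hex2 _).2 ⟨x, rfl⟩)
        obtain ⟨c, hc⟩ := hy ((hex2 _).2 ⟨y, rfl⟩)
        exact ⟨a + c, by rw [map_add, ha, hc, map_add]⟩
    · rintro ⟨c, rfl⟩
      rw [LinearMap.toSpanSingleton_apply, map_smul, LinearMap.baseChange_tmul, KaehlerDifferential.map_D,
        Algebra.algebraMap_self, RingHom.id_apply, hdt, TensorProduct.tmul_zero,
        smul_zero]
  have hsurj : Function.Surjective p := LinearMap.lTensor_surjective B' (KaehlerDifferential.map_surjective k D B)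
  refine ⟨hP, ?_, ?_, hex, hsurj⟩
  · haveI : Module.Projective B' (B' ⊗[B] Ω[B⁄D]) := inferInstance
    obtain ⟨σ, hσ⟩ := p.exists_rightInverse_of_surjective (LinearMap.range_eq_top.2 hsurj)
    refine Module.Projective.of_split (r'.prod p)
      (LinearMap.coprod (LinearMap.toSpanSingleton B' _ v)
        (σ - (LinearMap.toSpanSingleton B' _ v).comp (r'.comp σ))) (LinearMap.ext fun m => ?_)
    show r' m • v + (σ (p m) - r' (σ (p m)) • v) = m
    obtain ⟨c, hc⟩ := (hex (σ (p m) - m)).1 (by
      rw [map_sub, show p (σ (p m)) = p m from LinearMap.congr_fun hσ (p m), sub_self])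
    rw [LinearMap.toSpanSingleton_apply] at hc
    have hc' : r' (σ (p m)) = c + r' m := by
      have := congrArg r' hc
      rw [map_smul, hv, smul_eq_mul, mul_one, map_sub] at this
      rw [this, sub_add_cancel]
    rw [hc', add_smul, hc]
    abel
  · intro a b hab
    have := congrArg r' hab
    simpa [hv] using this

end Groth.Agent.S18837
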