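import Groth.Statements.S18838
import Mathlib
import Groth.Agent.DefSplit.Basic
-- import your own Groth.Agent.* helpers here

set_option autoImplicit false
universe u
open Polynomial TensorProduct
open Deform

namespace Groth.Agent.S18838

/-- Let k be an algebraically closed field of characteristic zero, n ≥ 1, D = k[X]/(X^(n+1)) (given with
a k-algebra isomorphism e identifying the class of X with τ ∈ D), and B a finitely generated
k-algebra which is a flat D-algebra such that B/tB is smooth over k, where t is the image of τ in B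
(an affine open of a flat deformation of a smooth k-scheme over Spec D); put B' = B/t^nB. The map μ
: B → B' × (B' ⊗_B Ω_(B/k)) sending f to (f mod t^n, 1 ⊗ df) is injective, and its image consists
exactly of the pairs (g, α) with dg = r(α) in Ω_(B'/k), r being the canonical map B' ⊗_B Ω_(B/k) →
Ω_(B'/k). Injectivity uses that n is invertible in k. The source works with a flat proper family
over Spec D with smooth central fibre; the statement is local and is given here on an affine open. -/
theorem result (k : Type u) [Field k] [IsAlgClosed k] [CharZero k] (n : ℕ) (hn : 1 ≤ n)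
    (D : Type u) [CommRing D] [Algebra k D] (τ : D)
    (e : (k[X] ⧸ Ideal.span {(X : k[X]) ^ (n + 1)}) ≃ₐ[k] D)
    (he : e (Ideal.Quotient.mk (Ideal.span {(X : k[X]) ^ (n + 1)}) X) = τ)
    (B : Type u) [CommRing B] [Algebra k B] [Algebra D B] [IsScalarTower k D B]
    [Algebra.FiniteType k B] [Module.Flat D B]
    (t : B) (ht : t = algebraMap D B τ) (hsm : Algebra.Smooth k (B ⧸ Ideal.span {t})) :
    Function.Injective (fun f : B =>
      ((Ideal.Quotient.mk (Ideal.span {t ^ n}) f,
        (1 : (B ⧸ Ideal.span {t ^ n})) ⊗ₜ[B] KaehlerDifferential.D k B f) : (B ⧸ Ideal.span {t ^ n}) × ((B ⧸ Ideal.span {t ^ n}) ⊗[B] Ω[B⁄k]))) ∧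
    Set.range (fun f : B =>
      ((Ideal.Quotient.mk (Ideal.span {t ^ n}) f,
        (1 : (B ⧸ Ideal.span {t ^ n})) ⊗ₜ[B] KaehlerDifferential.D k B f) : (B ⧸ Ideal.span {t ^ n}) × ((B ⧸ Ideal.span {t ^ n}) ⊗[B] Ω[B⁄k]))) =
      {p | KaehlerDifferential.D k (B ⧸ Ideal.span {t ^ n}) p.1 = KaehlerDifferential.mapBaseChange k B (B ⧸ Ideal.span {t ^ n}) p.2} := by
  classical
  haveI : Algebra.FormallySmooth k (B ⧸ Ideal.span {t}) := hsm.formallySmooth
  obtain ⟨r, hr⟩ := DefSplit.exists_retraction e he ht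
  set B' := B ⧸ Ideal.span {t ^ n}
  let r' : B' ⊗[B] Ω[B⁄k] →ₗ[B'] B' := r.liftBaseChange B'
  have hr' : ∀ η, r' ((1 : B') ⊗ₜ[B] η) = r η := fun η => by simp [r']
  have ht0 := DefSplit.pow_succ_eq_zero e he ht
  let μ : B →+ B' × (B' ⊗[B] Ω[B⁄k]) :=
    { toFun := fun f => (Ideal.Quotient.mk _ f, (1 : B') ⊗ₜ[B] KaehlerDifferential.D k B f)
      map_zero' := by simp
      map_add' := fun f g => by simp [TensorProduct.tmul_add] }
  refine ⟨?_, Set.ext fun p => ⟨?_, fun hp => ?_⟩⟩
  · show Function.Injective μ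
    refine (injective_iff_map_eq_zero μ).2 fun f hf => ?_
    obtain ⟨g, rfl⟩ := Ideal.mem_span_singleton.1 (Ideal.Quotient.eq_zero_iff_mem.1 (congrArg Prod.fst hf))
    have h2 : r (KaehlerDifferential.D k B (t ^ n * g)) = 0 := by
      rw [← hr', show (1 : B') ⊗ₜ[B] KaehlerDifferential.D k B (t ^ n * g) = 0 from congrArg Prod.snd hf, map_zero]
    rw [Derivation.leibniz, Derivation.leibniz_pow, map_add, map_smul, map_smul, map_nsmul, map_smul, hr] at h2
    simp only [Algebra.smul_def, nsmul_eq_mul, mul_one, Ideal.Quotient.algebraMap_eq, eq_natCast] at h2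
    rw [Ideal.Quotient.eq_zero_iff_mem.2 (Ideal.mem_span_singleton_self (t ^ n)), zero_mul, zero_add,
      ← map_natCast (Ideal.Quotient.mk (Ideal.span {t ^ n})), ← map_mul, ← map_mul, Ideal.Quotient.eq_zero_iff_mem,
      Ideal.mem_span_singleton] at h2
    obtain ⟨y, hy⟩ := h2
    have hu : IsUnit (n : B) := by
      rw [← map_natCast (algebraMap k B)]
      exact (Ne.isUnit (Nat.cast_ne_zero.2 (by omega) : (n : k) ≠ 0)).map _
    obtain ⟨w, hw⟩ := hu
    have h3 : t ^ (n - 1) * (g - t * (↑w⁻¹ * y)) = 0 := by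
      have hn' : t ^ n = t ^ (n - 1) * t := by rw [← pow_succ, Nat.sub_add_cancel hn]
      have hy' : t ^ (n - 1) * g = ↑w⁻¹ * (t ^ n * y) := by
        rw [← hy, ← hw]
        linear_combination (-(g * t ^ (n - 1))) * (Units.inv_mul w)
      rw [mul_sub, hy', hn']
      ring
    obtain ⟨z, hz⟩ := DefSplit.dvd_of_pow_mul_eq_zero e he ht (n - 1) (by omega) _ h3
    have h4 : g = t ^ (n + 1 - (n - 1)) * z + t * (↑w⁻¹ * y) := by linear_combination hz
    rw [h4, show n + 1 - (n - 1) = 1 + 1 by omega, pow_add, pow_one]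
    linear_combination (t * z + ↑w⁻¹ * y) * ht0
  · rintro ⟨f, rfl⟩
    simp [KaehlerDifferential.mapBaseChange_tmul]
  · obtain ⟨f, hf⟩ := Ideal.Quotient.mk_surjective p.1
    have hp' : KaehlerDifferential.D k B' p.1 = KaehlerDifferential.mapBaseChange k B B' p.2 := hp
    obtain ⟨x, hx, hx'⟩ := DefSplit.exists_of_mapBaseChange_eq_zero (R := k) (Ideal.span {t ^ n})
      (p.2 - (1 : B') ⊗ₜ[B] KaehlerDifferential.D k B f) (by
        rw [map_sub, ← hp', KaehlerDifferential.mapBaseChange_tmul, one_smul, KaehlerDifferential.map_D,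
          Ideal.Quotient.algebraMap_eq, hf, sub_self])
    refine ⟨f + x, Prod.ext ?_ ?_⟩
    · show Ideal.Quotient.mk _ (f + x) = p.1
      rw [map_add, Ideal.Quotient.eq_zero_iff_mem.2 hx, add_zero, hf]
    · show (1 : B') ⊗ₜ[B] KaehlerDifferential.D k B (f + x) = p.2
      rw [map_add, TensorProduct.tmul_add, ← hx', add_sub_cancel]

end Groth.Agent.S18838
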