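import Groth.Statements.S18839
import Mathlib
import Groth.Agent.DefSplit.Basic
-- import your own Groth.Agent.* helpers here

set_option autoImplicit false
universe u
open Polynomial TensorProduct
open Deform

namespace Groth.Agent.S18839

/-- Let k be an algebraically closed field of characteristic zero, n ≥ 1, D = k[X]/(X^(n+1)) (given with
a k-algebra isomorphism e identifying the class of X with τ ∈ D), and B a finitely generated
k-algebra which is a flat D-algebra such that B/tB is smooth over k, where t is the image of τ in B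
(an affine open of a flat deformation of a smooth k-scheme over Spec D); put B' = B/t^nB. The map ν
: Ω_(B/k) → Ω_(B/D) × (B' ⊗_B Ω_(B/k)), η ↦ (η relative to D, 1 ⊗ η), is injective, and its image
consists exactly of the pairs (α, β) with the same image in Ω_(B'/D) under the canonical maps
Ω_(B/D) → Ω_(B'/D) and B' ⊗_B Ω_(B/k) → Ω_(B'/k) → Ω_(B'/D). Injectivity uses that n + 1 is
invertible in k (so that t^n dt = 0 in Ω_(B/k)). The source works with a flat proper family over
Spec D with smooth central fibre; the statement is local and is given here on an affine open. -/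
theorem result (k : Type u) [Field k] [IsAlgClosed k] [CharZero k] (n : ℕ) (hn : 1 ≤ n)
    (D : Type u) [CommRing D] [Algebra k D] (τ : D)
    (e : (k[X] ⧸ Ideal.span {(X : k[X]) ^ (n + 1)}) ≃ₐ[k] D)
    (he : e (Ideal.Quotient.mk (Ideal.span {(X : k[X]) ^ (n + 1)}) X) = τ)
    (B : Type u) [CommRing B] [Algebra k B] [Algebra D B] [IsScalarTower k D B]
    [Algebra.FiniteType k B] [Module.Flat D B]
    (t : B) (ht : t = algebraMap D B τ) (hsm : Algebra.Smooth k (B ⧸ Ideal.span {t})) :
    Function.Injective (fun η : Ω[B⁄k] =>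
      ((KaehlerDifferential.map k D B B η, (1 : (B ⧸ Ideal.span {t ^ n})) ⊗ₜ[B] η) : Ω[B⁄D] × ((B ⧸ Ideal.span {t ^ n}) ⊗[B] Ω[B⁄k]))) ∧
    Set.range (fun η : Ω[B⁄k] =>
      ((KaehlerDifferential.map k D B B η, (1 : (B ⧸ Ideal.span {t ^ n})) ⊗ₜ[B] η) : Ω[B⁄D] × ((B ⧸ Ideal.span {t ^ n}) ⊗[B] Ω[B⁄k]))) =
      {p | KaehlerDifferential.map D D B (B ⧸ Ideal.span {t ^ n}) p.1 =
        KaehlerDifferential.map k D (B ⧸ Ideal.span {t ^ n}) (B ⧸ Ideal.span {t ^ n}) (KaehlerDifferential.mapBaseChange k B (B ⧸ Ideal.span {t ^ n}) p.2)} := by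
  classical
  haveI : Algebra.FormallySmooth k (B ⧸ Ideal.span {t}) := hsm.formallySmooth
  obtain ⟨r, hr⟩ := DefSplit.exists_retraction e he ht
  set B' := B ⧸ Ideal.span {t ^ n}
  let r' : B' ⊗[B] Ω[B⁄k] →ₗ[B'] B' := r.liftBaseChange B'
  have hr' : ∀ η, r' ((1 : B') ⊗ₜ[B] η) = r η := fun η => by simp [r']
  have ht0 := DefSplit.pow_succ_eq_zero e he ht
  let ν : Ω[B⁄k] →ₗ[B] Ω[B⁄D] × (B' ⊗[B] Ω[B⁄k]) :=
    LinearMap.prod (KaehlerDifferential.map k D B B) (TensorProduct.mk B B' (Ω[B⁄k]) 1)
  have hI0 : ∀ x ∈ Ideal.span {t ^ n}, ∀ (M : Type u) [AddCommGroup M] [Module B M] (m : M),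
      (1 : B') ⊗ₜ[B] (x • m) = 0 := fun x hx M _ _ m => by
    rw [TensorProduct.tmul_smul, TensorProduct.smul_tmul', Algebra.smul_def, mul_one, Ideal.Quotient.algebraMap_eq,
      Ideal.Quotient.eq_zero_iff_mem.2 hx, TensorProduct.zero_tmul]
  have hcomp : ∀ η : Ω[B⁄k], KaehlerDifferential.map D D B B' (KaehlerDifferential.map k D B B η) =
      KaehlerDifferential.map k D B' B' (KaehlerDifferential.mapBaseChange k B B' ((1 : B') ⊗ₜ[B] η)) := by
    intro η
    have hmem : η ∈ Submodule.span B (Set.range (KaehlerDifferential.D k B)) := by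
      rw [KaehlerDifferential.span_range_derivation]; trivial
    induction hmem using Submodule.span_induction with
    | mem x hx => obtain ⟨b, rfl⟩ := hx; simp [KaehlerDifferential.mapBaseChange_tmul]
    | zero => simp
    | add x y _ _ hx hy => simp only [map_add, TensorProduct.tmul_add, hx, hy]
    | smul c x _ hx =>
      rw [map_smul, map_smul, hx, TensorProduct.tmul_smul, LinearMap.map_smul_of_tower, LinearMap.map_smul_of_tower]
  refine ⟨?_, Set.ext fun p => ⟨?_, fun hp => ?_⟩⟩
  · show Function.Injective ν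
    refine (injective_iff_map_eq_zero ν).2 fun η hη => ?_
    obtain ⟨b, rfl⟩ := DefSplit.exists_of_map_eq_zero e he ht η (congrArg Prod.fst hη)
    have h2 : r (b • KaehlerDifferential.D k B t) = 0 := by
      rw [← hr', show (1 : B') ⊗ₜ[B] (b • KaehlerDifferential.D k B t) = 0 from congrArg Prod.snd hη, map_zero]
    rw [map_smul, hr, Algebra.smul_def, mul_one, Ideal.Quotient.algebraMap_eq, Ideal.Quotient.eq_zero_iff_mem,
      Ideal.mem_span_singleton] at h2
    obtain ⟨c, rfl⟩ := h2
    have h3 : ((n + 1 : ℕ) : B) • (t ^ n • KaehlerDifferential.D k B t) = 0 := by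
      have h := congrArg (KaehlerDifferential.D k B) ht0
      rw [Derivation.leibniz_pow, map_zero, Nat.add_sub_cancel] at h
      rwa [Nat.cast_smul_eq_nsmul]
    have hu : IsUnit ((n + 1 : ℕ) : B) := by
      rw [← map_natCast (algebraMap k B)]
      exact (Ne.isUnit (Nat.cast_ne_zero.2 (by omega) : ((n + 1 : ℕ) : k) ≠ 0)).map _
    rw [mul_comm, mul_smul, (IsUnit.smul_eq_zero hu).1 h3, smul_zero]
  · rintro ⟨η, rfl⟩
    exact hcomp η
  · have hp' : KaehlerDifferential.map D D B B' p.1 =
        KaehlerDifferential.map k D B' B' (KaehlerDifferential.mapBaseChange k B B' p.2) := hp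
    obtain ⟨η₀, hη₀⟩ : ∃ η₀, (1 : B') ⊗ₜ[B] η₀ = p.2 := by
      generalize p.2 = z
      induction z using TensorProduct.induction_on with
      | zero => exact ⟨0, by simp⟩
      | tmul a m =>
        obtain ⟨a, rfl⟩ := Ideal.Quotient.mk_surjective a
        exact ⟨a • m, by rw [TensorProduct.tmul_smul, TensorProduct.smul_tmul', Algebra.smul_def, mul_one]; rfl⟩
      | add x y hx hy =>
        obtain ⟨a, rfl⟩ := hx
        obtain ⟨b, rfl⟩ := hy
        exact ⟨a + b, TensorProduct.tmul_add _ _ _⟩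
    set α := p.1 - KaehlerDifferential.map k D B B η₀ with hα
    obtain ⟨x, hx, hx'⟩ := DefSplit.exists_of_mapBaseChange_eq_zero (R := D) (Ideal.span {t ^ n})
      ((1 : B') ⊗ₜ[B] α) (by
        refine (KaehlerDifferential.mapBaseChange_tmul D B B' 1 α).trans ((one_smul B' _).trans ?_)
        rw [hα]
        refine (LinearMap.map_sub (KaehlerDifferential.map D D B B') p.1 (KaehlerDifferential.map k D B B η₀)).trans ?_
        refine sub_eq_zero.2 (hp'.trans ?_)
        rw [← hη₀]
        exact (hcomp η₀).symm)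
    obtain ⟨y, rfl⟩ := Ideal.mem_span_singleton.1 hx
    have hd0 : KaehlerDifferential.D D B (t ^ n) = 0 := by
      rw [ht, ← map_pow, Derivation.map_algebraMap]
    rw [Derivation.leibniz, hd0, smul_zero, add_zero, hI0 _ (Ideal.mem_span_singleton_self _)] at hx'
    have hmem := DefSplit.mem_smul_top_of_tmul_eq_zero (Ideal.span {t ^ n}) α hx'
    rw [Submodule.ideal_span_singleton_smul] at hmem
    obtain ⟨ω, -, hω⟩ := Set.mem_smul_set.1 hmem
    obtain ⟨ω', rfl⟩ := KaehlerDifferential.map_surjective k D B ω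
    refine ⟨η₀ + t ^ n • ω', Prod.ext ?_ ?_⟩
    · show KaehlerDifferential.map k D B B (η₀ + t ^ n • ω') = p.1
      rw [map_add, map_smul, hω, hα, add_sub_cancel]
    · show (1 : B') ⊗ₜ[B] (η₀ + t ^ n • ω') = p.2
      rw [TensorProduct.tmul_add, hI0 _ (Ideal.mem_span_singleton_self _), add_zero, hη₀]

end Groth.Agent.S18839
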