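import Groth.Statements.S1885
import Groth.Agent.GrpdBasic.InvBasicOpen

set_option autoImplicit false
universe u
open CategoryTheory CategoryTheory.Limits AlgebraicGeometry
open Grpd

namespace Groth.Agent.S1885

/-- For a groupoid scheme (U, R, s, t, c) over S whose source and target maps are finite and of finite
presentation, take u₁, …, u_m points of U such that every point in their R-orbits is generic in an
irreducible component of U; j : U → Spec A an immersion; I ⊆ A an ideal with j(U) ∩ V(I) = ∅ and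
V(I) ∪ j(U) closed. Then for some h ∈ I the preimage j⁻¹D(h) is an R-invariant affine open of U
containing u₁, …, u_m. (A groupoid scheme carries U, R, s, t, c, e, i over S with the groupoid
axioms on T-points; 'finite locally free' is finite, flat and locally of finite presentation; C ⊂
Γ(U) is the ring of functions a with s♯(a) = t♯(a) and M = Spec C.) -/
theorem result (S : Scheme.{u}) (G : Grpd.GroupoidScheme S) [IsFinite G.s] [LocallyOfFinitePresentation G.s] [IsFinite G.t] [LocallyOfFinitePresentation G.t] (m : ℕ) (u : Fin m → G.U) (hu : ∀ i (r : G.R), G.s r = u i → ∀ x : G.U, x ⤳ G.t r → x = G.t r) (A : Type u) [CommRing A] (j : G.U ⟶ Spec (CommRingCat.of A)) [IsImmersion j] (I : Ideal A) (hI : ∀ x : G.U, j x ∉ PrimeSpectrum.zeroLocus (I : Set A)) (hcl : IsClosed (PrimeSpectrum.zeroLocus (I : Set A) ∪ Set.range j)) : ∃ h ∈ I, IsAffineOpen (j ⁻¹ᵁ PrimeSpectrum.basicOpen h) ∧ (∀ i, u i ∈ j ⁻¹ᵁ PrimeSpectrum.basicOpen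 h) ∧ G.s ⁻¹ᵁ (j ⁻¹ᵁ PrimeSpectrum.basicOpen h) = G.t ⁻¹ᵁ (j ⁻¹ᵁ PrimeSpectrum.basicOpen h) := by
  classical
  let Y := Spec (CommRingCat.of A)
  let orbit : Set G.U := ⋃ i, G.t '' (G.s ⁻¹' {u i})
  have horbfin : orbit.Finite :=
    Set.finite_iUnion fun i => (G.s.finite_preimage_singleton (u i)).image _
  let T : Finset G.U := horbfin.toFinset
  have hTmem : ∀ x, x ∈ T ↔ ∃ i r, G.s r = u i ∧ G.t r = x := fun x => by
    simp [T, orbit]
  have huT : ∀ i, u i ∈ T := fun i =>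
    (hTmem _).2 ⟨i, G.e (u i), GrpdBasic.s_e G _, GrpdBasic.t_e G _⟩
  rcases T.eq_empty_or_nonempty with hTe | hTne
  · have hbot : j ⁻¹ᵁ PrimeSpectrum.basicOpen (0 : A) = ⊥ := by
      rw [PrimeSpectrum.basicOpen_zero]; rfl
    refine ⟨0, I.zero_mem, ?_, fun i => absurd (huT i) (by simp [hTe]), ?_⟩
    · rw [hbot]; exact isAffineOpen_bot G.U
    · rw [hbot]; rfl
  -- a function of `I` avoiding all orbit points
  obtain ⟨h₀, hh₀I, hh₀⟩ : ∃ h₀ ∈ I, ∀ x ∈ T, h₀ ∉ (j x).asIdeal := by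
    have hnot : ¬ ((I : Set A) ⊆ ⋃ x ∈ (↑T : Set G.U), ((j x).asIdeal : Set A)) := by
      intro hc
      obtain ⟨x, hx, hle⟩ :=
        (Ideal.subset_union_prime (s := T) (f := fun x => (j x).asIdeal) hTne.choose hTne.choose
          fun x _ _ _ => (j x).isPrime).1 hc
      exact hI x hle
    obtain ⟨f, hfI, hf⟩ := Set.not_subset.1 hnot
    exact ⟨f, hfI, fun x hx h => hf (Set.mem_biUnion hx h)⟩
  let D₀ : Y.Opens := PrimeSpectrum.basicOpen h₀
  let V₁ : G.U.Opens := j ⁻¹ᵁ D₀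
  have e0 : Y.basicOpen ((Scheme.ΓSpecIso (CommRingCat.of A)).inv h₀) = D₀ :=
    basicOpen_eq_of_affine (R := CommRingCat.of A) h₀
  have hD₀ : IsAffineOpen D₀ := e0 ▸ (isAffineOpen_top Y).basicOpen _
  have : IsAffine D₀ := hD₀
  have : IsClosedImmersion (j ∣_ D₀) := by
    refine IsClosedImmersion.of_isPreimmersion _ ?_
    have hrange : Set.range (j ∣_ D₀) =
        D₀.ι ⁻¹' (PrimeSpectrum.zeroLocus (I : Set A) ∪ Set.range j) := by
      ext x
      constructor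
      · rintro ⟨y, rfl⟩
        exact Or.inr ⟨y.1, (morphismRestrict_base_coe j D₀ y).symm⟩
      · rintro (hx | ⟨y, hy⟩)
        · exact absurd (hx hh₀I) x.2
        · have hy' : y ∈ j ⁻¹ᵁ D₀ := show j y ∈ D₀ from hy ▸ x.2
          exact ⟨⟨y, hy'⟩, Subtype.ext ((morphismRestrict_base_coe _ _ _).trans hy)⟩
    rw [hrange]
    exact hcl.preimage D₀.ι.continuous
  have hV₁ : IsAffineOpen V₁ := isAffine_of_isAffineHom (j ∣_ D₀)
  have hTV₁ : ∀ x ∈ T, x ∈ V₁ := fun x hx => hh₀ x hx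
  have horb : ∀ r : G.R, G.s r ∈ T → G.t r ∈ T := fun r hr => by
    obtain ⟨i, r', hr', e⟩ := (hTmem _).1 hr
    obtain ⟨c, hc₁, hc₂⟩ := GrpdBasic.exists_comp G r r' e.symm
    exact (hTmem _).2 ⟨i, c, hc₂.trans hr', hc₁⟩
  have hmin : ∀ x ∈ T, ∀ y : G.U, y ⤳ x → y = x := fun x hx y hy => by
    obtain ⟨i, r, hr, rfl⟩ := (hTmem _).1 hx
    exact hu i r hr y hy
  obtain ⟨W, ⟨h, rfl⟩, hTW, hinv⟩ :=
    GrpdBasic.exists_basicOpen_eq_orbitCore G V₁ hV₁ T hTV₁ hmin horb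
  -- realise it as the preimage of a basic open of `Spec A`
  obtain ⟨z, hz⟩ := (j ∣_ D₀).app_surjective ⊤ (isAffineOpen_top _) h
  have hpre : (V₁ : Scheme).basicOpen h = (j ∣_ D₀) ⁻¹ᵁ (D₀ : Scheme).basicOpen z := by
    rw [Scheme.preimage_basicOpen_top]
    exact congrArg (V₁ : Scheme).basicOpen hz.symm
  obtain ⟨f', hf'⟩ : ∃ f' : Γ(Y, ⊤), Y.basicOpen f' = D₀.ι ''ᵁ (D₀ : Scheme).basicOpen z := by
    obtain ⟨f', hf'⟩ := (isAffineOpen_top Y).basicOpen_basicOpen_is_basicOpen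
      ((Scheme.ΓSpecIso (CommRingCat.of A)).inv h₀)
      (Y.presheaf.map (eqToHom e0).op (D₀.topIso.hom z))
    refine ⟨f', ?_⟩
    rw [hf', Scheme.basicOpen_res_eq, ← D₀.ι_image_basicOpen_topIso_inv,
      ← CommRingCat.comp_apply, Iso.hom_inv_id, CommRingCat.id_apply]
  let a : A := (Scheme.ΓSpecIso (CommRingCat.of A)).hom f'
  have ha : Y.basicOpen f' = PrimeSpectrum.basicOpen a := basicOpen_eq_of_affine' f'
  have key : j ⁻¹ᵁ PrimeSpectrum.basicOpen (a * h₀) = V₁.ι ''ᵁ (V₁ : Scheme).basicOpen h := by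
    rw [hpre]
    refine (TopologicalSpace.Opens.ext ?_ : _).trans (image_morphismRestrict_preimage j D₀ _).symm
    show j ⁻¹' ((PrimeSpectrum.basicOpen (a * h₀) : TopologicalSpace.Opens (PrimeSpectrum A)) : Set (PrimeSpectrum A)) = _
    rw [PrimeSpectrum.basicOpen_mul]
    refine Set.ext fun x => ?_
    show (j x ∈ PrimeSpectrum.basicOpen a ∧ j x ∈ D₀) ↔ j x ∈ D₀.ι ''ᵁ (D₀ : Scheme).basicOpen z
    rw [← hf', ha]
    exact ⟨And.left, fun hx => ⟨hx, by
      have h2 : j x ∈ Y.basicOpen f' := ha ▸ hx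
      rw [hf'] at h2
      obtain ⟨y, -, e⟩ := h2
      exact e ▸ y.2⟩⟩
  refine ⟨a * h₀, I.mul_mem_left a hh₀I, ?_, fun i => ?_, ?_⟩
  · rw [key]
    have : IsAffine V₁ := hV₁
    exact (isAffineOpen_top (V₁ : Scheme)).basicOpen h |>.image_of_isOpenImmersion _
  · rw [key]
    exact hTW _ (huT i)
  · rw [key]
    exact hinv

end Groth.Agent.S1885
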