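import Groth.Statements.S1886
import Groth.Agent.GrpdBasic.Torsor
import Mathlib.AlgebraicGeometry.Morphisms.QuasiSeparated
import Mathlib.AlgebraicGeometry.Morphisms.Separated
-- import your own Groth.Agent.* helpers here

set_option autoImplicit false
universe u
open CategoryTheory CategoryTheory.Limits AlgebraicGeometry
open Grpd

namespace Groth.Agent.S1886

/-- Let (U, R, s, t, c) be a groupoid scheme over S with stabilizer group scheme G → U and identity
section e : U → G. Then j = (t, s) : R → U ×_S U is separated iff G → U is separated iff e is a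
closed immersion; and j is quasi-separated iff G → U is quasi-separated iff e is quasi-compact. (A
groupoid scheme carries U, R, s, t, c, e, i over S with the groupoid axioms on T-points; 'finite
locally free' is finite, flat and locally of finite presentation; C ⊂ Γ(U) is the ring of functions
a with s♯(a) = t♯(a) and M = Spec C.) -/
theorem result (S : Scheme.{u}) (G : Grpd.GroupoidScheme S) : ((IsSeparated G.j ↔ IsSeparated G.stabilizerToU) ∧ (IsSeparated G.stabilizerToU ↔ IsClosedImmersion G.eStab)) ∧ ((QuasiSeparated G.j ↔ QuasiSeparated G.stabilizerToU) ∧ (QuasiSeparated G.stabilizerToU ↔ QuasiCompact G.eStab)) := by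
  have heU : G.eStab ≫ G.stabilizerToU = 𝟙 G.U := GrpdBasic.eStab_toU G
  have hpb := GrpdBasic.isPullback_eStab G
  have : IsIso (GrpdBasic.unshear G) := ⟨GrpdBasic.shear G, GrpdBasic.unshear_shear G, GrpdBasic.shear_unshear G⟩
  have a1 : IsSeparated G.j → IsSeparated G.stabilizerToU := fun h =>
    (inferInstanceAs (IsSeparated (pullback.snd G.j G.diag)) : IsSeparated _)
  have a2 : IsSeparated G.stabilizerToU → IsClosedImmersion G.eStab := fun h => by
    have : IsClosedImmersion (G.eStab ≫ G.stabilizerToU) := heU ▸ inferInstance
    exact IsClosedImmersion.of_comp G.eStab G.stabilizerToU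
  have a3 : IsClosedImmersion G.eStab → IsSeparated G.j := fun h => by
    have h' := MorphismProperty.of_isPullback (P := @IsClosedImmersion.{u}) hpb h
    exact ⟨(MorphismProperty.cancel_right_of_respectsIso (P := @IsClosedImmersion.{u})
      (pullback.diagonal G.j) (GrpdBasic.unshear G)).1 h'⟩
  have b1 : QuasiSeparated G.j → QuasiSeparated G.stabilizerToU := fun h =>
    (inferInstanceAs (QuasiSeparated (pullback.snd G.j G.diag)) : QuasiSeparated _)
  have b2 : QuasiSeparated G.stabilizerToU → QuasiCompact G.eStab := fun h => by
    have : QuasiCompact (G.eStab ≫ G.stabilizerToU) := heU ▸ inferInstance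
    exact QuasiCompact.of_comp G.eStab G.stabilizerToU
  have b3 : QuasiCompact G.eStab → QuasiSeparated G.j := fun h => by
    have h' := MorphismProperty.of_isPullback (P := @QuasiCompact.{u}) hpb h
    have : MorphismProperty.RespectsIso @QuasiCompact.{u} := MorphismProperty.IsStableUnderBaseChange.respectsIso
    exact ⟨(MorphismProperty.cancel_right_of_respectsIso (P := @QuasiCompact.{u})
      (pullback.diagonal G.j) (GrpdBasic.unshear G)).1 h'⟩
  exact ⟨⟨⟨a1, fun h => a3 (a2 h)⟩, ⟨a2, fun h => a1 (a3 h)⟩⟩,
    ⟨⟨b1, fun h => b3 (b2 h)⟩, ⟨b2, fun h => b1 (b3 h)⟩⟩⟩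

end Groth.Agent.S1886
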