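import Groth.Statements.S18861
import Mathlib
-- import your own Groth.Agent.* helpers here

set_option autoImplicit false
universe u
open CategoryTheory MonoidalCategory CartesianMonoidalCategory MonObj GrpObj AlgebraicGeometry
open AlgGrp

namespace Groth.Agent.S18861

/-- Let S be a scheme and G a group scheme over S acting on an S-scheme X, with action morphism G ×_S X
→ X. If G → S is surjective, resp. flat, resp. affine, resp. proper, resp. finite, resp. smooth,
then so is the action morphism. (The source works over a field, where G → S is automatically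
faithfully flat, with G and X of finite type, and concludes that the action morphism is faithfully
flat, and smooth, affine, proper or finite when G is; the base and the finiteness conditions play no
role.) -/
theorem result {S : Scheme.{u}} {G X : Over S} [GrpObj G]
    (a : AlgGrp.Action G X) :
    (Surjective G.hom → Surjective a.act.left) ∧ (Flat G.hom → Flat a.act.left) ∧
      (IsAffineHom G.hom → IsAffineHom a.act.left) ∧ (IsProper G.hom → IsProper a.act.left) ∧
      (IsFinite G.hom → IsFinite a.act.left) ∧ (Smooth G.hom → Smooth a.act.left) := by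
  have hmul : ∀ {T : Over S} (g h : T ⟶ G) (x : T ⟶ X),
      lift g (lift h x ≫ a.act) ≫ a.act = lift (g * h) x ≫ a.act := by
    intro T g h x
    have := lift (lift g h) x ≫= a.mul_act
    rw [← Category.assoc, lift_whiskerRight] at this
    rw [← Category.assoc, lift_lift_associator_hom, ← Category.assoc, lift_whiskerLeft] at this
    rw [Hom.mul_def]
    exact this.symm
  have hone : ∀ {T : Over S} (x : T ⟶ X), lift (1 : T ⟶ G) x ≫ a.act = x := by
    intro T x
    have := lift (toUnit T) x ≫= a.one_act
    rw [← Category.assoc, lift_whiskerRight] at this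
    rw [Hom.one_def, this]
    simp
  let φ : G ⊗ X ⟶ G ⊗ X := lift (fst G X) a.act
  let ψ : G ⊗ X ⟶ G ⊗ X := lift (fst G X) (lift (fst G X)⁻¹ (snd G X) ≫ a.act)
  have hinvcomp : ∀ {T : Over S} (f : T ⟶ G ⊗ X) (g : G ⊗ X ⟶ G), f ≫ g⁻¹ = (f ≫ g)⁻¹ := by
    intro T f g
    exact GrpObj.comp_inv f g
  have h1 : φ ≫ ψ = 𝟙 _ := by
    apply CartesianMonoidalCategory.hom_ext
    · simp [φ, ψ]
    · simp only [φ, ψ, Category.assoc, Category.id_comp, lift_snd, comp_lift_assoc, hinvcomp, lift_fst]
      have : a.act = lift (fst G X) (snd G X) ≫ a.act := by simp [lift_fst_snd]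
      conv_lhs => arg 1; arg 2; rw [this]
      rw [hmul, inv_mul_cancel, hone]
  have h2 : ψ ≫ φ = 𝟙 _ := by
    apply CartesianMonoidalCategory.hom_ext
    · simp [φ, ψ]
    · simp only [φ, ψ, Category.assoc, Category.id_comp, lift_snd]
      rw [hmul, mul_inv_cancel, hone]
  have hfac : a.act = φ ≫ snd G X := by simp [φ]
  have : IsIso φ := ⟨⟨ψ, h1, h2⟩⟩
  have : IsIso φ.left := (Over.forget S).map_isIso φ
  have key : ∀ (P : MorphismProperty Scheme.{u}) [P.RespectsIso] [P.IsStableUnderBaseChange],
      P G.hom → P a.act.left := by
    intro P _ _ h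
    rw [hfac, Over.comp_left, MorphismProperty.cancel_left_of_respectsIso P, Over.snd_left]
    exact MorphismProperty.pullback_snd _ _ h
  exact ⟨key @Surjective, key @Flat, key @IsAffineHom, key @IsProper, key @IsFinite, key @Smooth⟩

end Groth.Agent.S18861
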