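import Groth.Statements.S18864
import Groth.Agent.ComodBasic.Basic
import Mathlib.RingTheory.Flat.Basic


set_option autoImplicit false
universe u v w
open HopfRep

namespace Groth.Agent.S18864

/-- Let k be a field and G = lim G_i a pro-algebraic group scheme over k, so that G = Spec A with A the
direct limit of the Hopf algebras A_i of the affine group schemes G_i of finite type; assume
moreover that the maps A_i → A are injective, so that A is the directed union of the A_i, here given
as injective bialgebra maps A_i → A with directed, jointly covering images. Then every homomorphism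
from G to an affine group scheme H = Spec B of finite type over k factors through some projection G
→ G_i: every bialgebra map f : B → A with B finitely generated as a k-algebra is the composite of
A_i → A with a bialgebra map B → A_i for some i. (The published statement allows arbitrary
transition maps in the system; this row assumes each A_i → A injective, the case the printed
argument treats. The source also states the pro-finite variant with H finite, which is the case of
finite-dimensional A_i and B; finite generation of the A_i is not used.) -/
theorem result (k : Type u) [Field k]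
    (A : Type v) [CommRing A] [HopfAlgebra k A] {ι : Type v} (Aι : ι → Type v)
    [∀ i, CommRing (Aι i)] [∀ i, HopfAlgebra k (Aι i)] (emb : ∀ i, Aι i →ₐc[k] A)
    (hinj : ∀ i, Function.Injective (emb i))
    (hdir : ∀ i j, ∃ l, Set.range (emb i) ⊆ Set.range (emb l) ∧ Set.range (emb j) ⊆ Set.range (emb l))
    (hcov : ∀ a : A, ∃ i, a ∈ Set.range (emb i))
    (B : Type w) [CommRing B] [HopfAlgebra k B] [Algebra.FiniteType k B] (f : B →ₐc[k] A) :
    ∃ (i : ι) (g : B →ₐc[k] Aι i), (emb i).comp g = f := by
  open TensorProduct CoalgebraStruct in
  exact (by
    classical
    obtain ⟨s, hs⟩ := (Algebra.FiniteType.out : (⊤ : Subalgebra k B).FG)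
    have hfin : ∀ t : Finset B, ∃ l, ∀ x ∈ t, f x ∈ Set.range (emb l) := by
      intro t
      induction t using Finset.induction_on with
      | empty => exact ⟨(hcov 0).choose, by simp⟩
      | insert a t _ ih =>
        obtain ⟨l, hl⟩ := ih
        obtain ⟨i, hi⟩ := hcov (f a)
        obtain ⟨m, h1, h2⟩ := hdir i l
        refine ⟨m, fun x hx => ?_⟩
        rcases Finset.mem_insert.1 hx with rfl | hx
        · exact h1 hi
        · exact h2 (hl x hx)
    obtain ⟨i, hi⟩ := hfin s
    let E : Aι i →ₐ[k] A := (emb i : Aι i →ₐ[k] A)
    have hle : ∀ b, (f : B →ₐ[k] A) b ∈ E.range := by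
      have h : (⊤ : Subalgebra k B) ≤ E.range.comap (f : B →ₐ[k] A) := by
        rw [← hs]; exact Algebra.adjoin_le fun x hx => hi x hx
      exact fun b => h trivial
    let g : B →ₐ[k] Aι i := ((AlgEquiv.ofInjective E (hinj i)).symm.toAlgHom).comp
      ((f : B →ₐ[k] A).codRestrict E.range hle)
    have hg : ∀ b, E (g b) = f b := fun b =>
      congrArg Subtype.val ((AlgEquiv.ofInjective E (hinj i)).apply_symm_apply _)
    refine ⟨i, BialgHom.ofAlgHom g ?_ ?_, BialgHom.ext hg⟩
    · refine AlgHom.ext fun b => ?_
      show counit (R := k) (g b) = counit (R := k) b
      rw [← CoalgHomClass.counit_comp_apply (emb i), show emb i (g b) = f b from hg b,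
        CoalgHomClass.counit_comp_apply f]
    · refine AlgHom.ext fun b => ?_
      have hi2 : Function.Injective (TensorProduct.map E.toLinearMap E.toLinearMap) :=
        TensorProduct.map_injective_of_flat_flat _ _ (hinj i) (hinj i)
      refine hi2 ?_
      show TensorProduct.map E.toLinearMap E.toLinearMap (Algebra.TensorProduct.map g g (comul (R := k) b)) =
        TensorProduct.map E.toLinearMap E.toLinearMap (comul (R := k) (g b))
      have h2 := CoalgHomClass.map_comp_comul_apply (emb i) (g b)
      rw [show emb i (g b) = f b from hg b, ← CoalgHomClass.map_comp_comul_apply f] at h2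
      refine Eq.trans ?_ h2.symm
      generalize comul (R := k) b = z
      induction z using TensorProduct.induction_on with
      | zero => simp
      | add p q hp hq => simp only [map_add, hp, hq]
      | tmul p q =>
        simp only [Algebra.TensorProduct.map_tmul, TensorProduct.map_tmul, AlgHom.toLinearMap_apply, hg]
        rfl)

end Groth.Agent.S18864
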