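import Groth.Statements.S18868
import Groth.Agent.GorLib.CompleteIntersection
-- import your own Groth.Agent.* helpers here

set_option autoImplicit false
universe u
open Liaison

namespace Groth.Agent.S18868

/-- Let K be a field, R = K[x_0, …, x_n] graded by degree, c ≥ 2, 𝔠 ⊂ R a homogeneous complete
intersection of codimension c, that is a homogeneous ideal of height c generated by c elements g_1,
…, g_c, and I ⊂ R a homogeneous ideal of height c with R/I Cohen–Macaulay which properly contains 𝔠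
and has the form I = 𝔠 + fR for some f (so I is an almost complete intersection). Then the linked
ideal J = 𝔠 : I has height c and R/J is a Gorenstein ring. (A Gorenstein ideal of the notes, one
whose quotient is Cohen–Macaulay with last graded Betti number 1, is rendered as: the quotient ring
is Gorenstein.) -/
theorem result (K : Type u) [Field K] (n c : ℕ) (hc : 2 ≤ c)
    (g : Fin c → MvPolynomial (Fin (n + 1)) K) (f : MvPolynomial (Fin (n + 1)) K) (𝔠 I : Ideal (MvPolynomial (Fin (n + 1)) K)) (h𝔠g : Ideal.span (Set.range g) = 𝔠)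
    (h𝔠 : 𝔠.IsHomogeneous (GrSyz.stdGr K (Fin (n + 1)))) (hI : I.IsHomogeneous (GrSyz.stdGr K (Fin (n + 1))))
    (h𝔠c : 𝔠.height = c) (hIc : I.height = c) [LocCoh.IsCohenMacaulayRing (MvPolynomial (Fin (n + 1)) K ⧸ I)]
    (hlt : 𝔠 < I) (hIf : I = 𝔠 ⊔ Ideal.span {f}) :
    (𝔠.colon (I : Set (MvPolynomial (Fin (n + 1)) K))).height = c ∧
      LocCoh.IsGorensteinRing (MvPolynomial (Fin (n + 1)) K ⧸ 𝔠.colon (I : Set (MvPolynomial (Fin (n + 1)) K))) := by
  haveI : IsRegularRing (MvPolynomial (Fin (n + 1)) K) :=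
    haveI := DepthLib.CMPoly.isRegularRing_field K
    inferInstance
  haveI : LocCoh.IsGorensteinRing (MvPolynomial (Fin (n + 1)) K ⧸ 𝔠) := by
    subst h𝔠g
    exact GorLib.isGorensteinRing_quotient_span_range g h𝔠c
  haveI : LocCoh.IsCohenMacaulayRing (MvPolynomial (Fin (n + 1)) K ⧸ 𝔠) :=
    GrLinkage.isCohenMacaulayRing_of_gorenstein _
  obtain ⟨hh, hu⟩ := GrLinkage.colon_unmixed h𝔠 (not_le_of_gt hlt)
  refine ⟨hh.trans h𝔠c, ?_⟩
  have hht : I.height = 𝔠.height := hIc.trans h𝔠c.symm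
  let S := MvPolynomial (Fin (n + 1)) K
  let q := Ideal.Quotient.mk 𝔠
  let J : Ideal S := 𝔠.colon (I : Set S)
  have hcJ : 𝔠 ≤ J := Ideal.le_colon
  haveI : LocCoh.IsCohenMacaulayRing (S ⧸ J) := GorLib.isCohenMacaulayRing_quotient_colon h𝔠 hI hlt.le hht
  let eJ : ((S ⧸ 𝔠) ⧸ J.map q) ≃+* (S ⧸ J) := DoubleQuot.quotQuotEquivQuotOfLE hcJ
  haveI : LocCoh.IsCohenMacaulayRing ((S ⧸ 𝔠) ⧸ J.map q) :=
    Catenary.isCohenMacaulayRing_of_ringEquiv (A := S ⧸ J) (B := (S ⧸ 𝔠) ⧸ J.map q) eJ.symm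
  have hII : 𝔠.colon ((J : Ideal S) : Set S) = I := GrLinkage.colon_colon_eq
    (fun p hp => (GrLinkage.height_eq_of_mem_associatedPrimes hI hp).trans hht) hlt.le
  have hann : Submodule.annihilator (J.map q) = Ideal.span {q f} := by
    rw [← Ideal.map_comap_of_surjective q Ideal.Quotient.mk_surjective (Submodule.annihilator (J.map q)),
      GorLib.annihilator_map_mk, hII, hIf, Ideal.map_sup, Ideal.map_quotient_self, bot_sup_eq, Ideal.map_span,
      Set.image_singleton]
  haveI := GorLib.isGorensteinRing_of_annihilator_eq_span (J.map q) (fun P _ hP =>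
    GorLib.height_map_eq hcJ (fun Q hQ => hu Q (GrLinkage.mem_associatedPrimes_of_mem_minimalPrimes hQ))
      (fun Q hQ => GrLinkage.height_eq_of_mem_associatedPrimes h𝔠
        (GrLinkage.mem_associatedPrimes_of_mem_minimalPrimes hQ)) P hP) hann
  exact SegreOne.isGorensteinRing_of_ringEquiv (A := (S ⧸ 𝔠) ⧸ J.map q) (B := S ⧸ J) eJ

end Groth.Agent.S18868
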