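import Groth.Statements.S18869
import Groth.Agent.GorLib.LinkageGorRing
-- import your own Groth.Agent.* helpers here

set_option autoImplicit false
universe u
open Liaison

namespace Groth.Agent.S18869

/-- Let K be a field, R = K[x_0, …, x_n] graded by degree, and I₁, I₂ ⊂ R homogeneous ideals of the same
height c such that R/I₁ and R/I₂ are Cohen–Macaulay rings (they define arithmetically Cohen–Macaulay
subschemes of codimension c) and I₁, I₂ have no minimal prime in common (no common component). If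
R/(I₁ ∩ I₂) is a Gorenstein ring (the union is arithmetically Gorenstein), then I₁ + I₂ has height c
+ 1 and R/(I₁ + I₂) is a Gorenstein ring (the intersection is arithmetically Gorenstein of
codimension c + 1). (Arithmetically Gorenstein, in the notes arithmetically Cohen–Macaulay with last
graded Betti number 1, is rendered as: the quotient ring is Gorenstein.) -/
theorem result (K : Type u) [Field K] (n c : ℕ)
    (I₁ I₂ : Ideal (MvPolynomial (Fin (n + 1)) K))
    (hI₁ : I₁.IsHomogeneous (GrSyz.stdGr K (Fin (n + 1)))) (hI₂ : I₂.IsHomogeneous (GrSyz.stdGr K (Fin (n + 1))))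
    [LocCoh.IsCohenMacaulayRing (MvPolynomial (Fin (n + 1)) K ⧸ I₁)] [LocCoh.IsCohenMacaulayRing (MvPolynomial (Fin (n + 1)) K ⧸ I₂)]
    (h₁ : I₁.height = c) (h₂ : I₂.height = c) (hdisj : Disjoint I₁.minimalPrimes I₂.minimalPrimes)
    [LocCoh.IsGorensteinRing (MvPolynomial (Fin (n + 1)) K ⧸ (I₁ ⊓ I₂))] :
    (I₁ ⊔ I₂).height = c + 1 ∧ LocCoh.IsGorensteinRing (MvPolynomial (Fin (n + 1)) K ⧸ (I₁ ⊔ I₂)) := by
  let S := MvPolynomial (Fin (n + 1)) K
  let c0 : Ideal S := I₁ ⊓ I₂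
  let q := Ideal.Quotient.mk c0
  let K0 : Ideal S := I₁ ⊔ I₂
  haveI : LocCoh.IsCohenMacaulayRing (S ⧸ c0) := GrLinkage.isCohenMacaulayRing_of_gorenstein _
  haveI : LocCoh.IsCohenMacaulayRing ((S ⧸ c0) ⧸ I₁.map q) :=
    Catenary.isCohenMacaulayRing_of_ringEquiv (A := S ⧸ I₁) (B := (S ⧸ c0) ⧸ I₁.map q)
      (DoubleQuot.quotQuotEquivQuotOfLE (inf_le_left : c0 ≤ I₁)).symm
  haveI : LocCoh.IsCohenMacaulayRing ((S ⧸ c0) ⧸ I₂.map q) :=
    Catenary.isCohenMacaulayRing_of_ringEquiv (A := S ⧸ I₂) (B := (S ⧸ c0) ⧸ I₂.map q)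
      (DoubleQuot.quotQuotEquivQuotOfLE (inf_le_right : c0 ≤ I₂)).symm
  have u₁ : ∀ Q ∈ I₁.minimalPrimes, Q.height = c := fun Q hQ =>
    (GrLinkage.height_eq_of_mem_associatedPrimes hI₁ (GrLinkage.mem_associatedPrimes_of_mem_minimalPrimes hQ)).trans h₁
  have u₂ : ∀ Q ∈ I₂.minimalPrimes, Q.height = c := fun Q hQ =>
    (GrLinkage.height_eq_of_mem_associatedPrimes hI₂ (GrLinkage.mem_associatedPrimes_of_mem_minimalPrimes hQ)).trans h₂
  have hcases : ∀ Q ∈ c0.minimalPrimes, Q ∈ I₁.minimalPrimes ∨ Q ∈ I₂.minimalPrimes := fun Q hQ => by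
    haveI := hQ.isPrime
    rcases (Ideal.IsPrime.inf_le ‹Q.IsPrime›).1 hQ.le with h | h
    · exact Or.inl ⟨⟨hQ.isPrime, h⟩, fun Q' hQ' hle => hQ.2 ⟨hQ'.1, inf_le_left.trans hQ'.2⟩ hle⟩
    · exact Or.inr ⟨⟨hQ.isPrime, h⟩, fun Q' hQ' hle => hQ.2 ⟨hQ'.1, inf_le_right.trans hQ'.2⟩ hle⟩
  have u₀ : ∀ Q ∈ c0.minimalPrimes, Q.height = c := fun Q hQ => (hcases Q hQ).elim (u₁ Q) (u₂ Q)
  have hbot : I₁.map q ⊓ I₂.map q = ⊥ := by
    rw [eq_bot_iff]
    rintro x ⟨hx1, hx2⟩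
    obtain ⟨x, rfl⟩ := Ideal.Quotient.mk_surjective x
    exact Ideal.Quotient.eq_zero_iff_mem.2 ⟨(Ideal.mem_quotient_iff_mem inf_le_left).1 hx1,
      (Ideal.mem_quotient_iff_mem inf_le_right).1 hx2⟩
  haveI : LocCoh.IsCohenMacaulayRing K :=
    haveI := DepthLib.CMPoly.isRegularRing_field K
    Catenary.isCohenMacaulayRing_of_isRegularRing K
  haveI := Catenary.isCohenMacaulayRing_mvPolynomial K (n + 1)
  have hQP : ∀ (P : Ideal (S ⧸ c0)) [P.IsPrime], ∃ Q ∈ c0.minimalPrimes, Q ≤ P.comap q ∧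
      ((P.comap q).height : WithBot ℕ∞) = ((c : ℕ∞) : WithBot ℕ∞) + P.height := fun P _ => by
    haveI : (P.comap q).IsPrime := Ideal.IsPrime.comap _
    obtain ⟨Q, hQ, hle⟩ := Ideal.exists_minimalPrimes_le
      (show c0 ≤ P.comap q from Ideal.mk_ker.symm.trans_le (Ideal.comap_mono bot_le))
    refine ⟨Q, hQ, hle, ?_⟩
    rw [GrLinkage.height_eq_add hQ hle P (Ideal.map_comap_of_surjective _ Ideal.Quotient.mk_surjective _).symm,
      u₀ Q hQ]
  have hmin : ∀ (P : Ideal (S ⧸ c0)) [P.IsPrime], P.height = 0 → ¬ I₁.map q ⊔ I₂.map q ≤ P := fun P _ h0 hle => by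
    haveI : (P.comap q).IsPrime := Ideal.IsPrime.comap _
    obtain ⟨Q, -, -, hh⟩ := hQP P
    rw [h0] at hh
    have hh' : (P.comap q).height = (c : ℕ∞) := WithBot.coe_injective (hh.trans (add_zero _))
    have e₁ := GrLinkage.mem_minimalPrimes_of_height_eq (Ideal.map_le_iff_le_comap.1 (le_sup_left.trans hle))
      (hh'.trans h₁.symm)
    have e₂ := GrLinkage.mem_minimalPrimes_of_height_eq (Ideal.map_le_iff_le_comap.1 (le_sup_right.trans hle))
      (hh'.trans h₂.symm)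
    exact Set.disjoint_left.1 hdisj e₁ e₂
  have key := GorLib.gorenstein_atPrime_sup (I₁.map q) (I₂.map q) hbot
    (fun P _ hP => GorLib.height_map_eq inf_le_left u₁ u₀ P hP)
    (fun P _ hP => GorLib.height_map_eq inf_le_right u₂ u₀ P hP) hmin
  haveI : LocCoh.IsGorensteinRing ((S ⧸ c0) ⧸ (I₁.map q ⊔ I₂.map q)) :=
    { isGorensteinLocalRing_localization := fun P' _ => (key P').1 }
  let eK : ((S ⧸ c0) ⧸ (I₁.map q ⊔ I₂.map q)) ≃+* (S ⧸ K0) :=
    (Ideal.quotEquivOfEq (Ideal.map_sup q I₁ I₂).symm).trans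
      (DoubleQuot.quotQuotEquivQuotOfLE (inf_le_left.trans le_sup_left : c0 ≤ K0))
  refine ⟨?_, SegreOne.isGorensteinRing_of_ringEquiv (A := (S ⧸ c0) ⧸ (I₁.map q ⊔ I₂.map q)) (B := S ⧸ K0) eK⟩
  have hfin : ∀ (I : Ideal S), I.height = (c : ℕ∞) → I ≠ ⊤ := fun I h e => by
    rw [e, Ideal.height_top] at h
    exact ENat.top_ne_coe c h
  have hK : K0 ≤ RingHom.ker (MvPolynomial.constantCoeff (R := K) (σ := Fin (n + 1))) :=
    sup_le (GrLinkage.le_vertex hI₁ (hfin _ h₁)) (GrLinkage.le_vertex hI₂ (hfin _ h₂))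
  haveI : (RingHom.ker (MvPolynomial.constantCoeff (R := K) (σ := Fin (n + 1)))).IsPrime := RingHom.ker_isPrime _
  have hall : ∀ T ∈ K0.minimalPrimes, T.height = (c : ℕ∞) + 1 := fun T hT => by
    haveI := hT.isPrime
    have hc0T : c0 ≤ T := (inf_le_left.trans le_sup_left).trans hT.le
    let P : Ideal (S ⧸ c0) := T.map q
    haveI : P.IsPrime := Ideal.map_isPrime_of_surjective Ideal.Quotient.mk_surjective (by rwa [Ideal.mk_ker])
    have hPT : P.comap q = T := Ideal.ext fun x => Ideal.mem_quotient_iff_mem hc0T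
    have hKP : I₁.map q ⊔ I₂.map q ≤ P := (Ideal.map_sup q I₁ I₂).symm.trans_le (Ideal.map_mono hT.le)
    let P' := P.map (Ideal.Quotient.mk (I₁.map q ⊔ I₂.map q))
    haveI : P'.IsPrime := Ideal.map_isPrime_of_surjective Ideal.Quotient.mk_surjective (by rwa [Ideal.mk_ker])
    have hk := (key P').2
    rw [show P'.comap (Ideal.Quotient.mk _) = P from Ideal.ext fun x => Ideal.mem_quotient_iff_mem hKP] at hk
    have h0 : Ideal.height (R := (S ⧸ c0) ⧸ (I₁.map q ⊔ I₂.map q)) P' = 0 := by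
      refine Ideal.height_eq_zero_iff.2 ⟨⟨inferInstance, bot_le⟩, fun Q' hQ' hle => ?_⟩
      haveI := hQ'.1
      let Q : Ideal S := (Q'.comap (Ideal.Quotient.mk _)).comap q
      have h1 : K0 ≤ Q := sup_le
        (fun x hx => by
          show Ideal.Quotient.mk _ (q x) ∈ Q'
          rw [Ideal.Quotient.eq_zero_iff_mem.2 (Submodule.mem_sup_left (Ideal.mem_map_of_mem q hx))]
          exact zero_mem _)
        (fun x hx => by
          show Ideal.Quotient.mk _ (q x) ∈ Q'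
          rw [Ideal.Quotient.eq_zero_iff_mem.2 (Submodule.mem_sup_right (Ideal.mem_map_of_mem q hx))]
          exact zero_mem _)
      have h2 : Q ≤ T := fun x hx => (Ideal.mem_quotient_iff_mem hc0T).1 ((Ideal.mem_quotient_iff_mem hKP).1 (hle hx))
      have h3 := hT.2 ⟨(Ideal.IsPrime.comap _), h1⟩ h2
      intro y hy
      obtain ⟨y, rfl⟩ := Ideal.Quotient.mk_surjective y
      obtain ⟨x, rfl⟩ := Ideal.Quotient.mk_surjective y
      exact h3 ((Ideal.mem_quotient_iff_mem hc0T).1 ((Ideal.mem_quotient_iff_mem hKP).1 hy))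
    rw [h0, zero_add] at hk
    obtain ⟨-, -, -, hh⟩ := hQP P
    rw [hPT, ← hk] at hh
    exact_mod_cast hh
  rw [Ideal.height_eq_inf_minimalPrimes]
  refine le_antisymm ?_ (le_iInf₂ fun T hT => (hall T hT).ge)
  obtain ⟨T, hT, -⟩ := Ideal.exists_minimalPrimes_le hK
  exact (iInf₂_le T hT).trans (hall T hT).le

end Groth.Agent.S18869
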