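import Groth.Statements.S1888
import Groth.Agent.GrpdBasic.Basic
import Mathlib.AlgebraicGeometry.ResidueField
-- import your own Groth.Agent.* helpers here

set_option autoImplicit false
universe u
open CategoryTheory CategoryTheory.Limits AlgebraicGeometry
open Grpd

namespace Groth.Agent.S1888

theorem isIso_fromSpec (k : Type u) [Field k] (x : ↥(Spec (CommRingCat.of k))) :
    IsIso ((Spec (CommRingCat.of k)).fromSpecResidueField x) := by
  haveI : x.asIdeal.IsPrime := PrimeSpectrum.isPrime x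
  rw [← Scheme.Spec.map_residueFieldIso_inv_eq_fromSpecResidueField]
  have : IsIso (CommRingCat.ofHom (algebraMap k x.asIdeal.ResidueField)) := by
    rw [ConcreteCategory.isIso_iff_bijective]
    refine ⟨(algebraMap k x.asIdeal.ResidueField).injective, ?_⟩
    haveI : x.asIdeal.IsMaximal := by
      rcases Ideal.eq_bot_or_top x.asIdeal with h | h
      · rw [h]; exact Ideal.bot_isMaximal
      · exact absurd h (Ideal.IsPrime.ne_top ‹_›)
    exact x.asIdeal.algebraMap_residueField_surjective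
  infer_instance


/-- Let (U, R, s, t, c) be a groupoid scheme over S with U the spectrum of a field k, and r a point of R
such that both s and t induce isomorphisms from k to κ(r). Then there is an automorphism of the
scheme R carrying the identity point e to r. (The source's automorphism is x ↦ c(r, x); only the
existence of an automorphism moving e to r is stated here.) (A groupoid scheme carries U, R, s, t,
c, e, i over S with the groupoid axioms on T-points; 'finite locally free' is finite, flat and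
locally of finite presentation; C ⊂ Γ(U) is the ring of functions a with s♯(a) = t♯(a) and M = Spec
C.) -/
theorem result (S : Scheme.{u}) (G : Grpd.GroupoidScheme S) (k : Type u) [Field k] (eU : G.U ≅ Spec (CommRingCat.of k)) (r : G.R) (hs : IsIso (G.s.residueFieldMap r)) (ht : IsIso (G.t.residueFieldMap r)) : ∃ φ : G.R ≅ G.R, φ.hom (G.e (eU.inv (IsLocalRing.closedPoint k))) = r := by
  have hU : ∀ x : G.U, IsIso (G.U.fromSpecResidueField x) := by
    intro x
    have h1 := eU.hom.SpecMap_residueFieldMap_fromSpecResidueField x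
    have h2 : IsIso ((Spec (CommRingCat.of k)).fromSpecResidueField (eU.hom x)) :=
      isIso_fromSpec k (eU.hom x)
    have : IsIso (G.U.fromSpecResidueField x ≫ eU.hom) := h1 ▸ inferInstance
    exact IsIso.of_isIso_comp_right _ eU.hom
  have := hU (G.s r)
  have := hU (G.t r)
  have hs' : IsIso (G.R.fromSpecResidueField r ≫ G.s) := by
    rw [← Scheme.Hom.SpecMap_residueFieldMap_fromSpecResidueField]; infer_instance
  have ht' : IsIso (G.R.fromSpecResidueField r ≫ G.t) := by
    rw [← Scheme.Hom.SpecMap_residueFieldMap_fromSpecResidueField]; infer_instance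
  obtain ⟨ρ, hρs, hρt, hρr⟩ : ∃ ρ : G.U ⟶ G.R, ρ ≫ G.s = 𝟙 _ ∧ IsIso (ρ ≫ G.t) ∧ ∀ x, ρ x = r := by
    refine ⟨inv (G.R.fromSpecResidueField r ≫ G.s) ≫ G.R.fromSpecResidueField r, ?_, ?_, fun x => ?_⟩
    · rw [Category.assoc, IsIso.inv_hom_id]
    · rw [Category.assoc]; infer_instance
    · rw [Scheme.Hom.comp_apply]; exact Scheme.fromSpecResidueField_apply _ _
  obtain ⟨σ, hσ, hσ'⟩ : ∃ σ : G.U ⟶ G.U, σ ≫ ρ ≫ G.t = 𝟙 _ ∧ (ρ ≫ G.t) ≫ σ = 𝟙 _ :=
    ⟨inv (ρ ≫ G.t), IsIso.inv_hom_id _, IsIso.hom_inv_id _⟩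
  have ha : (G.t ≫ ρ) ≫ G.s = 𝟙 G.R ≫ G.t := by
    rw [Category.assoc, hρs, Category.comp_id, Category.id_comp]
  have hbt : ((G.t ≫ σ) ≫ ρ) ≫ G.t = G.t := by
    rw [Category.assoc, Category.assoc, hσ, Category.comp_id]
  have hb : (((G.t ≫ σ) ≫ ρ) ≫ G.i) ≫ G.s = 𝟙 G.R ≫ G.t := by
    rw [Category.assoc _ G.i G.s, G.i_s, hbt, Category.id_comp]
  refine ⟨⟨GrpdBasic.mul G (G.t ≫ ρ) (𝟙 _) ha, GrpdBasic.mul G (((G.t ≫ σ) ≫ ρ) ≫ G.i) (𝟙 _) hb,
    ?_, ?_⟩, ?_⟩
  · rw [GrpdBasic.comp_mul]
    refine (GrpdBasic.mul_congr G (α' := (G.t ≫ ρ) ≫ G.i) ?_ (Category.comp_id _) _).trans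
      (GrpdBasic.mul_inv_cancel_left G (G.t ≫ ρ) (𝟙 _) ha)
    rw [← Category.assoc, ← Category.assoc, ← Category.assoc, GrpdBasic.mul_t,
      Category.assoc G.t ρ G.t, Category.assoc G.t (ρ ≫ G.t) σ, hσ', Category.comp_id]
  · rw [GrpdBasic.comp_mul]
    refine (GrpdBasic.mul_congr G (α' := (G.t ≫ σ) ≫ ρ) ?_ (Category.comp_id _) _).trans ?_
    · rw [← Category.assoc, GrpdBasic.mul_t, Category.assoc _ G.i G.t, G.i_t,
        Category.assoc (G.t ≫ σ) ρ G.s, hρs, Category.comp_id]
    · refine (GrpdBasic.mul_assoc G _ _ (𝟙 _) (by rw [Category.assoc _ G.i G.t, G.i_t]) hb).symm.trans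
        (GrpdBasic.one_mul G (𝟙 _) _ ?_ _)
      rw [GrpdBasic.mul_inv, ← Category.assoc, hbt, Category.id_comp]
  · have hpt : G.e ≫ GrpdBasic.mul G (G.t ≫ ρ) (𝟙 _) ha = ρ := by
      rw [GrpdBasic.comp_mul]
      refine (GrpdBasic.mul_congr G (α' := ρ) (β' := G.e) ?_ (Category.comp_id _) _).trans
        (GrpdBasic.mul_one G _ _ ?_ _)
      · rw [← Category.assoc, G.e_t, Category.id_comp]
      · rw [← Category.assoc, hρs, Category.id_comp]
    rw [← Scheme.Hom.comp_apply, hpt]
    exact hρr _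

end Groth.Agent.S1888
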