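import Groth.Statements.S18884
import Mathlib
set_option linter.style.haveILetI false

set_option autoImplicit false
universe v u w
open CategoryTheory CategoryTheory.Limits
open Desc

namespace Groth.Agent.S18884

section
variable {C : Type u} [Category.{v} C] [HasPullbacks C] {W : MorphismProperty C}
  [W.IsStableUnderBaseChange] [W.IsStableUnderComposition] {D : ObjectProperty C}

/-- A natural transformation on `D` extends along covers. -/
theorem exists_extend (hD : ∀ X : C, ∃ (Y : C) (π : Y ⟶ X), W π ∧ D Y) (F G : C ⥤ AddCommGrpCat.{w})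
    (hF : ∀ ⦃Y X : C⦄ (π : Y ⟶ X), W π → Function.Surjective (F.map π).hom ∧
      (F.map π).hom.ker = ((F.map (pullback.fst π π)).hom - (F.map (pullback.snd π π)).hom).range)
    (η : D.ι ⋙ F ⟶ D.ι ⋙ G) :
    ∃ θ : F ⟶ G, ∀ (Y : D.FullSubcategory), θ.app Y.obj = η.app Y := by
  choose Yc πc hW hDY using hD
  let e : ∀ {Y : C}, D Y → (F.obj Y →+ G.obj Y) := fun {Y} h => (η.app ⟨Y, h⟩).hom
  have enat : ∀ {A B : C} (hA : D A) (hB : D B) (f : A ⟶ B) (a : F.obj A),
      (G.map f).hom (e hA a) = e hB ((F.map f).hom a) := by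
    intro A B hA hB f a
    exact (ConcreteCategory.congr_hom (η.naturality (ObjectProperty.homMk f : (⟨A, hA⟩ : D.FullSubcategory) ⟶ ⟨B, hB⟩)) a).symm
  have hker : ∀ (X : C) (a : F.obj (Yc X)), (F.map (πc X)).hom a = 0 →
      (G.map (πc X)).hom (e (hDY X) a) = 0 := by
    intro X a ha
    obtain ⟨b, hb⟩ := ((hF _ (hW X)).2.le (AddMonoidHom.mem_ker.2 ha) :
      a ∈ ((F.map (pullback.fst (πc X) (πc X))).hom - (F.map (pullback.snd (πc X) (πc X))).hom).range)
    let P := pullback (πc X) (πc X)
    obtain ⟨c, rfl⟩ := (hF _ (hW P)).1 b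
    rw [← hb, AddMonoidHom.sub_apply]
    have h : ∀ (q : P ⟶ Yc X), (G.map (πc X)).hom (e (hDY X) ((F.map q).hom ((F.map (πc P)).hom c))) =
        (G.map ((πc P ≫ q) ≫ πc X)).hom (e (hDY P) c) := fun q => by
      rw [G.map_comp, ConcreteCategory.comp_apply]
      refine congrArg _ ?_
      exact (congrArg (e (hDY X)) (by rw [F.map_comp]; rfl)).trans (enat (hDY P) (hDY X) (πc P ≫ q) c).symm
    rw [map_sub, map_sub, h, h, Category.assoc, Category.assoc, pullback.condition, sub_self]
  have hsurj : ∀ X, Function.Surjective (F.map (πc X)).hom := fun X => (hF _ (hW X)).1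
  choose sec hsec using fun X => hsurj X
  let t : ∀ X, F.obj X → G.obj X := fun X x => (G.map (πc X)).hom (e (hDY X) (sec X x))
  have ht : ∀ X (a : F.obj (Yc X)), t X ((F.map (πc X)).hom a) = (G.map (πc X)).hom (e (hDY X) a) := fun X a => by
    have h := hker X (sec X ((F.map (πc X)).hom a) - a) (by rw [map_sub, hsec, sub_self])
    rw [map_sub, map_sub, sub_eq_zero] at h
    exact h
  have key : ∀ {A X : C} (hA : D A) (g : A ⟶ X) (a : F.obj A),
      t X ((F.map g).hom a) = (G.map g).hom (e hA a) := by
    intro A X hA g a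
    let P := pullback (πc X) g
    have hcov : W (pullback.snd (πc X) g) := MorphismProperty.pullback_snd _ _ (hW X)
    have hτ : W (πc P ≫ pullback.snd (πc X) g) := W.comp_mem _ _ (hW P) hcov
    obtain ⟨v, rfl⟩ := (hF _ hτ).1 a
    have hsq : (πc P ≫ pullback.snd (πc X) g) ≫ g = (πc P ≫ pullback.fst (πc X) g) ≫ πc X := by
      rw [Category.assoc, Category.assoc, pullback.condition]
    rw [← enat (hDY P) hA, ← ConcreteCategory.comp_apply, ← ConcreteCategory.comp_apply, ← F.map_comp,
      ← G.map_comp, hsq, F.map_comp, G.map_comp, ConcreteCategory.comp_apply, ConcreteCategory.comp_apply, ht,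
      enat (hDY P) (hDY X)]
  have hadd : ∀ X (x y : F.obj X), t X (x + y) = t X x + t X y := fun X x y => by
    conv_lhs => rw [← hsec X x, ← hsec X y, ← map_add]
    rw [ht, map_add, map_add]
  refine ⟨{ app := fun X => AddCommGrpCat.ofHom (AddMonoidHom.mk' (t X) (hadd X)), naturality := fun X X' f => ?_ }, fun Y => ?_⟩
  · ext x
    obtain ⟨a, rfl⟩ := hsurj X x
    show t X' ((F.map f).hom ((F.map (πc X)).hom a)) = (G.map f).hom (t X ((F.map (πc X)).hom a))
    rw [ht, ← ConcreteCategory.comp_apply, ← F.map_comp, key (hDY X), G.map_comp, ConcreteCategory.comp_apply]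
  · ext x
    show t Y.obj x = _
    have h := key Y.property (𝟙 Y.obj) x
    rw [F.map_id, G.map_id] at h
    exact h

end


/-- Let C be a category with pullbacks equipped with a class W of morphisms, the covers, stable under
base change and under composition. An abelian cosheaf is a functor F : C ⥤ Ab such that for every
cover π : Y ⟶ X the map F(π) is surjective and its kernel is the image of F(p₁) − F(p₂), where p₁,
p₂ : Y ×_X Y ⟶ Y are the two projections. If D is a full subcategory of C such that every object of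
C is the target of a cover whose source lies in D, then the restriction functor from the full
subcategory of abelian cosheaves in C ⥤ Ab to D ⥤ Ab is full and faithful. -/
theorem result {C : Type u} [Category.{v} C]
    [HasPullbacks C] (W : MorphismProperty C) [W.IsStableUnderBaseChange] [W.IsStableUnderComposition]
    (D : ObjectProperty C) (hD : ∀ X : C, ∃ (Y : C) (π : Y ⟶ X), W π ∧ D Y) :
    (ObjectProperty.ι (fun F : C ⥤ AddCommGrpCat.{w} =>
        ∀ ⦃Y X : C⦄ (π : Y ⟶ X), W π → Function.Surjective (F.map π).hom ∧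
          (F.map π).hom.ker = ((F.map (pullback.fst π π)).hom - (F.map (pullback.snd π π)).hom).range) ⋙
      (Functor.whiskeringLeft D.FullSubcategory C AddCommGrpCat.{w}).obj D.ι).Full ∧
    (ObjectProperty.ι (fun F : C ⥤ AddCommGrpCat.{w} =>
        ∀ ⦃Y X : C⦄ (π : Y ⟶ X), W π → Function.Surjective (F.map π).hom ∧
          (F.map π).hom.ker = ((F.map (pullback.fst π π)).hom - (F.map (pullback.snd π π)).hom).range) ⋙
      (Functor.whiskeringLeft D.FullSubcategory C AddCommGrpCat.{w}).obj D.ι).Faithful := by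
  refine ⟨⟨fun {F G} η => ?_⟩, ⟨fun {F G} {a b} hab => ?_⟩⟩
  · obtain ⟨θ, hθ⟩ := exists_extend hD F.obj G.obj F.property η
    exact ⟨ObjectProperty.homMk θ, NatTrans.ext (funext fun Y => hθ Y)⟩
  · ext X x
    obtain ⟨Y, π, hπ, hY⟩ := hD X
    obtain ⟨y, rfl⟩ := (F.property π hπ).1 x
    have h := ConcreteCategory.congr_hom (congrArg (fun (n : D.ι ⋙ F.obj ⟶ D.ι ⋙ G.obj) => n.app ⟨Y, hY⟩) hab) y
    exact (ConcreteCategory.congr_hom (a.hom.naturality π) y).trans
      ((congrArg (G.obj.map π).hom h).trans (ConcreteCategory.congr_hom (b.hom.naturality π) y).symm)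

end Groth.Agent.S18884
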