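import Groth.Statements.S18887
import Mathlib
-- import your own Groth.Agent.* helpers here

set_option autoImplicit false
universe u v
open DblCov

namespace Groth.Agent.S18887

/-- Let A be a commutative ring in which 2 is invertible and B a commutative A-algebra which is free of
rank 2 as an A-module and whose trace form tr : B → A has kernel free of rank 1 over A. Then σ(b) =
tr(b) − b defines an A-algebra endomorphism σ of B with σ ≠ id and σ ∘ σ = id, and the elements
fixed by σ are exactly the image of A in B. -/
theorem result {A : Type u} {B : Type v} [CommRing A] [CommRing B]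
    [Algebra A B] (h2 : IsUnit (2 : A)) [Module.Free A B] [Module.Finite A B]
    (hrk : Module.finrank A B = 2)
    [Module.Free A (LinearMap.ker (Algebra.trace A B))]
    (hker : Module.finrank A (LinearMap.ker (Algebra.trace A B)) = 1) :
    ∃ σ : B →ₐ[A] B, (∀ b : B, σ b = algebraMap A B (Algebra.trace A B b) - b) ∧
      σ ≠ AlgHom.id A B ∧ σ.comp σ = AlgHom.id A B ∧
      ∀ b : B, σ b = b ↔ b ∈ Set.range (algebraMap A B) := by
  rcases subsingleton_or_nontrivial A with hA | hA
  · have := Module.finrank_subsingleton (R := A) (M := B)
    omega
  obtain ⟨u, hu⟩ := h2.exists_left_inv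
  let b := Module.finBasisOfFinrankEq A B hrk
  set t := Algebra.trace A B with ht
  have t2 : ∀ a : A, t (algebraMap A B a) = 2 * a := fun a => by
    rw [ht, Algebra.trace_algebraMap, hrk, two_nsmul, two_mul]
  have CH : ∀ x : B, ∃ d : A, x * x = algebraMap A B (t x) * x - algebraMap A B d := by
    intro x
    refine ⟨(Algebra.leftMulMatrix b x).det, ?_⟩
    have h := Matrix.aeval_self_charpoly (Algebra.leftMulMatrix b x)
    rw [Polynomial.aeval_algHom_apply] at h
    have h' : Polynomial.aeval x (Algebra.leftMulMatrix b x).charpoly = 0 :=
      Algebra.leftMulMatrix_injective b (h.trans (map_zero _).symm)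
    rw [Matrix.charpoly_fin_two, ← Algebra.trace_eq_matrix_trace b x] at h'
    simp only [map_add, map_sub, map_mul, map_pow, Polynomial.aeval_X, Polynomial.aeval_C] at h'
    rw [ht]
    linear_combination h'
  have pol : ∀ x y : B, algebraMap A B (t (x * y)) - x * y
      = (algebraMap A B (t x) - x) * (algebraMap A B (t y) - y) := by
    intro x y
    obtain ⟨dx, hx⟩ := CH x
    obtain ⟨dy, hy⟩ := CH y
    obtain ⟨dz, hz⟩ := CH (x + y)
    rw [map_add, map_add] at hz
    have key : algebraMap A B 2 * (x * y) = algebraMap A B (t x) * y + algebraMap A B (t y) * x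
        - algebraMap A B (dz - dx - dy) := by
      rw [map_ofNat, map_sub, map_sub]
      linear_combination hz - hx - hy
    have e1 := congrArg t key
    simp only [← Algebra.smul_def, map_sub, map_add, map_smul, t2, smul_eq_mul] at e1
    have e2 : t (x * y) = t x * t y - (dz - dx - dy) := by
      have : u * _ = u * _ := congrArg (u * ·) e1
      linear_combination this - (t (x * y) - t x * t y + (dz - dx - dy)) * hu
    rw [e2, map_sub, map_mul]
    rw [map_ofNat] at key
    linear_combination -key
  let L : B →ₗ[A] B := (Algebra.linearMap A B).comp t - LinearMap.id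
  have hL : ∀ z : B, L z = algebraMap A B (t z) - z := fun z => rfl
  have halg : ∀ a : A, L (algebraMap A B a) = algebraMap A B a := fun a => by
    rw [hL, t2, two_mul, map_add, add_sub_cancel_right]
  refine ⟨AlgHom.ofLinearMap L ?_ ?_, fun z => rfl, ?_, ?_, ?_⟩
  · simpa using halg 1
  · intro x y
    exact pol x y
  · intro h
    have : Nontrivial (LinearMap.ker (Algebra.trace A B)) :=
      Module.nontrivial_of_finrank_pos (R := A) (by rw [hker]; exact one_pos)
    obtain ⟨k, hk⟩ := exists_ne (0 : LinearMap.ker (Algebra.trace A B))
    apply hk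
    apply Subtype.ext
    have h1 : L (k : B) = (k : B) := DFunLike.congr_fun h (k : B)
    have hk0 : t (k : B) = 0 := k.2
    rw [hL, hk0, map_zero, zero_sub] at h1
    have h3 : (2 : B) * (k : B) = 0 := by linear_combination -h1
    have hu' : algebraMap A B u * 2 = 1 := by
      rw [← map_ofNat (algebraMap A B) 2, ← map_mul, hu, map_one]
    show (k : B) = 0
    linear_combination (algebraMap A B u) * h3 - (k : B) * hu'
  · apply AlgHom.ext
    intro z
    show L (L z) = z
    rw [hL z, map_sub, halg, hL z]
    ring
  · intro z
    constructor
    · intro h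
      refine ⟨u * t z, ?_⟩
      have h1 : algebraMap A B (t z) - z = z := h
      have hu' : algebraMap A B u * 2 = 1 := by
        rw [← map_ofNat (algebraMap A B) 2, ← map_mul, hu, map_one]
      rw [map_mul]
      linear_combination (algebraMap A B u) * h1 + z * hu'
    · rintro ⟨a, rfl⟩
      exact halg a

end Groth.Agent.S18887
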