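import Mathlib
import Groth.Statements.S18888
-- import your own Groth.Agent.* helpers here

set_option autoImplicit false
universe u v w
open CAlg

namespace Groth.Agent.S18888

/-- Let A be a unique factorisation domain in which 2 is invertible, with fraction field K, and let L ⊇
K be a quadratic extension field (of degree 2 over K) containing an element y ∉ K whose square is a
squarefree element d of A. Then the integral closure of A in L equals the A-subalgebra A[y]
generated by y. -/
theorem result {A : Type u} {K : Type v} {L : Type w}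
    [CommRing A] [IsDomain A] [UniqueFactorizationMonoid A] [Field K] [Algebra A K] [IsFractionRing A K]
    [Field L] [Algebra K L] [Algebra A L] [IsScalarTower A K L]
    (h2 : IsUnit (2 : A)) (hL : Module.finrank K L = 2)
    (d : A) (hd : Squarefree d) (y : L) (hy : y * y = algebraMap A L d)
    (hyK : y ∉ Set.range (algebraMap K L)) :
    integralClosure A L = Algebra.adjoin A {y} := by
  refine le_antisymm (fun z hz => ?_) (Algebra.adjoin_le (Set.singleton_subset_iff.2 ?_))
  swap
  · refine IsIntegral.of_pow (n := 2) two_pos ?_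
    rw [sq, hy]
    exact isIntegral_algebraMap
  haveI : FiniteDimensional K L := Module.finite_of_finrank_eq_succ hL
  have hli : LinearIndependent K ![(1 : L), y] := by
    rw [LinearIndependent.pair_iff' one_ne_zero]
    intro a ha
    exact hyK ⟨a, by rw [Algebra.algebraMap_eq_smul_one, ha]⟩
  obtain ⟨a, b, rfl⟩ : ∃ a b : K, a • (1 : L) + b • y = z := by
    have := hli.span_eq_top_of_card_eq_finrank' (by simp [hL])
    rw [Matrix.range_cons, Matrix.range_cons, Matrix.range_empty, Set.union_empty, Set.singleton_union] at this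
    exact Submodule.mem_span_pair.1 (this ▸ Submodule.mem_top)
  have hzi : IsIntegral A (a • (1 : L) + b • y) := hz
  have hA : ∀ q : K, IsIntegral A (algebraMap K L q) → q ∈ (algebraMap A K).range := fun q hq =>
    IsIntegrallyClosed.isIntegral_iff.1 ((isIntegral_algebraMap_iff (algebraMap K L).injective).1 hq)
  suffices H : a ∈ (algebraMap A K).range ∧ b ∈ (algebraMap A K).range by
    obtain ⟨⟨α, rfl⟩, ⟨β, rfl⟩⟩ := H
    rw [IsScalarTower.algebraMap_smul, IsScalarTower.algebraMap_smul]
    exact add_mem (Subalgebra.smul_mem _ (one_mem _) _) (Subalgebra.smul_mem _ (Algebra.self_mem_adjoin_singleton A y) _)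
  by_cases hb : b = 0
  · subst hb
    exact ⟨hA a (by simpa [Algebra.algebraMap_eq_smul_one] using hzi), zero_mem _⟩
  set z := a • (1 : L) + b • y with hzdef
  set q : Polynomial K := Polynomial.X ^ 2 + Polynomial.C (-(2 * a)) * Polynomial.X + Polynomial.C (a * a - b * b * algebraMap A K d) with hq
  have hyd : y * y = algebraMap K L (algebraMap A K d) := by rw [hy, IsScalarTower.algebraMap_apply A K L]
  have hroot : Polynomial.aeval z q = 0 := by
    simp only [hq, map_add, map_mul, map_pow, Polynomial.aeval_X, Polynomial.aeval_C, map_neg, map_sub, map_ofNat]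
    simp only [hzdef, Algebra.smul_def, mul_one]
    linear_combination (algebraMap K L b) ^ 2 * hyd
  have hqm : q.Monic := by rw [hq]; monicity!
  have hqd : q.natDegree = 2 := by rw [hq]; compute_degree!
  have hzK : IsIntegral K z := Algebra.IsIntegral.isIntegral z
  have hzr : z ∉ (algebraMap K L).range := by
    rintro ⟨c, hc⟩
    refine hyK ⟨b⁻¹ * (c - a), ?_⟩
    rw [map_mul, map_sub, hc, hzdef, Algebra.smul_def, Algebra.smul_def, mul_one, add_sub_cancel_left, ← mul_assoc, ← map_mul, inv_mul_cancel₀ hb, map_one, one_mul]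
  have hmin : minpoly K z = q := (Polynomial.eq_of_monic_of_dvd_of_natDegree_le (minpoly.monic hzK) hqm (minpoly.dvd K z hroot)
    (hqd ▸ (minpoly.two_le_natDegree_iff hzK).2 hzr)).symm
  have hcoef : ∀ j, q.coeff j ∈ (algebraMap A K).range := fun j => by
    rw [← hmin, minpoly.isIntegrallyClosed_eq_field_fractions' K hzi, Polynomial.coeff_map]
    exact ⟨_, rfl⟩
  obtain ⟨α, hα⟩ : 2 * a ∈ (algebraMap A K).range := by
    have := hcoef 1
    simpa [hq, Polynomial.coeff_X] using this
  obtain ⟨β, hβ⟩ : a * a - b * b * algebraMap A K d ∈ (algebraMap A K).range := by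
    have := hcoef 0
    simpa [hq] using this
  obtain ⟨i2, hi2⟩ := h2.exists_right_inv
  have ha : a = algebraMap A K (i2 * α) := by
    rw [map_mul, hα, ← mul_assoc, ← map_ofNat (algebraMap A K) 2, ← map_mul, mul_comm i2, hi2, map_one, one_mul]
  refine ⟨⟨_, ha.symm⟩, ?_⟩
  obtain ⟨M, N, hrel, hMN⟩ := IsFractionRing.exists_reduced_fraction A b
  have hb' : b * algebraMap A K (N : A) = algebraMap A K M := by rw [← hMN, IsLocalization.mk'_spec]
  have heq : M * M * d = ((N : A) * N) * ((i2 * α) * (i2 * α) - β) := by
    refine IsFractionRing.injective A K ?_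
    rw [map_mul, map_mul, map_mul _ ((N : A) * N), map_mul, map_sub, map_mul _ (i2 * α), ← ha, hβ, ← hb']
    ring
  have hdvd : (N : A) * N ∣ d := by
    refine (?_ : IsRelPrime ((N : A) * N) (M * M)).dvd_of_dvd_mul_left ⟨_, heq⟩
    exact (hrel.symm.mul_left hrel.symm).mul_right (hrel.symm.mul_left hrel.symm)
  obtain ⟨nu, hnu⟩ := hd _ hdvd
  refine ⟨M * (↑nu⁻¹ : A), ?_⟩
  rw [map_mul, ← hb', mul_assoc, ← map_mul, ← hnu, Units.mul_inv, map_one, mul_one]

end Groth.Agent.S18888
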