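import Groth.Statements.S18889
import Mathlib.RingTheory.Invariant.Basic
import Mathlib.RingTheory.Finiteness.ModuleFinitePresentation
import Mathlib.RingTheory.FinitePresentation

set_option autoImplicit false
universe u v w
open CAlg

namespace Groth.Agent.S18889

open Classical in
/-- The Reynolds operator as a linear map over the invariant ring. -/
theorem exists_retraction {R : Type u} {A : Type v} [CommRing R] [CommRing A] [Algebra R A]
    {G : Type w} [Group G] [Finite G] [MulSemiringAction G A] [SMulCommClass G R A]
    (hG : IsUnit ((Nat.card G : ℕ) : R)) :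
    ∃ ρ : A →ₗ[FixedPoints.subalgebra R A G] FixedPoints.subalgebra R A G,
      ρ ∘ₗ Algebra.linearMap (FixedPoints.subalgebra R A G) A = LinearMap.id := by
  have := Fintype.ofFinite G
  obtain ⟨c, hc⟩ := hG.exists_left_inv
  have hmem : ∀ a : A, c • ∑ g : G, g • a ∈ FixedPoints.subalgebra R A G := by
    intro a h
    rw [smul_comm h c, Finset.smul_sum]
    congr 1
    simp_rw [← mul_smul]
    exact Fintype.sum_equiv (Equiv.mulLeft h) _ _ fun g => rfl
  refine ⟨{ toFun := fun a => ⟨c • ∑ g : G, g • a, hmem a⟩, map_add' := ?_, map_smul' := ?_ }, ?_⟩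
  · intro a b
    ext
    simp [Finset.sum_add_distrib]
  · intro b a
    ext
    show c • ∑ g : G, g • ((b : A) * a) = (b : A) * (c • ∑ g : G, g • a)
    rw [mul_smul_comm, Finset.mul_sum]
    congr 1
    refine Finset.sum_congr rfl fun g _ => ?_
    rw [smul_mul', show g • (b : A) = b from b.2 g]
  · refine LinearMap.ext fun b => Subtype.ext ?_
    show c • ∑ g : G, g • (b : A) = b
    rw [Finset.sum_congr rfl (fun g _ => b.2 g), Finset.sum_const, Finset.card_univ,
      ← Nat.card_eq_fintype_card, ← Nat.cast_smul_eq_nsmul R, ← mul_smul, hc, one_smul]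

set_option maxHeartbeats 1000000 in
/-- Let R be a commutative ring, A a commutative R-algebra of finite presentation, and G a finite group
acting on A by R-algebra automorphisms such that the order of G is invertible in R. Then the ring of
invariants A^G is an R-algebra of finite presentation. (The source takes G to be a group of
automorphisms of A; here G acts through a possibly non-faithful action, which changes nothing since
the invariants and the invertibility of the order only depend on the image of G.) -/
theorem result {R : Type u} {A : Type v} [CommRing R] [CommRing A]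
    [Algebra R A] [Algebra.FinitePresentation R A]
    {G : Type w} [Group G] [Finite G] [MulSemiringAction G A] [SMulCommClass G R A]
    (hG : IsUnit ((Nat.card G : ℕ) : R)) :
    Algebra.FinitePresentation R (FixedPoints.subalgebra R A G) := by
  classical
  let B := FixedPoints.subalgebra R A G
  have : SMulCommClass G B A := ⟨fun g b a => by
    show g • ((b : A) * a) = (b : A) * g • a
    rw [smul_mul', show g • (b : A) = b from b.2 g]⟩
  have : Algebra.IsInvariant B A G := ⟨fun a ha => ⟨⟨a, ha⟩, rfl⟩⟩
  have : Algebra.IsIntegral B A := Algebra.IsInvariant.isIntegral B A G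
  obtain ⟨s, hs⟩ := (inferInstance : Algebra.FiniteType R A).out
  choose P hPm hP using fun a : A => Algebra.IsIntegral.isIntegral (R := B) a
  let T : Finset B := s.biUnion fun a => (Finset.range ((P a).natDegree + 1)).image fun k => (P a).coeff k
  let Q := MvPolynomial T R
  let ψ : Q →ₐ[R] B := MvPolynomial.aeval fun t => (t : B)
  let _ : Algebra Q B := ψ.toRingHom.toAlgebra
  let _ : Algebra Q A := ((algebraMap B A).comp ψ.toRingHom).toAlgebra
  have : IsScalarTower Q B A := IsScalarTower.of_algebraMap_eq' rfl
  have : IsScalarTower R Q B := IsScalarTower.of_algebraMap_eq' ψ.comp_algebraMap.symm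
  have : IsScalarTower R Q A := IsScalarTower.of_algebraMap_eq fun r => by
    show algebraMap R A r = algebraMap B A (ψ (algebraMap R Q r))
    rw [ψ.commutes]; rfl
  have hint : ∀ a ∈ s, IsIntegral Q a := by
    intro a ha
    have hco : P a ∈ Polynomial.lifts (algebraMap Q B) := by
      rw [Polynomial.lifts_iff_coeff_lifts]
      intro k
      by_cases hk : k ≤ (P a).natDegree
      · refine ⟨MvPolynomial.X ⟨(P a).coeff k, ?_⟩, MvPolynomial.aeval_X _ _⟩
        exact Finset.mem_biUnion.mpr ⟨a, ha, Finset.mem_image.mpr
          ⟨k, Finset.mem_range.mpr (Nat.lt_succ_of_le hk), rfl⟩⟩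
      · exact ⟨0, by rw [map_zero, Polynomial.coeff_eq_zero_of_natDegree_lt (by omega)]⟩
    rcases subsingleton_or_nontrivial B with hB | hB
    · have : Subsingleton A := subsingleton_of_zero_eq_one
        (congrArg Subtype.val (Subsingleton.elim (0 : B) 1))
      exact ⟨Polynomial.X, Polynomial.monic_X, Subsingleton.elim _ _⟩
    obtain ⟨q, hq, _, hqm⟩ := Polynomial.lifts_and_degree_eq_and_monic hco (hPm a)
    refine ⟨q, hqm, ?_⟩
    have h := hP a
    rw [← hq, Polynomial.eval₂_map] at h
    rwa [IsScalarTower.algebraMap_eq Q B A]
  have hfin : Module.Finite Q A := by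
    have htop : Algebra.adjoin Q (s : Set A) = ⊤ := top_le_iff.mp fun a _ => by
      have : a ∈ Algebra.adjoin R (s : Set A) := hs ▸ Algebra.mem_top
      exact Algebra.adjoin_le (S := (Algebra.adjoin Q (s : Set A)).restrictScalars R)
        (fun x hx => Algebra.subset_adjoin hx) this
    have h := fg_adjoin_of_finite s.finite_toSet hint
    rw [htop, Algebra.top_toSubmodule] at h
    exact Module.finite_def.mpr h
  have : Algebra.FinitePresentation Q A := Algebra.FinitePresentation.of_restrict_scalars_finitePresentation R Q A
  have : Module.FinitePresentation Q A := Module.FinitePresentation.of_finite_of_finitePresentation Q A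
  obtain ⟨ρ, hρ⟩ := exists_retraction (R := R) (A := A) (G := G) hG
  have hρs : Function.Surjective (ρ.restrictScalars Q) := fun b => ⟨algebraMap B A b, LinearMap.congr_fun hρ b⟩
  have : Module.FinitePresentation Q B := by
    refine Module.finitePresentation_of_surjective (ρ.restrictScalars Q) hρs ?_
    let e : A →ₗ[Q] A := LinearMap.id - ((Algebra.linearMap B A).restrictScalars Q).comp (ρ.restrictScalars Q)
    have : LinearMap.ker (ρ.restrictScalars Q) = LinearMap.range e := by
      refine le_antisymm ?_ ?_
      · intro a ha
        refine ⟨a, ?_⟩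
        have h0 : ρ a = 0 := ha
        simp [e, h0]
      · rintro _ ⟨a, rfl⟩
        show ρ (a - algebraMap B A (ρ a)) = 0
        rw [map_sub, sub_eq_zero]
        exact (LinearMap.congr_fun hρ (ρ a)).symm
    rw [this, LinearMap.range_eq_map]
    exact Module.Finite.fg_top.map e
  exact Algebra.FinitePresentation.trans R Q B

end Groth.Agent.S18889
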