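import Groth.Statements.S1889
import Groth.Agent.GrpdBasic.Basic
import Mathlib.AlgebraicGeometry.Morphisms.UniversallyOpen
-- import your own Groth.Agent.* helpers here

set_option autoImplicit false
universe u
open CategoryTheory CategoryTheory.Limits AlgebraicGeometry
open Grpd

namespace Groth.Agent.S1889

/-- Let (U, R, s, t, c) be a groupoid scheme over S with U the spectrum of a field, W ⊆ R open and a : Z
→ R a morphism. Then the image of Z ×_{s∘a, U, t} W → R ×_{s,U,t} R → R (composition) is open. (A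
groupoid scheme carries U, R, s, t, c, e, i over S with the groupoid axioms on T-points; 'finite
locally free' is finite, flat and locally of finite presentation; C ⊂ Γ(U) is the ring of functions
a with s♯(a) = t♯(a) and M = Spec C.) -/
theorem result (S : Scheme.{u}) (G : Grpd.GroupoidScheme S) (k : Type u) [Field k] (eU : G.U ≅ Spec (CommRingCat.of k)) (W : G.R.Opens) (Z : Scheme.{u}) (a : Z ⟶ G.R) : IsOpen (Set.range ⇑(pullback.lift (pullback.fst (a ≫ G.s) (W.ι ≫ G.t) ≫ a) (pullback.snd (a ≫ G.s) (W.ι ≫ G.t) ≫ W.ι) ((Category.assoc _ _ _).trans (pullback.condition.trans (Category.assoc _ _ _).symm)) ≫ G.c)) := by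
  have : IsIso eU.hom := inferInstance
  have hopen : ∀ {X : Scheme.{u}} (f : X ⟶ G.U), UniversallyOpen f := fun {X} f => by
    have : UniversallyOpen (f ≫ eU.hom) := inferInstance
    exact (MorphismProperty.cancel_right_of_respectsIso (P := @UniversallyOpen.{u}) f eU.hom).1 this
  have c1 : (pullback.fst (a ≫ G.s) G.t ≫ a) ≫ G.s = pullback.snd (a ≫ G.s) G.t ≫ G.t :=
    (Category.assoc _ _ _).trans pullback.condition
  let τ : pullback (a ≫ G.s) G.t ⟶ pullback (a ≫ G.t) G.t :=
    pullback.lift (pullback.fst _ _) (GrpdBasic.mul G _ _ c1) (by rw [GrpdBasic.mul_t, Category.assoc])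
  have c2 : (pullback.fst (a ≫ G.t) G.t ≫ a ≫ G.i) ≫ G.s = pullback.snd (a ≫ G.t) G.t ≫ G.t := by
    rw [← pullback.condition]; simp [G.i_s]
  let τ' : pullback (a ≫ G.t) G.t ⟶ pullback (a ≫ G.s) G.t :=
    pullback.lift (pullback.fst _ _) (GrpdBasic.mul G _ _ c2) (by rw [GrpdBasic.mul_t]; simp [G.i_t])
  have : IsIso τ := by
    refine ⟨τ', pullback.hom_ext ?_ ?_, pullback.hom_ext ?_ ?_⟩
    · exact (Category.assoc _ _ _).trans ((congrArg (_ ≫ ·) (pullback.lift_fst _ _ _)).trans
        ((pullback.lift_fst _ _ _).trans (Category.id_comp _).symm))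
    · rw [Category.assoc, show τ' ≫ pullback.snd _ _ = _ from pullback.lift_snd _ _ _,
        GrpdBasic.comp_mul, Category.id_comp]
      refine (GrpdBasic.mul_congr G ?_ (pullback.lift_snd _ _ _) _).trans
        (GrpdBasic.mul_inv_cancel_left G _ (pullback.snd (a ≫ G.s) G.t) c1)
      exact (pullback.lift_fst_assoc _ _ _ _).trans (Category.assoc _ _ _).symm
    · exact (Category.assoc _ _ _).trans ((congrArg (_ ≫ ·) (pullback.lift_fst _ _ _)).trans
        ((pullback.lift_fst _ _ _).trans (Category.id_comp _).symm))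
    · rw [Category.assoc, show τ ≫ pullback.snd _ _ = _ from pullback.lift_snd _ _ _,
        GrpdBasic.comp_mul, Category.id_comp]
      refine (GrpdBasic.mul_congr G (α' := pullback.fst (a ≫ G.t) G.t ≫ a) ?_
        (pullback.lift_snd _ _ _) _).trans ?_
      · exact pullback.lift_fst_assoc _ _ _ _
      · refine (GrpdBasic.mul_assoc G _ _ _ (by simp [G.i_t]) c2).symm.trans
          (GrpdBasic.one_mul G _ _ ?_ _)
        rw [GrpdBasic.mul_congr G rfl (Category.assoc _ _ _).symm, GrpdBasic.mul_inv, Category.assoc,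
          ← Category.assoc a G.t G.e, ← Category.assoc, pullback.condition, Category.assoc]
  let ι' : pullback (a ≫ G.s) (W.ι ≫ G.t) ⟶ pullback (a ≫ G.s) G.t :=
    pullback.map _ _ _ _ (𝟙 Z) W.ι (𝟙 G.U) (by simp) (by simp)
  have := hopen (a ≫ G.t)
  have hι : IsOpenImmersion ι' := inferInstance
  have key : ι' ≫ τ ≫ pullback.snd (a ≫ G.t) G.t = pullback.lift
      (pullback.fst (a ≫ G.s) (W.ι ≫ G.t) ≫ a) (pullback.snd (a ≫ G.s) (W.ι ≫ G.t) ≫ W.ι)
      ((Category.assoc _ _ _).trans (pullback.condition.trans (Category.assoc _ _ _).symm)) ≫ G.c := by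
    rw [show τ ≫ pullback.snd _ _ = _ from pullback.lift_snd _ _ _, GrpdBasic.comp_mul]
    exact GrpdBasic.mul_congr G
      ((pullback.lift_fst_assoc _ _ _ _).trans (congrArg (· ≫ a) (Category.comp_id _) |> (Category.assoc _ _ _).symm.trans))
      (pullback.lift_snd _ _ _) _
  rw [← key]
  have : UniversallyOpen (ι' ≫ τ ≫ pullback.snd (a ≫ G.t) G.t) := inferInstance
  exact (Scheme.Hom.isOpenMap _).isOpen_range

end Groth.Agent.S1889
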