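import Groth.Statements.S18890
import Mathlib
-- import your own Groth.Agent.* helpers here

set_option autoImplicit false
universe u v w w'
open CAlg

namespace Groth.Agent.S18890

/-- Let R be a commutative ring, G a finite group whose order is invertible in R, M an R-module with an
R-linear action ρ of G and N an arbitrary R-module. Then the natural map M^G ⊗_R N → M ⊗_R N induced
by the inclusion of the invariants is injective, and its image is the submodule of invariants of M
⊗_R N under the action ρ ⊗ 1 (G acting on the first factor). (The source lets G be a group of
R-automorphisms of M; a possibly non-faithful linear action changes nothing.) -/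
theorem result {R : Type u} [CommRing R]
    {G : Type v} [Group G] [Finite G] (hG : IsUnit ((Nat.card G : ℕ) : R))
    {M : Type w} {N : Type w'} [AddCommGroup M] [Module R M] [AddCommGroup N] [Module R N]
    (ρ : Representation R G M) :
    Function.Injective (LinearMap.rTensor N ρ.invariants.subtype) ∧
      LinearMap.range (LinearMap.rTensor N ρ.invariants.subtype) =
        (ρ.tprod (Representation.trivial R G N)).invariants := by
  classical
  have := Fintype.ofFinite G
  rw [Nat.card_eq_fintype_card] at hG
  let := hG.invertible
  let r : M →ₗ[R] ρ.invariants := LinearMap.codRestrict ρ.invariants ρ.averageMap ρ.averageMap_invariant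
  have hr : r.comp ρ.invariants.subtype = LinearMap.id := by
    refine LinearMap.ext fun x => Subtype.ext ?_
    exact ρ.averageMap_id x.1 x.2
  constructor
  · intro x y hxy
    have := congrArg (LinearMap.rTensor N r) hxy
    simpa only [← LinearMap.comp_apply, ← LinearMap.rTensor_comp, hr, LinearMap.rTensor_id,
      LinearMap.id_coe, id_eq] using this
  have hg : ∀ g : G, (ρ.tprod (Representation.trivial R G N)) g = LinearMap.rTensor N (ρ g) := by
    intro g
    apply TensorProduct.ext'
    intro m n
    simp [Representation.tprod_apply]
  apply le_antisymm
  · rintro _ ⟨z, rfl⟩ g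
    rw [hg, ← LinearMap.comp_apply, ← LinearMap.rTensor_comp]
    congr 2
    ext x
    exact x.2 g
  · intro z hz
    refine ⟨LinearMap.rTensor N r z, ?_⟩
    have hav : ρ.invariants.subtype.comp r = ⅟(Fintype.card G : R) • ∑ g : G, ρ g := by
      ext x
      simp [r, Representation.averageMap, GroupAlgebra.average]
    rw [← LinearMap.comp_apply, ← LinearMap.rTensor_comp, hav]
    have h1 : ∀ g : G, LinearMap.rTensor N (ρ g) z = z := fun g => by rw [← hg]; exact hz g
    rw [LinearMap.rTensor_smul, LinearMap.smul_apply, ← LinearMap.coe_rTensorHom, map_sum,
      LinearMap.sum_apply]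
    simp only [LinearMap.coe_rTensorHom, h1, Finset.sum_const, Finset.card_univ]
    rw [← Nat.cast_smul_eq_nsmul R, smul_smul, invOf_mul_self, one_smul]

end Groth.Agent.S18890
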