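import Groth.Statements.S18891
import Mathlib
import Groth.Agent.ClosedImmNhd.Unramified
-- import your own Groth.Agent.* helpers here

set_option autoImplicit false
universe u
open CategoryTheory CategoryTheory.Limits AlgebraicGeometry
open Mor

namespace Groth.Agent.S18891

/-- Let f : X → Y be a morphism of schemes which is proper and formally unramified, and such that for
every algebraically closed field Ω the map X(Ω) → Y(Ω), g ↦ g ≫ f, is injective. Then f is a closed
immersion. -/
theorem result {X Y : Scheme.{u}} (f : X ⟶ Y)
    [IsProper f] [FormallyUnramified f]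
    (hinj : ∀ (Ω : Type u) [Field Ω] [IsAlgClosed Ω],
      Function.Injective (fun g : Spec (CommRingCat.of Ω) ⟶ X => g ≫ f)) :
    IsClosedImmersion f := by
  have key : ∀ (K : Type u) [Field K] (e : Spec (CommRingCat.of K) ⟶ pullback f f) (o : Spec (CommRingCat.of K)),
      e o ∈ Set.range (pullback.diagonal f) := by
    intro K _ e o
    let j : Spec (CommRingCat.of (AlgebraicClosure K)) ⟶ Spec (CommRingCat.of K) :=
      Spec.map (CommRingCat.ofHom (algebraMap K (AlgebraicClosure K)))
    let o' : Spec (CommRingCat.of (AlgebraicClosure K)) := IsLocalRing.closedPoint (AlgebraicClosure K)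
    have h := hinj (AlgebraicClosure K) (a₁ := (j ≫ e) ≫ pullback.fst f f) (a₂ := (j ≫ e) ≫ pullback.snd f f)
      (by simp [pullback.condition])
    have hg : j ≫ e = ((j ≫ e) ≫ pullback.fst f f) ≫ pullback.diagonal f := by
      apply pullback.hom_ext
      · simp
      · simp [← h]
    refine ⟨((j ≫ e) ≫ pullback.fst f f) o', ?_⟩
    change (((j ≫ e) ≫ pullback.fst f f) ≫ pullback.diagonal f) o' = e o
    rw [← hg]
    change e (j o') = e o
    rw [show j o' = o from Subsingleton.elim (α := PrimeSpectrum K) _ _]
  haveI : Surjective (pullback.diagonal f) := ⟨fun z => by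
    have h := key _ ((pullback f f).fromSpecResidueField z) (IsLocalRing.closedPoint _)
    obtain ⟨a, ha⟩ := h
    exact ⟨a, ha.trans (Scheme.fromSpecResidueField_apply _ _)⟩⟩
  exact ClosedImmNhd.isClosedImmersion_of_formallyUnramified f

end Groth.Agent.S18891
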