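import Mathlib
import Groth.Statements.S18899
-- import your own Groth.Agent.* helpers here

set_option autoImplicit false
universe u v w
open CAlg

namespace Groth.Agent.S18899

/-- Let A be a commutative ring on which a finite group G acts by ring automorphisms, with ring of
invariants A^G, and let K be a field. If two ring homomorphisms f₁, f₂ : A → K have the same
restriction to A^G, then f₂ = f₁ ∘ γ for some γ ∈ G. -/
theorem result {A : Type u} [CommRing A] {G : Type v} [Group G] [Finite G]
    [MulSemiringAction G A] {K : Type w} [Field K] (f₁ f₂ : A →+* K)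
    (h : ∀ a : A, (∀ g : G, g • a = a) → f₁ a = f₂ a) :
    ∃ γ : G, ∀ a : A, f₂ a = f₁ (γ • a) := by
  classical
  have := Fintype.ofFinite G
  by_contra hcon
  push Not at hcon
  choose a ha using hcon
  let e := Fintype.equivFin G
  let b : Polynomial A := ∑ i : Fin (Fintype.card G), Polynomial.C (a (e.symm i)) * Polynomial.X ^ (i : ℕ)
  let Q : Polynomial (Polynomial A) := ∏ g : G, (Polynomial.X - Polynomial.C (g • b))
  have hQfix : ∀ g : G, g • Q = Q := by
    intro g
    simp only [Q, Finset.smul_prod', smul_sub, Polynomial.smul_X, Polynomial.smul_C, smul_smul]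
    exact Fintype.prod_equiv (Equiv.mulLeft g) _ _ fun h => rfl
  have hQmap : Q.map (Polynomial.mapRingHom f₁) = Q.map (Polynomial.mapRingHom f₂) := by
    ext i j
    simp only [Polynomial.coeff_map, Polynomial.coe_mapRingHom]
    apply h
    intro g
    have := congrArg (fun P => (P.coeff i).coeff j) (hQfix g)
    simpa [Polynomial.coeff_smul] using this
  have h0 : (Q.map (Polynomial.mapRingHom f₂)).eval (b.map f₂) = 0 := by
    simp only [Q, Polynomial.map_prod, Polynomial.eval_prod]
    exact Finset.prod_eq_zero (Finset.mem_univ (1 : G)) (by simp)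
  rw [← hQmap] at h0
  simp only [Q, Polynomial.map_prod, Polynomial.eval_prod, Finset.prod_eq_zero_iff] at h0
  obtain ⟨γ, -, hγ⟩ := h0
  simp only [Polynomial.map_sub, Polynomial.map_X, Polynomial.map_C, Polynomial.eval_sub, Polynomial.eval_X,
    Polynomial.eval_C, sub_eq_zero, Polynomial.coe_mapRingHom] at hγ
  have := congrArg (fun P => P.coeff (e γ : ℕ)) hγ
  simp [b, Polynomial.finset_sum_coeff, Polynomial.coeff_C_mul, Polynomial.coeff_X_pow, Fin.val_inj, Polynomial.coeff_smul] at this
  exact ha γ this

end Groth.Agent.S18899
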