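import Groth.Statements.S1890
-- import your own Groth.Agent.* helpers here

set_option autoImplicit false
universe u
open CategoryTheory CategoryTheory.Limits AlgebraicGeometry
open Grpd

namespace Groth.Agent.S1890

/-- Take a quasi-compact immersion j : V → Spec A and an element f ∈ A such that j⁻¹(D(f)) is affine and
j(V) ∩ V(f) is closed in Spec A. Then V is affine. -/
theorem result (A : Type u) [CommRing A] (V : Scheme.{u}) (j : V ⟶ Spec (CommRingCat.of A)) [IsImmersion j] [QuasiCompact j] (f : A) (haff : IsAffineOpen (j ⁻¹ᵁ PrimeSpectrum.basicOpen f)) (hcl : IsClosed (Set.range ⇑j ∩ PrimeSpectrum.zeroLocus {f})) : IsAffine V := by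
  have key : ∀ h : A, IsAffineOpen (X := Spec (CommRingCat.of A)) (PrimeSpectrum.basicOpen h) :=
    fun h => IsAffineOpen.Spec_basicOpen (R := CommRingCat.of A) h
  have : IsAffineHom j := by
    refine isAffineHom_of_forall_exists_isAffineOpen j fun x => ?_
    by_cases hx : x ∈ PrimeSpectrum.basicOpen f
    · exact ⟨_, hx, key f, haff⟩
    by_cases hxj : x ∈ Set.range ⇑j
    · obtain ⟨_, ⟨_, ⟨h, rfl⟩, rfl⟩, hxh, hsub⟩ := PrimeSpectrum.isBasis_basic_opens.exists_subset_of_mem_open
        (u := coborder (Set.range ⇑j)) (subset_coborder hxj) j.isLocallyClosed_range.isOpen_coborder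
      refine ⟨PrimeSpectrum.basicOpen h, hxh, key h, ?_⟩
      let D : (Spec (CommRingCat.of A)).Opens := PrimeSpectrum.basicOpen h
      have : IsImmersion (j ∣_ D) := IsZariskiLocalAtTarget.restrict (P := @IsImmersion.{u}) ‹_› D
      have : IsClosedImmersion (j ∣_ D) := by
        refine .of_isPreimmersion _ ?_
        have e : Set.range ⇑(j ∣_ D) =
            (fun z : D => (z : Spec (CommRingCat.of A))) ⁻¹' closure (Set.range ⇑j) := by
          refine Set.ext fun z => ⟨?_, fun hz => ?_⟩
          · rintro ⟨w, rfl⟩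
            refine subset_closure ⟨(j ⁻¹ᵁ D).ι w, ?_⟩
            show j ((j ⁻¹ᵁ D).ι w) = D.ι ((j ∣_ D) w)
            rw [← Scheme.Hom.comp_apply, ← Scheme.Hom.comp_apply, morphismRestrict_ι]
          · obtain ⟨v, hv⟩ := coborder_inter_closure.le ⟨hsub z.2, hz⟩
            refine ⟨⟨v, show j v ∈ D from hv ▸ z.2⟩, Subtype.ext ?_⟩
            exact (Eq.trans (congrArg (fun φ : (j ⁻¹ᵁ D).toScheme ⟶ Spec (CommRingCat.of A) => φ ⟨v, show j v ∈ D from hv ▸ z.2⟩) (morphismRestrict_ι j D)) hv :)
        rw [e]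
        exact isClosed_closure.preimage continuous_subtype_val
      have : IsAffine D.toScheme := key h
      exact isAffine_of_isAffineHom (j ∣_ D)
    · obtain ⟨_, ⟨_, ⟨h, rfl⟩, rfl⟩, hxh, hsub⟩ :=
        PrimeSpectrum.isBasis_basic_opens.exists_subset_of_mem_open
          (u := (Set.range ⇑j ∩ PrimeSpectrum.zeroLocus {f})ᶜ) (fun hc => hxj hc.1) hcl.isOpen_compl
      refine ⟨PrimeSpectrum.basicOpen h, hxh, key h, ?_⟩
      let W := j ⁻¹ᵁ PrimeSpectrum.basicOpen f
      have hle : j ⁻¹ᵁ PrimeSpectrum.basicOpen h ≤ W := fun v hv => by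
        by_contra hc
        refine hsub hv ⟨⟨v, rfl⟩, ?_⟩
        intro a ha
        rw [Set.mem_singleton_iff.1 ha]
        exact not_not.1 hc
      have : IsAffine (W : V.Opens) := haff
      have hpre := (key h).preimage (W.ι ≫ j)
      have : IsAffineOpen (W.ι ''ᵁ W.ι ⁻¹ᵁ (j ⁻¹ᵁ PrimeSpectrum.basicOpen h)) :=
        hpre.image_of_isOpenImmersion W.ι
      rw [Scheme.Hom.image_preimage_eq_opensRange_inf,
        Scheme.Opens.opensRange_ι, inf_eq_right.2 hle] at this
      exact this
  exact isAffine_of_isAffineHom j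

end Groth.Agent.S1890
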