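import Groth.Statements.S18900
import Mathlib
import Groth.Agent.SGA1QuotLib.BaseChange
-- import your own Groth.Agent.* helpers here

set_option autoImplicit false
universe u
open CategoryTheory CategoryTheory.Limits AlgebraicGeometry
open DblCov

namespace Groth.Agent.S18900

section Aux
open Opposite TopologicalSpace
open scoped TensorProduct

set_option linter.style.haveILetI false

/-- `B` is free of rank two over `A`. -/
def Rk2 {A B : Type u} [CommRing A] [CommRing B] (φ : A →+* B) : Prop :=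
  letI := φ.toAlgebra
  Nonempty (Module.Basis (Fin 2) A B)

/-- The conjugation of a quadratic algebra. -/
noncomputable def conj {A B : Type u} [CommRing A] [CommRing B] (φ : A →+* B) (x : B) : B :=
  φ (@Algebra.trace A B _ _ φ.toAlgebra x) - x

section Algebra

variable {A B : Type u} [CommRing A] [CommRing B] [Algebra A B]

theorem quad (b : Module.Basis (Fin 2) A B) (x : B) :
    x * x = algebraMap A B (Algebra.trace A B x) * x
      - algebraMap A B (Algebra.leftMulMatrix b x).det := by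
  apply Algebra.leftMulMatrix_injective b
  simp only [map_sub, map_mul, AlgHom.commutes, Matrix.algebraMap_eq_diagonal,
    Algebra.trace_eq_matrix_trace b x]
  generalize Algebra.leftMulMatrix b x = M
  ext i j
  fin_cases i <;> fin_cases j <;>
    simp [Matrix.mul_apply, Fin.sum_univ_two, Matrix.det_fin_two, Matrix.trace_fin_two,
      Matrix.diagonal] <;> ring

theorem trace_algMap (b : Module.Basis (Fin 2) A B) (a : A) :
    Algebra.trace A B (algebraMap A B a) = 2 * a := by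
  rw [Algebra.trace_algebraMap_of_basis b, Fintype.card_fin, nsmul_eq_mul]
  norm_num

theorem trace_algMap_mul (a : A) (x : B) :
    Algebra.trace A B (algebraMap A B a * x) = a * Algebra.trace A B x := by
  rw [← Algebra.smul_def, map_smul, smul_eq_mul]

/-- The conjugation is an involution by algebra maps, fixing exactly the base. -/
theorem conj_props_alg (b : Module.Basis (Fin 2) A B) (h2 : IsUnit (2 : A)) :
    let c : B → B := fun x => algebraMap A B (Algebra.trace A B x) - x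
    c 1 = 1 ∧ (∀ x y, c (x * y) = c x * c y) ∧ (∀ x y, c (x + y) = c x + c y) ∧
    (∀ x, c (c x) = x) ∧ (∀ a, c (algebraMap A B a) = algebraMap A B a) ∧
    (∀ x, c x = x → x ∈ Set.range (algebraMap A B)) ∧ Function.Injective (algebraMap A B) := by
  intro c
  have hc : ∀ a, c (algebraMap A B a) = algebraMap A B a := fun a => by
    simp only [c, trace_algMap b, map_mul, map_ofNat]
    ring
  refine ⟨by simpa using hc 1, fun x y => ?_, fun x y => ?_, fun x => ?_, hc, fun x hx => ?_, ?_⟩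
  · set n := fun z : B => (Algebra.leftMulMatrix b z).det
    set t := fun z : B => Algebra.trace A B z
    set P := n (x + y) - n x - n y with hP
    have e1 : 2 * (x * y) = algebraMap A B (t x) * y + algebraMap A B (t y) * x
        - algebraMap A B P := by
      have q := quad b (x + y)
      have qx := quad b x
      have qy := quad b y
      simp only [map_add] at q
      simp only [hP, map_sub, map_add, t, n]
      linear_combination q - qx - qy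
    have e2 : 2 * t (x * y) = 2 * (t x * t y) - 2 * P := by
      have := congrArg t e1
      simp only [t, map_add, map_sub, trace_algMap b, trace_algMap_mul, two_mul] at this ⊢
      linear_combination this
    have e3 : P = t x * t y - t (x * y) :=
      h2.mul_left_cancel (by linear_combination e2)
    rw [e3] at e1
    simp only [map_sub, map_mul] at e1
    simp only [c, t] at e1 ⊢
    linear_combination -1 * e1
  · simp only [c, map_add]
    ring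
  · simp only [c, map_sub, trace_algMap b, map_mul, map_ofNat]
    ring
  · obtain ⟨v, hv⟩ := h2.exists_left_inv
    refine ⟨Algebra.trace A B x * v, ?_⟩
    have h : 2 * x = algebraMap A B (Algebra.trace A B x) := by
      simp only [c] at hx
      linear_combination -1 * hx
    have hv' : algebraMap A B v * 2 = 1 := by
      rw [← map_ofNat (algebraMap A B) 2, ← map_mul, hv, map_one]
    rw [map_mul, ← h]
    linear_combination x * hv'
  · intro a a' h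
    have := congrArg (Algebra.trace A B) h
    rw [trace_algMap b, trace_algMap b] at this
    exact h2.mul_left_cancel this

end Algebra

theorem conj_props {A B : Type u} [CommRing A] [CommRing B] {φ : A →+* B} (h : Rk2 φ)
    (h2 : IsUnit (2 : A)) :
    conj φ 1 = 1 ∧ (∀ x y, conj φ (x * y) = conj φ x * conj φ y) ∧
    (∀ x y, conj φ (x + y) = conj φ x + conj φ y) ∧
    (∀ x, conj φ (conj φ x) = x) ∧ (∀ a, conj φ (φ a) = φ a) ∧
    (∀ x, conj φ x = x → x ∈ Set.range φ) ∧ Function.Injective φ := by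
  letI := φ.toAlgebra
  obtain ⟨b⟩ := h
  exact conj_props_alg b h2

/-- The conjugation as a ring map. -/
noncomputable def conjHom {A B : Type u} [CommRing A] [CommRing B] (φ : A →+* B) (h : Rk2 φ)
    (h2 : IsUnit (2 : A)) : B →+* B where
  toFun := conj φ
  map_one' := (conj_props h h2).1
  map_mul' := (conj_props h h2).2.1
  map_zero' := by simp [conj]
  map_add' := (conj_props h h2).2.2.1

/-- Rank two and conjugation are compatible with base change. -/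
theorem baseChange {A B A' B' : Type u} [CommRing A] [CommRing B] [CommRing A'] [CommRing B']
    [Algebra A B] [Algebra A A'] [Algebra A' B'] [Algebra B B'] [Algebra A B']
    [IsScalarTower A A' B'] [IsScalarTower A B B'] [Algebra.IsPushout A A' B B']
    (b : Module.Basis (Fin 2) A B) :
    Nonempty (Module.Basis (Fin 2) A' B') ∧ ∀ x : B,
      Algebra.trace A' B' (algebraMap B B' x) = algebraMap A A' (Algebra.trace A B x) := by
  let e := Algebra.IsPushout.equiv A A' B B'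
  refine ⟨⟨(Algebra.TensorProduct.basis A' b).map e.toLinearEquiv⟩, fun x => ?_⟩
  haveI : Module.Free A B := .of_basis b
  haveI : Module.Finite A B := .of_basis b
  have hx : algebraMap B B' x = e ((1 : A') ⊗ₜ[A] x) :=
    ((Algebra.IsPushout.equiv_tmul A A' B B' 1 x).trans (by rw [map_one, one_mul])).symm
  rw [hx, Algebra.trace_eq_of_algEquiv e, Algebra.trace_apply, Algebra.trace_apply]
  rw [show Algebra.lmul A' (A' ⊗[A] B) ((1 : A') ⊗ₜ[A] x) = (Algebra.lmul A B x).baseChange A' from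
    (TensorProduct.AlgebraTensorModule.ext fun a y => by simp [LinearMap.baseChange_tmul])]
  exact LinearMap.trace_baseChange _ _

section Scheme

variable {X Y : Scheme.{u}} (f : X ⟶ Y)

/-- An affine open over which `X` is free of rank two. -/
def Good (U : Y.Opens) : Prop := IsAffineOpen U ∧ Rk2 (f.app U).hom

theorem isPushout_res [IsAffineHom f] {U V : Y.Opens} (hU : IsAffineOpen U) (hV : IsAffineOpen V)
    (hle : V ≤ U) :
    CategoryTheory.IsPushout (Y.presheaf.map (homOfLE hle).op) (f.app U) (f.app V)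
      (X.presheaf.map (homOfLE ((Opens.map f.base).map (homOfLE hle)).le).op) := by
  have hX : IsPullback (𝟙 X) f f (𝟙 Y) := IsPullback.of_horiz_isIso ⟨by simp⟩
  have e1 : V ≤ (𝟙 Y : Y ⟶ Y) ⁻¹ᵁ U := hle
  have hUY : f ⁻¹ᵁ V = (𝟙 X : X ⟶ X) ⁻¹ᵁ (f ⁻¹ᵁ U) ⊓ f ⁻¹ᵁ V :=
    (inf_eq_right.2 ((Opens.map f.base).map (homOfLE hle)).le).symm
  have hpo := (isIso_pushoutSection_iff hX e1 le_rfl hUY).1
    (isIso_pushoutSection_of_isAffineOpen hX e1 le_rfl hUY hU hV (hU.preimage f))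
  simp only [← Scheme.Hom.app_eq_appLE] at hpo
  have h1 : ∀ {Z : Scheme.{u}} {U V : Z.Opens} (e : V ≤ (𝟙 Z : Z ⟶ Z) ⁻¹ᵁ U),
      (𝟙 Z : Z ⟶ Z).appLE U V e = Z.presheaf.map (homOfLE (show V ≤ U from e)).op := fun e => by
    simp [Scheme.Hom.appLE]
    exact Category.id_comp _
  rw [h1, h1] at hpo
  exact hpo.flip

theorem good_of_le [IsAffineHom f] {U V : Y.Opens} (hU : Good f U) (hV : IsAffineOpen V)
    (hle : V ≤ U) : Good f V ∧ ∀ x : Γ(X, f ⁻¹ᵁ U),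
      (X.presheaf.map (homOfLE ((Opens.map f.base).map (homOfLE hle)).le).op).hom
          (conj (f.app U).hom x) =
        conj (f.app V).hom
          ((X.presheaf.map (homOfLE ((Opens.map f.base).map (homOfLE hle)).le).op).hom x) := by
  have hpo := isPushout_res f hU.1 hV hle
  set rA := Y.presheaf.map (homOfLE hle).op
  set rB := X.presheaf.map (homOfLE ((Opens.map f.base).map (homOfLE hle)).le).op
  algebraize [(f.app U).hom, rA.hom, (f.app V).hom, rB.hom, ((f.app V).hom.comp rA.hom)]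
  haveI : IsScalarTower Γ(Y, U) Γ(X, f ⁻¹ᵁ U) Γ(X, f ⁻¹ᵁ V) :=
    IsScalarTower.of_algebraMap_eq' (congrArg CommRingCat.Hom.hom hpo.w)
  haveI : Algebra.IsPushout Γ(Y, U) Γ(Y, V) Γ(X, f ⁻¹ᵁ U) Γ(X, f ⁻¹ᵁ V) :=
    CommRingCat.isPushout_iff_isPushout.mp hpo
  obtain ⟨b⟩ := hU.2
  obtain ⟨hb, htr⟩ := baseChange (A' := Γ(Y, V)) (B' := Γ(X, f ⁻¹ᵁ V)) b
  refine ⟨⟨hV, hb⟩, fun x => ?_⟩
  simp only [conj, map_sub]
  congr 1
  refine (RingHom.congr_fun (congrArg CommRingCat.Hom.hom hpo.w) _).symm.trans ?_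
  exact congrArg (f.app V).hom (htr x).symm

theorem exists_good [IsFinite f] [Flat f] [LocallyOfFinitePresentation f]
    (hrk : ∀ y : Y, f.finrank y = 2) (W : Y.Opens) (y : Y) (hy : y ∈ W) :
    ∃ V : Y.Opens, y ∈ V ∧ V ≤ W ∧ Good f V := by
  obtain ⟨U, hU, hyU, hUW⟩ := exists_isAffineOpen_mem_and_subset (U := W) hy
  have hP : IsAffineOpen (f ⁻¹ᵁ U) := hU.preimage f
  have hfin := f.finite_app U hU
  have hflat : (f.app U).hom.Flat := by
    rw [Scheme.Hom.app_eq_appLE]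
    exact f.flat_appLE hU hP le_rfl
  algebraize [(f.app U).hom]
  have hrank : ∀ t : PrimeSpectrum Γ(Y, U), Module.rankAtStalk (R := Γ(Y, U)) Γ(X, f ⁻¹ᵁ U) t = 2 := by
    intro t
    have hw : hP.fromSpec ≫ f = Spec.map (f.app U) ≫ hU.fromSpec := by
      rw [Scheme.Hom.app_eq_appLE, IsAffineOpen.SpecMap_appLE_fromSpec]
    have sq := IsOpenImmersion.isPullback (Spec.map (f.app U)) hP.fromSpec hU.fromSpec f hw
      (by rw [hU.opensRange_fromSpec, hP.opensRange_fromSpec])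
    have h := Scheme.Hom.finrank_of_isPullback _ _ _ _ sq.flip t
    rw [hrk, Scheme.Hom.finrank_SpecMap_eq_finrank hfin hflat] at h
    exact h
  obtain ⟨a, hap, hfree⟩ := Module.Free.away_of_finite_of_flat_of_rankAtStalk_constant
    (R := Γ(Y, U)) Γ(X, f ⁻¹ᵁ U) (hU.primeIdealOf ⟨y, hyU⟩).asIdeal (fun m _ => by rw [hrank, hrank])
  have hV := hU.basicOpen a
  have hle : Y.basicOpen a ≤ U := Y.basicOpen_le a
  have hyV : y ∈ Y.basicOpen a := by
    have : (hU.primeIdealOf ⟨y, hyU⟩) ∈ hU.fromSpec ⁻¹ᵁ Y.basicOpen a := by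
      rw [hU.fromSpec_preimage_basicOpen]
      exact hap
    change hU.fromSpec (hU.primeIdealOf ⟨y, hyU⟩) ∈ Y.basicOpen a at this
    rwa [hU.fromSpec_primeIdealOf] at this
  refine ⟨_, hyV, hle.trans hUW, hV, ?_⟩
  have hpo := isPushout_res f hU hV hle
  set rA := Y.presheaf.map (homOfLE hle).op
  set rB := X.presheaf.map (homOfLE ((Opens.map f.base).map (homOfLE hle)).le).op
  algebraize [rA.hom, (f.app (Y.basicOpen a)).hom, rB.hom,
    ((f.app (Y.basicOpen a)).hom.comp rA.hom)]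
  haveI : IsScalarTower Γ(Y, U) Γ(X, f ⁻¹ᵁ U) Γ(X, f ⁻¹ᵁ (Y.basicOpen a)) :=
    IsScalarTower.of_algebraMap_eq' (congrArg CommRingCat.Hom.hom hpo.w)
  haveI : Algebra.IsPushout Γ(Y, U) Γ(Y, Y.basicOpen a) Γ(X, f ⁻¹ᵁ U) Γ(X, f ⁻¹ᵁ (Y.basicOpen a)) :=
    CommRingCat.isPushout_iff_isPushout.mp hpo
  haveI : IsLocalization.Away a Γ(Y, Y.basicOpen a) := hU.isLocalization_basicOpen a
  let L := Localization.Away a
  haveI : Module.Free L (L ⊗[Γ(Y, U)] Γ(X, f ⁻¹ᵁ U)) :=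
    Module.Free.of_equiv
      (IsBaseChange.equiv (LocalizedModule.isBaseChange (Submonoid.powers a) Γ(X, f ⁻¹ᵁ U))).symm
  let eL : L ≃ₐ[Γ(Y, U)] Γ(Y, Y.basicOpen a) := IsLocalization.algEquiv (Submonoid.powers a) _ _
  letI : Algebra L Γ(Y, Y.basicOpen a) := eL.toAlgHom.toRingHom.toAlgebra
  haveI : IsScalarTower Γ(Y, U) L Γ(Y, Y.basicOpen a) :=
    IsScalarTower.of_algebraMap_eq' eL.toAlgHom.comp_algebraMap.symm
  haveI : Module.Free Γ(Y, Y.basicOpen a) Γ(X, f ⁻¹ᵁ (Y.basicOpen a)) :=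
    Module.Free.of_equiv
      ((TensorProduct.AlgebraTensorModule.cancelBaseChange Γ(Y, U) L Γ(Y, Y.basicOpen a)
          Γ(Y, Y.basicOpen a) Γ(X, f ⁻¹ᵁ U)).trans
        (Algebra.IsPushout.equiv Γ(Y, U) Γ(Y, Y.basicOpen a) Γ(X, f ⁻¹ᵁ U)
          Γ(X, f ⁻¹ᵁ (Y.basicOpen a))).toLinearEquiv)
  haveI : Nonempty (Y.basicOpen a : Y.Opens) := ⟨⟨y, hyV⟩⟩
  haveI : Nontrivial Γ(Y, Y.basicOpen a) := Scheme.component_nontrivial Y _
  haveI : Algebra.IsPushout Γ(Y, U) Γ(X, f ⁻¹ᵁ U) Γ(Y, Y.basicOpen a) Γ(X, f ⁻¹ᵁ (Y.basicOpen a)) :=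
    Algebra.IsPushout.symm inferInstance
  haveI : Module.Finite Γ(Y, Y.basicOpen a) Γ(X, f ⁻¹ᵁ (Y.basicOpen a)) :=
    f.finite_app _ hV
  let t : PrimeSpectrum Γ(Y, Y.basicOpen a) := hV.primeIdealOf ⟨y, hyV⟩
  refine ⟨Module.finBasisOfFinrankEq _ _ ?_⟩
  have h3 := congrFun (Module.rankAtStalk_eq_finrank_of_free (R := Γ(Y, Y.basicOpen a))
    (M := Γ(X, f ⁻¹ᵁ (Y.basicOpen a)))) t
  rw [Algebra.rankAtStalk_eq_of_isPushout Γ(Y, U) Γ(X, f ⁻¹ᵁ U) Γ(Y, Y.basicOpen a)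
    Γ(X, f ⁻¹ᵁ (Y.basicOpen a)), hrank] at h3
  exact h3.symm

theorem isUnit_two (h2 : IsUnit (2 : Γ(Y, ⊤))) (U : Y.Opens) : IsUnit (2 : Γ(Y, U)) := by
  have := h2.map (Y.presheaf.map (homOfLE le_top).op : Γ(Y, ⊤) ⟶ Γ(Y, U)).hom
  rwa [map_ofNat] at this

theorem exists_involution [IsFinite f] [Flat f] [LocallyOfFinitePresentation f]
    (hrk : ∀ y : Y, f.finrank y = 2) (h2 : IsUnit (2 : Γ(Y, ⊤))) :
    ∃ s : X ⟶ X, s ≫ f = f ∧ s ≫ s = 𝟙 X ∧ ∀ (U : Y.Opens), Good f U →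
      ∀ (e : f ⁻¹ᵁ U ≤ s ⁻¹ᵁ (f ⁻¹ᵁ U)) (x : Γ(X, f ⁻¹ᵁ U)),
        (s.appLE (f ⁻¹ᵁ U) (f ⁻¹ᵁ U) e).hom x = conj (f.app U).hom x := by
  let I := {U : Y.Opens // Good f U}
  have hP : ∀ U : I, IsAffineOpen (f ⁻¹ᵁ U.1) := fun U => U.2.1.preimage f
  let cH : ∀ U : I, Γ(X, f ⁻¹ᵁ U.1) ⟶ Γ(X, f ⁻¹ᵁ U.1) := fun U =>
    CommRingCat.ofHom (conjHom (f.app U.1).hom U.2.2 (isUnit_two h2 U.1))
  let ψ : ∀ U : I, (f ⁻¹ᵁ U.1).toScheme ⟶ (f ⁻¹ᵁ U.1).toScheme := fun U =>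
    (hP U).isoSpec.hom ≫ Spec.map (cH U) ≫ (hP U).isoSpec.inv
  have hψ : ∀ U : I, ψ U ≫ (f ⁻¹ᵁ U.1).ι = (hP U).isoSpec.hom ≫ Spec.map (cH U) ≫ (hP U).fromSpec :=
    fun U => by simp only [ψ, Category.assoc, IsAffineOpen.isoSpec_inv_ι]
  have hres : ∀ (U V : I) (hle : V.1 ≤ U.1),
      X.homOfLE ((Opens.map f.base).map (homOfLE hle)).le ≫ ψ U ≫ (f ⁻¹ᵁ U.1).ι =
        ψ V ≫ (f ⁻¹ᵁ V.1).ι := fun U V hle => by
    have e : X.homOfLE ((Opens.map f.base).map (homOfLE hle)).le ≫ (hP U).isoSpec.hom =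
        (hP V).isoSpec.hom ≫
          Spec.map (X.presheaf.map (homOfLE ((Opens.map f.base).map (homOfLE hle)).le).op) := by
      rw [← cancel_mono (hP U).fromSpec, Category.assoc, Category.assoc,
        IsAffineOpen.isoSpec_hom_fromSpec, (hP U).map_fromSpec (hP V),
        IsAffineOpen.isoSpec_hom_fromSpec, Scheme.homOfLE_ι]
    have e' : cH U ≫ X.presheaf.map (homOfLE ((Opens.map f.base).map (homOfLE hle)).le).op =
        X.presheaf.map (homOfLE ((Opens.map f.base).map (homOfLE hle)).le).op ≫ cH V :=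
      CommRingCat.hom_ext (RingHom.ext (good_of_le f U.2 V.2.1 hle).2)
    rw [hψ, hψ, reassoc_of% e, ← Spec.map_comp_assoc, e', Spec.map_comp_assoc,
      (hP U).map_fromSpec (hP V)]
  choose Wx hyWx _ hWxg using fun x : X => exists_good f hrk ⊤ (f.base x) trivial
  let 𝒰 : X.OpenCover := X.openCoverOfIsOpenCover (fun x => f ⁻¹ᵁ Wx x)
    (.mk (eq_top_iff.2 fun x _ => Opens.mem_iSup.2 ⟨x, hyWx x⟩))
  have hcompat : ∀ U U' : I, pullback.fst (f ⁻¹ᵁ U.1).ι (f ⁻¹ᵁ U'.1).ι ≫ ψ U ≫ (f ⁻¹ᵁ U.1).ι =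
      pullback.snd (f ⁻¹ᵁ U.1).ι (f ⁻¹ᵁ U'.1).ι ≫ ψ U' ≫ (f ⁻¹ᵁ U'.1).ι := by
    intro i j
    let k := pullback.fst (f ⁻¹ᵁ i.1).ι (f ⁻¹ᵁ j.1).ι ≫ (f ⁻¹ᵁ i.1).ι
    have hk : ∀ z, f.base (k z) ∈ i.1 ⊓ j.1 := fun z => by
      refine ⟨(pullback.fst (f ⁻¹ᵁ i.1).ι (f ⁻¹ᵁ j.1).ι z).2, ?_⟩
      have : k = pullback.snd (f ⁻¹ᵁ i.1).ι (f ⁻¹ᵁ j.1).ι ≫ (f ⁻¹ᵁ j.1).ι := pullback.condition
      rw [this]
      exact (pullback.snd (f ⁻¹ᵁ i.1).ι (f ⁻¹ᵁ j.1).ι z).2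
    choose l hl hle hlg using fun z => exists_good f hrk _ _ (hk z)
    let 𝒱 := (pullback (f ⁻¹ᵁ i.1).ι (f ⁻¹ᵁ j.1).ι).openCoverOfIsOpenCover
      (fun z => k ⁻¹ᵁ (f ⁻¹ᵁ l z))
      (.mk (eq_top_iff.2 fun z _ => Opens.mem_iSup.2 ⟨z, hl z⟩))
    refine 𝒱.hom_ext _ _ fun z => ?_
    let c : (k ⁻¹ᵁ (f ⁻¹ᵁ l z)).toScheme ⟶ (f ⁻¹ᵁ l z).toScheme := k.resLE _ _ le_rfl
    have hc : c ≫ (f ⁻¹ᵁ l z).ι = (k ⁻¹ᵁ (f ⁻¹ᵁ l z)).ι ≫ k := Scheme.Hom.resLE_comp_ι _ _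
    have hi : l z ≤ i.1 := (hle z).trans inf_le_left
    have hj : l z ≤ j.1 := (hle z).trans inf_le_right
    have e1 : c ≫ X.homOfLE ((Opens.map f.base).map (homOfLE hi)).le =
        (k ⁻¹ᵁ (f ⁻¹ᵁ l z)).ι ≫ pullback.fst (f ⁻¹ᵁ i.1).ι (f ⁻¹ᵁ j.1).ι := by
      rw [← cancel_mono (f ⁻¹ᵁ i.1).ι, Category.assoc, Scheme.homOfLE_ι, hc, Category.assoc]
    have e2 : c ≫ X.homOfLE ((Opens.map f.base).map (homOfLE hj)).le =
        (k ⁻¹ᵁ (f ⁻¹ᵁ l z)).ι ≫ pullback.snd (f ⁻¹ᵁ i.1).ι (f ⁻¹ᵁ j.1).ι := by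
      rw [← cancel_mono (f ⁻¹ᵁ j.1).ι, Category.assoc, Scheme.homOfLE_ι, hc, Category.assoc]
      simp only [k, pullback.condition]
    change (k ⁻¹ᵁ (f ⁻¹ᵁ l z)).ι ≫ _ = (k ⁻¹ᵁ (f ⁻¹ᵁ l z)).ι ≫ _
    rw [← reassoc_of% e1, ← reassoc_of% e2, hres i ⟨l z, hlg z⟩ hi, hres j ⟨l z, hlg z⟩ hj]
  let W : X → I := fun x => ⟨Wx x, hWxg x⟩
  let s : X ⟶ X := 𝒰.glueMorphisms (fun x => ψ (W x) ≫ (f ⁻¹ᵁ (W x).1).ι)
    fun a b => hcompat (W a) (W b)
  have hs : ∀ U : I, (f ⁻¹ᵁ U.1).ι ≫ s = ψ U ≫ (f ⁻¹ᵁ U.1).ι := fun U => by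
    let 𝒱 := (f ⁻¹ᵁ U.1).toScheme.openCoverOfIsOpenCover
      (fun z : (f ⁻¹ᵁ U.1).toScheme => (f ⁻¹ᵁ U.1).ι ⁻¹ᵁ (f ⁻¹ᵁ Wx z.1))
      (.mk (eq_top_iff.2 fun z _ => Opens.mem_iSup.2 ⟨z, hyWx z.1⟩))
    refine 𝒱.hom_ext _ _ fun z => ?_
    let V := (f ⁻¹ᵁ U.1).ι ⁻¹ᵁ (f ⁻¹ᵁ Wx z.1)
    let c : V.toScheme ⟶ (f ⁻¹ᵁ Wx z.1).toScheme := (f ⁻¹ᵁ U.1).ι.resLE _ _ le_rfl
    have hc : c ≫ (f ⁻¹ᵁ Wx z.1).ι = V.ι ≫ (f ⁻¹ᵁ U.1).ι := Scheme.Hom.resLE_comp_ι _ _
    have h1 : (f ⁻¹ᵁ Wx z.1).ι ≫ s = ψ (W z.1) ≫ (f ⁻¹ᵁ Wx z.1).ι := 𝒰.ι_glueMorphisms _ _ z.1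
    change V.ι ≫ (f ⁻¹ᵁ U.1).ι ≫ s = V.ι ≫ ψ U ≫ (f ⁻¹ᵁ U.1).ι
    rw [← reassoc_of% hc, h1]
    have h3 := pullback.lift_fst (f := (f ⁻¹ᵁ (W z.1).1).ι) (g := (f ⁻¹ᵁ U.1).ι) c V.ι hc
    have h4 := pullback.lift_snd (f := (f ⁻¹ᵁ (W z.1).1).ι) (g := (f ⁻¹ᵁ U.1).ι) c V.ι hc
    rw [← h3, Category.assoc]
    erw [hcompat (W z.1) U]
    rw [reassoc_of% h4]
  refine ⟨s, 𝒰.hom_ext _ _ fun x => ?_, 𝒰.hom_ext _ _ fun x => ?_, fun U hU e a => ?_⟩
  · change (f ⁻¹ᵁ (W x).1).ι ≫ s ≫ f = (f ⁻¹ᵁ (W x).1).ι ≫ f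
    have hw : (hP (W x)).fromSpec ≫ f = Spec.map (f.app (W x).1) ≫ (W x).2.1.fromSpec := by
      simp only [Scheme.Hom.app_eq_appLE]
      exact (IsAffineOpen.SpecMap_appLE_fromSpec f (W x).2.1 (hP (W x)) le_rfl).symm
    have e' : f.app (W x).1 ≫ cH (W x) = f.app (W x).1 :=
      CommRingCat.hom_ext (RingHom.ext
        (conj_props (W x).2.2 (isUnit_two h2 (W x).1)).2.2.2.2.1)
    rw [reassoc_of% (hs (W x)), reassoc_of% (hψ (W x)), hw, ← Spec.map_comp_assoc, e', ← hw,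
      IsAffineOpen.isoSpec_hom_fromSpec_assoc]
  · change (f ⁻¹ᵁ (W x).1).ι ≫ s ≫ s = (f ⁻¹ᵁ (W x).1).ι ≫ 𝟙 X
    have e' : cH (W x) ≫ cH (W x) = 𝟙 _ :=
      CommRingCat.hom_ext (RingHom.ext (conj_props (W x).2.2 (isUnit_two h2 (W x).1)).2.2.2.1)
    rw [reassoc_of% (hs (W x)), hs]
    simp only [ψ, Category.assoc, Iso.inv_hom_id_assoc, ← Spec.map_comp_assoc, e', Spec.map_id,
      Category.id_comp, Iso.hom_inv_id_assoc, Category.comp_id]
  · have h := IsAffineOpen.SpecMap_appLE_fromSpec s (hP ⟨U, hU⟩) (hP ⟨U, hU⟩) e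
    have h' : (hP ⟨U, hU⟩).fromSpec ≫ s = Spec.map (cH ⟨U, hU⟩) ≫ (hP ⟨U, hU⟩).fromSpec := by
      rw [← IsAffineOpen.isoSpec_inv_ι, Category.assoc, hs, hψ, Iso.inv_hom_id_assoc,
        IsAffineOpen.isoSpec_inv_ι]
    rw [h', cancel_mono] at h
    exact congrArg (fun m => m.hom a) (Spec.map_injective h)

end Scheme

end Aux

/-- Let f : X → Y be a double cover, i.e. a finite, flat, locally finitely presented morphism of rank 2
at every point, and assume 2 is invertible in O_Y(Y). Then X carries a Y-automorphism σ with σ ∘ σ =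
id such that f is the quotient of X by the group generated by σ: f is affine and σ-invariant, and
over every open subset of Y the sections of O_Y are exactly the σ-invariant sections of O_X. (The
source adds that σ has order exactly 2, which holds as soon as X is non-empty.) -/
theorem result {X Y : Scheme.{u}} (f : X ⟶ Y)
    [IsFinite f] [Flat f] [LocallyOfFinitePresentation f] (hrk : ∀ y : Y, f.finrank y = 2)
    (h2 : IsUnit (2 : Γ(Y, ⊤))) :
    ∃ σ : Aut X, σ.hom ≫ f = f ∧ σ * σ = 1 ∧ SGA1.IsQuot (Subgroup.zpowers σ).subtype f := by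
  obtain ⟨s, hsf, hss, hsec⟩ := exists_involution f hrk h2
  refine ⟨⟨s, s, hss, hss⟩, hsf, Aut.ext hss, ?_⟩
  set σ : Aut X := ⟨s, s, hss, hss⟩
  have hσ2 : σ * σ = 1 := Aut.ext hss
  have hinv : ∀ g : Subgroup.zpowers σ, ((Subgroup.zpowers σ).subtype g).hom ≫ f = f := by
    rintro ⟨g, hg⟩
    obtain ⟨n, rfl⟩ := Subgroup.mem_zpowers_iff.1 hg
    change (σ ^ n).hom ≫ f = f
    rcases Int.even_or_odd n with ⟨m, rfl⟩ | ⟨m, rfl⟩
    · rw [← two_mul, zpow_mul, zpow_two, hσ2, one_zpow]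
      exact Category.id_comp f
    · rw [zpow_add, zpow_mul, zpow_two, hσ2, one_zpow, one_mul, zpow_one]
      exact hsf
  refine Groth.Agent.SGA1QuotLib.isQuot_of_forall_exists hinv fun U y hy => ?_
  obtain ⟨V, hyV, hVU, hV⟩ := exists_good f hrk U y hy
  obtain ⟨-, -, -, -, -, hfix, hinj⟩ := conj_props hV.2 (isUnit_two h2 V)
  refine ⟨V, hyV, hVU, hinj, fun x hx => hfix x ?_⟩
  exact (hsec V hV _ x).symm.trans (hx ⟨σ, Subgroup.mem_zpowers σ⟩)

end Groth.Agent.S18900
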