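import Groth.Statements.S18905
-- import your own Groth.Agent.* helpers here

set_option autoImplicit false
set_option linter.style.haveILetI false
set_option backward.isDefEq.respectTransparency false
universe u
open CategoryTheory CategoryTheory.Limits AlgebraicGeometry
open Mor

namespace Groth.Agent.S18905

/-- Affine algebra criterion: `Ω = 0` as soon as there are no nonzero point derivations. -/
lemma formallyUnramified_of_forall {k A : Type u} [Field k] [IsAlgClosed k] [CommRing A]
    [Algebra k A] [Algebra.FiniteType k A]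
    (H : ∀ φ₁ φ₂ : A →ₐ[k] DualNumber k,
      (TrivSqZeroExt.fstHom k k k).comp φ₁ = (TrivSqZeroExt.fstHom k k k).comp φ₂ → φ₁ = φ₂) :
    Algebra.FormallyUnramified k A := by
  refine ⟨?_⟩
  by_contra hne
  rw [not_subsingleton_iff_nontrivial] at hne
  obtain ⟨N, hN, -⟩ := (eq_top_or_exists_le_coatom (⊥ : Submodule A (KaehlerDifferential k A))).resolve_left
    bot_ne_top
  haveI : IsSimpleModule A (KaehlerDifferential k A ⧸ N) := isSimpleModule_iff_isCoatom.2 hN
  obtain ⟨m, hm, ⟨e⟩⟩ := isSimpleModule_iff_quot_maximal.mp this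
  haveI := hm
  letI : Field (A ⧸ m) := Ideal.Quotient.field m
  haveI : Module.Finite k (A ⧸ m) := finite_of_finite_type_of_isJacobsonRing k (A ⧸ m)
  let χ : (A ⧸ m) ≃ₐ[k] k :=
    (AlgEquiv.ofBijective (Algebra.ofId k (A ⧸ m))
      IsAlgClosed.algebraMap_bijective_of_isIntegral).symm
  let ψ : KaehlerDifferential k A →ₗ[A] A ⧸ m := e.toLinearMap ∘ₗ N.mkQ
  let D := ψ.compDer (KaehlerDifferential.D k A)
  have hmul : ∀ (a : A) (z : A ⧸ m), χ (a • z) = χ (Ideal.Quotient.mk m a) * χ z := fun a z => by
    rw [← map_mul, Algebra.smul_def]; rfl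
  let φ₁ : A →ₐ[k] DualNumber k :=
    (TrivSqZeroExt.inlAlgHom k k k).comp (χ.toAlgHom.comp (Ideal.Quotient.mkₐ k m))
  let φ₂ : A →ₐ[k] DualNumber k := AlgHom.ofLinearMap
    (φ₁.toLinearMap + (TrivSqZeroExt.inrHom k k).restrictScalars k ∘ₗ χ.toLinearMap ∘ₗ D.toLinearMap)
    (by
      ext
      · simp [φ₁]
      · simp [φ₁])
    (fun a b => by
      ext
      · simp [φ₁]
      · simp [φ₁, D.leibniz, hmul]; ring)
  have h12 : φ₁ = φ₂ := H φ₁ φ₂ (by ext a; simp [φ₁, φ₂])
  have hD : ∀ a, D a = 0 := fun a => by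
    have := congrArg TrivSqZeroExt.snd (AlgHom.congr_fun h12 a)
    simp [φ₁, φ₂] at this
    exact (map_eq_zero_iff χ χ.injective).1 this.symm
  have hψ : ψ = 0 := by
    refine LinearMap.ext_on_range (KaehlerDifferential.span_range_derivation k A) fun a => ?_
    simpa [D] using hD a
  have hs : Function.Surjective ψ := e.surjective.comp N.mkQ_surjective
  obtain ⟨x, hx⟩ := hs 1
  rw [hψ] at hx
  exact zero_ne_one hx

/-- Let k be an algebraically closed field and X a scheme locally of finite type over k. Then X → Spec k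
is formally unramified if and only if the map Hom_k(Spec k[ε], X) → Hom_k(Spec k, X) given by
restricting along the closed immersion of Spec k into Spec k[ε] (k[ε] the ring of dual numbers, ε ↦
0), is bijective; since that map is always surjective, the condition is stated as injectivity: two
k-morphisms from Spec k[ε] to X which agree on Spec k are equal. -/
theorem result (k : Type u) [Field k] [IsAlgClosed k]
    {X : Scheme.{u}} (p : X ⟶ Spec (CommRingCat.of k)) [LocallyOfFiniteType p] :
    FormallyUnramified p ↔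
      ∀ v₁ v₂ : Spec (CommRingCat.of (DualNumber k)) ⟶ X,
        v₁ ≫ p = Spec.map (CommRingCat.ofHom (algebraMap k (DualNumber k))) →
        v₂ ≫ p = Spec.map (CommRingCat.ofHom (algebraMap k (DualNumber k))) →
        Spec.map (CommRingCat.ofHom (TrivSqZeroExt.fstHom k k k).toRingHom) ≫ v₁ =
          Spec.map (CommRingCat.ofHom (TrivSqZeroExt.fstHom k k k).toRingHom) ≫ v₂ →
        v₁ = v₂ := by
  haveI : Subsingleton ↥(Spec (CommRingCat.of k)) := inferInstance
  set π := (TrivSqZeroExt.fstHom k k k)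
  have hsurj : Function.Surjective π := fun a => ⟨TrivSqZeroExt.inl a, by simp [π]⟩
  have hnil : IsNilpotent (RingHom.ker π.toRingHom) := ⟨2, by
    refine eq_bot_iff.2 ?_
    rw [Submodule.pow_succ, Submodule.pow_one, Ideal.mul_le]
    intro a ha b hb
    simp only [RingHom.mem_ker] at ha hb
    simp only [Submodule.mem_bot]
    ext
    · simp [show a.fst = 0 from ha]
    · simp [show a.fst = 0 from ha, show b.fst = 0 from hb]⟩
  constructor
  · intro hp v₁ v₂ h₁ h₂ h
    obtain ⟨q₀⟩ : Nonempty ↥(Spec (CommRingCat.of k)) := inferInstance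
    have hpt : ∀ q, ∃ r, Spec.map (CommRingCat.ofHom π.toRingHom) r = q := by
      intro q
      have hu : Set.range (PrimeSpectrum.comap π.toRingHom) = Set.univ := by
        rw [range_comap_of_surjective _ _ hsurj, PrimeSpectrum.zeroLocus_eq_univ_iff]
        intro a ha
        obtain ⟨n, hn⟩ := hnil
        refine ⟨n, ?_⟩
        have := Ideal.pow_mem_pow ha n
        rw [hn] at this
        exact this
      obtain ⟨r, hr⟩ := Set.eq_univ_iff_forall.1 hu q
      exact ⟨r, hr⟩
    let i := X.affineCover.idx (v₁ (Spec.map (CommRingCat.ofHom π.toRingHom) q₀))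
    have hb : ∀ q, v₁ q = v₁ (Spec.map (CommRingCat.ofHom π.toRingHom) q₀) ∧ v₂ q = v₁ q := by
      intro q
      obtain ⟨r, rfl⟩ := hpt q
      obtain rfl : r = q₀ := Subsingleton.elim _ _
      exact ⟨rfl, by rw [← Scheme.Hom.comp_apply, ← h, Scheme.Hom.comp_apply]⟩
    have hr₁ : Set.range v₁ ⊆ Set.range (X.affineCover.f i) := by
      rintro _ ⟨q, rfl⟩; rw [(hb q).1]; exact X.affineCover.covers _
    have hr₂ : Set.range v₂ ⊆ Set.range (X.affineCover.f i) := by
      rintro _ ⟨q, rfl⟩; rw [(hb q).2, (hb q).1]; exact X.affineCover.covers _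
    obtain ⟨a₁, ha₁⟩ := Spec.map_surjective (IsOpenImmersion.lift (X.affineCover.f i) v₁ hr₁)
    obtain ⟨a₂, ha₂⟩ := Spec.map_surjective (IsOpenImmersion.lift (X.affineCover.f i) v₂ hr₂)
    have e₁ : v₁ = Spec.map a₁ ≫ X.affineCover.f i := by rw [ha₁, IsOpenImmersion.lift_fac]
    have e₂ : v₂ = Spec.map a₂ ≫ X.affineCover.f i := by rw [ha₂, IsOpenImmersion.lift_fac]
    obtain ⟨c, hc⟩ := Spec.map_surjective (X.affineCover.f i ≫ p)
    haveI : FormallyUnramified (X.affineCover.f i ≫ p) :=
      MorphismProperty.comp_mem _ _ _ (inferInstanceAs (FormallyUnramified (X.affineCover.f i))) hp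
    have hu := (HasRingHomProperty.Spec_iff (P := @FormallyUnramified)).1 (hc ▸ this)
    algebraize [c.hom]
    rw [e₁, Category.assoc, ← hc, ← Spec.map_comp, Spec.map_inj] at h₁
    rw [e₂, Category.assoc, ← hc, ← Spec.map_comp, Spec.map_inj] at h₂
    rw [e₁, e₂, ← Category.assoc, ← Category.assoc, cancel_mono, ← Spec.map_comp, ← Spec.map_comp,
      Spec.map_inj] at h
    let b₁ : _ →ₐ[k] DualNumber k := ⟨a₁.hom, fun r => congr($h₁ r)⟩
    let b₂ : _ →ₐ[k] DualNumber k := ⟨a₂.hom, fun r => congr($h₂ r)⟩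
    have hb' : b₁ = b₂ := Algebra.FormallyUnramified.ext' π.toRingHom hnil b₁ b₂
      (fun r => congr($h r))
    have : a₁ = a₂ := CommRingCat.hom_ext (RingHom.ext fun r => AlgHom.congr_fun hb' r)
    rw [e₁, e₂, this]
  · intro H
    rw [IsZariskiLocalAtSource.iff_of_openCover (P := @FormallyUnramified) X.affineCover]
    intro i
    obtain ⟨c, hc⟩ := Spec.map_surjective (X.affineCover.f i ≫ p)
    show FormallyUnramified (X.affineCover.f i ≫ p)
    haveI : LocallyOfFiniteType (X.affineCover.f i ≫ p) := inferInstance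
    have hft := (HasRingHomProperty.Spec_iff (P := @LocallyOfFiniteType)).1 (hc ▸ this)
    rw [← hc, HasRingHomProperty.Spec_iff (P := @FormallyUnramified)]
    algebraize [c.hom]
    refine formallyUnramified_of_forall fun φ₁ φ₂ hφ => ?_
    have := H (Spec.map (CommRingCat.ofHom φ₁.toRingHom) ≫ X.affineCover.f i)
      (Spec.map (CommRingCat.ofHom φ₂.toRingHom) ≫ X.affineCover.f i)
      (by
        rw [Category.assoc, ← hc, ← Spec.map_comp, Spec.map_inj]
        exact CommRingCat.hom_ext φ₁.comp_algebraMap)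
      (by
        rw [Category.assoc, ← hc, ← Spec.map_comp, Spec.map_inj]
        exact CommRingCat.hom_ext φ₂.comp_algebraMap)
      (by
        rw [← Category.assoc, ← Category.assoc, cancel_mono, ← Spec.map_comp, ← Spec.map_comp,
          Spec.map_inj]
        exact CommRingCat.hom_ext (congrArg AlgHom.toRingHom hφ))
    rw [cancel_mono, Spec.map_inj] at this
    exact AlgHom.ext fun r => congr($this r)

end Groth.Agent.S18905
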