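import Groth.Statements.S18907
import Mathlib
import Groth.Agent.RelProjBasic.Proper
import Groth.Agent.SGA1QuotLib.Finite
-- import your own Groth.Agent.* helpers here

set_option autoImplicit false
universe u
open CategoryTheory CategoryTheory.Limits AlgebraicGeometry
open Curves

namespace Groth.Agent.S18907

section Aux
set_option linter.style.haveILetI false

section Algebra

open Polynomial

/-- Algebra: a retract `B ⊆ A` with `A` finite over `B` and finitely presented over `R` is finitely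
presented over `R`. -/
theorem finitePresentation_of_retract {R B A : Type u} [CommRing R] [CommRing B] [CommRing A]
    [Algebra R B] [Algebra B A] [Algebra R A] [IsScalarTower R B A]
    [Module.Finite B A] [Algebra.FinitePresentation R A]
    (r : A →ₗ[B] B) (hr : r 1 = 1) : Algebra.FinitePresentation R B := by
  classical
  obtain ⟨gens, hgens⟩ := (inferInstance : Algebra.FiniteType R A).out
  haveI : Algebra.IsIntegral B A := Algebra.IsIntegral.of_finite B A
  choose p hp hp0 using fun a : A => Algebra.IsIntegral.isIntegral (R := B) a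
  let s : Finset B := gens.biUnion fun a => (p a).coeffs
  let C := MvPolynomial s R
  let φ : C →ₐ[R] B := MvPolynomial.aeval (fun c : s => (c : B))
  letI : Algebra C B := φ.toRingHom.toAlgebra
  letI : Algebra C A := ((algebraMap B A).comp φ.toRingHom).toAlgebra
  haveI : IsScalarTower C B A := IsScalarTower.of_algebraMap_eq' rfl
  haveI : IsScalarTower R C B := IsScalarTower.of_algebraMap_eq' φ.comp_algebraMap.symm
  haveI : IsScalarTower R C A := IsScalarTower.of_algebraMap_eq fun x => by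
    change algebraMap R A x = algebraMap B A (φ (algebraMap R C x))
    rw [AlgHom.commutes, ← IsScalarTower.algebraMap_apply R B A]
  have hint : ∀ a ∈ gens, IsIntegral C a := fun a ha => by
    have hl : p a ∈ Polynomial.lifts (algebraMap C B) := by
      rw [Polynomial.lifts_iff_coeff_lifts]
      intro k
      by_cases h : (p a).coeff k = 0
      · exact ⟨0, by rw [map_zero, h]⟩
      · refine ⟨MvPolynomial.X ⟨(p a).coeff k, Finset.mem_biUnion.2 ⟨a, ha, Polynomial.coeff_mem_coeffs h⟩⟩, ?_⟩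
        exact MvPolynomial.aeval_X _ _
    obtain ⟨q, hq, -, hqm⟩ := Polynomial.lifts_and_natDegree_eq_and_monic hl (hp a)
    refine ⟨q, hqm, ?_⟩
    rw [IsScalarTower.algebraMap_eq C B A, ← Polynomial.eval₂_map, hq]
    exact hp0 a
  haveI : Algebra.FiniteType C A := Algebra.FiniteType.of_restrictScalars_finiteType R C A
  haveI : Algebra.IsIntegral C A := by
    have hle : Algebra.adjoin R (gens : Set A) ≤ (integralClosure C A).restrictScalars R :=
      Algebra.adjoin_le fun a ha => hint a ha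
    exact ⟨fun a => hle (hgens.symm ▸ Algebra.mem_top)⟩
  haveI : Module.Finite C A := Algebra.IsIntegral.finite
  haveI : Algebra.FinitePresentation C A :=
    Algebra.FinitePresentation.of_restrict_scalars_finitePresentation R C A
  haveI : Module.FinitePresentation C A :=
    Module.FinitePresentation.of_finite_of_finitePresentation C A
  let rC : A →ₗ[C] B := r.restrictScalars C
  let iC : B →ₗ[C] A := (Algebra.linearMap B A).restrictScalars C
  have hri : rC ∘ₗ iC = LinearMap.id := by
    refine LinearMap.ext fun b => ?_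
    change r (algebraMap B A b) = b
    rw [Algebra.algebraMap_eq_smul_one, map_smul, hr, smul_eq_mul, mul_one]
  haveI : Module.FinitePresentation C B := by
    refine Module.finitePresentation_of_surjective rC (fun b => ⟨iC b, LinearMap.congr_fun hri b⟩) ?_
    rw [LinearMap.ker_eq_range_of_comp_eq_id hri]
    rw [LinearMap.range_eq_map]
    exact Submodule.FG.map _ (Module.Finite.fg_top)
  exact Algebra.FinitePresentation.trans R C B

end Algebra

section Scheme

open Groth.Agent.SGA1QuotLib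

variable {X Y S : Scheme.{u}} {G : Type u} [Group G] [Finite G] {ρ : G →* Aut X} {π : X ⟶ Y}

theorem isOpenMap_of_isQuot (hp : SGA1.IsQuot ρ π) : IsOpenMap π.base := by
  intro U hU
  rw [← (isQuotientMap hp).isOpen_preimage]
  have : π.base ⁻¹' (π.base '' U) = ⋃ g : G, (ρ g).hom.base ⁻¹' U := by
    ext x
    constructor
    · rintro ⟨x', hx', h⟩
      obtain ⟨g, hg⟩ := exists_orbit hp h.symm
      refine Set.mem_iUnion.2 ⟨g, ?_⟩
      change (ρ g).hom.base x ∈ U
      rw [hg]; exact hx'
    · intro hx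
      obtain ⟨g, hg⟩ := Set.mem_iUnion.1 hx
      refine ⟨_, hg, ?_⟩
      rw [← Scheme.Hom.comp_apply, hp.inv g]
  rw [this]
  exact isOpen_iUnion fun g => hU.preimage (ρ g).hom.continuous

/-- Averaging over the group on sections of an invariant affine open. -/
theorem exists_retraction (hp : SGA1.IsQuot ρ π) (V : Y.Opens)
    (hn : IsUnit ((Nat.card G : ℕ) : Γ(Y, V))) :
    letI := (π.app V).hom.toAlgebra
    ∃ r : Γ(X, π ⁻¹ᵁ V) →ₗ[Γ(Y, V)] Γ(Y, V), r 1 = 1 := by
  classical
  cases nonempty_fintype G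
  letI := (π.app V).hom.toAlgebra
  have hfix : ∀ a, (∑ g, act hp V g a) ∈ Set.range (π.app V).hom := fun a => by
    refine (hp.range_iff V _).2 fun h => ?_
    change act hp V h (∑ g, act hp V g a) = _
    rw [map_sum]
    refine Fintype.sum_equiv (Equiv.mulRight h) _ _ fun g => ?_
    rw [Equiv.coe_mulRight, act_mul]
    rfl
  choose s hs using hfix
  have hinj := hp.injective V
  let sL : Γ(X, π ⁻¹ᵁ V) →ₗ[Γ(Y, V)] Γ(Y, V) :=
    { toFun := s
      map_add' := fun a b => hinj (by simp only [map_add, hs, Finset.sum_add_distrib])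
      map_smul' := fun c a => hinj (by
        rw [RingHom.id_apply, smul_eq_mul, map_mul, hs, hs, Finset.mul_sum]
        refine Finset.sum_congr rfl fun g _ => ?_
        rw [Algebra.smul_def, map_mul, RingHom.algebraMap_toAlgebra, act_app]) }
  refine ⟨(↑hn.unit⁻¹ : Γ(Y, V)) • sL, ?_⟩
  have h1 : sL 1 = (Nat.card G : Γ(Y, V)) := hinj (by
    change (π.app V).hom (s 1) = _
    rw [hs, map_natCast]
    simp only [map_one, Finset.sum_const, Finset.card_univ, Nat.card_eq_fintype_card, nsmul_eq_mul, mul_one])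
  rw [LinearMap.smul_apply, smul_eq_mul, h1]
  exact IsUnit.val_inv_mul hn

theorem isUnit_card (q : Y ⟶ S) (hn : IsUnit ((Nat.card G : ℕ) : Γ(S, ⊤))) (V : Y.Opens) :
    IsUnit ((Nat.card G : ℕ) : Γ(Y, V)) := by
  have := hn.map (q.appLE ⊤ V le_top).hom
  rwa [map_natCast] at this

theorem flat_of_quot (hp : SGA1.IsQuot ρ π) (f : X ⟶ S) (q : Y ⟶ S) (hq : π ≫ q = f)
    (hn : IsUnit ((Nat.card G : ℕ) : Γ(S, ⊤))) [Flat f] : Flat q := by
  rw [HasRingHomProperty.iff_appLE (P := @Flat)]
  intro W V e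
  obtain ⟨r, hr⟩ := exists_retraction hp V.1 (isUnit_card q hn V.1)
  haveI := hp.affine
  subst hq
  have e' : π ⁻¹ᵁ V.1 ≤ (π ≫ q) ⁻¹ᵁ W.1 := fun z hz => e hz
  letI := (q.appLE W.1 V.1 e).hom.toAlgebra
  letI := ((π ≫ q).appLE W.1 (π ⁻¹ᵁ V.1) e').hom.toAlgebra
  letI := (π.app V.1).hom.toAlgebra
  haveI : IsScalarTower Γ(S, W.1) Γ(Y, V.1) Γ(X, π ⁻¹ᵁ V.1) := IsScalarTower.of_algebraMap_eq' (by
    change ((π ≫ q).appLE W.1 (π ⁻¹ᵁ V.1) e').hom = (π.app V.1).hom.comp (q.appLE W.1 V.1 e).hom
    rw [← CommRingCat.hom_comp, Scheme.Hom.app_eq_appLE, Scheme.Hom.appLE_comp_appLE])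
  haveI : Module.Flat Γ(S, W.1) Γ(X, π ⁻¹ᵁ V.1) :=
    (π ≫ q).flat_appLE W.2 (V.2.preimage π) e'
  exact Module.Flat.of_retract ((Algebra.linearMap Γ(Y, V.1) Γ(X, π ⁻¹ᵁ V.1)).restrictScalars Γ(S, W.1))
    (r.restrictScalars Γ(S, W.1)) (LinearMap.ext fun b => by
      change r (algebraMap _ _ b) = b
      rw [Algebra.algebraMap_eq_smul_one, map_smul, hr, smul_eq_mul, mul_one])

theorem lfp_of_quot (hp : SGA1.IsQuot ρ π) (f : X ⟶ S) (q : Y ⟶ S) (hq : π ≫ q = f)
    (hn : IsUnit ((Nat.card G : ℕ) : Γ(S, ⊤))) [LocallyOfFinitePresentation f] :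
    LocallyOfFinitePresentation q := by
  haveI := isFinite_of_comp hp f q hq
  rw [HasRingHomProperty.iff_appLE (P := @LocallyOfFinitePresentation)]
  intro W V e
  obtain ⟨r, hr⟩ := exists_retraction hp V.1 (isUnit_card q hn V.1)
  subst hq
  have e' : π ⁻¹ᵁ V.1 ≤ (π ≫ q) ⁻¹ᵁ W.1 := fun z hz => e hz
  letI := (q.appLE W.1 V.1 e).hom.toAlgebra
  letI := ((π ≫ q).appLE W.1 (π ⁻¹ᵁ V.1) e').hom.toAlgebra
  letI := (π.app V.1).hom.toAlgebra
  haveI : IsScalarTower Γ(S, W.1) Γ(Y, V.1) Γ(X, π ⁻¹ᵁ V.1) := IsScalarTower.of_algebraMap_eq' (by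
    change ((π ≫ q).appLE W.1 (π ⁻¹ᵁ V.1) e').hom = (π.app V.1).hom.comp (q.appLE W.1 V.1 e).hom
    rw [← CommRingCat.hom_comp, Scheme.Hom.app_eq_appLE, Scheme.Hom.appLE_comp_appLE])
  haveI : Algebra.FinitePresentation Γ(S, W.1) Γ(X, π ⁻¹ᵁ V.1) :=
    HasRingHomProperty.appLE @LocallyOfFinitePresentation (π ≫ q) inferInstance W ⟨_, V.2.preimage π⟩ e'
  haveI : Module.Finite Γ(Y, V.1) Γ(X, π ⁻¹ᵁ V.1) := IsFinite.finite_app π V.1 V.2
  exact finitePresentation_of_retract r hr

theorem lfp_quotMap (hp : SGA1.IsQuot ρ π) (f : X ⟶ S) (q : Y ⟶ S) (hq : π ≫ q = f)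
    [LocallyOfFinitePresentation f] [LocallyOfFiniteType q] : LocallyOfFinitePresentation π := by
  haveI := hp.affine
  subst hq
  rw [HasRingHomProperty.iff_exists_appLE (P := @LocallyOfFinitePresentation)
    (RingHom.finitePresentation_stableUnderComposition.stableUnderCompositionWithLocalizationAway
      RingHom.finitePresentation_holdsForLocalizationAway).1]
  intro x
  obtain ⟨W, hW, hxW, -⟩ := exists_isAffineOpen_mem_and_subset (TopologicalSpace.Opens.mem_top (q (π x)))
  obtain ⟨V, hV, hxV, hVW⟩ := exists_isAffineOpen_mem_and_subset (U := q ⁻¹ᵁ W) (x := π x) hxW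
  have e' : π ⁻¹ᵁ V ≤ (π ≫ q) ⁻¹ᵁ W := fun z hz => hVW hz
  refine ⟨⟨V, hV⟩, ⟨π ⁻¹ᵁ V, hV.preimage π⟩, hxV, le_rfl, ?_⟩
  letI := (q.appLE W V hVW).hom.toAlgebra
  letI := ((π ≫ q).appLE W (π ⁻¹ᵁ V) e').hom.toAlgebra
  letI := (π.appLE V (π ⁻¹ᵁ V) le_rfl).hom.toAlgebra
  haveI : IsScalarTower Γ(S, W) Γ(Y, V) Γ(X, π ⁻¹ᵁ V) := IsScalarTower.of_algebraMap_eq' (by
    change ((π ≫ q).appLE W (π ⁻¹ᵁ V) e').hom = (π.appLE V (π ⁻¹ᵁ V) le_rfl).hom.comp (q.appLE W V hVW).hom
    rw [← CommRingCat.hom_comp, Scheme.Hom.appLE_comp_appLE])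
  haveI : Algebra.FinitePresentation Γ(S, W) Γ(X, π ⁻¹ᵁ V) :=
    HasRingHomProperty.appLE @LocallyOfFinitePresentation (π ≫ q) inferInstance ⟨W, hW⟩ ⟨_, hV.preimage π⟩ e'
  haveI : Algebra.FiniteType Γ(S, W) Γ(Y, V) :=
    HasRingHomProperty.appLE @LocallyOfFiniteType q inferInstance ⟨W, hW⟩ ⟨V, hV⟩ hVW
  exact Algebra.FinitePresentation.of_restrict_scalars_finitePresentation Γ(S, W) Γ(Y, V) Γ(X, π ⁻¹ᵁ V)

end Scheme

end Aux

/-- Let f : X → S be a projective morphism of schemes (X ≅ Proj of a quasi-coherent graded O_S-algebra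
generated in degree one with degree-one part of finite type), G a finite group acting on X by
S-automorphisms, and π : X → Y, with q : Y → S and π ≫ q = f, a quotient of X by G: π is affine and
G-invariant and over every open of Y the sections of O_Y are exactly the G-invariant sections of
O_X. Then π is surjective, finite, open and closed. If moreover the order of G is invertible in
O_S(S), then: Y is flat over S whenever X is; q is separated; and if f is locally of finite
presentation then q is proper and locally of finite presentation and π is locally of finite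
presentation. (The existence of the quotient, parts (1), (2), and the base-change statement (5) of
the source are not stated.) -/
theorem result {X Y S : Scheme.{u}} (f : X ⟶ S)
    (hf : RelProj.IsProjective f)
    {G : Type u} [Group G] [Finite G] (ρ : G →* Aut X) (hρ : ∀ g : G, (ρ g).hom ≫ f = f)
    (π : X ⟶ Y) (q : Y ⟶ S) (hπ : π ≫ q = f) (hquot : SGA1.IsQuot ρ π) :
    (Surjective π ∧ IsFinite π ∧ IsOpenMap π ∧ IsClosedMap π) ∧
      (IsUnit ((Nat.card G : ℕ) : Γ(S, ⊤)) →
        (Flat f → Flat q) ∧ IsSeparated q ∧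
        (LocallyOfFinitePresentation f →
          IsProper q ∧ LocallyOfFinitePresentation q ∧ LocallyOfFinitePresentation π)) := by
  have := Groth.Agent.RelProjBasic.isProper_of_isProjective hf
  have hfin : IsFinite π := Groth.Agent.SGA1QuotLib.isFinite_of_comp hquot f q hπ
  have hsurj : Surjective π := ⟨Groth.Agent.SGA1QuotLib.surjective hquot⟩
  refine ⟨⟨hsurj, hfin, isOpenMap_of_isQuot hquot, π.isClosedMap⟩, fun hn => ?_⟩
  have hsep : IsSeparated q := Groth.Agent.SGA1QuotLib.isSeparated_of_comp hquot f q hπ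
  refine ⟨fun _ => flat_of_quot hquot f q hπ hn, hsep, fun _ => ?_⟩
  have hlfp : LocallyOfFinitePresentation q := lfp_of_quot hquot f q hπ hn
  have : UniversallyClosed (π ≫ q) := by rw [hπ]; infer_instance
  have : UniversallyClosed q := UniversallyClosed.of_comp_surjective π q
  exact ⟨{}, hlfp, lfp_quotMap hquot f q hπ⟩

end Groth.Agent.S18907
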