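import Groth.Statements.S18908
import Mathlib
-- import your own Groth.Agent.* helpers here

set_option autoImplicit false
universe u v w
open scoped TensorProduct
open CAlg

namespace Groth.Agent.S18908

/-- Let K ⊇ k be a finite field extension of degree n and Ω ⊇ k an algebraically closed extension. Then
K is separable over k if and only if Ω ⊗_k K is isomorphic, as an Ω-algebra, to the product of n
copies of Ω. (The source says 'for every (some) algebraically closed extension Ω'; the equivalence
is stated for each fixed Ω, which gives both readings.) -/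
theorem result (k : Type u) (K : Type v) (Ω : Type w)
    [Field k] [Field K] [Algebra k K] [FiniteDimensional k K]
    [Field Ω] [Algebra k Ω] [IsAlgClosed Ω] :
    Algebra.IsSeparable k K ↔ Nonempty ((Ω ⊗[k] K) ≃ₐ[Ω] (Fin (Module.finrank k K) → Ω)) := by
  classical
  haveI : Algebra.IsAlgebraic k K := Algebra.IsAlgebraic.of_finite k K
  haveI : Fintype (K →ₐ[k] Ω) := Fintype.ofFinite _
  have hcard : Fintype.card (K →ₐ[k] Ω) = Field.finSepDegree k K := by
    rw [Field.finSepDegree_eq_of_isAlgClosed k K Ω, Nat.card_eq_fintype_card]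
  refine ⟨fun hsep => ?_, fun ⟨e⟩ => ?_⟩
  · have hn : Fintype.card (K →ₐ[k] Ω) = Module.finrank k K :=
      hcard.trans ((Field.finSepDegree_eq_finrank_iff k K).2 hsep)
    let Φ : Ω ⊗[k] K →ₐ[Ω] ((K →ₐ[k] Ω) → Ω) :=
      Algebra.TensorProduct.lift (Algebra.ofId Ω _) (Pi.algHom k (fun _ => Ω) fun σ => σ)
        (fun _ _ => Commute.all _ _)
    have hsurj : Function.Surjective Φ := by
      by_contra hns
      have hlt : LinearMap.range Φ.toLinearMap < ⊤ := lt_top_iff_ne_top.2 fun h => hns (LinearMap.range_eq_top.1 h)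
      obtain ⟨f, hf0, hf⟩ := Submodule.exists_dual_map_eq_bot_of_lt_top hlt inferInstance
      have hli := linearIndependent_toLinearMap k K Ω
      have hzero : ∀ x : K, ∑ σ : K →ₐ[k] Ω, f (Pi.single σ 1) * σ x = 0 := by
        intro x
        have h1 : f (Φ ((1 : Ω) ⊗ₜ[k] x)) = 0 := by
          have : f (Φ ((1 : Ω) ⊗ₜ[k] x)) ∈ (LinearMap.range Φ.toLinearMap).map f :=
            Submodule.mem_map_of_mem (LinearMap.mem_range_self Φ.toLinearMap ((1 : Ω) ⊗ₜ[k] x))
          rwa [hf, Submodule.mem_bot] at this
        rw [← h1, LinearMap.pi_apply_eq_sum_univ f]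
        refine Finset.sum_congr rfl fun σ _ => ?_
        have : Φ ((1 : Ω) ⊗ₜ[k] x) σ = σ x := by simp [Φ]
        rw [this, smul_eq_mul, mul_comm]
        congr 2
        ext τ; simp [Pi.single_apply, eq_comm]
      have := Fintype.linearIndependent_iff.1 hli (fun σ => f (Pi.single σ 1)) (by
        ext x; simpa using hzero x)
      exact hf0 (LinearMap.pi_ext' fun σ => LinearMap.ext_ring (by simpa using this σ))
    have hrk : Module.finrank Ω (Ω ⊗[k] K) = Module.finrank Ω ((K →ₐ[k] Ω) → Ω) := by
      rw [Module.finrank_baseChange, Module.finrank_fintype_fun_eq_card, hn]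
    exact ⟨(AlgEquiv.ofBijective Φ
      ⟨(LinearMap.injective_iff_surjective_of_finrank_eq_finrank hrk (f := Φ.toLinearMap)).2 hsurj, hsurj⟩).trans
      (AlgEquiv.piCongrLeft' Ω (fun _ => Ω) (Fintype.equivFinOfCardEq hn))⟩
  · rw [← Field.finSepDegree_eq_finrank_iff]
    refine le_antisymm (Field.finSepDegree_le_finrank k K) ?_
    rw [← hcard]
    let σ : Fin (Module.finrank k K) → (K →ₐ[k] Ω) := fun i =>
      (((Pi.evalAlgHom Ω (fun _ : Fin (Module.finrank k K) => Ω) i).comp e.toAlgHom).restrictScalars k).comp
        Algebra.TensorProduct.includeRight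
    have hσ : Function.Injective σ := by
      intro i j h
      by_contra hne
      have hpr : ∀ z : Ω ⊗[k] K, e z i = e z j := by
        intro z
        induction z using TensorProduct.induction_on with
        | zero => simp
        | add a b ha hb => simp [map_add, ha, hb]
        | tmul a x =>
          have hx : e ((1 : Ω) ⊗ₜ[k] x) i = e ((1 : Ω) ⊗ₜ[k] x) j := DFunLike.congr_fun h x
          rw [show a ⊗ₜ[k] x = a • ((1 : Ω) ⊗ₜ[k] x) by rw [TensorProduct.smul_tmul', smul_eq_mul, mul_one],
            map_smul, Pi.smul_apply, Pi.smul_apply, hx]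
      have := hpr (e.symm (Pi.single i 1))
      rw [e.apply_symm_apply] at this
      simp [Pi.single_apply, Ne.symm hne] at this
    simpa using Fintype.card_le_of_injective σ hσ

end Groth.Agent.S18908
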