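import Groth.Statements.S1892
import Groth.Agent.GrpdClosed.Basic
-- import your own Groth.Agent.* helpers here

set_option autoImplicit false
universe u
open CategoryTheory CategoryTheory.Limits AlgebraicGeometry
open Grpd

namespace Groth.Agent.S1892

/-- Let (U₁, R₁, s, t, c) and (U₂, R₂, s, t, c) be groupoid schemes over S with U₂ isomorphic to Spec k
for a field k, and a : R₁ → R₂ a morphism of groupoid schemes which is an isomorphism on objects. If
a(R₁) is locally closed in R₂ then it is closed. (A groupoid scheme carries U, R, s, t, c, e, i over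
S satisfying the groupoid axioms on T-points.) -/
theorem result (S : Scheme.{u}) (G₁ G₂ : Grpd.GroupoidScheme S) (k : Type u) [Field k] (eU : G₂.U ≅ Spec (CommRingCat.of k)) (a : Grpd.GroupoidScheme.Hom G₁ G₂) [IsIso a.fU] (hlc : IsLocallyClosed (Set.range ⇑a.fR)) : IsClosed (Set.range ⇑a.fR) := by
  have hK : ∀ {X : Scheme.{u}} (f : X ⟶ G₂.U), UniversallyOpen f := fun {X} f => by
    have e : f = (f ≫ eU.hom) ≫ eU.inv := by simp
    rw [e]; infer_instance
  haveI : Subsingleton G₂.U := Function.Injective.subsingleton
    (f := fun x => (eU.hom x : PrimeSpectrum k)) (fun x y h => eU.hom.homeomorph.injective h)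
  exact Groth.Agent.GrpdClosed.isClosed_range_of_isLocallyClosed a hK hlc

end Groth.Agent.S1892
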