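import Groth.Statements.S18928
import Mathlib.RingTheory.DividedPowers.Basic
import Mathlib.Algebra.BigOperators.Ring.Finset
import Mathlib.Data.Nat.Choose.Sum

set_option autoImplicit false
universe u
open DPow

namespace Groth.Agent.S18928

/-- Let B be a commutative ring, I an ideal of B with a divided power structure, p a prime, r a natural
number, b an element of B and δ an element of I. Then (b + δ)^(p^r) − b^(p^r) lies in the ideal p^r
I. (The source states this for a divided power thickening over the Witt vectors of length n and 0 ≤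
r ≤ n; neither restriction is used.) -/
theorem result {B : Type u} [CommRing B] {I : Ideal B}
    (hI : DividedPowers I) (p : ℕ) [Fact p.Prime] (r : ℕ) (b δ : B) (hδ : δ ∈ I) :
    (b + δ) ^ (p ^ r) - b ^ (p ^ r) ∈ Ideal.span {((p : B) ^ r)} * I := by
  have key : ∀ N : ℕ, (δ + b) ^ N - b ^ N ∈ Ideal.span {(N : B)} * I := by
    intro N
    rw [add_pow, Finset.sum_range_succ', pow_zero, one_mul, Nat.sub_zero, Nat.choose_zero_right,
      Nat.cast_one, mul_one, add_sub_cancel_right]
    refine sum_mem fun k hk => ?_
    obtain ⟨M, rfl⟩ : ∃ M, N = M + 1 := ⟨N - 1, by have := Finset.mem_range.mp hk; omega⟩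
    have hc : ((M + 1).choose (k + 1) : B) * ((k + 1).factorial : B) =
        ((M + 1 : ℕ) : B) * (M.descFactorial k : B) := by
      rw [← Nat.cast_mul, ← Nat.cast_mul, ← Nat.succ_descFactorial_succ,
        Nat.descFactorial_eq_factorial_mul_choose, mul_comm]
    rw [← hI.factorial_mul_dpow_eq_pow hδ]
    rw [show ((k + 1).factorial : B) * hI.dpow (k + 1) δ * b ^ (M + 1 - (k + 1)) *
        ((M + 1).choose (k + 1) : B) = ((M + 1 : ℕ) : B) *
          ((M.descFactorial k : B) * b ^ (M + 1 - (k + 1)) * hI.dpow (k + 1) δ) by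
      rw [← mul_assoc, ← mul_assoc, ← hc]; ring]
    exact Ideal.mul_mem_mul (Ideal.mem_span_singleton_self _)
      (I.mul_mem_left _ (hI.dpow_mem k.succ_ne_zero hδ))
  simpa [add_comm δ b] using key (p ^ r)

end Groth.Agent.S18928
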