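import Mathlib
import Groth.Statements.S18930
-- import your own Groth.Agent.* helpers here

set_option autoImplicit false
universe u
open DPow

namespace Groth.Agent.S18930

/-- Let p be a prime, n ≥ 1, B a commutative ring with p^n = 0 and A = B/pB. Let θ : W_n(A) → B be the
ring homomorphism which sends the reduction of a Witt vector (x_0, …, x_{n−1}) over B to Σ_{i<n} p^i
x_i^(p^(n−i)), let J_n be its kernel and let I_n be the set of a in W_n(A) whose zeroth component
satisfies a_0^(p^n) = 0. Then J_n + (p) ⊆ I_n. (In the source B is the ring of global sections of a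
scheme over the Witt vectors of length n of a perfect field.) -/
theorem result (p : ℕ) [Fact p.Prime] (n : ℕ) (hn : 0 < n)
    {B : Type u} [CommRing B] (hp : (p : B) ^ n = 0)
    (θ : TruncatedWittVector p n (B ⧸ (Ideal.span {(p : B)})) →+* B)
    (hθ : ∀ x : WittVector p B, θ (WittVector.truncate n (WittVector.map (Ideal.Quotient.mk (Ideal.span {(p : B)})) x)) =
        ∑ i : Fin n, (p : B) ^ (i : ℕ) * (x.coeff i) ^ (p ^ (n - i)))
    (a : TruncatedWittVector p n (B ⧸ (Ideal.span {(p : B)})))
    (ha : a ∈ RingHom.ker θ ⊔ Ideal.span {(p : TruncatedWittVector p n (B ⧸ (Ideal.span {(p : B)})))}) :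
    (TruncatedWittVector.coeff ⟨0, hn⟩ a) ^ (p ^ n) = 0 := by
  set π := Ideal.Quotient.mk (Ideal.span {(p : B)})
  obtain ⟨y, rfl⟩ := WittVector.truncate_surjective p n _ a
  obtain ⟨x, rfl⟩ := WittVector.map_surjective π Ideal.Quotient.mk_surjective y
  rw [WittVector.coeff_truncate, WittVector.map_coeff, ← map_pow, Ideal.Quotient.eq_zero_iff_mem]
  obtain ⟨u, hu, v, hv, huv⟩ := Submodule.mem_sup.1 ha
  obtain ⟨w, rfl⟩ := Ideal.mem_span_singleton'.1 hv
  have h1 := congrArg θ huv
  rw [map_add, RingHom.mem_ker.1 hu, zero_add, map_mul, map_natCast, hθ] at h1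
  have h2 : ∑ i : Fin n, (p : B) ^ (i : ℕ) * (x.coeff i) ^ (p ^ (n - i)) - x.coeff 0 ^ p ^ n ∈ Ideal.span {(p : B)} := by
    obtain ⟨m, rfl⟩ := Nat.exists_eq_succ_of_ne_zero hn.ne'
    rw [Fin.sum_univ_succ]
    simp only [Fin.val_zero, pow_zero, one_mul, Nat.sub_zero, add_sub_cancel_left]
    refine sum_mem fun i _ => Ideal.mul_mem_right _ _ ?_
    rw [Fin.val_succ, pow_succ]
    exact Ideal.mul_mem_left _ _ (Ideal.mem_span_singleton_self _)
  rw [← h1] at h2
  simpa using Submodule.sub_mem _ (Ideal.mul_mem_left _ (θ w) (Ideal.mem_span_singleton_self (p : B))) h2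

end Groth.Agent.S18930
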