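import Mathlib
import Groth.Statements.S18931
-- import your own Groth.Agent.* helpers here

set_option autoImplicit false
universe u
open DPow

namespace Groth.Agent.S18931

/-- Let p be a prime, n ≥ 1, B a commutative ring with p^n = 0 and A = B/pB, and assume that the p-th
power map of A is surjective. Let θ : W_n(A) → B be the ring homomorphism which sends the reduction
of a Witt vector (x_0, …, x_{n−1}) over B to Σ_{i<n} p^i x_i^(p^(n−i)). Then every a in W_n(A) with
a_0^(p^n) = 0 lies in ker θ + (p); together with the reverse inclusion, ker θ + (p) is exactly the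
set of such a. (In the source B is the ring of global sections of a scheme over the Witt vectors of
length n of a perfect field. The printed argument subtracts a single correction term, which suffices
for n ≤ 2; in general one corrects the components one at a time.) -/
theorem result (p : ℕ) [Fact p.Prime]
    (n : ℕ) (hn : 0 < n) {B : Type u} [CommRing B] (hp : (p : B) ^ n = 0)
    (hF : Function.Surjective (fun y : B ⧸ (Ideal.span {(p : B)}) => y ^ p))
    (θ : TruncatedWittVector p n (B ⧸ (Ideal.span {(p : B)})) →+* B)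
    (hθ : ∀ x : WittVector p B, θ (WittVector.truncate n (WittVector.map (Ideal.Quotient.mk (Ideal.span {(p : B)})) x)) =
        ∑ i : Fin n, (p : B) ^ (i : ℕ) * (x.coeff i) ^ (p ^ (n - i)))
    (a : TruncatedWittVector p n (B ⧸ (Ideal.span {(p : B)}))) (ha : (TruncatedWittVector.coeff ⟨0, hn⟩ a) ^ (p ^ n) = 0) :
    a ∈ RingHom.ker θ ⊔ Ideal.span {(p : TruncatedWittVector p n (B ⧸ (Ideal.span {(p : B)})))} := by
  classical
  have hroot : ∀ (j : ℕ) (a : B), ∃ x b : B, a = x ^ (p ^ j) + (p : B) * b := by
    intro j a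
    have hs : ∀ j : ℕ, Function.Surjective (fun y : B ⧸ Ideal.span {(p : B)} => y ^ p ^ j) := by
      intro j
      induction j with
      | zero => exact fun y => ⟨y, by simp⟩
      | succ j ih =>
        intro y
        obtain ⟨z, rfl⟩ := hF y
        obtain ⟨w, rfl⟩ := ih z
        exact ⟨w, by simp only; rw [pow_succ, pow_mul]⟩
    obtain ⟨w, hw⟩ := hs j (Ideal.Quotient.mk (Ideal.span {(p : B)}) a)
    obtain ⟨x, rfl⟩ := Ideal.Quotient.mk_surjective w
    have h := Ideal.Quotient.eq.1 (((map_pow (Ideal.Quotient.mk (Ideal.span {(p : B)})) x _).trans hw))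
    obtain ⟨b, hb⟩ := Ideal.mem_span_singleton.1 h
    exact ⟨x, -b, by linear_combination -hb⟩
  have hsum : ∀ (m : ℕ) (a : B), ∃ (x : ℕ → B) (b : B),
      a = (∑ i ∈ Finset.range m, (p : B) ^ i * x i ^ p ^ (n - i)) + (p : B) ^ m * b := by
    intro m
    induction m with
    | zero => exact fun a => ⟨0, a, by simp⟩
    | succ m ih =>
      intro a
      obtain ⟨x, b, h⟩ := ih a
      obtain ⟨y, b', hb⟩ := hroot (n - m) b
      refine ⟨Function.update x m y, b', ?_⟩
      rw [Finset.sum_range_succ, Function.update_self,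
        Finset.sum_congr rfl fun i hi => by rw [Function.update_of_ne (Finset.mem_range.1 hi).ne]]
      rw [h, hb, pow_succ]; ring
  obtain ⟨ab, rfl⟩ := WittVector.truncate_surjective p n _ a
  obtain ⟨x, rfl⟩ := WittVector.map_surjective (Ideal.Quotient.mk (Ideal.span {(p : B)})) Ideal.Quotient.mk_surjective ab
  have h0 : x.coeff 0 ^ p ^ n ∈ Ideal.span {(p : B)} := by
    rw [WittVector.coeff_truncate, WittVector.map_coeff] at ha
    exact Ideal.Quotient.eq_zero_iff_mem.1 (by rw [map_pow]; exact ha)
  obtain ⟨c, hc⟩ : (p : B) ∣ θ (WittVector.truncate n (WittVector.map (Ideal.Quotient.mk (Ideal.span {(p : B)})) x)) := by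
    rw [hθ]
    refine Finset.dvd_sum fun i _ => ?_
    rcases Nat.eq_zero_or_pos (i : ℕ) with hi | hi
    · rw [hi, pow_zero, one_mul, Nat.sub_zero]; exact Ideal.mem_span_singleton.1 h0
    · exact Dvd.dvd.mul_right (dvd_pow_self _ hi.ne') _
  obtain ⟨y, b, hy⟩ := hsum n c
  set d := WittVector.truncate n (WittVector.map (Ideal.Quotient.mk (Ideal.span {(p : B)})) (WittVector.mk p y))
  have hd : θ d = c := by
    rw [hθ, hy, hp, zero_mul, add_zero, Finset.sum_range]
    simp only [WittVector.coeff_mk]
  refine Submodule.mem_sup.2 ⟨_ - (p : TruncatedWittVector p n (B ⧸ Ideal.span {(p : B)})) * d, ?_, _, Ideal.mul_mem_right d _ (Ideal.mem_span_singleton_self _), sub_add_cancel _ _⟩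
  rw [RingHom.mem_ker, map_sub, map_mul, map_natCast, hd, hc, sub_self]

end Groth.Agent.S18931
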