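import Mathlib
import Groth.Statements.S18932
-- import your own Groth.Agent.* helpers here

set_option autoImplicit false
universe u
open DPow

namespace Groth.Agent.S18932

/-- Let p be a prime, k a perfect field of characteristic p, n a natural number and A a commutative
W_n(k)-algebra, W_n(k) the truncated Witt vectors, which is flat over W_n(k) and whose reduction
A/pA has surjective p-th power map. Let θ : W_n(A/pA) → A be the ring homomorphism which sends the
reduction of a Witt vector (x_0, …, x_{n−1}) over A to Σ_{i<n} p^i x_i^(p^(n−i)). Then θ is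
surjective, so A is the quotient of W_n(A/pA) by the kernel of θ. (This is the step of the source's
proposition establishing that Spec of the divided power envelope of that kernel is a thickening of
Spec A; the assertion that it is a final object of the crystalline site is not stated here.) -/
theorem result (p : ℕ) [Fact p.Prime]
    (k : Type u) [Field k] [CharP k p] [PerfectRing k p] (n : ℕ)
    (A : Type u) [CommRing A] [Algebra (TruncatedWittVector p n k) A] [Module.Flat (TruncatedWittVector p n k) A]
    (hF : Function.Surjective (fun y : A ⧸ (Ideal.span {(p : A)}) => y ^ p))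
    (θ : TruncatedWittVector p n (A ⧸ (Ideal.span {(p : A)})) →+* A)
    (hθ : ∀ x : WittVector p A, θ (WittVector.truncate n (WittVector.map (Ideal.Quotient.mk (Ideal.span {(p : A)})) x)) =
        ∑ i : Fin n, (p : A) ^ (i : ℕ) * (x.coeff i) ^ (p ^ (n - i))) :
    Function.Surjective θ := by
  classical
  set I : Ideal A := Ideal.span {(p : A)}
  have hroot : ∀ (j : ℕ) (a : A), ∃ x b : A, a = x ^ (p ^ j) + (p : A) * b := by
    intro j a
    have hs : ∀ j : ℕ, Function.Surjective (fun y : A ⧸ I => y ^ p ^ j) := by
      intro j
      induction j with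
      | zero => exact fun y => ⟨y, by simp⟩
      | succ j ih =>
        intro y
        obtain ⟨z, rfl⟩ := hF y
        obtain ⟨w, rfl⟩ := ih z
        exact ⟨w, by simp only; rw [pow_succ, pow_mul]⟩
    obtain ⟨w, hw⟩ := hs j (Ideal.Quotient.mk I a)
    obtain ⟨x, rfl⟩ := Ideal.Quotient.mk_surjective w
    have h := Ideal.Quotient.eq.1 (((map_pow (Ideal.Quotient.mk I) x _).trans hw))
    obtain ⟨b, hb⟩ := Ideal.mem_span_singleton.1 h
    exact ⟨x, -b, by linear_combination -hb⟩
  have hsum : ∀ (m : ℕ) (a : A), ∃ (x : ℕ → A) (b : A),
      a = (∑ i ∈ Finset.range m, (p : A) ^ i * x i ^ p ^ (n - i)) + (p : A) ^ m * b := by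
    intro m
    induction m with
    | zero => exact fun a => ⟨0, a, by simp⟩
    | succ m ih =>
      intro a
      obtain ⟨x, b, h⟩ := ih a
      obtain ⟨y, b', hb⟩ := hroot (n - m) b
      refine ⟨Function.update x m y, b', ?_⟩
      rw [Finset.sum_range_succ, Function.update_self,
        Finset.sum_congr rfl fun i hi => by rw [Function.update_of_ne (Finset.mem_range.1 hi).ne]]
      rw [h, hb, pow_succ]; ring
  have hpn : (p : A) ^ n = 0 := by
    have h0 : (p : TruncatedWittVector p n k) ^ n = 0 := by
      rw [← map_natCast (WittVector.truncate (p := p) (R := k) n), ← map_pow]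
      apply TruncatedWittVector.ext
      intro i
      rw [WittVector.coeff_truncate, TruncatedWittVector.coeff_zero, ← one_mul ((p : WittVector p k) ^ n)]
      exact WittVector.mul_pow_charP_coeff_zero _ i.2
    have := congrArg (algebraMap (TruncatedWittVector p n k) A) h0
    simpa using this
  intro a
  obtain ⟨x, b, h⟩ := hsum n a
  refine ⟨WittVector.truncate n (WittVector.map (Ideal.Quotient.mk I) (WittVector.mk p x)), ?_⟩
  rw [hθ, h, hpn, zero_mul, add_zero, Finset.sum_range]
  simp only [WittVector.coeff_mk]

end Groth.Agent.S18932
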