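import Groth.Statements.S18933
import Mathlib
-- import your own Groth.Agent.* helpers here

set_option autoImplicit false
universe u
open Synt

namespace Groth.Agent.S18933

section
open TensorProduct

theorem syn_aux {m p : ℕ} (hp : 0 < p) {R S : Type u} [CommRing R] [IsNoetherianRing R] [CommRing S]
    (f : R →+* S) (x : Fin m → S) (t : Fin m → R) (hxt : ∀ i, x i ^ p = f (t i))
    (b : letI := f.toAlgebra; Module.Basis (Fin m → Fin p) R S)
    (hb : ∀ r, b r = ∏ i, x i ^ ((r i : ℕ))) :
    @Synt.IsSyntomic R _ S _ f.toAlgebra ∧ f.FaithfullyFlat := by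
  letI := f.toAlgebra
  haveI : NeZero p := ⟨hp.ne'⟩
  haveI : Module.Free R S := Module.Free.of_basis b
  haveI : Module.Finite R S := Module.Finite.of_basis b
  refine ⟨⟨inferInstance, (Algebra.FinitePresentation.of_finiteType (R := R)).1 inferInstance, fun P => ?_⟩, ?_⟩
  swap
  · rcases subsingleton_or_nontrivial R with hR | hR
    · haveI : Module.FaithfullyFlat R S := ⟨fun {m'} hm => absurd (Subsingleton.elim m' ⊤) hm.ne_top⟩
      exact this
    · haveI : Nonempty (Fin m → Fin p) := ⟨fun _ => 0⟩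
      haveI : Nontrivial S := by
        refine ⟨b (Classical.arbitrary _), 0, b.ne_zero _⟩
      show Module.FaithfullyFlat R S
      infer_instance
  set κ := P.asIdeal.ResidueField with hκ
  let F := κ ⊗[R] S
  let bF : Module.Basis (Fin m → Fin p) κ F := b.baseChange κ
  haveI : Module.Finite κ F := Module.Finite.of_basis bF
  refine ⟨(inferInstance : Algebra.FiniteType κ F), fun Q => ⟨1, fun h1 => Q.isPrime.ne_top ((Ideal.eq_top_iff_one _).2 h1), ?_⟩⟩
  let L := Localization.Away (1 : F)
  let eL : F ≃ₐ[κ] L := (IsLocalization.atUnits F (Submonoid.powers (1 : F)) (S := L)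
    (by rintro _ ⟨k, rfl⟩; simp)).restrictScalars κ
  let bL : Module.Basis (Fin m → Fin p) κ L := bF.map eL.toLinearEquiv
  let incl : S →ₐ[R] F := Algebra.TensorProduct.includeRight
  let y : Fin m → L := fun i => eL (incl (x i))
  let c : Fin m → κ := fun i => algebraMap R κ (t i)
  have hy : ∀ i, y i ^ p = algebraMap κ L (c i) := fun i => by
    simp only [y, ← map_pow, hxt]
    rw [show f (t i) = algebraMap R S (t i) from rfl, AlgHom.commutes, IsScalarTower.algebraMap_apply R κ F,
      AlgEquiv.commutes]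
  have hbL : ∀ r, bL r = ∏ i, y i ^ ((r i : ℕ)) := fun r => by
    simp only [y, ← map_pow, ← map_prod, ← hb]
    simp [bL, bF, incl]
    exact Module.Basis.baseChange_apply κ b r
  let φ : MvPolynomial (Fin m) κ →ₐ[κ] L := MvPolynomial.aeval y
  let rel : Fin m → MvPolynomial (Fin m) κ := fun i => MvPolynomial.X i ^ p - MvPolynomial.C (c i)
  let mon : (Fin m → Fin p) → MvPolynomial (Fin m) κ := fun r => ∏ i, MvPolynomial.X i ^ ((r i : ℕ))
  have hφmon : ∀ r, φ (mon r) = bL r := fun r => by simp [φ, mon, hbL, map_prod]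
  have hdec : ∀ g : MvPolynomial (Fin m) κ, ∃ a : (Fin m → Fin p) → κ,
      g - ∑ r, a r • mon r ∈ Ideal.span (Set.range rel) := by
    intro g
    induction g using MvPolynomial.induction_on' with
    | monomial d r₀ =>
      classical
      let r : Fin m → Fin p := fun i => ⟨d i % p, Nat.mod_lt _ hp⟩
      refine ⟨Pi.single r (r₀ * ∏ i, c i ^ (d i / p)), ?_⟩
      rw [Finset.sum_eq_single r (fun s _ hs => by rw [Pi.single_eq_of_ne hs, zero_smul]) (by simp),
        Pi.single_eq_same, ← Ideal.Quotient.eq_zero_iff_mem, map_sub, sub_eq_zero]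
      have hX : ∀ i, Ideal.Quotient.mk (Ideal.span (Set.range rel)) (MvPolynomial.X i) ^ p =
          Ideal.Quotient.mk (Ideal.span (Set.range rel)) (MvPolynomial.C (c i)) := fun i => by
        rw [← map_pow, Ideal.Quotient.eq]
        exact Ideal.subset_span ⟨i, rfl⟩
      rw [MvPolynomial.monomial_eq, Finsupp.prod_fintype _ _ (fun i => pow_zero _)]
      simp only [mon, MvPolynomial.smul_eq_C_mul, map_mul, map_prod, map_pow, mul_assoc, ← Finset.prod_mul_distrib]
      congr 1
      refine Finset.prod_congr rfl fun i _ => ?_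
      rw [← hX, ← pow_mul, ← pow_add]
      congr 1
      exact (Nat.div_add_mod _ _).symm
    | add g h hg hh =>
      obtain ⟨a, ha⟩ := hg
      obtain ⟨a', ha'⟩ := hh
      refine ⟨a + a', ?_⟩
      have := Ideal.add_mem _ ha ha'
      convert this using 1
      simp only [Pi.add_apply, add_smul, Finset.sum_add_distrib]
      abel
  have hker : RingHom.ker φ.toRingHom = Ideal.span (Set.range rel) := by
    have hle : Ideal.span (Set.range rel) ≤ RingHom.ker φ.toRingHom := by
      rw [Ideal.span_le]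
      rintro _ ⟨i, rfl⟩
      simp [rel, φ, hy]
    refine le_antisymm (fun g hg => ?_) hle
    obtain ⟨a, ha⟩ := hdec g
    have h0 := hle ha
    simp only [RingHom.mem_ker, AlgHom.toRingHom_eq_coe, RingHom.coe_coe, map_sub, map_sum, map_smul, hφmon] at h0 hg
    rw [hg, zero_sub, neg_eq_zero] at h0
    have := Fintype.linearIndependent_iff.1 bL.linearIndependent a h0
    simpa [this] using ha
  have hsurj : Function.Surjective φ := fun z => by
    refine ⟨∑ r, bL.repr z r • mon r, ?_⟩
    simp only [map_sum, map_smul, hφmon, bL.sum_repr]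
  haveI : Nonempty (Fin m → Fin p) := ⟨fun _ => 0⟩
  haveI : Nontrivial L := ⟨bL (Classical.arbitrary _), 0, bL.ne_zero _⟩
  haveI : Module.Finite κ L := Module.Finite.of_basis bL
  haveI : IsArtinianRing L := IsArtinianRing.of_finite κ L
  refine Or.inr ⟨m, m, le_rfl, φ, rel, hsurj, hker, ?_⟩
  rw [Nat.sub_self, Nat.cast_zero]
  exact ringKrullDimZero_iff_ringKrullDim_eq_zero.1 inferInstance

noncomputable def expEquiv (m p : ℕ) (hp : 0 < p) : (Fin m → Fin p) × (Fin m →₀ ℕ) ≃ (Fin m →₀ ℕ) where
  toFun x := Finsupp.equivFunOnFinite.symm fun i => p * x.2 i + x.1 i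
  invFun d := (fun i => ⟨d i % p, Nat.mod_lt _ hp⟩, Finsupp.equivFunOnFinite.symm fun i => d i / p)
  left_inv x := by
    obtain ⟨r, q⟩ := x
    refine Prod.ext (funext fun i => Fin.ext ?_) (Finsupp.ext fun i => ?_)
    · simp [Nat.add_mod, Nat.mod_eq_of_lt (r i).2]
    · simp [Nat.mul_add_div hp, Nat.div_eq_of_lt (r i).2]
  right_inv d := by
    ext i
    simpa using Nat.div_add_mod (d i) p

theorem syn_of_bases {m p : ℕ} (hp : 0 < p) {A R S : Type u} [CommRing A] [CommRing R] [IsNoetherianRing R]
    [CommRing S] [Algebra A R] [Algebra A S] (f : R →ₐ[A] S)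
    (bR : Module.Basis (Fin m →₀ ℕ) A R) (bS : Module.Basis (Fin m →₀ ℕ) A S)
    (x : Fin m → S) (t : Fin m → R) (hxt : ∀ i, x i ^ p = f (t i))
    (hmul : ∀ r q, f (bR q) * (∏ i, x i ^ ((r i : ℕ))) = bS (expEquiv m p hp (r, q))) :
    @Synt.IsSyntomic R _ S _ f.toRingHom.toAlgebra ∧ f.toRingHom.FaithfullyFlat := by
  classical
  letI := f.toRingHom.toAlgebra
  haveI : IsScalarTower A R S := IsScalarTower.of_algebraMap_eq fun a => (f.commutes a).symm
  let bv : (Fin m → Fin p) → S := fun r => ∏ i, x i ^ ((r i : ℕ))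
  let L : ((Fin m → Fin p) →₀ R) →ₗ[R] S := Finsupp.linearCombination R bv
  let B1 : Module.Basis ((Fin m → Fin p) × (Fin m →₀ ℕ)) A ((Fin m → Fin p) →₀ R) :=
    (Finsupp.basis fun _ : Fin m → Fin p => bR).reindex (Equiv.sigmaEquivProd _ _)
  have hL : L.restrictScalars A = (B1.equiv bS (expEquiv m p hp)).toLinearMap := by
    refine B1.ext fun z => ?_
    obtain ⟨r, q⟩ := z
    rw [LinearEquiv.coe_coe, Module.Basis.equiv_apply, ← hmul]
    simp [B1, L, bv, Finsupp.coe_basis, Finsupp.linearCombination_single, Algebra.smul_def, RingHom.algebraMap_toAlgebra]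
  have hbij : Function.Bijective L := by
    rw [show ⇑L = ⇑(B1.equiv bS (expEquiv m p hp)) from congrArg DFunLike.coe hL]
    exact LinearEquiv.bijective _
  refine syn_aux hp f.toRingHom x t hxt
    (Module.Basis.ofRepr (LinearEquiv.ofBijective L hbij).symm) (fun r => ?_)
  rw [Module.Basis.coe_ofRepr]
  show L (Finsupp.single r 1) = _
  simp [L, bv]

end

/-- Let p be a prime, A a Noetherian commutative ring and m a natural number, and let φ be the A-algebra
endomorphism of the polynomial ring A[T_1, …, T_m] with φ(T_i) = T_i^p. Then φ is syntomic and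
faithfully flat (so Spec φ is a covering for the syntomic topology). -/
theorem result (p : ℕ) [Fact p.Prime]
    (A : Type u) [CommRing A] [IsNoetherianRing A] (m : ℕ)
    (φ : MvPolynomial (Fin m) A →ₐ[A] MvPolynomial (Fin m) A)
    (hφ : ∀ i : Fin m, φ (MvPolynomial.X i) = MvPolynomial.X i ^ p) :
    @Synt.IsSyntomic (MvPolynomial (Fin m) A) _ (MvPolynomial (Fin m) A) _ φ.toRingHom.toAlgebra ∧
      φ.toRingHom.FaithfullyFlat := by
  classical
  refine syn_of_bases (Fact.out : p.Prime).pos φ (MvPolynomial.basisMonomials (Fin m) A)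
    (MvPolynomial.basisMonomials (Fin m) A) (fun i => MvPolynomial.X i) (fun i => MvPolynomial.X i)
    (fun i => (hφ i).symm) (fun r q => ?_)
  rw [MvPolynomial.coe_basisMonomials]
  simp only [MvPolynomial.monomial_eq, Finsupp.prod_fintype _ _ (fun i => pow_zero (_ : MvPolynomial (Fin m) A))]
  simp [map_prod, hφ, expEquiv, ← pow_mul, ← pow_add, ← Finset.prod_mul_distrib]

end Groth.Agent.S18933
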