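import Groth.Statements.S18934
import Groth.Agent.CIPres.SyntomicAlg

set_option autoImplicit false
universe u
open Synt

namespace Groth.Agent.S18934

open Polynomial in
/-- Let p be a prime, A a commutative ring and a an element of A. Then the A-algebra A[T]/(T^p − a) is
syntomic and faithfully flat over A. This is the step of the source's proof showing that adjoining a
p-th root of any element is a covering for the syntomic topology. -/
theorem result (p : ℕ) [Fact p.Prime]
    (A : Type u) [CommRing A] (a : A) :
    Synt.IsSyntomic A (AdjoinRoot (X ^ p - C a)) ∧ Module.FaithfullyFlat A (AdjoinRoot (X ^ p - C a)) := by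
  have hp : p ≠ 0 := (Fact.out : p.Prime).ne_zero
  have hP : (X ^ p - C a).Monic := monic_X_pow_sub_C a hp
  refine ⟨CIPres.isSyntomic_adjoinRoot A _ hP, ?_⟩
  rcases subsingleton_or_nontrivial A with hA | hA
  · haveI : Module.Free A (AdjoinRoot (X ^ p - C a)) :=
      Module.Free.of_basis (AdjoinRoot.powerBasis' hP).basis
    exact { submodule_ne_top := fun m hm => absurd (Subsingleton.elim m ⊤) hm.ne_top }
  haveI : Module.Free A (AdjoinRoot (X ^ p - C a)) :=
    Module.Free.of_basis (AdjoinRoot.powerBasis' hP).basis
  haveI : Nontrivial (AdjoinRoot (X ^ p - C a)) := Ideal.Quotient.nontrivial_iff.2 fun h => by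
    have h1 := hP.eq_one_of_isUnit (Ideal.span_singleton_eq_top.1 h)
    have h2 := congrArg natDegree h1
    rw [natDegree_X_pow_sub_C, natDegree_one] at h2
    exact hp h2
  infer_instance

end Groth.Agent.S18934
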