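import Groth.Statements.S18935
import Groth.Agent.KRIdeal.Basic
-- import your own Groth.Agent.* helpers here

set_option autoImplicit false
universe u
open LCI

namespace Groth.Agent.S18935

/-- Let R be a commutative ring and I a proper ideal of R which is generated by some Koszul-regular
sequence. A finite sequence f of generators of I is Koszul-regular if and only if f has the smallest
possible length among all finite generating sequences of I. (Properness of I is needed: the
sequences (1) and (1, 1) are both Koszul-regular and generate the unit ideal.) -/
theorem result {R : Type u} [CommRing R] {I : Ideal R} (hI : I ≠ ⊤)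
    (g : List R) (hg : LCI.IsKoszulRegularSeq R g) (hgI : Ideal.ofList g = I)
    (f : List R) (hfI : Ideal.ofList f = I) :
    LCI.IsKoszulRegularSeq R f ↔ ∀ h : List R, Ideal.ofList h = I → f.length ≤ h.length := by
  have hg' : KoszulLib.Ex (List.ofFn g.get) := (KRIdeal.ex_ofFn_get g).2 ((KoszulLib.ex_iff g).2 hg)
  have key : ∀ (l : List R), Ideal.ofList l = I → Ideal.span (Set.range l.get) = I := fun l hl => by
    rw [← hl, Set.range_list_get]
  have hne : Ideal.span (Set.range g.get) ≠ ⊤ := by rw [key g hgI]; exact hI
  constructor
  · intro hf h hh
    have hf' : KoszulLib.Ex (List.ofFn f.get) := (KRIdeal.ex_ofFn_get f).2 ((KoszulLib.ex_iff f).2 hf)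
    exact KRIdeal.card_le_of_span hf' (by rw [key f hfI]; exact hI) ((key h hh).trans (key f hfI).symm)
  · intro hmin
    have h1 : g.length ≤ f.length := KRIdeal.card_le_of_span hg' hne ((key f hfI).trans (key g hgI).symm)
    have h2 : g.length = f.length := le_antisymm h1 (hmin g hgI)
    have h3 := KRIdeal.ex_of_span_eq (h := f.get ∘ Fin.cast h2) hg' (by
      rw [Function.Surjective.range_comp (f := Fin.cast h2) (finCongr h2).surjective, key f hfI, key g hgI])
    refine (KoszulLib.ex_iff f).1 ?_
    have e : List.ofFn (f.get ∘ Fin.cast h2) = f := by
      refine List.ext_getElem (by simp [h2]) fun i h₁ h₂ => by simp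
    rwa [e] at h3

end Groth.Agent.S18935
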