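import Groth.Statements.S18936
import Mathlib
-- import your own Groth.Agent.* helpers here

set_option autoImplicit false
universe u
open CAlg

namespace Groth.Agent.S18936

/-- Let A be a Noetherian commutative ring, q a prime ideal of A and f an element of A whose image in
the localization A_q is a non-zero-divisor. Then there is an element b of A not in q such that the
image of f in A[1/b] is a non-zero-divisor. -/
theorem result {A : Type u} [CommRing A] [IsNoetherianRing A]
    (q : Ideal A) [q.IsPrime] (f : A)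
    (hf : algebraMap A (Localization.AtPrime q) f ∈ nonZeroDivisors (Localization.AtPrime q)) :
    ∃ b : A, b ∉ q ∧ algebraMap A (Localization.Away b) f ∈ nonZeroDivisors (Localization.Away b) := by
  classical
  let K : Ideal A := LinearMap.ker (LinearMap.mulRight A f)
  have hK : ∀ x ∈ K, ∃ t ∉ q, t * x = 0 := fun x hx => by
    have h : algebraMap A (Localization.AtPrime q) x * algebraMap A _ f = 0 := by
      rw [← map_mul, show x * f = 0 from hx, map_zero]
    obtain ⟨t, ht⟩ := (IsLocalization.map_eq_zero_iff q.primeCompl _ x).mp (mem_nonZeroDivisors_iff_right.mp hf _ h)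
    exact ⟨t, t.2, ht⟩
  obtain ⟨T, hT⟩ := IsNoetherian.noetherian K
  choose t ht ht' using fun x : T => hK x (hT ▸ Submodule.subset_span x.2)
  have hb : (∏ x, t x) ∉ q := fun h => by
    obtain ⟨x, -, hx⟩ := (Ideal.IsPrime.prod_mem_iff).mp h
    exact ht x hx
  have hkill : ∀ x ∈ K, (∏ x, t x) * x = 0 := fun x hx => by
    rw [← hT] at hx
    induction hx using Submodule.span_induction with
    | mem x hx' => rw [← Finset.prod_erase_mul _ _ (Finset.mem_univ (⟨x, hx'⟩ : T)), mul_assoc, ht' ⟨x, hx'⟩, mul_zero]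
    | zero => simp
    | add x y _ _ hx hy => rw [mul_add, hx, hy, add_zero]
    | smul c x _ hx => rw [smul_eq_mul, mul_left_comm, hx, mul_zero]
  refine ⟨∏ x, t x, hb, mem_nonZeroDivisors_iff_right.mpr fun z hz => ?_⟩
  obtain ⟨a, s, rfl⟩ := IsLocalization.exists_mk'_eq (Submonoid.powers (∏ x, t x)) z
  have h : algebraMap A (Localization.Away (∏ x, t x)) (a * f) = 0 := by
    rw [map_mul, ← IsLocalization.mk'_spec (Localization.Away (∏ x, t x)) a s, mul_right_comm, hz, zero_mul]
  obtain ⟨⟨_, m, rfl⟩, hm⟩ := (IsLocalization.map_eq_zero_iff (Submonoid.powers (∏ x, t x)) _ _).mp h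
  rw [IsLocalization.mk'_eq_zero_iff]
  refine ⟨⟨(∏ x, t x) ^ (m + 1), m + 1, rfl⟩, ?_⟩
  change (∏ x, t x) ^ (m + 1) * a = 0
  rw [pow_succ', mul_assoc]
  exact hkill _ (show (∏ x, t x) ^ m * a * f = 0 by rw [mul_assoc]; exact hm)

end Groth.Agent.S18936
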