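import Groth.Statements.S18937
import Groth.Agent.CIPres.RegComposite
import Groth.Agent.RegEmbed.Scheme
import Groth.Agent.S18944
import Groth.Agent.FlatDescent.Slicing.Scheme
import Mathlib.RingTheory.Localization.Away.AdjoinRoot
-- import your own Groth.Agent.* helpers here

set_option autoImplicit false
universe u
open CategoryTheory AlgebraicGeometry
open RegImm

namespace Groth.Agent.S18937

/-- Let A be a Noetherian commutative ring, n a natural number, I an ideal of the polynomial ring A[X_1,
…, X_n] and B = A[X_1, …, X_n]/I, and assume that the closed immersion Spec B → Spec A[X_1, …, X_n]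
is a regular immersion (kind: successive non-zero-divisors). Then Spec B is covered by basic opens
D(g) with B[1/g] isomorphic, as an A-algebra, to a quotient A[X_0, …, X_n]/(P_1, …, P_d) of the
polynomial ring in one more variable by a regular sequence P_1, …, P_d. -/
theorem result
    (A : Type u) [CommRing A] [IsNoetherianRing A] (n : ℕ) (I : Ideal (MvPolynomial (Fin n) A))
    (h : RegImm.IsRegularImmersion RegImm.Kind.regular
      (Spec.map (CommRingCat.ofHom (Ideal.Quotient.mk I))))
    (q : PrimeSpectrum (MvPolynomial (Fin n) A ⧸ I)) :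
    ∃ g : MvPolynomial (Fin n) A ⧸ I, g ∉ q.asIdeal ∧
      ∃ (d : ℕ) (P : Fin d → MvPolynomial (Fin (n + 1)) A),
        RingTheory.Sequence.IsRegular (MvPolynomial (Fin (n + 1)) A) (List.ofFn P) ∧
        Nonempty (Localization.Away g ≃ₐ[A] (MvPolynomial (Fin (n + 1)) A ⧸ Ideal.ofList (List.ofFn P))) := by
  classical
  let P := MvPolynomial (Fin n) A
  let j := Spec.map (CommRingCat.ofHom (Ideal.Quotient.mk I))
  haveI : IsClosedImmersion j := IsClosedImmersion.spec_of_surjective _ Ideal.Quotient.mk_surjective
  let x : Spec (CommRingCat.of P) := j q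
  let S := (Spec (CommRingCat.of P)).presheaf.stalk x
  letI : Algebra P S := StructureSheaf.stalkAlgebra P x
  haveI : IsLocalization.AtPrime S x.asIdeal := StructureSheaf.IsLocalization.to_stalk P x
  obtain ⟨l, hl, hker⟩ := Groth.Agent.S18944.result j h q
  have hI : I.map (algebraMap P S) = Ideal.ofList l := by
    rw [← hker, Groth.Agent.RegEmbed.ker_stalkMap j q ⊤ (isAffineOpen_top _) trivial]
    have hk : RingHom.ker (j.app ⊤).hom = I.map (Scheme.ΓSpecIso (CommRingCat.of P)).inv.hom := by
      have hnat := Scheme.ΓSpecIso_inv_naturality (CommRingCat.ofHom (Ideal.Quotient.mk I))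
      have hc : ∀ a, (j.app ⊤).hom ((Scheme.ΓSpecIso (CommRingCat.of P)).inv a) =
          (Scheme.ΓSpecIso _).inv (Ideal.Quotient.mk I a) := fun a => (congr($(hnat) a)).symm
      refine le_antisymm (fun b hb => ?_) (Ideal.map_le_iff_le_comap.2 fun a ha => ?_)
      · obtain ⟨a, rfl⟩ := (ConcreteCategory.bijective_of_isIso (Scheme.ΓSpecIso (CommRingCat.of P)).inv).2 b
        refine Ideal.mem_map_of_mem _ ?_
        rw [RingHom.mem_ker] at hb
        refine Ideal.Quotient.eq_zero_iff_mem.1 ?_
        exact (map_eq_zero_iff _ (ConcreteCategory.bijective_of_isIso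
          (Scheme.ΓSpecIso (CommRingCat.of (P ⧸ I))).inv).1).1 ((hc a).symm.trans hb)
      · rw [Ideal.mem_comap, RingHom.mem_ker, hc, Ideal.Quotient.eq_zero_iff_mem.2 ha, map_zero]
        rfl
    rw [hk, Ideal.map_map]
    rfl
  obtain ⟨g, hg, hT⟩ := Groth.Agent.RegEmbed.exists_spread x.asIdeal I S l hl.toIsWeaklyRegular hI
  let T := Localization.Away g
  obtain ⟨rs, hrs, hIT⟩ := hT T
  have hnum : ∀ r : T, ∃ (f : P) (v : T), IsUnit v ∧ algebraMap P T f = v * r := fun r => by
    obtain ⟨⟨f, s⟩, hs⟩ := IsLocalization.surj (Submonoid.powers g) r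
    exact ⟨f, _, IsLocalization.map_units T s, by rw [← hs, mul_comm]⟩
  choose num v hv hnum using hnum
  have hu : ∀ r : T, ∃ w : T, IsUnit w ∧ algebraMap P T (num r) = w * r := fun r => ⟨v r, hv r, hnum r⟩
  have hrs' : RingTheory.Sequence.IsWeaklyRegular T (rs.map fun r => algebraMap P T (num r)) :=
    Groth.Agent.Vasconcelos.isWeaklyRegular_map_unit _ hu hrs
  have hIT' : I.map (algebraMap P T) = Ideal.ofList (rs.map fun r => algebraMap P T (num r)) := by
    rw [Groth.Agent.Vasconcelos.ofList_map_unit _ hu, hIT]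
  let gbar : P ⧸ I := Ideal.Quotient.mk I g
  let L := Localization.Away gbar
  have hgq : gbar ∉ q.asIdeal := hg
  have hle : Submonoid.powers g ≤ (Submonoid.powers gbar).comap (Ideal.Quotient.mk I) :=
    Submonoid.powers_le.2 (Submonoid.mem_powers gbar)
  let ρ : T →+* L := IsLocalization.map L (Ideal.Quotient.mk I) hle
  haveI : IsLocalization ((Submonoid.powers g).map (Ideal.Quotient.mk I)) L := by
    rw [Submonoid.map_powers]
    exact (inferInstance : IsLocalization (Submonoid.powers gbar) L)
  have hρs : Function.Surjective ρ :=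
    IsLocalization.map_surjective_of_surjective _ _ _ (g := Ideal.Quotient.mk I) Ideal.Quotient.mk_surjective
  have hρk : RingHom.ker ρ = I.map (algebraMap P T) := by
    refine (IsLocalization.ker_map L (Ideal.Quotient.mk I) ?_).trans (by rw [Ideal.mk_ker])
    exact Submonoid.map_powers _ _
  let e0 : Polynomial P := Polynomial.C g * Polynomial.X - 1
  let ψ : Polynomial P →+* T := (Localization.awayEquivAdjoin g).symm.toRingEquiv.toRingHom.comp (AdjoinRoot.mk e0)
  have hψs : Function.Surjective ψ :=
    (Localization.awayEquivAdjoin g).symm.surjective.comp AdjoinRoot.mk_surjective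
  have hψk : RingHom.ker ψ = Ideal.ofList [e0] := by
    ext p
    rw [Ideal.ofList_singleton, Ideal.mem_span_singleton, RingHom.mem_ker]
    exact (map_eq_zero_iff _ (Localization.awayEquivAdjoin g).symm.injective).trans AdjoinRoot.mk_eq_zero
  have hψC : ∀ a : P, ψ (Polynomial.C a) = algebraMap P T a := fun a =>
    (Localization.awayEquivAdjoin g).symm.commutes a
  have he0 : RingTheory.Sequence.IsWeaklyRegular (Polynomial P) [e0] := by
    rw [RingTheory.Sequence.isWeaklyRegular_singleton_iff, isSMulRegular_iff_right_eq_zero_of_smul]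
    intro p hp
    rw [smul_eq_mul] at hp
    refine Polynomial.ext fun m => ?_
    induction m with
    | zero => simpa [e0, sub_mul, mul_assoc] using congrArg (fun z => Polynomial.coeff z 0) hp
    | succ m ih =>
      have h2 := congrArg (fun z => Polynomial.coeff z (m + 1)) hp
      rw [Polynomial.coeff_zero] at ih
      simpa [e0, sub_mul, mul_assoc, Polynomial.coeff_X_mul, ih] using h2
  let xs : List (Polynomial P) := rs.map fun r => Polynomial.C (num r)
  have hxs : xs.map ψ = rs.map fun r => algebraMap P T (num r) := by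
    rw [List.map_map]
    exact List.map_congr_left fun r _ => hψC _
  have hreg : RingTheory.Sequence.IsWeaklyRegular (Polynomial P) (e0 :: xs) :=
    Groth.Agent.CIPres.weaklyRegular_append_lift ψ hψs [e0] he0 hψk xs (hxs ▸ hrs')
  have hkerQ : RingHom.ker (ρ.comp ψ) = Ideal.ofList (e0 :: xs) := by
    rw [← RingHom.comap_ker, hρk, hIT', ← hxs, Groth.Agent.CIPres.ofList_map_lift ψ hψs, hψk, ← Ideal.ofList_append]
    rfl
  let E : MvPolynomial (Fin (n + 1)) A ≃ₐ[A] Polynomial P := MvPolynomial.finSuccEquiv A n
  let Φ : MvPolynomial (Fin (n + 1)) A →ₐ[A] L :=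
    { toRingHom := (ρ.comp ψ).comp E.toRingEquiv.toRingHom
      commutes' := fun a => by
        show ρ (ψ (E (algebraMap A _ a))) = _
        rw [E.commutes, show algebraMap A (Polynomial P) a = Polynomial.C (algebraMap A P a) from rfl, hψC,
          IsLocalization.map_eq]
        rfl }
  have hΦs : Function.Surjective Φ := (hρs.comp hψs).comp E.surjective
  refine ⟨gbar, hgq, _, fun i => E.symm ((e0 :: xs).get i), ?_, ?_⟩
  · have hof : (List.ofFn fun i => E.symm ((e0 :: xs).get i)) = (e0 :: xs).map E.symm := by
      conv_rhs => rw [← List.ofFn_get (e0 :: xs)]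
      exact List.map_ofFn.symm
    rw [hof]
    refine ⟨Groth.FlatDescent.Slicing.isWeaklyRegular_ringEquiv E.symm.toRingEquiv hreg, ?_⟩
    rw [smul_eq_mul, Ideal.mul_top]
    intro htop
    have hne : (Ideal.ofList (e0 :: xs)) ≠ ⊤ := by
      rw [← hkerQ]
      haveI : Nontrivial L := not_subsingleton_iff_nontrivial.1 fun hs => by
        obtain ⟨k, hk⟩ := (IsLocalization.subsingleton_iff (S := L) (M := Submonoid.powers gbar)).1 hs
        exact hgq (q.2.mem_of_pow_mem k (by rw [show gbar ^ k = 0 from hk]; exact q.asIdeal.zero_mem))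
      exact RingHom.ker_ne_top _
    refine hne ?_
    have h2 := congrArg (Ideal.map E.toRingEquiv.toRingHom) htop.symm
    rw [Ideal.map_top, Ideal.map_ofList, List.map_map] at h2
    rw [← h2]
    congr 1
    exact ((List.map_congr_left fun p _ => (E.apply_symm_apply p)).trans (List.map_id _)).symm
  · have hof : (List.ofFn fun i => E.symm ((e0 :: xs).get i)) = (e0 :: xs).map E.symm := by
      conv_rhs => rw [← List.ofFn_get (e0 :: xs)]
      exact List.map_ofFn.symm
    have hk : RingHom.ker Φ.toRingHom = Ideal.ofList (List.ofFn fun i => E.symm ((e0 :: xs).get i)) := by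
      show RingHom.ker ((ρ.comp ψ).comp E.toRingEquiv.toRingHom) = _
      rw [← RingHom.comap_ker, hkerQ, hof]
      have h3 := Ideal.comap_symm (I := Ideal.ofList (e0 :: xs)) E.symm.toRingEquiv
      rw [show ((e0 :: xs).map E.symm) = (e0 :: xs).map E.symm.toRingEquiv.toRingHom from rfl, ← Ideal.map_ofList]
      exact (Ideal.map_symm E.toRingEquiv).symm
    exact ⟨((Ideal.quotientEquivAlgOfEq A hk.symm).trans (Ideal.quotientKerAlgEquivOfSurjective hΦs)).symm⟩

end Groth.Agent.S18937
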