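import Groth.Statements.S18938
import Groth.Agent.RelGCILib.Syntomic
import Groth.Agent.RegSeq.Noeth

set_option autoImplicit false
universe u
open Synt

namespace Groth.Agent.S18938

theorem exists_equiv_castSucc (A : Type u) [CommRing A] (n : ℕ) :
    ∃ u : MvPolynomial (Fin (n + 1)) A ≃ₐ[A] Polynomial (MvPolynomial (Fin n) A),
      (∀ z, u (MvPolynomial.rename Fin.castSucc z) = Polynomial.C z) ∧ u (MvPolynomial.X (Fin.last n)) = Polynomial.X := by
  refine ⟨(MvPolynomial.renameEquiv A finSuccEquivLast).trans (MvPolynomial.optionEquivLeft A (Fin n)), fun z => ?_, ?_⟩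
  · induction z using MvPolynomial.induction_on with
    | C a => simp [MvPolynomial.optionEquivLeft_C]
    | add a b ha hb => simp only [map_add, ha, hb]
    | mul_X a i ha => simp only [map_mul, ha, MvPolynomial.rename_X]; simp [MvPolynomial.optionEquivLeft_X_some]
  · simp [MvPolynomial.optionEquivLeft_X_none]

/-- Let A be a Noetherian commutative ring and B a syntomic A-algebra. Then Spec B is covered by basic
opens D(g) with B[1/g] isomorphic, as an A-algebra, to A[T_1, …, T_n]/(P_1, …, P_d) for a regular
sequence P_1, …, P_d (successive non-zero-divisors with nonzero last quotient) in the polynomial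
ring A[T_1, …, T_n]. (The source states this for a syntomic scheme over Spec A, syntomic meaning
flat, locally of finite presentation and locally a Koszul-regular immersion into a smooth scheme;
here syntomic is the ring-map notion with local complete intersection fibres, which agrees with it.) -/
theorem result
    (A : Type u) [CommRing A] [IsNoetherianRing A] (B : Type u) [CommRing B] [Algebra A B]
    (h : Synt.IsSyntomic A B) (q : PrimeSpectrum B) :
    ∃ g : B, g ∉ q.asIdeal ∧
      ∃ (n d : ℕ) (P : Fin d → MvPolynomial (Fin n) A),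
        RingTheory.Sequence.IsRegular (MvPolynomial (Fin n) A) (List.ofFn P) ∧
        Nonempty (Localization.Away g ≃ₐ[A] (MvPolynomial (Fin n) A ⧸ Ideal.ofList (List.ofFn P))) := by
  obtain ⟨g₁, hg₁, n, c, F, hF, ⟨e⟩⟩ := RelGCILib.exists_away_isRelGCI_of_isSyntomic A h q.asIdeal
  let S₁ := Localization.Away g₁
  let qL : Ideal S₁ := q.asIdeal.map (algebraMap B S₁)
  haveI : qL.IsPrime := IsLocalization.isPrime_of_isPrime_disjoint (Submonoid.powers g₁) S₁ _ inferInstance
    (Set.disjoint_left.2 fun x hx hxq => by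
      obtain ⟨k, rfl⟩ := hx
      exact hg₁ (q.isPrime.mem_of_pow_mem k hxq))
  let φ : MvPolynomial (Fin n) A →+* S₁ := e.symm.toAlgHom.toRingHom.comp (Ideal.Quotient.mk (Ideal.span (Set.range F)))
  let P : Ideal (MvPolynomial (Fin n) A) := qL.comap φ
  haveI : P.IsPrime := inferInstance
  have hFP : Ideal.span (Set.range F) ≤ P := fun x hx => by
    show e.symm (Ideal.Quotient.mk _ x) ∈ qL
    rw [Ideal.Quotient.eq_zero_iff_mem.2 hx, map_zero]; exact zero_mem _
  have hw := RelGCILib.weaklyRegular_localization F hF P hFP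
  rw [show (List.ofFn fun j => algebraMap _ (Localization.AtPrime P) (F j)) =
    (List.ofFn F).map (algebraMap _ (Localization.AtPrime P)) from by rw [List.map_ofFn]; rfl] at hw
  obtain ⟨hh, hhP, hT⟩ := Vasconcelos.regOn_spread P (List.ofFn F) ((RegSeq.regOn_self_iff _ _).2 hw)
  have hwh : RingTheory.Sequence.IsWeaklyRegular (Localization.Away hh)
      ((List.ofFn F).map (algebraMap (MvPolynomial (Fin n) A) (Localization.Away hh))) :=
    (RegSeq.regOn_self_iff (Submonoid.powers hh) _).1 (hT _ ⟨1, by rw [one_mul]; exact Submonoid.mem_powers hh⟩)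
  obtain ⟨g, hg, ⟨eg⟩⟩ := RelGCILib.exists_away_away (R := A) q.asIdeal g₁ e (Ideal.Quotient.mk _ hh)
    (fun s hs => Ideal.mem_map_of_mem _ hs) qL hhP
  obtain ⟨e₃⟩ := RelGCILib.nonempty_away_equiv F hh
  let P' : Fin (c + 1) → MvPolynomial (Fin (n + 1)) A :=
    Fin.cons (MvPolynomial.rename Fin.castSucc hh * MvPolynomial.X (Fin.last n) - 1)
      (fun i => MvPolynomial.rename Fin.castSucc (F i))
  have hspan : Ideal.ofList (List.ofFn P') = Ideal.span (Set.range (RelGCILib.awaySeq F hh)) := by
    rw [KRIdeal.ofList_ofFn]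
    congr 1
    ext y
    simp only [Set.mem_range]
    constructor
    · rintro ⟨i, rfl⟩
      induction i using Fin.cases with
      | zero => exact ⟨Fin.last c, by simp [P', RelGCILib.awaySeq]⟩
      | succ i => exact ⟨i.castSucc, by simp [P', RelGCILib.awaySeq]⟩
    · rintro ⟨i, rfl⟩
      induction i using Fin.lastCases with
      | last => exact ⟨0, by simp [P', RelGCILib.awaySeq]⟩
      | cast i => exact ⟨i.succ, by simp [P', RelGCILib.awaySeq]⟩
  let eAll : Localization.Away g ≃ₐ[A] MvPolynomial (Fin (n + 1)) A ⧸ Ideal.ofList (List.ofFn P') :=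
    (eg.trans e₃).trans (Ideal.quotientEquivAlgOfEq A hspan.symm)
  refine ⟨g, hg, n + 1, c + 1, P', ⟨?_, ?_⟩, ⟨eAll⟩⟩
  · obtain ⟨u, hu, hlast⟩ := exists_equiv_castSucc A n
    set f := MvPolynomial.rename Fin.castSucc hh * MvPolynomial.X (Fin.last n) - 1 with hf
    have huf : u f = Polynomial.C hh * Polynomial.X - 1 := by
      rw [hf, map_sub, map_mul, map_one, hu, hlast]
    rw [List.ofFn_succ]
    show RingTheory.Sequence.IsWeaklyRegular _ (f :: List.ofFn fun i => MvPolynomial.rename Fin.castSucc (F i))
    rw [RingTheory.Sequence.isWeaklyRegular_cons_iff]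
    refine ⟨IsSMulRegular.of_right_eq_zero_of_smul fun x hx => u.injective ?_, ?_⟩
    · have h1 := KRIdeal.isSMulRegular_CX_sub_one hh
      rw [map_zero]
      refine h1.right_eq_zero_of_smul ?_
      rw [smul_eq_mul, ← huf, ← map_mul, ← smul_eq_mul, hx, map_zero]
    · let E : QuotSMulTop f (MvPolynomial (Fin (n + 1)) A) ≃ₗ[MvPolynomial (Fin (n + 1)) A]
          MvPolynomial (Fin (n + 1)) A ⧸ Ideal.span {f} := Submodule.quotEquivOfEq _ _
        (by rw [← Submodule.ideal_span_singleton_smul, smul_eq_mul, Ideal.mul_top])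
      let e₄ : (MvPolynomial (Fin (n + 1)) A ⧸ Ideal.span {f}) ≃+* Localization.Away hh :=
        (Ideal.quotientEquiv _ (Ideal.span {Polynomial.C hh * Polynomial.X - 1}) u.toRingEquiv (by
          rw [Ideal.map_span, Set.image_singleton]
          exact congrArg (fun z => Ideal.span {z}) huf.symm)).trans (Localization.awayEquivAdjoin hh).symm.toRingEquiv
      have he₄ : ∀ i, e₄ (Ideal.Quotient.mk _ (MvPolynomial.rename Fin.castSucc (F i))) = algebraMap (MvPolynomial (Fin n) A) _ (F i) := fun i => by
        show (Localization.awayEquivAdjoin hh).symm (Ideal.Quotient.mk _ (u (MvPolynomial.rename Fin.castSucc (F i)))) = _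
        rw [hu]
        exact (Localization.awayEquivAdjoin hh).symm.commutes (F i)
      rw [E.isWeaklyRegular_congr,
        ← RingTheory.Sequence.isWeaklyRegular_map_algebraMap_iff (MvPolynomial (Fin (n + 1)) A ⧸ Ideal.span {f}),
        List.map_ofFn]
      refine (AddEquiv.isWeaklyRegular_congr (e := e₄.toAddEquiv) ?_).2 hwh
      rw [List.map_ofFn, List.forall₂_iff_get]
      refine ⟨by simp, fun i h1 h2 x => ?_⟩
      simp only [List.get_eq_getElem, List.getElem_ofFn, Function.comp_apply]
      show e₄ (_ * x) = _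
      rw [map_mul]
      exact congrArg (· * e₄ x) (he₄ _)
  · intro htop
    rw [smul_eq_mul, Ideal.mul_top] at htop
    haveI : Subsingleton (MvPolynomial (Fin (n + 1)) A ⧸ Ideal.ofList (List.ofFn P')) :=
      Ideal.Quotient.subsingleton_iff.2 htop.symm
    haveI : Subsingleton (Localization.Away g) := eAll.toEquiv.subsingleton
    obtain ⟨k, hk⟩ := (IsLocalization.subsingleton_iff (M := Submonoid.powers g) (S := Localization.Away g)).1 inferInstance
    exact hg (q.isPrime.mem_of_pow_mem k (by rw [show g ^ k = 0 from hk]; exact zero_mem _))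

end Groth.Agent.S18938
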