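import Groth.Statements.S18942
import Mathlib

set_option autoImplicit false
universe u
open DPow

namespace Groth.Agent.S18942

/-- Let p be a prime, k a perfect field of characteristic p, n a natural number and x an element of
W_n(k), written here as the truncation of a Witt vector x over k. For any Witt vectors y_0, …,
y_{n−1} over k lifting the components of x under the map y ↦ (y_0)^(p^n) (that is, (y_i)_0^(p^n) =
x_i), one has x = Σ_{i<n} p^i y_i^(p^(n−i)) in W_n(k). -/
theorem result (p : ℕ) [Fact p.Prime]
    (k : Type u) [Field k] [CharP k p] [PerfectRing k p] (n : ℕ) (x : WittVector p k)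
    (y : Fin n → WittVector p k) (hy : ∀ i : Fin n, ((y i).coeff 0) ^ (p ^ n) = x.coeff i) :
    WittVector.truncate n x =
      WittVector.truncate n (∑ i : Fin n, (p : WittVector p k) ^ (i : ℕ) * (y i) ^ (p ^ (n - i))) := by
  classical
  have hmk : ∀ v w : WittVector p k, (∀ i < n, v.coeff i = w.coeff i) → WittVector.truncate n v = WittVector.truncate n w :=
    fun v w h => TruncatedWittVector.ext fun i => by rw [WittVector.coeff_truncate, WittVector.coeff_truncate]; exact h i i.2
  have hker : ∀ v : WittVector p k, (p : WittVector p k) ^ n ∣ v → WittVector.truncate n v = 0 := by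
    rintro v ⟨z, rfl⟩
    rw [← map_zero (WittVector.truncate (p := p) (R := k) n)]
    refine hmk _ _ fun i hi => ?_
    rw [mul_comm, WittVector.mul_pow_charP_coeff_zero _ hi, WittVector.zero_coeff]
  have hterm : ∀ i : Fin n, WittVector.truncate n ((p : WittVector p k) ^ (i : ℕ) * (y i) ^ (p ^ (n - i))) =
      WittVector.truncate n (WittVector.teichmuller p ((y i).coeff 0 ^ (p ^ (n - i))) * (p : WittVector p k) ^ (i : ℕ)) := by
    intro i
    rw [← sub_eq_zero, ← map_sub]
    refine hker _ ?_
    have h1 : (p : WittVector p k) ∣ y i - WittVector.teichmuller p ((y i).coeff 0) := by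
      set d := y i - WittVector.teichmuller p ((y i).coeff 0)
      have h0 : d.coeff 0 = 0 := by
        show WittVector.constantCoeff d = 0
        rw [map_sub, WittVector.constantCoeff_apply, WittVector.constantCoeff_apply, WittVector.teichmuller_coeff_zero, sub_self]
      have hV := WittVector.eq_iterate_verschiebung (x := d) (n := 1) fun j hj => by
        obtain rfl : j = 0 := by omega
        exact h0
      obtain ⟨z, hz⟩ := (WittVector.frobenius_bijective p k).surjective (d.shift 1)
      refine ⟨z, ?_⟩
      rw [hV, Function.iterate_one, ← hz, WittVector.verschiebung_frobenius, mul_comm]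
    rw [map_pow, mul_comm (_ ^ (p ^ (n - i))) ((p : WittVector p k) ^ (i : ℕ)), ← mul_sub]
    refine (pow_dvd_pow _ (show n ≤ (i : ℕ) + (n - i + 1) by omega)).trans ?_
    rw [pow_add]
    exact mul_dvd_mul_left _ (dvd_sub_pow_of_dvd_sub h1 (n - i))
  rw [map_sum, Finset.sum_congr rfl (fun i _ => hterm i), ← map_sum]
  refine hmk _ _ fun j hj => ?_
  let T : Fin n → WittVector p k := fun i =>
    WittVector.teichmuller p ((y i).coeff 0 ^ (p ^ (n - i))) * (p : WittVector p k) ^ (i : ℕ)
  have hT : ∀ (i : Fin n) l, (T i).coeff l = if l = (i : ℕ) then x.coeff i else 0 := by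
    intro i l
    rcases lt_or_ge l i with h | h
    · rw [WittVector.mul_pow_charP_coeff_zero _ h, if_neg h.ne]
    · obtain ⟨e, rfl⟩ := Nat.exists_eq_add_of_le' h
      rw [WittVector.mul_pow_charP_coeff_succ]
      rcases Nat.eq_zero_or_pos e with rfl | he
      · rw [WittVector.teichmuller_coeff_zero, ← pow_mul, ← pow_add, if_pos (Nat.zero_add _),
          show n - (i : ℕ) + i = n by omega, hy]
      · rw [WittVector.teichmuller_coeff_pos p _ _ he, zero_pow (pow_ne_zero _ (Fact.out : p.Prime).ne_zero), if_neg (by omega)]
  have hsum : ∀ (s : Finset (Fin n)) l, (∑ i ∈ s, T i).coeff l = ∑ i ∈ s, (T i).coeff l := by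
    intro s
    induction s using Finset.induction with
    | empty => intro l; simp
    | @insert a s ha ih =>
      intro l
      rw [Finset.sum_insert ha, Finset.sum_insert ha, WittVector.coeff_add_of_disjoint, ih]
      intro r
      by_cases hr : r = (a : ℕ)
      · right
        rw [ih, Finset.sum_eq_zero fun b hb => ?_]
        rw [hT, if_neg]
        rintro h
        exact ha ((Fin.ext (h.symm.trans hr) : b = a) ▸ hb)
      · exact Or.inl (by rw [hT, if_neg hr])
  show x.coeff j = (∑ i, T i).coeff j
  rw [hsum, Finset.sum_eq_single (⟨j, hj⟩ : Fin n) (fun b _ hb => ?_) (fun h => absurd (Finset.mem_univ _) h), hT, if_pos rfl]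
  rw [hT, if_neg fun h => hb (Fin.ext h.symm)]

end Groth.Agent.S18942
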