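import Groth.Statements.S18943
import Mathlib.Analysis.Calculus.ParametricIntervalIntegral
import Mathlib.MeasureTheory.Integral.IntervalIntegral.FundThmCalculus
import Mathlib.Analysis.Calculus.IteratedDeriv.Lemmas
-- import your own Groth.Agent.* helpers here

set_option autoImplicit false
open scoped ContDiff
open CInfGerm

namespace Groth.Agent.S18943

/-- Let f be an infinitely differentiable real-valued function on the real line with f(0) = 0. Then f(x)
= x·g(x) for an infinitely differentiable function g. (The source phrases this for germs at 0: the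
maximal ideal of the local ring of germs of smooth functions at the origin is generated by the
coordinate t; the global form stated here is what its argument, smooth extension of f(x)/x across 0,
gives.) -/
theorem result (f : ℝ → ℝ) (hf : ContDiff ℝ ∞ f) (h0 : f 0 = 0) :
    ∃ g : ℝ → ℝ, ContDiff ℝ ∞ g ∧ ∀ x : ℝ, f x = x * g x := by
  let g : ℕ → ℝ → ℝ := fun m x => ∫ t in (0:ℝ)..1, t ^ m * iteratedDeriv (m + 1) f (t * x)
  have hd : ∀ m x, HasDerivAt (g m) (g (m + 1) x) x := by
    intro m x₀
    have hc : ∀ j, Continuous (iteratedDeriv j f) := fun j => hf.continuous_iteratedDeriv j (by exact_mod_cast le_top)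
    have hc' : ∀ j i, Continuous fun z : ℝ × ℝ => z.2 ^ j * iteratedDeriv i f (z.2 * z.1) := fun j i =>
      (continuous_snd.pow j).mul ((hc i).comp (continuous_snd.mul continuous_fst))
    obtain ⟨C, hC⟩ := ((isCompact_closedBall x₀ 1).prod (isCompact_uIcc (a := (0:ℝ)) (b := 1))).exists_bound_of_continuousOn (hc' (m + 1) (m + 1 + 1)).continuousOn
    have hcs : ∀ j i x, Continuous fun t : ℝ => t ^ j * iteratedDeriv i f (t * x) := fun j i x =>
      (hc' j i).comp (Continuous.prodMk continuous_const continuous_id)
    refine (intervalIntegral.hasDerivAt_integral_of_dominated_loc_of_deriv_le (𝕜 := ℝ)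
      (F := fun x t => t ^ m * iteratedDeriv (m + 1) f (t * x))
      (F' := fun x t => t ^ (m + 1) * iteratedDeriv (m + 1 + 1) f (t * x)) (bound := fun _ => C)
      (Metric.closedBall_mem_nhds x₀ one_pos) ?_ ?_ ?_ ?_ ?_ ?_).2
    · exact Filter.Eventually.of_forall fun x => (hcs m (m + 1) x).aestronglyMeasurable
    · exact (hcs m (m + 1) x₀).intervalIntegrable _ _
    · exact (hcs (m + 1) (m + 1 + 1) x₀).aestronglyMeasurable
    · exact MeasureTheory.ae_of_all _ fun t ht x hx => hC (x, t) ⟨hx, Set.uIoc_subset_uIcc ht⟩
    · exact intervalIntegrable_const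
    · refine MeasureTheory.ae_of_all _ fun t _ x _ => ?_
      have h1 : HasDerivAt (iteratedDeriv (m + 1) f) (iteratedDeriv (m + 1 + 1) f (t * x)) (t * x) := by
        rw [iteratedDeriv_succ (n := m + 1)]
        exact ((hf.differentiable_iteratedDeriv (m + 1) (WithTop.coe_lt_coe.mpr (WithTop.coe_lt_top _))) _).hasDerivAt
      have h2 := (h1.comp x ((hasDerivAt_id x).const_mul t)).const_mul (t ^ m)
      refine h2.congr_deriv ?_
      ring
  have hg : ∀ (n : ℕ) m, ContDiff ℝ n (g m) := by
    intro n
    induction n with
    | zero => exact fun m => contDiff_zero.mpr (continuous_iff_continuousAt.mpr fun x => (hd m x).continuousAt)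
    | succ n ih =>
      intro m
      rw [show ((n + 1 : ℕ) : WithTop ℕ∞) = (n : WithTop ℕ∞) + 1 by norm_cast, contDiff_succ_iff_deriv]
      refine ⟨fun x => (hd m x).differentiableAt, by simp, ?_⟩
      rw [show deriv (g m) = g (m + 1) from funext fun x => (hd m x).deriv]
      exact ih _
  refine ⟨g 0, contDiff_infty.mpr fun n => hg n 0, fun x => ?_⟩
  have hd' : ∀ t ∈ Set.uIcc (0:ℝ) 1, HasDerivAt (fun t => f (t * x)) (x * (t ^ 0 * iteratedDeriv (0 + 1) f (t * x))) t := by
    intro t _
    have h1 : HasDerivAt f (deriv f (t * x)) (t * x) := ((hf.differentiable (by simp)) _).hasDerivAt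
    have h2 := h1.comp t ((hasDerivAt_id t).mul_const x)
    refine h2.congr_deriv ?_
    simp [iteratedDeriv_one, mul_comm]
  have := intervalIntegral.integral_eq_sub_of_hasDerivAt hd' (Continuous.intervalIntegrable (by
    exact continuous_const.mul ((continuous_pow 0).mul ((hf.continuous_iteratedDeriv 1 (by exact_mod_cast le_top)).comp (continuous_id.mul continuous_const)))) _ _)
  rw [intervalIntegral.integral_const_mul] at this
  simp only [one_mul, zero_mul, h0, sub_zero] at this
  exact this.symm

end Groth.Agent.S18943
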