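import Groth.Statements.S18945
import Groth.Agent.CIPres.SyntomicAlg

set_option autoImplicit false
universe u
open CategoryTheory AlgebraicGeometry
open Synt

namespace Groth.Agent.S18945

/-- Let p be a prime, X a scheme and a a global section of the structure sheaf of X. There is a covering
of X for the syntomic topology, that is a jointly surjective family of syntomic morphisms X_i → X,
such that the restriction of a to each X_i is a p-th power. (The source states the surjectivity of
the p-th power map of the structure sheaf on the small syntomic site of a syntomic scheme over a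
perfect field of characteristic p; the covering it uses elsewhere, adjoining a p-th root T^p = a
over affine pieces, gives the statement for every scheme, which is the form given here.) -/
theorem result (p : ℕ) [Fact p.Prime] (X : Scheme.{u}) (a : Γ(X, ⊤)) :
    ∃ 𝒰 : Scheme.Cover.{u} (Scheme.precoverage @Synt.IsSyntomicMor) X,
      ∀ i : 𝒰.I₀, ∃ b : Γ(𝒰.X i, ⊤), b ^ p = (𝒰.f i).appTop a := by
  classical
  let 𝒰₀ := X.affineOpens
  let R : 𝒰₀ → Type u := fun U => AdjoinRoot ((Polynomial.X : Polynomial Γ(X, U.1)) ^ p -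
    Polynomial.C (X.presheaf.map (homOfLE (le_top : U.1 ≤ ⊤)).op a))
  have hP : ∀ U : 𝒰₀, ((Polynomial.X : Polynomial Γ(X, U.1)) ^ p -
      Polynomial.C (X.presheaf.map (homOfLE (le_top : U.1 ≤ ⊤)).op a)).Monic := fun U =>
    Polynomial.monic_X_pow_sub_C _ (Fact.out : p.Prime).ne_zero
  let φ : ∀ U : 𝒰₀, Γ(X, U.1) →+* R U := fun U => algebraMap Γ(X, U.1) (R U)
  let F : ∀ U : 𝒰₀, Spec (CommRingCat.of (R U)) ⟶ X := fun U =>
    Spec.map (CommRingCat.ofHom (φ U)) ≫ U.2.fromSpec
  have hF : ∀ U, Synt.IsSyntomicMor (F U) := fun U =>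
    CIPres.isSyntomicMor_comp _ _
      (CIPres.isSyntomicMor_specMap _ _ (CIPres.isSyntomic_adjoinRoot _ _ (hP U)))
      (CIPres.isSyntomicMor_of_smooth _)
  have hcov : ∀ x : X, ∃ U y, F U y = x := fun x => by
    obtain ⟨U, hU, hxU, -⟩ :=
      exists_isAffineOpen_mem_and_subset (X := X) (U := ⊤) (x := x) trivial
    refine ⟨⟨U, hU⟩, ?_⟩
    haveI := (hP ⟨U, hU⟩).finite_adjoinRoot
    haveI : Module.Free Γ(X, U) (R ⟨U, hU⟩) :=
      Module.Free.of_basis (AdjoinRoot.powerBasis' (hP ⟨U, hU⟩)).basis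
    haveI : Nontrivial Γ(X, U) := by
      have : Nonempty (Spec Γ(X, U)) := ⟨hU.primeIdealOf ⟨x, hxU⟩⟩
      exact PrimeSpectrum.nonempty_iff_nontrivial.1 this
    haveI : Nontrivial (R ⟨U, hU⟩) := Ideal.Quotient.nontrivial_iff.2 fun h => by
      have h1 := (hP ⟨U, hU⟩).eq_one_of_isUnit (Ideal.span_singleton_eq_top.1 h)
      have h2 := congrArg Polynomial.natDegree h1
      rw [Polynomial.natDegree_X_pow_sub_C, Polynomial.natDegree_one] at h2
      exact (Fact.out : p.Prime).ne_zero h2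
    haveI : Module.FaithfullyFlat Γ(X, U) (R ⟨U, hU⟩) := inferInstance
    obtain ⟨y, hy⟩ := PrimeSpectrum.comap_surjective_of_faithfullyFlat
      (A := Γ(X, U)) (B := R ⟨U, hU⟩) (hU.primeIdealOf ⟨x, hxU⟩)
    refine ⟨y, ?_⟩
    show hU.fromSpec (Spec.map (CommRingCat.ofHom (φ ⟨U, hU⟩)) y) = x
    refine (congrArg hU.fromSpec hy).trans ?_
    exact hU.fromSpec_primeIdealOf ⟨x, hxU⟩
  let 𝒰 : Scheme.Cover.{u} (Scheme.precoverage @Synt.IsSyntomicMor) X :=
    { I₀ := 𝒰₀
      X := fun U => Spec (CommRingCat.of (R U))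
      f := F
      mem₀ := by
        rw [Scheme.ofArrows_mem_precoverage_iff]
        exact ⟨fun x => hcov x, fun U => hF U⟩ }
  refine ⟨𝒰, fun U => ?_⟩
  let b : R U := AdjoinRoot.root _
  refine ⟨(Scheme.ΓSpecIso (CommRingCat.of (R U))).inv b, ?_⟩
  have hb : b ^ p = φ U (X.presheaf.map (homOfLE (le_top : U.1.1 ≤ ⊤)).op a) := by
    have h := AdjoinRoot.eval₂_root ((Polynomial.X : Polynomial Γ(X, U.1)) ^ p -
      Polynomial.C (X.presheaf.map (homOfLE (le_top : U.1.1 ≤ ⊤)).op a))
    rw [Polynomial.eval₂_sub, Polynomial.eval₂_X_pow, Polynomial.eval₂_C, sub_eq_zero] at h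
    exact h
  show _ ^ p = (F U).appTop a
  rw [← map_pow, hb]
  show _ = (Spec.map (CommRingCat.ofHom (φ U))).appTop (U.2.fromSpec.appTop a)
  rw [show U.2.fromSpec.appTop = U.2.fromSpec.app ⊤ from rfl, IsAffineOpen.fromSpec_app_of_le U.2 ⊤ le_top]
  exact (ConcreteCategory.congr_hom (Scheme.ΓSpecIso_inv_naturality (CommRingCat.ofHom (φ U))) _)

end Groth.Agent.S18945
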