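import Groth.Statements.S18946
import Mathlib.Algebra.MvPolynomial.Basic
import Mathlib.RingTheory.Adjoin.Basic
-- import your own Groth.Agent.* helpers here

set_option autoImplicit false
universe u
open scoped BigOperators
open InvQ

namespace Groth.Agent.S18946

/-- Let k be an algebraically closed field of characteristic zero and n a natural number, and let the
torus of (n+1)-tuples of units of k with product 1 act on the polynomial ring k[t_0, ..., t_n] by
rescaling each variable t_i by the i-th unit. A polynomial is fixed by every such rescaling if and
only if it lies in the k-subalgebra generated by the product t_0 t_1 ... t_n. (This is the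
computation of the ring of functions on affine (n+1)-space invariant under the maximal diagonal
torus of the special linear group, identified with the polynomial ring in the single coordinate t =
t_0 ... t_n of the line it maps to by the product map; invariance is tested on k-valued points of
the torus, which over an infinite field is the same as invariance under the group scheme.) -/
theorem result
    (k : Type u) [Field k] [IsAlgClosed k] [CharZero k] (n : ℕ)
    (f : MvPolynomial (Fin (n + 1)) k) :
    (∀ σ : Fin (n + 1) → kˣ, ∏ i, (σ i : k) = 1 →
        MvPolynomial.aeval (fun i => MvPolynomial.C (σ i : k) * MvPolynomial.X i) f = f) ↔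
      f ∈ Algebra.adjoin k ({∏ i : Fin (n + 1), MvPolynomial.X i} : Set (MvPolynomial (Fin (n + 1)) k)) := by
  classical
  constructor
  · intro h
    have hcoef : ∀ (σ : Fin (n + 1) → kˣ) (g : MvPolynomial (Fin (n + 1)) k) (m : Fin (n + 1) →₀ ℕ),
        MvPolynomial.coeff m
          (MvPolynomial.aeval (fun i => MvPolynomial.C (σ i : k) * MvPolynomial.X i) g) =
          MvPolynomial.coeff m g * ∏ i, (σ i : k) ^ m i := by
      intro σ g m
      induction g using MvPolynomial.induction_on' with
      | add p q hp hq => rw [map_add, MvPolynomial.coeff_add, MvPolynomial.coeff_add, hp, hq, add_mul]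
      | monomial d a =>
        have : MvPolynomial.aeval (fun i => MvPolynomial.C (σ i : k) * MvPolynomial.X i)
            (MvPolynomial.monomial d a) = MvPolynomial.monomial d (a * ∏ i, (σ i : k) ^ d i) := by
          rw [MvPolynomial.aeval_monomial, MvPolynomial.monomial_eq (a := a * _),
            Finsupp.prod_fintype _ _ (fun i => pow_zero _),
            Finsupp.prod_fintype _ _ (fun i => pow_zero _)]
          simp only [MvPolynomial.algebraMap_eq, mul_pow, map_mul, map_prod, map_pow,
            Finset.prod_mul_distrib]
          ring
        rw [this, MvPolynomial.coeff_monomial, MvPolynomial.coeff_monomial]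
        split_ifs with hd
        · rw [hd]
        · rw [zero_mul]
    have hdiag : ∀ m ∈ f.support, ∀ i j, m i = m j := by
      intro m hm i j
      by_contra hne
      have hij : i ≠ j := fun e => hne (e ▸ rfl)
      let t : kˣ := Units.mk0 2 two_ne_zero
      let σ : Fin (n + 1) → kˣ := Pi.mulSingle i t * Pi.mulSingle j t⁻¹
      have key : ∀ e : Fin (n + 1) → ℕ, ∏ l, (σ l : k) ^ e l = (2 : k) ^ e i * ((2 : k) ^ e j)⁻¹ := by
        intro e
        rw [← Finset.prod_subset (Finset.subset_univ {i, j}) ?_, Finset.prod_pair hij]
        · simp [σ, t, hij, hij.symm, inv_pow]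
        · intro l _ hl
          simp only [Finset.mem_insert, Finset.mem_singleton, not_or] at hl
          simp [σ, hl.1, hl.2]
      have hσ : ∏ l, (σ l : k) = 1 := by
        simpa using key (fun _ => 1)
      have h2 := hcoef σ f m
      rw [h σ hσ, key] at h2
      have hc : MvPolynomial.coeff m f ≠ 0 := MvPolynomial.mem_support_iff.1 hm
      have h3 : (2 : k) ^ m i * ((2 : k) ^ m j)⁻¹ = 1 :=
        mul_left_cancel₀ hc (by rw [← h2, mul_one])
      have h4 : (2 : k) ^ m i = (2 : k) ^ m j := mul_inv_eq_one₀ (pow_ne_zero _ two_ne_zero) |>.1 h3
      have h5 : (2 : ℕ) ^ m i = 2 ^ m j := by exact_mod_cast h4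
      exact hne (Nat.pow_right_injective le_rfl h5)
    rw [MvPolynomial.as_sum f]
    refine Subalgebra.sum_mem _ fun m hm => ?_
    have : MvPolynomial.monomial m (MvPolynomial.coeff m f) =
        algebraMap k _ (MvPolynomial.coeff m f) *
          (∏ i : Fin (n + 1), (MvPolynomial.X i : MvPolynomial (Fin (n + 1)) k)) ^ m 0 := by
      rw [MvPolynomial.monomial_eq, Finsupp.prod_fintype _ _ (fun i => pow_zero _),
        MvPolynomial.algebraMap_eq, ← Finset.prod_pow]
      congr 1
      exact Finset.prod_congr rfl fun i _ => by rw [hdiag m hm i 0]
    rw [this]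
    exact Subalgebra.mul_mem _ (Subalgebra.algebraMap_mem _ _)
      (Subalgebra.pow_mem _ (Algebra.subset_adjoin (R := k)
        (Set.mem_singleton (∏ i : Fin (n + 1), (MvPolynomial.X i : MvPolynomial (Fin (n + 1)) k)))) _)
  · intro hf σ hσ
    have hle : Algebra.adjoin k ({∏ i : Fin (n + 1), MvPolynomial.X i} :
          Set (MvPolynomial (Fin (n + 1)) k)) ≤
        AlgHom.equalizer (MvPolynomial.aeval fun i => MvPolynomial.C (σ i : k) * MvPolynomial.X i)
          (AlgHom.id k _) := by
      refine Algebra.adjoin_le ?_
      intro x hx
      rw [Set.mem_singleton_iff] at hx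
      subst hx
      show MvPolynomial.aeval _ _ = _
      rw [map_prod]
      simp only [MvPolynomial.aeval_X, Finset.prod_mul_distrib, ← map_prod, hσ, map_one, one_mul,
        AlgHom.id_apply]
    exact hle hf

end Groth.Agent.S18946
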