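import Groth.Statements.S18948
import Mathlib.Tactic.Group
-- import your own Groth.Agent.* helpers here

set_option autoImplicit false
universe u v
open CExt

namespace Groth.Agent.S18948

/-- Let f : E → G be a surjective homomorphism of groups whose kernel is central in E, and let x ∈ E.
Then f maps the conjugacy class of x bijectively onto the conjugacy class of f(x) if and only if
every element of G commuting with f(x) is the image of some element of E commuting with x. (In the
source E → G is the central extension, with kernel the roots of unity, attached to a Brauer class of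
the classifying stack of a finite tame étale group scheme, and a conjugacy class of E mapping
bijectively onto a given class of G is a marking; the equivalence is stated here for an arbitrary
central extension of abstract groups.) -/
theorem result {E : Type u} {G : Type v} [Group E] [Group G]
    (f : E →* G) (hf : Function.Surjective f) (hker : f.ker ≤ Subgroup.center E) (x : E) :
    Set.BijOn f (MulAction.orbit (ConjAct E) x) (MulAction.orbit (ConjAct G) (f x)) ↔
      ∀ g : G, g * f x = f x * g → ∃ e : E, f e = g ∧ e * x = x * e := by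
  constructor
  · intro hb g hg
    obtain ⟨e, rfl⟩ := hf g
    refine ⟨e, rfl, ?_⟩
    have hmem : e * x * e⁻¹ ∈ MulAction.orbit (ConjAct E) x := ⟨ConjAct.toConjAct e, by simp [ConjAct.smul_def]⟩
    have heq : f (e * x * e⁻¹) = f x := by
      rw [map_mul, map_mul, map_inv, hg, mul_inv_cancel_right]
    have := hb.injOn hmem (MulAction.mem_orbit_self x) heq
    exact eq_mul_of_mul_inv_eq this
  · intro H
    refine ⟨?_, ?_, ?_⟩
    · rintro y ⟨c, rfl⟩
      exact ⟨ConjAct.toConjAct (f (ConjAct.ofConjAct c)), by simp [ConjAct.smul_def]⟩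
    · rintro y ⟨c₁, rfl⟩ y' ⟨c₂, rfl⟩ h
      simp only [ConjAct.smul_def, map_mul, map_inv] at h ⊢
      set a := ConjAct.ofConjAct c₁
      set b := ConjAct.ofConjAct c₂
      obtain ⟨e, he, hex⟩ := H ((f b)⁻¹ * f a) (calc
        (f b)⁻¹ * f a * f x = (f b)⁻¹ * (f a * f x * (f a)⁻¹) * f a := by group
        _ = (f b)⁻¹ * (f b * f x * (f b)⁻¹) * f a := by rw [h]
        _ = f x * ((f b)⁻¹ * f a) := by group)
      have hz : b⁻¹ * a * e⁻¹ ∈ Subgroup.center E := hker (by simp [MonoidHom.mem_ker, he])
      calc a * x * a⁻¹ = b * ((b⁻¹ * a * e⁻¹) * (e * x)) * ((b⁻¹ * a * e⁻¹) * e)⁻¹ * b⁻¹ := by group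
        _ = b * ((b⁻¹ * a * e⁻¹) * (x * e)) * ((b⁻¹ * a * e⁻¹) * e)⁻¹ * b⁻¹ := by rw [hex]
        _ = b * ((b⁻¹ * a * e⁻¹) * x * (b⁻¹ * a * e⁻¹)⁻¹) * b⁻¹ := by group
        _ = b * x * b⁻¹ := by rw [← Subgroup.mem_center_iff.mp hz x, mul_inv_cancel_right]
    · rintro y ⟨c, rfl⟩
      obtain ⟨e, he⟩ := hf (ConjAct.ofConjAct c)
      exact ⟨e * x * e⁻¹, ⟨ConjAct.toConjAct e, by simp [ConjAct.smul_def]⟩, by simp [ConjAct.smul_def, he]⟩

end Groth.Agent.S18948
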