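import Groth.Statements.S18949
-- import your own Groth.Agent.* helpers here

set_option autoImplicit false
universe u v
open CExt

namespace Groth.Agent.S18949

/-- Automorphisms over the base: let f : E → G be a surjective homomorphism of groups with central
kernel A. For every homomorphism χ : G → A the map e ↦ χ(f(e)) · e is an endomorphism of E over G
which is the identity on A; and every endomorphism α of E with f ∘ α = f and α equal to the identity
on A is of this form for exactly one χ. (In the source this identifies the automorphisms of a
central extension fixing its kernel with Hom(G, A), for extensions of profinite étale group schemes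
over a field; stated here for abstract groups.) -/
theorem result {E : Type u} {G : Type v} [Group E] [Group G]
    (f : E →* G) (hf : Function.Surjective f) (hker : f.ker ≤ Subgroup.center E) :
    (∀ χ : G →* f.ker, ∃ α : E →* E, f.comp α = f ∧ (∀ a ∈ f.ker, α a = a) ∧
        ∀ e : E, α e = (χ (f e) : E) * e) ∧
      ∀ α : E →* E, f.comp α = f → (∀ a ∈ f.ker, α a = a) →
        ∃! χ : G →* f.ker, ∀ e : E, α e = (χ (f e) : E) * e := by
  constructor
  · intro χ
    have hc : ∀ a : f.ker, (a : E) ∈ Subgroup.center E := fun a => hker a.2
    refine ⟨MonoidHom.mk' (fun e => (χ (f e) : E) * e) (fun a b => ?_), ?_, ?_, fun e => rfl⟩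
    · rw [map_mul, map_mul, Subgroup.coe_mul, mul_assoc, mul_assoc, ← mul_assoc (χ (f b) : E) a,
        ← Subgroup.mem_center_iff.mp (hc (χ (f b))) a, mul_assoc]
    · ext e
      simp [MonoidHom.mem_ker.mp (χ (f e)).2]
    · intro a ha
      simp [MonoidHom.mem_ker.mp ha]
  · intro α hα hA
    let d : E → f.ker := fun e => ⟨α e * e⁻¹, by
      simp [MonoidHom.mem_ker, show f (α e) = f e from DFunLike.congr_fun hα e]⟩
    have hd : ∀ a b, d (a * b) = d a * d b := fun a b => Subtype.ext (by
      have := Subgroup.mem_center_iff.mp (hker (d b).2) a⁻¹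
      simp only [d] at this
      simp only [d, map_mul, Subgroup.coe_mul, mul_inv_rev, mul_assoc]
      rw [← mul_assoc (α b) b⁻¹ a⁻¹, ← this])
    let D : E →* f.ker := MonoidHom.mk' d hd
    have hDk : f.ker ≤ D.ker := fun a ha => Subtype.ext (by simp [D, d, hA a ha])
    refine ⟨MonoidHom.liftOfSurjective f hf ⟨D, hDk⟩, fun e => ?_, fun χ hχ => ?_⟩
    · simp [D, d]
    · ext g
      obtain ⟨e, rfl⟩ := hf g
      simp [D, d, hχ e]

end Groth.Agent.S18949
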