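import Groth.Statements.S18952
import Mathlib
-- import your own Groth.Agent.* helpers here

set_option autoImplicit false
universe u
open OrbPic

namespace Groth.Agent.S18952

/-- Let G be a group and C ⊆ G a subset stable under conjugation. Then (χ, w) ↦ χ maps the group of
geometric partial orbifold line bundles with respect to C onto all characters G → ℚ/ℤ, and a pair in
its kernel (χ trivial) has w a conjugation-invariant integer-valued function vanishing at 1 and
outside C: with the inclusion of such functions this is the exact sequence 0 → Hom(C/conj, ℤ) → Pic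
→ Hom(G, ℚ/ℤ) → 0 over a separably closed field. (As in the source after a choice of roots of unity,
the group G stands for the geometric points of a tame finite étale group scheme, characters are
homomorphisms to ℚ/ℤ and weights are class functions on G.) -/
theorem result (G : Type u) [Group G] (C : Set G)
    (hC : ∀ g h : G, g ∈ C → h * g * h⁻¹ ∈ C) :
    (∀ χ : Additive G →+ W4c6brauerbgmalle.QmodZ, ∃ w : G → ℚ, (χ, w) ∈ W4c6brauerbgmalle.picOrb G C) ∧
      (∀ p : (Additive G →+ W4c6brauerbgmalle.QmodZ) × (G → ℚ), p ∈ W4c6brauerbgmalle.picOrb G C → p.1 = 0 →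
        p.2 ∈ W4c6brauerbgmalle.intWeights G C) := by
  classical

  constructor
  · intro χ
    let s : W4c6brauerbgmalle.QmodZ → ℚ := fun q => Quotient.out q
    have hs : ∀ q, W4c6brauerbgmalle.toQmodZ (s q) = q := fun q => Quotient.out_eq q
    have hconj : ∀ g h : G, χ (Additive.ofMul (h * g * h⁻¹)) = χ (Additive.ofMul g) := fun g h => by
      simp only [ofMul_mul, map_add, ofMul_inv, map_neg]; abel
    refine ⟨fun g => if g ∈ C ∧ g ≠ 1 then s (χ (Additive.ofMul g)) else 0, ?_, ?_, ?_, ?_⟩
    · simp
    · intro g hg; simp [hg]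
    · intro g h
      have h1 : h * g * h⁻¹ ∈ C ↔ g ∈ C := ⟨fun hh => by simpa [mul_assoc] using hC _ h⁻¹ hh, hC g h⟩
      simp only [h1, hconj, ne_eq, conj_eq_one_iff]
    · intro g hg
      show W4c6brauerbgmalle.toQmodZ (if g ∈ C ∧ g ≠ 1 then s (χ (Additive.ofMul g)) else 0) = _
      by_cases h : g = 1
      · subst h; simp
      · rw [if_pos ⟨hg, h⟩, hs]
  · rintro p ⟨h1, h2, h3, h4⟩ hp
    refine ⟨h1, h2, h3, fun g => ?_⟩
    by_cases hg : g ∈ C
    · have e := h4 g hg
      rw [hp, AddMonoidHom.zero_apply] at e
      obtain ⟨n, hn⟩ := AddSubgroup.mem_zmultiples_iff.1 ((QuotientAddGroup.eq_zero_iff _).1 e)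
      exact ⟨n, by simpa using hn.symm⟩
    · exact ⟨0, by simp [h2 g hg]⟩

end Groth.Agent.S18952
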