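import Groth.Statements.S18953
import Mathlib
-- import your own Groth.Agent.* helpers here

set_option autoImplicit false
universe u v
open OrbPic

namespace Groth.Agent.S18953

/-- Let G₁ and G₂ be groups with subsets C₁ ⊆ G₁ and C₂ ⊆ G₂, and let C ⊆ G₁ × G₂ be the union of C₁ ×
{1} and {1} × C₂. Restricting the character and the weight along the two inclusions G₁ → G₁ × G₂ and
G₂ → G₁ × G₂ is a bijection from the geometric partial orbifold line bundles of G₁ × G₂ with respect
to C onto pairs of geometric partial orbifold line bundles of G₁ with respect to C₁ and of G₂ with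
respect to C₂. (As in the source after a choice of roots of unity, each group stands for the
geometric points of a tame finite étale group scheme, characters are homomorphisms to ℚ/ℤ and
weights are class functions; the source states the Galois-equivariant version, which follows by
taking invariants.) -/
theorem result (G₁ : Type u) (G₂ : Type v) [Group G₁] [Group G₂] (C₁ : Set G₁) (C₂ : Set G₂) :
    Set.BijOn
      (fun p : (Additive (G₁ × G₂) →+ W4c6brauerbgmalle.QmodZ) × (G₁ × G₂ → ℚ) =>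
        ((p.1.comp (MonoidHom.toAdditive (MonoidHom.inl G₁ G₂)), fun g => p.2 (g, 1)),
          (p.1.comp (MonoidHom.toAdditive (MonoidHom.inr G₁ G₂)), fun g => p.2 (1, g))))
      (W4c6brauerbgmalle.picOrb (G₁ × G₂) ((fun g => (g, (1 : G₂))) '' C₁ ∪ (fun g => ((1 : G₁), g)) '' C₂))
      ((W4c6brauerbgmalle.picOrb G₁ C₁ : Set _) ×ˢ (W4c6brauerbgmalle.picOrb G₂ C₂ : Set _)) := by
  classical
  let C := (fun g => (g, (1 : G₂))) '' C₁ ∪ (fun g => ((1 : G₁), g)) '' C₂
  have hm1 : ∀ a, a ≠ 1 → ((a, (1 : G₂)) ∈ C ↔ a ∈ C₁) := fun a ha => by simp [C, Ne.symm ha]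
  have hm2 : ∀ b, b ≠ 1 → (((1 : G₁), b) ∈ C ↔ b ∈ C₂) := fun b hb => by simp [C, Ne.symm hb]
  refine ⟨?_, ?_, ?_⟩
  · rintro ⟨χ, w⟩ ⟨h1, h2, h3, h4⟩
    refine ⟨⟨h1, fun g hg => ?_, fun g h => ?_, fun g hg => ?_⟩, ⟨h1, fun g hg => ?_, fun g h => ?_, fun g hg => ?_⟩⟩
    · by_cases hg1 : g = 1
      · subst hg1; exact h1
      · exact h2 (g, 1) (fun hc => hg ((hm1 g hg1).1 hc))
    · simpa using h3 (g, 1) (h, 1)
    · exact h4 (g, 1) (Or.inl ⟨g, hg, rfl⟩)
    · by_cases hg1 : g = 1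
      · subst hg1; exact h1
      · exact h2 (1, g) (fun hc => hg ((hm2 g hg1).1 hc))
    · simpa using h3 (1, g) (1, h)
    · exact h4 (1, g) (Or.inr ⟨g, hg, rfl⟩)
  · rintro ⟨χ, w⟩ hp ⟨χ', w'⟩ hq e
    simp only [Prod.mk.injEq] at e
    obtain ⟨⟨e1, e2⟩, e3, e4⟩ := e
    refine Prod.ext (AddMonoidHom.ext fun x => ?_) (funext fun ⟨a, b⟩ => ?_)
    · have hx : x = Additive.ofMul x.toMul := rfl
      rw [hx]
      generalize x.toMul = y
      obtain ⟨a, b⟩ := y
      have hy : Additive.ofMul (a, b) = Additive.ofMul (a, (1 : G₂)) + Additive.ofMul ((1 : G₁), b) := by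
        rw [← ofMul_mul, Prod.mk_mul_mk, mul_one, one_mul]
      show χ _ = χ' _
      rw [hy, map_add, map_add]
      exact congrArg₂ (· + ·) (DFunLike.congr_fun e1 (Additive.ofMul a)) (DFunLike.congr_fun e3 (Additive.ofMul b))
    · show w (a, b) = w' (a, b)
      by_cases hb : b = 1
      · subst hb; exact congrFun e2 a
      by_cases ha : a = 1
      · subst ha; exact congrFun e4 b
      have hn : (a, b) ∉ C := by simp [C, Ne.symm ha, Ne.symm hb]
      exact (hp.2.1 _ hn).trans (hq.2.1 _ hn).symm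
  · rintro ⟨⟨χ₁, w₁⟩, ⟨χ₂, w₂⟩⟩ ⟨hp, hq⟩
    let w : G₁ × G₂ → ℚ := fun x => if x.2 = 1 then w₁ x.1 else if x.1 = 1 then w₂ x.2 else 0
    let χ := χ₁.comp (MonoidHom.toAdditive (MonoidHom.fst G₁ G₂)) + χ₂.comp (MonoidHom.toAdditive (MonoidHom.snd G₁ G₂))
    have hw2 : ∀ b, w (1, b) = w₂ b := fun b => by
      by_cases hb : b = 1
      · subst hb
        simp only [w, if_pos]
        exact hp.1.trans hq.1.symm
      · simp [w, hb]
    refine ⟨(χ, w), ⟨by simpa [w] using hp.1, ?_, ?_, ?_⟩, ?_⟩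
    · rintro ⟨a, b⟩ hab
      by_cases hb : b = 1
      · subst hb
        show (if (1 : G₂) = 1 then w₁ a else _) = 0
        rw [if_pos rfl]
        exact hp.2.1 a (fun hc => hab (Or.inl ⟨a, hc, rfl⟩))
      · by_cases ha : a = 1
        · subst ha
          show w (1, b) = 0
          rw [hw2]
          exact hq.2.1 b (fun hc => hab (Or.inr ⟨b, hc, rfl⟩))
        · simp [w, ha, hb]
    · rintro ⟨a, b⟩ ⟨c, d⟩
      simp only [w, Prod.mk_mul_mk, Prod.inv_mk, conj_eq_one_iff]
      split_ifs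
      · exact hp.2.2.1 a c
      · exact hq.2.2.1 b d
      · rfl
    · rintro _ (⟨a, ha, rfl⟩ | ⟨b, hb, rfl⟩)
      · show W4c6brauerbgmalle.toQmodZ (if (1 : G₂) = 1 then w₁ a else _) = χ₁ (Additive.ofMul a) + χ₂ (Additive.ofMul 1)
        rw [if_pos rfl, ofMul_one, map_zero, add_zero]
        exact hp.2.2.2 a ha
      · show W4c6brauerbgmalle.toQmodZ (w (1, b)) = χ₁ (Additive.ofMul 1) + χ₂ (Additive.ofMul b)
        rw [hw2, ofMul_one, map_zero, zero_add]
        exact hq.2.2.2 b hb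
    · refine Prod.ext (Prod.ext ?_ ?_) (Prod.ext ?_ (funext hw2))
      · ext a; simp [χ]
      · funext a; simp [w]
      · ext b; simp [χ]

end Groth.Agent.S18953
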