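import Groth.Statements.S18954
import Mathlib.Tactic.LinearCombination
import Mathlib.Tactic.FieldSimp
-- import your own Groth.Agent.* helpers here

set_option autoImplicit false
universe u v w
open Classical
open BGCount

namespace Groth.Agent.S18954

/-- Let a finite group G act on a finite set X, let W be a finite set of orbits and f a function on
orbits with values in a field of characteristic zero. Then Σ_{O ∈ W} f(O)/|Stab(x_O)|, with x_O any
point of O, equals |G|⁻¹ · Σ f(orbit(x)) over the points x of X whose orbit lies in W. (In the
source X is the set of 1-cocycles of the absolute Galois group of a field in a finite étale group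
scheme G, acted on by the geometric points of G, the orbits are the isomorphism classes of G-torsors
and the stabilisers their automorphism groups; stated here for an arbitrary action of a finite group
on a finite set, the representative x_O being chosen by Quotient.out.) -/
theorem result {G : Type u} {X : Type v} (𝕜 : Type w)
    [Group G] [Fintype G] [MulAction G X] [Fintype X] [Field 𝕜] [CharZero 𝕜]
    (W : Finset (MulAction.orbitRel.Quotient G X)) (f : MulAction.orbitRel.Quotient G X → 𝕜) :
    (∑ O ∈ W, f O / (Nat.card (MulAction.stabilizer G O.out) : 𝕜)) =
      (Fintype.card G : 𝕜)⁻¹ *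
        ∑ x ∈ Finset.univ.filter (fun x : X => (Quotient.mk (MulAction.orbitRel G X) x) ∈ W),
          f (Quotient.mk (MulAction.orbitRel G X) x) := by
  have hG : (Fintype.card G : 𝕜) ≠ 0 := Nat.cast_ne_zero.mpr Fintype.card_ne_zero
  rw [← Finset.sum_fiberwise_of_maps_to (g := fun x : X => Quotient.mk (MulAction.orbitRel G X) x)
    (t := W) (fun x hx => (Finset.mem_filter.mp hx).2), Finset.mul_sum]
  refine Finset.sum_congr rfl fun O hO => ?_
  have hfib : ((Finset.univ.filter (fun x : X => (Quotient.mk (MulAction.orbitRel G X) x) ∈ W)).filter
      (fun x => Quotient.mk (MulAction.orbitRel G X) x = O)) = (MulAction.orbit G O.out).toFinset := by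
    ext x
    simp only [Finset.mem_filter, Finset.mem_univ, true_and, Set.mem_toFinset]
    constructor
    · rintro ⟨-, h⟩
      exact (MulAction.orbitRel_apply).mp (Quotient.exact (h.trans (Quotient.out_eq O).symm))
    · intro h
      have : Quotient.mk (MulAction.orbitRel G X) x = O :=
        (Quotient.sound (MulAction.orbitRel_apply.mpr h)).trans (Quotient.out_eq O)
      exact ⟨this ▸ hO, this⟩
  rw [hfib, Finset.sum_congr rfl (fun x hx => by
    rw [(show Quotient.mk (MulAction.orbitRel G X) x = O from
      (Quotient.sound (MulAction.orbitRel_apply.mpr (Set.mem_toFinset.mp hx))).trans (Quotient.out_eq O))]),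
    Finset.sum_const, nsmul_eq_mul]
  have e : (MulAction.orbit G O.out).toFinset.card * Nat.card (MulAction.stabilizer G O.out) = Fintype.card G := by
    rw [Set.toFinset_card, Nat.card_eq_fintype_card, MulAction.card_orbit_mul_card_stabilizer_eq_card_group]
  have e' : ((MulAction.orbit G O.out).toFinset.card : 𝕜) * Nat.card (MulAction.stabilizer G O.out) = Fintype.card G := by
    exact_mod_cast e
  have hs : (Nat.card (MulAction.stabilizer G O.out) : 𝕜) ≠ 0 := fun h => hG (by rw [← e', h, mul_zero])
  field_simp
  linear_combination (-(f O)) * e'

end Groth.Agent.S18954
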