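import Groth.Statements.S1896
import Groth.Agent.CohStalkLen.Basic
-- import your own Groth.Agent.* helpers here

set_option autoImplicit false
universe u
open CategoryTheory AlgebraicGeometry
open Cyc

namespace Groth.Agent.S1896

/-- For a short exact sequence 0 → F → G → H → 0 of coherent O_X-modules (X locally Noetherian with
dimension function δ) whose supports have δ-dimension at most k, one has [G]_k = [F]_k + [H]_k
coefficientwise. Here (X, δ) satisfies Cyc.IsSetup (X locally Noetherian with universally catenary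
local rings, δ a dimension function). -/
theorem result (X : Scheme.{u}) (δ : X → ℤ) (hX : Cyc.IsSetup X δ) (k : ℤ) (T : ShortComplex X.Modules) (hT : T.ShortExact) (h₁ : Coh.IsCoh T.X₁) (h₂ : Coh.IsCoh T.X₂) (h₃ : Coh.IsCoh T.X₃) (hdim : ∀ x : X, Nontrivial (T.X₂.presheaf.stalk x) → δ x ≤ k) : Cyc.sheafFun δ k T.X₂ = Cyc.sheafFun δ k T.X₁ + Cyc.sheafFun δ k T.X₃ := by
    haveI := hX.1
    funext x
    show Cyc.sheafFun δ k T.X₂ x = Cyc.sheafFun δ k T.X₁ x + Cyc.sheafFun δ k T.X₃ x
    simp only [Cyc.sheafFun]
    split_ifs with hx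
    · have h := CohStalkLen.length_add hT x
      have hfin := Module.length_ne_top_iff.2 (CohStalkLen.isFiniteLength_stalk hX.2.2 T.X₂ h₂ x hx hdim)
      rw [h] at hfin ⊢
      rw [ENat.toNat_add (fun e => hfin (by rw [e, top_add])) (fun e => hfin (by rw [e, add_top]))]
      push_cast
      rfl
    · simp

end Groth.Agent.S1896
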