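import Mathlib
import Groth.Statements.S18960
-- import your own Groth.Agent.* helpers here

set_option autoImplicit false
universe w' w v u
open CategoryTheory Limits
open CatLim

namespace Groth.Agent.S18960

set_option backward.isDefEq.respectTransparency false
set_option backward.isDefEq.respectTransparency.types false

/-- Let C be a category and T an endofunctor of C; let C(T) be the category whose objects are pairs (X,
u) with u : T X → X an isomorphism and whose morphisms (X, u) → (Y, w) are the morphisms X → Y
compatible with u and w — the full subcategory of T-algebras with invertible structure map — and let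
π : C(T) → C be the forgetful functor. If T preserves colimits of shape J then π creates colimits of
shape J. (The source assumes T preserves all small colimits and concludes for all small shapes; the
argument is shape by shape.) -/
theorem result {C : Type u} [Category.{v} C] (T : C ⥤ C)
    (J : Type w) [Category.{w'} J] [PreservesColimitsOfShape J T] :
    Nonempty (CreatesColimitsOfShape J
      ((ObjectProperty.ι (fun A : Endofunctor.Algebra T => IsIso A.str)) ⋙ Endofunctor.Algebra.forget T)) := by
  let F := ObjectProperty.ι (fun A : Endofunctor.Algebra T => IsIso A.str) ⋙ Endofunctor.Algebra.forget T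
  refine ⟨⟨fun {K} => createsColimitOfReflectsIso fun c t => ?_⟩⟩
  let hT := isColimitOfPreserves T t
  let cc : Cocone ((K ⋙ F) ⋙ T) := ⟨c.pt,
    { app := fun j => (K.obj j).obj.str ≫ c.ι.app j
      naturality := fun j j' g => by
        have h1 : T.map (K.map g).hom.f ≫ (K.obj j').obj.str = (K.obj j).obj.str ≫ (K.map g).hom.f := (K.map g).hom.h
        have h2 : (K.map g).hom.f ≫ c.ι.app j' = c.ι.app j := c.w g
        show T.map (K.map g).hom.f ≫ (K.obj j').obj.str ≫ c.ι.app j' = ((K.obj j).obj.str ≫ c.ι.app j) ≫ 𝟙 _
        rw [reassoc_of% h1, h2, Category.comp_id] }⟩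
  have hcc : IsColimit cc := by
    let e : (K ⋙ F) ⋙ T ≅ K ⋙ F := NatIso.ofComponents
      (fun j => @asIso _ _ _ _ (K.obj j).obj.str (K.obj j).property) (fun g => (K.map g).hom.h)
    exact ((IsColimit.precomposeHomEquiv e c).symm t).ofIsoColimit (Cocone.ext (Iso.refl _) (fun j => by
      exact Category.comp_id _))
  let u := hT.coconePointUniqueUpToIso hcc
  have hu : ∀ j, T.map (c.ι.app j) ≫ u.hom = (K.obj j).obj.str ≫ c.ι.app j := fun j =>
    hT.comp_coconePointUniqueUpToIso_hom hcc j
  let A : ObjectProperty.FullSubcategory (fun A : Endofunctor.Algebra T => IsIso A.str) :=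
    ⟨⟨c.pt, u.hom⟩, inferInstanceAs (IsIso u.hom)⟩
  let d : Cocone K := ⟨A,
    { app := fun j => ObjectProperty.homMk { f := c.ι.app j, h := hu j }
      naturality := fun j j' g => by
        apply ObjectProperty.hom_ext
        apply Endofunctor.Algebra.Hom.ext
        show (K.map g).hom.f ≫ c.ι.app j' = c.ι.app j ≫ 𝟙 _
        rw [Category.comp_id]; exact c.w g }⟩
  refine { liftedCocone := d, validLift := Cocone.ext (Iso.refl _) (fun j => Category.comp_id _), makesColimit := ?_ }
  refine ⟨fun s => ObjectProperty.homMk { f := t.desc (F.mapCocone s), h := ?_ }, fun s j => ?_, fun s m hm => ?_⟩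
  · apply hT.hom_ext
    intro j
    show T.map (c.ι.app j) ≫ T.map (t.desc (F.mapCocone s)) ≫ _ = T.map (c.ι.app j) ≫ u.hom ≫ t.desc (F.mapCocone s)
    rw [← T.map_comp_assoc, t.fac, reassoc_of% hu j, t.fac]
    exact (s.ι.app j).hom.h
  · apply ObjectProperty.hom_ext
    apply Endofunctor.Algebra.Hom.ext
    exact t.fac _ j
  · apply ObjectProperty.hom_ext
    apply Endofunctor.Algebra.Hom.ext
    exact t.uniq (F.mapCocone s) _ fun j => congrArg (fun k => k.hom.f) (hm j)

end Groth.Agent.S18960
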