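import Groth.Statements.S18961
import Mathlib

set_option autoImplicit false
universe u
open BBDec

namespace Groth.Agent.S18961

open MvPolynomial

/-- the square-zero lifting step -/
lemma mem_mul_of_sq {A R S C : Type u} [CommRing A] [CommRing R] [CommRing S] [CommRing C]
    [Algebra A R] [Algebra A S] [Algebra A C] [Algebra.FormallySmooth A C]
    (loc : R →ₐ[A] S) (π0 : S →ₐ[A] C) (hπ0 : Function.Surjective π0) (M : Ideal R) (I Qs : Ideal S)
    (hker : RingHom.ker π0 ≤ I) (hIk : I ≤ RingHom.ker π0) (hIQ : I ≤ Qs)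
    (χ : R →ₐ[A] C) (hχ : ∀ r, π0 (loc r) = χ r) (hM : ∀ a ∈ M, loc a ∈ Qs)
    (f : R) (hfM : f ∈ M * M) (hf : χ f = 0) : loc f ∈ Qs * I := by
  let π : S ⧸ (Qs * I) →ₐ[A] C :=
    Ideal.Quotient.liftₐ _ π0 (fun a ha => RingHom.mem_ker.1 (hIk ((Ideal.mul_le.2 fun x _ y hy => Ideal.mul_mem_left I x hy) ha)))
  have hπS : Function.Surjective π := fun z => by
    obtain ⟨w, hw⟩ := hπ0 z
    exact ⟨Ideal.Quotient.mk _ w, hw⟩
  set Ib := I.map (Ideal.Quotient.mk (Qs * I))
  set Qb := Qs.map (Ideal.Quotient.mk (Qs * I))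
  have hkerπ : ∀ t, π t = 0 → t ∈ Ib := by
    intro t ht
    obtain ⟨w, rfl⟩ := Ideal.Quotient.mk_surjective t
    exact Ideal.mem_map_of_mem _ (hker ht)
  have hsq : Ib * Qb = ⊥ := by
    rw [← Ideal.map_mul, Ideal.map_eq_bot_iff_le_ker, Ideal.mk_ker, mul_comm]
  have hIQb : Ib ≤ Qb := Ideal.map_mono hIQ
  have hnil : IsNilpotent (RingHom.ker (π : S ⧸ (Qs * I) →+* C)) := by
    refine ⟨2, ?_⟩
    rw [Ideal.zero_eq_bot, ← le_bot_iff, pow_two, ← hsq]
    exact Ideal.mul_mono (fun t ht => hkerπ t ht) (fun t ht => hIQb (hkerπ t ht))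
  let σ : C →ₐ[A] S ⧸ (Qs * I) :=
    Algebra.FormallySmooth.liftOfSurjective (AlgHom.id A _) π hπS hnil
  have hσ : ∀ z, π (σ z) = z := fun z => Algebra.FormallySmooth.liftOfSurjective_apply _ _ _ _ z
  let nat : R →ₐ[A] S ⧸ (Qs * I) := (Ideal.Quotient.mkₐ A (Qs * I)).comp loc
  let ψ : R →ₐ[A] S ⧸ (Qs * I) := σ.comp χ
  have hdiff : ∀ a, ψ a - nat a ∈ Ib := by
    intro a
    apply hkerπ (ψ a - nat a)
    rw [map_sub]
    show π (σ (χ a)) - π0 (loc a) = 0
    rw [hσ, hχ, sub_self]
  have hnatQ : ∀ a ∈ M, nat a ∈ Qb := fun a ha => Ideal.mem_map_of_mem _ (hM a ha)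
  have hψQ : ∀ a ∈ M, ψ a ∈ Qb := fun a ha => by
    have := add_mem (hIQb (hdiff a)) (hnatQ a ha)
    rwa [sub_add_cancel] at this
  have hagree : ψ f = nat f := by
    refine Submodule.mul_induction_on (C := fun z => ψ z = nat z) hfM ?_
      fun a b ha hb => by rw [map_add, map_add, ha, hb]
    intro a ha b hb
    rw [← sub_eq_zero, map_mul, map_mul]
    have h1 : (ψ a - nat a) * ψ b ∈ Ib * Qb := Ideal.mul_mem_mul (hdiff a) (hψQ b hb)
    have h2 : (ψ b - nat b) * nat a ∈ Ib * Qb := Ideal.mul_mem_mul (hdiff b) (hnatQ a ha)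
    rw [hsq, Ideal.mem_bot] at h1 h2
    calc ψ a * ψ b - nat a * nat b = (ψ a - nat a) * ψ b + (ψ b - nat b) * nat a := by ring
      _ = 0 := by rw [h1, h2, add_zero]
  have h0 : nat f = 0 := by
    rw [← hagree]
    show σ (χ f) = 0
    rw [hf, map_zero]
  exact Ideal.Quotient.eq_zero_iff_mem.1 h0

/-- If `φ` is surjective with kernel inside `M²` and the quotient is formally smooth at a prime
containing `M`, then the kernel vanishes there. -/
lemma exists_notMem_mul_eq_zero {A R B : Type u} [CommRing A] [CommRing R] [CommRing B] [Algebra A R]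
    [Algebra A B] [IsNoetherianRing R] (φ : R →ₐ[A] B) (hφ : Function.Surjective φ) (M : Ideal R)
    (hK : RingHom.ker φ ≤ M * M) (Q : Ideal R) [Q.IsPrime] (hQ : M ≤ Q)
    (hsm : ∀ (P : Ideal B) [P.IsPrime], M.map φ ≤ P → Algebra.IsSmoothAt A P) :
    ∀ f ∈ RingHom.ker φ, ∃ u, u ∉ Q ∧ u * f = 0 := by
  set K := RingHom.ker φ with hKdef
  have hKQ : K ≤ Q := hK.trans (Ideal.mul_le_left.trans hQ)
  set P : Ideal B := Q.map φ with hP
  haveI : P.IsPrime := Ideal.map_isPrime_of_surjective hφ hKQ
  have hcom : P.comap φ = Q := by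
    rw [hP, Ideal.comap_map_of_surjective φ hφ, sup_eq_left]
    exact hKQ
  have hsmooth : Algebra.FormallySmooth A (Localization.AtPrime P) := hsm P (Ideal.map_mono hQ)
  let S := Localization.AtPrime Q
  let π0 : S →+* Localization.AtPrime P := Localization.localRingHom Q P φ.toRingHom hcom.symm
  have hπ0 : ∀ a : R, π0 (algebraMap R S a) = algebraMap B (Localization.AtPrime P) (φ a) :=
    fun a => Localization.localRingHom_to_map Q P φ.toRingHom hcom.symm a
  set I : Ideal S := K.map (algebraMap R S) with hI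
  set Qs : Ideal S := Q.map (algebraMap R S) with hQs
  have hπs : Function.Surjective π0 := by
    intro z
    obtain ⟨⟨b, u⟩, hz⟩ := IsLocalization.surj P.primeCompl z
    obtain ⟨r, rfl⟩ := hφ b
    obtain ⟨w, hw⟩ := hφ u
    have hwQ : w ∈ Q.primeCompl := fun h => u.2 (hw ▸ Ideal.mem_map_of_mem φ h)
    refine ⟨IsLocalization.mk' S r ⟨w, hwQ⟩, ?_⟩
    refine (IsLocalization.map_units (Localization.AtPrime P) u).mul_right_cancel ?_
    rw [hz]
    have h := congrArg π0 (IsLocalization.mk'_spec S r ⟨w, hwQ⟩)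
    rwa [map_mul, hπ0, hπ0, hw] at h
  have hπker : RingHom.ker π0 ≤ I := by
    intro z hz
    obtain ⟨⟨r, w⟩, hrw⟩ := IsLocalization.surj Q.primeCompl z
    have h := congrArg π0 hrw
    rw [map_mul, (RingHom.mem_ker.1 hz : π0 z = 0), zero_mul, hπ0] at h
    obtain ⟨u, hu⟩ := (IsLocalization.map_eq_zero_iff P.primeCompl _ _).1 h.symm
    obtain ⟨v, hv⟩ := hφ u
    have hvQ : v ∈ Q.primeCompl := fun h => u.2 (hv ▸ Ideal.mem_map_of_mem φ h)
    have hmem : v * r ∈ K := by rw [hKdef, RingHom.mem_ker, map_mul, hv, hu]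
    have h2 : algebraMap R S (v * r) ∈ I := Ideal.mem_map_of_mem _ hmem
    rw [map_mul, ← hrw, ← mul_assoc, mul_comm (algebraMap R S v), mul_assoc] at h2
    exact (Ideal.mul_unit_mem_iff_mem I
      ((IsLocalization.map_units S (⟨v, hvQ⟩ : Q.primeCompl)).mul (IsLocalization.map_units S w))).1 h2
  have hIQ : I ≤ Qs := Ideal.map_mono hKQ
  have hIk : I ≤ RingHom.ker π0 := by
    rw [hI, Ideal.map_le_iff_le_comap]
    intro a ha
    rw [Ideal.mem_comap, RingHom.mem_ker, hπ0, (RingHom.mem_ker.1 ha : φ a = 0), map_zero]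
  let π0A : S →ₐ[A] Localization.AtPrime P :=
    { π0 with
      commutes' := fun a => by
        show π0 (algebraMap A S a) = _
        rw [IsScalarTower.algebraMap_apply A R S, hπ0, AlgHom.commutes,
          ← IsScalarTower.algebraMap_apply] }
  have hIle : I ≤ Qs * I := by
    rw [hI, Ideal.map_le_iff_le_comap]
    intro f hf
    exact mem_mul_of_sq (IsScalarTower.toAlgHom A R S) π0A hπs M I Qs hπker hIk hIQ
      ((IsScalarTower.toAlgHom A B (Localization.AtPrime P)).comp φ) (fun r => hπ0 r)
      (fun a ha => Ideal.mem_map_of_mem _ (hQ ha)) f (hK hf)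
      (by simp [(RingHom.mem_ker.1 hf : φ f = 0)])
  have hbot : I = ⊥ := by
    refine Submodule.eq_bot_of_le_smul_of_le_jacobson_bot Qs I (IsNoetherian.noetherian I) hIle ?_
    rw [IsLocalRing.jacobson_eq_maximalIdeal _ bot_ne_top, hQs, Localization.AtPrime.map_eq_maximalIdeal]
  intro f hf
  have : algebraMap R S f = 0 := by
    have h := Ideal.mem_map_of_mem (algebraMap R S) hf
    rwa [← hI, hbot, Ideal.mem_bot] at h
  obtain ⟨u, hu⟩ := (IsLocalization.map_eq_zero_iff Q.primeCompl _ _).1 this
  exact ⟨u, u.2, hu⟩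


set_option maxHeartbeats 4000000 in
/-- Let k be a field, A a finitely generated k-algebra and B a finitely generated A-algebra graded by
the natural numbers as an A-algebra, with degree-zero part equal to the image of A and A → B
injective; let B₊ be the irrelevant ideal. So Spec B → Spec A is the retraction of an affine scheme
with an action of the multiplicative monoid of the affine line onto its fixed-point scheme, with
zero section cut out by B₊; this is the affine-local graded form, for that monoid, of the published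
statement, which covers any Kempf monoid M with unit group G and a k-scheme X locally of finite
type, and concludes that the retraction X⁺ → X^G is an affine-space bundle near a fixed point at
whose section value it is smooth. Assume that A → B is smooth at every prime ideal containing B₊ and
that B₊/B₊² is a free A-module of finite rank. Then B is isomorphic, as an A-algebra, to the
polynomial ring over A in (rank of B₊/B₊²) variables. (The published statement also makes the
isomorphism equivariant for a suitable linear action when G is linearly reductive; only the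
existence of an A-algebra isomorphism is stated here. Freeness of the conormal module holds after
shrinking the base, which is how the published proof reaches this situation.) -/
theorem result (k : Type u) [Field k]
    (A B : Type u) [CommRing A] [CommRing B] [Algebra k A] [Algebra k B] [Algebra A B] [IsScalarTower k A B]
    [Algebra.FiniteType k A] [Algebra.FiniteType A B] (𝒜 : ℕ → Submodule A B) [GradedAlgebra 𝒜]
    (h0 : ∀ b : B, b ∈ 𝒜 0 ↔ b ∈ Set.range (algebraMap A B)) (hinj : Function.Injective (algebraMap A B))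
    (hsm : ∀ (P : Ideal B) [P.IsPrime], (HomogeneousIdeal.irrelevant 𝒜).toIdeal ≤ P → Algebra.IsSmoothAt A P)
    [Module.Free A (HomogeneousIdeal.irrelevant 𝒜).toIdeal.Cotangent]
    [Module.Finite A (HomogeneousIdeal.irrelevant 𝒜).toIdeal.Cotangent] :
    Nonempty (B ≃ₐ[A]
      MvPolynomial (Fin (Module.finrank A (HomogeneousIdeal.irrelevant 𝒜).toIdeal.Cotangent)) A) := by
  classical
  haveI : IsNoetherianRing A := Algebra.FiniteType.isNoetherianRing k A
  rcases subsingleton_or_nontrivial A with hA | hA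
  · haveI : Subsingleton B := Module.subsingleton A B
    haveI : Subsingleton (MvPolynomial (Fin (Module.finrank A
        (HomogeneousIdeal.irrelevant 𝒜).toIdeal.Cotangent)) A) := Module.subsingleton A _
    exact ⟨{ toFun := fun _ => 0, invFun := fun _ => 0, left_inv := fun _ => Subsingleton.elim _ _,
             right_inv := fun _ => Subsingleton.elim _ _, map_mul' := fun _ _ => Subsingleton.elim _ _,
             map_add' := fun _ _ => Subsingleton.elim _ _, commutes' := fun _ => Subsingleton.elim _ _ }⟩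
  set Irr : Ideal B := (HomogeneousIdeal.irrelevant 𝒜).toIdeal with hIrr
  let π : ℕ → B →ₗ[A] B := fun d => (𝒜 d).subtype ∘ₗ
    (DFinsupp.lapply d : (DirectSum ℕ fun i => 𝒜 i) →ₗ[A] 𝒜 d) ∘ₗ
      (DirectSum.decomposeLinearEquiv 𝒜).toLinearMap
  have hπ : ∀ d b, π d b = (DirectSum.decompose 𝒜 b d : B) := fun d b => rfl
  have hπmem : ∀ d b, π d b ∈ 𝒜 d := fun d b => SetLike.coe_mem _
  have hπsame : ∀ {d b}, b ∈ 𝒜 d → π d b = b := fun {d b} h => DirectSum.decompose_of_mem_same 𝒜 h
  have hπne : ∀ {d e b}, b ∈ 𝒜 d → d ≠ e → π e b = 0 := fun {d e b} h hne =>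
    DirectSum.decompose_of_mem_ne 𝒜 h hne
  have hIrr0 : ∀ b, b ∈ Irr ↔ π 0 b = 0 := fun b => Iff.rfl
  have hπIrr : ∀ d b, b ∈ Irr → π d b ∈ Irr := fun d b hb =>
    (HomogeneousIdeal.irrelevant 𝒜).isHomogeneous d hb
  have hπsq : ∀ d b, b ∈ Irr ^ 2 → π d b ∈ Irr ^ 2 := fun d b hb => by
    rw [pow_two] at hb ⊢
    exact ((HomogeneousIdeal.irrelevant 𝒜).isHomogeneous.mul
      (HomogeneousIdeal.irrelevant 𝒜).isHomogeneous) d hb
  let q : Irr →ₗ[A] Irr.Cotangent := Irr.toCotangent.restrictScalars A
  have hq : Function.Surjective q := Irr.toCotangent_surjective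
  have hq0 : ∀ y : Irr, q y = 0 ↔ (y : B) ∈ Irr ^ 2 := fun y => Irr.toCotangent_eq_zero y
  obtain ⟨σ, hσ⟩ := Module.projective_lifting_property q (LinearMap.id : Irr.Cotangent →ₗ[A] _) hq
  have hσ' : ∀ c, q (σ c) = c := fun c => LinearMap.congr_fun hσ c
  let bas := Module.finBasis A Irr.Cotangent
  -- degrees occurring in the lifts
  let D : Finset ℕ := Finset.univ.biUnion fun j => (DirectSum.decompose 𝒜 ((σ (bas j) : B))).support
  have hD : ∀ c d, d ∉ D → π d (σ c : B) = 0 := by
    intro c d hd
    have : (π d ∘ₗ (Irr.subtype.restrictScalars A) ∘ₗ σ) = 0 := by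
      refine bas.ext fun j => ?_
      by_contra hne
      apply hd
      simp only [D, Finset.mem_biUnion, Finset.mem_univ, true_and]
      refine ⟨j, DFinsupp.mem_support_iff.2 fun h => hne ?_⟩
      show π d (σ (bas j) : B) = 0
      rw [hπ, h]; rfl
    exact LinearMap.congr_fun this c
  let g : ℕ → Irr →ₗ[A] Irr := fun d => LinearMap.codRestrict (Irr.restrictScalars A)
    (π d ∘ₗ (Irr.subtype.restrictScalars A)) (fun y => hπIrr d y y.2)
  let s : Irr.Cotangent →ₗ[A] B :=
    ∑ d ∈ D, π d ∘ₗ (Irr.subtype.restrictScalars A) ∘ₗ σ ∘ₗ q ∘ₗ g d ∘ₗ σ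
  have hs : ∀ c, s c = ∑ d ∈ D, π d (σ (q (g d (σ c))) : B) := fun c => by simp [s]
  have hsIrr : ∀ c, s c ∈ Irr := fun c => by
    rw [hs]; exact sum_mem fun d _ => hπIrr d _ (σ _).2
  -- on homogeneous elements
  have hhom : ∀ (e : ℕ) (b : Irr), (b : B) ∈ 𝒜 e → (b : B) - s (q b) ∈ Irr ^ 2 := by
    intro e b hb
    have hz : ((σ (q b) : B) - b) ∈ Irr ^ 2 :=
      (hq0 (σ (q b) - b)).1 (by rw [map_sub, hσ', sub_self])
    have hg : ∀ d, q (g d (σ (q b))) = if d = e then q b else 0 := by
      intro d
      have h1 : π d (σ (q b) : B) - π d (b : B) ∈ Irr ^ 2 := by rw [← map_sub]; exact hπsq d _ hz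
      split
      · subst d
        rw [← sub_eq_zero, ← map_sub, hq0]
        rw [hπsame hb] at h1
        exact h1
      · next hne =>
        rw [hq0]
        rw [hπne hb (Ne.symm hne), sub_zero] at h1
        exact h1
    rw [hs, Finset.sum_eq_single e]
    · rw [hg, if_pos rfl]
      have h1 : π e ((b : B) - (σ (q b) : B)) ∈ Irr ^ 2 :=
        hπsq e _ (by rw [← neg_sub]; exact neg_mem hz)
      rwa [map_sub, hπsame hb] at h1
    · intro d _ hne
      rw [hg, if_neg hne, map_zero]
      simp
    · intro he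
      rw [hD _ e he]
  have hqs : ∀ c, q ⟨s c, hsIrr c⟩ = c := by
    intro c
    have hsum : (σ c : B) = ∑ d ∈ D, π d (σ c : B) := by
      conv_lhs => rw [← DirectSum.sum_support_decompose 𝒜 (σ c : B)]
      refine Finset.sum_subset_zero_on_sdiff ?_ ?_ (fun d _ => rfl)
      · intro d hd
        by_contra h
        exact DFinsupp.mem_support_iff.1 hd (Subtype.ext (hD c d h))
      · intro d hd
        have h2 := (Finset.mem_sdiff.1 hd).2
        rw [DFinsupp.notMem_support_iff] at h2
        show π d (σ c : B) = 0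
        rw [hπ, h2]; rfl
    conv_rhs => rw [← hσ' c]
    rw [← sub_eq_zero, ← map_sub, hq0]
    show s c - (σ c : B) ∈ Irr ^ 2
    rw [hs, hsum, ← Finset.sum_sub_distrib]
    refine sum_mem fun d _ => ?_
    have hy : ((σ (q (g d (σ c))) : B) - (g d (σ c) : B)) ∈ Irr ^ 2 :=
      (hq0 (σ (q (g d (σ c))) - g d (σ c))).1 (by rw [map_sub, hσ', sub_self])
    have h2 := hπsq d _ hy
    rw [map_sub, show π d (g d (σ c) : B) = π d (σ c : B) from hπsame (hπmem d (σ c : B))] at h2
    exact h2
  let φ : MvPolynomial (Fin (Module.finrank A Irr.Cotangent)) A →ₐ[A] B :=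
    MvPolynomial.aeval fun j => s (bas j)
  have hsR : ∀ c, s c ∈ φ.range := by
    intro c
    rw [← bas.sum_repr c, map_sum]
    refine sum_mem fun j _ => ?_
    rw [map_smul]
    exact Subalgebra.smul_mem _ ((AlgHom.mem_range φ).2 ⟨X j, by simp [φ]⟩) _
  have hsurj : Function.Surjective φ := by
    suffices h : ∀ e, ∀ b ∈ 𝒜 e, b ∈ φ.range by
      intro b
      have : b ∈ φ.range := by
        rw [← DirectSum.sum_support_decompose 𝒜 b]
        exact sum_mem fun e _ => h e _ (SetLike.coe_mem _)
      exact this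
    intro e
    induction e using Nat.strong_induction_on with
    | _ e ih =>
    intro b hb
    rcases Nat.eq_zero_or_pos e with rfl | he
    · obtain ⟨a, rfl⟩ := (h0 b).1 hb
      exact φ.range.algebraMap_mem a
    have hbI : b ∈ Irr := HomogeneousIdeal.mem_irrelevant_of_mem 𝒜 he hb
    have hprod : ∀ z ∈ Irr ^ 2, π e z ∈ φ.range := by
      intro z hz
      rw [pow_two] at hz
      refine Submodule.mul_induction_on hz ?_ fun x y hx hy => by rw [map_add]; exact add_mem hx hy
      intro u hu v hv
      rw [← DirectSum.sum_support_decompose 𝒜 u, ← DirectSum.sum_support_decompose 𝒜 v,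
        Finset.sum_mul_sum, map_sum]
      refine sum_mem fun i hi => ?_
      rw [map_sum]
      refine sum_mem fun j hj => ?_
      have hm := SetLike.mul_mem_graded (hπmem i u) (hπmem j v)
      by_cases hij : i + j = e
      · have hi0 : i ≠ 0 := by
          rintro rfl
          exact DFinsupp.mem_support_iff.1 hi (Subtype.ext ((hIrr0 u).1 hu))
        have hj0 : j ≠ 0 := by
          rintro rfl
          exact DFinsupp.mem_support_iff.1 hj (Subtype.ext ((hIrr0 v).1 hv))
        subst hij
        show π (i + j) (π i u * π j v) ∈ φ.range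
        rw [hπsame hm]
        exact mul_mem (ih i (by omega) _ (hπmem i u)) (ih j (by omega) _ (hπmem j v))
      · show π e (π i u * π j v) ∈ φ.range
        rw [hπne hm hij]
        exact zero_mem _
    have h1 := hprod _ (hhom e ⟨b, hbI⟩ hb)
    rw [map_sub, hπsame hb] at h1
    have h2 : π e (s (q ⟨b, hbI⟩)) ∈ φ.range := by
      have : s (q ⟨b, hbI⟩) ∈ φ.range := hsR _
      rw [hs, map_sum]
      refine sum_mem fun d _ => ?_
      by_cases hde : d = e
      · subst d
        rw [hπsame (hπmem e _)]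
        have h3 : s (q ⟨b, hbI⟩) = π e (σ (q (g e (σ (q ⟨b, hbI⟩)))) : B) := by
          rw [hs, Finset.sum_eq_single e]
          · intro d' _ hne
            have : q (g d' (σ (q ⟨b, hbI⟩))) = 0 := by
              rw [hq0]
              have hz : ((σ (q ⟨b, hbI⟩) : B) - b) ∈ Irr ^ 2 :=
                (hq0 (σ (q ⟨b, hbI⟩) - ⟨b, hbI⟩)).1 (by rw [map_sub, hσ', sub_self])
              have h1 := hπsq d' _ hz
              rw [map_sub, hπne hb (Ne.symm hne), sub_zero] at h1
              exact h1
            rw [this, map_zero]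
            simp
          · intro he'
            rw [hD _ e he']
        rw [← h3]
        exact this
      · rw [hπne (hπmem d _) hde]
        exact zero_mem _
    have := add_mem h1 h2
    rwa [sub_add_cancel] at this
  -- the kernel
  set Mv : Ideal (MvPolynomial (Fin (Module.finrank A Irr.Cotangent)) A) :=
    MvPolynomial.idealOfVars _ A
  have hMmem : ∀ f, f - C (constantCoeff f) ∈ Mv := by
    intro f
    induction f using MvPolynomial.induction_on with
    | C a => simp
    | add f g hf hg =>
      convert add_mem hf hg using 1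
      rw [map_add, C_add]; ring
    | mul_X f j hf =>
      rw [map_mul, constantCoeff_X, mul_zero, C_0, sub_zero]
      exact Ideal.mul_mem_left _ _ (Ideal.subset_span ⟨j, rfl⟩)
  have hπ0φ : ∀ f, π 0 (φ f) = algebraMap A B (constantCoeff f) := by
    intro f
    have : (GradedRing.projZeroRingHom 𝒜).comp φ.toRingHom = (algebraMap A B).comp constantCoeff := by
      apply MvPolynomial.ringHom_ext
      · intro a
        show π 0 (φ (C a)) = algebraMap A B (constantCoeff (C a))
        rw [hπsame ((h0 _).2 ⟨a, by simp [φ]⟩), constantCoeff_C]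
        simp [φ]
      · intro j
        show π 0 (φ (X j)) = algebraMap A B (constantCoeff (X j))
        rw [constantCoeff_X, map_zero]
        simp only [φ, aeval_X]
        exact (hIrr0 _).1 (hsIrr _)
    exact RingHom.congr_fun this f
  have hφM : ∀ f ∈ Mv, φ f ∈ Irr := by
    intro f hf
    refine (?_ : Mv ≤ Irr.comap φ) hf
    refine Ideal.span_le.2 ?_
    rintro _ ⟨j, rfl⟩
    simp only [SetLike.mem_coe, Ideal.mem_comap, φ, aeval_X]
    exact hsIrr _
  have hK : RingHom.ker φ ≤ Mv * Mv := by
    intro f hf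
    have hc : constantCoeff f = 0 := hinj (by
      rw [← hπ0φ, (RingHom.mem_ker.1 hf : φ f = 0), map_zero, map_zero])
    have hfM : f ∈ Mv := by simpa [hc] using hMmem f
    obtain ⟨c, hcf⟩ := (Ideal.mem_span_range_iff_exists_fun).1 hfM
    set a := fun j => constantCoeff (c j)
    have hrest : f - ∑ j, C (a j) * X j ∈ Mv * Mv := by
      rw [← hcf, ← Finset.sum_sub_distrib]
      refine sum_mem fun j _ => ?_
      rw [← sub_mul]
      exact Ideal.mul_mem_mul (hMmem _) (Ideal.subset_span ⟨j, rfl⟩)
    have hlin : (∑ j, a j • s (bas j)) ∈ Irr ^ 2 := by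
      have h1 : φ (f - ∑ j, C (a j) * X j) ∈ Irr ^ 2 := by
        rw [pow_two]
        refine (?_ : Mv * Mv ≤ (Irr * Irr).comap φ) hrest
        exact Ideal.mul_le.2 fun u hu v hv => by
          rw [Ideal.mem_comap, map_mul]
          exact Ideal.mul_mem_mul (hφM u hu) (hφM v hv)
      rw [map_sub, (RingHom.mem_ker.1 hf : φ f = 0), zero_sub, neg_mem_iff, map_sum] at h1
      simpa [φ, Algebra.smul_def] using h1
    have ha : a = 0 := by
      have h2 : q (∑ j, a j • (⟨s (bas j), hsIrr _⟩ : Irr)) = 0 := by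
        rw [hq0]; simpa using hlin
      rw [map_sum] at h2
      simp only [map_smul, hqs] at h2
      funext j
      exact Fintype.linearIndependent_iff.1 bas.linearIndependent a h2 j
    simpa [ha] using hrest
  have hinjφ : Function.Injective φ := by
    rw [injective_iff_map_eq_zero]
    intro f hf
    haveI : IsNoetherianRing (MvPolynomial (Fin (Module.finrank A Irr.Cotangent)) A) := inferInstance
    set J := (⊥ : Ideal (MvPolynomial (Fin (Module.finrank A Irr.Cotangent)) A)).colon
      ((Ideal.span {f} : Ideal _) : Set _) with hJ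
    have hJmem : ∀ g, g ∈ J ↔ g * f = 0 := fun g => by
      rw [hJ, Submodule.mem_colon]
      constructor
      · intro h; simpa using h f (Ideal.mem_span_singleton_self f)
      · intro h y hy
        obtain ⟨z, rfl⟩ := Ideal.mem_span_singleton'.1 hy
        rw [Submodule.mem_bot, smul_eq_mul, mul_left_comm, h, mul_zero]
    have htop : J ⊔ Mv = ⊤ := by
      by_contra hne
      obtain ⟨Q, hQ, hle⟩ := Ideal.exists_le_maximal _ hne
      obtain ⟨u, huQ, hu⟩ := exists_notMem_mul_eq_zero φ hsurj Mv hK Q (le_sup_right.trans hle)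
        (fun P _ hP => hsm P (by
          refine le_trans ?_ hP
          intro b hb
          obtain ⟨g', rfl⟩ := hsurj b
          have hc : constantCoeff g' = 0 := hinj (by rw [← hπ0φ, (hIrr0 _).1 hb, map_zero])
          exact Ideal.mem_map_of_mem φ (by simpa [hc] using hMmem g'))) f hf
      exact huQ (hle (Ideal.mem_sup_left ((hJmem u).2 hu)))
    obtain ⟨g', hg', h, hh, hgh⟩ := Submodule.mem_sup.1 ((Ideal.eq_top_iff_one _).1 htop)
    have hfh : f = h * f := by
      conv_lhs => rw [← one_mul f, ← hgh, add_mul, (hJmem g').1 hg', zero_add]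
    have hpow : ∀ n, f ∈ Mv ^ n := fun n => by
      induction n with
      | zero => simp
      | succ n ih => rw [hfh, pow_succ']; exact Ideal.mul_mem_mul hh ih
    refine MvPolynomial.ext _ _ fun m => ?_
    rw [coeff_zero]
    exact (MvPolynomial.mem_pow_idealOfVars_iff' _ _).1 (hpow (m.sum (fun _ e => e) + 1)) m
      (Nat.lt_succ_self _)
  exact ⟨(AlgEquiv.ofBijective φ ⟨hinjφ, hsurj⟩).symm⟩

end Groth.Agent.S18961
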