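import Groth.Statements.S18962
import Mathlib
-- import your own Groth.Agent.* helpers here

set_option autoImplicit false
universe u
open BBDec

namespace Groth.Agent.S18962

open scoped TensorProduct

/-- Let A be a commutative ring (the base V = Spec A) and B₁, B₂ commutative A-algebras (V-schemes X₁,
X₂) with A-algebra maps σ₁ : B₁ → A and σ₂ : B₂ → A (sections s₁, s₂ of the structure maps, closed
immersions with ideals b₁ = ker σ₁, b₂ = ker σ₂), and let B₂ → B₁ be an A-algebra map (a V-morphism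
f : X₁ → X₂) with σ₁ ∘ (B₂ → B₁) = σ₂ (f s₁ = s₂). Assume B₁ is finitely presented over A and smooth
over A at every prime containing b₁ (r₁ smooth along s₁(V)), B₂ is of finite type over A, and the
induced map b₂/b₂² → b₁/b₁² of conormal modules is bijective. Then B₂ → B₁ is étale at every prime
of B₁ containing b₁ (f étale along s₁(V)). (The published statement puts no finiteness condition on
B₂ over A, and in that generality the conclusion fails: over a field k, the square-zero extension of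
k[x] by k[x, 1/x] mapping onto k[y] by x ↦ y, with the zero sections, satisfies every other
hypothesis and is not étale at the origin. Here B₂ is assumed of finite type over A.) -/
theorem result (A B₁ B₂ : Type u)
    [CommRing A] [CommRing B₁] [CommRing B₂] [Algebra A B₁] [Algebra A B₂] [Algebra B₂ B₁]
    [IsScalarTower A B₂ B₁] [Algebra.FinitePresentation A B₁] [Algebra.FiniteType A B₂]
    (σ₁ : B₁ →ₐ[A] A) (σ₂ : B₂ →ₐ[A] A) (hσ : σ₁.comp (IsScalarTower.toAlgHom A B₂ B₁) = σ₂)
    (hle : RingHom.ker σ₂ ≤ (RingHom.ker σ₁).comap (IsScalarTower.toAlgHom A B₂ B₁))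
    (hcot : Function.Bijective
      (Ideal.mapCotangent (RingHom.ker σ₂) (RingHom.ker σ₁) (IsScalarTower.toAlgHom A B₂ B₁) hle))
    (hsm : ∀ (P : Ideal B₁) [P.IsPrime], RingHom.ker σ₁ ≤ P → Algebra.IsSmoothAt A P)
    (P : Ideal B₁) [P.IsPrime] (hP : RingHom.ker σ₁ ≤ P) : Algebra.IsEtaleAt B₂ P := by
  classical
  let C := Localization.AtPrime P
  haveI : Algebra.FormallySmooth A C := hsm P hP
  let b₁ : Ideal B₁ := RingHom.ker σ₁
  let b₂ : Ideal B₂ := RingHom.ker σ₂
  let bC : Ideal C := b₁.map (algebraMap B₁ C)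
  have hbC : bC ≤ Ideal.jacobson (⊥ : Ideal C) :=
    ((Ideal.map_mono hP).trans (le_of_eq (Localization.AtPrime.map_eq_maximalIdeal))).trans
      (IsLocalRing.maximalIdeal_le_jacobson _)
  have hσ2 : ∀ y, σ₁ (algebraMap B₂ B₁ y) = σ₂ y := fun y => DFunLike.congr_fun hσ y
  -- surjectivity data
  have hsur : ∀ b : B₁, ∃ y ∈ b₂, algebraMap B₂ B₁ y - (b - algebraMap A B₁ (σ₁ b)) ∈ b₁ ^ 2 := by
    intro b
    have hb : b - algebraMap A B₁ (σ₁ b) ∈ b₁ := by simp [b₁, RingHom.mem_ker]
    obtain ⟨x, hx⟩ := hcot.2 (b₁.toCotangent ⟨_, hb⟩)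
    obtain ⟨⟨y, hy⟩, rfl⟩ := b₂.toCotangent_surjective x
    rw [Ideal.mapCotangent_toCotangent] at hx
    exact ⟨y, hy, (Ideal.toCotangent_eq b₁).mp hx⟩
  have hinj : ∀ y ∈ b₂, algebraMap B₂ B₁ y ∈ b₁ ^ 2 → y ∈ b₂ ^ 2 := by
    intro y hy h
    refine (b₂.toCotangent_eq_zero ⟨y, hy⟩).mp (hcot.1 ?_)
    rw [map_zero, Ideal.mapCotangent_toCotangent, Ideal.toCotangent_eq_zero]
    exact h
  let mu : C ⊗[B₂] Ω[B₂⁄A] →ₗ[C] Ω[C⁄A] := KaehlerDifferential.mapBaseChange A B₂ C
  let Nsub : Submodule C (C ⊗[B₂] Ω[B₂⁄A]) := bC • ⊤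
  let G : B₂ → (C ⊗[B₂] Ω[B₂⁄A]) ⧸ Nsub := fun y =>
    Nsub.mkQ (1 ⊗ₜ[B₂] KaehlerDifferential.D A B₂ y)
  have hGadd : ∀ x y, G (x + y) = G x + G y := fun x y => by
    simp only [G, map_add, TensorProduct.tmul_add]
  have hGmul : ∀ (x y : B₂), x ∈ b₂ → G (x * y) = algebraMap B₂ C y • G x := by
    intro x y hx
    simp only [G, Derivation.leibniz, TensorProduct.tmul_add, TensorProduct.tmul_smul,
      ← algebraMap_smul C (_ : B₂) ((1 : C) ⊗ₜ[B₂] (_ : Ω[B₂⁄A])), map_add, map_smul]
    have h0 : algebraMap B₂ C x • Nsub.mkQ (1 ⊗ₜ[B₂] KaehlerDifferential.D A B₂ y) = 0 := by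
      rw [← map_smul, Submodule.mkQ_apply, Submodule.Quotient.mk_eq_zero]
      refine Submodule.smul_mem_smul ?_ Submodule.mem_top
      rw [IsScalarTower.algebraMap_apply B₂ B₁ C]
      exact Ideal.mem_map_of_mem _ (hle hx)
    rw [h0, zero_add]
  have hGsq : ∀ y ∈ b₂ ^ 2, G y = 0 := by
    intro y hy
    rw [sq] at hy
    refine Submodule.mul_induction_on hy (fun x hx z hz => ?_) (fun x z hx hz => ?_)
    · rw [hGmul x z hx]
      show algebraMap B₂ C z • Nsub.mkQ _ = 0
      rw [← map_smul, Submodule.mkQ_apply, Submodule.Quotient.mk_eq_zero]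
      refine Submodule.smul_mem_smul ?_ Submodule.mem_top
      rw [IsScalarTower.algebraMap_apply B₂ B₁ C]
      exact Ideal.mem_map_of_mem _ (hle hz)
    · rw [hGadd, hx, hz, add_zero]
  have hGA : ∀ (a : A) y, G (algebraMap A B₂ a * y) = algebraMap A C a • G y := by
    intro a y
    simp only [G, Derivation.leibniz, Derivation.map_algebraMap, smul_zero, add_zero,
      TensorProduct.tmul_smul]
    rw [← algebraMap_smul C (algebraMap A B₂ a) ((1 : C) ⊗ₜ[B₂] KaehlerDifferential.D A B₂ y),
      map_smul, ← IsScalarTower.algebraMap_apply]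
  choose yy hyy hyy2 using hsur
  have key : ∀ b y, y ∈ b₂ → algebraMap B₂ B₁ y - (b - algebraMap A B₁ (σ₁ b)) ∈ b₁ ^ 2 →
      G (yy b) = G y := by
    intro b y hy h
    have h1 : algebraMap B₂ B₁ (yy b - y) ∈ b₁ ^ 2 := by
      rw [map_sub]
      convert Ideal.sub_mem _ (hyy2 b) h using 1
      ring
    have h2 := hGsq _ (hinj _ (b₂.sub_mem (hyy b) hy) h1)
    have h3 := hGadd (yy b - y) y
    rw [sub_add_cancel, h2, zero_add] at h3
    exact h3
  have hsmulN : ∀ (b : B₁) (z : (C ⊗[B₂] Ω[B₂⁄A]) ⧸ Nsub), b • z = algebraMap A C (σ₁ b) • z := by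
    intro b z
    obtain ⟨w, rfl⟩ := Nsub.mkQ_surjective z
    rw [← algebraMap_smul C b (Nsub.mkQ w), ← sub_eq_zero, ← sub_smul, ← map_smul, Submodule.mkQ_apply,
      Submodule.Quotient.mk_eq_zero]
    refine Submodule.smul_mem_smul ?_ Submodule.mem_top
    rw [IsScalarTower.algebraMap_apply A B₁ C, ← map_sub]
    exact Ideal.mem_map_of_mem _ (by simp [b₁, RingHom.mem_ker])
  let D' : Derivation A B₁ ((C ⊗[B₂] Ω[B₂⁄A]) ⧸ Nsub) := Derivation.mk'
    { toFun := fun b => G (yy b)
      map_add' := fun b c => by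
        rw [key (b + c) (yy b + yy c) (b₂.add_mem (hyy b) (hyy c)), hGadd]
        rw [map_add, map_add, map_add]
        convert Ideal.add_mem _ (hyy2 b) (hyy2 c) using 1
        ring
      map_smul' := fun a b => by
        rw [RingHom.id_apply, key (a • b) (algebraMap A B₂ a * yy b) (b₂.mul_mem_left _ (hyy b)), hGA,
          algebraMap_smul]
        rw [map_mul, ← IsScalarTower.algebraMap_apply, map_smul, Algebra.smul_def, smul_eq_mul, map_mul]
        convert Ideal.mul_mem_left _ (algebraMap A B₁ a) (hyy2 b) using 1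
        ring }
    (fun b c => by
      show G (yy (b * c)) = b • G (yy c) + c • G (yy b)
      rw [key (b * c) (algebraMap A B₂ (σ₁ b) * yy c + algebraMap A B₂ (σ₁ c) * yy b)
        (b₂.add_mem (b₂.mul_mem_left _ (hyy c)) (b₂.mul_mem_left _ (hyy b))), hGadd, hGA, hGA, hsmulN, hsmulN]
      rw [map_add, map_mul, map_mul, ← IsScalarTower.algebraMap_apply, ← IsScalarTower.algebraMap_apply,
        map_mul, map_mul]
      have hbm : ∀ d : B₁, d - algebraMap A B₁ (σ₁ d) ∈ b₁ := fun d => by simp [b₁, RingHom.mem_ker]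
      have h3 : (b - algebraMap A B₁ (σ₁ b)) * (c - algebraMap A B₁ (σ₁ c)) ∈ b₁ ^ 2 := by
        rw [sq]; exact Ideal.mul_mem_mul (hbm b) (hbm c)
      convert Ideal.sub_mem _ (Ideal.add_mem _ (Ideal.mul_mem_left _ (algebraMap A B₁ (σ₁ b)) (hyy2 c))
        (Ideal.mul_mem_left _ (algebraMap A B₁ (σ₁ c)) (hyy2 b))) h3 using 1
      ring)
  haveI hfe : Algebra.FormallyEtale B₁ C := Algebra.FormallyEtale.of_isLocalization P.primeCompl
  let tT : Ω[C⁄A] →ₗ[C] (C ⊗[B₂] Ω[B₂⁄A]) ⧸ Nsub :=
    (D'.liftKaehlerDifferential.liftBaseChange C).comp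
      (KaehlerDifferential.tensorKaehlerEquivOfFormallyEtale A B₁ C).symm.toLinearMap
  have htT : ∀ m, tT (mu m) = Nsub.mkQ m := by
    intro m
    have hgen : ∀ w : Ω[B₂⁄A], tT (mu (1 ⊗ₜ[B₂] w)) = Nsub.mkQ (1 ⊗ₜ[B₂] w) := by
      intro w
      have hmem : w ∈ Submodule.span B₂ (Set.range (KaehlerDifferential.D A B₂)) := by
        rw [KaehlerDifferential.span_range_derivation]; exact Submodule.mem_top
      induction hmem using Submodule.span_induction with
      | mem x hx =>
        obtain ⟨y, rfl⟩ := hx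
        simp only [mu, tT, KaehlerDifferential.mapBaseChange_tmul, one_smul, KaehlerDifferential.map_D,
          IsScalarTower.algebraMap_apply B₂ B₁ C, LinearMap.comp_apply, LinearEquiv.coe_coe,
          KaehlerDifferential.tensorKaehlerEquivOfFormallyEtale_symm_D_algebraMap,
          LinearMap.liftBaseChange_tmul, Derivation.liftKaehlerDifferential_comp_D]
        show G (yy _) = G y
        have hy' : y - algebraMap A B₂ (σ₂ y) ∈ b₂ := by simp [b₂, RingHom.mem_ker]
        rw [key _ _ hy' (by rw [map_sub, ← IsScalarTower.algebraMap_apply, hσ2, sub_self]; exact zero_mem _)]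
        simp only [G, map_sub, Derivation.map_algebraMap, sub_zero]
      | zero => simp
      | add x y _ _ hx hy => simp only [TensorProduct.tmul_add, map_add, hx, hy]
      | smul a x _ hx => rw [TensorProduct.tmul_smul, ← algebraMap_smul C a, map_smul, map_smul, map_smul, hx]
    induction m with
    | zero => simp
    | tmul c w =>
      rw [show c ⊗ₜ[B₂] w = c • ((1 : C) ⊗ₜ[B₂] w) by rw [TensorProduct.smul_tmul', smul_eq_mul, mul_one],
        map_smul, map_smul, map_smul, hgen]
    | add x y hx hy => rw [map_add, map_add, map_add, hx, hy]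
  have hsurjmu : Function.Surjective mu := by
    rw [← LinearMap.range_eq_top, ← top_le_iff]
    refine Submodule.le_of_le_smul_of_le_jacobson_bot (I := bC) Module.Finite.fg_top hbC ?_
    rw [← KaehlerDifferential.span_range_map_derivation_of_isLocalization A B₁ C P.primeCompl, Submodule.span_le]
    rintro _ ⟨b, rfl⟩
    have hd : ∀ q ∈ b₁ ^ 2, KaehlerDifferential.D A C (algebraMap B₁ C q) ∈ bC • (⊤ : Submodule C Ω[C⁄A]) := by
      intro q hq
      rw [sq] at hq
      refine Submodule.mul_induction_on hq (fun x hx z hz => ?_) (fun x z hx hz => ?_)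
      · rw [map_mul, Derivation.leibniz]
        exact add_mem (Submodule.smul_mem_smul (Ideal.mem_map_of_mem _ hx) Submodule.mem_top)
          (Submodule.smul_mem_smul (Ideal.mem_map_of_mem _ hz) Submodule.mem_top)
      · rw [map_add, map_add]; exact add_mem hx hz
    rw [SetLike.mem_coe, Function.comp_apply, KaehlerDifferential.map_D,
      KaehlerDifferential.span_range_map_derivation_of_isLocalization A B₁ C P.primeCompl]
    have e : KaehlerDifferential.D A C (algebraMap B₁ C b) = mu (1 ⊗ₜ[B₂] KaehlerDifferential.D A B₂ (yy b))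
        - KaehlerDifferential.D A C (algebraMap B₁ C (algebraMap B₂ B₁ (yy b) - (b - algebraMap A B₁ (σ₁ b)))) := by
      simp only [mu, KaehlerDifferential.mapBaseChange_tmul, one_smul, KaehlerDifferential.map_D, map_sub,
        ← IsScalarTower.algebraMap_apply, Derivation.map_algebraMap]
      abel
    rw [e]
    exact Submodule.sub_mem _ (Submodule.mem_sup_left ⟨_, rfl⟩) (Submodule.mem_sup_right (hd _ (hyy2 b)))
  obtain ⟨s, hs⟩ := Module.projective_lifting_property mu LinearMap.id hsurjmu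
  have hs' : ∀ w, mu (s w) = w := fun w => DFunLike.congr_fun hs w
  have hinjmu : Function.Injective mu := by
    let p : (C ⊗[B₂] Ω[B₂⁄A]) →ₗ[C] (C ⊗[B₂] Ω[B₂⁄A]) := LinearMap.id - s.comp mu
    have hp : LinearMap.range p = ⊥ := by
      refine Submodule.eq_bot_of_le_smul_of_le_jacobson_bot bC _ (LinearMap.range_eq_map p ▸ Module.Finite.fg_top.map p) ?_ hbC
      rintro _ ⟨m, rfl⟩
      have h0 : mu (p m) = 0 := by simp [p, hs']
      have h1 : p m ∈ Nsub := by
        rw [← Submodule.Quotient.mk_eq_zero, ← Submodule.mkQ_apply, ← htT, h0, map_zero]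
      have h2 : p (p m) = p m := by simp [p, hs']
      rw [← h2, LinearMap.range_eq_map, ← Submodule.map_smul'']
      exact ⟨p m, h1, rfl⟩
    refine (injective_iff_map_eq_zero mu).mpr fun m hm => ?_
    have : p m ∈ LinearMap.range p := ⟨m, rfl⟩
    rw [hp, Submodule.mem_bot] at this
    simpa [p, hm] using this
  haveI : Subsingleton Ω[C⁄B₂] := by
    refine subsingleton_of_forall_eq 0 fun w => ?_
    obtain ⟨v, rfl⟩ := KaehlerDifferential.map_surjective A B₂ C w
    exact (KaehlerDifferential.exact_mapBaseChange_map A B₂ C v).mpr (hsurjmu v)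
  refine ⟨inferInstance, subsingleton_of_forall_eq 0 fun x => ?_⟩
  have hδ : Algebra.H1Cotangent.δ A B₂ C x = 0 := hinjmu (by
    rw [map_zero]
    exact (Algebra.H1Cotangent.exact_δ_mapBaseChange A B₂ C).apply_apply_eq_zero x)
  obtain ⟨z, hz⟩ := (Algebra.H1Cotangent.exact_map_δ A B₂ C x).mp hδ
  rw [← hz, Subsingleton.elim z 0, map_zero]

end Groth.Agent.S18962
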