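import Groth.Statements.S18974
import Mathlib

set_option autoImplicit false
universe u
open CAlg

namespace Groth.Agent.S18974

/-- Let A be a commutative algebra over the rationals, D a locally nilpotent derivation of A and a an
element with D a = 1; write A' for the quotient of A by the ideal generated by a. Then there is a
ring isomorphism from A onto the polynomial ring A'[Y] which sends every x to the (finite) sum over
n of (1/n!) (class of D^n x) Y^n; its inverse sends Y to a and the constant polynomial on the class
of x to the sum over n of ((-1)^n/n!) (D^n x) a^n, and under it D corresponds to the derivative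
d/dY. (The source says only that A is a ring, in a setting over a field of characteristic zero; the
rational coefficients 1/n! require an algebra over the rationals, which is the hypothesis taken
here. Both sums are written over any range beyond which the iterates of D vanish at x.) -/
theorem result
    (A : Type u) [CommRing A] [Algebra ℚ A] (D : Derivation ℚ A A)
    (hnil : ∀ x : A, ∃ n : ℕ, ((D : A →ₗ[ℚ] A) ^ n) x = 0) (a : A) (ha : D a = 1) :
    ∃ χ : A ≃+* Polynomial (A ⧸ Ideal.span ({a} : Set A)),
      (∀ (x : A) (N : ℕ), ((D : A →ₗ[ℚ] A) ^ N) x = 0 →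
        χ x = ∑ n ∈ Finset.range N,
          ((n.factorial : ℚ)⁻¹ • Polynomial.C (Ideal.Quotient.mk (Ideal.span ({a} : Set A)) (((D : A →ₗ[ℚ] A) ^ n) x))) *
            Polynomial.X ^ n) ∧
      χ.symm Polynomial.X = a ∧
      (∀ (x : A) (N : ℕ), ((D : A →ₗ[ℚ] A) ^ N) x = 0 →
        χ.symm (Polynomial.C (Ideal.Quotient.mk (Ideal.span ({a} : Set A)) x)) =
          ∑ n ∈ Finset.range N, (((-1 : ℚ) ^ n * (n.factorial : ℚ)⁻¹) • ((((D : A →ₗ[ℚ] A) ^ n) x) * a ^ n))) ∧
      ∀ p : Polynomial (A ⧸ Ideal.span ({a} : Set A)), χ (D (χ.symm p)) = Polynomial.derivative p := by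
  classical
  set L : A →ₗ[ℚ] A := (D : A →ₗ[ℚ] A) with hL
  have hsucc : ∀ x n, (L ^ (n + 1)) x = D ((L ^ n) x) := fun x n => by rw [pow_succ']; rfl
  have hmono : ∀ x m n, (L ^ m) x = 0 → m ≤ n → (L ^ n) x = 0 := fun x m n h hmn => by
    rw [← Nat.sub_add_cancel hmn, pow_add, Module.End.mul_apply, h, map_zero]
  choose N hN using hnil
  let E : A → Polynomial A := fun x => ∑ n ∈ Finset.range (N x), Polynomial.monomial n ((n.factorial : ℚ)⁻¹ • (L ^ n) x)
  have hE : ∀ x n, (E x).coeff n = (n.factorial : ℚ)⁻¹ • (L ^ n) x := by
    intro x n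
    simp only [E, Polynomial.finsetSum_coeff, Polynomial.coeff_monomial, Finset.sum_ite_eq', Finset.mem_range]
    split_ifs with h
    · rfl
    · rw [hmono x _ n (hN x) (not_lt.1 h), smul_zero]
  have hE0 : ∀ x, (E x).coeff 0 = x := fun x => by simp [hE]
  have hfac : ∀ n : ℕ, ((n : ℚ) + 1) * ((n + 1).factorial : ℚ)⁻¹ = (n.factorial : ℚ)⁻¹ := fun n => by
    rw [Nat.factorial_succ]; push_cast; field_simp
  have hrel : ∀ x n, (Polynomial.derivative (E x)).coeff n = D ((E x).coeff n) := fun x n => by
    rw [Polynomial.coeff_derivative, hE, hE, D.map_smul, ← hsucc, ← hfac n, mul_smul, mul_comm]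
    rw [Algebra.smul_def ((n : ℚ) + 1), map_add, map_natCast, map_one]
  have huniq : ∀ P : Polynomial A, (∀ n, (Polynomial.derivative P).coeff n = D (P.coeff n)) → P = E (P.coeff 0) := by
    intro P hP
    ext n
    induction n with
    | zero => rw [hE0]
    | succ n ih =>
      have h1 := hP n
      rw [ih, ← hrel, Polynomial.coeff_derivative, Polynomial.coeff_derivative] at h1
      have hu : IsUnit ((n : A) + 1) := by
        simpa using (IsUnit.mk0 ((n : ℚ) + 1) (by positivity)).map (algebraMap ℚ A)
      exact hu.mul_right_cancel h1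
  let Eh : A →+* Polynomial A :=
    { toFun := E
      map_one' := by
        have := huniq 1 (fun n => by rw [Polynomial.derivative_one, Polynomial.coeff_zero, Polynomial.coeff_one]; split_ifs <;> simp)
        rw [Polynomial.coeff_one_zero] at this
        exact this.symm
      map_mul' := fun x y => by
        have := huniq (E x * E y) (fun n => by
          simp only [Polynomial.derivative_mul, Polynomial.coeff_add, Polynomial.coeff_mul, hrel]
          rw [map_sum, ← Finset.sum_add_distrib]
          refine Finset.sum_congr rfl fun i _ => ?_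
          rw [D.leibniz, smul_eq_mul, smul_eq_mul]
          ring)
        rw [Polynomial.mul_coeff_zero, hE0, hE0] at this
        exact this.symm
      map_zero' := by ext n; simp [hE]
      map_add' := fun x y => by ext n; simp [hE, smul_add] }
  let mk := Ideal.Quotient.mk (Ideal.span ({a} : Set A))
  let φ : A →+* Polynomial (A ⧸ Ideal.span ({a} : Set A)) := (Polynomial.mapRingHom mk).comp Eh
  have hφ : ∀ x n, (φ x).coeff n = mk ((E x).coeff n) := fun x n => Polynomial.coeff_map _ _
  have hmka : mk a = 0 := Ideal.Quotient.eq_zero_iff_mem.2 (Ideal.mem_span_singleton_self a)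
  have hder : ∀ x, φ (D x) = Polynomial.derivative (φ x) := fun x => by
    ext n
    have : (L ^ n) (D x) = D ((L ^ n) x) := by
      rw [← hsucc, pow_succ]; rfl
    rw [hφ, show (φ x) = (E x).map mk from rfl, Polynomial.derivative_map, Polynomial.coeff_map, hrel, hE, hE, D.map_smul, this]
  have hXa : φ a = Polynomial.X := by
    have h : E a = Polynomial.C a + Polynomial.X := by
      have := huniq (Polynomial.C a + Polynomial.X) (fun n => by
        rw [Polynomial.derivative_add, Polynomial.derivative_C, Polynomial.derivative_X, zero_add, Polynomial.coeff_add, Polynomial.coeff_C, Polynomial.coeff_X, Polynomial.coeff_one]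
        rcases n with _ | _ | n <;> simp [ha])
      simpa using this.symm
    show (E a).map mk = _
    rw [h]; simp [hmka]
  have hker : ∀ x, D x = 0 → φ x = Polynomial.C (mk x) := fun x hx => by
    have := huniq (Polynomial.C x) (fun n => by
      rw [Polynomial.derivative_C, Polynomial.coeff_zero, Polynomial.coeff_C]; split_ifs <;> simp [hx])
    rw [Polynomial.coeff_C_zero] at this
    show (E x).map mk = _
    rw [← this, Polynomial.map_C]
  have hinj : Function.Injective φ := by
    rw [injective_iff_map_eq_zero]
    suffices ∀ n x, (L ^ n) x = 0 → φ x = 0 → x = 0 from fun x hx => this _ x (hN x) hx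
    intro n
    induction n with
    | zero => intro x hx _; simpa using hx
    | succ n ih =>
      intro x hx hφx
      have hDx : D x = 0 := ih (D x) (by rw [pow_succ] at hx; exact hx) (by rw [hder, hφx, Polynomial.derivative_zero])
      have h0 : mk x = 0 := by
        have := congrArg (fun q => q.coeff 0) (hker x hDx ▸ hφx)
        simpa using this
      obtain ⟨y, rfl⟩ := Ideal.mem_span_singleton.1 (Ideal.Quotient.eq_zero_iff_mem.1 h0)
      have h1 : y + a * D y = 0 := by
        rw [D.leibniz, smul_eq_mul, smul_eq_mul, ha, mul_one] at hDx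
        linear_combination hDx
      have hk : ∀ k : ℕ, ((k : A) + 1) * (L ^ k) y + a * (L ^ (k + 1)) y = 0 := by
        intro k
        induction k with
        | zero => simpa [hsucc, hL] using h1
        | succ k ihk =>
          have := congrArg D ihk
          rw [map_add, D.leibniz, D.leibniz, ← hsucc, ← hsucc, map_zero, ha, map_add, D.map_natCast, D.map_one_eq_zero,
            add_zero, smul_zero, add_zero] at this
          simp only [smul_eq_mul, mul_one] at this
          push_cast
          linear_combination this
      suffices ∀ j k, k + j = N y → (L ^ k) y = 0 by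
        have hy : y = 0 := by simpa using this (N y) 0 (by simp)
        rw [hy, mul_zero]
      intro j
      induction j with
      | zero => intro k hk'; rw [show k = N y by omega]; exact hN y
      | succ j ihj =>
        intro k hk'
        have h2 := hk k
        rw [ihj (k + 1) (by omega), mul_zero, add_zero] at h2
        have hu : IsUnit ((k : A) + 1) := by
          simpa using (IsUnit.mk0 ((k : ℚ) + 1) (by positivity)).map (algebraMap ℚ A)
        exact hu.mul_right_eq_zero.1 h2
  have hr : ∀ x M, (L ^ M) x = 0 →
      φ (∑ n ∈ Finset.range M, (((-1 : ℚ) ^ n * (n.factorial : ℚ)⁻¹) • (((L ^ n) x) * a ^ n))) = Polynomial.C (mk x) := by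
    intro x M hM
    cases M with
    | zero => simp [show x = 0 by simpa using hM]
    | succ M =>
      set c : ℕ → ℚ := fun n => (-1 : ℚ) ^ n * (n.factorial : ℚ)⁻¹ with hc
      have htel : ∀ m, D (∑ n ∈ Finset.range (m + 1), c n • ((L ^ n) x * a ^ n)) = c m • ((L ^ (m + 1)) x * a ^ m) := by
        intro m
        induction m with
        | zero => simp [hc, hsucc, hL]
        | succ m ihm =>
          rw [Finset.sum_range_succ, map_add, ihm, D.map_smul, D.leibniz, D.leibniz_pow, ha, ← hsucc]
          simp only [Nat.add_sub_cancel, smul_eq_mul, nsmul_eq_mul, Algebra.smul_def, mul_one]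
          have hcm : algebraMap ℚ A (c m) + algebraMap ℚ A (c (m + 1)) * ((m + 1 : ℕ) : A) = 0 := by
            rw [← map_natCast (algebraMap ℚ A), ← map_mul, ← map_add]
            have : c m + c (m + 1) * ((m + 1 : ℕ) : ℚ) = 0 := by
              simp only [hc, pow_succ, Nat.factorial_succ]; push_cast; field_simp; ring
            rw [this, map_zero]
          linear_combination ((L ^ (m + 1)) x * a ^ m) * hcm
      rw [hker _ (by rw [htel M, hM, zero_mul, smul_zero]), Finset.sum_range_succ']
      congr 1
      simp [hc, Algebra.smul_def, hmka]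
  have hsurj : Function.Surjective φ := by
    intro P
    induction P using Polynomial.induction_on' with
    | add P Q hP hQ =>
      obtain ⟨u, rfl⟩ := hP
      obtain ⟨v, rfl⟩ := hQ
      exact ⟨u + v, map_add _ _ _⟩
    | monomial n q =>
      obtain ⟨x, rfl⟩ := Ideal.Quotient.mk_surjective q
      exact ⟨(∑ m ∈ Finset.range (N x), (((-1 : ℚ) ^ m * (m.factorial : ℚ)⁻¹) • (((L ^ m) x) * a ^ m))) * a ^ n, by rw [map_mul, map_pow, hr x (N x) (hN x), hXa, Polynomial.C_mul_X_pow_eq_monomial]⟩
  let χ := RingEquiv.ofBijective φ ⟨hinj, hsurj⟩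
  refine ⟨χ, fun x M hM => ?_, χ.symm_apply_eq.2 hXa.symm, fun x M hM => χ.symm_apply_eq.2 (hr x M hM).symm, fun P => ?_⟩
  · show φ x = _
    ext n
    rw [hφ, hE, Polynomial.finsetSum_coeff]
    simp only [Polynomial.smul_C, Polynomial.coeff_C_mul_X_pow, Finset.sum_ite_eq, Finset.mem_range]
    split_ifs with h
    · rfl
    · rw [hmono x M n hM (not_lt.1 h), smul_zero, map_zero]
  · show φ (D (χ.symm P)) = _
    rw [hder]
    exact congrArg _ (χ.apply_symm_apply P)

end Groth.Agent.S18974
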