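import Groth.Statements.S18987
import Groth.Agent.ComodBasic.UnipChar0


set_option autoImplicit false
universe u
open TensorProduct
open HopfRep

namespace Groth.Agent.S18987

/-- In Hopf-algebra form, over an algebraically closed field k of characteristic zero, let A be a
finitely generated commutative Hopf algebra which is unipotent in the fixed-vector sense (the
coordinate ring of a unipotent group U), coacting multiplicatively on a finitely generated
commutative k-algebra R (an action of U on the affine scheme Spec R). Then an element f of R is
invariant if and only if, for every ε-derivation ξ : A → k (every element of the Lie algebra of U),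
applying ξ to the A-factor of the coaction of f gives zero (the infinitesimal action of ξ kills f). -/
theorem result
    (k : Type u) [Field k] [IsAlgClosed k] [CharZero k]
    (A : Type u) [CommRing A] [HopfAlgebra k A] [Algebra.FiniteType k A] (hU : HopfRep.IsUnipotent k A)
    (R : Type u) [CommRing R] [Algebra k R] [Algebra.FiniteType k R]
    [HopfRep.Comod k A R] [GLin.IsCoactAlg k A R] (f : R) :
    f ∈ GLin.invariants k A R ↔
      ∀ ξ : LieHopf.Lie k A,
        LinearMap.lTensor R (ξ.toLinearMap.restrictScalars k) (HopfRep.Comod.coact (k := k) (A := A) f) = 0 := by
  open Groth.Agent.ComodBasic CoalgebraStruct in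
  exact (by
    constructor
    · intro hf ξ
      rw [show HopfRep.Comod.coact (k := k) (A := A) f = f ⊗ₜ[k] (1 : A) from hf, LinearMap.lTensor_tmul]
      rw [show (ξ.toLinearMap.restrictScalars k) (1 : A) = 0 from ξ.map_one_eq_zero, TensorProduct.tmul_zero]
    · intro h
      have hzero : ∀ (l : A →ₗ[k] k), IsPtDeriv l → act l f = 0 := fun l hl => by
        rw [act_eq_rid_toLie hl, h, map_zero]
      show HopfRep.Comod.coact (k := k) (A := A) f = f ⊗ₜ[k] (1 : A)
      rw [← sub_eq_zero]
      refine eq_zero_of_lslice _ fun φ => ?_
      rw [map_sub, lslice_tmul]
      let a := lslice φ (HopfRep.Comod.coact (k := k) (A := A) f) - φ f • (1 : A)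
      refine eq_zero_of_deriv_stable hU (Submodule.span k {a}) (fun b hb => ?_) (fun l hl b hb => ?_)
        (Submodule.mem_span_singleton_self a)
      · obtain ⟨c, rfl⟩ := Submodule.mem_span_singleton.1 hb
        rw [map_smul, map_sub, counit_lslice_coact, map_smul, Bialgebra.counit_one, smul_eq_mul, smul_eq_mul,
          mul_one, sub_self, mul_zero]
      · obtain ⟨c, rfl⟩ := Submodule.mem_span_singleton.1 hb
        have h1 : act l (1 : A) = 0 := by
          have := act_mul_of_isPtDeriv hl (1 : A) 1
          rw [one_mul, one_mul, mul_one] at this
          exact add_eq_left.1 this.symm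
        rw [map_smul, map_sub, act_lslice, hzero l hl, map_zero, map_zero, map_smul, h1, smul_zero, sub_self,
          smul_zero]
        exact zero_mem _)

end Groth.Agent.S18987
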