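import Groth.Statements.S18988
import Groth.Agent.ComodBasic.UnipChar0


set_option autoImplicit false
universe u
open TensorProduct
open HopfRep

namespace Groth.Agent.S18988

/-- In Hopf-algebra form, over an algebraically closed field k of characteristic zero, let A be a
finitely generated commutative Hopf algebra which is unipotent in the fixed-vector sense (the
coordinate ring of a unipotent group U), coacting multiplicatively on a finitely generated
commutative k-algebra R. Then a k-subspace V of R is a subcomodule (is invariant under U) if and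
only if it is stable under the infinitesimal action of every ε-derivation ξ : A → k: for every v in
V, applying ξ to the A-factor of the coaction of v gives an element of the image of V ⊗ k in R ⊗ k. -/
theorem result
    (k : Type u) [Field k] [IsAlgClosed k] [CharZero k]
    (A : Type u) [CommRing A] [HopfAlgebra k A] [Algebra.FiniteType k A] (hU : HopfRep.IsUnipotent k A)
    (R : Type u) [CommRing R] [Algebra k R] [Algebra.FiniteType k R]
    [HopfRep.Comod k A R] [GLin.IsCoactAlg k A R] (V : Submodule k R) :
    HopfRep.IsSubcomod (k := k) (A := A) V ↔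
      ∀ (ξ : LieHopf.Lie k A) (v : R), v ∈ V →
        LinearMap.lTensor R (ξ.toLinearMap.restrictScalars k) (HopfRep.Comod.coact (k := k) (A := A) v) ∈
          LinearMap.range (LinearMap.rTensor (LieHopf.K k A) V.subtype) := by
  open Groth.Agent.ComodBasic CoalgebraStruct in
  exact (by
    constructor
    · intro hV ξ v hv
      obtain ⟨z, hz⟩ := hV v hv
      refine ⟨(ξ.toLinearMap.restrictScalars k).lTensor V z, ?_⟩
      rw [← hz, ← LinearMap.comp_apply, LinearMap.rTensor_comp_lTensor, ← LinearMap.lTensor_comp_rTensor]
      rfl
    · intro h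
      intro v hv
      refine (Groth.Agent.ComodBasic.mem_range_rTensor_iff V _).2 fun ψ => ?_
      by_contra hne
      obtain ⟨φ, hφ, hφV⟩ : ∃ φ : R →ₗ[k] k, φ (slice ψ (HopfRep.Comod.coact (k := k) (A := A) v)) ≠ 0 ∧
          ∀ x ∈ V, φ x = 0 := by
        have h0 : V.mkQ (slice ψ (HopfRep.Comod.coact (k := k) (A := A) v)) ≠ 0 := fun h0 =>
          hne ((Submodule.Quotient.mk_eq_zero V).1 h0)
        obtain ⟨ξ, hξ⟩ : ∃ ξ : (R ⧸ V) →ₗ[k] k, ξ (V.mkQ (slice ψ (HopfRep.Comod.coact (k := k) (A := A) v))) ≠ 0 := by
          by_contra hh
          push Not at hh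
          exact h0 ((Module.forall_dual_apply_eq_zero_iff k _).1 hh)
        exact ⟨ξ ∘ₗ V.mkQ, hξ, fun x hx => by
          rw [LinearMap.comp_apply, Submodule.mkQ_apply, (Submodule.Quotient.mk_eq_zero V).2 hx, map_zero]⟩
      let Lm : R →ₗ[k] A := lslice φ ∘ₗ HopfRep.Comod.coact (k := k) (A := A)
      have hz : lslice φ (HopfRep.Comod.coact (k := k) (A := A) v) = 0 := by
        refine eq_zero_of_deriv_stable hU (V.map Lm) ?_ ?_ ⟨v, hv, rfl⟩
        · rintro _ ⟨x, hx, rfl⟩
          exact (counit_lslice_coact φ x).trans (hφV x hx)
        · rintro l hl _ ⟨x, hx, rfl⟩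
          refine ⟨act l x, ?_, (act_lslice l φ x).symm⟩
          obtain ⟨z, hz⟩ := h (toLie hl) x hx
          show act l x ∈ V
          rw [act_eq_rid_toLie hl, ← hz]
          clear hz
          induction z using TensorProduct.induction_on with
          | zero => simp
          | add p q hp hq => simp only [map_add]; exact add_mem hp hq
          | tmul p q => rw [LinearMap.rTensor_tmul, lieVal_tmul]; exact V.smul_mem _ p.2
      refine hφ ?_
      have e : ∀ z : R ⊗[k] A, φ (slice ψ z) = ψ (lslice φ z) := fun z => by
        induction z using TensorProduct.induction_on with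
        | zero => simp
        | add p q hp hq => simp only [map_add, hp, hq]
        | tmul p q => simp [mul_comm]
      rw [e, hz, map_zero])

end Groth.Agent.S18988
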