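import Groth.Statements.S18989
import Groth.Agent.ComodBasic.UnipChar0


set_option autoImplicit false
universe u
open TensorProduct
open HopfRep

namespace Groth.Agent.S18989

/-- An action of a unipotent group on an affine scheme is determined by its infinitesimal action. Over
an algebraically closed field k of characteristic zero, let A be a finitely generated commutative
Hopf algebra, unipotent in the fixed-vector sense, coacting multiplicatively on two finitely
generated commutative k-algebras R₁ and R₂, and let e : R₁ → R₂ be an algebra isomorphism which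
intertwines the two infinitesimal actions: for every ε-derivation ξ : A → k and every f in R₁,
applying ξ to the A-factor of the coaction of e(f) equals e ⊗ id applied to the same for f. Then e
intertwines the coactions: the coaction of e(f) is (e ⊗ id) of the coaction of f for all f. (With R₁
= R₂ and e the identity this says that two actions with the same infinitesimal action coincide,
which is the printed assertion.) -/
theorem result
    (k : Type u) [Field k] [IsAlgClosed k] [CharZero k]
    (A : Type u) [CommRing A] [HopfAlgebra k A] [Algebra.FiniteType k A] (hU : HopfRep.IsUnipotent k A)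
    (R₁ R₂ : Type u) [CommRing R₁] [Algebra k R₁] [Algebra.FiniteType k R₁]
    [HopfRep.Comod k A R₁] [GLin.IsCoactAlg k A R₁]
    [CommRing R₂] [Algebra k R₂] [Algebra.FiniteType k R₂]
    [HopfRep.Comod k A R₂] [GLin.IsCoactAlg k A R₂]
    (e : R₁ ≃ₐ[k] R₂)
    (h : ∀ (ξ : LieHopf.Lie k A) (f : R₁),
      LinearMap.lTensor R₂ (ξ.toLinearMap.restrictScalars k) (HopfRep.Comod.coact (k := k) (A := A) (e f)) =
        LinearMap.rTensor (LieHopf.K k A) e.toLinearMap
          (LinearMap.lTensor R₁ (ξ.toLinearMap.restrictScalars k) (HopfRep.Comod.coact (k := k) (A := A) f))) :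
    ∀ f : R₁, HopfRep.Comod.coact (k := k) (A := A) (e f) =
      LinearMap.rTensor A e.toLinearMap (HopfRep.Comod.coact (k := k) (A := A) f) := by
  open Groth.Agent.ComodBasic CoalgebraStruct in
  exact (by
    intro f
    rw [← sub_eq_zero]
    refine eq_zero_of_lslice _ fun φ => ?_
    let Lm : R₁ →ₗ[k] A := lslice φ ∘ₗ (HopfRep.Comod.coact (k := k) (A := A) ∘ₗ e.toLinearMap -
      e.toLinearMap.rTensor A ∘ₗ HopfRep.Comod.coact (k := k) (A := A))
    have hLm : ∀ x, Lm x = lslice φ (HopfRep.Comod.coact (k := k) (A := A) (e x)) -
        lslice (φ ∘ₗ e.toLinearMap) (HopfRep.Comod.coact (k := k) (A := A) x) := fun x => by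
      simp only [Lm, LinearMap.comp_apply, LinearMap.sub_apply, map_sub]
      rw [lslice_rTensor]
      rfl
    refine eq_zero_of_deriv_stable hU (LinearMap.range Lm) ?_ ?_ ⟨f, rfl⟩
    · rintro _ ⟨x, rfl⟩
      rw [hLm, map_sub, counit_lslice_coact, counit_lslice_coact]
      exact sub_self _
    · rintro l hl _ ⟨x, rfl⟩
      have he : act l (e x) = e (act l x) := by
        rw [act_eq_rid_toLie hl, h, act_eq_rid_toLie hl]
        generalize LinearMap.lTensor R₁ ((toLie hl).toLinearMap.restrictScalars k) _ = z
        induction z using TensorProduct.induction_on with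
        | zero => simp
        | add p q hp hq => simp only [map_add, hp, hq]
        | tmul p q => rw [LinearMap.rTensor_tmul, lieVal_tmul, lieVal_tmul, map_smul]; rfl
      refine ⟨act l x, ?_⟩
      rw [hLm, hLm, map_sub, act_lslice, act_lslice, he])

end Groth.Agent.S18989
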