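import Groth.Statements.S1899
import Groth.Agent.ModGroth.PushStalk
import Groth.Agent.Ref1.Generic
-- import your own Groth.Agent.* helpers here

set_option autoImplicit false
universe u
open CategoryTheory AlgebraicGeometry
open Cyc

namespace Groth.Agent.S1899

/-- For a closed immersion i : Z → X with Z of δ-dimension ≤ k, [Z]_k = [O_Z]_k, i.e. the multiplicities
computed from lengths of the local rings O_{Z,z} agree with those computed from the stalks of i_*O_Z
as O_X-modules. A pair (X, δ) with Cyc.IsSetup plays the role of a scheme locally of finite type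
over a fixed base with a dimension function (X locally Noetherian with universally catenary local
rings, δ a dimension function), and Cyc.DeltaCompat records that the dimension function upstairs is
the induced one. -/
theorem result (X Z : Scheme.{u}) (δ : X → ℤ) (hX : Cyc.IsSetup X δ) (i : Z ⟶ X) [IsClosedImmersion i] (k : ℤ) (hdim : ∀ z : Z, δ (i z) ≤ k) : Cyc.subschemeFun δ k i = Cyc.sheafFun δ k ((Coh.push i).obj (Coh.structureModule Z)) := by
    funext x
    simp only [Cyc.subschemeFun, Cyc.sheafFun]
    split_ifs with hx
    swap
    · rfl
    by_cases hr : x ∈ Set.range i.base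
    · obtain ⟨z, rfl⟩ := hr
      rw [show {z' : Z | i z' = i z} = {z} from Set.ext fun z' => ⟨fun h => i.isEmbedding.injective h, fun h => by rw [Set.mem_singleton_iff.1 h]; rfl⟩,
        finsum_mem_singleton]
      letI := (i.stalkMap z).hom.toAlgebra
      letI : Module (X.presheaf.stalk (i z)) ((Coh.structureModule Z).presheaf.stalk z) := Module.compHom _ (i.stalkMap z).hom
      haveI : IsScalarTower (X.presheaf.stalk (i z)) (Z.presheaf.stalk z) ((Coh.structureModule Z).presheaf.stalk z) :=
        IsScalarTower.of_algebraMap_smul fun _ _ => rfl
      have hsurj : Function.Surjective (algebraMap (X.presheaf.stalk (i z)) (Z.presheaf.stalk z)) := i.stalkMap_surjective z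
      let e1 : Z.presheaf.stalk z ≃ₗ[Z.presheaf.stalk z] (Coh.structureModule Z).presheaf.stalk z :=
        LinearEquiv.ofBijective (LinearMap.toSpanSingleton _ _ (Ref1.one z)) (Ref1.unit_stalk_bijective z)
      let e2 : ((Coh.push i).obj (Coh.structureModule Z)).presheaf.stalk (i z) ≃ₗ[X.presheaf.stalk (i z)] (Coh.structureModule Z).presheaf.stalk z :=
        LinearEquiv.ofBijective (σ₁₂ := RingHom.id (X.presheaf.stalk (i z)))
          (M₂ := (Coh.structureModule Z).presheaf.stalk z)
          { toFun := ModGroth.PushStalk.spHom i z (Coh.structureModule Z)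
            map_add' := map_add _
            map_smul' := ModGroth.PushStalk.spHom_smul i z (Coh.structureModule Z) }
          (ModGroth.PushStalk.spHom_bijective i i.isEmbedding.isInducing z (Coh.structureModule Z))
      rw [e2.length_eq, Module.length_eq_of_surjective (R := Z.presheaf.stalk z) hsurj, ← e1.length_eq]
    · have h0 : Subsingleton (((Coh.push i).obj (Coh.structureModule Z)).presheaf.stalk x) :=
        ModuleCat.subsingleton_of_isZero (ModGroth.PushStalk.isZero_stalk_push i i.isClosedEmbedding.isClosed_range hr (Coh.structureModule Z))
      rw [show {z' : Z | i z' = x} = ∅ from Set.eq_empty_of_forall_notMem fun z' h => hr ⟨z', h⟩, finsum_mem_empty,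
        Module.length_eq_zero]
      rfl

end Groth.Agent.S1899
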