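import Groth.Statements.S18994
import Mathlib
-- import your own Groth.Agent.* helpers here

set_option autoImplicit false
universe u
open TernForm

namespace Groth.Agent.S18994

open MvPolynomial in
theorem deg2 {R : Type u} [CommRing R] {q : MvPolynomial (Fin 3) R} (hq : q.IsHomogeneous 2) {j : Fin 3}
    {s : Fin 3 →₀ ℕ} (hs : q.coeff s ≠ 0) : s j ≤ 2 ∧ (s j = 2 → s = Finsupp.single j 2) := by
  have h : s.degree = 2 := by rw [Finsupp.degree_eq_weight_one]; exact hq hs
  rw [Finsupp.degree_eq_sum, Fin.sum_univ_three] at h
  refine ⟨by fin_cases j <;> simp <;> omega, fun hj => Finsupp.ext fun i => ?_⟩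
  fin_cases j <;> fin_cases i <;> simp at hj ⊢ <;> omega

open MvPolynomial in
theorem key_zero {R : Type u} [CommRing R] {q : MvPolynomial (Fin 3) R} (hq : q.IsHomogeneous 2) {j : Fin 3}
    (hqj : IsUnit (q.coeff (Finsupp.single j 2))) (P : MvPolynomial (Fin 3) R)
    (h : ∀ m : Fin 3 →₀ ℕ, 2 ≤ m j → (q * P).coeff m = 0) : P = 0 := by
  classical
  by_contra hP
  obtain ⟨m₀, hm₀, hmax⟩ := Finset.exists_max_image P.support (fun m => m j)
    (support_nonempty.mpr hP)
  have h1 := h (Finsupp.single j 2 + m₀) (by simp)
  rw [coeff_mul, Finset.sum_eq_single (Finsupp.single j 2, m₀)] at h1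
  · exact mem_support_iff.mp hm₀ (hqj.mul_right_eq_zero.mp h1)
  · rintro ⟨s, t⟩ hst hne
    by_contra hne0
    have hs := left_ne_zero_of_mul hne0
    have ht := hmax t (mem_support_iff.mpr (right_ne_zero_of_mul hne0))
    rw [Finset.HasAntidiagonal.mem_antidiagonal] at hst
    change s + t = _ at hst
    change coeff s q ≠ 0 at hs
    change t j ≤ m₀ j at ht
    have hj := DFunLike.congr_fun hst j
    rw [Finsupp.add_apply, Finsupp.add_apply, Finsupp.single_eq_same] at hj
    obtain ⟨h2, h3⟩ := deg2 hq (j := j) hs
    have hs2 : s = Finsupp.single j 2 := h3 (by omega)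
    subst hs2
    exact hne (by rw [add_left_cancel hst])
  · intro hh
    exact (hh (by simp)).elim

/-- Let R be a commutative ring, j ∈ {0, 1, 2}, q a homogeneous polynomial of degree 2 in R[X_0, X_1,
X_2] whose coefficient of X_j^2 is a unit, and n a natural number. Then the family consisting of the
monomials of degree n not divisible by X_j^2 (exponent of X_j at most 1) together with the products
q · m, m running over the monomials of degree n − 2 (indexed by exponents m with |m| + 2 = n), is
linearly independent over R and spans exactly the homogeneous polynomials of degree n; in particular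
it is a basis of that module and the two parts are disjoint. (The published lemma is stated over a
field with the coefficient nonzero, the special case of a field R here; the version over a ring with
the coefficient invertible is what its change-of-basis argument gives — ordering monomials by
decreasing exponent of X_j makes the matrix triangular with diagonal entries 1 and that coefficient
— and is the form used to trivialise the bundle of degree-n forms modulo multiples of q over the
locus where the coefficient is invertible. The published lemma also allows an arbitrary monomial of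
degree 2 in place of X_j^2; for the mixed monomial X_1X_2, the form q = X_1^2 + X_1X_2 + X_2^2 and n
= 3 give the linear relation q·X_1 − q·X_2 = X_1^3 − X_2^3 among members of the family, so the claim
fails there and is stated here for the square of a variable.) -/
theorem result
    (R : Type u) [CommRing R] (j : Fin 3) (q : MvPolynomial (Fin 3) R)
    (hq : q.IsHomogeneous 2) (hqj : IsUnit (q.coeff (Finsupp.single j 2))) (n : ℕ) :
    LinearIndependent R (Sum.elim (fun m : {m : Fin 3 →₀ ℕ // m.degree = n ∧ m j < 2} => MvPolynomial.monomial m.1 (1 : R)) (fun m : {m : Fin 3 →₀ ℕ // m.degree + 2 = n} => q * MvPolynomial.monomial m.1 (1 : R))) ∧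
      Submodule.span R (Set.range (Sum.elim (fun m : {m : Fin 3 →₀ ℕ // m.degree = n ∧ m j < 2} => MvPolynomial.monomial m.1 (1 : R)) (fun m : {m : Fin 3 →₀ ℕ // m.degree + 2 = n} => q * MvPolynomial.monomial m.1 (1 : R)))) = MvPolynomial.homogeneousSubmodule (Fin 3) R n := by
  classical
  set fA := fun m : {m : Fin 3 →₀ ℕ // m.degree = n ∧ m j < 2} => MvPolynomial.monomial m.1 (1 : R) with hfA
  set fB := fun m : {m : Fin 3 →₀ ℕ // m.degree + 2 = n} => q * MvPolynomial.monomial m.1 (1 : R) with hfB
  constructor
  · have hA : LinearIndependent R fA :=
      (MvPolynomial.basisMonomials (Fin 3) R).linearIndependent.comp Subtype.val Subtype.val_injective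
    have hB0 : LinearIndependent R (fun m : {m : Fin 3 →₀ ℕ // m.degree + 2 = n} => MvPolynomial.monomial m.1 (1 : R)) :=
      (MvPolynomial.basisMonomials (Fin 3) R).linearIndependent.comp Subtype.val Subtype.val_injective
    have hB : LinearIndependent R fB := hB0.map' (LinearMap.mulLeft R q) (LinearMap.ker_eq_bot'.mpr fun P hP =>
      key_zero hq hqj P (fun m _ => by
        rw [show q * P = 0 from hP]; exact MvPolynomial.coeff_zero m))
    refine hA.sum_type hB ?_
    rw [Submodule.disjoint_def]
    intro x hxA hxB
    have h1 : ∀ m : Fin 3 →₀ ℕ, 2 ≤ m j → x.coeff m = 0 := by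
      clear hxB
      induction hxA using Submodule.span_induction with
      | mem y hy =>
        obtain ⟨a, rfl⟩ := hy
        intro m hm
        simp only [fA, MvPolynomial.coeff_monomial]
        rw [if_neg]
        rintro rfl
        have := a.2.2
        omega
      | zero => intro m _; simp
      | add y z _ _ hy hz => intro m hm; simp [hy m hm, hz m hm]
      | smul c y _ hy => intro m hm; simp [hy m hm]
    have h2 : Submodule.span R (Set.range fB) ≤ LinearMap.range (LinearMap.mulLeft R q) := by
      rw [Submodule.span_le]
      rintro _ ⟨b, rfl⟩
      exact ⟨_, rfl⟩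
    obtain ⟨P, rfl⟩ := h2 hxB
    rw [key_zero hq hqj P (fun m hm => h1 m hm), map_zero]
  · apply le_antisymm
    · rw [Submodule.span_le]
      rintro _ ⟨a | b, rfl⟩
      · exact MvPolynomial.isHomogeneous_monomial _ a.2.1
      · show (q * MvPolynomial.monomial b.1 (1 : R)).IsHomogeneous n
        have h5 := hq.mul (MvPolynomial.isHomogeneous_monomial (1 : R) (rfl : b.1.degree = _))
        have h6 := b.2
        rwa [show 2 + b.1.degree = n by omega] at h5
    · intro p hp
      set W := Submodule.span R (Set.range (Sum.elim fA fB))
      have hmono : ∀ (k : ℕ) (m : Fin 3 →₀ ℕ), m j = k → m.degree = n → MvPolynomial.monomial m (1 : R) ∈ W := by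
        intro k
        induction k using Nat.strong_induction_on with
        | _ k ih =>
          intro m hk hm
          by_cases hlt : m j < 2
          · exact Submodule.subset_span ⟨Sum.inl ⟨m, hm, hlt⟩, rfl⟩
          set m' := m - Finsupp.single j 2 with hm'
          have hmm : m = Finsupp.single j 2 + m' := by
            rw [hm', add_tsub_cancel_of_le]
            rw [Finsupp.single_le_iff]; omega
          have hdeg : m'.degree + 2 = n := by
            rw [← hm]; conv_rhs => rw [hmm, map_add, Finsupp.degree_single]
            omega
          have hq' : q * MvPolynomial.monomial m' (1 : R) =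
              ∑ s ∈ q.support, q.coeff s • MvPolynomial.monomial (s + m') (1 : R) := by
            conv_lhs => rw [q.as_sum, Finset.sum_mul]
            simp [MvPolynomial.monomial_mul, MvPolynomial.smul_monomial]
          have hmem : q * MvPolynomial.monomial m' (1 : R) ∈ W :=
            Submodule.subset_span ⟨Sum.inr ⟨m', hdeg⟩, rfl⟩
          cases subsingleton_or_nontrivial R with
          | inl hR => rw [Subsingleton.elim (MvPolynomial.monomial m (1 : R)) 0]; exact W.zero_mem
          | inr hR =>
          rw [hq', ← Finset.add_sum_erase _ _ (MvPolynomial.mem_support_iff.mpr hqj.ne_zero), ← hmm] at hmem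
          have hrest : ∑ s ∈ q.support.erase (Finsupp.single j 2), q.coeff s • MvPolynomial.monomial (s + m') (1 : R) ∈ W := by
            refine Submodule.sum_mem _ fun s hs => Submodule.smul_mem _ _ ?_
            obtain ⟨hs1, hs2⟩ := Finset.mem_erase.mp hs
            rw [MvPolynomial.mem_support_iff] at hs2
            obtain ⟨h2, h3⟩ := deg2 hq (j := j) hs2
            have hlt2 : s j < 2 := lt_of_le_of_ne h2 fun e => hs1 (h3 e)
            refine ih ((s + m') j) ?_ _ rfl ?_
            · rw [← hk, hmm]; simp; omega
            · have hs' : s.degree = 2 := by rw [Finsupp.degree_eq_weight_one]; exact hq hs2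
              rw [map_add, hs']
              omega
          have := Submodule.sub_mem _ hmem hrest
          rw [add_sub_cancel_right] at this
          obtain ⟨u, hu⟩ := hqj
          rw [← hu] at this
          have h4 := Submodule.smul_mem W ((u⁻¹ : Rˣ) : R) this
          rwa [smul_smul, Units.inv_mul, one_smul] at h4
      rw [MvPolynomial.mem_homogeneousSubmodule] at hp
      rw [p.as_sum]
      refine Submodule.sum_mem _ fun m hm => ?_
      rw [← mul_one (p.coeff m), ← smul_eq_mul, ← MvPolynomial.smul_monomial]
      exact Submodule.smul_mem _ _ (hmono _ m rfl (by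
        rw [Finsupp.degree_eq_weight_one]; exact hp (MvPolynomial.mem_support_iff.mp hm)))

end Groth.Agent.S18994
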