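import Mathlib
import Groth.Statements.S19004
-- import your own Groth.Agent.* helpers here

set_option autoImplicit false
open GIT

namespace Groth.Agent.S19004

/-- For the group PGL(n) acting on the space of n × n matrices the T-quotient is (P^{n−1})^n with Chow
ring ℚ[t_1,…,t_n]/(t_1^n,…,t_n^n), the class c_top(g/t) is the product of all roots t_i − t_j (i ≠
j), and the computation in the proof shows that this product equals n!·t_1^{n−1}⋯t_n^{n−1} in that
ring. Stated here as the equivalent coefficient identity in ℤ[t_1,…,t_n]: the coefficient of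
t_1^{n−1}⋯t_n^{n−1} in the product over ordered pairs i ≠ j of (t_i − t_j) is n!. -/
theorem result (n : ℕ) :
    MvPolynomial.coeff (Finsupp.equivFunOnFinite.symm (fun _ : Fin n => n - 1))
      (∏ i : Fin n, ∏ j ∈ Finset.univ.erase i, (MvPolynomial.X i - MvPolynomial.X j : MvPolynomial (Fin n) ℤ)) = (n.factorial : ℤ) := by
  classical
  let V : Fin n → MvPolynomial (Fin n) ℤ := fun i => MvPolynomial.X i
  have hsplit : (∏ i : Fin n, ∏ j ∈ Finset.univ.erase i, (V i - V j)) =
      (Matrix.projVandermonde (fun _ => (1 : MvPolynomial (Fin n) ℤ)) V).det * (Matrix.vandermonde V).det := by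
    rw [Matrix.det_projVandermonde, Matrix.det_vandermonde]
    rw [Finset.prod_comm' (t' := Finset.univ) (s' := fun j => Finset.Iio j) (by simp)
      (f := fun i j => V j - V i)]
    simp only [one_mul]
    rw [← Finset.prod_mul_distrib]
    refine Finset.prod_congr rfl fun i _ => ?_
    rw [← Finset.prod_union (by simp [Finset.disjoint_left]; intro a h; exact h.le)]
    refine Finset.prod_congr (by ext j; simp [Fin.ext_iff]; omega) fun _ _ => rfl
  have hmon : ∀ (σ : Equiv.Perm (Fin n)) (f : Fin n → ℕ),
      ∏ i, V (σ i) ^ f i = MvPolynomial.monomial (Finsupp.equivFunOnFinite.symm (fun k => f (σ.symm k))) 1 := by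
    intro σ f
    rw [MvPolynomial.monomial_eq, Finsupp.prod_fintype _ _ (by simp)]
    refine ((Finset.prod_congr rfl (fun i _ => by simp)).trans (Equiv.prod_comp σ (fun k => V k ^ f (σ.symm k)))).trans ?_
    simp [V]
  change MvPolynomial.coeff _ (∏ i : Fin n, ∏ j ∈ Finset.univ.erase i, (V i - V j)) = _
  rw [hsplit, Matrix.det_apply', Matrix.det_apply', Finset.sum_mul_sum]
  simp only [Matrix.projVandermonde_apply, Matrix.vandermonde_apply, one_pow, one_mul, hmon,
    MvPolynomial.coeff_sum]
  have hterm : ∀ (a b : ℤ) (e e' d : Fin n →₀ ℕ),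
      MvPolynomial.coeff d ((a : MvPolynomial (Fin n) ℤ) * MvPolynomial.monomial e 1 * ((b : MvPolynomial (Fin n) ℤ) * MvPolynomial.monomial e' 1))
      = if e + e' = d then a * b else 0 := by
    intro a b e e' d
    rw [← map_intCast (MvPolynomial.C : ℤ →+* MvPolynomial (Fin n) ℤ), ← map_intCast (MvPolynomial.C : ℤ →+* MvPolynomial (Fin n) ℤ), MvPolynomial.C_mul_monomial,
      MvPolynomial.C_mul_monomial, MvPolynomial.monomial_mul, MvPolynomial.coeff_monomial]
    simp
  simp only [hterm]
  rw [Finset.sum_congr rfl (g := fun σ => (1 : ℤ)) (fun σ _ => ?_)]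
  · simp [Fintype.card_perm]
  rw [Finset.sum_eq_single σ]
  · rw [if_pos]
    · rw [← Units.val_mul, Int.units_mul_self]; rfl
    · ext k; simp [Fin.val_rev]; omega
  · intro τ _ hne
    rw [if_neg]
    intro h
    apply hne
    have : τ.symm = σ.symm := by
      refine Equiv.ext fun k => Fin.ext ?_
      have := DFunLike.congr_fun h k
      simp [Fin.val_rev] at this; omega
    simpa using congrArg Equiv.symm this
  · simp

end Groth.Agent.S19004
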