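import Groth.Statements.S19005
-- import your own Groth.Agent.* helpers here

set_option autoImplicit false
open scoped TensorProduct
open K2Cent

namespace Groth.Agent.S19005

/-- For abelian groups X and M and ε in M with 2ε = 0 (in the source X is the character group of a split
torus and ε is the class of −1 among the units), the map x ↦ (x ⊗ x, −(x ⊗ ε)) into (X ⊗ X) × (X ⊗
M) is quadratic over ℤ, i.e. it underlies an integer quadratic map with exactly these values. -/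
theorem result (X M : Type*) [AddCommGroup X]
    [AddCommGroup M] (ε : M) (hε : 2 • ε = 0) :
    ∃ R : QuadraticMap ℤ X (TensorProduct ℤ X X × TensorProduct ℤ X M),
      ∀ x : X, R x = (x ⊗ₜ[ℤ] x, -(x ⊗ₜ[ℤ] ε)) := by
  let B₁ : LinearMap.BilinMap ℤ X (TensorProduct ℤ X X) := TensorProduct.mk ℤ X X
  let L : X →ₗ[ℤ] TensorProduct ℤ X M := -((TensorProduct.mk ℤ X M).flip ε)
  have h2 : ∀ x, 2 • L x = 0 := fun x => by
    show 2 • -(x ⊗ₜ[ℤ] ε) = 0
    rw [smul_neg, ← TensorProduct.tmul_smul, hε, TensorProduct.tmul_zero, neg_zero]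
  refine ⟨QuadraticMap.ofPolar (fun x => (B₁ x x, L x)) (fun a x => ?_) (fun x x' y => ?_) (fun a x y => ?_),
    fun x => rfl⟩
  · refine Prod.ext (show (a • x) ⊗ₜ[ℤ] (a • x) = (a * a) • (x ⊗ₜ[ℤ] x) by
      rw [TensorProduct.tmul_smul, ← TensorProduct.smul_tmul', smul_smul]) ?_
    show L (a • x) = (a * a) • L x
    rw [map_smul]
    obtain ⟨m, hm⟩ : (2 : ℤ) ∣ a * a - a := by
      rcases Int.even_or_odd a with ⟨t, rfl⟩ | ⟨t, rfl⟩
      · exact ⟨2 * t * t - t, by ring⟩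
      · exact ⟨2 * t * t + t, by ring⟩
    have h3 : (a * a - a) • L x = 0 := by
      rw [hm, mul_comm, mul_smul, two_zsmul, ← two_nsmul, h2, smul_zero]
    rw [sub_smul, sub_eq_zero] at h3
    exact h3.symm
  · refine Prod.ext ?_ ?_
    · show (x + x' + y) ⊗ₜ[ℤ] (x + x' + y) - (x + x') ⊗ₜ[ℤ] (x + x') - y ⊗ₜ[ℤ] y = ((x + y) ⊗ₜ[ℤ] (x + y) - x ⊗ₜ[ℤ] x - y ⊗ₜ[ℤ] y) + ((x' + y) ⊗ₜ[ℤ] (x' + y) - x' ⊗ₜ[ℤ] x' - y ⊗ₜ[ℤ] y)
      simp only [TensorProduct.add_tmul, TensorProduct.tmul_add]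
      abel
    · show L (x + x' + y) - L (x + x') - L y = (L (x + y) - L x - L y) + (L (x' + y) - L x' - L y)
      simp only [map_add]
      abel
  · refine Prod.ext ?_ ?_
    · show (a • x + y) ⊗ₜ[ℤ] (a • x + y) - (a • x) ⊗ₜ[ℤ] (a • x) - y ⊗ₜ[ℤ] y = a • ((x + y) ⊗ₜ[ℤ] (x + y) - x ⊗ₜ[ℤ] x - y ⊗ₜ[ℤ] y)
      simp only [TensorProduct.add_tmul, TensorProduct.tmul_add, smul_sub, smul_add, TensorProduct.tmul_smul, ← TensorProduct.smul_tmul']
      abel
    · show L (a • x + y) - L (a • x) - L y = a • (L (x + y) - L x - L y)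
      simp only [map_add, add_sub_cancel_left, sub_self, smul_zero]

end Groth.Agent.S19005
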