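import Groth.Statements.S19007
import Mathlib.LinearAlgebra.QuadraticForm.Basic
import Mathlib.LinearAlgebra.Projection
import Mathlib.LinearAlgebra.RootSystem.Base
import Mathlib.Tactic.LinearCombination
import Groth.Agent.RootQuad.Basic
-- import your own Groth.Agent.* helpers here

set_option autoImplicit false
universe u v w x
open RootD

namespace Groth.Agent.S19007

/-- Let P be a finite reduced crystallographic root pairing over an integral domain of characteristic
zero, b a base of P (a system of simple roots) and Q a quadratic form on the coweight module with
polar form B. Then Q is invariant under all root reflections (equivalently under the Weyl group) on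
the span of the coroots if and only if for all pairs of distinct simple roots α_i ≠ α_j one has
B(α_i^∨, α_j^∨) = ⟨α_j, α_i^∨⟩ Q(α_j^∨). (In the source the form is integer-valued on the lattice
spanned by the coroots and the condition says that the bilinear form lies in the kernel of the last
map of a three-term complex built from the Bruhat cells of codimension at most two; here the form
takes values in the base ring.) -/
theorem result {ι : Type u} {R : Type v} {M : Type w} {N : Type x} [CommRing R] [IsDomain R] [CharZero R]
    [AddCommGroup M] [Module R M] [AddCommGroup N] [Module R N] (P : RootPairing ι R M N)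
    [Finite ι] [P.IsCrystallographic] [P.IsReduced] (b : P.Base) (Q : QuadraticMap R N R) :
    (∀ i : ι, ∀ y ∈ Submodule.span R (Set.range P.coroot), Q (P.coreflection i y) = Q y) ↔
      ∀ i ∈ b.support, ∀ j ∈ b.support, i ≠ j →
        QuadraticMap.polar Q (P.coroot i) (P.coroot j) = P.pairing j i * Q (P.coroot j) := by
  classical
  set D := Submodule.span R (Set.range P.coroot)
  have hc : ∀ i, P.coroot i ∈ D := fun i => Submodule.subset_span ⟨i, rfl⟩
  constructor
  · intro h i _ j _ _
    rw [RootQuad.polar_eq_of_inv P Q j D (hc j) (h j) (hc i)]
    rfl
  · intro h
    have hsimp : ∀ j ∈ b.support, ∀ y ∈ D, Q (P.coreflection j y) = Q y := by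
      intro j hj y hy
      refine RootQuad.inv_of_polar_eq P Q j ?_
      have hy' : y ∈ Submodule.span R (P.coroot '' b.support) := by
        rw [b.span_coroot_support]; exact hy
      exact LinearMap.eqOn_span (f := Q.polarBilin.flip (P.coroot j)) (g := Q (P.coroot j) • P.root' j) (by
        rintro _ ⟨i, hi, rfl⟩
        show QuadraticMap.polar Q (P.coroot i) (P.coroot j) = Q (P.coroot j) * P.root' j (P.coroot i)
        rcases eq_or_ne i j with h' | h'
        · subst h'
          rw [QuadraticMap.polar_self, show P.root' i (P.coroot i) = 2 from P.root_coroot_two i]; rw [two_smul]; ring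
        · rw [h i hi j hj h']; exact mul_comm _ _) hy' |>.trans (mul_comm _ _)
    have hD' : ∀ i, ∀ y ∈ D, P.coreflection i y ∈ D := fun i y hy => by
      rw [RootPairing.coreflection_apply]; exact D.sub_mem hy (D.smul_mem _ (hc i))
    intro i
    refine b.induction_reflect (p := fun i => ∀ y ∈ D, Q (P.coreflection i y) = Q y) i ?_ hsimp ?_
    · intro i hi y hy
      have e : P.coreflection (P.reflectionPerm i i) y = P.coreflection i y := by
        rw [RootPairing.coreflection_apply, RootPairing.coreflection_apply, RootPairing.coroot_reflectionPerm,
          RootPairing.coreflection_apply_self, smul_neg, ← neg_smul]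
        congr 2
        simp [RootPairing.root']
      rw [e]; exact hi y hy
    · intro i j hi hj y hy
      rw [show P.coreflection (P.reflectionPerm j i) = P.coreflection j * P.coreflection i * P.coreflection j from
        P.flip.reflection_reflectionPerm]
      simp only [LinearEquiv.mul_apply]
      rw [hsimp j hj _ (hD' i _ (hD' j y hy)), hi _ (hD' j y hy), hsimp j hj y hy]

end Groth.Agent.S19007
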