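import Groth.Statements.S19008
import Mathlib.LinearAlgebra.RootSystem.BaseExists
import Mathlib.LinearAlgebra.RootSystem.CartanMatrix
import Groth.Agent.RootBase.Solve
-- import your own Groth.Agent.* helpers here

set_option autoImplicit false
universe u v w x
open RootD

namespace Groth.Agent.S19008

/-- Let P be a finite reduced crystallographic root pairing over an integral domain of characteristic
zero and b a base (simple roots α_i, i in the support of b), with Cartan integers a_ij = ⟨α_i,
α_j^∨⟩. An integer-valued bilinear form C on the lattice with basis the simple coroots is an integer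
matrix C_ij = C(α_i^∨, α_j^∨), and the component of the last map of the complex at the pair (i, j),
i ≠ j, is C ↦ C(α_i^∨, α_j^∨) + C(α_j^∨, s_j(α_i^∨)) = C_ij + C_ji − a_ji C_jj; the pairs (i, j) and
(j, i) index the same component exactly when α_i and α_j are orthogonal. This map is surjective: for
every family of integers d_ij (i ≠ j in the support) with d_ij = d_ji whenever a_ij = 0 there is an
integer matrix C with C_ij + C_ji − a_ji C_jj = d_ij for all i ≠ j in the support. -/
theorem result {ι : Type u} {R : Type v} {M : Type w} {N : Type x} [CommRing R] [IsDomain R] [CharZero R]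
    [AddCommGroup M] [Module R M] [AddCommGroup N] [Module R N] (P : RootPairing ι R M N)
    [Finite ι] [P.IsCrystallographic] [P.IsReduced] (b : P.Base) (d : ι → ι → ℤ)
    (hd : ∀ i ∈ b.support, ∀ j ∈ b.support, i ≠ j → P.pairingIn ℤ i j = 0 → d i j = d j i) :
    ∃ C : ι → ι → ℤ, ∀ i ∈ b.support, ∀ j ∈ b.support, i ≠ j →
      C i j + C j i - P.pairingIn ℤ j i * C j j = d i j := by
  classical
  have : Fintype ι := Fintype.ofFinite ι
  obtain ⟨B, hBpd⟩ : ∃ B : P.RootPositiveForm ℤ, B.posForm.toQuadraticMap.PosDef :=
    ⟨P.posRootForm ℤ, by simpa using P.posRootForm_rootFormIn_posDef ℤ⟩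
  have hsys : RootBaseSolve.Sys B.posForm b.support (P.rootSpanMem ℤ) (fun i j => P.pairingIn ℤ i j) := by
    refine ⟨fun x y => B.isSymm_posForm.eq x y, fun c hc => ?_, fun i _ j _ _ => ?_,
      fun i hi j hj hij => b.pairingIn_le_zero_of_ne hij hi hj⟩
    · have hne : ∑ i ∈ b.support, c i • P.rootSpanMem ℤ i ≠ 0 := by
        intro h0
        obtain ⟨i, hi, hci⟩ := hc
        have h1 : ∑ i ∈ b.support, (c i : R) • P.root i = 0 := by
          have := congrArg Subtype.val h0
          simpa [Submodule.coe_sum, Int.cast_smul_eq_zsmul] using this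
        exact hci (by exact_mod_cast linearIndepOn_finset_iff.mp b.linearIndepOn_root (fun i => (c i : R)) h1 i hi)
      exact hBpd _ hne
    · apply Int.cast_injective (α := R)
      push_cast
      have h1 := B.two_mul_apply_root_root i j
      rw [← P.algebraMap_pairingIn ℤ] at h1
      have e : ∀ i j, ((B.posForm (P.rootSpanMem ℤ i) (P.rootSpanMem ℤ j) : ℤ) : R) = B.form (P.root i) (P.root j) :=
        fun i j => by simpa using B.algebraMap_posForm (x := P.rootSpanMem ℤ i) (y := P.rootSpanMem ℤ j)
      rw [e, e]
      simpa using h1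
  obtain ⟨c, hc⟩ := RootBaseSolve.solve B.posForm _ b.support (P.rootSpanMem ℤ)
    (fun i j => P.pairingIn ℤ i j) rfl hsys (fun i j => d i j - d j i) (fun i _ j _ => by ring)
  refine ⟨fun i j => if i = j then c i else if Fintype.equivFin ι i < Fintype.equivFin ι j then d i j + P.pairingIn ℤ j i * c j else 0,
    fun i hi j hj hij => ?_⟩
  simp only [if_neg hij, if_neg hij.symm, if_true]
  rcases lt_trichotomy (α := Fin _) (Fintype.equivFin ι i) (Fintype.equivFin ι j) with h | h | h
  · rw [if_pos h, if_neg (not_lt_of_gt h)]
    ring
  · exact absurd ((Fintype.equivFin ι).injective h) hij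
  · rw [if_neg (not_lt_of_gt h), if_pos h]
    by_cases hA : P.pairingIn ℤ i j = 0
    · have hA' : P.pairingIn ℤ j i = 0 := RootBaseSolve.zero_symm hsys hi hj hij hA
      rw [hA, hA', hd i hi j hj hij hA]; ring
    · linear_combination hc i hi j hj hij hA

end Groth.Agent.S19008
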