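import Groth.Statements.S19009
import Mathlib.LinearAlgebra.QuadraticForm.Basic
import Mathlib.LinearAlgebra.Projection
import Mathlib.LinearAlgebra.RootSystem.Base
import Mathlib.Tactic.LinearCombination
import Groth.Agent.RootQuad.Basic
-- import your own Groth.Agent.* helpers here

set_option autoImplicit false
universe u v w x
open RootD

namespace Groth.Agent.S19009

/-- Let P be a root pairing over an integral domain R of characteristic zero (roots α acting on the
coweight module N through reflections y ↦ y − ⟨α, y⟩ α^∨), D ⊆ N a submodule containing every coroot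
and such that every element of D has a positive integer multiple in the span of the coroots (the
derived part), and Y₀ a complement of D in N. Let Q_d be a quadratic form on N whose restriction to
D is invariant under all root reflections. Then there is a quadratic form on N, invariant under all
root reflections and agreeing with Q_d on D, if and only if there is an R-bilinear form Φ on N with
Φ(y₀, α^∨) = ⟨α, y₀⟩ Q_d(α^∨) for all y₀ in Y₀ and all roots α. (In the source R = ℤ, N = Y₀ ⊕ Y_der
is the cocharacter lattice of a split reductive group, and the condition is phrased as integrality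
on Y₀ × Y_der of the pairing y₀, y ↦ B(q(y₀), y) deduced from the polar form B of Q_d; that pairing
is characterised by the displayed values on coroots, only the values of Φ on Y₀ × D matter, and
forms take values in R here.) -/
theorem result {ι : Type u} {R : Type v} {M : Type w} {N : Type x} [CommRing R] [IsDomain R] [CharZero R]
    [AddCommGroup M] [Module R M] [AddCommGroup N] [Module R N] (P : RootPairing ι R M N)
    (D Y₀ : Submodule R N) (hD : ∀ i : ι, P.coroot i ∈ D)
    (hDsat : ∀ y ∈ D, ∃ n : ℕ, 0 < n ∧ n • y ∈ Submodule.span R (Set.range P.coroot))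
    (hc : IsCompl Y₀ D)
    (Qd : QuadraticMap R N R) (hQd : ∀ i : ι, ∀ y ∈ D, Qd (P.coreflection i y) = Qd y) :
    (∃ Q : QuadraticMap R N R, (∀ (i : ι) (y : N), Q (P.coreflection i y) = Q y) ∧ ∀ y ∈ D, Q y = Qd y) ↔
      ∃ Φ : N →ₗ[R] N →ₗ[R] R, ∀ y₀ ∈ Y₀, ∀ i : ι,
        Φ y₀ (P.coroot i) = P.root' i y₀ * Qd (P.coroot i) := by
  classical
  constructor
  · rintro ⟨Q, hQ, hQd'⟩
    refine ⟨Q.polarBilin, fun y₀ _ i => ?_⟩
    rw [QuadraticMap.polarBilin_apply_apply,
      RootQuad.polar_eq_of_inv P Q i ⊤ trivial (fun y _ => hQ i y) trivial, hQd' _ (hD i)]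
  · rintro ⟨Φ, hΦ⟩
    let p : N →ₗ[R] N := Y₀.projection D hc
    let p' : N →ₗ[R] N := LinearMap.id - p
    have hp : ∀ y, p y ∈ Y₀ := fun y => Submodule.projection_apply_mem hc y
    have hpD : ∀ y ∈ D, p y = 0 := fun y hy => (Submodule.projection_apply_eq_zero_iff hc).mpr hy
    have hp' : ∀ y, p' y ∈ D := fun y => by
      show y - p y ∈ D
      rw [← Submodule.projection_apply_eq_zero_iff hc, map_sub, sub_eq_zero]
      exact (Submodule.projection_apply_of_mem_left hc (hp y)).symm
    let Q : QuadraticMap R N R := Qd.comp p' + LinearMap.BilinMap.toQuadraticMap (Φ.compl₁₂ p p')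
    have hQdef : ∀ y, Q y = Qd (p' y) + Φ (p y) (p' y) := fun y => rfl
    have hQD : ∀ y ∈ D, Q y = Qd y := fun y hy => by
      simp [hQdef, p', hpD y hy]
    refine ⟨Q, fun i y => RootQuad.inv_of_polar_eq P Q i ?_, hQD⟩
    have hpc : p (P.coroot i) = 0 := hpD _ (hD i)
    have hd := RootQuad.polar_eq_of_inv P Qd i D (hD i) (hQd i) (hp' y)
    rw [hQD _ (hD i), QuadraticMap.polar, hQdef, hQdef, hQdef, map_add p, map_add p', hpc, add_zero,
      show p' (P.coroot i) = P.coroot i by simp [p', hpc]]
    rw [QuadraticMap.polar] at hd
    simp only [map_add, map_zero, LinearMap.zero_apply, add_zero, hΦ _ (hp y) i]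
    have e : P.root' i y = P.root' i (p y) + P.root' i (p' y) := by simp [p']
    rw [e]
    linear_combination hd

end Groth.Agent.S19009
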