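import Groth.Statements.S19010
import Mathlib.LinearAlgebra.QuadraticForm.Basic
import Mathlib.LinearAlgebra.Projection
import Mathlib.LinearAlgebra.RootSystem.Base
import Mathlib.Tactic.LinearCombination
import Groth.Agent.RootQuad.Basic
-- import your own Groth.Agent.* helpers here

set_option autoImplicit false
universe u v w x
open RootD

namespace Groth.Agent.S19010

/-- Let P be a root pairing over an integral domain R of characteristic zero (roots α acting on the
coweight module N through reflections y ↦ y − ⟨α, y⟩ α^∨), D ⊆ N a submodule containing every coroot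
and such that every element of D has a positive integer multiple in the span of the coroots (the
derived part), and Y₀ a complement of D in N. Let Q' be a quadratic form on N invariant under all
root reflections. Then restriction to Y₀ is a bijection from the set of quadratic forms on N that
are invariant under all root reflections and agree with Q' on D onto the set of all quadratic forms
on Y₀. (In the source R = ℤ and N = Y₀ ⊕ Y_der is the cocharacter lattice of a split reductive
group; forms take values in R here.) -/
theorem result {ι : Type u} {R : Type v} {M : Type w} {N : Type x} [CommRing R] [IsDomain R] [CharZero R]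
    [AddCommGroup M] [Module R M] [AddCommGroup N] [Module R N] (P : RootPairing ι R M N)
    (D Y₀ : Submodule R N) (hD : ∀ i : ι, P.coroot i ∈ D)
    (hDsat : ∀ y ∈ D, ∃ n : ℕ, 0 < n ∧ n • y ∈ Submodule.span R (Set.range P.coroot))
    (hc : IsCompl Y₀ D)
    (Q' : QuadraticMap R N R) (hQ' : ∀ (i : ι) (y : N), Q' (P.coreflection i y) = Q' y) :
    Set.BijOn (fun Q : QuadraticMap R N R => Q.comp Y₀.subtype)
      {Q | (∀ (i : ι) (y : N), Q (P.coreflection i y) = Q y) ∧ ∀ y ∈ D, Q y = Q' y} Set.univ := by
  classical
  let p : N →ₗ[R] N := Y₀.projection D hc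
  have hp : ∀ y, p y ∈ Y₀ := fun y => Submodule.projection_apply_mem hc y
  have hpD : ∀ y ∈ D, p y = 0 := fun y hy => (Submodule.projection_apply_eq_zero_iff hc).mpr hy
  have hp' : ∀ y, y - p y ∈ D := fun y => by
    rw [← Submodule.projection_apply_eq_zero_iff hc, map_sub, sub_eq_zero]
    exact (Submodule.projection_apply_of_mem_left hc (hp y)).symm
  refine ⟨fun _ _ => Set.mem_univ _, ?_, ?_⟩
  · rintro Q₁ ⟨h1, h1'⟩ Q₂ ⟨h2, h2'⟩ he
    ext y
    have ey : Q₁ (p y) = Q₂ (p y) := DFunLike.congr_fun he ⟨p y, hp y⟩
    have ec : ∀ i, QuadraticMap.polar Q₁ (p y) (P.coroot i) = QuadraticMap.polar Q₂ (p y) (P.coroot i) := fun i => by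
      rw [RootQuad.polar_eq_of_inv P Q₁ i ⊤ trivial (fun y _ => h1 i y) trivial,
        RootQuad.polar_eq_of_inv P Q₂ i ⊤ trivial (fun y _ => h2 i y) trivial, h1' _ (hD i), h2' _ (hD i)]
    have hspan : ∀ z ∈ Submodule.span R (Set.range P.coroot), Q₁.polarBilin (p y) z = Q₂.polarBilin (p y) z :=
      fun z hz => LinearMap.eqOn_span (f := Q₁.polarBilin (p y)) (g := Q₂.polarBilin (p y)) (by rintro _ ⟨i, rfl⟩; exact ec i) hz
    obtain ⟨n, hn, hny⟩ := hDsat _ (hp' y)
    have hb := hspan _ hny
    rw [map_nsmul, map_nsmul, QuadraticMap.polarBilin_apply_apply, QuadraticMap.polarBilin_apply_apply,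
      nsmul_eq_mul, nsmul_eq_mul] at hb
    have hb' := mul_left_cancel₀ (Nat.cast_ne_zero.mpr hn.ne') hb
    conv_lhs => rw [← add_sub_cancel (p y) y]
    conv_rhs => rw [← add_sub_cancel (p y) y]
    rw [QuadraticMap.map_add (⇑Q₁), QuadraticMap.map_add (⇑Q₂), ey, h1' _ (hp' y), h2' _ (hp' y), hb']
  · rintro q -
    let pY : N →ₗ[R] Y₀ := p.codRestrict Y₀ hp
    let Q : QuadraticMap R N R := Q' + (q - Q'.comp Y₀.subtype).comp pY
    have hQdef : ∀ y, Q y = Q' y + (q (pY y) - Q' (p y)) := fun y => rfl
    refine ⟨Q, ⟨fun i y => ?_, fun y hy => ?_⟩, ?_⟩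
    · have e : p (P.coreflection i y) = p y := by
        rw [RootPairing.coreflection_apply, map_sub, map_smul, hpD _ (hD i), smul_zero, sub_zero]
      rw [hQdef, hQdef, hQ', e, show pY (P.coreflection i y) = pY y from Subtype.ext e]
    · rw [hQdef, show pY y = 0 from Subtype.ext (hpD y hy), hpD y hy, QuadraticMap.map_zero, QuadraticMap.map_zero]
      simp
    · ext y
      show Q y = q y
      have e : p y = y := Submodule.projection_apply_of_mem_left hc y.2
      rw [hQdef, e, show pY y = y from Subtype.ext e]
      ring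

end Groth.Agent.S19010
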