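import Groth.Statements.S19011
import Mathlib.LinearAlgebra.RootSystem.BaseExists
import Mathlib

set_option autoImplicit false
universe u v w x
open RootD

namespace Groth.Agent.S19011

section
open RootPairing
variable {ι : Type u} {R : Type v} {M : Type w} {N : Type x} [CommRing R] [IsDomain R] [CharZero R]
    [AddCommGroup M] [Module R M] [AddCommGroup N] [Module R N] (Q : RootPairing ι R M N)
    [Finite ι] [Q.IsCrystallographic] [Q.IsReduced]

lemma exists_fun : ∃ f : Q.rootSpan ℤ →ₗ[ℤ] ℤ, ∀ i, f (Q.rootSpanMem ℤ i) ≠ 0 := by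
  classical
  have := Fintype.ofFinite ι
  obtain ⟨g, hg⟩ := Module.exists_dual_forall_apply_ne_zero (K := ℚ)
    (fun i => fun j => (Q.pairingIn ℤ i j : ℚ)) (fun i h => by simpa using congrFun h i)
  obtain ⟨n, hn⟩ := IsLocalization.exist_integer_multiples_of_finite (nonZeroDivisors ℤ)
    (fun j : ι => g (Pi.single j 1))
  choose z hz using hn
  let Φ : Q.rootSpan ℤ →ₗ[ℤ] ℤ := ∑ j, z j • Q.coroot'In ℤ j
  refine ⟨Φ, fun i h => hg i ?_⟩
  have h1 : ((n : ℤ) : ℚ) * g (fun j => (Q.pairingIn ℤ i j : ℚ)) = (Φ (Q.rootSpanMem ℤ i) : ℚ) := by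
    rw [LinearMap.pi_apply_eq_sum_univ g, Finset.mul_sum]
    simp only [Φ, LinearMap.sum_apply, LinearMap.smul_apply, coroot'In_rootSpanMem_eq_pairingIn,
      Int.cast_sum, smul_eq_mul, Int.cast_mul]
    refine Finset.sum_congr rfl fun j _ => ?_
    have := hz j
    simp only [algebraMap_int_eq, eq_intCast, Algebra.smul_def] at this
    rw [this, show (fun j_1 => if j = j_1 then (1 : ℚ) else 0) = Pi.single j 1 from by
      funext k; simp [Pi.single_apply, eq_comm]]
    ring
  rw [h, Int.cast_zero] at h1
  exact (mul_eq_zero.mp h1).resolve_left (Int.cast_ne_zero.mpr (nonZeroDivisors.coe_ne_zero n))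

variable (f : Q.rootSpan ℤ →ₗ[ℤ] ℤ)

/-- Indecomposable positive roots. -/
def simples : Set ι := IsAddIndecomposable.baseOf (Q.rootSpanMem ℤ) (f : Q.rootSpan ℤ →+ ℤ)

lemma simples_li (hf : ∀ i, f (Q.rootSpanMem ℤ i) ≠ 0) :
    LinearIndepOn ℤ (Q.rootSpanMem ℤ) (simples Q f) := by
  have := Fintype.ofFinite ι
  let := Q.indexNeg
  refine LinearMap.BilinForm.linearIndependent_of_pairwise_le_zero (Q.posRootForm ℤ).posForm
    (by simpa using Q.posRootForm_rootFormIn_posDef ℤ) f _ ?_ ?_
  · rintro ⟨i, hi, -⟩; exact hi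
  · rintro ⟨i, hi⟩ ⟨j, hj⟩ hij
    rw [RootPositiveForm.posForm_apply_root_root_le_zero_iff]
    have hne : i ≠ j := fun e => hij (Subtype.ext e)
    by_contra hpos
    push Not at hpos
    obtain ⟨k, hk⟩ := Q.root_sub_root_mem_of_pairingIn_pos hpos hne
    exact IsAddIndecomposable.pairwise_baseOf_sub_notMem (Q.rootSpanMem ℤ)
      (fun i => Subtype.ext (by simp)) (f : Q.rootSpan ℤ →+ ℤ) hf hi hj hne ⟨k, Subtype.ext (by simpa using hk)⟩

lemma exists_coeff {i : ι} (hi : 0 < f (Q.rootSpanMem ℤ i)) :
    ∃ c : ι →₀ ℤ, c ∈ Finsupp.supported ℤ ℤ (simples Q f) ∧ 0 ≤ c ∧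
      Finsupp.linearCombination ℤ (Q.rootSpanMem ℤ) c = Q.rootSpanMem ℤ i := by
  let := Q.indexNeg
  have h : Q.rootSpanMem ℤ i ∈ AddSubmonoid.closure (Q.rootSpanMem ℤ '' simples Q f) := by
    rw [simples, AddSubmonoid.closure_image_isAddIndecomposable_baseOf]
    exact AddSubmonoid.subset_closure ⟨i, hi, rfl⟩
  generalize Q.rootSpanMem ℤ i = z at h ⊢
  induction h using AddSubmonoid.closure_induction with
  | zero => exact ⟨0, zero_mem _, le_rfl, map_zero _⟩
  | mem x hx =>
    obtain ⟨a, ha, rfl⟩ := hx
    exact ⟨Finsupp.single a 1, Finsupp.single_mem_supported ℤ 1 ha, Finsupp.single_nonneg.mpr zero_le_one,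
      by simp⟩
  | add x y _ _ hx hy =>
    obtain ⟨c, hc, hc0, rfl⟩ := hx
    obtain ⟨d, hd, hd0, rfl⟩ := hy
    exact ⟨c + d, add_mem hc hd, add_nonneg hc0 hd0, map_add _ _ _⟩

/-- The reflection relations. -/
noncomputable def rels : Submodule ℤ (ι →₀ ℤ) :=
  Submodule.span ℤ (Set.range fun p : ι × ι =>
    Finsupp.single (Q.reflectionPerm p.1 p.2) (1 : ℤ) - Finsupp.single p.2 1 +
      Q.pairingIn ℤ p.2 p.1 • Finsupp.single p.1 1)

lemma root_perm (a i : ι) : Q.rootSpanMem ℤ (Q.reflectionPerm a i) =
    Q.rootSpanMem ℤ i - Q.pairingIn ℤ i a • Q.rootSpanMem ℤ a := by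
  apply Subtype.ext
  simp [RootPairing.root_reflectionPerm, RootPairing.reflection_apply_root, ← Q.algebraMap_pairingIn ℤ i a,
    Int.cast_smul_eq_zsmul]

lemma rels_le : rels Q ≤ LinearMap.ker (Finsupp.linearCombination ℤ (fun i => (Q.root i : M))) := by
  refine Submodule.span_le.mpr ?_
  rintro _ ⟨⟨a, i⟩, rfl⟩
  have := congrArg Subtype.val (root_perm Q a i)
  simp only [Submodule.coe_sub, SetLike.val_smul] at this
  simp only [SetLike.mem_coe, LinearMap.mem_ker, map_add, map_sub, map_zsmul,
    Finsupp.linearCombination_single, one_smul]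
  rw [this]
  abel

lemma single_mem (hf : ∀ i, f (Q.rootSpanMem ℤ i) ≠ 0) (i : ι) :
    Finsupp.single i (1 : ℤ) ∈ rels Q ⊔ Finsupp.supported ℤ ℤ (simples Q f) := by
  suffices key : ∀ (n : ℕ) (i : ι), 0 < f (Q.rootSpanMem ℤ i) → (f (Q.rootSpanMem ℤ i)).toNat ≤ n →
      Finsupp.single i (1 : ℤ) ∈ rels Q ⊔ Finsupp.supported ℤ ℤ (simples Q f) by
    rcases lt_or_gt_of_ne (hf i) with h | h
    · have h1 : Finsupp.single (Q.reflectionPerm i i) (1 : ℤ) - Finsupp.single i 1 +
          Q.pairingIn ℤ i i • Finsupp.single i 1 ∈ rels Q := Submodule.subset_span ⟨(i, i), rfl⟩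
      have hneg : Q.rootSpanMem ℤ (Q.reflectionPerm i i) = -Q.rootSpanMem ℤ i :=
        Q.rootSpanMem_reflectionPerm_self ℤ i
      have h2 := key _ (Q.reflectionPerm i i) (by rw [hneg, map_neg]; omega) le_rfl
      have h3 := sub_mem (Submodule.mem_sup_left h1 (T := Finsupp.supported ℤ ℤ (simples Q f))) h2
      rw [Q.pairingIn_same, two_smul] at h3
      simpa using h3
    · exact key _ i h le_rfl
  intro n
  induction n using Nat.strongRecOn with
  | _ n ih =>
    intro i hi hn
    by_cases hiΔ : i ∈ simples Q f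
    · exact Submodule.mem_sup_right (Finsupp.single_mem_supported ℤ 1 hiΔ)
    obtain ⟨c, hc, hc0, hci⟩ := exists_coeff Q f hi
    obtain ⟨a, ha, hpos⟩ : ∃ a ∈ simples Q f, 0 < Q.pairingIn ℤ a i := by
      by_contra hcon
      push Not at hcon
      have h2 := congrArg (Q.coroot'In ℤ i) hci
      rw [Finsupp.apply_linearCombination, coroot'In_rootSpanMem_eq_pairingIn, Q.pairingIn_same,
        Finsupp.linearCombination_apply, Finsupp.sum] at h2
      have : ∑ b ∈ c.support, c b • (Q.coroot'In ℤ i ∘ Q.rootSpanMem ℤ) b ≤ 0 := by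
        refine Finset.sum_nonpos fun b hb => ?_
        rw [Function.comp_apply, coroot'In_rootSpanMem_eq_pairingIn, smul_eq_mul]
        exact mul_nonpos_of_nonneg_of_nonpos (hc0 b) (hcon b (hc hb))
      omega
    have hai : a ≠ i := fun e => hiΔ (e ▸ ha)
    have hpos' : 0 < Q.pairingIn ℤ i a := (Q.zero_lt_pairingIn_iff' ℤ (i := a) (j := i)).mp hpos
    have hfa : 0 < f (Q.rootSpanMem ℤ a) := ha.1
    have hk := root_perm Q a i
    have hfk : 0 < f (Q.rootSpanMem ℤ (Q.reflectionPerm a i)) := by
      rcases lt_or_gt_of_ne (hf (Q.reflectionPerm a i)) with h | h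
      swap
      · exact h
      exfalso
      obtain ⟨d, hd, hd0, hdk⟩ := exists_coeff Q f
        (i := Q.reflectionPerm (Q.reflectionPerm a i) (Q.reflectionPerm a i))
        (by rw [Q.rootSpanMem_reflectionPerm_self, map_neg]; omega)
      rw [Q.rootSpanMem_reflectionPerm_self, hk] at hdk
      have hsum : Finsupp.linearCombination ℤ (Q.rootSpanMem ℤ)
          (c + d - Q.pairingIn ℤ i a • Finsupp.single a 1) = 0 := by
        rw [map_sub, map_add, map_zsmul, Finsupp.linearCombination_single, one_smul, hci, hdk]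
        abel
      have h0 := linearIndepOn_iff.mp (simples_li Q f hf) _
        (sub_mem (add_mem hc hd) (Submodule.smul_mem _ _ (Finsupp.single_mem_supported ℤ 1 ha))) hsum
      have hca : c = Finsupp.single a (c a) := by
        ext b
        rcases eq_or_ne a b with rfl | hb
        · simp
        · have := DFunLike.congr_fun h0 b
          simp only [Finsupp.coe_sub, Finsupp.coe_add, Pi.sub_apply, Pi.add_apply, Finsupp.coe_smul,
            Pi.smul_apply, Finsupp.single_eq_of_ne' hb, smul_zero, sub_zero, Finsupp.coe_zero,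
            Pi.zero_apply] at this
          rw [Finsupp.single_eq_of_ne' hb]
          have h1 : 0 ≤ c b := hc0 b
          have h2 : 0 ≤ d b := hd0 b
          omega
      rw [hca, Finsupp.linearCombination_single] at hci
      have hdep : ¬ LinearIndependent R ![Q.root i, Q.root a] := by
        rw [LinearIndependent.pair_iff]
        push Not
        refine ⟨1, -(c a : R), ?_, fun h => absurd h one_ne_zero⟩
        rw [← show ((c a • Q.rootSpanMem ℤ a : Q.rootSpan ℤ) : M) = Q.root i from congrArg Subtype.val hci,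
          one_smul, SetLike.val_smul, neg_smul, Int.cast_smul_eq_zsmul]
        exact add_neg_cancel _
      rcases IsReduced.eq_or_eq_neg i a hdep with e | e
      · exact hai (Q.root.injective e).symm
      · have : Q.rootSpanMem ℤ i = -Q.rootSpanMem ℤ a := Subtype.ext (by simpa using e)
        rw [this, map_neg] at hi
        omega
    have hlt : f (Q.rootSpanMem ℤ (Q.reflectionPerm a i)) < f (Q.rootSpanMem ℤ i) := by
      rw [hk, map_sub, map_zsmul, smul_eq_mul]
      have := mul_pos hpos' hfa
      omega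
    have h1 : Finsupp.single (Q.reflectionPerm a i) (1 : ℤ) - Finsupp.single i 1 +
        Q.pairingIn ℤ i a • Finsupp.single a 1 ∈ rels Q ⊔ Finsupp.supported ℤ ℤ (simples Q f) :=
      Submodule.mem_sup_left (Submodule.subset_span ⟨(a, i), rfl⟩)
    have h2 := ih (f (Q.rootSpanMem ℤ (Q.reflectionPerm a i))).toNat (by omega) (Q.reflectionPerm a i)
      hfk le_rfl
    have h3 : Q.pairingIn ℤ i a • Finsupp.single a (1 : ℤ) ∈ rels Q ⊔ Finsupp.supported ℤ ℤ (simples Q f) :=
      Submodule.smul_mem _ _ (Submodule.mem_sup_right (Finsupp.single_mem_supported ℤ 1 ha))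
    have : Finsupp.single i (1 : ℤ) = Finsupp.single (Q.reflectionPerm a i) 1 +
        Q.pairingIn ℤ i a • Finsupp.single a 1 - (Finsupp.single (Q.reflectionPerm a i) (1 : ℤ) -
          Finsupp.single i 1 + Q.pairingIn ℤ i a • Finsupp.single a 1) := by abel
    rw [this]
    exact sub_mem (add_mem h2 h3) h1

lemma ker_eq : LinearMap.ker (Finsupp.linearCombination ℤ (fun i => (Q.root i : M))) = rels Q := by
  refine le_antisymm (fun x hx => ?_) (rels_le Q)
  obtain ⟨f, hf⟩ := exists_fun Q
  have hx' : x ∈ rels Q ⊔ Finsupp.supported ℤ ℤ (simples Q f) := by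
    rw [← Finsupp.sum_single x]
    refine Submodule.sum_mem _ fun i _ => ?_
    simpa using Submodule.smul_mem _ (x i) (single_mem Q f hf i)
  obtain ⟨s, hs, d, hd, rfl⟩ := Submodule.mem_sup.mp hx'
  have hd0 : Finsupp.linearCombination ℤ (Q.rootSpanMem ℤ) d = 0 := by
    apply Subtype.ext
    rw [LinearMap.mem_ker, map_add, LinearMap.mem_ker.mp (rels_le Q hs), zero_add] at hx
    rw [← Submodule.subtype_apply, Finsupp.apply_linearCombination]
    exact hx
  rw [linearIndepOn_iff.mp (simples_li Q f hf) d hd hd0, add_zero]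
  exact hs

end

/-- For a finite reduced crystallographic root pairing over an integral domain of characteristic zero,
the additive group generated by the coroots admits the presentation with one generator [β] for each
root β and the relations [s_α(β)] = [β] − ⟨α, β^∨⟩ [α] for all roots α, β, where ⟨α, β^∨⟩ is the
Cartan integer. Concretely: the kernel of the ℤ-linear map from the free abelian group on the index
type of the roots to the coweight module sending the generator of index β to the coroot β^∨ is the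
subgroup generated by the elements [s_α(β)] − [β] + ⟨α, β^∨⟩ [α]. (The source states this for the
cocharacter lattice of a split semi-simple simply connected group, which is the group generated by
the coroots.) -/
theorem result {ι : Type u} {R : Type v} {M : Type w} {N : Type x} [CommRing R] [IsDomain R] [CharZero R]
    [AddCommGroup M] [Module R M] [AddCommGroup N] [Module R N] (P : RootPairing ι R M N)
    [Finite ι] [P.IsCrystallographic] [P.IsReduced] :
    LinearMap.ker (Finsupp.linearCombination ℤ (fun i : ι => (P.coroot i : N))) =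
      Submodule.span ℤ (Set.range fun p : ι × ι =>
        Finsupp.single (P.reflectionPerm p.1 p.2) (1 : ℤ) - Finsupp.single p.2 1 +
          P.pairingIn ℤ p.1 p.2 • Finsupp.single p.1 1) := by
  have : Module.IsReflexive R N := .of_isPerfPair P.flip.toLinearMap
  have : Module.IsReflexive R M := .of_isPerfPair P.toLinearMap
  have : P.flip.IsReduced := inferInstance
  have h := ker_eq P.flip
  have hfl : ∀ i j, P.flip.pairingIn ℤ i j = P.pairingIn ℤ j i := fun i j =>
    (algebraMap ℤ R).injective_int (by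
      rw [RootPairing.algebraMap_pairingIn, RootPairing.algebraMap_pairingIn, RootPairing.pairing_flip])
  simp only [rels, hfl] at h
  exact h

end Groth.Agent.S19011
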