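import Groth.Statements.S19012
import Mathlib.LinearAlgebra.QuadraticForm.Basic
import Mathlib.LinearAlgebra.Projection
import Mathlib.LinearAlgebra.RootSystem.Base
import Mathlib.Tactic.LinearCombination
import Groth.Agent.RootQuad.Basic
-- import your own Groth.Agent.* helpers here

set_option autoImplicit false
universe u v w x
open RootD

namespace Groth.Agent.S19012

/-- Let P be a finite reduced crystallographic root pairing over a field of characteristic zero which is
irreducible, and b a base. A quadratic form on the coweight module that is invariant under all root
reflections and vanishes on some simple coroot is zero; in other words an invariant form is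
determined by its value on a single simple coroot. (The source proves, component by component of the
Dynkin diagram, that an invariant integer-valued form on the coroot lattice with prescribed value on
the first simple coroot of each component is unique; here the system is irreducible, the coroots
span the coweight module, and forms take values in the base field.) -/
theorem result {ι : Type u} {K : Type v} {M : Type w} {N : Type x} [Field K] [CharZero K]
    [AddCommGroup M] [Module K M] [AddCommGroup N] [Module K N] (P : RootPairing ι K M N)
    [Finite ι] [P.IsCrystallographic] [P.IsReduced] [P.IsIrreducible] (b : P.Base)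
    (Q : QuadraticMap K N K) (hQ : ∀ (i : ι) (y : N), Q (P.coreflection i y) = Q y)
    (i₀ : ι) (hi₀ : i₀ ∈ b.support) (h0 : Q (P.coroot i₀) = 0) : Q = 0 := by
  classical
  have hpol : ∀ i y, QuadraticMap.polar Q y (P.coroot i) = P.root' i y * Q (P.coroot i) := fun i y =>
    RootQuad.polar_eq_of_inv P Q i ⊤ trivial (fun y _ => hQ i y) trivial
  let S : Submodule K N := Submodule.span K (P.coroot '' {i | Q (P.coroot i) = 0})
  have hS : S = ⊤ := by
    refine RootPairing.IsIrreducible.eq_top_of_invtSubmodule_coreflection (P := P) S (fun j => ?_) ?_
    · rw [Module.End.mem_invtSubmodule]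
      refine Submodule.span_le.mpr ?_
      rintro _ ⟨i, hi, rfl⟩
      show P.coreflection j (P.coroot i) ∈ S
      rw [RootPairing.coreflection_apply]
      refine S.sub_mem (Submodule.subset_span ⟨i, hi, rfl⟩) ?_
      by_cases hz : P.root' j (P.coroot i) = 0
      · rw [hz, zero_smul]; exact S.zero_mem
      · refine S.smul_mem _ (Submodule.subset_span ⟨j, ?_, rfl⟩)
        have e1 := hpol j (P.coroot i)
        rw [QuadraticMap.polar_comm, hpol i (P.coroot j), show Q (P.coroot i) = 0 from hi, mul_zero] at e1
        exact (mul_eq_zero.mp e1.symm).resolve_left hz
    · intro hb
      have : P.coroot i₀ ∈ S := Submodule.subset_span ⟨i₀, h0, rfl⟩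
      rw [hb, Submodule.mem_bot] at this
      exact P.flip.ne_zero i₀ this
  ext y
  have hflat : ∀ z ∈ S, QuadraticMap.polar Q y z = 0 := fun z hz =>
    LinearMap.eqOn_span (f := Q.polarBilin y) (g := 0) (by
      rintro _ ⟨i, hi, rfl⟩
      show QuadraticMap.polar Q y (P.coroot i) = 0
      rw [hpol, show Q (P.coroot i) = 0 from hi, mul_zero]) hz
  have h2 := hflat y (hS ▸ Submodule.mem_top)
  rw [QuadraticMap.polar_self, two_smul] at h2
  show Q y = 0
  linear_combination h2 / 2

end Groth.Agent.S19012
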