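import Groth.Statements.S19013
import Groth.Agent.MilK.Tame

set_option autoImplicit false
universe u v
open MilnorK

namespace Groth.Agent.S19013

/-- Let A ⊆ B be discrete valuation rings, the inclusion being a local homomorphism, with fraction
fields E ⊆ F compatibly, with the induced homomorphism of residue fields κ(A) → κ(B), and with
ramification index e, the natural number such that the maximal ideal of A generates the e-th power
of the maximal ideal of B. Let ∂_A : K_{n+1}(E) → K_n(κ(A)) and ∂_B : K_{n+1}(F) → K_n(κ(B)) be the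
residue maps (tame symbols) on Milnor K-groups. Then for every x in K_{n+1}(E) one has ∂_B(x_F) = e
· (∂_A x)_{κ(B)}, where the subscripts denote the change-of-fields maps along E → F and κ(A) → κ(B).
(The published statement concerns discrete valuations of geometric type on fields finitely generated
over a base field; it is stated here for an arbitrary pair of discrete valuation rings, which is all
the printed computation uses.) -/
theorem result
    (A B : Type u) [CommRing A] [IsDomain A] [IsDiscreteValuationRing A]
    [CommRing B] [IsDomain B] [IsDiscreteValuationRing B] [Algebra A B] [IsLocalHom (algebraMap A B)]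
    (E F : Type v) [Field E] [Field F] [Algebra A E] [IsFractionRing A E] [Algebra B F] [IsFractionRing B F]
    [Algebra E F] [Algebra A F] [IsScalarTower A E F] [IsScalarTower A B F]
    (e : ℕ) (he : Ideal.map (algebraMap A B) (IsLocalRing.maximalIdeal A) = IsLocalRing.maximalIdeal B ^ e)
    (n : ℕ) (dA : MilK.K E (n + 1) →+ MilK.K (IsLocalRing.ResidueField A) n) (hdA : MilK.IsTameSymbol A E n dA)
    (dB : MilK.K F (n + 1) →+ MilK.K (IsLocalRing.ResidueField B) n) (hdB : MilK.IsTameSymbol B F n dB)
    (x : MilK.K E (n + 1)) :
    dB (MilK.map (algebraMap E F) (n + 1) x) =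
      e • MilK.map (IsLocalRing.ResidueField.map (algebraMap A B)) n (dA x) := by
  obtain ⟨p, hp⟩ := IsDiscreteValuationRing.exists_irreducible A
  obtain ⟨q, hq⟩ := IsDiscreteValuationRing.exists_irreducible B
  obtain rfl := MilKLib.eq_tame hp hdA
  obtain rfl := MilKLib.eq_tame hq hdB
  obtain ⟨w, hw⟩ : ∃ w : Bˣ, q ^ e * w = algebraMap A B p := by
    rw [hp.maximalIdeal_eq, hq.maximalIdeal_eq, Ideal.map_span, Set.image_singleton,
      Ideal.span_singleton_pow, Ideal.span_singleton_eq_span_singleton] at he
    exact he.symm
  have htower : ∀ a : A, algebraMap E F (algebraMap A E a) = algebraMap B F (algebraMap A B a) :=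
    fun a => (IsScalarTower.algebraMap_apply A E F a).symm.trans
      (IsScalarTower.algebraMap_apply A B F a)
  have hU : ∀ v : Aˣ, Units.map (algebraMap E F : E →* F) (MilK.unitToFrac A E v) =
      MilK.unitToFrac B F (Units.map (algebraMap A B : A →* B) v) :=
    fun v => Units.ext (htower v)
  have hmem : ∀ {m : ℕ} {y : MilK.K E m}, y ∈ MilKLib.unitSub A E m →
      MilK.map (algebraMap E F) m y ∈ MilKLib.unitSub B F m := by
    intro m y hy
    refine (AddSubgroup.closure_le ((MilKLib.unitSub B F m).comap (MilK.map (algebraMap E F) m))).mpr ?_ hy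
    rintro _ ⟨v, rfl⟩
    rw [SetLike.mem_coe, AddSubgroup.mem_comap, MilK.map_symbol]
    simp only [hU]
    exact MilKLib.symbol_mem_unitSub _
  obtain ⟨s, hs, t, ht, rfl⟩ := MilKLib.exists_decomp hp x
  have hπ : Units.map (algebraMap E F : E →* F) (MilK.unitFrac A E p hp.ne_zero) =
      MilK.unitFrac B F q hq.ne_zero ^ (e : ℤ) * MilK.unitToFrac B F w :=
    Units.ext (by simpa [MilKLib.unitToFrac_val, ← hw] using htower p)
  simp only [map_add, MilKLib.map_pre, hπ]
  rw [MilKLib.tame_unitSub hq _ (hmem hs), MilKLib.tame_pre_unitSub hq _ (hmem ht),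
    MilKLib.tame_unitSub hp s hs, MilKLib.tame_pre_unitSub hp _ ht, MilKLib.ord_split,
    MilKLib.ord_unif, one_smul, map_zero, zero_add, zero_add, natCast_zsmul]
  congr 1
  refine (AddSubgroup.closure_le (((MilKLib.spec hq F n).comp (MilK.map (algebraMap E F) n)).eqLocus
    ((MilK.map (IsLocalRing.ResidueField.map (algebraMap A B)) n).comp (MilKLib.spec hp E n)))).mpr ?_ ht
  rintro _ ⟨v, rfl⟩
  show (MilKLib.spec hq F n) (MilK.map (algebraMap E F) n (MilK.symbol _)) =
    MilK.map (IsLocalRing.ResidueField.map (algebraMap A B)) n (MilKLib.spec hp E n (MilK.symbol _))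
  simp only [MilK.map_symbol, hU, MilKLib.spec_symbol, MilKLib.resU_unit]
  congr 1

end Groth.Agent.S19013
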