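import Groth.Statements.S19015
import Groth.Agent.MilK.Tame

set_option autoImplicit false
universe u v
open MilnorK

namespace Groth.Agent.S19015

/-- Let B be a discrete valuation ring with fraction field F, residue field κ and uniformizer π, and let
E be a field with a ring homomorphism into B, hence into F and into κ. Let ∂ : K_{n+1}(F) → K_n(κ)
be the residue map (tame symbol) on Milnor K-groups and s^π(ρ) = ∂({−π} · ρ) the specialization map
attached to π. Then s^π(x_F) = x_κ for every x in K_n(E): the product {−π} · x_F in K_{1+n}(F),
regarded in K_{n+1}(F), has residue the image of x in K_n(κ). (The published statement concerns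
discrete valuations of geometric type on fields finitely generated over a base field; it is stated
here for an arbitrary discrete valuation ring, which is all the printed computation uses.) -/
theorem result
    (B : Type u) [CommRing B] [IsDomain B] [IsDiscreteValuationRing B]
    (E F : Type v) [Field E] [Field F] [Algebra B F] [IsFractionRing B F]
    [Algebra E B] [Algebra E F] [IsScalarTower E B F]
    (n : ℕ) (d : MilK.K F (n + 1) →+ MilK.K (IsLocalRing.ResidueField B) n) (hd : MilK.IsTameSymbol B F n d)
    (ϖ : B) (hϖ : Irreducible ϖ) (x : MilK.K E n) :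
    d (MilK.cast F (Nat.add_comm 1 n)
        (MilK.mul F 1 n (MilK.symbol ![-MilK.unitFrac B F ϖ hϖ.ne_zero]) (MilK.map (algebraMap E F) n x))) =
      MilK.map ((IsLocalRing.residue B).comp (algebraMap E B)) n x := by
  obtain rfl := MilKLib.eq_tame hϖ hd
  rw [MilKLib.mul_one_left]
  suffices (MilKLib.tame hϖ F n).comp ((MilKLib.pre (-MilK.unitFrac B F ϖ hϖ.ne_zero)).comp
      (MilK.map (algebraMap E F) n)) = MilK.map ((IsLocalRing.residue B).comp (algebraMap E B)) n from
    DFunLike.congr_fun this x
  refine MilKLib.hom_ext fun y => ?_
  have e : (fun i => Units.map (algebraMap E F : E →* F) (y i)) =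
      fun i => MilK.unitToFrac B F (Units.map (algebraMap E B : E →* B) (y i)) :=
    funext fun i => Units.ext (IsScalarTower.algebraMap_apply E B F (y i : E))
  have hneg : -MilK.unitFrac B F ϖ hϖ.ne_zero =
      MilK.unitFrac B F ϖ hϖ.ne_zero ^ (1 : ℤ) * MilK.unitToFrac B F (-1) :=
    Units.ext (by simp [MilKLib.unitToFrac_val])
  rw [AddMonoidHom.comp_apply, AddMonoidHom.comp_apply, MilK.map_symbol, e,
    MilKLib.tame_pre_unitSub hϖ _ (MilKLib.symbol_mem_unitSub _), hneg, MilKLib.ord_split,
    one_smul, MilKLib.spec_symbol, MilK.map_symbol]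
  congr 1
  funext i
  rw [MilKLib.resU_unit]
  exact Units.ext rfl

end Groth.Agent.S19015
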