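import Groth.Statements.S19018
import Mathlib
-- import your own Groth.Agent.* helpers here

set_option autoImplicit false
universe u
open TensorProduct
open SymTen

namespace Groth.Agent.S19018

open TensorProduct Pointwise in
theorem core (k R : Type u) [Field k] [NeZero (2 : k)] [CommRing R] [Algebra k R] :
    Ideal.comap
        (AlgHom.equalizer ((Algebra.TensorProduct.comm k R R : R ⊗[k] R ≃ₐ[k] R ⊗[k] R) : R ⊗[k] R →ₐ[k] R ⊗[k] R)
          (AlgHom.id k (R ⊗[k] R))).val
        (KaehlerDifferential.ideal k R ^ 4) =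
      (Ideal.comap
        (AlgHom.equalizer ((Algebra.TensorProduct.comm k R R : R ⊗[k] R ≃ₐ[k] R ⊗[k] R) : R ⊗[k] R →ₐ[k] R ⊗[k] R)
          (AlgHom.id k (R ⊗[k] R))).val
        (KaehlerDifferential.ideal k R ^ 2)) ^ 2 := by
  set σ := ((Algebra.TensorProduct.comm k R R : R ⊗[k] R ≃ₐ[k] R ⊗[k] R) : R ⊗[k] R →ₐ[k] R ⊗[k] R) with hσ
  set S := AlgHom.equalizer σ (AlgHom.id k (R ⊗[k] R)) with hS
  set I := KaehlerDifferential.ideal k R with hI
  have hmemS : ∀ x, x ∈ S ↔ σ x = x := fun x => Iff.rfl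
  have hinv : ∀ x, σ (σ x) = x := by
    intro x
    induction x with
    | zero => simp
    | add x y hx hy => simp only [map_add, hx, hy]
    | tmul a b => simp [hσ]
  let δ : R → R ⊗[k] R := fun s => 1 ⊗ₜ[k] s - s ⊗ₜ[k] 1
  have hδ : ∀ s, σ (δ s) = - δ s := fun s => by simp [δ, hσ]
  have hsp : I = Ideal.span (Set.range δ) := (KaehlerDifferential.span_range_eq_ideal k R).symm
  apply le_antisymm
  · intro x hx
    set J := Ideal.comap S.val (I ^ 2) with hJ
    have key : ∀ y ∈ I ^ 4, ∀ r, ∃ z ∈ J ^ 2, S.val z = r * y + σ (r * y) := by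
      intro y hy
      rw [show (4 : ℕ) = 2 + 2 from rfl, pow_add, pow_two, hsp, Ideal.span_mul_span', Ideal.span_mul_span'] at hy
      induction hy using Submodule.span_induction with
      | zero => intro r; exact ⟨0, Ideal.zero_mem _, by simp⟩
      | add u v _ _ hu hv =>
        intro r
        obtain ⟨z, hz, hz'⟩ := hu r; obtain ⟨w, hw, hw'⟩ := hv r
        refine ⟨z + w, Ideal.add_mem _ hz hw, ?_⟩
        rw [map_add, hz', hw', mul_add, map_add]
        abel
      | smul c u _ hu =>
        intro r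
        obtain ⟨z, hz, hz'⟩ := hu (r * c)
        exact ⟨z, hz, by rw [hz', smul_eq_mul, mul_assoc]⟩
      | mem g hg =>
        intro r
        obtain ⟨p, hp, q, hq, rfl⟩ := Set.mem_mul.mp hg
        have hgen : ∀ p ∈ Set.range δ * Set.range δ, σ p = p ∧ p ∈ I ^ 2 := by
          intro p hp
          obtain ⟨_, ⟨a, rfl⟩, _, ⟨b, rfl⟩, rfl⟩ := Set.mem_mul.mp hp
          refine ⟨by rw [map_mul, hδ, hδ, neg_mul_neg], ?_⟩
          rw [pow_two, hsp]
          exact Ideal.mul_mem_mul (Ideal.subset_span ⟨a, rfl⟩) (Ideal.subset_span ⟨b, rfl⟩)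
        obtain ⟨hp1, hp2⟩ := hgen p hp
        obtain ⟨hq1, hq2⟩ := hgen q hq
        let R' : S := ⟨r + σ r, by rw [hmemS, map_add, hinv, add_comm]⟩
        refine ⟨R' * (⟨p, hp1⟩ * ⟨q, hq1⟩), Ideal.mul_mem_left _ _ ?_, ?_⟩
        · rw [pow_two]
          exact Ideal.mul_mem_mul hp2 hq2
        · show (r + σ r) * (p * q) = _
          rw [map_mul, map_mul, hp1, hq1, add_mul]
    obtain ⟨z, hz, hz'⟩ := key x.1 hx 1
    rw [one_mul, (hmemS _).mp x.2] at hz'
    have hz2 : z = (2 : S) * x := Subtype.ext (hz'.trans (two_mul _).symm)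
    have hu : IsUnit (2 : S) := by
      rw [← map_ofNat (algebraMap k S) 2]
      exact (isUnit_iff_ne_zero.mpr (NeZero.ne 2)).map _
    rw [hz2] at hz
    exact (Ideal.unit_mul_mem_iff_mem _ hu).mp hz
  · rw [pow_two, show (4 : ℕ) = 2 + 2 from rfl, pow_add]
    exact Ideal.le_comap_mul _

/-- Suppose k is a field in which 2 ≠ 0 and R is a commutative k-algebra. Write I for the ideal of the
diagonal, i.e. the kernel of multiplication R ⊗_k R → R, and write S for the subalgebra of R ⊗_k R
consisting of elements invariant under interchanging the two tensor factors. Then, viewed as ideals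
of S, the swap-invariant elements of I^4 form precisely the square of the ideal of swap-invariant
elements of I^2. (The source is stated over the complex numbers; the proof needs only that 2 is
invertible.) -/
theorem result
    (k R : Type u) [Field k] [NeZero (2 : k)] [CommRing R] [Algebra k R] :
    Ideal.comap
        (AlgHom.equalizer ((Algebra.TensorProduct.comm k R R : R ⊗[k] R ≃ₐ[k] R ⊗[k] R) : R ⊗[k] R →ₐ[k] R ⊗[k] R)
          (AlgHom.id k (R ⊗[k] R))).val
        (KaehlerDifferential.ideal k R ^ 4) =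
      (Ideal.comap
        (AlgHom.equalizer ((Algebra.TensorProduct.comm k R R : R ⊗[k] R ≃ₐ[k] R ⊗[k] R) : R ⊗[k] R →ₐ[k] R ⊗[k] R)
          (AlgHom.id k (R ⊗[k] R))).val
        (KaehlerDifferential.ideal k R ^ 2)) ^ 2 := by
  exact core k R

end Groth.Agent.S19018
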