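import Mathlib
import Groth.Statements.S19025
-- import your own Groth.Agent.* helpers here

set_option autoImplicit false
universe u
open HigherRestr

namespace Groth.Agent.S19025

/-- In abstract form, the estimate its proof establishes. Let S be a commutative ring, I an ideal of S,
g₀ and g₁ elements with g₁ - g₀ ∈ I, N a natural number and y a sequence in S such that, for 1 ≤ i ≤
N, the (N-i)-fold unit-step forward difference of y taken at i lies in I^(N-i). Then g₀^N times the
N-fold forward difference of y at 0, minus the N-fold forward difference at 0 of the twisted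
sequence j ↦ g₀^(N-j) g₁^j y_j, lies in I^N. (In the source S is the ring of functions on an affine
chart of X^n, I the ideal of a pairwise diagonal, g₀ and g₁ the two pullbacks of a transition unit
of L, and y_j the components x_λ along the compositions a₀^(N-j) a₁^j μ; the estimate is what makes
the higher order restrictions D^l_L well defined on ker D^(l-1)_L independently of the
trivialisation.) -/
theorem result
    (S : Type u) [CommRing S] (I : Ideal S) (g₀ g₁ : S) (hg : g₁ - g₀ ∈ I)
    (N : ℕ) (y : ℕ → S)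
    (hy : ∀ i : ℕ, 1 ≤ i → i ≤ N → (fwdDiff (1 : ℕ))^[N - i] y i ∈ I ^ (N - i)) :
    g₀ ^ N * (fwdDiff (1 : ℕ))^[N] y 0 -
        (fwdDiff (1 : ℕ))^[N] (fun j : ℕ => g₀ ^ (N - j) * g₁ ^ j * y j) 0 ∈ I ^ N := by
  classical
  let Sh : Module.End S (ℕ → S) := LinearMap.funLeft S S (fun j => j + 1)
  let Δ : Module.End S (ℕ → S) := Sh - 1
  have hSh : ∀ (i : ℕ) (z : ℕ → S) (t : ℕ), (Sh ^ i) z t = z (t + i) := by
    intro i
    induction i with
    | zero => simp
    | succ i ih => intro z t; rw [pow_succ', Module.End.mul_apply]; show (Sh ^ i) z (t + 1) = _; rw [ih, add_right_comm, add_assoc]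
  have hΔ : ∀ (i : ℕ) (z : ℕ → S), (Δ ^ i) z = (fwdDiff (1 : ℕ))^[i] z := by
    intro i
    induction i with
    | zero => simp
    | succ i ih => intro z; rw [pow_succ', Module.End.mul_apply, Function.iterate_succ_apply', ih]; rfl
  set h := g₁ - g₀ with hh
  have hA : g₁ • Sh + (-g₀) • (1 : Module.End S (ℕ → S)) = h • Sh + g₀ • Δ := by
    simp only [Δ, hh]; module
  have e1 : ((g₁ • Sh + (-g₀) • (1 : Module.End S (ℕ → S))) ^ N) y 0 = (fwdDiff (1 : ℕ))^[N] (fun j : ℕ => g₀ ^ (N - j) * g₁ ^ j * y j) 0 := by
    rw [(((Commute.one_right Sh).smul_right (-g₀)).smul_left g₁).add_pow, LinearMap.sum_apply, Finset.sum_apply, fwdDiff_iter_eq_sum_shift]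
    refine Finset.sum_congr rfl fun k hk => ?_
    simp only [smul_pow, one_pow, Module.End.mul_apply, LinearMap.smul_apply, Module.End.one_apply, Pi.smul_apply, smul_eq_mul,
      Module.End.natCast_apply, map_nsmul, map_smul, hSh, nsmul_eq_mul, Pi.mul_apply, Pi.natCast_apply, zsmul_eq_mul, Int.cast_mul, Int.cast_pow,
      Int.cast_neg, Int.cast_one, Int.cast_natCast, zero_add, mul_one]
    rw [neg_pow g₀]
    ring
  have e2 : ((h • Sh + g₀ • Δ) ^ N) y 0 = ∑ i ∈ Finset.range (N + 1), h ^ i * g₀ ^ (N - i) * (N.choose i : S) * (fwdDiff (1 : ℕ))^[N - i] y i := by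
    have hc : Commute Sh Δ := (Commute.refl Sh).sub_right (Commute.one_right Sh)
    rw [((hc.smul_right g₀).smul_left h).add_pow, LinearMap.sum_apply, Finset.sum_apply]
    refine Finset.sum_congr rfl fun i hi => ?_
    simp only [smul_pow, Module.End.mul_apply, LinearMap.smul_apply, Pi.smul_apply, smul_eq_mul, Module.End.natCast_apply, map_nsmul, map_smul,
      nsmul_eq_mul, Pi.mul_apply, Pi.natCast_apply, hSh, zero_add]
    rw [show ((N.choose i : ℕ → S)) * y = (N.choose i : S) • y from rfl, map_smul, hΔ, Pi.smul_apply, smul_eq_mul]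
    ring
  rw [← e1, hA, e2, Finset.sum_range_succ']
  simp only [pow_zero, one_mul, Nat.sub_zero, Nat.choose_zero_right, Nat.cast_one, mul_one]
  rw [sub_add_cancel_right]
  refine neg_mem (Submodule.sum_mem _ fun i hi => ?_)
  rw [Finset.mem_range] at hi
  rw [show I ^ N = I ^ (i + 1) * I ^ (N - (i + 1)) by rw [← pow_add]; congr 1; omega, mul_assoc, mul_assoc]
  exact Ideal.mul_mem_mul (Ideal.pow_mem_pow hg _) (Ideal.mul_mem_left _ _ (Ideal.mul_mem_left _ _ (hy _ (by omega) (by omega))))

end Groth.Agent.S19025
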