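import Groth.Statements.S19034
import Groth.Agent.GraphBI.Basic

set_option autoImplicit false
universe u
open LabGraph

namespace Groth.Agent.S19034

open LabGraph in
/-- Let σ : Z → X be the contraction of some exceptional components of a quasi-wp-stable curve Z of
genus g ≥ 2 onto a quasi-wp-stable curve X, and d a properly balanced multidegree on X; then the
pull-back d̃ of d to Z (d̃_W = d_{σ(W)} when σ(W) is a curve, d̃ = 0 on contracted components) is
balanced. Encode Z by its weighted multigraph (vertices = irreducible components, weight plus number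
of loops = arithmetic genus of the component, one edge per node and two per tacnode joining distinct
components; canDeg Y = deg_Y ω_Z, cut Y = k_Y, K = canDeg of all vertices = 2g − 2; exceptional
vertex = exceptional component), and let S be the set of contracted components, each an exceptional
vertex. The components of X are the vertices outside S; for a set W of them, the subcurve σ(W) of X
has deg ω_X equal to canDeg Ŵ and k equal to cut Ŵ, where Ŵ is W together with the vertices of S all
of whose edges end in W, and the exceptional components of X are the exceptional vertices outside S.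
So the hypotheses below say that d̃ vanishes on S and that d = d̃|_{V∖S} is properly balanced on X
(Basic Inequality 2·|K·d_W − D·canDeg Ŵ| ≤ cut Ŵ·K for every W disjoint from S, D the total degree,
and value 1 on exceptional vertices outside S); the conclusion is the Basic Inequality for d̃ on Z,
for every set of vertices. -/
theorem result {V E : Type u} [Fintype V] [Fintype E]
    [DecidableEq V] [DecidableEq E] (ends : E → V × V) (w : V → ℕ) (hZ : IsQuasistableGraph ends w)
    (hg : 2 ≤ genus ends w) (S : Finset V) (hS : ∀ v ∈ S, IsExceptional ends w v)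
    (dt : V → ℤ) (hzero : ∀ v ∈ S, dt v = 0)
    (hBI : ∀ W : Finset V, Disjoint W S →
      2 * |canDeg ends w Finset.univ * (∑ v ∈ W, dt v) - (∑ v, dt v) * canDeg ends w (Finset.univ.filter (fun v : V => v ∈ W ∨ (v ∈ S ∧ ∀ e : E, ((ends e).1 = v → (ends e).2 ∈ W) ∧ ((ends e).2 = v → (ends e).1 ∈ W))))|
        ≤ (cut ends (Finset.univ.filter (fun v : V => v ∈ W ∨ (v ∈ S ∧ ∀ e : E, ((ends e).1 = v → (ends e).2 ∈ W) ∧ ((ends e).2 = v → (ends e).1 ∈ W)))) : ℤ) * canDeg ends w Finset.univ)
    (hone : ∀ v : V, v ∉ S → IsExceptional ends w v → dt v = 1) :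
    SatisfiesBI ends w dt := by
  classical
  intro Y
  set W := Y \ S with hW
  set Wh := Finset.univ.filter (fun v : V => v ∈ W ∨ (v ∈ S ∧ ∀ e : E,
    ((ends e).1 = v → (ends e).2 ∈ W) ∧ ((ends e).2 = v → (ends e).1 ∈ W))) with hWh
  have hmemW : ∀ v, v ∉ S → (v ∈ W ↔ v ∈ Y) := fun v hv => by simp [hW, hv]
  have hmemWh : ∀ v, v ∉ S → (v ∈ Wh ↔ v ∈ Y) := fun v hv => by simp [hWh, hW, hv]
  -- the edges at a contracted vertex
  let F : V → Finset E := fun s => Finset.univ.filter fun e => (ends e).1 = s ∨ (ends e).2 = s
  have hloop : ∀ s ∈ S, ∀ e, (ends e).1 = s → (ends e).2 ≠ s := fun s hs e h1 h2 =>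
    (hS s hs).2.1 e (Prod.ext h1 h2)
  have hnoSS : ∀ e, (ends e).1 ∈ S → (ends e).2 ∉ S := fun e h1 h2 =>
    hZ.2 e (fun h => hloop _ h1 e rfl h.symm) ⟨hS _ h1, hS _ h2⟩
  have hcard : ∀ s ∈ S, (F s).card = 2 := fun s hs => by
    rw [← (hS s hs).2.2]
    unfold LabGraph.cut
    congr 1
    ext e
    simp only [F, Finset.mem_filter, Finset.mem_univ, true_and, Finset.mem_singleton]
    constructor
    · rintro (h | h)
      · exact Or.inl ⟨h, hloop s hs e h⟩
      · exact Or.inr ⟨fun h' => hloop s hs e h' h, h⟩
    · tauto
  have hk : ∀ s ∈ S, 2 * (w s : ℤ) - 2 + (LabGraph.endCount ends Finset.univ s : ℤ) = 0 := fun s hs => by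
    have : LabGraph.endCount ends Finset.univ s = (F s).card := by
      simp only [LabGraph.endCount, F, Finset.card_filter]
      refine Finset.sum_congr rfl fun e _ => ?_
      by_cases h1 : (ends e).1 = s
      · simp [h1, hloop s hs e h1]
      · simp [h1]
    rw [this, hcard s hs, (hS s hs).1]; norm_num
  have hdeg : canDeg ends w Wh = canDeg ends w Y := by
    simp only [canDeg]
    rw [← Finset.sum_sdiff (Finset.inter_subset_right : S ∩ Wh ⊆ Wh),
      ← Finset.sum_sdiff (Finset.inter_subset_right : S ∩ Y ⊆ Y),
      Finset.sum_eq_zero (s := S ∩ Wh) (fun v hv => hk v (Finset.mem_inter.1 hv).1),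
      Finset.sum_eq_zero (s := S ∩ Y) (fun v hv => hk v (Finset.mem_inter.1 hv).1)]
    refine congrArg (· + _) (Finset.sum_congr ?_ fun _ _ => rfl)
    ext v
    by_cases hv : v ∈ S <;> simp [hv, hmemWh v]
  have hsum : ∑ v ∈ W, dt v = ∑ v ∈ Y, dt v :=
    Finset.sum_subset Finset.sdiff_subset fun v hv hv' => hzero v (by simpa [hW, hv] using hv')
  have hcut : (cut ends Wh : ℤ) ≤ cut ends Y := by
    rw [GraphBI.cut_eq, GraphBI.cut_eq]
    set A : E → ℤ := fun e => GraphBI.dif ends (GraphBI.ind Wh) e ^ 2 with hA
    set B : E → ℤ := fun e => GraphBI.dif ends (GraphBI.ind Y) e ^ 2 with hB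
    have hdisj : (S : Set V).PairwiseDisjoint F := by
      intro s hs s' hs' hne
      rw [Function.onFun, Finset.disjoint_left]
      intro e he he'
      simp only [F, Finset.mem_filter, Finset.mem_univ, true_and] at he he'
      rcases he with h | h <;> rcases he' with h' | h'
      · exact hne (h.symm.trans h')
      · exact hnoSS e (h ▸ hs) (h' ▸ hs')
      · exact hnoSS e (h' ▸ hs') (h ▸ hs)
      · exact hne (h.symm.trans h')
    rw [← Finset.sum_sdiff (Finset.subset_univ (S.biUnion F)) (f := A),
      ← Finset.sum_sdiff (Finset.subset_univ (S.biUnion F)) (f := B), Finset.sum_biUnion hdisj,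
      Finset.sum_biUnion hdisj]
    refine add_le_add (Finset.sum_le_sum fun e he => le_of_eq ?_) (Finset.sum_le_sum fun s hs => ?_)
    · simp only [Finset.mem_sdiff, Finset.mem_univ, true_and, Finset.mem_biUnion, F, Finset.mem_filter,
        not_exists, not_and] at he
      have h1 : (ends e).1 ∉ S := fun h => he _ h (Or.inl rfl)
      have h2 : (ends e).2 ∉ S := fun h => he _ h (Or.inr rfl)
      simp [hA, hB, GraphBI.dif, GraphBI.ind, hmemWh _ h1, hmemWh _ h2]
    · -- other endpoint
      let o : E → V := fun e => if (ends e).1 = s then (ends e).2 else (ends e).1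
      have hval : ∀ e ∈ F s, A e = (GraphBI.ind Wh s - GraphBI.ind Y (o e)) ^ 2 ∧
          B e = (GraphBI.ind Y s - GraphBI.ind Y (o e)) ^ 2 ∧ o e ∉ S := by
        intro e he
        simp only [F, Finset.mem_filter, Finset.mem_univ, true_and] at he
        by_cases h1 : (ends e).1 = s
        · have ho : (ends e).2 ∉ S := hnoSS e (h1 ▸ hs)
          have : GraphBI.ind Wh (ends e).2 = GraphBI.ind Y (ends e).2 := by simp [GraphBI.ind, hmemWh _ ho]
          simp only [hA, hB, o, GraphBI.dif, if_pos h1, this]
          rw [h1]
          exact ⟨by ring, by ring, ho⟩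
        · have h2 := he.resolve_left h1
          have ho : (ends e).1 ∉ S := fun h => hnoSS e h (h2 ▸ hs)
          have : GraphBI.ind Wh (ends e).1 = GraphBI.ind Y (ends e).1 := by simp [GraphBI.ind, hmemWh _ ho]
          simp only [hA, hB, o, GraphBI.dif, if_neg h1, this]
          rw [h2]
          exact ⟨rfl, rfl, ho⟩
      obtain ⟨e1, e2, hne, hF⟩ := Finset.card_eq_two.1 (hcard s hs)
      have m1 : e1 ∈ F s := by simp [hF]
      have m2 : e2 ∈ F s := by simp [hF]
      obtain ⟨a1, b1, o1⟩ := hval e1 m1
      obtain ⟨a2, b2, o2⟩ := hval e2 m2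
      rw [hF, Finset.sum_pair hne, Finset.sum_pair hne, a1, a2, b1, b2]
      have hiff : s ∈ Wh ↔ o e1 ∈ Y ∧ o e2 ∈ Y := by
        have hsW : s ∉ W := by simp [hW, hs]
        simp only [hWh, Finset.mem_filter, Finset.mem_univ, true_and, hsW, false_or, hs]
        constructor
        · intro h
          refine ⟨?_, ?_⟩
          all_goals
            first
              | (have h' := h e1; by_cases c : (ends e1).1 = s
                 · simpa [o, c, hmemW _ o1] using (hmemW _ (by simpa [o, c] using o1)).1 (h'.1 c)
                 · have c2 : (ends e1).2 = s := by simpa [F, c] using m1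
                   simpa [o, c] using (hmemW _ (by simpa [o, c] using o1)).1 (h'.2 c2))
              | (have h' := h e2; by_cases c : (ends e2).1 = s
                 · simpa [o, c] using (hmemW _ (by simpa [o, c] using o2)).1 (h'.1 c)
                 · have c2 : (ends e2).2 = s := by simpa [F, c] using m2
                   simpa [o, c] using (hmemW _ (by simpa [o, c] using o2)).1 (h'.2 c2))
        · intro h d
          have key : d ∈ F s → o d ∈ W := by
            intro hd
            rw [hF, Finset.mem_insert, Finset.mem_singleton] at hd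
            rcases hd with rfl | rfl
            · exact (hmemW _ o1).2 h.1
            · exact (hmemW _ o2).2 h.2
          refine ⟨fun c => ?_, fun c => ?_⟩
          · simpa [o, c] using key (by simp [F, c])
          · have c1 : (ends d).1 ≠ s := fun h' => hloop s hs d h' c
            simpa [o, c1] using key (by simp [F, c])
      by_cases p1 : o e1 ∈ Y <;> by_cases p2 : o e2 ∈ Y <;> by_cases p3 : s ∈ Y <;>
        simp [GraphBI.ind, hiff, p1, p2, p3]
  have h := hBI W Finset.sdiff_disjoint
  rw [← hWh, hdeg, hsum] at h
  refine h.trans (mul_le_mul_of_nonneg_right hcut ?_)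
  rw [GraphBI.canDeg_univ]; omega

end Groth.Agent.S19034
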