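import Groth.Statements.S19035
import Mathlib
-- import your own Groth.Agent.* helpers here

set_option autoImplicit false
universe u v w x
open CAlg

namespace Groth.Agent.S19035

/-- Let p be a prime and k a perfect field of characteristic p. Let (A_i) be a directed system of
finitely generated commutative k-algebras, indexed by a nonempty directed preorder, with compatible
k-algebra transition maps, and let B be a finitely generated k-algebra with compatible k-algebra
maps A_i → B which present B as the direct limit of the system (every element of B is the image of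
an element of some A_i, and two elements of some A_i with the same image in B have the same image in
some A_j). Then the p-typical Witt vectors commute with this direct limit: every Witt vector over B
is the image of a Witt vector over some A_i, and two Witt vectors over some A_i with the same image
over B already have the same image over some A_j. (Both finiteness hypotheses matter: for an
arbitrary filtered direct limit of commutative rings either assertion can fail.) -/
theorem result
    (p : ℕ) [Fact p.Prime] (k : Type u) [Field k] [CharP k p] [PerfectRing k p]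
    {ι : Type v} [Preorder ι] [IsDirected ι (· ≤ ·)] [Nonempty ι]
    (A : ι → Type w) [∀ i, CommRing (A i)] [∀ i, Algebra k (A i)]
    [∀ i, Algebra.FiniteType k (A i)]
    (f : ∀ i j, i ≤ j → (A i →ₐ[k] A j))
    (hf : ∀ i j l (hij : i ≤ j) (hjl : j ≤ l) (x : A i),
      f j l hjl (f i j hij x) = f i l (hij.trans hjl) x)
    (B : Type x) [CommRing B] [Algebra k B] [Algebra.FiniteType k B]
    (g : ∀ i, A i →ₐ[k] B)
    (hfg : ∀ i j (hij : i ≤ j) (x : A i), g j (f i j hij x) = g i x)
    (hsurj : ∀ b : B, ∃ i, ∃ x : A i, g i x = b)
    (hinj : ∀ i (x y : A i), g i x = g i y → ∃ j, ∃ hij : i ≤ j, f i j hij x = f i j hij y) :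
    (∀ w : WittVector p B, ∃ i, ∃ v : WittVector p (A i),
        WittVector.map (g i).toRingHom v = w) ∧
    (∀ i (v v' : WittVector p (A i)),
        WittVector.map (g i).toRingHom v = WittVector.map (g i).toRingHom v' →
        ∃ j, ∃ hij : i ≤ j,
          WittVector.map (f i j hij).toRingHom v = WittVector.map (f i j hij).toRingHom v') := by
  classical
  constructor
  · intro w
    obtain ⟨s, hs⟩ := (inferInstance : Algebra.FiniteType k B).out
    choose idx y hy using fun b : s => hsurj (b : B)
    obtain ⟨i, hi⟩ := Finite.exists_le idx
    have hg : Function.Surjective (g i).toRingHom := by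
      intro b
      have : b ∈ (g i).range := by
        have hle : Algebra.adjoin k (s : Set B) ≤ (g i).range := Algebra.adjoin_le fun c hc =>
          ⟨f (idx ⟨c, hc⟩) i (hi ⟨c, hc⟩) (y ⟨c, hc⟩), (hfg _ _ _ _).trans (hy ⟨c, hc⟩)⟩
        exact hle (hs ▸ Algebra.mem_top)
      exact this
    obtain ⟨v, hv⟩ := WittVector.map_surjective _ hg w
    exact ⟨i, v, hv⟩
  · intro i v v' h
    haveI : IsNoetherianRing (A i) := Algebra.FiniteType.isNoetherianRing k (A i)
    obtain ⟨s, hs⟩ := IsNoetherian.noetherian (RingHom.ker (g i).toRingHom)
    have hk : ∀ x : s, ∃ j, ∃ hij : i ≤ j, f i j hij x = 0 := fun x => by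
      have hx : (x : A i) ∈ RingHom.ker (g i).toRingHom := hs ▸ Submodule.subset_span x.2
      obtain ⟨j, hij, hj⟩ := hinj i (x : A i) 0 (by rw [map_zero]; exact hx)
      exact ⟨j, hij, by rw [hj, map_zero]⟩
    choose jx hjx hfx using hk
    obtain ⟨j₀, hj₀⟩ := Finite.exists_le jx
    obtain ⟨j, hij, hj⟩ := exists_ge_ge i j₀
    have hle : RingHom.ker (g i).toRingHom ≤ RingHom.ker (f i j hij).toRingHom := by
      rw [← hs]
      refine Submodule.span_le.2 fun x hx => ?_
      show f i j hij x = 0
      rw [← hf i (jx ⟨x, hx⟩) j (hjx ⟨x, hx⟩) ((hj₀ _).trans hj), hfx ⟨x, hx⟩, map_zero]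
    refine ⟨j, hij, WittVector.ext fun m => ?_⟩
    rw [WittVector.map_coeff, WittVector.map_coeff]
    refine sub_eq_zero.1 ?_
    rw [← map_sub]
    apply hle
    show (g i).toRingHom (v.coeff m - v'.coeff m) = 0
    have := congrArg (fun z => z.coeff m) h
    simp only [WittVector.map_coeff] at this
    rw [map_sub, this, sub_self]

end Groth.Agent.S19035
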