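import Groth.Statements.S19036
import Mathlib.AlgebraicGeometry.ValuativeCriterion
import Mathlib.AlgebraicGeometry.Morphisms.FinitePresentation
import Mathlib.RingTheory.Valuation.LocalSubring

set_option linter.style.haveILetI false
set_option backward.isDefEq.respectTransparency false
set_option backward.isDefEq.respectTransparency.types false

set_option autoImplicit false
universe u
open Instab

namespace Groth.Agent.S19036

open CategoryTheory AlgebraicGeometry TopologicalSpace

/-- The indicator functions of the valuation subrings containing the image of `σ`. -/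
def valSet {A K : Type u} [CommRing A] [Field K] (σ : A →+* K) : Set (K → Bool) :=
  {P | P 1 = true ∧ P (-1) = true ∧ (∀ a b, P a = true → P b = true → P (a + b) = true ∧ P (a * b) = true) ∧
    (∀ a, P a = true ∨ P a⁻¹ = true) ∧ ∀ r, P (σ r) = true}

theorem isCompact_valSet {A K : Type u} [CommRing A] [Field K] (σ : A →+* K) : IsCompact (valSet σ) := by
  refine IsClosed.isCompact ?_
  have h1 : ∀ a : K, IsClosed {P : K → Bool | P a = true} := fun a =>
    (isClosed_discrete ({true} : Set Bool)).preimage (f := fun P : K → Bool => P a) (continuous_apply a)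
  have h2 : ∀ a b : K, IsClosed {P : K → Bool | P a = true → P b = true → P (a + b) = true ∧ P (a * b) = true} :=
    fun a b => (isClosed_discrete {x : Bool × Bool × Bool × Bool | x.1 = true → x.2.1 = true →
      x.2.2.1 = true ∧ x.2.2.2 = true}).preimage
      (f := fun P : K → Bool => (P a, P b, P (a + b), P (a * b))) (by fun_prop)
  have h3 : ∀ a : K, IsClosed {P : K → Bool | P a = true ∨ P a⁻¹ = true} := fun a =>
    (h1 a).union (h1 a⁻¹)
  simp only [valSet, Set.setOf_and, Set.setOf_forall]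
  exact (h1 1).inter ((h1 (-1)).inter ((isClosed_iInter fun a => isClosed_iInter fun b => h2 a b).inter
    ((isClosed_iInter h3).inter (isClosed_iInter fun r => h1 (σ r)))))

/-- The valuation subring with a given indicator function. -/
def toVal {A K : Type u} [CommRing A] [Field K] {σ : A →+* K} {P : K → Bool} (h : P ∈ valSet σ) : ValuationSubring K where
  carrier := {a | P a = true}
  mul_mem' ha hb := (h.2.2.1 _ _ ha hb).2
  one_mem' := h.1
  add_mem' ha hb := (h.2.2.1 _ _ ha hb).1
  zero_mem' := by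
    have := (h.2.2.1 _ _ h.1 h.2.1).1
    simpa using this
  neg_mem' {a} ha := by
    have := (h.2.2.1 _ _ h.2.1 ha).2
    simpa using this
  mem_or_inv_mem' := h.2.2.2.1

theorem exists_finite_cover {X Y : Scheme.{u}} (f : X ⟶ Y) [LocallyOfFiniteType f] (hf : ValuativeCriterion f)
    (η : X) {V : Y.Opens} (hV : IsAffineOpen V) (hηV : f η ∈ V) :
    ∃ t : Finset {W : X.Opens // IsAffineOpen W ∧ W ≤ f ⁻¹ᵁ V ∧ η ∈ W},
      ∀ x : X, η ⤳ x → f x ∈ V → ∃ W ∈ t, x ∈ W.1 := by
  classical
  haveI := hV.isOpenImmersion_fromSpec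
  let K := X.residueField η
  let J := {W : X.Opens // IsAffineOpen W ∧ W ≤ f ⁻¹ᵁ V ∧ η ∈ W}
  let σ : Γ(Y, V) →+* K := (Y.presheaf.germ V (f η) hηV ≫ f.stalkMap η ≫ X.residue η).hom
  let τ : (W : J) → (Γ(X, W.1) ⟶ K) := fun W => X.presheaf.germ W.1 η W.2.2.2 ≫ X.residue η
  have hτσ : ∀ W : J, (f.appLE V W.1 W.2.2.1 ≫ τ W).hom = σ := fun W => by
    congr 1
    simp only [τ, Scheme.Hom.appLE, Category.assoc, TopCat.Presheaf.germ_res_assoc, Scheme.Hom.germ_stalkMap_assoc]
  have hσ : Spec.map (CommRingCat.ofHom σ) ≫ hV.fromSpec = X.fromSpecResidueField η ≫ f := by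
    rw [Scheme.fromSpecResidueField, Category.assoc, ← Scheme.SpecMap_stalkMap_fromSpecStalk,
      ← hV.fromSpecStalk_eq_fromSpecStalk hηV]
    simp only [IsAffineOpen.fromSpecStalk, ← Spec.map_comp_assoc]
    rfl
  have hτ : ∀ W : J, Spec.map (τ W) ≫ W.2.1.fromSpec = X.fromSpecResidueField η := fun W => by
    rw [Scheme.fromSpecResidueField, ← W.2.1.fromSpecStalk_eq_fromSpecStalk W.2.2.2]
    simp only [τ, IsAffineOpen.fromSpecStalk, Spec.map_comp, Category.assoc]
  -- lifts of the standard squares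
  let i₂ : (R : ValuationSubring K) → (∀ r, σ r ∈ R.toSubring) → (Spec (CommRingCat.of R) ⟶ Y) :=
    fun R hR => Spec.map (CommRingCat.ofHom (σ.codRestrict R.toSubring hR)) ≫ hV.fromSpec
  have hsq : ∀ (R : ValuationSubring K) (hR : ∀ r, σ r ∈ R.toSubring), X.fromSpecResidueField η ≫ f =
      Spec.map (CommRingCat.ofHom (algebraMap R K)) ≫ i₂ R hR := fun R hR => by
    rw [← hσ, ← Spec.map_comp_assoc]
    rfl
  have hlift : ∀ (R : ValuationSubring K) (hR : ∀ r, σ r ∈ R.toSubring) (l : Spec (CommRingCat.of R) ⟶ X),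
      Spec.map (CommRingCat.ofHom (algebraMap R K)) ≫ l = X.fromSpecResidueField η →
        f (l (IsLocalRing.closedPoint R)) ∈ V → l ≫ f = i₂ R hR := fun R hR l h1 h2 => by
    have hr : Set.range (l ≫ f) ⊆ Set.range hV.fromSpec := by
      rw [hV.range_fromSpec]
      rintro _ ⟨s, rfl⟩
      exact ((IsLocalRing.specializes_closedPoint s).map (l ≫ f).continuous).mem_open V.2 h2
    obtain ⟨φ, hφ⟩ := Spec.map_surjective (IsOpenImmersion.lift hV.fromSpec (l ≫ f) hr)
    have hl : Spec.map φ ≫ hV.fromSpec = l ≫ f := by rw [hφ, IsOpenImmersion.lift_fac]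
    have he : φ ≫ CommRingCat.ofHom (algebraMap R K) = CommRingCat.ofHom σ := by
      apply Spec.map_injective
      rw [← cancel_mono hV.fromSpec, Spec.map_comp, Category.assoc, hl, hσ, reassoc_of% h1]
    rw [← hl]
    congr 2
    ext r
    exact congrArg (fun k => (k.hom r : K)) he
  have hft : ∀ W : J, ∃ S : Finset Γ(X, W.1), ∀ R : ValuationSubring K, (∀ r, σ r ∈ R.toSubring) →
      (∀ s ∈ S, (τ W).hom s ∈ R.toSubring) → ∀ s, (τ W).hom s ∈ R.toSubring := by
    intro W
    have := f.finiteType_appLE hV W.2.1 W.2.2.1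
    algebraize [(f.appLE V W.1 W.2.2.1).hom]
    obtain ⟨S, hS⟩ := Algebra.FiniteType.out (R := Γ(Y, V)) (A := Γ(X, W.1))
    refine ⟨S, fun R hR hSR s => ?_⟩
    have hs : s ∈ Algebra.adjoin Γ(Y, V) (S : Set Γ(X, W.1)) := hS ▸ Algebra.mem_top
    induction hs using Algebra.adjoin_induction with
    | mem y hy => exact hSR y hy
    | algebraMap a =>
      have e : (τ W).hom (f.appLE V W.1 W.2.2.1 a) = σ a := congrArg (fun k => k a) (hτσ W)
      exact e.symm ▸ hR a
    | add y z _ _ hy hz => rw [map_add]; exact R.toSubring.add_mem hy hz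
    | mul y z _ _ hy hz => rw [map_mul]; exact R.toSubring.mul_mem hy hz
  choose S hS using hft
  let O : J → Set (K → Bool) := fun W => ⋂ s ∈ S W, {P | P ((τ W).hom s) = true}
  obtain ⟨t, ht⟩ := (isCompact_valSet σ).elim_finite_subcover O
    (fun W => isOpen_biInter_finset fun s _ => (isOpen_discrete ({true} : Set Bool)).preimage
      (f := fun P : K → Bool => P ((τ W).hom s)) (continuous_apply _))
    (by
      intro P hP
      let R := toVal hP
      have hR : ∀ r, σ r ∈ R.toSubring := hP.2.2.2.2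
      obtain ⟨l, hl₁, hl₂⟩ := (hf.existence
        { R := R, K := K, i₁ := X.fromSpecResidueField η, i₂ := i₂ R hR, commSq := ⟨hsq R hR⟩ }).exists_lift
      dsimp only at hl₁ hl₂
      have hzV : f (l (IsLocalRing.closedPoint R)) ∈ V := by
        rw [← Scheme.Hom.comp_apply, hl₂, ← SetLike.mem_coe, ← hV.range_fromSpec]
        exact ⟨_, (Scheme.Hom.comp_apply _ _ _).symm⟩
      obtain ⟨W, hW, hzW, hWV⟩ := exists_isAffineOpen_mem_and_subset (X := X)
        (x := l (IsLocalRing.closedPoint R)) (U := f ⁻¹ᵁ V) hzV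
      haveI := hW.isOpenImmersion_fromSpec
      have hr : Set.range l ⊆ Set.range hW.fromSpec := by
        rw [hW.range_fromSpec]
        rintro _ ⟨s, rfl⟩
        exact ((IsLocalRing.specializes_closedPoint s).map l.continuous).mem_open W.2 hzW
      have hηW : η ∈ W := by
        rw [← SetLike.mem_coe, ← hW.range_fromSpec]
        refine hr ⟨Spec.map (CommRingCat.ofHom (algebraMap R K)) (IsLocalRing.closedPoint K), ?_⟩
        rw [← Scheme.Hom.comp_apply, hl₁]
        exact Scheme.fromSpecResidueField_apply _ _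
      obtain ⟨φ, hφ⟩ := Spec.map_surjective (IsOpenImmersion.lift hW.fromSpec l hr)
      let W' : J := ⟨W, hW, hWV, hηW⟩
      have he : φ ≫ CommRingCat.ofHom (algebraMap R K) = τ W' := by
        apply Spec.map_injective
        rw [← cancel_mono hW.fromSpec, Spec.map_comp, Category.assoc, hφ, IsOpenImmersion.lift_fac, hl₁, hτ W']
      refine Set.mem_iUnion.2 ⟨W', Set.mem_iInter₂.2 fun s _ => ?_⟩
      show P ((τ W').hom s) = true
      rw [← he]
      exact (φ.hom s).2)
  refine ⟨t, fun x hx hxV => ?_⟩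
  let ρ : X.presheaf.stalk x ⟶ K := X.presheaf.stalkSpecializes hx ≫ X.residue η
  obtain ⟨R, hρR, hloc⟩ := IsLocalRing.exists_factor_valuationRing ρ.hom
  have hρ : Spec.map ρ ≫ X.fromSpecStalk x = X.fromSpecResidueField η := by
    rw [Spec.map_comp, Category.assoc, Scheme.SpecMap_stalkSpecializes_fromSpecStalk]
    rfl
  let ψ : X.presheaf.stalk x ⟶ CommRingCat.of R := CommRingCat.ofHom (ρ.hom.codRestrict R.toSubring hρR)
  let l₀ := Spec.map ψ ≫ X.fromSpecStalk x
  have hl₀ : Spec.map (CommRingCat.ofHom (algebraMap R K)) ≫ l₀ = X.fromSpecResidueField η := by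
    rw [← hρ, ← Spec.map_comp_assoc]
    rfl
  have hl₀x : l₀ (IsLocalRing.closedPoint R) = x := by
    haveI : IsLocalHom ψ.hom := hloc
    rw [Scheme.Hom.comp_apply, Spec_closedPoint, Scheme.fromSpecStalk_closedPoint]
  have hR : ∀ r, σ r ∈ R.toSubring := fun r => by
    have : σ r = ρ.hom ((f.stalkMap x).hom (Y.presheaf.germ V (f x) hxV r)) := by
      show (Y.presheaf.germ V (f η) hηV ≫ f.stalkMap η ≫ X.residue η).hom r =
        (Y.presheaf.germ V (f x) hxV ≫ f.stalkMap x ≫ X.presheaf.stalkSpecializes hx ≫ X.residue η).hom r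
      simp only [Scheme.Hom.germ_stalkMap_assoc, TopCat.Presheaf.germ_stalkSpecializes_assoc]
    exact this ▸ hρR _
  obtain ⟨W, hWt, hPW⟩ := Set.mem_iUnion₂.1 (ht (a := fun a => decide (a ∈ R.toSubring))
    ⟨decide_eq_true (one_mem _), decide_eq_true (neg_mem (one_mem _)), fun a b ha hb =>
      ⟨decide_eq_true (add_mem (of_decide_eq_true ha) (of_decide_eq_true hb)),
        decide_eq_true (mul_mem (of_decide_eq_true ha) (of_decide_eq_true hb))⟩,
      fun a => (R.mem_or_inv_mem a).imp (fun h => decide_eq_true h) (fun h => decide_eq_true h),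
      fun r => decide_eq_true (hR r)⟩)
  refine ⟨W, hWt, ?_⟩
  have hτR : ∀ s, (τ W).hom s ∈ R.toSubring :=
    hS W R hR fun s hs => of_decide_eq_true (Set.mem_iInter₂.1 hPW s hs)
  let l₁ := Spec.map (CommRingCat.ofHom ((τ W).hom.codRestrict R.toSubring hτR)) ≫ W.2.1.fromSpec
  have hl₁ : Spec.map (CommRingCat.ofHom (algebraMap R K)) ≫ l₁ = X.fromSpecResidueField η := by
    rw [← hτ W, ← Spec.map_comp_assoc]
    rfl
  have hl₁W : l₁ (IsLocalRing.closedPoint R) ∈ W.1 := by
    rw [← SetLike.mem_coe, ← W.2.1.range_fromSpec]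
    exact ⟨_, (Scheme.Hom.comp_apply _ _ _).symm⟩
  haveI := hf.uniqueness { R := R, K := K, i₁ := X.fromSpecResidueField η, i₂ := i₂ R hR, commSq := ⟨hsq R hR⟩ }
  have h0 : l₀ ≫ f = i₂ R hR := hlift R hR l₀ hl₀ (by rw [hl₀x]; exact hxV)
  have h1 : l₁ ≫ f = i₂ R hR := hlift R hR l₁ hl₁ (W.2.2.1 hl₁W)
  have heq : l₀ = l₁ := congrArg CommSq.LiftStruct.l (Subsingleton.elim
    (α := CommSq.LiftStruct (ValuativeCommSq.mk R K (X.fromSpecResidueField η) (i₂ R hR) ⟨hsq R hR⟩).commSq)
    ⟨l₀, hl₀, h0⟩ ⟨l₁, hl₁, h1⟩)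
  rw [← hl₀x, heq]
  exact hl₁W

open CategoryTheory AlgebraicGeometry in
/-- Let f : X → Y be a morphism of schemes which is locally of finite presentation, and for which the
valuative criterion holds (every valuative square over a valuation ring has exactly one lift). When
X has only finitely many irreducible components, the morphism f is quasi-compact. (The source states
this for algebraic spaces and adds that f is then proper; universal closedness follows from
quasi-compactness and the existence part by the standard criterion, and separatedness from the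
uniqueness part once f is quasi-separated. Only the scheme case and the quasi-compactness conclusion
are stated here.) -/
theorem result
    {X Y : Scheme.{u}} (f : X ⟶ Y) [LocallyOfFinitePresentation f]
    (hf : ValuativeCriterion f) (hX : (irreducibleComponents ↥X).Finite) :
    QuasiCompact f := by
  rw [quasiCompact_iff_forall_isAffineOpen]
  intro V hV
  have hcov : ∀ Z ∈ irreducibleComponents ↥X, ∃ C : Set X, IsCompact C ∧ C ⊆ (f ⁻¹ᵁ V : X.Opens) ∧
      Z ∩ (f ⁻¹ᵁ V : X.Opens) ⊆ C := by
    intro Z hZ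
    by_cases hne : (Z ∩ (f ⁻¹ᵁ V : X.Opens) : Set X).Nonempty
    swap
    · exact ⟨∅, isCompact_empty, Set.empty_subset _, fun x hx => (hne ⟨x, hx⟩).elim⟩
    have hgp := hZ.1.isGenericPoint_genericPoint (isClosed_of_mem_irreducibleComponents Z hZ)
    obtain ⟨x, hxZ, hxV⟩ := hne
    have hηV : f hZ.1.genericPoint ∈ V := ((hgp.specializes hxZ).map f.continuous).mem_open V.2 hxV
    obtain ⟨t, ht⟩ := exists_finite_cover f hf hZ.1.genericPoint hV hηV
    refine ⟨⋃ W ∈ t, (W.1 : Set X), t.isCompact_biUnion fun W _ => W.2.1.isCompact,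
      Set.iUnion₂_subset fun W _ => W.2.2.1, fun y hy => ?_⟩
    obtain ⟨W, hW, hyW⟩ := ht y (hgp.specializes hy.1) hy.2
    exact Set.mem_biUnion hW hyW
  choose C hC hCV hZC using hcov
  haveI := hX.to_subtype
  have e : ((f ⁻¹ᵁ V : X.Opens) : Set X) = ⋃ Z : irreducibleComponents ↥X, C Z.1 Z.2 := by
    refine Set.Subset.antisymm (fun x hx => ?_) (Set.iUnion_subset fun Z => hCV Z.1 Z.2)
    exact Set.mem_iUnion.2 ⟨⟨_, irreducibleComponent_mem_irreducibleComponents x⟩,
      hZC _ _ ⟨mem_irreducibleComponent, hx⟩⟩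
  show IsCompact ((f ⁻¹ᵁ V : X.Opens) : Set X)
  rw [e]
  exact isCompact_iUnion fun Z => hC Z.1 Z.2

end Groth.Agent.S19036
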