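import Groth.Statements.S19037
import Mathlib
-- import your own Groth.Agent.* helpers here

set_option autoImplicit false
universe u v
open scoped Polynomial LaurentPolynomial
open Instab

namespace Groth.Agent.S19037

section Aux
open LaurentPolynomial

end Aux

/-- Affine form over a ring R. Let A be a commutative ℤ-graded R-algebra and t an element of degree −1
(so A is a graded algebra over R[t] with t in degree −1), and let ψ : A[1/t] → R[T, T⁻¹] be an
R-algebra map sending t to T which is graded, in the sense that each homogeneous element of degree n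
of A goes to an element of R times T^(−n). Then ψ is obtained by inverting t from an R-algebra map χ
: A → R[T] (compared through the inclusion of R[T] in R[T, T⁻¹]) if and only if ψ kills t·a for
every homogeneous a of degree 1; such a χ is unique. (The source states this for quasi-coherent
graded algebras over an arbitrary base scheme; the statement is local on the base and is given here
over an affine base.) -/
theorem result
    {R : Type u} {A : Type v} [CommRing R] [CommRing A] [Algebra R A]
    (𝒜 : ℤ → Submodule R A) [GradedAlgebra 𝒜] (t : A) (ht : t ∈ 𝒜 (-1))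
    (ψ : Localization.Away t →ₐ[R] R[T;T⁻¹])
    (hψt : ψ (algebraMap A (Localization.Away t) t) = LaurentPolynomial.T 1)
    (hψ : ∀ (n : ℤ) (a : A), a ∈ 𝒜 n →
      ∃ r : R, ψ (algebraMap A (Localization.Away t) a) = LaurentPolynomial.C r * LaurentPolynomial.T (-n)) :
    (∃! χ : A →ₐ[R] R[X], ∀ a : A,
        ψ (algebraMap A (Localization.Away t) a) = Polynomial.toLaurentAlg (χ a)) ↔
      ∀ a ∈ 𝒜 1, ψ (algebraMap A (Localization.Away t) (t * a)) = 0 := by
  classical
  let g : A →ₐ[R] LaurentPolynomial R := ψ.comp (IsScalarTower.toAlgHom R A (Localization.Away t))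
  have hg : ∀ a, g a = ψ (algebraMap A (Localization.Away t) a) := fun a => rfl
  have hgt : g t = LaurentPolynomial.T 1 := hψt
  constructor
  · rintro ⟨χ, hχ, -⟩ a ha
    obtain ⟨r, hr⟩ := hψ 1 a ha
    have h0 : (Polynomial.toLaurentAlg (χ a) : LaurentPolynomial R) =
        LaurentPolynomial.C r * LaurentPolynomial.T (-1) := (hχ a).symm.trans hr
    have hr0 : r = 0 := by
      have h1 : Polynomial.toLaurent (Polynomial.X * χ a) = Polynomial.toLaurent (Polynomial.C r) := by
        rw [map_mul, Polynomial.toLaurent_X, Polynomial.toLaurent_C]
        rw [Polynomial.toLaurentAlg_apply] at h0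
        rw [h0, mul_left_comm, ← LaurentPolynomial.T_add]
        simp
      have h2 := congr_arg (Polynomial.coeff · 0) (Polynomial.toLaurent_injective h1)
      simpa using h2.symm
    rw [map_mul, map_mul, hr, hr0, map_zero, zero_mul, mul_zero]
  · intro h
    have hpos : ∀ (n : ℕ) (a : A), a ∈ 𝒜 ((n : ℤ) + 1) → g a = 0 := by
      intro n
      induction n with
      | zero =>
        intro a ha
        have h1 := h a (by simpa using ha)
        rw [← hg, map_mul, hgt] at h1
        exact (LaurentPolynomial.isUnit_T 1).mul_right_eq_zero.mp h1
      | succ n ih =>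
        intro a ha
        have hm : t * a ∈ 𝒜 ((n : ℤ) + 1) := by
          have := SetLike.mul_mem_graded ht ha
          convert this using 2
          push_cast; ring
        have := ih _ hm
        rw [map_mul, hgt] at this
        exact (LaurentPolynomial.isUnit_T 1).mul_right_eq_zero.mp this
    have hex : ∀ a, ∃ q : Polynomial R, Polynomial.toLaurentAlg q = g a := by
      intro a
      induction a using DirectSum.Decomposition.inductionOn 𝒜 with
      | zero => exact ⟨0, by simp⟩
      | @homogeneous n a =>
        rcases le_or_gt n 0 with hn | hn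
        · obtain ⟨r, hr⟩ := hψ n a a.2
          obtain ⟨j, hj⟩ : ∃ j : ℕ, (j : ℤ) = -n := ⟨(-n).toNat, by omega⟩
          refine ⟨Polynomial.C r * Polynomial.X ^ j, ?_⟩
          rw [hg, hr, ← hj, Polynomial.toLaurentAlg_apply, map_mul, Polynomial.toLaurent_C,
            Polynomial.toLaurent_X_pow]
        · refine ⟨0, ?_⟩
          obtain ⟨j, rfl⟩ : ∃ j : ℕ, n = (j : ℤ) + 1 := ⟨(n - 1).toNat, by omega⟩
          rw [map_zero, hpos j a a.2]
      | add x y hx hy =>
        obtain ⟨p, hp⟩ := hx
        obtain ⟨q, hq⟩ := hy
        exact ⟨p + q, by rw [map_add, map_add, hp, hq]⟩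
    choose q hq using hex
    have hinj : Function.Injective (Polynomial.toLaurentAlg : Polynomial R →ₐ[R] LaurentPolynomial R) :=
      fun x y hxy => Polynomial.toLaurent_injective (by simpa using hxy)
    let χ : A →ₐ[R] Polynomial R :=
      { toFun := q
        map_one' := hinj (by simp [hq])
        map_mul' := fun x y => hinj (by rw [map_mul, hq, hq, hq, map_mul])
        map_zero' := hinj (by simp [hq])
        map_add' := fun x y => hinj (by rw [map_add, hq, hq, hq, map_add])
        commutes' := fun r => hinj (by rw [hq, AlgHom.commutes, AlgHom.commutes]) }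
    refine ⟨χ, fun a => (hq a).symm, fun χ' hχ' => AlgHom.ext fun a => hinj ?_⟩
    exact (hχ' a).symm.trans (hq a).symm

end Groth.Agent.S19037
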