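import Groth.Statements.S19041
import Mathlib
-- import your own Groth.Agent.* helpers here

set_option autoImplicit false
universe u
open Dieu

namespace Groth.Agent.S19041

section gc
open W4c6eohyperellchar2
variable {c : ℕ} {k : Type u} [Field k] [CharP k 2] [PerfectRing k 2]

theorem F_X_two (j : ℕ) (h1 : 1 ≤ j) (h2 : 2 * j ≤ c) : F c k (X c k (2 * j)) = X c k j := by
  refine Prod.ext (funext fun i => ?_) (funext fun i => ?_)
  · simp only [F, X, coefX]; split_ifs <;> first | omega | simp
  · simp only [F, X, coefX]; split_ifs <;> first | omega | simp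

theorem F_X_odd (l : ℕ) (h1 : l % 2 = 1) (h2 : l ≤ c) : F c k (X c k l) = Y c k (c - (l - 1) / 2) := by
  refine Prod.ext (funext fun i => ?_) (funext fun i => ?_)
  · simp only [F, X, Y, coefX, Pi.zero_apply]; split_ifs <;> first | omega | simp
  · simp only [F, X, Y, coefX]; split_ifs <;> first | omega | simp

theorem V_Y (m : ℕ) (h1 : 1 ≤ m) (h2 : 2 * m ≤ c) : V c k (Y c k m) = Y c k (2 * m) := by
  refine Prod.ext (funext fun i => ?_) (funext fun i => ?_)
  · simp [V, Y]
  · simp only [V, Y, coefX, coefY, Pi.zero_apply]; split_ifs <;> first | omega | simp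

theorem V_X (j : ℕ) (h1 : c < 2 * j) (h2 : j ≤ c) : V c k (X c k j) = Y c k (2 * c - 2 * j + 1) := by
  refine Prod.ext (funext fun i => ?_) (funext fun i => ?_)
  · simp [V, Y]
  · simp only [V, X, Y, coefX, coefY, Pi.zero_apply]; split_ifs <;> first | omega | simp

end gc

/-- Let `k` be a perfect field of characteristic `2` and `c` a natural number, and consider the explicit
`2c`-dimensional `k`-space on `X_1, …, X_c, Y_1, …, Y_c` with its operators `F` and `V` (`F Y_j =
0`; `F X_j = X_{j/2}` for `j` even and `Y_{c-(j-1)/2}` for `j` odd; `V Y_j = Y_{2j}` when `2j ≤ c`,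
else `0`; `V X_j = Y_{2c-2j+1}` when `2j > c`, else `0`). For `j = 2^e l` with `l` odd and `c < 2j ≤
2c`, and for `j'` with `c < 2j' ≤ 2c` and `n` with `2^n (2c - 2j' + 1) = c - (l-1)/2`, one has
`F^{e+1} X_j + V^{n+1} X_{j'} = 0`. (Stated over any perfect field of characteristic `2`; the source
works over an algebraically closed one.) -/
theorem result (c : ℕ) (k : Type u) [Field k] [CharP k 2] [PerfectRing k 2]
    (j e l : ℕ) (hj : j = 2 ^ e * l) (hl : Odd l) (hjc : j ≤ c) (hcj : c < 2 * j)
    (j' n : ℕ) (hj'c : j' ≤ c) (hcj' : c < 2 * j') (hn : 2 ^ n * (2 * c - 2 * j' + 1) = c - (l - 1) / 2) :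
    (W4c6eohyperellchar2.F c k)^[e + 1] (W4c6eohyperellchar2.X c k j) + (W4c6eohyperellchar2.V c k)^[n + 1] (W4c6eohyperellchar2.X c k j') = 0 := by
  obtain ⟨l', rfl⟩ := hl
  have hF : ∀ e, 2 ^ e * (2 * l' + 1) ≤ c → (W4c6eohyperellchar2.F c k)^[e] (W4c6eohyperellchar2.X c k (2 ^ e * (2 * l' + 1))) = W4c6eohyperellchar2.X c k (2 * l' + 1) := by
    intro e
    induction e with
    | zero => intro _; simp
    | succ e ih =>
      intro he
      rw [pow_succ', mul_assoc] at he ⊢
      rw [Function.iterate_succ_apply, F_X_two _ (Nat.one_le_iff_ne_zero.2 (by positivity)) he]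
      exact ih (by omega)
  have hV : ∀ n q, 1 ≤ q → 2 ^ n * q ≤ c → (W4c6eohyperellchar2.V c k)^[n] (W4c6eohyperellchar2.Y c k q) = W4c6eohyperellchar2.Y c k (2 ^ n * q) := by
    intro n
    induction n with
    | zero => intro q _ _; simp
    | succ n ih =>
      intro q hq hn
      rw [pow_succ', mul_assoc] at hn ⊢
      rw [Function.iterate_succ_apply', ih q hq (by omega), V_Y _ (Nat.one_le_iff_ne_zero.2 (by positivity)) hn]
  rw [Function.iterate_succ_apply', Function.iterate_succ_apply, hj, hF e (hj ▸ hjc),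
    F_X_odd _ (by omega) (by have := Nat.le_mul_of_pos_left (2 * l' + 1) (show 0 < 2 ^ e by positivity); omega),
    V_X j' hcj' hj'c, hV n _ (by omega) (by omega), hn]
  refine Prod.ext (funext fun i => ?_) (funext fun i => ?_) <;> exact CharTwo.add_self_eq_zero _

end Groth.Agent.S19041
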