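import Groth.Statements.S19042
import Mathlib
-- import your own Groth.Agent.* helpers here

set_option autoImplicit false
universe u
open Dieu

namespace Groth.Agent.S19042

/-- Let `k` be a perfect field of characteristic `2` and `c` a natural number, and consider the explicit
`2c`-dimensional `k`-space on `X_1, …, X_c, Y_1, …, Y_c` with its operators `F` and `V` (`F Y_j =
0`; `F X_j = X_{j/2}` for `j` even and `Y_{c-(j-1)/2}` for `j` odd; `V Y_j = Y_{2j}` when `2j ≤ c`,
else `0`; `V X_j = Y_{2c-2j+1}` when `2j > c`, else `0`). The vectors `X_j` with `c < 2j ≤ 2c`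
generate it as a module over `k[F, V]`: a `k`-subspace stable under `F` and `V` containing them is
everything. (Stated over any perfect field of characteristic `2`; the source works over an
algebraically closed one.) -/
theorem result (c : ℕ) (k : Type u) [Field k] [CharP k 2] [PerfectRing k 2]
    (N : Submodule k (W4c6eohyperellchar2.GcMod c k))
    (hF : ∀ v ∈ N, W4c6eohyperellchar2.F c k v ∈ N) (hV : ∀ v ∈ N, W4c6eohyperellchar2.V c k v ∈ N)
    (hX : ∀ j : ℕ, c < 2 * j → j ≤ c → W4c6eohyperellchar2.X c k j ∈ N) : N = ⊤ := by
  classical
  have hx : ∀ j, j ≤ c → 1 ≤ j → W4c6eohyperellchar2.X c k j ∈ N := by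
    intro j
    induction h : c - j using Nat.strong_induction_on generalizing j with
    | _ d ih =>
      intro hj h1
      by_cases h2 : c < 2 * j
      · exact hX j h2 hj
      · have := hF _ (ih (c - 2 * j) (by omega) (2 * j) rfl (by omega) (by omega))
        convert this using 1
        refine Prod.ext (funext fun i => ?_) (funext fun i => ?_)
        · simp only [W4c6eohyperellchar2.F, W4c6eohyperellchar2.X, W4c6eohyperellchar2.coefX]
          split_ifs <;> first | omega | simp
        · simp only [W4c6eohyperellchar2.F, W4c6eohyperellchar2.X, W4c6eohyperellchar2.coefX]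
          split_ifs <;> first | omega | simp
  have hy : ∀ m, m ≤ c → 1 ≤ m → W4c6eohyperellchar2.Y c k m ∈ N := by
    intro m
    induction m using Nat.strong_induction_on with
    | _ m ih =>
      intro hm h1
      by_cases h2 : m % 2 = 0
      · have := hV _ (ih (m / 2) (by omega) (by omega) (by omega))
        convert this using 1
        refine Prod.ext (funext fun i => ?_) (funext fun i => ?_)
        · simp [W4c6eohyperellchar2.V, W4c6eohyperellchar2.Y]
        · simp only [W4c6eohyperellchar2.V, W4c6eohyperellchar2.Y, W4c6eohyperellchar2.coefX, W4c6eohyperellchar2.coefY, Pi.zero_apply]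
          split_ifs <;> first | omega | simp
      · have := hV _ (hx (c - (m - 1) / 2) (by omega) (by omega))
        convert this using 1
        refine Prod.ext (funext fun i => ?_) (funext fun i => ?_)
        · simp [W4c6eohyperellchar2.V, W4c6eohyperellchar2.Y]
        · simp only [W4c6eohyperellchar2.V, W4c6eohyperellchar2.X, W4c6eohyperellchar2.Y, W4c6eohyperellchar2.coefX, W4c6eohyperellchar2.coefY, Pi.zero_apply]
          split_ifs <;> first | omega | simp
  refine eq_top_iff.2 fun v _ => ?_
  have hv : v = ∑ i : Fin c, (v.1 i • W4c6eohyperellchar2.X c k (i.val + 1) + v.2 i • W4c6eohyperellchar2.Y c k (i.val + 1)) := by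
    refine Prod.ext (funext fun j => ?_) (funext fun j => ?_) <;>
      simp [W4c6eohyperellchar2.X, W4c6eohyperellchar2.Y, Prod.fst_sum, Prod.snd_sum, Finset.sum_apply, Fin.val_inj, Finset.sum_ite_eq, eq_comm]
  rw [hv]
  exact Submodule.sum_mem _ fun i _ => N.add_mem (N.smul_mem _ (hx _ (by omega) (by omega))) (N.smul_mem _ (hy _ (by omega) (by omega)))

end Groth.Agent.S19042
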