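import Groth.Statements.S19043
import Mathlib
-- import your own Groth.Agent.* helpers here

set_option autoImplicit false
universe u
open Dieu

namespace Groth.Agent.S19043

section gc
open W4c6eohyperellchar2
variable {c : ℕ} {k : Type u} [Field k] [CharP k 2] [PerfectRing k 2]

theorem F_X_two (j : ℕ) (h1 : 1 ≤ j) (h2 : 2 * j ≤ c) : F c k (X c k (2 * j)) = X c k j := by
  refine Prod.ext (funext fun i => ?_) (funext fun i => ?_)
  · simp only [F, X, coefX]; split_ifs <;> first | omega | simp
  · simp only [F, X, coefX]; split_ifs <;> first | omega | simp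

theorem F_X_odd (l : ℕ) (h1 : l % 2 = 1) (h2 : l ≤ c) : F c k (X c k l) = Y c k (c - (l - 1) / 2) := by
  refine Prod.ext (funext fun i => ?_) (funext fun i => ?_)
  · simp only [F, X, Y, coefX, Pi.zero_apply]; split_ifs <;> first | omega | simp
  · simp only [F, X, Y, coefX]; split_ifs <;> first | omega | simp

theorem V_Y (m : ℕ) (h1 : 1 ≤ m) (h2 : 2 * m ≤ c) : V c k (Y c k m) = Y c k (2 * m) := by
  refine Prod.ext (funext fun i => ?_) (funext fun i => ?_)
  · simp [V, Y]
  · simp only [V, Y, coefX, coefY, Pi.zero_apply]; split_ifs <;> first | omega | simp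

theorem V_X (j : ℕ) (h1 : c < 2 * j) (h2 : j ≤ c) : V c k (X c k j) = Y c k (2 * c - 2 * j + 1) := by
  refine Prod.ext (funext fun i => ?_) (funext fun i => ?_)
  · simp [V, Y]
  · simp only [V, X, Y, coefX, coefY, Pi.zero_apply]; split_ifs <;> first | omega | simp

end gc

/-- Let `k` be a perfect field of characteristic `2` and `c` a natural number, and let `M` be the
explicit `2c`-dimensional `k`-space on `X_1, …, X_c, Y_1, …, Y_c` with its operators `F` and `V` (`F
Y_j = 0`; `F X_j = X_{j/2}` for `j` even and `Y_{c-(j-1)/2}` for `j` odd; `V Y_j = Y_{2j}` when `2j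
≤ c`, else `0`; `V X_j = Y_{2c-2j+1}` when `2j > c`, else `0`). The classes of the `X_j` with `c <
2j ≤ 2c` in the quotient of `M` by the `k`-span of `F(M) ∪ V(M)` are linearly independent and span
that quotient. (Stated over any perfect field of characteristic `2`; the source works over an
algebraically closed one.) -/
theorem result (c : ℕ) (k : Type u) [Field k] [CharP k 2] [PerfectRing k 2] :
    LinearIndependent k (fun j : {j : ℕ // c < 2 * j ∧ j ≤ c} =>
        Submodule.mkQ (Submodule.span k (Set.range (W4c6eohyperellchar2.F c k) ∪ Set.range (W4c6eohyperellchar2.V c k))) (W4c6eohyperellchar2.X c k j.1)) ∧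
      Submodule.span k (Set.range (fun j : {j : ℕ // c < 2 * j ∧ j ≤ c} =>
        Submodule.mkQ (Submodule.span k (Set.range (W4c6eohyperellchar2.F c k) ∪ Set.range (W4c6eohyperellchar2.V c k))) (W4c6eohyperellchar2.X c k j.1))) = ⊤ := by
  classical
  set S := Submodule.span k (Set.range (W4c6eohyperellchar2.F c k) ∪ Set.range (W4c6eohyperellchar2.V c k)) with hS
  have hxS : ∀ j, 1 ≤ j → 2 * j ≤ c → W4c6eohyperellchar2.X c k j ∈ S := fun j h1 h2 =>
    Submodule.subset_span (Or.inl ⟨_, F_X_two j h1 h2⟩)
  have hyS : ∀ m, 1 ≤ m → m ≤ c → W4c6eohyperellchar2.Y c k m ∈ S := by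
    intro m h1 h2
    by_cases h : m % 2 = 0
    · refine Submodule.subset_span (Or.inr ⟨W4c6eohyperellchar2.Y c k (m / 2), ?_⟩)
      rw [V_Y _ (by omega) (by omega), show 2 * (m / 2) = m by omega]
    · refine Submodule.subset_span (Or.inr ⟨W4c6eohyperellchar2.X c k (c - (m - 1) / 2), ?_⟩)
      rw [V_X _ (by omega) (by omega), show 2 * c - 2 * (c - (m - 1) / 2) + 1 = m by omega]
  let π : W4c6eohyperellchar2.GcMod c k →ₗ[k] ({j : ℕ // c < 2 * j ∧ j ≤ c} → k) :=
    LinearMap.pi fun j => (LinearMap.proj ⟨j.1 - 1, by have := j.2; omega⟩).comp (LinearMap.fst k _ _)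
  have hπ : S ≤ LinearMap.ker π := by
    rw [hS, Submodule.span_le]
    rintro _ (⟨v, rfl⟩ | ⟨v, rfl⟩) <;> refine LinearMap.mem_ker.2 (funext fun j => ?_) <;>
      have := j.2
    · simp only [π, LinearMap.pi_apply, LinearMap.comp_apply, LinearMap.fst_apply, LinearMap.proj_apply, W4c6eohyperellchar2.F, W4c6eohyperellchar2.coefX]
      rw [dif_neg (by omega)]; simp
    · rfl
  refine ⟨?_, ?_⟩
  · refine LinearIndependent.of_comp (S.liftQ π hπ) ?_
    convert (Pi.linearIndependent_single_one {j : ℕ // c < 2 * j ∧ j ≤ c} k) using 1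
    all_goals try (first | rfl | exact Subsingleton.elim _ _)
    funext a b
    have := a.2; have := b.2
    simp only [Function.comp_apply, π, Submodule.mkQ_apply, Submodule.liftQ_apply, LinearMap.pi_apply, LinearMap.comp_apply, LinearMap.fst_apply, LinearMap.proj_apply, W4c6eohyperellchar2.X, Pi.single_apply, Subtype.ext_iff]
    split_ifs <;> first | omega | rfl
  · rw [eq_top_iff]
    intro q _
    obtain ⟨v, rfl⟩ := S.mkQ_surjective q
    have hv : v = ∑ i : Fin c, (v.1 i • W4c6eohyperellchar2.X c k (i.val + 1) + v.2 i • W4c6eohyperellchar2.Y c k (i.val + 1)) := by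
      refine Prod.ext (funext fun j => ?_) (funext fun j => ?_) <;>
        simp [W4c6eohyperellchar2.X, W4c6eohyperellchar2.Y, Prod.fst_sum, Prod.snd_sum, Finset.sum_apply, Fin.val_inj, Finset.sum_ite_eq, eq_comm]
    rw [hv, map_sum]
    refine Submodule.sum_mem _ fun i _ => ?_
    rw [map_add, map_smul, map_smul]
    refine Submodule.add_mem _ (Submodule.smul_mem _ _ ?_) (Submodule.smul_mem _ _ ?_)
    · by_cases h : c < 2 * (i.val + 1)
      · exact Submodule.subset_span ⟨⟨i.val + 1, h, by omega⟩, rfl⟩
      · rw [Submodule.mkQ_apply, (Submodule.Quotient.mk_eq_zero S).2 (hxS _ (by omega) (by omega))]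
        exact Submodule.zero_mem _
    · rw [Submodule.mkQ_apply, (Submodule.Quotient.mk_eq_zero S).2 (hyS _ (by omega) (by omega))]
      exact Submodule.zero_mem _

end Groth.Agent.S19043
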