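import Groth.Statements.S19044
import Groth.Agent.FunFld.ASPartial
-- import your own Groth.Agent.* helpers here

set_option autoImplicit false
universe u v w
open FunFld

namespace Groth.Agent.S19044

/-- Let `k` be algebraically closed of characteristic `2` and `K = k(x, y)` with `y² + y = f(x)`, `K`
separable of degree `2` over `k(x)`; let `B ⊆ k` be a finite set containing `0` such that `f` has a
pole of odd order `d_α` at `x = α` for every `α ∈ B` and is integral at all other places of `k(x)`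
(so also at infinity), and put `c_α = (d_α - 1)/2`. Then the differentials `z dx` with `z = (x -
α)^{-(j+1)}` (`α ∈ B`, `1 ≤ j ≤ c_α`) and `z = α/(x(x-α))` (`α ∈ B`, `α ≠ 0`) are regular, this
family of `z` is linearly independent over `k`, and every `z` with `z dx` regular is a `k`-linear
combination of them; regularity is read through Laurent expansions over `k` at every place of `K`.
(Up to sign these are the forms `x_α^{j-1} dx_α` and `x_α^{-1} dx_α - x_0^{-1} dx_0` with `x_α = (x
- α)^{-1}`.) -/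
theorem result (k : Type u) (K : Type v)
    [Field k] [IsAlgClosed k] [CharP k 2] [Field K] [Algebra k K] [Algebra (RatFunc k) K] [IsScalarTower k (RatFunc k) K]
    (hK : FunFld.IsFunctionField k K) (hdeg : Module.finrank (RatFunc k) K = 2) [Algebra.IsSeparable (RatFunc k) K]
    (y : K) (hy : y ∉ Set.range (algebraMap (RatFunc k) K)) (f : RatFunc k)
    (heq : y ^ 2 + y = algebraMap (RatFunc k) K f)
    (B : Finset k) (h0 : (0 : k) ∈ B) (d : k → ℕ) (hd : ∀ α ∈ B, Odd (d α))
    (hpole : ∀ (p : FunFld.Place k (RatFunc k)) (α : k), α ∈ B →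
      p.1 ((RatFunc.X : RatFunc k) - RatFunc.C α) < 1 → p.ord f = -(d α : ℤ))
    (hint : ∀ p : FunFld.Place k (RatFunc k), (∀ α ∈ B, 1 ≤ p.1 ((RatFunc.X : RatFunc k) - RatFunc.C α)) → p.1 f ≤ 1)
    (F : FunFld.Place k K → Type w) [∀ P, Field (F P)] [∀ P, Algebra k (F P)] [∀ P, FiniteDimensional k (F P)]
    (φ : ∀ P, K →ₐ[k] LaurentSeries (F P)) (hφ : ∀ P, LocRes.IsExpansionAt P.1 (φ P)) :
    (∀ i P, LocRes.vDiff (φ P) ((Sum.elim
        (fun a : {a : ↥B × ℕ // 1 ≤ a.2 ∧ 2 * a.2 + 1 ≤ d (a.1 : k)} => algebraMap (RatFunc k) K (((RatFunc.X : RatFunc k) - RatFunc.C (a.1.1 : k))⁻¹ ^ (a.1.2 + 1)))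
        (fun b : {b : ↥B // (b : k) ≠ 0} => algebraMap (RatFunc k) K (RatFunc.C (b.1 : k) / ((RatFunc.X : RatFunc k) * ((RatFunc.X : RatFunc k) - RatFunc.C (b.1 : k)))))) i) (algebraMap (RatFunc k) K RatFunc.X) ≤ 1) ∧
    LinearIndependent k (Sum.elim
        (fun a : {a : ↥B × ℕ // 1 ≤ a.2 ∧ 2 * a.2 + 1 ≤ d (a.1 : k)} => algebraMap (RatFunc k) K (((RatFunc.X : RatFunc k) - RatFunc.C (a.1.1 : k))⁻¹ ^ (a.1.2 + 1)))
        (fun b : {b : ↥B // (b : k) ≠ 0} => algebraMap (RatFunc k) K (RatFunc.C (b.1 : k) / ((RatFunc.X : RatFunc k) * ((RatFunc.X : RatFunc k) - RatFunc.C (b.1 : k)))))) ∧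
    ∀ z : K, (∀ P, LocRes.vDiff (φ P) z (algebraMap (RatFunc k) K RatFunc.X) ≤ 1) →
      z ∈ Submodule.span k (Set.range (Sum.elim
        (fun a : {a : ↥B × ℕ // 1 ≤ a.2 ∧ 2 * a.2 + 1 ≤ d (a.1 : k)} => algebraMap (RatFunc k) K (((RatFunc.X : RatFunc k) - RatFunc.C (a.1.1 : k))⁻¹ ^ (a.1.2 + 1)))
        (fun b : {b : ↥B // (b : k) ≠ 0} => algebraMap (RatFunc k) K (RatFunc.C (b.1 : k) / ((RatFunc.X : RatFunc k) * ((RatFunc.X : RatFunc k) - RatFunc.C (b.1 : k))))))) := by
  classical
  have : FiniteDimensional (RatFunc k) K := Module.finite_of_finrank_pos (by rw [hdeg]; exact two_pos)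
  obtain ⟨D, hD, hDα, hD0, hq, hDdeg⟩ := FunFldLib.as_partial_data hd hpole hint
  set m : k → ℕ := fun α => (d α + 1) / 2
  set q : Polynomial k := ∏ α ∈ B, (Polynomial.X - Polynomial.C α) ^ m α with hq_def
  have hm1 : ∀ α ∈ B, 1 ≤ m α := fun α hα => by obtain ⟨t, ht⟩ := hd α hα; show 1 ≤ (d α + 1) / 2; omega
  have hmon : ∀ n : k → ℕ, (∏ α ∈ B, (Polynomial.X - Polynomial.C α) ^ n α).Monic := fun n =>
    Polynomial.monic_prod_of_monic _ _ fun α _ => (Polynomial.monic_X_sub_C α).pow _
  have hpdeg : ∀ n : k → ℕ, (∏ α ∈ B, (Polynomial.X - Polynomial.C α) ^ n α).natDegree = ∑ α ∈ B, n α := fun n => by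
    rw [Polynomial.natDegree_prod_of_monic _ _ fun α _ => (Polynomial.monic_X_sub_C α).pow _]
    exact Finset.sum_congr rfl fun α _ => by rw [Polynomial.natDegree_pow, Polynomial.natDegree_X_sub_C, mul_one]
  have hq0 : q ≠ 0 := (hmon m).ne_zero
  have hg : (FunFld.genus k K : ℤ) = ((∑ α ∈ B, m α : ℕ) : ℤ) - 1 := by
    rw [FunFldLib.genus_artinSchreier hK hdeg hy heq D hD, hDdeg]
  obtain ⟨Pi, hPi⟩ := FunFldLib.rat_exists_inf (k := k)
  have hiff := FunFldLib.regular_iff hφ (x := algebraMap (RatFunc k) K RatFunc.X)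
    (w := algebraMap (RatFunc k) K (FunFldLib.polR q))
    (fun Q => FunFldLib.as_val_Dx hK hdeg hy heq hD hq0 hq hPi (hφ Q))
  have hqK : algebraMap (RatFunc k) K (FunFldLib.polR q) ≠ 0 := by simpa [FunFldLib.polR] using hq0
  -- regular forms are `a / q`
  let Φ : Polynomial k →ₗ[k] K :=
    LinearMap.mulRight k (algebraMap (RatFunc k) K (FunFldLib.polR q))⁻¹ ∘ₗ
      ((Algebra.linearMap (RatFunc k) K).restrictScalars k) ∘ₗ
      (IsScalarTower.toAlgHom k (Polynomial k) (RatFunc k)).toLinearMap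
  have hΦ : ∀ a, Φ a = algebraMap (RatFunc k) K (FunFldLib.polR a / FunFldLib.polR q) := fun a => by
    rw [map_div₀, div_eq_mul_inv]; rfl
  have hΦinj : Function.Injective Φ := fun a b h => by
    rw [hΦ, hΦ] at h
    exact RatFunc.algebraMap_injective k
      ((div_left_inj' (by simpa [FunFldLib.polR] using hq0)).1 ((algebraMap (RatFunc k) K).injective h))
  set W := (Polynomial.degreeLT k (FunFld.genus k K)).map Φ with hW
  have hWmem : ∀ z, (∀ P, LocRes.vDiff (φ P) z (algebraMap (RatFunc k) K RatFunc.X) ≤ 1) ↔ z ∈ W := by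
    intro z
    rw [hiff, hW, Submodule.mem_map]
    constructor
    · intro hu
      obtain ⟨a, b, hab⟩ := FunFldLib.quad_repr hdeg hy (z * algebraMap (RatFunc k) K (FunFldLib.polR q))
      rw [hab] at hu
      obtain ⟨ha, hb⟩ := (FunFldLib.as_mem_L hdeg hy heq D hD _ a b).1 hu
      have hneg : Divisor.deg (Finsupp.single Pi ((FunFld.genus k K : ℤ) - 1) - D : Divisor k (RatFunc k)) < 0 := by
        rw [FunFldLib.deg_sub, FunFldLib.deg_single, FunFldLib.rat_deg_inf Pi hPi, hDdeg]; push_cast at hg ⊢; omega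
      rw [FunFldLib.L_eq_bot_of_deg_neg FunFldLib.isFunctionField_ratFunc hneg, Submodule.mem_bot] at hb
      obtain ⟨a', rfl, ha'⟩ := (FunFldLib.rat_mem_L_inf hPi).1 ha
      refine ⟨a', ?_, ?_⟩
      · rw [Polynomial.mem_degreeLT]
        rcases eq_or_ne a' 0 with h | h
        · rw [h, Polynomial.degree_zero]; exact WithBot.bot_lt_coe _
        · rw [Polynomial.degree_eq_natDegree h]
          have := ha'.resolve_left h
          exact_mod_cast show a'.natDegree < FunFld.genus k K by omega
      · rw [hb, map_zero, zero_mul, add_zero] at hab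
        rw [hΦ, map_div₀, eq_comm, eq_div_iff hqK]
        exact hab
    · rintro ⟨a, ha, rfl⟩
      rw [hΦ, map_div₀, div_mul_cancel₀ _ hqK]
      refine ((FunFldLib.conorm_inf_props hK hdeg hPi (by omega)).2 _
        ((FunFldLib.rat_mem_L_inf hPi).2 ⟨a, rfl, ?_⟩)).1
      rcases eq_or_ne a 0 with h | h
      · exact Or.inl h
      · rw [Polynomial.mem_degreeLT, Polynomial.degree_eq_natDegree h] at ha
        have : a.natDegree < FunFld.genus k K := by exact_mod_cast ha
        exact Or.inr (by omega)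
  have hfrac : ∀ (n : k → ℕ), (∀ α ∈ B, n α ≤ m α) → 2 ≤ ∑ α ∈ B, n α → ∀ a : Polynomial k,
      a.natDegree + 2 ≤ ∑ α ∈ B, n α →
      algebraMap (RatFunc k) K (FunFldLib.polR a / FunFldLib.polR (∏ α ∈ B, (Polynomial.X - Polynomial.C α) ^ n α)) ∈ W := by
    intro n hn _ a ha
    set r : Polynomial k := ∏ α ∈ B, (Polynomial.X - Polynomial.C α) ^ (m α - n α)
    have hqr : q = (∏ α ∈ B, (Polynomial.X - Polynomial.C α) ^ n α) * r := by
      rw [hq_def, ← Finset.prod_mul_distrib]
      exact Finset.prod_congr rfl fun α hα => by rw [← pow_add, Nat.add_sub_cancel' (hn α hα)]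
    refine ⟨a * r, ?_, ?_⟩
    · rcases eq_or_ne (a * r) 0 with h | h
      · rw [h]; exact zero_mem _
      show a * r ∈ Polynomial.degreeLT k _
      rw [Polynomial.mem_degreeLT, Polynomial.degree_eq_natDegree h]
      have h1 := Polynomial.natDegree_mul_le (p := a) (q := r)
      have h2 : r.natDegree = ∑ α ∈ B, (m α - n α) := hpdeg fun α => m α - n α
      have h3 : ∑ α ∈ B, n α + ∑ α ∈ B, (m α - n α) = ∑ α ∈ B, m α := by
        rw [← Finset.sum_add_distrib]
        exact Finset.sum_congr rfl fun α hα => Nat.add_sub_cancel' (hn α hα)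
      exact_mod_cast show (a * r).natDegree < FunFld.genus k K by omega
    · rw [hΦ, hqr]
      congr 1
      have hr0 : FunFldLib.polR r ≠ 0 := by simpa [FunFldLib.polR] using (hmon fun α => m α - n α).ne_zero
      simp only [FunFldLib.polR, map_mul]
      exact mul_div_mul_right _ _ hr0
  set v : {a : ↥B × ℕ // 1 ≤ a.2 ∧ 2 * a.2 + 1 ≤ d (a.1 : k)} ⊕ {b : ↥B // (b : k) ≠ 0} → K := Sum.elim
        (fun a : {a : ↥B × ℕ // 1 ≤ a.2 ∧ 2 * a.2 + 1 ≤ d (a.1 : k)} => algebraMap (RatFunc k) K (((RatFunc.X : RatFunc k) - RatFunc.C (a.1.1 : k))⁻¹ ^ (a.1.2 + 1)))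
        (fun b : {b : ↥B // (b : k) ≠ 0} => algebraMap (RatFunc k) K (RatFunc.C (b.1 : k) / ((RatFunc.X : RatFunc k) * ((RatFunc.X : RatFunc k) - RatFunc.C (b.1 : k))))) with hv
  have hmem : ∀ i, v i ∈ W := by
    rintro (⟨⟨⟨α, hα⟩, j⟩, hj1, hj2⟩ | ⟨⟨β, hβ⟩, hβ0⟩)
    · simp only at hj1 hj2
      have hsum : ∑ γ ∈ B, Function.update (fun _ => 0) α (j + 1) γ = j + 1 := by
        rw [Finset.sum_update_of_mem hα]; simp
      have h := hfrac (Function.update (fun _ => 0) α (j + 1)) (fun γ _ => by
          by_cases hγ : γ = α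
          · subst hγ; simp [m]; omega
          · simp [hγ]) (by rw [hsum]; omega) 1 (by rw [hsum, Polynomial.natDegree_one]; omega)
      rw [Finset.prod_eq_single_of_mem α hα (fun γ _ hne => by simp [hne])] at h
      simp only [hv, Sum.elim_inl]
      convert h using 2
      simp [FunFldLib.polR]
    · have h0B : (0 : k) ∈ B := h0
      have hsum : ∑ γ ∈ B, (if γ = 0 ∨ γ = β then 1 else 0 : ℕ) = 2 := by
        rw [Finset.sum_boole, show B.filter (fun γ => γ = 0 ∨ γ = β) = {0, β} by
          ext γ; simp only [Finset.mem_filter, Finset.mem_insert, Finset.mem_singleton]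
          exact ⟨fun h => h.2, fun h => ⟨by rcases h with rfl | rfl <;> assumption, h⟩⟩]
        simp [Ne.symm hβ0]
      have h := hfrac (fun γ => if γ = 0 ∨ γ = β then 1 else 0) (fun γ hγ => by
          have := hm1 γ hγ; split_ifs <;> omega) (by rw [hsum]) (Polynomial.C β)
        (by rw [hsum, Polynomial.natDegree_C])
      rw [show ∏ γ ∈ B, (Polynomial.X - Polynomial.C γ) ^ (if γ = 0 ∨ γ = β then 1 else 0 : ℕ) =
          Polynomial.X * (Polynomial.X - Polynomial.C β) by
        rw [← Finset.prod_subset (show ({0, β} : Finset k) ⊆ B by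
          intro γ hγ; simp only [Finset.mem_insert, Finset.mem_singleton] at hγ
          rcases hγ with rfl | rfl <;> assumption) fun γ _ hγ => by
            simp only [Finset.mem_insert, Finset.mem_singleton] at hγ; simp [hγ]]
        rw [Finset.prod_pair (Ne.symm hβ0)]; simp] at h
      simp only [hv, Sum.elim_inr]
      convert h using 2
      simp [FunFldLib.polR]
  refine ⟨fun i P => (hWmem _).2 (hmem i) P, ?_⟩
  -- the span contains every fraction
  set S := Submodule.span k (Set.range v)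
  have hC : ∀ (c : k) (z : RatFunc k), algebraMap (RatFunc k) K z ∈ S →
      algebraMap (RatFunc k) K (RatFunc.C c * z) ∈ S := fun c z h => by
    rw [map_mul, ← RatFunc.algebraMap_eq_C, ← IsScalarTower.algebraMap_apply, ← Algebra.smul_def]
    exact S.smul_mem c h
  let den : (k → ℕ) → RatFunc k := fun n => FunFldLib.polR (∏ α ∈ B, (Polynomial.X - Polynomial.C α) ^ n α)
  have hden : ∀ n α, α ∈ B → 1 ≤ n α → den n = FunFldLib.lin α * den (Function.update n α (n α - 1)) := by
    intro n α hα hn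
    simp only [den, FunFldLib.lin_eq_polR, FunFldLib.polR, ← map_mul]
    congr 1
    rw [← Finset.mul_prod_erase B _ hα, ← Finset.mul_prod_erase B _ hα, ← mul_assoc, Function.update_self,
      ← pow_succ', Nat.sub_add_cancel hn]
    congr 1
    exact Finset.prod_congr rfl fun γ hγ => by rw [Function.update_of_ne (Finset.ne_of_mem_erase hγ)]
  have hden0 : ∀ n, den n ≠ 0 := fun n =>
    (map_ne_zero_iff _ (RatFunc.algebraMap_injective k)).2 (hmon n).ne_zero
  have key : ∀ (N : ℕ) (n : k → ℕ), (∀ α ∈ B, n α ≤ m α) → 1 ≤ n 0 → ∑ α ∈ B, n α = N → ∀ a : Polynomial k,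
      (a = 0 ∨ a.natDegree + 2 ≤ N) → algebraMap (RatFunc k) K (FunFldLib.polR a / den n) ∈ S := by
    intro N
    induction N using Nat.strong_induction_on with
    | _ N ih =>
      intro n hn hn0 hN a ha
      rcases eq_or_ne a 0 with rfl | ha0
      · simp [FunFldLib.polR]
      have hdeg_a := ha.resolve_left ha0
      -- pick the next elementary form
      obtain ⟨α, hα, hnα, T, hT, hTdeg, e, he, hkeep⟩ : ∃ α ∈ B, 1 ≤ n α ∧ ∃ T : Polynomial k,
          T.eval α ≠ 0 ∧ T.natDegree + 2 ≤ N ∧ ∃ e : RatFunc k, algebraMap (RatFunc k) K e ∈ S ∧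
            e * den n = FunFldLib.polR T ∧ 1 ≤ Function.update n α (n α - 1) 0 := by
        by_cases hbig : ∃ α ∈ B, 2 ≤ n α
        · obtain ⟨α, hα, h2⟩ := hbig
          refine ⟨α, hα, by omega, ∏ γ ∈ B.erase α, (Polynomial.X - Polynomial.C γ) ^ n γ, ?_, ?_,
            (FunFldLib.lin α)⁻¹ ^ n α, ?_, ?_, ?_⟩
          · rw [Polynomial.eval_prod, Finset.prod_ne_zero_iff]
            intro γ hγ
            rw [Polynomial.eval_pow, Polynomial.eval_sub, Polynomial.eval_X, Polynomial.eval_C]
            exact pow_ne_zero _ (sub_ne_zero.2 (Finset.ne_of_mem_erase hγ).symm)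
          · rw [Polynomial.natDegree_prod_of_monic _ _ fun γ _ => (Polynomial.monic_X_sub_C γ).pow _,
              ← hN, ← Finset.add_sum_erase B n hα, Finset.sum_congr rfl fun γ _ => show
                ((Polynomial.X - Polynomial.C γ) ^ n γ).natDegree = n γ by
                rw [Polynomial.natDegree_pow, Polynomial.natDegree_X_sub_C, mul_one]]
            have hh : (B.erase α).sum n = ∑ x ∈ B.erase α, n x := rfl
            omega
          · refine Submodule.subset_span ⟨Sum.inl ⟨(⟨α, hα⟩, n α - 1), by show 1 ≤ n α - 1; omega, ?_⟩, ?_⟩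
            · show 2 * (n α - 1) + 1 ≤ d α
              have := hn α hα; obtain ⟨t, ht⟩ := hd α hα; simp only [m] at this; omega
            · simp only [hv, Sum.elim_inl, Nat.sub_add_cancel (show 1 ≤ n α by omega)]; rfl
          · simp only [den, FunFldLib.lin_eq_polR, FunFldLib.polR]
            rw [← Finset.mul_prod_erase B _ hα, map_mul, map_pow, inv_pow, inv_mul_cancel_left₀]
            exact pow_ne_zero _ ((map_ne_zero_iff _ (RatFunc.algebraMap_injective k)).2 (Polynomial.X_sub_C_ne_zero α))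
          · by_cases h : (0 : k) = α
            · subst h; simp; omega
            · rw [Function.update_of_ne h]; exact hn0
        · push Not at hbig
          have h01 : n 0 = 1 := by have := hbig 0 h0; omega
          obtain ⟨β, hβ, hβ0⟩ : ∃ β ∈ B.erase 0, n β ≠ 0 := by
            by_contra! hz
            rw [← Finset.add_sum_erase B n h0, Finset.sum_eq_zero hz, h01] at hN
            omega
          obtain ⟨hβne, hβB⟩ := Finset.mem_erase.1 hβ
          have hβ1 : n β = 1 := by have := hbig β hβB; omega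
          set T' := ∏ γ ∈ (B.erase 0).erase β, (Polynomial.X - Polynomial.C γ) ^ n γ
          refine ⟨β, hβB, by omega, Polynomial.C β * T', ?_, ?_,
            RatFunc.C β / (RatFunc.X * (RatFunc.X - RatFunc.C β)), ?_, ?_, ?_⟩
          · rw [Polynomial.eval_mul, Polynomial.eval_C, Polynomial.eval_prod]
            refine mul_ne_zero hβne (Finset.prod_ne_zero_iff.2 fun γ hγ => ?_)
            rw [Polynomial.eval_pow, Polynomial.eval_sub, Polynomial.eval_X, Polynomial.eval_C]
            exact pow_ne_zero _ (sub_ne_zero.2 (Finset.ne_of_mem_erase hγ).symm)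
          · rw [← Finset.add_sum_erase B n h0, ← Finset.add_sum_erase _ n hβ, h01, hβ1] at hN
            refine le_trans (Nat.add_le_add_right (Polynomial.natDegree_C_mul_le _ _) 2) ?_
            rw [Polynomial.natDegree_prod_of_monic _ _ fun γ _ => (Polynomial.monic_X_sub_C γ).pow _,
              Finset.sum_congr rfl fun γ _ => show ((Polynomial.X - Polynomial.C γ) ^ n γ).natDegree = n γ by
                rw [Polynomial.natDegree_pow, Polynomial.natDegree_X_sub_C, mul_one]]
            have hh : ((B.erase 0).erase β).sum n = ∑ x ∈ (B.erase 0).erase β, n x := rfl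
            omega
          · exact Submodule.subset_span ⟨Sum.inr ⟨⟨β, hβB⟩, hβne⟩, rfl⟩
          · simp only [den, FunFldLib.polR]
            rw [← Finset.mul_prod_erase B _ h0, ← Finset.mul_prod_erase _ _ hβ, h01, hβ1]
            simp only [map_mul, map_pow, map_sub, RatFunc.algebraMap_X, RatFunc.algebraMap_C, map_zero, sub_zero,
              pow_one]
            have hb' : (RatFunc.X : RatFunc k) - RatFunc.C β ≠ 0 := FunFldLib.lin_ne_zero β
            have hX' : (RatFunc.X : RatFunc k) ≠ 0 := RatFunc.X_ne_zero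
            field_simp
            rfl
          · rw [Function.update_of_ne (Ne.symm hβne)]; exact hn0
      obtain ⟨hkeep, hn0'⟩ := hkeep
      set c := a.eval α / T.eval α
      obtain ⟨a', ha'⟩ := Polynomial.dvd_iff_isRoot.2 (show (a - Polynomial.C c * T).IsRoot α by
        simp [c, div_mul_cancel₀ _ hT])
      set n' := Function.update n α (n α - 1)
      have hsum : ∑ γ ∈ B, n' γ = N - 1 := by
        rw [Finset.sum_update_of_mem hα, ← hN, ← Finset.add_sum_erase B n hα, Finset.sdiff_singleton_eq_erase]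
        omega
      have hdecomp : FunFldLib.polR a / den n = RatFunc.C c * e + FunFldLib.polR a' / den n' := by
        have h1 : FunFldLib.polR a = RatFunc.C c * FunFldLib.polR T + FunFldLib.lin α * FunFldLib.polR a' := by
          rw [FunFldLib.lin_eq_polR]
          simp only [FunFldLib.polR, ← RatFunc.algebraMap_C, ← map_mul, ← map_add]
          congr 1
          rw [← ha']; ring
        rw [h1, ← hkeep, hden n α hα hnα, show Function.update n α (n α - 1) = n' from rfl]
        have := hden0 n'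
        have := FunFldLib.lin_ne_zero α
        field_simp
      rw [hdecomp, map_add]
      refine S.add_mem (hC _ _ he) (ih (N - 1) (by omega) n' (fun γ hγ => ?_) hn0' hsum a' ?_)
      · by_cases h : γ = α
        · subst h; simp [n']; have := hn γ hγ; omega
        · simp [n', h, hn γ hγ]
      · rcases eq_or_ne a' 0 with h | h
        · exact Or.inl h
        refine Or.inr ?_
        have h2 := congrArg Polynomial.natDegree ha'
        rw [Polynomial.natDegree_mul (Polynomial.X_sub_C_ne_zero α) h, Polynomial.natDegree_X_sub_C] at h2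
        have h3 := Polynomial.natDegree_sub_le a (Polynomial.C c * T)
        have h4 := Polynomial.natDegree_C_mul_le c T
        omega
  have hWS : W ≤ S := by
    rintro _ ⟨a, ha, rfl⟩
    rw [hΦ]
    refine key _ m (fun α _ => le_rfl) (hm1 0 h0) rfl a ?_
    rcases eq_or_ne a 0 with h | h
    · exact Or.inl h
    · rw [SetLike.mem_coe, Polynomial.mem_degreeLT, Polynomial.degree_eq_natDegree h] at ha
      have : a.natDegree < FunFld.genus k K := by exact_mod_cast ha
      exact Or.inr (by have hh : B.sum m = ∑ x ∈ B, m x := rfl; omega)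
  refine ⟨?_, fun z hz => hWS ((hWmem z).1 hz)⟩
  have : Finite {a : ↥B × ℕ // 1 ≤ a.2 ∧ 2 * a.2 + 1 ≤ d (a.1 : k)} := by
    refine Finite.of_injective
      (fun a => (⟨a.1.1, ⟨a.1.2, by have := a.2.2; omega⟩⟩ : Σ α : ↥B, Fin (d (α : k) + 1))) fun a b h => ?_
    simp only [Sigma.mk.injEq] at h
    obtain ⟨h1, h2⟩ := h
    refine Subtype.ext (Prod.ext h1 ?_)
    exact (Fin.heq_ext_iff (by rw [h1])).1 h2
  letI := Fintype.ofFinite {a : ↥B × ℕ // 1 ≤ a.2 ∧ 2 * a.2 + 1 ≤ d (a.1 : k)}
  have hSW : S = W := le_antisymm (Submodule.span_le.2 (by rintro _ ⟨i, rfl⟩; exact hmem i)) hWS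
  rw [linearIndependent_iff_card_eq_finrank_span, Set.finrank,
    show Submodule.span k (Set.range v) = W from hSW, hW,
    LinearEquiv.finrank_eq (Submodule.equivMapOfInjective Φ hΦinj _).symm,
    LinearEquiv.finrank_eq (Polynomial.degreeLTEquiv k _), Module.finrank_fin_fun, Fintype.card_sum]
  have hA : Fintype.card {a : ↥B × ℕ // 1 ≤ a.2 ∧ 2 * a.2 + 1 ≤ d (a.1 : k)} = ∑ α : ↥B, (m α - 1) := by
    let E : {a : ↥B × ℕ // 1 ≤ a.2 ∧ 2 * a.2 + 1 ≤ d (a.1 : k)} ≃ Σ α : ↥B, Fin (m α - 1) :=
      { toFun := fun a => ⟨a.1.1, ⟨a.1.2 - 1, by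
          have := a.2.1; have := a.2.2; simp only [m]; omega⟩⟩
        invFun := fun s => ⟨(s.1, s.2.1 + 1), by omega, by
          have := s.2.2; simp only [m] at this; obtain ⟨t, ht⟩ := hd _ s.1.2; show 2 * (s.2.1 + 1) + 1 ≤ d s.1; omega⟩
        left_inv := fun a => by
          have := a.2.1
          exact Subtype.ext (Prod.ext rfl (by simp; omega))
        right_inv := fun s => by simp }
    rw [Fintype.card_congr E, Fintype.card_sigma]; simp
  have hB : Fintype.card {b : ↥B // (b : k) ≠ 0} = B.card - 1 := by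
    rw [Fintype.card_subtype_compl (fun b : ↥B => (b : k) = 0), Fintype.card_coe]
    congr 1
    rw [Fintype.card_eq_one_iff]
    exact ⟨⟨⟨0, h0⟩, rfl⟩, fun b => Subtype.ext (Subtype.ext b.2)⟩
  rw [hA, hB, Finset.sum_coe_sort B fun α => m α - 1]
  have h1 : ∑ α ∈ B, (m α - 1) + B.card = ∑ α ∈ B, m α := by
    rw [Finset.card_eq_sum_ones, ← Finset.sum_add_distrib]
    exact Finset.sum_congr rfl fun α hα => Nat.sub_add_cancel (hm1 α hα)
  have h2 : 1 ≤ B.card := Finset.card_pos.2 ⟨0, h0⟩
  omega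

end Groth.Agent.S19044
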