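import Groth.Statements.S19045
import Groth.Agent.FunFld.ASPartial
-- import your own Groth.Agent.* helpers here

set_option autoImplicit false
universe u v
open FunFld

namespace Groth.Agent.S19045

/-- Let `k` be algebraically closed of characteristic `2` and `K = k(x, y)` with `y² + y = f(x)`, `K`
separable of degree `2` over `k(x)`; let `B ⊆ k` be a finite set containing `0` such that `f` has a
pole of odd order `d_β` at `x = β` for every `β ∈ B` and is integral at all other places of `k(x)`.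
Then `y` is integral at the places of `K` above `x = ∞` and has order `0` at one of them, and for `α
∈ B` and `j ∈ ℤ` the divisor of poles of `y (x - α)^j` consists of: order `max(d_α - 2j, 0)` at the
place above `α`, order exactly `d_β` above every other `β ∈ B`, order `max(j - ord_P y, 0)` at each
place `P` above `∞`, and nothing elsewhere. -/
theorem result (k : Type u) (K : Type v)
    [Field k] [IsAlgClosed k] [CharP k 2] [Field K] [Algebra k K] [Algebra (RatFunc k) K] [IsScalarTower k (RatFunc k) K]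
    (hK : FunFld.IsFunctionField k K) (hdeg : Module.finrank (RatFunc k) K = 2) [Algebra.IsSeparable (RatFunc k) K]
    (y : K) (hy : y ∉ Set.range (algebraMap (RatFunc k) K)) (f : RatFunc k)
    (heq : y ^ 2 + y = algebraMap (RatFunc k) K f)
    (B : Finset k) (h0 : (0 : k) ∈ B) (d : k → ℕ) (hd : ∀ β ∈ B, Odd (d β))
    (hpole : ∀ (p : FunFld.Place k (RatFunc k)) (β : k), β ∈ B →
      p.1 ((RatFunc.X : RatFunc k) - RatFunc.C β) < 1 → p.ord f = -(d β : ℤ))
    (hint : ∀ p : FunFld.Place k (RatFunc k), (∀ β ∈ B, 1 ≤ p.1 ((RatFunc.X : RatFunc k) - RatFunc.C β)) → p.1 f ≤ 1) :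
    (∀ P : FunFld.Place k K, 1 < P.1 (algebraMap (RatFunc k) K RatFunc.X) → 0 ≤ P.ord y) ∧
    (∃ P : FunFld.Place k K, 1 < P.1 (algebraMap (RatFunc k) K RatFunc.X) ∧ P.ord y = 0) ∧
    ∀ (α : k), α ∈ B → ∀ (j : ℤ) (P : FunFld.Place k K),
      (P.1 ((algebraMap (RatFunc k) K RatFunc.X) - (algebraMap k K α)) < 1 →
        max (-(P.ord (y * ((algebraMap (RatFunc k) K RatFunc.X) - (algebraMap k K α)) ^ j))) 0 = max ((d α : ℤ) - 2 * j) 0) ∧
      (∀ β : k, β ∈ B → β ≠ α → P.1 ((algebraMap (RatFunc k) K RatFunc.X) - (algebraMap k K β)) < 1 →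
        P.ord (y * ((algebraMap (RatFunc k) K RatFunc.X) - (algebraMap k K α)) ^ j) = -(d β : ℤ)) ∧
      (1 < P.1 (algebraMap (RatFunc k) K RatFunc.X) → max (-(P.ord (y * ((algebraMap (RatFunc k) K RatFunc.X) - (algebraMap k K α)) ^ j))) 0 = max (j - P.ord y) 0) ∧
      (P.1 (algebraMap (RatFunc k) K RatFunc.X) ≤ 1 → (∀ β : k, β ∈ B → 1 ≤ P.1 ((algebraMap (RatFunc k) K RatFunc.X) - (algebraMap k K β))) → 0 ≤ P.ord (y * ((algebraMap (RatFunc k) K RatFunc.X) - (algebraMap k K α)) ^ j)) := by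
  have : FiniteDimensional (RatFunc k) K := Module.finite_of_finrank_pos (by rw [hdeg]; exact two_pos)
  have hF := FunFldLib.isFunctionField_ratFunc (k := k)
  have hy0 : y ≠ 0 := fun h => hy ⟨0, by rw [map_zero, h]⟩
  have hinf : ∀ P : Place k (RatFunc k), 1 < P.1 RatFunc.X → P.1 f ≤ 1 := fun P hP => hint P fun α _ => by
    change (1 : WithZero (Multiplicative ℤ)) ≤ P.1 (FunFldLib.lin α)
    rw [FunFldLib.rat_val_lin_inf hP, ← WithZero.exp_zero, WithZero.exp_le_exp]; norm_num
  have habove : ∀ P : Place k K, 1 < P.1 (algebraMap (RatFunc k) K RatFunc.X) →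
      1 < (FunFldLib.below (K := RatFunc k) P).1 RatFunc.X := fun P hP => by
    obtain ⟨e, he⟩ := FunFldLib.isOver_below (K := RatFunc k) P
    rw [he] at hP
    by_contra h
    exact absurd hP (not_lt.2 (pow_le_one₀ zero_le (not_lt.1 h)))
  refine ⟨fun P hP => ?_, ?_, fun α hα j P => ?_⟩
  · exact (FunFldLib.val_le_one_iff P hy0).1
      (FunFldLib.as_y_le_one heq (hinf _ (habove P hP)) (FunFldLib.isOver_below P))
  · obtain ⟨Pi, hPi⟩ := FunFldLib.rat_exists_inf (k := k)
    by_contra! h
    have hall : FunFldLib.IntAbove Pi (algebraMap (RatFunc k) K 0 + algebraMap (RatFunc k) K RatFunc.X * y) := by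
      intro Q hQ
      have he := FunFldLib.as_unramified hF hdeg hy heq (hinf Pi hPi) hQ
      have hX : Q.1 (algebraMap (RatFunc k) K RatFunc.X) = WithZero.exp 1 := by
        rw [he, pow_one, FunFldLib.rat_val_X_inf Pi hPi]
      have hQX : 1 < Q.1 (algebraMap (RatFunc k) K RatFunc.X) := by
        rw [hX, ← WithZero.exp_zero, WithZero.exp_lt_exp]; norm_num
      have h1 := h Q hQX
      have h2 := (FunFldLib.val_le_one_iff Q hy0).1 (FunFldLib.as_y_le_one heq (hinf Pi hPi) hQ)
      rw [map_zero, zero_add, map_mul, hX, FunFldLib.val_eq_exp Q hy0, ← WithZero.exp_add, ← WithZero.exp_zero,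
        WithZero.exp_le_exp]
      omega
    have h3 := ((FunFldLib.as_intAbove_iff hdeg hy heq Pi 0 (Or.inl ⟨by
      rcases eq_or_ne f 0 with hf | hf
      · simp [hf]
      exact (FunFldLib.val_le_one_iff Pi hf).1 (hinf Pi hPi), rfl⟩) _ _).1 hall).2
    rw [FunFldLib.rat_val_X_inf Pi hPi, WithZero.exp_le_exp] at h3
    omega
  · set P₀ := FunFldLib.below (K := RatFunc k) P
    have hQ : FunFld.IsOver P P₀ := FunFldLib.isOver_below P
    obtain ⟨e, he⟩ := hQ
    have he1 := FunFldLib.isOverWith_pos he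
    have hlin : ∀ β : k, P.1 ((algebraMap (RatFunc k) K RatFunc.X) - algebraMap k K β) =
        P₀.1 (FunFldLib.lin β) ^ e := fun β => by rw [← FunFldLib.algebraMap_lin, he]
    have hs0 : ∀ β : k, (algebraMap (RatFunc k) K RatFunc.X) - algebraMap k K β ≠ 0 := fun β => by
      rw [← FunFldLib.algebraMap_lin]; simpa using FunFldLib.lin_ne_zero β
    have hord : P.ord (y * ((algebraMap (RatFunc k) K RatFunc.X) - algebraMap k K α) ^ j) =
        P.ord y + j * P.ord ((algebraMap (RatFunc k) K RatFunc.X) - algebraMap k K α) := by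
      rw [FunFldLib.ord_mul P hy0 (zpow_ne_zero _ (hs0 α)), FunFldLib.ord_zpow]
    have hlt : ∀ β, P.1 ((algebraMap (RatFunc k) K RatFunc.X) - algebraMap k K β) < 1 →
        P₀.1 (FunFldLib.lin β) < 1 := fun β h => by
      rw [hlin] at h
      exact (pow_lt_one_iff_of_nonneg zero_le he1.ne').1 h
    have hram : ∀ β ∈ B, P₀.1 (FunFldLib.lin β) < 1 → P.ord y = -(d β : ℤ) ∧ e = 2 := fun β hβ h => by
      have hpo := hpole P₀ β hβ h
      obtain ⟨m, hm⟩ := hd β hβ
      have hr := (FunFldLib.as_ramified hF hdeg heq (by rw [hpo]; omega)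
        (by rw [hpo, odd_neg]; exact ⟨m, by omega⟩)).2 P ⟨e, he⟩
      exact ⟨hr.2.2.trans hpo, (FunFldLib.isOverWith_unique he hr.1).2⟩
    refine ⟨fun h => ?_, fun β hβ hne h => ?_, fun h => ?_, fun h hall => ?_⟩
    · obtain ⟨h1, h2⟩ := hram α hα (hlt α h)
      rw [hord, h1, FunFldLib.ord_eq_of_val P (n := -2) (by
        rw [hlin, h2, FunFldLib.rat_val_lin_self (hlt α h), ← WithZero.exp_nsmul]; simp)]
      congr 1; ring
    · obtain ⟨h1, -⟩ := hram β hβ (hlt β h)
      rw [hord, h1, FunFldLib.ord_eq_of_val P (n := 0) (by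
        rw [hlin, FunFldLib.rat_val_lin_other (hlt β h) hne.symm, one_pow, WithZero.exp_zero])]
      ring
    · have hX := habove P h
      have e1 : e = 1 := (FunFldLib.isOverWith_unique he
        (FunFldLib.as_unramified hF hdeg hy heq (hinf P₀ hX) ⟨e, he⟩)).2
      rw [hord, FunFldLib.ord_eq_of_val P (n := 1) (x := (algebraMap (RatFunc k) K RatFunc.X) - algebraMap k K α) (by rw [hlin, FunFldLib.rat_val_lin_inf hX, e1, pow_one])]
      congr 1; ring
    · have hX : P₀.1 RatFunc.X ≤ 1 := by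
        rw [he] at h
        exact (pow_le_one_iff_of_nonneg zero_le he1.ne').1 h
      have hone : ∀ β ∈ B, 1 ≤ P₀.1 (FunFldLib.lin β) := fun β hβ => by
        have := hall β hβ
        rw [hlin] at this
        exact (one_le_pow_iff_of_nonneg zero_le he1.ne').1 this
      have h0' : P₀.1 (FunFldLib.lin α) = 1 := le_antisymm
        (by rw [FunFldLib.lin_eq_polR]; exact FunFldLib.rat_val_pol_le_one P₀ hX _) (hone α hα)
      have h1 := (FunFldLib.val_le_one_iff P hy0).1 (FunFldLib.as_y_le_one heq (hint P₀ hone) ⟨e, he⟩)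
      rw [hord, FunFldLib.ord_eq_of_val P (n := 0) (x := (algebraMap (RatFunc k) K RatFunc.X) - algebraMap k K α) (by rw [hlin, h0', one_pow, WithZero.exp_zero])]
      simpa using h1

end Groth.Agent.S19045
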