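import Groth.Statements.S19046
import Groth.Agent.FunFld.ASCech
-- import your own Groth.Agent.* helpers here

set_option autoImplicit false
universe u v
open Classical
open FunFld

namespace Groth.Agent.S19046

/-- Let `k` be algebraically closed of characteristic `2`, `K = k(x, y)` with `y² + y = f(x)` separable
of degree `2` over `k(x)`, `B ⊆ k` a finite set containing `0` with `f` having a pole of odd order
`d_β` at `x = β` for `β ∈ B` and integral elsewhere, `c_β = (d_β - 1)/2`, and `P_β` a place of `K`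
above `x = β`. Identify `H¹(X, O)` of the smooth projective model with the repartitions (adeles with
components in `K`) modulo `W = A(0) + K` (everywhere-integral repartitions plus constants), a Čech
class with defining component `h` at `β` corresponding to the repartition with component `h` at
`P_β` and `0` elsewhere. Then the repartitions supported at `P_α` with value `y (x - α)^j` (`α ∈ B`,
`1 ≤ j ≤ c_α`) and with value `y` (`α ∈ B`, `α ≠ 0`) are adeles whose classes modulo `W` are
linearly independent over `k` and, together with `W`, span the adeles: they give a basis of `H¹(X,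
O)`. -/
theorem result (k : Type u) (K : Type v)
    [Field k] [IsAlgClosed k] [CharP k 2] [Field K] [Algebra k K] [Algebra (RatFunc k) K] [IsScalarTower k (RatFunc k) K]
    (hK : FunFld.IsFunctionField k K) (hdeg : Module.finrank (RatFunc k) K = 2) [Algebra.IsSeparable (RatFunc k) K]
    (y : K) (hy : y ∉ Set.range (algebraMap (RatFunc k) K)) (f : RatFunc k)
    (heq : y ^ 2 + y = algebraMap (RatFunc k) K f)
    (B : Finset k) (h0 : (0 : k) ∈ B) (d : k → ℕ) (hd : ∀ β ∈ B, Odd (d β))
    (hpole : ∀ (p : FunFld.Place k (RatFunc k)) (β : k), β ∈ B →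
      p.1 ((RatFunc.X : RatFunc k) - RatFunc.C β) < 1 → p.ord f = -(d β : ℤ))
    (hint : ∀ p : FunFld.Place k (RatFunc k), (∀ β ∈ B, 1 ≤ p.1 ((RatFunc.X : RatFunc k) - RatFunc.C β)) → p.1 f ≤ 1)
    (Pl : k → FunFld.Place k K) (hPl : ∀ β ∈ B, (Pl β).1 ((algebraMap (RatFunc k) K RatFunc.X) - (algebraMap k K β)) < 1) :
    (∀ i, (Sum.elim
        (fun a : {a : ↥B × ℕ // 1 ≤ a.2 ∧ 2 * a.2 + 1 ≤ d (a.1 : k)} =>
          (Pi.single (Pl (a.1.1 : k)) (y * ((algebraMap (RatFunc k) K RatFunc.X) - (algebraMap k K (a.1.1 : k))) ^ a.1.2) : FunFld.Place k K → K))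
        (fun b : {b : ↥B // (b : k) ≠ 0} => (Pi.single (Pl (b.1 : k)) y : FunFld.Place k K → K))) i ∈ FunFld.adele k K) ∧
    LinearIndependent k (fun i => Submodule.mkQ (FunFld.AD (0 : FunFld.Divisor k K) ⊔ LinearMap.range (FunFld.diag k K)) ((Sum.elim
        (fun a : {a : ↥B × ℕ // 1 ≤ a.2 ∧ 2 * a.2 + 1 ≤ d (a.1 : k)} =>
          (Pi.single (Pl (a.1.1 : k)) (y * ((algebraMap (RatFunc k) K RatFunc.X) - (algebraMap k K (a.1.1 : k))) ^ a.1.2) : FunFld.Place k K → K))
        (fun b : {b : ↥B // (b : k) ≠ 0} => (Pi.single (Pl (b.1 : k)) y : FunFld.Place k K → K))) i)) ∧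
    ∀ a : FunFld.Place k K → K, a ∈ FunFld.adele k K →
      a ∈ (FunFld.AD (0 : FunFld.Divisor k K) ⊔ LinearMap.range (FunFld.diag k K)) ⊔ Submodule.span k (Set.range (Sum.elim
        (fun a : {a : ↥B × ℕ // 1 ≤ a.2 ∧ 2 * a.2 + 1 ≤ d (a.1 : k)} =>
          (Pi.single (Pl (a.1.1 : k)) (y * ((algebraMap (RatFunc k) K RatFunc.X) - (algebraMap k K (a.1.1 : k))) ^ a.1.2) : FunFld.Place k K → K))
        (fun b : {b : ↥B // (b : k) ≠ 0} => (Pi.single (Pl (b.1 : k)) y : FunFld.Place k K → K)))) := by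
  have : FiniteDimensional (RatFunc k) K := Module.finite_of_finrank_pos (by rw [hdeg]; exact two_pos)
  obtain ⟨D, hD, hDα, hD0, -, hDdeg⟩ := FunFldLib.as_partial_data hd hpole hint
  set m : k → ℕ := fun α => (d α + 1) / 2 with hm_def
  have hm1 : ∀ α ∈ B, 1 ≤ m α := fun α hα => by obtain ⟨t, ht⟩ := hd α hα; show 1 ≤ (d α + 1) / 2; omega
  set W := FunFld.AD (0 : FunFld.Divisor k K) ⊔ LinearMap.range (FunFld.diag k K) with hWdef
  set v : {a : ↥B × ℕ // 1 ≤ a.2 ∧ 2 * a.2 + 1 ≤ d (a.1 : k)} ⊕ {b : ↥B // (b : k) ≠ 0} → (FunFld.Place k K → K) := Sum.elim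
        (fun a : {a : ↥B × ℕ // 1 ≤ a.2 ∧ 2 * a.2 + 1 ≤ d (a.1 : k)} =>
          (Pi.single (Pl (a.1.1 : k)) (y * ((algebraMap (RatFunc k) K RatFunc.X) - (algebraMap k K (a.1.1 : k))) ^ a.1.2) : FunFld.Place k K → K))
        (fun b : {b : ↥B // (b : k) ≠ 0} => (Pi.single (Pl (b.1 : k)) y : FunFld.Place k K → K)) with hv
  set pt : {a : ↥B × ℕ // 1 ≤ a.2 ∧ 2 * a.2 + 1 ≤ d (a.1 : k)} ⊕ {b : ↥B // (b : k) ≠ 0} → k :=
    Sum.elim (fun a => (a.1.1 : k)) (fun b => (b.1 : k)) with hpt
  set ex : {a : ↥B × ℕ // 1 ≤ a.2 ∧ 2 * a.2 + 1 ≤ d (a.1 : k)} ⊕ {b : ↥B // (b : k) ≠ 0} → ℕ :=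
    Sum.elim (fun a => a.1.2) (fun _ => 0) with hex
  have hptB : ∀ i, pt i ∈ B := by rintro (a | b); exacts [a.1.1.2, b.1.2]
  have hvi : ∀ i, v i = Pi.single (Pl (pt i)) (y * algebraMap (RatFunc k) K (FunFldLib.lin (pt i) ^ ex i)) := by
    rintro (a | b)
    · simp only [hv, hpt, hex, Sum.elim_inl, map_pow, FunFldLib.algebraMap_lin]
    · simp only [hv, hpt, hex, Sum.elim_inr, pow_zero, map_one, mul_one]
  have hexm : ∀ i, ex i < m (pt i) := by
    rintro (a | b)
    · have := a.2.2; simp only [hpt, hex, hm_def, Sum.elim_inl]; omega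
    · exact hm1 _ b.1.2
  have hinj : ∀ i i', pt i = pt i' → ex i = ex i' → i = i' := by
    rintro (⟨a, ha1, ha2⟩ | b) (⟨a', ha1', ha2'⟩ | b') h1 h2
    · exact congrArg Sum.inl (Subtype.ext (Prod.ext (Subtype.ext h1) h2))
    · simp only [hex, Sum.elim_inl, Sum.elim_inr] at h2; omega
    · simp only [hex, Sum.elim_inl, Sum.elim_inr] at h2; omega
    · exact congrArg Sum.inr (Subtype.ext (Subtype.ext h1))
  have hzero : ∀ i, pt i = 0 → 1 ≤ ex i := by
    rintro (a | b) h
    · exact a.2.1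
    · exact absurd h b.2
  have hover : ∀ α ∈ B, ∃ P : Place k (RatFunc k), P.1 (FunFldLib.lin α) < 1 ∧ IsOverWith (Pl α) P 2 ∧
      (∀ R : Place k K, IsOver R P → R = Pl α) ∧ (Pl α).ord y = -(d α : ℤ) := fun α hα =>
    FunFldLib.as_place_over hdeg heq hd hpole hα (hPl α hα)
  have hPlinj : ∀ α ∈ B, ∀ β ∈ B, Pl α = Pl β → α = β := fun α hα β hβ h => by
    by_contra hne
    obtain ⟨P, hP, hPo, -, -⟩ := hover α hα
    obtain ⟨P', hP', hPo', -, -⟩ := hover β hβ
    have := (FunFldLib.isOverWith_unique hPo (h ▸ hPo')).1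
    rw [this, FunFldLib.rat_val_lin_other hP' hne] at hP
    exact lt_irrefl _ hP
  have hadele : ∀ i, v i ∈ FunFld.adele k K := fun i => by
    show ∀ᶠ P : Place k K in Filter.cofinite, P.1 (v i P) ≤ 1
    rw [Filter.eventually_cofinite]
    refine (Set.finite_singleton (Pl (pt i))).subset fun P hP => ?_
    simp only [Set.mem_setOf_eq] at hP
    by_contra hne
    exact hP (by rw [hvi, Pi.single_eq_of_ne hne, map_zero]; exact zero_le)
  refine ⟨hadele, ?_⟩
  have : Finite {a : ↥B × ℕ // 1 ≤ a.2 ∧ 2 * a.2 + 1 ≤ d (a.1 : k)} := by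
    refine Finite.of_injective
      (fun a => (⟨a.1.1, ⟨a.1.2, by have := a.2.2; omega⟩⟩ : Σ α : ↥B, Fin (d (α : k) + 1))) fun a b h => ?_
    simp only [Sigma.mk.injEq] at h
    obtain ⟨h1, h2⟩ := h
    refine Subtype.ext (Prod.ext h1 ?_)
    exact (Fin.heq_ext_iff (by rw [h1])).1 h2
  let : Fintype {a : ↥B × ℕ // 1 ≤ a.2 ∧ 2 * a.2 + 1 ≤ d (a.1 : k)} := Fintype.ofFinite _
  have hli : ∀ c : _ → k, ∑ i, c i • v i ∈ W → ∀ i, c i = 0 := by
    intro c hc
    obtain ⟨A, hA, _, ⟨z, rfl⟩, hsum⟩ := Submodule.mem_sup.1 hc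
    obtain ⟨a, b, hz⟩ := FunFldLib.quad_repr hdeg hy z
    set h : k → Polynomial k := fun α => ∑ i ∈ Finset.univ.filter (fun i => pt i = α),
      Polynomial.C (c i) * (Polynomial.X - Polynomial.C α) ^ ex i with hh
    have hval : ∀ R, (∑ i, c i • v i) R = A R + z := fun R => by rw [← hsum]; rfl
    have hAint : ∀ R : Place k K, R.1 (A R) ≤ 1 := fun R => by
      have := hA R
      rwa [Finsupp.zero_apply, WithZero.exp_zero] at this
    have hat : ∀ α ∈ B, (∑ i, c i • v i) (Pl α) = y * algebraMap (RatFunc k) K (FunFldLib.polR (h α)) := by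
      intro α hα
      rw [Finset.sum_apply, hh]
      simp only [FunFldLib.polR, map_sum, Finset.mul_sum, Finset.sum_filter]
      refine Finset.sum_congr rfl fun i _ => ?_
      rw [Pi.smul_apply, hvi]
      by_cases hi : pt i = α
      · subst hi
        rw [Pi.single_eq_same, if_pos rfl, map_mul, map_mul, map_pow, map_pow, map_pow, FunFldLib.lin_eq_polR,
          RatFunc.algebraMap_C, ← RatFunc.algebraMap_eq_C, ← IsScalarTower.algebraMap_apply k (RatFunc k) K, Algebra.smul_def,
          FunFldLib.polR]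
        ring
      · rw [Pi.single_eq_of_ne (fun he => hi (hPlinj α hα _ (hptB i) he).symm), smul_zero, if_neg hi]
        simp
    have hoff : ∀ R, (∀ α ∈ B, R ≠ Pl α) → (∑ i, c i • v i) R = 0 := fun R hR => by
      rw [Finset.sum_apply]
      refine Finset.sum_eq_zero fun i _ => ?_
      rw [Pi.smul_apply, hvi, Pi.single_eq_of_ne (hR _ (hptB i)), smul_zero]
    have hpl : ∀ α ∈ B, ∀ P : Place k (RatFunc k), P.1 (FunFldLib.lin α) < 1 →
        P.1 (b - FunFldLib.polR (h α)) ≤ WithZero.exp (-(m α : ℤ)) := by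
      intro α hα P hP
      obtain ⟨P', hP', hPo, huniq, -⟩ := hover α hα
      obtain rfl := FunFldLib.rat_lin_place_unique hP' hP
      refine (((FunFldLib.as_intAbove_iff hdeg hy heq P' (D P') (hD P') a (b - FunFldLib.polR (h α))).1 ?_).2).trans_eq
        (by rw [hDα P' α hα hP])
      intro R hR
      rw [huniq R hR]
      have e : algebraMap (RatFunc k) K a + algebraMap (RatFunc k) K (b - FunFldLib.polR (h α)) * y = -A (Pl α) := by
        have h1 := (hval (Pl α)).symm.trans (hat α hα)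
        rw [map_sub]
        linear_combination h1 - hz
      rw [e, Valuation.map_neg]
      exact hAint _
    have hb : ∀ P : Place k (RatFunc k), P.1 b ≤ 1 := fun P => by
      by_cases hP : ∃ α ∈ B, P.1 (FunFldLib.lin α) < 1
      · obtain ⟨α, hα, hlt⟩ := hP
        have h1 := (hpl α hα P hlt).trans (show WithZero.exp (-(m α : ℤ)) ≤ 1 by
          rw [← WithZero.exp_zero, WithZero.exp_le_exp]; omega)
        have h2 := FunFldLib.rat_val_pol_le_one P (FunFldLib.rat_X_le_of_lin hlt) (h α)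
        have := (P.1.map_add _ _).trans (max_le h1 h2)
        rwa [sub_add_cancel] at this
      · push Not at hP
        have h1 := ((FunFldLib.as_intAbove_iff hdeg hy heq P (D P) (hD P) a b).1 fun R hR => ?_).2
        · rwa [hD0 P hP, neg_zero, WithZero.exp_zero] at h1
        rw [← hz]
        have h2 := hval R
        rw [hoff R fun α hα he => by
          obtain ⟨P', hP', hPo, -, -⟩ := hover α hα
          rw [he] at hR
          obtain ⟨e, he'⟩ := hR
          obtain rfl := (FunFldLib.isOverWith_unique hPo he').1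
          exact absurd hP' (not_lt.2 (hP α hα))] at h2
        rw [show z = -A R from (neg_eq_of_add_eq_zero_right h2.symm).symm, Valuation.map_neg]
        exact hAint R
    obtain ⟨Pi, hPi⟩ := FunFldLib.rat_exists_inf (k := k)
    obtain ⟨q0, hbq, hq0⟩ := (FunFldLib.rat_mem_L_inf hPi (n := 0)).1 fun P => by
      rcases eq_or_ne P Pi with rfl | hne
      · rw [Finsupp.single_eq_same, WithZero.exp_zero]; exact hb P
      · rw [Finsupp.single_eq_of_ne hne, WithZero.exp_zero]; exact hb P
    obtain ⟨b0, rfl⟩ : ∃ b0, q0 = Polynomial.C b0 := by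
      rcases hq0 with hq0 | hq0
      · exact ⟨0, by rw [hq0, map_zero]⟩
      · exact ⟨_, Polynomial.eq_C_of_natDegree_eq_zero (by omega)⟩
    have hheq : ∀ α ∈ B, h α = Polynomial.C b0 := fun α hα => by
      obtain ⟨P, hP, -, -, -⟩ := hover α hα
      refine (sub_eq_zero.1 (FunFldLib.rat_pol_eq_zero_of_val hP (m := m α) ?_ (Or.inr ?_))).symm
      · rw [FunFldLib.polR, map_sub]
        have := hpl α hα P hP
        rwa [hbq] at this
      · refine lt_of_le_of_lt (Polynomial.natDegree_sub_le _ _) (max_lt ?_ ?_)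
        · rw [Polynomial.natDegree_C]; exact hm1 α hα
        · refine lt_of_le_of_lt (Polynomial.natDegree_sum_le_of_forall_le _ _ (n := m α - 1) fun i hi => ?_)
            (by have := hm1 α hα; omega)
          refine (Polynomial.natDegree_C_mul_le _ _).trans ?_
          rw [Polynomial.natDegree_pow, Polynomial.natDegree_X_sub_C, mul_one]
          have := hexm i
          rw [(Finset.mem_filter.1 hi).2] at this
          omega
    have hb0 : b0 = 0 := by
      have := congrArg (Polynomial.eval 0) (hheq 0 h0)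
      rw [Polynomial.eval_C, hh, Polynomial.eval_finsetSum] at this
      rw [← this]
      refine Finset.sum_eq_zero fun i hi => ?_
      have := hzero i (Finset.mem_filter.1 hi).2
      simp [zero_pow (show ex i ≠ 0 by omega)]
    intro i
    have h1 := congrArg (fun p : Polynomial k => (p.comp (Polynomial.X + Polynomial.C (pt i))).coeff (ex i))
      (hheq (pt i) (hptB i))
    simp only [hb0, map_zero, Polynomial.zero_comp, Polynomial.coeff_zero, hh, Polynomial.sum_comp,
      Polynomial.mul_comp, Polynomial.C_comp, Polynomial.pow_comp, Polynomial.sub_comp, Polynomial.X_comp,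
      add_sub_cancel_right, Polynomial.finsetSum_coeff, Polynomial.coeff_C_mul, Polynomial.coeff_X_pow] at h1
    rw [Finset.sum_eq_single i] at h1
    · simpa using h1
    · intro j hj hji
      rw [if_neg fun he => hji (hinj j i (Finset.mem_filter.1 hj).2 he.symm), mul_zero]
    · intro hi
      exact (hi (by simp)).elim
  refine ⟨?_, fun a ha => ?_⟩
  · rw [Fintype.linearIndependent_iff]
    intro c hc
    refine hli c ?_
    rw [← Submodule.Quotient.mk_eq_zero, ← Submodule.mkQ_apply, map_sum]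
    simpa using hc
  obtain ⟨hfd, hdim⟩ := FunFldLib.finrank_adele_quotient hK (0 : Divisor k K)
  let w := fun i => (ADK (0 : Divisor k K)).mkQ ⟨v i, hadele i⟩
  have hcoe : ∀ c : _ → k, ((∑ i, c i • (⟨v i, hadele i⟩ : adele k K) : adele k K) : Place k K → K) = ∑ i, c i • v i :=
    fun c => by simp
  have hw : LinearIndependent k w := by
    rw [Fintype.linearIndependent_iff]
    intro c hc
    refine hli c ?_
    have : (∑ i, c i • (⟨v i, hadele i⟩ : adele k K)) ∈ ADK (0 : Divisor k K) := by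
      rw [← Submodule.Quotient.mk_eq_zero, ← Submodule.mkQ_apply, map_sum]
      simpa only [w, map_smul] using hc
    rw [ADK, Submodule.mem_comap, Submodule.subtype_apply, hcoe] at this
    exact this
  have hcard : Fintype.card ({a : ↥B × ℕ // 1 ≤ a.2 ∧ 2 * a.2 + 1 ≤ d (a.1 : k)} ⊕ {b : ↥B // (b : k) ≠ 0}) =
      Module.finrank k (↥(adele k K) ⧸ ADK (0 : Divisor k K)) := by
    have hg := FunFldLib.genus_artinSchreier hK hdeg hy heq D hD
    rw [hDdeg] at hg
    have hdel : FunFldLib.delta (0 : Divisor k K) = 0 := by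
      rw [FunFldLib.delta, FunFldLib.ell_zero hK]; simp [Divisor.deg]
    rw [hdel, sub_zero, Nat.cast_inj] at hdim
    refine Eq.trans ?_ hdim.symm
    have hA : Fintype.card {a : ↥B × ℕ // 1 ≤ a.2 ∧ 2 * a.2 + 1 ≤ d (a.1 : k)} = ∑ α : ↥B, (m α - 1) := by
      let E : {a : ↥B × ℕ // 1 ≤ a.2 ∧ 2 * a.2 + 1 ≤ d (a.1 : k)} ≃ Σ α : ↥B, Fin (m α - 1) :=
        { toFun := fun a => ⟨a.1.1, ⟨a.1.2 - 1, by
            have := a.2.1; have := a.2.2; simp only [m]; omega⟩⟩
          invFun := fun s => ⟨(s.1, s.2.1 + 1), by omega, by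
            have := s.2.2; simp only [m] at this; obtain ⟨t, ht⟩ := hd _ s.1.2; show 2 * (s.2.1 + 1) + 1 ≤ d s.1; omega⟩
          left_inv := fun a => by
            have := a.2.1
            exact Subtype.ext (Prod.ext rfl (by simp; omega))
          right_inv := fun s => by simp }
      rw [Fintype.card_congr E, Fintype.card_sigma]; simp
    have hB : Fintype.card {b : ↥B // (b : k) ≠ 0} = B.card - 1 := by
      rw [Fintype.card_subtype_compl (fun b : ↥B => (b : k) = 0), Fintype.card_coe]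
      congr 1
      rw [Fintype.card_eq_one_iff]
      exact ⟨⟨⟨0, h0⟩, rfl⟩, fun b => Subtype.ext (Subtype.ext b.2)⟩
    rw [Fintype.card_sum, hA, hB]
    have h4 : ∑ α : ↥B, (m α - 1) = ∑ α ∈ B, (m α - 1) := Finset.sum_coe_sort B fun α => m α - 1
    have h1 : ∑ α ∈ B, (m α - 1) + B.card = ∑ α ∈ B, m α := by
      rw [Finset.card_eq_sum_ones, ← Finset.sum_add_distrib]
      exact Finset.sum_congr rfl fun α hα => Nat.sub_add_cancel (hm1 α hα)
    have h2 : 1 ≤ B.card := Finset.card_pos.2 ⟨0, h0⟩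
    have h3 : ∑ α ∈ B, (d α + 1) / 2 = ∑ α ∈ B, m α := rfl
    have h5 : B.sum m = ∑ α ∈ B, m α := rfl
    omega
  have htop := hw.span_eq_top_of_card_eq_finrank' hcard
  have hmem : (ADK (0 : Divisor k K)).mkQ ⟨a, ha⟩ ∈ Submodule.span k (Set.range w) := by rw [htop]; trivial
  obtain ⟨c, hc⟩ := (Submodule.mem_span_range_iff_exists_fun k).1 hmem
  have h1 : (⟨a, ha⟩ : adele k K) - ∑ i, c i • (⟨v i, hadele i⟩ : adele k K) ∈ ADK (0 : Divisor k K) := by
    rw [← Submodule.Quotient.mk_eq_zero, ← Submodule.mkQ_apply, map_sub, sub_eq_zero, map_sum, ← hc]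
    simp only [w, map_smul]
  rw [ADK, Submodule.mem_comap, Submodule.subtype_apply, AddSubgroupClass.coe_sub, hcoe] at h1
  have h2 : ∑ i, c i • v i ∈ Submodule.span k (Set.range v) :=
    Submodule.sum_mem _ fun i _ => Submodule.smul_mem _ _ (Submodule.subset_span ⟨i, rfl⟩)
  simpa using Submodule.add_mem_sup h1 h2

end Groth.Agent.S19046
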