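import Groth.Statements.S19047
import Groth.Agent.FunFld.ASCech
-- import your own Groth.Agent.* helpers here

set_option autoImplicit false
universe u v
open Classical
open FunFld

namespace Groth.Agent.S19047

/-- Let `k` be algebraically closed of characteristic `2`, `K = k(x, y)` with `y² + y = f(x)` separable
of degree `2` over `k(x)`, `B ⊆ k` a finite set containing `0` with `f` having a pole of odd order
`d_β` at `x = β` for `β ∈ B` and integral elsewhere, `c_β = (d_β - 1)/2`, and `P_β` a place of `K`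
above `x = β`. With `H¹(X, O)` of the smooth projective model written as repartitions modulo `W =
A(0) + K` (everywhere-integral repartitions plus constants) and its Frobenius induced by
componentwise squaring, for `α ∈ B` and `j ≥ 0`: the Frobenius of the class of the repartition
supported at `P_α` with value `y (x - α)^j` is the class of the one with value `y (x - α)^{2j}` when
`2j ≤ c_α`, and is `0` when `2j > c_α`. -/
theorem result (k : Type u) (K : Type v)
    [Field k] [IsAlgClosed k] [CharP k 2] [Field K] [Algebra k K] [Algebra (RatFunc k) K] [IsScalarTower k (RatFunc k) K]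
    (hK : FunFld.IsFunctionField k K) (hdeg : Module.finrank (RatFunc k) K = 2) [Algebra.IsSeparable (RatFunc k) K]
    (y : K) (hy : y ∉ Set.range (algebraMap (RatFunc k) K)) (f : RatFunc k)
    (heq : y ^ 2 + y = algebraMap (RatFunc k) K f)
    (B : Finset k) (h0 : (0 : k) ∈ B) (d : k → ℕ) (hd : ∀ β ∈ B, Odd (d β))
    (hpole : ∀ (p : FunFld.Place k (RatFunc k)) (β : k), β ∈ B →
      p.1 ((RatFunc.X : RatFunc k) - RatFunc.C β) < 1 → p.ord f = -(d β : ℤ))
    (hint : ∀ p : FunFld.Place k (RatFunc k), (∀ β ∈ B, 1 ≤ p.1 ((RatFunc.X : RatFunc k) - RatFunc.C β)) → p.1 f ≤ 1)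
    (Pl : k → FunFld.Place k K) (hPl : ∀ β ∈ B, (Pl β).1 ((algebraMap (RatFunc k) K RatFunc.X) - (algebraMap k K β)) < 1)
    (α : k) (hα : α ∈ B) (j : ℕ) :
    (4 * j + 1 ≤ d α → (Pi.single (Pl α) ((y * ((algebraMap (RatFunc k) K RatFunc.X) - (algebraMap k K α)) ^ j) ^ 2) : FunFld.Place k K → K) - (Pi.single (Pl α) (y * ((algebraMap (RatFunc k) K RatFunc.X) - (algebraMap k K α)) ^ (2 * j)) : FunFld.Place k K → K) ∈ (FunFld.AD (0 : FunFld.Divisor k K) ⊔ LinearMap.range (FunFld.diag k K))) ∧
    (d α < 4 * j + 1 → (Pi.single (Pl α) ((y * ((algebraMap (RatFunc k) K RatFunc.X) - (algebraMap k K α)) ^ j) ^ 2) : FunFld.Place k K → K) ∈ (FunFld.AD (0 : FunFld.Divisor k K) ⊔ LinearMap.range (FunFld.diag k K))) := by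
  have : FiniteDimensional (RatFunc k) K := Module.finite_of_finrank_pos (by rw [hdeg]; exact two_pos)
  obtain ⟨P, hP, hover, huniq, hyo⟩ := FunFldLib.as_place_over hdeg heq hd hpole hα (hPl α hα)
  have h2 : (2 : K) = 0 := FunFldLib.as_two_eq_zero k
  have hsq : (y * ((algebraMap (RatFunc k) K RatFunc.X) - algebraMap k K α) ^ j) ^ 2 =
      algebraMap (RatFunc k) K (f * FunFldLib.lin α ^ (2 * j)) +
        y * ((algebraMap (RatFunc k) K RatFunc.X) - algebraMap k K α) ^ (2 * j) := by
    rw [map_mul, map_pow, FunFldLib.algebraMap_lin, ← heq]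
    linear_combination (-y * ((algebraMap (RatFunc k) K RatFunc.X) - algebraMap k K α) ^ (2 * j)) * h2
  have hrat := FunFldLib.single_rat_mem ⟨2, hover⟩ huniq (f * FunFldLib.lin α ^ (2 * j))
  refine ⟨fun _ => ?_, fun hj => ?_⟩
  · rw [← Pi.single_sub, hsq, add_sub_cancel_right]
    exact hrat
  · rw [hsq, Pi.single_add]
    refine add_mem hrat (Submodule.mem_sup_left fun R => ?_)
    rw [Finsupp.zero_apply, WithZero.exp_zero]
    by_cases h : R = Pl α
    · subst h
      have hy0 : y ≠ 0 := fun h => hy ⟨0, by rw [map_zero, h]⟩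
      rw [Pi.single_eq_same, map_mul, map_pow, ← FunFldLib.algebraMap_lin, hover, FunFldLib.rat_val_lin_self hP,
        FunFldLib.val_eq_exp _ hy0, hyo, ← WithZero.exp_nsmul, ← WithZero.exp_nsmul, ← WithZero.exp_add,
        ← WithZero.exp_zero, WithZero.exp_le_exp]
      simp only [nsmul_eq_mul]
      push_cast
      omega
    · rw [Pi.single_eq_of_ne h, map_zero]; exact zero_le

end Groth.Agent.S19047
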