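import Groth.Statements.S19073
-- import your own Groth.Agent.* helpers here
import Groth.Agent.SurfRR.Effective
import Groth.Agent.SurfRR.Setup
import Groth.Agent.CohDual.SmoothEquidim

set_option autoImplicit false
universe u
open CategoryTheory CategoryTheory.Limits AlgebraicGeometry
open Surf

namespace Groth.Agent.S19073

/-- Let X be a surface over an algebraically closed field k (an integral scheme of dimension two all of
whose local rings are regular, with a closed immersion into some P^n_k over k), and let L₁, L₂ be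
invertible O_X-modules which are numerically equivalent: (L₁·M) = (L₂·M) for every invertible
O_X-module M, where (L·M) = χ(O_X) − χ(L) − χ(M) + χ(L ⊗ M) is the intersection number. Then χ(X,
L₁) = χ(X, L₂). -/
theorem result (k : Type u) [Field k] [IsAlgClosed k] (X : Scheme.{u}) [X.Over (Spec (CommRingCat.of k))]
    [AlgebraicGeometry.IsIntegral X] (hdim : topologicalKrullDim X = 2) (hreg : ∀ x : X, IsRegularLocalRing (X.presheaf.stalk x))
    (hproj : ∃ (n : ℕ) (ι : X ⟶ CohB1.ProjSpace n k), IsClosedImmersion ι ∧ ι ≫ CohB1.ProjSpace.toSpec n k = (X ↘ (Spec (CommRingCat.of k))))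
    (L₁ L₂ : X.Modules) (hL₁ : PicF.IsInvertible L₁) (hL₂ : PicF.IsInvertible L₂)
    (hnum : ∀ M : X.Modules, PicF.IsInvertible M →
      FGA.intNum k X 2 ![L₁, M] (Coh.structureModule X) = FGA.intNum k X 2 ![L₂, M] (Coh.structureModule X)) :
    Curv2.euler k X L₁ = Curv2.euler k X L₂ := by
  haveI := SurfRR.isProper_of_proj hproj
  obtain ⟨W, hW, hdual⟩ := SurfRR.exists_canonical hdim hreg hproj
  have h1 := SurfRR.riemann_roch k hdim.le hW hdual hL₁
  have h2 := SurfRR.riemann_roch k hdim.le hW hdual hL₂
  have e1 : FGA.intNum k X 2 ![L₂, L₁] (Coh.structureModule X) = FGA.intNum k X 2 ![L₁, L₂] (Coh.structureModule X) := by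
    rw [SurfRR.intNum_pair k hdim.le hL₂ hL₁, SurfRR.intNum_pair k hdim.le hL₁ hL₂, IntTh.inum_swap k hL₂ hL₁]
  have e2 := hnum L₁ hL₁
  have e3 := hnum L₂ hL₂
  have e4 := hnum W hW
  linarith

end Groth.Agent.S19073
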