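import Mathlib
import Groth.Statements.S19092
-- import your own Groth.Agent.* helpers here

set_option autoImplicit false
universe u
open FrobAlg

namespace Groth.Agent.S19092

/-- Let p be a prime and A a commutative ring of characteristic p whose absolute Frobenius a ↦ a^p is a
finite ring homomorphism. Then the same holds for every quotient and every localization of A: for
every ideal I of A such that A ⧸ I has characteristic p (every proper ideal) the absolute Frobenius
of A ⧸ I is finite, and for every submonoid S of A and every localization B of A at S of
characteristic p (every nonzero localization) the absolute Frobenius of B is finite. -/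
theorem result (p : ℕ) [Fact p.Prime]
    (A : Type u) [CommRing A] [CharP A p] (hF : (frobenius A p).Finite) :
    (∀ (I : Ideal A) [CharP (A ⧸ I) p], (frobenius (A ⧸ I) p).Finite) ∧
      ∀ (S : Submonoid A) (B : Type u) [CommRing B] [Algebra A B] [IsLocalization S B] [CharP B p],
        (frobenius B p).Finite := by
  refine ⟨fun I _ => ?_, fun S B _ _ _ _ => ?_⟩
  · have h : (Ideal.Quotient.mk I).comp (frobenius A p) = (frobenius (A ⧸ I) p).comp (Ideal.Quotient.mk I) := by
      ext a; simp [frobenius_def]
    have h2 : ((frobenius (A ⧸ I) p).comp (Ideal.Quotient.mk I)).Finite :=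
      h ▸ (RingHom.Finite.of_surjective _ Ideal.Quotient.mk_surjective).comp hF
    exact h2.of_comp_finite
  · have hp : 0 < p := (Fact.out : p.Prime).pos
    have : IsLocalization (S.map (frobenius A p)) B :=
      { map_units := by
          rintro ⟨_, s, hs, rfl⟩
          show IsUnit (algebraMap A B (frobenius A p s))
          rw [frobenius_def, map_pow]
          exact (IsLocalization.map_units B ⟨s, hs⟩).pow p
        surj := by
          intro z
          obtain ⟨⟨a, s⟩, h⟩ := IsLocalization.surj S z
          refine ⟨⟨a * (s : A) ^ (p - 1), ⟨_, s, s.2, rfl⟩⟩, ?_⟩
          show z * algebraMap A B (frobenius A p s) = algebraMap A B (a * (s : A) ^ (p - 1))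
          rw [frobenius_def, map_pow, map_mul, map_pow, ← h, mul_assoc, ← pow_succ', Nat.sub_add_cancel hp]
        exists_of_eq := by
          intro x y h
          obtain ⟨c, hc⟩ := IsLocalization.exists_of_eq (M := S) h
          refine ⟨⟨_, c, c.2, rfl⟩, ?_⟩
          show frobenius A p c * x = frobenius A p c * y
          rw [frobenius_def, ← Nat.sub_add_cancel hp, pow_succ, mul_assoc, mul_assoc, hc] }
    have h := RingHom.finite_localizationPreserves (frobenius A p) S B B hF
    convert h using 1
    refine IsLocalization.ringHom_ext S ?_
    ext a
    simp [IsLocalization.map_eq, frobenius_def]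

end Groth.Agent.S19092
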