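import Groth.Statements.S19093
import Groth.Agent.S19092
import Mathlib
-- import your own Groth.Agent.* helpers here

set_option autoImplicit false
universe u
open FrobAlg

namespace Groth.Agent.S19093

/-- Let p be a prime, k a finite field of characteristic p, A a commutative k[[t]]-algebra of finite
type over the power series ring k[[t]], and P a prime ideal of A. Then the absolute Frobenius a ↦
a^p of the local ring A_P is a finite ring homomorphism. In particular every local ring of a scheme
of finite type over k[[t]] has finite absolute Frobenius. (The instance hypothesis that A_P has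
characteristic p always holds, A_P being a nonzero algebra over k.) The published statement is for
the local rings of a projective strictly semistable scheme over k[[t]] and adds that such a scheme
is regular with F-finite local rings; its proof uses only that the scheme is of finite type over
k[[t]], which is the form stated here. -/
theorem result (p : ℕ) [Fact p.Prime]
    (k : Type u) [Field k] [Finite k] [CharP k p]
    (A : Type u) [CommRing A] [Algebra (PowerSeries k) A] [Algebra.FiniteType (PowerSeries k) A]
    (P : Ideal A) [P.IsPrime] [CharP (Localization.AtPrime P) p] :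
    (frobenius (Localization.AtPrime P) p).Finite := by
  classical
  have hp : p.Prime := Fact.out
  haveI : PerfectRing k p := inferInstance
  haveI : CharP (PowerSeries k) p := charP_of_injective_ringHom (PowerSeries.C_injective (R := k)) p
  haveI : Nontrivial A := by
    by_contra h
    rw [not_nontrivial_iff_subsingleton] at h
    exact (inferInstance : P.IsPrime).ne_top (Subsingleton.elim _ _)
  haveI : CharP A p := charP_of_injective_ringHom ((algebraMap (PowerSeries k) A).comp (PowerSeries.C (R := k))).injective p
  have hR : (frobenius (PowerSeries k) p).Finite := by
    unfold RingHom.Finite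
    refine (@Module.finite_def _ _ _ _ (frobenius (PowerSeries k) p).toAlgebra.toModule).2 ?_
    refine ⟨(Finset.range p).image (fun j => (PowerSeries.X : PowerSeries k) ^ j), ?_⟩
    refine eq_top_iff.2 fun f _ => ?_
    let g : ℕ → PowerSeries k := fun j => PowerSeries.mk fun m => (frobeniusEquiv k p).symm (PowerSeries.coeff (p * m + j) f)
    have hg : ∀ j, (g j) ^ p = PowerSeries.expand p hp.ne_zero (PowerSeries.map (frobenius k p) (g j)) := fun j => by
      rw [← PowerSeries.map_expand]
      exact (MvPowerSeries.map_frobenius_expand p hp.ne_zero).symm
    have hf : f = ∑ j ∈ Finset.range p, (g j) ^ p * PowerSeries.X ^ j := by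
      ext n
      rw [map_sum, Finset.sum_eq_single (n % p)]
      · rw [mul_comm, PowerSeries.coeff_X_pow_mul', if_pos (Nat.mod_le n p), hg, PowerSeries.coeff_expand,
          if_pos (Nat.dvd_sub_mod n), PowerSeries.coeff_map, PowerSeries.coeff_mk, frobenius_apply_frobeniusEquiv_symm,
          Nat.mul_div_cancel' (Nat.dvd_sub_mod n), Nat.sub_add_cancel (Nat.mod_le n p)]
      · intro j hj hne
        rw [mul_comm, PowerSeries.coeff_X_pow_mul']
        split_ifs with hjn
        · rw [hg, PowerSeries.coeff_expand, if_neg]
          intro hd
          refine hne ?_
          obtain ⟨c, hc⟩ := hd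
          have : n = j + p * c := by omega
          rw [this, Nat.add_mul_mod_self_left, Nat.mod_eq_of_lt (Finset.mem_range.1 hj)]
        · rfl
      · intro h
        exact absurd (Finset.mem_range.2 (Nat.mod_lt n hp.pos)) h
    rw [hf]
    refine Submodule.sum_mem _ fun j hj => ?_
    letI := (frobenius (PowerSeries k) p).toAlgebra
    exact @Submodule.smul_mem _ _ _ _ (frobenius (PowerSeries k) p).toAlgebra.toModule _ _ (g j) (@Submodule.subset_span _ _ _ _ (frobenius (PowerSeries k) p).toAlgebra.toModule _ _ (Finset.mem_image_of_mem (fun j => (PowerSeries.X : PowerSeries k) ^ j) hj))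
  have hA : (frobenius A p).Finite := by
    refine RingHom.finite_iff_isIntegral_and_finiteType.2 ⟨fun x => ⟨Polynomial.X ^ p - Polynomial.C x,
      Polynomial.monic_X_pow_sub_C _ hp.ne_zero, by simp [frobenius_def]⟩, ?_⟩
    refine RingHom.FiniteType.of_comp_finiteType (f := algebraMap (PowerSeries k) A) ?_
    rw [← RingHom.frobenius_comm]
    exact RingHom.FiniteType.comp (RingHom.finiteType_algebraMap.2 inferInstance) (RingHom.FiniteType.of_finite hR)
  exact (Groth.Agent.S19092.result p A hA).2 P.primeCompl (Localization.AtPrime P)

end Groth.Agent.S19093
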