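import Groth.Statements.S19094
import Groth.Agent.EGA41Lib.Cartier
import Groth.Agent.EGA41Lib.FieldCrit
import Groth.Agent.EGA41Lib.FormallySmooth
import Groth.Agent.EGA41Lib.Lift
import Groth.Agent.ComplDeriv.Imperfection
import Mathlib
-- import your own Groth.Agent.* helpers here

set_option autoImplicit false
universe u
open FrobAlg

namespace Groth.Agent.S19094

open KaehlerDifferential (D mapBaseChange)

noncomputable def redEquiv {p : ℕ} {ι : Type u} [Fintype ι] (hp : 0 < p) :
    Groth.Agent.EGA41Lib.Red p ι ≃ (ι → Fin p) where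
  toFun e i := ⟨e.1 i, e.2 i⟩
  invFun g := ⟨Finsupp.equivFunOnFinite.symm fun i => (g i : ℕ), fun i => (g i).isLt⟩
  left_inv e := Subtype.ext (Finsupp.ext fun _ => rfl)
  right_inv g := funext fun i => Fin.ext rfl

theorem laurent_smul {k : Type u} [Field k] (c : k) (f : LaurentSeries k) :
    c • f = algebraMap k (LaurentSeries k) c * f := by
  rw [← HahnSeries.C_mul_eq_smul]
  congr 1
  simp [RingHom.algebraMap_toAlgebra]

theorem laurent_tower {k : Type u} [Field k] (B : Type*) [CommRing B] [Algebra k B] [Algebra B (LaurentSeries k)]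
    (h : ∀ c, algebraMap k (LaurentSeries k) c = algebraMap B (LaurentSeries k) (algebraMap k B c)) :
    IsScalarTower k B (LaurentSeries k) :=
  ⟨fun c f y => by
    rw [Algebra.smul_def (A := B) c f, Algebra.smul_def, Algebra.smul_def, laurent_smul, map_mul, mul_assoc, h]⟩

theorem fieldIdx_laurent (p : ℕ) [Fact p.Prime] (k : Type u) [Field k] [Finite k] [CharP k p] :
    Groth.Agent.EGA41Lib.FieldIdx k (LaurentSeries k) 1 := by
  let P := MvPowerSeries (Fin 1) k
  let e : P ≃ₐ[k] PowerSeries k := MvPowerSeries.renameEquiv k (Equiv.ofUnique (Fin 1) Unit)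
  letI : Algebra P (LaurentSeries k) := ((algebraMap (PowerSeries k) (LaurentSeries k)).comp e.toRingHom).toAlgebra
  haveI := IsScalarTower.of_algebraMap_eq (R := k) (S := P) (A := LaurentSeries k) fun c => by
    show algebraMap k (LaurentSeries k) c = algebraMap (PowerSeries k) (LaurentSeries k) (e (algebraMap k P c))
    rw [e.commutes]
    rfl
  haveI : IsFractionRing P (LaurentSeries k) := by
    exact (IsFractionRing.isFractionRing_iff_of_base_ringEquiv (R := PowerSeries k) (S := LaurentSeries k) (e.symm : PowerSeries k ≃+* P)).1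
      inferInstance
  exact Groth.Agent.ComplDeriv.fieldIdx_fractionRing p k (@Module.Finite.of_finite k k _ _ (frobenius k p).toAlgebra.toModule _) 1 _

/-- Let p be a prime, k a finite field of characteristic p and K a finitely generated field extension of
the Laurent series field k((t)) of finite transcendence degree d. Then [K : K^p] = p^(d+1), where
K^p ⊆ K is the subfield of p-th powers (the image of the Frobenius). The case of interest is the
residue field of a generic point of a projective strictly semistable scheme of relative dimension d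
over k[[t]], which is such an extension. -/
theorem result (p : ℕ) [Fact p.Prime]
    (k : Type u) [Field k] [Finite k] [CharP k p]
    (K : Type u) [Field K] [Algebra (LaurentSeries k) K] [CharP K p]
    (hfg : (⊤ : IntermediateField (LaurentSeries k) K).FG)
    (d : ℕ) (hd : Algebra.trdeg (LaurentSeries k) K = d) :
    Module.finrank (↥(frobenius K p).fieldRange) K = p ^ (d + 1) := by
  classical
  letI : Algebra k K := ((algebraMap (LaurentSeries k) K).comp (algebraMap k (LaurentSeries k))).toAlgebra
  haveI := IsScalarTower.of_algebraMap_eq (R := k) (S := LaurentSeries k) (A := K) fun _ => rfl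
  haveI : Algebra.EssFiniteType (LaurentSeries k) K := IntermediateField.fg_top_iff.1 hfg
  have h2 := EGA41Lib.fieldIdx_trdeg (K := LaurentSeries k) (L := K)
  rw [hd, Cardinal.toNat_natCast] at h2
  obtain ⟨hfin, hΩ, hn⟩ := (fieldIdx_laurent p k).trans h2
  haveI : PerfectRing k p := PerfectRing.ofFiniteOfIsReduced p k
  haveI : Subsingleton (Ω[k⁄ℤ]) := by
    refine Submodule.subsingleton_iff k |>.1 (subsingleton_of_bot_eq_top ?_)
    rw [← KaehlerDifferential.span_range_derivation ℤ k]
    refine (Submodule.span_eq_bot.2 ?_).symm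
    rintro _ ⟨a, rfl⟩
    obtain ⟨b, rfl⟩ := surjective_frobenius k p a
    rw [frobenius_def]
    exact EGA41Lib.derivation_pow_eq_zero (D ℤ k) b
  have hker : LinearMap.ker (mapBaseChange ℤ k K) = ⊥ := Subsingleton.elim _ _
  rw [hker, finrank_bot, Nat.cast_zero, sub_zero] at hn
  have hn' : Module.finrank K (Ω[K⁄k]) = d + 1 := by omega
  obtain ⟨B, hB⟩ := EGA41Lib.exists_isPBasis (p := p) (k := k) (K := K)
  obtain ⟨b, -⟩ := EGA41Lib.exists_basis_kaehler hB
  haveI : Fintype B := FiniteDimensional.fintypeBasisIndex b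
  have hcard : Fintype.card B = d + 1 := by rw [← hn', Module.finrank_eq_card_basis b]
  have hS1 : EGA41Lib.pSub p k K = (frobenius K p).range := EGA41Lib.pSub_eq_frobenius_range
  have hS2 : EGA41Lib.pSub p (↥(frobenius K p).fieldRange) K = (frobenius K p).range := by
    rw [EGA41Lib.pSub_eq_range p (↥(frobenius K p).fieldRange) (fun y => ⟨⟨y ^ p, y, rfl⟩, rfl⟩)]
    ext y
    exact ⟨fun ⟨z, hz⟩ => hz ▸ z.2, fun hy => ⟨⟨y, hy⟩, rfl⟩⟩
  have hB' : EGA41Lib.PBasis p (↥(frobenius K p).fieldRange) (Subtype.val : B → K) := by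
    obtain ⟨hI, hG⟩ := hB
    refine ⟨?_, ?_⟩
    · show EGA41Lib.Ind p (EGA41Lib.pSub p (↥(frobenius K p).fieldRange) K) _
      rw [hS2, ← hS1]; exact hI
    · show EGA41Lib.Gen p (EGA41Lib.pSub p (↥(frobenius K p).fieldRange) K) _
      rw [hS2, ← hS1]; exact hG
  obtain ⟨c, -⟩ := EGA41Lib.exists_basis_of_isPBasis p (↥(frobenius K p).fieldRange) (Subtype.val : B → K)
    (RingHom.injective _) (fun y => ⟨⟨y ^ p, y, rfl⟩, rfl⟩) hB'
  rw [Module.finrank_eq_nat_card_basis c, Nat.card_congr (redEquiv (Fact.out : p.Prime).pos), Nat.card_fun,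
    Nat.card_eq_fintype_card, Nat.card_eq_fintype_card, Fintype.card_fin, hcard]

end Groth.Agent.S19094
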