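import Groth.Statements.S19098
-- import your own Groth.Agent.* helpers here

set_option autoImplicit false
set_option linter.style.haveILetI false
set_option backward.isDefEq.respectTransparency false
universe u
open CategoryTheory MonoidalCategory CartesianMonoidalCategory MonObj AlgebraicGeometry
open ChGrp

namespace Groth.Agent.S19098

/-- Let S be a scheme, G an S-group scheme acting on an S-scheme X through a, and h an S-point of G. Let
i : Z → G be a homomorphism and ψ : Ψ → G a monomorphism with a G-action on Ψ under which ψ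
intertwines with conjugation, and o an S-point of Ψ over h, such that (Ψ, o) is the homogeneous
space G/Z for the fppf topology through the orbit map g ↦ g h g⁻¹ (so Z is the centralizer of h and
Ψ its conjugacy class). Let incl : X^h → X be a monomorphism whose points are the points of X fixed
by h, with the Z-action restricted from a; let σ : S_Ψ → G ×_S X be a monomorphism whose points are
the pairs (g, x) with g a point of Ψ and g x = x (the part of the global stabilizer over Ψ), with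
the G-action by conjugation on the first entry and by a on the second; and let Φ : G ×_S X^h → S_Ψ
be the morphism (g, x) ↦ (g h g⁻¹, g x). Then Φ makes S_Ψ, with its G-action, the balanced product G
×^Z X^h for the fppf topology: Φ is G-equivariant, it is a Z-torsor for the action z (g, x) = (g
z⁻¹, z x), and it has sections fppf-locally on S_Ψ. (The source works with algebraic spaces of
finite type over the complex numbers and a semisimple conjugacy class Ψ, where the identification of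
Ψ with G/Z comes from the theory of algebraic groups; here that identification is the hypothesis
hhom, the base is arbitrary and X is a scheme.) -/
theorem result
    {S : Scheme.{u}} {G X Z Ψ Xh SΨ : Over S} [GrpObj G] [GrpObj Z]
    (a : AlgGrp.Action G X) (h : 𝟙_ (Over S) ⟶ G)
    (i : Z ⟶ G) [IsMonHom i]
    (ψ : Ψ ⟶ G) [Mono ψ] (aΨ : AlgGrp.Action G Ψ)
    (hψ : aΨ.act ≫ ψ = fst G Ψ * (snd G Ψ ≫ ψ) * (fst G Ψ)⁻¹)
    (o : 𝟙_ (Over S) ⟶ Ψ) (ho : o ≫ ψ = h)
    (hhom : ChGrp.IsHomog Scheme.fppfPrecoverage i aΨ o)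
    (incl : Xh ⟶ X) [Mono incl]
    (hXh : ∀ (T : Over S) (x : T ⟶ X), (∃ y : T ⟶ Xh, y ≫ incl = x) ↔ lift (toUnit T ≫ h) x ≫ a.act = x)
    (aXh : AlgGrp.Action Z Xh) (hincl : AlgGrp.Action.IsEquivariant aXh (a.restrict i) incl)
    (σ : SΨ ⟶ G ⊗ X) [Mono σ]
    (hSΨ : ∀ (T : Over S) (g : T ⟶ G) (x : T ⟶ X),
      (∃ q : T ⟶ SΨ, q ≫ σ = lift g x) ↔ ((∃ y : T ⟶ Ψ, y ≫ ψ = g) ∧ lift g x ≫ a.act = x))
    (aS : AlgGrp.Action G SΨ)
    (hσ : aS.act ≫ σ = lift (fst G SΨ * (snd G SΨ ≫ σ ≫ fst G X) * (fst G SΨ)⁻¹)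
      (lift (fst G SΨ) (snd G SΨ ≫ σ ≫ snd G X) ≫ a.act))
    (Φ : G ⊗ Xh ⟶ SΨ)
    (hΦ : Φ ≫ σ = lift (fst G Xh * (toUnit (G ⊗ Xh) ≫ h) * (fst G Xh)⁻¹)
      (lift (fst G Xh) (snd G Xh ≫ incl) ≫ a.act)) :
    ChGrp.IsBalProd Scheme.fppfPrecoverage i aXh aS Φ := by
  obtain ⟨-, hsq, R, hR, hsec⟩ := hhom
  let ρ : G ⟶ Ψ := aΨ.orbitMap o
  have hρ : ∀ {T : Over S} (g : T ⟶ G), g ≫ ρ ≫ ψ = g * (toUnit T ≫ h) * g⁻¹ := fun {T} g => by
    rw [← Category.assoc, AlgGrp.Action.comp_orbitMap, Category.assoc, hψ]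
    simp [comp_mul, GrpObj.comp_inv, ho]
  have hw : ∀ {T : Over S} (g : T ⟶ G) (z : T ⟶ Z), (g * (z ≫ i)) ≫ ρ = g ≫ ρ := fun {T} g z => by
    have := congrArg (lift g z ≫ ·) hsq.w
    simp only [lift_fst_assoc, Category.assoc, lift_whiskerLeft_assoc] at this
    rw [Hom.mul_def, Category.assoc]
    exact this.symm
  have zh : ∀ {T : Over S} (g : T ⟶ G) (z : T ⟶ Z),
      (g * (z ≫ i)) * (toUnit T ≫ h) * (g * (z ≫ i))⁻¹ = g * (toUnit T ≫ h) * g⁻¹ := fun g z => by
    rw [← hρ, ← hρ, ← Category.assoc, hw, Category.assoc]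
  have hi : ∀ {T : Over S} (z : T ⟶ Z) (x : T ⟶ Xh),
      lift z x ≫ aXh.act ≫ incl = lift (z ≫ i) (x ≫ incl) ≫ a.act := fun z x => by
    rw [hincl]
    simp [AlgGrp.Action.restrict]
  have pΦ : ∀ {T : Over S} (g : T ⟶ G) (x : T ⟶ Xh), lift g x ≫ Φ ≫ σ =
      lift (g * (toUnit T ≫ h) * g⁻¹) (lift g (x ≫ incl) ≫ a.act) := fun g x => by
    rw [hΦ]
    simp [comp_lift, comp_lift_assoc, comp_mul, GrpObj.comp_inv]
  refine ⟨?_, ?_, ?_⟩
  · apply AlgGrp.Action.hom_ext_lift₂
    intro T k p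
    obtain ⟨g, x, rfl⟩ : ∃ (g : T ⟶ G) (x : T ⟶ Xh), p = lift g x :=
      ⟨p ≫ fst _ _, p ≫ snd _ _, by rw [← comp_lift, lift_fst_snd, Category.comp_id]⟩
    rw [← cancel_mono σ]
    simp only [Category.assoc, AlgGrp.Action.lift_prod_act_assoc, lift_whiskerLeft_assoc, hσ, AlgGrp.Action.lift_trivial_act]
    rw [show lift k g ≫ (NonAbH1.trivialAction G).act = k * g from (Hom.mul_def k g).symm, pΦ]
    simp only [comp_lift, comp_mul, GrpObj.comp_inv, lift_fst, lift_snd_assoc, comp_lift_assoc, Category.assoc]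
    simp only [reassoc_of% (pΦ g x), lift_fst, lift_snd, AlgGrp.Action.lift_mul_act]
    simp [mul_inv_rev, _root_.mul_assoc]
  · have pt : ∀ {T : Over S} (z : T ⟶ Z) (g : T ⟶ G) (x : T ⟶ Xh),
        lift z (lift g x) ≫ (ChGrp.twist i aXh).act = lift (g * (z ≫ i)⁻¹) (lift z x ≫ aXh.act) :=
      fun z g x => ChGrp.lift_twist_act i aXh z g x
    have hw2 : (ChGrp.twist i aXh).act ≫ Φ = snd Z (G ⊗ Xh) ≫ Φ := by
      apply AlgGrp.Action.hom_ext_lift₂
      intro T z p
      obtain ⟨g, x, rfl⟩ : ∃ (g : T ⟶ G) (x : T ⟶ Xh), p = lift g x :=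
        ⟨p ≫ fst _ _, p ≫ snd _ _, by rw [← comp_lift, lift_fst_snd, Category.comp_id]⟩
      rw [← cancel_mono σ]
      simp only [Category.assoc, lift_snd_assoc, reassoc_of% (pt z g x), pΦ]
      congr 1
      · have := zh (g * (z ≫ i)⁻¹) z
        rw [inv_mul_cancel_right] at this
        exact this.symm
      · rw [hi, ← AlgGrp.Action.lift_mul_act, inv_mul_cancel_right]
    have hc1 : ∀ s : Limits.PullbackCone Φ Φ, (s.fst ≫ fst G Xh) ≫ aΨ.orbitMap o = (s.snd ≫ fst G Xh) ≫ aΨ.orbitMap o := fun s => by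
      change (s.fst ≫ fst G Xh) ≫ ρ = (s.snd ≫ fst G Xh) ≫ ρ
      rw [← cancel_mono ψ, Category.assoc, hρ, Category.assoc, hρ]
      have := congrArg (· ≫ σ ≫ fst G X) s.condition
      simp only [Category.assoc, reassoc_of% hΦ, lift_fst, comp_mul, GrpObj.comp_inv] at this
      simpa [comp_mul, GrpObj.comp_inv] using this
    refine ⟨⟨hw2⟩, ⟨Limits.PullbackCone.IsLimit.mk hw2 (fun s => lift (hsq.lift (s.fst ≫ fst G Xh) (s.snd ≫ fst G Xh) (hc1 s) ≫ snd G Z) s.snd) ?_ ?_ ?_⟩⟩
    · intro s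
      set l := hsq.lift (s.fst ≫ fst G Xh) (s.snd ≫ fst G Xh) (hc1 s)
      have l1 : l ≫ fst G Z = s.fst ≫ fst G Xh := hsq.lift_fst _ _ _
      have l2 : (s.fst ≫ fst G Xh) * (l ≫ snd G Z ≫ i) = s.snd ≫ fst G Xh := by
        have l0 : (l ≫ fst G Z) * (l ≫ snd G Z ≫ i) = l ≫ (G ◁ i) ≫ μ := by
          rw [Hom.mul_def]
          conv_rhs => rw [← Category.assoc]
          congr 1
          apply CartesianMonoidalCategory.hom_ext <;> simp
        exact (congrArg (· * (l ≫ snd G Z ≫ i)) l1).symm.trans (l0.trans (hsq.lift_snd _ _ _))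
      have e : s.snd = lift (s.snd ≫ fst G Xh) (s.snd ≫ snd G Xh) := by
        rw [← comp_lift, lift_fst_snd, Category.comp_id]
      conv_lhs => rw [e]
      rw [pt]
      have hc := congrArg (· ≫ σ ≫ snd G X) s.condition
      simp only [Category.assoc, reassoc_of% hΦ, lift_snd, comp_lift_assoc] at hc
      apply CartesianMonoidalCategory.hom_ext
      · rw [lift_fst, ← l2, Category.assoc, mul_inv_cancel_right]
      · rw [lift_snd, ← cancel_mono incl, Category.assoc, Category.assoc, hi]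
        rw [← l2, AlgGrp.Action.lift_mul_act] at hc
        have := congrArg (fun q => lift (s.fst ≫ fst G Xh)⁻¹ q ≫ a.act) hc
        simp only [← AlgGrp.Action.lift_mul_act, inv_mul_cancel, AlgGrp.Action.lift_one_act] at this
        simpa using this.symm
    · intro s
      simp
    · intro s m h1 h2
      have e : m = lift (m ≫ fst Z (G ⊗ Xh)) s.snd := by
        rw [← h2, ← comp_lift, lift_fst_snd, Category.comp_id]
      conv_lhs => rw [e]
      congr 1
      have q : lift (s.fst ≫ fst G Xh) (m ≫ fst Z (G ⊗ Xh)) = hsq.lift (s.fst ≫ fst G Xh) (s.snd ≫ fst G Xh) (hc1 s) := by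
        apply hsq.hom_ext
        · simp
        · rw [hsq.lift_snd, lift_whiskerLeft_assoc, ← Hom.mul_def]
          have e2 : s.snd = lift (s.snd ≫ fst G Xh) (s.snd ≫ snd G Xh) := by
            rw [← comp_lift, lift_fst_snd, Category.comp_id]
          rw [e, e2, pt] at h1
          rw [← h1, lift_fst, Category.assoc, inv_mul_cancel_right]
      rw [← q, lift_snd]
  · have hσe : σ = lift (σ ≫ fst G X) (σ ≫ snd G X) := by
      rw [← comp_lift, lift_fst_snd, Category.comp_id]
    obtain ⟨⟨y, hy⟩, hfix⟩ := (hSΨ SΨ (σ ≫ fst G X) (σ ≫ snd G X)).1 ⟨𝟙 _, (Category.id_comp σ).trans hσe⟩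
    refine ⟨R.pullbackArrows y.left, Precoverage.pullbackArrows_mem y.left hR, ?_⟩
    rintro T f ⟨U, u, hu⟩
    obtain ⟨s, hs⟩ := hsec u hu
    have hs' : s ≫ ρ.left = u := hs
    let W : Over S := Over.mk (Limits.pullback.snd u y.left ≫ SΨ.hom)
    let q : W ⟶ SΨ := Over.homMk (Limits.pullback.snd u y.left) rfl
    let g : W ⟶ G := Over.homMk (Limits.pullback.fst u y.left ≫ s) (by
      show (Limits.pullback.fst u y.left ≫ s) ≫ G.hom = Limits.pullback.snd u y.left ≫ SΨ.hom
      rw [← Over.w y, ← Limits.pullback.condition_assoc, ← hs', Category.assoc, Category.assoc, Over.w ρ])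
    have hg : g ≫ ρ = q ≫ y := Over.OverMorphism.ext (by
      show (Limits.pullback.fst u y.left ≫ s) ≫ ρ.left = Limits.pullback.snd u y.left ≫ y.left
      rw [Category.assoc, hs', Limits.pullback.condition])
    have hγ : q ≫ σ ≫ fst G X = g * (toUnit W ≫ h) * g⁻¹ := by rw [← hρ, ← hy, reassoc_of% hg]
    let x : W ⟶ X := lift g⁻¹ (q ≫ σ ≫ snd G X) ≫ a.act
    have hx : lift (toUnit W ≫ h) x ≫ a.act = x := by
      have hf : lift (q ≫ σ ≫ fst G X) (q ≫ σ ≫ snd G X) ≫ a.act = q ≫ σ ≫ snd G X := by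
        have := congrArg (q ≫ ·) hfix
        simp only [← Category.assoc, comp_lift] at this
        simp only [Category.assoc] at this
        exact this
      rw [hγ] at hf
      have := congrArg (fun v => lift g⁻¹ v ≫ a.act) hf
      simp only [← AlgGrp.Action.lift_mul_act] at this
      simp only [x, ← AlgGrp.Action.lift_mul_act]
      simpa [← _root_.mul_assoc] using this
    obtain ⟨x0, hx0⟩ := (hXh W x).2 hx
    refine ⟨(lift g x0).left, ?_⟩
    have hq : lift g x0 ≫ Φ = q := by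
      rw [← cancel_mono σ, Category.assoc, pΦ, hx0, ← hγ]
      apply CartesianMonoidalCategory.hom_ext
      · simp
      · simp [x, ← AlgGrp.Action.lift_mul_act, AlgGrp.Action.lift_one_act]
    exact congrArg CommaMorphism.left hq

end Groth.Agent.S19098
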