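import Groth.Statements.S19106
import Mathlib
-- import your own Groth.Agent.* helpers here

set_option autoImplicit false
open HilbD

namespace Groth.Agent.S19106

/-- Let μ be a non-empty Young diagram, V the number of its cells, E the number of unordered pairs of
cells sharing a side (a cell together with the cell immediately below it, or immediately to its
right, both in μ) and Q the number of 2 × 2 blocks of cells of μ (cells c such that the cell
diagonally below-right of c is in μ, the other two corners being in μ automatically). Then V − E + Q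
− 1 = 0, stated as V + Q = E + 1 in the naturals. (The empty diagram, for which the count reads 0 −
0 + 0 − 1, is excluded.) -/
theorem result (μ : YoungDiagram) (hμ : μ ≠ ⊥) :
    μ.cells.card + (μ.cells.filter (fun c => (c.1 + 1, c.2 + 1) ∈ μ)).card =
      (μ.cells.filter (fun c => (c.1 + 1, c.2) ∈ μ)).card + (μ.cells.filter (fun c => (c.1, c.2 + 1) ∈ μ)).card + 1 := by
  classical
  have hup : ∀ {i j i' j' : ℕ}, (i', j') ∈ μ → i ≤ i' → j ≤ j' → (i, j) ∈ μ := fun h hi hj => μ.up_left_mem hi hj h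
  have hA0 : ((μ.cells.filter fun c => (c.1 + 1, c.2) ∉ μ).filter fun c => c.2 = 0).card = 1 := by
    rw [Finset.card_eq_one]
    have hpos : 0 < μ.colLen 0 := by
      obtain ⟨⟨i, j⟩, hc⟩ : μ.cells.Nonempty := by
        rw [Finset.nonempty_iff_ne_empty]; intro h; exact hμ (YoungDiagram.ext (by simpa using h))
      have := μ.mem_iff_lt_colLen.1 (hup ((μ.mem_cells _).1 hc) le_rfl (Nat.zero_le j))
      omega
    refine ⟨(μ.colLen 0 - 1, 0), ?_⟩
    ext ⟨i, j⟩
    simp only [Finset.mem_filter, YoungDiagram.mem_cells, Finset.mem_singleton, Prod.mk.injEq,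
      YoungDiagram.mem_iff_lt_colLen]
    constructor
    · rintro ⟨⟨h1, h2⟩, rfl⟩; exact ⟨by omega, rfl⟩
    · rintro ⟨rfl, rfl⟩; exact ⟨⟨by omega, by omega⟩, rfl⟩
  have hB : (μ.cells.filter fun c => (c.1, c.2 + 1) ∈ μ ∧ (c.1 + 1, c.2 + 1) ∉ μ).card =
      ((μ.cells.filter fun c => (c.1 + 1, c.2) ∉ μ).filter fun c => ¬ c.2 = 0).card := by
    refine Finset.card_bij (fun c _ => (c.1, c.2 + 1)) ?_ ?_ ?_
    · rintro ⟨i, j⟩ h
      simp only [Finset.mem_filter, YoungDiagram.mem_cells] at h ⊢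
      exact ⟨⟨h.2.1, h.2.2⟩, Nat.succ_ne_zero j⟩
    · rintro ⟨i, j⟩ _ ⟨i', j'⟩ _ h
      simpa [Prod.ext_iff] using h
    · rintro ⟨i, j⟩ h
      simp only [Finset.mem_filter, YoungDiagram.mem_cells] at h
      obtain ⟨k, rfl⟩ : ∃ k, j = k + 1 := ⟨j - 1, by omega⟩
      exact ⟨(i, k), Finset.mem_filter.2 ⟨(μ.mem_cells _).2 (hup h.1.1 le_rfl (by omega)), h.1.1, h.1.2⟩, rfl⟩
  have e1 := Finset.card_filter_add_card_filter_not (s := μ.cells) (fun c => (c.1 + 1, c.2) ∈ μ)
  have e2 := Finset.card_filter_add_card_filter_not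
    (s := μ.cells.filter fun c => (c.1, c.2 + 1) ∈ μ) (fun c => (c.1 + 1, c.2 + 1) ∈ μ)
  have e3 := Finset.card_filter_add_card_filter_not
    (s := μ.cells.filter fun c => (c.1 + 1, c.2) ∉ μ) (fun c => c.2 = 0)
  rw [Finset.filter_filter, Finset.filter_filter] at e2
  have hQ : (μ.cells.filter fun c => (c.1, c.2 + 1) ∈ μ ∧ (c.1 + 1, c.2 + 1) ∈ μ) =
      μ.cells.filter fun c => (c.1 + 1, c.2 + 1) ∈ μ :=
    Finset.filter_congr fun c _ => ⟨fun h => h.2, fun h => ⟨hup h (by omega) le_rfl, h⟩⟩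
  rw [hQ] at e2
  omega

end Groth.Agent.S19106
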