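import Groth.Prelude.Def_EtBase
import Mathlib.AlgebraicGeometry.FunctionField
import Mathlib.FieldTheory.IsAlgClosed.Basic
import Mathlib.RingTheory.IntegralClosure.IntegrallyClosed
import Mathlib.Data.ZMod.Defs
import Mathlib.SetTheory.Cardinal.Finite
import Groth.Agent.EtSite.FlasqueH
-- import your own Groth.Agent.* helpers here

set_option autoImplicit false
universe u
open CategoryTheory CategoryTheory.Limits AlgebraicGeometry Opposite

namespace Groth.Agent.S19130

/-- Let p be a prime and Y an integral scheme which is normal (every local ring is integrally closed in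
its fraction field) and whose function field is algebraically closed. Then the étale cohomology of
the constant sheaf Z/p on Y is Z/p in degree 0 and vanishes in positive degrees: H^0(Y_et, Z/p) has
exactly p elements and H^i(Y_et, Z/p) = 0 for i > 0. Moreover, for every nonempty open subscheme j :
U → Y, the unit morphism from the constant sheaf Z/p on Y_et to j_* of its restriction to U is an
isomorphism. -/
theorem result
    (p : ℕ) [Fact p.Prime] (Y : Scheme.{u}) [IsIntegral Y]
    (hnorm : ∀ y : Y, IsIntegrallyClosed (Y.presheaf.stalk y)) [IsAlgClosed Y.functionField] :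
    Nat.card (EtCoh.H Y (EtCoh.const Y (ZMod p)) 0) = p ∧
      (∀ i : ℕ, 0 < i → Subsingleton (EtCoh.H Y (EtCoh.const Y (ZMod p)) i)) ∧
      ∀ U : Y.Opens, (U : Set Y).Nonempty →
        IsIso ((EtCoh.pullPushAdj U.ι).unit.app (EtCoh.const Y (ZMod p))) := by
  have hX : Groth.Agent.EtSite.LocIso.LocIsoBase Y := fun U u =>
    haveI : AlgebraicGeometry.Etale U.hom := U.prop
    Groth.Agent.EtSite.NormalSepClosed.exists_isOpenImmersion_nhd hnorm U.hom u
  refine ⟨?_, fun i hi => ?_, fun U hU => ?_⟩
  · refine (Groth.Agent.EtSite.natCard_H_zero_const _).trans ?_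
    exact (Nat.card_congr Equiv.ulift).trans (Nat.card_zmod p)
  · obtain ⟨n, rfl⟩ : ∃ n, i = n + 1 := ⟨i - 1, by omega⟩
    exact Groth.Agent.EtSite.subsingleton_H_of_flasque hX n _
      (Groth.Agent.EtSite.LocIso.flasque_constant hX _)
  · have hmem : ∀ V : Y.Opens, (V : Set Y).Nonempty → genericPoint Y ∈ V := fun V hV =>
      ((genericPoint_spec Y).mem_open_set_iff V.isOpen).2 (by simpa using hV)
    exact Groth.Agent.EtSite.NormalConst.isIso_unit
      (Groth.Agent.EtSite.NormalConst.constLC _) (Groth.Agent.EtSite.uniBase_of_normal hnorm)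
      U.ι (fun P hP => by
        obtain ⟨y, hy, hyg⟩ := hmem (U.ι ''ᵁ P) (by
          obtain ⟨y, hy⟩ := hP
          exact ⟨U.ι y, y, hy, rfl⟩)
        exact ⟨y, hy, hyg⟩)
      ⟨⟨genericPoint Y, hmem U hU⟩, rfl⟩

end Groth.Agent.S19130
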