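import Groth.Statements.S19132
import Groth.Agent.DualCx.DerDevissage
import Groth.Agent.DualCx.Setup
-- import your own Groth.Agent.* helpers here

set_option autoImplicit false
universe u
open CategoryTheory
attribute [local instance] HasDerivedCategory.standard
open Dual

namespace Groth.Agent.S19132

/-- In the case of a local ring whose dualizing complex is normalized, let A be a Noetherian local ring
with residue field k and ω a normalized dualizing complex over A (Hom(k, ω[i]) = 0 in D(A) for i ≠
0), and let N be an object of D(A) which is bounded with finitely generated cohomology modules and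
concentrated in nonnegative degrees (H^i(N) = 0 for i < 0). Then RHom_A(N, ω) is concentrated in
nonpositive degrees: the group of morphisms N → ω[i] in D(A) vanishes for every i > 0. (For the
local ring at a point x of a scheme of finite type over the base, whose dualizing complex is
normalized only up to the shift by the integer d(x), the corresponding bound is degree −d(x); that
case is this statement applied to the shifted complex.) -/
theorem result
    (A : Type u) [CommRing A] [IsLocalRing A] [IsNoetherianRing A]
    (ω : Dual.D A) (hω : Dual.IsDualizing A ω) (hn : Dual.IsNormalized A ω)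
    (N : Dual.D A) (hfin : ∀ i : ℤ, Module.Finite A (Dual.HD A N i))
    (b : ℤ) (hb : ∀ i : ℤ, b < i → Subsingleton (Dual.HD A N i))
    (hge : ∀ i : ℤ, i < 0 → Subsingleton (Dual.HD A N i))
    (i : ℤ) (hi : 0 < i) :
    Subsingleton (N ⟶ ω⟦i⟧) := by
  obtain ⟨W, a₀, b₀, hW, hres, hzero, ⟨e⟩⟩ := Groth.Agent.DualCx.exists_residual hω hn
  haveI := hW
  have hP : ∀ q : ℤ, 0 < q → ∀ j : ℤ, 0 ≤ j →
      Subsingleton ((DerivedCategory.singleFunctor (ModuleCat.{u} A) j).obj
        ((DerivedCategory.homologyFunctor (ModuleCat.{u} A) j).obj N) ⟶ ω⟦q⟧) := by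
    intro q hq j hj
    haveI : Module.Finite A ((DerivedCategory.homologyFunctor (ModuleCat.{u} A) j).obj N) := hfin j
    exact ((Groth.Agent.DualCx.singleHomEquiv _ ω j q).trans (Groth.Agent.DualCx.homIso W e _ (q + j))).toEquiv.subsingleton_congr.2
      (hres.upper ((DerivedCategory.homologyFunctor (ModuleCat.{u} A) j).obj N) (q + j) (by omega))
  refine Groth.Agent.DualCx.der_devissage (fun X => Subsingleton (X ⟶ ω⟦i⟧))
    (fun {X Y} e h => (Iso.homCongr e.symm (Iso.refl (ω⟦i⟧))).subsingleton)
    (fun {X} h => ⟨fun f g => h.eq_of_src f g⟩)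
    (fun T hT h₁ h₃ => Groth.Agent.DualCx.subsingleton_hom_mid hT h₁ h₃) (b + 1).toNat 0 N
    (fun j hj => ?_) (fun j hj _ => hP i hi j hj)
  rcases hj with hj | hj
  · exact @ModuleCat.isZero_of_subsingleton _ _ _ (hge j hj)
  · by_cases hj0 : j < 0
    · exact @ModuleCat.isZero_of_subsingleton _ _ _ (hge j hj0)
    · exact @ModuleCat.isZero_of_subsingleton _ _ _ (hb j (by omega))

end Groth.Agent.S19132
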