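import Groth.Statements.S19136
import Mathlib.Tactic
-- import your own Groth.Agent.* helpers here

set_option autoImplicit false
universe u
open Instab

namespace Groth.Agent.S19136

/-- Let p be a seminorm and ℓ a linear form on a real vector space, let y₀ and y₁ be vectors at which p
is positive and ℓ is non-negative, and let y = t y₀ + (1 - t) y₁ with 0 < t < 1 be a point of the
open segment at which p is positive. Then ℓ(y)/p(y) is at least the smaller of ℓ(y₀)/p(y₀) and
ℓ(y₁)/p(y₁), and if it equals that smaller value then ℓ(y₀)/p(y₀) = ℓ(y₁)/p(y₁). (The published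
lemma concerns the numerical invariant attached to a degree-two cohomology class and a semi-norm on
graded points of a stack; restricted to one rational simplex that invariant is the quotient of a
linear form by a semi-norm on the non-negative orthant of a real coordinate space, and local
quasi-concavity there amounts to this inequality with its equality clause, the set where the linear
form is non-negative being automatically convex; the lemma's further assertion, that the invariant
is positive at no pair of antipodal points, is not stated here. The vector space is arbitrary here.) -/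
theorem result {E : Type u} [AddCommGroup E] [Module ℝ E]
    (p : Seminorm ℝ E) (ℓ : E →ₗ[ℝ] ℝ) (y₀ y₁ : E) (h₀ : 0 < p y₀) (h₁ : 0 < p y₁)
    (hℓ₀ : 0 ≤ ℓ y₀) (hℓ₁ : 0 ≤ ℓ y₁) (t : ℝ) (ht₀ : 0 < t) (ht₁ : t < 1)
    (hy : 0 < p (t • y₀ + (1 - t) • y₁)) :
    min (ℓ y₀ / p y₀) (ℓ y₁ / p y₁) ≤ ℓ (t • y₀ + (1 - t) • y₁) / p (t • y₀ + (1 - t) • y₁) ∧
      (ℓ (t • y₀ + (1 - t) • y₁) / p (t • y₀ + (1 - t) • y₁) = min (ℓ y₀ / p y₀) (ℓ y₁ / p y₁) →
        ℓ y₀ / p y₀ = ℓ y₁ / p y₁) := by
  set y := t • y₀ + (1 - t) • y₁ with hyd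
  have hpy : p y ≤ t * p y₀ + (1 - t) * p y₁ := by
    refine (map_add_le_add p _ _).trans_eq ?_
    rw [map_smul_eq_mul, map_smul_eq_mul, Real.norm_of_nonneg ht₀.le, Real.norm_of_nonneg (by linarith)]
  have hly : ℓ y = t * ℓ y₀ + (1 - t) * ℓ y₁ := by simp [hyd]
  set r₀ := ℓ y₀ / p y₀ with hr₀
  set r₁ := ℓ y₁ / p y₁ with hr₁
  set m := min r₀ r₁ with hm
  have e₀ : r₀ * p y₀ = ℓ y₀ := div_mul_cancel₀ _ h₀.ne'
  have e₁ : r₁ * p y₁ = ℓ y₁ := div_mul_cancel₀ _ h₁.ne'
  have hm0 : 0 ≤ m := le_min (div_nonneg hℓ₀ h₀.le) (div_nonneg hℓ₁ h₁.le)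
  have a₀ : 0 ≤ (r₀ - m) * (t * p y₀) := mul_nonneg (by linarith [min_le_left r₀ r₁]) (by positivity)
  have a₁ : 0 ≤ (r₁ - m) * ((1 - t) * p y₁) :=
    mul_nonneg (by linarith [min_le_right r₀ r₁]) (mul_nonneg (by linarith) h₁.le)
  have a₂ : 0 ≤ m * (t * p y₀ + (1 - t) * p y₁ - p y) := mul_nonneg hm0 (by linarith)
  refine ⟨?_, fun heq => ?_⟩
  · rw [le_div_iff₀ hy]
    nlinarith
  · rw [div_eq_iff hy.ne'] at heq
    have b₀ : (r₀ - m) * (t * p y₀) = 0 := by nlinarith
    have b₁ : (r₁ - m) * ((1 - t) * p y₁) = 0 := by nlinarith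
    have c₀ : r₀ = m := by
      rcases mul_eq_zero.mp b₀ with h | h
      · linarith
      · exact absurd h (by positivity)
    have c₁ : r₁ = m := by
      rcases mul_eq_zero.mp b₁ with h | h
      · linarith
      · exact absurd h (mul_ne_zero (by linarith) h₁.ne')
    rw [c₀, c₁]

end Groth.Agent.S19136
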