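import Groth.Statements.S19137
import Mathlib.Tactic
-- import your own Groth.Agent.* helpers here

set_option autoImplicit false
universe u
open Instab

namespace Groth.Agent.S19137

/-- Let p be a seminorm on a real vector space whose unit ball is strictly convex in the sense that p(a
+ b) < p(a) + p(b) whenever p(a) and p(b) are non-zero and b is not a positive multiple of a; let ℓ
be a linear form, y₀ and y₁ vectors with p and ℓ positive at both and y₁ not a positive multiple of
y₀, and y = t y₀ + (1 - t) y₁ with 0 < t < 1 a point at which p is positive. Then ℓ(y)/p(y) is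
strictly greater than the smaller of ℓ(y₀)/p(y₀) and ℓ(y₁)/p(y₁). (The published lemma says that
when the norm on graded points is locally a norm with strictly convex unit balls, the numerical
invariant attached to a degree-two class and that norm is strictly quasi-concave on each cone and is
positive at no pair of antipodal points; on one rational simplex the first property is this strict
form of the quasi-concavity inequality for the quotient of a linear form by the norm, at points
where the linear form is positive, and the second property is not stated here. The vector space is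
arbitrary here.) -/
theorem result {E : Type u} [AddCommGroup E] [Module ℝ E]
    (p : Seminorm ℝ E)
    (hp : ∀ a b : E, p a ≠ 0 → p b ≠ 0 → (¬ ∃ c : ℝ, 0 < c ∧ b = c • a) → p (a + b) < p a + p b)
    (ℓ : E →ₗ[ℝ] ℝ) (y₀ y₁ : E) (h₀ : 0 < p y₀) (h₁ : 0 < p y₁)
    (hℓ₀ : 0 < ℓ y₀) (hℓ₁ : 0 < ℓ y₁) (hne : ¬ ∃ c : ℝ, 0 < c ∧ y₁ = c • y₀)
    (t : ℝ) (ht₀ : 0 < t) (ht₁ : t < 1) (hy : 0 < p (t • y₀ + (1 - t) • y₁)) :
    min (ℓ y₀ / p y₀) (ℓ y₁ / p y₁) < ℓ (t • y₀ + (1 - t) • y₁) / p (t • y₀ + (1 - t) • y₁) := by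
  have hns : ¬ ∃ c : ℝ, 0 < c ∧ (1 - t) • y₁ = c • (t • y₀) := by
    rintro ⟨c, hc, he⟩
    refine hne ⟨(1 - t)⁻¹ * (c * t), mul_pos (inv_pos.mpr (by linarith)) (mul_pos hc ht₀), ?_⟩
    rw [mul_smul, mul_smul, ← he, smul_smul, inv_mul_cancel₀ (by linarith : (1 - t) ≠ 0), one_smul]
  have hp₀ : p (t • y₀) = t * p y₀ := by rw [map_smul_eq_mul, Real.norm_of_nonneg ht₀.le]
  have hp₁ : p ((1 - t) • y₁) = (1 - t) * p y₁ := by
    rw [map_smul_eq_mul, Real.norm_of_nonneg (by linarith)]
  have hpy := hp (t • y₀) ((1 - t) • y₁) (by rw [hp₀]; positivity)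
    (by rw [hp₁]; exact mul_ne_zero (by linarith) h₁.ne') hns
  rw [hp₀, hp₁] at hpy
  set y := t • y₀ + (1 - t) • y₁ with hyd
  have hly : ℓ y = t * ℓ y₀ + (1 - t) * ℓ y₁ := by simp [hyd]
  set r₀ := ℓ y₀ / p y₀ with hr₀
  set r₁ := ℓ y₁ / p y₁ with hr₁
  set m := min r₀ r₁ with hm
  have e₀ : r₀ * p y₀ = ℓ y₀ := div_mul_cancel₀ _ h₀.ne'
  have e₁ : r₁ * p y₁ = ℓ y₁ := div_mul_cancel₀ _ h₁.ne'
  have hm0 : 0 < m := lt_min (div_pos hℓ₀ h₀) (div_pos hℓ₁ h₁)
  have a₀ : 0 ≤ (r₀ - m) * (t * p y₀) := mul_nonneg (by linarith [min_le_left r₀ r₁]) (by positivity)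
  have a₁ : 0 ≤ (r₁ - m) * ((1 - t) * p y₁) :=
    mul_nonneg (by linarith [min_le_right r₀ r₁]) (mul_nonneg (by linarith) h₁.le)
  have a₂ : 0 < m * (t * p y₀ + (1 - t) * p y₁ - p y) := mul_pos hm0 (by linarith)
  rw [lt_div_iff₀ hy]
  nlinarith

end Groth.Agent.S19137
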