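import Groth.Statements.S19144
import Groth.Agent.FpqcDescent.Basic
import Mathlib
-- import your own Groth.Agent.* helpers here

set_option autoImplicit false
open CategoryTheory MonoidalCategory CartesianMonoidalCategory MonObj GrpObj AlgebraicGeometry
universe u
open TwC

namespace Groth.Agent.S19144

open CategoryTheory CategoryTheory.Limits AlgebraicGeometry

theorem isSeparated_fold {T : Scheme.{u}} (I : Type u) : IsSeparated (Sigma.desc fun _ : I => 𝟙 T) := by
  let p := Sigma.desc fun _ : I => 𝟙 T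
  refine ⟨IsClosedImmersion.of_isPreimmersion _ ?_⟩
  rw [← isOpen_compl_iff, isOpen_iff_forall_mem_open]
  intro w hw
  obtain ⟨i, a, ha⟩ : ∃ (i : I) (a : T), Sigma.ι (fun _ : I => T) i a = pullback.fst p p w := (sigmaOpenCover (fun _ : I => T)).exists_eq _
  obtain ⟨j, b, hb⟩ : ∃ (j : I) (b : T), Sigma.ι (fun _ : I => T) j b = pullback.snd p p w := (sigmaOpenCover (fun _ : I => T)).exists_eq _
  refine ⟨(pullback.fst p p) ⁻¹' (Set.range (Sigma.ι (fun _ : I => T) i)) ∩
    (pullback.snd p p) ⁻¹' (Set.range (Sigma.ι (fun _ : I => T) j)), ?_, ?_, ⟨⟨a, ha⟩, ⟨b, hb⟩⟩⟩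
  · rintro v ⟨⟨a', ha'⟩, ⟨b', hb'⟩⟩ ⟨x, rfl⟩
    rw [← Scheme.Hom.comp_apply, pullback.diagonal_fst] at ha'
    rw [← Scheme.Hom.comp_apply, pullback.diagonal_snd] at hb'
    obtain ⟨rfl⟩ := (sigmaι_eq_iff _ _ _ _ _).mp (ha'.trans hb'.symm)
    let m : pullback (𝟙 T) (𝟙 T) ⟶ pullback p p :=
      pullback.map _ _ _ _ (Sigma.ι (fun _ : I => T) i) (Sigma.ι (fun _ : I => T) i) (𝟙 T) (by simp [p]) (by simp [p])
    obtain ⟨z, hz⟩ : w ∈ Set.range m := by
      rw [Scheme.Pullback.range_map]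
      exact ⟨⟨a, ha⟩, ⟨b, hb⟩⟩
    refine hw ⟨Sigma.ι (fun _ : I => T) i (pullback.fst (𝟙 T) (𝟙 T) z), ?_⟩
    have hm : pullback.fst (𝟙 T) (𝟙 T) ≫ Sigma.ι (fun _ : I => T) i ≫ pullback.diagonal p = m := by
      have hc : pullback.fst (𝟙 T) (𝟙 T) = pullback.snd (𝟙 T) (𝟙 T) := by
        simpa using pullback.condition (f := 𝟙 T) (g := 𝟙 T)
      apply pullback.hom_ext
      · rw [Category.assoc, Category.assoc, pullback.diagonal_fst, Category.comp_id]
        exact (pullback.lift_fst _ _ _).symm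
      · rw [Category.assoc, Category.assoc, pullback.diagonal_snd, Category.comp_id, hc]
        exact (pullback.lift_snd _ _ _).symm
    rw [← hz, ← hm, Scheme.Hom.comp_apply, Scheme.Hom.comp_apply]
  · exact ((Sigma.ι (fun _ : I => T) i).isOpenEmbedding.isOpen_range.preimage (pullback.fst p p).continuous).inter
      ((Sigma.ι (fun _ : I => T) j).isOpenEmbedding.isOpen_range.preimage (pullback.snd p p).continuous)

theorem specializing_fold {T : Scheme.{u}} (I : Type u) : SpecializingMap (Sigma.desc fun _ : I => 𝟙 T) := by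
  intro x t ht
  obtain ⟨i, a, rfl⟩ : ∃ (i : I) (a : T), Sigma.ι (fun _ : I => T) i a = x := (sigmaOpenCover (fun _ : I => T)).exists_eq x
  have e : ∀ c, (Sigma.desc fun _ : I => 𝟙 T) (Sigma.ι (fun _ : I => T) i c) = c := fun c => by
    rw [← Scheme.Hom.comp_apply, Sigma.ι_desc]; rfl
  rw [e] at ht
  exact ⟨Sigma.ι (fun _ : I => T) i t, ht.map (Sigma.ι (fun _ : I => T) i).continuous, e t⟩

/-- A quasi-isotrivial twisted constant S-scheme X (etale-locally on S isomorphic to a constant scheme)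
is separated and etale over S, and its structure morphism satisfies the valuative criterion of
properness (every valuative square has exactly one lift; X ⟶ S need not be quasi-compact). -/
theorem result {S : Scheme.{u}} (X : Over S)
    (hX : TwC.IsTwConst TwC.Topology.etale X) :
    IsSeparated X.hom ∧ Etale X.hom ∧ ValuativeCriterion X.hom := by
  have hX' : ∀ s : S, ∃ (S' : Scheme.{u}) (g : S' ⟶ S), Etale g ∧ s ∈ Set.range g.base ∧
      ∃ I : Type u, Nonempty (Red.bc g X ≅ TwC.const S' I) := hX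
  choose S' g hg hs I hI using hX'
  let e : ∀ s, pullback X.hom (g s) ≅ ∐ (fun _ : I s => S' s) := fun s => (Over.forget _).mapIso (hI s).some
  have he : ∀ s, pullback.snd X.hom (g s) = (e s).hom ≫ (Sigma.desc fun _ : I s => 𝟙 (S' s)) := fun s =>
    (Over.w (hI s).some.hom).symm
  have hloc : ∀ (P : MorphismProperty Scheme.{u}) [P.RespectsIso] [IsZariskiLocalAtTarget P] [P.IsStableUnderBaseChange]
      [P.DescendsAlong (@Surjective ⊓ @Flat ⊓ @QuasiCompact)],
      (∀ (T : Scheme.{u}) (J : Type u), P (Sigma.desc fun _ : J => 𝟙 T)) → P X.hom := by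
    intro P _ _ _ _ hfold
    have hs' : ∀ s : S, ∃ U : S.Opens, s ∈ U ∧ P (X.hom ∣_ U) := by
      intro s
      obtain ⟨s', hs'⟩ := hs s
      obtain ⟨_, ⟨U0, hU0, rfl⟩, hsU0, -⟩ := S.isBasis_affineOpens.exists_subset_of_mem_open (Set.mem_univ s) isOpen_univ
      obtain ⟨_, ⟨W, hW, rfl⟩, hs'W, hWU⟩ := (S' s).isBasis_affineOpens.exists_subset_of_mem_open
        (show s' ∈ ((g s) ⁻¹ᵁ U0 : Set (S' s)) by show g s s' ∈ U0; rw [hs']; exact hsU0) ((g s) ⁻¹ᵁ U0).2
      haveI := hg s
      let U : S.Opens := ⟨(g s) '' W, (g s).isOpenMap _ W.2⟩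
      have hle : W ≤ (g s) ⁻¹ᵁ U := fun w hw => ⟨w, hw, rfl⟩
      let q : (W : Scheme.{u}) ⟶ U := (g s).resLE U W hle
      refine ⟨U, ⟨s', hs'W, hs'⟩, ?_⟩
      have hqs : Surjective q := ⟨fun v => by
        obtain ⟨w, hw, hwv⟩ := v.2
        exact ⟨⟨w, hw⟩, U.ι.isOpenEmbedding.injective (by
          rw [← Scheme.Hom.comp_apply, Scheme.Hom.resLE_comp_ι]; exact hwv)⟩⟩
      haveI : IsAffine (W : Scheme.{u}) := hW
      haveI : IsAffine (U0 : Scheme.{u}) := hU0
      have hUU0 : U ≤ U0 := by rintro _ ⟨w, hw, rfl⟩; exact hWU hw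
      haveI : Scheme.IsSeparated (U : Scheme.{u}) := ⟨by
        rw [show terminal.from (U : Scheme.{u}) = S.homOfLE hUU0 ≫ terminal.from _ from terminal.hom_ext _ _]
        infer_instance⟩
      have hqc : QuasiCompact q := QuasiCompact.of_comp q (terminal.from _)
      have hqf : Flat q := inferInstance
      refine MorphismProperty.DescendsAlong.of_isPullback (Q := @Surjective ⊓ @Flat ⊓ @QuasiCompact)
        (IsPullback.of_hasPullback q (X.hom ∣_ U)) ⟨⟨hqs, hqf⟩, hqc⟩ ?_
      have h1 : IsPullback (pullback.snd q (X.hom ∣_ U) ≫ (X.hom ⁻¹ᵁ U).ι) (pullback.fst q (X.hom ∣_ U)) X.hom (q ≫ U.ι) :=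
        (IsPullback.of_hasPullback q (X.hom ∣_ U)).flip.paste_horiz (isPullback_morphismRestrict X.hom U).flip
      have h2 : P (pullback.snd X.hom (g s)) := by
        rw [he s]; exact (MorphismProperty.cancel_left_of_respectsIso P (e s).hom _).2 (hfold _ _)
      have h3 : IsPullback (pullback.fst (pullback.snd X.hom (g s)) (Scheme.Opens.ι W) ≫ pullback.fst X.hom (g s))
          (pullback.snd (pullback.snd X.hom (g s)) (Scheme.Opens.ι W)) X.hom ((Scheme.Opens.ι W) ≫ g s) :=
        (IsPullback.of_hasPullback _ _).paste_horiz (IsPullback.of_hasPullback _ _)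
      rw [show q ≫ U.ι = (Scheme.Opens.ι W) ≫ g s from Scheme.Hom.resLE_comp_ι _ _] at h1
      rw [← h1.isoIsPullback_hom_snd _ _ h3, P.cancel_left_of_respectsIso]
      exact MorphismProperty.pullback_snd _ _ h2
    choose U hsU hU using hs'
    exact IsZariskiLocalAtTarget.of_iSup_eq_top U (top_unique fun s _ => TopologicalSpace.Opens.mem_iSup.2 ⟨s, hsU s⟩) hU
  haveI := Groth.Agent.FpqcDescent.isSeparated_descendsAlong.{u}
  have hsep : IsSeparated X.hom := hloc @IsSeparated fun T J => isSeparated_fold J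
  refine ⟨hsep, hloc @Etale fun T J => IsZariskiLocalAtSource.sigmaDesc fun _ => inferInstance, ?_⟩
  rw [ValuativeCriterion.iff]
  refine ⟨ValuativeCriterion.Existence.of_specializingMap X.hom ?_, IsSeparated.valuativeCriterion X.hom⟩
  intro X' T a b p hsq0 x t ht
  have hsq : IsPullback a p X.hom b := hsq0.flip
  obtain ⟨s', hs'⟩ := hs (b t)
  haveI := hg (b t)
  let g' := pullback.fst b (g (b t))
  obtain ⟨t', ht1, ht2⟩ := Scheme.Pullback.exists_preimage_pullback t s' hs'.symm
  obtain ⟨r', hr1, hr2⟩ := Flat.generalizingMap g' (ht1 ▸ ht)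
  obtain ⟨x', hx'1, hx'2⟩ := Scheme.Pullback.exists_preimage_pullback (f := p) (g := g') x r' hr2.symm
  let l : pullback p g' ⟶ pullback X.hom (g (b t)) :=
    pullback.lift (pullback.fst p g' ≫ a) (pullback.snd p g' ≫ pullback.snd b (g (b t))) (by
      rw [Category.assoc, hsq.w, pullback.condition_assoc, Category.assoc, pullback.condition])
  have hl : IsPullback l (pullback.snd p g') (pullback.snd X.hom (g (b t))) (pullback.snd b (g (b t))) := by
    refine IsPullback.of_right (h₁₂ := pullback.fst X.hom (g (b t))) ?_ (pullback.lift_snd _ _ _) (IsPullback.of_hasPullback _ _)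
    have := (IsPullback.of_hasPullback p g').paste_horiz hsq
    rw [show g' ≫ b = pullback.snd b (g (b t)) ≫ g (b t) from pullback.condition] at this
    rwa [show l ≫ pullback.fst X.hom (g (b t)) = pullback.fst p g' ≫ a from pullback.lift_fst _ _ _]
  let h := pullback.snd b (g (b t))
  let fold := Sigma.desc fun _ : I (b t) => 𝟙 (S' (b t))
  obtain ⟨i, a₀, ha₀⟩ : ∃ (i : I (b t)) (a₀ : S' (b t)), Sigma.ι (fun _ : I (b t) => S' (b t)) i a₀ = (e (b t)).hom (l x') :=
    (sigmaOpenCover (fun _ : I (b t) => S' (b t))).exists_eq _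
  let ι' := Sigma.ι (fun _ : I (b t) => S' (b t)) i ≫ (e (b t)).inv
  have hι' : ι' ≫ pullback.snd X.hom (g (b t)) = 𝟙 _ := by
    rw [he, Category.assoc, Iso.inv_hom_id_assoc, Sigma.ι_desc]
  let σ := hl.lift (h ≫ ι') (𝟙 _) (by rw [Category.assoc, hι', Category.comp_id, Category.id_comp])
  obtain ⟨z, hz⟩ : x' ∈ Set.range (pullback.snd ι' l) := by
    rw [Scheme.Pullback.range_snd]
    refine ⟨a₀, ?_⟩
    show (Sigma.ι (fun _ : I (b t) => S' (b t)) i ≫ (e (b t)).inv) a₀ = l x'
    rw [Scheme.Hom.comp_apply]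
    erw [ha₀]
    rw [← Scheme.Hom.comp_apply, Iso.hom_inv_id]
    rfl
  have hfac : pullback.snd ι' l = (pullback.snd ι' l ≫ pullback.snd p g') ≫ σ := by
    have hfst : pullback.fst ι' l = pullback.snd ι' l ≫ pullback.snd p g' ≫ h := by
      rw [← hl.w, ← pullback.condition_assoc, hι', Category.comp_id]
    apply hl.hom_ext
    · rw [Category.assoc, hl.lift_fst, ← pullback.condition, hfst]
      simp only [Category.assoc]
    · rw [Category.assoc, hl.lift_snd, Category.comp_id]
  have hx'σ : x' = σ r' := by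
    rw [← hx'2, ← hz, ← Scheme.Hom.comp_apply, ← Scheme.Hom.comp_apply, ← Category.assoc, ← hfac]
  refine ⟨pullback.fst p g' (σ t'), ?_, ?_⟩
  · rw [← hx'1, hx'σ]
    exact (hr1.map σ.continuous).map (pullback.fst p g').continuous
  · rw [← Scheme.Hom.comp_apply, ← Scheme.Hom.comp_apply, pullback.condition, hl.lift_snd_assoc, Category.id_comp]
    exact ht1

end Groth.Agent.S19144
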