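import Mathlib
import Groth.Statements.S19148
-- import your own Groth.Agent.* helpers here

set_option autoImplicit false
open scoped TensorProduct
universe u v
open FiltMod

namespace Groth.Agent.S19148

section

open scoped TensorProduct

variable {R : Type*} [CommRing R] {M : Type*} [AddCommGroup M] [Module R M]

lemma le_of_range_le [Module.Finite R M] [Module.Projective R M] {F₁ F₂ : Submodule R M}
    (h₁ : ∃ C : Submodule R M, IsCompl F₁ C) (h₂ : ∃ C : Submodule R M, IsCompl F₂ C) (m : ℕ)
    (h : LinearMap.range (PiTensorProduct.map (R := R) (fun _ : Fin (m + 1) => F₁.subtype)) ≤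
      LinearMap.range (PiTensorProduct.map (R := R) (fun _ : Fin (m + 1) => F₂.subtype))) : F₁ ≤ F₂ := by
  obtain ⟨C₁, hC₁⟩ := h₁
  obtain ⟨C₂, hC₂⟩ := h₂
  obtain ⟨n, π, σ, -, -, hπσ⟩ := Module.Finite.exists_comp_eq_id_of_projective R M
  have hπσ' : ∀ y, π (σ y) = y := fun y => LinearMap.congr_fun hπσ y
  have key : ∀ (φ : Module.Dual R M) (g : Fin m → Module.Dual R M), (∀ y ∈ F₂, φ y = 0) →
      ∀ (x : M), x ∈ F₁ → ∀ y : Fin m → M, (∀ j, y j ∈ F₁) → φ x * ∏ j, g j (y j) = 0 := by
    intro φ g hφ x hx y hy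
    let L := PiTensorProduct.lift ((MultilinearMap.mkPiAlgebra R (Fin (m + 1)) R).compLinearMap (Fin.cons (α := fun _ => M →ₗ[R] R) φ g))
    have hz : L ∘ₗ PiTensorProduct.map (R := R) (fun _ : Fin (m + 1) => F₂.subtype) = 0 := by
      refine PiTensorProduct.ext (MultilinearMap.ext fun v => ?_)
      simp [L, Fin.prod_univ_succ, hφ _ (v 0).2]
    let v : Fin (m + 1) → F₁ := Fin.cons ⟨x, hx⟩ fun j => ⟨y j, hy j⟩
    obtain ⟨w, hw⟩ := h ⟨PiTensorProduct.tprod R v, rfl⟩
    have e := LinearMap.congr_fun hz w
    rw [LinearMap.comp_apply, hw, LinearMap.zero_apply] at e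
    simpa [L, v, Fin.prod_univ_succ] using e
  let q : M →ₗ[R] M := F₁.subtype ∘ₗ Submodule.linearProjOfIsCompl F₁ C₁ hC₁
  let p : M →ₗ[R] M := C₂.subtype ∘ₗ Submodule.linearProjOfIsCompl C₂ F₂ hC₂.symm
  let co : Fin n → Module.Dual R M := fun i => LinearMap.proj i ∘ₗ σ
  let e : Fin n → M := fun i => q (π (Pi.single i 1))
  have he : ∀ i, e i ∈ F₁ := fun i => Subtype.coe_prop _
  have hexp : ∀ x ∈ F₁, x = ∑ i, co i x • e i := by
    intro x hx
    have hq : q x = x := by
      simp only [q, LinearMap.comp_apply, Submodule.subtype_apply]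
      exact congrArg Subtype.val (Submodule.linearProjOfIsCompl_apply_left hC₁ ⟨x, hx⟩)
    conv_lhs => rw [← hq, ← hπσ' x, pi_eq_sum_univ' (σ x)]
    simp [map_sum, co, e]
  have hzero : ∀ i, ∀ x ∈ F₁, co i (p x) = 0 := by
    intro i
    have hφ : ∀ y ∈ F₂, (co i ∘ₗ p) y = 0 := fun y hy => by
      have := Submodule.linearProjOfIsCompl_apply_right hC₂.symm ⟨y, hy⟩
      show co i (C₂.subtype (Submodule.linearProjOfIsCompl C₂ F₂ hC₂.symm y)) = 0
      rw [show Submodule.linearProjOfIsCompl C₂ F₂ hC₂.symm y = 0 from this]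
      simp
    have down : ∀ d ≤ m, ∀ (g : Fin (m - d) → Module.Dual R M) (x : M), x ∈ F₁ → ∀ y : Fin (m - d) → M,
        (∀ j, y j ∈ F₁) → co i (p x) * ∏ j, g j (y j) = 0 := by
      intro d
      induction d with
      | zero => intro _ g x hx y hy; exact key _ g hφ x hx y hy
      | succ d ih =>
        intro hd g x hx y hy
        have h' := ih (by omega)
        obtain ⟨c, hc⟩ : ∃ c, c = m - (d + 1) := ⟨_, rfl⟩
        rw [show m - d = c + 1 by omega] at h'
        revert g y
        rw [← hc]
        intro g y hy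
        conv_lhs => rw [hexp x hx]
        simp only [map_sum, map_smul, smul_eq_mul, Finset.sum_mul]
        refine Finset.sum_eq_zero fun l _ => ?_
        have := h' (Fin.cons (co l) g) (e l) (he l) (Fin.cons x y) (Fin.cases (by simpa using hx) (by simpa using hy))
        simp only [Fin.prod_univ_succ, Fin.cons_zero, Fin.cons_succ] at this
        linear_combination this
    intro x hx
    have := down m le_rfl (fun _ => 0) x hx (fun _ => 0) (fun _ => F₁.zero_mem)
    rwa [Finset.prod_eq_one (fun j _ => absurd j.2 (by omega)), mul_one] at this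
  intro x hx
  have hp : p x = 0 := by
    rw [← hπσ' (p x), show σ (p x) = 0 from funext fun i => hzero i x hx, map_zero]
  exact (Submodule.linearProjOfIsCompl_apply_eq_zero_iff hC₂.symm).1 (Subtype.ext hp)

end

/-- In affine form, let R be a commutative ring, M a finitely generated projective R-module (a finite
locally free sheaf on Spec R), F₁ and F₂ direct summands of M and k ≥ 1. Then the images of F₁^{⊗k}
and F₂^{⊗k} in the k-th tensor power M^{⊗k} are equal if and only if F₁ = F₂. (The source states
this for local direct factors of a finite locally free sheaf on a scheme; equality of subsheaves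
being local, this is the affine case with global direct summands, to which it reduces.) -/
theorem result {R : Type u} [CommRing R] {M : Type v} [AddCommGroup M] [Module R M]
    [Module.Finite R M] [Module.Projective R M] (F₁ F₂ : Submodule R M)
    (h₁ : ∃ C : Submodule R M, IsCompl F₁ C) (h₂ : ∃ C : Submodule R M, IsCompl F₂ C) (k : ℕ) (hk : 1 ≤ k) :
    LinearMap.range (PiTensorProduct.map (R := R) (fun _ : Fin k => F₁.subtype)) =
      LinearMap.range (PiTensorProduct.map (R := R) (fun _ : Fin k => F₂.subtype)) ↔ F₁ = F₂ := by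
  refine ⟨fun h => ?_, fun h => by subst h; rfl⟩
  obtain ⟨m, rfl⟩ : ∃ m, k = m + 1 := ⟨k - 1, by omega⟩
  exact le_antisymm (le_of_range_le h₁ h₂ m h.le) (le_of_range_le h₂ h₁ m h.ge)

end Groth.Agent.S19148
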