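import Groth.Statements.S19149
import Mathlib
-- import your own Groth.Agent.* helpers here

set_option autoImplicit false
universe u
open GrpSch

namespace Groth.Agent.S19149

/-- Lifting criterion: a splitting of `J/J² → Ω` up to `e` makes `(A/J)[1/e]` formally smooth. -/
theorem formallySmooth_away {R A : Type u} [CommRing R] [CommRing A] [Algebra R A]
    [Algebra.FormallySmooth R A] (J : Ideal A) (e : A)
    (σ : Ω[A⁄R] →ₗ[A] (↥J ⧸ (J • ⊤ : Submodule A ↥J)))
    (hσ : ∀ j : J, σ (KaehlerDifferential.D R A (j : A)) = e • Submodule.Quotient.mk j) :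
    Algebra.FormallySmooth R (Localization.Away (Ideal.Quotient.mk J e)) := by
  refine Algebra.FormallySmooth.of_comp_surjective fun B _ _ N hN f => ?_
  let c : A →ₐ[R] B ⧸ N := (f.comp (IsScalarTower.toAlgHom R (A ⧸ J) _)).comp (Ideal.Quotient.mkₐ R J)
  obtain ⟨g, hg⟩ := Algebra.FormallySmooth.comp_surjective R A N hN c
  have hgc : ∀ a, Ideal.Quotient.mk N (g a) = c a := fun a => DFunLike.congr_fun hg a
  have hcJ : ∀ j ∈ J, c j = 0 := fun j hj => by
    simp [c, Ideal.Quotient.eq_zero_iff_mem.2 hj]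
  have hNN : ∀ x ∈ N, ∀ y ∈ N, x * y = 0 := fun x hx y hy => by
    have := Ideal.mul_mem_mul hx hy
    rwa [← pow_two, hN, Ideal.mem_bot] at this
  have hgJ : ∀ j ∈ J, g j ∈ N := fun j hj =>
    Ideal.Quotient.eq_zero_iff_mem.1 ((hgc j).trans (hcJ j hj))
  have hue : IsUnit (g e) := by
    have h1 : IsUnit (c e) := by
      show IsUnit (f (algebraMap (A ⧸ J) (Localization.Away (Ideal.Quotient.mk J e)) (Ideal.Quotient.mk J e)))
      exact (IsLocalization.Away.algebraMap_isUnit (Ideal.Quotient.mk J e)).map f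
    obtain ⟨b', hb'⟩ := isUnit_iff_exists_inv.1 h1
    obtain ⟨b, rfl⟩ := Ideal.Quotient.mk_surjective b'
    rw [← hgc, ← map_mul, ← map_one (Ideal.Quotient.mk N), Ideal.Quotient.mk_eq_mk_iff_sub_mem] at hb'
    refine IsUnit.of_mul_eq_one (b * (1 - (g e * b - 1))) ?_
    linear_combination (-1 : B) * hNN _ hb' _ hb'
  obtain ⟨eu, heu⟩ := hue
  letI : Algebra A B := g.toRingHom.toAlgebra
  have hsmul : ∀ (a : A) (b : B), a • b = g a * b := fun _ _ => rfl
  let ξ₀ : ↥J →ₗ[A] B := (Algebra.linearMap A B) ∘ₗ J.subtype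
  have hξ : (J • ⊤ : Submodule A ↥J) ≤ LinearMap.ker ξ₀ := Submodule.smul_le.2 fun a ha j _ => by
    rw [LinearMap.mem_ker, map_smul, hsmul]
    exact hNN _ (hgJ a ha) _ (hgJ j j.2)
  let ξ := (J • ⊤ : Submodule A ↥J).liftQ ξ₀ hξ
  have hξN : ∀ m, ξ m ∈ N := fun m => by
    obtain ⟨j, rfl⟩ := Submodule.Quotient.mk_surjective _ m
    exact hgJ j j.2
  let δ : A → B := fun a => -((eu⁻¹ : Bˣ) : B) * ξ (σ (KaehlerDifferential.D R A a))
  have hδN : ∀ a, δ a ∈ N := fun a => N.mul_mem_left _ (hξN _)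
  let g' : A →ₐ[R] B :=
    { toFun := fun a => g a + δ a
      map_one' := by simp [δ]
      map_zero' := by simp [δ]
      map_add' := fun a b => by simp [δ, mul_add]; abel
      map_mul' := fun a b => by
        have h := hNN _ (hδN a) _ (hδN b)
        simp only [δ, Derivation.leibniz, map_add, map_smul, map_mul, hsmul] at h ⊢
        linear_combination (-1 : B) * h
      commutes' := fun r => by simp [δ, Derivation.map_algebraMap] }
  have hg' : ∀ a, g' a = g a + δ a := fun _ => rfl
  have hmk : ∀ a, Ideal.Quotient.mk N (g' a) = c a := fun a => by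
    rw [hg', map_add, hgc, Ideal.Quotient.eq_zero_iff_mem.2 (hδN a), add_zero]
  have hg'J : ∀ j ∈ J, g' j = 0 := fun j hj => by
    rw [hg']
    simp only [δ]
    rw [hσ ⟨j, hj⟩, map_smul, hsmul]
    show g j + -((eu⁻¹ : Bˣ) : B) * (g e * g j) = 0
    rw [← heu, ← mul_assoc, neg_mul, Units.inv_mul, neg_mul, one_mul, add_neg_cancel]
  let h0 : A ⧸ J →ₐ[R] B := Ideal.Quotient.liftₐ J g' hg'J
  have hu0 : IsUnit (h0 (Ideal.Quotient.mk J e)) := by
    show IsUnit (g' e)
    rw [hg', ← heu]
    have : (eu : B) + δ e = eu * (1 + ((eu⁻¹ : Bˣ) : B) * δ e) := by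
      rw [mul_add, mul_one, Units.mul_inv_cancel_left]
    rw [this]
    refine eu.isUnit.mul (IsUnit.of_mul_eq_one (1 - ((eu⁻¹ : Bˣ) : B) * δ e) ?_)
    linear_combination (-(((eu⁻¹ : Bˣ) : B) ^ 2)) * hNN _ (hδN e) _ (hδN e)
  have hu : ∀ y : Submonoid.powers (Ideal.Quotient.mk J e), IsUnit (h0 y) := by
    rintro ⟨_, n, rfl⟩
    show IsUnit (h0 (Ideal.Quotient.mk J e ^ n))
    rw [map_pow]
    exact hu0.pow n
  refine ⟨IsLocalization.liftAlgHom (S := Localization.Away (Ideal.Quotient.mk J e)) hu, ?_⟩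
  refine IsLocalization.algHom_ext (Submonoid.powers (Ideal.Quotient.mk J e)) ?_
  ext z
  obtain ⟨a, rfl⟩ := Ideal.Quotient.mk_surjective z
  show Ideal.Quotient.mk N (IsLocalization.liftAlgHom (S := Localization.Away (Ideal.Quotient.mk J e))
    hu (algebraMap (A ⧸ J) _ (Ideal.Quotient.mk J a))) = c a
  rw [IsLocalization.liftAlgHom_apply, IsLocalization.lift_eq]
  exact hmk a

theorem mk_mem_of_eq {R A : Type u} [CommRing R] [CommRing A] [Algebra R A] {I : Ideal A}
    (N : Submodule A ↥I) (s : (↥I ⧸ N) →ₗ[R] ↥I) (hs : ∀ c, N.mkQ (s c) = c) (x : ↥I) :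
    x - s (N.mkQ x) ∈ N := by
  rw [← Submodule.Quotient.mk_eq_zero, ← Submodule.mkQ_apply, map_sub, hs, sub_self]

/-- The projection `η : A → J + I²`. -/
theorem exists_eta {R A : Type u} [CommRing R] [CommRing A] [Algebra R A]
    (ε : A →ₐ[R] R) (I J : Ideal A) (hI : I = RingHom.ker ε) (hJI : J ≤ I)
    (h3 : Module.Projective R (↥I ⧸ Submodule.comap I.subtype (J ⊔ I ^ 2))) :
    ∃ η : A →ₗ[R] A, (∀ a, η a ∈ J ⊔ I ^ 2) ∧ (∀ j ∈ J, η j = j) ∧
      ∀ a b, η (a * b) - (ε a • η b + ε b • η a) ∈ I ^ 2 := by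
  haveI := h3
  let p : ↥I →ₗ[R] ↥I ⧸ Submodule.comap I.subtype (J ⊔ I ^ 2) :=
    { toFun := Submodule.Quotient.mk
      map_add' := fun x y => rfl
      map_smul' := fun r x => rfl }
  have hp : Function.Surjective p := Quotient.mk''_surjective
  obtain ⟨s, hs⟩ := Module.projective_lifting_property p LinearMap.id hp
  have hdm : ∀ a : A, a - algebraMap R A (ε a) ∈ I := fun a => by
    rw [hI, RingHom.mem_ker, map_sub, AlgHom.commutes, Algebra.algebraMap_self, RingHom.id_apply,
      sub_self]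
  let δ : A →ₗ[R] ↥I :=
    { toFun := fun a => ⟨a - algebraMap R A (ε a), hdm a⟩
      map_add' := fun a b => Subtype.ext (by
        show a + b - algebraMap R A (ε (a + b)) = _ + _
        rw [map_add, map_add]; ring)
      map_smul' := fun r a => Subtype.ext (by
        show r • a - algebraMap R A (ε (r • a)) = r • (a - algebraMap R A (ε a))
        rw [map_smul, smul_sub, smul_eq_mul, map_mul, ← Algebra.smul_def]) }
  have hδ : ∀ a, (δ a : A) = a - algebraMap R A (ε a) := fun a => rfl
  refine ⟨I.subtype.restrictScalars R ∘ₗ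
    (δ - s ∘ₗ p ∘ₗ δ),
    fun a => mk_mem_of_eq (Submodule.comap I.subtype (J ⊔ I ^ 2)) s
      (fun c => DFunLike.congr_fun hs c) (δ a), fun j hj => ?_,
    fun a b => ?_⟩
  · have h0 : p (δ j) = 0 := by
      refine (Submodule.Quotient.mk_eq_zero _).2 (Submodule.mem_comap.2 ?_)
      refine Ideal.mem_sup_left ?_
      show (δ j : A) ∈ J
      have h0 : ε j = 0 := by have := hJI hj; rwa [hI] at this
      rw [hδ, h0, map_zero, sub_zero]; exact hj
    simp only [LinearMap.comp_apply, LinearMap.sub_apply, LinearMap.restrictScalars_apply, h0,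
      map_zero, sub_zero]
    show (δ j : A) = j
    have h1 : ε j = 0 := by have := hJI hj; rwa [hI] at this
    rw [hδ, h1, map_zero, sub_zero]
  · have hq2 : ((δ (a * b) - (ε a • δ b + ε b • δ a) : ↥I) : A) ∈ I ^ 2 := by
      rw [Submodule.coe_sub, Submodule.coe_add, Submodule.coe_smul_of_tower,
        Submodule.coe_smul_of_tower, hδ, hδ, hδ, Algebra.smul_def, Algebra.smul_def, map_mul, map_mul]
      rw [pow_two]
      convert Ideal.mul_mem_mul (hdm a) (hdm b) using 1
      ring
    have h0 : p (δ (a * b) - (ε a • δ b + ε b • δ a)) = 0 :=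
      (Submodule.Quotient.mk_eq_zero _).2 (Submodule.mem_comap.2 (Ideal.mem_sup_right hq2))
    rw [← map_smul, ← map_smul, ← map_add, ← map_sub]
    have e : δ (a * b - (ε a • b + ε b • a)) = δ (a * b) - (ε a • δ b + ε b • δ a) := by
      simp only [map_sub, map_add, map_smul]
    simp only [LinearMap.comp_apply, LinearMap.sub_apply, LinearMap.restrictScalars_apply, e, h0,
      map_zero, sub_zero]
    exact hq2

theorem exists_derivation {R A T0 : Type u} [CommRing R] [CommRing A] [Algebra R A]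
    [AddCommGroup T0] [Module A T0] [Module R T0] [IsScalarTower R A T0]
    (ε : A →ₐ[R] R) (I J : Ideal A) (η : A →ₗ[R] A)
    (hη : ∀ a, η a ∈ J ⊔ I ^ 2) (hηj : ∀ j ∈ J, η j = j)
    (hηmul : ∀ a b, η (a * b) - (ε a • η b + ε b • η a) ∈ I ^ 2)
    (mk : ↥J →ₗ[A] T0) (hkill : ∀ z : ↥J, (z : A) ∈ I ^ 2 → mk z = 0)
    (hact : ∀ (a : A) (t : T0), a • t = algebraMap R A (ε a) • t) :
    ∃ D : Derivation R A T0, ∀ j : J, D (j : A) = mk j := by
  classical
  choose jf hjf w hw hjw using fun a => Submodule.mem_sup.1 (hη a)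
  have huniq : ∀ (a : A) (j : ↥J), η a - j ∈ I ^ 2 → mk ⟨jf a, hjf a⟩ = mk j := by
    intro a j h
    rw [← sub_eq_zero, ← map_sub]
    refine hkill _ ?_
    show jf a - j ∈ I ^ 2
    have : jf a - j = (η a - j) - w a := by rw [← hjw a]; ring
    rw [this]
    exact sub_mem h (hw a)
  have hsub : ∀ a, η a - jf a ∈ I ^ 2 := fun a => by rw [← hjw a, add_sub_cancel_left]; exact hw a
  let D : Derivation R A T0 := Derivation.mk'
    { toFun := fun a => mk ⟨jf a, hjf a⟩
      map_add' := fun a b => by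
        rw [← map_add]
        refine huniq _ _ ?_
        show η (a + b) - (jf a + jf b) ∈ _
        rw [map_add, add_sub_add_comm]
        exact add_mem (hsub a) (hsub b)
      map_smul' := fun r a => by
        rw [RingHom.id_apply]
        refine (huniq _ (algebraMap R A r • ⟨jf a, hjf a⟩) ?_).trans (by
          rw [map_smul, algebraMap_smul])
        show η (r • a) - algebraMap R A r * jf a ∈ _
        rw [map_smul, Algebra.smul_def, ← mul_sub]
        exact Ideal.mul_mem_left _ _ (hsub a) }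
    fun a b => by
      show mk ⟨jf (a * b), _⟩ = a • mk ⟨jf b, _⟩ + b • mk ⟨jf a, _⟩
      rw [hact a, hact b, ← map_smul, ← map_smul, ← map_add]
      refine huniq _ _ ?_
      show η (a * b) - (algebraMap R A (ε a) * jf b + algebraMap R A (ε b) * jf a) ∈ _
      have hb := Ideal.mul_mem_left _ (algebraMap R A (ε a)) (hsub b)
      have ha := Ideal.mul_mem_left _ (algebraMap R A (ε b)) (hsub a)
      convert add_mem (add_mem hb ha) (hηmul a b) using 1
      rw [Algebra.smul_def, Algebra.smul_def]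
      ring
  refine ⟨D, fun j => huniq _ _ ?_⟩
  rw [hηj _ j.2, sub_self]
  exact zero_mem _

open Polynomial in
theorem exists_quasi_inverse {A M : Type u} [CommRing A] [AddCommGroup M] [Module A M]
    [Module.Finite A M] (I : Ideal A) (u : Module.End A M)
    (hrange : LinearMap.range (1 - u) ≤ I • ⊤) :
    ∃ (e : A) (W : Module.End A M), e - 1 ∈ I ∧ ∀ m, W (u m) = e • m := by
  obtain ⟨P, hPm, -, hPc, hPv⟩ :=
    LinearMap.exists_monic_and_natDegree_eq_and_coeff_mem_pow_and_aeval_eq_zero A (1 - u) I hrange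
  obtain ⟨q, hq⟩ := Polynomial.X_sub_C_dvd_sub_C_eval (p := P) (a := (1 : A))
  refine ⟨P.eval 1, aeval (1 - u) q, ?_, fun m => ?_⟩
  · rw [eval_eq_sum_range, Finset.sum_range_succ, hPm.coeff_natDegree, one_pow, mul_one,
      add_sub_cancel_right]
    refine sum_mem fun k hk => ?_
    rw [one_pow, mul_one]
    exact Ideal.pow_le_self (by have := Finset.mem_range.1 hk; omega) (hPc k)
  · have h := congrArg (aeval (1 - u)) hq
    rw [mul_comm (X - C (1 : A)) q] at h
    simp only [map_sub, map_mul, aeval_X, aeval_C, hPv, map_one, zero_sub, sub_sub_cancel_left,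
      mul_neg, neg_inj] at h
    have h' := LinearMap.congr_fun h m
    rw [Module.End.mul_apply, Module.algebraMap_end_apply] at h'
    exact h'.symm

theorem smul_eq_zero_of_mem {A M : Type u} [CommRing A] [AddCommGroup M] [Module A M]
    (I : Ideal A) {x : A} (hx : x ∈ I) (t : M ⧸ (I • ⊤ : Submodule A M)) : x • t = 0 := by
  obtain ⟨t, rfl⟩ := Submodule.mkQ_surjective _ t
  rw [← map_smul, Submodule.mkQ_apply, Submodule.Quotient.mk_eq_zero]
  exact Submodule.smul_mem_smul hx Submodule.mem_top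

theorem mkQ_mkQ_eq_zero {A : Type u} [CommRing A] (I J : Ideal A) (h2 : J ⊓ I ^ 2 = I * J)
    (z : ↥J) (hz : (z : A) ∈ I ^ 2) :
    (I • ⊤ : Submodule A (↥J ⧸ (J • ⊤ : Submodule A ↥J))).mkQ
      ((J • ⊤ : Submodule A ↥J).mkQ z) = 0 := by
  have hz' : (z : A) ∈ I • J := by rw [smul_eq_mul, ← h2]; exact ⟨z.2, hz⟩
  have h' := Submodule.mem_map_of_mem (f := (J • ⊤ : Submodule A ↥J).mkQ)
    ((Submodule.mem_smul_top_iff I J z).2 hz')
  rw [Submodule.map_smul''] at h'
  exact (Submodule.Quotient.mk_eq_zero _).2 (Submodule.smul_mono le_rfl le_top h')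

theorem exists_sigma {R A : Type u} [CommRing R] [CommRing A] [Algebra R A]
    [Algebra.Smooth R A] (ε : A →ₐ[R] R) (J : Ideal A) (hJI : J ≤ RingHom.ker ε) (h1 : J.FG)
    (h2 : J ⊓ RingHom.ker ε ^ 2 = RingHom.ker ε * J)
    (h3 : Module.Projective R (↥(RingHom.ker ε) ⧸
      Submodule.comap (RingHom.ker ε).subtype (J ⊔ RingHom.ker ε ^ 2))) :
    ∃ (e : A) (σ : Ω[A⁄R] →ₗ[A] (↥J ⧸ (J • ⊤ : Submodule A ↥J))), e - 1 ∈ RingHom.ker ε ∧
      ∀ j : J, σ (KaehlerDifferential.D R A (j : A)) = e • Submodule.Quotient.mk j := by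
  set I : Ideal A := RingHom.ker ε with hI
  obtain ⟨η, hη, hηj, hηmul⟩ := exists_eta ε I J hI hJI h3
  obtain ⟨D, hDj⟩ := exists_derivation ε I J η hη hηj hηmul
    ((I • ⊤ : Submodule A (↥J ⧸ (J • ⊤ : Submodule A ↥J))).mkQ ∘ₗ (J • ⊤ : Submodule A ↥J).mkQ)
    (fun z hz => mkQ_mkQ_eq_zero I J h2 z hz) (fun a t => by
      rw [← sub_eq_zero, ← sub_smul]
      refine smul_eq_zero_of_mem I ?_ t
      rw [hI, RingHom.mem_ker]; simp)
  obtain ⟨σ, hσ⟩ := Module.projective_lifting_property
    (I • ⊤ : Submodule A (↥J ⧸ (J • ⊤ : Submodule A ↥J))).mkQ D.liftKaehlerDifferential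
    (Submodule.mkQ_surjective _)
  let u₀ : ↥J →ₗ[A] ↥J ⧸ (J • ⊤ : Submodule A ↥J) :=
    { toFun := fun j => σ (KaehlerDifferential.D R A (j : A))
      map_add' := fun a b => by simp
      map_smul' := fun a j => by
        have hJM : ∀ m : ↥J ⧸ (J • ⊤ : Submodule A ↥J), (j : A) • m = 0 := fun m => by
          obtain ⟨m, rfl⟩ := Submodule.mkQ_surjective _ m
          rw [← map_smul, Submodule.mkQ_apply, Submodule.Quotient.mk_eq_zero]
          exact Submodule.smul_mem_smul j.2 Submodule.mem_top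
        show σ (KaehlerDifferential.D R A (a * (j : A))) = _
        rw [Derivation.leibniz, map_add, map_smul, map_smul, hJM, add_zero]
        rfl }
  have hu₀ : (J • ⊤ : Submodule A ↥J) ≤ LinearMap.ker u₀ := Submodule.smul_le.2 fun a ha j _ => by
    rw [LinearMap.mem_ker, map_smul]
    obtain ⟨m, hm⟩ := Submodule.mkQ_surjective _ (u₀ j)
    rw [← hm, ← map_smul, Submodule.mkQ_apply, Submodule.Quotient.mk_eq_zero]
    exact Submodule.smul_mem_smul ha Submodule.mem_top
  let u := (J • ⊤ : Submodule A ↥J).liftQ u₀ hu₀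
  haveI : Module.Finite A ↥J := Module.Finite.iff_fg.2 h1
  have hrange : LinearMap.range ((1 : Module.End A (↥J ⧸ (J • ⊤ : Submodule A ↥J))) - u) ≤
      I • ⊤ := by
    rintro _ ⟨m, rfl⟩
    obtain ⟨j, rfl⟩ := Submodule.mkQ_surjective _ m
    rw [← Submodule.Quotient.mk_eq_zero]
    show Submodule.mkQ _ (Submodule.mkQ _ j - σ (KaehlerDifferential.D R A (j : A))) = 0
    rw [map_sub, sub_eq_zero]
    refine ((DFunLike.congr_fun hσ (KaehlerDifferential.D R A (j : A))).trans ?_).symm
    rw [Derivation.liftKaehlerDifferential_comp_D, hDj]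
    rfl
  obtain ⟨e, W, he, hW⟩ := exists_quasi_inverse I u hrange
  exact ⟨e, W ∘ₗ σ, he, fun j => hW (Submodule.Quotient.mk j)⟩

/-- In affine form, let R be a commutative ring, A a smooth R-algebra with an augmentation ε : A → R
(the unit section of G = Spec A over S = Spec R), I = ker ε its augmentation ideal, and J ⊆ I an
ideal (defining a closed subscheme H of G through the unit section) such that (1) J is finitely
generated, (2) J ∩ I² = I·J in A, and (3) I/(J + I²) is a finitely generated projective R-module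
(finite locally free on S). Then H = Spec (A/J) is smooth over S at every point of the unit section:
for every prime P of A/J containing the image of I, the localization (A/J)_P is formally smooth over
R. (The source states this for G an affine smooth group scheme over a scheme S and H a closed
subgroup, concluding that the neutral component H° is a smooth open subgroup scheme; that conclusion
is smoothness of H along the unit section, which is the statement here in affine form; the group
structure is not used.) -/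
theorem result (R A : Type u) [CommRing R] [CommRing A] [Algebra R A]
    [Algebra.Smooth R A] (ε : A →ₐ[R] R) (J : Ideal A) (hJI : J ≤ RingHom.ker ε)
    (h1 : J.FG)
    (h2 : J ⊓ RingHom.ker ε ^ 2 = RingHom.ker ε * J)
    (h3 : Module.Finite R (↥(RingHom.ker ε) ⧸ Submodule.comap (RingHom.ker ε).subtype (J ⊔ RingHom.ker ε ^ 2)) ∧
      Module.Projective R (↥(RingHom.ker ε) ⧸ Submodule.comap (RingHom.ker ε).subtype (J ⊔ RingHom.ker ε ^ 2)))
    (P : Ideal (A ⧸ J)) [P.IsPrime] (hP : (RingHom.ker ε).map (Ideal.Quotient.mk J) ≤ P) :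
    Algebra.IsSmoothAt R P := by
  obtain ⟨e, σ, he, hσ⟩ := exists_sigma ε J hJI h1 h2 h3.2
  haveI : Algebra.FormallySmooth R (Localization.Away (Ideal.Quotient.mk J e)) :=
    formallySmooth_away J e σ hσ
  haveI : Algebra.FinitePresentation R (A ⧸ J) := Algebra.FinitePresentation.quotient h1
  haveI : Algebra.FinitePresentation R (Localization.Away (Ideal.Quotient.mk J e)) :=
    Algebra.FinitePresentation.trans R (A ⧸ J) _
  haveI : Algebra.Smooth R (Localization.Away (Ideal.Quotient.mk J e)) := ⟨inferInstance, inferInstance⟩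
  have heP : Ideal.Quotient.mk J e ∉ P := fun h => by
    have h' : Ideal.Quotient.mk J (e - 1) ∈ P := hP (Ideal.mem_map_of_mem _ he)
    refine ‹P.IsPrime›.ne_top ((Ideal.eq_top_iff_one P).2 ?_)
    have := sub_mem h h'
    rwa [← map_sub, sub_sub_cancel, map_one] at this
  exact Algebra.basicOpen_subset_smoothLocus_iff_smooth.2 ‹_› (show ⟨P, ‹_›⟩ ∈
    (PrimeSpectrum.basicOpen (Ideal.Quotient.mk J e) : Set (PrimeSpectrum (A ⧸ J))) from heP)

end Groth.Agent.S19149
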