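import Groth.Statements.S19154
import Mathlib

set_option autoImplicit false
open scoped TensorProduct
universe u v w
open FiltMod

namespace Groth.Agent.S19154

section
open Classical
variable {Γ : Type w} [LinearOrder Γ] {R : Type u} [CommRing R] {M : Type v} [AddCommGroup M] [Module R M]

/-- The span of the image of a submodule in a base change. -/
noncomputable abbrev img (k : Type u) [CommRing k] [Algebra R k] (N : Submodule R M) : Submodule k (k ⊗[R] M) :=
  Submodule.span k ((fun x => (1 : k) ⊗ₜ[R] x) '' (N : Set M))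

lemma img_gc (k : Type u) [CommRing k] [Algebra R k] : GaloisConnection (img (R := R) (M := M) k)
    (fun W => (W.restrictScalars R).comap (TensorProduct.mk R k M 1)) := fun N W => by
  simp only [img, Submodule.span_le, Set.image_subset_iff]
  rfl

lemma img_eq_range (k : Type u) [CommRing k] [Algebra R k] (N : Submodule R M) :
    img k N = LinearMap.range (N.subtype.baseChange k) := by
  refine le_antisymm (Submodule.span_le.mpr ?_) ?_
  · rintro _ ⟨x, hx, rfl⟩; exact ⟨1 ⊗ₜ ⟨x, hx⟩, by simp⟩
  · rintro _ ⟨t, rfl⟩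
    induction t using TensorProduct.induction_on with
    | zero => simp
    | add a b ha hb => rw [map_add]; exact add_mem ha hb
    | tmul c x =>
      have : (N.subtype.baseChange k) (c ⊗ₜ x) = c • ((1 : k) ⊗ₜ[R] (x : M)) := by
        simp [TensorProduct.smul_tmul']
      rw [this]
      exact Submodule.smul_mem _ _ (Submodule.subset_span ⟨x, x.2, rfl⟩)

lemma map_eq_zero_of_img {k : Type u} [CommRing k] [Algebra R k] {N : Submodule R M} {M' : Type v}
    [AddCommGroup M'] [Module R M'] (P : M →ₗ[R] M') (h : ∀ x ∈ N, P x = 0) {v : k ⊗[R] M}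
    (hv : v ∈ img k N) : P.baseChange k v = 0 := by
  have : img k N ≤ LinearMap.ker (P.baseChange k) := Submodule.span_le.mpr (by
    rintro _ ⟨x, hx, rfl⟩; simp [h x hx])
  exact this hv

variable (G : Γ → Submodule R M) [DirectSum.Decomposition G]

/-- Component projection of a grading. -/
noncomputable def prj (a : Γ) : M →ₗ[R] M :=
  (G a).subtype ∘ₗ DirectSum.component R Γ (fun i => G i) a ∘ₗ (DirectSum.decomposeLinearEquiv G).toLinearMap

lemma prj_apply (a : Γ) (z : M) : prj G a z = ((DirectSum.decompose G z) a : M) := rfl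

lemma prj_mem (a : Γ) (z : M) : prj G a z ∈ G a := (DirectSum.decompose G z a).2

lemma prj_same {a : Γ} {z : M} (hz : z ∈ G a) : prj G a z = z := by
  rw [prj_apply, DirectSum.decompose_of_mem_same G hz]

lemma prj_ne {a b : Γ} {z : M} (hz : z ∈ G b) (h : b ≠ a) : prj G a z = 0 := by
  rw [prj_apply, DirectSum.decompose_of_mem_ne G hz h]

lemma exists_supp [Module.Finite R M] : ∃ T : Finset Γ, ∀ a ∉ T, G a = ⊥ := by
  obtain ⟨S, hS⟩ := Module.Finite.fg_top (R := R) (M := M)
  refine ⟨S.biUnion fun z => (DirectSum.decompose G z).support, fun a ha => ?_⟩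
  have : Submodule.span R (S : Set M) ≤ LinearMap.ker (prj G a) := by
    refine Submodule.span_le.mpr fun z hz => ?_
    rw [SetLike.mem_coe, LinearMap.mem_ker, prj_apply]
    have hnot : a ∉ (DirectSum.decompose G z).support := fun h => ha (Finset.mem_biUnion.mpr ⟨z, hz, h⟩)
    rw [DFinsupp.notMem_support_iff.mp hnot, ZeroMemClass.coe_zero]
  refine (Submodule.eq_bot_iff _).mpr fun z hz => ?_
  rw [← prj_same G hz]
  exact this (hS ▸ Submodule.mem_top)

end

section
open Classical
variable {Γ : Type w} [LinearOrder Γ] {R : Type u} [CommRing R] {M : Type v} [AddCommGroup M] [Module R M]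
  {F Fp G : Γ → Submodule R M} (hF : Antitone F) (hFp : ∀ γ, Fp γ = ⨆ η ∈ Set.Ioi γ, F η)
  (hsup : ∀ γ, G γ ⊔ Fp γ = F γ) (hdis : ∀ γ, G γ ⊓ Fp γ = ⊥)

include hF hFp hsup hdis in
lemma eq_zero_of_sum_mem (s : Finset Γ) (g : Γ → M) (hg : ∀ a, g a ∈ G a) (γ : Γ)
    (h : ∑ a ∈ s, g a ∈ F γ) : ∀ a ∈ s, a < γ → g a = 0 := by
  induction s using Finset.induction_on_min with
  | empty => simp
  | insert a s ha ih =>
    have hnot : a ∉ s := fun h => lt_irrefl a (ha a h)
    rw [Finset.sum_insert hnot] at h
    have hle : ∀ η, a < η → F η ≤ Fp a := fun η hη => by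
      rw [hFp]; exact le_iSup₂ (f := fun η _ => F η) η hη
    rcases lt_or_ge a γ with hlt | hge
    · have h0 : g a = 0 := by
        have hmem : g a ∈ G a ⊓ Fp a := by
          refine ⟨hg a, ?_⟩
          have : g a = (g a + ∑ b ∈ s, g b) - ∑ b ∈ s, g b := by abel
          rw [this]
          exact sub_mem (hle γ hlt h) (Submodule.sum_mem _ fun b hb =>
            hle b (ha b hb) ((hsup b) ▸ Submodule.mem_sup_left (hg b)))
        rwa [hdis, Submodule.mem_bot] at hmem
      intro b hb hbγ
      rcases Finset.mem_insert.mp hb with rfl | hb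
      · exact h0
      · exact ih (by rwa [h0, zero_add] at h) b hb hbγ
    · intro b hb hbγ
      rcases Finset.mem_insert.mp hb with rfl | hb
      · exact absurd hbγ (not_lt.mpr hge)
      · exact absurd (hbγ.trans_le hge) (not_lt.mpr (ha b hb).le)

include hF hFp hsup hdis in
lemma grading_of_span [Nontrivial Γ] [NoMaxOrder Γ] (htop : ⨆ γ, G γ = ⊤) :
    DirectSum.IsInternal G ∧ ∀ γ, F γ = ⨆ η ∈ Set.Ici γ, G η := by
  have hmain := eq_zero_of_sum_mem hF hFp hsup hdis
  have hGF : ∀ η, G η ≤ F η := fun η => (hsup η) ▸ le_sup_left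
  refine ⟨DirectSum.isInternal_submodule_of_iSupIndep_of_iSup_eq_top ?_ htop, fun γ => le_antisymm ?_ ?_⟩
  · rw [iSupIndep_def]
    intro a
    rw [Submodule.disjoint_def]
    intro z hza hz
    obtain ⟨f, hf, hsum⟩ := (Submodule.mem_iSup_iff_exists_finsupp _ _).mp hz
    have hf' : ∀ b, f b ∈ G b ∧ (b = a → f b = 0) := fun b => by
      have := hf b
      by_cases hb : b = a
      · rw [iSup_neg (by simpa using hb)] at this
        exact ⟨by rw [(Submodule.mem_bot _).mp this]; exact zero_mem _, fun _ => (Submodule.mem_bot _).mp this⟩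
      · rw [iSup_pos hb] at this
        exact ⟨this, fun h => absurd h hb⟩
    obtain ⟨γ, hγ⟩ := exists_gt a
    have hn : a ∉ f.support := fun hn => Finsupp.mem_support_iff.mp hn ((hf' a).2 rfl)
    have hsum' : ∑ b ∈ f.support, f b = z := hsum
    have h0 := hmain (insert a f.support) (fun b => if b = a then -z else f b)
      (fun b => by by_cases hb : b = a <;> simp [hb, (hf' b).1, hza]) γ
      (by
        rw [Finset.sum_insert hn, if_pos rfl, Finset.sum_congr rfl fun b hb => if_neg (fun e => hn (by rw [← e]; exact hb)),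
          hsum', neg_add_cancel]
        exact zero_mem _)
      a (Finset.mem_insert_self _ _) hγ
    simpa using h0
  · intro z hz
    obtain ⟨f, hf, hsum⟩ := (Submodule.mem_iSup_iff_exists_finsupp _ _).mp (htop ▸ Submodule.mem_top (x := z))
    rw [← hsum]
    refine Submodule.sum_mem _ fun b hb => ?_
    rcases lt_or_ge b γ with h | h
    · show f b ∈ _
      rw [hmain f.support (fun b => f b) hf γ (by rw [show ∑ b ∈ f.support, f b = z from hsum]; exact hz) b hb h]
      exact zero_mem _
    · exact Submodule.mem_iSup_of_mem b (Submodule.mem_iSup_of_mem h (hf b))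
  · exact iSup₂_le fun η hη => (hGF η).trans (hF hη)

end

private lemma nat_helper {a w p f s q r S : ℕ} (e1 : s + q = a + w) (e2 : f + r = a + p) (e3 : q ≤ r) (e4 : r ≤ a)
    (ih : S ≤ w) : f - p + S ≤ s := by omega

/-- (1) ⇔ (4): in affine form, let Γ be a non-trivial totally ordered commutative group, R a commutative
ring, M a finitely generated projective R-module (a finite locally free sheaf on X = Spec R) and F a
non-increasing Γ-indexed family of submodules of M; write F^γ_+ for the sum of the F^η with η > γ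
and Gr^γ = F^γ/F^γ_+. Then the following are equivalent: (1) there is a Γ-grading M = ⊕_γ G_γ by
submodules (internal direct sum) with F^γ = Σ_{η ≥ γ} G_η for every γ; (4) every Gr^γ is finitely
generated projective over R and, for every prime p of R, dim_{κ(p)} (κ(p) ⊗ M) = Σ_γ dim_{κ(p)} Gr^γ
of the image filtration on κ(p) ⊗ M (whose γ-th term F_x^γ is the image of κ(p) ⊗ F^γ; dim Gr^γ is
written as dim F_x^γ − dim F_x^γ_+, and the sum has finitely many non-zero terms). (The source's
conditions (2), (3) are the Zariski- and fpqc-local forms of (1) on a general scheme; its further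
assertions on F^γ ⊗ κ(x) are not stated.) -/
theorem result
    {Γ : Type w} [AddCommGroup Γ] [LinearOrder Γ] [IsOrderedAddMonoid Γ] [Nontrivial Γ]
    {R : Type u} [CommRing R] {M : Type v} [AddCommGroup M] [Module R M] [Module.Finite R M] [Module.Projective R M]
    (F : Γ → Submodule R M) (hF : Antitone F)
    (Fp : Γ → Submodule R M) (hFp : ∀ γ, Fp γ = ⨆ η ∈ Set.Ioi γ, F η) :
    (∃ G : Γ → Submodule R M, DirectSum.IsInternal G ∧ ∀ γ, F γ = ⨆ η ∈ Set.Ici γ, G η) ↔
    ((∀ γ, Module.Finite R (↥(F γ) ⧸ Submodule.comap (F γ).subtype (Fp γ)) ∧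
        Module.Projective R (↥(F γ) ⧸ Submodule.comap (F γ).subtype (Fp γ))) ∧
      ∀ (p : PrimeSpectrum R) (Fx : Γ → Submodule p.asIdeal.ResidueField (p.asIdeal.ResidueField ⊗[R] M)),
        (∀ γ, Fx γ = LinearMap.range ((F γ).subtype.baseChange p.asIdeal.ResidueField)) →
        Module.finrank p.asIdeal.ResidueField (p.asIdeal.ResidueField ⊗[R] M) =
          ∑ᶠ γ, (Module.finrank p.asIdeal.ResidueField ↥(Fx γ) -
            Module.finrank p.asIdeal.ResidueField ↥(⨆ η ∈ Set.Ioi γ, Fx η))) := by
  classical
  have : NoMaxOrder Γ := inferInstance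
  constructor
  · rintro ⟨G, hG, hFG⟩
    let _ := hG.chooseDecomposition
    have hFpG : ∀ γ, Fp γ = ⨆ η ∈ Set.Ioi γ, G η := fun γ => by
      rw [hFp]
      refine le_antisymm (iSup₂_le fun η hη => ?_) (iSup₂_mono fun η _ => ?_)
      · rw [hFG]
        exact iSup₂_le fun θ hθ => le_iSup₂ (f := fun θ _ => G θ) θ (lt_of_lt_of_le hη hθ)
      · rw [hFG]; exact le_iSup₂ (f := fun θ _ => G θ) η le_rfl
    have hGle : ∀ γ, G γ ≤ F γ := fun γ => by rw [hFG]; exact le_iSup₂ (f := fun θ _ => G θ) γ le_rfl
    have hdec : ∀ γ, F γ = G γ ⊔ Fp γ := fun γ => by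
      refine le_antisymm ?_ (sup_le (hGle γ) (by rw [hFp]; exact iSup₂_le fun η hη => hF hη.le))
      rw [hFG, hFpG]
      refine iSup₂_le fun η (hη : γ ≤ η) => ?_
      rcases eq_or_lt_of_le hη with rfl | h
      · exact le_sup_left
      · exact le_sup_of_le_right (le_iSup₂ (f := fun θ _ => G θ) η h)
    have hkill : ∀ γ, ∀ x ∈ Fp γ, prj G γ x = 0 := fun γ x hx => by
      rw [hFpG] at hx
      have : (⨆ η ∈ Set.Ioi γ, G η) ≤ LinearMap.ker (prj G γ) :=
        iSup₂_le fun η hη w hw => prj_ne G hw (Set.mem_Ioi.mp hη).ne'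
      exact this hx
    refine ⟨fun γ => ?_, fun p Fx hFx => ?_⟩
    · let π : F γ →ₗ[R] G γ := (DirectSum.component R Γ (fun i => G i) γ ∘ₗ
        (DirectSum.decomposeLinearEquiv G).toLinearMap) ∘ₗ (F γ).subtype
      have hπ : ∀ x : F γ, (π x : M) = prj G γ x := fun x => rfl
      have hsurj : Function.Surjective π := fun g =>
        ⟨⟨g, hGle γ g.2⟩, Subtype.ext (by rw [hπ]; exact prj_same G g.2)⟩
      have hker : LinearMap.ker π = Submodule.comap (F γ).subtype (Fp γ) := by
        ext x
        rw [LinearMap.mem_ker, Submodule.mem_comap, Submodule.subtype_apply]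
        refine ⟨fun h => ?_, fun h => Subtype.ext (by rw [hπ, hkill γ _ h]; rfl)⟩
        obtain ⟨g, hg, r, hr, hgr⟩ := Submodule.mem_sup.mp ((hdec γ).le x.2)
        have hg0 : prj G γ (x : M) = g := by rw [← hgr, map_add, prj_same G hg, hkill γ r hr, add_zero]
        have : g = 0 := by rw [← hg0, ← hπ, h]; rfl
        rw [← hgr, this, zero_add]; exact hr
      let e : (↥(F γ) ⧸ Submodule.comap (F γ).subtype (Fp γ)) ≃ₗ[R] G γ :=
        (Submodule.quotEquivOfEq _ _ hker.symm).trans (π.quotKerEquivOfSurjective hsurj)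
      let r : M →ₗ[R] G γ := DirectSum.component R Γ (fun i => G i) γ ∘ₗ
        (DirectSum.decomposeLinearEquiv G).toLinearMap
      have hr : r ∘ₗ (G γ).subtype = LinearMap.id := by
        ext g; exact prj_same G g.2
      have : Module.Finite R (G γ) := Module.Finite.of_surjective r fun g => ⟨g, LinearMap.congr_fun hr g⟩
      have : Module.Projective R (G γ) := Module.Projective.of_split (G γ).subtype r hr
      exact ⟨Module.Finite.equiv e.symm, Module.Projective.of_equiv e.symm⟩
    · set k := p.asIdeal.ResidueField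
      obtain ⟨T, hT⟩ := exists_supp G
      have gc := img_gc (R := R) (M := M) k
      have hdisj : ∀ (a : Γ) (N : Submodule R M), (∀ x ∈ N, prj G a x = 0) → img k (G a) ⊓ img k N = ⊥ := by
        intro a N hN
        refine (Submodule.eq_bot_iff _).mpr fun v ⟨hva, hvN⟩ => ?_
        have h0 := map_eq_zero_of_img (prj G a) hN hvN
        have h1 := map_eq_zero_of_img (LinearMap.id - prj G a) (fun x hx => by simp [prj_same G hx]) hva
        simp [LinearMap.baseChange_sub, h0] at h1
        exact h1
      have hFx' : ∀ γ, Fx γ = img k (F γ) := fun γ => by rw [hFx, img_eq_range]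
      have hdrop : ∀ γ, Module.finrank k ↥(Fx γ) - Module.finrank k ↥(⨆ η ∈ Set.Ioi γ, Fx η) =
          Module.finrank k (img k (G γ)) := by
        intro γ
        have h1 : (⨆ η ∈ Set.Ioi γ, Fx η) = img k (Fp γ) := by
          rw [hFp, gc.l_iSup₂]; simp only [hFx']
        rw [h1, hFx' γ, hdec γ, gc.l_sup]
        have := Submodule.finrank_sup_add_finrank_inf_eq (img k (G γ)) (img k (Fp γ))
        rw [hdisj γ _ (hkill γ), finrank_bot, add_zero] at this
        exact Nat.sub_eq_of_eq_add this
      rw [finsum_congr hdrop]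
      rw [finsum_eq_sum_of_support_subset (s := T) _ ?_]
      · have hsum : ∀ S : Finset Γ, Module.finrank k (img k (⨆ a ∈ S, G a)) =
            ∑ a ∈ S, Module.finrank k (img k (G a)) := by
          intro S
          induction S using Finset.induction_on with
          | empty =>
            rw [show (⨆ a ∈ (∅ : Finset Γ), G a) = ⊥ by simp, gc.l_bot, finrank_bot, Finset.sum_empty]
          | @insert a S ha ih =>
            rw [Finset.iSup_insert, gc.l_sup, Finset.sum_insert ha, ← ih]
            have := Submodule.finrank_sup_add_finrank_inf_eq (img k (G a)) (img k (⨆ b ∈ S, G b))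
            have hd : img k (G a) ⊓ img k (⨆ b ∈ S, G b) = ⊥ := hdisj a _ fun x hx => by
              have : (⨆ b ∈ S, G b) ≤ LinearMap.ker (prj G a) :=
                iSup₂_le fun b hb w hw => prj_ne G hw (fun e => ha (e ▸ hb))
              exact this hx
            rw [hd, finrank_bot, add_zero] at this
            exact this
        have htop : (⨆ a ∈ T, G a) = ⊤ := by
          rw [eq_top_iff, ← hG.submodule_iSup_eq_top]
          refine iSup_le fun a => ?_
          by_cases ha : a ∈ T
          · exact le_iSup₂ (f := fun a _ => G a) a ha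
          · rw [hT a ha]; exact bot_le
        have hV : img k (⊤ : Submodule R M) = ⊤ := by
          rw [img_eq_range, LinearMap.range_eq_top]
          exact LinearMap.lTensor_surjective k (fun x => ⟨⟨x, trivial⟩, rfl⟩)
        rw [← hsum T, htop, hV, finrank_top]
      · intro a ha
        by_contra haT
        apply ha
        simp only
        rw [hT a haT, gc.l_bot, finrank_bot]
  · rintro ⟨hgr, hfib⟩
    have hlift : ∀ γ, ∃ s : (↥(F γ) ⧸ Submodule.comap (F γ).subtype (Fp γ)) →ₗ[R] F γ,
        (Submodule.comap (F γ).subtype (Fp γ)).mkQ ∘ₗ s = LinearMap.id := fun γ =>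
      have := (hgr γ).2
      Module.projective_lifting_property _ _ (Submodule.mkQ_surjective _)
    choose s hs using hlift
    let G : Γ → Submodule R M := fun γ => LinearMap.range ((F γ).subtype ∘ₗ s γ)
    have hFpF : ∀ γ, Fp γ ≤ F γ := fun γ => by rw [hFp]; exact iSup₂_le fun η hη => hF hη.le
    have hGF : ∀ γ, G γ ≤ F γ := fun γ => by rintro _ ⟨y, rfl⟩; exact (s γ y).2
    have hsup : ∀ γ, G γ ⊔ Fp γ = F γ := fun γ => by
      refine le_antisymm (sup_le (hGF γ) (hFpF γ)) fun x hx => ?_
      set y := (Submodule.comap (F γ).subtype (Fp γ)).mkQ ⟨x, hx⟩ with hy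
      have h1 : (⟨x, hx⟩ - s γ y : F γ) ∈ Submodule.comap (F γ).subtype (Fp γ) := by
        rw [← Submodule.Quotient.mk_eq_zero, Submodule.Quotient.mk_sub]
        have h2 := LinearMap.congr_fun (hs γ) y
        simp only [LinearMap.comp_apply, LinearMap.id_apply, Submodule.mkQ_apply] at h2 hy
        rw [h2, hy, sub_self]
      refine Submodule.mem_sup.mpr ⟨(s γ y : M), ⟨y, rfl⟩, x - (s γ y : M), h1, by abel⟩
    have hdis : ∀ γ, G γ ⊓ Fp γ = ⊥ := fun γ => by
      refine (Submodule.eq_bot_iff _).mpr ?_
      rintro _ ⟨⟨y, rfl⟩, hy⟩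
      have h2 := LinearMap.congr_fun (hs γ) y
      simp only [LinearMap.comp_apply, LinearMap.id_apply, Submodule.mkQ_apply] at h2
      have : y = 0 := by
        rw [← h2, Submodule.Quotient.mk_eq_zero]; exact hy
      simp [this]
    suffices htop : ⨆ γ, G γ = ⊤ by
      obtain ⟨hint, hFG⟩ := grading_of_span hF hFp hsup hdis htop
      exact ⟨G, hint, hFG⟩
    set N : Submodule R M := ⨆ γ, G γ with hN
    rw [← Submodule.Quotient.subsingleton_iff, ← Module.support_eq_empty_iff (R := R)]
    refine Set.eq_empty_of_forall_notMem fun p hp => ?_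
    rw [Module.mem_support_iff_nontrivial_residueField_tensorProduct] at hp
    set k := p.asIdeal.ResidueField
    suffices hs : Subsingleton (k ⊗[R] (M ⧸ N)) from (not_subsingleton_iff_nontrivial.mpr hp) hs
    have gc := img_gc (R := R) (M := M) k
    let Fx : Γ → Submodule k (k ⊗[R] M) := fun γ => img k (F γ)
    have hd := hfib p Fx (fun γ => img_eq_range k (F γ))
    have hFxp : ∀ γ, (⨆ η ∈ Set.Ioi γ, Fx η) = img k (Fp γ) := fun γ => by rw [hFp, gc.l_iSup₂]
    replace hd : Module.finrank k (k ⊗[R] M) =
        ∑ᶠ γ, (Module.finrank k (Fx γ) - Module.finrank k (img k (Fp γ))) :=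
      hd.trans (finsum_congr fun γ => by rw [← hFxp γ])
    have key : ∀ D : Finset Γ, ∑ a ∈ D, (Module.finrank k (Fx a) - Module.finrank k (img k (Fp a))) ≤
        Module.finrank k (img k (⨆ a ∈ D, G a)) := by
      intro D
      induction D using Finset.induction_on_min with
      | empty => simp
      | insert a D ha ih =>
        have hnot : a ∉ D := fun h => lt_irrefl a (ha a h)
        rw [Finset.sum_insert hnot, Finset.iSup_insert, gc.l_sup]
        set A := img k (G a)
        set W := img k (⨆ b ∈ D, G b)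
        set P := img k (Fp a)
        have hWP : W ≤ P := gc.monotone_l (iSup₂_le fun b hb => (hGF b).trans (by
          rw [hFp]; exact le_iSup₂ (f := fun η _ => F η) b (ha b hb)))
        have hA : A ⊔ P = Fx a := by rw [← gc.l_sup, hsup]
        have e1 := Submodule.finrank_sup_add_finrank_inf_eq A W
        have e2 := Submodule.finrank_sup_add_finrank_inf_eq A P
        rw [hA] at e2
        have e3 := Submodule.finrank_mono (inf_le_inf_left A hWP)
        exact nat_helper e1 e2 e3 (Submodule.finrank_mono inf_le_left) ih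
    have hfull : img k N = ⊤ := by
      apply Submodule.eq_top_of_finrank_eq
      refine le_antisymm (Submodule.finrank_le _) ?_
      by_cases hfin : (Function.support fun γ => Module.finrank k (Fx γ) - Module.finrank k (img k (Fp γ))).Finite
      · rw [hd, finsum_eq_sum _ hfin]
        exact (key _).trans (Submodule.finrank_mono (gc.monotone_l (iSup₂_le fun a _ => le_iSup G a)))
      · rw [hd, finsum_of_infinite_support hfin]; exact Nat.zero_le _
    refine ⟨fun a b => ?_⟩
    have hsj : Function.Surjective (N.mkQ.baseChange k) := LinearMap.lTensor_surjective k N.mkQ_surjective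
    have h0 : ∀ c : k ⊗[R] (M ⧸ N), c = 0 := fun c => by
      obtain ⟨v, rfl⟩ := hsj c
      exact map_eq_zero_of_img N.mkQ (fun x hx => (Submodule.Quotient.mk_eq_zero N).mpr hx)
        (hfull ▸ Submodule.mem_top)
    rw [h0 a, h0 b]

end Groth.Agent.S19154
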