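import Groth.Statements.S19155
import Groth.Agent.RootDat.Weyl

set_option autoImplicit false
open RootPairing
open RootD

namespace Groth.Agent.S19155

/-- Let P be a root datum (root pairing over ℤ with finitely many roots, roots in M), S a system of
positive roots, Γ a non-trivial totally ordered commutative group and f : M → Γ additive. Call f
dominant when f(α) ≥ 0 for every positive root α. Then the dominant maps form a fundamental domain
for the Weyl group W acting on Hom(M, Γ) through M: there is w ∈ W with f ∘ w dominant, and if f and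
f ∘ w are both dominant (w ∈ W) then f ∘ w = f. -/
theorem result {ι M N : Type*} [AddCommGroup M] [AddCommGroup N]
    (P : RootPairing ι ℤ M N) [Finite ι] (S : Set ι) (hS : RootD.IsPosSys P S)
    {Γ : Type*} [AddCommGroup Γ] [LinearOrder Γ] [IsOrderedAddMonoid Γ] [Nontrivial Γ] (f : M →+ Γ) :
    (∃ g : P.Aut, g ∈ P.weylGroup ∧ ∀ i ∈ S, 0 ≤ f (RootPairing.Equiv.weightHom P g (P.root i))) ∧
    (∀ g : P.Aut, g ∈ P.weylGroup → (∀ i ∈ S, 0 ≤ f (P.root i)) →
      (∀ i ∈ S, 0 ≤ f (RootPairing.Equiv.weightHom P g (P.root i))) →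
      ∀ m : M, f (RootPairing.Equiv.weightHom P g m) = f m) := by
  refine ⟨?_, fun g hg hf hfg m => ?_⟩
  · obtain ⟨g, hg, hgS⟩ := Groth.Agent.RootDat.exists_weyl_subset P hS (P' := {i | 0 ≤ f (P.root i)})
      (fun i => by
        simp only [Set.mem_ofPred_eq, Groth.Agent.RootDat.root_opp, map_neg, neg_nonneg]
        exact le_total _ _)
      (fun i j k hi hj hk => by
        simp only [Set.mem_ofPred_eq, hk, map_add] at hi hj ⊢
        exact add_nonneg hi hj)
    refine ⟨g, hg, fun i hi => ?_⟩
    rw [Groth.Agent.RootDat.weightHom_eq_smul, ← Groth.Agent.RootDat.root_smul]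
    exact hgS ⟨i, hi, rfl⟩
  · have hΔ := Groth.Agent.RootDat.isSimpleSys_simpleOf P hS
    have hSeq := Groth.Agent.RootDat.posSys_eq_posOf hΔ hS (Groth.Agent.RootDat.simpleOf_subset P S)
    rw [← Groth.Agent.RootDat.weylGroup_eq_closure P hΔ] at hg
    obtain ⟨l, hl, rfl⟩ := Groth.Agent.RootDat.exists_word P hg
    clear hg
    induction hn : l.length using Nat.strong_induction_on generalizing l with
    | _ n ih =>
      by_cases hone : (l.map (Groth.Agent.RootDat.refl P)).prod = 1
      · show f ((l.map (Groth.Agent.RootDat.refl P)).prod • m) = f m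
        rw [hone, one_smul]
      obtain ⟨i, hi, hneg⟩ := Groth.Agent.RootDat.exists_neg_of_ne_one hΔ subset_rfl (Groth.Agent.RootDat.word_mem P hl) hone
      obtain ⟨l', hsub', hlen, hprod⟩ := Groth.Agent.RootDat.exists_shorter hΔ hl hi hneg
      rw [← hSeq] at hneg
      have h0 : f ((l.map (Groth.Agent.RootDat.refl P)).prod • P.root i) = 0 := by
        refine le_antisymm ?_ (hfg i hi.1)
        have h1 := hf _ ((hS.cover _).resolve_left hneg)
        rw [Groth.Agent.RootDat.root_opp, Groth.Agent.RootDat.root_smul, map_neg, neg_nonneg] at h1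
        exact h1
      have hsplit : (l.map (Groth.Agent.RootDat.refl P)).prod = (l'.map (Groth.Agent.RootDat.refl P)).prod * Groth.Agent.RootDat.refl P i := by
        rw [hprod, mul_assoc, Groth.Agent.RootDat.refl_mul_self, mul_one]
      have heq : ∀ x : M, f ((l'.map (Groth.Agent.RootDat.refl P)).prod • x) = f ((l.map (Groth.Agent.RootDat.refl P)).prod • x) := by
        intro x
        rw [hprod, mul_smul, Groth.Agent.RootDat.refl_smul, smul_sub, smul_comm, map_sub, map_zsmul, h0, smul_zero,
          sub_zero]
      show f ((l.map (Groth.Agent.RootDat.refl P)).prod • m) = f m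
      rw [← heq]
      exact ih l'.length (by omega) l' (fun a ha => hl a (hsub' a ha))
        (fun k hk => (heq _).symm ▸ hfg k hk) rfl

end Groth.Agent.S19155
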