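import Groth.Statements.S19157
import Mathlib.Algebra.DirectSum.Decomposition
import Mathlib

set_option autoImplicit false
open scoped TensorProduct
universe u v w
open FiltMod

namespace Groth.Agent.S19157

section
variable {Γ : Type w} [AddCommGroup Γ] [LinearOrder Γ] [IsOrderedAddMonoid Γ]
  {R : Type u} [CommRing R] {M : Type v} [AddCommGroup M] [Module R M]

/-- Component projection of a grading. -/
noncomputable def prj (G : Γ → Submodule R M) [DirectSum.Decomposition G] (a : Γ) : M →ₗ[R] M :=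
  (G a).subtype ∘ₗ DirectSum.component R Γ (fun i => G i) a ∘ₗ (DirectSum.decomposeLinearEquiv G).toLinearMap

lemma prj_apply (G : Γ → Submodule R M) [DirectSum.Decomposition G] (a : Γ) (z : M) :
    prj G a z = ((DirectSum.decompose G z) a : M) := rfl

lemma prj_of_mem_ne (G : Γ → Submodule R M) [DirectSum.Decomposition G] {a b : Γ} {z : M}
    (hz : z ∈ G b) (h : b ≠ a) : prj G a z = 0 := by
  rw [prj_apply, DirectSum.decompose_of_mem_ne G hz h]

lemma sum_prj (G : Γ → Submodule R M) [DirectSum.Decomposition G] (z : M) :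
    ∃ s : Finset Γ, ∑ a ∈ s, prj G a z = z := by
  classical
  exact ⟨_, DirectSum.sum_support_decompose G z⟩

lemma prj_eq_zero_of_lt (G : Γ → Submodule R M) [DirectSum.Decomposition G] {a γ : Γ} (h : a < γ)
    {z : M} (hz : z ∈ ⨆ η ∈ Set.Ici γ, G η) : prj G a z = 0 := by
  have : (⨆ η ∈ Set.Ici γ, G η) ≤ LinearMap.ker (prj G a) := by
    refine iSup₂_le fun η (hη : γ ≤ η) w hw => ?_
    exact prj_of_mem_ne G hw (h.trans_le hη).ne'
  exact this hz

lemma finite_supp [Module.Finite R M] (G : Γ → Submodule R M) [DirectSum.Decomposition G] :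
    ∃ T : Finset Γ, ∀ a ∉ T, ∀ z, prj G a z = 0 := by
  classical
  obtain ⟨S, hS⟩ := Module.Finite.fg_top (R := R) (M := M)
  refine ⟨S.biUnion fun z => (DirectSum.decompose G z).support, fun a ha z => ?_⟩
  have : Submodule.span R (S : Set M) ≤ LinearMap.ker (prj G a) := by
    refine Submodule.span_le.mpr fun z hz => ?_
    rw [SetLike.mem_coe, LinearMap.mem_ker, prj_apply]
    have hnot : a ∉ (DirectSum.decompose G z).support := fun h => ha (Finset.mem_biUnion.mpr ⟨z, hz, h⟩)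
    rw [DFinsupp.notMem_support_iff.mp hnot, ZeroMemClass.coe_zero]
  exact this (hS ▸ Submodule.mem_top)

variable {k : ℕ}

/-- The tensor filtration piece. -/
abbrev TF (F : Γ → Submodule R M) (k : ℕ) (γ : Γ) : Submodule R (⨂[R] _ : Fin k, M) :=
  ⨆ c : {c : Fin k → Γ // ∑ i, c i = γ}, LinearMap.range (PiTensorProduct.map (R := R) (fun i => (F (c.1 i)).subtype))

lemma core (F₁ F₂ : Γ → Submodule R M) (G₂ : Γ → Submodule R M) [DirectSum.Decomposition G₂]
    (e₂ : ∀ γ, F₂ γ = ⨆ η ∈ Set.Ici γ, G₂ η) (hT : ∀ γ, TF F₁ k γ ≤ TF F₂ k γ)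
    (d c : Fin k → Γ) (hdc : ∑ i, c i < ∑ i, d i) (x : Fin k → M) (hx : ∀ i, x i ∈ F₁ (d i))
    (φ : Fin k → M →ₗ[R] R) : ∏ i, φ i (prj G₂ (c i) (x i)) = 0 := by
  let P : (⨂[R] _ : Fin k, M) →ₗ[R] R :=
    PiTensorProduct.lift ((MultilinearMap.mkPiAlgebra R (Fin k) R).compLinearMap fun i => φ i ∘ₗ prj G₂ (c i))
  have hP : ∀ y, P (PiTensorProduct.tprod R y) = ∏ i, φ i (prj G₂ (c i) (y i)) := by
    intro y; simp [P]
  have hker : TF F₂ k (∑ i, d i) ≤ LinearMap.ker P := by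
    refine iSup_le fun d' => ?_
    rw [LinearMap.range_le_ker_iff]
    ext z
    simp only [LinearMap.compMultilinearMap_apply, LinearMap.comp_apply, PiTensorProduct.map_tprod,
      hP, LinearMap.zero_apply]
    obtain ⟨i, -, hi⟩ := Finset.exists_lt_of_sum_lt (lt_of_lt_of_eq hdc d'.2.symm)
    refine Finset.prod_eq_zero (Finset.mem_univ i) ?_
    rw [Submodule.subtype_apply]
    rw [prj_eq_zero_of_lt G₂ hi ((e₂ _).le (z i).2), map_zero]
  have hmem : PiTensorProduct.tprod R x ∈ TF F₁ k (∑ i, d i) := by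
    refine Submodule.mem_iSup_of_mem (⟨d, rfl⟩ : {c : Fin k → Γ // ∑ i, c i = ∑ i, d i}) ?_
    exact ⟨PiTensorProduct.tprod R fun i => (⟨x i, hx i⟩ : F₁ (d i)), by simp⟩
  have := hker (hT _ hmem)
  rwa [LinearMap.mem_ker, hP] at this

variable [Module.Finite R M] [Module.Projective R M]

lemma exists_max_live (G : Γ → Submodule R M) [DirectSum.Decomposition G] (p : Ideal R) [p.IsPrime]
    (hM : ∃ (z : M) (ψ : M →ₗ[R] R), ψ z ∉ p) :
    ∃ a, (∃ z ψ, z ∈ G a ∧ (ψ : M →ₗ[R] R) z ∉ p) ∧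
      ∀ b, (∃ z ψ, z ∈ G b ∧ (ψ : M →ₗ[R] R) z ∉ p) → b ≤ a := by
  classical
  obtain ⟨T, hT⟩ := finite_supp G
  let L := T.filter fun a => ∃ z ψ, z ∈ G a ∧ (ψ : M →ₗ[R] R) z ∉ p
  have hsub : ∀ b, (∃ z ψ, z ∈ G b ∧ (ψ : M →ₗ[R] R) z ∉ p) → b ∈ L := by
    rintro b ⟨z, ψ, hz, hψ⟩
    refine Finset.mem_filter.mpr ⟨?_, z, ψ, hz, hψ⟩
    by_contra hb
    have h0 := hT b hb z
    rw [prj_apply, DirectSum.decompose_of_mem_same G hz] at h0
    exact hψ (by rw [h0, map_zero]; exact zero_mem p)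
  have hne : L.Nonempty := by
    obtain ⟨z, ψ, hψ⟩ := hM
    obtain ⟨s, hs⟩ := sum_prj G z
    by_contra hL
    apply hψ
    rw [← hs, map_sum]
    refine Ideal.sum_mem _ fun a _ => ?_
    by_contra hbad
    exact hL ⟨a, hsub a ⟨_, ψ, (DirectSum.decompose G z a).2, hbad⟩⟩
  exact ⟨L.max' hne, (Finset.mem_filter.mp (L.max'_mem hne)).2, fun b hb => L.le_max' b (hsub b hb)⟩

lemma diag (F₁ F₂ : Γ → Submodule R M) (G₂ : Γ → Submodule R M) [DirectSum.Decomposition G₂]
    (e₂ : ∀ γ, F₂ γ = ⨆ η ∈ Set.Ici γ, G₂ η) (hk : 1 ≤ k) (hT : ∀ γ, TF F₁ k γ ≤ TF F₂ k γ)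
    (p : Ideal R) [p.IsPrime] {γ η : Γ} (h : η < γ) {y : M} (hy : y ∈ F₁ γ) (ψ : M →ₗ[R] R) :
    ψ (prj G₂ η y) ∈ p := by
  have h0 := core F₁ F₂ G₂ e₂ hT (fun _ => γ) (fun _ => η) (Finset.sum_lt_sum (fun _ _ => h.le)
    ⟨⟨0, hk⟩, Finset.mem_univ _, h⟩) (fun _ => y) (fun _ => hy) (fun _ => ψ)
  rw [Finset.prod_const] at h0
  exact Ideal.IsPrime.mem_of_pow_mem ‹_› _ (h0 ▸ zero_mem p)

lemma half (F₁ F₂ G₁ G₂ : Γ → Submodule R M) [DirectSum.Decomposition G₁] [DirectSum.Decomposition G₂]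
    (e₁ : ∀ γ, F₁ γ = ⨆ η ∈ Set.Ici γ, G₁ η) (e₂ : ∀ γ, F₂ γ = ⨆ η ∈ Set.Ici γ, G₂ η)
    (hk : 1 ≤ k) (hT : ∀ γ, TF F₁ k γ = TF F₂ k γ) (γ : Γ) : F₁ γ ≤ F₂ γ := by
  intro x hx
  have key : ∀ η, η < γ → prj G₂ η x = 0 := by
    intro η hη
    refine (Module.forall_dual_apply_eq_zero_iff R _).mp fun φ => ?_
    by_contra ha
    have hann : Module.annihilator R (Submodule.span R {φ (prj G₂ η x)}) ≠ ⊤ := by
      rw [ne_eq, Ideal.eq_top_iff_one, Submodule.mem_annihilator_span_singleton]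
      simpa using ha
    obtain ⟨p, hp, hle⟩ := Ideal.exists_le_maximal _ hann
    have : p.IsPrime := hp.isPrime
    have hout : ∀ r, r * φ (prj G₂ η x) = 0 → r ∈ p := fun r hr =>
      hle ((Submodule.mem_annihilator_span_singleton _ _).mpr (by simpa using hr))
    have hM : ∃ (z : M) (ψ : M →ₗ[R] R), ψ z ∉ p := by
      by_contra hM
      push Not at hM
      obtain ⟨n, f, g, -, -, hfg⟩ := Module.Finite.exists_comp_eq_id_of_projective R M
      have hle' : (⊤ : Submodule R M) ≤ p • (⊤ : Submodule R M) := by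
        intro z _
        have hz : z = ∑ i, (LinearMap.proj i ∘ₗ g) z • f (Pi.single i 1) := by
          conv_lhs => rw [← LinearMap.congr_fun hfg z |>.trans (LinearMap.id_apply z)]
          rw [LinearMap.comp_apply, pi_eq_sum_univ' (g z), map_sum]
          simp [map_smul]
        rw [hz]
        exact Submodule.sum_mem _ fun i _ => Submodule.smul_mem_smul (hM z _) Submodule.mem_top
      obtain ⟨r, hr1, hr2⟩ := Submodule.exists_sub_one_mem_and_smul_eq_zero_of_fg_of_le_smul p ⊤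
        Module.Finite.fg_top hle'
      have hrp : r ∈ p := hout r (by rw [← smul_eq_mul, ← map_smul, hr2 _ Submodule.mem_top, map_zero])
      exact hp.ne_top ((Ideal.eq_top_iff_one p).mpr (by simpa using p.sub_mem hrp hr1))
    obtain ⟨A, ⟨y, ψ, hy, hψ⟩, hA⟩ := exists_max_live G₁ p hM
    obtain ⟨B, ⟨y', ψ', hy', hψ'⟩, hB⟩ := exists_max_live G₂ p hM
    have hyF : y ∈ F₁ A := (e₁ A).ge (Submodule.mem_iSup_of_mem A (Submodule.mem_iSup_of_mem (le_refl A) hy))
    have hyF' : y' ∈ F₂ B := (e₂ B).ge (Submodule.mem_iSup_of_mem B (Submodule.mem_iSup_of_mem (le_refl B) hy'))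
    have hcomp : ∀ (G' F' : Γ → Submodule R M) [DirectSum.Decomposition G'] (a : Γ) (z : M) (χ : M →ₗ[R] R),
        χ z ∉ p → ∃ b, χ (prj G' b z) ∉ p := by
      intro G' _ _ a z χ hχ
      by_contra hall
      push Not at hall
      obtain ⟨s, hs⟩ := sum_prj G' z
      exact hχ (by rw [← hs, map_sum]; exact Ideal.sum_mem _ fun b _ => hall b)
    obtain ⟨b, hb⟩ := hcomp G₂ F₂ A y ψ hψ
    obtain ⟨a, ha'⟩ := hcomp G₁ F₁ B y' ψ' hψ'
    have hAb : A ≤ b := le_of_not_gt fun h =>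
      hb (diag F₁ F₂ G₂ e₂ hk (fun γ => (hT γ).le) p h hyF ψ)
    have hbB : b ≤ B := hB b ⟨_, ψ, (DirectSum.decompose G₂ y b).2, hb⟩
    have hBa : B ≤ a := le_of_not_gt fun h =>
      ha' (diag F₂ F₁ G₁ e₁ hk (fun γ => (hT γ).ge) p h hyF' ψ')
    have haA : a ≤ A := hA a ⟨_, ψ', (DirectSum.decompose G₁ y' a).2, ha'⟩
    have hbA : b = A := le_antisymm (hbB.trans (hBa.trans haA)) hAb
    rw [hbA] at hb
    let i₀ : Fin k := ⟨0, hk⟩
    have h0 := core F₁ F₂ G₂ e₂ (fun γ => (hT γ).le) (Function.update (fun _ => A) i₀ γ)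
      (Function.update (fun _ => A) i₀ η)
      (Finset.sum_lt_sum (fun i _ => by rcases eq_or_ne i i₀ with rfl | h <;> simp [*, hη.le])
        ⟨i₀, Finset.mem_univ _, by simpa using hη⟩)
      (Function.update (fun _ => y) i₀ x)
      (fun i => by
        rcases eq_or_ne i i₀ with rfl | h
        · simpa using hx
        · simpa [Function.update_of_ne h] using hyF)
      (Function.update (fun _ => ψ) i₀ φ)
    rw [← Finset.mul_prod_erase _ _ (Finset.mem_univ i₀)] at h0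
    have hpw : ∀ i ∈ (Finset.univ.erase i₀ : Finset (Fin k)),
        (Function.update (fun _ => ψ) i₀ φ i) (prj G₂ (Function.update (fun _ => A) i₀ η i)
          (Function.update (fun _ => y) i₀ x i)) = ψ (prj G₂ A y) := by
      intro i hi
      simp [Finset.ne_of_mem_erase hi]
    rw [Finset.prod_congr rfl hpw, Finset.prod_const, mul_comm] at h0
    simp only [Function.update_self] at h0
    exact hb (Ideal.IsPrime.mem_of_pow_mem ‹_› _ (hout _ h0))
  obtain ⟨s, hs⟩ := sum_prj G₂ x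
  rw [e₂ γ, ← hs]
  refine Submodule.sum_mem _ fun η _ => ?_
  rcases lt_or_ge η γ with h | h
  · rw [key η h]; exact zero_mem _
  · exact Submodule.mem_iSup_of_mem η (Submodule.mem_iSup_of_mem h (DirectSum.decompose G₂ x η).2)

end

/-- In affine form, let Γ be a non-trivial totally ordered commutative group, R a commutative ring, M a
finitely generated projective R-module, k ≥ 1, and F₁, F₂ two Γ-filtrations of M each admitting a
splitting (a grading M = ⊕_γ G_γ by submodules with F^γ = Σ_{η ≥ γ} G_η). If the filtrations they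
induce on the k-th tensor power M^{⊗k} coincide, i.e. for every γ the sum over γ₁ + ⋯ + γ_k = γ of
the images of F₁^{γ₁} ⊗ ⋯ ⊗ F₁^{γ_k} in M^{⊗k} equals the corresponding sum for F₂, then F₁ = F₂.
(The source states this for Γ-filtrations of a finite locally free sheaf on a scheme, which split
Zariski-locally; this is the affine split case to which it reduces.) -/
theorem result
    {Γ : Type w} [AddCommGroup Γ] [LinearOrder Γ] [IsOrderedAddMonoid Γ] [Nontrivial Γ]
    {R : Type u} [CommRing R] {M : Type v} [AddCommGroup M] [Module R M] [Module.Finite R M] [Module.Projective R M]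
    (F₁ F₂ : Γ → Submodule R M)
    (h₁ : ∃ G : Γ → Submodule R M, DirectSum.IsInternal G ∧ ∀ γ, F₁ γ = ⨆ η ∈ Set.Ici γ, G η)
    (h₂ : ∃ G : Γ → Submodule R M, DirectSum.IsInternal G ∧ ∀ γ, F₂ γ = ⨆ η ∈ Set.Ici γ, G η)
    (k : ℕ) (hk : 1 ≤ k)
    (h : ∀ γ : Γ,
      (⨆ c : {c : Fin k → Γ // ∑ i, c i = γ}, LinearMap.range (PiTensorProduct.map (R := R) (fun i => (F₁ (c.1 i)).subtype))) =
      (⨆ c : {c : Fin k → Γ // ∑ i, c i = γ}, LinearMap.range (PiTensorProduct.map (R := R) (fun i => (F₂ (c.1 i)).subtype)))) :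
    F₁ = F₂ := by
  obtain ⟨G₁, i₁, e₁⟩ := h₁
  obtain ⟨G₂, i₂, e₂⟩ := h₂
  let _ := i₁.chooseDecomposition
  let _ := i₂.chooseDecomposition
  funext γ
  exact le_antisymm (half F₁ F₂ G₁ G₂ e₁ e₂ hk h γ) (half F₂ F₁ G₂ G₁ e₂ e₁ hk (fun γ => (h γ).symm) γ)

end Groth.Agent.S19157
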