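import Groth.Statements.S19158
import Mathlib.Algebra.DirectSum.Module
import Mathlib.RingTheory.Nilpotent.Basic
import Mathlib.RingTheory.Finiteness.Basic
import Mathlib.LinearAlgebra.Pi
import Mathlib.Tactic.NoncommRing
-- import your own Groth.Agent.* helpers here

set_option autoImplicit false
universe u v w
open FiltMod

namespace Groth.Agent.S19158

private lemma exists_stable {Γ : Type w} [LinearOrder Γ] {R : Type u} [CommRing R] {M : Type v}
    [AddCommGroup M] [Module R M] [Module.Finite R M] (Fil : Γ → Submodule R M) (G : Γ → Submodule R M)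
    (hG : DirectSum.IsInternal G) (hFil : ∀ γ, Fil γ = ⨆ η ∈ Set.Ici γ, G η)
    (P : Module.End R M) (hP : P * P = P) (hPF : ∀ γ, ∀ x ∈ Fil γ, P x ∈ Fil γ) :
    ∃ G' : Γ → Submodule R M, DirectSum.IsInternal G' ∧ (∀ γ, Fil γ = ⨆ η ∈ Set.Ici γ, G' η) ∧
      ∀ γ, ∀ x ∈ G' γ, P x ∈ G' γ := by
  classical
  let e := LinearEquiv.ofBijective (DirectSum.coeLinearMap G) hG
  let p : Γ → Module.End R M := fun γ =>
    (G γ).subtype ∘ₗ DirectSum.component R Γ (fun γ => G γ) γ ∘ₗ e.symm.toLinearMap
  have hp : ∀ γ x, p γ x ∈ G γ := fun γ x => Submodule.coe_mem _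
  have hpG : ∀ γ η (x : M), x ∈ G η → p γ x = if η = γ then x else 0 := by
    intro γ η x hx
    have he : e.symm x = DirectSum.lof R Γ (fun γ => G γ) η ⟨x, hx⟩ := by
      rw [LinearEquiv.symm_apply_eq]
      exact (DirectSum.coeLinearMap_of G η ⟨x, hx⟩).symm
    simp only [p, LinearMap.comp_apply, LinearEquiv.coe_coe, he]
    rcases eq_or_ne η γ with h | h
    · subst h; simp [DirectSum.component.lof_self]
    · rw [if_neg h, DirectSum.component.of, dif_neg h]; simp
  obtain ⟨T, hT⟩ := (Module.finite_def (R := R) (M := M)).mp inferInstance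
  let s : Finset Γ := T.biUnion fun x => (e.symm x).support
  have hs : ∀ γ, γ ∉ s → p γ = 0 := by
    intro γ hγ
    refine LinearMap.ext_on hT fun x hx => ?_
    have : e.symm x γ = 0 := by
      by_contra h
      exact hγ (Finset.mem_biUnion.mpr ⟨x, hx, DFinsupp.mem_support_iff.mpr h⟩)
    show ((e.symm x γ : G γ) : M) = 0
    rw [this]; rfl
  have hsum : ∑ γ ∈ s, p γ = 1 := by
    refine LinearMap.ext_on hT fun x hx => ?_
    rw [LinearMap.sum_apply, Module.End.one_apply]
    conv_rhs => rw [← e.apply_symm_apply x]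
    show ∑ γ ∈ s, ((e.symm x γ : G γ) : M) = DirectSum.coeLinearMap G (e.symm x)
    rw [DirectSum.coeLinearMap_eq_dfinsuppSum, DFinsupp.sum]
    exact (Finset.sum_subset (fun γ h => Finset.mem_biUnion.mpr ⟨x, hx, h⟩)
      (fun γ _ h => by rw [DFinsupp.notMem_support_iff.mp h]; rfl)).symm
  have hsumx : ∀ x, ∑ γ ∈ s, p γ x = x := fun x => by rw [← LinearMap.sum_apply, hsum]; rfl
  have hmem : ∀ γ x, x ∈ Fil γ ↔ ∀ η, η < γ → p η x = 0 := by
    intro γ x
    constructor
    · intro hx η hη
      rw [hFil] at hx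
      have : (⨆ δ ∈ Set.Ici γ, G δ) ≤ LinearMap.ker (p η) := iSup₂_le fun δ hδ y hy => by
        rw [LinearMap.mem_ker, hpG η δ y hy, if_neg (hη.trans_le hδ).ne']
      exact this hx
    · intro h
      rw [hFil, ← hsumx x]
      refine Submodule.sum_mem _ fun δ _ => ?_
      rcases lt_or_ge δ γ with h' | h'
      · rw [h δ h']; exact Submodule.zero_mem _
      · exact le_biSup (fun δ => G δ) h' (hp δ x)
  have hGF : ∀ γ x, x ∈ G γ → x ∈ Fil γ := fun γ x hx => by
    rw [hFil]; exact le_biSup (fun δ => G δ) (le_refl γ) hx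
  have htri : ∀ η γ, η < γ → p η * P * p γ = 0 := fun η γ h => LinearMap.ext fun x =>
    (hmem γ _).mp (hPF γ _ (hGF γ _ (hp γ x))) η h
  have hpp : ∀ η γ, p η * p γ = if γ = η then p γ else 0 := fun η γ => LinearMap.ext fun x => by
    rw [Module.End.mul_apply, hpG η γ _ (hp γ x)]
    split <;> rfl
  let q : Γ → Module.End R M := fun γ => p γ * P * p γ
  have hqq : ∀ γ, q γ * q γ = q γ := by
    intro γ
    have h1 : p γ * P * p γ = ∑ δ ∈ s, p γ * P * p δ * P * p γ := by
      rw [← Finset.sum_mul, ← Finset.sum_mul, ← Finset.mul_sum, hsum, mul_one, mul_assoc (p γ) P P, hP]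
    have h2 : q γ * q γ = p γ * P * p γ * P * p γ := by
      calc q γ * q γ = p γ * P * (p γ * p γ) * P * p γ := by simp only [q, mul_assoc]
        _ = _ := by rw [hpp, if_pos rfl]
    rw [h2]
    show _ = p γ * P * p γ
    conv_rhs => rw [h1]
    by_cases hγ : γ ∈ s
    · rw [Finset.sum_eq_single_of_mem γ hγ]
      intro δ _ hδ
      rcases lt_or_gt_of_ne hδ with h | h
      · rw [mul_assoc (p γ * P) (p δ) P, mul_assoc (p γ * P) (p δ * P), htri δ γ h, mul_zero]
      · rw [htri γ δ h, zero_mul, zero_mul]
    · simp [hs γ hγ]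
  let Q : Module.End R M := ∑ γ ∈ s, q γ
  have hQp : ∀ γ, Q * p γ = q γ ∧ p γ * Q = q γ := by
    intro γ
    have hqp : ∀ δ, q δ * p γ = if δ = γ then q γ else 0 := fun δ => by
      simp only [q, mul_assoc (p δ * P), hpp]
      rcases eq_or_ne δ γ with h | h
      · subst h; simp
      · rw [if_neg h.symm, if_neg h, mul_zero]
    have hpq : ∀ δ, p γ * q δ = if δ = γ then q γ else 0 := fun δ => by
      simp only [q, ← mul_assoc, hpp]
      rcases eq_or_ne δ γ with h | h
      · subst h; simp
      · rw [if_neg h, if_neg h, zero_mul, zero_mul]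
    simp only [Q, Finset.sum_mul, Finset.mul_sum, hqp, hpq, Finset.sum_ite_eq']
    by_cases hγ : γ ∈ s
    · simp [hγ]
    · simp [hγ, q, hs γ hγ]
  have hQQ : Q * Q = Q := by
    calc Q * Q = ∑ γ ∈ s, Q * q γ := Finset.mul_sum ..
      _ = Q := Finset.sum_congr rfl fun γ _ => by
        have hpq' : p γ * q γ = q γ := by
          show p γ * (p γ * P * p γ) = p γ * P * p γ
          rw [← mul_assoc, ← mul_assoc, hpp, if_pos rfl]
        rw [← hpq', ← mul_assoc, (hQp γ).1, hqq, hpq']
  let N : Module.End R M := P * Q + P * Q - P - Q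
  have hN : ∀ η γ, η ≤ γ → p η * N * p γ = 0 := by
    intro η γ h
    have e1 : p η * (P * Q) * p γ = p η * P * q γ := by
      rw [mul_assoc (p η), mul_assoc P, (hQp γ).1, mul_assoc]
    have e2 : p η * Q * p γ = p η * q γ := by rw [mul_assoc, (hQp γ).1]
    have e3 : p η * q γ = p η * p γ * (P * p γ) := by simp only [q, mul_assoc]
    simp only [N, mul_sub, mul_add, sub_mul, add_mul, e1, e2]
    rcases h.lt_or_eq with h | h
    · have e4 : p η * P * q γ = 0 := by
        show p η * P * (p γ * P * p γ) = 0
        rw [← mul_assoc, ← mul_assoc, htri η γ h, zero_mul, zero_mul]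
      rw [e4, htri η γ h, e3, hpp, if_neg h.ne']
      simp
    · subst h
      have e5 : p η * P * q η = q η := by
        show p η * P * (p η * P * p η) = p η * P * p η
        conv_rhs => rw [show p η * P * p η = q η from rfl, ← hqq η]
        show _ = p η * P * p η * (p η * P * p η)
        rw [← mul_assoc (p η * P * p η), ← mul_assoc (p η * P * p η), mul_assoc (p η * P) (p η) (p η),
          hpp, if_pos rfl, ← mul_assoc, ← mul_assoc]
      rw [e5, e3, hpp, if_pos rfl]
      show q η + q η - q η - p η * (P * p η) = 0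
      rw [← mul_assoc]; show q η + q η - q η - q η = 0
      abel
  have hnil : ∀ k η, (s.filter (· < η)).card < k → p η * N ^ k = 0 := by
    intro k
    induction k with
    | zero => intro η h; exact absurd h (Nat.not_lt_zero _)
    | succ k ih =>
      intro η h
      rw [pow_succ', ← mul_assoc, ← mul_one (p η * N), ← hsum, Finset.mul_sum, Finset.sum_mul]
      refine Finset.sum_eq_zero fun δ hδ => ?_
      rcases le_or_gt η δ with h' | h'
      · rw [hN η δ h', zero_mul]
      · rw [mul_assoc, ih δ, mul_zero]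
        refine Nat.lt_of_succ_le ?_
        have : s.filter (· < δ) ⊂ s.filter (· < η) := by
          rw [Finset.ssubset_iff_of_subset]
          · exact ⟨δ, Finset.mem_filter.mpr ⟨hδ, h'⟩, fun hh => lt_irrefl δ (Finset.mem_filter.mp hh).2⟩
          · intro a ha
            exact Finset.mem_filter.mpr ⟨(Finset.mem_filter.mp ha).1, (Finset.mem_filter.mp ha).2.trans h'⟩
        have := Finset.card_lt_card this
        omega
  have hNnil : IsNilpotent N := ⟨s.card + 1, by
    rw [← one_mul (N ^ (s.card + 1)), ← hsum, Finset.sum_mul]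
    exact Finset.sum_eq_zero fun η _ => hnil _ η (Nat.lt_succ_of_le (Finset.card_filter_le _ _))⟩
  let u : Module.End R M := 1 + N
  have hu : IsUnit u := hNnil.isUnit_one_add
  have hub : Function.Bijective u := (Module.End.isUnit_iff u).mp hu
  have hPu : P * u = u * Q := by
    have e1 : P * (P * Q) = P * Q := by rw [← mul_assoc, hP]
    have e2 : P * Q * Q = P * Q := by rw [mul_assoc, hQQ]
    simp only [u, N, mul_add, mul_sub, add_mul, sub_mul, mul_one, one_mul, hP, hQQ, e1, e2]
    abel
  have hNF : ∀ γ x, x ∈ Fil γ → ∀ η, η ≤ γ → p η (N x) = 0 := by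
    intro γ x hx η hη
    rw [← hsumx x, map_sum, map_sum]
    refine Finset.sum_eq_zero fun δ _ => ?_
    rcases lt_or_ge δ γ with h | h
    · rw [(hmem γ x).mp hx δ h, map_zero, map_zero]
    · exact LinearMap.congr_fun (hN η δ (hη.trans h)) x
  have hFu : ∀ γ, (Fil γ).map u = Fil γ := by
    intro γ
    refine le_antisymm ?_ ?_
    · rintro _ ⟨x, hx, rfl⟩
      rw [hmem]
      intro η hη
      show p η (x + N x) = 0
      rw [map_add, (hmem γ x).mp hx η hη, hNF γ x hx η hη.le, add_zero]
    · intro x hx
      obtain ⟨y, rfl⟩ := hub.2 x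
      refine ⟨y, ?_, rfl⟩
      rw [SetLike.mem_coe, hmem]
      by_contra hne
      push Not at hne
      obtain ⟨η, hη, hne⟩ := hne
      have hfne : (s.filter fun δ => δ < γ ∧ p δ y ≠ 0).Nonempty := by
        refine ⟨η, Finset.mem_filter.mpr ⟨?_, hη, hne⟩⟩
        by_contra h
        exact hne (by rw [hs η h]; rfl)
      obtain ⟨hm1, hm2, hm3⟩ := Finset.mem_filter.mp (Finset.min'_mem _ hfne)
      set m := Finset.min' _ hfne
      have hy : y ∈ Fil m := (hmem m y).mpr fun δ hδ => by
        by_contra h
        have hδs : δ ∈ s := by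
          by_contra h'
          exact h (by rw [hs δ h']; rfl)
        exact absurd (Finset.min'_le _ δ (Finset.mem_filter.mpr ⟨hδs, hδ.trans hm2, h⟩)) (not_le.mpr hδ)
      have h0 := (hmem γ _).mp hx m hm2
      change p m (y + N y) = 0 at h0
      rw [map_add, hNF m y hy m le_rfl, add_zero] at h0
      exact hm3 h0
  refine ⟨fun γ => (G γ).map u, ?_, fun γ => ?_, ?_⟩
  · rw [DirectSum.isInternal_submodule_iff_iSupIndep_and_iSup_eq_top] at hG ⊢
    refine ⟨fun γ => ?_, by rw [← Submodule.map_iSup, hG.2, Submodule.map_top, LinearMap.range_eq_top]; exact hub.2⟩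
    simp only [← Submodule.map_iSup]
    rw [disjoint_iff, ← Submodule.map_inf _ hub.1, disjoint_iff.mp (hG.1 γ), Submodule.map_bot]
  · rw [← hFu γ, hFil γ]
    simp only [Submodule.map_iSup]
  · rintro γ _ ⟨x, hx, rfl⟩
    refine ⟨Q x, ?_, (LinearMap.congr_fun hPu x).symm⟩
    have : Q x = q γ x := by
      conv_lhs => rw [show x = p γ x by rw [hpG γ γ x hx, if_pos rfl]]
      exact LinearMap.congr_fun (hQp γ).1 x
    rw [this]
    exact hp γ _

private lemma pi_biSup {R : Type u} [CommRing R] {A : Type v} [Fintype A] {Γ : Type w} {M : A → Type v}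
    [∀ a, AddCommGroup (M a)] [∀ a, Module R (M a)] (G : ∀ a, Γ → Submodule R (M a)) (S : Set Γ) :
    Submodule.pi Set.univ (fun a => ⨆ i ∈ S, G a i) = ⨆ i ∈ S, Submodule.pi Set.univ (fun a => G a i) := by
  classical
  refine le_antisymm (fun x hx => ?_)
    (iSup₂_le fun i hi x hx a ha => le_biSup (fun i => G a i) hi (hx a ha))
  rw [← Finset.univ_sum_single x]
  refine Submodule.sum_mem _ fun a _ => ?_
  have hle : (⨆ i ∈ S, G a i).map (LinearMap.single R M a) ≤ ⨆ i ∈ S, Submodule.pi Set.univ (fun a => G a i) := by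
    simp only [Submodule.map_iSup]
    refine iSup₂_mono fun i _ => ?_
    rintro _ ⟨y, hy, rfl⟩ b -
    rcases eq_or_ne b a with h | h
    · subst h; simpa using hy
    · simp [Pi.single_eq_of_ne h]
  exact hle ⟨x a, hx a (Set.mem_univ a), rfl⟩

/-- In affine form, let Γ be a non-trivial totally ordered commutative group, R a commutative ring and
(M_a) a finite family of finitely generated projective R-modules, each carrying a non-increasing
Γ-indexed family of submodules F_a; give M = Π_a M_a the family F^γ = Π_a F_a^γ. Then F is split by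
a Γ-grading of M (an internal direct sum decomposition M = ⊕_γ G_γ with F^γ = Σ_{η ≥ γ} G_η for all
γ) if and only if each F_a is split by a Γ-grading of M_a. (The published statement is for finite
locally free sheaves on a scheme, where a filtration counts as split when it is split by a grading
locally on the scheme; this row is the affine case, in which that is the same as being split by one
global grading.) -/
theorem result
    {Γ : Type w} [AddCommGroup Γ] [LinearOrder Γ] [IsOrderedAddMonoid Γ] [Nontrivial Γ]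
    {R : Type u} [CommRing R] {A : Type v} [Fintype A] (M : A → Type v) [∀ a, AddCommGroup (M a)] [∀ a, Module R (M a)]
    [∀ a, Module.Finite R (M a)] [∀ a, Module.Projective R (M a)]
    (F : ∀ a, Γ → Submodule R (M a)) (hF : ∀ a, Antitone (F a)) :
    (∃ G : Γ → Submodule R (∀ a, M a), DirectSum.IsInternal G ∧
        ∀ γ, Submodule.pi Set.univ (fun a => F a γ) = ⨆ η ∈ Set.Ici γ, G η) ↔
    ∀ a, ∃ G : Γ → Submodule R (M a), DirectSum.IsInternal G ∧ ∀ γ, F a γ = ⨆ η ∈ Set.Ici γ, G η := by
  classical
  constructor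
  · rintro ⟨G, hG, hGF⟩ a
    let P : Module.End R (∀ a, M a) := LinearMap.single R M a ∘ₗ LinearMap.proj a
    have hP : P * P = P := by ext; simp [P]
    obtain ⟨G', hG', hF', hst⟩ := exists_stable (fun γ => Submodule.pi Set.univ (fun a => F a γ)) G hG hGF P hP
      (fun γ x hx b hb => by
        rcases eq_or_ne b a with h | h
        · subst h; simpa [P] using hx b hb
        · simp [P, Pi.single_eq_of_ne h])
    refine ⟨fun γ => (G' γ).map (LinearMap.proj a), ?_, fun γ => ?_⟩
    · rw [DirectSum.isInternal_submodule_iff_iSupIndep_and_iSup_eq_top] at hG' ⊢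
      refine ⟨fun γ => ?_, by rw [← Submodule.map_iSup, hG'.2, Submodule.map_top, LinearMap.range_eq_top];
                              exact Function.surjective_eval a⟩
      simp only [← Submodule.map_iSup]
      rw [Submodule.disjoint_def]
      rintro _ ⟨x, hx, rfl⟩ ⟨y, hy, hyx⟩
      have h1 : P x ∈ G' γ := hst γ x hx
      have h2 : P y ∈ ⨆ j, ⨆ _ : j ≠ γ, G' j := by
        refine (iSup₂_le fun j hj z hz => ?_ : (⨆ j, ⨆ _ : j ≠ γ, G' j) ≤ (⨆ j, ⨆ _ : j ≠ γ, G' j).comap P) hy
        exact le_iSup₂ (f := fun j (_ : j ≠ γ) => G' j) j hj (hst j z hz)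
      have e : P y = P x := congrArg (LinearMap.single R M a) hyx
      rw [e] at h2
      have h3 := (Submodule.disjoint_def.mp (hG'.1 γ)) _ h1 h2
      have := congrFun h3 a
      simpa [P] using this
    · simp only [← Submodule.map_iSup, ← hF' γ]
      refine le_antisymm ?_ ?_
      · intro x hx
        refine ⟨Pi.single a x, ?_, by simp⟩
        intro b _
        rcases eq_or_ne b a with h | h
        · subst h; simpa using hx
        · simp [Pi.single_eq_of_ne h]
      · rintro _ ⟨x, hx, rfl⟩
        exact hx a (Set.mem_univ a)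
  · intro h
    choose G hG hGF using h
    refine ⟨fun γ => Submodule.pi Set.univ (fun a => G a γ), ?_, fun γ => ?_⟩
    · rw [DirectSum.isInternal_submodule_iff_iSupIndep_and_iSup_eq_top]
      have hG' := fun a => (DirectSum.isInternal_submodule_iff_iSupIndep_and_iSup_eq_top _).mp (hG a)
      refine ⟨fun γ => ?_, ?_⟩
      · show Disjoint _ (⨆ j ∈ {j | j ≠ γ}, Submodule.pi Set.univ (fun a => G a j))
        rw [← pi_biSup, Submodule.disjoint_def]
        intro x hx hx'
        funext a
        exact Submodule.disjoint_def.mp ((hG' a).1 γ) _ (hx a (Set.mem_univ a)) (hx' a (Set.mem_univ a))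
      · have := pi_biSup G Set.univ
        simp only [Set.mem_univ, iSup_pos, (hG' _).2, Submodule.pi_top] at this
        exact this.symm
    · simp only [hGF]
      exact pi_biSup G (Set.Ici γ)

end Groth.Agent.S19158
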