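import Groth.Statements.S19160
import Mathlib.Algebra.TrivSqZeroExt.Basic
import Mathlib.LinearAlgebra.TensorProduct.Tower
-- import your own Groth.Agent.* helpers here

set_option autoImplicit false
open scoped TensorProduct
universe u
open PureMod

namespace Groth.Agent.S19160

/-- (2) ⇒ (3): in affine form, let R be a commutative ring and i : A → B an R-linear map such that for
every commutative R-algebra R' the base change R' ⊗ A → R' ⊗ B is injective (the pull-back of i to
every affine scheme over Spec R is a monomorphism). Then F ⊗ A → F ⊗ B is injective for every
R-module F, i.e. i is universally injective (pure). (Modules and algebras are taken in the universe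
of R.) -/
theorem result (R : Type u) [CommRing R]
    (A B : Type u) [AddCommGroup A] [Module R A] [AddCommGroup B] [Module R B] (i : A →ₗ[R] B)
    (h : ∀ (R' : Type u) [CommRing R'] [Algebra R R'], Function.Injective (i.baseChange R'))
    (F : Type u) [AddCommGroup F] [Module R F] :
    Function.Injective (i.lTensor F) := by
  letI : Module Rᵐᵒᵖ F := Module.compHom F ((RingHom.id R).fromOpposite mul_comm)
  haveI : IsCentralScalar R F := ⟨fun r m => rfl⟩
  have hnat : ∀ z : F ⊗[R] A,
      (i.baseChange (TrivSqZeroExt R F)) ((TrivSqZeroExt.inrHom R F).rTensor A z) =
        (TrivSqZeroExt.inrHom R F).rTensor B (i.lTensor F z) := by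
    intro z
    induction z using TensorProduct.induction_on with
    | zero => simp
    | tmul f a => simp
    | add a b ha hb => simp [ha, hb]
  have hret : ∀ z : F ⊗[R] A,
      (TrivSqZeroExt.sndHom R F).rTensor A ((TrivSqZeroExt.inrHom R F).rTensor A z) = z := by
    intro z
    induction z using TensorProduct.induction_on with
    | zero => simp
    | tmul f a => simp
    | add a b ha hb => simp [ha, hb]
  intro y z hyz
  have h1 : (TrivSqZeroExt.inrHom R F).rTensor A y = (TrivSqZeroExt.inrHom R F).rTensor A z :=
    h (TrivSqZeroExt R F) (by rw [hnat, hnat, hyz])
  rw [← hret y, h1, hret]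

end Groth.Agent.S19160
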