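import Groth.Statements.S19161
import Groth.Agent.RootDat.Dominant

set_option autoImplicit false
open RootPairing
open RootD

namespace Groth.Agent.S19161

/-- Let P be a root datum (root pairing over ℤ, finitely many roots), S a system of positive roots, W
the Weyl group, Γ a non-trivial totally ordered commutative group and f₁, f₂ : M → Γ additive maps
which are dominant (f_i(α) ≥ 0 for α ∈ S). Then f₁ ≤ f₂ in the weak dominance order (f₁(m) ≤ f₂(m)
for every dominant weight m, i.e. every m with ⟨m, α∨⟩ ≥ 0 for all α ∈ S) if and only if, for every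
non-empty finite W-stable subset X ⊆ M, the maximum of f₁ on X is at most the maximum of f₂ on X.
(The source phrases the right-hand side through W-invariant elements x of ℕ[M] and the largest
element of the support of f_i(x) in ℤ[Γ]; for ℕ-coefficients that largest element is the maximum of
f_i over the support of x.) -/
theorem result {ι M N : Type*} [AddCommGroup M] [AddCommGroup N]
    (P : RootPairing ι ℤ M N) [Finite ι] (S : Set ι) (hS : RootD.IsPosSys P S)
    {Γ : Type*} [AddCommGroup Γ] [LinearOrder Γ] [IsOrderedAddMonoid Γ] [Nontrivial Γ] (f₁ f₂ : M →+ Γ)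
    (hf₁ : ∀ i ∈ S, 0 ≤ f₁ (P.root i)) (hf₂ : ∀ i ∈ S, 0 ≤ f₂ (P.root i)) :
    (∀ m : M, (∀ i ∈ S, 0 ≤ P.coroot' i m) → f₁ m ≤ f₂ m) ↔
    ∀ (X : Finset M) (hX : X.Nonempty), (∀ g : P.Aut, g ∈ P.weylGroup → ∀ m ∈ X, RootPairing.Equiv.weightHom P g m ∈ X) →
      X.sup' hX f₁ ≤ X.sup' hX f₂ := by
  open Groth.Agent.RootDat in
  classical
  obtain ⟨Δ, hΔ, rfl⟩ : ∃ Δ, RootD.IsSimpleSys P Δ ∧ S = RootD.posOf P Δ :=
    ⟨_, isSimpleSys_simpleOf P hS,
      posSys_eq_posOf (isSimpleSys_simpleOf P hS) hS (simpleOf_subset P S)⟩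
  constructor
  · intro h X hX hXW
    refine Finset.sup'_le hX _ fun x hx => ?_
    obtain ⟨g, hg, hdom⟩ := exists_dominant_conj (P := P) hS x
    have h1 : f₁ x ≤ f₁ (g⁻¹ • x) := by
      have := apply_smul_le hΔ f₁ hf₁ hg (m := g⁻¹ • x) fun a ha => hdom a (subset_posOf ha)
      rwa [smul_inv_smul] at this
    exact (h1.trans (h _ hdom)).trans (Finset.le_sup' f₂ (hXW g⁻¹ (inv_mem hg) x hx))
  · intro h m hm
    have := finite_weylGroup P
    have := Fintype.ofFinite P.weylGroup
    obtain ⟨X, hX⟩ : ∃ X : Finset M, ∀ x, x ∈ X ↔ ∃ k : P.Aut, k ∈ P.weylGroup ∧ k • m = x :=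
      ⟨((Set.toFinite (P.weylGroup : Set P.Aut)).image (· • m)).toFinset, fun x => by
        simp only [Set.Finite.mem_toFinset, Set.mem_image, SetLike.mem_coe]⟩
    have hmX : m ∈ X := (hX m).mpr ⟨1, one_mem _, one_smul _ m⟩
    have hW : ∀ g : P.Aut, g ∈ P.weylGroup → ∀ x ∈ X, RootPairing.Equiv.weightHom P g x ∈ X := by
      intro g hg x hx
      obtain ⟨k, hk, rfl⟩ := (hX x).mp hx
      exact (hX _).mpr ⟨g * k, mul_mem hg hk, mul_smul g k m⟩
    refine ((Finset.le_sup' f₁ hmX).trans (h X ⟨m, hmX⟩ hW)).trans (Finset.sup'_le _ _ fun x hx => ?_)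
    obtain ⟨k, hk, rfl⟩ := (hX x).mp hx
    exact apply_smul_le hΔ f₂ hf₂ hk fun a ha => hm a (subset_posOf ha)

end Groth.Agent.S19161
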