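import Groth.Statements.S19169
import Mathlib
-- import your own Groth.Agent.* helpers here

set_option autoImplicit false
universe u
open ProCompl

namespace Groth.Agent.S19169

section
open scoped DirectSum Pointwise Topology

theorem fg_separate {Q : Type*} [AddCommGroup Q] [AddGroup.FG Q] {g : Q} (hg : g ≠ 0) :
    ∃ H : AddSubgroup Q, H.FiniteIndex ∧ g ∉ H := by
  classical
  obtain ⟨n, ι, fι, p, hp, e, ⟨f⟩⟩ := AddCommGroup.equiv_free_prod_directSum_zmod (G := Q)
  haveI : ∀ i, NeZero (p i ^ e i) := fun i => ⟨pow_ne_zero _ (hp i).ne_zero⟩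
  have key : (∃ (m : ℕ) (_ : NeZero m) (φ : Q →+ ZMod m), φ g ≠ 0) := by
    by_cases h1 : (f g).1 = 0
    · have h2 : (f g).2 ≠ 0 := fun h2 => hg (f.injective (by rw [map_zero]; exact Prod.ext h1 h2))
      obtain ⟨i, hi⟩ : ∃ i, (f g).2 i ≠ 0 := by
        by_contra hc
        simp only [not_exists, not_not] at hc
        exact h2 (DFinsupp.ext hc)
      exact ⟨p i ^ e i, inferInstance,
        ((DFinsupp.evalAddMonoidHom (β := fun i => ZMod (p i ^ e i)) i).comp (AddMonoidHom.snd _ _)).comp f.toAddMonoidHom, hi⟩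
    · obtain ⟨j, hj⟩ := Finsupp.ne_iff.1 h1
      refine ⟨((f g).1 j).natAbs + 1, ⟨Nat.succ_ne_zero _⟩,
        (Int.castAddHom _).comp (((Finsupp.applyAddHom j).comp (AddMonoidHom.fst _ _)).comp f.toAddMonoidHom), ?_⟩
      show (((f g).1 j : ℤ) : ZMod (((f g).1 j).natAbs + 1)) ≠ 0
      rw [Ne, ZMod.intCast_zmod_eq_zero_iff_dvd]
      intro hd
      have := Nat.le_of_dvd (Int.natAbs_pos.2 hj) (Int.natCast_dvd.1 hd)
      omega
  obtain ⟨m, hm, φ, hφ⟩ := key
  exact ⟨φ.ker, AddSubgroup.finiteIndex_ker φ, by simpa using hφ⟩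

theorem exists_compact_open_avoiding {B : Type u} [AddCommGroup B] [TopologicalSpace B] [IsTopologicalAddGroup B]
    [T2Space B] [LocallyCompactSpace B] [TotallyDisconnectedSpace B] {b : B} (hb : b ≠ 0) :
    ∃ H : AddSubgroup B, IsOpen (H : Set B) ∧ b ∉ H := by
  obtain ⟨C, hC, hCb, hCc⟩ := local_compact_nhds (isOpen_compl_singleton.mem_nhds (show (0 : B) ∈ ({b}ᶜ : Set B) from hb.symm))
  obtain ⟨W, hW, h0W, hWC⟩ := (loc_compact_Haus_tot_disc_of_zero_dim (H := B)).mem_nhds_iff.1
    (interior_mem_nhds.2 hC)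
  have hWC' : W ⊆ C := fun x hx => interior_subset (hWC hx)
  have hWcpt : IsCompact W := hCc.of_isClosed_subset hW.isClosed hWC'
  obtain ⟨V, hV, hVW⟩ := compact_open_separated_add_left hWcpt hW.isOpen subset_rfl
  let H : AddSubgroup B :=
    { carrier := {g | ∀ w, g + w ∈ W ↔ w ∈ W}
      zero_mem' := fun w => by simp
      add_mem' := fun {a c} ha hc w => by rw [add_assoc, ha, hc]
      neg_mem' := fun {a} ha w => by rw [← ha (-a + w), add_neg_cancel_left] }
  refine ⟨H, ?_, fun hbH => hCb (hWC' (by simpa using (hbH 0).2 h0W)) rfl⟩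
  refine AddSubgroup.isOpen_of_mem_nhds H (g := 0) ?_
  filter_upwards [hV, neg_mem_nhds_zero B hV] with g hg hg' w
  refine ⟨fun hw => ?_, fun hw => hVW (Set.add_mem_add hg hw)⟩
  have := hVW (Set.add_mem_add (show -g ∈ V from hg') hw)
  simpa using this

end

/-- Let B be a Hausdorff, locally compact, totally disconnected topological abelian group which is
compactly generated, i.e. generated as a group by a compact subset. Then the open subgroups of
finite index of B have trivial intersection: every nonzero b lies outside some open subgroup of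
finite index. Equivalently, the natural map from B to its completion with respect to open subgroups
of finite index is injective. -/
theorem result
    {B : Type u} [AddCommGroup B] [TopologicalSpace B] [IsTopologicalAddGroup B]
    [T2Space B] [LocallyCompactSpace B] [TotallyDisconnectedSpace B]
    (hcg : ∃ K : Set B, IsCompact K ∧ AddSubgroup.closure K = ⊤) (b : B) (hb : b ≠ 0) :
    ∃ B' : AddSubgroup B, IsOpen (B' : Set B) ∧ B'.FiniteIndex ∧ b ∉ B' := by
  classical
  obtain ⟨K, hKc, hK⟩ := hcg
  obtain ⟨H, hH, hbH⟩ := exists_compact_open_avoiding hb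
  haveI : DiscreteTopology (B ⧸ H) := QuotientAddGroup.discreteTopology hH
  have hfin : ((QuotientAddGroup.mk' H) '' K).Finite :=
    (hKc.image continuous_quotient_mk').finite_of_discrete
  haveI : AddGroup.FG (B ⧸ H) := by
    refine AddGroup.fg_iff.2 ⟨_, ?_, hfin⟩
    rw [← AddMonoidHom.map_closure, hK, ← AddMonoidHom.range_eq_map, AddMonoidHom.range_eq_top]
    exact QuotientAddGroup.mk'_surjective H
  obtain ⟨N, hN, hbN⟩ := fg_separate (g := QuotientAddGroup.mk' H b) (fun h => hbH ((QuotientAddGroup.eq_zero_iff b).1 h))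
  refine ⟨N.comap (QuotientAddGroup.mk' H), ?_, ⟨?_⟩, hbN⟩
  · exact (isOpen_discrete (N : Set (B ⧸ H))).preimage continuous_quotient_mk'
  · rw [AddSubgroup.index_comap_of_surjective _ (QuotientAddGroup.mk'_surjective H)]
    exact hN.index_ne_zero

end Groth.Agent.S19169
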