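import Mathlib
import Groth.Statements.S19170
-- import your own Groth.Agent.* helpers here

set_option autoImplicit false
universe u
open ProCompl

namespace Groth.Agent.S19170

/-- Let B be a topological abelian group generated as a group by a compact subset. Then every character
χ : B → ℚ/ℤ with open kernel (a continuous character for discrete ℚ/ℤ) has kernel of finite index;
consequently each such character factors through B^∧, the completion of B taken along its
finite-index open subgroups, i.e. (B^∧)^D = B^D. (The published statement assumes moreover that B is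
Hausdorff, locally compact and totally disconnected; only compact generation is needed for this
assertion, so those assumptions are dropped here.) -/
theorem result
    {B : Type u} [AddCommGroup B] [TopologicalSpace B] [IsTopologicalAddGroup B]
    (hcg : ∃ K : Set B, IsCompact K ∧ AddSubgroup.closure K = ⊤)
    (χ : B →+ ℚ ⧸ AddSubgroup.zmultiples (1 : ℚ)) (hχ : IsOpen (χ.ker : Set B)) : χ.ker.FiniteIndex := by
  classical
  obtain ⟨K, hK, hgen⟩ := hcg
  have hfin : (χ '' K).Finite := by
    obtain ⟨t, ht⟩ := hK.elim_finite_subcover (fun b : B => (fun x => x - b) ⁻¹' (χ.ker : Set B))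
      (fun b => hχ.preimage (continuous_id.sub continuous_const))
      (fun x _ => Set.mem_iUnion.2 ⟨x, by simp⟩)
    refine (t.finite_toSet.image χ).subset ?_
    rintro _ ⟨x, hx, rfl⟩
    obtain ⟨b, hb, hxb⟩ := Set.mem_iUnion₂.1 (ht hx)
    exact ⟨b, hb, ((sub_eq_zero.1 (by simpa using hxb))).symm⟩
  have hrange : χ.range = AddSubgroup.closure (χ '' K) := by
    rw [← AddMonoidHom.map_closure, hgen, AddMonoidHom.range_eq_map]
  haveI : AddGroup.FG χ.range := by
    rw [AddGroup.fg_iff_addSubgroup_fg]
    exact ⟨hfin.toFinset, by rw [Set.Finite.coe_toFinset, hrange]⟩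
  have htor : IsAddTorsion χ.range := by
    rintro ⟨q, hq⟩
    induction q using QuotientAddGroup.induction_on with
    | H r =>
      rw [isOfFinAddOrder_iff_nsmul_eq_zero]
      refine ⟨r.den, r.den_pos, Subtype.ext ?_⟩
      show r.den • (r : ℚ ⧸ AddSubgroup.zmultiples (1 : ℚ)) = 0
      rw [← QuotientAddGroup.mk_nsmul, QuotientAddGroup.eq_zero_iff, AddSubgroup.mem_zmultiples_iff]
      exact ⟨r.num, by rw [nsmul_eq_mul, mul_comm, Rat.mul_den_eq_num]; simp⟩
  haveI : Finite χ.range := AddCommGroup.finite_of_fg_isAddTorsion _ htor
  haveI : Finite (B ⧸ χ.ker) := Finite.of_equiv _ (QuotientAddGroup.quotientKerEquivRange χ).toEquiv.symm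
  exact AddSubgroup.finiteIndex_of_finite_quotient

end Groth.Agent.S19170
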