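import Groth.Statements.S19171
import Mathlib
-- import your own Groth.Agent.* helpers here

set_option autoImplicit false
universe u v
open ProCompl

namespace Groth.Agent.S19171

open Topology in
theorem exists_open_subgroup {B : Type*} [AddCommGroup B] [TopologicalSpace B] [IsTopologicalAddGroup B]
    [T2Space B] [LocallyCompactSpace B] [TotallyDisconnectedSpace B] (U : Set B) (hU : U ∈ 𝓝 (0 : B)) :
    ∃ H : AddSubgroup B, IsOpen (H : Set B) ∧ (H : Set B) ⊆ U := by
  obtain ⟨C, hC, hCU, hCc⟩ := LocallyCompactSpace.local_compact_nhds 0 U hU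
  obtain ⟨W, hW, h0W, hWC⟩ := loc_compact_Haus_tot_disc_of_zero_dim.mem_nhds_iff.1 hC
  have hWc : IsCompact W := hCc.of_isClosed_subset hW.1 hWC
  obtain ⟨V, hV, hVW⟩ := compact_open_separated_add_right hWc hW.2 (subset_refl W)
  let H : AddSubgroup B :=
    { carrier := {g | ∀ w ∈ W, w + g ∈ W ∧ w - g ∈ W}
      zero_mem' := fun w hw => by simp [hw]
      add_mem' := fun {a b} ha hb w hw => ⟨by rw [← add_assoc]; exact (hb _ (ha w hw).1).1,
        by rw [sub_add_eq_sub_sub]; exact (hb _ (ha w hw).2).2⟩
      neg_mem' := fun {a} ha w hw => ⟨by rw [← sub_eq_add_neg]; exact (ha w hw).2,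
        by rw [sub_neg_eq_add]; exact (ha w hw).1⟩ }
  have hneg : -V ∈ 𝓝 (0 : B) := neg_mem_nhds_zero B hV
  refine ⟨H, AddSubgroup.isOpen_of_mem_nhds H (g := 0) (Filter.mem_of_superset (Filter.inter_mem hV hneg) ?_), ?_⟩
  · rintro g ⟨hg, hg'⟩ w hw
    refine ⟨hVW (Set.add_mem_add hw hg), ?_⟩
    rw [sub_eq_add_neg]
    exact hVW (Set.add_mem_add hw (by simpa using hg'))
  · intro g hg
    have := (hg 0 h0W).1
    rw [zero_add] at this
    exact hCU (hWC this)

open Topology in
/-- Let B be a Hausdorff, locally compact, totally disconnected topological abelian group generated as a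
group by a compact subset, and let i : A → B be an injective continuous homomorphism inducing the
topology of A from that of B (a strict injection) whose image is closed. Then every character χ : A
→ ℚ/ℤ with open kernel extends along i to a character ψ : B → ℚ/ℤ with open kernel; with ℚ/ℤ
discrete this says that restriction B^D → A^D of continuous characters is surjective, i.e. the dual
of a topological exact sequence 0 → A → B → C → 0 with such B, strict closed i and open p is a short
exact sequence 0 → C^D → B^D → A^D → 0. -/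
theorem result
    {A : Type u} {B : Type v} [AddCommGroup A] [TopologicalSpace A] [IsTopologicalAddGroup A]
    [AddCommGroup B] [TopologicalSpace B] [IsTopologicalAddGroup B]
    [T2Space B] [LocallyCompactSpace B] [TotallyDisconnectedSpace B]
    (hcg : ∃ K : Set B, IsCompact K ∧ AddSubgroup.closure K = ⊤)
    (i : A →+ B) (hi : Continuous i) (hinj : Function.Injective i) (hind : IsInducing i)
    (hcl : IsClosed (Set.range i))
    (χ : A →+ ℚ ⧸ AddSubgroup.zmultiples (1 : ℚ)) (hχ : IsOpen (χ.ker : Set A)) :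
    ∃ ψ : B →+ ℚ ⧸ AddSubgroup.zmultiples (1 : ℚ), IsOpen (ψ.ker : Set B) ∧ ψ.comp i = χ := by
  classical
  obtain ⟨O, hO, hOeq⟩ := hind.isOpen_iff.1 hχ
  have h0 : (0 : B) ∈ O := by
    have h : (0 : A) ∈ i ⁻¹' O := by rw [hOeq]; exact χ.ker.zero_mem
    simpa using h
  obtain ⟨H, hH, hHO⟩ := exists_open_subgroup O (hO.mem_nhds h0)
  let N := H.comap i
  have hN : N ≤ χ.ker := fun a ha => by
    have h : a ∈ i ⁻¹' O := hHO ha
    rw [hOeq] at h
    exact h
  let i' : A ⧸ N →+ B ⧸ H := QuotientAddGroup.map N H i le_rfl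
  have hi' : Function.Injective i' := by
    rw [injective_iff_map_eq_zero]
    intro z
    induction z using QuotientAddGroup.induction_on with
    | H a =>
      intro h
      rw [QuotientAddGroup.eq_zero_iff]
      exact (QuotientAddGroup.eq_zero_iff (i a)).1 h
  let χ' : A ⧸ N →+ ℚ ⧸ AddSubgroup.zmultiples (1 : ℚ) := QuotientAddGroup.lift N χ hN
  letI : DivisibleBy (ℚ ⧸ AddSubgroup.zmultiples (1 : ℚ)) ℤ :=
    Function.Surjective.divisibleBy (QuotientAddGroup.mk' (AddSubgroup.zmultiples (1 : ℚ))) (QuotientAddGroup.mk'_surjective _) (fun x n => map_zsmul _ n x)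
  obtain ⟨e, he⟩ := (Module.Baer.of_divisible (ℚ ⧸ AddSubgroup.zmultiples (1 : ℚ))).extension_property_addMonoidHom i' hi' χ'
  let ψ := e.comp (QuotientAddGroup.mk' H)
  refine ⟨ψ, AddSubgroup.isOpen_mono (H₁ := H) (fun h hh => ?_) hH, ?_⟩
  · show e (QuotientAddGroup.mk' H h) = 0
    rw [show (QuotientAddGroup.mk' H h) = 0 from (QuotientAddGroup.eq_zero_iff h).2 hh, map_zero]
  · ext a
    exact DFunLike.congr_fun he (QuotientAddGroup.mk a)

end Groth.Agent.S19171
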