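import Groth.Statements.S19172
import Mathlib
-- import your own Groth.Agent.* helpers here

set_option autoImplicit false
universe u v w
open ProCompl

namespace Groth.Agent.S19172

section
open W4c61motalbduality
variable {A : Type u} [AddCommGroup A] [TopologicalSpace A]

/-- The intersection of two open subgroups of finite index. -/
def inf (U V : OpenFI A) : OpenFI A where
  toAddSubgroup := U.toAddSubgroup ⊓ V.toAddSubgroup
  isOpen' := by simpa using U.isOpen'.inter V.isOpen'
  finiteIndex' := by
    have := U.finiteIndex'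
    have := V.finiteIndex'
    infer_instance

/-- The residues at `U` and at every larger subgroup agree. -/
def CompatAbove (U : OpenFI A) (x : (U : OpenFI A) → A ⧸ U.toAddSubgroup) : Prop :=
  ∀ (V : OpenFI A) (h : U.toAddSubgroup ≤ V.toAddSubgroup),
    QuotientAddGroup.map U.toAddSubgroup V.toAddSubgroup (AddMonoidHom.id A) h (x U) = x V

lemma CompatAbove.of_le {U U' : OpenFI A} (h : U.toAddSubgroup ≤ U'.toAddSubgroup)
    {x : (U : OpenFI A) → A ⧸ U.toAddSubgroup} (hx : CompatAbove U x) : CompatAbove U' x := by
  intro V hV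
  rw [← hx V (h.trans hV), ← hx U' h]
  obtain ⟨a, ha⟩ := QuotientAddGroup.mk_surjective (x U)
  simp [← ha]

/-- Compactness of the completion: a directed family of conditions, each of which is satisfiable
by a family of residues of a single element, has a common solution in the completion. -/
theorem exists_compl {J : Type*} [Nonempty J] (κ : J → OpenFI A)
    (hκ : ∀ U : OpenFI A, ∃ j, (κ j).toAddSubgroup ≤ U.toAddSubgroup)
    (W : J → OpenFI A) (hW : ∀ j, (κ j).toAddSubgroup ≤ (W j).toAddSubgroup)
    (P : ∀ j, A ⧸ (W j).toAddSubgroup → Prop)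
    (hdir : ∀ j j', ∃ j'', (κ j'').toAddSubgroup ≤ (κ j).toAddSubgroup ∧
      (κ j'').toAddSubgroup ≤ (κ j').toAddSubgroup ∧
      ∀ x : (U : OpenFI A) → A ⧸ U.toAddSubgroup, CompatAbove (κ j'') x → P j'' (x (W j'')) →
        P j (x (W j)) ∧ P j' (x (W j')))
    (hne : ∀ j, ∃ a : A, P j (QuotientAddGroup.mk a)) :
    ∃ x : FICompl A, ∀ j, P j (x.1 (W j)) := by
  classical
  letI : ∀ U : OpenFI A, TopologicalSpace (A ⧸ U.toAddSubgroup) := fun _ => ⊥
  haveI : ∀ U : OpenFI A, DiscreteTopology (A ⧸ U.toAddSubgroup) := fun _ => ⟨rfl⟩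
  haveI : ∀ U : OpenFI A, Finite (A ⧸ U.toAddSubgroup) := fun U => by
    haveI := U.finiteIndex'
    exact inferInstance
  let K : J → Set ((U : OpenFI A) → A ⧸ U.toAddSubgroup) :=
    fun j => {x | CompatAbove (κ j) x ∧ P j (x (W j))}
  have hclosed : ∀ j, IsClosed (K j) := by
    intro j
    refine IsClosed.inter ?_ ?_
    · show IsClosed {x | CompatAbove (κ j) x}
      simp only [CompatAbove, Set.setOf_forall]
      refine isClosed_iInter fun V => isClosed_iInter fun h => ?_
      exact isClosed_eq (continuous_of_discreteTopology.comp (continuous_apply _)) (continuous_apply _)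
    · exact (isClosed_discrete _).preimage (continuous_apply (W j))
  obtain ⟨x, hx⟩ := IsCompact.nonempty_iInter_of_directed_nonempty_isCompact_isClosed K
    (fun j j' => by
      obtain ⟨j'', h1, h2, h3⟩ := hdir j j'
      exact ⟨j'', fun x hx => ⟨hx.1.of_le h1, (h3 x hx.1 hx.2).1⟩,
        fun x hx => ⟨hx.1.of_le h2, (h3 x hx.1 hx.2).2⟩⟩)
    (fun j => by
      obtain ⟨a, ha⟩ := hne j
      exact ⟨fun U => QuotientAddGroup.mk a, fun V h => rfl, ha⟩)
    (fun j => (hclosed j).isCompact) hclosed
  rw [Set.mem_iInter] at hx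
  refine ⟨⟨x, fun U V h => ?_⟩, fun j => (hx j).2⟩
  obtain ⟨j, hj⟩ := hκ U
  exact (hx j).1.of_le hj V h

end


open W4c61motalbduality in
/-- Let i : A → B and p : B → C be continuous homomorphisms of topological abelian groups with p
surjective and open and with the kernel of p equal to the image of i. Then the induced sequence of
completions with respect to open subgroups of finite index, A^∧ → B^∧ → C^∧ → 0, is exact: the map
B^∧ → C^∧ is surjective and its kernel is the image of A^∧. The completion is the group of
compatible families of residues modulo all open subgroups of finite index. (The published statement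
takes i injective, as the first map of an exact sequence 0 → A → B → C → 0 of topological abelian
groups; here it is only assumed that the image of i is the kernel of p, which is all the proof
uses.) -/
theorem result
    {A : Type u} {B : Type v} {C : Type w}
    [AddCommGroup A] [TopologicalSpace A] [IsTopologicalAddGroup A]
    [AddCommGroup B] [TopologicalSpace B] [IsTopologicalAddGroup B]
    [AddCommGroup C] [TopologicalSpace C] [IsTopologicalAddGroup C]
    (i : A →+ B) (hi : Continuous i) (p : B →+ C) (hp : Continuous p)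
    (hpo : IsOpenMap p) (hps : Function.Surjective p) (hex : p.ker = i.range) :
    Function.Surjective (FICompl.map p hp) ∧ (FICompl.map p hp).ker = (FICompl.map i hi).range := by
  classical
  let img : OpenFI B → OpenFI C := fun V =>
    { toAddSubgroup := V.toAddSubgroup.map p
      isOpen' := by simpa using hpo _ V.isOpen'
      finiteIndex' := by
        have := V.finiteIndex'
        refine ⟨fun h0 => AddSubgroup.FiniteIndex.index_ne_zero (H := V.toAddSubgroup) ?_⟩
        exact Nat.eq_zero_of_zero_dvd (h0 ▸ AddSubgroup.index_map_dvd V.toAddSubgroup hps) }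
  have himg : ∀ V : OpenFI B, V.toAddSubgroup ≤ ((img V).comap p hp).toAddSubgroup :=
    fun V b hb => ⟨b, hb, rfl⟩
  haveI : Nonempty (OpenFI B) :=
    ⟨⟨⊤, by simpa using isOpen_univ, inferInstance⟩⟩
  haveI : Nonempty (OpenFI A) :=
    ⟨⟨⊤, by simpa using isOpen_univ, inferInstance⟩⟩
  refine ⟨fun z => ?_, ?_⟩
  · -- surjectivity
    obtain ⟨x, hx⟩ := exists_compl (A := B) (J := OpenFI B) id (fun U => ⟨U, le_rfl⟩) id
      (fun j => le_rfl)
      (fun V q => QuotientAddGroup.map V.toAddSubgroup (img V).toAddSubgroup p (himg V) q = z.1 (img V))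
      (fun V V' => ⟨inf V V', inf_le_left, inf_le_right, fun x hc hP => by
        obtain ⟨b, hb⟩ := QuotientAddGroup.mk_surjective (x (inf V V'))
        simp only [id] at hP ⊢
        rw [← hb, QuotientAddGroup.map_mk] at hP
        have e1 := hc V inf_le_left
        have e2 := hc V' inf_le_right
        simp only [id] at e1 e2
        rw [← hb, QuotientAddGroup.map_mk] at e1 e2
        rw [← e1, ← e2]
        simp only [AddMonoidHom.id_apply, QuotientAddGroup.map_mk]
        exact ⟨by rw [← z.2 (img (inf V V')) (img V) (AddSubgroup.map_mono inf_le_left), ← hP]; rfl,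
          by rw [← z.2 (img (inf V V')) (img V') (AddSubgroup.map_mono inf_le_right), ← hP]; rfl⟩⟩)
      (fun V => by
        obtain ⟨c, hc⟩ := QuotientAddGroup.mk_surjective (z.1 (img V))
        obtain ⟨b, rfl⟩ := hps c
        exact ⟨b, by simpa using hc⟩)
    refine ⟨x, Subtype.ext (funext fun U => ?_)⟩
    have h1 := hx (U.comap p hp)
    have h2 : (img (U.comap p hp)).toAddSubgroup ≤ U.toAddSubgroup := AddSubgroup.map_comap_le _ _
    rw [← z.2 _ U h2]
    simp only [id] at h1
    rw [← h1]
    show QuotientAddGroup.map _ _ p _ (x.1 (U.comap p hp)) = _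
    obtain ⟨b, hb⟩ := QuotientAddGroup.mk_surjective (x.1 (U.comap p hp))
    rw [← hb]
    rfl
  · refine le_antisymm (fun x hx => ?_) ?_
    · let J := {j : OpenFI A × OpenFI B // j.1.toAddSubgroup ≤ (j.2.comap i hi).toAddSubgroup}
      haveI : Nonempty J := ⟨⟨((Classical.arbitrary (OpenFI B)).comap i hi, Classical.arbitrary _), le_rfl⟩⟩
      obtain ⟨y, hy⟩ := exists_compl (A := A) (J := J) (fun j => j.1.1)
        (fun U => ⟨⟨(inf U ((Classical.arbitrary (OpenFI B)).comap i hi), Classical.arbitrary _),
          inf_le_right⟩, inf_le_left⟩)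
        (fun j => j.1.2.comap i hi) (fun j => j.2)
        (fun j q => QuotientAddGroup.map _ j.1.2.toAddSubgroup i (j.1.2.comap_le i) q = x.1 j.1.2)
        (fun j j' => ⟨⟨(inf (inf j.1.1 j'.1.1) ((inf j.1.2 j'.1.2).comap i hi), inf j.1.2 j'.1.2),
            inf_le_right⟩, inf_le_left.trans inf_le_left, inf_le_left.trans inf_le_right,
          fun y hc hP => by
            obtain ⟨a, ha⟩ := QuotientAddGroup.mk_surjective
              (y (inf (inf j.1.1 j'.1.1) ((inf j.1.2 j'.1.2).comap i hi)))
            have e1 := hc (j.1.2.comap i hi) (inf_le_left.trans (inf_le_left.trans j.2))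
            have e2 := hc (j'.1.2.comap i hi) (inf_le_left.trans (inf_le_right.trans j'.2))
            have e3 := hc ((inf j.1.2 j'.1.2).comap i hi) inf_le_right
            rw [← ha, QuotientAddGroup.map_mk] at e1 e2 e3
            rw [← e3] at hP
            change (QuotientAddGroup.mk (i a) : B ⧸ (inf j.1.2 j'.1.2).toAddSubgroup) =
              x.1 (inf j.1.2 j'.1.2) at hP
            rw [← e1, ← e2]
            simp only [AddMonoidHom.id_apply] at ⊢
            refine ⟨?_, ?_⟩
            · rw [← x.2 (inf j.1.2 j'.1.2) j.1.2 inf_le_left, ← hP]; rfl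
            · rw [← x.2 (inf j.1.2 j'.1.2) j'.1.2 inf_le_right, ← hP]; rfl⟩)
        (fun j => by
          obtain ⟨b, hb⟩ := QuotientAddGroup.mk_surjective (x.1 j.1.2)
          have h1 : (FICompl.map p hp x).1 (img j.1.2) = 0 := by rw [hx]; rfl
          have h2 := x.2 j.1.2 ((img j.1.2).comap p hp) (himg _)
          rw [← hb, QuotientAddGroup.map_mk] at h2
          change QuotientAddGroup.map _ _ p _ (x.1 ((img j.1.2).comap p hp)) = 0 at h1
          rw [← h2, QuotientAddGroup.map_mk, QuotientAddGroup.eq_zero_iff] at h1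
          obtain ⟨v, hv, hvp⟩ := h1
          obtain ⟨a, ha⟩ : b - v ∈ i.range := by
            rw [← hex, AddMonoidHom.mem_ker, map_sub]
            simp only [AddMonoidHom.id_apply] at hvp
            rw [hvp, sub_self]
          refine ⟨a, ?_⟩
          show (QuotientAddGroup.mk (i a) : B ⧸ j.1.2.toAddSubgroup) = x.1 j.1.2
          rw [← hb, ha, QuotientAddGroup.eq]
          simpa using hv)
      refine ⟨y, Subtype.ext (funext fun V => ?_)⟩
      exact hy ⟨(V.comap i hi, V), le_rfl⟩
    · rintro _ ⟨y, rfl⟩
      refine Subtype.ext (funext fun U => ?_)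
      show QuotientAddGroup.map _ _ p _ (QuotientAddGroup.map _ _ i _ (y.1 _)) = 0
      obtain ⟨a, ha⟩ := QuotientAddGroup.mk_surjective (y.1 ((U.comap p hp).comap i hi))
      rw [← ha]
      simp only [QuotientAddGroup.map_mk]
      have h0 : p (i a) = 0 := AddMonoidHom.mem_ker.mp (hex ▸ ⟨a, rfl⟩)
      rw [h0]; rfl

end Groth.Agent.S19172
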