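import Mathlib
import Groth.Statements.S19176
-- import your own Groth.Agent.* helpers here

set_option autoImplicit false
universe u
open PlaneCurve

namespace Groth.Agent.S19176

open MvPolynomial in
/-- Let k be a field of characteristic p (p = 0 allowed) and F = y² − x³ in k[x, y] (x the variable of
index 0, y of index 1). The singular subscheme of the plane curve F = 0, cut out by F and its two
partial derivatives, is finite over k of degree 4 when p = 2, of degree 3 when p = 3, and of degree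
2 otherwise: the k-dimension of k[x, y]/(F, ∂F/∂x, ∂F/∂y) is that number. (The source phrases this
through the complete local ring of a cusp; the row is the computation for the standard cusp y² =
x³.) -/
theorem result (k : Type u) [Field k] (p : ℕ) [CharP k p] :
    Module.finrank k (MvPolynomial (Fin 2) k ⧸ Ideal.span
      ({X 1 ^ 2 - X 0 ^ 3, pderiv 0 (X 1 ^ 2 - X 0 ^ 3), pderiv 1 (X 1 ^ 2 - X 0 ^ 3)} :
        Set (MvPolynomial (Fin 2) k))) = (if p = 2 then 4 else if p = 3 then 3 else 2) := by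
  classical
  have key : ∀ a b : ℕ, Module.finrank k (MvPolynomial (Fin 2) k ⧸ Ideal.span ({X 0 ^ a, X 1 ^ b} : Set (MvPolynomial (Fin 2) k))) = a * b := by
    intro a b
    let e : Fin a × Fin b → (Fin 2 →₀ ℕ) := fun ij => Finsupp.single 0 (ij.1 : ℕ) + Finsupp.single 1 (ij.2 : ℕ)
    let φ : MvPolynomial (Fin 2) k →ₗ[k] (Fin a × Fin b → k) := LinearMap.pi fun ij => MvPolynomial.lcoeff k (e ij)
    have he0 : ∀ ij, e ij 0 = (ij.1 : ℕ) ∧ e ij 1 = (ij.2 : ℕ) := fun ij => by simp [e]
    have hker : LinearMap.ker φ = (Ideal.span ({X 0 ^ a, X 1 ^ b} : Set (MvPolynomial (Fin 2) k))).restrictScalars k := by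
      have hspan : ({X 0 ^ a, X 1 ^ b} : Set (MvPolynomial (Fin 2) k)) =
          (fun s => monomial s (1 : k)) '' {Finsupp.single 0 a, Finsupp.single 1 b} := by
        simp [Set.image_pair, X_pow_eq_monomial]
      ext q
      rw [Submodule.restrictScalars_mem, hspan, mem_ideal_span_monomial_image, LinearMap.mem_ker]
      constructor
      · intro h xi hxi
        by_contra hcon
        simp only [Set.mem_insert_iff, Set.mem_singleton_iff, exists_eq_or_imp, exists_eq_left, Finsupp.single_le_iff, not_or, not_le] at hcon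
        have hxe : e (⟨xi 0, hcon.1⟩, ⟨xi 1, hcon.2⟩) = xi := by
          ext i
          fin_cases i <;> simp [e]
        have := congrFun h (⟨xi 0, hcon.1⟩, ⟨xi 1, hcon.2⟩)
        simp only [φ, LinearMap.pi_apply, Pi.zero_apply] at this
        rw [hxe] at this
        exact mem_support_iff.1 hxi this
      · intro h
        funext ij
        simp only [φ, LinearMap.pi_apply, Pi.zero_apply]
        by_contra hcon
        obtain ⟨si, hsi, hle⟩ := h (e ij) (mem_support_iff.2 hcon)
        rcases hsi with rfl | hsi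
        · rw [Finsupp.single_le_iff, (he0 ij).1] at hle
          exact absurd ij.1.2 (not_lt.2 hle)
        · rw [Set.mem_singleton_iff.1 hsi, Finsupp.single_le_iff, (he0 ij).2] at hle
          exact absurd ij.2.2 (not_lt.2 hle)
    have hsurj : Function.Surjective φ := fun w => by
      refine ⟨∑ ij, monomial (e ij) (w ij), funext fun ij => ?_⟩
      simp only [φ, LinearMap.pi_apply, MvPolynomial.lcoeff_apply, coeff_sum, coeff_monomial]
      rw [Finset.sum_eq_single ij (fun x _ hx => if_neg fun h => hx ?_) (fun h => absurd (Finset.mem_univ _) h), if_pos rfl]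
      have h0 := congrArg (fun f => f 0) h
      have h1 := congrArg (fun f => f 1) h
      simp only [(he0 _).1, (he0 _).2] at h0 h1
      exact Prod.ext (Fin.ext h0) (Fin.ext h1)
    let L := (Submodule.quotEquivOfEq _ _ hker.symm).trans (φ.quotKerEquivOfSurjective hsurj)
    have := ((Submodule.Quotient.restrictScalarsEquiv k (Ideal.span ({X 0 ^ a, X 1 ^ b} : Set (MvPolynomial (Fin 2) k)))).symm.trans L).finrank_eq
    simpa using this
  have hd0 : pderiv 0 (X 1 ^ 2 - X 0 ^ 3 : MvPolynomial (Fin 2) k) = -(C 3 * X 0 ^ 2) := by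
    simp [pderiv_X, map_ofNat]
  have hd1 : pderiv 1 (X 1 ^ 2 - X 0 ^ 3 : MvPolynomial (Fin 2) k) = C 2 * X 1 := by
    simp [pderiv_X, map_ofNat]
  rw [hd0, hd1]
  have gen : ∀ (s : Set (MvPolynomial (Fin 2) k)) (a b : ℕ),
      X 0 ^ a ∈ Ideal.span s → X 1 ^ b ∈ Ideal.span s → s ⊆ (Ideal.span ({X 0 ^ a, X 1 ^ b} : Set (MvPolynomial (Fin 2) k)) : Set (MvPolynomial (Fin 2) k)) →
      Module.finrank k (MvPolynomial (Fin 2) k ⧸ Ideal.span s) = a * b := by
    intro s a b h1 h2 h3
    rw [← key a b, le_antisymm (Ideal.span_le.2 h3) (Ideal.span_le.2 (Set.insert_subset_iff.2 ⟨h1, Set.singleton_subset_iff.2 h2⟩))]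
  have hF : X 1 ^ 2 - X 0 ^ 3 ∈ Ideal.span ({X 1 ^ 2 - X 0 ^ 3, -(C 3 * X 0 ^ 2), C 2 * X 1} : Set (MvPolynomial (Fin 2) k)) := Ideal.subset_span (Or.inl rfl)
  have hA : -(C 3 * X 0 ^ 2) ∈ Ideal.span ({X 1 ^ 2 - X 0 ^ 3, -(C 3 * X 0 ^ 2), C 2 * X 1} : Set (MvPolynomial (Fin 2) k)) := Ideal.subset_span (Or.inr (Or.inl rfl))
  have hB : C 2 * X 1 ∈ Ideal.span ({X 1 ^ 2 - X 0 ^ 3, -(C 3 * X 0 ^ 2), C 2 * X 1} : Set (MvPolynomial (Fin 2) k)) := Ideal.subset_span (Or.inr (Or.inr rfl))
  have hsub : ∀ a b : ℕ, a ≤ 3 → b ≤ 2 → (a ≤ 2 ∨ (C 3 : MvPolynomial (Fin 2) k) = 0) → (b ≤ 1 ∨ (C 2 : MvPolynomial (Fin 2) k) = 0) →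
      ({X 1 ^ 2 - X 0 ^ 3, -(C 3 * X 0 ^ 2), C 2 * X 1} : Set (MvPolynomial (Fin 2) k)) ⊆ (Ideal.span ({X 0 ^ a, X 1 ^ b} : Set (MvPolynomial (Fin 2) k)) : Set (MvPolynomial (Fin 2) k)) := by
    intro a b ha hb ha' hb'
    have gx : ∀ n, a ≤ n → (X 0 ^ n : MvPolynomial (Fin 2) k) ∈ Ideal.span ({X 0 ^ a, X 1 ^ b} : Set (MvPolynomial (Fin 2) k)) := fun n hn =>
      Ideal.mem_of_dvd _ (pow_dvd_pow _ hn) (Ideal.subset_span (Or.inl rfl))
    have gy : ∀ n, b ≤ n → (X 1 ^ n : MvPolynomial (Fin 2) k) ∈ Ideal.span ({X 0 ^ a, X 1 ^ b} : Set (MvPolynomial (Fin 2) k)) := fun n hn =>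
      Ideal.mem_of_dvd _ (pow_dvd_pow _ hn) (Ideal.subset_span (Or.inr rfl))
    rintro _ (rfl | rfl | rfl)
    · exact sub_mem (gy 2 hb) (gx 3 ha)
    · rcases ha' with h | h
      · exact neg_mem (Ideal.mul_mem_left _ _ (gx 2 h))
      · simp [h]
    · rcases hb' with h | h
      · exact Ideal.mul_mem_left _ _ (by simpa using gy 1 h)
      · simp [h]
  have h32 : (3 : k) = 1 + 2 := by norm_num
  split_ifs with h2 h3
  · subst h2
    have e2 : (2 : k) = 0 := CharP.cast_eq_zero k 2
    have e3 : (3 : k) = 1 := by rw [h32, e2, add_zero]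
    refine (gen _ 2 2 ?_ ?_ (hsub 2 2 (by norm_num) le_rfl (Or.inl le_rfl) (Or.inr (by rw [e2, map_zero])))).trans (by norm_num)
    · simpa [e3] using hA
    · have := add_mem hF (Ideal.mul_mem_left _ (-X 0) hA)
      rw [show (C (3 : k) : MvPolynomial (Fin 2) k) = 1 by rw [e3, map_one]] at this ⊢
      ring_nf at this ⊢
      exact this
  · subst h3
    have e3 : (3 : k) = 0 := CharP.cast_eq_zero k 3
    have e2 : (2 : k) = -1 := by linear_combination e3
    have hy : X 1 ∈ Ideal.span ({X 1 ^ 2 - X 0 ^ 3, -(C 3 * X 0 ^ 2), C 2 * X 1} : Set (MvPolynomial (Fin 2) k)) := by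
      have := neg_mem hB
      simpa [e2] using this
    refine (gen _ 3 1 ?_ (by simpa using hy) (hsub 3 1 le_rfl (by norm_num) (Or.inr (by rw [e3, map_zero])) (Or.inl le_rfl))).trans (by norm_num)
    have := sub_mem (Ideal.mul_mem_left _ (X 1) hy) hF
    ring_nf at this ⊢
    exact this
  · have e2 : (2 : k) ≠ 0 := by
      intro h
      have h' : ((2 : ℕ) : k) = 0 := by exact_mod_cast h
      rcases (Nat.dvd_prime Nat.prime_two).1 ((CharP.cast_eq_zero_iff k p 2).1 h') with e | e
      · exact CharP.char_ne_one k p e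
      · exact h2 e
    have e3 : (3 : k) ≠ 0 := by
      intro h
      have h' : ((3 : ℕ) : k) = 0 := by exact_mod_cast h
      rcases (Nat.dvd_prime Nat.prime_three).1 ((CharP.cast_eq_zero_iff k p 3).1 h') with e | e
      · exact CharP.char_ne_one k p e
      · exact h3 e
    refine (gen _ 2 1 ?_ ?_ (hsub 2 1 (by norm_num) (by norm_num) (Or.inl le_rfl) (Or.inl le_rfl))).trans (by norm_num)
    · have := Ideal.mul_mem_left _ (C (-(3 : k)⁻¹)) hA
      rwa [mul_neg, ← mul_assoc, ← map_mul, neg_mul, inv_mul_cancel₀ e3, map_neg, map_one, neg_mul, one_mul, neg_neg] at this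
    · have := Ideal.mul_mem_left _ (C (2 : k)⁻¹) hB
      rw [← mul_assoc, ← map_mul, inv_mul_cancel₀ e2, map_one, one_mul] at this
      rwa [pow_one]

end Groth.Agent.S19176
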