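import Groth.Statements.S19177
import Mathlib.RingTheory.Spectrum.Prime.FreeLocus
import Mathlib.RingTheory.Nakayama
import Mathlib.LinearAlgebra.Projection
-- import your own Groth.Agent.* helpers here

set_option autoImplicit false
universe u
open CAlg

namespace Groth.Agent.S19177

/-- Let S → R be a homomorphism of commutative rings making R a finitely generated projective S-module
of rank 2 at every prime of S (the affine form of a finite locally free morphism of degree 2). Then
the cokernel of the (injective) structure map S → R, the S-module R/S, is a projective S-module of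
rank 1 at every prime of S (locally free of rank 1). -/
theorem result
    (S R : Type u) [CommRing S] [CommRing R] [Algebra S R] [Module.Finite S R] [Module.Projective S R]
    (h2 : ∀ p : PrimeSpectrum S, Module.rankAtStalk (R := S) R p = 2) :
    Module.Projective S (R ⧸ LinearMap.range (Algebra.linearMap S R)) ∧
      ∀ p : PrimeSpectrum S,
        Module.rankAtStalk (R := S) (R ⧸ LinearMap.range (Algebra.linearMap S R)) p = 1 := by
  obtain ⟨φ, hφ⟩ : ∃ φ : R →ₗ[S] S, φ 1 = 1 := by
    let T : Ideal S := LinearMap.range ((LinearMap.applyₗ : R →ₗ[S] (R →ₗ[S] S) →ₗ[S] S) 1)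
    by_cases hT : T = ⊤
    · exact LinearMap.mem_range.1 ((hT.symm ▸ Submodule.mem_top : (1 : S) ∈ T))
    exfalso
    obtain ⟨m, hm, hle⟩ := Ideal.exists_le_maximal T hT
    obtain ⟨n, f, g, hf, hg, hfg⟩ := Module.Finite.exists_comp_eq_id_of_projective S R
    have h1 : (1 : R) ∈ m • (⊤ : Submodule S R) := by
      have e : (1 : R) = f (g 1) := (LinearMap.congr_fun hfg 1).symm
      rw [e, pi_eq_sum_univ (g 1), map_sum]
      refine Submodule.sum_mem _ fun i _ => ?_
      rw [map_smul]
      exact Submodule.smul_mem_smul (hle ⟨(LinearMap.proj i).comp g, rfl⟩) Submodule.mem_top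
    have htop : (⊤ : Submodule S R) ≤ m • ⊤ := fun x _ => by
      have := Submodule.mem_map_of_mem (f := LinearMap.mulRight S x) h1
      rw [Submodule.map_smul''] at this
      simpa using Submodule.smul_mono le_rfl le_top this
    obtain ⟨r, hr, hr0⟩ := Submodule.exists_sub_one_mem_and_smul_eq_zero_of_fg_of_le_smul m ⊤
      Module.Finite.fg_top htop
    have hp : (⟨m, hm.isPrime⟩ : PrimeSpectrum S) ∉ Module.support S R :=
      Module.notMem_support_iff'.2 fun x => ⟨r, fun hrm =>
        hm.ne_top ((Ideal.eq_top_iff_one m).2 (by simpa using sub_mem hrm hr)), hr0 x Submodule.mem_top⟩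
    have h0 := (Module.rankAtStalk_eq_zero_iff_notMem_support (M := R) _).2 hp
    rw [h2] at h0
    exact absurd h0 (by norm_num)
  let ι := Algebra.linearMap S R
  have hφι : ∀ s, φ (ι s) = s := fun s => by
    show φ (algebraMap S R s) = s
    rw [Algebra.algebraMap_eq_smul_one, map_smul, hφ, smul_eq_mul, mul_one]
  let P : R →ₗ[S] R := LinearMap.id - ι.comp φ
  let s : R ⧸ LinearMap.range ι →ₗ[S] R := Submodule.liftQ _ P (by
    rintro _ ⟨a, rfl⟩
    simp [P, hφι])
  have hs : (Submodule.mkQ (LinearMap.range ι)).comp s = LinearMap.id :=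
    Submodule.linearMap_qext _ (LinearMap.ext fun x => by
      show Submodule.Quotient.mk (x - ι (φ x)) = Submodule.Quotient.mk x
      exact (Submodule.Quotient.eq _).2 ⟨-φ x, by simp⟩)
  haveI hproj : Module.Projective S (R ⧸ LinearMap.range ι) := Module.Projective.of_split s _ hs
  refine ⟨hproj, fun p => ?_⟩
  haveI : Nontrivial S := p.nontrivial
  have e : R ≃ₗ[S] S × (R ⧸ LinearMap.range ι) :=
    { φ.prod (Submodule.mkQ (LinearMap.range ι)) with
      invFun := fun x => ι x.1 + s x.2
      left_inv := fun x => by
        show ι (φ x) + (x - ι (φ x)) = x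
        abel
      right_inv := fun x => by
        obtain ⟨a, q⟩ := x
        obtain ⟨y, rfl⟩ := Submodule.mkQ_surjective _ q
        refine Prod.ext ?_ ?_
        · show φ (ι a + (y - ι (φ y))) = a
          rw [map_add, map_sub, hφι, hφι, sub_self, add_zero]
        · show Submodule.Quotient.mk (ι a + (y - ι (φ y))) = Submodule.Quotient.mk y
          exact (Submodule.Quotient.eq _).2 ⟨a - φ y, by rw [map_sub]; abel⟩ }
  have := congrFun (Module.rankAtStalk_eq_of_equiv e) p
  rw [h2, Module.rankAtStalk_prod, Pi.add_apply, Module.rankAtStalk_self, Pi.one_apply] at this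
  show Module.rankAtStalk (R := S) (R ⧸ LinearMap.range ι) p = 1
  omega

end Groth.Agent.S19177
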