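import Groth.Statements.S19178
import Mathlib.Algebra.MvPolynomial.Division
import Mathlib.Algebra.MvPolynomial.Equiv
import Mathlib.Algebra.Polynomial.SpecificDegree
import Mathlib.Tactic.ComputeDegree
import Mathlib.Tactic.LinearCombination
-- import your own Groth.Agent.* helpers here

set_option autoImplicit false
universe u
open Curves

namespace Groth.Agent.S19178

/-- For every field k and every choice of coefficients a₁, a₂, a₃, a₄, a₆ in k, the homogeneous
Weierstrass cubic Y²Z + a₁XYZ + a₃YZ² − (X³ + a₂X²Z + a₄XZ² + a₆Z³) is an irreducible polynomial in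
k[X, Y, Z]. Applied to all fields, this says every fibre of the Weierstrass family over the affine
space of coefficients is geometrically integral. -/
theorem result (k : Type u) [Field k]
    (W : WeierstrassCurve k) :
    Irreducible (WeierstrassCurve.Projective.polynomial W) := by
  classical
  let e := MvPolynomial.finSuccEquiv k 2
  let Y : MvPolynomial (Fin 2) k := MvPolynomial.X 0
  let Z : MvPolynomial (Fin 2) k := MvPolynomial.X 1
  let q2 : MvPolynomial (Fin 2) k := MvPolynomial.C W.a₂ * Z
  let q1 : MvPolynomial (Fin 2) k := MvPolynomial.C W.a₄ * Z ^ 2 - MvPolynomial.C W.a₁ * Y * Z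
  let q0 : MvPolynomial (Fin 2) k := MvPolynomial.C W.a₆ * Z ^ 3 - Y ^ 2 * Z - MvPolynomial.C W.a₃ * Y * Z ^ 2
  let Q : Polynomial (MvPolynomial (Fin 2) k) :=
    Polynomial.X ^ 3 + Polynomial.C q2 * Polynomial.X ^ 2 + Polynomial.C q1 * Polynomial.X + Polynomial.C q0
  have hC : ∀ c : k, e (MvPolynomial.C c) = Polynomial.C (MvPolynomial.C c) := by
    intro c; simp [e, MvPolynomial.finSuccEquiv_apply]
  have h1 : e (MvPolynomial.X 1) = Polynomial.C Y := MvPolynomial.finSuccEquiv_X_succ (j := 0)
  have h2 : e (MvPolynomial.X 2) = Polynomial.C Z := MvPolynomial.finSuccEquiv_X_succ (j := 1)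
  have h0 : e (MvPolynomial.X 0) = Polynomial.X := MvPolynomial.finSuccEquiv_X_zero
  have hP : e (WeierstrassCurve.Projective.polynomial W) = -Q := by
    simp only [WeierstrassCurve.Projective.polynomial, map_sub, map_add, map_mul, map_pow, hC,
      Q, q2, q1, q0]
    simp only [Fin.isValue, h0, h1, h2]
    ring
  have hmonic : Q.Monic := by simp only [Q]; monicity!
  have hdeg : Q.natDegree = 3 := by simp only [Q]; compute_degree!
  have hirr : Irreducible Q := by
    rw [hmonic.irreducible_iff_roots_eq_zero_of_degree_le_three (by omega) (by omega)]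
    refine Multiset.eq_zero_of_forall_notMem fun f hf => ?_
    rw [Polynomial.mem_roots hmonic.ne_zero, Polynomial.IsRoot] at hf
    simp only [Q, Polynomial.eval_add, Polynomial.eval_mul, Polynomial.eval_pow,
      Polynomial.eval_X, Polynomial.eval_C, q2, q1, q0] at hf
    have hZ : Prime Z := MvPolynomial.X_prime
    have hdvd : Z ∣ f ^ 3 := ⟨-(MvPolynomial.C W.a₂ * f ^ 2 + (MvPolynomial.C W.a₄ * Z
        - MvPolynomial.C W.a₁ * Y) * f
        + (MvPolynomial.C W.a₆ * Z ^ 2 - Y ^ 2 - MvPolynomial.C W.a₃ * Y * Z)),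
      by linear_combination hf⟩
    obtain ⟨g, rfl⟩ := hZ.dvd_of_dvd_pow hdvd
    have hg : Z ^ 2 * g ^ 3 + MvPolynomial.C W.a₂ * Z ^ 2 * g ^ 2
        + (MvPolynomial.C W.a₄ * Z - MvPolynomial.C W.a₁ * Y) * (Z * g)
        + (MvPolynomial.C W.a₆ * Z ^ 2 - Y ^ 2 - MvPolynomial.C W.a₃ * Y * Z) = 0 := by
      apply mul_left_cancel₀ hZ.ne_zero
      linear_combination hf
    have := congrArg (MvPolynomial.eval ![(1 : k), 0]) hg
    simp [Y, Z] at this
  rw [← MulEquiv.irreducible_iff e, hP]
  exact (Associated.refl Q).neg_right.irreducible hirr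

end Groth.Agent.S19178
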