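import Groth.Statements.S19181
import Mathlib
-- import your own Groth.Agent.* helpers here

set_option autoImplicit false
universe u
open CAlg

namespace Groth.Agent.S19181

theorem sat {R : Type u} [CommRing R] (f : MvPolynomial (Fin 2) R)
    (hf : IsSMulRegular (Polynomial R) (MvPolynomial.aeval ![0, (Polynomial.X : Polynomial R)] f))
    (s : MvPolynomial (Fin 2) R) :
    (∃ n : ℕ, MvPolynomial.X 0 ^ n * s ∈ Ideal.span ({MvPolynomial.X 0 ^ 2 * f} : Set (MvPolynomial (Fin 2) R))) ↔
      s ∈ Ideal.span ({f} : Set (MvPolynomial (Fin 2) R)) := by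
  let π : MvPolynomial (Fin 2) R →ₐ[R] Polynomial R := MvPolynomial.aeval ![0, (Polynomial.X : Polynomial R)]
  let ι : Polynomial R →ₐ[R] MvPolynomial (Fin 2) R := Polynomial.aeval (MvPolynomial.X 1)
  have hdiv : ∀ c : MvPolynomial (Fin 2) R, MvPolynomial.X 0 ∣ c - ι (π c) := by
    intro c
    induction c using MvPolynomial.induction_on with
    | C a => simp [π, ι]
    | add p q hp hq => simpa [map_add, add_sub_add_comm] using dvd_add hp hq
    | mul_X p i hp =>
      rw [map_mul, map_mul]
      fin_cases i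
      · simp [π]
      · simpa [π, ι, sub_mul] using hp.mul_right (MvPolynomial.X 1)
  have hstep : ∀ t : MvPolynomial (Fin 2) R, f ∣ MvPolynomial.X 0 * t → f ∣ t := by
    rintro t ⟨c, hc⟩
    have h1 := congrArg π hc
    have hX : π (MvPolynomial.X 0) = 0 := by simp [π]
    rw [map_mul, map_mul, hX, zero_mul] at h1
    have h2 : π c = 0 := hf.right_eq_zero_of_smul h1.symm
    obtain ⟨c', hc'⟩ := hdiv c
    rw [h2, map_zero, sub_zero] at hc'
    exact ⟨c', MvPolynomial.isRegular_X.left (show MvPolynomial.X 0 * t = MvPolynomial.X 0 * (f * c') by rw [hc, hc']; ring)⟩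
  simp only [Ideal.mem_span_singleton]
  constructor
  · rintro ⟨n, hn⟩
    have h : f ∣ MvPolynomial.X 0 ^ n * s := (dvd_mul_left f _).trans hn
    clear hn
    induction n with
    | zero => simpa using h
    | succ n ih => exact ih (hstep _ (by rwa [← mul_assoc, ← pow_succ']))
  · intro h
    exact ⟨2, mul_dvd_mul_left _ h⟩


open MvPolynomial in
/-- Let R be a commutative ring, a₁, a₂ ∈ R, and C ⊂ A²_R the curve y² + a₁xy = x³ + a₂x², blown up at
the section x = y = 0. In the chart where x = yα (variables y = X 0, α = X 1) the equation of C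
becomes y²·g₁ with g₁ = 1 + a₁α − yα³ − a₂α², and the y-saturation of the ideal (y²g₁) is (g₁): for
s ∈ R[y, α], some yⁿs lies in (y²g₁) if and only if s ∈ (g₁). In the chart where y = xβ (variables x
= X 0, β = X 1) the equation becomes x²·g₂ with g₂ = β² + a₁β − x − a₂, and some xⁿs lies in (x²g₂)
if and only if s ∈ (g₂). In other words the strict transform of C is cut out by g₁, resp. g₂, in the
two charts. -/
theorem result (R : Type u) [CommRing R] (a₁ a₂ : R) :
    (∀ s : MvPolynomial (Fin 2) R,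
      (∃ n : ℕ, X 0 ^ n * s ∈ Ideal.span ({X 0 ^ 2 * (1 + C a₁ * X 1 - X 0 * X 1 ^ 3 - C a₂ * X 1 ^ 2)} :
        Set (MvPolynomial (Fin 2) R))) ↔
      s ∈ Ideal.span ({1 + C a₁ * X 1 - X 0 * X 1 ^ 3 - C a₂ * X 1 ^ 2} : Set (MvPolynomial (Fin 2) R))) ∧
    (∀ s : MvPolynomial (Fin 2) R,
      (∃ n : ℕ, X 0 ^ n * s ∈ Ideal.span ({X 0 ^ 2 * (X 1 ^ 2 + C a₁ * X 1 - X 0 - C a₂)} :
        Set (MvPolynomial (Fin 2) R))) ↔
      s ∈ Ideal.span ({X 1 ^ 2 + C a₁ * X 1 - X 0 - C a₂} : Set (MvPolynomial (Fin 2) R))) := by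
  constructor
  · intro s
    refine sat _ ?_ s
    intro a b hab
    by_contra hne
    have h0 : (a - b) * (MvPolynomial.aeval ![0, (Polynomial.X : Polynomial R)] (1 + MvPolynomial.C a₁ * MvPolynomial.X 1 - MvPolynomial.X 0 * MvPolynomial.X 1 ^ 3 - MvPolynomial.C a₂ * MvPolynomial.X 1 ^ 2)) = 0 := by
      simp only [smul_eq_mul] at hab
      rw [sub_mul, mul_comm a, mul_comm b, hab, sub_self]
    have := congrArg (fun P : Polynomial R => P.coeff (a - b).natTrailingDegree) h0
    have e : MvPolynomial.aeval ![0, (Polynomial.X : Polynomial R)] (1 + MvPolynomial.C a₁ * MvPolynomial.X 1 - MvPolynomial.X 0 * MvPolynomial.X 1 ^ 3 - MvPolynomial.C a₂ * MvPolynomial.X 1 ^ 2) = 1 + Polynomial.X * (Polynomial.C a₁ - Polynomial.C a₂ * Polynomial.X) := by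
      simp; ring
    rw [e] at h0
    have h1 : a - b = Polynomial.X * -((Polynomial.C a₁ - Polynomial.C a₂ * Polynomial.X) * (a - b)) := by linear_combination h0
    have hd : ∀ n, Polynomial.X ^ n ∣ a - b := by
      intro n
      induction n with
      | zero => simp
      | succ n ih =>
        rw [h1, pow_succ']
        exact mul_dvd_mul_left _ (ih.mul_left _).neg_right
    apply hne
    rw [← sub_eq_zero]
    ext m
    exact (Polynomial.X_pow_dvd_iff.1 (hd (m + 1))) m (Nat.lt_succ_self m)
  · intro s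
    refine sat _ ?_ s
    have e : MvPolynomial.aeval ![0, (Polynomial.X : Polynomial R)] (MvPolynomial.X 1 ^ 2 + MvPolynomial.C a₁ * MvPolynomial.X 1 - MvPolynomial.X 0 - MvPolynomial.C a₂) = Polynomial.X ^ 2 + (Polynomial.C a₁ * Polynomial.X - Polynomial.C a₂) := by
      simp; ring
    rw [e]
    exact (Polynomial.monic_X_pow_add (n := 2) (by
      refine lt_of_le_of_lt (Polynomial.degree_sub_le _ _) (max_lt ?_ ?_)
      · exact lt_of_le_of_lt (Polynomial.degree_C_mul_X_le _) (by norm_num)
      · exact lt_of_le_of_lt Polynomial.degree_C_le (by norm_num))).isRegular.left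

end Groth.Agent.S19181
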