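import Groth.Statements.S19182
import Mathlib
-- import your own Groth.Agent.* helpers here

set_option autoImplicit false
universe u
open CAlg

namespace Groth.Agent.S19182

theorem smooth_of {R : Type u} [CommRing R] (f : MvPolynomial (Fin 2) R) {B : Type u} [CommRing B] [Algebra R B]
    [Algebra.Smooth R B] (b : Fin 2 → B) (hb : MvPolynomial.aeval b f = 0)
    (hq : ∀ (Q : Type u) [CommRing Q] [Algebra R Q] (q : Fin 2 → Q), MvPolynomial.aeval q f = 0 →
      ∃ ψ : B →ₐ[R] Q, ∀ i, ψ (b i) = q i)
    (hgen : ∀ g : B →ₐ[R] B, g (b 1) = b 1 → g = AlgHom.id R B) :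
    Algebra.Smooth R (MvPolynomial (Fin 2) R ⧸ Ideal.span ({f} : Set (MvPolynomial (Fin 2) R))) := by
  let φ : (MvPolynomial (Fin 2) R ⧸ Ideal.span ({f} : Set (MvPolynomial (Fin 2) R))) →ₐ[R] B :=
    Ideal.Quotient.liftₐ _ (MvPolynomial.aeval b) (fun x hx => by
      obtain ⟨c, rfl⟩ := Ideal.mem_span_singleton.1 hx
      rw [map_mul, hb, zero_mul])
  have hφ : ∀ i, φ (Ideal.Quotient.mk _ (MvPolynomial.X i)) = b i := fun i => MvPolynomial.aeval_X b i
  have hmk : MvPolynomial.aeval (fun i => Ideal.Quotient.mk (Ideal.span ({f} : Set (MvPolynomial (Fin 2) R))) (MvPolynomial.X i)) =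
      Ideal.Quotient.mkₐ R (Ideal.span ({f} : Set (MvPolynomial (Fin 2) R))) :=
    MvPolynomial.algHom_ext fun i => by simp
  obtain ⟨ψ, hψ⟩ := hq _ _ (show MvPolynomial.aeval (fun i => Ideal.Quotient.mk (Ideal.span ({f} : Set (MvPolynomial (Fin 2) R))) (MvPolynomial.X i)) f = 0 by
    rw [hmk]; exact Ideal.Quotient.eq_zero_iff_mem.2 (Ideal.mem_span_singleton_self f))
  refine Algebra.Smooth.of_equiv (AlgEquiv.ofAlgHom ψ φ ?_ (hgen _ ?_))
  · refine Ideal.Quotient.algHom_ext _ (MvPolynomial.algHom_ext fun i => ?_)
    show ψ (φ (Ideal.Quotient.mk _ (MvPolynomial.X i))) = Ideal.Quotient.mk _ (MvPolynomial.X i)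
    rw [hφ, hψ]
  · show φ (ψ (b 1)) = b 1
    rw [hψ, hφ]


open MvPolynomial in
/-- Let R be a commutative ring and a₁, a₂ ∈ R. The two affine charts of the blow-up of the plane curve
y² + a₁xy = x³ + a₂x² at the section x = y = 0, with coordinate rings R[y, α]/(1 + a₁α − yα³ − a₂α²)
and R[x, β]/(β² + a₁β − x − a₂) (variables indexed 0 and 1 in this order), are smooth R-algebras
(formally smooth of finite presentation). This is the local computation behind the statement that
the blow-up of a Weierstrass curve along a section through its singular locus is a smooth proper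
curve of genus 0. -/
theorem result (R : Type u) [CommRing R] (a₁ a₂ : R) :
    Algebra.Smooth R (MvPolynomial (Fin 2) R ⧸
      Ideal.span ({1 + C a₁ * X 1 - X 0 * X 1 ^ 3 - C a₂ * X 1 ^ 2} : Set (MvPolynomial (Fin 2) R))) ∧
    Algebra.Smooth R (MvPolynomial (Fin 2) R ⧸
      Ideal.span ({X 1 ^ 2 + C a₁ * X 1 - X 0 - C a₂} : Set (MvPolynomial (Fin 2) R))) := by
  classical
  haveI : Algebra.Smooth R (Polynomial R) := {}
  constructor
  · let L := Localization.Away (Polynomial.X : Polynomial R)
    haveI : Algebra.Smooth (Polynomial R) L := Algebra.Smooth.of_isLocalization_Away (Polynomial.X : Polynomial R)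
    haveI : Algebra.Smooth R L := Algebra.Smooth.comp R (Polynomial R) L
    obtain ⟨v, huv⟩ : ∃ v : L, algebraMap (Polynomial R) L Polynomial.X * v = 1 := ⟨_, IsLocalization.Away.mul_invSelf _⟩
    set u : L := algebraMap (Polynomial R) L Polynomial.X with hu
    refine smooth_of _ ![(1 + algebraMap R L a₁ * u - algebraMap R L a₂ * u ^ 2) * v ^ 3, u] ?_ ?_ ?_
    · simp only [map_sub, map_add, map_mul, map_pow, map_one, MvPolynomial.aeval_C, MvPolynomial.aeval_X, Matrix.cons_val_zero, Matrix.cons_val_one]
      linear_combination -(1 + algebraMap R L a₁ * u - algebraMap R L a₂ * u ^ 2) * ((u * v) ^ 2 + u * v + 1) * huv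
    · intro Q _ _ q hq
      simp only [map_sub, map_add, map_mul, map_pow, map_one, MvPolynomial.aeval_C, MvPolynomial.aeval_X] at hq
      have hunit : IsUnit ((Polynomial.aeval (q 1) : Polynomial R →ₐ[R] Q).toRingHom Polynomial.X) := by
        show IsUnit (Polynomial.aeval (q 1) (Polynomial.X : Polynomial R))
        rw [Polynomial.aeval_X]
        exact IsUnit.of_mul_eq_one (a := q 1) (-algebraMap R Q a₁ + q 0 * q 1 ^ 2 + algebraMap R Q a₂ * q 1) (by linear_combination -hq)
      let ψ : L →ₐ[R] Q :=
        { IsLocalization.Away.lift (Polynomial.X : Polynomial R) hunit with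
          commutes' := fun r => by
            show IsLocalization.Away.lift (S := L) (Polynomial.X : Polynomial R) hunit (algebraMap R L r) = _
            rw [IsScalarTower.algebraMap_apply R (Polynomial R) L, IsLocalization.Away.lift_eq]
            simp }
      have hψu : ψ u = q 1 := by
        show IsLocalization.Away.lift (S := L) (Polynomial.X : Polynomial R) hunit u = _
        rw [hu, IsLocalization.Away.lift_eq]
        simp
      refine ⟨ψ, fun i => ?_⟩
      fin_cases i
      · show ψ ((1 + algebraMap R L a₁ * u - algebraMap R L a₂ * u ^ 2) * v ^ 3) = q 0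
        have hvq : ψ v * q 1 = 1 := by rw [← hψu, ← map_mul, mul_comm, huv, map_one]
        simp only [map_mul, map_sub, map_add, map_pow, map_one, AlgHom.commutes, hψu]
        linear_combination (ψ v) ^ 3 * hq + q 0 * ((ψ v * q 1) ^ 2 + ψ v * q 1 + 1) * hvq
      · exact hψu
    · intro g hg
      apply AlgHom.coe_ringHom_injective
      apply IsLocalization.ringHom_ext (Submonoid.powers (Polynomial.X : Polynomial R))
      refine Polynomial.ringHom_ext (fun a => ?_) hg
      show g (algebraMap (Polynomial R) L (Polynomial.C a)) = algebraMap (Polynomial R) L (Polynomial.C a)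
      rw [← Polynomial.algebraMap_eq, ← IsScalarTower.algebraMap_apply, AlgHom.commutes]
  · refine smooth_of _ ![Polynomial.X ^ 2 + Polynomial.C a₁ * Polynomial.X - Polynomial.C a₂, Polynomial.X] ?_ ?_ ?_
    · simp only [map_sub, map_add, map_mul, map_pow, MvPolynomial.aeval_C, MvPolynomial.aeval_X, Matrix.cons_val_zero, Matrix.cons_val_one, Polynomial.algebraMap_eq]
      ring
    · intro Q _ _ q hq
      simp only [map_sub, map_add, map_mul, map_pow, MvPolynomial.aeval_C, MvPolynomial.aeval_X] at hq
      refine ⟨Polynomial.aeval (q 1), fun i => ?_⟩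
      fin_cases i
      · show Polynomial.aeval (q 1) (Polynomial.X ^ 2 + Polynomial.C a₁ * Polynomial.X - Polynomial.C a₂) = q 0
        simp only [map_sub, map_add, map_mul, map_pow, Polynomial.aeval_C, Polynomial.aeval_X]
        linear_combination hq
      · exact Polynomial.aeval_X _
    · intro g hg
      exact Polynomial.algHom_ext hg

end Groth.Agent.S19182
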