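import Mathlib
import Groth.Statements.S19183
-- import your own Groth.Agent.* helpers here

set_option autoImplicit false
universe u
open CAlg

namespace Groth.Agent.S19183

/-- Let A be a non-zero commutative ring and f ∈ A a non-zero-divisor. The fibre product A ×_{A/(f)} A
of two copies of A over A/(f) — the A-submodule of A × A of pairs (x, y) with x − y ∈ (f), which is
the coordinate ring of two copies of Spec A glued along the Cartier divisor f = 0 — is a free
A-module of rank 2. (This is what makes the gluing of two copies of a curve along an effective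
Cartier divisor finite locally free of degree 2 over the curve.) -/
theorem result (A : Type u) [CommRing A] [Nontrivial A]
    (f : A) (hf : f ∈ nonZeroDivisors A) :
    Module.Free A (Submodule.comap (LinearMap.fst A A A - LinearMap.snd A A A) (Ideal.span ({f} : Set A))) ∧
      Module.finrank A (Submodule.comap (LinearMap.fst A A A - LinearMap.snd A A A) (Ideal.span ({f} : Set A))) = 2 := by
  let N := Submodule.comap (LinearMap.fst A A A - LinearMap.snd A A A) (Ideal.span ({f} : Set A))
  let Φ : A × A →ₗ[A] N := LinearMap.codRestrict N ((LinearMap.fst A A A + f • LinearMap.snd A A A).prod (LinearMap.fst A A A)) fun q => by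
    show (q.1 + f * q.2) - q.1 ∈ Ideal.span ({f} : Set A)
    rw [add_sub_cancel_left]
    exact Ideal.mul_mem_right _ _ (Ideal.mem_span_singleton_self f)
  have hΦ : Function.Bijective Φ := by
    refine ⟨(injective_iff_map_eq_zero Φ).mpr fun ⟨x, y⟩ h => ?_, fun ⟨⟨a, b⟩, h⟩ => ?_⟩
    · have h1 : (x + f * y, x) = (0 : A × A) := congrArg Subtype.val h
      simp only [Prod.mk_eq_zero] at h1
      obtain ⟨h2, rfl⟩ := h1
      rw [zero_add] at h2
      rw [(mem_nonZeroDivisors_iff.mp hf).1 y h2]; rfl
    · obtain ⟨c, hc⟩ := Ideal.mem_span_singleton'.mp h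
      refine ⟨(b, c), Subtype.ext (Prod.ext ?_ rfl)⟩
      show b + f * c = a
      simp at hc
      linear_combination hc
  let e := LinearEquiv.ofBijective Φ hΦ
  exact ⟨Module.Free.of_equiv e, by rw [← e.finrank_eq, Module.finrank_prod, Module.finrank_self]⟩

end Groth.Agent.S19183
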