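import Mathlib
import Groth.Statements.S19184
-- import your own Groth.Agent.* helpers here

set_option autoImplicit false
universe u
open CAlg

namespace Groth.Agent.S19184

open Polynomial in
/-- Let S be a commutative ring, a, b ∈ S, f = x² + ax + b ∈ S[x] and R = S[x]/(f), a free S-algebra of
rank 2. Let A ⊂ S[x] be the S-subalgebra of polynomials whose class in R lies in the image of S → R;
it is the fibre product S[x] ×_R S, the coordinate ring of the affine line over S with the degree-2
subscheme Spec R collapsed onto Spec S. Then A is a free S-module and S[x] is a finitely generated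
A-module. -/
theorem result (S : Type u) [CommRing S] (a b : S) :
    Module.Free S ((⊥ : Subalgebra S (S[X] ⧸ Ideal.span ({X ^ 2 + C a * X + C b} : Set S[X]))).comap
        (Ideal.Quotient.mkₐ S (Ideal.span ({X ^ 2 + C a * X + C b} : Set S[X])))) ∧
      Module.Finite ((⊥ : Subalgebra S (S[X] ⧸ Ideal.span ({X ^ 2 + C a * X + C b} : Set S[X]))).comap
        (Ideal.Quotient.mkₐ S (Ideal.span ({X ^ 2 + C a * X + C b} : Set S[X])))) S[X] := by
  classical
  rcases subsingleton_or_nontrivial S with hS | hS
  · haveI : Subsingleton S[X] := inferInstance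
    exact ⟨Module.Free.of_subsingleton S _, ⟨⟨∅, by simp [eq_iff_true_of_subsingleton]⟩⟩⟩
  set f : S[X] := X ^ 2 + C a * X + C b with hf
  have hfm : f.Monic := by rw [hf]; monicity!
  have hfd : f.natDegree = 2 := by rw [hf]; compute_degree!
  set A := (⊥ : Subalgebra S (S[X] ⧸ Ideal.span ({f} : Set S[X]))).comap (Ideal.Quotient.mkₐ S (Ideal.span ({f} : Set S[X])))
  have hmem : ∀ s q, C s + f * q ∈ A := fun s q => by
    refine Algebra.mem_bot.2 ⟨s, ?_⟩
    show algebraMap S (S[X] ⧸ Ideal.span ({f} : Set S[X])) s = Ideal.Quotient.mk _ (C s + f * q)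
    rw [map_add, Ideal.Quotient.eq_zero_iff_mem.2 (Ideal.mul_mem_right _ _ (Ideal.mem_span_singleton_self f)), add_zero]
    rfl
  let Φ : S × S[X] →ₗ[S] A :=
    { toFun := fun p => ⟨C p.1 + f * p.2, hmem _ _⟩
      map_add' := fun p q => Subtype.ext (by simp [mul_add]; ring)
      map_smul' := fun c p => Subtype.ext (by simp [smul_eq_C_mul]; ring) }
  have hΦ : Function.Bijective Φ := by
    constructor
    · rintro ⟨s, q⟩ ⟨t, r⟩ h
      have h' : C s + f * q = C t + f * r := congrArg Subtype.val h
      have hz : f * (q - r) = C (t - s) := by rw [map_sub]; linear_combination h'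
      have hqr : q - r = 0 := by
        by_contra hne
        have := congrArg natDegree hz
        rw [hfm.natDegree_mul' hne, natDegree_C, hfd] at this
        omega
      rw [hqr, mul_zero, eq_comm, C_eq_zero, sub_eq_zero] at hz
      rw [sub_eq_zero.1 hqr, hz]
    · rintro ⟨p, hp⟩
      obtain ⟨s, hs⟩ := Algebra.mem_bot.1 (hp : Ideal.Quotient.mkₐ S (Ideal.span ({f} : Set S[X])) p ∈ (⊥ : Subalgebra S _))
      have : p - C s ∈ Ideal.span ({f} : Set S[X]) := Ideal.Quotient.eq.1 hs.symm
      obtain ⟨q, hq⟩ := Ideal.mem_span_singleton'.1 this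
      exact ⟨(s, q), Subtype.ext (show C s + f * q = p by linear_combination hq)⟩
  refine ⟨Module.Free.of_equiv (LinearEquiv.ofBijective Φ hΦ), ⟨⟨{1, X}, ?_⟩⟩⟩
  let fA : A := ⟨C 0 + f * 1, hmem 0 1⟩
  let sA : S → A := fun s => ⟨C s + f * 0, hmem s 0⟩
  set N := Submodule.span A ((({1, X} : Finset S[X]) : Set S[X]))
  have h1 : (1 : S[X]) ∈ N := Submodule.subset_span (by simp)
  have hX : (X : S[X]) ∈ N := Submodule.subset_span (by simp)
  have hCm : ∀ s, ∀ p ∈ N, C s * p ∈ N := fun s p hp => by
    have := N.smul_mem (sA s) hp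
    simpa [Subalgebra.smul_def, sA] using this
  have hpow : ∀ i : ℕ, (X : S[X]) ^ i ∈ N := by
    intro i
    induction i using Nat.strong_induction_on with
    | _ i ih =>
      rcases i with _ | _ | i
      · simpa using h1
      · simpa using hX
      · have e : (X : S[X]) ^ (i + 2) = fA • (X : S[X]) ^ i - C a * X ^ (i + 1) - C b * X ^ i := by
          simp [fA, Subalgebra.smul_def, hf]; ring
        rw [e]
        exact sub_mem (sub_mem (N.smul_mem _ (ih i (by omega))) (hCm _ _ (ih _ (by omega)))) (hCm _ _ (ih i (by omega)))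
  refine eq_top_iff.2 fun p _ => ?_
  rw [p.as_sum_range_C_mul_X_pow]
  exact sum_mem fun i _ => hCm _ _ (hpow i)

end Groth.Agent.S19184
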