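import Groth.Statements.S19186
import Mathlib

set_option autoImplicit false
universe u
open OneMot

namespace Groth.Agent.S19186

/-- Let p and ℓ be distinct prime numbers, r and n natural numbers, and f : A → B a homomorphism of
abelian groups whose kernel and cokernel are annihilated by p^r (f a = 0 implies p^r • a = 0, and
every p^r • b lies in the image of f). Then f induces a bijection between the ℓ^n-torsion subgroups
of A and B and a bijection A/ℓ^n A → B/ℓ^n B. Spelled out without quotients: every ℓ^n-torsion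
element of B has exactly one ℓ^n-torsion preimage; an element of A whose image is an ℓ^n-multiple is
itself an ℓ^n-multiple; and every element of B is the sum of an image and an ℓ^n-multiple. -/
theorem result {A B : Type u} [AddCommGroup A] [AddCommGroup B] (f : A →+ B) (p ℓ r n : ℕ) (hp : p.Prime) (hl : ℓ.Prime) (hne : ℓ ≠ p) (hker : ∀ a : A, f a = 0 → p ^ r • a = 0) (hcoker : ∀ b : B, ∃ a : A, f a = p ^ r • b) : (∀ b : B, ℓ ^ n • b = 0 → ∃! a : A, ℓ ^ n • a = 0 ∧ f a = b) ∧ (∀ a : A, (∃ b' : B, f a = ℓ ^ n • b') → ∃ a' : A, a = ℓ ^ n • a') ∧ (∀ b : B, ∃ (a : A) (b' : B), b = f a + ℓ ^ n • b') := by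
  have hco : Nat.Coprime (p ^ r) (ℓ ^ n) :=
    Nat.Coprime.pow _ _ ((Nat.coprime_primes hp hl).2 hne.symm)
  have hbez := Nat.isCoprime_iff_coprime.2 hco
  obtain ⟨x, y, hxy⟩ := hbez
  have hA : ∀ a : A, a = x • ((p ^ r : ℕ) • a) + y • ((ℓ ^ n : ℕ) • a) := fun a => by
    rw [← natCast_zsmul, ← natCast_zsmul, smul_smul, smul_smul, ← add_smul, hxy, one_smul]
  have hB : ∀ b : B, b = x • ((p ^ r : ℕ) • b) + y • ((ℓ ^ n : ℕ) • b) := fun a => by
    rw [← natCast_zsmul, ← natCast_zsmul, smul_smul, smul_smul, ← add_smul, hxy, one_smul]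
  have hinj : ∀ a, f a = 0 → ℓ ^ n • a = 0 → a = 0 := fun a h1 h2 => by
    rw [hA a, hker a h1, h2]; simp
  refine ⟨fun b hb => ?_, fun a ⟨b', hb'⟩ => ?_, fun b => ?_⟩
  · obtain ⟨a₀, ha₀⟩ := hcoker b
    have h1 : f (x • a₀) = b := by
      conv_rhs => rw [hB b, hb, smul_zero, add_zero]
      rw [map_zsmul, ha₀]
    have h2 : f (ℓ ^ n • (x • a₀)) = 0 := by rw [map_nsmul, h1, hb]
    -- correct by killing the p-part
    have h3 := hA (x • a₀)
    refine ⟨x • ((p ^ r : ℕ) • (x • a₀)), ⟨?_, ?_⟩, ?_⟩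
    · rw [smul_comm (ℓ ^ n) x, smul_comm (ℓ ^ n) (p ^ r), hker _ h2, smul_zero]
    · rw [map_zsmul, map_nsmul, h1]
      conv_rhs => rw [hB b, hb, smul_zero, add_zero]
    · rintro a ⟨ha, hfa⟩
      refine sub_eq_zero.1 (hinj _ ?_ ?_)
      · rw [map_sub, hfa, map_zsmul, map_nsmul, h1, sub_eq_zero]
        exact (hB b).trans (by rw [hb, smul_zero, add_zero])
      · rw [smul_sub, ha, smul_comm (ℓ ^ n) x, smul_comm (ℓ ^ n) (p ^ r), hker _ h2, smul_zero,
          sub_zero]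
  · obtain ⟨a₁, ha₁⟩ := hcoker b'
    have h1 : f ((p ^ r : ℕ) • a - (ℓ ^ n : ℕ) • a₁) = 0 := by
      rw [map_sub, map_nsmul, map_nsmul, ha₁, hb', smul_comm, sub_self]
    have h2 := hker _ h1
    rw [smul_sub, sub_eq_zero, smul_smul, smul_comm (p ^ r) (ℓ ^ n)] at h2
    obtain ⟨x', y', hxy'⟩ := Nat.isCoprime_iff_coprime.2
      (Nat.Coprime.mul_left hco hco : Nat.Coprime (p ^ r * p ^ r) (ℓ ^ n))
    refine ⟨x' • ((p ^ r : ℕ) • a₁) + y' • a, ?_⟩
    rw [smul_add, smul_comm (ℓ ^ n) x', ← h2, smul_comm (ℓ ^ n) y', ← natCast_zsmul a,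
      ← natCast_zsmul a, smul_smul, smul_smul, ← add_smul, hxy', one_smul]
  · obtain ⟨a, ha⟩ := hcoker b
    refine ⟨x • a, y • b, ?_⟩
    rw [map_zsmul, ha, smul_comm (ℓ ^ n) y]
    exact hB b

end Groth.Agent.S19186
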