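import Groth.Statements.S19187
import Mathlib
-- import your own Groth.Agent.* helpers here

set_option autoImplicit false
universe u
open Cpct

open CategoryTheory.Limits

namespace Groth.Agent.S19187

open CategoryTheory AlgebraicGeometry in
/-- Let k be a field, X̄ and Ȳ schemes proper over Spec k, j : X → X̄ an open immersion with dense image
and v : Y → Ȳ an open immersion (compactifications of X and Y), f : X → Y a proper morphism and f̄ :
X̄ → Ȳ a morphism over Spec k with f̄ ∘ j = v ∘ f. Then the preimage under f̄ of the open v(Y) is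
the open j(X); equivalently, the complement of X in X̄ is the preimage of the complement of Y in Ȳ.
(The base field k is arbitrary: no perfectness assumption is needed.) -/
theorem result {k : Type u} [Field k] {X Y Xb Yb : Scheme.{u}} (a : Xb ⟶ Spec (CommRingCat.of k)) (b : Yb ⟶ Spec (CommRingCat.of k)) [IsProper a] [IsProper b] (j : X ⟶ Xb) [IsOpenImmersion j] (hj : Dense (Set.range j.base)) (v : Y ⟶ Yb) [IsOpenImmersion v] (f : X ⟶ Y) [IsProper f] (fb : Xb ⟶ Yb) (hfb : fb ≫ b = a) (hsq : j ≫ fb = f ≫ v) : fb ⁻¹ᵁ v.opensRange = j.opensRange := by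
  haveI : IsSeparated (fb ≫ b) := by rw [hfb]; infer_instance
  haveI : IsSeparated fb := IsSeparated.of_comp fb b
  let g : X ⟶ pullback fb v := pullback.lift j f hsq
  have hg1 : g ≫ pullback.fst fb v = j := pullback.lift_fst _ _ _
  haveI : IsProper (g ≫ pullback.snd fb v) := by rw [pullback.lift_snd]; infer_instance
  haveI : UniversallyClosed g := UniversallyClosed.of_comp_of_isSeparated g (pullback.snd fb v)
  haveI : IsOpenImmersion (pullback.fst fb v) := inferInstance
  have hr : Set.range g.base = pullback.fst fb v ⁻¹' Set.range j.base := by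
    ext p
    refine ⟨?_, ?_⟩
    · rintro ⟨x, rfl⟩
      exact ⟨x, by rw [← hg1]; rfl⟩
    · rintro ⟨x, hx⟩
      exact ⟨x, (pullback.fst fb v).isOpenEmbedding.injective (by rw [← hx, ← hg1]; rfl)⟩
  have hd : Dense (Set.range g.base) := hr ▸ hj.preimage (pullback.fst fb v).isOpenEmbedding.isOpenMap
  have htop : Set.range g.base = Set.univ := g.isClosedMap.isClosed_range.closure_eq ▸ hd.closure_eq
  ext x
  refine ⟨fun hx => ?_, ?_⟩
  · obtain ⟨y, hy⟩ := hx
    obtain ⟨p, hp, -⟩ := Scheme.Pullback.exists_preimage_pullback x y hy.symm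
    obtain ⟨q, rfl⟩ : p ∈ Set.range g.base := htop ▸ Set.mem_univ p
    exact ⟨q, by rw [← hp, ← hg1]; rfl⟩
  · rintro ⟨q, rfl⟩
    exact ⟨f q, (congrArg (fun m => m.base q) hsq).symm⟩

end Groth.Agent.S19187
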