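import Groth.Statements.S1919
import Groth.Agent.InsepLength.Scheme

set_option autoImplicit false
universe u
open CategoryTheory AlgebraicGeometry
open CategoryTheory.Limits
open RelCyc

namespace Groth.Agent.S1919

open Groth.Agent

/-- The cokernel argument, for a bijection which preserves the dimension function. -/
lemma exists_smul_eq_pullFun {Y X : Scheme.{u}} [CompactSpace Y] (g : Y ⟶ X)
    (hg : Function.Bijective g) (δY : Y → ℤ) (δX : X → ℤ) (hδ : ∀ y, δY y = δX (g y))
    (p : ℕ)
    (hlen : ∀ y, ∃ b : ℕ, Module.length (Y.presheaf.stalk y) (Y.presheaf.stalk y ⧸ Ideal.map (g.stalkMap y).hom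
      (IsLocalRing.maximalIdeal (X.presheaf.stalk (g y)))) = (p ^ b : ℕ))
    (r : ℤ) (β : AlgebraicCycle Y ℤ) (hβ : β ∈ Cyc.Zk Y δY r) :
    ∃ (n : ℕ) (α : AlgebraicCycle X ℤ), α ∈ Cyc.Zk X δX r ∧
      (p : ℤ) ^ n • ⇑β = Cyc.pullFun g δY δX 0 ⇑α := by
  choose b hb using hlen
  have hfin : (Function.support (⇑β : Y → ℤ)).Finite := by
    simpa using β.locallyFiniteSupport.finite_inter_support_of_isCompact (isCompact_univ (X := Y))
  let n := hfin.toFinset.sup b
  let e := Equiv.ofBijective g hg
  let a : X → ℤ := fun x => β (e.symm x) * (p : ℤ) ^ (n - b (e.symm x))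
  have ha : (Function.support a).Finite :=
    (hfin.image g).subset fun x hx => ⟨e.symm x, left_ne_zero_of_mul hx, e.apply_symm_apply x⟩
  refine ⟨n, Function.locallyFinsuppWithin.mk (U := Set.univ) a (Set.subset_univ _)
    (fun x _ => ⟨Set.univ, Filter.univ_mem, ha.subset Set.inter_subset_right⟩), fun x hx => ?_, ?_⟩
  · show β (e.symm x) * _ = 0
    rw [hβ (e.symm x) fun h => hx ?_, zero_mul]
    rw [hδ] at h
    rwa [show g (e.symm x) = x from e.apply_symm_apply x] at h
  funext y
  show (p : ℤ) ^ n * β y = Cyc.pullFun g δY δX 0 a y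
  rw [Cyc.pullFun, if_pos (by rw [hδ, add_zero]), hb y, ENat.toNat_natCast]
  simp only [a, show e.symm (g y) = y from e.symm_apply_apply y]
  by_cases h : β y = 0
  · simp [h]
  · have hle : b y ≤ n := Finset.le_sup (hfin.mem_toFinset.mpr h)
    rw [Nat.cast_pow, mul_assoc, ← pow_add, Nat.sub_add_cancel hle, mul_comm]

/-- For a scheme X of finite type over a field k of characteristic p > 0, with base change X' = X ×_k k'
to the perfect closure k', the base change map Z_r(X) → Z_r(X') (flat pullback along the projection)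
has p-power torsion cokernel: for every r-cycle β on X' some p^n β is the base change of an r-cycle
on X. Dimension functions are transcendence degrees of residue fields over the ground fields. -/
theorem result (k : Type u) [Field k] (p : ℕ) [Fact p.Prime] [CharP k p] (X : Scheme.{u}) (f : X ⟶ Spec (CommRingCat.of k)) [LocallyOfFiniteType f] [QuasiCompact f] (δ : X → ℤ) (hδ : Cyc.DeltaCompat f δ (fun _ => 0)) (δ' : ↥(pullback f (Spec.map (CommRingCat.ofHom (PerfectClosure.of k p)))) → ℤ) (hδ' : Cyc.DeltaCompat (pullback.snd f (Spec.map (CommRingCat.ofHom (PerfectClosure.of k p)))) δ' (fun _ => 0)) (r : ℤ) (β : AlgebraicCycle (pullback f (Spec.map (CommRingCat.ofHom (PerfectClosure.of k p)))) ℤ) (hβ : β ∈ Cyc.Zk _ δ' r) : ∃ (n : ℕ) (α : AlgebraicCycle X ℤ), α ∈ Cyc.Zk X δ r ∧ (p : ℤ) ^ n • ⇑β = Cyc.pullFun (pullback.fst f (Spec.map (CommRingCat.ofHom (PerfectClosure.of k p)))) δ' δ 0 ⇑α := by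
  let _ : Algebra k (PerfectClosure k p) := (PerfectClosure.of k p).toAlgebra
  have : ExpChar k p := ExpChar.prime (Fact.out : p.Prime)
  have : IsPRadical (algebraMap k (PerfectClosure k p)) p := PerfectClosure.isPRadical k p
  have : IsPurelyInseparable k (PerfectClosure k p) := IsPRadical.isPurelyInseparable k _ p
  have hu : UniversallyInjective (Spec.map (CommRingCat.ofHom (PerfectClosure.of k p))) :=
    InsepLength.universallyInjective_specMap (k := k) (P := PerfectClosure k p)
  have hlen := InsepLength.length_fiber p f (Spec.map (CommRingCat.ofHom (PerfectClosure.of k p))) rfl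
  generalize Spec.map (CommRingCat.ofHom (PerfectClosure.of k p)) = u at hu δ' hδ' β hβ hlen ⊢
  have : Surjective u :=
    ⟨fun a => ⟨IsLocalRing.closedPoint (PerfectClosure k p), @Subsingleton.elim (PrimeSpectrum k) _ _ _⟩⟩
  have hg : UniversallyInjective (pullback.fst f u) :=
    MorphismProperty.pullback_fst (P := @UniversallyInjective) f u hu
  have : CompactSpace X := QuasiCompact.compactSpace_of_compactSpace f
  have : CompactSpace ↥(pullback f u) := QuasiCompact.compactSpace_of_compactSpace (pullback.snd f u)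
  refine exists_smul_eq_pullFun _ ⟨(pullback.fst f u).injective, (pullback.fst f u).surjective⟩
    δ' δ (fun y => ?_) p hlen r β hβ
  obtain ⟨a, ha, hya⟩ := hδ' y
  obtain ⟨c, hc, hxc⟩ := hδ (pullback.fst f u y)
  have hu' := ((tfae_universallyInjective u).out 0 2).mp hu
  have hg' := ((tfae_universallyInjective (pullback.fst f u)).out 0 2).mp hg
  have h := InsepLength.td_residueFieldMap_congr (pullback.condition (f := f) (g := u)) y
  rw [InsepLength.td_residueFieldMap_comp, InsepLength.td_residueFieldMap_comp,
    InsepLength.td_eq_zero _ (hg'.2 y), InsepLength.td_eq_zero _ (hu'.2 (pullback.snd f u y)),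
    add_zero, zero_add] at h
  have hca : c = a := Nat.cast_injective (R := Cardinal) ((hc.symm.trans h).trans ha)
  rw [hya, hxc, hca]

end Groth.Agent.S1919
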