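import Groth.Statements.S19190
import Mathlib.CategoryTheory.Localization.Triangulated
import Mathlib.CategoryTheory.Triangulated.Subcategory

set_option autoImplicit false
universe w v u v' u'
open CategoryTheory CategoryTheory.Limits CategoryTheory.Pretriangulated CategoryTheory.Triangulated
open CohDer

namespace Groth.Agent.S19190

open CategoryTheory.MorphismProperty in
/-- objects killed by an element of `S` -/
def Killed {A : Type w} [CommRing A] (S : Submonoid A) {T : Type u} [Category.{v} T] [Preadditive T]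
    [Linear A T] : ObjectProperty T := fun Z => ∃ s ∈ S, s • 𝟙 Z = 0

section
variable {A : Type w} [CommRing A] {S : Submonoid A}
    {T : Type u} [Category.{v} T] [Preadditive T] [Linear A T] [HasZeroObject T] [HasShift T ℤ]
    [∀ n : ℤ, (shiftFunctor T n).Additive] [∀ n : ℤ, (shiftFunctor T n).Linear A]
    [Pretriangulated T]

theorem killed_ext (Tr : Triangle T) (hT : Tr ∈ distTriang T) {a b : A}
    (h₁ : a • Tr.mor₁ = 0) (h₂ : b • Tr.mor₂ = 0) : (a * b) • 𝟙 Tr.obj₂ = 0 := by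
  obtain ⟨c, hc⟩ := Triangle.coyoneda_exact₂ Tr hT (b • 𝟙 Tr.obj₂) (by
    rw [Linear.smul_comp, Category.id_comp, h₂])
  calc (a * b) • 𝟙 Tr.obj₂ = a • (b • 𝟙 Tr.obj₂) := mul_smul a b _
    _ = c ≫ (a • Tr.mor₁) := by rw [hc, Linear.comp_smul]
    _ = 0 := by rw [h₁, comp_zero]

instance : (Killed S : ObjectProperty T).IsClosedUnderIsomorphisms :=
  ⟨fun {X Y} e ⟨s, hs, h⟩ => ⟨s, hs, by
    calc s • 𝟙 Y = e.inv ≫ (s • 𝟙 X) ≫ e.hom := by simp
      _ = 0 := by rw [h]; simp⟩⟩

instance : (Killed S : ObjectProperty T).IsStableUnderRetracts :=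
  ⟨fun {Y X} r ⟨s, hs, h⟩ => ⟨s, hs, by
    calc s • 𝟙 Y = r.i ≫ (s • 𝟙 X) ≫ r.r := by simp
      _ = 0 := by rw [h]; simp⟩⟩

instance : (Killed S : ObjectProperty T).ContainsZero := by
  obtain ⟨Z, hZ⟩ := HasZeroObject.zero (C := T)
  exact ⟨⟨Z, hZ, 1, S.one_mem, hZ.eq_of_src _ _⟩⟩

instance : (Killed S : ObjectProperty T).IsStableUnderShift ℤ where
  isStableUnderShiftBy n := ⟨fun X ⟨s, hs, h⟩ => ⟨s, hs, by
    change s • 𝟙 ((shiftFunctor T n).obj X) = 0
    rw [← (shiftFunctor T n).map_id, ← Functor.map_smul, h, Functor.map_zero]⟩⟩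

instance : (Killed S : ObjectProperty T).IsTriangulated where
  toIsTriangulatedClosed₂ := .mk' fun Tr hT ⟨a, ha, h₁⟩ ⟨b, hb, h₃⟩ =>
    ⟨a * b, S.mul_mem ha hb, killed_ext Tr hT
      (by rw [← Category.id_comp Tr.mor₁, ← Linear.smul_comp, h₁, zero_comp])
      (by rw [← Category.comp_id Tr.mor₂, ← Linear.comp_smul, h₃, comp_zero])⟩

theorem killed_cone (X : T) (f : A) (hf : f ∈ S) (Z : T) (g : X ⟶ Z) (h : Z ⟶ X⟦(1 : ℤ)⟧)
    (hT : Triangle.mk (f • 𝟙 X) g h ∈ distTriang T) : Killed S Z := by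
  refine ⟨f * f, S.mul_mem hf hf, killed_ext _ (rot_of_distTriang _ hT) ?_ ?_⟩
  · change f • g = 0
    have h1 : (f • 𝟙 X) ≫ g = 0 := comp_distTriang_mor_zero₁₂ _ hT
    rwa [Linear.smul_comp, Category.id_comp] at h1
  · change f • h = 0
    have h2 : h ≫ (shiftFunctor T (1 : ℤ)).map (f • 𝟙 X) = 0 := comp_distTriang_mor_zero₃₁ _ hT
    rwa [Functor.map_smul, CategoryTheory.Functor.map_id, Linear.comp_smul, Category.comp_id] at h2

end


/-- Let `A` be a commutative ring, `S` a multiplicative subset of `A` and `T` an `A`-linear triangulated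
category (octahedron axiom included; the shift functors are `A`-linear). Call an object of `T`
`S`-torsion when it lies in the smallest thick subcategory `U` of `T` (a property of objects
containing zero, stable under shifts, extensions, isomorphisms and direct factors) containing every
cone of an endomorphism `f • 𝟙 X` with `f ∈ S`. Let `Q : T ⥤ E` exhibit `E` as the localization of
`T` at the morphisms whose cone lies in `U` (the Verdier quotient `T/U`), where `E` is preadditive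
and `A`-linear and `Q` is `A`-linear. Then for all objects `X`, `Y` of `T` the `A`-linear map
`Hom_T(X, Y) → Hom_E(Q X, Q Y)` given by `Q` exhibits its target as the localization of `Hom_T(X,
Y)` at `S`. Since `Q` is essentially surjective, this says that the comparison functor from `T/U` to
the category having the objects of `T` and morphism modules `Hom_T(X, Y) ⊗_A S⁻¹A` is an
equivalence. -/
theorem result
    {A : Type w} [CommRing A] (S : Submonoid A)
    {T : Type u} [Category.{v} T] [Preadditive T] [Linear A T] [HasZeroObject T] [HasShift T ℤ]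
    [∀ n : ℤ, (shiftFunctor T n).Additive] [∀ n : ℤ, (shiftFunctor T n).Linear A]
    [Pretriangulated T] [IsTriangulated T]
    (U : ObjectProperty T) [U.IsTriangulated] [U.IsClosedUnderIsomorphisms] [U.IsStableUnderRetracts]
    (hU : ∀ (X : T) (f : A), f ∈ S → ∀ (Z : T) (g : X ⟶ Z) (h : Z ⟶ X⟦(1 : ℤ)⟧),
      Triangle.mk (f • 𝟙 X) g h ∈ distTriang T → U Z)
    (hmin : ∀ (U' : ObjectProperty T) [U'.IsTriangulated] [U'.IsClosedUnderIsomorphisms]
      [U'.IsStableUnderRetracts],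
      (∀ (X : T) (f : A), f ∈ S → ∀ (Z : T) (g : X ⟶ Z) (h : Z ⟶ X⟦(1 : ℤ)⟧),
        Triangle.mk (f • 𝟙 X) g h ∈ distTriang T → U' Z) → U ≤ U')
    {E : Type u'} [Category.{v'} E] [Preadditive E] [Linear A E]
    (Q : T ⥤ E) [Q.Additive] [Q.Linear A] [Q.IsLocalization U.trW] (X Y : T) :
    IsLocalizedModule S (Q.mapLinearMap A : (X ⟶ Y) →ₗ[A] (Q.obj X ⟶ Q.obj Y)) := by
  have hK : U ≤ Killed S := hmin (Killed S) killed_cone
  have hiso : ∀ s ∈ S, ∀ W : T, IsIso (s • 𝟙 (Q.obj W)) := fun s hs W => by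
    obtain ⟨Z, g, h, hT⟩ := distinguished_cocone_triangle (s • 𝟙 W)
    have h1 := Localization.inverts Q U.trW (s • 𝟙 W) ⟨Z, g, h, hT, hU W s hs Z g h hT⟩
    rwa [Q.map_smul, Q.map_id] at h1
  refine
    { map_units := fun s => ?_
      surj := fun φ => ?_
      exists_of_eq := fun {f g} hfg => ?_ }
  · haveI := hiso s.1 s.2 X
    rw [Module.End.isUnit_iff]
    refine ⟨fun φ ψ h => ?_, fun φ => ⟨inv (s.1 • 𝟙 (Q.obj X)) ≫ φ, ?_⟩⟩
    · change s.1 • φ = s.1 • ψ at h
      have h' : (s.1 • 𝟙 (Q.obj X)) ≫ φ = (s.1 • 𝟙 (Q.obj X)) ≫ ψ := by simpa using h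
      exact (cancel_epi _).1 h'
    · change s.1 • (inv (s.1 • 𝟙 (Q.obj X)) ≫ φ) = φ
      have h' : (s.1 • 𝟙 (Q.obj X)) ≫ inv (s.1 • 𝟙 (Q.obj X)) ≫ φ = φ := IsIso.hom_inv_id_assoc _ φ
      rwa [Linear.smul_comp, Category.id_comp] at h'
  · obtain ⟨α, hα⟩ := Localization.exists_leftFraction Q U.trW φ
    obtain ⟨Z, g, h, hT, hZ⟩ := α.hs
    obtain ⟨s, hs, hs0⟩ := hK Z hZ
    obtain ⟨a, ha⟩ := Triangle.coyoneda_exact₂ _ hT (s • 𝟙 α.Y') (by
      change (s • 𝟙 α.Y') ≫ g = 0
      rw [Linear.smul_comp, Category.id_comp, ← Category.comp_id g, ← Linear.comp_smul, hs0, comp_zero])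
    refine ⟨⟨α.f ≫ a, ⟨s, hs⟩⟩, ?_⟩
    change s • φ = Q.map (α.f ≫ a)
    haveI : IsIso (Q.map α.s) := Localization.inverts Q U.trW _ α.hs
    refine (cancel_mono (Q.map α.s)).1 ?_
    rw [Linear.smul_comp, hα]
    rw [MorphismProperty.LeftFraction.map_comp_map_s, ← Q.map_smul]
    refine Eq.trans ?_ (Q.map_comp _ _)
    congr 1
    refine Eq.trans ?_ (Category.assoc _ _ _).symm
    refine Eq.trans ?_ (congrArg (fun z => α.f ≫ z) ha)
    change s • α.f = α.f ≫ (s • 𝟙 α.Y')
    rw [Linear.comp_smul, Category.comp_id]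
  · obtain ⟨Z, t, ht, h2⟩ := (MorphismProperty.map_eq_iff_postcomp Q U.trW f g).1 hfg
    rw [U.trW_iff'] at ht
    obtain ⟨W, m, h, hT, hW⟩ := ht
    obtain ⟨s, hs, hs0⟩ := hK W hW
    obtain ⟨a, ha⟩ := Triangle.coyoneda_exact₂ _ hT (f - g) (by
      change (f - g) ≫ t = 0
      rw [Preadditive.sub_comp, h2, sub_self])
    refine ⟨⟨s, hs⟩, ?_⟩
    change s • f = s • g
    rw [← sub_eq_zero, ← smul_sub, ha]
    change s • (a ≫ m) = 0
    have hm0 : s • m = 0 := by rw [← Category.id_comp m, ← Linear.smul_comp, hs0, zero_comp]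
    exact ((Linear.comp_smul _ _ _ _ _ _).symm.trans (congrArg (fun z => a ≫ z) hm0)).trans comp_zero

end Groth.Agent.S19190
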