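import Groth.Statements.S19193
import Mathlib.Algebra.BigOperators.Fin
import Mathlib.Data.Fin.Tuple.Basic
import Mathlib.Algebra.BigOperators.GroupWithZero.Action
import Mathlib.Algebra.Module.BigOperators

set_option autoImplicit false
universe u
open CategoryTheory Opposite TopologicalSpace
open CohTop

namespace Groth.Agent.S19193

section Aux
open W4c6blochformula0cyc

variable {X : Type u} [TopologicalSpace X] {ι : Type u} (F : (Opens X)ᵒᵖ ⥤ AddCommGrpCat.{u})
  (U : ι → Opens X)

lemma res_res {V W Z : Opens X} (h : W ≤ V) (h' : Z ≤ W) (x : F.obj (op V)) :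
    res F h' (res F h x) = res F (h'.trans h) x := by
  have : (homOfLE (h'.trans h)).op = (homOfLE h).op ≫ (homOfLE h').op := rfl
  simp only [res, this, F.map_comp]
  rfl

lemma res_congr {m : ℕ} (f : Cochain F U m) {s s' : Fin m → ι} (e : s = s') {W : Opens X}
    (h : W ≤ cechOpen U s) (h' : W ≤ cechOpen U s') : res F h (f s) = res F h' (f s') := by
  subst e; rfl

lemma res_E (E : ∀ (V : Opens X) (α : ι), F.obj (op (V ⊓ U α)) →+ F.obj (op V)) (m : ℕ)
    (t : Fin (m + 1) → ι)
    (h3 : ∀ (m : ℕ) (t : Fin (m + 1) → ι) (α β : ι) (g : F.obj (op (cechOpen U t ⊓ U α))),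
      res F inf_le_left (E (cechOpen U t) α g) =
        E (cechOpen U t ⊓ U β) α (res F (inf_le_inf_right (U α) inf_le_left) g))
    (α β : ι) (g : F.obj (op (cechOpen U t ⊓ U α))) {W : Opens X} (h : W ≤ cechOpen U t)
    (e : W = cechOpen U t ⊓ U β) :
    res F h (E (cechOpen U t) α g) = E W α (res F (inf_le_inf_right (U α) h) g) := by
  subst e; exact h3 m t α β g

end Aux

open W4c6blochformula0cyc in
/-- Let `F` be a presheaf of abelian groups on a topological space `X`, `U` a family of opens of `X`
indexed by a finite type, and suppose given, for every open `V` and every index `α`, an additive map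
`E V α : F(V ∩ U_α) → F(V)` such that for every nonempty tuple of indices `t`, with `V = U_{t_0} ∩ ⋯
∩ U_{t_m}`: (i) `∑_α E V α (f|_{V ∩ U_α}) = f` for all `f ∈ F(V)`, and (ii) `(E V α g)|_{V ∩ U_β} =
E (V ∩ U_β) α (g|_{V ∩ U_β ∩ U_α})` for all indices `α, β` and all `g ∈ F(V ∩ U_α)`. Then the
operator `H` on ordered Čech cochains, `(H f)_t = ∑_α E (U_t) α (f_{(α, t)})`, satisfies `H (δ f) +
δ (H f) = f` for every Čech cochain `f` on tuples of length at least `2`, i.e. in every Čech degree
`≥ 1`. (The published statement takes a flasque sheaf on an open cover and extension maps attached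
to pairs of finite intersections; this row takes any presheaf, any finite family of opens, and maps
that may depend on the index, none of which the printed argument needs. The published statement also
asserts the identity in every degree of the Čech complex without augmentation term, and allows an
infinite index set with finitely supported sums; in Čech degree `0`, where that complex has no term
below and the identity reads `H (δ f) = f`, it fails in general — for the one-member cover of a
point and the constant presheaf `ℤ` with `E` the identity, `δ f` vanishes on the pair while `f` need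
not — so it is stated here from degree `1` on, i.e. for cochains on tuples of length at least `2`
(the whole-space term on the empty tuple carried by the cochain groups used here plays no role), and
for a finite index type.) -/
theorem result {X : Type u} [TopologicalSpace X]
    {ι : Type u} [Fintype ι] (F : (Opens X)ᵒᵖ ⥤ AddCommGrpCat.{u}) (U : ι → Opens X)
    (E : ∀ (V : Opens X) (α : ι), F.obj (op (V ⊓ U α)) →+ F.obj (op V))
    (h2 : ∀ (m : ℕ) (t : Fin (m + 1) → ι) (f : F.obj (op (cechOpen U t))),
      ∑ α, E (cechOpen U t) α (res F inf_le_left f) = f)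
    (h3 : ∀ (m : ℕ) (t : Fin (m + 1) → ι) (α β : ι) (g : F.obj (op (cechOpen U t ⊓ U α))),
      res F inf_le_left (E (cechOpen U t) α g) =
        E (cechOpen U t ⊓ U β) α (res F (inf_le_inf_right (U α) inf_le_left) g))
    (n : ℕ) (f : Cochain F U (n + 2)) :
    homotopy F U E (n + 2) (delta F U (n + 2) f) + delta F U (n + 1) (homotopy F U E (n + 1) f) = f := by

  funext t
  have hV : ∀ i : Fin (n + 2), cechOpen U t = cechOpen U (t ∘ i.succAbove) ⊓ U (t i) := by
    intro i
    refine le_antisymm (le_inf (cechOpen_le_comp U t i) (iInf_le _ i)) (le_iInf fun j => ?_)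
    obtain rfl | ⟨k, rfl⟩ := Fin.eq_self_or_eq_succAbove i j
    · exact inf_le_right
    · exact inf_le_left.trans (iInf_le (fun l => U ((t ∘ i.succAbove) l)) k)
  let T : Fin (n + 2) → ι → F.obj (op (cechOpen U t)) := fun i α =>
    E (cechOpen U t) α (res F
      ((inf_le_inf_right (U α) (cechOpen_le_comp U t i)).trans
        (inf_le_cechOpen_cons U (t ∘ i.succAbove) α))
      (f (Fin.cons α (t ∘ i.succAbove))))
  have hA : ∀ i : Fin (n + 2), res F (cechOpen_le_comp U t i)
      (homotopy F U E (n + 1) f (t ∘ i.succAbove)) = ∑ α, T i α := by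
    intro i
    simp only [homotopy, AddMonoidHom.coe_mk, ZeroHom.coe_mk, map_sum]
    refine Finset.sum_congr rfl fun α _ => ?_
    rw [res_E F U E n (t ∘ i.succAbove) h3 α (t i) _ _ (hV i), res_res]
  have hB : homotopy F U E (n + 2) (delta F U (n + 2) f) t =
      f t - ∑ i : Fin (n + 2), ((-1 : ℤ) ^ (i : ℕ)) • ∑ α, T i α := by
    have h0 : ∀ α, (Fin.cons α t : Fin (n + 3) → ι) ∘ (0 : Fin (n + 3)).succAbove = t := fun α => by
      funext j; simp
    have hs : ∀ α (i : Fin (n + 2)), (Fin.cons α t : Fin (n + 3) → ι) ∘ i.succ.succAbove =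
        Fin.cons α (t ∘ i.succAbove) := fun α i => by
      funext j
      cases j using Fin.cases with
      | zero => simp
      | succ j => simp
    simp only [homotopy, delta, AddMonoidHom.coe_mk, ZeroHom.coe_mk, map_sum, map_zsmul, res_res]
    simp only [Finset.smul_sum]
    rw [Finset.sum_comm, Fin.sum_univ_succ]
    rw [sub_eq_add_neg, ← Finset.sum_neg_distrib]
    congr 1
    · refine Eq.trans (Finset.sum_congr rfl fun α _ => ?_) (h2 (n + 1) t (f t))
      rw [Fin.val_zero, pow_zero, one_zsmul, res_congr F U f (h0 α) _ inf_le_left]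
    · refine Finset.sum_congr rfl fun i _ => ?_
      rw [← Finset.sum_neg_distrib]
      refine Finset.sum_congr rfl fun α _ => ?_
      rw [Fin.val_succ, pow_succ, mul_neg_one, neg_zsmul]
      simp only [T]
      rw [res_congr F U f (hs α i)]
  change homotopy F U E (n + 2) (delta F U (n + 2) f) t + delta F U (n + 1) (homotopy F U E (n + 1) f) t = f t
  rw [hB]
  simp only [delta, AddMonoidHom.coe_mk, ZeroHom.coe_mk, hA, sub_add_cancel]

end Groth.Agent.S19193
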