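import Groth.Statements.S19195
import Groth.Agent.FibreReg.Basic
import Groth.Agent.FlatSerre.Localize

set_option autoImplicit false
universe u
open TensorProduct
open RelS1

namespace Groth.Agent.S19195

/-- Let A be a commutative ring, B a finitely presented A-algebra and M a finitely presented B-module
which is flat over A. Suppose that for every prime p of A, with residue field κ(p), the fibre module
(B ⊗_A κ(p)) ⊗_B M over the fibre ring B ⊗_A κ(p) satisfies Serre's condition (S_1) in the form:
each of its associated primes is a minimal prime of its annihilator. Let a be an element of B whose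
image a ⊗ 1 in every fibre ring B ⊗_A κ(p) lies in no minimal prime of the annihilator of the fibre
module. Then a is a non-zero-divisor on M. (Since all hypotheses are preserved by base change of A
and by passing to affine opens, this expresses that a flat finitely presented sheaf with (S_1)
fibres is pure relative to the base after every base change. The published statement is an
equivalence for sheaves on a locally finitely presented morphism, quantified over all base changes;
this row states its direct implication in affine form.) -/
theorem result (A B M : Type u) [CommRing A] [CommRing B] [Algebra A B]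
    [Algebra.FinitePresentation A B] [AddCommGroup M] [Module B M] [Module A M]
    [IsScalarTower A B M] [Module.FinitePresentation B M] [Module.Flat A M]
    (hS1 : ∀ (p : Ideal A) [p.IsPrime],
      associatedPrimes (B ⊗[A] p.ResidueField) ((B ⊗[A] p.ResidueField) ⊗[B] M) ⊆
        (Module.annihilator (B ⊗[A] p.ResidueField) ((B ⊗[A] p.ResidueField) ⊗[B] M)).minimalPrimes)
    (a : B)
    (ha : ∀ (p : Ideal A) [p.IsPrime],
      ∀ P ∈ (Module.annihilator (B ⊗[A] p.ResidueField) ((B ⊗[A] p.ResidueField) ⊗[B] M)).minimalPrimes,
        a ⊗ₜ[A] (1 : p.ResidueField) ∉ P) :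
    IsSMulRegular M a := by
  suffices h : ∀ (q : Ideal B) [q.IsMaximal], IsSMulRegular (LocalizedModule q.primeCompl M) a by
    refine injective_of_localized_maximal (LinearMap.lsmul B M a) fun q _ => ?_
    intro x y hxy
    refine h q ?_
    have hl : ∀ z : LocalizedModule q.primeCompl M,
        LocalizedModule.map q.primeCompl (LinearMap.lsmul B M a) z = a • z := fun z => by
      induction z using LocalizedModule.induction_on with
      | h m s => rw [LocalizedModule.map_mk, LocalizedModule.smul'_mk]; rfl
    simpa only [hl] using hxy
  intro q _
  by_cases haq : a ∈ q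
  · have hflat : Module.Flat A (LocalizedModule q.primeCompl M) :=
      Groth.Agent.FlatSerre.flat_localizedModule q.primeCompl M
    let p := q.comap (algebraMap A B)
    have hN : IsNoetherianRing (B ⊗[A] p.ResidueField) := by
      have : IsNoetherianRing (p.ResidueField ⊗[A] B) :=
        Algebra.FiniteType.isNoetherianRing p.ResidueField _
      exact isNoetherianRing_of_ringEquiv _ (Algebra.TensorProduct.comm A p.ResidueField B).toRingEquiv
    have h1 : IsSMulRegular ((B ⊗[A] p.ResidueField) ⊗[B] M) (a ⊗ₜ[A] (1 : p.ResidueField)) := by
      by_contra hne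
      obtain ⟨P, hP, haP⟩ : ∃ P ∈ associatedPrimes (B ⊗[A] p.ResidueField) ((B ⊗[A] p.ResidueField) ⊗[B] M),
          a ⊗ₜ[A] (1 : p.ResidueField) ∈ P := by
        have := biUnion_associatedPrimes_eq_compl_regular (B ⊗[A] p.ResidueField) ((B ⊗[A] p.ResidueField) ⊗[B] M)
        have h2 : a ⊗ₜ[A] (1 : p.ResidueField) ∈ ({r | IsSMulRegular ((B ⊗[A] p.ResidueField) ⊗[B] M) r} : Set (B ⊗[A] p.ResidueField))ᶜ := hne
        rw [← this] at h2
        simpa using h2
      exact ha p P (hS1 p hP) haP
    have h2 : IsSMulRegular (M ⊗[A] p.ResidueField) a := by
      let e : (B ⊗[A] p.ResidueField) ⊗[B] M ≃ₗ[B] M ⊗[A] p.ResidueField :=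
        (TensorProduct.comm B (B ⊗[A] p.ResidueField) M).trans
          (TensorProduct.AlgebraTensorModule.cancelBaseChange A B B M p.ResidueField)
      intro x y hxy
      apply e.symm.injective
      refine h1 ?_
      change (a ⊗ₜ[A] (1 : p.ResidueField)) • e.symm x = (a ⊗ₜ[A] (1 : p.ResidueField)) • e.symm y
      rw [show a ⊗ₜ[A] (1 : p.ResidueField) = algebraMap B (B ⊗[A] p.ResidueField) a from rfl,
        algebraMap_smul, algebraMap_smul, ← map_smul, ← map_smul]
      exact congrArg e.symm hxy
    have h3 : IsSMulRegular (Groth.Agent.FibreReg.LocFibre (A := A) M q) a := by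
      intro x y hxy
      have hl : ∀ z : Groth.Agent.FibreReg.LocFibre (A := A) M q,
          LocalizedModule.map q.primeCompl (LinearMap.lsmul B (M ⊗[A] p.ResidueField) a) z = a • z := fun z => by
        induction z using LocalizedModule.induction_on with
        | h m s => rw [LocalizedModule.map_mk, LocalizedModule.smul'_mk]; rfl
      refine LocalizedModule.map_injective q.primeCompl (LinearMap.lsmul B (M ⊗[A] p.ResidueField) a) h2 ?_
      simpa only [hl] using hxy
    exact (Groth.Agent.FibreReg.regular_and_flat M q hflat a haq h3).1
  · intro x y hxy
    have hu := IsLocalizedModule.map_units (LocalizedModule.mkLinearMap q.primeCompl M) (⟨a, haq⟩ : q.primeCompl)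
    exact ((Module.End.isUnit_iff _).mp hu).injective hxy

end Groth.Agent.S19195
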