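import Groth.Statements.S19196
import Mathlib.RingTheory.Ideal.AssociatedPrime.Basic
import Mathlib.RingTheory.Ideal.MinimalPrime.Noetherian
-- import your own Groth.Agent.* helpers here

set_option autoImplicit false
universe u
open RelS1

namespace Groth.Agent.S19196

/-- Let R be a Noetherian commutative ring and N a finitely generated R-module which fails Serre's
condition (S_1), in the sense that some associated prime of N is not a minimal prime of the
annihilator of N. Then there exist an element a of R lying in no minimal prime of the annihilator of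
N and a nonzero element b of N with a • b = 0; thus the basic open set D(a) meets the support of N
densely while restriction to it is not injective on N. -/
theorem result (R N : Type u) [CommRing R] [IsNoetherianRing R]
    [AddCommGroup N] [Module R N] [Module.Finite R N]
    (h : ¬ associatedPrimes R N ⊆ (Module.annihilator R N).minimalPrimes) :
    ∃ (a : R) (b : N), (∀ P ∈ (Module.annihilator R N).minimalPrimes, a ∉ P) ∧ b ≠ 0 ∧ a • b = 0 := by
  classical
  obtain ⟨P, hP, hPn⟩ := Set.not_subset.mp h
  obtain ⟨hPp, b, hb⟩ := isAssociatedPrime_iff.mp hP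
  have hfin := (Module.annihilator R N).finite_minimalPrimes_of_isNoetherianRing R
  have hann : Module.annihilator R N ≤ P := fun r hr => by
    rw [hb, Submodule.mem_colon_singleton, Submodule.mem_bot]
    exact Module.mem_annihilator.mp hr b
  have hnle : ¬ (P : Set R) ⊆ ⋃ Q ∈ (hfin.toFinset : Set (Ideal R)), (Q : Set R) := by
    intro hsub
    obtain ⟨Q, hQ, hPQ⟩ := (Ideal.subset_union_prime ⊥ ⊥
      (fun Q hQ _ _ => (hfin.mem_toFinset.mp hQ).1.1)).mp hsub
    have hQm := hfin.mem_toFinset.mp hQ
    exact hPn ((le_antisymm hPQ (hQm.2 ⟨hPp, hann⟩ hPQ)) ▸ hQm)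
  obtain ⟨a, haP, ha⟩ := Set.not_subset.mp hnle
  refine ⟨a, b, fun Q hQ haQ => ha (Set.mem_biUnion (hfin.mem_toFinset.mpr hQ) haQ), fun hb0 => ?_, ?_⟩
  · exact hPp.ne_top (by rw [hb, hb0]; ext r; simp [Submodule.mem_colon_singleton])
  · rw [SetLike.mem_coe, hb, Submodule.mem_colon_singleton, Submodule.mem_bot] at haP
    exact haP

end Groth.Agent.S19196
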