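import Groth.Statements.S19197
import Groth.Agent.FlatDescent.PdFibre

set_option autoImplicit false
universe u
open TensorProduct CategoryTheory
open RelS1

namespace Groth.Agent.S19197

open Groth.FlatDescent

/-- The local ring of the fibre at `Q`. -/
abbrev FR (A B : Type u) [CommRing A] [CommRing B] [Algebra A B] (Q : PrimeSpectrum B) : Type u :=
  Localization.AtPrime Q.asIdeal ⧸ (Q.asIdeal.under A).map (algebraMap A (Localization.AtPrime Q.asIdeal))

variable {A B : Type u} [CommRing A] [CommRing B] [Algebra A B]

/-- The residue field as an algebra over the local ring of the fibre. -/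
theorem exists_residue_algebra (Q : PrimeSpectrum B) :
    ∃ (_ : Algebra (FR A B Q) Q.asIdeal.ResidueField),
      IsScalarTower B (FR A B Q) Q.asIdeal.ResidueField := by
  have hle : (Q.asIdeal.under A).map (algebraMap A (Localization.AtPrime Q.asIdeal)) ≤
      RingHom.ker (algebraMap (Localization.AtPrime Q.asIdeal) Q.asIdeal.ResidueField) := by
    refine Ideal.map_le_iff_le_comap.mpr fun a ha => ?_
    rw [Ideal.mem_comap, RingHom.mem_ker, ← IsScalarTower.algebraMap_apply,
      IsScalarTower.algebraMap_apply A B Q.asIdeal.ResidueField,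
      Ideal.algebraMap_residueField_eq_zero]
    exact ha
  let π : FR A B Q →+* Q.asIdeal.ResidueField := Ideal.Quotient.lift _ _ hle
  letI := π.toAlgebra
  refine ⟨π.toAlgebra, ⟨fun b t x => ?_⟩⟩
  obtain ⟨t, rfl⟩ := Ideal.Quotient.mk_surjective t
  change π (Ideal.Quotient.mk _ (b • t)) * x = b • (π (Ideal.Quotient.mk _ t) * x)
  simp only [π, Ideal.Quotient.lift_mk]
  rw [Algebra.smul_def, Algebra.smul_def, map_mul, ← IsScalarTower.algebraMap_apply, mul_assoc]

/-- Short exact sequences with flat cokernel stay exact on the local rings of the fibres. -/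
theorem fr_ses {K F M : Type u} [AddCommGroup K] [Module B K] [AddCommGroup F] [Module B F]
    [AddCommGroup M] [Module B M] [Module A M] [IsScalarTower A B M] [Module.Flat A M]
    (i : K →ₗ[B] F) (p : F →ₗ[B] M) (hi : Function.Injective i)
    (hex : Function.Exact i p) (hp : Function.Surjective p) (Q : PrimeSpectrum B) :
    Function.Injective (i.baseChange (FR A B Q)) ∧
      Function.Exact (i.baseChange (FR A B Q)) (p.baseChange (FR A B Q)) ∧
      Function.Surjective (p.baseChange (FR A B Q)) := by
  refine ⟨?_, lTensor_exact _ hex hp, LinearMap.lTensor_surjective _ hp⟩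
  let L := Localization.AtPrime Q.asIdeal
  let N := A ⧸ Q.asIdeal.under A
  let e : FR A B Q ≃ₗ[B] L ⊗[B] (B ⊗[A] N) :=
    ((Algebra.TensorProduct.quotIdealMapEquivTensorQuot L (Q.asIdeal.under A)).toLinearEquiv.restrictScalars B) ≪≫ₗ
      (TensorProduct.AlgebraTensorModule.cancelBaseChange A B B L N).symm
  haveI : Module.Flat B L := IsLocalization.flat L Q.asIdeal.primeCompl
  have h1 : Function.Injective ((i.lTensor (B ⊗[A] N)).lTensor L) :=
    Module.Flat.lTensor_preserves_injective_linearMap _
      ((LinearMap.lTensor_inj_iff_rTensor_inj _ _).2 (rTensor_baseChange_injective i p hi hex hp N))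
  have h2 : Function.Injective (i.lTensor (L ⊗[B] (B ⊗[A] N))) := by
    rw [LinearMap.lTensor_tensor]
    exact (TensorProduct.assoc B L (B ⊗[A] N) F).symm.injective.comp
      (h1.comp (TensorProduct.assoc B L (B ⊗[A] N) K).injective)
  intro x y hxy
  apply (LinearEquiv.rTensor K e).injective
  apply h2
  have h := congrArg (e.toLinearMap.rTensor F) hxy
  change e.toLinearMap.rTensor F (i.lTensor _ x) = e.toLinearMap.rTensor F (i.lTensor _ y) at h
  rw [← LinearMap.comp_apply, ← LinearMap.comp_apply, LinearMap.rTensor_comp_lTensor,
    ← LinearMap.lTensor_comp_rTensor] at h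
  exact h

/-- Projectivity of the fibre stalk is freeness of the stalk. -/
theorem projective_iff_mem_freeLocus [Algebra.FinitePresentation A B] [Module.Flat A B]
    (M : Type u) [AddCommGroup M] [Module B M] [Module A M] [IsScalarTower A B M]
    [Module.FinitePresentation B M] [Module.Flat A M] (Q : PrimeSpectrum B) :
    Module.Projective (FR A B Q) (FR A B Q ⊗[B] M) ↔ Q ∈ Module.freeLocus B M := by
  rw [Module.mem_freeLocus_iff_tensor Q (Localization.AtPrime Q.asIdeal)]
  constructor
  · intro h
    obtain ⟨m, p, hp, hKfp, -⟩ := exists_step (A := A) (B := B) M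
    haveI := hKfp
    let BQ := Localization.AtPrime Q.asIdeal
    let i := (LinearMap.ker p).subtype
    obtain ⟨_, _⟩ := exists_residue_algebra (A := A) Q
    obtain ⟨h1, h2, h3⟩ := fr_ses (A := A) i p Subtype.val_injective
      (LinearMap.exact_subtype_ker_map p) hp Q
    obtain ⟨sec, hsec⟩ := Module.projective_lifting_property (p.baseChange (FR A B Q)) LinearMap.id h3
    obtain ⟨s, hs⟩ : ∃ s : FR A B Q ⊗[B] (Fin m → B) →ₗ[FR A B Q] FR A B Q ⊗[B] (LinearMap.ker p),
        s ∘ₗ i.baseChange (FR A B Q) = LinearMap.id :=
      (((h2.split_tfae').out 0 1 rfl rfl).mp ⟨h1, sec, hsec⟩).2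
    have hk := lTensor_residueField_injective Q.asIdeal i (FR A B Q) s hs
    refine Module.free_of_lTensor_residueField_injective (i.baseChange BQ) (p.baseChange BQ)
      (LinearMap.lTensor_surjective _ hp) (lTensor_exact _ (LinearMap.exact_subtype_ker_map p) hp) ?_
    let eK := TensorProduct.AlgebraTensorModule.cancelBaseChange B BQ BQ (IsLocalRing.ResidueField BQ) (LinearMap.ker p)
    let eF := TensorProduct.AlgebraTensorModule.cancelBaseChange B BQ BQ (IsLocalRing.ResidueField BQ) (Fin m → B)
    have comm : ∀ z, eF ((i.baseChange BQ).lTensor (IsLocalRing.ResidueField BQ) z) =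
        i.lTensor (IsLocalRing.ResidueField BQ) (eK z) := by
      intro z
      induction z using TensorProduct.induction_on with
      | zero => simp
      | add z w hz hw => simp only [map_add, hz, hw]
      | tmul c t =>
        induction t using TensorProduct.induction_on with
        | zero => simp
        | add t t' ht ht' => simp only [tmul_add, map_add, ht, ht']
        | tmul b n => simp [eK, eF]
    intro x y hxy
    apply eK.injective
    apply hk
    exact (comm x).symm.trans ((congrArg eF hxy).trans (comm y))
  · intro h
    exact Module.Projective.of_equiv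
      (TensorProduct.AlgebraTensorModule.cancelBaseChange B (Localization.AtPrime Q.asIdeal) (FR A B Q) (FR A B Q) M)

/-- The loci of bounded fibre projective dimension are open. -/
theorem isOpen_fibre_pd [Algebra.FinitePresentation A B] [Module.Flat A B] :
    ∀ (n : ℕ) (M : Type u) [AddCommGroup M] [Module B M] [Module A M] [IsScalarTower A B M]
      [Module.FinitePresentation B M] [Module.Flat A M],
      IsOpen {Q : PrimeSpectrum B |
        HasProjectiveDimensionLT (ModuleCat.of (FR A B Q) (FR A B Q ⊗[B] M)) n}
  | 0, M, _, _, _, _, _, _ => by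
    have : {Q : PrimeSpectrum B |
        HasProjectiveDimensionLT (ModuleCat.of (FR A B Q) (FR A B Q ⊗[B] M)) 0} =
        (Module.support B M)ᶜ := by
      ext Q
      rw [Set.mem_ofPred_eq, Set.mem_compl_iff, hasProjectiveDimensionLT_zero_iff_isZero,
        ModuleCat.isZero_iff_subsingleton]
      obtain ⟨_, _⟩ := exists_residue_algebra (A := A) Q
      constructor
      · intro h hQ
        haveI : Subsingleton (FR A B Q ⊗[B] M) := h
        haveI : Subsingleton (Q.asIdeal.ResidueField ⊗[B] M) :=
          (TensorProduct.AlgebraTensorModule.cancelBaseChange B (FR A B Q) (FR A B Q)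
            Q.asIdeal.ResidueField M).symm.toEquiv.subsingleton
        exact (not_nontrivial_iff_subsingleton.2 ‹_›)
          ((Module.mem_support_iff_nontrivial_residueField_tensorProduct Q).mp hQ)
      · intro h
        haveI : Subsingleton (LocalizedModule Q.asIdeal.primeCompl M) :=
          Module.notMem_support_iff.mp h
        haveI : Subsingleton (Localization.AtPrime Q.asIdeal ⊗[B] M) :=
          (LocalizedModule.equivTensorProduct Q.asIdeal.primeCompl M).symm.toEquiv.subsingleton
        exact (TensorProduct.AlgebraTensorModule.cancelBaseChange B (Localization.AtPrime Q.asIdeal)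
          (FR A B Q) (FR A B Q) M).symm.toEquiv.subsingleton
    rw [this]
    exact Module.isClosed_support.isOpen_compl
  | 1, M, _, _, _, _, _, _ => by
    simp only [Groth.Agent.ProjDim.projDim_zero_iff, projective_iff_mem_freeLocus (A := A) M]
    exact Module.isOpen_freeLocus
  | n + 2, M, _, _, _, _, _, _ => by
    obtain ⟨m, p, hp, hKfp, hKflat⟩ := exists_step (A := A) (B := B) M
    have hex : Function.Exact (LinearMap.ker p).subtype p := LinearMap.exact_subtype_ker_map p
    convert isOpen_fibre_pd (n + 1) (LinearMap.ker p) using 1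
    ext Q
    simp only [Set.mem_ofPred_eq]
    obtain ⟨h1, h2, h3⟩ := fr_ses (A := A) _ p Subtype.val_injective hex hp Q
    exact Groth.Agent.ProjDim.shift_iff _ _ h1 h2 h3 n

/-- In affine form, let A be a commutative ring, B a finitely presented A-algebra which is flat over A,
and M a finitely presented B-module which is flat over A. For a prime P of B lying over the prime p
of A, let B_P/pB_P be the local ring of the fibre at P and M_P/pM_P = (B_P/pB_P) ⊗_B M the fibre
stalk module. Then the function sending P to the projective dimension of M_P/pM_P over B_P/pB_P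
(valued in WithBot ℕ∞, the zero module having dimension ⊥) is upper semicontinuous on Spec B: for
every bound, the set of P where the fibre projective dimension is below the bound is open. -/
theorem result (A B M : Type u) [CommRing A] [CommRing B] [Algebra A B]
    [Algebra.FinitePresentation A B] [Module.Flat A B] [AddCommGroup M] [Module B M] [Module A M]
    [IsScalarTower A B M] [Module.FinitePresentation B M] [Module.Flat A M] :
    UpperSemicontinuous fun P : PrimeSpectrum B => projectiveDimension (ModuleCat.of
      (Localization.AtPrime P.asIdeal ⧸ (P.asIdeal.under A).map (algebraMap A (Localization.AtPrime P.asIdeal)))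
      ((Localization.AtPrime P.asIdeal ⧸ (P.asIdeal.under A).map (algebraMap A (Localization.AtPrime P.asIdeal))) ⊗[B] M)) := by

  intro P y hy
  have key : ∀ n : ℕ, IsOpen {Q : PrimeSpectrum B |
      HasProjectiveDimensionLT (ModuleCat.of (FR A B Q) (FR A B Q ⊗[B] M)) n} :=
    fun n => isOpen_fibre_pd n M
  have main : ∀ n : ℕ, projectiveDimension (ModuleCat.of (FR A B P) (FR A B P ⊗[B] M)) < (n : WithBot ℕ∞) →
      ∀ᶠ Q in nhds P, projectiveDimension (ModuleCat.of (FR A B Q) (FR A B Q ⊗[B] M)) < (n : WithBot ℕ∞) := by
    intro n hn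
    exact Filter.eventually_of_mem ((key n).mem_nhds (projectiveDimension_lt_iff.mp hn))
      fun Q hQ => projectiveDimension_lt_iff.mpr hQ
  obtain ⟨k, hk1, hk2⟩ : ∃ k : ℕ,
      projectiveDimension (ModuleCat.of (FR A B P) (FR A B P ⊗[B] M)) < (k : WithBot ℕ∞) ∧
        (k : WithBot ℕ∞) ≤ y := by
    induction y using WithBot.recBotCoe with
    | bot => exact absurd hy not_lt_bot
    | coe y =>
      induction y using ENat.recTopCoe with
      | coe n => exact ⟨n, hy, le_rfl⟩
      | top =>
        generalize hpd : projectiveDimension (ModuleCat.of (FR A B P) (FR A B P ⊗[B] M)) = d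
        have hy' : d < ((⊤ : ℕ∞) : WithBot ℕ∞) := hpd ▸ hy
        induction d using WithBot.recBotCoe with
        | bot => exact ⟨0, WithBot.bot_lt_coe _, WithBot.coe_le_coe.mpr le_top⟩
        | coe d =>
          obtain ⟨m, rfl⟩ := WithTop.ne_top_iff_exists.mp (WithBot.coe_lt_coe.mp hy').ne
          exact ⟨m + 1, WithBot.coe_lt_coe.mpr (ENat.coe_lt_coe.mpr (Nat.lt_succ_self m)),
            WithBot.coe_le_coe.mpr le_top⟩
  exact (main k hk1).mono fun Q hQ => hQ.trans_le hk2

end Groth.Agent.S19197
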