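import Mathlib
import Groth.Statements.S19210
-- import your own Groth.Agent.* helpers here

set_option autoImplicit false
universe u
open LocAlg

namespace Groth.Agent.S19210

/-- For natural numbers j ≤ r, the sums Σ_{i=0}^{n−1} (n − i)^{r−j} i^j equal n^{r+1}·(r − j)!·j!/(r +
1)! up to O(n^r): there is a real constant C with |Σ_{i<n} (n − i)^{r−j} i^j − ((r − j)!·j!/(r +
1)!)·n^{r+1}| ≤ C·n^r for all n ≥ 1. -/
theorem result (r j : ℕ) (hj : j ≤ r) :
    ∃ C : ℝ, ∀ n : ℕ, 1 ≤ n →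
      |(∑ i ∈ Finset.range n, ((n : ℝ) - (i : ℝ)) ^ (r - j) * (i : ℝ) ^ j) -
          ((r - j).factorial : ℝ) * (j.factorial : ℝ) / ((r + 1).factorial : ℝ) * (n : ℝ) ^ (r + 1)| ≤
        C * (n : ℝ) ^ r := by
  suffices key : ∀ a j : ℕ, ∃ C : ℝ, ∀ n : ℕ, 1 ≤ n →
      |(∑ i ∈ Finset.range n, ((n : ℝ) - (i : ℝ)) ^ a * (i : ℝ) ^ j) -
          (a.factorial : ℝ) * (j.factorial : ℝ) / ((a + j + 1).factorial : ℝ) * (n : ℝ) ^ (a + j + 1)| ≤
        C * (n : ℝ) ^ (a + j) by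
    have := key (r - j) j
    rwa [Nat.sub_add_cancel hj] at this
  clear hj j r
  intro a
  induction a with
  | zero =>
    intro j
    refine ⟨1, fun n hn => ?_⟩
    have h1 : ∀ i : ℕ, ((j : ℝ) + 1) * (i : ℝ) ^ j ≤ ((i : ℝ) + 1) ^ (j + 1) - (i : ℝ) ^ (j + 1) ∧
        ((i : ℝ) + 1) ^ (j + 1) - (i : ℝ) ^ (j + 1) ≤ ((j : ℝ) + 1) * ((i : ℝ) + 1) ^ j := by
      intro i
      have hi : (0 : ℝ) ≤ i := Nat.cast_nonneg i
      have e := geom_sum₂_mul ((i : ℝ) + 1) (i : ℝ) (j + 1)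
      rw [add_sub_cancel_left, mul_one, Nat.add_sub_cancel] at e
      rw [← e]
      constructor
      · have := Finset.card_nsmul_le_sum (Finset.range (j + 1)) (fun x => ((i : ℝ) + 1) ^ x * (i : ℝ) ^ (j - x)) ((i : ℝ) ^ j) (fun x hx => by
          have hxj : x ≤ j := Nat.lt_succ_iff.1 (Finset.mem_range.1 hx)
          calc (i : ℝ) ^ j = (i : ℝ) ^ x * (i : ℝ) ^ (j - x) := by rw [← pow_add, Nat.add_sub_cancel' hxj]
            _ ≤ _ := mul_le_mul_of_nonneg_right (pow_le_pow_left₀ hi (by linarith) x) (pow_nonneg hi _))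
        simpa using this
      · have := Finset.sum_le_card_nsmul (Finset.range (j + 1)) (fun x => ((i : ℝ) + 1) ^ x * (i : ℝ) ^ (j - x)) (((i : ℝ) + 1) ^ j) (fun x hx => by
          have hxj : x ≤ j := Nat.lt_succ_iff.1 (Finset.mem_range.1 hx)
          calc _ ≤ ((i : ℝ) + 1) ^ x * ((i : ℝ) + 1) ^ (j - x) := mul_le_mul_of_nonneg_left (pow_le_pow_left₀ hi (by linarith) _) (by positivity)
            _ = ((i : ℝ) + 1) ^ j := by rw [← pow_add, Nat.add_sub_cancel' hxj])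
        simpa using this
    have hT : ∑ i ∈ Finset.range n, (((i : ℝ) + 1) ^ (j + 1) - (i : ℝ) ^ (j + 1)) = (n : ℝ) ^ (j + 1) := by
      have := Finset.sum_range_sub (fun i : ℕ => (i : ℝ) ^ (j + 1)) n
      simpa using this
    have hup : ∑ i ∈ Finset.range n, ((i : ℝ) + 1) ^ j ≤ (∑ i ∈ Finset.range n, (i : ℝ) ^ j) + (n : ℝ) ^ j := by
      have e1 := Finset.sum_range_succ (fun i : ℕ => (i : ℝ) ^ j) n
      rw [Finset.sum_range_succ'] at e1
      push_cast at e1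
      have : (0 : ℝ) ≤ (0 : ℝ) ^ j := pow_nonneg le_rfl _
      linarith
    have hS1 : ((j : ℝ) + 1) * (∑ i ∈ Finset.range n, (i : ℝ) ^ j) ≤ (n : ℝ) ^ (j + 1) := by
      rw [← hT, Finset.mul_sum]
      exact Finset.sum_le_sum fun i _ => (h1 i).1
    have hS2 : (n : ℝ) ^ (j + 1) ≤ ((j : ℝ) + 1) * ((∑ i ∈ Finset.range n, (i : ℝ) ^ j) + (n : ℝ) ^ j) := by
      rw [← hT]
      refine le_trans (Finset.sum_le_sum fun i _ => (h1 i).2) ?_
      rw [← Finset.mul_sum]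
      exact mul_le_mul_of_nonneg_left hup (by positivity)
    have hc : ((Nat.factorial 0 : ℕ) : ℝ) * (j.factorial : ℝ) / ((j + 1).factorial : ℝ) = 1 / ((j : ℝ) + 1) := by
      rw [Nat.factorial_zero, Nat.factorial_succ]
      push_cast
      field_simp
    simp only [pow_zero, one_mul, Nat.zero_add]
    rw [hc, abs_le]
    have hn0 : (0 : ℝ) ≤ (n : ℝ) ^ j := by positivity
    have hj0 : (0 : ℝ) < (j : ℝ) + 1 := by positivity
    constructor
    · have : (1 / ((j : ℝ) + 1)) * (n : ℝ) ^ (j + 1) ≤ (∑ i ∈ Finset.range n, (i : ℝ) ^ j) + (n : ℝ) ^ j := by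
        rw [div_mul_eq_mul_div, one_mul, div_le_iff₀' hj0]; exact hS2
      linarith
    · have : (∑ i ∈ Finset.range n, (i : ℝ) ^ j) ≤ (1 / ((j : ℝ) + 1)) * (n : ℝ) ^ (j + 1) := by
        rw [div_mul_eq_mul_div, one_mul, le_div_iff₀' hj0]; exact hS1
      linarith
  | succ a ih =>
    intro j
    obtain ⟨C₁, h1⟩ := ih j
    obtain ⟨C₂, h2⟩ := ih (j + 1)
    refine ⟨C₁ + C₂, fun n hn => ?_⟩
    have e : (∑ i ∈ Finset.range n, ((n : ℝ) - (i : ℝ)) ^ (a + 1) * (i : ℝ) ^ j) =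
        (n : ℝ) * (∑ i ∈ Finset.range n, ((n : ℝ) - (i : ℝ)) ^ a * (i : ℝ) ^ j) - ∑ i ∈ Finset.range n, ((n : ℝ) - (i : ℝ)) ^ a * (i : ℝ) ^ (j + 1) := by
      rw [Finset.mul_sum, ← Finset.sum_sub_distrib]
      exact Finset.sum_congr rfl fun i _ => by ring
    have ec : ((a + 1).factorial : ℝ) * (j.factorial : ℝ) / ((a + 1 + j + 1).factorial : ℝ) =
        (a.factorial : ℝ) * (j.factorial : ℝ) / ((a + j + 1).factorial : ℝ) - (a.factorial : ℝ) * ((j + 1).factorial : ℝ) / ((a + (j + 1) + 1).factorial : ℝ) := by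
      rw [show a + 1 + j + 1 = (a + j + 1) + 1 by omega, show a + (j + 1) + 1 = (a + j + 1) + 1 by omega,
        Nat.factorial_succ (a + j + 1), Nat.factorial_succ a, Nat.factorial_succ j]
      have : ((a + j + 1).factorial : ℝ) ≠ 0 := Nat.cast_ne_zero.2 (Nat.factorial_ne_zero _)
      push_cast
      field_simp
      ring
    have g1 := abs_le.1 (h1 n hn)
    have g2 := abs_le.1 (h2 n hn)
    have hn0 : (0 : ℝ) ≤ n := Nat.cast_nonneg n
    rw [e, ec, abs_le]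
    rw [show a + 1 + j + 1 = a + j + 1 + 1 by omega, show a + 1 + j = a + j + 1 by omega]
    simp only [show a + (j + 1) + 1 = a + j + 1 + 1 by omega, show a + (j + 1) = a + j + 1 by omega] at g2 ⊢
    have k1 := mul_le_mul_of_nonneg_left g1.1 hn0
    have k2 := mul_le_mul_of_nonneg_left g1.2 hn0
    rw [pow_succ (n : ℝ) (a + j + 1)] at g2 ⊢
    rw [pow_succ (n : ℝ) (a + j)] at k1 k2 g2 ⊢
    constructor <;> nlinarith [g2.1, g2.2, k1, k2]

end Groth.Agent.S19210
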