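import Groth.Statements.S19212
import Groth.Agent.DiagRes.Basic

set_option autoImplicit false
universe u v
open TensorProduct
open DiagIdeal

namespace Groth.Agent.S19212

/-- Let k be an algebraically closed field of characteristic zero and A a smooth k-algebra which is a
domain. Let the symmetric group on three letters permute the factors of A ⊗ A ⊗ A (it is generated
by the swap of the first two factors and the swap of the last two), let r : A ⊗ (A ⊗ A) → A ⊗ A be
the k-linear map a ⊗ b ⊗ c ↦ ab ⊗ c, and let D : A ⊗ A → Ω_{A/k} be the k-linear map a ⊗ b ↦ 2a·db −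
b·da. Then an element y of A ⊗ A satisfies D y = 0 if and only if y = r x for some x fixed by both
swaps, and D is surjective. (This is exactness at the last two places of the four-term right
resolution of the invariants of the ideal of the big diagonal on the symmetric cube of X = Spec A,
namely invariant functions on X³, then functions on X × X through restriction to a diagonal, then
one-forms on X; exactness at the first two places is immediate. The published statement is the sheaf
version on the symmetric cube of a smooth complex variety of any dimension; an algebraically closed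
field of characteristic zero is used here.) -/
theorem result (k : Type u) [Field k] [IsAlgClosed k] [CharZero k]
    (A : Type v) [CommRing A] [Algebra k A] [Algebra.Smooth k A] [IsDomain A]
    (r : A ⊗[k] (A ⊗[k] A) →ₗ[k] A ⊗[k] A)
    (hr : ∀ a b c : A, r (a ⊗ₜ[k] (b ⊗ₜ[k] c)) = (a * b) ⊗ₜ[k] c)
    (D : A ⊗[k] A →ₗ[k] Ω[A⁄k])
    (hD : ∀ a b : A, D (a ⊗ₜ[k] b) = (2 : A) • (a • KaehlerDifferential.D k A b) - b • KaehlerDifferential.D k A a) :
    (∀ y : A ⊗[k] A, D y = 0 ↔ ∃ x : A ⊗[k] (A ⊗[k] A),
        TensorProduct.leftComm k A A A x = x ∧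
        LinearMap.lTensor A (TensorProduct.comm k A A).toLinearMap x = x ∧ r x = y) ∧
    Function.Surjective D := by
  set s₁ := (TensorProduct.leftComm k A A A).toLinearMap with hs₁
  set s₂ := LinearMap.lTensor A (TensorProduct.comm k A A).toLinearMap with hs₂
  have e₁ : ∀ a b c : A, s₁ (a ⊗ₜ[k] (b ⊗ₜ[k] c)) = b ⊗ₜ[k] (a ⊗ₜ[k] c) := fun a b c => rfl
  have e₂ : ∀ a b c : A, s₂ (a ⊗ₜ[k] (b ⊗ₜ[k] c)) = a ⊗ₜ[k] (c ⊗ₜ[k] b) := fun a b c => rfl
  set S := LinearMap.id + s₁ + s₂ + s₂ ∘ₗ s₁ + s₁ ∘ₗ s₂ + s₁ ∘ₗ s₂ ∘ₗ s₁ with hS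
  have hrS : ∀ a b c : A, r (S (a ⊗ₜ[k] (b ⊗ₜ[k] c))) = (2 : k) • DiagRes.cyc k A a b c := by
    intro a b c
    simp only [hS, LinearMap.add_apply, LinearMap.comp_apply, LinearMap.id_apply, e₁, e₂, map_add,
      hr, DiagRes.cyc, two_smul, mul_comm b a, mul_comm c a, mul_comm c b]
    abel
  have hDS : ∀ y ∈ DiagRes.cycSpan k A, D y = 0 := by
    intro y hy
    induction hy using Submodule.span_induction with
    | mem y hy =>
      obtain ⟨⟨a, b, c⟩, rfl⟩ := hy
      simp only [DiagRes.cyc, map_add, hD, Derivation.leibniz, smul_add, smul_smul]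
      match_scalars <;> ring
    | zero => exact map_zero D
    | add x y _ _ hx hy => rw [map_add, hx, hy, add_zero]
    | smul c x _ hx => rw [map_smul, hx, smul_zero]
  refine ⟨fun y => ⟨fun hy => ?_, ?_⟩, fun ω => ?_⟩
  · have h := DiagRes.ker_le k A D hD (LinearMap.mem_ker.2 hy)
    clear hy
    induction h using Submodule.span_induction with
    | mem y hy =>
      obtain ⟨⟨a, b, c⟩, rfl⟩ := hy
      refine ⟨(2 : k)⁻¹ • S (a ⊗ₜ[k] (b ⊗ₜ[k] c)), ?_, ?_, ?_⟩
      · show s₁ _ = _
        rw [map_smul]
        simp only [hS, LinearMap.add_apply, LinearMap.comp_apply, LinearMap.id_apply, e₁, e₂,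
          map_add]
        congr 1
        abel
      · show s₂ _ = _
        rw [map_smul]
        simp only [hS, LinearMap.add_apply, LinearMap.comp_apply, LinearMap.id_apply, e₁, e₂,
          map_add]
        congr 1
        abel
      · rw [map_smul, hrS, smul_smul, inv_mul_cancel₀ (two_ne_zero' k), one_smul]
    | zero => exact ⟨0, by simp, by simp, by simp⟩
    | add x y _ _ hx hy =>
      obtain ⟨x', a1, a2, a3⟩ := hx
      obtain ⟨y', b1, b2, b3⟩ := hy
      exact ⟨x' + y', by rw [map_add, a1, b1], by rw [map_add, a2, b2], by rw [map_add, a3, b3]⟩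
    | smul c x _ hx =>
      obtain ⟨x', a1, a2, a3⟩ := hx
      exact ⟨c • x', by rw [map_smul, a1], by rw [map_smul, a2], by rw [map_smul, a3]⟩
  · rintro ⟨x, h1, h2, rfl⟩
    change s₁ x = x at h1
    have h6 : S x = (6 : k) • x := by
      simp only [hS, LinearMap.add_apply, LinearMap.comp_apply, LinearMap.id_apply, h1, h2]
      module
    have hzero : D ∘ₗ r ∘ₗ S = 0 := by
      refine TensorProduct.ext' fun a t => ?_
      induction t using TensorProduct.induction_on with
      | zero => simp
      | tmul b c =>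
        show D (r (S _)) = 0
        rw [hrS, map_smul, hDS _ (Submodule.subset_span ⟨(a, b, c), rfl⟩), smul_zero]
      | add p q hp hq => rw [TensorProduct.tmul_add, map_add, hp, hq, map_add]
    have := LinearMap.congr_fun hzero x
    rw [LinearMap.comp_apply, LinearMap.comp_apply, h6, map_smul, map_smul, LinearMap.zero_apply,
      smul_eq_zero] at this
    exact this.resolve_left (by norm_num)
  · suffices ω ∈ LinearMap.range D from this
    refine (Submodule.span_le.2 ?_) (DiagRes.mem_span_smul_D k A ω)
    rintro _ ⟨⟨a, b⟩, rfl⟩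
    refine ⟨(3 : k)⁻¹ • ((2 : k) • (a ⊗ₜ[k] b) + b ⊗ₜ[k] a), ?_⟩
    have e : D ((2 : k) • (a ⊗ₜ[k] b) + b ⊗ₜ[k] a) = (3 : k) • (a • KaehlerDifferential.D k A b) := by
      rw [map_add, map_smul, hD, hD, two_smul A, two_smul A, two_smul k,
        show (3 : k) = 1 + 1 + 1 by norm_num, add_smul, add_smul, one_smul]
      abel
    rw [map_smul, e, smul_smul, inv_mul_cancel₀ (show (3 : k) ≠ 0 by norm_num), one_smul]

end Groth.Agent.S19212
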