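import Groth.Statements.S19213
import Groth.Agent.DiagRes.Basic

set_option autoImplicit false
universe u v
open TensorProduct
open DiagIdeal

namespace Groth.Agent.S19213

/-- Let k be an algebraically closed field of characteristic zero and A a smooth k-algebra which is a
domain. Let r₁₂, r₂₃ : A ⊗ (A ⊗ A) → A ⊗ A be the k-linear maps a ⊗ u ⊗ v ↦ au ⊗ v and a ⊗ u ⊗ v ↦
uv ⊗ a (restriction to the diagonal of factors 1, 2, resp. 2, 3, the repeated coordinate written
first), let m : A ⊗ A → A be multiplication, and let ψ : (A ⊗ A) × (A ⊗ A) → Ω_{A/k} be the k-linear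
map with ψ(a ⊗ u, b ⊗ v) = 2a·du − v·db. Then for p, q in A ⊗ A with m p = m q one has ψ(p, q) = 0
if and only if (p, q) = (r₁₂ x, r₂₃ x) for some x fixed by the swap of the last two tensor factors;
and every element of Ω_{A/k} is ψ(p, q) for some pair with m p = m q. (This is exactness at the last
two places of the right resolution, on the symmetric cube of X = Spec A, of the invariants of the
ideal of the big diagonal under the transposition of the last two factors; exactness at the first
two places is immediate. The published statement is the sheaf version for a smooth complex variety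
of any dimension; an algebraically closed field of characteristic zero is used here.) -/
theorem result (k : Type u) [Field k] [IsAlgClosed k] [CharZero k]
    (A : Type v) [CommRing A] [Algebra k A] [Algebra.Smooth k A] [IsDomain A]
    (r₁₂ r₂₃ : A ⊗[k] (A ⊗[k] A) →ₗ[k] A ⊗[k] A)
    (h₁₂ : ∀ a u v : A, r₁₂ (a ⊗ₜ[k] (u ⊗ₜ[k] v)) = (a * u) ⊗ₜ[k] v)
    (h₂₃ : ∀ a u v : A, r₂₃ (a ⊗ₜ[k] (u ⊗ₜ[k] v)) = (u * v) ⊗ₜ[k] a)
    (ψ : (A ⊗[k] A) × (A ⊗[k] A) →ₗ[k] Ω[A⁄k])
    (hψ : ∀ a u b v : A, ψ (a ⊗ₜ[k] u, b ⊗ₜ[k] v) =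
      (2 : A) • (a • KaehlerDifferential.D k A u) - v • KaehlerDifferential.D k A b) :
    (∀ p q : A ⊗[k] A, LinearMap.mul' k A p = LinearMap.mul' k A q →
      (ψ (p, q) = 0 ↔ ∃ x : A ⊗[k] (A ⊗[k] A),
        LinearMap.lTensor A (TensorProduct.comm k A A).toLinearMap x = x ∧ r₁₂ x = p ∧ r₂₃ x = q)) ∧
    (∀ ω : Ω[A⁄k], ∃ p q : A ⊗[k] A, LinearMap.mul' k A p = LinearMap.mul' k A q ∧ ψ (p, q) = ω) := by
  set σ := LinearMap.lTensor A (TensorProduct.comm k A A).toLinearMap with hσ
  have eσ : ∀ a b c : A, σ (a ⊗ₜ[k] (b ⊗ₜ[k] c)) = a ⊗ₜ[k] (c ⊗ₜ[k] b) := fun a b c => rfl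
  have hσσ : ∀ z, σ (σ z) = z := by
    intro z
    rw [hσ, ← LinearMap.comp_apply, ← LinearMap.lTensor_comp,
      show (TensorProduct.comm k A A).toLinearMap ∘ₗ (TensorProduct.comm k A A).toLinearMap
        = LinearMap.id from TensorProduct.ext' fun a b => rfl]
    simp
  -- image of invariants is killed by ψ
  have hfix : ∀ x, σ x = x → ψ (r₁₂ x, r₂₃ x) = 0 := by
    intro x hx
    have hzero : ψ ∘ₗ (r₁₂.prod r₂₃) ∘ₗ (LinearMap.id + σ) = 0 := by
      refine TensorProduct.ext' fun a t => ?_
      induction t using TensorProduct.induction_on with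
      | zero => simp [Prod.mk_zero_zero]
      | tmul u v =>
        show ψ (r₁₂ (a ⊗ₜ[k] (u ⊗ₜ[k] v) + σ (a ⊗ₜ[k] (u ⊗ₜ[k] v))),
          r₂₃ (a ⊗ₜ[k] (u ⊗ₜ[k] v) + σ (a ⊗ₜ[k] (u ⊗ₜ[k] v)))) = 0
        rw [eσ, map_add, map_add, h₁₂, h₁₂, h₂₃, h₂₃, ← Prod.mk_add_mk, map_add, hψ, hψ,
          Derivation.leibniz, Derivation.leibniz]
        match_scalars <;> ring
      | add p q hp hq => rw [TensorProduct.tmul_add, map_add, hp, hq, map_add]
    have := LinearMap.congr_fun hzero x
    simp only [LinearMap.comp_apply, LinearMap.add_apply, LinearMap.id_apply, hx,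
      LinearMap.zero_apply, ← two_smul k x, map_smul, smul_eq_zero] at this
    exact this.resolve_left two_ne_zero
  refine ⟨fun p q hm => ⟨fun hpq => ?_, ?_⟩, fun ω => ?_⟩
  · -- remove the second component
    have hq : ∀ q : A ⊗[k] A, ∃ x, σ x = x ∧ r₂₃ x = q ∧
        LinearMap.mul' k A (r₁₂ x) = LinearMap.mul' k A q := by
      intro q
      induction q using TensorProduct.induction_on with
      | zero => exact ⟨0, by simp, by simp, by simp⟩
      | tmul b v =>
        refine ⟨(2 : k)⁻¹ • (v ⊗ₜ[k] (b ⊗ₜ[k] (1 : A)) + v ⊗ₜ[k] ((1 : A) ⊗ₜ[k] b)), ?_, ?_, ?_⟩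
        · rw [map_smul, map_add, eσ, eσ, add_comm]
        · rw [map_smul, map_add, h₂₃, h₂₃, mul_one, one_mul, ← two_smul k, smul_smul,
            inv_mul_cancel₀ (two_ne_zero' k), one_smul]
        · rw [map_smul, map_add, h₁₂, h₁₂, map_smul, map_add, LinearMap.mul'_apply,
            LinearMap.mul'_apply, LinearMap.mul'_apply, mul_one, mul_one, mul_comm v b,
            ← two_smul k, smul_smul, inv_mul_cancel₀ (two_ne_zero' k), one_smul]
      | add a b ha hb =>
        obtain ⟨x, x1, x2, x3⟩ := ha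
        obtain ⟨y, y1, y2, y3⟩ := hb
        exact ⟨x + y, by rw [map_add, x1, y1], by rw [map_add, x2, y2],
          by rw [map_add, map_add, map_add, x3, y3]⟩
    obtain ⟨x, hx1, hx2, hx3⟩ := hq q
    have hp' : LinearMap.mul' k A (p - r₁₂ x) = 0 := by rw [map_sub, hx3, hm, sub_self]
    have hψ0 : ψ (p - r₁₂ x, 0) = 0 := by
      have := hfix x hx1
      rw [hx2] at this
      rw [show (p - r₁₂ x, (0 : A ⊗[k] A)) = (p, q) - (r₁₂ x, q) by simp, map_sub, hpq, this,
        sub_zero]
    have hI : ∀ z : A ⊗[k] A, z ∈ KaehlerDifferential.ideal k A ↔ LinearMap.mul' k A z = 0 := by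
      intro z
      show Algebra.TensorProduct.lmul' k z = 0 ↔ _
      rw [show Algebra.TensorProduct.lmul' k z = LinearMap.mul' k A z from
        LinearMap.congr_fun (f := (Algebra.TensorProduct.lmul' k).toLinearMap)
          (TensorProduct.ext' fun a b => by simp) z]
    -- θ on the ideal
    let θ : A ⊗[k] A →ₗ[k] Ω[A⁄k] :=
      TensorProduct.lift (LinearMap.mk₂ k (fun a b : A => a • KaehlerDifferential.D k A b)
        (fun a a' b => add_smul a a' _) (fun c a b => smul_assoc c a _)
        (fun a b b' => by rw [map_add, smul_add])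
        (fun c a b => by rw [Derivation.map_smul, smul_comm]))
    have hθ : ∀ a b, θ (a ⊗ₜ[k] b) = a • KaehlerDifferential.D k A b := fun a b => rfl
    have hψθ : ∀ z, ψ (z, 0) = (2 : A) • θ z := by
      intro z
      induction z using TensorProduct.induction_on with
      | zero => rw [show ((0 : A ⊗[k] A), (0 : A ⊗[k] A)) = 0 from rfl, map_zero, map_zero, smul_zero]
      | tmul a u =>
        rw [hθ, show (0 : A ⊗[k] A) = (0 : A) ⊗ₜ[k] (0 : A) from (TensorProduct.zero_tmul A (0 : A)).symm,
          hψ, map_zero, smul_zero, sub_zero]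
      | add a b ha hb =>
        rw [map_add, smul_add, ← ha, ← hb, ← map_add, Prod.mk_add_mk, add_zero]
    have hmem := (hI _).2 hp'
    have hθc : θ (p - r₁₂ x) = (KaehlerDifferential.ideal k A).toCotangent ⟨_, hmem⟩ := by
      have key : ∀ z : A ⊗[k] A, ∃ h, θ z = (KaehlerDifferential.ideal k A).toCotangent
          ⟨z - (LinearMap.mul' k A z) ⊗ₜ[k] (1 : A), h⟩ := by
        intro z
        induction z using TensorProduct.induction_on with
        | zero =>
          refine ⟨by simp, ?_⟩
          rw [map_zero]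
          refine ((KaehlerDifferential.ideal k A).toCotangent_eq_zero _).2 ?_ |>.symm
          simp
        | tmul a b =>
          refine ⟨by rw [hI]; simp, ?_⟩
          rw [hθ]
          refine ((KaehlerDifferential.ideal k A).toCotangent.map_smul_of_tower a
            ⟨_, KaehlerDifferential.one_smul_sub_smul_one_mem_ideal k b⟩).symm.trans
            (congrArg _ (Subtype.ext ?_))
          simp [smul_sub, TensorProduct.smul_tmul']
        | add a b ha hb =>
          obtain ⟨_, ea⟩ := ha
          obtain ⟨_, eb⟩ := hb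
          refine ⟨by rw [hI]; simp, ?_⟩
          refine (map_add θ a b).trans ((congrArg₂ (· + ·) ea eb).trans
            ((map_add (KaehlerDifferential.ideal k A).toCotangent _ _).symm.trans
              (congrArg _ (Subtype.ext ?_))))
          simp [TensorProduct.add_tmul]
          abel
      obtain ⟨_, e⟩ := key (p - r₁₂ x)
      rw [e]
      congr 1
      ext
      simp [hp']
    have hθ0 : θ (p - r₁₂ x) = 0 := by
      have := hψ0
      rw [hψθ, show (2 : A) = algebraMap k A 2 from (map_ofNat (algebraMap k A) 2).symm,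
        algebraMap_smul, smul_eq_zero] at this
      exact this.resolve_left two_ne_zero
    rw [hθc] at hθ0
    have hsq := ((KaehlerDifferential.ideal k A).toCotangent_eq_zero _).1 hθ0
    simp only at hsq
    -- the square of the ideal comes from invariants
    have hS : ∀ z ∈ KaehlerDifferential.ideal k A ^ 2, ∃ y, σ y = y ∧ r₁₂ y = z ∧ r₂₃ y = 0 := by
      intro z hz
      rw [pow_two] at hz
      refine Submodule.mul_induction_on hz (fun x hx y hy => ?_) (fun x y hx hy => ?_)
      ·
        rw [← Submodule.restrictScalars_mem A,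
          ← KaehlerDifferential.submodule_span_range_eq_ideal] at hx hy
        suffices H : ∀ c : A, ∃ w, σ w = w ∧ r₁₂ w = c • (x * y) ∧ r₂₃ w = 0 by
          simpa using H 1
        induction hx using Submodule.span_induction with
        | mem x hx =>
          obtain ⟨u, rfl⟩ := hx
          induction hy using Submodule.span_induction with
          | mem y hy =>
            obtain ⟨v, rfl⟩ := hy
            intro c
            refine ⟨c ⊗ₜ[k] ((u * v) ⊗ₜ[k] (1 : A)) + c ⊗ₜ[k] ((1 : A) ⊗ₜ[k] (u * v))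
              - c ⊗ₜ[k] (u ⊗ₜ[k] v) - c ⊗ₜ[k] (v ⊗ₜ[k] u), ?_, ?_, ?_⟩
            · simp only [map_sub, map_add, eσ]; abel
            · simp only [map_sub, map_add, h₁₂, mul_sub, sub_mul,
                Algebra.TensorProduct.tmul_mul_tmul, one_mul, mul_one, smul_sub,
                TensorProduct.smul_tmul', smul_eq_mul]
              abel
            · simp only [map_sub, map_add, h₂₃, one_mul, mul_one, mul_comm v u]; abel
          | zero => intro c; exact ⟨0, by simp, by simp, by simp⟩
          | add y y' _ _ ha hb =>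
            intro c
            obtain ⟨w, w1, w2, w3⟩ := ha c
            obtain ⟨w', u1, u2, u3⟩ := hb c
            exact ⟨w + w', by rw [map_add, w1, u1], by rw [map_add, w2, u2, mul_add, smul_add],
              by rw [map_add, w3, u3, add_zero]⟩
          | smul d y _ ha =>
            intro c
            obtain ⟨w, w1, w2, w3⟩ := ha (c * d)
            exact ⟨w, w1, by rw [w2, mul_smul_comm, smul_smul], w3⟩
        | zero => intro c; exact ⟨0, by simp, by simp, by simp⟩
        | add x x' _ _ ha hb =>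
          intro c
          obtain ⟨w, w1, w2, w3⟩ := ha c
          obtain ⟨w', u1, u2, u3⟩ := hb c
          exact ⟨w + w', by rw [map_add, w1, u1], by rw [map_add, w2, u2, add_mul, smul_add],
            by rw [map_add, w3, u3, add_zero]⟩
        | smul d x _ ha =>
          intro c
          obtain ⟨w, w1, w2, w3⟩ := ha (c * d)
          exact ⟨w, w1, by rw [w2, smul_mul_assoc, smul_smul], w3⟩
      ·
        obtain ⟨w, w1, w2, w3⟩ := hx
        obtain ⟨w', u1, u2, u3⟩ := hy
        exact ⟨w + w', by rw [map_add, w1, u1], by rw [map_add, w2, u2],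
          by rw [map_add, w3, u3, add_zero]⟩
    obtain ⟨y, hy1, hy2, hy3⟩ := hS _ hsq
    exact ⟨x + y, by rw [map_add, hx1, hy1], by rw [map_add, hy2, add_sub_cancel],
      by rw [map_add, hx2, hy3, add_zero]⟩
  · rintro ⟨x, hx, rfl, rfl⟩
    exact hfix x hx
  · have h := DiagRes.mem_span_smul_D k A ω
    induction h using Submodule.span_induction with
    | mem ω hω =>
      obtain ⟨⟨a, b⟩, rfl⟩ := hω
      refine ⟨(2 : k)⁻¹ • (a ⊗ₜ[k] b - (a * b) ⊗ₜ[k] (1 : A)), (0 : A) ⊗ₜ[k] (0 : A), by simp, ?_⟩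
      rw [show ((2 : k)⁻¹ • (a ⊗ₜ[k] b - (a * b) ⊗ₜ[k] (1 : A)), (0 : A) ⊗ₜ[k] (0 : A))
          = (2 : k)⁻¹ • ((a ⊗ₜ[k] b, (0 : A) ⊗ₜ[k] (0 : A)) - ((a * b) ⊗ₜ[k] (1 : A), (0 : A) ⊗ₜ[k] (0 : A))) by simp,
        map_smul, map_sub, hψ, hψ]
      simp only [Derivation.map_one_eq_zero, smul_zero, map_zero, sub_zero]
      rw [two_smul A, ← two_smul k, smul_smul, inv_mul_cancel₀ (two_ne_zero' k), one_smul]
    | zero => exact ⟨0, 0, rfl, map_zero ψ⟩
    | add a b _ _ ha hb =>
      obtain ⟨p, q, h1, e1⟩ := ha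
      obtain ⟨p', q', h2, e2⟩ := hb
      exact ⟨p + p', q + q', by rw [map_add, map_add, h1, h2],
        by rw [← Prod.mk_add_mk, map_add, e1, e2]⟩
    | smul c a _ ha =>
      obtain ⟨p, q, h1, e1⟩ := ha
      exact ⟨c • p, c • q, by rw [map_smul, map_smul, h1], by rw [← Prod.smul_mk, map_smul, e1]⟩

end Groth.Agent.S19213
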