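import Mathlib
import Groth.Statements.S19216
-- import your own Groth.Agent.* helpers here

set_option autoImplicit false
universe u
open SymRep

namespace Groth.Agent.S19216

/-- Let k be a field of characteristic zero and r, s ≥ 1. Realise the standard representation of the
symmetric group on a finite set T as the hyperplane of functions T → k with sum zero, the group
acting by precomposition with the inverse. Then the standard representation of the symmetric group
of Fin r ⊕ Fin s, restricted to the subgroup S_r × S_s, is isomorphic to the direct sum of the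
standard representations of S_r and of S_s and of a one-dimensional trivial representation: there is
a k-linear map E from functions on Fin r ⊕ Fin s to triples (function on Fin r, function on Fin s,
scalar), compatible with the actions of S_r × S_s (trivial on the scalar), which maps the sum-zero
hyperplane bijectively onto the product of the two sum-zero hyperplanes and k. (The published
statement is over the complex numbers; a field of characteristic zero is used here. The published
statement also gives the analogous decomposition for any number of blocks, which follows by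
induction; only the two-block case is stated here.) -/
theorem result (k : Type u) [Field k] [CharZero k]
    (r s : ℕ) (hr : 1 ≤ r) (hs : 1 ≤ s) :
    ∃ E : (Fin r ⊕ Fin s → k) →ₗ[k] (Fin r → k) × (Fin s → k) × k,
      (∀ (σ : Equiv.Perm (Fin r)) (τ : Equiv.Perm (Fin s)) (f : Fin r ⊕ Fin s → k),
        E (f ∘ ⇑(Equiv.sumCongr σ τ).symm) = ((E f).1 ∘ ⇑σ.symm, (E f).2.1 ∘ ⇑τ.symm, (E f).2.2)) ∧
      Set.BijOn E {f | ∑ i, f i = 0}
        ({g : Fin r → k | ∑ i, g i = 0} ×ˢ ({h : Fin s → k | ∑ i, h i = 0} ×ˢ Set.univ)) := by
  classical
  have hr0 : (r : k) ≠ 0 := by exact_mod_cast (by omega : r ≠ 0)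
  have hs0 : (s : k) ≠ 0 := by exact_mod_cast (by omega : s ≠ 0)
  let E : (Fin r ⊕ Fin s → k) →ₗ[k] (Fin r → k) × (Fin s → k) × k :=
    { toFun := fun f => (fun i => f (Sum.inl i) - (∑ l, f (Sum.inl l)) / r, fun j => f (Sum.inr j) - (∑ l, f (Sum.inr l)) / s, ∑ l, f (Sum.inl l))
      map_add' := fun f g => by
        refine Prod.ext (funext fun i => ?_) (Prod.ext (funext fun j => ?_) ?_) <;>
          simp [Finset.sum_add_distrib, add_div] <;> ring
      map_smul' := fun c f => by
        refine Prod.ext (funext fun i => ?_) (Prod.ext (funext fun j => ?_) ?_) <;>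
          simp [← Finset.mul_sum, mul_sub, mul_div_assoc] }
  refine ⟨E, fun σ τ f => ?_, ⟨fun f hf => ⟨?_, ?_, trivial⟩, fun f hf g hg he => ?_, fun x hx => ?_⟩⟩
  · refine Prod.ext (funext fun i => ?_) (Prod.ext (funext fun j => ?_) ?_)
    · simp [E, Equiv.sum_comp σ.symm (fun l => f (Sum.inl l))]
    · simp [E, Equiv.sum_comp τ.symm (fun l => f (Sum.inr l))]
    · simp [E, Equiv.sum_comp σ.symm (fun l => f (Sum.inl l))]
  · simp [E, Finset.sum_sub_distrib]; field_simp; ring
  · simp [E, Finset.sum_sub_distrib]; field_simp; ring
  · simp only [Set.mem_ofPred_eq, Fintype.sum_sum_type] at hf hg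
    simp only [E, LinearMap.coe_mk, AddHom.coe_mk, Prod.mk.injEq] at he
    obtain ⟨h1, h2, h3⟩ := he
    funext x
    rcases x with i | j
    · have := congrFun h1 i
      rw [h3] at this; linear_combination this
    · have := congrFun h2 j
      have h4 : ∑ l, f (Sum.inr l) = ∑ l, g (Sum.inr l) := by linear_combination hf - hg - h3
      rw [h4] at this; linear_combination this
  · obtain ⟨g, h, c⟩ := x
    obtain ⟨hgs, hhs, -⟩ := hx
    simp only [Set.mem_ofPred_eq] at hgs hhs
    refine ⟨Sum.elim (fun i => g i + c / r) (fun j => h j - c / s), ?_, ?_⟩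
    · simp [Fintype.sum_sum_type, Finset.sum_add_distrib, Finset.sum_sub_distrib, hgs, hhs]
      field_simp; ring
    · have e1 : ∑ l, (g l + c / r) = c := by
        simp [Finset.sum_add_distrib, hgs]; field_simp
      have e2 : ∑ l, (h l - c / s) = -c := by
        simp [Finset.sum_sub_distrib, hhs]; field_simp
      refine Prod.ext (funext fun i => ?_) (Prod.ext (funext fun j => ?_) ?_) <;>
        simp only [E, LinearMap.coe_mk, AddHom.coe_mk, Sum.elim_inl, Sum.elim_inr, e1, e2] <;> ring

end Groth.Agent.S19216
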