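import Groth.Prelude.Def_EtBase
import Mathlib.AlgebraicGeometry.Morphisms.Finite
import Mathlib.RingTheory.Henselian
import Mathlib.FieldTheory.IsSepClosed
import Groth.Agent.EtSite.PushFinite
import Groth.Agent.EtSite.Henselian
-- import your own Groth.Agent.* helpers here

set_option autoImplicit false
universe u
open CategoryTheory CategoryTheory.Limits AlgebraicGeometry Opposite

namespace Groth.Agent.S19222

/-- Let R be a strictly henselian local ring (henselian, with separably closed residue field), let X be
a scheme finite over Spec R and let F be an abelian étale sheaf on X. Then H^j(X_et, F) = 0 for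
every j ≥ 1. (The source states this vanishing for the schemes X ×_R Y ×_R ⋯ ×_R Y with Y a further
finite R-scheme; these are again finite over R, so the present form is the whole content.) -/
theorem result (R : Type u) [CommRing R] [HenselianLocalRing R]
    [IsSepClosed (IsLocalRing.ResidueField R)] (X : Scheme.{u}) (f : X ⟶ Spec (CommRingCat.of R)) [IsFinite f]
    (F : EtCoh.Ab X) (j : ℕ) (hj : 1 ≤ j) : Subsingleton (EtCoh.H X F j) := by
  refine EtSite.H_subsingleton_of_gsec_epi X (fun A B a _ z => ?_) F j hj
  have := EtSite.push_preservesEpimorphisms_of_isFinite f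
  let Φ := Scheme.pointSmallEtale (EtSite.closedGeomPt R)
  have hT : IsTerminal ((EtCoh.bc f).obj (EtCoh.top (Spec (CommRingCat.of R)))) :=
    IsTerminal.isTerminalObj (EtCoh.bc f) _ (EtSite.topTerminal _)
  let e : (EtCoh.bc f).obj (EtCoh.top (Spec (CommRingCat.of R))) ≅ EtCoh.top X :=
    hT.uniqueUpToIso (EtSite.topTerminal X)
  have ha : Epi ((EtCoh.push f).map a) := inferInstance
  obtain ⟨p, hp⟩ := (EtSite.epi_iff_stalks ((EtCoh.push f).map a)).1 ha _ (EtSite.closedGeomPt R)
    (Φ.toPresheafFiber _ (EtSite.topPt R) ((EtCoh.push f).obj B).obj (B.obj.map e.hom.op z))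
  obtain ⟨w, rfl⟩ := (EtSite.toPresheafFiber_topPt_bijective R ((EtCoh.push f).obj A)).2 p
  have hw : ((EtCoh.push f).map a).hom.app _ w = B.obj.map e.hom.op z :=
    (EtSite.toPresheafFiber_topPt_bijective R ((EtCoh.push f).obj B)).1
      ((Φ.toPresheafFiber_naturality_apply ((EtCoh.push f).map a).hom _ (EtSite.topPt R) w).symm.trans hp)
  refine ⟨A.obj.map e.inv.op w, (NatTrans.naturality_apply a.hom e.inv.op w).trans ?_⟩
  refine (congrArg (B.obj.map e.inv.op) hw).trans ?_
  rw [← Functor.map_comp_apply, ← op_comp, Iso.inv_hom_id, op_id, Functor.map_id_apply]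

end Groth.Agent.S19222
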