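import Groth.Statements.S19223
import Groth.Agent.S7725
import Mathlib.RepresentationTheory.Homological.GroupCohomology.LongExactSequence
import Mathlib.RingTheory.Henselian

set_option autoImplicit false
set_option linter.style.haveILetI false
set_option backward.isDefEq.respectTransparency false
set_option backward.isDefEq.respectTransparency.types false
attribute [local instance] Units.mulDistribMulActionRight
open GalCoh

namespace Groth.Agent.S19223

open CategoryTheory CategoryTheory.Limits in
theorem exists_kernel_preimage {k Γ : Type} [CommRing k] [Group Γ] {A B : Rep.{0} k Γ} (π : A ⟶ B) (a : A)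
    (ha : π.hom a = 0) : ∃ e : (kernel π : Rep.{0} k Γ), (kernel.ι π).hom e = a := by
  have h := (ShortComplex.exact_of_f_is_kernel
    (ShortComplex.mk (kernel.ι π) π (kernel.condition π)) (kernelIsKernel π)).map
      (forget₂ (Rep.{0} k Γ) (ModuleCat k))
  exact (ShortComplex.moduleCat_exact_iff _).mp h a ha

open Polynomial in
lemma exists_root (R : Type) [CommRing R] [HenselianLocalRing R] (m : ℕ) (hm : IsUnit (m : R)) (u : Rˣ)
    (hu : (u : R) - 1 ∈ IsLocalRing.maximalIdeal R) :
    ∃ v : Rˣ, v ^ m = u ∧ (v : R) - 1 ∈ IsLocalRing.maximalIdeal R := by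
  have hm0 : m ≠ 0 := by rintro rfl; simp at hm
  obtain ⟨a, ha, ha1⟩ := HenselianLocalRing.is_henselian (R := R) (X ^ m - C (u : R)) (monic_X_pow_sub_C _ hm0) 1
    (by simpa using (Submodule.neg_mem _ hu)) (by simpa [derivative_sub, derivative_X_pow] using hm)
  have ha' : IsUnit a := by
    by_contra h
    have := Ideal.sub_mem _ (show a ∈ IsLocalRing.maximalIdeal R from h) ha1
    rw [sub_sub_cancel] at this
    exact (IsLocalRing.maximalIdeal.isMaximal R).ne_top ((Ideal.eq_top_iff_one _).2 this)
  refine ⟨ha'.unit, Units.ext ?_, ha1⟩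
  simpa [IsRoot, sub_eq_zero] using ha

lemma eq_one_of_pow (R : Type) [CommRing R] [IsLocalRing R] (m : ℕ) (hm : IsUnit (m : R)) (v : Rˣ)
    (hv : v ^ m = 1) (hv1 : (v : R) - 1 ∈ IsLocalRing.maximalIdeal R) : v = 1 := by
  have hres : IsLocalRing.residue R (v : R) = 1 := by
    rw [← sub_eq_zero, ← map_one (IsLocalRing.residue R), ← map_sub]
    exact Ideal.Quotient.eq_zero_iff_mem.2 hv1
  have hu : IsUnit (∑ i ∈ Finset.range m, (v : R) ^ i) := by
    rw [← isUnit_map_iff (IsLocalRing.residue R), map_sum]
    simpa [hres] using hm.map (IsLocalRing.residue R)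
  refine Units.ext (sub_eq_zero.1 (hu.mul_right_eq_zero.1 ?_))
  rw [Units.val_one, geom_sum_mul, ← Units.val_pow_eq_pow_val, hv, Units.val_one, sub_self]

/-- For a strictly henselian local ring R whose residue field k has characteristic p ≥ 0, and a finite
group G of order prime to p acting on R by ring automorphisms (hence on the unit groups R^× and
k^×), consider the homomorphism H^n(G, R^×) → H^n(G, k^×) induced by the reduction map. It is
bijective for every n ≥ 2; it is also bijective for n = 1 provided that p = 0 or the only p-power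
root of unity in R is 1. (The reduction map on cohomology is pinned by its values on units; groups,
rings and modules are taken in the lowest universe, as integral coefficients in the group-cohomology
library require.) -/
theorem result (R : Type) [CommRing R]
    [HenselianLocalRing R] [IsSepClosed (IsLocalRing.ResidueField R)] (p : ℕ) [CharP (IsLocalRing.ResidueField R) p]
    (G : Type) [Group G] [Finite G] [MulSemiringAction G R] (hp : ¬ p ∣ Nat.card G)
    (φ : Rep.ofMulDistribMulAction G Rˣ ⟶ Rep.ofMulDistribMulAction G (IsLocalRing.ResidueField R)ˣ)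
    (hφ : ∀ x : Rˣ, Additive.toMul (φ.hom (Additive.ofMul x)) = Units.map (IsLocalRing.residue R).toMonoidHom x)
    (n : ℕ) (hn : 1 ≤ n) (h1 : n = 1 → p ≠ 0 → ∀ (ζ : Rˣ) (m : ℕ), ζ ^ p ^ m = 1 → ζ = 1) :
    Function.Bijective ((groupCohomology.functor ℤ G n).map φ).hom := by
  classical
  have hnk : (Nat.card G : IsLocalRing.ResidueField R) ≠ 0 := by
    rw [Ne, CharP.cast_eq_zero_iff (IsLocalRing.ResidueField R) p]; exact hp
  have hnR : IsUnit (Nat.card G : R) := by
    rw [← isUnit_map_iff (IsLocalRing.residue R), map_natCast]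
    exact isUnit_iff_ne_zero.2 hnk
  have hsurj : Function.Surjective φ.hom := by
    intro y
    obtain ⟨x, hx⟩ := IsLocalRing.residue_surjective ((Additive.toMul y : (IsLocalRing.ResidueField R)ˣ) : IsLocalRing.ResidueField R)
    have hxu : IsUnit x := (isUnit_map_iff (IsLocalRing.residue R) x).1 (hx ▸ Units.isUnit _)
    refine ⟨Additive.ofMul hxu.unit, Additive.toMul.injective (Units.ext ?_)⟩
    rw [hφ]
    exact hx
  let X : CategoryTheory.ShortComplex (Rep ℤ G) :=
    CategoryTheory.ShortComplex.mk (CategoryTheory.Limits.kernel.ι φ) φ (CategoryTheory.Limits.kernel.condition φ)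
  haveI : CategoryTheory.Epi φ := (Rep.epi_iff_surjective φ).2 hsurj
  have hX : X.ShortExact := { exact := CategoryTheory.ShortComplex.exact_kernel φ }
  have hinj : Function.Injective X.f.hom := (Rep.mono_iff_injective X.f).1 hX.mono_f
  have hex : ∀ y : X.X₂, X.g.hom y = 0 → ∃ b : X.X₁, X.f.hom b = y :=
    fun y hy => exists_kernel_preimage φ y hy
  have hzero : ∀ a : X.X₁, φ.hom (X.f.hom a) = 0 := fun a =>
    congrArg (fun ψ : X.X₁ ⟶ X.X₃ => ψ.hom a) X.zero
  let u : X.X₁ →+ Additive Rˣ :=
    { toFun := fun a => X.f.hom a, map_zero' := map_zero X.f.hom, map_add' := fun a b => map_add X.f.hom a b }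
  have hmem : ∀ y : Additive Rˣ, φ.hom y = 0 ↔ ((Additive.toMul y : Rˣ) : R) - 1 ∈ IsLocalRing.maximalIdeal R := by
    intro y
    obtain ⟨x, rfl⟩ := Additive.ofMul.surjective y
    have h' : Additive.toMul (φ.hom (Additive.ofMul x)) = (1 : (IsLocalRing.ResidueField R)ˣ) ↔
        (x : R) - 1 ∈ IsLocalRing.maximalIdeal R := by
      rw [hφ, Units.ext_iff, Units.coe_map, Units.val_one, ← sub_eq_zero]
      show IsLocalRing.residue R (x : R) - 1 = 0 ↔ _
      rw [← map_one (IsLocalRing.residue R), ← map_sub]
      exact Ideal.Quotient.eq_zero_iff_mem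
    exact Iff.trans ⟨fun h => congrArg Additive.toMul h, fun h => Additive.toMul.injective h⟩ h'
  have hdiv : Function.Bijective fun a : X.X₁ => Nat.card G • a := by
    constructor
    · intro a b hab
      have hu : u (a - b) = 0 := Additive.toMul.injective <| by
        refine eq_one_of_pow R _ hnR _ ?_ ((hmem _).1 (hzero _))
        rw [← toMul_nsmul, ← map_nsmul, smul_sub, sub_eq_zero.2 hab, map_zero, toMul_zero]
      rw [← sub_eq_zero]
      exact hinj (hu.trans (map_zero X.f.hom).symm)
    · intro a
      obtain ⟨v, hv, hv1⟩ := exists_root R _ hnR _ ((hmem (u a)).1 (hzero a))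
      obtain ⟨b, hb⟩ := hex _ ((hmem (Additive.ofMul v)).2 hv1)
      refine ⟨b, hinj ?_⟩
      show u (Nat.card G • b) = u a
      rw [map_nsmul, show u b = Additive.ofMul v from hb, ← ofMul_pow, hv]
      rfl
  have hz : ∀ m, 0 < m → CategoryTheory.Limits.IsZero (groupCohomology X.X₁ m) := fun m hm =>
    @ModuleCat.isZero_of_subsingleton _ _ _ (Groth.Agent.S7725.result ℤ G X.X₁ hdiv m hm)
  have hmono : CategoryTheory.Mono ((groupCohomology.functor ℤ G n).map φ) :=
    (groupCohomology.mapShortComplex₂_exact hX n).mono_g ((hz n hn).eq_of_src _ _)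
  have hepi : CategoryTheory.Epi ((groupCohomology.functor ℤ G n).map φ) :=
    (groupCohomology.mapShortComplex₃_exact hX (rfl : n + 1 = n + 1)).epi_f ((hz (n + 1) (by omega)).eq_of_tgt _ _)
  exact ⟨(ModuleCat.mono_iff_injective _).1 hmono, (ModuleCat.epi_iff_surjective _).1 hepi⟩

end Groth.Agent.S19223
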