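import Groth.Statements.S19224
import Mathlib.RepresentationTheory.Homological.GroupCohomology.LowDegree
import Mathlib.FieldTheory.IsSepClosed
import Mathlib.RingTheory.RootsOfUnity.AlgebraicallyClosed
import Mathlib.RingTheory.RootsOfUnity.EnoughRootsOfUnity

set_option autoImplicit false
open GalCoh

namespace Groth.Agent.S19224

set_option maxHeartbeats 800000

/-- Let Q be a finite group such that H^3(Q, ℤ) = 0 for the trivial action, and let k be a separably
closed field of characteristic p ≥ 0 with p not dividing the order of Q. Then H^2(Q, k^×) = 0, where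
Q acts trivially on the units of k. (Groups and fields are taken in the lowest universe, as integral
coefficients in the group-cohomology library require.) -/
theorem result (Q : Type) [Group Q] [Finite Q]
    (hQ : Subsingleton (groupCohomology (Rep.trivial ℤ Q ℤ) 3)) (k : Type) [Field k] [IsSepClosed k]
    (p : ℕ) [CharP k p] (hp : ¬ p ∣ Nat.card Q) :
    Subsingleton (groupCohomology (Rep.trivial ℤ Q (Additive kˣ)) 2) := by
  classical
  have := Fintype.ofFinite Q
  let n := Fintype.card Q
  have hn0 : 0 < n := Fintype.card_pos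
  have hnk : (n : k) ≠ 0 := by
    rw [Ne, CharP.cast_eq_zero_iff k p, show n = Nat.card Q from Fintype.card_eq_nat_card]
    exact hp
  have : NeZero (n : k) := ⟨hnk⟩
  have : NeZero n := ⟨hn0.ne'⟩
  have hroot : ∀ u : kˣ, ∃ v : kˣ, v ^ n = u := fun u => by
    obtain ⟨z, hz⟩ := IsSepClosed.exists_pow_nat_eq (u : k) n
    have hz0 : z ≠ 0 := fun h => u.ne_zero (by rw [← hz, h, zero_pow hn0.ne'])
    exact ⟨Units.mk0 z hz0, Units.ext (by simpa using hz)⟩
  obtain ⟨ζ₀, hζ₀⟩ := HasEnoughRootsOfUnity.exists_primitiveRoot k n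
  obtain ⟨ζ, hζ⟩ : ∃ ζ : kˣ, IsPrimitiveRoot ζ n :=
    ⟨(hζ₀.isUnit hn0.ne').unit, IsPrimitiveRoot.coe_units_iff.1 (by simpa using hζ₀)⟩
  refine subsingleton_of_forall_eq 0 fun x => ?_
  induction x using groupCohomology.H2_induction_on with | h f => ?_
  rw [groupCohomology.H2π_eq_zero_iff]
  let F : Q → Q → kˣ := fun a b => Additive.toMul (f (a, b))
  have hF : ∀ x y z, F (x * y) z * F x y = F y z * F x (y * z) := fun x y z => by
    have := (groupCohomology.mem_cocycles₂_iff _).1 f.2 x y z
    exact congrArg Additive.toMul this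
  let a : Q → kˣ := fun x => ∏ z, F x z
  have ha : ∀ x y, a (x * y) * F x y ^ n = a y * a x := fun x y => by
    have h := Finset.prod_congr (s₁ := Finset.univ) rfl fun z (_ : z ∈ Finset.univ) => hF x y z
    rw [Finset.prod_mul_distrib, Finset.prod_mul_distrib, Finset.prod_const, Finset.card_univ,
      Fintype.prod_equiv (Equiv.mulLeft y) (fun z => F x (y * z)) (F x) fun z => rfl] at h
    exact h
  choose b hb using fun x => hroot (a x)
  let F' : Q → Q → kˣ := fun x y => F x y * b (x * y) / (b x * b y)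
  have hF'n : ∀ x y, F' x y ^ n = 1 := fun x y => by
    simp only [F', div_pow, mul_pow, hb, div_eq_one]
    rw [mul_comm, ha, mul_comm]
  have hF' : ∀ x y z, F' (x * y) z * F' x y = F' y z * F' x (y * z) := fun x y z => by
    have h := hF x y z
    simp only [F', mul_assoc x y z, div_mul_div_comm]
    rw [div_eq_div_iff_mul_eq_mul]
    calc F (x * y) z * b (x * (y * z)) * (F x y * b (x * y)) * (b y * b z * (b x * b (y * z)))
        = (F (x * y) z * F x y) * (b (x * (y * z)) * b (x * y) * (b y * b z * (b x * b (y * z)))) := by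
          ac_rfl
      _ = _ := by rw [h]; ac_rfl
  have hlog : ∀ x y, ∃ m : ℤ, ζ ^ m = F' x y := fun x y => by
    obtain ⟨i, -, hi⟩ := (IsPrimitiveRoot.coe_units_iff.2 hζ).eq_pow_of_pow_eq_one
      (ξ := (F' x y : k)) (by rw [← Units.val_pow_eq_pow_val, hF'n, Units.val_one])
    exact ⟨i, Units.ext (by simpa using hi)⟩
  choose g hg using hlog
  have hd2 : ∀ (c : (Fin 2 → Q) → ℤ) (v : Fin 3 → Q),
      (inhomogeneousCochains.d (Rep.trivial ℤ Q ℤ) 2) c v =
        c ![v 1, v 2] - c ![v 0 * v 1, v 2] + c ![v 0, v 1 * v 2] - c ![v 0, v 1] := by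
    intro c v
    have e1 : (fun i : Fin 2 => v i.succ) = ![v 1, v 2] := by ext i; fin_cases i <;> rfl
    have e2 : Fin.contractNth (0 : Fin 3) (· * ·) v = ![v 0 * v 1, v 2] := by
      ext i; fin_cases i <;> rfl
    have e3 : Fin.contractNth (1 : Fin 3) (· * ·) v = ![v 0, v 1 * v 2] := by
      ext i; fin_cases i <;> rfl
    have e4 : Fin.contractNth (2 : Fin 3) (· * ·) v = ![v 0, v 1] := by
      ext i; fin_cases i <;> rfl
    simp [inhomogeneousCochains.d_hom_apply, Fin.sum_univ_three, e1, e2, e3, e4]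
    ring
  let G : (Fin 2 → Q) → ℤ := fun v => g (v 0) (v 1)
  have hdiv : ∀ v, (n : ℤ) ∣ (inhomogeneousCochains.d (Rep.trivial ℤ Q ℤ) 2) G v := fun v => by
    rw [hd2, ← hζ.zpow_eq_one_iff_dvd]
    simp only [G, Matrix.cons_val_zero, Matrix.cons_val_one, zpow_sub, zpow_add, hg]
    rw [mul_inv_eq_one, mul_right_comm, ← hF', mul_inv_cancel_comm]
  choose h hh using hdiv
  have hdh : (inhomogeneousCochains.d (Rep.trivial ℤ Q ℤ) 3) h = 0 := by
    have h0 : (inhomogeneousCochains.d (Rep.trivial ℤ Q ℤ) 3)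
        ((inhomogeneousCochains.d (Rep.trivial ℤ Q ℤ) 2) G) = 0 :=
      congrArg (fun φ => φ G) (groupCohomology.inhomogeneousCochains.d_comp_d 2 (Rep.trivial ℤ Q ℤ))
    have h1 : (inhomogeneousCochains.d (Rep.trivial ℤ Q ℤ) 2) G = (n : ℤ) • h :=
      funext fun v => hh v
    rw [h1, map_smul] at h0
    funext v
    have h2 := congrFun h0 v
    exact (mul_eq_zero.1 h2).resolve_left (Int.natCast_ne_zero.2 hn0.ne')
  obtain ⟨e, he⟩ : ∃ e, (inhomogeneousCochains.d (Rep.trivial ℤ Q ℤ) 2) e = h := by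
    have hex : (groupCohomology.inhomogeneousCochains (Rep.trivial ℤ Q ℤ)).ExactAt 3 :=
      (HomologicalComplex.exactAt_iff_isZero_homology _ _).2
        (@ModuleCat.isZero_of_subsingleton _ _ (groupCohomology (Rep.trivial ℤ Q ℤ) 3) hQ)
    rw [HomologicalComplex.exactAt_iff' _ 2 3 4 (by simp) (by simp),
      CategoryTheory.ShortComplex.moduleCat_exact_iff] at hex
    obtain ⟨e, he⟩ := hex h (by
      change (groupCohomology.inhomogeneousCochains (Rep.trivial ℤ Q ℤ)).d 3 (3 + 1) h = 0
      rw [groupCohomology.inhomogeneousCochains.d_def]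
      exact hdh)
    change (groupCohomology.inhomogeneousCochains (Rep.trivial ℤ Q ℤ)).d 2 (2 + 1) e = h at he
    rw [groupCohomology.inhomogeneousCochains.d_def] at he
    exact ⟨e, he⟩
  let c : Q → Q → ℤ := fun x y => g x y - n * e ![x, y]
  have hc : ∀ x y z, c (x * y) z + c x y = c y z + c x (y * z) := fun x y z => by
    have h1 := hh ![x, y, z]
    rw [← he, hd2, hd2] at h1
    simp only [G, Matrix.cons_val_zero, Matrix.cons_val_one, Matrix.cons_val] at h1
    simp only [c]
    linear_combination -h1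
  let A : Q → ℤ := fun x => ∑ z, c x z
  have hA : ∀ x y, (n : ℤ) * c x y = A y + A x - A (x * y) := fun x y => by
    have h := Finset.sum_congr (s₁ := Finset.univ) rfl fun z (_ : z ∈ Finset.univ) => hc x y z
    rw [Finset.sum_add_distrib, Finset.sum_add_distrib, Finset.sum_const, Finset.card_univ,
      Fintype.sum_equiv (Equiv.mulLeft y) (fun z => c x (y * z)) (c x) fun z => rfl, nsmul_eq_mul] at h
    simp only [A]
    linear_combination h
  obtain ⟨η, hη⟩ := hroot ζ
  let B : Q → kˣ := fun x => b x * η ^ A x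
  refine ⟨fun x => Additive.ofMul (B x), funext fun ⟨x, y⟩ => ?_⟩
  change Additive.ofMul (B y) - Additive.ofMul (B (x * y)) + Additive.ofMul (B x) =
    Additive.ofMul (F x y)
  rw [← ofMul_div, ← ofMul_mul]
  congr 1
  have h1 : F' x y = η ^ ((n : ℤ) * c x y) := by
    rw [zpow_mul, zpow_natCast, hη, ← hg]
    simp only [c, zpow_sub, zpow_mul, zpow_natCast, hζ.pow_eq_one, one_zpow, inv_one, mul_one]
  rw [hA, zpow_sub, zpow_add, div_eq_iff_eq_mul] at h1
  simp only [B]
  rw [eq_mul_inv_of_mul_eq h1]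
  simp only [div_eq_mul_inv, mul_inv_rev, mul_comm, mul_left_comm, mul_assoc]

end Groth.Agent.S19224
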