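import Groth.Statements.S19237
import Groth.Agent.SigmaLang.Local
import Mathlib.RingTheory.WittVector.Complete
import Mathlib.RingTheory.WittVector.Truncated
import Mathlib.FieldTheory.Finite.Basic

set_option autoImplicit false
universe u v
open SigmaLin

namespace Groth.Agent.S19237

open Groth.Agent in
private theorem setup (p : ℕ) [Fact p.Prime] (k : Type u) [Field k] [CharP k p] [IsAlgClosed k] (m : ℕ) :
    ∃ π : TruncatedWittVector p (m + 1) k →+* k, Function.Surjective π ∧
      RingHom.ker π = Ideal.span {(p : TruncatedWittVector p (m + 1) k)} ∧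
      (p : TruncatedWittVector p (m + 1) k) ^ (m + 1) = 0 ∧
      ∀ (f : k →+* k) x, f (π x) = π (WittGrp.truncMap p (m + 1) f x) := by
  have key : ∀ X : WittVector p k, (WittVector.truncate (m + 1) X).coeff 0 = WittVector.constantCoeff X :=
    fun X => WittVector.coeff_truncate X 0
  let π : TruncatedWittVector p (m + 1) k →+* k :=
    { toFun := fun x => x.coeff 0
      map_one' := by rw [← map_one (WittVector.truncate (p := p) (R := k) (m + 1)), key, map_one]
      map_zero' := by rw [← map_zero (WittVector.truncate (p := p) (R := k) (m + 1)), key, map_zero]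
      map_mul' := fun x y => by
        obtain ⟨X, rfl⟩ := WittVector.truncate_surjective p (m + 1) k x
        obtain ⟨Y, rfl⟩ := WittVector.truncate_surjective p (m + 1) k y
        rw [← map_mul, key, key, key, map_mul]
      map_add' := fun x y => by
        obtain ⟨X, rfl⟩ := WittVector.truncate_surjective p (m + 1) k x
        obtain ⟨Y, rfl⟩ := WittVector.truncate_surjective p (m + 1) k y
        rw [← map_add, key, key, key, map_add] }
  refine ⟨π, fun c => ⟨TruncatedWittVector.mk p fun _ => c, TruncatedWittVector.coeff_mk (p := p) (n := m + 1) (fun _ => c) 0⟩, ?_, ?_,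
    fun f x => (WittGrp.coeff_truncMap p (m + 1) f x 0).symm⟩
  · refine le_antisymm (fun x hx => ?_) ((Ideal.span_le).2 ?_)
    · obtain ⟨X, rfl⟩ := WittVector.truncate_surjective p (m + 1) k x
      have hX : X ∈ Ideal.span {(p : WittVector p k)} := by
        rw [WittVector.mem_span_p_iff_coeff_zero_eq_zero]
        exact (key X).symm.trans hx
      obtain ⟨Y, rfl⟩ := Ideal.mem_span_singleton'.1 hX
      rw [map_mul, map_natCast]
      exact Ideal.mul_mem_left _ _ (Ideal.mem_span_singleton_self _)
    · rw [Set.singleton_subset_iff, SetLike.mem_coe, RingHom.mem_ker, map_natCast, CharP.cast_eq_zero]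
  · refine TruncatedWittVector.ext fun i => ?_
    rw [← map_natCast (WittVector.truncate (p := p) (R := k) (m + 1)), ← map_pow, WittVector.coeff_truncate,
      TruncatedWittVector.coeff_zero]
    exact (WittVector.mem_span_p_pow_iff_le_coeff_eq_zero ((p : WittVector p k) ^ (m + 1)) (m + 1)).1
      (Ideal.mem_span_singleton_self _) i i.2

/-- Let k be an algebraically closed field of characteristic p > 0 and n a natural number; let M be a
finitely generated module over the ring W_n(k) of truncated Witt vectors and T : M → M an additive
map with T (c • m) = σ(c) • T m, where σ is either the Frobenius endomorphism of W_n(k) (induced by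
the p-th power map of k) or its inverse (induced by the inverse of the p-th power map). Then m ↦ T m
− m is surjective on M. (The printed statement takes k perfect and separably closed, which is the
same as algebraically closed.) -/
theorem result
    (p : ℕ) [Fact p.Prime] (k : Type u) [Field k] [CharP k p] [IsAlgClosed k] (n : ℕ)
    (σ : TruncatedWittVector p n k →+* TruncatedWittVector p n k)
    (hσ : σ = WittGrp.truncMap p n (frobenius k p) ∨
      σ = WittGrp.truncMap p n (frobeniusEquiv k p).symm.toRingHom)
    (M : Type v) [AddCommGroup M] [Module (TruncatedWittVector p n k) M] [Module.Finite (TruncatedWittVector p n k) M]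
    (T : M →ₛₗ[σ] M) :
    Function.Surjective (fun m : M => T m - m) := by
  rcases n with _ | m
  · haveI : Subsingleton (TruncatedWittVector p 0 k) := ⟨fun a b => TruncatedWittVector.ext fun i => i.elim0⟩
    haveI : Subsingleton M := Module.subsingleton (TruncatedWittVector p 0 k) M
    exact fun z => ⟨z, Subsingleton.elim _ _⟩
  obtain ⟨π, hπ, hker, hpn, hcomp⟩ := setup p k m
  obtain ⟨f, rfl, h2, h3, hfix⟩ : ∃ f : k →+* k, σ = WittGrp.truncMap p (m + 1) f ∧
      Groth.Agent.SigmaLang.TwistRoots f ∧ Groth.Agent.SigmaLang.SubSurj f ∧ (∀ x, f x = x ↔ x ^ p = x) := by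
    rcases hσ with h | h
    · have hf : ∀ x, frobenius k p x = x ^ p ^ 1 := fun x => by rw [frobenius_def, pow_one]
      exact ⟨_, h, Groth.Agent.SigmaLang.twistRoots_powq p one_pos hf, Groth.Agent.SigmaLang.subSurj_powq p one_pos hf,
        fun x => by rw [frobenius_def]⟩
    · refine ⟨_, h, Groth.Agent.SigmaLang.twistRoots_invFrob p, Groth.Agent.SigmaLang.subSurj_invFrob p, fun x => ?_⟩
      show (frobeniusEquiv k p).symm x = x ↔ _
      rw [RingEquiv.symm_apply_eq, frobeniusEquiv_def, eq_comm]
  have hzero : ∀ z : M, (p : TruncatedWittVector p (m + 1) k) ^ (m + 1) • z = 0 := fun z => by rw [hpn, zero_smul]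
  intro z
  obtain ⟨y, hy⟩ := Groth.Agent.SigmaLang.sub_surjective_thickening π hπ _ hker (hcomp f) (map_natCast _ p) h2 h3 T (m + 1) hzero (-z)
  refine ⟨y, ?_⟩
  simp only at hy ⊢
  rw [← neg_sub, hy, neg_neg]

end Groth.Agent.S19237
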