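import Groth.Statements.S19244
import Mathlib.CategoryTheory.Abelian.SerreClass.Localization
set_option linter.unusedVariables false
set_option backward.isDefEq.respectTransparency false

set_option autoImplicit false
universe v v' u u'
open HomAlg3

namespace Groth.Agent.S19244

open CategoryTheory in
/-- Let A be an abelian category and let P be the class of bounded-torsion objects of A, those X with n
• 𝟙_X = 0 for some nonzero integer n; assume P is a Serre class. Let L : A ⥤ D be an additive
functor to a preadditive category exhibiting D as the localization of A at the morphisms whose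
kernel and cokernel are in P (so D is the quotient category A_ℚ = A ⧸ A_{b-tor}; the source assumes
A well-powered, which guarantees that this quotient exists). Then for all objects X, Y of A: (1) for
every nonzero integer n, multiplication by n is bijective on Hom_D(L X, L Y), so that this group is
naturally a ℚ-vector space; (2) a morphism f : X ⟶ Y satisfies L f = 0 if and only if n • f = 0 for
some nonzero integer n; (3) for every g : L X ⟶ L Y there are a nonzero integer n and f : X ⟶ Y with
n • g = L f. Equivalently, the natural map Hom_A(X, Y) ⊗_ℤ ℚ → Hom_D(L X, L Y) is an isomorphism. -/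
theorem result
    {A : Type u} [Category.{v} A] [Abelian A] {D : Type u'} [Category.{v'} D] [Preadditive D]
    (P : ObjectProperty A) (hP : ∀ X : A, P X ↔ ∃ n : ℤ, n ≠ 0 ∧ n • (𝟙 X) = 0) [P.IsSerreClass]
    (L : A ⥤ D) [L.Additive] [L.IsLocalization P.isoModSerre] (X Y : A) :
    (∀ n : ℤ, n ≠ 0 → Function.Bijective (fun g : L.obj X ⟶ L.obj Y => n • g)) ∧
    (∀ f : X ⟶ Y, L.map f = 0 ↔ ∃ n : ℤ, n ≠ 0 ∧ n • f = 0) ∧
    (∀ g : L.obj X ⟶ L.obj Y, ∃ (n : ℤ) (f : X ⟶ Y), n ≠ 0 ∧ n • g = L.map f) := by
  have hiso : ∀ (Z : A) (n : ℤ), n ≠ 0 → P.isoModSerre (n • 𝟙 Z) := by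
    intro Z n hn
    refine ⟨(hP _).2 ⟨n, hn, ?_⟩, (hP _).2 ⟨n, hn, ?_⟩⟩
    · rw [← cancel_mono (Limits.kernel.ι (n • 𝟙 Z))]
      have := Limits.kernel.condition (n • 𝟙 Z)
      rw [Preadditive.comp_zsmul, Category.comp_id] at this
      rw [Preadditive.zsmul_comp, Category.id_comp, this, Limits.zero_comp]
    · rw [← cancel_epi (Limits.cokernel.π (n • 𝟙 Z))]
      have := Limits.cokernel.condition (n • 𝟙 Z)
      rw [Preadditive.zsmul_comp, Category.id_comp] at this
      rw [Preadditive.comp_zsmul, Category.comp_id, this, Limits.comp_zero]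
  have hbij : ∀ n : ℤ, n ≠ 0 → Function.Bijective (fun g : L.obj X ⟶ L.obj Y => n • g) := by
    intro n hn
    haveI : IsIso (L.map (n • 𝟙 Y)) := Localization.inverts L P.isoModSerre _ (hiso Y n hn)
    have : (fun g : L.obj X ⟶ L.obj Y => n • g) = fun g => g ≫ L.map (n • 𝟙 Y) := by
      funext g; rw [L.map_zsmul, L.map_id, Preadditive.comp_zsmul, Category.comp_id]
    rw [this]
    exact ⟨fun a b h => (cancel_mono _).1 h, fun g => ⟨g ≫ inv (L.map (n • 𝟙 Y)), by simp⟩⟩
  refine ⟨hbij, fun f => ⟨fun h => ?_, ?_⟩, fun g => ?_⟩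
  · rw [← L.map_zero, MorphismProperty.map_eq_iff_postcomp L P.isoModSerre] at h
    obtain ⟨Z, s, hs, e⟩ := h
    rw [Limits.zero_comp] at e
    obtain ⟨n, hn, hn0⟩ := (hP _).1 hs.1
    refine ⟨n, hn, ?_⟩
    rw [← Limits.kernel.lift_ι s f e]
    have : n • (Limits.kernel.lift s f e ≫ Limits.kernel.ι s) =
        Limits.kernel.lift s f e ≫ (n • 𝟙 _) ≫ Limits.kernel.ι s := by
      rw [Preadditive.zsmul_comp, Category.id_comp, Preadditive.comp_zsmul]
    rw [this, hn0]; simp
  · rintro ⟨n, hn, hn0⟩
    apply (hbij n hn).1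
    simp only
    rw [← L.map_zsmul, hn0, L.map_zero, smul_zero]
  · obtain ⟨φ, hφ⟩ := Localization.exists_rightFraction L P.isoModSerre g
    let s := φ.s
    haveI : IsIso (L.map s) := Localization.inverts L P.isoModSerre _ φ.hs
    obtain ⟨k, hk, hk0⟩ := (hP _).1 φ.hs.1
    obtain ⟨l, hl, hl0⟩ := (hP _).1 φ.hs.2
    have e1 : Limits.kernel.ι s ≫ (k • 𝟙 φ.X') = 0 := by
      have := congrArg (fun x => x ≫ Limits.kernel.ι s) hk0
      rw [Preadditive.zsmul_comp, Category.id_comp, Limits.zero_comp] at this
      rw [Preadditive.comp_zsmul, Category.comp_id]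
      exact this
    have e2 : (l • 𝟙 X) ≫ Limits.cokernel.π s = 0 := by
      have := congrArg (fun x => Limits.cokernel.π s ≫ x) hl0
      rw [Preadditive.comp_zsmul, Category.comp_id, Limits.comp_zero] at this
      rw [Preadditive.zsmul_comp, Category.id_comp]
      exact this
    let u : Abelian.coimage s ⟶ φ.X' := Limits.cokernel.desc _ (k • 𝟙 φ.X') e1
    let v : X ⟶ Abelian.coimage s := Limits.kernel.lift _ (l • 𝟙 X) e2 ≫ (Abelian.coimageIsoImage s).inv
    have hu : u ≫ s = k • Abelian.factorThruCoimage s := by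
      rw [← cancel_epi (Abelian.coimage.π s)]
      simp [u, Preadditive.comp_zsmul, Preadditive.zsmul_comp]
    have hv : v ≫ Abelian.factorThruCoimage s = l • 𝟙 X := by
      have : (Abelian.coimageIsoImage s).inv ≫ Abelian.factorThruCoimage s = Abelian.image.ι s := by
        rw [Iso.inv_comp_eq, ← cancel_epi (Abelian.coimage.π s)]
        simp
      simp only [v, Category.assoc, this]
      exact Limits.kernel.lift_ι _ _ _
    refine ⟨k * l, v ≫ u ≫ φ.f, mul_ne_zero hk hl, ?_⟩
    have ht : (v ≫ u) ≫ s = (k * l) • 𝟙 X := by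
      rw [Category.assoc, hu, Preadditive.comp_zsmul, hv, mul_smul]
    have hg : L.map s ≫ g = L.map φ.f := by rw [hφ]; simp [s]
    rw [← Category.assoc, L.map_comp, ← hg, ← Category.assoc, ← L.map_comp, ht, L.map_zsmul,
      L.map_id, Preadditive.zsmul_comp, Category.id_comp]

end Groth.Agent.S19244
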