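import Groth.Statements.S19246
import Groth.Prelude.Def_CohTop
import Mathlib.Topology.Sheaves.Flasque
import Mathlib.CategoryTheory.Sites.Limits
import Mathlib.CategoryTheory.Sites.Abelian
import Mathlib.Algebra.Category.Grp.Limits
import Mathlib.Algebra.Category.Grp.AB
import Mathlib.Topology.Sheaves.Limits
import Mathlib.Algebra.Homology.ShortComplex.Ab

set_option autoImplicit false
universe u
open CohTop

namespace Groth.Agent.S19246

section
open CategoryTheory CategoryTheory.Limits TopologicalSpace Opposite

/-- Sections over an open. -/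
abbrev secF (X : TopCat.{u}) (U : (Opens X)ᵒᵖ) : CohTop.Ab X ⥤ AddCommGrpCat.{u} :=
  sheafToPresheaf _ _ ⋙ (evaluation _ _).obj U

variable {X : TopCat.{u}}

/-- Lifting a section along an epimorphism with flasque kernel, with prescribed restriction. -/
theorem exists_lift {F G : CohTop.Ab X} (g : F ⟶ G) [Epi g]
    (hK : TopCat.Sheaf.IsFlasque (kernel g : CohTop.Ab X)) {U V : (Opens X)ᵒᵖ} (i : U ⟶ V)
    (t : G.obj.obj U) (s : F.obj.obj V)
    (h : G.obj.map i t = g.hom.app V s) :
    ∃ t' : F.obj.obj U, g.hom.app U t' = t ∧ F.obj.map i t' = s := by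
  let S := ShortComplex.mk (kernel.ι g) g (kernel.condition g)
  have hex : S.Exact := ShortComplex.exact_of_f_is_kernel _ (kernelIsKernel g)
  have hS : S.ShortExact := ⟨hex⟩
  have : TopCat.Sheaf.IsFlasque S.X₁ := hK
  have hepi : Function.Surjective (g.hom.app U) :=
    (AddCommGrpCat.epi_iff_surjective _).mp (TopCat.Sheaf.IsFlasque.epi_of_shortExact (U := U.unop) hS)
  obtain ⟨t₁, ht₁⟩ := hepi t
  have hexV : (S.map (secF X V)).Exact := hex.map_of_mono_of_preservesKernel _ inferInstance inferInstance
  have hdiff : g.hom.app V (s - F.obj.map i t₁) = 0 := by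
    have hnat := ConcreteCategory.congr_hom (g.hom.naturality i) t₁
    rw [map_sub, ← h, sub_eq_zero, ← ht₁]
    exact hnat.symm
  obtain ⟨k, hk⟩ := (ShortComplex.ab_exact_iff _).mp hexV (s - F.obj.map i t₁) hdiff
  have : Epi ((kernel g : CohTop.Ab X).obj.map i) := hK.epi i
  obtain ⟨k', hk'⟩ := (AddCommGrpCat.epi_iff_surjective _).mp this k
  refine ⟨t₁ + (kernel.ι g).hom.app U k', ?_, ?_⟩
  · 
    have h0 : g.hom.app U ((kernel.ι g).hom.app U k') = 0 := by
      exact ConcreteCategory.congr_hom (congrArg (fun φ => φ.hom.app U) (kernel.condition g)) k'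
    rw [map_add, h0, add_zero]
    exact ht₁
  · rw [map_add]
    have hnat := ConcreteCategory.congr_hom ((kernel.ι g).hom.naturality i) k'
    have h2 : F.obj.map i ((kernel.ι g).hom.app U k') = s - F.obj.map i t₁ := by
      rw [← hk]
      refine hnat.symm.trans ?_
      show (kernel.ι g).hom.app V ((kernel g : CohTop.Ab X).obj.map i k') = _
      rw [hk']
      rfl
    rw [h2, add_sub_cancel]

end

open CategoryTheory CategoryTheory.Limits TopologicalSpace Opposite in
/-- Let X be a topological space and (M_n)_{n ≥ 0} an inverse system of abelian sheaves on X indexed by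
the natural numbers, such that every M_n is flasque and every transition map M_{n+1} ⟶ M_n is an
epimorphism of sheaves with flasque kernel. Then the limit sheaf lim_n M_n is flasque. (The source's
statement is about flasque de Rham–Witt systems on a scheme, whose definition is exactly this
condition on the underlying tower of abelian sheaves; the additional structure plays no role in the
assertion or its proof, so the row is stated for towers of abelian sheaves on any space.) -/
theorem result {X : TopCat.{u}} (M : ℕᵒᵖ ⥤ CohTop.Ab X) :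
    (∀ n : ℕ, TopCat.Sheaf.IsFlasque (M.obj (op n))) →
      (∀ n : ℕ, Epi (M.map (homOfLE (Nat.le_succ n)).op)) →
      (∀ n : ℕ, TopCat.Sheaf.IsFlasque (kernel (M.map (homOfLE (Nat.le_succ n)).op) : CohTop.Ab X)) →
      TopCat.Sheaf.IsFlasque (limit M : CohTop.Ab X) := by
  intro h0 he hK
  refine ⟨fun {U V} i => ?_⟩
  rw [AddCommGrpCat.epi_iff_surjective]
  intro s
  let sn : ∀ n : ℕ, (M.obj (op n)).obj.obj V := fun n => (secF X V).map (limit.π M (op n)) s
  have hsn : ∀ n, (secF X V).map (M.map (homOfLE (Nat.le_succ n)).op) (sn (n + 1)) = sn n := fun n => by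
    show ((secF X V).map (limit.π M (op (n+1))) ≫ (secF X V).map (M.map _)) s = _
    rw [← Functor.map_comp, limit.w]
  have step : ∀ n (t : (M.obj (op n)).obj.obj U), (M.obj (op n)).obj.map i t = sn n →
      ∃ t' : (M.obj (op (n + 1))).obj.obj U,
        (secF X U).map (M.map (homOfLE (Nat.le_succ n)).op) t' = t ∧ (M.obj (op (n + 1))).obj.map i t' = sn (n + 1) :=
    fun n t ht => by
      have := he n
      exact exists_lift _ (hK n) i t (sn (n+1)) (ht.trans (hsn n).symm)
  have : Epi ((M.obj (op 0)).obj.map i) := (h0 0).epi i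
  obtain ⟨t₀, ht₀⟩ := (AddCommGrpCat.epi_iff_surjective _).mp this (sn 0)
  let T : ∀ n : ℕ, {t : (M.obj (op n)).obj.obj U // (M.obj (op n)).obj.map i t = sn n} := fun n =>
    Nat.rec ⟨t₀, ht₀⟩ (fun n p => ⟨(step n p.1 p.2).choose, (step n p.1 p.2).choose_spec.2⟩) n
  have hT : ∀ n, (secF X U).map (M.map (homOfLE (Nat.le_succ n)).op) (T (n + 1)).1 = (T n).1 :=
    fun n => (step n (T n).1 (T n).2).choose_spec.1
  have hcomp : ∀ m n (hmn : m ≤ n), (secF X U).map (M.map (homOfLE hmn).op) (T n).1 = (T m).1 := by
    intro m n hmn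
    induction n, hmn using Nat.le_induction with
    | base =>
      rw [show (homOfLE (le_refl m)) = 𝟙 m from rfl, op_id, M.map_id, CategoryTheory.Functor.map_id]
      rfl
    | succ k hk ih =>
      rw [show (homOfLE (Nat.le_succ_of_le hk)) = homOfLE hk ≫ homOfLE (Nat.le_succ k) from rfl, op_comp, M.map_comp,
        Functor.map_comp, ConcreteCategory.comp_apply, hT, ih]
  let hlim := isLimitOfPreserves (secF X U ⋙ forget AddCommGrpCat.{u}) (limit.isLimit M)
  let x := (Types.isLimitEquivSections hlim).symm ⟨fun j => (T j.unop).1, fun {j j'} φ => hcomp j'.unop j.unop φ.unop.le⟩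
  refine ⟨x, ?_⟩
  let hlimV := isLimitOfPreserves (secF X V ⋙ forget AddCommGrpCat.{u}) (limit.isLimit M)
  apply (Types.isLimitEquivSections hlimV).injective
  apply Subtype.ext
  funext j
  show (secF X V).map (limit.π M j) ((limit M : CohTop.Ab X).obj.map i x) = sn j.unop
  have hnat := ConcreteCategory.congr_hom ((limit.π M j).hom.naturality i) x
  refine hnat.trans ?_
  have hx : (secF X U).map (limit.π M j) x = (T j.unop).1 :=
    Types.isLimitEquivSections_symm_apply hlim ⟨fun j => (T j.unop).1, fun {j j'} φ => hcomp j'.unop j.unop φ.unop.le⟩ j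
  exact (congrArg ((M.obj j).obj.map i) hx).trans (T j.unop).2

end Groth.Agent.S19246
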