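import Groth.Statements.S19247
-- import your own Groth.Agent.* helpers here

set_option autoImplicit false
universe u
open CohTop

namespace Groth.Agent.S19247

open CategoryTheory CategoryTheory.Limits TopologicalSpace Opposite

section
variable {X : TopCat.{u}}

theorem sec_surj (T : ShortComplex (CohTop.Ab X)) (hT : T.ShortExact)
    (hF : TopCat.Sheaf.IsFlasque T.X₁) (U : Opens X) :
    Function.Surjective (T.g.1.app (op U)) :=
  (AddCommGrpCat.epi_iff_surjective _).mp
    (haveI := hF; TopCat.Sheaf.IsFlasque.epi_of_shortExact hT)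

theorem trans_surj {A B : CohTop.Ab X} (f : A ⟶ B) [Epi f]
    (hF : TopCat.Sheaf.IsFlasque (kernel f : CohTop.Ab X)) (U : Opens X) :
    Function.Surjective (f.1.app (op U)) := by
  refine sec_surj (ShortComplex.mk (kernel.ι f) f (kernel.condition f)) ?_ hF U
  exact ShortComplex.ShortExact.mk' (ShortComplex.exact_kernel f) inferInstance inferInstance

end

open CategoryTheory CategoryTheory.Limits TopologicalSpace Opposite in
/-- Let X be a topological space and S : 0 ⟶ M' ⟶ M ⟶ M'' ⟶ 0 a short exact sequence of ℕ-indexed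
inverse systems of abelian sheaves on X (short exact in the abelian category of such systems, i.e.
levelwise), such that each of M', M, M'' is a flasque tower: every term is flasque and every
transition map is an epimorphism of sheaves with flasque kernel. Then the induced map lim M ⟶ lim
M'' is an epimorphism of sheaves, so that, lim being left exact, the sequence 0 ⟶ lim M' ⟶ lim M ⟶
lim M'' ⟶ 0 is exact. (The source's statement is the exactness of lim on flasque de Rham–Witt
systems on a scheme; the de Rham–Witt structure plays no role, so the row is stated for towers of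
abelian sheaves on any space.) -/
theorem result {X : TopCat.{u}}
    (S : ShortComplex (ℕᵒᵖ ⥤ CohTop.Ab X)) (hS : S.ShortExact) :
    (∀ n : ℕ, TopCat.Sheaf.IsFlasque (S.X₁.obj (op n))) →
      (∀ n : ℕ, Epi (S.X₁.map (homOfLE (Nat.le_succ n)).op)) →
      (∀ n : ℕ, TopCat.Sheaf.IsFlasque (kernel (S.X₁.map (homOfLE (Nat.le_succ n)).op) : CohTop.Ab X)) →
    (∀ n : ℕ, TopCat.Sheaf.IsFlasque (S.X₂.obj (op n))) →
      (∀ n : ℕ, Epi (S.X₂.map (homOfLE (Nat.le_succ n)).op)) →
      (∀ n : ℕ, TopCat.Sheaf.IsFlasque (kernel (S.X₂.map (homOfLE (Nat.le_succ n)).op) : CohTop.Ab X)) →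
    (∀ n : ℕ, TopCat.Sheaf.IsFlasque (S.X₃.obj (op n))) →
      (∀ n : ℕ, Epi (S.X₃.map (homOfLE (Nat.le_succ n)).op)) →
      (∀ n : ℕ, TopCat.Sheaf.IsFlasque (kernel (S.X₃.map (homOfLE (Nat.le_succ n)).op) : CohTop.Ab X)) →
      Epi (limMap S.g) := by
  intro h1 e1 k1 _ _ _ _ _ _
  suffices H : ∀ U : Opens X, Function.Surjective ((limMap S.g).1.app (op U)) by
    haveI : CategoryTheory.Sheaf.IsLocallySurjective (limMap S.g) :=
      CategoryTheory.Presheaf.isLocallySurjective_of_surjective _ _ (fun U => H U.unop)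
    infer_instance
  intro U y
  let F : CohTop.Ab X ⥤ AddCommGrpCat.{u} :=
    sheafToPresheaf _ _ ⋙ (evaluation (Opens X)ᵒᵖ AddCommGrpCat.{u}).obj (op U)
  let G := F ⋙ forget AddCommGrpCat.{u}
  have hg : ∀ n : ℕ, Function.Surjective ((S.g.app (op n)).1.app (op U)) := fun n =>
    sec_surj (S.map ((evaluation ℕᵒᵖ (CohTop.Ab X)).obj (op n))) (hS.map_of_exact _) (h1 n) U
  have hex : ∀ (n : ℕ) (z : (S.X₂.obj (op n)).1.obj (op U)), (S.g.app (op n)).1.app (op U) z = 0 →
      ∃ w, (S.f.app (op n)).1.app (op U) w = z := fun n z hz => by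
    have hSn := hS.map_of_exact ((evaluation ℕᵒᵖ (CohTop.Ab X)).obj (op n))
    exact TopCat.Sheaf.sections_exact_of_left_exact hSn.1 hSn.2 z hz
  let tr := fun (n : ℕ) => (homOfLE (Nat.le_succ n)).op
  have hf : ∀ n, Function.Surjective ((S.X₁.map (tr n)).1.app (op U)) := fun n => by
    haveI := e1 n
    exact trans_surj _ (k1 n) U
  let yn : ∀ n, (S.X₃.obj (op n)).1.obj (op U) := fun n => (limit.π S.X₃ (op n)).1.app (op U) y
  have hy : ∀ n, (S.X₃.map (tr n)).1.app (op U) (yn (n + 1)) = yn n := fun n => by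
    have := limit.w S.X₃ (tr n)
    exact congr((ConcreteCategory.hom ($(this).1.app (op U))) y)
  have step : ∀ n (x : (S.X₂.obj (op n)).1.obj (op U)), (S.g.app (op n)).1.app (op U) x = yn n →
      ∃ x', (S.g.app (op (n + 1))).1.app (op U) x' = yn (n + 1) ∧
        (S.X₂.map (tr n)).1.app (op U) x' = x := by
    intro n x hx
    obtain ⟨a, ha⟩ := hg (n + 1) (yn (n + 1))
    have nat : ∀ b, (S.g.app (op n)).1.app (op U) ((S.X₂.map (tr n)).1.app (op U) b) =
        (S.X₃.map (tr n)).1.app (op U) ((S.g.app (op (n+1))).1.app (op U) b) := fun b =>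
      congr((ConcreteCategory.hom ($(S.g.naturality (tr n)).1.app (op U))) b)
    have nat' : ∀ b, (S.f.app (op n)).1.app (op U) ((S.X₁.map (tr n)).1.app (op U) b) =
        (S.X₂.map (tr n)).1.app (op U) ((S.f.app (op (n+1))).1.app (op U) b) := fun b =>
      congr((ConcreteCategory.hom ($(S.f.naturality (tr n)).1.app (op U))) b)
    obtain ⟨w, hw⟩ := hex n (x - (S.X₂.map (tr n)).1.app (op U) a) (by
      rw [map_sub, hx, nat, ha, hy, sub_self])
    obtain ⟨z, rfl⟩ := hf n w
    refine ⟨a + (S.f.app (op (n+1))).1.app (op U) z, ?_, ?_⟩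
    · have h0 := congr((ConcreteCategory.hom ($(congrArg (fun t : S.X₁ ⟶ S.X₃ => t.app (op (n+1))) S.zero).1.app (op U))) z)
      rw [map_add, ha]
      exact (congrArg _ h0).trans (add_zero _)
    · rw [map_add, ← nat', hw]; abel
  choose nx hnx1 hnx2 using step
  let xs : ∀ n, {x : (S.X₂.obj (op n)).1.obj (op U) // (S.g.app (op n)).1.app (op U) x = yn n} :=
    fun n => Nat.rec ⟨_, (hg 0 (yn 0)).choose_spec⟩ (fun m x => ⟨nx m x.1 x.2, hnx1 m x.1 x.2⟩) n
  have key : ∀ (j i : ℕ) (h : j ≤ i),
      (S.X₂ ⋙ G).map (homOfLE h).op (xs i).1 = (xs j).1 := by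
    intro j i h
    induction h with
    | refl => exact (congr($((S.X₂ ⋙ G).map_id (op j)) _)).trans rfl
    | @step m hm ih =>
      have e : (homOfLE (Nat.le_succ_of_le hm)).op = tr m ≫ (homOfLE hm).op := rfl
      rw [e, Functor.map_comp_apply]
      refine (congrArg _ ?_).trans ih
      exact hnx2 m _ _
  have hsec : ∀ {i j : ℕᵒᵖ} (φ : i ⟶ j), (S.X₂ ⋙ G).map φ (xs i.unop).1 = (xs j.unop).1 :=
    fun {i j} φ => key j.unop i.unop (leOfHom φ.unop)
  let e := Types.isLimitEquivSections (isLimitOfPreserves G (limit.isLimit S.X₂))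
  let x := e.symm ⟨fun i => (xs i.unop).1, fun {i j} φ => hsec φ⟩
  refine ⟨x, ?_⟩
  have hx : ∀ i, (limit.π S.X₂ i).1.app (op U) x = (xs i.unop).1 := fun i =>
    Types.isLimitEquivSections_symm_apply (isLimitOfPreserves G (limit.isLimit S.X₂)) _ i
  refine Concrete.isLimit_ext _ (isLimitOfPreserves F (limit.isLimit S.X₃)) _ _ fun i => ?_
  have := congr((ConcreteCategory.hom ($(limMap_π S.g i).1.app (op U))) x)
  refine this.trans ?_
  exact (congrArg _ (hx i)).trans (xs i.unop).2

end Groth.Agent.S19247
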