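import Groth.Statements.S19258
import Mathlib
-- import your own Groth.Agent.* helpers here

set_option autoImplicit false
universe u
open PontDual

namespace Groth.Agent.S19258

theorem tors (m : ℕ) (hm : 0 < m) (y : AddCircle (1 : ℚ)) (h : m • y = 0) :
    ∃ i : ℤ, y = (((i : ℚ) / m : ℚ) : AddCircle (1 : ℚ)) := by
  obtain ⟨q, rfl⟩ := QuotientAddGroup.mk_surjective y
  have h' : ((m • q : ℚ) : AddCircle (1 : ℚ)) = 0 := by rw [AddCircle.coe_nsmul]; exact h
  obtain ⟨i, hi⟩ := AddCircle.coe_eq_zero_iff (1 : ℚ) |>.1 h'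
  refine ⟨i, congrArg _ ?_⟩
  have hm' : (m : ℚ) ≠ 0 := Nat.cast_ne_zero.2 hm.ne'
  rw [zsmul_eq_mul, mul_one, nsmul_eq_mul] at hi
  rw [hi]; field_simp

theorem coe_div_add (m : ℕ) (i j : ℤ) : ((((i + j : ℤ) : ℚ) / m : ℚ) : AddCircle (1 : ℚ)) =
    (((i : ℚ) / m : ℚ) : AddCircle (1 : ℚ)) + (((j : ℚ) / m : ℚ) : AddCircle (1 : ℚ)) := by
  rw [← AddCircle.coe_add, Int.cast_add, add_div]

theorem coe_div_mul (m : ℕ) (i j : ℤ) : ((((i * j : ℤ) : ℚ) / m : ℚ) : AddCircle (1 : ℚ)) =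
    i • (((j : ℚ) / m : ℚ) : AddCircle (1 : ℚ)) := by
  rw [← AddCircle.coe_zsmul, zsmul_eq_mul, Int.cast_mul, mul_div_assoc]

theorem one_char {G : Type u} [AddCommGroup G] (K : AddSubgroup G) (a b : G →+ AddCircle (1 : ℚ)) (m : ℕ)
    (hm : 0 < m) (hma : ∀ x, m • a x = 0) (h : ∀ x ∈ K, a x = 0 → b x = 0) :
    ∃ n : ℤ, ∀ x ∈ K, b x = n • a x := by
  classical
  let S : AddSubgroup ℤ :=
    { carrier := {i | ∃ x ∈ K, a x = (((i : ℚ) / m : ℚ) : AddCircle (1 : ℚ))}
      zero_mem' := ⟨0, K.zero_mem, by simp⟩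
      add_mem' := by
        rintro i j ⟨x, hx, ex⟩ ⟨y, hy, ey⟩
        exact ⟨x + y, K.add_mem hx hy, by rw [map_add, ex, ey, coe_div_add]⟩
      neg_mem' := by
        rintro i ⟨x, hx, ex⟩
        exact ⟨-x, K.neg_mem hx, by rw [map_neg, ex, ← AddCircle.coe_neg, Int.cast_neg, neg_div]⟩ }
  obtain ⟨d, hd⟩ := Int.subgroup_cyclic S
  rw [← AddSubgroup.zmultiples_eq_closure] at hd
  have hmm : (m : ℤ) ∈ S := by
    refine ⟨0, K.zero_mem, ?_⟩
    rw [map_zero, Int.cast_natCast, div_self (Nat.cast_ne_zero.2 hm.ne'), AddCircle.coe_period]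
  obtain ⟨e, he⟩ : ∃ e : ℤ, (m : ℤ) = e * d := by
    rw [hd] at hmm
    obtain ⟨e, he⟩ := AddSubgroup.mem_zmultiples_iff.1 hmm
    exact ⟨e, by rw [← he, smul_eq_mul]⟩
  obtain ⟨k₀, hk₀, hak⟩ : d ∈ S := hd ▸ AddSubgroup.mem_zmultiples d
  have hb : e • b k₀ = 0 := by
    rw [← map_zsmul]
    refine h _ (K.zsmul_mem hk₀ e) ?_
    rw [map_zsmul, hak, ← coe_div_mul, ← he, Int.cast_natCast, div_self (Nat.cast_ne_zero.2 hm.ne'), AddCircle.coe_period]
  have he0 : e ≠ 0 := by rintro rfl; rw [zero_mul] at he; omega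
  obtain ⟨n, hn⟩ : ∃ n : ℤ, b k₀ = n • a k₀ := by
    have hb' : e.natAbs • b k₀ = 0 := by
      rw [← natCast_zsmul]
      rcases Int.natAbs_eq e with h1 | h1
      · rwa [← h1]
      · rw [h1, neg_smul, neg_eq_zero] at hb; exact hb
    obtain ⟨i, hi⟩ := tors e.natAbs (Int.natAbs_pos.2 he0) _ hb'
    refine ⟨if 0 < e then i else -i, ?_⟩
    rw [hi, hak, ← coe_div_mul]
    refine congrArg _ ?_
    have hm' : (m : ℚ) = (e : ℚ) * d := by exact_mod_cast he
    have hd0 : (d : ℚ) ≠ 0 := by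
      intro h0; rw [h0, mul_zero, Nat.cast_eq_zero] at hm'; omega
    have he' : (e : ℚ) ≠ 0 := Int.cast_ne_zero.2 he0
    split_ifs with hpos
    · rw [show (e.natAbs : ℚ) = (e : ℚ) by rw [← Int.cast_natCast, Int.natAbs_of_nonneg hpos.le], hm']
      push_cast; field_simp
    · rw [show (e.natAbs : ℚ) = -(e : ℚ) by rw [← Int.cast_natCast, Int.ofNat_natAbs_of_nonpos (by omega), Int.cast_neg], hm']
      push_cast; field_simp
  refine ⟨n, fun x hx => ?_⟩
  obtain ⟨i, hi⟩ := tors m hm _ (hma x)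
  have hiS : i ∈ S := ⟨x, hx, hi⟩
  rw [hd] at hiS
  obtain ⟨r, rfl⟩ := AddSubgroup.mem_zmultiples_iff.1 hiS
  have h0 : b (x - r • k₀) = 0 := h _ (K.sub_mem hx (K.zsmul_mem hk₀ r)) (by
    rw [map_sub, map_zsmul, hak, hi, ← coe_div_mul, smul_eq_mul, sub_self])
  rw [map_sub, map_zsmul, sub_eq_zero] at h0
  rw [h0, hn, hi, hak, smul_eq_mul, coe_div_mul, smul_comm]


/-- Let G and G' be abelian groups such that every element of G' has finite order, and let β : G' →
Hom(G, ℚ/ℤ) be an injective homomorphism (equivalently a pairing G' × G → ℚ/ℤ with no left kernel).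
Endow G with the weak topology defined by G': the coarsest topology for which every character β(f),
f ∈ G', is continuous when ℚ/ℤ carries the discrete topology. Then every homomorphism χ : G → ℚ/ℤ
that is continuous for this topology on G and the discrete topology on ℚ/ℤ equals β(f) for some f ∈
G', so that β is a bijection from G' onto the group of continuous characters of G. -/
theorem result
    (G : Type u) (G' : Type u) [AddCommGroup G] [AddCommGroup G'] (hG' : IsAddTorsion G')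
    (β : G' →+ (G →+ AddCircle (1 : ℚ))) (hβ : Function.Injective β)
    (χ : G →+ AddCircle (1 : ℚ))
    (hχ : @Continuous G (AddCircle (1 : ℚ)) (⨅ f' : G', TopologicalSpace.induced (fun x : G => β f' x) ⊥) ⊥ χ) :
    ∃ f' : G', β f' = χ := by
  classical
  have key : ∀ (t : Finset G') (χ : G →+ AddCircle (1 : ℚ)), (∀ x, (∀ f ∈ t, β f x = 0) → χ x = 0) →
      ∃ f', β f' = χ := by
    intro t
    induction t using Finset.induction_on with
    | empty => exact fun χ h => ⟨0, by rw [map_zero]; exact AddMonoidHom.ext fun x => (h x (by simp)).symm⟩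
    | insert f t hf ih =>
      intro χ h
      let K : AddSubgroup G := ⨅ g ∈ t, (β g).ker
      have hK : ∀ x, x ∈ K ↔ ∀ g ∈ t, β g x = 0 := fun x => by simp [K, AddSubgroup.mem_iInf]
      have hfin := hG' f
      obtain ⟨n, hn⟩ := one_char K (β f) χ (addOrderOf f) hfin.addOrderOf_pos (fun x => by
        rw [← AddMonoidHom.nsmul_apply, ← map_nsmul, addOrderOf_nsmul_eq_zero, map_zero]; rfl) (fun x hx hx' => h x (fun g hg => by
          rcases Finset.mem_insert.1 hg with rfl | hg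
          · exact hx'
          · exact (hK x).1 hx g hg))
      obtain ⟨f', hf'⟩ := ih (χ - n • β f) (fun x hx => by
        rw [AddMonoidHom.sub_apply, hn x ((hK x).2 hx)]; simp)
      exact ⟨f' + n • f, by rw [map_add, map_zsmul, hf', sub_add_cancel]⟩
  letI τ : TopologicalSpace G := ⨅ f' : G', TopologicalSpace.induced (fun x : G => β f' x) ⊥
  letI : TopologicalSpace (AddCircle (1 : ℚ)) := ⊥
  haveI : DiscreteTopology (AddCircle (1 : ℚ)) := ⟨rfl⟩
  have hn : χ ⁻¹' {0} ∈ nhds (0 : G) :=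
    ((isOpen_discrete _).preimage hχ).mem_nhds (by simp)
  have hnh : nhds (0 : G) = ⨅ f' : G', Filter.principal ((fun x : G => β f' x) ⁻¹' {0}) := by
    rw [show nhds (0 : G) = @nhds G τ 0 from rfl, nhds_iInf]
    refine iInf_congr fun f' => ?_
    rw [nhds_induced, nhds_discrete, Filter.comap_pure, map_zero]
  rw [hnh, Filter.mem_iInf_finite] at hn
  obtain ⟨t, ht⟩ := hn
  rw [Filter.iInf_principal_finset, Filter.mem_principal] at ht
  exact key t χ (fun x hx => ht (Set.mem_iInter₂.2 hx))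

end Groth.Agent.S19258
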