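import Groth.Statements.S19264
import Groth.Agent.WittFilLib.Basic

set_option autoImplicit false
universe u
open WittFil

namespace Groth.Agent.S19264

/-- Let A be a unique factorisation domain of characteristic p, x_1, …, x_r pairwise non-associate prime
elements of A, B = A[1/(x_1⋯x_r)] with u_i the unit of B defined by x_i, n ∈ ℤ^r and m ≥ 0. The
restriction map from truncated p-typical Witt vectors of length m+1 to those of length m over B
(forgetting the last coordinate) maps the filtered piece cut out by ∏ u_i ^ n_i onto the filtered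
piece cut out by ∏ u_i ^ ⌊n_i / p⌋; that is, the image is exactly that piece. (The other parts of
the exact sequence, injectivity of the (m-fold) Verschiebung from the fractional ideal generated by
(∏ u_i ^ n_i)⁻¹ and exactness in the middle, are immediate from the definition and are not restated.
The published setting is a regular local ring; only unique factorisation is used.) -/
theorem result (p : ℕ) [Fact p.Prime] {A B : Type u} [CommRing A] [IsDomain A]
    [UniqueFactorizationMonoid A] [CharP A p] [CommRing B] [Algebra A B] {r : ℕ} (x : Fin r → A)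
    (hx : ∀ i, Prime (x i)) (hxa : ∀ i j, Associated (x i) (x j) → i = j)
    [IsLocalization.Away (∏ i, x i) B] (u : Fin r → Bˣ)
    (hu : ∀ i, (u i : B) = algebraMap A B (x i)) (n : Fin r → ℤ) (m : ℕ) :
    (TruncatedWittVector.truncate (Nat.le_succ m)) '' WittFil.fil p (m + 1) (A := A) (WittFil.zmon u n) =
      WittFil.fil p m (A := A) (WittFil.zmon u (fun i => n i / (p : ℤ))) := by
  have hp : 0 < p := (Fact.out : p.Prime).pos
  ext y
  constructor
  · rintro ⟨a, ha, rfl⟩ j
    rw [TruncatedWittVector.coeff_truncate]
    refine (WittFilLib.pow_mul_zmon_mem_iff hx hxa hu hp _ n).1 ?_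
    have h := ha (Fin.castLE (Nat.le_succ m) j)
    rwa [← pow_mul, ← pow_succ, show m - 1 - (j : ℕ) + 1 = m + 1 - 1 - ((Fin.castLE (Nat.le_succ m) j : Fin (m + 1)) : ℕ) by
      simp; omega]
  · intro hy
    refine ⟨TruncatedWittVector.mk p fun j => if h : (j : ℕ) < m then y.coeff ⟨j, h⟩ else 0, fun j => ?_, ?_⟩
    · rw [TruncatedWittVector.coeff_mk]
      split_ifs with h
      · have h' := (WittFilLib.pow_mul_zmon_mem_iff hx hxa hu hp _ n).2 (hy ⟨j, h⟩)
        rwa [← pow_mul, ← pow_succ, show m - 1 - ((⟨j, h⟩ : Fin m) : ℕ) + 1 = m + 1 - 1 - (j : ℕ) by simp; omega] at h'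
      · rw [zero_pow (pow_ne_zero _ hp.ne'), zero_mul]
        exact zero_mem _
    · refine TruncatedWittVector.ext fun j => ?_
      rw [TruncatedWittVector.coeff_truncate, TruncatedWittVector.coeff_mk, dif_pos (show ((Fin.castLE (Nat.le_succ m) j : Fin (m + 1)) : ℕ) < m by simp)]
      rfl

end Groth.Agent.S19264
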