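import Groth.Statements.S19267
import Groth.Agent.WittFilLib.Basic

set_option autoImplicit false
universe u
open WittFil

namespace Groth.Agent.S19267

/-- Let A → B be a homomorphism of commutative rings, u a unit of B, m ≥ 0 and n, l integers. For an
element c of B call the filtered piece cut out by c the set of truncated p-typical Witt vectors of
length m over B whose j-th coordinate y_j satisfies: y_j ^ (p ^ (m-1-j)) · c lies in the image of A,
for every j < m. Then the piece cut out by u ^ (n − p^(m−1)·l) is exactly the image of the piece cut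
out by u ^ n under multiplication by the truncated Teichmüller representative [u ^ l]. (The
published case is B = S[[π]][1/π] over A = S[[π]] with u = π; the computation is the same in
general.) -/
theorem result (p : ℕ) [Fact p.Prime] {A B : Type u}
    [CommRing A] [CommRing B] [Algebra A B] (m : ℕ) (u : Bˣ) (n l : ℤ) :
    WittFil.fil p m (A := A) ((u ^ (n - (p : ℤ) ^ (m - 1) * l) : Bˣ) : B) =
      (fun a => WittVector.truncate m (WittVector.teichmuller p ((u ^ l : Bˣ) : B)) * a) ''
        WittFil.fil p m (A := A) ((u ^ n : Bˣ) : B) := by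
  have key : ∀ (l : ℤ) (n : ℤ) (j : Fin m) (y : B),
      (y * ((u ^ l : Bˣ) : B) ^ p ^ (j : ℕ)) ^ p ^ (m - 1 - (j : ℕ)) * ((u ^ (n - (p : ℤ) ^ (m - 1) * l) : Bˣ) : B) =
        y ^ p ^ (m - 1 - (j : ℕ)) * ((u ^ n : Bˣ) : B) := by
    intro l n j y
    rw [WittFilLib.pow_split m j j.2, mul_assoc, ← Units.val_pow_eq_pow_val, ← Units.val_mul, ← zpow_natCast,
      ← zpow_mul, ← zpow_add]
    congr 3
    push_cast
    ring
  ext y
  constructor
  · intro hy
    refine ⟨WittVector.truncate m (WittVector.teichmuller p ((u ^ (-l) : Bˣ) : B)) * y, fun j => ?_, ?_⟩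
    · rw [mul_comm (WittVector.truncate m _) y, WittFilLib.trunc_mul_teichmuller_coeff]
      have h := hy j
      rw [← key (-l) (n - (p : ℤ) ^ (m - 1) * l)] at h
      rwa [show n - (p : ℤ) ^ (m - 1) * l - (p : ℤ) ^ (m - 1) * -l = n by ring] at h
    · simp only
      rw [← mul_assoc, ← map_mul, ← map_mul, ← Units.val_mul, ← zpow_add, add_neg_cancel, zpow_zero,
        Units.val_one, map_one, map_one, one_mul]
  · rintro ⟨a, ha, rfl⟩ j
    simp only
    rw [mul_comm (WittVector.truncate m _) a, WittFilLib.trunc_mul_teichmuller_coeff, key]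
    exact ha j

end Groth.Agent.S19267
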