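import Groth.Statements.S19268
import Groth.Agent.WittFilLib.Basic
import Mathlib.RingTheory.PowerSeries.Inverse

set_option autoImplicit false
universe u
open WittFil

namespace Groth.Agent.S19268

/-- Let S be an integral domain of characteristic p, A = S[[π]] the power series ring, B = A[1/π] with u
the unit of B given by π, and let m > s ≥ 0 and i be an integer with s = 0 or p ∤ i; put n = p ^
(m−1−s) · i. For e in B write fil(e) for the set of truncated p-typical Witt vectors of length m
over B whose j-th coordinate y_j satisfies y_j ^ (p ^ (m−1−j)) · e ∈ A for all j, and for a Witt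
vector c over S let Φ(c) ∈ W_m(B) be the length-m truncation of V^s(c · [u ^ i]) (V the
Verschiebung, [ ] the Teichmüller map, c mapped to B). Then Φ induces a bijection from the
length-(m−s) truncated Witt vectors of S onto the graded piece fil(u^(−n)) / fil(u^(−n−1)): (1) Φ(c)
lies in fil(u^(−n)) for every c; (2) Φ(c) lies in fil(u^(−n−1)) exactly when the length-(m−s)
truncation of c is zero; (3) every element of fil(u^(−n)) is congruent to some Φ(c) modulo
fil(u^(−n−1)). (Published for S a regular local Noetherian F-finite F_p-algebra; the argument uses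
only that S is a domain.) -/
theorem result (p : ℕ) [Fact p.Prime] {S B : Type u} [CommRing S]
    [IsDomain S] [CharP S p] [CommRing B] [Algebra (PowerSeries S) B] [Algebra S B]
    [IsScalarTower S (PowerSeries S) B] [IsLocalization.Away (PowerSeries.X : PowerSeries S) B]
    (u : Bˣ) (hu : (u : B) = algebraMap (PowerSeries S) B PowerSeries.X) (m s : ℕ) (hs : s < m)
    (i : ℤ) (hsi : s = 0 ∨ ¬ ((p : ℤ) ∣ i)) :
    (∀ c : WittVector p S,
        WittFil.vShiftTeich p m s ((u ^ i : Bˣ) : B) c ∈
          WittFil.fil p m (A := PowerSeries S) ((u ^ (-((p : ℤ) ^ (m - 1 - s) * i)) : Bˣ) : B)) ∧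
      (∀ c : WittVector p S,
        WittFil.vShiftTeich p m s ((u ^ i : Bˣ) : B) c ∈
            WittFil.fil p m (A := PowerSeries S) ((u ^ (-((p : ℤ) ^ (m - 1 - s) * i) - 1) : Bˣ) : B) ↔
          WittVector.truncate (m - s) c = 0) ∧
      (∀ y ∈ WittFil.fil p m (A := PowerSeries S) ((u ^ (-((p : ℤ) ^ (m - 1 - s) * i)) : Bˣ) : B),
        ∃ c : WittVector p S,
          y - WittFil.vShiftTeich p m s ((u ^ i : Bˣ) : B) c ∈
            WittFil.fil p m (A := PowerSeries S)
              ((u ^ (-((p : ℤ) ^ (m - 1 - s) * i) - 1) : Bˣ) : B)) := by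
  have hp : 0 < p := (Fact.out : p.Prime).pos
  let x : Fin 1 → PowerSeries S := fun _ => PowerSeries.X
  have hx : ∀ k, Prime (x k) := fun _ => PowerSeries.X_prime
  have hxa : ∀ a b, Associated (x a) (x b) → a = b := fun a b _ => Subsingleton.elim a b
  haveI : IsLocalization.Away (∏ k, x k) B := by simpa [x] using ‹IsLocalization.Away PowerSeries.X B›
  have hu' : ∀ _k : Fin 1, (u : B) = algebraMap (PowerSeries S) B PowerSeries.X := fun _ => hu
  haveI : CharP (PowerSeries S) p :=
    charP_of_injective_algebraMap (R := S) (A := PowerSeries S) (by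
      intro a b h; exact PowerSeries.C_injective (by simpa [PowerSeries.algebraMap_apply] using h)) p
  haveI : CharP B p := WittFilLib.charP_of_away (p := p) hx hxa hu'
  have hIC : WittFilLib.RootClosed (PowerSeries S) B p := fun w k h =>
    WittFilLib.rootClosed_pow hx hxa hu' (pow_pos hp k) w h
  have hz : ∀ e : ℤ, WittFil.zmon (fun _ : Fin 1 => u) (fun _ => e) = ((u ^ e : Bˣ) : B) := fun e => by
    simp [WittFil.zmon]
  set N : ℤ := (p : ℤ) ^ (m - 1 - s) * i with hN
  set v : B := ((u ^ i : Bˣ) : B) with hv
  let φ : S →+* B := algebraMap S B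
  have hφ : ∀ c, φ c = algebraMap (PowerSeries S) B (PowerSeries.C c) := fun c => by
    show algebraMap S B c = _
    rw [IsScalarTower.algebraMap_apply S (PowerSeries S) B]
    rfl
  -- the power of `v` in the coordinate `t + s` cancels `u ^ (-N)`
  have hcancel : ∀ (e : ℤ) t, t + s < m → ∀ y : B,
      (y * v ^ p ^ t) ^ p ^ (m - 1 - (t + s)) * ((u ^ (-N + e) : Bˣ) : B) =
        y ^ p ^ (m - 1 - (t + s)) * ((u ^ e : Bˣ) : B) := by
    intro e t ht y
    rw [mul_pow, ← pow_mul, ← pow_add, show t + (m - 1 - (t + s)) = m - 1 - s by omega, mul_assoc, hv,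
      ← Units.val_pow_eq_pow_val, ← Units.val_mul, ← zpow_natCast, ← zpow_mul, ← zpow_add]
    congr 3
    rw [hN]; push_cast; ring
  have hcoeff : ∀ (c : WittVector p S) t (ht : t + s < m),
      (WittFil.vShiftTeich p m s v c).coeff ⟨t + s, ht⟩ = φ (c.coeff t) * v ^ p ^ t := by
    intro c t ht
    rw [WittFil.vShiftTeich, WittVector.coeff_truncate, WittVector.iterate_verschiebung_coeff,
      WittFilLib.mul_teichmuller_coeff, WittVector.map_coeff]
  have hlow : ∀ (c : WittVector p S) (j : Fin m), (j : ℕ) < s → (WittFil.vShiftTeich p m s v c).coeff j = 0 := by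
    intro c j hj
    rw [WittFil.vShiftTeich, WittVector.coeff_truncate, WittVector.iterate_verschiebung_coeff_eq_zero _ hj]
  refine ⟨fun c j => ?_, fun c => ⟨fun h => ?_, fun h j => ?_⟩, fun y hy => ?_⟩
  · by_cases hj : (j : ℕ) < s
    · rw [hlow c j hj, zero_pow (pow_ne_zero _ hp.ne'), zero_mul]; exact zero_mem _
    · obtain ⟨t, ht, rfl⟩ : ∃ t, ∃ ht : t + s < m, j = ⟨t + s, ht⟩ := ⟨j - s, by omega, Fin.ext (by simp; omega)⟩
      have h0 := hcancel 0 t ht (φ (c.coeff t))
      rw [add_zero, zpow_zero, Units.val_one, mul_one, ← hcoeff c t ht] at h0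
      simp only
      rw [h0, hφ, ← map_pow]
      exact ⟨_, rfl⟩
  · refine TruncatedWittVector.ext fun k => ?_
    rw [WittVector.coeff_truncate, TruncatedWittVector.coeff_zero]
    have ht : (k : ℕ) + s < m := by omega
    obtain ⟨b, hb⟩ := h ⟨k + s, ht⟩
    rw [hcoeff c k ht, sub_eq_add_neg, hcancel (-1) k ht, hφ, ← map_pow] at hb
    have hb' : algebraMap (PowerSeries S) B (b * PowerSeries.X) =
        algebraMap (PowerSeries S) B (PowerSeries.C (c.coeff k) ^ p ^ (m - 1 - (k + s))) := by
      rw [map_mul, ← hu, hb, mul_assoc, ← Units.val_mul, zpow_neg_one, inv_mul_cancel, Units.val_one, mul_one]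
    have hinj : Function.Injective (algebraMap (PowerSeries S) B) := IsLocalization.injective B
      (powers_le_nonZeroDivisors_of_noZeroDivisors PowerSeries.X_ne_zero)
    have := congrArg PowerSeries.constantCoeff (hinj hb')
    simp only [map_mul, map_pow, PowerSeries.constantCoeff_X, mul_zero, PowerSeries.constantCoeff_C] at this
    exact eq_zero_of_pow_eq_zero this.symm
  · by_cases hj : (j : ℕ) < s
    · rw [hlow c j hj, zero_pow (pow_ne_zero _ hp.ne'), zero_mul]; exact zero_mem _
    · obtain ⟨t, ht, rfl⟩ : ∃ t, ∃ ht : t + s < m, j = ⟨t + s, ht⟩ := ⟨j - s, by omega, Fin.ext (by simp; omega)⟩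
      have := congrArg (TruncatedWittVector.coeff ⟨t, by omega⟩) h
      rw [WittVector.coeff_truncate, TruncatedWittVector.coeff_zero] at this
      rw [hcoeff c t ht, this, map_zero, zero_mul, zero_pow (pow_ne_zero _ hp.ne'), zero_mul]
      exact zero_mem _
  · -- surjectivity
    have hmid : ∀ t (ht : t + s < m), ∃ a : PowerSeries S,
        y.coeff ⟨t + s, ht⟩ = algebraMap (PowerSeries S) B a * v ^ p ^ t := by
      intro t ht
      let w : B := y.coeff ⟨t + s, ht⟩ * ((u ^ (-(i * (p : ℤ) ^ t)) : Bˣ) : B)
      have hwv : w * v ^ p ^ t = y.coeff ⟨t + s, ht⟩ := by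
        rw [mul_assoc, hv, ← Units.val_pow_eq_pow_val, ← Units.val_mul, ← zpow_natCast, ← zpow_mul, ← zpow_add,
          Nat.cast_pow, neg_add_cancel, zpow_zero, Units.val_one, mul_one]
      have h0 := hy ⟨t + s, ht⟩
      rw [← hwv, ← add_zero (-N), hcancel 0 t ht w, zpow_zero, Units.val_one, mul_one] at h0
      obtain ⟨a, ha⟩ := hIC w _ h0
      exact ⟨a, by rw [ha, hwv]⟩
    choose a ha using hmid
    let aW : WittVector p (PowerSeries S) := WittVector.mk p fun t => if h : t + s < m then a t h else 0
    let c : WittVector p S := WittVector.map PowerSeries.constantCoeff aW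
    refine ⟨c, ?_⟩
    let init' : WittVector p B := WittVector.mk p fun j => if j < s then y.out.coeff j else 0
    let z : WittVector p B := WittVector.map (algebraMap (PowerSeries S) B) aW * WittVector.teichmuller p v
    have hy2 : y = WittVector.truncate m init' + WittVector.truncate m (WittVector.verschiebung^[s] z) := by
      rw [← map_add]
      refine TruncatedWittVector.ext fun j => ?_
      rw [WittVector.coeff_truncate, WittVector.coeff_add_of_disjoint]
      · by_cases hj : (j : ℕ) < s
        · rw [WittVector.coeff_mk, if_pos hj, WittVector.iterate_verschiebung_coeff_eq_zero _ hj, add_zero,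
            TruncatedWittVector.coeff_out]
        · obtain ⟨t, ht, rfl⟩ : ∃ t, ∃ ht : t + s < m, j = ⟨t + s, ht⟩ := ⟨j - s, by omega, Fin.ext (by simp; omega)⟩
          rw [WittVector.coeff_mk, if_neg hj, zero_add]
          simp only
          rw [WittVector.iterate_verschiebung_coeff, WittFilLib.mul_teichmuller_coeff, WittVector.map_coeff]
          simp only [aW, WittVector.coeff_mk, dif_pos ht]
          exact ha t ht
      · intro k
        by_cases hk : k < s
        · exact Or.inr (WittVector.iterate_verschiebung_coeff_eq_zero _ hk)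
        · exact Or.inl (by rw [WittVector.coeff_mk, if_neg hk])
    have hsplit : y - WittFil.vShiftTeich p m s v c = WittVector.truncate m init' +
        WittVector.truncate m (WittVector.verschiebung^[s]
          (WittVector.map (algebraMap (PowerSeries S) B) (aW - WittVector.map (PowerSeries.C) c) *
            WittVector.teichmuller p v)) := by
      have hc : WittVector.map (algebraMap S B) c =
          WittVector.map (algebraMap (PowerSeries S) B) (WittVector.map PowerSeries.C c) := by
        refine WittVector.ext fun k => ?_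
        rw [WittVector.map_coeff, WittVector.map_coeff, WittVector.map_coeff]
        exact hφ _
      rw [hy2, WittFil.vShiftTeich, hc, add_sub_assoc, ← map_sub, ← iterate_map_sub, ← sub_mul, map_sub]
    rw [hsplit]
    refine WittFilLib.add_mem hIC (fun j => ?_) (fun j => ?_)
    · rw [WittVector.coeff_truncate, WittVector.coeff_mk]
      split_ifs with hj
      · rw [TruncatedWittVector.coeff_out]
        have h0 := hy j
        rw [← hz, WittFilLib.pow_mul_zmon_mem_iff hx hxa hu' (pow_pos hp _)] at h0 ⊢
        convert h0 using 4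
        -- the exponent is not divisible by the power of `p`
        have hnd : ¬ ((p ^ (m - 1 - (j : ℕ)) : ℕ) : ℤ) ∣ -N := by
          intro hd
          rw [Int.dvd_neg, hN, show m - 1 - (j : ℕ) = (m - 1 - s) + (s - j) by omega, pow_add, Nat.cast_mul,
            Nat.cast_pow, mul_dvd_mul_iff_left (pow_ne_zero _ (Int.natCast_ne_zero.2 hp.ne'))] at hd
          rcases hsi with h | h
          · omega
          · exact h (dvd_trans (by rw [Nat.cast_pow]; exact dvd_pow_self _ (by omega)) hd)
        have hP : (0 : ℤ) < ((p ^ (m - 1 - (j : ℕ)) : ℕ) : ℤ) := by exact_mod_cast pow_pos hp _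
        generalize ((p ^ (m - 1 - (j : ℕ)) : ℕ) : ℤ) = P at hnd hP ⊢
        have e1 := Int.ediv_mul_add_emod (-N) P
        have e2 : (-N) % P ≠ 0 := fun h => hnd (Int.dvd_of_emod_eq_zero h)
        have e3 := Int.emod_nonneg (-N) hP.ne'
        have e4 := Int.emod_lt_of_pos (-N) hP
        exact ((Int.ediv_emod_unique hP).2 ⟨show (-N) % P - 1 + P * ((-N) / P) = -N - 1 by linarith, by omega, by omega⟩).1
      · rw [zero_pow (pow_ne_zero _ hp.ne'), zero_mul]; exact zero_mem _
    · rw [WittVector.coeff_truncate]
      by_cases hj : (j : ℕ) < s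
      · rw [WittVector.iterate_verschiebung_coeff_eq_zero _ hj, zero_pow (pow_ne_zero _ hp.ne'), zero_mul]
        exact zero_mem _
      · obtain ⟨t, ht, rfl⟩ : ∃ t, ∃ ht : t + s < m, j = ⟨t + s, ht⟩ := ⟨j - s, by omega, Fin.ext (by simp; omega)⟩
        simp only
        set d := aW - WittVector.map PowerSeries.C c
        have hd : PowerSeries.constantCoeff (d.coeff t) = 0 := by
          rw [← WittVector.map_coeff, show WittVector.map PowerSeries.constantCoeff d = 0 by
            rw [map_sub, sub_eq_zero]
            exact WittVector.ext fun k => by simp [c, WittVector.map_coeff]]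
          exact WittVector.zero_coeff _ _ _
        obtain ⟨b, hb⟩ := PowerSeries.X_dvd_iff.2 hd
        rw [WittVector.iterate_verschiebung_coeff, WittFilLib.mul_teichmuller_coeff, WittVector.map_coeff, hb,
          sub_eq_add_neg, hcancel (-1) t ht, map_mul, ← hu]
        obtain ⟨k, hk⟩ : ∃ k, p ^ (m - 1 - (t + s)) = k + 1 := ⟨p ^ (m - 1 - (t + s)) - 1, by
          have : 0 < p ^ (m - 1 - (t + s)) := pow_pos hp _
          omega⟩
        refine ⟨b * (PowerSeries.X * b) ^ k, ?_⟩
        rw [hk, map_mul, map_pow, map_mul, ← hu, pow_succ', zpow_neg_one]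
        rw [mul_assoc (u : B) (algebraMap _ B b), mul_comm ((u : B) * _) ((u⁻¹ : Bˣ) : B), ← mul_assoc,
          Units.inv_mul, one_mul]

end Groth.Agent.S19268
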