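import Groth.Statements.S19269
import Mathlib.RingTheory.AdicCompletion.AsTensorProduct
import Mathlib.RingTheory.Filtration

set_option autoImplicit false
universe u
open CAlg

namespace Groth.Agent.S19269

open IsLocalRing in
/-- Let R be a Noetherian local ring with maximal ideal 𝔪, M a finitely generated R-module and M^ its
𝔪-adic completion, a module over the 𝔪-adic completion R^ of R. Let N' be an R^-submodule of M^ and
N an R-submodule of M whose image in M^ is contained in N' and is dense in N' for the 𝔪-adic
topology, in the sense that for every y in N' and every k there is x in N with y ≡ x modulo the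
kernel of M^ → M/𝔪^k M. Then N' equals the image of the completion of N under the map induced by the
inclusion N → M (so N' is the completion of N), and N is the set of elements of M whose image in M^
lies in N'. -/
theorem result {R : Type u} [CommRing R]
    [IsNoetherianRing R] [IsLocalRing R] {M : Type u} [AddCommGroup M] [Module R M]
    [Module.Finite R M] (N : Submodule R M)
    (N' : Submodule (AdicCompletion (maximalIdeal R) R) (AdicCompletion (maximalIdeal R) M))
    (hle : ∀ x ∈ N, AdicCompletion.of (maximalIdeal R) M x ∈ N')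
    (hdense : ∀ y ∈ N', ∀ k : ℕ, ∃ x ∈ N,
      AdicCompletion.eval (maximalIdeal R) M k y = Submodule.Quotient.mk x) :
    (N'.restrictScalars R =
        (LinearMap.range (AdicCompletion.map (maximalIdeal R) N.subtype)).restrictScalars R) ∧
      (∀ x : M, x ∈ N ↔ AdicCompletion.of (maximalIdeal R) M x ∈ N') := by
  have hspan : ∀ z : AdicCompletion (maximalIdeal R) N, AdicCompletion.map (maximalIdeal R) N.subtype z ∈ N' := fun z => by
    obtain ⟨w, rfl⟩ := AdicCompletion.ofTensorProduct_surjective_of_finite (maximalIdeal R) N z
    induction w using TensorProduct.induction_on with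
    | zero => simp
    | add a b ha hb => rw [map_add, map_add]; exact add_mem ha hb
    | tmul r x =>
      rw [AdicCompletion.ofTensorProduct_tmul, map_smul, AdicCompletion.map_of]
      exact N'.smul_mem r (hle x x.2)
  obtain ⟨c, hc⟩ := Ideal.exists_pow_inf_eq_pow_smul (maximalIdeal R) N
  constructor
  · refine le_antisymm (fun y hy => ?_) ?_
    · choose x hxN hx using hdense y hy
      have hcauchy : ∀ j, x j - x (j + 1) ∈ ((maximalIdeal R) ^ j • ⊤ : Submodule R M) := fun j => by
        rw [← Submodule.Quotient.eq]
        refine (hx j).symm.trans ?_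
        have h := y.2 (Nat.le_succ j)
        show y.val j = _
        rw [← h, show y.val j.succ = Submodule.Quotient.mk (x (j + 1)) from hx (j + 1)]
        rfl
      have hN : ∀ j, (⟨x (j + c), hxN _⟩ : N) - ⟨x (j + 1 + c), hxN _⟩ ∈ ((maximalIdeal R) ^ j • ⊤ : Submodule R N) := fun j => by
        have h1 : x (j + c) - x (j + 1 + c) ∈ (maximalIdeal R) ^ (j + c) • ⊤ ⊓ N :=
          ⟨by rw [show j + 1 + c = j + c + 1 by omega]; exact hcauchy _, sub_mem (hxN _) (hxN _)⟩
        rw [hc (j + c) (by omega), Nat.add_sub_cancel] at h1
        have h2 := Submodule.smul_mono (le_refl ((maximalIdeal R) ^ j)) (inf_le_right : (maximalIdeal R) ^ c • ⊤ ⊓ N ≤ N) h1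
        exact (Submodule.mem_smul_top_iff ((maximalIdeal R) ^ j) N _).mpr h2
      let seq : AdicCompletion.AdicCauchySequence (maximalIdeal R) N :=
        AdicCompletion.AdicCauchySequence.mk (maximalIdeal R) N (fun j => ⟨x (j + c), hxN _⟩) fun j => SModEq.sub_mem.mpr (hN j)
      refine ⟨AdicCompletion.mk (maximalIdeal R) N seq, AdicCompletion.ext fun k => ?_⟩
      rw [AdicCompletion.map_mk]
      show Submodule.Quotient.mk ((x (k + c) : M)) = AdicCompletion.eval (maximalIdeal R) M k y
      show _ = y.val k
      rw [← y.2 (Nat.le_add_right k c), show y.val (k + c) = Submodule.Quotient.mk (x (k + c)) from hx (k + c)]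
      rfl
    · rintro _ ⟨z, rfl⟩
      exact hspan z
  · refine fun x => ⟨hle x, fun hx => ?_⟩
    have h0 : N.mkQ x ∈ (⨅ i : ℕ, (maximalIdeal R) ^ i • ⊤ : Submodule R (M ⧸ N)) := by
      rw [Submodule.mem_iInf]
      intro k
      obtain ⟨z, hz, hxz⟩ := hdense _ hx k
      rw [AdicCompletion.eval_of, Submodule.mkQ_apply, Submodule.Quotient.eq] at hxz
      rw [show N.mkQ x = N.mkQ (x - z) by rw [map_sub, show N.mkQ z = 0 from (Submodule.Quotient.mk_eq_zero _).mpr hz, sub_zero]]
      exact Submodule.smul_mono le_rfl le_top
        ((Submodule.map_smul'' ((maximalIdeal R) ^ k) ⊤ N.mkQ).le (Submodule.mem_map_of_mem hxz))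
    rw [Ideal.iInf_pow_smul_eq_bot_of_isLocalRing (M := M ⧸ N) (maximalIdeal R) (maximalIdeal.isMaximal R).ne_top, Submodule.mem_bot,
      Submodule.mkQ_apply, Submodule.Quotient.mk_eq_zero] at h0
    exact h0

end Groth.Agent.S19269
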