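import Groth.Statements.S19270
import Groth.Agent.ComplDeriv.SmoothFree
import Groth.Agent.EGA41Lib.Separable

set_option autoImplicit false
universe u
open CAlg

namespace Groth.Agent.S19270

open IsLocalRing TensorProduct in
/-- Over a perfect field the differentials of a regular system of parameters are part of a basis. -/
theorem exists_basis_extending {k A : Type u} [Field k] [Subsingleton Ω[k⁄ℤ]] [CommRing A] [IsRegularLocalRing A]
    [Algebra k A] [Module.Free A Ω[A⁄k]] [Module.Finite A Ω[A⁄k]]
    {N : ℕ} (x : Fin N → A) (hx : Ideal.span (Set.range x) = maximalIdeal A)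
    (hN : ringKrullDim A = (N : WithBot ℕ∞)) :
    ∃ (ι : Type u) (b : Module.Basis ι A Ω[A⁄k]) (e : Fin N ↪ ι),
      ∀ i : Fin N, b (e i) = KaehlerDifferential.D k A (x i) := by
  classical
  let K := ResidueField A
  let V := K ⊗[A] Ω[A⁄k]
  let π := KaehlerDifferential.mapBaseChange k A K
  have hπ : Function.Surjective π := KaehlerDifferential.mapBaseChange_surjective k A K residue_surjective
  have : Module.Finite K Ω[K⁄k] := Module.Finite.of_surjective π hπ
  have : Algebra.FormallySmooth k K := EGA41Lib.formallySmooth_iff_isGeometricallyReduced.mpr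
    (EGA41Lib.isGeometricallyReduced_iff_injective.mpr (Function.injective_of_subsingleton _))
  have hcot := ComplDeriv.finrank_residue_kaehler_of_formallySmooth k A
  have hN' : Module.finrank K (CotangentSpace A) = N := by
    have h := (IsRegularLocalRing.iff_finrank_cotangentSpace A).mp ‹_›
    rw [hN] at h
    exact_mod_cast h
  let t : Fin N → V := fun i => (1 : K) ⊗ₜ[A] KaehlerDifferential.D k A (x i)
  have hker : LinearMap.ker π ≤ Submodule.span K (Set.range t) := by
    intro z hz
    obtain ⟨c, rfl⟩ := (KaehlerDifferential.exact_kerCotangentToTensor_mapBaseChange k A K residue_surjective z).mp hz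
    obtain ⟨⟨a, ha⟩, rfl⟩ := Ideal.toCotangent_surjective _ c
    rw [KaehlerDifferential.kerCotangentToTensor_toCotangent]
    have ha' : a ∈ Ideal.span (Set.range x) := by
      rw [hx]; exact (residue_eq_zero_iff a).mp (RingHom.mem_ker.mp ha)
    change (1 : K) ⊗ₜ[A] KaehlerDifferential.D k A a ∈ _
    clear ha hz
    induction ha' using Submodule.span_induction with
    | mem y hy => obtain ⟨i, rfl⟩ := hy; exact Submodule.subset_span ⟨i, rfl⟩
    | zero => simp
    | add u v _ _ hu hv => simpa only [map_add, TensorProduct.tmul_add] using add_mem hu hv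
    | smul c y hy ih =>
      rw [smul_eq_mul, Derivation.leibniz, TensorProduct.tmul_add, TensorProduct.tmul_smul, TensorProduct.tmul_smul]
      refine add_mem ((Submodule.span K (Set.range t)).smul_of_tower_mem c ih) ?_
      have h0 : residue A y = 0 := (residue_eq_zero_iff y).mpr (hx ▸ hy)
      rw [TensorProduct.smul_tmul', Algebra.smul_def, ResidueField.algebraMap_eq, h0, zero_mul, TensorProduct.zero_tmul]
      exact Submodule.zero_mem _
  have : Module.Finite K V := inferInstance
  have hli : LinearIndependent K t := by
    rw [linearIndependent_iff_card_le_finrank_span, Fintype.card_fin]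
    have r := π.finrank_range_add_finrank_ker
    rw [LinearMap.range_eq_top.mpr hπ, finrank_top] at r
    have hle := Submodule.finrank_mono hker
    unfold Set.finrank
    have h2 : N ≤ Module.finrank K (LinearMap.ker π) := by
      simp only [K] at r hcot hN' ⊢
      omega
    exact h2.trans hle
  let β := Module.Basis.sumExtend hli
  have : Fintype (Fin N ⊕ Module.Basis.sumExtendIndex hli) := FiniteDimensional.fintypeBasisIndex β
  have hs : Function.Surjective (TensorProduct.mk A K Ω[A⁄k] 1) :=
    TensorProduct.mk_surjective A Ω[A⁄k] K residue_surjective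
  choose w hw using fun j => hs (β (Sum.inr j))
  let v : Fin N ⊕ Module.Basis.sumExtendIndex hli → Ω[A⁄k] :=
    Sum.elim (fun i => KaehlerDifferential.D k A (x i)) w
  have hv : ∀ j, (1 : K) ⊗ₜ[A] v j = β j := by
    rintro (i | j)
    · change t i = β (Sum.inl i)
      simp [β, Module.Basis.sumExtend]
      rfl
    · exact hw j
  have hspan := span_eq_top_of_tmul_eq_basis v β hv
  have hcard : Fintype.card (Fin N ⊕ Module.Basis.sumExtendIndex hli) = Module.finrank A Ω[A⁄k] := by
    rw [← Module.finrank_eq_card_basis β, Module.finrank_baseChange]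
  refine ⟨_, basisOfTopLeSpanOfCardEqFinrank v hspan.ge hcard, ⟨Sum.inl, Sum.inl_injective⟩, fun i => ?_⟩
  rw [coe_basisOfTopLeSpanOfCardEqFinrank]
  rfl

open IsLocalRing in
/-- Let A be a regular local ring of prime characteristic p, of Krull dimension N, with maximal ideal
generated by x_1, …, x_N, and assume that the module Ω_A of absolute Kähler differentials of A
(differentials relative to ℤ, equivalently relative to the prime field) is a free A-module of finite
rank. Then dx_1, …, dx_N are part of a basis of Ω_A: there exist a basis b of Ω_A and an injection e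
of the indices 1, …, N into the index type of b with b (e i) = d(x_i) for all i. (In the published
statement A is a regular local F-finite algebra over the prime field and the freeness and finiteness
of Ω_A form the first assertion, taken there from the literature; here they are hypotheses.) -/
theorem result (p : ℕ) [Fact p.Prime]
    {A : Type u} [CommRing A] [IsRegularLocalRing A] [CharP A p]
    [Module.Free A (KaehlerDifferential ℤ A)] [Module.Finite A (KaehlerDifferential ℤ A)]
    {N : ℕ} (x : Fin N → A) (hx : Ideal.span (Set.range x) = maximalIdeal A)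
    (hN : ringKrullDim A = (N : WithBot ℕ∞)) :
    ∃ (ι : Type u) (b : Module.Basis ι A (KaehlerDifferential ℤ A)) (e : Fin N ↪ ι),
      ∀ i : Fin N, b (e i) = KaehlerDifferential.D ℤ A (x i) := by
  classical
  let k := ULift.{u} (ZMod p)
  let _ : Algebra k A := ((ZMod.castHom (dvd_refl p) A).comp ULift.ringEquiv.toRingHom).toAlgebra
  have : Finite k := Finite.of_equiv _ Equiv.ulift.symm
  have : IsScalarTower ℤ k A := IsScalarTower.of_algebraMap_eq' (Subsingleton.elim _ _)
  have hsurj : Function.Surjective (algebraMap ℤ k) := fun y => by
    obtain ⟨n, hn⟩ := ZMod.intCast_surjective y.down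
    exact ⟨n, ULift.ext _ _ (by rw [eq_intCast, ULift.down_intCast, hn])⟩
  have : Subsingleton Ω[k⁄ℤ] := KaehlerDifferential.subsingleton_of_surjective ℤ k hsurj
  let φ := KaehlerDifferential.map ℤ k A A
  have hinj : Function.Injective φ := by
    rw [← LinearMap.ker_eq_bot, eq_bot_iff]
    intro z hz
    obtain ⟨u, rfl⟩ := (KaehlerDifferential.exact_mapBaseChange_map ℤ k A z).mp hz
    rw [Subsingleton.elim u 0, map_zero]
    exact Submodule.zero_mem _
  let e := LinearEquiv.ofBijective φ ⟨hinj, KaehlerDifferential.map_surjective ℤ k A⟩
  have : Module.Free A Ω[A⁄k] := Module.Free.of_equiv e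
  have : Module.Finite A Ω[A⁄k] := Module.Finite.equiv e
  obtain ⟨ι, b, f, hb⟩ := exists_basis_extending (k := k) x hx hN
  refine ⟨ι, b.map e.symm, f, fun i => ?_⟩
  rw [Module.Basis.map_apply, hb, LinearEquiv.symm_apply_eq]
  exact (KaehlerDifferential.map_D ℤ k A A (x i)).symm

end Groth.Agent.S19270
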