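import Groth.Statements.S19277
import Groth.Agent.CycLoc.Basic

set_option autoImplicit false
universe u v
open GrpAlg

namespace Groth.Agent.S19277

/-- Let `M` be a commutative group, `B ≠ B'` subgroups of finite index with `M ⧸ B` and `M ⧸ B'` cyclic,
and `Λ` a commutative ring in which both indices are invertible. Then the localization of the
`Λ[M]`-module `Λ[M ⧸ B]/(Φ_{|M/B|})` at the multiplicative subset of `Λ[M]` of elements with image
`1` in `Λ[M ⧸ B']/(Φ_{|M/B'|})` is zero. (In terms of group schemes: for two distinct dual cyclic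
subgroups σ, σ' of the diagonalizable group with character group `M`, the ring R̃(σ) with
coefficients in `Λ` vanishes after localization at σ'. The published statement has a split torus,
i.e. `M` free of finite rank, and `Λ = ℤ[1/N]` for `N` the order of the subgroup generated by σ and
σ'; here `M` is any commutative group and `Λ` any commutative ring in which the orders of σ and σ'
are invertible.) -/
theorem result (Λ : Type u) [CommRing Λ] (M : Type v)
    [AddCommGroup M] (B B' : AddSubgroup M) [B.FiniteIndex] [B'.FiniteIndex]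
    [IsAddCyclic (M ⧸ B)] [IsAddCyclic (M ⧸ B')] (hne : B ≠ B')
    (hu : IsUnit ((B.index * B'.index : ℕ) : Λ)) :
    Subsingleton (LocalizedModule (W4c6equivkfinstab.locSubmonoid Λ M B')
      (W4c6equivkfinstab.CycQuot Λ (M ⧸ B))) := by

  rw [Nat.cast_mul, IsUnit.mul_iff] at hu
  refine Groth.Agent.CycLoc.subsingleton_localizedModule Λ M B'
    (RingHom.ker (W4c6equivkfinstab.cycQuotMap Λ M B)) (fun a ha x => ?_) fun 𝔪 hm h₁ h₂ => hne ?_
  · obtain ⟨y, rfl⟩ := Ideal.Quotient.mk_surjective x
    change Ideal.Quotient.mk _ (W4c6equivkfinstab.quotMap Λ M B a * y) = 0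
    rw [map_mul, show Ideal.Quotient.mk _ (W4c6equivkfinstab.quotMap Λ M B a) = 0 from ha, zero_mul]
  · ext m
    rw [← Groth.Agent.CycLoc.mem_iff_eq_one Λ M B (Ideal.Quotient.mk 𝔪) (by rw [Ideal.mk_ker]; exact h₁)
        (Groth.Agent.CycLoc.natCast_ne_zero_of_isUnit Λ M hu.1) m,
      Groth.Agent.CycLoc.mem_iff_eq_one Λ M B' (Ideal.Quotient.mk 𝔪) (by rw [Ideal.mk_ker]; exact h₂)
        (Groth.Agent.CycLoc.natCast_ne_zero_of_isUnit Λ M hu.2) m]

end Groth.Agent.S19277
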