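import Groth.Statements.S19278
import Groth.Agent.CycLoc.Basic

set_option autoImplicit false
universe u v
open GrpAlg

namespace Groth.Agent.S19278

/-- Let `M` be a commutative group, `B₀` a subgroup of finite index, `B` a subgroup of finite index with
`M ⧸ B` cyclic and `B₀` not contained in `B`, and `Λ` a commutative ring in which the indices of
`B₀` and `B` are invertible. Then the localization of the `Λ[M]`-module `Λ[M ⧸ B₀]` at the
multiplicative subset of `Λ[M]` of elements with image `1` in `Λ[M ⧸ B]/(Φ_{|M/B|})` is zero. (In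
terms of group schemes: for a finite closed subgroup T' = D(M/B₀) of the diagonalizable group with
character group `M` and a dual cyclic subgroup σ = D(M/B) not contained in T', the representation
ring of T' with coefficients in `Λ` vanishes after localization at σ. The published statement has a
split torus and `Λ = ℤ[1/N]`; here `M` is any commutative group and `Λ` any commutative ring in
which the orders of T' and σ are invertible.) -/
theorem result (Λ : Type u) [CommRing Λ]
    (M : Type v) [AddCommGroup M] (B₀ B : AddSubgroup M) [B₀.FiniteIndex] [B.FiniteIndex]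
    [IsAddCyclic (M ⧸ B)] (hle : ¬ B₀ ≤ B) (hu : IsUnit ((B₀.index * B.index : ℕ) : Λ)) :
    Subsingleton (LocalizedModule (W4c6equivkfinstab.locSubmonoid Λ M B)
      (AddMonoidAlgebra Λ (M ⧸ B₀))) := by

  rw [Nat.cast_mul, IsUnit.mul_iff] at hu
  refine Groth.Agent.CycLoc.subsingleton_localizedModule Λ M B
    (RingHom.ker (W4c6equivkfinstab.quotMap Λ M B₀)) (fun a ha x => ?_) fun 𝔪 hm h₁ h₂ => hle fun b hb => ?_
  · change W4c6equivkfinstab.quotMap Λ M B₀ a * x = 0
    rw [RingHom.mem_ker.1 ha, zero_mul]
  · rw [← Groth.Agent.CycLoc.mem_iff_eq_one Λ M B (Ideal.Quotient.mk 𝔪) (by rw [Ideal.mk_ker]; exact h₂)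
      (Groth.Agent.CycLoc.natCast_ne_zero_of_isUnit Λ M hu.2) b, ← sub_eq_zero]
    have : AddMonoidAlgebra.single b (1 : Λ) - 1 ∈ 𝔪 := h₁ (by
      rw [RingHom.mem_ker, map_sub, map_one, Groth.Agent.CycLoc.quotMap_single,
        (QuotientAddGroup.eq_zero_iff b).2 hb]
      exact sub_self _)
    rw [← map_one (Ideal.Quotient.mk 𝔪), ← map_sub, Ideal.Quotient.eq_zero_iff_mem]
    exact this

end Groth.Agent.S19278
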