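import Groth.Statements.S19279
import Mathlib
import Groth.Agent.CycCRT.Basic
-- import your own Groth.Agent.* helpers here

set_option autoImplicit false
universe u v
open GrpAlg

namespace Groth.Agent.S19279

open W4c6equivkfinstab

section
variable {Λ : Type u} [CommRing Λ] {M : Type v} [AddCommGroup M] {B₀ B : AddSubgroup M}

lemma zero_iff (hB : B₀ ≤ B) (x : AddMonoidAlgebra Λ M) :
    cycQuotMap Λ M B x = 0 ↔
      cycQuotMap Λ (M ⧸ B₀) (B.map (QuotientAddGroup.mk' B₀)) (quotMap Λ M B₀ x) = 0 := by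
  let e : M ⧸ B ≃+ (M ⧸ B₀) ⧸ B.map (QuotientAddGroup.mk' B₀) :=
    (QuotientAddGroup.quotientQuotientEquivQuotient B₀ B hB).symm
  have he : e.toAddMonoidHom.comp (QuotientAddGroup.mk' B) =
      (QuotientAddGroup.mk' (B.map (QuotientAddGroup.mk' B₀))).comp (QuotientAddGroup.mk' B₀) := by
    ext m; rfl
  have hm : quotMap Λ (M ⧸ B₀) (B.map (QuotientAddGroup.mk' B₀)) (quotMap Λ M B₀ x) =
      AddMonoidAlgebra.mapDomainRingHom Λ e.toAddMonoidHom (quotMap Λ M B x) := by
    simp only [quotMap, ← RingHom.comp_apply, ← AddMonoidAlgebra.mapDomainRingHom_comp, he]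
  have hm' : AddMonoidAlgebra.mapDomainRingHom Λ e.symm.toAddMonoidHom
      (AddMonoidAlgebra.mapDomainRingHom Λ e.toAddMonoidHom (quotMap Λ M B x)) = quotMap Λ M B x := by
    have h1 : e.symm.toAddMonoidHom.comp e.toAddMonoidHom = AddMonoidHom.id _ := AddMonoidHom.ext e.symm_apply_apply
    rw [← RingHom.comp_apply, ← AddMonoidAlgebra.mapDomainRingHom_comp, h1]
    simp
  constructor <;> intro h <;> refine Ideal.Quotient.eq_zero_iff_mem.2 ?_
  · rw [hm]
    exact Groth.Agent.CycCRT.map_cycIdeal e.toAddMonoidHom e.bijective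
      (Ideal.mem_map_of_mem _ (Ideal.Quotient.eq_zero_iff_mem.1 h))
  · rw [← hm', ← hm]
    exact Groth.Agent.CycCRT.map_cycIdeal e.symm.toAddMonoidHom e.symm.bijective
      (Ideal.mem_map_of_mem _ (Ideal.Quotient.eq_zero_iff_mem.1 h))

lemma one_iff (hB : B₀ ≤ B) (x : AddMonoidAlgebra Λ M) :
    cycQuotMap Λ M B x = 1 ↔
      cycQuotMap Λ (M ⧸ B₀) (B.map (QuotientAddGroup.mk' B₀)) (quotMap Λ M B₀ x) = 1 := by
  have := zero_iff (Λ := Λ) hB (x - 1)
  simpa [sub_eq_zero] using this

end


/-- Let `M` be a commutative group, `B₀` a subgroup of finite index and `Λ` a commutative ring in which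
the index of `B₀` is invertible. Then the `Λ[M]`-linear map from `Λ[M ⧸ B₀]` to the product, over
the subgroups `B ⊇ B₀` with `M ⧸ B` cyclic, of the localizations of `Λ[M ⧸ B₀]` at the
multiplicative subsets of `Λ[M]` of elements with image `1` in `Λ[M ⧸ B]/(Φ_{|M/B|})`, with
components the localization maps, is bijective. (In terms of group schemes: for a finite closed
subgroup T' = D(M/B₀) of the diagonalizable group with character group `M`, the representation ring
of T' with coefficients in `Λ` is the product of its localizations at the dual cyclic subgroups of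
T'. The published statement has a split torus and `Λ = ℤ[1/|T'|]`; here `M` is any commutative group
and `Λ` any commutative ring in which the order of T' is invertible.) -/
theorem result (Λ : Type u) [CommRing Λ]
    (M : Type v) [AddCommGroup M] (B₀ : AddSubgroup M) [B₀.FiniteIndex]
    (hu : IsUnit ((B₀.index : ℕ) : Λ)) :
    Function.Bijective (LinearMap.pi (R := AddMonoidAlgebra Λ M)
      fun B : {B : AddSubgroup M // B₀ ≤ B ∧ IsAddCyclic (M ⧸ B)} =>
        LocalizedModule.mkLinearMap (W4c6equivkfinstab.locSubmonoid Λ M B.1)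
          (AddMonoidAlgebra Λ (M ⧸ B₀))) := by
  classical
  haveI : Finite (M ⧸ B₀) := AddSubgroup.finite_quotient_of_finiteIndex
  have hbij := Groth.Agent.CycCRT.bijective Λ (M ⧸ B₀) hu
  let C : {B : AddSubgroup M // B₀ ≤ B ∧ IsAddCyclic (M ⧸ B)} →
      {C : AddSubgroup (M ⧸ B₀) // IsAddCyclic ((M ⧸ B₀) ⧸ C)} := fun B =>
    ⟨B.1.map (QuotientAddGroup.mk' B₀), by
      haveI := B.2.2
      exact isAddCyclic_of_surjective (QuotientAddGroup.quotientQuotientEquivQuotient B₀ B.1 B.2.1).symm.toAddMonoidHom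
        (AddEquiv.surjective _)⟩
  let p : (B : {B : AddSubgroup M // B₀ ≤ B ∧ IsAddCyclic (M ⧸ B)}) →
      AddMonoidAlgebra Λ (M ⧸ B₀) →+* W4c6equivkfinstab.CycQuot Λ ((M ⧸ B₀) ⧸ (C B).1) :=
    fun B => W4c6equivkfinstab.cycQuotMap Λ (M ⧸ B₀) (C B).1
  have hC : Function.Bijective C := by
    refine ⟨fun B B' h => Subtype.ext ?_, fun D => ?_⟩
    · have h1 := congrArg (fun D => AddSubgroup.comap (QuotientAddGroup.mk' B₀) D.1) h
      simpa [C, AddSubgroup.comap_map_eq, sup_eq_left.2 B.2.1, sup_eq_left.2 B'.2.1] using h1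
    · have hle : B₀ ≤ D.1.comap (QuotientAddGroup.mk' B₀) := fun m hm => by
        simp [(QuotientAddGroup.eq_zero_iff m).2 hm]
      have hmap : (D.1.comap (QuotientAddGroup.mk' B₀)).map (QuotientAddGroup.mk' B₀) = D.1 :=
        AddSubgroup.map_comap_eq_self_of_surjective (QuotientAddGroup.mk'_surjective B₀) _
      refine ⟨⟨_, hle, ?_⟩, Subtype.ext hmap⟩
      haveI := D.2
      let e := (QuotientAddGroup.quotientAddEquivOfEq hmap.symm).trans
        (QuotientAddGroup.quotientQuotientEquivQuotient B₀ _ hle)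
      exact isAddCyclic_of_surjective e.toAddMonoidHom e.surjective
  have hinj : ∀ x, (∀ B, p B x = 0) → x = 0 := fun x h => hbij.1 (by
    rw [map_zero]
    funext D
    obtain ⟨B, rfl⟩ := hC.2 D
    exact h B)
  have hp : ∀ B (a : AddMonoidAlgebra Λ M) x, a ∈ W4c6equivkfinstab.locSubmonoid Λ M B.1 → p B (a • x) = p B x := by
    intro B a x ha
    have h1 : p B (W4c6equivkfinstab.quotMap Λ M B₀ a) = 1 := (one_iff B.2.1 a).1 ha
    rw [Algebra.smul_def, map_mul]
    exact (congrArg (· * p B x) h1).trans (one_mul (p B x))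
  have hker : ∀ B x, p B x = 0 → ∃ a ∈ W4c6equivkfinstab.locSubmonoid Λ M B.1, a • x = 0 := by
    intro B x hx
    obtain ⟨e, he⟩ := hbij.2 (Pi.single (C B) 1)
    obtain ⟨a, rfl⟩ := Groth.Agent.CycLoc.quotMap_surjective Λ M B₀ e
    refine ⟨a, (one_iff B.2.1 a).2 ((congrFun he (C B)).trans (Pi.single_eq_same _ _)), hinj _ fun B' => ?_⟩
    rw [Algebra.smul_def, map_mul]
    rcases eq_or_ne B' B with rfl | hne
    · exact (congrArg (p B' (W4c6equivkfinstab.quotMap Λ M B₀ a) * ·) hx).trans (mul_zero (p B' (W4c6equivkfinstab.quotMap Λ M B₀ a)))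
    · have : p B' (W4c6equivkfinstab.quotMap Λ M B₀ a) = 0 :=
        (congrFun he (C B')).trans (Pi.single_eq_of_ne (fun h => hne (hC.1 h)) _)
      exact (congrArg (· * p B' x) this).trans (zero_mul (p B' x))
  refine ⟨(injective_iff_map_eq_zero _).2 fun x hx => hinj x fun B => ?_, fun z => ?_⟩
  · obtain ⟨⟨a, ha⟩, h⟩ := (IsLocalizedModule.eq_zero_iff (W4c6equivkfinstab.locSubmonoid Λ M B.1)
      (LocalizedModule.mkLinearMap _ (AddMonoidAlgebra Λ (M ⧸ B₀)))).1 (congrFun hx B)
    rw [← hp B a x ha]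
    exact (congrArg (p B) h).trans (map_zero _)
  · choose y hy using fun B => IsLocalizedModule.surj (W4c6equivkfinstab.locSubmonoid Λ M B.1)
      (LocalizedModule.mkLinearMap _ (AddMonoidAlgebra Λ (M ⧸ B₀))) (z B)
    obtain ⟨x, hx⟩ := hbij.2 fun D => W4c6equivkfinstab.cycQuotMap Λ (M ⧸ B₀) D.1 ((y (Function.surjInv hC.2 D)).1)
    refine ⟨x, funext fun B => ?_⟩
    change LocalizedModule.mkLinearMap _ _ x = z B
    have hx' : p B x = p B (y B).1 := by
      have h1 := congrFun hx (C B)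
      rw [Function.leftInverse_surjInv hC B] at h1
      exact h1
    let a := (y B).2
    obtain ⟨b, hb, hb0⟩ := hker B ((a : AddMonoidAlgebra Λ M) • x - (y B).1) (by rw [map_sub, hp B _ _ a.2, hx', sub_self])
    have hunit := IsLocalizedModule.map_units (LocalizedModule.mkLinearMap (W4c6equivkfinstab.locSubmonoid Λ M B.1)
      (AddMonoidAlgebra Λ (M ⧸ B₀))) a
    refine ((Module.End.isUnit_iff _).1 hunit).1 ?_
    rw [Module.algebraMap_end_apply, Module.algebraMap_end_apply, ← map_smul]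
    refine Eq.trans ?_ (hy B).symm
    rw [← sub_eq_zero, ← map_sub, IsLocalizedModule.eq_zero_iff (W4c6equivkfinstab.locSubmonoid Λ M B.1)
      (LocalizedModule.mkLinearMap _ (AddMonoidAlgebra Λ (M ⧸ B₀)))]
    exact ⟨⟨b, hb⟩, hb0⟩

end Groth.Agent.S19279
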