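import Groth.Statements.S19280
import Groth.Agent.DiagGrp.Conj

set_option autoImplicit false
universe u
open CategoryTheory MonoidalCategory CartesianMonoidalCategory MonObj GrpObj AlgebraicGeometry
open AlgGrp

namespace Groth.Agent.S19280

open CoactBr Groth.Agent.DiagGrp

/-- Let `k` be a field with an algebraic closure `K`, `m ≥ 0`, `n > 0`, and let `σ`, `τ` be closed
subgroup schemes of `GL_{m,k}`, each isomorphic as a `k`-group scheme to `μ_n = D(ℤ/n)`. If after
base change to `K` there are a `K`-point `g` of `GL_m` and an isomorphism `σ_K ≅ τ_K` through which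
conjugation by `g` carries the inclusion of `σ_K` to that of `τ_K`, then there are already a
`k`-rational point of `GL_{m,k}` and an isomorphism `σ ≅ τ` with the same property. (This is the
first of the two rationality conditions, stated for all dual cyclic subgroups rather than only for
those with a fixed point on a given algebraic space, which is what the printed argument establishes
and which gives the printed statement for every action of `GL_m`.) -/
theorem result (k : Type u) [Field k]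
    (K : Type u) [Field K] [Algebra k K] [IsAlgClosure k K] (m n : ℕ) (hn : 0 < n)
    (σ τ : Over (Spec (CommRingCat.of k))) [GrpObj σ] [GrpObj τ]
    (i : σ ⟶ CoactBr.sp k (CoordGrp.GLn m k)) (j : τ ⟶ CoactBr.sp k (CoordGrp.GLn m k))
    [IsMonHom i] [IsMonHom j] (hi : IsClosedImmersion i.left) (hj : IsClosedImmersion j.left)
    (hσ : Red.IsSplitTorusWith (ZMod n) σ) (hτ : Red.IsSplitTorusWith (ZMod n) τ)
    (h : ∃ (g : 𝟙_ (Over (Spec (CommRingCat.of K))) ⟶
        Red.bc (Spec.map (CommRingCat.ofHom (algebraMap k K))) (CoactBr.sp k (CoordGrp.GLn m k)))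
      (φ : Red.bc (Spec.map (CommRingCat.ofHom (algebraMap k K))) σ ≅
        Red.bc (Spec.map (CommRingCat.ofHom (algebraMap k K))) τ),
      AGF.conjBy g ((Over.pullback (Spec.map (CommRingCat.ofHom (algebraMap k K)))).map i) =
        φ.hom ≫ (Over.pullback (Spec.map (CommRingCat.ofHom (algebraMap k K)))).map j) :
    ∃ (g : 𝟙_ (Over (Spec (CommRingCat.of k))) ⟶ CoactBr.sp k (CoordGrp.GLn m k)) (φ : σ ≅ τ),
      AGF.conjBy g i = φ.hom ≫ j := by
  classical
  haveI : NeZero n := ⟨hn.ne'⟩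
  obtain ⟨eσ⟩ := (isSplitTorusWith_iff σ).mp hσ
  obtain ⟨eτ⟩ := (isSplitTorusWith_iff τ).mp hτ
  let ισ : sp k (MonoidAlgebra k (Multiplicative (ZMod n))) ≅ σ := (Grp.forget _).mapIso eσ.symm
  let ιτ : sp k (MonoidAlgebra k (Multiplicative (ZMod n))) ≅ τ := (Grp.forget _).mapIso eτ.symm
  haveI hισ : IsMonHom ισ.hom := inferInstanceAs (IsMonHom eσ.inv.hom.hom)
  haveI hιτ : IsMonHom ιτ.hom := inferInstanceAs (IsMonHom eτ.inv.hom.hom)
  have hP := (isHomMatrix_mat (ισ.hom ≫ i)).isIdemFamily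
  have hQ := (isHomMatrix_mat (ιτ.hom ≫ j)).isIdemFamily
  have hA := (ofFam_wt (mat (ισ.hom ≫ i))).symm
  have hB := (ofFam_wt (mat (ιτ.hom ≫ j))).symm
  generalize wt (mat (ισ.hom ≫ i)) = P at hP hA
  generalize wt (mat (ιτ.hom ≫ j)) = Q at hQ hB
  -- over `K`
  obtain ⟨g, φ, hφ⟩ := h
  let uσ := uMap k K (Multiplicative (ZMod n)) ≫ (Over.pullback (str k K)).map ισ.hom
  let uτ := uMap k K (Multiplicative (ZMod n)) ≫ (Over.pullback (str k K)).map ιτ.hom
  haveI : IsMonHom uσ := inferInstance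
  haveI : IsMonHom uτ := inferInstance
  haveI : IsIso uσ := inferInstance
  haveI : IsIso uτ := inferInstance
  let aK := uσ ≫ (Over.pullback (str k K)).map i
  let bK := uτ ≫ (Over.pullback (str k K)).map j
  let ψ := uσ ≫ φ.hom ≫ inv uτ
  haveI : IsIso ψ := inferInstance
  have hψb : ψ ≫ bK = AGF.conjBy g aK := by
    simp only [ψ, bK, Category.assoc, IsIso.inv_hom_id_assoc, aK]
    rw [← comp_conjBy]
    exact congrArg (uσ ≫ ·) hφ.symm
  haveI := mono_map_of_closedImmersion (str k K) j hj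
  haveI : Mono bK := mono_comp _ _
  haveI : IsMonHom (ψ ≫ bK) := hψb ▸ isMonHom_conjBy g aK
  haveI : IsMonHom ψ := isMonHom_of_comp_mono ψ bK
  obtain ⟨θ, s, hθ, hs⟩ := exists_perm ψ
  have haK : matK aK = ofFam (fun a => (P a).map (algebraMap k K)) := by
    rw [← map_ofFam_incl, ← hA]
    simp only [aK, uσ, uMap, Category.assoc, ← Functor.map_comp, up_comp_map, matK, down_up, mat_comp]
  have hbK : matK bK = ofFam (fun a => (Q a).map (algebraMap k K)) := by
    rw [← map_ofFam_incl, ← hB]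
    simp only [bK, uτ, uMap, Category.assoc, ← Functor.map_comp, up_comp_map, matK, down_up, mat_comp]
  let U : (Matrix (Fin m) (Fin m) K)ˣ := ⟨matK (toUnit (sp K K) ≫ g), matK (toUnit (sp K K) ≫ g)⁻¹,
    by rw [← matK_mul, mul_inv_cancel, matK_one], by rw [← matK_mul, inv_mul_cancel, matK_one]⟩
  have hU : ∀ a, (U : Matrix (Fin m) (Fin m) K) * (P a).map (algebraMap k K) =
      (Q (s.symm a)).map (algebraMap k K) * U := by
    have h1 : matK (pt θ ≫ bK) = matK (AGF.conjBy g aK) := by rw [hθ, hψb]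
    rw [matK_conjBy g aK haK, matK_comp, hbK, map_ofFam_perm _ θ s.toEquiv hs] at h1
    intro a
    show _ = (Q (s.toEquiv.symm a)).map (algebraMap k K) * _
    rw [congrFun (ofFam_injective h1) a, _root_.mul_assoc _ _ (U : Matrix (Fin m) (Fin m) K)]
    simp only [U, Units.val_mk]
    rw [← matK_mul, inv_mul_cancel, matK_one, _root_.mul_one]
  obtain ⟨gσ, c, hc⟩ := exists_conj_diagFam hP
  obtain ⟨gτ, d, hd⟩ := exists_conj_diagFam hQ
  let f : Matrix (Fin m) (Fin m) k →+* Matrix (Fin m) (Fin m) K := (algebraMap k K).mapMatrix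
  have hcard : ∀ a, Fintype.card {i // c i = a} = Fintype.card {i // d i = s.symm a} := fun a => by
    have h1 : f gσ * f (P a) = diagFam K c a * f gσ := by
      rw [← map_mul, hc, map_mul]; simp [f, diagFam_map]
    have h2 : f gτ * f (Q (s.symm a)) = diagFam K d (s.symm a) * f gτ := by
      rw [← map_mul, hd, map_mul]; simp [f, diagFam_map]
    have h3 : (U : Matrix (Fin m) (Fin m) K) * f (P a) = f (Q (s.symm a)) * U := hU a
    have e1 : SemiconjBy (↑(Units.map f.toMonoidHom gσ)⁻¹) (diagFam K c a) (f (P a)) :=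
      (show SemiconjBy (↑(Units.map f.toMonoidHom gσ)) (f (P a)) (diagFam K c a) from h1).units_inv_symm_left
    have e2 : SemiconjBy (↑U) (f (P a)) (f (Q (s.symm a))) := h3
    have e3 : SemiconjBy (↑(Units.map f.toMonoidHom gτ)) (f (Q (s.symm a))) (diagFam K d (s.symm a)) := h2
    exact card_eq_of_conj (Units.map f.toMonoidHom gτ * U * (Units.map f.toMonoidHom gσ)⁻¹)
      ((e3.mul_left e2).mul_left e1).eq
  obtain ⟨g1, hg1⟩ := exists_conj_of_card_eq k s.symm.toEquiv hcard
  let H := gτ⁻¹ * g1 * gσ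
  have hH : ∀ a, (H : Matrix (Fin m) (Fin m) k) * P a = Q (s.symm a) * H := by
    intro a
    have e1 : SemiconjBy (↑gσ) (P a) (diagFam k c a) := hc a
    have e2 : SemiconjBy (↑g1) (diagFam k c a) (diagFam k d (s.symm a)) := hg1 a
    have e3 : SemiconjBy (↑gτ⁻¹) (diagFam k d (s.symm a)) (Q (s.symm a)) :=
      (show SemiconjBy (↑gτ) (Q (s.symm a)) (diagFam k d (s.symm a)) from hd _).units_inv_symm_left
    exact (e3.mul_left e2).mul_left e1
  obtain ⟨x, hx⟩ := mat_surjective (k := k) (H : Matrix (Fin m) (Fin m) k) ((Matrix.isUnit_iff_isUnit_det _).mp H.isUnit)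
  have hxinv : mat x⁻¹ = ↑H⁻¹ :=
    left_inv_eq_right_inv (mat_inv_mul x) (by rw [hx]; exact H.mul_inv)
  refine ⟨unitTo k ≫ x, ισ.symm ≪≫ permIso k s ≪≫ ιτ, ?_⟩
  rw [← cancel_epi ισ.hom, comp_conjBy]
  simp only [Iso.trans_hom, Iso.symm_hom, Category.assoc, Iso.hom_inv_id_assoc]
  apply mat_injective
  rw [mat_conjBy _ _ hA]
  have e : toUnit (sp k k) ≫ unitTo k ≫ x = x := by
    rw [← Category.assoc, hom_to_base_ext (toUnit (sp k k) ≫ unitTo k) (𝟙 _), Category.id_comp]
  simp only [permIso]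
  rw [e, hxinv, hx, mat_comp, hB, map_ofFam_perm _ _ s.toEquiv (by simp)]
  congr 1
  funext b
  rw [hH, _root_.mul_assoc, H.mul_inv, _root_.mul_one]
  rfl

end Groth.Agent.S19280
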