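import Groth.Statements.S19281
import Groth.Agent.DiagGrp.Conj

set_option autoImplicit false
universe u
open CategoryTheory MonoidalCategory CartesianMonoidalCategory MonObj GrpObj AlgebraicGeometry
open AlgGrp

namespace Groth.Agent.S19281

open CoactBr Groth.Agent.DiagGrp

/-- Let `k` be a field with an algebraic closure `K`, `m ≥ 0`, `n > 0`, and let `σ'` be a closed
subgroup scheme of the base change of `GL_{m,k}` to `K` which is isomorphic as a `K`-group scheme to
`μ_n = D(ℤ/n)`. Then there are a closed subgroup scheme `σ` of `GL_{m,k}` isomorphic to `μ_n` over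
`k`, a `K`-point `g` of `GL_m` and an isomorphism `σ' ≅ σ_K` through which conjugation by `g`
carries the inclusion of `σ'` to the base change of the inclusion of `σ`. (This is the second
rationality condition, stated for all dual cyclic subgroups rather than only for those with a fixed
point on a given algebraic space, which is what the printed argument establishes and which gives the
printed statement for every action of `GL_m`.) -/
theorem result (k : Type u) [Field k]
    (K : Type u) [Field K] [Algebra k K] [IsAlgClosure k K] (m n : ℕ) (hn : 0 < n)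
    (σ' : Over (Spec (CommRingCat.of K))) [GrpObj σ']
    (i' : σ' ⟶ Red.bc (Spec.map (CommRingCat.ofHom (algebraMap k K))) (CoactBr.sp k (CoordGrp.GLn m k)))
    [IsMonHom i'] (hi' : IsClosedImmersion i'.left) (hσ' : Red.IsSplitTorusWith (ZMod n) σ') :
    ∃ (σ : Over (Spec (CommRingCat.of k))) (_ : GrpObj σ) (i : σ ⟶ CoactBr.sp k (CoordGrp.GLn m k))
      (_ : IsMonHom i), IsClosedImmersion i.left ∧ Red.IsSplitTorusWith (ZMod n) σ ∧
      ∃ (g : 𝟙_ (Over (Spec (CommRingCat.of K))) ⟶
          Red.bc (Spec.map (CommRingCat.ofHom (algebraMap k K))) (CoactBr.sp k (CoordGrp.GLn m k)))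
        (φ : σ' ≅ Red.bc (Spec.map (CommRingCat.ofHom (algebraMap k K))) σ),
        AGF.conjBy g i' = φ.hom ≫ (Over.pullback (Spec.map (CommRingCat.ofHom (algebraMap k K)))).map i := by
  classical
  haveI : NeZero n := ⟨hn.ne'⟩
  obtain ⟨eσ⟩ := (isSplitTorusWith_iff σ').mp hσ'
  let eι : sp K (MonoidAlgebra K (Multiplicative (ZMod n))) ≅ σ' := (Grp.forget _).mapIso eσ.symm
  haveI hι : IsMonHom eι.hom := inferInstanceAs (IsMonHom eσ.inv.hom.hom)
  let a' := eι.hom ≫ i'
  haveI : IsMonHom a' := inferInstance
  have hP := (isHomMatrix_matK (k := k) a').isIdemFamily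
  have hA := (ofFam_wt (matK (k := k) a')).symm
  generalize wt (matK (k := k) a') = P at hP hA
  obtain ⟨gK, c, hc⟩ := exists_conj_diagFam hP
  have hD := isHomMatrix_ofFam (isIdemFamily_diagFam (R := k) c)
  obtain ⟨b, hb, hbm⟩ := exists_monHom hD (isUnit_det_ofFam (isIdemFamily_diagFam (R := k) c))
  -- the support generates
  haveI := mono_of_closedImmersion i' hi'
  haveI : Mono a' := mono_comp _ _
  have hgen : Subgroup.closure (Set.range c) = ⊤ := by
    let S := Subgroup.closure (Set.range c)
    let x := MonoidAlgebra.mapDomainAlgHom K K (QuotientGroup.mk' S)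
    let y := MonoidAlgebra.mapDomainAlgHom K K (1 : Multiplicative (ZMod n) →* Multiplicative (ZMod n) ⧸ S)
    letI : Fintype (Multiplicative (ZMod n) ⧸ S) := Fintype.ofFinite _
    have hxy : x = y := by
      refine pt_injective ((cancel_mono a').mp (matK_injective (k := k) ?_))
      rw [matK_comp, matK_comp, hA, map_ofFam, map_ofFam]
      refine Finset.sum_congr rfl fun a _ => ?_
      by_cases ha : a ∈ Set.range c
      · have : (QuotientGroup.mk' S) a = 1 := (QuotientGroup.eq_one_iff a).mpr (Subgroup.subset_closure ha)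
        simp only [x, y, MonoidAlgebra.mapDomainAlgHom_apply, MonoidAlgebra.mapDomain_single, this, MonoidHom.one_apply]
      · have h0 : diagFam K c a = 0 := by
          rw [diagFam, ← Matrix.diagonal_zero]
          congr 1
          ext l
          exact if_neg fun hl => ha ⟨l, hl⟩
        have hPa : P a = 0 := by
          rw [← _root_.one_mul (P a), ← gK.inv_mul, _root_.mul_assoc, hc, h0, zero_mul, mul_zero]
        simp [hPa]
    refine Subgroup.ext fun a => ⟨fun _ => trivial, fun _ => (QuotientGroup.eq_one_iff a).mp ?_⟩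
    have := DFunLike.congr_fun hxy (MonoidAlgebra.single a 1)
    simp only [x, y, MonoidAlgebra.mapDomainAlgHom_apply, MonoidAlgebra.mapDomain_single, MonoidHom.one_apply] at this
    exact MonoidAlgebra.single_left_injective (one_ne_zero : (1 : K) ≠ 0) this
  have hsurj : Function.Surjective (algOf b) := by
    let R := (algOf b).range
    let M : Submonoid (Multiplicative (ZMod n)) :=
      { carrier := {a | MonoidAlgebra.single a (1 : k) ∈ R}
        mul_mem' := fun {a a'} ha ha' => by
          have := R.mul_mem ha ha'
          rwa [MonoidAlgebra.single_mul_single, _root_.mul_one] at this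
        one_mem' := R.one_mem }
    have hcM : Set.range c ⊆ M := by
      rintro _ ⟨l, rfl⟩
      refine ⟨CoordGrp.GLn.X l l, ?_⟩
      have := congrFun (congrFun hbm l) l
      refine this.trans ?_
      simp [ofFam, diagFam, apply_ite (MonoidAlgebra.single _)]
    have hMtop : ∀ a, a ∈ M := fun a => by
      have ha : a ∈ Subgroup.closure (Set.range c) := hgen ▸ trivial
      rw [← Subgroup.mem_toSubmonoid, Subgroup.closure_toSubmonoid_of_finite] at ha
      exact (Submonoid.closure_le.mpr hcM) ha
    intro x
    show x ∈ R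
    induction x using MonoidAlgebra.induction_linear with
    | zero => exact R.zero_mem
    | add p q hp hq => exact R.add_mem hp hq
    | single a r =>
      have := R.smul_mem (hMtop a) r
      rwa [MonoidAlgebra.smul_single', _root_.mul_one] at this
  have hbci : IsClosedImmersion b.left := by
    rw [← pt_algOf b, pt_left]
    exact IsClosedImmersion.spec_of_surjective _ hsurj
  haveI hu := isMonHom_uMap k K (Multiplicative (ZMod n))
  refine ⟨sp k (MonoidAlgebra k (Multiplicative (ZMod n))), inferInstance, b, hb, hbci,
    (isSplitTorusWith_iff _).mpr ⟨Iso.refl _⟩, ?_⟩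
  obtain ⟨xg, hxg⟩ := mat_surjective (k := k) (gK : Matrix (Fin m) (Fin m) K) ((Matrix.isUnit_iff_isUnit_det _).mp gK.isUnit)
  refine ⟨unitTo K ≫ up xg, eι.symm ≪≫ asIso (uMap k K (Multiplicative (ZMod n))), ?_⟩
  rw [← cancel_epi eι.hom, comp_conjBy]
  simp only [Iso.trans_hom, Iso.symm_hom, Category.assoc, Iso.hom_inv_id_assoc, asIso_hom]
  apply matK_injective (k := k)
  rw [matK_conjBy _ _ hA]
  have e : toUnit (sp K K) ≫ unitTo K ≫ up xg = up xg := by
    rw [← Category.assoc, hom_to_base_ext (toUnit (sp K K) ≫ unitTo K) (𝟙 _), Category.id_comp]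
  have hg : matK (up (K := K) xg) = ↑gK := by rw [matK, down_up, hxg]
  have hginv : matK (up (K := K) xg)⁻¹ = ↑gK⁻¹ :=
    left_inv_eq_right_inv (by rw [← matK_mul, inv_mul_cancel, matK_one]) (by rw [hg]; exact gK.mul_inv)
  rw [e, hg, hginv]
  simp only [uMap, up_comp_map, matK, down_up, mat_comp]
  rw [hbm, map_ofFam_incl]
  congr 1
  funext a
  rw [diagFam_map, hc, _root_.mul_assoc, gK.mul_inv, _root_.mul_one]

end Groth.Agent.S19281
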