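import Groth.Statements.S19288
import Groth.Agent.Rigidity.Basic

set_option autoImplicit false
set_option backward.isDefEq.respectTransparency.types false
universe u
open CategoryTheory CategoryTheory.Limits MonoidalCategory CartesianMonoidalCategory MonObj AlgebraicGeometry
open AbSch

namespace Groth.Agent.S19288

/-- Let S be a scheme, X a commutative S-group scheme which is etale and separated over S (hence locally
of finite presentation), and P a commutative S-group scheme of finite presentation over S all of
whose fibres are connected. Then every homomorphism of S-group schemes from P to X is trivial (it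
factors through the unit section). -/
theorem result {S : Scheme.{u}} (P X : Over S)
    [GrpObj P] [IsCommMonObj P] [GrpObj X] [IsCommMonObj X]
    [Etale X.hom] [IsSeparated X.hom]
    [QuasiCompact P.hom] [QuasiSeparated P.hom] [LocallyOfFinitePresentation P.hom]
    (hP : ∀ s : S, ConnectedSpace ↥(P.hom.fiber s))
    (f : P ⟶ X) [IsMonHom f] : f = 1 := by
  apply Over.OverMorphism.ext
  let hfg : f.left ≫ X.hom = (1 : P ⟶ X).left ≫ X.hom := (Over.w f).trans (Over.w (1 : P ⟶ X)).symm
  refine Rigidity.eq_of_range_eq_univ X.hom f.left (1 : P ⟶ X).left hfg ?_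
  let i := pullback.fst (pullback.lift f.left (1 : P ⟶ X).left hfg) (pullback.diagonal X.hom)
  haveI : IsOpenImmersion i := MorphismProperty.pullback_fst _ _ inferInstance
  haveI : IsClosedImmersion i := MorphismProperty.pullback_fst _ _ inferInstance
  have hC : IsClopen (Set.range i) :=
    ⟨i.isClosedEmbedding.isClosed_range, i.isOpenEmbedding.isOpen_range⟩
  have he : η[P].left ≫ f.left = η[P].left ≫ (1 : P ⟶ X).left := by
    rw [← Over.comp_left, ← Over.comp_left, IsMonHom.one_hom, MonObj.comp_one, one_eq_one]
  let l := pullback.lift η[P].left (η[P].left ≫ f.left)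
    (Rigidity.comp_lift_eq X.hom f.left (1 : P ⟶ X).left hfg η[P].left he)
  refine Set.eq_univ_of_forall fun p => ?_
  have hconn : _root_.IsPreconnected (P.hom ⁻¹' {P.hom p}) := by
    haveI := hP (P.hom p)
    rw [← P.hom.range_fiberι]
    exact isPreconnected_range (P.hom.fiberι (P.hom p)).continuous
  refine hconn.subset_isClopen hC ⟨η[P].left (P.hom p), ?_, ⟨l (P.hom p), ?_⟩⟩ rfl
  · show P.hom (η[P].left (P.hom p)) = P.hom p
    rw [← Scheme.Hom.comp_apply, Over.w η[P]]
    rfl
  · exact (Scheme.Hom.comp_apply l i (P.hom p)).symm.trans
      (congrArg (fun h : (𝟙_ (Over S)).left ⟶ P.left => h (P.hom p)) (pullback.lift_fst _ _ _))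

end Groth.Agent.S19288
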