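import Groth.Statements.S19291
import Groth.Agent.AbRigid.Basic
import Groth.Agent.BiextVanish.Basic

set_option autoImplicit false
universe u
open CategoryTheory CategoryTheory.Limits MonoidalCategory CartesianMonoidalCategory MonObj AlgebraicGeometry
open AbSch

namespace Groth.Agent.S19291

/-- Let S be a scheme and A, B, C three abelian S-schemes (smooth proper S-group schemes with connected
fibres). Then the group of homomorphisms from A to the S-sheaf of homomorphisms from B to C is
trivial: on the big fppf site of S, every morphism of abelian sheaves from the sheaf of points of A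
to the internal Hom sheaf of the sheaves of points of B and C is zero (equivalently, there is no
non-zero biadditive morphism from A × B to C). -/
theorem result {S : Scheme.{u}} (A B C : Over S)
    [GrpObj A] [IsCommMonObj A] [Smooth A.hom] [IsProper A.hom]
    (hA : ∀ s : S, ConnectedSpace ↥(A.hom.fiber s))
    [GrpObj B] [IsCommMonObj B] [Smooth B.hom] [IsProper B.hom]
    (hB : ∀ s : S, ConnectedSpace ↥(B.hom.fiber s))
    [GrpObj C] [IsCommMonObj C] [Smooth C.hom] [IsProper C.hom]
    (hC : ∀ s : S, ConnectedSpace ↥(C.hom.fiber s))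
    (φ : (CGrpSh.pts Scheme.fppfPrecoverage A) ⟶ HomSh.homSh (QuotSh.J Scheme.fppfPrecoverage S) (CGrpSh.pts Scheme.fppfPrecoverage B) (CGrpSh.pts Scheme.fppfPrecoverage C)) : φ = 0 := by
  let K := Scheme.fppfPrecoverage.{u}
  let pa : (CGrpSh.pts K A).obj.obj (Opposite.op (A ⊗ B)) := ULift.up (Additive.ofMul (fst A B))
  let pb : (CGrpSh.pts K B).obj.obj (Opposite.op (A ⊗ B)) := ULift.up (Additive.ofMul (snd A B))
  let s := φ.hom.app (Opposite.op (A ⊗ B)) pa
  let g := Groth.Agent.BiextVanish.evS s (𝟙 (A ⊗ B)) pb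
  let g' : A ⊗ B ⟶ C := g.down.toMul
  have key : ∀ {V : Over S} (a : (CGrpSh.pts K A).obj.obj (Opposite.op V))
      (b : (CGrpSh.pts K B).obj.obj (Opposite.op V)),
      Groth.Agent.BiextVanish.evS (φ.hom.app (Opposite.op V) a) (𝟙 V) b =
        ULift.up (Additive.ofMul (lift a.down.toMul b.down.toMul ≫ g')) := by
    intro V a b
    let k : V ⟶ A ⊗ B := lift a.down.toMul b.down.toMul
    have ea : a = (CGrpSh.pts K A).obj.map k.op pa := ULift.ext _ _ (congrArg Additive.ofMul (lift_fst _ _).symm)
    have eb : b = (CGrpSh.pts K B).obj.map k.op pb := ULift.ext _ _ (congrArg Additive.ofMul (lift_snd _ _).symm)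
    show _ = (CGrpSh.pts K C).obj.map k.op g
    rw [Groth.Agent.BiextVanish.evS_natural, Category.comp_id, ← eb, ea, ← Groth.Agent.BiextVanish.map_app,
      Groth.Agent.BiextVanish.evS_map, Category.id_comp]
  have hax : ∀ {V : Over S} (a : V ⟶ A) (b : V ⟶ B), (a = 1 ∨ b = 1) → lift a b ≫ g' = 1 := by
    intro V a b h0
    have h := key (ULift.up (Additive.ofMul a)) (ULift.up (Additive.ofMul b))
    refine Eq.trans (congrArg (fun z => z.down.toMul) h).symm ?_
    rcases h0 with rfl | rfl
    · have e0 : φ.hom.app (Opposite.op V) (ULift.up (Additive.ofMul (1 : V ⟶ A))) = 0 :=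
        map_zero (φ.hom.app (Opposite.op V)).hom
      exact (congrArg (fun t => Groth.Agent.BiextVanish.evS t (𝟙 V) (ULift.up (Additive.ofMul b))) e0).trans
        (Groth.Agent.BiextVanish.evS_zero _ _) |> congrArg (fun z => z.down.toMul)
    · exact congrArg (fun z => z.down.toMul)
        (map_zero (Groth.Agent.BiextVanish.evS (φ.hom.app (Opposite.op V) (ULift.up (Additive.ofMul a))) (𝟙 V)))
  haveI : IsSeparated C.hom := inferInstance
  have hone : g' = 1 := Groth.Agent.AbRigid.eq_one_of_axes hA hB g' (hax _ _ (Or.inr rfl)) (hax _ _ (Or.inl rfl))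
  refine Sheaf.hom_ext (NatTrans.ext (funext fun U => AddCommGrpCat.ext fun a => ?_))
  refine Groth.Agent.BiextVanish.sect_ext fun {V} h b => ?_
  show Groth.Agent.BiextVanish.evS _ h b = 0
  rw [← Groth.Agent.BiextVanish.evS_map_one, Groth.Agent.BiextVanish.map_app, key, hone, MonObj.comp_one]
  rfl

end Groth.Agent.S19291
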