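import Groth.Statements.S19306
import Mathlib
-- import your own Groth.Agent.* helpers here

set_option autoImplicit false
universe u
open PowerSeries
open CAlg

namespace Groth.Agent.S19306

section
open scoped TensorProduct
variable {R : Type u} [CommRing R] {n M : ℕ}

/-- drop the constant coefficient -/
noncomputable def sh : R⟦X⟧ →ₗ[R] R⟦X⟧ where
  toFun a := PowerSeries.mk fun j => coeff (j + 1) a
  map_add' a b := by ext; simp
  map_smul' c a := by ext; simp

theorem coeff_sh_pow (i j : ℕ) (a : R⟦X⟧) : coeff j ((sh ^ i) a) = coeff (j + i) a := by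
  induction i generalizing j with
  | zero => rfl
  | succ i ih =>
    rw [pow_succ', Module.End.mul_apply]
    change coeff j (PowerSeries.mk fun k => coeff (k + 1) ((sh ^ i) a)) = _
    rw [coeff_mk, ih, add_assoc, add_comm 1 i]

theorem X_mul_sh (a : R⟦X⟧) : X * sh a = a - PowerSeries.C (coeff 0 a) := by
  ext j
  cases j with
  | zero => simp
  | succ j => simp [sh, coeff_C]

theorem sh_X_mul (a : R⟦X⟧) : sh (X * a) = a := by
  ext j; simp [sh]

theorem sh_pow_succ (i : ℕ) (a : R⟦X⟧) : (sh ^ (i + 1)) a = sh ((sh ^ i) a) := by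
  rw [pow_succ', Module.End.mul_apply]

theorem decomp (M : ℕ) (a : R⟦X⟧) :
    a = (∑ i ∈ Finset.range M, coeff i a • X ^ i) + X ^ M * (sh ^ M) a := by
  induction M with
  | zero => simp
  | succ k ih =>
    conv_lhs => rw [ih]
    rw [Finset.sum_range_succ, add_assoc, sh_pow_succ, pow_succ, mul_assoc, X_mul_sh, coeff_sh_pow,
      zero_add, mul_sub, PowerSeries.smul_eq_C_mul]
    ring

section module
variable {Q : Type*} [AddCommGroup Q] [Module R Q] [Module R⟦X⟧ Q] [IsScalarTower R R⟦X⟧ Q]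

noncomputable def nil (R : Type u) [CommRing R] (Q : Type*) [AddCommGroup Q] [Module R Q]
    [Module R⟦X⟧ Q] [IsScalarTower R R⟦X⟧ Q] : Q →ₗ[R] Q :=
  (LinearMap.lsmul R⟦X⟧ Q X).restrictScalars R

theorem nil_pow (i : ℕ) (q : Q) : (nil R Q ^ i) q = (X : R⟦X⟧) ^ i • q := by
  induction i with
  | zero => simp
  | succ i ih =>
    rw [pow_succ', Module.End.mul_apply, ih, pow_succ', mul_smul]
    rfl

theorem smul_eq_sum (hQ : ∀ q : Q, (X : R⟦X⟧) ^ M • q = 0) (a : R⟦X⟧) (q : Q) :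
    a • q = ∑ i ∈ Finset.range M, coeff i a • (X : R⟦X⟧) ^ i • q := by
  conv_lhs => rw [decomp M a]
  simp [add_smul, Finset.sum_smul, mul_smul, hQ]

noncomputable def eps (R : Type u) [CommRing R] (Q : Type*) [AddCommGroup Q] [Module R Q]
    [Module R⟦X⟧ Q] [IsScalarTower R R⟦X⟧ Q] : R⟦X⟧ ⊗[R] Q →ₗ[R⟦X⟧] Q :=
  LinearMap.liftBaseChange R⟦X⟧ LinearMap.id

theorem eps_tmul (a : R⟦X⟧) (q : Q) : eps R Q (a ⊗ₜ q) = a • q := by simp [eps]

noncomputable def delta (R : Type u) [CommRing R] (Q : Type*) [AddCommGroup Q] [Module R Q]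
    [Module R⟦X⟧ Q] [IsScalarTower R R⟦X⟧ Q] : R⟦X⟧ ⊗[R] Q →ₗ[R⟦X⟧] R⟦X⟧ ⊗[R] Q :=
  LinearMap.lsmul R⟦X⟧ (R⟦X⟧ ⊗[R] Q) X - (nil R Q).baseChange R⟦X⟧

theorem delta_tmul (a : R⟦X⟧) (q : Q) :
    delta R Q (a ⊗ₜ q) = (X * a) ⊗ₜ q - a ⊗ₜ ((X : R⟦X⟧) • q) := by
  simp [delta, nil, TensorProduct.smul_tmul']

noncomputable def inv (R : Type u) [CommRing R] (Q : Type*) [AddCommGroup Q] [Module R Q]
    [Module R⟦X⟧ Q] [IsScalarTower R R⟦X⟧ Q] (M : ℕ) : R⟦X⟧ ⊗[R] Q →ₗ[R] R⟦X⟧ ⊗[R] Q :=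
  ∑ i ∈ Finset.range M, TensorProduct.map (sh ^ (i + 1)) (nil R Q ^ i)

theorem inv_delta (hQ : ∀ q : Q, (X : R⟦X⟧) ^ M • q = 0) (x : R⟦X⟧ ⊗[R] Q) :
    inv R Q M (delta R Q x) = x := by
  induction x using TensorProduct.induction_on with
  | zero => simp
  | tmul a q =>
    let F : ℕ → R⟦X⟧ ⊗[R] Q := fun i => (sh ^ i) a ⊗ₜ[R] (nil R Q ^ i) q
    have h : ∀ i, TensorProduct.map (sh ^ (i + 1)) (nil R Q ^ i) (delta R Q (a ⊗ₜ q)) =
        F i - F (i + 1) := fun i => by
      rw [delta_tmul, map_sub, TensorProduct.map_tmul, TensorProduct.map_tmul]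
      congr 1
      rw [pow_succ, Module.End.mul_apply, sh_X_mul]
    rw [inv, LinearMap.sum_apply, Finset.sum_congr rfl fun i _ => h i, Finset.sum_range_sub']
    simp [F, nil_pow, hQ]
  | add x y hx hy => simp only [map_add, hx, hy]

theorem delta_inv (hQ : ∀ q : Q, (X : R⟦X⟧) ^ M • q = 0) (x : R⟦X⟧ ⊗[R] Q) :
    delta R Q (inv R Q M x) = x - 1 ⊗ₜ eps R Q x := by
  induction x using TensorProduct.induction_on with
  | zero => simp
  | tmul a q =>
    let F : ℕ → R⟦X⟧ ⊗[R] Q := fun i => (sh ^ i) a ⊗ₜ[R] (nil R Q ^ i) q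
    have h : ∀ i, delta R Q (TensorProduct.map (sh ^ (i + 1)) (nil R Q ^ i) (a ⊗ₜ q)) =
        (F i - F (i + 1)) - 1 ⊗ₜ (coeff i a • (X : R⟦X⟧) ^ i • q) := fun i => by
      simp only [F, TensorProduct.map_tmul, delta_tmul, nil_pow]
      rw [sh_pow_succ, X_mul_sh, coeff_sh_pow, zero_add, TensorProduct.sub_tmul,
        ← TensorProduct.smul_tmul (coeff i a) (1 : R⟦X⟧), PowerSeries.smul_eq_C_mul, mul_one, ← mul_smul,
        ← pow_succ']
      abel
    rw [inv, LinearMap.sum_apply, map_sum, Finset.sum_congr rfl fun i _ => h i,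
      Finset.sum_sub_distrib, Finset.sum_range_sub', ← TensorProduct.tmul_sum, ← smul_eq_sum hQ,
      eps_tmul]
    simp [F, nil_pow, hQ]
  | add x y hx hy => simp only [map_add, hx, hy, TensorProduct.tmul_add]; abel

end module

variable (Λ : Submodule R⟦X⟧ (Fin n → R⟦X⟧))

/-- truncation -/
noncomputable def tr (n M : ℕ) : (Fin n → R⟦X⟧) →ₗ[R] (Fin n → Fin M → R) where
  toFun v i j := coeff (j : ℕ) (v i)
  map_add' v w := by ext; simp
  map_smul' c v := by ext; simp

noncomputable def piBar : (Fin n → Fin M → R) →ₗ[R] ((Fin n → R⟦X⟧) ⧸ Λ) where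
  toFun p := Λ.mkQ fun i => ∑ j : Fin M, p i j • X ^ (j : ℕ)
  map_add' p q := by
    rw [← map_add]; congr 1; ext1 i
    simp [add_smul, Finset.sum_add_distrib]
  map_smul' c p := by
    rw [RingHom.id_apply, ← LinearMap.map_smul_of_tower]; congr 1; ext1 i
    simp [Finset.smul_sum, mul_smul]

variable {Λ} (hΛ : ∀ v : Fin n → R⟦X⟧, ((X : R⟦X⟧) ^ M) • v ∈ Λ)

include hΛ in
theorem piBar_tr (v : Fin n → R⟦X⟧) : piBar Λ (tr n M v) = Λ.mkQ v := by
  refine ((Submodule.Quotient.eq Λ).2 ?_).symm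
  convert hΛ (fun i => (sh ^ M) (v i)) using 1
  ext1 i
  change v i - ∑ j : Fin M, coeff (j : ℕ) (v i) • X ^ (j : ℕ) = _
  rw [Fin.sum_univ_eq_sum_range (fun j => coeff j (v i) • (X : R⟦X⟧) ^ j) M]
  conv_lhs => arg 1; rw [decomp M (v i)]
  simp

include hΛ in
theorem piBar_surjective : Function.Surjective (piBar (M := M) Λ) := fun q => by
  obtain ⟨v, rfl⟩ := Λ.mkQ_surjective q
  exact ⟨_, piBar_tr hΛ v⟩

include hΛ in
theorem X_pow_smul_quot (q : (Fin n → R⟦X⟧) ⧸ Λ) : (X : R⟦X⟧) ^ M • q = 0 := by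
  obtain ⟨v, rfl⟩ := Λ.mkQ_surjective q
  rw [← map_smul]
  exact (Submodule.Quotient.mk_eq_zero Λ).2 (hΛ v)

theorem tr_X_pow_smul (v : Fin n → R⟦X⟧) : tr n M ((X : R⟦X⟧) ^ M • v) = 0 := by
  ext i j
  simp only [tr, LinearMap.coe_mk, AddHom.coe_mk, Pi.smul_apply, smul_eq_mul, Pi.zero_apply]
  rw [coeff_X_pow_mul', if_neg (not_le.2 j.2)]

include hΛ in
theorem finite_projective [Module.Projective R ((Fin n → R⟦X⟧) ⧸ Λ)] :
    Module.Finite R⟦X⟧ Λ ∧ Module.Projective R⟦X⟧ Λ := by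
  let Q := (Fin n → R⟦X⟧) ⧸ Λ
  have : Module.Finite R Q := Module.Finite.of_surjective _ (piBar_surjective hΛ)
  obtain ⟨s, hs⟩ := Module.projective_lifting_property (Λ.mkQ.restrictScalars R) LinearMap.id
    (Submodule.mkQ_surjective Λ)
  let f : R⟦X⟧ ⊗[R] Q →ₗ[R⟦X⟧] (Fin n → R⟦X⟧) := s.liftBaseChange R⟦X⟧
  have hf : ∀ x, Λ.mkQ (f x) = eps R Q x := by
    intro x
    induction x using TensorProduct.induction_on with
    | zero => simp
    | tmul a q =>
      have h := LinearMap.congr_fun hs q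
      simp only [LinearMap.comp_apply, LinearMap.restrictScalars_apply, LinearMap.id_apply] at h
      simp [f, eps_tmul, h, Q]
    | add x y hx hy => simp only [map_add, hx, hy]
  obtain ⟨g, hg⟩ := Module.projective_lifting_property (eps R Q) Λ.mkQ
    (fun q => ⟨1 ⊗ₜ q, by simp [eps_tmul, Q]⟩)
  have hmem : ∀ x : Λ, g x ∈ LinearMap.ker (eps R Q) := fun x => by
    rw [LinearMap.mem_ker, ← LinearMap.comp_apply, hg]
    exact (Submodule.Quotient.mk_eq_zero Λ).2 x.2
  have hQ := X_pow_smul_quot hΛ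
  have hd : ∀ x, eps R Q (delta R Q x) = 0 := by
    intro x
    induction x using TensorProduct.induction_on with
    | zero => simp
    | tmul a q => rw [delta_tmul, map_sub, eps_tmul, eps_tmul, mul_comm, mul_smul, sub_self]
    | add x y hx hy => simp only [map_add, hx, hy, add_zero]
  let d : R⟦X⟧ ⊗[R] Q →ₗ[R⟦X⟧] LinearMap.ker (eps R Q) :=
    (delta R Q).codRestrict _ fun x => LinearMap.mem_ker.2 (hd x)
  have hd' : Function.Bijective d := by
    refine ⟨fun x y h => ?_, fun y => ⟨inv R Q M y, Subtype.ext ?_⟩⟩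
    · rw [← inv_delta hQ x, ← inv_delta hQ y]
      exact congrArg _ (congrArg Subtype.val h)
    · change delta R Q (inv R Q M y) = y
      rw [delta_inv hQ, LinearMap.mem_ker.1 y.2, TensorProduct.tmul_zero, sub_zero]
  let e := LinearEquiv.ofBijective d hd'
  let u : Λ →ₗ[R⟦X⟧] (Fin n → R⟦X⟧) × (R⟦X⟧ ⊗[R] Q) :=
    Λ.subtype.prod (e.symm.toLinearMap ∘ₗ (g ∘ₗ Λ.subtype).codRestrict _ hmem)
  let r0 : (Fin n → R⟦X⟧) × (R⟦X⟧ ⊗[R] Q) →ₗ[R⟦X⟧] (Fin n → R⟦X⟧) :=
    (LinearMap.id - f ∘ₗ g).coprod (f ∘ₗ delta R Q)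
  have hr : ∀ z, r0 z ∈ Λ := fun z => by
    refine (Submodule.Quotient.mk_eq_zero Λ).1 ?_
    change Λ.mkQ (r0 z) = 0
    simp only [r0, LinearMap.coprod_apply, LinearMap.sub_apply, LinearMap.id_apply,
      LinearMap.comp_apply, map_add, map_sub, hf, hd, add_zero, ← LinearMap.comp_apply (eps R Q), hg,
      sub_self]
  let r := r0.codRestrict Λ hr
  have hru : r ∘ₗ u = LinearMap.id := by
    refine LinearMap.ext fun x => Subtype.ext ?_
    have h : delta R Q (e.symm ((g ∘ₗ Λ.subtype).codRestrict _ hmem x)) = g x :=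
      congrArg Subtype.val (e.apply_symm_apply _)
    change r0 (u x) = x
    simp [r0, u, h]
  exact ⟨Module.Finite.of_surjective r fun x => ⟨u x, LinearMap.congr_fun hru x⟩,
    Module.Projective.of_split u r hru⟩

include hΛ in
theorem projective_quotient [Module.Finite R⟦X⟧ Λ] [Module.Projective R⟦X⟧ Λ] :
    Module.Projective R ((Fin n → R⟦X⟧) ⧸ Λ) := by
  classical
  obtain ⟨m, r, hr⟩ := Module.Finite.exists_fin' R⟦X⟧ Λ
  obtain ⟨u, hu⟩ := Module.projective_lifting_property r LinearMap.id hr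
  have hker : LinearMap.ker (piBar (M := M) Λ) =
      Submodule.span R (Set.range fun z : Fin m × Fin M =>
        tr n M ((X : R⟦X⟧) ^ (z.2 : ℕ) • (r (Pi.single z.1 1) : Fin n → R⟦X⟧))) := by
    refine le_antisymm (fun p hp => ?_) (Submodule.span_le.2 ?_)
    · let v : Fin n → R⟦X⟧ := fun i => ∑ j : Fin M, p i j • X ^ (j : ℕ)
      have hv : v ∈ Λ := (Submodule.Quotient.mk_eq_zero Λ).1 (LinearMap.mem_ker.1 hp)
      have hpv : tr n M v = p := by
        ext i j
        simp [tr, v, coeff_X_pow, Fin.val_inj]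
      rw [← hpv]
      obtain ⟨a, ha⟩ := hr ⟨v, hv⟩
      have hsum : v = ∑ k : Fin m, a k • (r (Pi.single k 1) : Fin n → R⟦X⟧) := by
        have h1 : a = ∑ k : Fin m, a k • Pi.single k (1 : R⟦X⟧) := pi_eq_sum_univ' a
        have h2 := congrArg Subtype.val ha
        rw [h1, map_sum, AddSubmonoidClass.coe_finsetSum] at h2
        simpa using h2.symm
      rw [hsum, map_sum]
      refine Submodule.sum_mem _ fun k _ => ?_
      rw [decomp M (a k), add_smul, map_add, mul_smul, tr_X_pow_smul, add_zero, Finset.sum_smul, map_sum]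
      refine Submodule.sum_mem _ fun j hj => ?_
      rw [smul_assoc, map_smul]
      exact Submodule.smul_mem _ _ (Submodule.subset_span ⟨(k, ⟨j, Finset.mem_range.1 hj⟩), rfl⟩)
    · rintro _ ⟨z, rfl⟩
      simp only [SetLike.mem_coe, LinearMap.mem_ker, piBar_tr hΛ]
      exact (Submodule.Quotient.mk_eq_zero Λ).2 (Λ.smul_mem _ (Subtype.coe_prop _))
  have : Module.FinitePresentation R ((Fin n → R⟦X⟧) ⧸ Λ) :=
    Module.finitePresentation_of_surjective _ (piBar_surjective hΛ)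
      (hker ▸ Submodule.fg_span (Set.finite_range _))
  have : Module.Flat R ((Fin n → R⟦X⟧) ⧸ Λ) := by
    refine Module.Flat.iff_forall_isTrivialRelation.2 fun {l f x} hfx => ?_
    choose v hv using fun i => Λ.mkQ_surjective (x i)
    have hw : ∑ i, f i • v i ∈ Λ := by
      refine (Submodule.Quotient.mk_eq_zero Λ).1 ?_
      change Λ.mkQ _ = 0
      simpa [map_sum, LinearMap.map_smul_of_tower, hv] using hfx
    let μ : Fin l → Λ := fun i => ⟨(X : R⟦X⟧) ^ M • v i, hΛ _⟩
    let c := u ⟨_, hw⟩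
    have h1 : (X : R⟦X⟧) ^ M • c = ∑ i, f i • u (μ i) := by
      rw [← map_smul]
      rw [Finset.sum_congr rfl fun i _ => (u.map_smul_of_tower (f i) (μ i)).symm, ← map_sum]
      congr 1
      ext1
      simp only [μ, SetLike.val_smul, Finset.smul_sum, AddSubmonoidClass.coe_finsetSum, SetLike.val_smul_of_tower]
      exact Finset.sum_congr rfl fun i _ => smul_comm _ _ _
    let ν : Fin l → Λ := fun i => r fun k => (sh ^ M) (u (μ i) k)
    have h2 : c = ∑ i, f i • fun k => (sh ^ M) (u (μ i) k) := by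
      ext k j
      have h := congrArg (fun z : Fin m → R⟦X⟧ => coeff (j + M) (z k)) h1
      simp only [Pi.smul_apply, smul_eq_mul, Finset.sum_apply, map_sum] at h
      rw [coeff_X_pow_mul'] at h
      simp only [le_add_iff_nonneg_left, zero_le, if_true, Nat.add_sub_cancel] at h
      rw [h]
      simp [coeff_sh_pow]
    have h3 : ∑ i, f i • (v i - (ν i : Fin n → R⟦X⟧)) = 0 := by
      have h := congrArg r h2
      rw [show r c = ⟨_, hw⟩ from LinearMap.congr_fun hu _] at h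
      simp only [map_sum, LinearMap.map_smul_of_tower] at h
      have h' := congrArg Subtype.val h
      simp only [AddSubmonoidClass.coe_finsetSum, SetLike.val_smul_of_tower] at h'
      simp only [smul_sub, Finset.sum_sub_distrib, ν]
      rw [h', sub_self]
    have h4 : ∑ i, f i • tr n M (v i - (ν i : Fin n → R⟦X⟧)) = 0 := by
      simp only [← map_smul, ← map_sum, h3, map_zero]
    obtain ⟨k, a, y, hy1, hy2⟩ := Module.Flat.isTrivialRelation_of_sum_smul_eq_zero h4
    refine ⟨k, a, fun j => piBar Λ (y j), fun i => ?_, hy2⟩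
    rw [← hv i, show Λ.mkQ (v i) = piBar Λ (tr n M (v i - (ν i : Fin n → R⟦X⟧))) by
      rw [piBar_tr hΛ, map_sub, show Λ.mkQ (ν i : Fin n → R⟦X⟧) = 0 from
        (Submodule.Quotient.mk_eq_zero Λ).2 (ν i).2, sub_zero],
      show tr n M (v i - (ν i : Fin n → R⟦X⟧)) = _ from hy1 i, map_sum]
    simp only [map_smul]
  exact Module.Flat.projective_of_finitePresentation

end


/-- Let k be a field, R a commutative k-algebra, n, M natural numbers and Λ an R⟦X⟧-submodule of the
free module R⟦X⟧^n with X^M · R⟦X⟧^n ⊆ Λ. Then Λ is a finitely generated projective R⟦X⟧-module if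
and only if the quotient R⟦X⟧^n / Λ is projective as an R-module. (The published statement
identifies, functorially in R, the families of lattices between t^N Λ₀ and t^{-N} Λ₀ in R((t))^n, Λ₀
the standard lattice, with the R⟦t⟧-submodules in that range whose quotient t^{-N} Λ₀ / Λ is
R-projective; after multiplying by t^N this is the pointwise statement here, with 2N replaced by any
exponent M; a submodule containing X^M · R⟦X⟧^n automatically spans R((X))^n.) -/
theorem result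
    (k : Type u) [Field k] (R : Type u) [CommRing R] [Algebra k R] (n M : ℕ)
    (Λ : Submodule R⟦X⟧ (Fin n → R⟦X⟧))
    (hΛ : ∀ v : Fin n → R⟦X⟧, ((PowerSeries.X : R⟦X⟧) ^ M) • v ∈ Λ) :
    (Module.Finite R⟦X⟧ Λ ∧ Module.Projective R⟦X⟧ Λ) ↔
      Module.Projective R ((Fin n → R⟦X⟧) ⧸ Λ) := by
  constructor
  · rintro ⟨h1, h2⟩
    exact projective_quotient hΛ
  · intro h
    exact finite_projective hΛ

end Groth.Agent.S19306
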