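import Groth.Statements.S19309
import Mathlib

set_option autoImplicit false
universe u
open PowerSeries LaurentSeries
open CAlg

namespace Groth.Agent.S19309

/-- Let k be a field, R a commutative k-algebra, B a finitely presented R⟦X⟧-algebra (an affine scheme V
= Spec B of finite presentation over the disc D_R = Spec R⟦X⟧) and s : B → R((X)) an R⟦X⟧-algebra
map (a section of V over the punctured disc). Then there is an ideal I of R such that for every ring
map φ : R → R', writing θ : R((X)) → R'((X)) for the ring map compatible with R⟦X⟧ → R'⟦X⟧, the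
section s extends to a section over D_{R'} — an R⟦X⟧-algebra map s' : B → R'⟦X⟧ whose composite with
R'⟦X⟧ → R'((X)) is θ ∘ s — if and only if φ kills I. In other words the sub-presheaf of Spec R where
s extends over the disc is the closed subscheme defined by I. -/
theorem result
    (k : Type u) [Field k] (R : Type u) [CommRing R] [Algebra k R]
    (B : Type u) [CommRing B] [Algebra R⟦X⟧ B] [Algebra.FinitePresentation R⟦X⟧ B]
    (s : B →ₐ[R⟦X⟧] R⸨X⸩) :
    ∃ I : Ideal R, ∀ (R' : Type u) [CommRing R'] (φ : R →+* R') (θ : R⸨X⸩ →+* R'⸨X⸩),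
      θ.comp (algebraMap R⟦X⟧ R⸨X⸩) = (algebraMap R'⟦X⟧ R'⸨X⸩).comp (PowerSeries.map φ) →
      ((∃ s' : B →+* R'⟦X⟧, s'.comp (algebraMap R⟦X⟧ B) = PowerSeries.map φ ∧
          (algebraMap R'⟦X⟧ R'⸨X⸩).comp s' = θ.comp s.toRingHom) ↔ I ≤ RingHom.ker φ) := by
  classical
  obtain ⟨gen, hgen⟩ := (inferInstance : Algebra.FiniteType R⟦X⟧ B).out
  have hsurj : ∀ b : B, ∃ (N : ℕ) (g : R⟦X⟧),
      s b * algebraMap R⟦X⟧ R⸨X⸩ (PowerSeries.X ^ N) = algebraMap R⟦X⟧ R⸨X⸩ g := fun b => by
    obtain ⟨⟨g, ⟨_, N, rfl⟩⟩, h⟩ := IsLocalization.surj (Submonoid.powers (PowerSeries.X : R⟦X⟧)) (s b)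
    exact ⟨N, g, h⟩
  choose N g hg using hsurj
  refine ⟨Ideal.span {r | ∃ b ∈ gen, ∃ m < N b, PowerSeries.coeff m (g b) = r}, fun R' _ φ θ hθ => ?_⟩
  let ι : R'⟦X⟧ →+* R'⸨X⸩ := algebraMap R'⟦X⟧ R'⸨X⸩
  have hι : Function.Injective ι := HahnSeries.ofPowerSeries_injective
  have hθ' : ∀ f : R⟦X⟧, θ (algebraMap R⟦X⟧ R⸨X⸩ f) = ι (PowerSeries.map φ f) := fun f =>
    RingHom.congr_fun hθ f
  have key : ∀ b, θ (s b) * ι (PowerSeries.X ^ N b) = ι (PowerSeries.map φ (g b)) := fun b => by
    have h := congrArg θ (hg b)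
    rw [map_mul, hθ', hθ', map_pow, PowerSeries.map_X] at h
    exact h
  constructor
  · rintro ⟨s', hs', hcomp⟩
    rw [Ideal.span_le]
    rintro _ ⟨b, hb, m, hm, rfl⟩
    have h1 : ι (s' b) = θ (s b) := RingHom.congr_fun hcomp b
    have h2 : PowerSeries.map φ (g b) = s' b * PowerSeries.X ^ N b := hι (by rw [map_mul, h1, key])
    have h3 := congrArg (PowerSeries.coeff m) h2
    rw [PowerSeries.coeff_map, PowerSeries.coeff_mul_X_pow', if_neg (by omega)] at h3
    exact h3
  · intro hI
    let ψ : B →+* R'⸨X⸩ := θ.comp s.toRingHom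
    have hr : ∀ b, ψ b ∈ ι.range := by
      intro b
      have hb : b ∈ Algebra.adjoin R⟦X⟧ (gen : Set B) := hgen ▸ trivial
      induction hb using Algebra.adjoin_induction with
      | mem b hb =>
        have hdvd : (PowerSeries.X : R'⟦X⟧) ^ N b ∣ PowerSeries.map φ (g b) :=
          PowerSeries.X_pow_dvd_iff.2 fun m hm => by
            rw [PowerSeries.coeff_map]
            exact hI (Ideal.subset_span ⟨b, hb, m, hm, rfl⟩)
        obtain ⟨h, hh⟩ := hdvd
        refine ⟨h, ?_⟩
        have hu : IsUnit (ι ((PowerSeries.X : R'⟦X⟧) ^ N b)) :=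
          IsLocalization.map_units (M := Submonoid.powers (PowerSeries.X : R'⟦X⟧)) R'⸨X⸩
            ⟨(PowerSeries.X : R'⟦X⟧) ^ N b, N b, rfl⟩
        apply hu.mul_left_injective
        change ι h * _ = θ (s b) * _
        rw [key, hh, map_mul, mul_comm]
      | algebraMap r =>
        refine ⟨PowerSeries.map φ r, ?_⟩
        change _ = θ (s (algebraMap _ _ r))
        rw [AlgHom.commutes, hθ']
      | add x y _ _ hx hy => rw [map_add]; exact Subring.add_mem _ hx hy
      | mul x y _ _ hx hy => rw [map_mul]; exact Subring.mul_mem _ hx hy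
    choose s' hs' using hr
    let S' : B →+* R'⟦X⟧ :=
      { toFun := s'
        map_one' := hι (by rw [hs', map_one, map_one])
        map_mul' := fun x y => hι (by rw [hs', map_mul, map_mul, hs', hs'])
        map_zero' := hι (by rw [hs', map_zero, map_zero])
        map_add' := fun x y => hι (by rw [hs', map_add, map_add, hs', hs']) }
    refine ⟨S', RingHom.ext fun r => hι ?_, RingHom.ext fun b => hs' b⟩
    change ι (s' (algebraMap _ B r)) = _
    rw [hs']
    change θ (s (algebraMap _ _ r)) = _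
    rw [AlgHom.commutes, hθ']
end Groth.Agent.S19309
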