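import Groth.Statements.S19310
import Mathlib
import Groth.Agent.FieldExtConn.TensorDomain
-- import your own Groth.Agent.* helpers here

set_option autoImplicit false
universe u
open TensorProduct
open CAlg

namespace Groth.Agent.S19310

theorem coeff_map {k A M N : Type*} [Field k] [CommRing A] [Algebra k A] [AddCommGroup M] [Module k M] [AddCommGroup N]
    [Module k N] {ι : Type*} [DecidableEq ι] (b : Module.Basis ι k A) (F : M →ₗ[k] N) (z : M ⊗[k] A) (i : ι) :
    TensorProduct.equivFinsuppOfBasisRight (M := N) b (LinearMap.rTensor A F z) i =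
      F (TensorProduct.equivFinsuppOfBasisRight (M := M) b z i) := by
  induction z using TensorProduct.induction_on with
  | zero => simp
  | tmul x a => simp
  | add u v hu hv => simp only [map_add, Finsupp.coe_add, Pi.add_apply, hu, hv]

theorem eq_sum {k A M : Type*} [Field k] [CommRing A] [Algebra k A] [AddCommGroup M] [Module k M]
    {ι : Type*} [DecidableEq ι] (b : Module.Basis ι k A) (z : M ⊗[k] A) :
    z = ∑ i ∈ (TensorProduct.equivFinsuppOfBasisRight b z).support, TensorProduct.equivFinsuppOfBasisRight b z i ⊗ₜ[k] b i := by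
  conv_lhs => rw [← (TensorProduct.equivFinsuppOfBasisRight b).symm_apply_apply z, TensorProduct.equivFinsuppOfBasisRight_symm_apply]
  rfl

theorem exists_dual {R : Type*} [CommRing R] (P : Ideal R) [P.IsPrime] (T : Type*) [AddCommGroup T] [Module R T]
    [Module (R ⧸ P) T] [IsScalarTower R (R ⧸ P) T] (r : T) (hr : ∀ s : R, s • r = 0 → s ∈ P) :
    ∃ φ : T →ₗ[R] FractionRing (R ⧸ P), φ r ≠ 0 := by
  let K := FractionRing (R ⧸ P)
  let mk : T →ₗ[R ⧸ P] K ⊗[R ⧸ P] T := TensorProduct.mk (R ⧸ P) K T 1
  have hloc : IsLocalizedModule (nonZeroDivisors (R ⧸ P)) mk := (isLocalizedModule_iff_isBaseChange (nonZeroDivisors (R ⧸ P)) K mk).2 (TensorProduct.isBaseChange (R ⧸ P) T K)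
  have hr0 : mk r ≠ 0 := by
    intro h
    obtain ⟨⟨s, hs⟩, hsr⟩ := (IsLocalizedModule.eq_zero_iff (nonZeroDivisors (R ⧸ P)) mk).1 h
    obtain ⟨s, rfl⟩ := Ideal.Quotient.mk_surjective s
    refine nonZeroDivisors.ne_zero hs (Ideal.Quotient.eq_zero_iff_mem.2 (hr s ?_))
    rw [← IsScalarTower.algebraMap_smul (R ⧸ P) s r]; exact hsr
  haveI : Module.Free K (K ⊗[R ⧸ P] T) := Module.Free.of_divisionRing K (K ⊗[R ⧸ P] T)
  haveI : Module.Projective K (K ⊗[R ⧸ P] T) := Module.Projective.of_free
  obtain ⟨ψ, hψ⟩ : ∃ ψ : Module.Dual K (K ⊗[R ⧸ P] T), ψ (mk r) ≠ 0 := by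
    by_contra h
    push Not at h
    exact hr0 ((Module.forall_dual_apply_eq_zero_iff K _).1 h)
  exact ⟨((ψ.restrictScalars (R ⧸ P)).comp mk).restrictScalars R, hψ⟩

theorem regular_of_coeff {k A R : Type u} [Field k] [IsAlgClosed k] [CommRing A] [IsDomain A] [Algebra k A]
    [CommRing R] [Algebra k R] [IsNoetherianRing R] {ι : Type u} [DecidableEq ι] (b : Module.Basis ι k A)
    (G : Set (R ⊗[k] A)) (hG : ∀ P : Ideal R, P.IsPrime → ∃ g ∈ G, ∃ i, TensorProduct.equivFinsuppOfBasisRight b g i ∉ P)
    (f : R ⊗[k] A) (hf : ∀ g ∈ G, ∃ N : ℕ, g ^ N * f = 0) : f = 0 := by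
  classical
  by_contra hf0
  let e := TensorProduct.equivFinsuppOfBasisRight (M := R) b
  let i₁ : R →+* R ⊗[k] A := Algebra.TensorProduct.includeLeftRingHom
  let ann : R ⊗[k] A → Ideal R := fun y => (Submodule.span (R ⊗[k] A) ({y} : Set (R ⊗[k] A))).annihilator.comap i₁
  have hann : ∀ y (s : R), s ∈ ann y ↔ i₁ s * y = 0 := fun y s => by
    simp [ann, Ideal.mem_comap, Submodule.mem_annihilator_span_singleton]
  obtain ⟨P, ⟨x, hx, rfl⟩, hmax⟩ := set_has_maximal_iff_noetherian.2 inferInstance
    {I : Ideal R | ∃ x, i₁ x * f ≠ 0 ∧ I = ann (i₁ x * f)} ⟨ann (i₁ 1 * f), 1, by simpa using hf0, rfl⟩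
  set P := ann (i₁ x * f) with hPdef
  have hP : P.IsPrime := by
    constructor
    · intro h
      have := (hann _ 1).1 (h ▸ Submodule.mem_top (x := (1 : R)))
      rw [map_one, one_mul] at this
      exact hx this
    · intro a c hac
      by_contra hne
      push Not at hne
      obtain ⟨ha, hc⟩ := hne
      rw [hann] at ha hac
      refine hc ?_
      have hle : P ≤ ann (i₁ (a * x) * f) := fun s hs => by
        rw [hPdef, hann] at hs
        rw [hann, map_mul, show i₁ s * (i₁ a * i₁ x * f) = i₁ a * (i₁ s * (i₁ x * f)) by ring, hs, mul_zero]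
      have heq : P = ann (i₁ (a * x) * f) := by
        by_contra hne'
        exact hmax _ ⟨a * x, by rw [map_mul, mul_assoc]; exact ha, rfl⟩ (lt_of_le_of_ne hle hne')
      rw [heq, hann, map_mul, show i₁ c * (i₁ a * i₁ x * f) = i₁ a * i₁ c * (i₁ x * f) by ring, ← map_mul]
      exact hac
  obtain ⟨g, hgG, i, hgi⟩ := hG P hP
  obtain ⟨N, hN⟩ := hf g hgG
  have hex : ∃ M y, ann y = P ∧ g ^ M * y = 0 := ⟨N, i₁ x * f, rfl, by rw [mul_left_comm, hN, mul_zero]⟩
  set M := Nat.find hex with hM
  obtain ⟨y, hy, hy0⟩ := Nat.find_spec hex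
  have hM0 : M ≠ 0 := fun h0 => by
    rw [← hM, h0, pow_zero, one_mul] at hy0
    exact hP.ne_top (hy ▸ (Ideal.eq_top_iff_one _).2 ((hann y 1).2 (by rw [hy0, mul_zero])))
  set h := g ^ (M - 1) * y
  have hgh : g * h = 0 := by rw [← mul_assoc, ← pow_succ', Nat.sub_add_cancel (Nat.pos_of_ne_zero hM0)]; exact hy0
  have hh : ann h = P := by
    refine le_antisymm (fun s hs => ?_) (fun s hs => ?_)
    · rw [hann] at hs
      by_contra hsP
      refine Nat.find_min hex (m := M - 1) (by omega) ⟨i₁ s * y, ?_, by rw [mul_left_comm]; exact hs⟩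
      refine le_antisymm (fun t ht => ?_) (fun t ht => ?_)
      · rw [hann, ← mul_assoc, ← map_mul, ← hann, hy] at ht
        exact (hP.mem_or_mem ht).resolve_right hsP
      · rw [← hy, hann] at ht
        rw [hann, mul_left_comm, ht, mul_zero]
    · rw [← hy, hann] at hs
      rw [hann, mul_left_comm, hs, mul_zero]
  -- coefficients of `h`
  have hsm : ∀ (s : R) (z : R ⊗[k] A) j, e (i₁ s * z) j = s * e z j := by
    intro s z j
    have : i₁ s * z = LinearMap.rTensor A (LinearMap.mulLeft k s) z := by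
      induction z using TensorProduct.induction_on with
      | zero => simp
      | tmul a c => simp [i₁]
      | add u v hu hv => simp [mul_add, hu, hv]
    rw [this, coeff_map]; rfl
  obtain ⟨j, hj⟩ : ∃ j, ∀ s, s * e h j = 0 → s ∈ P := by
    by_contra hno
    push Not at hno
    choose s hs hsP using hno
    have hmem : ∏ j ∈ (e h).support, s j ∈ ann h := by
      rw [hann]
      refine e.injective (Finsupp.ext fun j => ?_)
      rw [hsm, map_zero, Finsupp.zero_apply]
      by_cases hj : j ∈ (e h).support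
      · rw [← Finset.prod_erase_mul _ _ hj, mul_assoc, hs, mul_zero]
      · rw [Finsupp.notMem_support_iff.1 hj, mul_zero]
    rw [hh, hP.prod_mem_iff] at hmem
    obtain ⟨j, -, hj⟩ := hmem
    exact hsP j hj
  let T := Submodule.torsionBySet R R (P : Set R)
  have hcoefT : ∀ l, e h l ∈ T := fun l => by
    rw [Submodule.mem_torsionBySet_iff]
    rintro ⟨p, hp⟩
    have hp' : p ∈ ann h := hh.symm ▸ hp
    rw [hann] at hp'
    show p * e h l = 0
    rw [← hsm, hp', map_zero, Finsupp.zero_apply]
  let K := FractionRing (R ⧸ P)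
  obtain ⟨φ, hφ⟩ := exists_dual P T ⟨e h j, hcoefT j⟩ (fun s hs => hj s (congrArg Subtype.val hs))
  let ι₀ : T ⊗[k] A →ₗ[k] R ⊗[k] A := LinearMap.rTensor A (T.subtype.restrictScalars k)
  let ht : T ⊗[k] A := ∑ l ∈ (e h).support, (⟨e h l, hcoefT l⟩ : T) ⊗ₜ[k] b l
  have hι : ι₀ ht = h := by
    conv_rhs => rw [eq_sum b h]
    simp [ι₀, ht, e]
  let μ : T ⊗[k] A →ₗ[k] T ⊗[k] A := ∑ l ∈ (e g).support,
    TensorProduct.map ((LinearMap.lsmul R T (e g l)).restrictScalars k) (LinearMap.mulLeft k (b l))
  let ψ : R →ₐ[k] K := IsScalarTower.toAlgHom k R K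
  let gK : K ⊗[k] A := Algebra.TensorProduct.map ψ (AlgHom.id k A) g
  let φA : T ⊗[k] A →ₗ[k] K ⊗[k] A := LinearMap.rTensor A (φ.restrictScalars k)
  have hμι : ∀ z, ι₀ (μ z) = g * ι₀ z := by
    intro z
    induction z using TensorProduct.induction_on with
    | zero => simp
    | tmul t a =>
      conv_rhs => rw [eq_sum b g, Finset.sum_mul]
      simp [μ, ι₀, e]
    | add u v hu hv => simp only [map_add, hu, hv, mul_add]
  have hμφ : ∀ z, φA (μ z) = gK * φA z := by
    intro z
    induction z using TensorProduct.induction_on with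
    | zero => simp
    | tmul t a =>
      have : gK = ∑ l ∈ (e g).support, ψ (e g l) ⊗ₜ[k] b l := by
        simp only [gK]
        conv_lhs => rw [eq_sum b g]
        simp [e]
      rw [this, Finset.sum_mul]
      simp [μ, φA, ψ, Algebra.smul_def]
      rfl
    | add u v hu hv => simp only [map_add, hu, hv, mul_add]
  have hι_inj : Function.Injective ι₀ :=
    Module.Flat.rTensor_preserves_injective_linearMap (M := A) (T.subtype.restrictScalars k) Subtype.val_injective
  have h0 : gK * φA ht = 0 := by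
    rw [← hμφ, show μ ht = 0 from hι_inj (by rw [hμι, hι, hgh, map_zero]), map_zero]
  haveI := Groth.Agent.FieldExtConn.isDomain_tensor_of_isAlgClosed k K A
  rcases mul_eq_zero.1 h0 with h1 | h1
  · refine hgi (Ideal.Quotient.eq_zero_iff_mem.1 (IsFractionRing.injective (R ⧸ P) K ?_))
    have := congrArg (fun z => TensorProduct.equivFinsuppOfBasisRight b z i) h1
    simp only [gK, map_zero, Finsupp.zero_apply] at this
    rw [map_zero, ← this, show Algebra.TensorProduct.map ψ (AlgHom.id k A) g = LinearMap.rTensor A ψ.toLinearMap g from rfl, coeff_map]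
    rfl
  · refine hφ ?_
    have h2 := congrArg (fun z => TensorProduct.equivFinsuppOfBasisRight b z j) h1
    simp only [φA, coeff_map, map_zero, Finsupp.zero_apply] at h2
    have h3 : TensorProduct.equivFinsuppOfBasisRight b ht j = ⟨e h j, hcoefT j⟩ := Subtype.ext (by
      have := coeff_map b (T.subtype.restrictScalars k) ht j
      rw [show LinearMap.rTensor A (T.subtype.restrictScalars k) ht = h from hι] at this
      exact this.symm)
    rw [h3] at h2; exact h2


/-- Let k be an algebraically closed field, A a finitely generated k-algebra which is an integral domain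
(X = Spec A an affine variety), R a commutative k-algebra, possibly non-reduced, and U an open
subset of X_R = Spec (R ⊗_k A) meeting every fibre of X_R → Spec R (a very dense open subset). Then
a regular function on X_R whose restriction to U vanishes is zero: if f ∈ R ⊗_k A maps to 0 in the
localisation (R ⊗_k A)[1/g] for every g with D(g) ⊆ U, then f = 0. (The published statement is that
automorphisms of a torsor under a smooth affine group scheme over X_R which are the identity over a
very dense open subset are the identity, for X a smooth projective curve; its proof reduces this to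
the present assertion about functions, for quasi-projective X; this row is the affine case.) -/
theorem result
    (k : Type u) [Field k] [IsAlgClosed k]
    (A : Type u) [CommRing A] [Algebra k A] [IsDomain A] [Algebra.FiniteType k A]
    (R : Type u) [CommRing R] [Algebra k R]
    (U : TopologicalSpace.Opens (PrimeSpectrum (TensorProduct k R A)))
    (hsurj : ∀ q : PrimeSpectrum R, ∃ P ∈ U,
      PrimeSpectrum.comap (Algebra.TensorProduct.includeLeftRingHom : R →+* TensorProduct k R A) P = q)
    (f : TensorProduct k R A)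
    (hf : ∀ g : TensorProduct k R A, (PrimeSpectrum.basicOpen g : Set (PrimeSpectrum (TensorProduct k R A))) ⊆ U →
      algebraMap (TensorProduct k R A) (Localization.Away g) f = 0) :
    f = 0 := by
  classical
  let b := Module.Free.chooseBasis k A
  let e := TensorProduct.equivFinsuppOfBasisRight (M := R) b
  let G : Set (R ⊗[k] A) := {g | (PrimeSpectrum.basicOpen g : Set (PrimeSpectrum (R ⊗[k] A))) ⊆ U}
  let C : Ideal R := Ideal.span {c | ∃ g ∈ G, ∃ i, e g i = c}
  have hC : C = ⊤ := by
    by_contra h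
    obtain ⟨q, hq, hCq⟩ := Ideal.exists_le_maximal C h
    obtain ⟨Pr, hPU, hPq⟩ := hsurj ⟨q, hq.isPrime⟩
    obtain ⟨_, ⟨g, rfl⟩, hgP, hgU⟩ := PrimeSpectrum.isTopologicalBasis_basic_opens.exists_subset_of_mem_open hPU U.2
    refine hgP ?_
    show g ∈ Pr.asIdeal
    rw [eq_sum b g]
    refine Ideal.sum_mem _ fun i _ => ?_
    have hin : e g i ∈ q := hCq (Ideal.subset_span ⟨g, hgU, i, rfl⟩)
    have hin' : e g i ∈ (PrimeSpectrum.comap (Algebra.TensorProduct.includeLeftRingHom : R →+* R ⊗[k] A) Pr).asIdeal := by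
      rw [hPq]; exact hin
    have := Ideal.mul_mem_right ((1 : R) ⊗ₜ[k] b i) Pr.asIdeal hin'
    simpa [e] using this
  obtain ⟨s, hs, hs1⟩ := Submodule.mem_span_finite_of_mem_span ((Ideal.eq_top_iff_one C).1 hC)
  choose! gg hgg ii hii using fun c (hc : c ∈ (s : Set R)) => hs hc
  obtain ⟨l, hl⟩ := Submodule.mem_span_finset.1 hs1
  -- descend to a finitely generated subalgebra
  let X : Finset R := (e f).support.image (e f) ∪ (s.biUnion fun c => (e (gg c)).support.image (e (gg c))) ∪ s.image l
  let R₀ : Subalgebra k R := Algebra.adjoin k (X : Set R)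
  haveI : Algebra.FiniteType k R₀ := (Subalgebra.fg_iff_finiteType _).1 (Subalgebra.fg_adjoin_finset X)
  haveI : IsNoetherianRing R₀ := Algebra.FiniteType.isNoetherianRing k R₀
  let incl := Algebra.TensorProduct.map R₀.val (AlgHom.id k A)
  have hinj : Function.Injective incl :=
    Module.Flat.rTensor_preserves_injective_linearMap (M := A) R₀.val.toLinearMap Subtype.val_injective
  let e₀ := TensorProduct.equivFinsuppOfBasisRight (M := R₀) b
  have hlift : ∀ z : R ⊗[k] A, (e z).support.image (e z) ⊆ X → ∃ z₀, incl z₀ = z ∧ ∀ i, (e₀ z₀ i : R) = e z i := by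
    intro z hz
    have hm : ∀ i, e z i ∈ R₀ := fun i => by
      by_cases hi : e z i = 0
      · rw [hi]; exact R₀.zero_mem
      · exact Algebra.subset_adjoin (Finset.mem_coe.2 (hz (Finset.mem_image.2 ⟨i, Finsupp.mem_support_iff.2 hi, rfl⟩)))
    let z₀ : R₀ ⊗[k] A := ∑ i ∈ (e z).support, (⟨e z i, hm i⟩ : R₀) ⊗ₜ[k] b i
    have h1 : incl z₀ = z := by
      conv_rhs => rw [eq_sum b z]
      simp [incl, z₀, e]
    refine ⟨z₀, h1, fun i => ?_⟩
    rw [← h1]
    exact (coeff_map b R₀.val.toLinearMap z₀ i).symm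
  obtain ⟨f₀, hf₀, -⟩ := hlift f (Finset.subset_union_left.trans Finset.subset_union_left)
  have hg₀ : ∀ c : s, ∃ g₀, incl g₀ = gg c ∧ ∀ i, (e₀ g₀ i : R) = e (gg c) i := fun c => hlift _
    ((Finset.subset_biUnion_of_mem (fun c => (e (gg c)).support.image (e (gg c))) c.2).trans
      (Finset.subset_union_right.trans Finset.subset_union_left))
  choose g₀ hg₀ hcoef using hg₀
  suffices f₀ = 0 by rw [← hf₀, this, map_zero]
  refine regular_of_coeff b (Set.range g₀) (fun P hP => ?_) f₀ ?_
  · by_contra hno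
    push Not at hno
    refine hP.ne_top ((Ideal.eq_top_iff_one P).2 ?_)
    have h1 : (1 : R₀) = ∑ c : s, (⟨l c, Algebra.subset_adjoin (Finset.mem_coe.2 (Finset.mem_union_right _ (Finset.mem_image.2 ⟨c, c.2, rfl⟩)))⟩ : R₀) * e₀ (g₀ c) (ii c) := by
      refine Subtype.ext ?_
      rw [OneMemClass.coe_one, AddSubmonoidClass.coe_finsetSum, ← hl.2, ← Finset.sum_coe_sort]
      refine Finset.sum_congr rfl fun c _ => ?_
      rw [MulMemClass.coe_mul, hcoef, hii c c.2, smul_eq_mul]
    rw [h1]
    exact Ideal.sum_mem _ fun c _ => Ideal.mul_mem_left _ _ (hno _ ⟨c, rfl⟩ _)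
  · rintro _ ⟨c, rfl⟩
    have h0 := hf (gg c) (hgg c c.2)
    rw [IsLocalization.map_eq_zero_iff (Submonoid.powers (gg c))] at h0
    obtain ⟨⟨_, N, rfl⟩, hN⟩ := h0
    exact ⟨N, hinj (by rw [map_mul, map_pow, hg₀, hf₀, map_zero]; exact hN)⟩

end Groth.Agent.S19310
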