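import Groth.Statements.S19323
import Mathlib.Algebra.Homology.ShortComplex.HomologicalComplex
set_option linter.unusedVariables false
set_option linter.style.haveILetI false
set_option backward.isDefEq.respectTransparency false

set_option autoImplicit false
universe v u
open CategoryTheory CategoryTheory.Limits
open SpSeq

namespace Groth.Agent.S19323

/-- In an abelian category let E and E' be first-quadrant E₂ cohomological spectral sequences and φ : E
⟶ E' a morphism of spectral sequences such that (i) every differential of E' leaving a position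
whose first coordinate is nonzero vanishes, (ii) on every page the map φ at each position followed
by the outgoing differential of E' is zero, and (iii) φ is a monomorphism at every position of page
2. Then E degenerates at page 2. -/
theorem result
    {C : Type u} [Category.{v} C] [Abelian C]
    (E E' : E₂CohomologicalSpectralSequence C) (φ : E ⟶ E')
    (hE : ∀ pq : ℤ × ℤ, pq.1 < 0 ∨ pq.2 < 0 → IsZero ((E.page 2 le_rfl).X pq))
    (hE' : ∀ pq : ℤ × ℤ, pq.1 < 0 ∨ pq.2 < 0 → IsZero ((E'.page 2 le_rfl).X pq))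
    (hd' : ∀ (r : ℤ) (hr : 2 ≤ r) (pq : ℤ × ℤ), pq.1 ≠ 0 →
      (E'.page r hr).d pq (pq + (r, 1 - r)) = 0)
    (hφd : ∀ (r : ℤ) (hr : 2 ≤ r) (pq : ℤ × ℤ),
      (φ.hom r hr).f pq ≫ (E'.page r hr).d pq (pq + (r, 1 - r)) = 0)
    (hmono : ∀ pq : ℤ × ℤ, Mono ((φ.hom 2 le_rfl).f pq)) :
    SpSeq.Degenerates E 2 := by
  have key : ∀ (n : ℕ) (r : ℤ) (hr : 2 ≤ r), r = 2 + n →
      ((∀ pq : ℤ × ℤ, pq.1 < 0 → Limits.IsZero ((E.page r hr).X pq)) ∧
      (∀ pq : ℤ × ℤ, r ≤ pq.1 → Mono ((φ.hom r hr).f pq))) ∧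
      ∀ pq pq' : ℤ × ℤ, (E.page r hr).d pq pq' = 0 := by
    have step : ∀ (r : ℤ) (hr : 2 ≤ r),
        (∀ pq : ℤ × ℤ, pq.1 < 0 → Limits.IsZero ((E.page r hr).X pq)) →
        (∀ pq : ℤ × ℤ, r ≤ pq.1 → Mono ((φ.hom r hr).f pq)) →
        ∀ pq pq' : ℤ × ℤ, (E.page r hr).d pq pq' = 0 := by
      intro r hr h0 hm pq pq'
      by_cases hrel : (ComplexShape.up' (⟨r, 1 - r⟩ : ℤ × ℤ)).Rel pq pq'
      · obtain rfl : pq + (r, 1 - r) = pq' := hrel
        by_cases hp : pq.1 < 0
        · exact (h0 pq hp).eq_of_src _ _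
        · haveI := hm (pq + (r, 1 - r)) (by simp only [Prod.fst_add]; omega)
          rw [← cancel_mono ((φ.hom r hr).f (pq + (r, 1 - r))), Limits.zero_comp,
            ← HomologicalComplex.Hom.comm]
          exact hφd r hr pq
      · exact (E.page r hr).shape _ _ hrel
    intro n
    induction n with
    | zero =>
      intro r hr h
      obtain rfl : r = 2 := by omega
      have a : ∀ pq : ℤ × ℤ, pq.1 < 0 → Limits.IsZero ((E.page 2 hr).X pq) := fun pq h => hE pq (Or.inl h)
      have b : ∀ pq : ℤ × ℤ, (2 : ℤ) ≤ pq.1 → Mono ((φ.hom 2 hr).f pq) := fun pq _ => hmono pq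
      exact ⟨⟨a, b⟩, step 2 hr a b⟩
    | succ n ih =>
      intro r' hr' h
      obtain ⟨r, rfl⟩ : ∃ r, r' = r + 1 := ⟨r' - 1, by omega⟩
      have hr : 2 ≤ r := by omega
      obtain ⟨⟨h0, hm⟩, hd⟩ := ih r hr (by omega)
      have a : ∀ pq : ℤ × ℤ, pq.1 < 0 → Limits.IsZero ((E.page (r+1) hr').X pq) := by
        intro pq hp
        refine Limits.IsZero.of_iso ?_ (E.iso r (r+1) pq rfl hr).symm
        exact (HomologicalComplex.exactAt_iff_isZero_homology _ _).1
          (ShortComplex.exact_of_isZero_X₂ _ (h0 pq hp))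
      have b : ∀ pq : ℤ × ℤ, r + 1 ≤ pq.1 → Mono ((φ.hom (r+1) hr').f pq) := by
        intro pq hp
        haveI : Mono ((φ.hom r hr).f pq) := hm pq (by omega)
        haveI : IsIso ((E.page r hr).homologyπ pq) := (E.page r hr).isIso_homologyπ _ pq rfl (hd _ _)
        haveI : IsIso ((E'.page r hr).homologyπ pq) := (E'.page r hr).isIso_homologyπ _ pq rfl (by
          by_cases hrel : (ComplexShape.up' (⟨r, 1 - r⟩ : ℤ × ℤ)).Rel ((ComplexShape.up' (⟨r, 1 - r⟩ : ℤ × ℤ)).prev pq) pq
          · have e : (ComplexShape.up' (⟨r, 1 - r⟩ : ℤ × ℤ)).prev pq + (r, 1 - r) = pq := hrel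
            have e1 := congrArg Prod.fst e
            simp only [Prod.fst_add] at e1
            have := hd' r hr ((ComplexShape.up' (⟨r, 1 - r⟩ : ℤ × ℤ)).prev pq) (by omega)
            rwa [e] at this
          · exact (E'.page r hr).shape _ _ hrel)
        haveI : IsIso ((E.page r hr).iCycles pq) := (E.page r hr).isIso_iCycles pq _ rfl (hd _ _)
        haveI : Mono (HomologicalComplex.cyclesMap (φ.hom r hr) pq) := by
          have := HomologicalComplex.cyclesMap_i (φ.hom r hr) pq
          have h2 : Mono (HomologicalComplex.cyclesMap (φ.hom r hr) pq ≫ (E'.page r hr).iCycles pq) := by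
            rw [this]; infer_instance
          exact mono_of_mono _ ((E'.page r hr).iCycles pq)
        haveI : Mono (HomologicalComplex.homologyMap (φ.hom r hr) pq) := by
          have e : HomologicalComplex.homologyMap (φ.hom r hr) pq =
              inv ((E.page r hr).homologyπ pq) ≫ HomologicalComplex.cyclesMap (φ.hom r hr) pq ≫ (E'.page r hr).homologyπ pq := by
            rw [← HomologicalComplex.homologyπ_naturality, IsIso.inv_hom_id_assoc]
          rw [e]; infer_instance
        have e : (φ.hom (r+1) hr').f pq = (E.iso r (r+1) pq rfl hr).inv ≫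
            HomologicalComplex.homologyMap (φ.hom r hr) pq ≫ (E'.iso r (r+1) pq rfl hr).hom := by
          rw [φ.comm r (r+1) pq rfl hr, Iso.inv_hom_id_assoc]
        rw [e]; infer_instance
      exact ⟨⟨a, b⟩, step _ hr' a b⟩
  refine ⟨le_rfl, fun r' h₀ h pq pq' => ?_⟩
  exact (key (r' - 2).toNat r' h₀ (by omega)).2 pq pq'

end Groth.Agent.S19323
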