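import Groth.Statements.S19326
-- import your own Groth.Agent.* helpers here

set_option autoImplicit false
universe u
open TensorProduct
open GLin

namespace Groth.Agent.S19326

/-- Let k be a field, M a finite abelian group and D = Spec k[M] the finite diagonalizable group scheme
it defines, acting on an affine k-scheme U = Spec R through a multiplicative coaction R → R ⊗ k[M];
write R_a for the weight space of a ∈ M (elements with coaction f ⊗ a). For an ideal J of R the
induced action of D on the closed subscheme V(J) is trivial, meaning that the coaction followed by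
reduction modulo J equals f ↦ (f mod J) ⊗ 1, exactly when J contains the ideal generated by the
weight spaces R_a for a ≠ 0; in other words that ideal defines the largest closed subscheme of U on
which D acts trivially. (The printed setting has U smooth, which plays no role here and is not
assumed; the further assertion that the construction commutes with flat base change on U/D is not
part of this statement.) -/
theorem result
    {k : Type u} [Field k] {M : Type u} [AddCommGroup M] [Finite M]
    {R : Type u} [CommRing R] [Algebra k R] [HopfRep.Comod k (AddMonoidAlgebra k M) R]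
    [GLin.IsCoactAlg k (AddMonoidAlgebra k M) R] (J : Ideal R) :
    (∀ f : R, LinearMap.rTensor (AddMonoidAlgebra k M) (Ideal.Quotient.mkₐ k J).toLinearMap
        (HopfRep.Comod.coact (k := k) (A := AddMonoidAlgebra k M) f) =
        (Ideal.Quotient.mk J f) ⊗ₜ[k] (1 : AddMonoidAlgebra k M)) ↔
      Ideal.span (⋃ (a : M) (_ : a ≠ 0),
        (HopfRep.eigenspace k (AddMonoidAlgebra k M) R (AddMonoidAlgebra.single a 1) : Set R)) ≤ J := by
  classical
  haveI := Fintype.ofFinite M
  let c : M → ((AddMonoidAlgebra k M) →ₗ[k] k) := fun a => (Finsupp.lapply a) ∘ₗ (AddMonoidAlgebra.coeffLinearEquiv k).toLinearMap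
  have hc : ∀ a b (r : k), c a (AddMonoidAlgebra.single b r) = if b = a then r else 0 := by
    intro a b r; simp [c, Finsupp.single_apply, AddMonoidAlgebra.coeffLinearEquiv_apply, AddMonoidAlgebra.coeff_single]
  let π : M → (R ⊗[k] (AddMonoidAlgebra k M) →ₗ[k] R) := fun a => (TensorProduct.rid k R).toLinearMap ∘ₗ (c a).lTensor R
  have hsum : ∀ y : R ⊗[k] (AddMonoidAlgebra k M), y = ∑ a, π a y ⊗ₜ[k] AddMonoidAlgebra.single a (1 : k) := by
    intro y
    induction y using TensorProduct.induction_on with
    | zero => simp
    | add x y hx hy => simp only [map_add, TensorProduct.add_tmul, Finset.sum_add_distrib, ← hx, ← hy]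
    | tmul r x =>
      induction x using AddMonoidAlgebra.induction_linear with
      | zero => simp
      | add x y hx hy => simp only [TensorProduct.tmul_add, map_add, TensorProduct.add_tmul, Finset.sum_add_distrib, ← hx, ← hy]
      | single b s =>
        rw [Finset.sum_eq_single b (fun x _ hx => by simp [π, hc, Ne.symm hx]) (by simp)]
        simp [π, hc, TensorProduct.smul_tmul]
  have hcounit : ∀ f : R, f = ∑ a, π a (HopfRep.Comod.coact (k := k) (A := AddMonoidAlgebra k M) f) := by
    intro f
    have h := congrArg (TensorProduct.rid k R) (LinearMap.congr_fun (HopfRep.Comod.counit_comp (k := k) (A := AddMonoidAlgebra k M) (V := R)) f)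
    conv_lhs at h => rw [LinearMap.comp_apply, hsum (HopfRep.Comod.coact (k := k) (A := AddMonoidAlgebra k M) f)]
    simp only [map_sum, LinearMap.lTensor_tmul, LinearMap.flip_apply, TensorProduct.mk_apply, TensorProduct.rid_tmul, AddMonoidAlgebra.counit_single, CommSemiring.counit_apply, one_smul] at h
    exact h.symm
  have hweight : ∀ (a : M) (f : R),
      π a (HopfRep.Comod.coact (k := k) (A := AddMonoidAlgebra k M) f) ∈ HopfRep.eigenspace k (AddMonoidAlgebra k M) R (AddMonoidAlgebra.single a 1) := by
    intro a f
    set y := HopfRep.Comod.coact (k := k) (A := AddMonoidAlgebra k M) f with hy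
    let T : R ⊗[k] ((AddMonoidAlgebra k M) ⊗[k] (AddMonoidAlgebra k M)) →ₗ[k] R ⊗[k] (AddMonoidAlgebra k M) :=
      LinearMap.lTensor R ((TensorProduct.rid k (AddMonoidAlgebra k M)).toLinearMap ∘ₗ (c a).lTensor (AddMonoidAlgebra k M))
    have h := congrArg T (LinearMap.congr_fun (HopfRep.Comod.coassoc (k := k) (A := AddMonoidAlgebra k M) (V := R)) f)
    simp only [LinearMap.comp_apply, ← hy] at h
    have hl : ∀ z : R ⊗[k] (AddMonoidAlgebra k M), T ((TensorProduct.assoc k R (AddMonoidAlgebra k M) (AddMonoidAlgebra k M)) ((HopfRep.Comod.coact (k := k) (A := AddMonoidAlgebra k M)).rTensor (AddMonoidAlgebra k M) z)) =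
        HopfRep.Comod.coact (k := k) (A := AddMonoidAlgebra k M) (π a z) := by
      intro z
      induction z using TensorProduct.induction_on with
      | zero => simp
      | add x y hx hy => simp only [map_add, hx, hy]
      | tmul r x =>
        simp only [LinearMap.rTensor_tmul, π, LinearMap.comp_apply, LinearMap.lTensor_tmul, LinearEquiv.coe_coe, TensorProduct.rid_tmul, map_smul]
        generalize HopfRep.Comod.coact (k := k) (A := AddMonoidAlgebra k M) r = w
        induction w using TensorProduct.induction_on with
        | zero => simp
        | add p q hp hq => simp only [TensorProduct.add_tmul, map_add, hp, hq, smul_add]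
        | tmul p q => simp [T]
    have hr : ∀ z : R ⊗[k] (AddMonoidAlgebra k M), T ((CoalgebraStruct.comul (R := k) (A := AddMonoidAlgebra k M)).lTensor R z) =
        π a z ⊗ₜ[k] AddMonoidAlgebra.single a (1 : k) := by
      intro z
      induction z using TensorProduct.induction_on with
      | zero => simp
      | add x y hx hy => simp only [map_add, hx, hy, TensorProduct.add_tmul]
      | tmul r x =>
        induction x using AddMonoidAlgebra.induction_linear with
        | zero => simp
        | add x y hx hy => simp only [TensorProduct.tmul_add, map_add, hx, hy, TensorProduct.add_tmul]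
        | single b s =>
          by_cases hb : b = a
          · subst hb; simp [T, π, hc, AddMonoidAlgebra.comul_single, TensorProduct.smul_tmul]
          · simp [T, π, hc, hb, AddMonoidAlgebra.comul_single]
    exact (hl y).symm.trans (h.trans (hr y))
  constructor
  · intro h
    refine Ideal.span_le.2 ?_
    simp only [Set.iUnion_subset_iff]
    intro a ha f hf
    have h1 := h f
    rw [show HopfRep.Comod.coact (k := k) (A := AddMonoidAlgebra k M) f = f ⊗ₜ[k] AddMonoidAlgebra.single a (1 : k) from hf] at h1
    have h2 := congrArg ((TensorProduct.rid k (R ⧸ J)).toLinearMap ∘ₗ (c a).lTensor (R ⧸ J)) h1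
    simp [hc, AddMonoidAlgebra.one_def, Ne.symm ha] at h2
    exact Ideal.Quotient.eq_zero_iff_mem.1 h2
  · intro h f
    have h0 : ∀ a, a ≠ 0 → Ideal.Quotient.mk J (π a (HopfRep.Comod.coact (k := k) (A := AddMonoidAlgebra k M) f)) = 0 := fun a ha =>
      Ideal.Quotient.eq_zero_iff_mem.2 (h (Ideal.subset_span (Set.mem_iUnion₂.2 ⟨a, ha, hweight a f⟩)))
    conv_lhs => rw [hsum (HopfRep.Comod.coact (k := k) (A := AddMonoidAlgebra k M) f)]
    conv_rhs => rw [hcounit f, map_sum, TensorProduct.sum_tmul]
    rw [map_sum]
    refine Finset.sum_congr rfl fun a _ => ?_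
    by_cases ha : a = 0
    · subst ha; simp [AddMonoidAlgebra.one_def]
    · simp [h0 a ha]

end Groth.Agent.S19326
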