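import Groth.Statements.S19329
import Groth.Agent.ModPairBasic.Open

set_option autoImplicit false
universe u
open CategoryTheory CategoryTheory.Limits AlgebraicGeometry TopologicalSpace
open ModPair

namespace Groth.Agent.S19329

/-- Let (X, I), (Y, J), (Z, K) be modulus pairs, i.e. schemes with quasi-coherent ideal sheaves of
effective Cartier divisors, and let f : X ⟶ Y and g : Y ⟶ Z satisfy the modulus conditions I ≤
J.comap f and J ≤ K.comap g. Suppose the composite X ⟶ Z is minimal, I = K.comap (f ≫ g). Then f is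
minimal, and there is an open subset U of Y whose inclusion is quasi-compact, which contains the
image of f, and such that U ⟶ Z is minimal for the modulus of Y restricted to U. -/
theorem result {X Y Z : Scheme.{u}}
    (I : X.IdealSheafData) (J : Y.IdealSheafData) (K : Z.IdealSheafData)
    (hI : BlowUp.IsEffCartierIdeal I) (hJ : BlowUp.IsEffCartierIdeal J)
    (hK : BlowUp.IsEffCartierIdeal K) (f : X ⟶ Y) (g : Y ⟶ Z)
    (hf : ModPair.IsAmbient I J f) (hg : ModPair.IsAmbient J K g)
    (hfg : ModPair.IsMinimal I K (f ≫ g)) :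
    ModPair.IsMinimal I J f ∧
      ∃ U : Y.Opens, QuasiCompact U.ι ∧ Set.range f.base ⊆ (U : Set Y) ∧
        ModPair.IsMinimal (J.comap U.ι) K (U.ι ≫ g) := by
  have hL : BlowUp.IsEffCartierIdeal (K.comap g) :=
    Groth.Agent.ModPairBasic.ec_comap_of_isAmbient hJ (Groth.Agent.ModPairBasic.isLocPrincipal_of_ec hK) g hg
  have h2 : J.comap f ≤ I := by
    rw [hfg, Scheme.IdealSheafData.comap_comp]
    exact Scheme.IdealSheafData.comap_mono f hg
  have h1 : I = J.comap f := le_antisymm hf h2
  obtain ⟨U, hqc, hr, hU⟩ := Groth.Agent.ModPairBasic.exists_agree_open hJ hL hg f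
    (by rw [← h1, ← Scheme.IdealSheafData.comap_comp]; exact hfg) (h1 ▸ hI)
  refine ⟨h1, U, hqc, hr, ?_⟩
  show _ = K.comap _
  rw [Scheme.IdealSheafData.comap_comp, hU]

end Groth.Agent.S19329
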