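import Groth.Statements.S19330
import Groth.Agent.ModPairBasic.Open
import Groth.Agent.S9347

set_option autoImplicit false
universe u
open CategoryTheory CategoryTheory.Limits AlgebraicGeometry TopologicalSpace
open ModPair

namespace Groth.Agent.S19330

/-- Let (S, I) be a modulus pair, i.e. a scheme with the quasi-coherent ideal sheaf of an effective
Cartier divisor, with interior U, and let g_i : V_i ⟶ U be a jointly surjective family of closed
immersions into the interior. Let V̄_i be the scheme-theoretic image of V_i ⟶ U ⟶ S. Then the closed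
immersions V̄_i ⟶ S are jointly surjective, the modulus restricted to each V̄_i is again the ideal
sheaf of an effective Cartier divisor (so that V̄_i ⟶ S is a minimal morphism of modulus pairs), and
the interior of V̄_i is V_i: the canonical morphism V_i ⟶ V̄_i is an open immersion whose image is
the preimage of U. -/
theorem result {S : Scheme.{u}} (I : S.IdealSheafData)
    (hI : BlowUp.IsEffCartierIdeal I) {ι : Type u} (V : ι → Scheme.{u})
    (g : ∀ i, V i ⟶ (ModPair.interior I : Scheme.{u})) [∀ i, IsClosedImmersion (g i)]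
    (hsurj : ∀ u : (ModPair.interior I : Scheme.{u}), ∃ (i : ι) (v : V i), (g i).base v = u) :
    (∀ s : S, ∃ (i : ι) (v : (g i ≫ (ModPair.interior I).ι).image),
        (g i ≫ (ModPair.interior I).ι).imageι.base v = s) ∧
      (∀ i, BlowUp.IsEffCartierIdeal (I.comap (g i ≫ (ModPair.interior I).ι).imageι)) ∧
      ∀ i, IsOpenImmersion (g i ≫ (ModPair.interior I).ι).toImage ∧
        Set.range (g i ≫ (ModPair.interior I).ι).toImage.base =
          (g i ≫ (ModPair.interior I).ι).imageι.base ⁻¹' (ModPair.interior I : Set S) := by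
  have := Groth.Agent.ModPairBasic.quasiCompact_interior_ι (Groth.Agent.ModPairBasic.isLocPrincipal_of_ec hI)
  have := Groth.Agent.ModPairBasic.dense_of_ec hI
  refine ⟨fun s => ?_, fun i => ?_, fun i => ?_⟩
  · obtain ⟨u, hu⟩ := Groth.Agent.S9347.exists_specializes_of_mem_closure_range (ModPair.interior I).ι s
      ((ModPair.interior I).ι.denseRange s)
    obtain ⟨i, v, rfl⟩ := hsurj u
    have hmem : ((g i) ≫ (ModPair.interior I).ι) v ∈ Set.range (g i ≫ (ModPair.interior I).ι).imageι :=
      ⟨(g i ≫ (ModPair.interior I).ι).toImage v, by rw [← Scheme.Hom.comp_apply, Scheme.Hom.toImage_imageι]⟩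
    obtain ⟨w, hw⟩ := hu.mem_closed (g i ≫ (ModPair.interior I).ι).imageι.isClosedEmbedding.isClosed_range hmem
    exact ⟨i, w, hw⟩
  · obtain ⟨u, -, -, -, h⟩ := Groth.Agent.ModPairBasic.image_open (g i ≫ (ModPair.interior I).ι) _ (g i) rfl
    rw [Groth.Agent.ModPairBasic.preimage_interior] at h
    exact Groth.Agent.ModPairBasic.ec_of_dense
      (Groth.Agent.ModPairBasic.isLocPrincipal_comap (Groth.Agent.ModPairBasic.isLocPrincipal_of_ec hI) _)
  · obtain ⟨u, hu, h1, -, -⟩ := Groth.Agent.ModPairBasic.image_open (g i ≫ (ModPair.interior I).ι) _ (g i) rfl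
    refine ⟨h1 ▸ inferInstance, ?_⟩
    show Set.range (g i ≫ (ModPair.interior I).ι).toImage = _
    conv_lhs => rw [← h1]
    rw [Scheme.Hom.comp_base, TopCat.coe_comp, Set.range_comp]
    rw [show Set.range u = Set.univ from Set.range_eq_univ.mpr u.homeomorph.surjective, Set.image_univ]
    exact Scheme.Opens.range_ι _

end Groth.Agent.S19330
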