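import Groth.Statements.S19333
import Mathlib
-- import your own Groth.Agent.* helpers here

set_option autoImplicit false
universe u
open ModPair

namespace Groth.Agent.S19333

/-- Let A → B be any homomorphism of commutative rings. An element x of B is integral over A if and only
if for every field K, every valuation subring R of K and every ring homomorphism φ : B → K which
sends the image of A into R, the element φ(x) lies in R. In other words the integral closure of A in
B is the intersection of the subrings R ×_K B taken over all commutative squares A → R ⊆ K ← B with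
R a valuation ring of the field K. -/
theorem result {A B : Type u} [CommRing A]
    [CommRing B] [Algebra A B] (x : B) :
    x ∈ integralClosure A B ↔
      ∀ (K : Type u) [Field K] (R : ValuationSubring K) (φ : B →+* K),
        (∀ a : A, φ (algebraMap A B a) ∈ R) → φ x ∈ R := by
  constructor
  · intro hx K _ R φ hA
    obtain ⟨p, hm, hp⟩ := hx
    let g : A →+* R := (φ.comp (algebraMap A B)).codRestrict R hA
    have hint : IsIntegral R (φ x) := by
      refine ⟨p.map g, hm.map _, ?_⟩
      rw [Polynomial.eval₂_map]
      have hg : (algebraMap R K).comp g = φ.comp (algebraMap A B) := RingHom.ext fun a => rfl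
      rw [hg, ← Polynomial.hom_eval₂, hp, map_zero]
    obtain ⟨y, hy⟩ := IsIntegrallyClosed.isIntegral_iff.mp hint
    rw [← hy]
    exact y.2
  · intro h
    by_contra hx
    let S : Submonoid B :=
      { carrier := {b | ∃ p : Polynomial A, p.Monic ∧ Polynomial.aeval x p = b}
        one_mem' := ⟨1, Polynomial.monic_one, map_one _⟩
        mul_mem' := by
          rintro _ _ ⟨p, hp, rfl⟩ ⟨q, hq, rfl⟩
          exact ⟨p * q, hp.mul hq, map_mul _ _ _⟩ }
    have hd : Disjoint ((⊥ : Ideal B) : Set B) (S : Set B) := by
      rw [Set.disjoint_left]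
      rintro b hb ⟨p, hp, hpb⟩
      exact hx ⟨p, hp, hpb.trans hb⟩
    obtain ⟨P, hP, -, hdis⟩ := Ideal.exists_le_prime_disjoint _ S hd
    let K := FractionRing (B ⧸ P)
    let φ : B →+* K := (algebraMap (B ⧸ P) K).comp (Ideal.Quotient.mk P)
    let R0 : Subring K := (φ.comp (algebraMap A B)).range
    have hmem : φ x ∈ (integralClosure (Subring.closure (R0 : Set K)) K).toSubring := by
      rw [← iInf_valuationSubring_superset]
      simp only [Subring.mem_iInf]
      rintro ⟨V, hV⟩
      exact h K V φ fun a => hV ⟨a, rfl⟩
    obtain ⟨p, hm, hp⟩ := hmem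
    have hsurj : Function.Surjective ((Subring.inclusion (Subring.closure_eq R0).ge).comp
        (φ.comp (algebraMap A B)).rangeRestrict) := by
      rintro ⟨y, hy⟩
      rw [Subring.closure_eq] at hy
      obtain ⟨a, rfl⟩ := hy
      exact ⟨a, rfl⟩
    obtain ⟨q, hq, -, hqm⟩ := Polynomial.lifts_and_natDegree_eq_and_monic
      ((Polynomial.lifts_iff_coeff_lifts p).mpr fun i => hsurj _) hm
    rw [← hq, Polynomial.eval₂_map] at hp
    have h0 : φ (Polynomial.aeval x q) = 0 := by
      rw [Polynomial.aeval_def, Polynomial.hom_eval₂]
      exact hp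
    have hPmem : Polynomial.aeval x q ∈ P := by
      have h1 := (map_eq_zero_iff _ (IsFractionRing.injective (B ⧸ P) K)).mp h0
      exact Ideal.Quotient.eq_zero_iff_mem.mp h1
    exact Set.disjoint_left.mp hdis hPmem ⟨q, hqm, rfl⟩

end Groth.Agent.S19333
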