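import Groth.Statements.S19334
import Groth.Agent.ModPairBasic.Core
import Mathlib.RingTheory.Valuation.LocalSubring
import Mathlib.RingTheory.Ideal.MinimalPrime.Localization

set_option autoImplicit false
universe u
open CategoryTheory CategoryTheory.Limits AlgebraicGeometry TopologicalSpace
open ModPair

namespace Groth.Agent.S19334

/-- Let (X, I) be a modulus pair, i.e. a scheme X with the quasi-coherent ideal sheaf I of an effective
Cartier divisor. Suppose that for every valuation ring R and every morphism p : Spec R ⟶ X along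
which the divisor of I pulls back to an effective Cartier divisor on Spec R (so that p is a minimal
morphism of modulus pairs for the pulled-back modulus), the pulled-back divisor is empty, I.comap p
= ⊤. Then the divisor of I is empty: I = ⊤. -/
theorem result {X : Scheme.{u}}
    (I : X.IdealSheafData) (hI : BlowUp.IsEffCartierIdeal I)
    (h : ∀ (R : Type u) [CommRing R] [IsDomain R] [ValuationRing R]
      (p : Spec (CommRingCat.of R) ⟶ X), BlowUp.IsEffCartierIdeal (I.comap p) → I.comap p = ⊤) :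
    I = ⊤ := by
  by_contra hne
  have hne' : (I.support : Set X).Nonempty := by
    by_contra hem
    refine hne ((Scheme.IdealSheafData.support_eq_bot_iff (I := I)).mp ?_)
    exact SetLike.coe_injective (by rw [Set.not_nonempty_iff_eq_empty.mp hem]; rfl)
  obtain ⟨x, hx⟩ := hne'
  obtain ⟨U, hxU, f, hf, hIU⟩ := hI x
  let A := Γ(X, U.1)
  have hxp : f ∈ (U.2.primeIdealOf ⟨x, hxU⟩).asIdeal := by
    by_contra hn
    have hx' := (Scheme.IdealSheafData.mem_support_iff_of_mem hxU).mp hx
    rw [hIU, Scheme.zeroLocus_span, Scheme.zeroLocus_singleton] at hx'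
    refine hx' ?_
    have hb : U.2.primeIdealOf ⟨x, hxU⟩ ∈ PrimeSpectrum.basicOpen f := hn
    rw [← U.2.fromSpec_preimage_basicOpen] at hb
    have := U.2.fromSpec_primeIdealOf ⟨x, hxU⟩
    have hb2 : U.2.fromSpec (U.2.primeIdealOf ⟨x, hxU⟩) ∈ X.basicOpen f := hb
    rwa [this] at hb2
  set p := (U.2.primeIdealOf ⟨x, hxU⟩).asIdeal
  obtain ⟨q, hq, hqp⟩ := Ideal.exists_minimalPrimes_le (I := (⊥ : Ideal A)) (J := p) bot_le
  haveI : q.IsPrime := hq.1.1
  have hfq : f ∉ q := fun hm => Set.disjoint_left.mp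
    (Ideal.disjoint_nonZeroDivisors_of_mem_minimalPrimes hq) hm hf
  let K := FractionRing (A ⧸ q)
  let φ : A →+* K := (algebraMap (A ⧸ q) K).comp (Ideal.Quotient.mk q)
  have hker : RingHom.ker φ = q := by
    ext a
    rw [RingHom.mem_ker, RingHom.comp_apply,
      IsFractionRing.to_map_eq_zero_iff, Ideal.Quotient.eq_zero_iff_mem]
  have hmap : Ideal.map φ.rangeRestrict p ≠ ⊤ := by
    intro htop
    have h1 := Ideal.comap_map_of_surjective φ.rangeRestrict φ.rangeRestrict_surjective p
    rw [htop, Ideal.comap_top] at h1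
    have : Ideal.comap φ.rangeRestrict ⊥ ≤ p := fun a ha => hqp (hker.le (congrArg Subtype.val (ha : _ = (0 : φ.range))))
    rw [sup_eq_left.mpr this] at h1
    exact (U.2.primeIdealOf ⟨x, hxU⟩).isPrime.ne_top h1.symm
  obtain ⟨B, hAB, hB⟩ := Ideal.image_subset_nonunits_valuationSubring _ hmap
  let ψ : A →+* B := (Subring.inclusion hAB).comp φ.rangeRestrict
  let pm : Spec (CommRingCat.of B) ⟶ X := Spec.map (CommRingCat.ofHom ψ) ≫ U.2.fromSpec
  have hle : (⊤ : (Spec (CommRingCat.of B)).Opens) ≤ pm ⁻¹ᵁ U.1 := fun y _ => by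
    show (Spec.map _ ≫ U.2.fromSpec) y ∈ U.1
    rw [Scheme.Hom.comp_apply]
    exact U.2.range_fromSpec.le ⟨_, rfl⟩
  have hid := Groth.Agent.IdealComap.ideal_comap I pm ⟨⊤, isAffineOpen_top _⟩ U hle
  rw [hIU, Ideal.map_span, Set.image_singleton] at hid
  have he : pm.appLE U.1 ⊤ hle f = (Scheme.ΓSpecIso _).inv (ψ f) := by
    have : pm.appLE U.1 ⊤ hle = CommRingCat.ofHom ψ ≫ (Scheme.ΓSpecIso _).inv := by
      apply Spec.map_injective
      have h1 := IsAffineOpen.SpecMap_appLE_fromSpec pm U.2 (isAffineOpen_top (Spec (CommRingCat.of B))) hle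
      rw [IsAffineOpen.fromSpec_top, Scheme.isoSpec_Spec_inv] at h1
      have h2 : Spec.map (pm.appLE U.1 ⊤ hle) ≫ U.2.fromSpec =
          Spec.map (CommRingCat.ofHom ψ ≫ (Scheme.ΓSpecIso (CommRingCat.of B)).inv) ≫ U.2.fromSpec := by
        rw [Spec.map_comp, Category.assoc]
        exact h1
      have := U.2.isOpenImmersion_fromSpec
      exact (cancel_mono U.2.fromSpec).mp h2
    rw [this]; rfl
  have hne0 : ψ f ≠ 0 := fun h0 => hfq (hker.le (congrArg Subtype.val h0))
  have hnu : ¬ IsUnit (ψ f) := fun hu => by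
    have := hB ⟨φ.rangeRestrict f, Ideal.mem_map_of_mem _ hxp, rfl⟩
    exact (B.valuation_eq_one_iff (ψ f)).mp hu |>.not_lt ((ValuationSubring.mem_nonunits_iff B).mp this)
  have hinj := ConcreteCategory.bijective_of_isIso (Scheme.ΓSpecIso (CommRingCat.of B)).inv
  have hec : BlowUp.IsEffCartierIdeal (I.comap pm) := fun y => by
    refine ⟨⟨⊤, isAffineOpen_top _⟩, trivial, _, ?_, hid⟩
    rw [he]
    exact (MulEquivClass.map_nonZeroDivisors (Scheme.ΓSpecIso (CommRingCat.of B)).symm.commRingCatIsoToRingEquiv).le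
      ⟨ψ f, mem_nonZeroDivisors_of_ne_zero hne0, rfl⟩
  have htop := h B pm hec
  rw [htop, he, Scheme.IdealSheafData.ideal_top, Pi.top_apply, eq_comm, Ideal.span_singleton_eq_top] at hid
  exact hnu ((MulEquiv.isUnit_map (Scheme.ΓSpecIso (CommRingCat.of B)).symm.commRingCatIsoToRingEquiv).mp hid)

end Groth.Agent.S19334
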