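import Groth.Statements.S19335
import Groth.Agent.BlowUpLib.Proper
import Groth.Agent.ModPairBasic.Limit
import Groth.Agent.DivCodimTwo.StalkIdeal
-- import your own Groth.Agent.* helpers here

set_option autoImplicit false
universe u
open CategoryTheory CategoryTheory.Limits AlgebraicGeometry TopologicalSpace
open ModPair

namespace Groth.Agent.S19335

/-- Let X be a scheme and I, J quasi-coherent ideal sheaves of effective Cartier divisors D_I ≤ D_J on
X, i.e. J ≤ I. Suppose that for every valuation ring R and every morphism p : Spec R ⟶ X such that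
I.comap p is the ideal sheaf of an effective Cartier divisor on Spec R (so p is a minimal morphism
of modulus pairs for (X, I)) whose open complement consists of the generic point of Spec R only, the
two divisors agree after pull-back, I.comap p = J.comap p. Then I = J. -/
theorem result {X : Scheme.{u}} (I J : X.IdealSheafData)
    (hI : BlowUp.IsEffCartierIdeal I) (hJ : BlowUp.IsEffCartierIdeal J) (hJI : J ≤ I)
    (h : ∀ (R : Type u) [CommRing R] [IsDomain R] [ValuationRing R]
      (p : Spec (CommRingCat.of R) ⟶ X), BlowUp.IsEffCartierIdeal (I.comap p) →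
        (∀ x : Spec (CommRingCat.of R),
          x ∈ (ModPair.interior (I.comap p) : Set (Spec (CommRingCat.of R))) ↔ x.asIdeal = ⊥) →
        I.comap p = J.comap p) :
    I = J := by
  refine le_antisymm ?_ hJI
  have key : ∀ x : X, ∃ V : X.affineOpens, x ∈ V.1 ∧ I.ideal V ≤ J.ideal V := by
    intro x
    obtain ⟨U, hxU, f₀, hf₀, hIU⟩ := hI x
    obtain ⟨U', hxU', g₀, hg₀, hJU⟩ := hJ x
    obtain ⟨W, hW, hxW, hle⟩ := exists_isAffineOpen_mem_and_subset (U := U.1 ⊓ U'.1) (x := x) ⟨hxU, hxU'⟩
    refine ⟨⟨W, hW⟩, hxW, ?_⟩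
    have h1 : (⟨W, hW⟩ : X.affineOpens) ≤ U := fun z hz => (hle hz).1
    have h2 : (⟨W, hW⟩ : X.affineOpens) ≤ U' := fun z hz => (hle hz).2
    have hIW := Groth.Agent.ModPairBasic.ideal_of_le h1 hIU
    have hJW := Groth.Agent.ModPairBasic.ideal_of_le h2 hJU
    have hfn := Groth.Agent.ModPairBasic.nzd_of_ec hI hIW
    generalize (X.presheaf.map (homOfLE h1).op).hom f₀ = a at hIW hfn
    generalize (X.presheaf.map (homOfLE h2).op).hom g₀ = b at hJW
    obtain ⟨c, hc⟩ : ∃ c, b = a * c := by
      have := (hJW.ge.trans ((hJI ⟨W, hW⟩).trans hIW.le)) (Ideal.mem_span_singleton_self b)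
      exact Ideal.mem_span_singleton.mp this
    suffices hu : IsUnit c by
      rw [hIW, hJW, hc, Ideal.span_singleton_mul_right_unit hu]
    by_contra hnu
    obtain ⟨p, hpmax, hcp⟩ := Ideal.exists_le_maximal (Ideal.span {c}) (by rwa [Ne, Ideal.span_singleton_eq_top])
    rw [Ideal.span_singleton_le_iff_mem] at hcp
    -- test a ring map to a valuation ring
    have hcomap : ∀ (K : X.IdealSheafData) (r : Γ(X, W)), K.ideal ⟨W, hW⟩ = Ideal.span {r} →
        ∀ (R : CommRingCat.{u}) (φ : Γ(X, W) ⟶ R),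
          (K.comap (Spec.map φ ≫ hW.fromSpec)).ideal ⟨⊤, isAffineOpen_top _⟩ =
            Ideal.span {(Scheme.ΓSpecIso R).inv (φ r)} := by
      intro K r hK R φ
      have hh : (⊤ : (Spec R).Opens) ≤ (Spec.map φ ≫ hW.fromSpec) ⁻¹ᵁ W := fun y _ => by
        show (Spec.map φ ≫ hW.fromSpec) y ∈ W
        rw [Scheme.Hom.comp_apply]
        exact hW.range_fromSpec.le ⟨_, rfl⟩
      rw [Groth.Agent.IdealComap.ideal_comap K (Spec.map φ ≫ hW.fromSpec) ⟨⊤, isAffineOpen_top _⟩ ⟨W, hW⟩ hh, hK,
        Ideal.map_span, Set.image_singleton,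
        Groth.Agent.BlowUpLib.appLE_specMap ⟨W, hW⟩ φ ⊤ hh]
      congr 2
    have main : ∀ (R : Type u) [CommRing R] [IsDomain R] [ValuationRing R] (φ : Γ(X, W) →+* R),
        φ a ≠ 0 → ¬ IsUnit (φ c) → (∀ q : Ideal R, q.IsPrime → (φ a ∉ q ↔ q = ⊥)) → False := by
      intro R _ _ _ φ ha hcR hq
      have hI' := hcomap I a hIW (CommRingCat.of R) (CommRingCat.ofHom φ)
      have hJ' := hcomap J b hJW (CommRingCat.of R) (CommRingCat.ofHom φ)
      let π : Spec (CommRingCat.of R) ⟶ X := Spec.map (CommRingCat.ofHom φ) ≫ hW.fromSpec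
      have hinj : Function.Injective (Scheme.ΓSpecIso (CommRingCat.of R)).inv :=
        (ConcreteCategory.bijective_of_isIso _).1
      have hne : (Scheme.ΓSpecIso (CommRingCat.of R)).inv (φ a) ∈ nonZeroDivisors _ := by
        rw [mem_nonZeroDivisors_iff_right]
        intro z hz
        obtain ⟨z, rfl⟩ := (ConcreteCategory.bijective_of_isIso (Scheme.ΓSpecIso (CommRingCat.of R)).inv).2 z
        rw [← map_mul] at hz
        have hz' : z * φ a = 0 := hinj (hz.trans (map_zero _).symm)
        rw [(mul_eq_zero.mp hz').resolve_right ha, map_zero]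
      have hec : BlowUp.IsEffCartierIdeal (I.comap π) := fun y =>
        ⟨⟨⊤, isAffineOpen_top _⟩, trivial, _, hne, hI'⟩
      have hint : ∀ y : Spec (CommRingCat.of R),
          y ∈ (ModPair.interior (I.comap π) : Set (Spec (CommRingCat.of R))) ↔ y.asIdeal = ⊥ := by
        intro y
        rw [← hq y.asIdeal y.isPrime]
        show y ∉ (I.comap π).support ↔ _
        rw [Scheme.IdealSheafData.mem_support_iff_of_mem (U := ⟨⊤, isAffineOpen_top _⟩) trivial, hI',
          Scheme.zeroLocus_span, Scheme.mem_zeroLocus_iff]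
        simp only [Set.mem_singleton_iff, forall_eq, not_not]
        erw [basicOpen_eq_of_affine]
        rfl
      have heq := congrArg (fun K : (Spec (CommRingCat.of R)).IdealSheafData => K.ideal ⟨⊤, isAffineOpen_top _⟩)
        (h R π hec hint)
      simp only [π] at heq
      rw [hI', hJ', hc] at heq
      simp only [CommRingCat.ofHom, map_mul] at heq
      have hmem : φ a ∈ Ideal.span {φ a * φ c} := by
        obtain ⟨r, hr⟩ := Ideal.mem_span_singleton'.mp (heq.le (Ideal.mem_span_singleton_self _))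
        obtain ⟨r, rfl⟩ := (ConcreteCategory.bijective_of_isIso (Scheme.ΓSpecIso (CommRingCat.of R)).inv).2 r
        refine Ideal.mem_span_singleton'.mpr ⟨r, hinj ?_⟩
        rw [map_mul, map_mul]
        exact hr
      obtain ⟨r, hr⟩ := Ideal.mem_span_singleton'.mp hmem
      refine hcR (isUnit_iff_exists_inv.mpr ⟨r, mul_left_cancel₀ ha ?_⟩)
      rw [← mul_assoc, mul_one, mul_comm (φ a * φ c) r]
      exact hr
    have hp' := hpmax.isPrime
    by_cases hap : a ∈ p
    swap
    · refine main p.ResidueField (algebraMap _ _) (mt Ideal.algebraMap_residueField_eq_zero.mp hap)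
        (fun hu => hu.ne_zero (Ideal.algebraMap_residueField_eq_zero.mpr hcp)) fun q hq => ?_
      rcases Ideal.eq_bot_or_top q with rfl | rfl
      · simpa using mt Ideal.algebraMap_residueField_eq_zero.mp hap
      · exact absurd rfl hq.ne_top
    obtain ⟨P, hP, hPp⟩ := Ideal.exists_minimalPrimes_le (J := p) (bot_le : (⊥ : Ideal Γ(X, W)) ≤ _)
    have hPprime := hP.1.1
    have haP : a ∉ P := fun h => Set.disjoint_left.mp (Ideal.disjoint_nonZeroDivisors_of_mem_minimalPrimes hP) h hfn
    let K := P.ResidueField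
    let ψ : Γ(X, W) →+* K := algebraMap _ _
    let M : Ideal ψ.range := p.map ψ.rangeRestrict
    have hM : M ≠ ⊤ := by
      intro htop
      have h1 : (1 : ψ.range) ∈ M := by rw [htop]; trivial
      obtain ⟨y, hy, hy1⟩ := (Ideal.mem_map_iff_of_surjective _ ψ.rangeRestrict_surjective).mp h1
      have : ψ (y - 1) = 0 := by
        have := congrArg Subtype.val hy1
        simp only [RingHom.coe_rangeRestrict, OneMemClass.coe_one] at this
        rw [map_sub, map_one, this, sub_self]
      have hy2 := hPp (Ideal.algebraMap_residueField_eq_zero.mp this)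
      exact hpmax.ne_top ((Ideal.eq_top_iff_one p).mpr (by simpa using sub_mem hy hy2))
    obtain ⟨B, hAB, hB⟩ := Ideal.image_subset_nonunits_valuationSubring M hM
    let φ : Γ(X, W) →+* B := ψ.codRestrict B.toSubring (fun r => hAB ⟨r, rfl⟩)
    have hnonunit : ∀ y ∈ p, ¬ IsUnit (φ y) := fun y hy =>
      (ValuationSubring.coe_mem_nonunits_iff.mp (hB ⟨_, Ideal.mem_map_of_mem _ hy, rfl⟩))
    have ha0 : φ a ≠ 0 := fun h => haP (Ideal.algebraMap_residueField_eq_zero.mp (congrArg Subtype.val h))
    let Q : Ideal B := ⨅ n : ℕ, Ideal.span {φ a ^ n}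
    have hQ' : ∀ {y}, y ∈ Q ↔ ∀ n : ℕ, φ a ^ n ∣ y := by
      intro y
      simp only [Q, Submodule.mem_iInf, Ideal.mem_span_singleton]
    have haQ : φ a ∉ Q := fun h => by
      obtain ⟨r, hr⟩ := hQ'.mp h 2
      exact hnonunit a hap (isUnit_iff_exists_inv.mpr ⟨r, mul_left_cancel₀ ha0 (by rw [mul_one, ← mul_assoc, ← pow_two]; exact hr.symm)⟩)
    haveI hQp : Q.IsPrime := by
      refine ⟨fun h => haQ (h ▸ trivial), fun {y z} hyz => ?_⟩
      by_contra hcon
      push Not at hcon
      simp only [hQ', not_forall] at hcon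
      obtain ⟨⟨n, hn⟩, m, hm⟩ := hcon
      obtain ⟨r, hr⟩ := (ValuationRing.dvd_total (φ a ^ n) y).resolve_left hn
      obtain ⟨s, hs⟩ := (ValuationRing.dvd_total (φ a ^ m) z).resolve_left hm
      obtain ⟨t, ht⟩ := hQ'.mp hyz (n + m + 1)
      refine hnonunit a hap (isUnit_iff_exists_inv.mpr ⟨t * (r * s), mul_left_cancel₀ (pow_ne_zero (n + m) ha0) ?_⟩)
      rw [mul_one]
      conv_rhs => rw [pow_add, hr, hs, mul_mul_mul_comm, ht]
      ring
    let R := B ⧸ Q
    haveI : PreValuationRing R := (Ideal.Quotient.mk_surjective (I := Q)).preValuationRing (Ideal.Quotient.mk Q).toMulHom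
    haveI : ValuationRing R := {}
    refine main R ((Ideal.Quotient.mk Q).comp φ) (mt Ideal.Quotient.eq_zero_iff_mem.mp haQ) ?_ fun q hq => ?_
    · intro hu
      obtain ⟨v, hv⟩ := isUnit_iff_exists_inv.mp hu
      obtain ⟨v, rfl⟩ := Ideal.Quotient.mk_surjective v
      rw [RingHom.comp_apply, ← map_mul, ← map_one (Ideal.Quotient.mk Q), Ideal.Quotient.mk_eq_mk_iff_sub_mem] at hv
      have hu1 : IsUnit (1 - φ c * v) := by
        by_contra h1
        have h2 : φ c * v ∈ IsLocalRing.maximalIdeal B := Ideal.mul_mem_right _ _ ((IsLocalRing.mem_maximalIdeal _).mpr (hnonunit c hcp))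
        have := add_mem ((IsLocalRing.mem_maximalIdeal _).mpr h1 : (1 - φ c * v) ∈ IsLocalRing.maximalIdeal B) h2
        rw [sub_add_cancel] at this
        exact (IsLocalRing.maximalIdeal.isMaximal B).ne_top ((Ideal.eq_top_iff_one _).mpr this)
      exact hQp.ne_top (Ideal.eq_top_of_isUnit_mem _ (neg_mem hv) (by rwa [neg_sub]))
    · constructor
      · intro hnq
        refine (Submodule.eq_bot_iff q).mpr fun y hy => ?_
        obtain ⟨y, rfl⟩ := Ideal.Quotient.mk_surjective y
        refine Ideal.Quotient.eq_zero_iff_mem.mpr (hQ'.mpr fun n => ?_)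
        rcases ValuationRing.dvd_total (φ a ^ n) y with hd | ⟨r, hr⟩
        · exact hd
        · refine absurd (hq.mem_of_pow_mem n ?_) hnq
          rw [RingHom.comp_apply, ← map_pow, hr, map_mul]
          exact Ideal.mul_mem_right _ _ hy
      · rintro rfl
        simpa using mt Ideal.Quotient.eq_zero_iff_mem.mp haQ
  refine Groth.Agent.DivCodimTwo.le_of_gI_le _ _ fun x => ?_
  obtain ⟨V, hxV, hV⟩ := key x
  rw [Groth.Agent.DivCodimTwo.gI_eq I V hxV, Groth.Agent.DivCodimTwo.gI_eq J V hxV]
  exact Ideal.map_mono hV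

end Groth.Agent.S19335
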