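import Groth.Statements.S19336
import Groth.Agent.AdmBlowUp.Extra
-- import your own Groth.Agent.* helpers here

set_option autoImplicit false
universe u
open CategoryTheory CategoryTheory.Limits AlgebraicGeometry TopologicalSpace
open ModPair

namespace Groth.Agent.S19336

/-- Let (S, I) be a modulus pair, i.e. a scheme S with the quasi-coherent ideal sheaf I of an effective
Cartier divisor, with S quasi-compact and quasi-separated and with interior U, and let (V_i) be a
covering of U by quasi-compact open subsets. Then there are a quasi-coherent ideal sheaf F of finite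
type on S whose support is disjoint from U, a blow-up b : Y ⟶ S of S in F (an admissible blow-up)
such that I.comap b is again the ideal sheaf of an effective Cartier divisor, and a covering of Y by
quasi-compact open subsets W_j such that each W_j ∩ b⁻¹(U) is contained in b⁻¹(V_i) for some i: the
Zariski covering of the interior extends, after an admissible blow-up, to a Zariski covering of the
total space. -/
theorem result {S : Scheme.{u}}
    [CompactSpace S] [QuasiSeparatedSpace S] (I : S.IdealSheafData)
    (hI : BlowUp.IsEffCartierIdeal I) {ι : Type u} (V : ι → S.Opens)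
    (hVU : ∀ i, V i ≤ ModPair.interior I) (hVqc : ∀ i, IsCompact (V i : Set S))
    (hcov : ModPair.interior I ≤ ⨆ i, V i) :
    ∃ (F : S.IdealSheafData) (Y : Scheme.{u}) (b : Y ⟶ S) (κ : Type u) (W : κ → Y.Opens),
      BlowUp.IsAdmissibleFor (ModPair.interior I) F ∧ BlowUp.IsBlowUp b F ∧
        BlowUp.IsEffCartierIdeal (I.comap b) ∧ (∀ k, IsCompact (W k : Set Y)) ∧
        (⨆ k, W k) = ⊤ ∧ ∀ k, ∃ i, W k ⊓ b ⁻¹ᵁ ModPair.interior I ≤ b ⁻¹ᵁ V i := by
    classical
    let U := ModPair.interior I
    have hU : (U : Set S) = (I.support : Set S)ᶜ := rfl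
    have hUc : IsCompact (U : Set S) := hU ▸ Groth.Agent.AdmBlowUp.isCompact_compl_support
      (Groth.Agent.AdmBlowUp.isFiniteTypeIdeal_of_effCartier hI)
    obtain ⟨s, hs⟩ := hUc.elim_finite_subcover (fun i => (V i : Set S)) (fun i => (V i).2)
      (fun x hx => by
        obtain ⟨i, hi⟩ := Opens.mem_iSup.mp (hcov hx)
        exact Set.mem_iUnion.mpr ⟨i, hi⟩)
    choose J hJ hsJ using fun i => Groth.Agent.AdmBlowUp.exists_ft_ideal (V i) (hVqc i)
    have hft : BlowUp.IsFiniteTypeIdeal (s.sup J) := by
      clear hs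
      induction s using Finset.induction_on with
      | empty =>
        intro W
        rw [Finset.sup_empty, Scheme.IdealSheafData.ideal_bot]
        exact Submodule.fg_bot
      | insert a t ha ih =>
        intro W
        rw [Finset.sup_insert, Scheme.IdealSheafData.ideal_sup, Pi.sup_apply]
        exact Submodule.FG.sup (hJ a W) (ih W)
    have hdisj : Disjoint ((s.sup J).support : Set S) (U : Set S) := Set.disjoint_left.mpr fun x hx hxU => by
      obtain ⟨i, hi, hxi⟩ := Set.mem_iUnion₂.mp (hs hxU)
      exact ((hsJ i).le (Scheme.IdealSheafData.support_antitone (Finset.le_sup hi) hx)) hxi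
    obtain ⟨Y, b, hb⟩ := Groth.Agent.BlowUpLib.exists_isBlowUp (s.sup J)
    have h : ∀ y : Y, ∃ i, ∃ W : Y.Opens, y ∈ W ∧ IsCompact (W : Set Y) ∧ W ⊓ b ⁻¹ᵁ U ≤ b ⁻¹ᵁ V i := by
      intro y
      obtain ⟨i, -, hy⟩ := Groth.Agent.AdmBlowUp.exists_notMem_closure s J b hb.1
        (fun i => (fun p => b p) ⁻¹' ((U : Set S) \ (V i : Set S))) (fun i _ p hp => (hsJ i).ge hp.2)
        (fun i _ p hp hp' => Set.disjoint_left.mp hdisj hp' hp.1) y
      obtain ⟨W, hW, hyW, hle⟩ := exists_isAffineOpen_mem_and_subset (x := y)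
        (U := ⟨(closure ((fun p => b p) ⁻¹' ((U : Set S) \ (V i : Set S))))ᶜ, isClosed_closure.isOpen_compl⟩) hy
      refine ⟨i, W, hyW, hW.isCompact, fun p hp => ?_⟩
      by_contra hpV
      exact hle hp.1 (subset_closure ⟨hp.2, hpV⟩)
    choose i W hyW hWc hle using h
    refine ⟨s.sup J, Y, b, Y, W, ⟨hft, hdisj⟩, hb, Groth.Agent.ModPairBasic.ec_comap_of_isBlowUp hb hI, hWc, ?_,
      fun k => ⟨i k, hle k⟩⟩
    exact eq_top_iff.mpr fun y _ => Opens.mem_iSup.mpr ⟨y, hyW y⟩

end Groth.Agent.S19336
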