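import Groth.Statements.S19338
-- import your own Groth.Agent.* helpers here

set_option autoImplicit false
universe w v u
open CategoryTheory
open ModPair

namespace Groth.Agent.S19338

/-- Let C be a category and S a class of morphisms which contains the identities, is closed under
composition, admits a right calculus of fractions, and consists of monomorphisms. Then the sieves
containing a morphism of S are the covering sieves of a Grothendieck topology on C, and for every
such topology J a presheaf of types F on C is a J-sheaf if and only if it is S-local, i.e. F sends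
every morphism of S to a bijection. -/
theorem result {C : Type u} [Category.{v} C]
    (S : MorphismProperty C) [S.HasRightCalculusOfFractions]
    (hmono : ∀ ⦃X Y : C⦄ (s : X ⟶ Y), S s → Mono s) :
    (∃ J : GrothendieckTopology C, ∀ (X : C) (T : Sieve X),
        T ∈ J X ↔ ∃ (Y : C) (s : Y ⟶ X), S s ∧ T s) ∧
      ∀ J : GrothendieckTopology C, (∀ (X : C) (T : Sieve X),
          T ∈ J X ↔ ∃ (Y : C) (s : Y ⟶ X), S s ∧ T s) →
        ∀ F : Cᵒᵖ ⥤ Type w,
          Presheaf.IsSheaf J F ↔ ∀ ⦃X Y : C⦄ (s : X ⟶ Y), S s → IsIso (F.map s.op) := by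
  constructor
  · refine ⟨
      { sieves := fun X => {T | ∃ (Y : C) (s : Y ⟶ X), S s ∧ T s}
        top_mem' := fun X => ⟨X, 𝟙 X, S.id_mem X, trivial⟩
        pullback_stable' := ?_
        transitive' := ?_ }, fun X T => Iff.rfl⟩
    · rintro X Y T f ⟨Z, s, hs, hT⟩
      obtain ⟨χ, hχ⟩ := (MorphismProperty.LeftFraction.mk f s hs).exists_rightFraction
      dsimp at hχ
      exact ⟨_, χ.s, χ.hs, by simpa [hχ] using T.downward_closed hT χ.f⟩
    · rintro X T ⟨Z, s, hs, hT⟩ R h
      obtain ⟨W, t, ht, hR⟩ := h hT
      exact ⟨W, t ≫ s, S.comp_mem _ _ ht hs, hR⟩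
  · intro J hJ F
    rw [isSheaf_iff_isSheaf_of_type]
    constructor
    · intro hF X Y s hs
      have := hmono s hs
      have hcov : Sieve.generate (Presieve.singleton s) ∈ J Y :=
        (hJ _ _).2 ⟨X, s, hs, Sieve.le_generate _ _ _ (Presieve.singleton.mk)⟩
      have h1 := (Presieve.isSheafFor_iff_generate _).2 (hF _ hcov)
      rw [CategoryTheory.isIso_iff_bijective]
      have key := fun x : F.obj (Opposite.op X) => (Presieve.isSheafFor_singleton.1 h1) x
        (fun {Z} p₁ p₂ he => by rw [cancel_mono s] at he; rw [he])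
      constructor
      · intro a b hab
        exact (key (F.map s.op a)).unique rfl hab.symm
      · intro x
        obtain ⟨y, hy, -⟩ := key x
        exact ⟨y, hy⟩
    · intro hloc Y T hT x hx
      obtain ⟨X, s, hs, hTs⟩ := (hJ _ _).1 hT
      have hb := (CategoryTheory.isIso_iff_bijective _).1 (hloc s hs)
      obtain ⟨y, hy⟩ := hb.2 (x s hTs)
      refine ⟨y, ?_, fun z hz => hb.1 ((hz s hTs).trans hy.symm)⟩
      intro Z f hf
      obtain ⟨χ, hχ⟩ := (MorphismProperty.LeftFraction.mk f s hs).exists_rightFraction
      dsimp at hχ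
      have hc := hx χ.s χ.f hf hTs hχ
      apply ((CategoryTheory.isIso_iff_bijective _).1 (hloc _ χ.hs)).1
      rw [hc, ← hy, ← Functor.map_comp_apply, ← Functor.map_comp_apply, ← op_comp, ← op_comp, hχ]

end Groth.Agent.S19338
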