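import Groth.Statements.S19345
import Mathlib.AlgebraicGeometry.Morphisms.Finite
import Mathlib.RingTheory.Adjoin.Field
import Mathlib.RingTheory.Flat.FaithfullyFlat.Algebra
import Mathlib.RingTheory.AdjoinRoot
import Mathlib.AlgebraicGeometry.Morphisms.Integral
import Mathlib.Tactic

set_option autoImplicit false
set_option linter.style.haveILetI false
set_option backward.isDefEq.respectTransparency false
set_option backward.isDefEq.respectTransparency.types false
universe u
open CategoryTheory CategoryTheory.Limits AlgebraicGeometry TopologicalSpace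
open ModPair

namespace Groth.Agent.S19345

open Polynomial

theorem exists_root_eq {A D : Type u} [CommRing A] [CommRing D] [IsDomain D] (φ : A →+* D)
    (hA : Curves.IsAIC A) (c : D) : ∀ (n : ℕ) (f : Polynomial A), f.Monic → f.natDegree = n →
      f.eval₂ φ c = 0 → ∃ a : A, φ a = c := by
  intro n
  induction n using Nat.strong_induction_on with
  | _ n ih =>
    intro f hf hn hc
    cases subsingleton_or_nontrivial A with
    | inl h => exact absurd ((congrArg φ (Subsingleton.elim (1 : A) 0)).trans (map_zero φ)) (by simp)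
    | inr h =>
    rcases Nat.eq_zero_or_pos n with h0 | h0
    · rw [hf.natDegree_eq_zero.1 (hn.trans h0)] at hc; simp at hc
    obtain ⟨r, hr⟩ := hA f hf (hn ▸ h0)
    have hfac := (mul_divByMonic_eq_iff_isRoot (a := r) (p := f)).2 hr
    rw [← hfac, eval₂_mul, eval₂_sub, eval₂_X, eval₂_C, mul_eq_zero] at hc
    rcases hc with h1 | h1
    · exact ⟨r, (sub_eq_zero.1 h1).symm⟩
    · have hm : (f /ₘ (X - C r)).Monic :=
        (monic_X_sub_C r).of_mul_monic_left (hfac.symm ▸ hf)
      refine ih _ ?_ _ hm rfl h1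
      have := congrArg natDegree hfac
      rw [(monic_X_sub_C r).natDegree_mul hm, natDegree_X_sub_C, hn] at this
      omega

theorem retraction {A C : CommRingCat.{u}} [IsDomain A] (hA : Curves.IsAIC A) (φ : A ⟶ C)
    (hφ : φ.hom.Finite) (q : PrimeSpectrum C) (hq : q.asIdeal.comap φ.hom = ⊥) :
    ∃ ψ : C ⟶ A, φ ≫ ψ = 𝟙 A := by
  let φ' : A →+* C ⧸ q.asIdeal := (Ideal.Quotient.mk q.asIdeal).comp φ.hom
  have hinj : Function.Injective φ' := by
    rw [RingHom.injective_iff_ker_eq_bot, ← RingHom.comap_ker, Ideal.mk_ker, hq]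
  have hsurj : Function.Surjective φ' := fun c => by
    obtain ⟨c, rfl⟩ := Ideal.Quotient.mk_surjective c
    obtain ⟨f, hf, hf0⟩ := hφ.to_isIntegral c
    refine exists_root_eq φ' hA _ f.natDegree f hf rfl ?_
    rw [← hom_eval₂, hf0, map_zero]
  refine ⟨CommRingCat.ofHom
    ((RingEquiv.ofBijective φ' ⟨hinj, hsurj⟩).symm.toRingHom.comp (Ideal.Quotient.mk q.asIdeal)), ?_⟩
  ext a
  exact (RingEquiv.ofBijective φ' ⟨hinj, hsurj⟩).symm_apply_apply a

variable {P : Scheme.{u}}

theorem forward [QuasiSeparatedSpace P]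
    (h₁ : ∀ (X : Scheme.{u}) (R : Presieve X), R ∈ Scheme.precoverage (@IsOpenImmersion ⊓ @QuasiCompact) X →
        ∀ g : P ⟶ X, ∃ (Y : Scheme.{u}) (w : Y ⟶ X) (h : P ⟶ Y), R w ∧ h ≫ w = g)
    (h₂ : ∀ (X : Scheme.{u}) (R : Presieve X), R ∈ Scheme.precoverage @IsFinite X →
        ∀ g : P ⟶ X, ∃ (Y : Scheme.{u}) (w : Y ⟶ X) (h : P ⟶ Y), R w ∧ h ≫ w = g) :
    IsAffine P ∧ IsLocalRing Γ(P, ⊤) ∧ IsDomain Γ(P, ⊤) ∧ Curves.IsAIC Γ(P, ⊤) := by
  have hopen : ∀ {ι : Type u} (U : ι → P.Opens), (∀ i, IsAffineOpen (U i)) → (⨆ i, U i = ⊤) →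
      ∃ i, U i = ⊤ := by
    intro ι U hU hcov
    have hR : Presieve.ofArrows (fun i => (U i : Scheme.{u})) (fun i => (U i).ι) ∈
        Scheme.precoverage (@IsOpenImmersion ⊓ @QuasiCompact) P := by
      rw [Scheme.ofArrows_mem_precoverage_iff]
      refine ⟨fun x => ?_, fun i => ⟨inferInstance, ?_⟩⟩
      · obtain ⟨i, hi⟩ := Opens.mem_iSup.1 (hcov.ge (Opens.mem_top x))
        exact ⟨i, (Scheme.Opens.range_ι (U i)).symm ▸ hi⟩
      · haveI : IsAffine (U i : Scheme.{u}) := hU i
        infer_instance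
    obtain ⟨Y, w, h, ⟨i⟩, hw⟩ := h₁ P _ hR (𝟙 P)
    refine ⟨i, ?_⟩
    rw [eq_top_iff]
    intro x _
    have hx : (h ≫ (U i).ι) x = x := by rw [hw]; rfl
    rw [← hx]
    exact (h x).2
  obtain ⟨⟨U, hU⟩, hUtop⟩ := hopen (fun U : P.affineOpens => (U : P.Opens)) (fun U => U.2)
    (iSup_affineOpens_eq_top P)
  obtain rfl : U = ⊤ := hUtop
  haveI : IsAffine P := IsAffine.of_isIso P.topIso.inv (h := hU)
  let A := Γ(P, ⊤)
  have hfin : ∀ {ι : Type u} (B : ι → CommRingCat.{u}) (φ : ∀ i, A ⟶ B i), (∀ i, (φ i).hom.Finite) →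
      (∀ q : PrimeSpectrum A, ∃ i, ∃ r : PrimeSpectrum (B i), r.comap (φ i).hom = q) →
      ∃ (i : ι) (ψ : B i ⟶ A), φ i ≫ ψ = 𝟙 A := by
    intro ι B φ hφ hsurj
    have hR : Presieve.ofArrows (fun i => Spec (B i)) (fun i => Spec.map (φ i)) ∈
        Scheme.precoverage @IsFinite (Spec A) := by
      rw [Scheme.ofArrows_mem_precoverage_iff]
      refine ⟨fun q => ?_, fun i => (IsFinite.SpecMap_iff _).2 (hφ i)⟩
      obtain ⟨i, r, hr⟩ := hsurj q
      exact ⟨i, r, hr⟩
    obtain ⟨Y, w, h, ⟨i⟩, hw⟩ := h₂ (Spec A) _ hR P.isoSpec.hom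
    refine ⟨i, Spec.preimage (P.isoSpec.inv ≫ h), Spec.map_injective ?_⟩
    rw [Spec.map_comp, Spec.map_preimage, Category.assoc, hw, Iso.inv_hom_id, Spec.map_id]
  haveI : Nontrivial A := by
    by_contra hN
    rw [not_nontrivial_iff_subsingleton] at hN
    haveI := hN
    obtain ⟨i, -⟩ := hfin (ι := PEmpty.{u+1}) (fun i => i.elim) (fun i => i.elim) (fun i => i.elim)
      (fun q => absurd (Ideal.eq_top_of_isUnit_mem _ q.asIdeal.zero_mem
        (isUnit_of_subsingleton (0 : A))) q.2.ne_top)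
    exact i.elim
  refine ⟨inferInstance, ?_, ?_, ?_⟩
  · refine IsLocalRing.of_isUnit_or_isUnit_one_sub_self fun a => ?_
    have hcov : (⨆ i : ({a, 1 - a} : Set A), P.basicOpen (i : A)) = ⊤ := by
      rw [(isAffineOpen_top P).iSup_basicOpen_eq_self_iff, Ideal.eq_top_iff_one]
      have := Ideal.add_mem (Ideal.span ({a, 1 - a} : Set A)) (Ideal.subset_span (Or.inl rfl))
        (Ideal.subset_span (Or.inr rfl))
      rwa [add_sub_cancel] at this
    obtain ⟨⟨b, hb⟩, hbtop⟩ := hopen (fun i : ({a, 1 - a} : Set A) => P.basicOpen (i : A))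
      (fun i => (isAffineOpen_top P).basicOpen _) hcov
    have hbu : IsUnit b := by
      have h1 := P.toRingedSpace.isUnit_res_basicOpen b
      have h2 : IsIso (homOfLE (P.basicOpen_le b)).op := by
        have : P.basicOpen b = ⊤ := hbtop
        refine ⟨(eqToHom this.symm).op, ?_, ?_⟩ <;> exact Subsingleton.elim _ _
      exact (isUnit_map_iff (P.presheaf.map (homOfLE (P.basicOpen_le b)).op).hom b).1 h1
    rcases hb with rfl | rfl
    · exact Or.inl hbu
    · exact Or.inr hbu
  · have hnz : NoZeroDivisors A := ⟨fun {a b} hab => by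
      obtain ⟨i, ψ, hψ⟩ := hfin (ι := ULift.{u} Bool)
        (fun i => CommRingCat.of (A ⧸ Ideal.span {if i.down then a else b}))
        (fun i => CommRingCat.ofHom (Ideal.Quotient.mk (Ideal.span {if i.down then a else b})))
        (fun i => RingHom.Finite.of_surjective _ Ideal.Quotient.mk_surjective)
        (fun q => by
          have : a * b ∈ q.asIdeal := hab ▸ q.asIdeal.zero_mem
          rcases q.2.mem_or_mem this with h | h
          · refine ⟨⟨true⟩, ?_⟩
            have : q ∈ Set.range (PrimeSpectrum.comap (Ideal.Quotient.mk (Ideal.span {a}))) := by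
              rw [range_comap_of_surjective _ _ Ideal.Quotient.mk_surjective, Ideal.mk_ker,
                PrimeSpectrum.mem_zeroLocus, SetLike.coe_subset_coe, Ideal.span_singleton_le_iff_mem]
              exact h
            exact this
          · refine ⟨⟨false⟩, ?_⟩
            have : q ∈ Set.range (PrimeSpectrum.comap (Ideal.Quotient.mk (Ideal.span {b}))) := by
              rw [range_comap_of_surjective _ _ Ideal.Quotient.mk_surjective, Ideal.mk_ker,
                PrimeSpectrum.mem_zeroLocus, SetLike.coe_subset_coe, Ideal.span_singleton_le_iff_mem]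
              exact h
            exact this)
      have h0 : (if i.down then a else b) = 0 := by
        have := congrArg (fun f : A ⟶ A => f (if i.down then a else b)) hψ
        simp only [CommRingCat.hom_comp, CommRingCat.hom_ofHom, RingHom.comp_apply,
          CommRingCat.hom_id, RingHom.id_apply] at this
        rw [Ideal.Quotient.eq_zero_iff_mem.2 (Ideal.mem_span_singleton_self _), map_zero] at this
        exact this.symm
      rcases i with ⟨_ | _⟩
      · exact Or.inr h0
      · exact Or.inl h0⟩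
    exact NoZeroDivisors.to_isDomain A
  · intro f hf hdeg
    haveI : Module.Finite A (AdjoinRoot f) := hf.finite_adjoinRoot
    haveI : Module.Free A (AdjoinRoot f) := hf.free_adjoinRoot
    haveI : Nontrivial (AdjoinRoot f) := Module.nontrivial_of_finrank_pos (R := A) (by
      rw [(AdjoinRoot.powerBasis' hf).finrank]; exact hdeg)
    haveI : Module.FaithfullyFlat A (AdjoinRoot f) := inferInstance
    obtain ⟨-, ψ, hψ⟩ := hfin (ι := PUnit.{u+1}) (fun _ => CommRingCat.of (AdjoinRoot f))
      (fun _ => CommRingCat.ofHom (algebraMap A (AdjoinRoot f)))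
      (fun _ => RingHom.finite_algebraMap.2 inferInstance)
      (fun q => ⟨⟨⟩, PrimeSpectrum.comap_surjective_of_faithfullyFlat q⟩)
    refine ⟨ψ (AdjoinRoot.root f), ?_⟩
    have h := congrArg ψ.hom (AdjoinRoot.eval₂_root f)
    rw [map_zero, hom_eval₂] at h
    have hid : ψ.hom.comp (AdjoinRoot.of f) = RingHom.id A := congrArg CommRingCat.Hom.hom hψ
    rw [hid] at h
    exact h

theorem backward [IsAffine P] [IsLocalRing Γ(P, ⊤)] [IsDomain Γ(P, ⊤)] (hA : Curves.IsAIC Γ(P, ⊤)) :
    (∀ (X : Scheme.{u}) (R : Presieve X), R ∈ Scheme.precoverage (@IsOpenImmersion ⊓ @QuasiCompact) X →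
        ∀ g : P ⟶ X, ∃ (Y : Scheme.{u}) (w : Y ⟶ X) (h : P ⟶ Y), R w ∧ h ≫ w = g) ∧
      (∀ (X : Scheme.{u}) (R : Presieve X), R ∈ Scheme.precoverage @IsFinite X →
        ∀ g : P ⟶ X, ∃ (Y : Scheme.{u}) (w : Y ⟶ X) (h : P ⟶ Y), R w ∧ h ≫ w = g) := by
  refine ⟨fun X R hR g => ?_, fun X R hR g => ?_⟩
  · let p₀ : P := P.isoSpec.inv (IsLocalRing.closedPoint Γ(P, ⊤))
    obtain ⟨Y, w, hw, y, hy⟩ := exists_of_mem hR (g p₀)
    haveI : IsOpenImmersion w := (hR.2 hw).1
    refine ⟨Y, w, IsOpenImmersion.lift w g ?_, hw, IsOpenImmersion.lift_fac _ _ _⟩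
    rintro _ ⟨x, rfl⟩
    refine (Specializes.map ?_ g.continuous).mem_open w.isOpenEmbedding.isOpen_range ⟨y, hy⟩
    rw [show x = P.isoSpec.inv (P.isoSpec.hom x) by simp]
    exact (IsLocalRing.specializes_closedPoint _).map P.isoSpec.inv.continuous
  · let η : P := P.isoSpec.inv (⟨⊥, Ideal.isPrime_bot⟩ : PrimeSpectrum Γ(P, ⊤))
    obtain ⟨Y, w, hw, y, hy⟩ := exists_of_mem hR (g η)
    haveI : IsFinite w := hR.2 hw
    obtain ⟨z, -, hz⟩ := Scheme.Pullback.exists_preimage_pullback (f := w) (g := g) y η hy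
    let W := pullback w g
    let π : W ⟶ P := pullback.snd w g
    haveI : IsFinite π := MorphismProperty.pullback_snd _ _ inferInstance
    haveI : IsAffine W := isAffine_of_isAffineHom π
    let q : PrimeSpectrum Γ(W, ⊤) := W.isoSpec.hom z
    have hq : q.comap π.appTop.hom = (⟨⊥, Ideal.isPrime_bot⟩ : PrimeSpectrum Γ(P, ⊤)) := by
      change (W.isoSpec.hom ≫ Spec.map π.appTop) z = _
      rw [Scheme.isoSpec_hom_naturality, Scheme.Hom.comp_apply, hz]
      simp [η]
    obtain ⟨ψ, hψ⟩ := retraction hA π.appTop (π.finite_app ⊤ (isAffineOpen_top P)) q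
      (congrArg PrimeSpectrum.asIdeal hq)
    let s : P ⟶ W := P.isoSpec.hom ≫ Spec.map ψ ≫ W.isoSpec.inv
    have hs : s ≫ π = 𝟙 P := by
      rw [← cancel_mono P.isoSpec.hom]
      simp only [s, Category.assoc, Category.id_comp]
      rw [← Scheme.isoSpec_hom_naturality, Iso.inv_hom_id_assoc, ← Spec.map_comp, hψ, Spec.map_id,
        Category.comp_id]
    refine ⟨Y, w, s ≫ pullback.fst w g, hw, ?_⟩
    rw [Category.assoc, pullback.condition, ← Category.assoc, show s ≫ pullback.snd w g = 𝟙 P from hs,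
      Category.id_comp]
where
  exists_of_mem {X : Scheme.{u}} {Q : MorphismProperty Scheme.{u}} {R : Presieve X}
      (hR : R ∈ Scheme.precoverage Q X) (x : X) :
      ∃ (Y : Scheme.{u}) (w : Y ⟶ X), R w ∧ ∃ y : Y, w y = x := by
    obtain ⟨Y, f, hf, y, hy⟩ := hR.1 x
    obtain ⟨hw⟩ := hf
    exact ⟨_, _, hw, y, hy⟩

end Groth.Agent.S19345

namespace Groth.Agent.S19345

/-- Let P be a quasi-separated scheme. Then P is local for Zariski coverings (for every scheme X, every
jointly surjective family of quasi-compact open immersions into X and every morphism P ⟶ X, the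
morphism factors through a member) and for finite coverings (the same for jointly surjective
families of finite morphisms) — which together is locality for the rqfh coverings, the finite
composites of coverings of these two kinds — if and only if P is affine and Γ(P) is a local integral
domain in which every monic polynomial of positive degree has a root, i.e. the spectrum of an
absolutely integrally closed local domain. The published statement allows any scheme P; this row
assumes P quasi-separated. -/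
theorem result (P : Scheme.{u}) [QuasiSeparatedSpace P] :
    ((∀ (X : Scheme.{u}) (R : Presieve X), R ∈ Scheme.precoverage (@IsOpenImmersion ⊓ @QuasiCompact) X →
        ∀ g : P ⟶ X, ∃ (Y : Scheme.{u}) (w : Y ⟶ X) (h : P ⟶ Y), R w ∧ h ≫ w = g) ∧
      (∀ (X : Scheme.{u}) (R : Presieve X), R ∈ Scheme.precoverage @IsFinite X →
        ∀ g : P ⟶ X, ∃ (Y : Scheme.{u}) (w : Y ⟶ X) (h : P ⟶ Y), R w ∧ h ≫ w = g)) ↔
    (IsAffine P ∧ IsLocalRing Γ(P, ⊤) ∧ IsDomain Γ(P, ⊤) ∧ Curves.IsAIC Γ(P, ⊤)) := by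
  refine ⟨fun h => forward h.1 h.2, fun h => ?_⟩
  obtain ⟨_, _, _, hA⟩ := h
  exact backward hA

end Groth.Agent.S19345
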