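import Groth.Statements.S19348
import Mathlib.RingTheory.Ideal.Nonunits
-- import your own Groth.Agent.* helpers here

set_option autoImplicit false
universe u
open RigCh

namespace Groth.Agent.S19348

/-- Let p be a prime and m a natural number, P a commutative ring complete and separated for the p-adic
topology, and I an ideal of P with a divided power structure of level m, that is a sub-ideal J of I
endowed with divided powers such that x ^ (p ^ m) and p * x lie in J for all x in I. Then an element
of P whose class in P / I is invertible is invertible in P. (The source states this for a lift of a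
unit to the p-adically completed level-m divided power envelope of a closed immersion; the statement
here keeps exactly what its argument uses: completeness for p and the level-m divided powers on the
kernel.) -/
theorem result (p : ℕ) [Fact p.Prime] (m : ℕ)
    (P : Type u) [CommRing P] [IsAdicComplete (Ideal.span {(p : P)}) P]
    (I J : Ideal P) (hJ : DividedPowers J) (hJI : J ≤ I)
    (hpow : ∀ x ∈ I, x ^ (p ^ m) ∈ J) (hmul : ∀ x ∈ I, (p : P) * x ∈ J)
    (u : P) (hu : IsUnit (Ideal.Quotient.mk I u)) : IsUnit u := by
  obtain ⟨v, hv⟩ := hu.exists_right_inv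
  obtain ⟨v, rfl⟩ := Ideal.Quotient.mk_surjective v
  rw [← map_mul, ← map_one (Ideal.Quotient.mk I), Ideal.Quotient.eq] at hv
  set x := u * v - 1 with hx
  have hjac : Ideal.span {(p : P)} ≤ (⊥ : Ideal P).jacobson := IsAdicComplete.le_jacobson_bot _
  have hp : (x ^ (p ^ m)) ^ p ∈ Ideal.span {(p : P)} := by
    rw [← hJ.factorial_mul_dpow_eq_pow (hpow x hv)]
    refine Ideal.mul_mem_right _ _ (Ideal.mem_span_singleton.mpr ?_)
    exact_mod_cast (Nat.dvd_factorial (Fact.out : p.Prime).pos le_rfl).natCast
  have hxj : x ∈ (⊥ : Ideal P).jacobson := by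
    have h := hjac hp
    rw [← pow_mul] at h
    refine Ideal.mem_jacobson_bot.mpr fun y ↦ ?_
    by_contra hy
    obtain ⟨M, hM, hMy⟩ := exists_max_ideal_of_mem_nonunits hy
    have hxM : x ∈ M := by
      refine hM.isPrime.mem_of_pow_mem (p ^ m * p) ?_
      exact (show (⊥ : Ideal P).jacobson ≤ M from sInf_le ⟨bot_le, hM⟩) h
    exact hM.ne_top ((Ideal.eq_top_iff_one M).mpr (by
      simpa using M.sub_mem hMy (M.mul_mem_right y hxM)))
  have h1 : IsUnit (x * 1 + 1) := Ideal.mem_jacobson_bot.mp hxj 1
  rw [mul_one, hx, sub_add_cancel] at h1
  exact isUnit_of_mul_isUnit_left h1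

end Groth.Agent.S19348
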