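import Groth.Statements.S19352
-- import your own Groth.Agent.* helpers here
import Groth.Agent.SurfRR.K3
import Groth.Agent.SurfRR.Setup
import Groth.Agent.SurfRR.Embed
import Groth.Agent.CohDual.SmoothEquidim

set_option autoImplicit false
universe u
open CategoryTheory CategoryTheory.Limits AlgebraicGeometry
open Surf

namespace Groth.Agent.S19352

/-- Let k be an algebraically closed field and X a nonsingular projective surface over k, namely an
integral scheme, smooth over k, of dimension two, given with a closed immersion ι into a projective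
space P^n_k over k, and let H = ι^* O(1) be the invertible module of a hyperplane section. If L is
an invertible O_X-module (the module of a divisor D) with dim_k H^0(X, L) > 1, then (L·H) > 0. Here
(A·B) denotes the intersection number of two invertible modules, the alternating sum χ(O_X) − χ(A) −
χ(B) + χ(A ⊗ B) of Euler characteristics (cohomology in degrees at most two); for two invertible
modules this agrees with the same sum formed from their inverses. -/
theorem result (k : Type u) [Field k] [IsAlgClosed k]
    (X : Scheme.{u}) [X.Over (Spec (CommRingCat.of k))] [AlgebraicGeometry.IsIntegral X]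
    [Smooth (X ↘ Spec (CommRingCat.of k))] (hdim : topologicalKrullDim X = 2)
    (n : ℕ) (ι : X ⟶ CohB1.ProjSpace n k) [IsClosedImmersion ι]
    (hι : ι ≫ CohB1.ProjSpace.toSpec n k = X ↘ Spec (CommRingCat.of k))
    (L : X.Modules) (hL : PicF.IsInvertible L)
    (hsec : 1 < Module.finrank k (Coh.HH X L 0)) :
    0 < FGA.intNum k X 2 ![L, (Scheme.Modules.pullback ι).obj (Twist.twistProjSpace n k 1)] (Coh.structureModule X) := by
  have hproj : ∃ (m : ℕ) (j : X ⟶ CohB1.ProjSpace m k), IsClosedImmersion j ∧
      j ≫ CohB1.ProjSpace.toSpec m k = (X ↘ (Spec (CommRingCat.of k))) := ⟨n, ι, inferInstance, hι⟩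
  haveI := SurfRR.isProper_of_proj hproj
  have hreg : ∀ x : X, IsRegularLocalRing (X.presheaf.stalk x) := fun x =>
    CohDual.SmoothEquidim.isRegularLocalRing_stalk (X ↘ Spec (CommRingCat.of k)) x
  haveI := SurfRR.smooth_two (k := k) hdim hreg
  have hH := SurfRR.isAmple_hyperplane ι
  rw [SurfRR.intNum_pair k hdim.le hL hH.1]
  by_contra! hle
  obtain ⟨t⟩ := SurfRR.trivial_of_section_degree_zero k hdim.le hL
    (Module.nontrivial_of_finrank_pos (R := k) (Nat.zero_lt_of_lt hsec)) hH hle
  obtain ⟨u⟩ := SSExist.nonempty_HH_linearEquiv_of_iso (A := k) t 0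
  rw [u.finrank_eq, SurfRR.finrank_h0 k (X := X)] at hsec
  omega

end Groth.Agent.S19352
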