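import Groth.Statements.S19353
-- import your own Groth.Agent.* helpers here
import Groth.Agent.SurfRR.Effective
import Groth.Agent.SurfRR.Setup
import Groth.Agent.CohDual.SmoothEquidim

set_option autoImplicit false
universe u
open CategoryTheory CategoryTheory.Limits AlgebraicGeometry
open Surf

namespace Groth.Agent.S19353

/-- Let k be an algebraically closed field and X a nonsingular projective surface over k, namely an
integral scheme, smooth over k, of dimension two, given with a closed immersion ι into a projective
space P^n_k over k, and let H = ι^* O(1) be the invertible module of a hyperplane section. For every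
invertible O_X-module L (the module of a divisor D), if (L·H) = 0 then (L·L) ≤ 0. Here (A·B) denotes
the intersection number of two invertible modules, the alternating sum χ(O_X) − χ(A) − χ(B) + χ(A ⊗
B) of Euler characteristics (cohomology in degrees at most two); for two invertible modules this
agrees with the same sum formed from their inverses. -/
theorem result (k : Type u) [Field k] [IsAlgClosed k]
    (X : Scheme.{u}) [X.Over (Spec (CommRingCat.of k))] [AlgebraicGeometry.IsIntegral X]
    [Smooth (X ↘ Spec (CommRingCat.of k))] (hdim : topologicalKrullDim X = 2)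
    (n : ℕ) (ι : X ⟶ CohB1.ProjSpace n k) [IsClosedImmersion ι]
    (hι : ι ≫ CohB1.ProjSpace.toSpec n k = X ↘ Spec (CommRingCat.of k))
    (L : X.Modules) (hL : PicF.IsInvertible L)
    (horth : FGA.intNum k X 2 ![L, (Scheme.Modules.pullback ι).obj (Twist.twistProjSpace n k 1)] (Coh.structureModule X) = 0) :
    FGA.intNum k X 2 ![L, L] (Coh.structureModule X) ≤ 0 := by
  have hproj : ∃ (m : ℕ) (j : X ⟶ CohB1.ProjSpace m k), IsClosedImmersion j ∧
      j ≫ CohB1.ProjSpace.toSpec m k = (X ↘ (Spec (CommRingCat.of k))) := ⟨n, ι, inferInstance, hι⟩
  haveI := SurfRR.isProper_of_proj hproj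
  have hreg : ∀ x : X, IsRegularLocalRing (X.presheaf.stalk x) := fun x =>
    CohDual.SmoothEquidim.isRegularLocalRing_stalk (X ↘ Spec (CommRingCat.of k)) x
  obtain ⟨W, hW, hdual⟩ := SurfRR.exists_canonical hdim hreg hproj
  have hH := SurfRR.isAmple_hyperplane ι
  rw [SurfRR.intNum_pair k hdim.le hL hH.1] at horth
  rw [SurfRR.intNum_pair k hdim.le hL hL]
  exact le_of_not_gt fun h => SurfRR.inum_ne_zero k hdim hW hdual hL hH h horth

end Groth.Agent.S19353
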