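import Groth.Statements.S19356
import Mathlib

set_option autoImplicit false
universe u
open AbVar

namespace Groth.Agent.S19356

/-- A rational linear map to the complex numbers is bounded by a positive definite rational form. -/
theorem exists_bound {V : Type u} [AddCommGroup V] [Module ℚ V] [FiniteDimensional ℚ V]
    (B : LinearMap.BilinForm ℚ V) (hB : LinearMap.IsSymm B) (hpos : ∀ x, x ≠ 0 → 0 < B x x) (ρ : V →ₗ[ℚ] ℂ) :
    ∃ C : ℝ, ∀ x, ‖ρ x‖ ^ 2 ≤ C * (B x x : ℝ) := by
  have : Invertible (2 : ℚ) := invertibleOfNonzero two_ne_zero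
  obtain ⟨v, hv⟩ := LinearMap.BilinForm.exists_orthogonal_basis (B := B) hB
  have hd : ∀ i, (0 : ℝ) < (B (v i) (v i) : ℝ) := fun i => by exact_mod_cast hpos _ (v.ne_zero i)
  refine ⟨∑ i, ‖ρ (v i)‖ ^ 2 / (B (v i) (v i) : ℝ), fun x => ?_⟩
  have hx : B x x = ∑ i, v.repr x i ^ 2 * B (v i) (v i) := by
    conv_lhs => rw [← v.sum_repr x]
    simp only [map_sum, map_smul, LinearMap.sum_apply, LinearMap.smul_apply, smul_eq_mul]
    refine Finset.sum_congr rfl fun i _ => ?_
    rw [Finset.sum_eq_single i]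
    · ring
    · intro j _ hji
      rw [show B (v j) (v i) = 0 from hv hji]
      ring
    · simp
  have hρ : ‖ρ x‖ ≤ ∑ i, (|(v.repr x i : ℝ)| * Real.sqrt (B (v i) (v i) : ℝ)) *
      (‖ρ (v i)‖ / Real.sqrt (B (v i) (v i) : ℝ)) := by
    conv_lhs => rw [← v.sum_repr x, map_sum]
    refine (norm_sum_le _ _).trans (Finset.sum_le_sum fun i _ => le_of_eq ?_)
    rw [map_smul, Rat.smul_def, norm_mul, Complex.norm_ratCast]
    have := (Real.sqrt_pos.mpr (hd i)).ne'
    field_simp
  refine (pow_le_pow_left₀ (norm_nonneg _) hρ 2).trans ((Finset.sum_mul_sq_le_sq_mul_sq _ _ _).trans ?_)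
  rw [hx]
  push_cast
  rw [mul_comm]
  refine le_of_eq ?_
  congr 1
  · refine Finset.sum_congr rfl fun i _ => ?_
    rw [div_pow, Real.sq_sqrt (hd i).le]
  · refine Finset.sum_congr rfl fun i _ => ?_
    rw [mul_pow, Real.sq_sqrt (hd i).le, sq_abs]


/-- Let R be a finite-dimensional ℚ-algebra with a ℚ-linear involution x ↦ x† (an anti-automorphism of
order two) and a ℚ-linear functional σ with σ(x x†) > 0 for every x ≠ 0; this is the positivity of
the involution, σ being the trace of R over ℚ in the case of the endomorphism algebra of an abelian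
variety with a Rosati involution, and the trace on a cohomology group in the case of an algebra of
correspondences with the adjoint for a Weil form. Let α ∈ R with α α† = q for a rational number q.
Then α† lies in the subalgebra ℚ[α], and for every ℚ-algebra homomorphism ρ : ℚ[α] → ℂ one has ρ(α†)
= the complex conjugate of ρ(α) and |ρ(α)|² = q. (The published statement is for the endomorphism
algebra of an abelian variety with a Rosati involution, with σ its trace over ℚ and q an integer;
the form given here, for an arbitrary ℚ-linear functional σ positive on every x x† with x ≠ 0 and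
rational q, is what its proof establishes.) -/
theorem result (R : Type u) [Ring R] [Algebra ℚ R]
    [Module.Finite ℚ R] [StarRing R] [StarModule ℚ R]
    (σ : R →ₗ[ℚ] ℚ) (hpos : ∀ x : R, x ≠ 0 → 0 < σ (x * star x))
    (α : R) (q : ℚ) (hα : α * star α = algebraMap ℚ R q) :
    ∃ hmem : star α ∈ Algebra.adjoin ℚ ({α} : Set R),
      ∀ ρ : Algebra.adjoin ℚ ({α} : Set R) →ₐ[ℚ] ℂ,
        ρ ⟨star α, hmem⟩ = starRingEnd ℂ (ρ ⟨α, Algebra.self_mem_adjoin_singleton ℚ α⟩) ∧
          ‖ρ ⟨α, Algebra.self_mem_adjoin_singleton ℚ α⟩‖ ^ 2 = (q : ℝ) := by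
  rcases eq_or_ne α 0 with rfl | hα0
  · refine ⟨by rw [star_zero]; exact Subalgebra.zero_mem _, fun ρ => ?_⟩
    have : Nontrivial R := by
      by_contra hn
      rw [not_nontrivial_iff_subsingleton] at hn
      have h1 : (1 : Algebra.adjoin ℚ ({(0 : R)} : Set R)) = 0 := Subtype.ext (Subsingleton.elim _ _)
      simpa using congrArg ρ h1
    have hq : q = 0 := by
      rw [zero_mul] at hα
      exact (algebraMap ℚ R).injective (by rw [map_zero]; exact hα.symm)
    have e1 : (⟨star (0 : R), by rw [star_zero]; exact Subalgebra.zero_mem _⟩ :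
        Algebra.adjoin ℚ ({(0 : R)} : Set R)) = 0 := Subtype.ext (star_zero R)
    have e2 : (⟨(0 : R), Algebra.self_mem_adjoin_singleton ℚ 0⟩ :
        Algebra.adjoin ℚ ({(0 : R)} : Set R)) = 0 := rfl
    simp [e1, e2, hq]
  have hσ : 0 < σ (α * star α) := hpos α hα0
  have hq : q ≠ 0 := by
    rintro rfl
    rw [hα, map_zero, map_zero] at hσ
    exact lt_irrefl _ hσ
  have hone : (1 : R) ≠ 0 := fun h => hα0 (eq_zero_of_zero_eq_one h.symm α)
  have h1 : 0 < σ 1 := by simpa using hpos 1 hone
  have hq0 : 0 < q := by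
    rw [hα, Algebra.algebraMap_eq_smul_one, map_smul, smul_eq_mul] at hσ
    exact (mul_pos_iff_of_pos_right h1).mp hσ
  have : IsArtinianRing R := IsArtinianRing.of_finite ℚ R
  have hright : α * (q⁻¹ • star α) = 1 := by
    rw [mul_smul_comm, hα, Algebra.algebraMap_eq_smul_one, smul_smul, inv_mul_cancel₀ hq, one_smul]
  have hleft : (q⁻¹ • star α) * α = 1 := mul_eq_one_comm.mp hright
  have hα' : star α * α = algebraMap ℚ R q := by
    rw [Algebra.algebraMap_eq_smul_one, ← hleft, smul_mul_assoc, smul_smul, mul_inv_cancel₀ hq,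
      one_smul]
  have hmem : star α ∈ Algebra.adjoin ℚ ({α} : Set R) := by
    set S := Algebra.adjoin ℚ ({α} : Set R)
    let L : S →ₗ[ℚ] S := LinearMap.mulLeft ℚ ⟨α, Algebra.self_mem_adjoin_singleton ℚ α⟩
    have hinj : Function.Injective L := fun x y hxy => Subtype.ext (by
      have h : α * (x : R) = α * (y : R) := congrArg Subtype.val hxy
      have h2 := congrArg ((q⁻¹ • star α) * ·) h
      simpa only [← mul_assoc, hleft, one_mul] using h2)
    obtain ⟨y, hy⟩ := LinearMap.surjective_of_injective hinj (algebraMap ℚ S q)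
    have hy' : α * (y : R) = algebraMap ℚ R q := congrArg Subtype.val hy
    have : (y : R) = star α := by
      have h2 := congrArg ((q⁻¹ • star α) * ·) (hy'.trans hα.symm)
      simpa only [← mul_assoc, hleft, one_mul] using h2
    exact this ▸ y.2
  refine ⟨hmem, fun ρ => ?_⟩
  let a : (Algebra.adjoin ℚ ({α} : Set R)) := ⟨α, Algebra.self_mem_adjoin_singleton ℚ α⟩
  let b : (Algebra.adjoin ℚ ({α} : Set R)) := ⟨star α, hmem⟩
  let B : LinearMap.BilinForm ℚ (Algebra.adjoin ℚ ({α} : Set R)) := LinearMap.mk₂ ℚ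
    (fun x y => σ ((x : R) * star (y : R)) + σ ((y : R) * star (x : R)))
    (fun x x' y => by simp [add_mul, mul_add]; ring)
    (fun c x y => by simp [star_smul, mul_add])
    (fun x y y' => by simp [add_mul, mul_add]; ring)
    (fun c x y => by simp [star_smul, mul_add])
  have hB : LinearMap.IsSymm B := ⟨fun x y => add_comm _ _⟩
  have hBpos : ∀ x : (Algebra.adjoin ℚ ({α} : Set R)), x ≠ 0 → 0 < B x x := fun x hx => by
    have := hpos (x : R) (fun h => hx (Subtype.ext h))
    exact add_pos this this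
  obtain ⟨C, hC⟩ := exists_bound B hB hBpos ρ.toLinearMap
  have key : ∀ c : (Algebra.adjoin ℚ ({α} : Set R)), star (c : R) * (c : R) = algebraMap ℚ R q → ‖ρ c‖ ^ 2 ≤ (q : ℝ) := by
    intro c hc
    have hB' : ∀ n : ℕ, B (c ^ n) (c ^ n) = q ^ n * B 1 1 := by
      have hpow : ∀ n : ℕ, star ((c : R) ^ n) * (c : R) ^ n = algebraMap ℚ R (q ^ n) := by
        intro n
        induction n with
        | zero => simp
        | succ n ih =>
          rw [star_pow] at ih ⊢
          rw [pow_succ, pow_succ' (c : R), mul_assoc, ← mul_assoc (star (c : R)), hc,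
            Algebra.commutes, ← mul_assoc, ih, ← map_mul, pow_succ]
      have hpow' : ∀ n : ℕ, (c : R) ^ n * star ((c : R) ^ n) = algebraMap ℚ R (q ^ n) := fun n => by
        have h1 : (q ^ n)⁻¹ • star ((c : R) ^ n) * (c : R) ^ n = 1 := by
          rw [smul_mul_assoc, hpow, Algebra.algebraMap_eq_smul_one, smul_smul,
            inv_mul_cancel₀ (pow_ne_zero _ hq), one_smul]
        have h2 := mul_eq_one_comm.mp h1
        rw [mul_smul_comm] at h2
        have h3 := congrArg ((q ^ n) • ·) h2
        simpa only [smul_smul, mul_inv_cancel₀ (pow_ne_zero _ hq), one_smul,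
          ← Algebra.algebraMap_eq_smul_one] using h3
      intro n
      show σ _ + σ _ = q ^ n * (σ _ + σ _)
      simp only [SubmonoidClass.coe_pow, OneMemClass.coe_one, star_one, mul_one]
      rw [hpow', Algebra.algebraMap_eq_smul_one, map_smul, smul_eq_mul]
      ring
    by_contra hlt
    rw [not_le] at hlt
    have hq' : (0 : ℝ) < q := by exact_mod_cast hq0
    obtain ⟨n, hn⟩ := pow_unbounded_of_one_lt (C * (B 1 1 : ℝ)) ((one_lt_div hq').mpr hlt)
    have h := hC (c ^ n)
    rw [show ρ.toLinearMap (c ^ n) = ρ c ^ n from map_pow ρ c n, hB', norm_pow, ← pow_mul, mul_comm n 2,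
      pow_mul] at h
    push_cast at h
    rw [div_pow, lt_div_iff₀ (pow_pos hq' n)] at hn
    linarith [mul_comm ((q : ℝ) ^ n) (B 1 1 : ℝ)]
  have ha := key a hα'
  have hb := key b (by show star (star α) * star α = _; rw [star_star]; exact hα)
  have hab : ρ b * ρ a = (q : ℂ) := by
    rw [← map_mul, show b * a = algebraMap ℚ (Algebra.adjoin ℚ ({α} : Set R)) q from Subtype.ext hα', AlgHom.commutes]
    exact eq_ratCast _ _
  have hnorm : ‖ρ b‖ ^ 2 * ‖ρ a‖ ^ 2 = (q : ℝ) ^ 2 := by
    rw [← mul_pow, ← norm_mul, hab, Complex.norm_ratCast, sq_abs]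
  have hq' : (0 : ℝ) < q := by exact_mod_cast hq0
  have heq : ‖ρ a‖ ^ 2 = (q : ℝ) := by nlinarith [sq_nonneg ‖ρ a‖, sq_nonneg ‖ρ b‖]
  refine ⟨?_, heq⟩
  have ha0 : ρ a ≠ 0 := fun h => by rw [h, norm_zero] at heq; simp at heq; linarith
  have : starRingEnd ℂ (ρ a) * ρ a = (q : ℂ) := by
    rw [← Complex.normSq_eq_conj_mul_self, Complex.normSq_eq_norm_sq, heq]
    norm_cast
  exact mul_right_cancel₀ ha0 (hab.trans this.symm)

end Groth.Agent.S19356
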