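import Groth.Statements.S1937
import Groth.Agent.ConormalSection.Main
import Groth.Agent.QCohLib.FiniteType

set_option autoImplicit false
universe u v
open CategoryTheory MonoidalCategory CartesianMonoidalCategory MonObj GrpObj AlgebraicGeometry
open GrpSch

namespace Groth.Agent.S1937

open Limits in
theorem main (S : Scheme.{u}) (G : Over S) [GrpObj G] [QuasiSeparated G.hom] :
    Nonempty (Omega.sheaf G.hom ≅ (Scheme.Modules.pullback G.hom).obj (Omega.conormal η[G].left)) := by
  have he : η[G].left ≫ G.hom = 𝟙 S := Over.w η[G]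
  have : QuasiCompact (η[G].left ≫ G.hom) := by rw [he]; exact inferInstanceAs (QuasiCompact (𝟙 S))
  have := QuasiCompact.of_comp η[G].left G.hom
  let π' : G ⊗ G ⟶ G := (fst G G)⁻¹ * snd G G
  have hd : (lift (𝟙 G) (𝟙 G)).left = pullback.diagonal G.hom := by
    apply pullback.hom_ext
    · exact (congrArg CommaMorphism.left (lift_fst (𝟙 G) (𝟙 G))).trans (pullback.diagonal_fst G.hom).symm
    · exact (congrArg CommaMorphism.left (lift_snd (𝟙 G) (𝟙 G))).trans (pullback.diagonal_snd G.hom).symm
  have : QuasiCompact (lift (𝟙 G) (𝟙 G)).left := by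
    rw [hd]; exact inferInstanceAs (QuasiCompact (pullback.diagonal G.hom))
  refine ConormalSection.conormal_baseChange (p := G.hom) (e := η[G].left) (s := G.hom) (π := π'.left)
    (q := (fst G G).left) (e' := (lift (𝟙 G) (𝟙 G)).left) he ?_ ?_ ?_ |>.map fun x => ?_
  · refine IsPullback.of_isLimit' ⟨(Over.w π').trans (Over.w (fst G G)).symm⟩
      (PullbackCone.IsLimit.mk _
      (fun c => (lift (Over.homMk (U := Over.mk (c.snd ≫ G.hom)) c.snd)
        (Over.homMk (U := Over.mk (c.snd ≫ G.hom)) c.snd rfl *
          Over.homMk c.fst c.condition)).left)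
      (fun c => ?_) (fun c => ?_) (fun c m h₁ h₂ => ?_))
    · rw [← Over.comp_left, comp_mul, comp_inv, lift_fst, lift_snd, inv_mul_cancel_left]
      rfl
    · rw [← Over.comp_left, lift_fst]
      rfl
    · have hm : m ≫ (G ⊗ G).hom = c.snd ≫ G.hom := by
        rw [← h₂, Category.assoc]; congr 1
      let m' : Over.mk (c.snd ≫ G.hom) ⟶ G ⊗ G := Over.homMk m hm
      have ha : m' ≫ fst G G = Over.homMk c.snd := Over.OverMorphism.ext h₂
      have hb : m' ≫ π' = Over.homMk c.fst c.condition := Over.OverMorphism.ext h₁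
      have hm' : m' = lift (Over.homMk c.snd) (Over.homMk c.snd rfl * Over.homMk c.fst c.condition) := by
        refine CartesianMonoidalCategory.hom_ext _ _ (by rw [lift_fst]; exact ha) ?_
        rw [lift_snd, ← hb, ← ha, comp_mul, comp_inv, mul_inv_cancel_left]
      exact congrArg CommaMorphism.left hm'
  · rw [← Over.comp_left, comp_mul, comp_inv, lift_fst, lift_snd, inv_mul_cancel, Hom.one_def,
      Over.comp_left]
    rfl
  · rw [← Over.comp_left, lift_fst]
    rfl
  · exact eqToIso (congrArg (fun f => Omega.conormal f) hd.symm) ≪≫ x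

/-- Let G be a group scheme over S with structure morphism f and unit section e : S → G. Then Ω_{G/S} ≅
f^* C_{S/G}, the pullback of the conormal sheaf of the immersion e; and when S is the spectrum of a
field, Ω_{G/S} is a free O_G-module (a coproduct of copies of O_G). Stated for G → S
quasi-separated, where the shared prelude's Ω (conormal sheaf of the diagonal through Mathlib's
kernel ideal sheaf) and conormal sheaf of e are the usual ones. -/
theorem result (S : Scheme.{u}) (G : Over S) [GrpObj G] [QuasiSeparated G.hom] : Nonempty (Omega.sheaf G.hom ≅ (Scheme.Modules.pullback G.hom).obj (Omega.conormal η[G].left)) ∧ ∀ (K : Type u) [Field K], Nonempty (S ≅ Spec (CommRingCat.of K)) → ∃ I : Type u, Nonempty (Omega.sheaf G.hom ≅ ∐ fun _ : I => Coh.structureModule G.left) := by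
  refine ⟨main S G, fun K _ hK => ?_⟩
  obtain ⟨ε⟩ := hK
  obtain ⟨x⟩ := main S G
  have := ConormalSection.isQuasicoherent_idealMod η[G].left.ker
  have : (Omega.conormal η[G].left).IsQuasicoherent := QCohLib.isQuasicoherent_pullback _ _
  let N : (Spec (CommRingCat.of K)).Modules :=
    (Scheme.Modules.pullback ε.inv).obj (Omega.conormal η[G].left)
  have : N.IsQuasicoherent := QCohLib.isQuasicoherent_pullback _ _
  let b := Module.Free.chooseBasis K (QCohLib.ΓR N)
  let y : N ≅ SheafOfModules.free _ :=
    (QCohLib.counitIso N).symm ≪≫ (tilde.functor (CommRingCat.of K)).mapIso b.repr.toModuleIso ≪≫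
      tildeFinsupp _
  let z : Omega.conormal η[G].left ≅ (Scheme.Modules.pullback ε.hom).obj (SheafOfModules.free _) :=
    ((Scheme.Modules.pullbackComp ε.hom ε.inv ≪≫ Scheme.Modules.pullbackCongr ε.hom_inv_id ≪≫
      Scheme.Modules.pullbackId S).app (Omega.conormal η[G].left)).symm ≪≫
    (Scheme.Modules.pullback ε.hom).mapIso y
  exact ⟨_, ⟨x ≪≫ (Scheme.Modules.pullback G.hom).mapIso (z ≪≫ QCohLib.pullbackFreeIso ε.hom _) ≪≫
    QCohLib.pullbackFreeIso G.hom _⟩⟩

end Groth.Agent.S1937
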