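import Groth.Statements.S19370
import Mathlib
-- import your own Groth.Agent.* helpers here

set_option autoImplicit false
universe u v
open CategoryTheory Opposite Instab
open Instab Instab.Fan

namespace Groth.Agent.S19370

open Instab Instab.Fan Filter Topology

variable {F : Fan.{u}}

lemma continuous_mk {n : ICone} (ξ : F.obj (Opposite.op n)) : Continuous (P.mk ξ : Orth n → P F) :=
  continuous_quot_mk.comp (continuous_sigmaMk (σ := fun e : (Σ n : ICone, F.obj (Opposite.op n)) => Orth e.1) (i := ⟨n, ξ⟩))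

lemma exists_rational_mem {U : Set (P F)} (hU : IsRealizable U) {O : Set (P F)} (hO : IsOpen O)
    {y : P F} (hy : y ∈ U) (hyO : y ∈ O) : ∃ z, z ∈ U ∧ z ∈ O ∧ z.IsRational := by
  obtain ⟨S, rfl⟩ := hU
  obtain ⟨q, rfl⟩ := hy
  obtain ⟨⟨⟨n, ξ⟩, v⟩, rfl⟩ := Quot.exists_rep q
  let η : F.obj (Opposite.op n) := S.ι.app _ ξ
  have hcell : ∀ w : Orth n, P.mk η w ∈ Set.range (P.map S.ι) := fun w => ⟨P.mk ξ w, rfl⟩
  have hv : v ∈ (P.mk η) ⁻¹' O := hyO
  obtain ⟨O', hO', hpre⟩ := isOpen_induced_iff.mp ((continuous_mk η).isOpen_preimage O hO)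
  rw [← hpre] at hv
  obtain ⟨ε, hε, hball⟩ := Metric.isOpen_iff.mp hO' v.1 hv
  obtain ⟨N, hN⟩ := exists_nat_gt (3 / ε)
  have hN0 : (0 : ℝ) < N := lt_trans (by positivity) hN
  let m : Fin n.dim → ℕ := fun i => ⌈v.1 i * N⌉₊ + 1
  have hm : ∀ i, v.1 i ≤ (m i : ℝ) / N ∧ (m i : ℝ) / N < v.1 i + ε := fun i => by
    have h0 : 0 ≤ v.1 i * N := mul_nonneg (v.2.1 i) hN0.le
    have h1 := Nat.le_ceil (v.1 i * N)
    have h2 := Nat.ceil_lt_add_one h0
    have h3 : 3 < ε * N := by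
      rw [div_lt_iff₀ hε] at hN; linarith
    constructor
    · rw [le_div_iff₀ hN0]; simp only [m]; push_cast; linarith
    · rw [div_lt_iff₀ hN0]; simp only [m]; push_cast; nlinarith
  have hw0 : ∀ i, 0 ≤ (m i : ℝ) / N := fun i => by positivity
  have hwne : (fun i => (m i : ℝ) / N) ≠ 0 := fun h => by
    have := congr_fun h ⟨0, n.dim.pos⟩
    simp [m, hN0.ne'] at this
    exact absurd this (by positivity)
  let w : Orth n := ⟨fun i => (m i : ℝ) / N, hw0, hwne⟩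
  haveI : Subsingleton (Fin (Fan.one.dim : ℕ)) := inferInstanceAs (Subsingleton (Fin 1))
  let φ : Fan.one ⟶ n :=
    { toLin :=
        { toFun := fun x i => x 0 * (m i : ℤ)
          map_add' := fun x y => funext fun i => add_mul (x 0) (y 0) (m i : ℤ)
          map_smul' := fun c x => funext fun i => mul_assoc c (x 0) (m i : ℤ) }
      injective := fun x y h => funext fun i => by
        have := congr_fun h ⟨0, n.dim.pos⟩
        simp only [LinearMap.coe_mk, AddHom.coe_mk, mul_eq_mul_right_iff] at this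
        rw [Subsingleton.elim i 0]
        rcases this with h' | h'
        · exact h'
        · exact absurd h' (by simp only [m]; positivity)
      nonneg := fun x hx j => mul_nonneg (hx 0) (by positivity) }
  refine ⟨P.mk η w, hcell w, ?_, F.map φ.op η, ?_⟩
  · have : w.1 ∈ O' := hball (by
      rw [Metric.mem_ball, dist_pi_lt_iff hε]
      intro i
      rw [Real.dist_eq, abs_lt]
      have := hm i
      constructor <;> simp only [w] <;> linarith)
    have h2 : w ∈ (P.mk η) ⁻¹' O := hpre ▸ this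
    exact h2
  · refine (Quot.sound (Rel.glue φ η (Orth.ones Fan.one) w (1 / N) (by positivity) ?_)).symm
    funext i
    show (m i : ℝ) / N = (1 / N : ℝ) * ∑ j, ((φ.toLin (Pi.single j 1) i : ℤ) : ℝ) * (Orth.ones Fan.one).1 j
    rw [Fintype.sum_subsingleton _ (0 : Fin Fan.one.dim)]
    rw [show φ.toLin (Pi.single 0 1) i = (m i : ℤ) from by
      show (Pi.single 0 1 : Fin Fan.one.dim → ℤ) 0 * (m i : ℤ) = _
      rw [Pi.single_eq_same, one_mul]]
    simp [Orth.ones]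
    ring

lemma exists_path {U : Set (P F)} (τ : F.obj (Opposite.op two)) (hτ : P.cell τ ⊆ U) (x : U)
    (hx : P.mk τ (Orth.basis two 0) = (x : P F)) :
    ∃ γ : ℕ → U, Tendsto γ atTop (𝓝 x) ∧ ∀ j, ∃ w : Orth two, (γ j : P F) = P.mk τ w ∧
      ∃ a b : ℝ, 0 < a ∧ 0 < b ∧ w.1 = a • (Orth.basis two 0).1 + b • (Orth.basis two 1).1 := by
  let t : ℕ → ℝ := fun j => 1 / ((j : ℝ) + 1)
  have ht : ∀ j, 0 < t j := fun j => by positivity
  let vec : ℕ → Fin two.dim → ℝ := fun j => (1 : ℝ) • (Orth.basis two 0).1 + t j • (Orth.basis two 1).1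
  have hvec : ∀ j, (∀ i, 0 ≤ vec j i) ∧ vec j ≠ 0 := fun j => by
    refine ⟨fun i => add_nonneg (mul_nonneg zero_le_one ((Orth.basis two 0).2.1 i))
      (mul_nonneg (ht j).le ((Orth.basis two 1).2.1 i)), fun h => ?_⟩
    have h3 : (1 : ℝ) * (if ((0 : Fin 2) = 0) then (1 : ℝ) else 0) + t j * (if ((0 : Fin 2) = 1) then (1 : ℝ) else 0) = 0 :=
      congr_fun h (0 : Fin 2)
    norm_num at h3
  let w : ℕ → Orth two := fun j => ⟨vec j, hvec j⟩
  refine ⟨fun j => ⟨P.mk τ (w j), hτ ⟨w j, rfl⟩⟩, ?_, fun j => ⟨w j, rfl, 1, t j, one_pos, ht j, rfl⟩⟩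
  rw [tendsto_subtype_rng, ← hx]
  refine ((continuous_mk τ).tendsto _).comp (tendsto_subtype_rng.mpr ?_)
  have h0 : Tendsto t atTop (𝓝 0) := tendsto_one_div_add_atTop_nhds_zero_nat
  have := (tendsto_const_nhds (x := (1 : ℝ) • (Orth.basis two 0).1)).add (h0.smul_const (Orth.basis two 1).1)
  rw [zero_smul, add_zero] at this
  have e : (1 : ℝ) • (Orth.basis two 0).1 = (Orth.basis two 0).1 := one_smul _ _
  rw [e] at this
  exact this.congr fun j => by simp only [vec, w, e]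

lemma basis_indep : ¬ ∃ c : ℝ, (Orth.basis two 1).1 = c • (Orth.basis two 0).1 := by
  rintro ⟨c, hc⟩
  have h3 : (if ((1 : Fin 2) = 1) then (1 : ℝ) else 0) = c * (if ((1 : Fin 2) = 0) then (1 : ℝ) else 0) :=
    congr_fun hc (1 : Fin 2)
  norm_num at h3

/-- Let F be a formal fan, U ⊆ P F a convex subset, Γ a totally ordered set and Φ : U → Γ a
quasi-concave function that is lower semicontinuous in the sense that every sublevel set {Φ ≤ c} is
closed in U. Then every rational point of U at which Φ has a local maximum is a global maximum of Φ,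
and if Φ is strictly quasi-concave there is at most one such rational point. -/
theorem result (F : Fan.{u}) (U : Set (Fan.P F))
    (hU : Fan.IsConvex U) {Γ : Type v} [LinearOrder Γ] (Φ : U → Γ) (hΦ : Fan.IsQuasiConcaveOn U Φ)
    (hlsc : ∀ c : Γ, IsClosed {x : U | Φ x ≤ c}) :
    (∀ x : U, (x : Fan.P F).IsRational → IsLocalMax Φ x → ∀ y : U, Φ y ≤ Φ x) ∧
    (Fan.IsStrictQuasiConcaveOn U Φ → ∀ x y : U, (x : Fan.P F).IsRational → (y : Fan.P F).IsRational →
      IsLocalMax Φ x → IsLocalMax Φ y → x = y) := by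
  have hglob : ∀ x : U, (x : Fan.P F).IsRational → IsLocalMax Φ x → ∀ y : U, Φ y ≤ Φ x := by
    intro x hx hmax y
    by_contra hlt
    obtain ⟨O, hO, hOU⟩ := isOpen_induced_iff.mp (hlsc (Φ x)).isOpen_compl
    have hyO : (y : Fan.P F) ∈ O := by
      have : y ∈ Subtype.val ⁻¹' O := hOU ▸ hlt
      exact this
    obtain ⟨z, hzU, hzO, hzr⟩ := exists_rational_mem hU.2.1 hO y.2 hyO
    have hz : ¬ Φ ⟨z, hzU⟩ ≤ Φ x := by
      have : (⟨z, hzU⟩ : U) ∈ Subtype.val ⁻¹' O := hzO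
      rw [hOU] at this
      exact this
    have hne : (x : Fan.P F) ≠ z := fun e => hz (le_of_eq (congrArg Φ (Subtype.ext e.symm)))
    obtain ⟨τ, hτ, h0, h1⟩ := hU.2.2 x z x.2 hzU hx hzr hne
    obtain ⟨γ, hγ, hw⟩ := exists_path τ hτ x h0
    obtain ⟨j, hj⟩ := (hγ.eventually hmax).exists
    obtain ⟨w, hwγ, hab⟩ := hw j
    obtain ⟨hge, heq⟩ := hΦ Fan.two τ _ w _ (hτ ⟨_, rfl⟩) (hτ ⟨_, rfl⟩) (hτ ⟨_, rfl⟩) basis_indep hab
    have e0 : (⟨_, hτ ⟨Fan.Orth.basis Fan.two 0, rfl⟩⟩ : U) = x := Subtype.ext h0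
    have e1 : (⟨_, hτ ⟨Fan.Orth.basis Fan.two 1, rfl⟩⟩ : U) = ⟨z, hzU⟩ := Subtype.ext h1
    have e2 : (⟨_, hτ ⟨w, rfl⟩⟩ : U) = γ j := Subtype.ext hwγ.symm
    rw [e0, e1, e2, min_eq_left (le_of_lt (not_le.mp hz))] at hge heq
    exact hz (le_of_eq (heq (le_antisymm hj hge)).symm)
  refine ⟨hglob, fun hs x y hx hy hmx hmy => ?_⟩
  by_contra hne
  have hxy : Φ x = Φ y := le_antisymm (hglob y hy hmy x) (hglob x hx hmx y)
  obtain ⟨τ, hτ, h0, h1⟩ := hU.2.2 x y x.2 y.2 hx hy (fun e => hne (Subtype.ext e))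
  obtain ⟨γ, hγ, hw⟩ := exists_path τ hτ x h0
  obtain ⟨w, hwγ, hab⟩ := hw 0
  have hlt := hs Fan.two τ _ w _ (hτ ⟨_, rfl⟩) (hτ ⟨_, rfl⟩) (hτ ⟨_, rfl⟩) basis_indep hab
  have e0 : (⟨_, hτ ⟨Fan.Orth.basis Fan.two 0, rfl⟩⟩ : U) = x := Subtype.ext h0
  have e1 : (⟨_, hτ ⟨Fan.Orth.basis Fan.two 1, rfl⟩⟩ : U) = y := Subtype.ext h1
  have e2 : (⟨_, hτ ⟨w, rfl⟩⟩ : U) = γ 0 := Subtype.ext hwγ.symm
  rw [e0, e1, e2, hxy, min_self, ← hxy] at hlt
  exact absurd (hglob x hx hmx (γ 0)) (not_le.mpr hlt)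

end Groth.Agent.S19370
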