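import Groth.Statements.S19374
import Mathlib


set_option autoImplicit false
universe u
open CategoryTheory Opposite Instab
open Instab Instab.Fan

namespace Groth.Agent.S19374

/-- Let F be a formal fan and U ⊆ P F. Then U is locally convex in the simplex-wise sense — for every
rational simplex, a ray lying strictly between two rays that map into U also maps into U — if and
only if, for every n-cone ξ of F, the set of nonzero nonnegative vectors v of ℝ^n whose point of the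
rational simplex of ξ lies in U is a convex subset of ℝ^n (convexity of the preimage of U in each
punctured cone of the affine realization). -/
theorem result (F : Fan.{u}) (U : Set (Fan.P F)) :
    Fan.IsLocallyConvex U ↔
      ∀ (n : ICone) (ξ : F.obj (op n)),
        Convex ℝ {v : Fin n.dim → ℝ | ∃ h : (∀ i, 0 ≤ v i) ∧ v ≠ 0, Fan.P.mk ξ (⟨v, h⟩ : Fan.Orth n) ∈ U} := by
  have hscale : ∀ (n : ICone) (ξ : F.obj (Opposite.op n)) (v w : Fan.Orth n) (c : ℝ), 0 < c → w.1 = c • v.1 →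
      Fan.P.mk ξ v = Fan.P.mk ξ w := by
    intro n ξ v w c hc h
    have e : (⟨⟨n, ξ⟩, v⟩ : Fan.Pt F) = ⟨⟨n, F.map (𝟙 n : n ⟶ n).op ξ⟩, v⟩ := by
      rw [op_id, F.map_id]; rfl
    show Quot.mk _ _ = Quot.mk _ _
    rw [e]
    refine Quot.sound (Fan.Rel.glue (𝟙 n) ξ v w c hc ?_)
    rw [h]
    congr 1
    funext j
    show v.1 j = ∑ i, ((Pi.single i 1 : Fin n.dim → ℤ) j : ℝ) * v.1 i
    rw [Finset.sum_eq_single j (fun i _ hi => by simp [Pi.single_eq_of_ne (Ne.symm hi)]) (fun h => absurd (Finset.mem_univ j) h)]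
    simp
  constructor
  · intro hU n ξ v₀ h₀ v₂ h₂ a b ha hb hab
    obtain ⟨⟨p₀, n₀⟩, m₀⟩ := h₀
    obtain ⟨⟨p₂, n₂⟩, m₂⟩ := h₂
    rcases ha.eq_or_lt with rfl | ha'
    · have : b = 1 := by linarith
      subst this
      simpa using ⟨⟨p₂, n₂⟩, m₂⟩
    rcases hb.eq_or_lt with rfl | hb'
    · have : a = 1 := by linarith
      subst this
      simpa using ⟨⟨p₀, n₀⟩, m₀⟩
    have hn : ∀ i, 0 ≤ (a • v₀ + b • v₂) i := fun i =>
      add_nonneg (mul_nonneg ha'.le (p₀ i)) (mul_nonneg hb'.le (p₂ i))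
    have h0 : a • v₀ + b • v₂ ≠ 0 := by
      intro h
      apply n₀
      funext i
      have h1 : a * v₀ i + b * v₂ i = 0 := congrFun h i
      have h2 := mul_nonneg hb'.le (p₂ i)
      have h3 := p₀ i
      show v₀ i = 0
      nlinarith
    exact ⟨⟨hn, h0⟩, hU n ξ ⟨v₀, p₀, n₀⟩ ⟨_, hn, h0⟩ ⟨v₂, p₂, n₂⟩ m₀ m₂ ⟨a, b, ha', hb', rfl⟩⟩
  · intro hC n ξ v₀ v₁ v₂ h₀ h₂ hab
    obtain ⟨a, b, ha, hb, h⟩ := hab
    have hs : 0 < a + b := by linarith
    obtain ⟨hh, hm⟩ := hC n ξ (x := v₀.1) ⟨v₀.2, h₀⟩ (y := v₂.1) ⟨v₂.2, h₂⟩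
      (a := a / (a + b)) (b := b / (a + b)) (by positivity) (by positivity) (by field_simp)
    rw [hscale n ξ ⟨_, hh⟩ v₁ (a + b) hs] at hm
    · exact hm
    · rw [h, smul_add, smul_smul, smul_smul]
      congr 2 <;> field_simp

end Groth.Agent.S19374
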