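import Groth.Statements.S19375
import Groth.Agent.NormalBase.OnePlus

set_option autoImplicit false
universe u
open EGA4

namespace Groth.Agent.S19375

/-- Let A be a Noetherian ring, J a proper ideal of A, Â the J-adic completion of A and A_T the
localization of A at the multiplicative set T = 1 + J (the elements congruent to 1 modulo J). Assume
that the canonical map A → Â is a normal homomorphism (flat, with geometrically normal fibres), as
happens when A is excellent. Then Â is an integrally closed domain if and only if A_T is an
integrally closed domain and the spectrum of A/J is connected. (The published statement asserts the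
equivalence of the first two conditions alone; for A = ℤ and J = 6ℤ the localization A_T is an
integrally closed domain while Â ≅ ℤ_2 × ℤ_3 is not a domain, and the published proof tacitly uses
that Spec Â, whose connected components correspond to those of Spec(A/J), is connected. The case of
the henselization of the pair and of the weak completion is not stated here.) -/
theorem result
    (A : Type u) [CommRing A] [IsNoetherianRing A] (J : Ideal A) (hJ : J ≠ ⊤)
    (hf : EGA4.IsNormalHom A (AdicCompletion J A))
    (T : Submonoid A) (hT : T = MonoidHom.mker (Ideal.Quotient.mk J)) :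
    (IsDomain (AdicCompletion J A) ∧ IsIntegrallyClosed (AdicCompletion J A)) ↔
      ((IsDomain (Localization T) ∧ IsIntegrallyClosed (Localization T)) ∧
        ConnectedSpace (PrimeSpectrum (A ⧸ J))) := by
  subst hT
  have : IsNoetherianRing (AdicCompletion J A) := S0543.result A J
  let A' := Localization (MonoidHom.mker (Ideal.Quotient.mk J))
  have : IsNoetherianRing A' := IsLocalization.isNoetherianRing (MonoidHom.mker (Ideal.Quotient.mk J)) A' inferInstance
  rw [NormalBase.OnePlus.connectedSpace_iff, NormalBase.OnePlus.idempotents_trivial_iff J]
  obtain ⟨alg, hff, hN⟩ := NormalBase.OnePlus.exists_algebra J hf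
  letI := alg
  haveI := hff
  constructor
  · rintro ⟨_, _⟩
    have h1 : EGA4.IsNormalRing A' := (NormalBase.OnePlus.isNormalRing_iff J hf).mpr fun p _ =>
      ⟨inferInstance, isIntegrallyClosed_of_isLocalization _ p.primeCompl p.primeCompl_le_nonZeroDivisors⟩
    have hd : IsDomain A' := (FaithfulSMul.algebraMap_injective A' (AdicCompletion J A)).isDomain _
    refine ⟨⟨hd, ?_⟩, inferInstance, fun e he => ?_⟩
    · refine IsIntegrallyClosed.of_localization_maximal fun p _ _ => ?_
      exact (h1 p).2
    · exact IsIdempotentElem.iff_eq_zero_or_one.mp he
  · rintro ⟨⟨_, _⟩, hnt, hid⟩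
    have h1 : EGA4.IsNormalRing (AdicCompletion J A) := (NormalBase.OnePlus.isNormalRing_iff J hf).mp fun p _ =>
      ⟨inferInstance, isIntegrallyClosed_of_isLocalization _ p.primeCompl p.primeCompl_le_nonZeroDivisors⟩
    have hd := NormalBase.OnePlus.isDomain_of_connected h1 hnt hid
    refine ⟨hd, IsIntegrallyClosed.of_localization_maximal fun p _ _ => ?_⟩
    exact (h1 p).2

end Groth.Agent.S19375
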