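import Groth.Statements.S19379
import Groth.Agent.GRing17.RegularOfSmooth
import Mathlib.RingTheory.Smooth.Basic
import Mathlib.RingTheory.Etale.Basic
-- import your own Groth.Agent.* helpers here

set_option autoImplicit false
universe u
open CAlg

namespace Groth.Agent.S19379

/-- Let A and B be Noetherian rings and let B be an A-algebra which is formally smooth for the discrete
topologies. Then A → B is a regular homomorphism, that is, flat with (Noetherian) geometrically
regular fibres. -/
theorem result
    (A B : Type u) [CommRing A] [CommRing B] [Algebra A B]
    [IsNoetherianRing A] [IsNoetherianRing B] [Algebra.FormallySmooth A B] :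
    CAlg.IsRegularHom A B := by
  refine Groth.Agent.GRing17.isRegularHom_of_forall_adicSmooth fun q _ => ?_
  let Ap := Localization.AtPrime (Ideal.comap (algebraMap A B) q)
  let Bq := Localization.AtPrime q
  let _ : Algebra Ap Bq := (Localization.localRingHom (Ideal.comap (algebraMap A B) q) q (algebraMap A B) rfl).toAlgebra
  have : IsScalarTower A Ap Bq := .of_algebraMap_eq fun a => by
    rw [RingHom.algebraMap_toAlgebra, Localization.localRingHom_to_map, ← IsScalarTower.algebraMap_apply]
  have : Algebra.FormallyEtale B Bq := Algebra.FormallyEtale.of_isLocalization q.primeCompl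
  have : Algebra.FormallySmooth A Bq := Algebra.FormallySmooth.comp A B Bq
  have : Algebra.FormallySmooth Ap Bq :=
    Algebra.FormallySmooth.localization_base (R := A) (Ideal.comap (algebraMap A B) q).primeCompl
  intro E _ _ N hN ψ _
  exact ⟨Algebra.FormallySmooth.lift N ⟨2, hN⟩ ψ, Algebra.FormallySmooth.comp_lift N ⟨2, hN⟩ ψ⟩

end Groth.Agent.S19379
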