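import Groth.Statements.S1938
import Groth.Agent.ConormalSection.Main
import Groth.Agent.GrpdBasic.Invariant

set_option autoImplicit false
universe u
open CategoryTheory CategoryTheory.Limits AlgebraicGeometry
open Grpd

namespace Groth.Agent.S1938

open Groth.Agent.GrpdBasic in
theorem main (S : Scheme.{u}) (G : Grpd.GroupoidScheme S) [QuasiSeparated G.t] :
    Nonempty (Omega.sheaf G.t ≅ (Scheme.Modules.pullback G.s).obj (Omega.conormal G.e)) := by
  have : QuasiCompact (G.e ≫ G.t) := by rw [G.e_t]; infer_instance
  have := QuasiCompact.of_comp G.e G.t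
  have hc : (pullback.fst G.t G.t ≫ G.i) ≫ G.s = pullback.snd G.t G.t ≫ G.t := by
    rw [Category.assoc, G.i_s]; exact pullback.condition
  refine ConormalSection.conormal_baseChange (p := G.t) (π := mul G _ _ hc) (q := pullback.fst G.t G.t)
    (e' := pullback.diagonal G.t) G.e_t ?_ ?_ (pullback.diagonal_fst _)
  · refine IsPullback.of_isLimit' ⟨by rw [mul_t, Category.assoc, G.i_t]⟩ (PullbackCone.IsLimit.mk _
      (fun c => pullback.lift c.snd (mul G c.snd c.fst c.condition.symm) (mul_t G _ _ _).symm)
      (fun c => ?_) (fun c => pullback.lift_fst _ _ _) (fun c m h₁ h₂ => ?_))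
    · rw [comp_mul]
      exact (mul_congr G (pullback.lift_fst_assoc _ _ _ _) (pullback.lift_snd _ _ _) _).trans
        (mul_inv_cancel_left G _ _ _)
    · refine pullback.hom_ext (h₂.trans (pullback.lift_fst _ _ _).symm) ?_
      rw [pullback.lift_snd]
      rw [comp_mul] at h₁
      refine (inv_mul_cancel_left' G (m ≫ pullback.fst _ _) (m ≫ pullback.snd _ _) ?_).symm.trans
        (mul_congr G h₂ ((mul_congr G (Category.assoc _ _ _) rfl _).trans h₁) _)
      simp only [Category.assoc, G.i_s, pullback.condition]
  · rw [comp_mul]
    exact (mul_congr G (pullback.diagonal_fst_assoc _ _) (pullback.diagonal_snd _) _).trans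
      ((mul_congr G (Category.id_comp _).symm rfl _).trans (inv_mul G (𝟙 G.R))) |>.trans
      (Category.id_comp _)

/-- Let (U, R, s, t, c) be a groupoid scheme over S, e : U → R its identity and C_{U/R} the conormal
sheaf of the immersion e. View R as a scheme over U via t. Then there is an epimorphism of
O_R-modules s^*C_{U/R} → Ω_{R/U}, and if s is flat there is an isomorphism s^*C_{U/R} ≅ Ω_{R/U}.
(The published statement has t^*C_{U/R} here; with R over U via t that version is false — for the
pair groupoid of the disjoint union of a point and the affine line over ℚ the two sheaves have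
different supports — and the statement given here has s^*C_{U/R} instead.) Stated for t
quasi-separated, where the shared prelude's Ω_{R/U} (conormal sheaf of the diagonal of t through
Mathlib's kernel ideal sheaf) and conormal sheaf of the section e are the usual ones. (A groupoid
scheme carries U, R, s, t, c, e, i over S with the groupoid axioms on T-points.) -/
theorem result (S : Scheme.{u}) (G : Grpd.GroupoidScheme S) [QuasiSeparated G.t] : (∃ φ : (Scheme.Modules.pullback G.s).obj (Omega.conormal G.e) ⟶ Omega.sheaf G.t, Epi φ) ∧ (Flat G.s → Nonempty ((Scheme.Modules.pullback G.s).obj (Omega.conormal G.e) ≅ Omega.sheaf G.t)) := by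
  obtain ⟨e⟩ := main S G
  exact ⟨⟨e.inv, inferInstance⟩, fun _ => ⟨e.symm⟩⟩

end Groth.Agent.S1938
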