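import Mathlib
import Groth.Statements.S19380
-- import your own Groth.Agent.* helpers here

set_option autoImplicit false
universe u
open CAlg

namespace Groth.Agent.S19380

/-- Let L be a commutative ring, σ a ring automorphism of L of finite order dividing d (σ^d = 1), and C
an r × r matrix over L. The reverse characteristic polynomial det(1 − T·N) of the twisted product N
= C·σ(C)·σ²(C)⋯σ^(d−1)(C), with σ applied to the entries, is fixed by σ acting on coefficients. (In
the source this is phrased for the fibre at a closed point x of degree d of a convergent F-module
with Frobenius matrix C: the d-th iterate of the semilinear Frobenius of the fibre is the linear map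
with matrix N, so its characteristic polynomial has coefficients in the subfield fixed by the
Frobenius of K(x), namely K, and likewise with the valuation ring in place of K for an integral
F-module; only this linear-algebra statement, over any commutative ring, is given here.) -/
theorem result
    (L : Type u) [CommRing L] (σ : L ≃+* L) (d : ℕ) (hσ : σ ^ d = 1)
    (r : ℕ) (C : Matrix (Fin r) (Fin r) L) :
    (Matrix.charpolyRev (((List.range d).map fun i => C.map ⇑(σ ^ i)).prod)).map (σ : L →+* L) =
      Matrix.charpolyRev (((List.range d).map fun i => C.map ⇑(σ ^ i)).prod) := by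
  classical
  have hmap : ∀ (M : Matrix (Fin r) (Fin r) L), (Matrix.charpolyRev M).map (σ : L →+* L) = Matrix.charpolyRev (M.map σ) := by
    intro M
    rw [Matrix.charpolyRev, ← Polynomial.coe_mapRingHom, RingHom.map_det, Matrix.charpolyRev]
    congr 1
    ext i j
    simp [Matrix.one_apply, apply_ite (Polynomial.map (σ : L →+* L))]
  rw [hmap]
  rcases d with _ | d
  · simp [Matrix.map_one]
  set f : ℕ → Matrix (Fin r) (Fin r) L := fun i => C.map ⇑(σ ^ i) with hfdef
  have hf : ∀ i, (f i).map σ = f (i + 1) := fun i => by
    ext a b
    simp only [hfdef, Matrix.map_apply, pow_succ', RingAut.mul_apply]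
  have h1 : (((List.range (d + 1)).map f).prod).map σ = ((List.range (d + 1)).map fun i => f (i + 1)).prod := by
    show (σ : L →+* L).mapMatrix _ = _
    rw [map_list_prod, List.map_map]
    congr 1
    exact List.map_congr_left fun i _ => hf i
  rw [h1]
  have h2 : ((List.range (d + 1)).map fun i => f (i + 1)).prod = ((List.range d).map fun i => f (i + 1)).prod * f 0 := by
    rw [List.range_succ, List.map_append, List.prod_append]
    congr 1
    simp only [List.map_cons, List.map_nil, List.prod_cons, List.prod_nil, mul_one]
    ext a b
    have h3 := RingEquiv.congr_fun hσ (C a b)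
    simp [hfdef, pow_succ] at h3 ⊢
    exact h3
  rw [h2]
  conv_rhs => rw [List.range_succ_eq_map, List.map_cons, List.prod_cons, List.map_map]
  rw [← Matrix.reverse_charpoly, ← Matrix.reverse_charpoly, Matrix.charpoly_mul_comm]
  rfl

end Groth.Agent.S19380
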