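import Groth.Statements.S19383
import Mathlib
-- import your own Groth.Agent.* helpers here

set_option autoImplicit false
universe u
open CAlg

namespace Groth.Agent.S19383

theorem flat_of_no_uniformizer_torsion {V B : Type*} [CommRing V] [IsDomain V] [IsDiscreteValuationRing V]
    [AddCommGroup B] [Module V B] (ϖ : V) (hϖ : Irreducible ϖ) (h : ∀ b : B, ϖ • b = 0 → b = 0) :
    Module.Flat V B := by
  rw [Module.Flat.flat_iff_torsion_eq_bot_of_isBezout, eq_bot_iff]
  rintro b ⟨⟨r, hr⟩, hrb⟩
  obtain ⟨n, u, rfl⟩ := IsDiscreteValuationRing.eq_unit_mul_pow_irreducible (nonZeroDivisors.ne_zero hr) hϖ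
  have hb : ϖ ^ n • b = 0 := by
    have : ((u : V) * ϖ ^ n) • b = 0 := hrb
    rw [mul_smul] at this
    exact (u.isUnit.smul_eq_zero).1 this
  clear hrb hr
  induction n generalizing b with
  | zero => simpa using hb
  | succ n ih =>
    rw [pow_succ, mul_smul] at hb
    exact (Submodule.mem_bot V).2 (h b ((Submodule.mem_bot V).1 (ih hb)))


/-- Over a discrete valuation ring, let V be a henselian discrete valuation ring with maximal ideal 𝔪
and B a Noetherian V-algebra, B̂ its 𝔪B-adic completion. Then B is flat over V if and only if B̂ is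
flat over V. (The published lemma takes V an excellent normal ring with an ideal I such that (V,
V/I) is a henselian pair and B of finite type; in that generality it fails: for V = ℤ_p[[x]], I =
(p) and B = V[y]/(x, py − 1) ≅ ℚ_p one has IB = B, so B̂ = 0 is flat while B is not flat over V.
Over a discrete valuation ring flatness is torsion-freeness and the statement holds for every
Noetherian B.) -/
theorem result
    (V : Type u) [CommRing V] [IsDomain V] [IsDiscreteValuationRing V] [HenselianLocalRing V]
    (B : Type u) [CommRing B] [Algebra V B] [IsNoetherianRing B] :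
    Module.Flat V B ↔
      Module.Flat V (AdicCompletion ((IsLocalRing.maximalIdeal V).map (algebraMap V B)) B) := by
  constructor
  · intro h
    exact Module.Flat.trans V B _
  · intro h
    obtain ⟨ϖ, hϖ⟩ := IsDiscreteValuationRing.exists_irreducible V
    refine flat_of_no_uniformizer_torsion ϖ hϖ fun b hb => ?_
    set I := (IsLocalRing.maximalIdeal V).map (algebraMap V B) with hI
    have h0 : AdicCompletion.of I B b = 0 := by
      have h1 : ϖ • AdicCompletion.of I B b = 0 := by
        rw [← LinearMap.map_smul_of_tower, hb, map_zero]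
      haveI := Module.Flat.isTorsionFree (R := V) (M := AdicCompletion I B)
      exact (smul_eq_zero.1 h1).resolve_left hϖ.ne_zero
    have hmem : b ∈ (⨅ i : ℕ, I ^ i • ⊤ : Submodule B B) := Submodule.mem_iInf _ |>.2 fun i => by
      have := congrArg (fun z : AdicCompletion I B => z.val i) h0
      exact (Submodule.Quotient.mk_eq_zero _).1 (by simpa [AdicCompletion.of_apply] using this)
    obtain ⟨⟨r, hr⟩, hrb⟩ := (Ideal.mem_iInf_smul_pow_eq_bot_iff I b).1 hmem
    rw [hI, hϖ.maximalIdeal_eq, Ideal.map_span, Set.image_singleton, Ideal.mem_span_singleton'] at hr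
    obtain ⟨s, rfl⟩ := hr
    rw [← hrb, smul_eq_mul, mul_assoc, ← Algebra.smul_def, hb, mul_zero]

end Groth.Agent.S19383
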