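import Groth.Statements.S19390
import Mathlib.Data.Fin.Tuple.Sort
import Mathlib.Data.Fintype.EquivFin
import Mathlib.Data.Finset.Sort
import Mathlib.Algebra.Order.BigOperators.Group.Finset
-- import your own Groth.Agent.* helpers here

set_option autoImplicit false
universe u
open GIT

namespace Groth.Agent.S19390

/-- Let e ≥ 1, n = 2e + 1, and let x_1, …, x_n be points such that no point occurs more than e times
among them (the stability condition for n ordered points on a line, n odd). Then there are index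
sequences i_1, …, i_n and j_1, …, j_n in which every index between 1 and n occurs exactly twice in
total, such that x_{i_k} ≠ x_{j_k} for every k and (i_1, i_2, i_3) = (j_3, j_1, j_2). Indices are
written 0, …, n − 1 here. -/
theorem result {α : Type u} [DecidableEq α] (e : ℕ) (he : 1 ≤ e)
    (x : Fin (2 * e + 1) → α)
    (hx : ∀ a : α, (Finset.univ.filter fun k => x k = a).card ≤ e) :
    ∃ i j : Fin (2 * e + 1) → Fin (2 * e + 1),
      (∀ m : Fin (2 * e + 1),
        (Finset.univ.filter fun k => i k = m).card + (Finset.univ.filter fun k => j k = m).card = 2) ∧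
      (∀ k, x (i k) ≠ x (j k)) ∧
      i 0 = j 2 ∧ i 1 = j 0 ∧ i 2 = j 1 := by
  classical
  let cnt : α → ℕ := fun a => (Finset.univ.filter fun k => x k = a).card
  let Img := Finset.univ.image x
  have hsum : ∑ a ∈ Img, cnt a = 2 * e + 1 := by
    simp only [cnt, Img]
    rw [← Finset.card_eq_sum_card_image, Finset.card_univ, Fintype.card_fin]
  have hImg : 3 ≤ Img.card := by
    by_contra h
    have : ∑ a ∈ Img, cnt a ≤ Img.card * e := by
      simpa using Finset.sum_le_card_nsmul Img cnt e fun a _ => hx a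
    have h2 : Img.card * e ≤ 2 * e := Nat.mul_le_mul_right e (by omega)
    omega
  let F := Img.filter fun a => cnt a = e
  have hF : F.card ≤ 3 := by
    by_contra h
    have h1 : ∑ a ∈ F, cnt a = F.card * e := by
      rw [Finset.sum_congr rfl (fun a ha => (Finset.mem_filter.1 ha).2), Finset.sum_const, smul_eq_mul]
    have h2 : ∑ a ∈ F, cnt a ≤ ∑ a ∈ Img, cnt a :=
      Finset.sum_le_sum_of_subset (Finset.filter_subset _ _)
    have h3 : 4 * e ≤ F.card * e := Nat.mul_le_mul_right e (by omega)
    omega
  obtain ⟨T, hFT, hTI, hT⟩ := Finset.exists_subsuperset_card_eq (Finset.filter_subset _ _ : F ⊆ Img) hF hImg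
  obtain ⟨u, v, w, huv, huw, hvw, hTeq⟩ := Finset.card_eq_three.1 hT
  obtain ⟨a, -, ha⟩ := Finset.mem_image.1 (hTI (by simp [hTeq] : u ∈ T))
  obtain ⟨b, -, hb⟩ := Finset.mem_image.1 (hTI (by simp [hTeq] : v ∈ T))
  obtain ⟨c, -, hc⟩ := Finset.mem_image.1 (hTI (by simp [hTeq] : w ∈ T))
  have hab : a ≠ b := fun h => huv (by rw [← ha, ← hb, h])
  have hac : a ≠ c := fun h => huw (by rw [← ha, ← hc, h])
  have hbc : b ≠ c := fun h => hvw (by rw [← hb, ← hc, h])
  let h := e - 1
  let s : Finset (Fin (2 * e + 1)) := Finset.univ \ {a, b, c}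
  have hs : s.card = 2 * h := by
    have h3 : ({a, b, c} : Finset (Fin (2 * e + 1))).card = 3 := by simp [hab, hac, hbc]
    rw [Finset.card_univ_sdiff, h3, Fintype.card_fin]
    omega
  let g := s.orderEmbOfFin hs
  let rk : Fin (2 * h) → ℕ := fun t =>
    (Img.equivFin ⟨x (g t), Finset.mem_image_of_mem _ (Finset.mem_univ _)⟩ : ℕ)
  let L : Fin (2 * h) → Fin (2 * e + 1) := fun t => g (Tuple.sort rk t)
  have hLinj : Function.Injective L := g.injective.comp (Tuple.sort rk).injective
  have hLmem : ∀ t, L t ∈ s := fun t => Finset.orderEmbOfFin_mem _ _ _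
  have hLne : ∀ t, L t ≠ a ∧ L t ≠ b ∧ L t ≠ c := fun t => by
    have := hLmem t
    simp only [s, Finset.mem_sdiff, Finset.mem_univ, true_and, Finset.mem_insert,
      Finset.mem_singleton, not_or] at this
    exact this
  -- elements at distance `h` in the sorted order have different values
  have hdiff : ∀ t t' : Fin (2 * h), (t : ℕ) + h = t' → x (L t) ≠ x (L t') := by
    intro t t' htt heq
    have hmono := Tuple.monotone_sort rk
    have hall : ∀ m ∈ Finset.Icc t t', x (L m) = x (L t) := by
      intro m hm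
      rw [Finset.mem_Icc] at hm
      have e1 : rk (Tuple.sort rk t) = rk (Tuple.sort rk t') := by
        have : (⟨x (g (Tuple.sort rk t)), Finset.mem_image_of_mem _ (Finset.mem_univ _)⟩ : Img) =
            ⟨x (g (Tuple.sort rk t')), Finset.mem_image_of_mem _ (Finset.mem_univ _)⟩ := Subtype.ext heq
        simp only [rk, this]
      have e2 : rk (Tuple.sort rk m) = rk (Tuple.sort rk t) :=
        le_antisymm ((hmono hm.2).trans e1.ge) (hmono hm.1)
      exact congrArg Subtype.val (Img.equivFin.injective (Fin.ext e2))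
    have hsub : (Finset.Icc t t').image L ⊆
        (Finset.univ.filter fun k => x k = x (L t)) \ {a, b, c} := by
      intro k hk
      obtain ⟨m, hm, rfl⟩ := Finset.mem_image.1 hk
      simp only [Finset.mem_sdiff, Finset.mem_filter, Finset.mem_univ, true_and]
      exact ⟨hall m hm, by simp [(hLne m).1, (hLne m).2.1, (hLne m).2.2]⟩
    have hcard := Finset.card_le_card hsub
    rw [Finset.card_image_of_injective _ hLinj, Fin.card_Icc] at hcard
    by_cases hfull : cnt (x (L t)) = e
    · have hmemT : x (L t) ∈ T :=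
        hFT (Finset.mem_filter.2 ⟨Finset.mem_image_of_mem _ (Finset.mem_univ _), hfull⟩)
      have hlt : ((Finset.univ.filter fun k => x k = x (L t)) \ {a, b, c}).card <
          (Finset.univ.filter fun k => x k = x (L t)).card := by
        refine Finset.card_lt_card ((Finset.ssubset_iff_of_subset (Finset.sdiff_subset)).2 ?_)
        rw [hTeq] at hmemT
        simp only [Finset.mem_insert, Finset.mem_singleton] at hmemT
        rcases hmemT with hm | hm | hm
        · exact ⟨a, by simp [hm, ha], by simp⟩
        · exact ⟨b, by simp [hm, hb], by simp⟩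
        · exact ⟨c, by simp [hm, hc], by simp⟩
      change _ = e at hfull
      simp only [cnt] at hfull
      omega
    · have hle := hx (x (L t))
      have hle' := Finset.card_le_card (Finset.sdiff_subset (s := Finset.univ.filter fun k => x k = x (L t))
        (t := ({a, b, c} : Finset (Fin (2 * e + 1)))))
      simp only [cnt] at hfull
      omega
  let P : Fin (2 * e + 1) → Fin (2 * e + 1) := fun k =>
    if (k : ℕ) = 0 then a else if (k : ℕ) = 1 then b else if hk : (k : ℕ) = 2 then c
    else if hk' : (k : ℕ) - 3 < 2 * h then L ⟨(k : ℕ) - 3, hk'⟩ else a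
  have hPL : ∀ k : Fin (2 * e + 1), 3 ≤ (k : ℕ) → ∃ hk : (k : ℕ) - 3 < 2 * h,
      P k = L ⟨(k : ℕ) - 3, hk⟩ := fun k hk => by
    have h' : (k : ℕ) - 3 < 2 * h := by have := k.2; omega
    refine ⟨h', ?_⟩
    simp only [P]
    rw [if_neg (by omega), if_neg (by omega), dif_neg (by omega), dif_pos h']
  have hcases : ∀ k : Fin (2 * e + 1), ((k : ℕ) = 0 ∧ P k = a) ∨ ((k : ℕ) = 1 ∧ P k = b) ∨
      ((k : ℕ) = 2 ∧ P k = c) ∨ 3 ≤ (k : ℕ) := fun k => by
    rcases (show (k : ℕ) = 0 ∨ (k : ℕ) = 1 ∨ (k : ℕ) = 2 ∨ 3 ≤ (k : ℕ) by omega) with h' | h' | h' | h'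
    · exact Or.inl ⟨h', by simp only [P]; rw [if_pos h']⟩
    · exact Or.inr (Or.inl ⟨h', by simp only [P]; rw [if_neg (by omega), if_pos h']⟩)
    · exact Or.inr (Or.inr (Or.inl ⟨h', by simp only [P]; rw [if_neg (by omega), if_neg (by omega), dif_pos h']⟩))
    · exact Or.inr (Or.inr (Or.inr h'))
  have hPinj : Function.Injective P := by
    intro k l hkl
    apply Fin.ext
    rcases hcases k with ⟨h1, e1⟩ | ⟨h1, e1⟩ | ⟨h1, e1⟩ | h1 <;>
      rcases hcases l with ⟨h2, e2⟩ | ⟨h2, e2⟩ | ⟨h2, e2⟩ | h2 <;>
      first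
      | omega
      | (rw [e1, e2] at hkl; exact absurd hkl (by first | assumption | exact Ne.symm (by assumption)))
      | (obtain ⟨hl', e2'⟩ := hPL l h2; rw [e1, e2'] at hkl
         first
         | exact absurd hkl.symm (hLne _).1
         | exact absurd hkl.symm (hLne _).2.1
         | exact absurd hkl.symm (hLne _).2.2)
      | (obtain ⟨hk', e1'⟩ := hPL k h1; rw [e1', e2] at hkl
         first
         | exact absurd hkl (hLne _).1
         | exact absurd hkl (hLne _).2.1
         | exact absurd hkl (hLne _).2.2)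
      | (obtain ⟨hk', e1'⟩ := hPL k h1; obtain ⟨hl', e2'⟩ := hPL l h2; rw [e1', e2'] at hkl
         have := congrArg Fin.val (hLinj hkl)
         simp only at this
         omega)
  let tn : ℕ → ℕ := fun k =>
    if k < 3 then (if k = 2 then 0 else k + 1) else if k < 3 + h then k + h else k - h
  have htn : ∀ k : Fin (2 * e + 1), tn k < 2 * e + 1 := fun k => by
    have := k.2
    simp only [tn]
    split_ifs <;> omega
  let τ : Fin (2 * e + 1) → Fin (2 * e + 1) := fun k => ⟨tn k, htn k⟩
  have hτinj : Function.Injective τ := fun k l hkl => by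
    have hh := congrArg Fin.val hkl
    simp only [τ, tn] at hh
    apply Fin.ext
    have := k.2
    have := l.2
    split_ifs at hh <;> omega
  have hne : ∀ k, x (P k) ≠ x (P (τ k)) := by
    intro k
    rcases hcases k with ⟨h1, e1⟩ | ⟨h1, e1⟩ | ⟨h1, e1⟩ | h1
    · rw [e1, show P (τ k) = b by
        simp only [P, τ, tn, h1]; simp, ha, hb]; exact huv
    · rw [e1, show P (τ k) = c by
        simp only [P, τ, tn, h1]; simp, hb, hc]; exact hvw
    · rw [e1, show P (τ k) = a by
        simp only [P, τ, tn, h1]; simp, hc, ha]; exact huw.symm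
    · obtain ⟨hk', e1'⟩ := hPL k h1
      have hτ3 : 3 ≤ (τ k : ℕ) := by
        simp only [τ, tn]
        split_ifs <;> omega
      obtain ⟨hl', e2'⟩ := hPL (τ k) hτ3
      rw [e1', e2']
      have := k.2
      rcases Nat.lt_or_ge (k : ℕ) (3 + h) with hlt | hge
      · refine hdiff _ _ ?_
        simp only [τ, tn]
        split_ifs <;> omega
      · refine (hdiff _ _ ?_).symm
        simp only [τ, tn]
        split_ifs <;> omega
  refine ⟨P, P ∘ τ, fun m => ?_, hne, ?_, ?_, ?_⟩
  · have one : ∀ (Q : Fin (2 * e + 1) → Fin (2 * e + 1)), Function.Injective Q →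
        (Finset.univ.filter fun k => Q k = m).card = 1 := by
      intro Q hQ
      obtain ⟨k, hk⟩ := (Finite.injective_iff_surjective.1 hQ) m
      rw [Finset.card_eq_one]
      refine ⟨k, Finset.ext fun l => ?_⟩
      simp only [Finset.mem_filter, Finset.mem_univ, true_and, Finset.mem_singleton]
      exact ⟨fun hl => hQ (hl.trans hk.symm), fun hl => hl ▸ hk⟩
    rw [one P hPinj, one (P ∘ τ) (hPinj.comp hτinj)]
  all_goals
    simp only [Function.comp_apply]
    refine congrArg P (Fin.ext ?_)
    simp only [τ, tn, Fin.val_zero, show ((1 : Fin (2 * e + 1)) : ℕ) = 1 from by rw [Fin.val_one']; exact Nat.mod_eq_of_lt (by omega),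
      show ((2 : Fin (2 * e + 1)) : ℕ) = 2 from by rw [Fin.coe_ofNat_eq_mod]; exact Nat.mod_eq_of_lt (by omega),
      show (1 : ℕ) % (2 * e + 1) = 1 from Nat.mod_eq_of_lt (by omega),
      show (2 : ℕ) % (2 * e + 1) = 2 from Nat.mod_eq_of_lt (by omega)]
    simp

end Groth.Agent.S19390
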