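import Groth.Statements.S19392
import Mathlib


set_option autoImplicit false
universe u
open InvQ

namespace Groth.Agent.S19392

theorem rootPoly_eq {k : Type u} [CommRing k] (la mu : Fin 4 → k) :
    W4c6intromoduli.rootPoly la mu =
      Polynomial.C (mu 0 * mu 1 * mu 2 * mu 3)
      + Polynomial.C (-(la 0 * mu 1 * mu 2 * mu 3 + mu 0 * la 1 * mu 2 * mu 3 + mu 0 * mu 1 * la 2 * mu 3 + mu 0 * mu 1 * mu 2 * la 3)) * Polynomial.X
      + Polynomial.C (la 0 * la 1 * mu 2 * mu 3 + la 0 * mu 1 * la 2 * mu 3 + la 0 * mu 1 * mu 2 * la 3 + mu 0 * la 1 * la 2 * mu 3 + mu 0 * la 1 * mu 2 * la 3 + mu 0 * mu 1 * la 2 * la 3) * Polynomial.X ^ 2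
      + Polynomial.C (-(la 0 * la 1 * la 2 * mu 3 + la 0 * la 1 * mu 2 * la 3 + la 0 * mu 1 * la 2 * la 3 + mu 0 * la 1 * la 2 * la 3)) * Polynomial.X ^ 3
      + Polynomial.C (la 0 * la 1 * la 2 * la 3) * Polynomial.X ^ 4 := by
  rw [W4c6intromoduli.rootPoly, Fin.prod_univ_four]
  simp only [map_add, map_mul, map_neg]
  ring

theorem inv_eq {k : Type u} [CommRing k] (la mu : Fin 4 → k) :
    2 * W4c6intromoduli.invI (W4c6intromoduli.coef la mu) =
        ((la 0 * mu 1 - la 1 * mu 0) * (la 2 * mu 3 - la 3 * mu 2)) ^ 2 +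
        ((la 0 * mu 2 - la 2 * mu 0) * (la 3 * mu 1 - la 1 * mu 3)) ^ 2 +
        ((la 0 * mu 3 - la 3 * mu 0) * (la 1 * mu 2 - la 2 * mu 1)) ^ 2 ∧
      W4c6intromoduli.invJ (W4c6intromoduli.coef la mu) =
        ((la 0 * mu 1 - la 1 * mu 0) * (la 2 * mu 3 - la 3 * mu 2) - (la 0 * mu 2 - la 2 * mu 0) * (la 3 * mu 1 - la 1 * mu 3)) *
        ((la 0 * mu 2 - la 2 * mu 0) * (la 3 * mu 1 - la 1 * mu 3) - (la 0 * mu 3 - la 3 * mu 0) * (la 1 * mu 2 - la 2 * mu 1)) *
        ((la 0 * mu 3 - la 3 * mu 0) * (la 1 * mu 2 - la 2 * mu 1) - (la 0 * mu 1 - la 1 * mu 0) * (la 2 * mu 3 - la 3 * mu 2)) := by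
  simp only [W4c6intromoduli.invI, W4c6intromoduli.invJ, W4c6intromoduli.coef, rootPoly_eq,
    Polynomial.coeff_add, Polynomial.coeff_C_mul, Polynomial.coeff_X_pow, Polynomial.coeff_X, Polynomial.coeff_C]
  norm_num
  constructor <;> ring

/-- Proportional pairs. -/
def Prop' {k : Type u} [Field k] (la mu : Fin 4 → k) (i j : Fin 4) : Prop := la i * mu j = la j * mu i

theorem prop_trans {k : Type u} [Field k] {la mu : Fin 4 → k} (hne : ∀ i, la i ≠ 0 ∨ mu i ≠ 0) {i j l : Fin 4}
    (h1 : la i * mu j = la j * mu i) (h2 : la j * mu l = la l * mu j) : la i * mu l = la l * mu i := by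
  rcases hne j with h | h
  · refine mul_left_cancel₀ h ?_
    linear_combination la i * h2 + la l * h1
  · refine mul_left_cancel₀ h ?_
    linear_combination mu l * h1 + mu i * h2

theorem triple_of {k : Type u} [Field k] {la mu : Fin 4 → k}
    (h1 : (la 0 * mu 1 = la 1 * mu 0) ∨ (la 2 * mu 3 = la 3 * mu 2))
    (h2 : (la 0 * mu 2 = la 2 * mu 0) ∨ (la 3 * mu 1 = la 1 * mu 3))
    (h3 : (la 0 * mu 3 = la 3 * mu 0) ∨ (la 1 * mu 2 = la 2 * mu 1)) :
    ∃ i j l : Fin 4, i ≠ j ∧ j ≠ l ∧ i ≠ l ∧ la i * mu j = la j * mu i ∧ la j * mu l = la l * mu j := by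
  rcases h1 with a | a
  · rcases h2 with b | b
    · exact ⟨1, 0, 2, by decide, by decide, by decide, a.symm, b⟩
    · exact ⟨0, 1, 3, by decide, by decide, by decide, a, b.symm⟩
  · rcases h2 with b | b
    · exact ⟨0, 2, 3, by decide, by decide, by decide, b, a⟩
    · exact ⟨2, 3, 1, by decide, by decide, by decide, a, b⟩

theorem compl_unique : ∀ i j l p : Fin 4, i ≠ j → j ≠ l → i ≠ l → ¬(p = i ∨ p = j ∨ p = l) →
    ∀ q : Fin 4, p ≠ q → (q = i ∨ q = j ∨ q = l) := by decide

theorem zeros_of_triple {k : Type u} [Field k] {la mu : Fin 4 → k} (hne : ∀ i, la i ≠ 0 ∨ mu i ≠ 0) {i j l : Fin 4}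
    (hij : i ≠ j) (hjl : j ≠ l) (hil : i ≠ l) (a : la i * mu j = la j * mu i) (b : la j * mu l = la l * mu j)
    (x y z w : Fin 4) (hx : x ≠ y) (hz : z ≠ w) (hxz : x ≠ z) (hxw : x ≠ w) (hyz : y ≠ z) (hyw : y ≠ w) :
    (la x * mu y - la y * mu x) * (la z * mu w - la w * mu z) = 0 := by
  have c := prop_trans hne a b
  have key : ∀ p q : Fin 4, (p = i ∨ p = j ∨ p = l) → (q = i ∨ q = j ∨ q = l) → la p * mu q - la q * mu p = 0 := by
    rintro p q (rfl | rfl | rfl) (rfl | rfl | rfl) <;>
      first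
      | ring1
      | linear_combination a
      | linear_combination -a
      | linear_combination b
      | linear_combination -b
      | linear_combination c
      | linear_combination -c
  by_cases hxy : (x = i ∨ x = j ∨ x = l) ∧ (y = i ∨ y = j ∨ y = l)
  · rw [key x y hxy.1 hxy.2, zero_mul]
  · have hzw : (z = i ∨ z = j ∨ z = l) ∧ (w = i ∨ w = j ∨ w = l) := by
      by_cases hx' : x = i ∨ x = j ∨ x = l
      · have hy : ¬(y = i ∨ y = j ∨ y = l) := fun h => hxy ⟨hx', h⟩
        exact ⟨compl_unique i j l y hij hjl hil hy z hyz, compl_unique i j l y hij hjl hil hy w hyw⟩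
      · exact ⟨compl_unique i j l x hij hjl hil hx' z hxz, compl_unique i j l x hij hjl hil hx' w hxw⟩
    rw [key z w hzw.1 hzw.2, mul_zero]



/-- Over a field of characteristic different from 2 and 3, a nonzero binary quartic f has P(f) = Q(f) =
0 for the two basic invariants P, Q if and only if f has a triple zero. Stated for f = ∏_i (μ_i X₀ −
λ_i X₁) given by four root points (λ_i, μ_i) ≠ (0, 0) (over an algebraically closed field every
nonzero quartic form is of this shape), with the integral invariants I = 6P and J = 72Q of the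
coefficients of f; a triple zero means that three of the four root points are pairwise proportional. -/
theorem result (k : Type u) [Field k]
    (h2 : (2 : k) ≠ 0) (h3 : (3 : k) ≠ 0) (la mu : Fin 4 → k) (hne : ∀ i, la i ≠ 0 ∨ mu i ≠ 0) :
    (W4c6intromoduli.invI (W4c6intromoduli.coef la mu) = 0 ∧
        W4c6intromoduli.invJ (W4c6intromoduli.coef la mu) = 0) ↔
      ∃ i j l : Fin 4, i ≠ j ∧ j ≠ l ∧ i ≠ l ∧
        la i * mu j = la j * mu i ∧ la j * mu l = la l * mu j := by
  obtain ⟨hI, hJ⟩ := inv_eq la mu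
  constructor
  · rintro ⟨h, h'⟩
    rw [h, mul_zero] at hI
    rw [h'] at hJ
    generalize ha : (la 0 * mu 1 - la 1 * mu 0) * (la 2 * mu 3 - la 3 * mu 2) = a at hI hJ
    generalize hb : (la 0 * mu 2 - la 2 * mu 0) * (la 3 * mu 1 - la 1 * mu 3) = b at hI hJ
    generalize hc : (la 0 * mu 3 - la 3 * mu 0) * (la 1 * mu 2 - la 2 * mu 1) = c at hI hJ
    have habc : a + b + c = 0 := by rw [← ha, ← hb, ← hc]; ring
    obtain rfl : c = -a - b := by linear_combination habc
    have q : a ^ 2 + a * b + b ^ 2 = 0 := mul_left_cancel₀ h2 (by linear_combination -hI)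
    have h00 : a = 0 ∧ b = 0 := by
      rcases mul_eq_zero.1 hJ.symm with h | h
      · rcases mul_eq_zero.1 h with e | e
        · obtain rfl : a = b := by linear_combination e
          have : a = 0 := by
            have : (3 : k) * a ^ 2 = 0 := by linear_combination q
            simpa [h3] using this
          exact ⟨this, this⟩
        · obtain rfl : a = -2 * b := by linear_combination e
          have : b = 0 := by
            have : (3 : k) * b ^ 2 = 0 := by linear_combination q
            simpa [h3] using this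
          simp [this]
      · obtain rfl : b = -2 * a := by linear_combination -h
        have : a = 0 := by
          have : (3 : k) * a ^ 2 = 0 := by linear_combination q
          simpa [h3] using this
        simp [this]
    refine triple_of ?_ ?_ ?_
    · rw [h00.1, mul_eq_zero, sub_eq_zero, sub_eq_zero] at ha; exact ha
    · rw [h00.2, mul_eq_zero, sub_eq_zero, sub_eq_zero] at hb; exact hb
    · rw [h00.1, h00.2, neg_zero, sub_zero, mul_eq_zero, sub_eq_zero, sub_eq_zero] at hc; exact hc
  · rintro ⟨i, j, l, hij, hjl, hil, a, b⟩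
    have z := zeros_of_triple hne hij hjl hil a b
    rw [z 0 1 2 3 (by decide) (by decide) (by decide) (by decide) (by decide) (by decide),
      z 0 2 3 1 (by decide) (by decide) (by decide) (by decide) (by decide) (by decide),
      z 0 3 1 2 (by decide) (by decide) (by decide) (by decide) (by decide) (by decide)] at hI hJ
    constructor
    · exact mul_left_cancel₀ h2 (by linear_combination hI)
    · linear_combination hJ

end Groth.Agent.S19392
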