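import Groth.Statements.S19393
import Mathlib.Algebra.BigOperators.Fin
import Mathlib.Tactic

set_option autoImplicit false
universe u
open InvQ

namespace Groth.Agent.S19393

open Polynomial W4c6intromoduli

variable {k : Type u} [Field k] (la mu : Fin 4 → k)

/-- Bracket of two root points. -/
def br (i j : Fin 4) : k := la j * mu i - la i * mu j

def qA : k := br la mu 0 1 * br la mu 2 3
def qB : k := br la mu 0 2 * br la mu 3 1
def qC : k := br la mu 0 3 * br la mu 1 2

theorem qsum : qA la mu + qB la mu + qC la mu = 0 := by simp only [qA, qB, qC, br]; ring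

theorem coef_eq : coef la mu 0 = mu 0 * mu 1 * mu 2 * mu 3 ∧
    coef la mu 1 = -(la 0 * mu 1 * mu 2 * mu 3 + mu 0 * la 1 * mu 2 * mu 3 + mu 0 * mu 1 * la 2 * mu 3 +
      mu 0 * mu 1 * mu 2 * la 3) ∧
    coef la mu 2 = la 0 * la 1 * mu 2 * mu 3 + la 0 * mu 1 * la 2 * mu 3 + la 0 * mu 1 * mu 2 * la 3 +
      mu 0 * la 1 * la 2 * mu 3 + mu 0 * la 1 * mu 2 * la 3 + mu 0 * mu 1 * la 2 * la 3 ∧
    coef la mu 3 = -(la 0 * la 1 * la 2 * mu 3 + la 0 * la 1 * mu 2 * la 3 + la 0 * mu 1 * la 2 * la 3 +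
      mu 0 * la 1 * la 2 * la 3) ∧
    coef la mu 4 = la 0 * la 1 * la 2 * la 3 := by
  have h : rootPoly la mu = C (mu 0 * mu 1 * mu 2 * mu 3) +
      C (-(la 0 * mu 1 * mu 2 * mu 3 + mu 0 * la 1 * mu 2 * mu 3 + mu 0 * mu 1 * la 2 * mu 3 +
        mu 0 * mu 1 * mu 2 * la 3)) * X ^ 1 +
      C (la 0 * la 1 * mu 2 * mu 3 + la 0 * mu 1 * la 2 * mu 3 + la 0 * mu 1 * mu 2 * la 3 +
        mu 0 * la 1 * la 2 * mu 3 + mu 0 * la 1 * mu 2 * la 3 + mu 0 * mu 1 * la 2 * la 3) * X ^ 2 +
      C (-(la 0 * la 1 * la 2 * mu 3 + la 0 * la 1 * mu 2 * la 3 + la 0 * mu 1 * la 2 * la 3 +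
        mu 0 * la 1 * la 2 * la 3)) * X ^ 3 +
      C (la 0 * la 1 * la 2 * la 3) * X ^ 4 := by
    simp only [rootPoly, Fin.prod_univ_four, map_mul, map_add, map_neg]
    ring
  simp only [coef, h, coeff_add, coeff_C_mul_X_pow, coeff_C]
  norm_num

theorem invI_eq : invI (coef la mu) = -(qA la mu * qB la mu + qB la mu * qC la mu + qC la mu * qA la mu) := by
  obtain ⟨h0, h1, h2, h3, h4⟩ := coef_eq la mu
  simp only [invI, h0, h1, h2, h3, h4, qA, qB, qC, br]
  ring

theorem invJ_sq : invJ (coef la mu) ^ 2 =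
    4 * invI (coef la mu) ^ 3 - 27 * (qA la mu * qB la mu * qC la mu) ^ 2 := by
  obtain ⟨h0, h1, h2, h3, h4⟩ := coef_eq la mu
  simp only [invI, invJ, h0, h1, h2, h3, h4, qA, qB, qC, br]
  ring

theorem br_ne (hd : disc la mu ≠ 0) {i j : Fin 4} (h : i ≠ j) : br la mu i j ≠ 0 := by
  rw [disc, Finset.prod_ne_zero_iff] at hd
  rcases lt_or_gt_of_ne h with h' | h'
  · intro h0
    refine hd (i, j) (by simp [h']) ?_
    rw [show la (i, j).2 * mu (i, j).1 - la (i, j).1 * mu (i, j).2 = 0 from h0]; ring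
  · intro h0
    refine hd (j, i) (by simp [h']) ?_
    rw [show la (j, i).2 * mu (j, i).1 - la (j, i).1 * mu (j, i).2 = -br la mu i j by simp [br], h0]; ring

theorem subst_binForm (M : Matrix (Fin 2) (Fin 2) k) (la' mu' : Fin 4 → k) (c : Fin 4 → k)
    (hl : ∀ i, la i * M 1 1 - mu i * M 0 1 = c i * la' i)
    (hm : ∀ i, mu i * M 0 0 - la i * M 1 0 = c i * mu' i) :
    subst M (binForm la mu) = MvPolynomial.C (∏ i, c i) * binForm la' mu' := by
  rw [binForm, binForm, map_prod, map_prod, ← Finset.prod_mul_distrib]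
  refine Finset.prod_congr rfl fun i _ => ?_
  simp only [subst, map_sub, map_mul, MvPolynomial.aeval_C, MvPolynomial.aeval_X, Fin.sum_univ_two,
    MvPolynomial.algebraMap_eq]
  have e1 : MvPolynomial.C (σ := Fin 2) (la i) * MvPolynomial.C (M 1 1) - MvPolynomial.C (mu i) * MvPolynomial.C (M 0 1) =
      MvPolynomial.C (c i) * MvPolynomial.C (la' i) := by simp only [← map_mul, ← map_sub, hl]
  have e2 : MvPolynomial.C (σ := Fin 2) (mu i) * MvPolynomial.C (M 0 0) - MvPolynomial.C (la i) * MvPolynomial.C (M 1 0) =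
      MvPolynomial.C (c i) * MvPolynomial.C (mu' i) := by simp only [← map_mul, ← map_sub, hm]
  linear_combination MvPolynomial.X 0 * e2 - MvPolynomial.X 1 * e1

theorem equiv_of_eq {la' mu' : Fin 4 → k} (hb : ∀ i j, i ≠ j → br la mu i j ≠ 0)
    (hb' : ∀ i j, i ≠ j → br la' mu' i j ≠ 0) (h : qB la' mu' * qC la mu = qC la' mu' * qB la mu) :
    ∃ (M : Matrix (Fin 2) (Fin 2) k) (c : k), IsUnit M.det ∧ c ≠ 0 ∧
      binForm la' mu' = MvPolynomial.C c * subst M (binForm la mu) := by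
  let a := br la' mu' 2 1 / br la mu 2 1
  let b := br la' mu' 0 2 / br la mu 0 2
  have ha : a * br la mu 2 1 = br la' mu' 2 1 := div_mul_cancel₀ _ (hb 2 1 (by decide))
  have hb2 : b * br la mu 0 2 = br la' mu' 0 2 := div_mul_cancel₀ _ (hb 0 2 (by decide))
  let c3 := a * br la mu 3 1 * br la' mu' 0 1 / br la' mu' 3 1
  have hc3 : c3 * br la' mu' 3 1 = a * br la mu 3 1 * br la' mu' 0 1 := div_mul_cancel₀ _ (hb' 3 1 (by decide))
  have hc3' : c3 * br la' mu' 0 3 = b * br la mu 0 3 * br la' mu' 0 1 := by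
    apply mul_right_cancel₀ (mul_ne_zero (hb' 3 1 (by decide)) (mul_ne_zero (hb 2 1 (by decide)) (hb 0 2 (by decide))))
    simp only [qB, qC] at h
    have s1 : br la mu 2 1 = -br la mu 1 2 := by simp [br]
    have s2 : br la' mu' 2 1 = -br la' mu' 1 2 := by simp [br]
    linear_combination (br la' mu' 0 3 * br la mu 2 1 * br la mu 0 2) * hc3 +
      (br la mu 3 1 * br la' mu' 0 1 * br la' mu' 0 3 * br la mu 0 2) * ha -
      (br la mu 0 3 * br la' mu' 0 1 * br la' mu' 3 1 * br la mu 2 1) * hb2 +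
      (br la' mu' 0 1) * h +
      (br la' mu' 0 1 * br la' mu' 0 3 * br la mu 3 1 * br la mu 0 2) * s2 -
      (br la' mu' 0 1 * br la' mu' 0 2 * br la' mu' 3 1 * br la mu 0 3) * s1
  let n00 := a * (-mu 1) * la' 0 + b * (mu 0) * la' 1
  let n01 := a * la 1 * la' 0 + b * (-la 0) * la' 1
  let n10 := a * (-mu 1) * mu' 0 + b * (mu 0) * mu' 1
  let n11 := a * la 1 * mu' 0 + b * (-la 0) * mu' 1
  let c : Fin 4 → k := ![a * br la mu 0 1, b * br la mu 0 1, br la' mu' 0 1, c3]
  have hne : br la' mu' 0 1 ≠ 0 := hb' 0 1 (by decide)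
  have hc : ∀ i, c i ≠ 0 := by
    have ha0 : a ≠ 0 := div_ne_zero (hb' 2 1 (by decide)) (hb 2 1 (by decide))
    have hb0 : b ≠ 0 := div_ne_zero (hb' 0 2 (by decide)) (hb 0 2 (by decide))
    have h31 : br la mu 3 1 ≠ 0 := hb 3 1 (by decide)
    intro i
    fin_cases i
    · exact mul_ne_zero ha0 (hb 0 1 (by decide))
    · exact mul_ne_zero hb0 (hb 0 1 (by decide))
    · exact hne
    · exact div_ne_zero (mul_ne_zero (mul_ne_zero ha0 h31) hne) (hb' 3 1 (by decide))
  have key : ∀ i, la i * n00 + mu i * n01 = c i * la' i ∧ la i * n10 + mu i * n11 = c i * mu' i := by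
    intro i
    fin_cases i
    · constructor <;> simp [c, n00, n01, n10, n11, br] <;> ring
    · constructor <;> simp [c, n00, n01, n10, n11, br] <;> ring
    · constructor
      · simp only [c, n00, n01]
        simp only [br] at ha hb2 ⊢
        simp
        linear_combination la' 0 * ha + la' 1 * hb2
      · simp only [c, n10, n11]
        simp only [br] at ha hb2 ⊢
        simp
        linear_combination mu' 0 * ha + mu' 1 * hb2
    · constructor
      · simp only [c, n00, n01]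
        simp only [br] at hc3 hc3' hne ⊢
        simp
        apply mul_left_cancel₀ hne
        linear_combination (-la' 0) * hc3 + (-la' 1) * hc3'
      · simp only [c, n10, n11]
        simp only [br] at hc3 hc3' hne ⊢
        simp
        apply mul_left_cancel₀ hne
        linear_combination (-mu' 0) * hc3 + (-mu' 1) * hc3'
  let M : Matrix (Fin 2) (Fin 2) k := !![n11, -n01; -n10, n00]
  refine ⟨M, (∏ i, c i)⁻¹, ?_, inv_ne_zero (Finset.prod_ne_zero_iff.2 fun i _ => hc i), ?_⟩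
  · rw [isUnit_iff_ne_zero, Matrix.det_fin_two]
    intro h0
    have e : (br la mu 0 1) * (M 0 0 * M 1 1 - M 0 1 * M 1 0) = c 0 * c 1 * br la' mu' 0 1 := by
      simp [M, c, n00, n01, n10, n11, br]; ring
    rw [h0, mul_zero] at e
    exact mul_ne_zero (mul_ne_zero (hc 0) (hc 1)) hne e.symm
  · rw [subst_binForm la mu M la' mu' c (fun i => by
      rw [← (key i).1]; simp [M])
      (fun i => by rw [← (key i).2]; simp [M]; ring), ← mul_assoc, ← map_mul,
      inv_mul_cancel₀ (Finset.prod_ne_zero_iff.2 fun i _ => hc i), map_one, one_mul]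

theorem binForm_perm (σ : Equiv.Perm (Fin 4)) : binForm (la ∘ σ) (mu ∘ σ) = binForm la mu :=
  Equiv.prod_comp σ fun i => MvPolynomial.C (mu i) * MvPolynomial.X 0 - MvPolynomial.C (la i) * MvPolynomial.X 1

theorem equiv_of_perm {la' mu' : Fin 4 → k} (hb : ∀ i j, i ≠ j → br la mu i j ≠ 0)
    (hb' : ∀ i j, i ≠ j → br la' mu' i j ≠ 0) (σ : Equiv.Perm (Fin 4))
    (h : qB la' mu' * qC (la ∘ σ) (mu ∘ σ) = qC la' mu' * qB (la ∘ σ) (mu ∘ σ)) :
    ∃ (M : Matrix (Fin 2) (Fin 2) k) (c : k), IsUnit M.det ∧ c ≠ 0 ∧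
      binForm la' mu' = MvPolynomial.C c * subst M (binForm la mu) := by
  rw [← binForm_perm la mu σ]
  exact equiv_of_eq _ _ (fun i j hij => hb (σ i) (σ j) fun h => hij (σ.injective h)) hb' h


/-- Over a field of characteristic different from 2 and 3, two binary quartics without double zeros
lying in the same fibre of the map to the projective line given by the invariants, i.e. with
proportional (P³, Q²), are equivalent under a linear substitution of the variables up to a nonzero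
constant factor. Stated for split quartics f = ∏_i (μ_i X₀ − λ_i X₁) given by root points (λ_i, μ_i)
≠ (0, 0), with the integral invariants I = 6P, J = 72Q and the discriminant ∏_{i<j} (λ_j μ_i − λ_i
μ_j)²; only the assertion that such a fibre is a single orbit is stated (not its closedness). -/
theorem result (k : Type u) [Field k]
    (h2 : (2 : k) ≠ 0) (h3 : (3 : k) ≠ 0) (la mu la' mu' : Fin 4 → k)
    (hne : ∀ i, la i ≠ 0 ∨ mu i ≠ 0) (hne' : ∀ i, la' i ≠ 0 ∨ mu' i ≠ 0)
    (hd : W4c6intromoduli.disc la mu ≠ 0) (hd' : W4c6intromoduli.disc la' mu' ≠ 0)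
    (h : W4c6intromoduli.invI (W4c6intromoduli.coef la mu) ^ 3
          * W4c6intromoduli.invJ (W4c6intromoduli.coef la' mu') ^ 2 =
        W4c6intromoduli.invI (W4c6intromoduli.coef la' mu') ^ 3
          * W4c6intromoduli.invJ (W4c6intromoduli.coef la mu) ^ 2) :
    ∃ (M : Matrix (Fin 2) (Fin 2) k) (c : k), IsUnit M.det ∧ c ≠ 0 ∧
      W4c6intromoduli.binForm la' mu' =
        MvPolynomial.C c * W4c6intromoduli.subst M (W4c6intromoduli.binForm la mu) := by
  have hb := fun i j (hij : i ≠ j) => br_ne la mu hd hij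
  have hb' := fun i j (hij : i ≠ j) => br_ne la' mu' hd' hij
  set A := qA la mu with hA
  set B := qB la mu with hB
  set Cq := qC la mu with hC
  set A' := qA la' mu' with hA'
  set B' := qB la' mu' with hB'
  set C' := qC la' mu' with hC'
  have hs : A + B + Cq = 0 := qsum la mu
  have hs' : A' + B' + C' = 0 := qsum la' mu'
  have hA0 : A ≠ 0 := mul_ne_zero (hb 0 1 (by decide)) (hb 2 3 (by decide))
  have hB0 : B ≠ 0 := mul_ne_zero (hb 0 2 (by decide)) (hb 3 1 (by decide))
  have hC0 : Cq ≠ 0 := mul_ne_zero (hb 0 3 (by decide)) (hb 1 2 (by decide))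
  have hA0' : A' ≠ 0 := mul_ne_zero (hb' 0 1 (by decide)) (hb' 2 3 (by decide))
  have hB0' : B' ≠ 0 := mul_ne_zero (hb' 0 2 (by decide)) (hb' 3 1 (by decide))
  have hC0' : C' ≠ 0 := mul_ne_zero (hb' 0 3 (by decide)) (hb' 1 2 (by decide))
  have h27 : (27 : k) ≠ 0 := by
    rw [show (27 : k) = 3 * 3 * 3 by norm_num]; exact mul_ne_zero (mul_ne_zero h3 h3) h3
  set p := invI (coef la mu) with hp
  set p' := invI (coef la' mu') with hp'
  set r := A * B * Cq with hr
  set r' := A' * B' * C' with hr'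
  have hr0 : r ≠ 0 := mul_ne_zero (mul_ne_zero hA0 hB0) hC0
  have hr0' : r' ≠ 0 := mul_ne_zero (mul_ne_zero hA0' hB0') hC0'
  rw [invJ_sq, invJ_sq] at h
  have hpr : p ^ 3 * r' ^ 2 = p' ^ 3 * r ^ 2 := by
    apply mul_left_cancel₀ h27
    linear_combination -h
  obtain ⟨t, ht, htp, htr⟩ : ∃ t : k, t ≠ 0 ∧ p' = t ^ 2 * p ∧ r' = t ^ 3 * r := by
    by_cases hp0 : p = 0
    · have hp0' : p' = 0 := by
        rw [hp0, zero_pow (by norm_num), zero_mul] at hpr
        exact eq_zero_of_pow_eq_zero ((mul_eq_zero.1 hpr.symm).resolve_right (pow_ne_zero 2 hr0))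
      refine ⟨A' / A, div_ne_zero hA0' hA0, by rw [hp0', hp0, mul_zero], ?_⟩
      have e1 : A ^ 3 = r := by
        have := invI_eq la mu
        rw [← hp, hp0, ← hA, ← hB, ← hC] at this
        linear_combination -A * this + A ^ 2 * hs
      have e2 : A' ^ 3 = r' := by
        have := invI_eq la' mu'
        rw [← hp', hp0', ← hA', ← hB', ← hC'] at this
        linear_combination -A' * this + A' ^ 2 * hs'
      rw [← e1, ← e2]
      field_simp
    · have hp0' : p' ≠ 0 := fun h0 => by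
        rw [h0, zero_pow (by norm_num), zero_mul] at hpr
        exact hp0 (eq_zero_of_pow_eq_zero ((mul_eq_zero.1 hpr).resolve_right (pow_ne_zero 2 hr0')))
      refine ⟨r' * p / (r * p'), div_ne_zero (mul_ne_zero hr0' hp0) (mul_ne_zero hr0 hp0'), ?_, ?_⟩
      · field_simp; linear_combination -hpr
      · field_simp; linear_combination -hpr
  have hI := invI_eq la mu
  have hI' := invI_eq la' mu'
  rw [← hp, ← hA, ← hB, ← hC] at hI
  rw [← hp', ← hA', ← hB', ← hC'] at hI'
  -- the roots agree up to `t`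
  have hroot : (A' - t * A) * (A' - t * B) * (A' - t * Cq) = 0 := by
    have e : A' ^ 3 = p' * A' + r' := by rw [hI', hr']; linear_combination A' ^ 2 * hs'
    linear_combination e + A' * htp + htr - t * A' ^ 2 * hs + t ^ 2 * A' * hI + t ^ 3 * hr
  have hsum : ∀ u v w : k, u + v + w = 0 → u * v + v * w + w * u = -p → A' = t * u →
      (B' = t * v ∧ C' = t * w) ∨ (B' = t * w ∧ C' = t * v) := by
    intro u v w huvw he hAu
    have h1 : (B' - t * v) * (B' - t * w) = 0 := by
      linear_combination (A' + B') * hs' - hI' + htp + t ^ 2 * he - t * (t * u + B') * huvw -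
        (A' + t * u + B') * hAu
    rcases mul_eq_zero.1 h1 with h1 | h1
    · exact Or.inl ⟨sub_eq_zero.1 h1, by linear_combination hs' - hAu - h1 - t * huvw⟩
    · exact Or.inr ⟨sub_eq_zero.1 h1, by linear_combination hs' - hAu - h1 - t * huvw⟩
  rcases mul_eq_zero.1 hroot with hr1 | hr1
  · rcases mul_eq_zero.1 hr1 with hr1 | hr1
    · obtain ⟨eB, eC⟩ | ⟨eB, eC⟩ := hsum A B Cq (by linear_combination hs) (by linear_combination hI) (sub_eq_zero.1 hr1)
      · refine equiv_of_perm la mu hb hb' (Equiv.refl (Fin 4)) ?_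
        have eb : qB (la ∘ (Equiv.refl (Fin 4))) (mu ∘ (Equiv.refl (Fin 4))) = B := by simp [hA, hB, hC, qA, qB, qC, br, Equiv.swap_apply_def] <;> ring
        have ec : qC (la ∘ (Equiv.refl (Fin 4))) (mu ∘ (Equiv.refl (Fin 4))) = Cq := by simp [hA, hB, hC, qA, qB, qC, br, Equiv.swap_apply_def] <;> ring
        rw [eb, ec, ← hB', ← hC', eB, eC]; ring
      · refine equiv_of_perm la mu hb hb' (Equiv.swap (2 : Fin 4) 3) ?_
        have eb : qB (la ∘ (Equiv.swap (2 : Fin 4) 3)) (mu ∘ (Equiv.swap (2 : Fin 4) 3)) = (-Cq) := by simp [hA, hB, hC, qA, qB, qC, br, Equiv.swap_apply_def] <;> ring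
        have ec : qC (la ∘ (Equiv.swap (2 : Fin 4) 3)) (mu ∘ (Equiv.swap (2 : Fin 4) 3)) = (-B) := by simp [hA, hB, hC, qA, qB, qC, br, Equiv.swap_apply_def] <;> ring
        rw [eb, ec, ← hB', ← hC', eB, eC]; ring
    · obtain ⟨eB, eC⟩ | ⟨eB, eC⟩ := hsum B Cq A (by linear_combination hs) (by linear_combination hI) (sub_eq_zero.1 hr1)
      · refine equiv_of_perm la mu hb hb' ((Equiv.swap (1 : Fin 4) 2).trans (Equiv.swap 1 3)) ?_
        have eb : qB (la ∘ ((Equiv.swap (1 : Fin 4) 2).trans (Equiv.swap 1 3))) (mu ∘ ((Equiv.swap (1 : Fin 4) 2).trans (Equiv.swap 1 3))) = Cq := by simp [hA, hB, hC, qA, qB, qC, br, Equiv.swap_apply_def] <;> ring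
        have ec : qC (la ∘ ((Equiv.swap (1 : Fin 4) 2).trans (Equiv.swap 1 3))) (mu ∘ ((Equiv.swap (1 : Fin 4) 2).trans (Equiv.swap 1 3))) = A := by simp [hA, hB, hC, qA, qB, qC, br, Equiv.swap_apply_def] <;> ring
        rw [eb, ec, ← hB', ← hC', eB, eC]; ring
      · refine equiv_of_perm la mu hb hb' (Equiv.swap (1 : Fin 4) 2) ?_
        have eb : qB (la ∘ (Equiv.swap (1 : Fin 4) 2)) (mu ∘ (Equiv.swap (1 : Fin 4) 2)) = (-A) := by simp [hA, hB, hC, qA, qB, qC, br, Equiv.swap_apply_def] <;> ring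
        have ec : qC (la ∘ (Equiv.swap (1 : Fin 4) 2)) (mu ∘ (Equiv.swap (1 : Fin 4) 2)) = (-Cq) := by simp [hA, hB, hC, qA, qB, qC, br, Equiv.swap_apply_def] <;> ring
        rw [eb, ec, ← hB', ← hC', eB, eC]; ring
  · obtain ⟨eB, eC⟩ | ⟨eB, eC⟩ := hsum Cq A B (by linear_combination hs) (by linear_combination hI) (sub_eq_zero.1 hr1)
    · refine equiv_of_perm la mu hb hb' ((Equiv.swap (1 : Fin 4) 3).trans (Equiv.swap 1 2)) ?_
      have eb : qB (la ∘ ((Equiv.swap (1 : Fin 4) 3).trans (Equiv.swap 1 2))) (mu ∘ ((Equiv.swap (1 : Fin 4) 3).trans (Equiv.swap 1 2))) = A := by simp [hA, hB, hC, qA, qB, qC, br, Equiv.swap_apply_def] <;> ring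
      have ec : qC (la ∘ ((Equiv.swap (1 : Fin 4) 3).trans (Equiv.swap 1 2))) (mu ∘ ((Equiv.swap (1 : Fin 4) 3).trans (Equiv.swap 1 2))) = B := by simp [hA, hB, hC, qA, qB, qC, br, Equiv.swap_apply_def] <;> ring
      rw [eb, ec, ← hB', ← hC', eB, eC]; ring
    · refine equiv_of_perm la mu hb hb' (Equiv.swap (1 : Fin 4) 3) ?_
      have eb : qB (la ∘ (Equiv.swap (1 : Fin 4) 3)) (mu ∘ (Equiv.swap (1 : Fin 4) 3)) = (-B) := by simp [hA, hB, hC, qA, qB, qC, br, Equiv.swap_apply_def] <;> ring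
      have ec : qC (la ∘ (Equiv.swap (1 : Fin 4) 3)) (mu ∘ (Equiv.swap (1 : Fin 4) 3)) = (-A) := by simp [hA, hB, hC, qA, qB, qC, br, Equiv.swap_apply_def] <;> ring
      rw [eb, ec, ← hB', ← hC', eB, eC]; ring

end Groth.Agent.S19393
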