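import Groth.Statements.S19394
import Mathlib
-- import your own Groth.Agent.* helpers here

set_option autoImplicit false
universe u
open InvQ

namespace Groth.Agent.S19394

open Matrix

section
variable {k : Type u} [Field k] [IsAlgClosed k] {n : ℕ}

lemma exists_idem {S N : Matrix (Fin n) (Fin n) k} (hS : Module.End.IsSemisimple (Matrix.toLin' S))
    (hSN : Commute S N) (m : ℕ) (hm : N ^ (m + 1) = 0) :
    ∃ e : Matrix (Fin n) (Fin n) k, e * e = e ∧ Commute S e ∧ e * N = N ∧ N ^ m * e = 0 := by
  obtain ⟨q, hq, hc⟩ := Module.End.isSemisimple_iff.1 hS (LinearMap.ker (Matrix.toLin' (N ^ m))) (by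
    rw [Module.End.mem_invtSubmodule]
    intro x hx
    rw [Submodule.mem_comap, LinearMap.mem_ker, ← Matrix.toLin'_mul_apply,
      ← (hSN.pow_right m).eq, Matrix.toLin'_mul_apply, LinearMap.mem_ker.1 hx, map_zero])
  let E := (LinearMap.ker (Matrix.toLin' (N ^ m))).subtype ∘ₗ Submodule.projectionOnto _ _ hc
  refine ⟨LinearMap.toMatrix' E, ?_, ?_, ?_, ?_⟩ <;> try (apply Matrix.toLin'.injective)
  · rw [Matrix.toLin'_mul, Matrix.toLin'_toMatrix']
    exact LinearMap.ext fun x => by simp [E]
  · rw [Matrix.toLin'_mul, Matrix.toLin'_mul, Matrix.toLin'_toMatrix']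
    refine LinearMap.ext fun x => ?_
    obtain ⟨a, b, rfl⟩ : ∃ (a : LinearMap.ker (Matrix.toLin' (N ^ m))) (b : q), (a : Fin n → k) + b = x := by
      have : x ∈ LinearMap.ker (Matrix.toLin' (N ^ m)) ⊔ q := hc.sup_eq_top ▸ Submodule.mem_top
      obtain ⟨a, ha, b, hb, rfl⟩ := Submodule.mem_sup.1 this
      exact ⟨⟨a, ha⟩, ⟨b, hb⟩, rfl⟩
    have hE : ∀ z, E z = (Submodule.projectionOnto _ _ hc z : Fin n → k) := fun z => rfl
    have ha : (Matrix.toLin' S) a ∈ LinearMap.ker (Matrix.toLin' (N ^ m)) := by
      rw [LinearMap.mem_ker, ← Matrix.toLin'_mul_apply, ← (hSN.pow_right m).eq, Matrix.toLin'_mul_apply,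
        LinearMap.mem_ker.1 a.2, map_zero]
    have h1 : E (Matrix.toLin' S a) = Matrix.toLin' S a := by
      rw [hE]; exact congrArg Subtype.val (Submodule.projectionOnto_apply_left hc ⟨_, ha⟩)
    have h2 : E (a : Fin n → k) = a := by
      rw [hE]; exact congrArg Subtype.val (Submodule.projectionOnto_apply_left hc a)
    have h3 : E (Matrix.toLin' S b) = 0 := by
      rw [hE, Submodule.projectionOnto_apply_eq_zero_iff hc |>.2 (hq b.2)]; rfl
    have h4 : E (b : Fin n → k) = 0 := by
      rw [hE, Submodule.projectionOnto_apply_eq_zero_iff hc |>.2 b.2]; rfl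
    simp only [LinearMap.comp_apply, map_add, h1, h2, h3, h4, map_zero]
  · rw [Matrix.toLin'_mul, Matrix.toLin'_toMatrix']
    refine LinearMap.ext fun x => ?_
    have hx : Matrix.toLin' N x ∈ LinearMap.ker (Matrix.toLin' (N ^ m)) := by
      rw [LinearMap.mem_ker, ← Matrix.toLin'_mul_apply, ← pow_succ, hm, map_zero, LinearMap.zero_apply]
    exact congrArg Subtype.val (Submodule.projectionOnto_apply_left hc ⟨_, hx⟩)
  · rw [Matrix.toLin'_mul, Matrix.toLin'_toMatrix', map_zero]
    exact LinearMap.ext fun x => LinearMap.mem_ker.1 (Submodule.projectionOnto _ _ hc x).2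

theorem core (S : Matrix (Fin n) (Fin n) k) (hS : Module.End.IsSemisimple (Matrix.toLin' S))
    (F : MvPolynomial (Fin n × Fin n) k) : ∀ (m : ℕ) (N : Matrix (Fin n) (Fin n) k),
    N ^ (m + 1) = 0 → Commute S N →
    (∀ A : Matrix (Fin n) (Fin n) k, IsUnit A.det →
      MvPolynomial.eval (fun p => (A * (S + N) * A⁻¹) p.1 p.2) F = 0) →
    MvPolynomial.eval (fun p => S p.1 p.2) F = 0 := by
  intro m
  induction m with
  | zero =>
    intro N hN _ hF
    rw [zero_add, pow_one] at hN
    have := hF 1 (by simp)
    have e : (1 : Matrix (Fin n) (Fin n) k) * (S + N) * (1 : Matrix (Fin n) (Fin n) k)⁻¹ = S := by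
      simp [hN]
    rwa [e] at this
  | succ m ih =>
    intro N hN hSN hF
    obtain ⟨e, hee, hSe, heN, hNe⟩ := exists_idem hS hSN (m + 1) hN
    refine ih (N * e) ?_ (hSN.mul_right hSe) fun A hA => ?_
    · have : ∀ i, (N * e) ^ (i + 1) = N ^ (i + 1) * e := by
        intro i
        induction i with
        | zero => simp
        | succ i hi => rw [pow_succ (N * e), hi, mul_assoc, ← mul_assoc e N e, heN, ← mul_assoc, ← pow_succ]
      rw [this, hNe]
    · let C₀ := A * (S + N * e) * A⁻¹
      let D₀ := A * (N * (1 - e)) * A⁻¹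
      let G : Polynomial k := MvPolynomial.aeval
        (fun p => Polynomial.C (C₀ p.1 p.2) + Polynomial.X * Polynomial.C (D₀ p.1 p.2)) F
      have hG : ∀ t : k, G.eval t = MvPolynomial.eval (fun p => (C₀ + t • D₀) p.1 p.2) F := by
        intro t
        rw [← Polynomial.coe_aeval_eq_eval, MvPolynomial.comp_aeval_apply, ← MvPolynomial.aeval_eq_eval]
        congr 2
        funext p
        rw [map_add, map_mul, Polynomial.aeval_C, Polynomial.aeval_X, Polynomial.aeval_C]
        rfl
      have hne : ∀ t : k, t ≠ 0 → G.eval t = 0 := by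
        intro t ht
        let g := e + t⁻¹ • (1 - e)
        let g' := e + t • (1 - e)
        have h1 : e * (1 - e) = 0 := by rw [mul_sub, mul_one, hee, sub_self]
        have h2 : (1 - e) * e = 0 := by rw [sub_mul, one_mul, hee, sub_self]
        have h3 : (1 - e) * (1 - e) = 1 - e := by rw [sub_mul, one_mul, h1, sub_zero]
        have hgg : g * g' = 1 := by
          simp only [g, g', add_mul, mul_add, smul_mul_assoc, mul_smul_comm, hee, h1, h2, h3, smul_zero,
            add_zero, zero_add, smul_smul, mul_inv_cancel₀ ht, one_smul, add_sub_cancel]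
        have hdet : IsUnit g.det := Matrix.isUnit_det_of_right_inverse hgg
        have hinv : g⁻¹ = g' := Matrix.inv_eq_right_inv hgg
        have hconj : g * (S + N) * g⁻¹ = S + N * e + t • (N * (1 - e)) := by
          have hgS : g * S = S * g := by
            simp only [g, add_mul, mul_add, smul_mul_assoc, mul_smul_comm, sub_mul, one_mul, mul_sub,
              mul_one, hSe.eq]
          have hgN : g * N = N := by
            simp only [g, add_mul, smul_mul_assoc, sub_mul, one_mul, heN, sub_self, smul_zero, add_zero]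
          rw [hinv, mul_add g S N, hgS, hgN, add_mul (S * g) N g', mul_assoc S g g', hgg, mul_one]
          simp only [g', mul_add, mul_smul_comm]
          abel
        have := hF (A * g) (by rw [Matrix.det_mul]; exact hA.mul hdet)
        rw [hG]
        convert this using 3 with p
        rw [Matrix.mul_inv_rev, show A * g * (S + N) * (g⁻¹ * A⁻¹) = A * (g * (S + N) * g⁻¹) * A⁻¹ by
          simp only [mul_assoc], hconj]
        simp only [C₀, D₀, mul_add, add_mul, mul_smul_comm, smul_mul_assoc]
      have hG0 : G = 0 := Polynomial.eq_zero_of_infinite_isRoot _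
        (((Set.finite_singleton (0 : k)).infinite_compl).mono fun t ht => hne t ht)
      have := hG 0
      rw [hG0, Polynomial.eval_zero, zero_smul, add_zero] at this
      exact this.symm

end


/-- Over an algebraically closed field, the semisimple part of a square matrix B lies in the Zariski
closure of the orbit of B under conjugation by the general linear group. The semisimple part is
given as S with B = S + N, S semisimple, N nilpotent and SN = NS; membership in the Zariski closure
is spelled out as: every polynomial in the n² matrix entries vanishing at all conjugates A B A⁻¹ (A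
invertible) vanishes at S. -/
theorem result (k : Type u) [Field k] [IsAlgClosed k] (n : ℕ)
    (B S N : Matrix (Fin n) (Fin n) k) (hS : Module.End.IsSemisimple (Matrix.toLin' S))
    (hN : IsNilpotent N) (hSN : Commute S N) (hB : B = S + N)
    (F : MvPolynomial (Fin n × Fin n) k)
    (hF : ∀ A : Matrix (Fin n) (Fin n) k, IsUnit A.det →
      MvPolynomial.eval (fun p => (A * B * A⁻¹) p.1 p.2) F = 0) :
    MvPolynomial.eval (fun p => S p.1 p.2) F = 0 := by
  obtain ⟨m, hm⟩ := hN
  exact core S hS F m N (by rw [pow_succ, hm, zero_mul]) hSN (hB ▸ hF)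

end Groth.Agent.S19394
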