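import Groth.Statements.S19395
import Mathlib
-- import your own Groth.Agent.* helpers here

set_option autoImplicit false
universe u
open InvQ

namespace Groth.Agent.S19395

section
open Matrix
variable {k : Type u} [Field k]

lemma exists_triangular [IsAlgClosed k] : ∀ (m : ℕ) (B : Matrix (Fin m) (Fin m) k),
    ∃ P Q : Matrix (Fin m) (Fin m) k, P * Q = 1 ∧ Q * P = 1 ∧ ∀ i j, j < i → (Q * B * P) i j = 0
  | 0, B => ⟨1, 1, by simp, by simp, fun i => i.elim0⟩
  | m + 1, B => by
    classical
    obtain ⟨μ, hμ⟩ := Module.End.exists_eigenvalue (Matrix.toLin' B)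
    obtain ⟨v, hv⟩ := hμ.exists_hasEigenvector
    have hBv : B *ᵥ v = μ • v := by rw [← Matrix.toLin'_apply]; exact hv.apply_eq_smul
    obtain ⟨j0, hj0⟩ := Function.ne_iff.mp hv.2
    set P0 : Matrix (Fin (m + 1)) (Fin (m + 1)) k :=
      ((1 : Matrix (Fin (m + 1)) (Fin (m + 1)) k).updateCol j0 v).submatrix id (Equiv.swap 0 j0) with hP0
    have hdet : IsUnit P0.det := by
      rw [hP0, Matrix.det_permute', ← Matrix.cramer_apply, Matrix.cramer_one, isUnit_iff_ne_zero]
      refine mul_ne_zero ?_ (by simpa using hj0)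
      exact ((Units.isUnit (Equiv.Perm.sign (Equiv.swap 0 j0))).map (Int.castRingHom k)).ne_zero
    have hcol : ∀ i, P0 i 0 = v i := fun i => by simp [hP0]
    set C := P0⁻¹ * B * P0 with hC
    have hC0 : ∀ i : Fin m, C i.succ 0 = 0 := by
      intro i
      have h1 : ∀ a, (B * P0) a 0 = μ * P0 a 0 := fun a => by
        rw [Matrix.mul_apply]
        simp only [hcol]
        simpa [Matrix.mulVec, dotProduct] using congr_fun hBv a
      rw [hC, Matrix.mul_assoc, Matrix.mul_apply]
      simp only [h1, mul_left_comm _ μ, ← Finset.mul_sum, ← Matrix.mul_apply]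
      rw [Matrix.nonsing_inv_mul _ hdet, Matrix.one_apply_ne (Fin.succ_ne_zero i), mul_zero]
    obtain ⟨P', Q', hPQ, hQP, htri⟩ := exists_triangular m (C.submatrix Fin.succ Fin.succ)
    let blk : Matrix (Fin m) (Fin m) k → Matrix (Fin (m + 1)) (Fin (m + 1)) k := fun X =>
      Matrix.of fun i j => Fin.cases (Fin.cases 1 (fun _ => 0) j)
        (fun a => Fin.cases 0 (fun b => X a b) j) i
    have hblk : ∀ X Y, blk X * blk Y = blk (X * Y) := by
      intro X Y
      ext i j
      rw [Matrix.mul_apply, Fin.sum_univ_succ]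
      refine Fin.cases ?_ (fun a => ?_) i <;> refine Fin.cases ?_ (fun b => ?_) j <;>
        simp [blk, Matrix.mul_apply]
    have hblk1 : blk 1 = 1 := by
      ext i j
      refine Fin.cases ?_ (fun a => ?_) i <;> refine Fin.cases ?_ (fun b => ?_) j <;>
        simp [blk, Matrix.one_apply, Fin.succ_ne_zero, (Fin.succ_ne_zero _).symm]
    refine ⟨P0 * blk P', blk Q' * P0⁻¹, ?_, ?_, ?_⟩
    · rw [Matrix.mul_assoc, ← Matrix.mul_assoc (blk P'), hblk, hPQ, hblk1, Matrix.one_mul,
        Matrix.mul_nonsing_inv _ hdet]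
    · rw [Matrix.mul_assoc, ← Matrix.mul_assoc P0⁻¹, Matrix.nonsing_inv_mul _ hdet, Matrix.one_mul,
        hblk, hQP, hblk1]
    · intro i j hij
      have e : blk Q' * P0⁻¹ * B * (P0 * blk P') = blk Q' * C * blk P' := by
        simp only [hC, Matrix.mul_assoc]
      rw [e]
      obtain ⟨a, rfl⟩ : ∃ a, Fin.succ a = i :=
        Fin.exists_succ_eq.mpr (fun h => by subst h; exact absurd hij (not_lt.mpr (Fin.zero_le _)))
      rw [Matrix.mul_assoc, Matrix.mul_apply, Fin.sum_univ_succ]
      have z : blk Q' a.succ 0 = 0 := by simp [blk]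
      rw [z, zero_mul, zero_add]
      have hCP : ∀ c : Fin m, (C * blk P') c.succ j =
          Fin.cases 0 (fun b => (C.submatrix Fin.succ Fin.succ * P') c b) j := by
        intro c
        rw [Matrix.mul_apply, Fin.sum_univ_succ]
        refine Fin.cases ?_ (fun b => ?_) j <;> simp [blk, hC0, Matrix.mul_apply]
      simp only [hCP]
      revert hij
      refine Fin.cases ?_ (fun b => ?_) j <;> intro hij
      · simp
      · have := htri a b (Fin.succ_lt_succ_iff.mp hij)
        rw [Matrix.mul_assoc, Matrix.mul_apply] at this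
        simpa [blk] using this

/-- The conjugacy orbit closure contains all conjugates of a diagonal matrix with the same
characteristic polynomial. -/
lemma closure_diag [IsAlgClosed k] {n : ℕ} (B : Matrix (Fin n) (Fin n) k) :
    ∃ d : Fin n → k, (Matrix.diagonal d).charpoly = B.charpoly ∧
      ∀ R : Matrix (Fin n) (Fin n) k, IsUnit R.det → ∀ F : MvPolynomial (Fin n × Fin n) k,
        (∀ A : Matrix (Fin n) (Fin n) k, IsUnit A.det →
          MvPolynomial.eval (fun p => (A * B * A⁻¹) p.1 p.2) F = 0) →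
        MvPolynomial.eval (fun p => (R * Matrix.diagonal d * R⁻¹) p.1 p.2) F = 0 := by
  classical
  obtain ⟨P, Q, hPQ, hQP, htri⟩ := exists_triangular n B
  set T := Q * B * P with hT
  refine ⟨fun i => T i i, ?_, fun R hR F hF => ?_⟩
  · have h1 : T.charpoly = B.charpoly := by
      rw [hT, Matrix.charpoly_mul_comm, ← Matrix.mul_assoc, hPQ, Matrix.one_mul]
    rw [← h1, Matrix.charpoly_diagonal, Matrix.charpoly_of_upperTriangular T (fun i j h => htri i j h)]
  let Tp : Matrix (Fin n) (Fin n) (Polynomial k) :=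
    Matrix.of fun i j => Polynomial.C (T i j) * Polynomial.X ^ ((j : ℕ) - i)
  let Mp := (Polynomial.C : k →+* Polynomial k).mapMatrix R * Tp * (Polynomial.C : k →+* Polynomial k).mapMatrix R⁻¹
  let ψ : Polynomial k := MvPolynomial.eval₂Hom Polynomial.C (fun p => Mp p.1 p.2) F
  have hψ : ∀ t : k, ψ.eval t =
      MvPolynomial.eval (fun p => ((Polynomial.evalRingHom t).mapMatrix Mp) p.1 p.2) F := by
    intro t
    show (Polynomial.evalRingHom t) (MvPolynomial.eval₂Hom Polynomial.C _ F) = _
    rw [MvPolynomial.map_eval₂Hom, show (Polynomial.evalRingHom t).comp Polynomial.C = RingHom.id k from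
      RingHom.ext fun a => by simp]
    rfl
  have hMp : ∀ t : k, (Polynomial.evalRingHom t).mapMatrix Mp =
      R * (Polynomial.evalRingHom t).mapMatrix Tp * R⁻¹ := by
    intro t
    have hc : ∀ X : Matrix (Fin n) (Fin n) k, (Polynomial.evalRingHom t).mapMatrix
        ((Polynomial.C : k →+* Polynomial k).mapMatrix X) = X := fun X => by
      ext i j; simp
    simp only [Mp, map_mul, hc]
  have h0 : ψ = 0 := by
    refine Polynomial.eq_zero_of_infinite_isRoot _ (Set.Infinite.mono ?_ (Set.finite_singleton (0 : k)).infinite_compl)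
    intro t ht
    have ht0 : t ≠ 0 := ht
    let D : Matrix (Fin n) (Fin n) k := Matrix.diagonal fun i => t ^ (i : ℕ)
    let D' : Matrix (Fin n) (Fin n) k := Matrix.diagonal fun i => (t ^ (i : ℕ))⁻¹
    have hDD : D' * D = 1 := by simp [D, D', ht0]
    have hTt : (Polynomial.evalRingHom t).mapMatrix Tp = D' * T * D := by
      ext i j
      simp only [Tp, RingHom.mapMatrix_apply, Matrix.map_apply, Matrix.of_apply, map_mul, map_pow,
        Polynomial.coe_evalRingHom, Polynomial.eval_mul, Polynomial.eval_pow, Polynomial.eval_C, Polynomial.eval_X, D, D',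
        Matrix.mul_diagonal, Matrix.diagonal_mul]
      rcases le_or_gt i j with h | h
      · rw [pow_sub₀ t ht0 (by exact_mod_cast h)]; ring
      · rw [htri i j h]; ring
    have hinv : (R * D' * Q)⁻¹ = P * D * R⁻¹ := by
      refine Matrix.inv_eq_right_inv ?_
      calc R * D' * Q * (P * D * R⁻¹) = R * D' * (Q * P) * D * R⁻¹ := by simp only [Matrix.mul_assoc]
        _ = 1 := by
          rw [hQP, Matrix.mul_one, Matrix.mul_assoc R D' D, hDD, Matrix.mul_one,
            Matrix.mul_nonsing_inv _ hR]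
    have hu : IsUnit (R * D' * Q).det := by
      rw [Matrix.det_mul, Matrix.det_mul]
      refine (hR.mul ?_).mul ?_
      · exact IsUnit.of_mul_eq_one D.det (by rw [← Matrix.det_mul, hDD, Matrix.det_one])
      · exact IsUnit.of_mul_eq_one P.det (by rw [← Matrix.det_mul, hQP, Matrix.det_one])
    have := hF _ hu
    show ψ.eval t = 0
    rw [hψ, hMp, hTt]
    rw [hinv] at this
    simpa only [hT, Matrix.mul_assoc] using this
  have := hψ 0
  rw [h0, Polynomial.eval_zero, hMp] at this
  have hT0 : (Polynomial.evalRingHom (0 : k)).mapMatrix Tp = Matrix.diagonal fun i => T i i := by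
    ext i j
    simp only [Tp, RingHom.mapMatrix_apply, Matrix.map_apply, Matrix.of_apply, map_mul, map_pow,
      Polynomial.coe_evalRingHom, Polynomial.eval_mul, Polynomial.eval_pow, Polynomial.eval_C, Polynomial.eval_X, Matrix.diagonal_apply]
    rcases lt_trichotomy i j with h | rfl | h
    · have hlt : (i : ℕ) < j := h
      rw [if_neg h.ne, zero_pow (by omega), mul_zero]
    · simp
    · rw [if_neg h.ne', htri i j h, zero_mul]
  rw [hT0] at this
  exact this.symm

lemma charpoly_add_nilpotent {n : ℕ} {S N : Matrix (Fin n) (Fin n) k} (hN : IsNilpotent N)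
    (hc : Commute S N) : (S + N).charpoly = S.charpoly := by
  classical
  let K := FractionRing (Polynomial k)
  let ψ : Matrix (Fin n) (Fin n) (Polynomial k) →+* Matrix (Fin n) (Fin n) K :=
    (algebraMap (Polynomial k) K).mapMatrix
  let ι : Matrix (Fin n) (Fin n) k →+* Matrix (Fin n) (Fin n) K :=
    ψ.comp (Polynomial.C : k →+* Polynomial k).mapMatrix
  set M0 := ψ (Matrix.charmatrix S) with hM0
  have h1 : ψ (Matrix.charmatrix (S + N)) = M0 - ι N := by
    simp only [hM0, Matrix.charmatrix, ι, RingHom.comp_apply, map_add, ← map_sub]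
    congr 1
    abel
  have hdet : IsUnit M0.det := by
    rw [hM0]
    show IsUnit ((algebraMap (Polynomial k) K).mapMatrix (Matrix.charmatrix S)).det
    rw [← RingHom.map_det, isUnit_iff_ne_zero,
      map_ne_zero_iff _ (IsFractionRing.injective (Polynomial k) K)]
    exact (Matrix.charpoly_monic S).ne_zero
  have hcom : Commute M0 (ι N) := by
    refine Commute.map ?_ ψ
    rw [Matrix.charmatrix]
    refine Commute.sub_left ?_ (hc.map _)
    exact Matrix.scalar_commute _ (fun r => Commute.all _ _) _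
  have hZ : IsNilpotent (M0⁻¹ * ι N) := by
    have : Commute M0⁻¹ (ι N) := by
      show M0⁻¹ * ι N = ι N * M0⁻¹
      calc M0⁻¹ * ι N = M0⁻¹ * ι N * (M0 * M0⁻¹) := by rw [Matrix.mul_nonsing_inv _ hdet, mul_one]
        _ = M0⁻¹ * (M0 * ι N) * M0⁻¹ := by rw [hcom.eq]; simp only [Matrix.mul_assoc]
        _ = ι N * M0⁻¹ := by rw [← Matrix.mul_assoc M0⁻¹, Matrix.nonsing_inv_mul _ hdet, one_mul]
    exact (this.isNilpotent_mul_left (hN.map ι))
  have hdet1 : (1 - M0⁻¹ * ι N).det = 1 := by
    have h2 : (M0⁻¹ * ι N).charpoly = Polynomial.X ^ n := by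
      simpa [sub_eq_zero] using (Matrix.isNilpotent_charpoly_sub_pow_of_isNilpotent hZ).eq_zero
    have h3 := Matrix.eval_charpoly (M0⁻¹ * ι N) 1
    rw [h2, Polynomial.eval_pow, Polynomial.eval_X, one_pow, map_one] at h3
    exact h3.symm
  apply IsFractionRing.injective (Polynomial k) K
  show algebraMap _ K (Matrix.charmatrix (S + N)).det = algebraMap _ K (Matrix.charmatrix S).det
  rw [RingHom.map_det, RingHom.map_det]
  show (ψ (Matrix.charmatrix (S + N))).det = M0.det
  rw [h1, show M0 - ι N = M0 * (1 - M0⁻¹ * ι N) by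
    rw [Matrix.mul_sub, Matrix.mul_one, ← Matrix.mul_assoc, Matrix.mul_nonsing_inv _ hdet,
      Matrix.one_mul], Matrix.det_mul, hdet1, mul_one]

lemma exists_diag [IsAlgClosed k] {n : ℕ} {S : Matrix (Fin n) (Fin n) k}
    (hS : Module.End.IsSemisimple (Matrix.toLin' S)) :
    ∃ (P Q : Matrix (Fin n) (Fin n) k) (d : Fin n → k), P * Q = 1 ∧ Q * P = 1 ∧
      Q * S * P = Matrix.diagonal d := by
  classical
  set f : Module.End k (Fin n → k) := Matrix.toLin' S with hf
  let T : Set (Fin n → k) := {v | ∃ μ, v ∈ f.eigenspace μ}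
  have hT : Submodule.span k T = ⊤ := by
    rw [eq_top_iff, ← Module.End.iSup_maxGenEigenspace_eq_top f]
    refine iSup_le fun μ => ?_
    rw [(Module.End.isFinitelySemisimple_iff_isSemisimple.mpr hS).maxGenEigenspace_eq_eigenspace μ]
    exact fun v hv => Submodule.subset_span ⟨μ, hv⟩
  let b0 := Module.Basis.ofSpan hT.ge
  haveI := FiniteDimensional.fintypeBasisIndex b0
  have hcard := (Module.finrank_eq_card_basis b0).symm.trans (Module.finrank_fin_fun k)
  let b := b0.reindex (Fintype.equivFinOfCardEq hcard)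
  have hb : ∀ j, ∃ μ : k, f (b j) = μ • b j := by
    intro j
    obtain ⟨μ, hμ⟩ : b j ∈ T := Module.Basis.ofSpan_subset hT.ge ⟨(Fintype.equivFinOfCardEq hcard).symm j, by simp [b, b0]⟩
    exact ⟨μ, Module.End.mem_eigenspace_iff.mp hμ⟩
  choose d hd using hb
  let e := Pi.basisFun k (Fin n)
  refine ⟨e.toMatrix b, b.toMatrix e, d, Module.Basis.toMatrix_mul_toMatrix_flip _ _,
    Module.Basis.toMatrix_mul_toMatrix_flip _ _, ?_⟩
  have := basis_toMatrix_mul_linearMap_toMatrix_mul_basis_toMatrix b e b e f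
  rw [LinearMap.toMatrix_eq_toMatrix', hf, LinearMap.toMatrix'_toLin'] at this
  rw [this]
  ext i j
  rw [LinearMap.toMatrix_apply, ← hf, hd j, map_smul, Module.Basis.repr_self, Finsupp.smul_single,
    Matrix.diagonal_apply, Finsupp.single_apply]
  by_cases h : i = j
  · subst h; simp
  · rw [if_neg h, if_neg (Ne.symm h)]

lemma exists_perm {n : ℕ} {d d' : Fin n → k}
    (h : (Matrix.diagonal d).charpoly = (Matrix.diagonal d').charpoly) :
    ∃ R : Matrix (Fin n) (Fin n) k, IsUnit R.det ∧ R * Matrix.diagonal d * R⁻¹ = Matrix.diagonal d' := by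
  classical
  rw [Matrix.charpoly_diagonal, Matrix.charpoly_diagonal] at h
  have h2 : Finset.univ.val.map d = Finset.univ.val.map d' := by
    rw [← Polynomial.roots_multiset_prod_X_sub_C (Finset.univ.val.map d),
      ← Polynomial.roots_multiset_prod_X_sub_C (Finset.univ.val.map d'), Multiset.map_map,
      Multiset.map_map]
    exact congr_arg Polynomial.roots h
  have h3 : ∀ c, Fintype.card {i // d' i = c} = Fintype.card {i // d i = c} := by
    intro c
    have h4 := congr_arg (Multiset.count c) h2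
    rw [Multiset.count_map, Multiset.count_map] at h4
    simp only [Fintype.card_subtype, Finset.card_def, Finset.filter_val]
    simpa [eq_comm] using h4.symm
  let σ : Equiv.Perm (Fin n) := Equiv.ofFiberEquiv fun c => Fintype.equivOfCardEq (h3 c)
  have hσ : ∀ i, d (σ i) = d' i := Equiv.ofFiberEquiv_map _
  let R : Matrix (Fin n) (Fin n) k := Matrix.of fun i j => if σ i = j then 1 else 0
  let R' : Matrix (Fin n) (Fin n) k := Matrix.of fun i j => if σ j = i then 1 else 0
  have hRR : R * R' = 1 := by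
    ext i j; simp [R, R', Matrix.mul_apply, Matrix.one_apply, eq_comm, σ.injective.eq_iff]
  have hu : IsUnit R.det := IsUnit.of_mul_eq_one R'.det (by rw [← Matrix.det_mul, hRR, Matrix.det_one])
  refine ⟨R, hu, ?_⟩
  rw [Matrix.inv_eq_right_inv hRR]
  ext i j
  simp [R, R', Matrix.mul_apply, Matrix.diagonal_apply]
  rcases eq_or_ne i j with rfl | h
  · simp [hσ]
  · simp [h, σ.injective.ne h, Ne.symm]

lemma charpoly_eq_of_mem_closure {n : ℕ} {B C : Matrix (Fin n) (Fin n) k}
    (h : ∀ F : MvPolynomial (Fin n × Fin n) k, (∀ A : Matrix (Fin n) (Fin n) k, IsUnit A.det →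
        MvPolynomial.eval (fun p => (A * B * A⁻¹) p.1 p.2) F = 0) →
      MvPolynomial.eval (fun p => C p.1 p.2) F = 0) : C.charpoly = B.charpoly := by
  classical
  let Xm := Matrix.mvPolynomialX (Fin n) (Fin n) k
  have hev : ∀ (Y : Matrix (Fin n) (Fin n) k) (i : ℕ),
      MvPolynomial.eval (fun p => Y p.1 p.2) (Xm.charpoly.coeff i) = Y.charpoly.coeff i := by
    intro Y i
    have h1 := Matrix.mvPolynomialX_mapMatrix_eval Y
    rw [RingHom.mapMatrix_apply] at h1
    conv_rhs => rw [← h1, Matrix.charpoly_map, Polynomial.coeff_map]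
  ext i
  have := h (Xm.charpoly.coeff i - MvPolynomial.C (B.charpoly.coeff i)) fun A hA => by
    rw [map_sub, hev, MvPolynomial.eval_C, Matrix.charpoly_mul_comm, ← Matrix.mul_assoc,
      Matrix.nonsing_inv_mul _ hA, Matrix.one_mul, sub_self]
  rwa [map_sub, hev, MvPolynomial.eval_C, sub_eq_zero] at this

end


/-- Over an algebraically closed field, the Zariski closures of the conjugation orbits of two square
matrices B₁, B₂ meet if and only if their semisimple parts lie in one orbit. The semisimple parts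
are given as S_i with B_i = S_i + N_i, S_i semisimple, N_i nilpotent, S_i N_i = N_i S_i; a common
point of the two closures is a matrix C at which every polynomial in the matrix entries vanishing on
the whole orbit of B₁, and every one vanishing on the whole orbit of B₂, vanishes. -/
theorem result (k : Type u) [Field k] [IsAlgClosed k]
    (n : ℕ) (B₁ S₁ N₁ B₂ S₂ N₂ : Matrix (Fin n) (Fin n) k)
    (hS₁ : Module.End.IsSemisimple (Matrix.toLin' S₁)) (hN₁ : IsNilpotent N₁) (hc₁ : Commute S₁ N₁)
    (hB₁ : B₁ = S₁ + N₁)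
    (hS₂ : Module.End.IsSemisimple (Matrix.toLin' S₂)) (hN₂ : IsNilpotent N₂) (hc₂ : Commute S₂ N₂)
    (hB₂ : B₂ = S₂ + N₂) :
    (∃ C : Matrix (Fin n) (Fin n) k,
        (∀ F : MvPolynomial (Fin n × Fin n) k,
          (∀ A : Matrix (Fin n) (Fin n) k, IsUnit A.det →
            MvPolynomial.eval (fun p => (A * B₁ * A⁻¹) p.1 p.2) F = 0) →
          MvPolynomial.eval (fun p => C p.1 p.2) F = 0) ∧
        (∀ F : MvPolynomial (Fin n × Fin n) k,
          (∀ A : Matrix (Fin n) (Fin n) k, IsUnit A.det →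
            MvPolynomial.eval (fun p => (A * B₂ * A⁻¹) p.1 p.2) F = 0) →
          MvPolynomial.eval (fun p => C p.1 p.2) F = 0)) ↔
      ∃ A : Matrix (Fin n) (Fin n) k, IsUnit A.det ∧ A * S₁ * A⁻¹ = S₂ := by
  subst hB₁ hB₂
  constructor
  · rintro ⟨C, hC1, hC2⟩
    have h12 : S₁.charpoly = S₂.charpoly := by
      rw [← charpoly_add_nilpotent hN₁ hc₁, ← charpoly_add_nilpotent hN₂ hc₂,
        ← charpoly_eq_of_mem_closure hC1, ← charpoly_eq_of_mem_closure hC2]
    obtain ⟨P1, Q1, d1, hPQ1, hQP1, hd1⟩ := exists_diag hS₁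
    obtain ⟨P2, Q2, d2, hPQ2, hQP2, hd2⟩ := exists_diag hS₂
    have hdd : (Matrix.diagonal d1).charpoly = (Matrix.diagonal d2).charpoly := by
      rw [← hd1, ← hd2, Matrix.charpoly_mul_comm, ← Matrix.mul_assoc, hPQ1, Matrix.one_mul,
        Matrix.charpoly_mul_comm, ← Matrix.mul_assoc, hPQ2, Matrix.one_mul, h12]
    obtain ⟨R, hR, hRe⟩ := exists_perm hdd
    have hinv : (P2 * R * Q1)⁻¹ = P1 * R⁻¹ * Q2 := by
      refine Matrix.inv_eq_right_inv ?_
      calc P2 * R * Q1 * (P1 * R⁻¹ * Q2) = P2 * R * (Q1 * P1) * R⁻¹ * Q2 := by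
            simp only [Matrix.mul_assoc]
        _ = 1 := by
          rw [hQP1, Matrix.mul_one, Matrix.mul_assoc P2, Matrix.mul_nonsing_inv _ hR, Matrix.mul_one,
            hPQ2]
    refine ⟨P2 * R * Q1, ?_, ?_⟩
    · rw [Matrix.det_mul, Matrix.det_mul]
      refine (IsUnit.mul ?_ hR).mul ?_
      · exact IsUnit.of_mul_eq_one Q2.det (by rw [← Matrix.det_mul, hPQ2, Matrix.det_one])
      · exact IsUnit.of_mul_eq_one P1.det (by rw [← Matrix.det_mul, hQP1, Matrix.det_one])
    · rw [hinv]
      calc P2 * R * Q1 * S₁ * (P1 * R⁻¹ * Q2) = P2 * (R * (Q1 * S₁ * P1) * R⁻¹) * Q2 := by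
            simp only [Matrix.mul_assoc]
        _ = S₂ := by
          rw [hd1, hRe, ← hd2, show P2 * (Q2 * S₂ * P2) * Q2 = (P2 * Q2) * S₂ * (P2 * Q2) by
            simp only [Matrix.mul_assoc], hPQ2, Matrix.one_mul, Matrix.mul_one]
  · rintro ⟨A, hA, hAS⟩
    obtain ⟨d1, hd1, hcl1⟩ := closure_diag (S₁ + N₁)
    obtain ⟨d2, hd2, hcl2⟩ := closure_diag (S₂ + N₂)
    obtain ⟨R, hR, hRe⟩ := exists_perm (d := d1) (d' := d2) (by
      rw [hd1, hd2, charpoly_add_nilpotent hN₁ hc₁, charpoly_add_nilpotent hN₂ hc₂, ← hAS,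
        Matrix.charpoly_mul_comm, ← Matrix.mul_assoc, Matrix.nonsing_inv_mul _ hA, Matrix.one_mul])
    refine ⟨Matrix.diagonal d2, fun F hF => ?_, fun F hF => ?_⟩
    · simpa only [hRe] using hcl1 R hR F hF
    · simpa only [inv_one, Matrix.mul_one, Matrix.one_mul] using hcl2 1 (by simp) F hF

end Groth.Agent.S19395
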