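import Groth.Statements.S19398
import Groth.Agent.ComodBasic.Reductive

set_option autoImplicit false
universe u
open GIT

namespace Groth.Agent.S19398
open Groth.Agent.ComodBasic

/-- For a reductive group G (here: every finite-dimensional representation completely reducible, i.e.
linearly reductive) acting linearly on vector spaces V and V′ of any dimension, with Reynolds
operators E and E′ (the projections onto the invariants along the unique invariant complement),
every G-linear map u : V → V′ satisfies E′ ∘ u = u ∘ E. Stated for comodules over a commutative Hopf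
algebra A whose finite-dimensional comodules are semisimple; a Reynolds operator is a comodule
endomorphism that is idempotent and fixes exactly the invariant vectors (such an operator is the
projection onto the invariants along an invariant complement, which is unique). -/
theorem result (k : Type u) [Field k] (A : Type u) [CommRing A] [HopfAlgebra k A]
    (hG : HopfRep.IsLinearlyReductive k A)
    (V W : Type u) [AddCommGroup V] [Module k V] [HopfRep.Comod k A V]
    [AddCommGroup W] [Module k W] [HopfRep.Comod k A W]
    (E : V →ₗ[k] V) (hE₁ : Hoch.IsComodHom A E) (hE₂ : E ∘ₗ E = E)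
    (hE₃ : ∀ x : V, E x = x ↔ x ∈ HopfRep.fixedPts k A V)
    (E' : W →ₗ[k] W) (hE'₁ : Hoch.IsComodHom A E') (hE'₂ : E' ∘ₗ E' = E')
    (hE'₃ : ∀ y : W, E' y = y ↔ y ∈ HopfRep.fixedPts k A W)
    (u : V →ₗ[k] W) (hu : Hoch.IsComodHom A u) :
    E' ∘ₗ u = u ∘ₗ E := by
  haveI : IsSemisimpleModule (Cv k A) V := isSemisimpleModule_of_finite hG V
  let Ev := toLin E hE₁
  let Ew := toLin E' hE'₁
  let U := toLin u hu
  have h1 : ∀ v, Ev v ∈ HopfRep.fixedPts k A V := fun v => (hE₃ (E v)).1 (LinearMap.congr_fun hE₂ v)
  have h2 : ∀ v, Ew v ∈ HopfRep.fixedPts k A W := fun v => (hE'₃ (E' v)).1 (LinearMap.congr_fun hE'₂ v)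
  have h := eq_of_eq_on_fixed (Ew ∘ₗ U) (U ∘ₗ Ev) (fun v => h2 _) (fun v => map_mem_fixedPts U (h1 v))
    (fun v hv => by
      show E' (u v) = u (E v)
      rw [(hE₃ v).2 hv]
      exact (hE'₃ _).2 (map_mem_fixedPts U hv))
  exact LinearMap.ext fun x => LinearMap.congr_fun h x

end Groth.Agent.S19398
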