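import Groth.Statements.S19401
import Groth.Agent.ComodBasic.StableLocus


set_option autoImplicit false
universe u
open TensorProduct
open GLin

namespace Groth.Agent.S19401
open Groth.Agent HopfRep TensorProduct
open scoped Groth.Agent.ComodBasic

/-- Suppose the field k is algebraically closed and has characteristic zero. Take A to be a finitely
generated commutative Hopf algebra over k (an affine algebraic group G), and take S and R to be
finitely generated commutative k-algebras, each equipped with a multiplicative A-coaction (so G acts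
on Y = Spec S and on X = Spec R). Assume S → R is a finite algebra map respecting the coactions (a
G-morphism X → Y). Given a k-point x of X whose image in Y is y, the orbit of x is closed (meaning
its orbit morphism Spec A → Spec R has closed image) exactly when the orbit of y is closed. (This is
the affine version of the source's result about G-morphisms of varieties.) -/
theorem result (k : Type u) [Field k] [IsAlgClosed k] [CharZero k]
    (A : Type u) [CommRing A] [HopfAlgebra k A] [Algebra.FiniteType k A]
    (S : Type u) [CommRing S] [Algebra k S] [Algebra.FiniteType k S] [HopfRep.Comod k A S] [GLin.IsCoactAlg k A S]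
    (R : Type u) [CommRing R] [Algebra k R] [Algebra.FiniteType k R] [HopfRep.Comod k A R] [GLin.IsCoactAlg k A R]
    [Algebra S R] [IsScalarTower k S R] [Module.Finite S R]
    (hequiv : ∀ s : S, HopfRep.Comod.coact (k := k) (A := A) (algebraMap S R s) =
      Algebra.TensorProduct.map (IsScalarTower.toAlgHom k S R) (AlgHom.id k A) (HopfRep.Comod.coact (k := k) (A := A) s))
    (x : R →ₐ[k] k) :
    GLin.IsClosedOrbit k A x ↔ GLin.IsClosedOrbit k A (x.comp (IsScalarTower.toAlgHom k S R)) := by
  set φ := IsScalarTower.toAlgHom k S R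
  set y := x.comp φ
  have hint : Algebra.IsIntegral S R := Algebra.IsIntegral.of_finite S R
  have horb : ∀ z : R →ₐ[k] k, GLin.orbitHom k A (z.comp φ) = (GLin.orbitHom k A z).comp φ := by
    intro z
    refine AlgHom.ext fun s => ?_
    change Algebra.TensorProduct.lid k A
      (Algebra.TensorProduct.map (z.comp φ) (AlgHom.id k A) (Comod.coact (k := k) (A := A) s)) =
      Algebra.TensorProduct.lid k A
      (Algebra.TensorProduct.map z (AlgHom.id k A) (Comod.coact (k := k) (A := A) (algebraMap S R s)))
    rw [hequiv]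
    generalize Comod.coact (k := k) (A := A) s = w
    induction w using TensorProduct.induction_on with
    | zero => simp
    | add p q hp hq => simp only [map_add, hp, hq]
    | tmul p q => simp [φ]
  constructor
  · intro h
    change IsClosed (Set.range (PrimeSpectrum.comap (GLin.orbitHom k A y).toRingHom))
    rw [show GLin.orbitHom k A y = (GLin.orbitHom k A x).comp φ from horb x]
    have : Set.range (PrimeSpectrum.comap ((GLin.orbitHom k A x).comp φ).toRingHom) =
        PrimeSpectrum.comap (algebraMap S R) '' Set.range (PrimeSpectrum.comap (GLin.orbitHom k A x).toRingHom) := by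
      rw [← Set.range_comp]
      rfl
    rw [this]
    exact PrimeSpectrum.isClosedMap_comap_of_isIntegral (algebraMap S R) hint.1 _ h
  · intro h
    rw [OrbitDim.isClosedOrbit_iff]
    intro z hz
    have hzy : GLin.InOrbitClosure k A y (z.comp φ) := fun s hs => by
      rw [RingHom.mem_ker, horb] at hs
      exact RingHom.mem_ker.2 (RingHom.mem_ker.1 (hz (RingHom.mem_ker.2 hs)))
    have hyz := (OrbitDim.isClosedOrbit_iff y).1 h _ hzy
    have hPy : RingHom.ker (GLin.orbitHom k A (z.comp φ)) = RingHom.ker (GLin.orbitHom k A y) :=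
      le_antisymm (OrbitDim.ker_orbitHom_mono hyz.symm.inOrbitClosure) (OrbitDim.ker_orbitHom_mono hzy)
    have hdim : ∀ w : R →ₐ[k] k, ringKrullDim (R ⧸ RingHom.ker (GLin.orbitHom k A w)) =
        ringKrullDim (S ⧸ RingHom.ker (GLin.orbitHom k A (w.comp φ))) := by
      intro w
      let ψ : S ⧸ RingHom.ker (GLin.orbitHom k A (w.comp φ)) →+* R ⧸ RingHom.ker (GLin.orbitHom k A w) :=
        Ideal.quotientMap _ (algebraMap S R) (fun s hs => by
          rw [RingHom.mem_ker, horb] at hs
          exact hs)
      letI := ψ.toAlgebra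
      haveI : IsScalarTower S (S ⧸ RingHom.ker (GLin.orbitHom k A (w.comp φ)))
          (R ⧸ RingHom.ker (GLin.orbitHom k A w)) := IsScalarTower.of_algebraMap_eq fun s => rfl
      haveI : Algebra.IsIntegral (S ⧸ RingHom.ker (GLin.orbitHom k A (w.comp φ)))
          (R ⧸ RingHom.ker (GLin.orbitHom k A w)) := Algebra.IsIntegral.tower_top S
      refine DimTrdeg.ringKrullDim_eq_of_isIntegral _ _ (Ideal.quotientMap_injective' ?_)
      intro s hs
      rw [RingHom.mem_ker, horb]
      exact hs
    have hPxz := OrbitDim.ker_orbitHom_mono hz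
    have heq : ringKrullDim (R ⧸ RingHom.ker (GLin.orbitHom k A x)) =
        ringKrullDim (R ⧸ RingHom.ker (GLin.orbitHom k A z)) := by
      rw [hdim, hdim, hPy]
    haveI : IsNoetherianRing R := Algebra.FiniteType.isNoetherianRing k R
    haveI : Nontrivial (R ⧸ RingHom.ker (GLin.orbitHom k A z)) :=
      Ideal.Quotient.nontrivial_iff.2 fun htop => by
        have := (ComodBasic.ker_orbitHom_le (A := A) z) (htop ▸ Submodule.mem_top (x := (1 : R)))
        simp at this
    obtain ⟨m, f, hf⟩ := Algebra.FiniteType.iff_quotient_mvPolynomial''.1 ‹Algebra.FiniteType k R›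
    have hbd : ringKrullDim (R ⧸ RingHom.ker (GLin.orbitHom k A z)) ≤ (m : ℕ) := by
      refine ((ringKrullDim_le_of_surjective _ Ideal.Quotient.mk_surjective).trans
        (ringKrullDim_le_of_surjective f.toRingHom hf)).trans (le_of_eq ?_)
      rw [MvPolynomial.ringKrullDim_of_isNoetherianRing, ringKrullDim_eq_zero_of_field]
      simp
    obtain ⟨n, hn⟩ : ∃ n : ℕ, ringKrullDim (R ⧸ RingHom.ker (GLin.orbitHom k A z)) = n := by
      have h0 := ringKrullDim_nonneg_of_nontrivial (R := R ⧸ RingHom.ker (GLin.orbitHom k A z))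
      generalize ringKrullDim (R ⧸ RingHom.ker (GLin.orbitHom k A z)) = d at h0 hbd
      induction d using WithBot.recBotCoe with
      | bot => exact absurd h0 (by simp)
      | coe e =>
        induction e using ENat.recTopCoe with
        | top => exact absurd (WithBot.coe_le_coe.1 hbd) (by simp)
        | coe n => exact ⟨n, rfl⟩
    obtain ⟨l, hl⟩ := (Order.le_krullDim_iff (α := PrimeSpectrum (R ⧸ RingHom.ker (GLin.orbitHom k A z)))
      (n := n)).1 hn.ge
    let l' : LTSeries (PrimeSpectrum R) := l.map (PrimeSpectrum.comap (Ideal.Quotient.mk _))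
      (fun a b h => lt_of_le_of_ne (Ideal.comap_mono h.le) fun h' => h.ne
        (PrimeSpectrum.comap_injective_of_surjective _ Ideal.Quotient.mk_surjective h'))
    let Q : PrimeSpectrum R := l'.head
    have hdQ : (n : ℕ∞) ≤ Order.coheight Q := by
      rw [← hl]
      exact Order.length_le_coheight (p := l') le_rfl
    have hzQ : RingHom.ker (GLin.orbitHom k A z) ≤ Q.asIdeal := fun r hr => by
      change Ideal.Quotient.mk _ r ∈ l.head.asIdeal
      rw [Ideal.Quotient.eq_zero_iff_mem.2 hr]
      exact Submodule.zero_mem _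
    obtain ⟨Q', hQ', hQle⟩ := Ideal.exists_minimalPrimes_le (hPxz.trans hzQ)
    have hQ'p : Q'.IsPrime := hQ'.1.1
    have hco : Order.coheight (⟨Q', hQ'p⟩ : PrimeSpectrum R) ≤ n := by
      have h1 := OrbitDim.coheight_le_ringKrullDim_quotient (⟨Q', hQ'p⟩ : PrimeSpectrum R)
      have h2 : ringKrullDim (R ⧸ Q') ≤ ringKrullDim (R ⧸ RingHom.ker (GLin.orbitHom k A x)) :=
        ringKrullDim_le_of_surjective (Ideal.Quotient.factor hQ'.1.2) (Ideal.Quotient.factor_surjective _)
      rw [heq, hn] at h2
      exact WithBot.coe_le_coe.1 (h1.trans h2)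
    have hQQ : Q' = Q.asIdeal := by
      by_contra hne
      have hlt : (⟨Q', hQ'p⟩ : PrimeSpectrum R) < Q :=
        lt_of_le_of_ne hQle fun h => hne (congrArg PrimeSpectrum.asIdeal h)
      have h := (Order.coheight_add_one_le hlt).trans hco
      have h2 := (add_le_add hdQ le_rfl).trans h
      norm_cast at h2
      omega
    have hQK : Q' ∈ (RingHom.ker (GLin.orbitHom k A z)).minimalPrimes :=
      ⟨⟨hQ'p, hQQ ▸ hzQ⟩, fun J hJ hJQ => hQ'.2 ⟨hJ.1, hPxz.trans hJ.2⟩ hJQ⟩
    rw [RingHom.ker_eq_comap_bot] at hQ' hQK
    obtain ⟨P, hP, hPQ⟩ := Ideal.exists_minimalPrimes_comap_eq _ Q' hQ'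
    obtain ⟨P', hP', hPQ'⟩ := Ideal.exists_minimalPrimes_comap_eq _ Q' hQK
    haveI := hP.1.1
    haveI := hP'.1.1
    exact OrbitDim.sameOrbit_of_comap_eq P P' (hPQ.trans hPQ'.symm)

end Groth.Agent.S19401
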