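import Groth.Statements.S19406
import Groth.Agent.ComodBasic.Stable
import Mathlib.FieldTheory.IntermediateField.Adjoin.Basic
import Mathlib.RingTheory.Jacobson.Ring
import Mathlib.RingTheory.HopfAlgebra.Convolution
import Mathlib.RingTheory.HopfAlgebra.GroupLike


set_option autoImplicit false
universe u
open TensorProduct
open GLin

namespace Groth.Agent.S19406
open Groth.Agent.ComodBasic TensorProduct


open HopfRep CoalgebraStruct WithConv

section Aux

universe a b

variable {k : Type a} [Field k] {A : Type a} [CommRing A] [HopfAlgebra k A]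
variable {R : Type a} [CommRing R] [Algebra k R] [Comod k A R] [GLin.IsCoactAlg k A R]

theorem conv_orbitHom {T : Type b} [CommRing T] [Algebra k T] (u v : A →ₐ[k] T) (x : R →ₐ[k] k) (f : R) :
    (toConv u * toConv v).ofConv (GLin.orbitHom k A x f) =
      Algebra.TensorProduct.lift (u.comp (GLin.orbitHom k A x)) v (fun _ _ => .all _ _)
        (Comod.coact (k := k) (A := A) f) := by
  have hco := LinearMap.congr_fun (isComodHom_orbitHom (A := A) x) f
  simp only [LinearMap.comp_apply] at hco
  change Algebra.TensorProduct.lmul' k (Algebra.TensorProduct.map u v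
    (comul (R := k) (GLin.orbitHom k A x f))) = _
  rw [show comul (R := k) (GLin.orbitHom k A x f) =
      (GLin.orbitHom k A x).toLinearMap.rTensor A (Comod.coact (k := k) (A := A) f) from hco]
  generalize Comod.coact (k := k) (A := A) f = z
  induction z using TensorProduct.induction_on with
  | zero => simp
  | add p q hp hq => simp only [map_add, hp, hq]
  | tmul r c => simp

theorem conv_groupLike {T : Type b} [CommRing T] [Algebra k T] (u v : A →ₐ[k] T) {χ : A}
    (hχ : IsGroupLikeElem k χ) : (toConv u * toConv v).ofConv χ = u χ * v χ := by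
  change Algebra.TensorProduct.lmul' k (Algebra.TensorProduct.map u v (comul (R := k) χ)) = _
  rw [hχ.comul_eq_tmul_self]
  simp

/-- A character trivial on the stabiliser is constant along the fibres of the orbit map. -/
theorem eq_of_comp_orbit_eq {T : Type b} [CommRing T] [Algebra k T] (g h : A →ₐ[k] T) (x : R →ₐ[k] k) {χ : A}
    (hχ : IsGroupLikeElem k χ) (hst : χ - 1 ∈ GLin.stabIdeal k A x)
    (he : g.comp (GLin.orbitHom k A x) = h.comp (GLin.orbitHom k A x)) : g χ = h χ := by
  let w : A →ₐ[k] T := g.comp (HopfAlgebra.antipodeAlgHom k A)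
  have hgw : toConv g * toConv w = 1 := by
    refine WithConv.ext (AlgHom.ext fun c => ?_)
    change Algebra.TensorProduct.lmul' k (Algebra.TensorProduct.map g w (comul (R := k) c)) = _
    have h0 : ∀ z : A ⊗[k] A, Algebra.TensorProduct.lmul' k (Algebra.TensorProduct.map g w z) =
        g (LinearMap.mul' k A ((HopfAlgebra.antipode k).lTensor A z)) := fun z => by
      induction z using TensorProduct.induction_on with
      | zero => simp
      | add p q hp hq => simp only [map_add, hp, hq]
      | tmul p q => simp [w]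
    rw [h0, HopfAlgebra.mul_antipode_lTensor_comul_apply, AlgHom.commutes]
    rfl
  have hker : GLin.stabIdeal k A x ≤ RingHom.ker (toConv h * toConv w).ofConv := by
    refine Ideal.map_le_iff_le_comap.2 fun f hf => ?_
    rw [Ideal.mem_comap, RingHom.mem_ker, conv_orbitHom, ← he, ← conv_orbitHom, hgw]
    rw [RingHom.mem_ker] at hf
    change algebraMap k T (counit (R := k) (GLin.orbitHom k A x f)) = 0
    rw [counit_orbitHom, hf, map_zero]
  have h1 := hker hst
  rw [RingHom.mem_ker, map_sub, map_one, sub_eq_zero, conv_groupLike _ _ hχ] at h1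
  have h2 : g χ * w χ = 1 := by
    rw [← conv_groupLike _ _ hχ, hgw]
    change algebraMap k T (counit (R := k) χ) = 1
    rw [hχ.counit_eq_one, map_one]
  calc g χ = g χ * (h χ * w χ) := by rw [h1, mul_one]
    _ = (g χ * w χ) * h χ := by ring
    _ = h χ := by rw [h2, one_mul]

/-- It is a quotient of two functions on the orbit. -/
theorem exists_denom [IsDomain A] (x : R →ₐ[k] k) {χ : A}
    (hχ : IsGroupLikeElem k χ) (hst : χ - 1 ∈ GLin.stabIdeal k A x) :
    ∃ r : R, GLin.orbitHom k A x r ≠ 0 ∧ GLin.orbitHom k A x r * χ ∈ (GLin.orbitHom k A x).range := by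
  set φ := GLin.orbitHom k A x
  let L := FractionRing A
  let ι : A →ₐ[k] L := IsScalarTower.toAlgHom k A L
  have hinj : Function.Injective ι := IsFractionRing.injective A L
  let K : IntermediateField k L := IntermediateField.adjoin k ((ι.comp φ).range : Set L)
  let g : A →ₐ[k] L ⊗[K] L :=
    ((Algebra.TensorProduct.includeLeft (R := K) (S := K) (A := L) (B := L)).restrictScalars k).comp ι
  let h : A →ₐ[k] L ⊗[K] L :=
    ((Algebra.TensorProduct.includeRight (R := K) (A := L) (B := L)).restrictScalars k).comp ι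
  have he : g.comp φ = h.comp φ := by
    refine AlgHom.ext fun f => ?_
    change (ι (φ f)) ⊗ₜ[K] (1 : L) = (1 : L) ⊗ₜ[K] ι (φ f)
    have hm : ι (φ f) ∈ K := IntermediateField.subset_adjoin k _ ⟨f, rfl⟩
    have hs : (⟨ι (φ f), hm⟩ : K) • (1 : L) = ι (φ f) := by
      rw [Algebra.smul_def, mul_one]; rfl
    rw [← hs, TensorProduct.smul_tmul]
  have hgh : ι χ ⊗ₜ[K] (1 : L) = (1 : L) ⊗ₜ[K] ι χ := eq_of_comp_orbit_eq g h x hχ hst he
  obtain ⟨ℓ, hℓ⟩ := (Algebra.linearMap K L).exists_leftInverse_of_injective
    (LinearMap.ker_eq_bot.2 (algebraMap K L).injective)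
  have hℓ1 : ℓ 1 = 1 := by simpa using LinearMap.congr_fun hℓ 1
  have hm : ι χ ∈ K := by
    have := congrArg (TensorProduct.lift (LinearMap.mk₂ K (fun (a b : L) => ℓ b • a)
      (fun a a' b => smul_add _ _ _) (fun c a b => smul_comm _ _ _)
      (fun a b b' => by rw [map_add, add_smul]) (fun c a b => by rw [map_smul, smul_eq_mul, mul_smul]))) hgh
    simp only [TensorProduct.lift.tmul, LinearMap.mk₂_apply, hℓ1, one_smul] at this
    rw [this, Algebra.smul_def, mul_one]
    exact (ℓ (ι χ)).2
  rw [IntermediateField.mem_adjoin_iff_div] at hm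
  obtain ⟨p, hp, q, hq, hpq⟩ := hm
  rw [Algebra.adjoin_eq] at hp hq
  obtain ⟨s, rfl⟩ := hp
  obtain ⟨r, rfl⟩ := hq
  have hr : φ r ≠ 0 := fun h0 => by
    rw [show (ι.comp φ).toRingHom r = ι (φ r) from rfl, h0, map_zero, div_zero,
      ← map_zero ι] at hpq
    exact hχ.ne_zero (hinj hpq)
  refine ⟨r, hr, s, hinj ?_⟩
  rw [map_mul, hpq]
  change ι (φ s) = ι (φ r) * (ι (φ s) / ι (φ r))
  rw [mul_div_cancel₀]
  exact fun h0 => hr (hinj (h0.trans (map_zero ι).symm))

/-- On a closed orbit it is a function on the orbit. -/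
theorem mem_range_of_closedOrbit [IsAlgClosed k] [IsDomain A] [Algebra.FiniteType k A] (x : R →ₐ[k] k) {χ : A}
    (hχ : IsGroupLikeElem k χ) (hst : χ - 1 ∈ GLin.stabIdeal k A x)
    (hcl : GLin.IsClosedOrbit k A x) [Algebra.FiniteType k R] : χ ∈ (GLin.orbitHom k A x).range := by
  set φ := GLin.orbitHom k A x
  let D : Ideal R :=
    { carrier := {r | φ r * χ ∈ φ.range}
      add_mem' := fun {a b} ha hb => by
        rw [Set.mem_ofPred_eq, map_add, add_mul]; exact add_mem ha hb
      zero_mem' := by rw [Set.mem_ofPred_eq, map_zero, zero_mul]; exact zero_mem _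
      smul_mem' := fun c r hr => by
        rw [Set.mem_ofPred_eq, smul_eq_mul, map_mul, mul_assoc]
        exact mul_mem ⟨c, rfl⟩ hr }
  by_cases htop : D = ⊤
  · have h1 : (1 : R) ∈ D := htop ▸ Submodule.mem_top
    change φ 1 * χ ∈ φ.range at h1
    rwa [map_one, one_mul] at h1
  exfalso
  obtain ⟨m, hm, hDm⟩ := Ideal.exists_le_maximal D htop
  obtain ⟨y, rfl⟩ := exists_point_ker_eq (k := k) m
  have hy : GLin.InOrbitClosure k A x y := fun r hr => hDm (by
    change φ r * χ ∈ φ.range
    rw [RingHom.mem_ker] at hr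
    rw [hr, zero_mul]; exact zero_mem _)
  obtain ⟨g, rfl⟩ := exists_actPt_eq_of_inOrbitClosure hcl hy
  obtain ⟨r, hr, hrD⟩ := exists_denom x hχ hst
  have : IsJacobsonRing A := isJacobsonRing_of_finiteType (A := k)
  apply hr
  have hz : φ r ∈ (⊥ : Ideal A).jacobson := by
    rw [Ideal.jacobson, Submodule.mem_sInf]
    rintro M ⟨-, hM⟩
    have := hM
    obtain ⟨h, rfl⟩ := exists_point_ker_eq (k := k) M
    let a : A →ₐ[k] k := ((toConv g)⁻¹ * toConv h).ofConv
    have hga : toConv g * toConv a = toConv h := mul_inv_cancel_left (toConv g) (toConv h)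
    let τ : A →ₐ[k] A := (toConv (AlgHom.id k A) * toConv ((Algebra.ofId k A).comp a)).ofConv
    have hτ : ∀ f, τ (φ f) = φ (slice a.toLinearMap (Comod.coact (k := k) (A := A) f)) := by
      intro f
      rw [conv_orbitHom]
      generalize Comod.coact (k := k) (A := A) f = z
      induction z using TensorProduct.induction_on with
      | zero => simp
      | add p q hp hq => simp only [map_add, hp, hq]
      | tmul p q => simp [Algebra.smul_def, mul_comm, φ]
    obtain ⟨s, hs⟩ := hrD
    have hτχ : τ χ = χ * algebraMap k A (a χ) := conv_groupLike _ _ hχ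
    have ha : a χ ≠ 0 := (hχ.isUnit.map a).ne_zero
    set r' := slice a.toLinearMap (Comod.coact (k := k) (A := A) r)
    have hmem : r' ∈ D := by
      refine ⟨(a χ)⁻¹ • slice a.toLinearMap (Comod.coact (k := k) (A := A) s), ?_⟩
      change φ _ = φ r' * χ
      rw [map_smul, ← hτ, show φ s = φ r * χ from hs, map_mul, hτ, hτχ, Algebra.smul_def]
      calc algebraMap k A (a χ)⁻¹ * (φ r' * (χ * algebraMap k A (a χ)))
          = φ r' * χ * (algebraMap k A (a χ)⁻¹ * algebraMap k A (a χ)) := by ring
        _ = φ r' * χ := by rw [← map_mul, inv_mul_cancel₀ ha, map_one, mul_one]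
    have := hDm hmem
    rw [RingHom.mem_ker] at this ⊢
    rw [← show (toConv g * toConv a).ofConv = h from congrArg WithConv.ofConv hga, conv_orbitHom]
    refine Eq.trans ?_ this
    simp only [r']
    generalize Comod.coact (k := k) (A := A) r = z
    induction z using TensorProduct.induction_on with
    | zero => simp
    | add p q hp hq => simp only [map_add, hp, hq]
    | tmul p q => simp [GLin.actPt, mul_comm]
  rw [IsJacobsonRing.out inferInstance Ideal.isPrime_bot.isRadical, Ideal.mem_bot] at hz
  exact hz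

/-- An eigenfunction taking the value one at the point. -/
theorem exists_eigen [IsAlgClosed k] [IsDomain A] [Algebra.FiniteType k A] [Algebra.FiniteType k R]
    (hG : IsLinearlyReductive k A) (x : R →ₐ[k] k) {χ : A}
    (hχ : IsGroupLikeElem k χ) (hst : χ - 1 ∈ GLin.stabIdeal k A x)
    (hcl : GLin.IsClosedOrbit k A x) :
    ∃ s : R, Comod.coact (k := k) (A := A) s = s ⊗ₜ[k] χ ∧ x s = 1 := by
  have : IsSemisimpleModule (Cv k A) R := isSemisimpleModule_of_finite hG R
  obtain ⟨r, hr⟩ := mem_range_of_closedOrbit x hχ hst hcl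
  let o : R →ₗ[Cv k A] A := coef x.toLinearMap
  obtain ⟨C, hC⟩ := exists_isCompl (LinearMap.ker o)
  obtain ⟨u, hu, c, hc, huc⟩ := Submodule.mem_sup.1 (hC.sup_eq_top ▸ Submodule.mem_top (x := r))
  have hoc : o c = χ := by
    rw [← hr, ← huc]
    change _ = GLin.orbitHom k A x (u + c)
    rw [orbitHom_eq_coef, map_add, LinearMap.mem_ker.1 hu, zero_add]
  refine ⟨c, eq_of_slice fun ψ => ?_, ?_⟩
  · rw [slice_tmul, ← act_apply]
    change (toConv ψ : Cv k A) • c = _
    refine sub_eq_zero.1 (Submodule.disjoint_def.1 hC.disjoint _ ?_ ?_)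
    · rw [LinearMap.mem_ker, map_sub, map_smul, LinearMap.map_smul_of_tower, hoc]
      rw [smul_def, act_apply]
      change slice ψ (comul (R := k) χ) - _ = 0
      rw [hχ.comul_eq_tmul_self, slice_tmul, sub_self]
    · exact C.sub_mem (C.smul_mem _ hc) ((C.restrictScalars k).smul_mem _ hc)
  · rw [← counit_orbitHom (A := A) x c, orbitHom_eq_coef, hoc, hχ.counit_eq_one]

end Aux


/-- Let k be an algebraically closed field of characteristic zero, A a finitely generated commutative
Hopf algebra over k which is an integral domain and all of whose finite-dimensional comodules are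
semisimple (a connected reductive group G), R a reduced finitely generated commutative k-algebra
with a multiplicative A-coaction (G acting on the affine variety X = Spec R), and χ a group-like
element of A (a character of G). Then there is a set E of G-invariant functions on X such that, for
every k-point x of X whose orbit is closed, χ − 1 lies in the stabilizer ideal of x (χ is trivial on
the stabilizer of x) if and only if some member of E does not vanish at x: the set of points of X//G
over which the closed orbit has stabilizer on which χ is trivial is open. (The published statement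
allows any reductive G; this row assumes G connected, the case the source's argument covers.) -/
theorem result (k : Type u) [Field k] [IsAlgClosed k] [CharZero k]
    (A : Type u) [CommRing A] [IsDomain A] [HopfAlgebra k A] [Algebra.FiniteType k A] (hG : HopfRep.IsLinearlyReductive k A)
    (R : Type u) [CommRing R] [IsReduced R] [Algebra k R] [Algebra.FiniteType k R] [HopfRep.Comod k A R] [GLin.IsCoactAlg k A R]
    (χ : A) (hχ : IsGroupLikeElem k χ) :
    ∃ E : Set R, E ⊆ GLin.invariants k A R ∧
      ∀ x : R →ₐ[k] k, GLin.IsClosedOrbit k A x →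
        (χ - 1 ∈ GLin.stabIdeal k A x ↔ ∃ f ∈ E, x f ≠ 0) := by
  classical
  have hχ' : IsGroupLikeElem k (HopfAlgebra.antipode k χ) := hχ.antipode
  refine ⟨{f | ∃ s t : R, Comod.coact (k := k) (A := A) s = s ⊗ₜ[k] χ ∧
    Comod.coact (k := k) (A := A) t = t ⊗ₜ[k] HopfAlgebra.antipode k χ ∧ f = s * t}, ?_, ?_⟩
  · rintro f ⟨s, t, hs, ht, rfl⟩
    rw [SetLike.mem_coe, GLin.mem_invariants_iff, GLin.IsCoactAlg.coact_mul, hs, ht,
      Algebra.TensorProduct.tmul_mul_tmul, hχ.mul_antipode_cancel]
  · intro x hcl
    constructor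
    · intro hst
      obtain ⟨s, hs, hs1⟩ := exists_eigen hG x hχ hst hcl
      have hst' : HopfAlgebra.antipode k χ - 1 ∈ GLin.stabIdeal k A x := by
        have : HopfAlgebra.antipode k χ - 1 = -HopfAlgebra.antipode k χ * (χ - 1) := by
          rw [mul_sub, mul_one, neg_mul, mul_comm, hχ.mul_antipode_cancel]; ring
        rw [this]
        exact Ideal.mul_mem_left _ _ hst
      obtain ⟨t, ht, ht1⟩ := exists_eigen hG x hχ' hst' hcl
      exact ⟨s * t, ⟨s, t, hs, ht, rfl⟩, by rw [map_mul, hs1, ht1, mul_one]; exact one_ne_zero⟩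
    · rintro ⟨f, ⟨s, t, hs, ht, rfl⟩, hf⟩
      have hs0 : x s ≠ 0 := fun h0 => hf (by rw [map_mul, h0, zero_mul])
      have hmem : GLin.orbitHom k A x (s - algebraMap k R (x s)) ∈ GLin.stabIdeal k A x :=
        Ideal.mem_map_of_mem _ (by simp [RingHom.mem_ker])
      have ho : GLin.orbitHom k A x s = x s • χ := by
        rw [orbitHom_eq_coef, coef_apply, hs]; simp
      rw [map_sub, AlgHom.commutes, ho, Algebra.smul_def] at hmem
      have h2 : χ - 1 = algebraMap k A (x s)⁻¹ * (algebraMap k A (x s) * χ - algebraMap k A (x s)) := by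
        rw [mul_sub, ← mul_assoc, ← map_mul, inv_mul_cancel₀ hs0, map_one, one_mul]
      rw [h2]
      exact Ideal.mul_mem_left _ _ hmem

end Groth.Agent.S19406
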