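import Groth.Statements.S19415
import Groth.Agent.WeilLib.Kunneth
import Groth.Agent.S15748


set_option autoImplicit false
universe u v
open CategoryTheory AlgebraicGeometry
open WeilCoh Groth.Agent.WeilLib

namespace Groth.Agent.S19415

noncomputable def powMor {k : Type u} [Field k] {X : WeilCoh.Var k} (F : X ⟶ X) : ℕ → (X ⟶ X)
  | 0 => 𝟙 X
  | n + 1 => powMor F n ≫ F

variable {k : Type u} [Field k] [IsAlgClosed k] {K : Type v} [Field K] [CharZero K]
  (T : WeilCoh.Theory k K) {X P : WeilCoh.Var k}

lemma pullDeg_pow (F : X ⟶ X) (i : ℤ) (n : ℕ) :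
    T.pullDeg F i ^ n = T.pullDeg (powMor F n) i := by
  induction n with
  | zero => refine LinearMap.ext fun a => Subtype.ext ?_; exact (pull_id_apply T _).symm
  | succ n ih =>
    rw [pow_succ, ih]
    refine LinearMap.ext fun a => Subtype.ext ?_
    exact pull_pull T (powMor F n) F _

/-- The action of the class of a transposed graph. -/
lemma tr_graph (p q : P ⟶ X) (hP : WeilCoh.IsProd p q) (j : X ⟶ P) (g : X ⟶ X)
    (hjp : j ≫ p = g) (hjq : j ≫ q = 𝟙 X) (b c : T.H X) (i : ℤ) (hb : b ∈ T.gr X i) :
    T.tr P (T.pull p b * T.cl P (WeilCoh.sm j (genericPoint X.obj.left)) * T.pull q c) =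
      T.tr X (T.pull g b * c) := by
  rw [mul_comm_even T (i := 2 * (WeilCoh.codim P.obj.left (WeilCoh.sm j (genericPoint X.obj.left)) : ℤ))
      (even_two_mul _) (T.cl_mem P _) (T.pull_mem p i b hb) |>.symm, mul_assoc,
    tr_cl_section T j q hjq, cl_genericPoint, one_mul, map_mul (T.pull j), pull_pull, pull_pull,
    hjp, hjq, pull_id_apply]

lemma exists_projector_poly (F : X ⟶ X)
    (hF : ∀ i j : ℤ, i ≠ j → IsCoprime (T.pullDeg F i).charpoly (T.pullDeg F j).charpoly) (i : ℤ) :
    ∃ R : Polynomial K, ∀ (j : ℤ) (b : T.gr X j),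
      Polynomial.aeval (T.pullDeg F j) R b = if j = i then b else 0 := by
  classical
  let S := (Finset.Icc (0 : ℤ) (2 * (WeilCoh.dim X.obj.left : ℤ))).erase i
  obtain ⟨a, c, hac⟩ : IsCoprime (T.pullDeg F i).charpoly (∏ j ∈ S, (T.pullDeg F j).charpoly) :=
    IsCoprime.prod_right fun j hj => hF i j (Finset.ne_of_mem_erase hj).symm
  refine ⟨c * ∏ j ∈ S, (T.pullDeg F j).charpoly, fun j b => ?_⟩
  by_cases hj : j = i
  · subst hj
    rw [if_pos rfl, eq_sub_of_add_eq' hac, map_sub, map_one, map_mul, LinearMap.aeval_self_charpoly,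
      mul_zero, LinearMap.sub_apply, LinearMap.zero_apply, sub_zero]
    rfl
  · rw [if_neg hj]
    by_cases hout : j < 0 ∨ 2 * (WeilCoh.dim X.obj.left : ℤ) < j
    · rw [show b = 0 from Subtype.ext (eq_zero_of_mem_of_out T b.2 hout), map_zero]
    · have hmem : j ∈ S := Finset.mem_erase.mpr ⟨hj, Finset.mem_Icc.mpr (by omega)⟩
      rw [← Finset.mul_prod_erase S _ hmem, map_mul, map_mul, LinearMap.aeval_self_charpoly,
        zero_mul, mul_zero]
      rfl

/-- Let H be a Weil cohomology theory with coefficients in a field K of characteristic zero on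
nonsingular connected projective varieties over an algebraically closed field k, X such a variety of
dimension n, P = X × X with its projections p, q, and F : X → X an endomorphism such that the
characteristic polynomials of F^* on the cohomology groups H^i(X), i ∈ ℤ, are pairwise coprime in
K[T]. Then for every i the i-th Künneth projector of X is given by an algebraic correspondence with
coefficients in K: there is a class u in H^{2n}(P), lying in the K-linear span of the classes of
closed irreducible subsets of P, whose action β ↦ q_*(p^*(β) · u) is the identity on H^i(X) and zero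
on H^j(X) for every j ≠ i (push-forward q_* taken on the homogeneous piece of degree j + 2n). The
published statement has rational coefficients, X defined over a finite field and F its Frobenius
endomorphism, the coprimality of the characteristic polynomials being deduced there from the Riemann
hypothesis over finite fields and from the independence of these polynomials of the cohomology
theory; here that coprimality is the hypothesis and F is any endomorphism. -/
theorem result (k : Type u) [Field k]
    [IsAlgClosed k] (K : Type v) [Field K] [CharZero K] (T : WeilCoh.Theory k K)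
    (X P : WeilCoh.Var k) (p q : P ⟶ X) (hP : WeilCoh.IsProd p q) (F : X ⟶ X)
    (hF : ∀ i j : ℤ, i ≠ j → IsCoprime (T.pullDeg F i).charpoly (T.pullDeg F j).charpoly)
    (i : ℤ) :
    ∃ u : ↥(T.gr P (2 * (WeilCoh.dim X.obj.left : ℤ))),
      (u : T.H P) ∈ Submodule.span K (Set.range (T.cl P)) ∧
        ∀ (j : ℤ) (b : ↥(T.gr X j)),
          (T.push q (j + 2 * (WeilCoh.dim X.obj.left : ℤ))
              ⟨T.pull p (b : T.H X) * (u : T.H P),
                SetLike.mul_mem_graded (T.pull_mem p j b b.2) u.2⟩ : T.H X) =
            if j = i then (b : T.H X) else 0 := by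
  obtain ⟨R, hR⟩ := exists_projector_poly T F hF i
  have hd := dim_prod T p q hP
  let j : ℕ → (X ⟶ P) := fun m =>
    ObjectProperty.homMk (Over.homMk (U := X.obj) (V := P.obj)
      (hP.lift (WeilCoh.sm (powMor F m)) (𝟙 _)
        ((Over.w (powMor F m).hom).trans (Category.id_comp _).symm))
      (by
        rw [← Over.w p.hom, ← Category.assoc]
        erw [hP.lift_fst]
        exact Over.w (powMor F m).hom))
  have hjp : ∀ m, j m ≫ p = powMor F m := fun m =>
    ObjectProperty.hom_ext _ (Over.OverMorphism.ext (hP.lift_fst _ _ _))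
  have hjq : ∀ m, j m ≫ q = 𝟙 X := fun m =>
    ObjectProperty.hom_ext _ (Over.OverMorphism.ext (hP.lift_snd _ _ _))
  have hmem : ∀ m, T.cl P (WeilCoh.sm (j m) (genericPoint X.obj.left)) ∈
      T.gr P (2 * (WeilCoh.dim X.obj.left : ℤ)) := fun m => by
    have := cl_section_mem T (j m) q (hjq m)
    rwa [hd, add_sub_cancel_right] at this
  refine ⟨⟨∑ m ∈ R.support, R.coeff m • T.cl P (WeilCoh.sm (j m) (genericPoint X.obj.left)),
    Submodule.sum_mem _ fun m _ => Submodule.smul_mem _ _ (hmem m)⟩,
    Submodule.sum_mem _ fun m _ => Submodule.smul_mem _ _ (Submodule.subset_span ⟨_, rfl⟩), fun l b => ?_⟩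
  refine push_eq T q _ _ _ fun t c hc => ?_
  have hval : (if l = i then (b : T.H X) else 0) =
      ((Polynomial.aeval (T.pullDeg F l) R b : T.gr X l) : T.H X) := by
    rw [hR l b]
    split_ifs <;> rfl
  rw [hval, Polynomial.aeval_def, Polynomial.eval₂_eq_sum, Polynomial.sum]
  simp only [Finset.mul_sum, Finset.sum_mul, map_sum, LinearMap.sum_apply, Submodule.coe_sum,
    pullDeg_pow, mul_smul_comm, smul_mul_assoc, map_smul, smul_eq_mul]
  refine Finset.sum_congr rfl fun m _ => ?_
  rw [Module.algebraMap_end_eq_smul_id]
  change T.tr X ((R.coeff m • T.pull (powMor F m) (b : T.H X)) * c) = _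
  rw [smul_mul_assoc, map_smul, smul_eq_mul, tr_graph T p q hP (j m) (powMor F m) (hjp m) (hjq m) _ _ l b.2]

end Groth.Agent.S19415
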