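import Groth.Statements.S19416
import Groth.Agent.SmoothInter.Basic
import Groth.Agent.EquidimFlat.Basic
-- import your own Groth.Agent.* helpers here

set_option autoImplicit false
universe u
open CategoryTheory AlgebraicGeometry
open IntMult

namespace Groth.Agent.S19416

/-- Let k be a field and X a smooth variety over k (the structure morphism X → Spec k smooth, separated
and quasi-compact, X integral) of dimension n, and let V, W ⊆ X be closed irreducible subsets of
dimensions r and s. Then every irreducible component Z of V ∩ W has dimension at least r + s − n,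
stated as r + s ≤ dim Z + n with Krull dimensions of the subspaces; equivalently the codimension of
Z is at most the sum of the codimensions of V and W. The base field is arbitrary here; the same
statement over an algebraically closed field is the classical dimension count for intersections on a
nonsingular variety. -/
theorem result (k : Type u) [Field k] (X : Scheme.{u})
    (f : X ⟶ Spec (CommRingCat.of k)) [Smooth f] [IsSeparated f] [QuasiCompact f] [IsIntegral X]
    (n r s : ℕ) (hn : topologicalKrullDim X = n) (V W : Set X) (hVc : IsClosed V)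
    (hVi : IsIrreducible V) (hWc : IsClosed W) (hWi : IsIrreducible W)
    (hr : topologicalKrullDim ↥V = r) (hs : topologicalKrullDim ↥W = s) (Z : Set ↥(V ∩ W))
    (hZ : Z ∈ irreducibleComponents ↥(V ∩ W)) :
    ((r + s : ℕ) : WithBot ℕ∞) ≤ topologicalKrullDim ↥Z + n := by
  classical
  -- generic points
  obtain ⟨v, hv⟩ := QuasiSober.sober hVi hVc
  obtain ⟨w, hw⟩ := QuasiSober.sober hWi hWc
  have hVW : IsClosed (V ∩ W) := hVc.inter hWc
  haveI : QuasiSober ↥(V ∩ W) := hVW.isClosedEmbedding_subtypeVal.quasiSober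
  obtain ⟨z, hz⟩ := QuasiSober.sober hZ.1 (isClosed_of_mem_irreducibleComponents Z hZ)
  have hdZ : topologicalKrullDim ↥Z = topologicalKrullDim ↥(closure ({z.1} : Set X)) :=
    S7674.dim_of_generic hVW.isClosedEmbedding_subtypeVal hz
  have hvz : v ⤳ z.1 := hv.specializes z.2.1
  have hwz : w ⤳ z.1 := hw.specializes z.2.2
  -- a chart
  obtain ⟨U, hU, V₁, hV₁, hzV, e, hss⟩ := Smooth.exists_isStandardSmooth f z.1
  obtain rfl : U = ⊤ := by
    haveI : Subsingleton ↥(Spec (CommRingCat.of k)) := inferInstanceAs (Subsingleton (PrimeSpectrum k))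
    exact TopologicalSpace.Opens.ext (Set.eq_univ_of_forall fun y => Subsingleton.elim (f z.1) y ▸ e hzV)
  let ε : k →+* Γ(Spec (CommRingCat.of k), ⊤) := (Scheme.ΓSpecIso (CommRingCat.of k)).inv.hom
  have hε : Function.Bijective ε := (ConcreteCategory.isIso_iff_bijective _).1 inferInstance
  let c : k →+* Γ(X, V₁) := (f.appLE ⊤ V₁ e).hom.comp ε
  letI : Algebra k Γ(X, V₁) := c.toAlgebra
  haveI : Algebra.FiniteType k Γ(X, V₁) := RingHom.finiteType_algebraMap.1
    ((f.finiteType_appLE (isAffineOpen_top _) hV₁ e).comp (RingHom.FiniteType.of_surjective ε hε.2))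
  obtain ⟨m, g, hgC, hg⟩ := hss.exists_etale_mvPolynomial
  let φ : MvPolynomial (Fin m) k →ₐ[k] Γ(X, V₁) :=
    ⟨g.comp (MvPolynomial.map ε), fun a => by
      show g (MvPolynomial.map ε (MvPolynomial.C a)) = _
      rw [MvPolynomial.map_C]
      exact RingHom.congr_fun hgC (ε a)⟩
  have hφ : φ.toRingHom.Etale := RingHom.Etale.stableUnderComposition _ _
    (RingHom.Etale.of_bijective ⟨MvPolynomial.map_injective _ hε.1, MvPolynomial.map_surjective _ hε.2⟩) hg
  -- dimensions
  let j := hV₁.fromSpec
  haveI : LocallyOfFiniteType j := inferInstance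
  have hdim : ∀ y : PrimeSpectrum Γ(X, V₁),
      topologicalKrullDim ↥(closure ({j y} : Set X)) = ringKrullDim (Γ(X, V₁) ⧸ y.asIdeal) := by
    intro y
    obtain ⟨a, b, d, ha, hb, hd, hsum⟩ := EquidimFlat.fdim_comp j f y
    have ha := (EquidimFlat.fdim_eq_closure f (j y)).symm.trans ha
    have hd := (EquidimFlat.fdim_eq_closure (j ≫ f) y).symm.trans hd
    have hb := (EquidimFlat.fdim_eq_fibre_closure j y).symm.trans hb
    haveI : Subsingleton ↑(j.fiber (j y)) := ⟨fun a b => (j.fiberHomeo (j y)).injective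
      (Subtype.ext (j.isOpenEmbedding.injective
        ((j.fiberHomeo (j y) a).2.trans (j.fiberHomeo (j y) b).2.symm)))⟩
    have hb0 : b = 0 := by
      have h1 : (b : WithBot ℕ∞) ≤ 0 := hb ▸ topologicalKrullDim_zero_of_discreteTopology _
      exact Nat.le_zero.1 (by exact_mod_cast h1)
    rw [ha, ← S7674.dim_closure y]
    subst hb0
    rw [Nat.add_zero] at hsum
    subst hsum
    exact hd.symm
  have hmem : ∀ x : X, x ⤳ z.1 → ∃ y : PrimeSpectrum Γ(X, V₁), j y = x := fun x hx => by
    have : x ∈ Set.range j := by rw [hV₁.range_fromSpec]; exact hx.mem_open V₁.2 hzV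
    exact this
  obtain ⟨q₀, hq₀⟩ := hmem z.1 specializes_rfl
  obtain ⟨p, hp⟩ := hmem v hvz
  obtain ⟨q, hq⟩ := hmem w hwz
  obtain ⟨o, ho⟩ := hmem (genericPoint X) (genericPoint_specializes _)
  have hspec : ∀ a b : PrimeSpectrum Γ(X, V₁), j a ⤳ j b ↔ a.asIdeal ≤ b.asIdeal := fun a b =>
    j.isOpenEmbedding.isInducing.specializes_iff.trans (PrimeSpectrum.le_iff_specializes a b).symm
  haveI : Nonempty (V₁ : Scheme.{u}) := ⟨⟨z.1, hzV⟩⟩
  have ho' : o.asIdeal = ⊥ := le_bot_iff.1
    ((hspec o ⟨⊥, Ideal.isPrime_bot⟩).1 (by rw [ho]; exact genericPoint_specializes _))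
  -- the relative dimension
  have hm : m ≤ n := by
    have h1 : ringKrullDim Γ(X, V₁) = n := by
      have h2 := hdim o
      rw [ho, genericPoint_closure, FibreDim.dim_homeo (Homeomorph.Set.univ _), hn, ho'] at h2
      rw [h2]
      exact (ringKrullDim_eq_of_ringEquiv (RingEquiv.quotientBot _)).symm
    have hinj : Function.Injective φ := by
      letI := φ.toRingHom.toAlgebra
      haveI : Algebra.Etale (MvPolynomial (Fin m) k) Γ(X, V₁) := hφ
      haveI : Module.Flat (MvPolynomial (Fin m) k) Γ(X, V₁) := Algebra.Smooth.flat _ _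
      intro a b hab
      by_contra hne
      have h := Module.Flat.isSMulRegular_of_nonZeroDivisors (M := Γ(X, V₁))
        (mem_nonZeroDivisors_of_ne_zero (sub_ne_zero.2 hne))
      exact one_ne_zero (h (show (a - b) • (1 : Γ(X, V₁)) = (a - b) • 0 by
        rw [smul_zero, Algebra.smul_def, mul_one]
        show φ (a - b) = 0
        rw [map_sub, hab, sub_self]))
    have h3 := OrbitDim.ringKrullDim_le_of_injective φ hinj
    rw [h1, MvPolynomial.ringKrullDim_of_isNoetherianRing, ringKrullDim_eq_zero_of_field, zero_add,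
      Nat.cast_le] at h3
    rwa [Nat.card_fin] at h3
  -- minimality
  have hmin : q₀.asIdeal ∈ (p.asIdeal ⊔ q.asIdeal).minimalPrimes := by
    refine ⟨⟨q₀.2, sup_le ((hspec _ _).1 (by rw [hp, hq₀]; exact hvz))
      ((hspec _ _).1 (by rw [hq, hq₀]; exact hwz))⟩, fun P hP hPz => ?_⟩
    let w' : PrimeSpectrum Γ(X, V₁) := ⟨P, hP.1⟩
    have hw' : j w' ∈ V ∩ W :=
      ⟨(show v ⤳ j w' from hp ▸ (hspec p w').2 (le_sup_left.trans hP.2)).mem_closed hVc hv.mem,
        (show w ⤳ j w' from hq ▸ (hspec q w').2 (le_sup_right.trans hP.2)).mem_closed hWc hw.mem⟩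
    have hs : (⟨j w', hw'⟩ : ↥(V ∩ W)) ⤳ z := by
      rw [← Topology.IsInducing.subtypeVal.specializes_iff]
      show j w' ⤳ z.1
      exact hq₀ ▸ (hspec w' q₀).2 hPz
    have hsub : Z ≤ closure ({⟨j w', hw'⟩} : Set ↥(V ∩ W)) := by
      rw [← hz.def]
      exact closure_minimal (Set.singleton_subset_iff.2 (specializes_iff_mem_closure.1 hs)) isClosed_closure
    have hback := hz.specializes (hZ.2 isIrreducible_singleton.closure hsub (subset_closure rfl))
    exact (hspec q₀ w').1 (by rw [hq₀]; exact hback.map continuous_subtype_val)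
  have hr' : ringKrullDim (Γ(X, V₁) ⧸ p.asIdeal) = r := by
    rw [← hdim, hp, hv.def, hr]
  have hs' : ringKrullDim (Γ(X, V₁) ⧸ q.asIdeal) = s := by
    rw [← hdim, hq, hw.def, hs]
  have main := SmoothInter.dim_le_dim_add φ hφ.formallyUnramified p.asIdeal q.asIdeal q₀.asIdeal hmin r s hr' hs'
  rw [← hdim, hq₀, ← hdZ] at main
  exact main.trans (add_le_add le_rfl (Nat.cast_le.2 hm))

end Groth.Agent.S19416
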