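import Groth.Statements.S19418
import Groth.Agent.WeilLib.Kunneth
import Groth.Agent.S15748


set_option autoImplicit false
universe u v
open CategoryTheory AlgebraicGeometry
open WeilCoh Groth.Agent.WeilLib

namespace Groth.Agent.S19418

variable {k : Type u} [Field k] [IsAlgClosed k] {K : Type v} [Field K] [CharZero K]
  (T : WeilCoh.Theory k K) {X P : WeilCoh.Var k}

/-- The Lefschetz formula for correspondences of degree zero given by their actions. -/
lemma lefschetz (p q : P ⟶ X) (hP : WeilCoh.IsProd p q) (σ : P ⟶ P) (hσp : σ ≫ p = q)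
    (hσq : σ ≫ q = p) {u w : T.H P} (hu : u ∈ T.gr P (2 * (WeilCoh.dim X.obj.left : ℤ)))
    (hw : w ∈ T.gr P (2 * (WeilCoh.dim X.obj.left : ℤ)))
    (A B : ∀ s : ℕ, T.gr X (s : ℤ) →ₗ[K] T.gr X (s : ℤ))
    (hA : ∀ (s : ℕ), s ≤ 2 * WeilCoh.dim X.obj.left → ∀ (a : T.gr X (s : ℤ)) (b : T.H X),
      T.tr X ((A s a : T.H X) * b) = T.tr P (T.pull p (a : T.H X) * u * T.pull q b))
    (hA' : ∀ s : ℕ, ¬ s ≤ 2 * WeilCoh.dim X.obj.left → A s = 0)
    (hB : ∀ (s : ℕ), s ≤ 2 * WeilCoh.dim X.obj.left → ∀ (a : T.gr X (s : ℤ)) (b : T.H X),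
      T.tr X ((B s a : T.H X) * b) = T.tr P (T.pull p (a : T.H X) * w * T.pull q b)) :
    T.tr P (u * T.pull σ w) = ∑ s ∈ Finset.range (2 * WeilCoh.dim X.obj.left + 1),
      (-1 : K) ^ s * LinearMap.trace K (T.gr X (s : ℤ)) (B s * A s) := by
  obtain ⟨e, f, hef⟩ := exists_bases T X
  let g : ∀ s : ℕ, T.gr X (s : ℤ) →ₗ[K] T.H X := fun s => Submodule.subtype _ ∘ₗ A s
  have hg : ∀ (s : ℕ) (a : T.gr X (s : ℤ)), g s a ∈
      T.gr X ((s : ℤ) + 2 * (WeilCoh.dim X.obj.left : ℤ) - 2 * WeilCoh.dim X.obj.left) :=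
    fun s a => by rw [add_sub_cancel_right]; exact Subtype.prop _
  have htr : ∀ (s : ℕ) (a : T.gr X (s : ℤ)) (b : T.H X),
      T.tr X (g s a * b) = T.tr P (T.pull p (a : T.H X) * u * T.pull q b) := by
    intro s a b
    by_cases hs : s ≤ 2 * WeilCoh.dim X.obj.left
    · exact hA s hs a b
    · have : a = 0 := Subtype.ext (eq_zero_of_mem_of_out T a.2 (Or.inr (by omega)))
      subst this
      simp
  conv_lhs => rw [eq_expansion T e f hef hP hu g hg htr, expansion, Finset.sum_mul, map_sum]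
  refine Finset.sum_congr rfl fun s hs => ?_
  have hs' : s ≤ 2 * WeilCoh.dim X.obj.left := by simpa [Nat.lt_succ_iff] using hs
  rw [trace_eq_sum T (e s) (f s) (hef s hs'), smul_mul_assoc, map_smul, Finset.sum_mul, map_sum,
    smul_eq_mul]
  congr 1
  refine Finset.sum_congr rfl fun l _ => ?_
  rw [mul_comm_z T (f s l).2 ((B s * A s) (e s l)).2, map_smul, smul_eq_mul, Module.End.mul_apply,
    hB s hs']
  conv_rhs => rw [← tr_pull_swap T hP hP σ hσp hσq]
  rw [map_mul (T.pull σ), map_mul (T.pull σ), pull_pull,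
    pull_pull, hσp, hσq,
    mul_comm_z T (SetLike.mul_mem_graded (T.pull_mem q _ _ (A s (e s l)).2) (T.pull_mem σ _ _ hw))
      (T.pull_mem p _ _ (f s l).2), map_smul, smul_eq_mul, ← mul_assoc, ← zpow_add₀ (by simp),
    mul_assoc (T.pull p _), Even.neg_one_zpow, one_mul]
  · rfl
  · exact ⟨(2 * (WeilCoh.dim X.obj.left : ℤ) - s) * (s + WeilCoh.dim X.obj.left), by ring⟩

/-- An involution maps classes of closed subsets to algebraic classes. -/
lemma pull_cl_mem_span (σ : P ⟶ P) (hσ : σ ≫ σ = 𝟙 P) (ξ : P.obj.left) :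
    T.pull σ (T.cl P ξ) ∈ Submodule.span K (Set.range (T.cl P)) := by
  let f := WeilCoh.sm σ
  have hff : f ≫ f = 𝟙 P.obj.left := by
    change (σ ≫ σ).hom.left = _
    rw [hσ]; rfl
  have : IsIso f := ⟨f, hff, hff⟩
  have hinv : ∀ z, f (f z) = z := fun z => by rw [← Scheme.Hom.comp_apply, hff]; rfl
  have hw : ∀ w : P.obj.left, WeilCoh.IsCompPt (f ⁻¹' closure ({ξ} : Set P.obj.left)) w → f w = ξ := by
    intro w hw
    have h₁ : f (f ξ) ∈ closure ({ξ} : Set P.obj.left) := by rw [hinv]; exact subset_closure rfl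
    have h₂ : f ξ ⤳ w := by
      have := (specializes_iff_mem_closure.mpr hw.1).map f.continuous
      rwa [hinv] at this
    rw [← hw.2 (f ξ) h₁ h₂, hinv]
  have hflat : ∃ U : P.obj.left.Opens, closure ({ξ} : Set P.obj.left) ⊆ (U : Set P.obj.left) ∧
      Flat (f ∣_ U) := ⟨⊤, Set.subset_univ _, (haveI : IsOpenImmersion (f ∣_ (⊤ : P.obj.left.Opens)) := inferInstance; inferInstance)⟩
  rw [T.cl_pull σ ξ (fun w hw' => by
    have hd := pdim_section σ σ hσ w
    rw [show WeilCoh.sm σ w = ξ from hw w hw'] at hd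
    rw [hd]; ring) (Or.inl hflat)]
  refine finsum_induction _ (Submodule.zero_mem _) (fun a b ha hb => Submodule.add_mem _ ha hb)
    (fun w => Submodule.smul_mem _ _ (Submodule.subset_span ⟨_, rfl⟩))

/-- Key step, cohomological form: let H be a Weil cohomology theory with coefficients in a field K of
characteristic zero on nonsingular connected projective varieties over an algebraically closed field
k, X such a variety of dimension n, P = X × X with projections p, q and the swap automorphism σ (σ p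
= q, σ q = p); the identity dim P = 2n is carried as the arithmetic hypothesis hdim. A class u ∈
H^{2n}(P) acts as a degree-0 correspondence on each H^j(X), 0 ≤ j ≤ 2n, by β ↦ q_*(p^*(β) · u); call
u algebraic when it lies in the K-linear span of the classes of closed irreducible subsets of P, and
let A be the K-subalgebra of ∏_j End_K(H^j(X)) generated by the actions of the algebraic classes in
H^{2n}(P). If u is algebraic and ψ ∘ (action of u) is nilpotent for every ψ ∈ A — that is, the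
action of u lies in the Jacobson radical of the finite-dimensional algebra A — then u is numerically
trivial against algebraic classes: Tr_P(u · v) = 0 for every algebraic v ∈ H^{2n}(P). In the
published argument this is the step showing that the algebra of degree-0 algebraic correspondences
modulo numerical equivalence has zero Jacobson radical, hence is semisimple; it is stated here on
the cohomological side, with the algebra generated by the correspondence actions in place of the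
algebra of cycle classes. -/
theorem result (k : Type u) [Field k] [IsAlgClosed k]
    (K : Type v) [Field K] [CharZero K] (T : WeilCoh.Theory k K) (X P : WeilCoh.Var k)
    (p q : P ⟶ X) (hP : WeilCoh.IsProd p q) (σ : P ⟶ P) (hσp : σ ≫ p = q) (hσq : σ ≫ q = p)
    (hdim : ∀ j : ℤ, j + 2 * (WeilCoh.dim X.obj.left : ℤ) + 2 * (WeilCoh.dim X.obj.left : ℤ) - 2 * (WeilCoh.dim P.obj.left : ℤ) = j)
    (u : ↥(T.gr P (2 * (WeilCoh.dim X.obj.left : ℤ)))) (hu : (u : T.H P) ∈ Submodule.span K (Set.range (T.cl P)))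
    (hJ : ∀ ψ ∈ Algebra.adjoin K
          (Set.range (fun w : {w : ↥(T.gr P (2 * (WeilCoh.dim X.obj.left : ℤ))) // (w : T.H P) ∈ Submodule.span K (Set.range (T.cl P))} =>
            fun j : Fin (2 * WeilCoh.dim X.obj.left + 1) =>
              ((LinearEquiv.ofEq (T.gr X (((j : ℕ) : ℤ) + 2 * (WeilCoh.dim X.obj.left : ℤ) + 2 * (WeilCoh.dim X.obj.left : ℤ) - 2 * (WeilCoh.dim P.obj.left : ℤ))) (T.gr X ((j : ℕ) : ℤ)) (congrArg (T.gr X) (hdim ((j : ℕ) : ℤ)))).toLinearMap ∘ₗ
              ((T.push q (((j : ℕ) : ℤ) + 2 * (WeilCoh.dim X.obj.left : ℤ))) ∘ₗ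
                (((LinearMap.mulRight K (w.1 : T.H P)).restrict (p := T.gr P ((j : ℕ) : ℤ))
                    (q := T.gr P (((j : ℕ) : ℤ) + 2 * (WeilCoh.dim X.obj.left : ℤ))) (fun x hx => SetLike.mul_mem_graded hx w.1.2)) ∘ₗ
                  T.pullDeg p ((j : ℕ) : ℤ)))))),
        IsNilpotent (ψ * fun j : Fin (2 * WeilCoh.dim X.obj.left + 1) =>
          ((LinearEquiv.ofEq (T.gr X (((j : ℕ) : ℤ) + 2 * (WeilCoh.dim X.obj.left : ℤ) + 2 * (WeilCoh.dim X.obj.left : ℤ) - 2 * (WeilCoh.dim P.obj.left : ℤ))) (T.gr X ((j : ℕ) : ℤ)) (congrArg (T.gr X) (hdim ((j : ℕ) : ℤ)))).toLinearMap ∘ₗ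
              ((T.push q (((j : ℕ) : ℤ) + 2 * (WeilCoh.dim X.obj.left : ℤ))) ∘ₗ
                (((LinearMap.mulRight K (u : T.H P)).restrict (p := T.gr P ((j : ℕ) : ℤ))
                    (q := T.gr P (((j : ℕ) : ℤ) + 2 * (WeilCoh.dim X.obj.left : ℤ))) (fun x hx => SetLike.mul_mem_graded hx u.2)) ∘ₗ
                  T.pullDeg p ((j : ℕ) : ℤ))))))
    (v : ↥(T.gr P (2 * (WeilCoh.dim X.obj.left : ℤ)))) (hv : (v : T.H P) ∈ Submodule.span K (Set.range (T.cl P))) :
    T.tr P ((u : T.H P) * (v : T.H P)) = 0 := by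
  have hn : ∀ w : {w : ↥(T.gr P (2 * (WeilCoh.dim X.obj.left : ℤ))) // (w : T.H P) ∈ Submodule.span K (Set.range (T.cl P))},
      ∃ A : ∀ s : ℕ, ↥(T.gr X (s : ℤ)) →ₗ[K] ↥(T.gr X (s : ℤ)),
        (∀ (s : ℕ), s ≤ 2 * WeilCoh.dim X.obj.left → ∀ (a : ↥(T.gr X (s : ℤ))) (b : T.H X),
          T.tr X ((A s a : T.H X) * b) = T.tr P (T.pull p (a : T.H X) * (w.1 : T.H P) * T.pull q b)) :=
    fun w => ⟨fun s => (LinearEquiv.ofEq (T.gr X ((s : ℤ) + 2 * (WeilCoh.dim X.obj.left : ℤ) + 2 * (WeilCoh.dim X.obj.left : ℤ) - 2 * (WeilCoh.dim P.obj.left : ℤ))) (T.gr X (s : ℤ)) (congrArg (T.gr X) (hdim (s : ℤ)))).toLinearMap ∘ₗ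
        ((T.push q ((s : ℤ) + 2 * (WeilCoh.dim X.obj.left : ℤ))) ∘ₗ
          (((LinearMap.mulRight K (w.1 : T.H P)).restrict (p := T.gr P (s : ℤ))
              (q := T.gr P ((s : ℤ) + 2 * (WeilCoh.dim X.obj.left : ℤ))) (fun x hx => SetLike.mul_mem_graded hx w.1.2)) ∘ₗ
            T.pullDeg p (s : ℤ))),
      fun s _ a b => tr_push T q _ _ b⟩
  have hσσ : σ ≫ σ = 𝟙 P := by
    refine ObjectProperty.hom_ext _ (Over.OverMorphism.ext (hP.hom_ext ?_ ?_))
    · change ((σ ≫ σ) ≫ p).hom.left = (𝟙 P ≫ p).hom.left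
      rw [Category.assoc, hσp, hσq, Category.id_comp]
    · change ((σ ≫ σ) ≫ q).hom.left = (𝟙 P ≫ q).hom.left
      rw [Category.assoc, hσq, hσp, Category.id_comp]
  have hv' : T.pull σ (v : T.H P) ∈ Submodule.span K (Set.range (T.cl P)) := by
    have h : T.pull σ (v : T.H P) ∈ Submodule.map (T.pull σ).toLinearMap
        (Submodule.span K (Set.range (T.cl P))) := Submodule.mem_map_of_mem hv
    rw [Submodule.map_span] at h
    refine Submodule.span_le.mpr ?_ h
    rintro _ ⟨_, ⟨ξ, rfl⟩, rfl⟩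
    exact pull_cl_mem_span T σ hσσ ξ
  let wv : {w : ↥(T.gr P (2 * (WeilCoh.dim X.obj.left : ℤ))) // (w : T.H P) ∈ Submodule.span K (Set.range (T.cl P))} :=
    ⟨⟨T.pull σ (v : T.H P), T.pull_mem σ _ _ v.2⟩, hv'⟩
  let act : {w : ↥(T.gr P (2 * (WeilCoh.dim X.obj.left : ℤ))) // (w : T.H P) ∈ Submodule.span K (Set.range (T.cl P))} →
      ∀ s : ℕ, ↥(T.gr X (s : ℤ)) →ₗ[K] ↥(T.gr X (s : ℤ)) :=
    fun w s => (LinearEquiv.ofEq (T.gr X ((s : ℤ) + 2 * (WeilCoh.dim X.obj.left : ℤ) + 2 * (WeilCoh.dim X.obj.left : ℤ) - 2 * (WeilCoh.dim P.obj.left : ℤ))) (T.gr X (s : ℤ)) (congrArg (T.gr X) (hdim (s : ℤ)))).toLinearMap ∘ₗ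
        ((T.push q ((s : ℤ) + 2 * (WeilCoh.dim X.obj.left : ℤ))) ∘ₗ
          (((LinearMap.mulRight K (w.1 : T.H P)).restrict (p := T.gr P (s : ℤ))
              (q := T.gr P ((s : ℤ) + 2 * (WeilCoh.dim X.obj.left : ℤ))) (fun x hx => SetLike.mul_mem_graded hx w.1.2)) ∘ₗ
            T.pullDeg p (s : ℤ)))
  have hnil := hJ _ (Algebra.subset_adjoin ⟨wv, rfl⟩)
  have key : T.tr P ((u : T.H P) * T.pull σ (T.pull σ (v : T.H P))) =
      ∑ s ∈ Finset.range (2 * WeilCoh.dim X.obj.left + 1),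
        (-1 : K) ^ s * LinearMap.trace K (T.gr X (s : ℤ)) (act wv s * act ⟨u, hu⟩ s) :=
    lefschetz T p q hP σ hσp hσq u.2 wv.1.2 (act ⟨u, hu⟩) (act wv)
      (fun s _ a b => tr_push T q _ _ b)
      (fun s hs => LinearMap.ext fun a => by
        rw [show a = 0 from Subtype.ext (eq_zero_of_mem_of_out T a.2 (Or.inr (by omega))), map_zero, map_zero])
      (fun s _ a b => tr_push T q _ _ b)
  rw [pull_pull, hσσ, pull_id_apply] at key
  rw [key]
  refine Finset.sum_eq_zero fun s hs => ?_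
  obtain ⟨N, hN⟩ := hnil
  have hs' : s < 2 * WeilCoh.dim X.obj.left + 1 := Finset.mem_range.mp hs
  have hcomp : IsNilpotent (act wv s * act ⟨u, hu⟩ s) := ⟨N, congr_fun hN ⟨s, hs'⟩⟩
  rw [(LinearMap.isNilpotent_trace_of_isNilpotent hcomp).eq_zero, mul_zero]

end Groth.Agent.S19418
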