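import Groth.Statements.S19422
-- import your own Groth.Agent.* helpers here

set_option autoImplicit false
universe u
open TensorProduct LaurentPolynomial
open GIT

namespace Groth.Agent.S19422

/-- Over an algebraically closed field k, let the multiplicative group, whose coordinate Hopf algebra is
the Laurent polynomial ring, act diagonally on affine ι-space, ι finite: the coaction on the
polynomial ring is multiplicative and sends the coordinate function X_i to X_i ⊗ T^(r_i) for
integers r_i. Then a vector v is semistable (some invariant homogeneous polynomial of positive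
degree does not vanish at v) if and only if there are indices i and j, possibly equal, with v_i ≠ 0,
v_j ≠ 0 and r_i ≤ 0 ≤ r_j, i.e. the origin lies in the convex hull of the weights of v. (Stated for
the ambient projective space on its affine cone; the published statement is for a point of a closed
invariant subvariety, whose semistability is that of the point in the ambient space.) -/
theorem result (k : Type u) [Field k] [IsAlgClosed k]
    (ι : Type u) [Fintype ι] [HopfRep.Comod k k[T;T⁻¹] (MvPolynomial ι k)] [GLin.IsCoactAlg k k[T;T⁻¹] (MvPolynomial ι k)]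
    (r : ι → ℤ)
    (hr : ∀ i : ι, HopfRep.Comod.coact (k := k) (A := k[T;T⁻¹]) (MvPolynomial.X i : MvPolynomial ι k) =
      (MvPolynomial.X i : MvPolynomial ι k) ⊗ₜ[k] (T (r i) : k[T;T⁻¹]))
    (v : ι → k) :
    GLin.IsSemistableVec k k[T;T⁻¹] v ↔ ∃ i j : ι, v i ≠ 0 ∧ v j ≠ 0 ∧ r i ≤ 0 ∧ 0 ≤ r j := by
  classical
  let R := MvPolynomial ι k
  let δ := GLin.coactAlgHom k k[T;T⁻¹] (MvPolynomial ι k)
  have hX : ∀ i, δ (MvPolynomial.X i) = (MvPolynomial.X i : MvPolynomial ι k) ⊗ₜ[k] (T (r i) : k[T;T⁻¹]) := hr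
  let w : (ι →₀ ℕ) → ℤ := fun d => ∑ i ∈ d.support, (d i : ℤ) * r i
  have hmon : ∀ (d : ι →₀ ℕ) (c : k), δ (MvPolynomial.monomial d c) =
      (MvPolynomial.monomial d c : MvPolynomial ι k) ⊗ₜ[k] (T (w d) : k[T;T⁻¹]) := by
    intro d c
    rw [MvPolynomial.monomial_eq, map_mul, Finsupp.prod, map_prod]
    have hCc : δ (MvPolynomial.C c) = (MvPolynomial.C c : MvPolynomial ι k) ⊗ₜ[k] (1 : k[T;T⁻¹]) := δ.commutes c
    simp only [map_pow, hX, Algebra.TensorProduct.tmul_pow, hCc, LaurentPolynomial.T_pow]
    have hprod : ∀ s : Finset ι, (∏ i ∈ s, ((MvPolynomial.X i : MvPolynomial ι k) ^ d i) ⊗ₜ[k] (T ((d i : ℤ) * r i) : k[T;T⁻¹])) =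
        (∏ i ∈ s, (MvPolynomial.X i : MvPolynomial ι k) ^ d i) ⊗ₜ[k] (T (∑ i ∈ s, (d i : ℤ) * r i) : k[T;T⁻¹]) := by
      intro s
      induction s using Finset.induction_on with
      | empty => simp [Algebra.TensorProduct.one_def]
      | insert a s ha ih => rw [Finset.prod_insert ha, Finset.prod_insert ha, Finset.sum_insert ha, ih, Algebra.TensorProduct.tmul_mul_tmul, ← LaurentPolynomial.T_add]
    rw [hprod, Algebra.TensorProduct.tmul_mul_tmul, one_mul]
  constructor
  · intro hss
    simp only [GLin.IsSemistableVec, GLin.IsNullform, not_forall] at hss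
    obtain ⟨F, hF, deg, hdeg, hhom, hev⟩ := hss
    let L : MvPolynomial ι k ⊗[k] k[T;T⁻¹] →ₗ[k] MvPolynomial ι k :=
      (TensorProduct.rid k (MvPolynomial ι k)).toLinearMap ∘ₗ
        LinearMap.lTensor (MvPolynomial ι k) ((Finsupp.lapply (0 : ℤ)) ∘ₗ (AddMonoidAlgebra.coeffLinearEquiv k).toLinearMap)
    have hL : ∀ (x : MvPolynomial ι k) (n : ℤ), L (x ⊗ₜ[k] (T n : k[T;T⁻¹])) = if n = 0 then x else 0 := by
      intro x n
      rw [LaurentPolynomial.T]
      by_cases hn : n = 0 <;> simp [-LaurentPolynomial.single_eq_C_mul_T, L, AddMonoidAlgebra.coeffLinearEquiv_apply, hn]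
    have hF' : F = ∑ d ∈ F.support, if w d = 0 then MvPolynomial.monomial d (F.coeff d) else 0 := by
      have h1 := congrArg L (show δ F = F ⊗ₜ[k] (1 : k[T;T⁻¹]) from hF)
      rw [← LaurentPolynomial.T_zero, hL, if_pos rfl] at h1
      conv_lhs at h1 => rw [F.as_sum, map_sum, map_sum]
      simp only [hmon, hL] at h1
      exact h1.symm
    rw [hF', map_sum] at hev
    obtain ⟨d, hd, hne⟩ := Finset.exists_ne_zero_of_sum_ne_zero hev
    by_cases hw : w d = 0
    swap
    · simp [hw] at hne
    rw [if_pos hw, MvPolynomial.eval_monomial, mul_ne_zero_iff, Finsupp.prod, Finset.prod_ne_zero_iff] at hne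
    have hv : ∀ i ∈ d.support, v i ≠ 0 := fun i hi h0 => hne.2 i hi (by
      rw [h0, zero_pow (Finsupp.mem_support_iff.1 hi)])
    have hpos : d.support.Nonempty := by
      rw [Finsupp.support_nonempty_iff]
      rintro rfl
      have hd0 := hhom (MvPolynomial.mem_support_iff.1 hd)
      simp at hd0
      omega
    by_contra hcon
    push Not at hcon
    rcases em (∃ i ∈ d.support, r i ≤ 0) with ⟨i, hi, hri⟩ | hall
    · have hlt : ∀ j ∈ d.support, r j < 0 := fun j hj => hcon i j (hv i hi) (hv j hj) hri
      have : w d < 0 := Finset.sum_neg (fun j hj => mul_neg_of_pos_of_neg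
        (by exact_mod_cast Nat.pos_of_ne_zero (Finsupp.mem_support_iff.1 hj)) (hlt j hj)) hpos
      omega
    · push Not at hall
      have : 0 < w d := Finset.sum_pos (fun j hj => mul_pos
        (by exact_mod_cast Nat.pos_of_ne_zero (Finsupp.mem_support_iff.1 hj)) (hall j hj)) hpos
      omega
  · rintro ⟨i, j, hi, hj, hri, hrj⟩ hnull
    by_cases h0 : r i = 0
    · refine hi ?_
      have := hnull (MvPolynomial.X i) (by
        show δ (MvPolynomial.X i) = _
        rw [hX, h0, LaurentPolynomial.T_zero]) 1 one_pos (MvPolynomial.isHomogeneous_X _ _)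
      simpa using this
    let a := (r j).toNat
    let b := (-r i).toNat
    have hF : δ ((MvPolynomial.X i : MvPolynomial ι k) ^ a * MvPolynomial.X j ^ b) =
        ((MvPolynomial.X i : MvPolynomial ι k) ^ a * MvPolynomial.X j ^ b) ⊗ₜ[k] (1 : k[T;T⁻¹]) := by
      rw [map_mul, map_pow, map_pow, hX, hX, Algebra.TensorProduct.tmul_pow, Algebra.TensorProduct.tmul_pow,
        Algebra.TensorProduct.tmul_mul_tmul, LaurentPolynomial.T_pow, LaurentPolynomial.T_pow, ← LaurentPolynomial.T_add,
        show (a : ℤ) * r i + (b : ℤ) * r j = 0 by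
          rw [Int.toNat_of_nonneg hrj, Int.toNat_of_nonneg (by omega)]; ring, LaurentPolynomial.T_zero]
    have := hnull _ hF (a + b) (by omega) ((MvPolynomial.isHomogeneous_X_pow i a).mul (MvPolynomial.isHomogeneous_X_pow j b))
    rw [map_mul, map_pow, map_pow, MvPolynomial.eval_X, MvPolynomial.eval_X, mul_eq_zero] at this
    rcases this with h | h
    · exact hi (eq_zero_of_pow_eq_zero h)
    · exact hj (eq_zero_of_pow_eq_zero h)

end Groth.Agent.S19422
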