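import Groth.Statements.S19427
import Groth.Agent.MilK.Basic

set_option autoImplicit false
universe u
open MilnorK

namespace Groth.Agent.S19427

/-- For a field F and nonzero b, c with b + c ≠ 0, in the Milnor K-group K_2(F) one has {b, c} + {b + c,
-b/c} = 0, that is {b, c} = -{b + c, -b/c} = {b + c, -c/b}. (The identity as displayed in the source
is {b, c} = {b + c, -b/c}, which differs from this by a sign and fails in general: for b = 3, c = 5
over the rationals the tame symbol at 5 takes the values 3 and 1/3 on the two sides; the
accompanying derivation from the Steinberg relation b/(b+c) + c/(b+c) = 1 gives exactly the identity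
stated here.) -/
theorem result (F : Type u) [Field F] (b c : Fˣ)
    (h : (b : F) + (c : F) ≠ 0) :
    (MilK.symbol ![b, c] : MilK.K F 2) + MilK.symbol ![Units.mk0 ((b : F) + (c : F)) h, -(b / c)] = 0 := by
  set s := Units.mk0 ((b : F) + (c : F)) h with hs
  set o : MilK.K F 0 := MilK.symbol (![] : Fin 0 → Fˣ) with ho
  have hb : ((b / s : Fˣ) : F) + ((c / s : Fˣ) : F) = 1 := by
    simp only [Units.val_div_eq_div_val, hs, Units.val_mk0, ← add_div]
    exact div_self h
  have key := MilKLib.pre_pre_steinberg hb o
  simp only [MilKLib.pre_div, map_sub, MilKLib.pre_self] at key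
  have e : -(b / c) = (-1) * (b / c) := (neg_one_mul _).symm
  rw [MilKLib.symbol_vec2, MilKLib.symbol_vec2, ← ho, e]
  simp only [MilKLib.pre_mul, MilKLib.pre_div, map_add, map_sub]
  rw [MilKLib.pre_comm b s] at key
  rw [← key]
  abel

end Groth.Agent.S19427
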