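import Mathlib
import Groth.Statements.S19436
-- import your own Groth.Agent.* helpers here

set_option autoImplicit false
universe u
open CAlg

namespace Groth.Agent.S19436

/-- For a Noetherian local commutative algebra R over a field k, with maximal ideal M, and an ideal I of
R whose quotient R/I is finite-dimensional over k of dimension n, the power M^n lies in I. -/
theorem result (k : Type u) [Field k] (R : Type u) [CommRing R]
    [Algebra k R] [IsNoetherianRing R] [IsLocalRing R] (I : Ideal R) [Module.Finite k (R ⧸ I)] (n : ℕ)
    (hn : Module.finrank k (R ⧸ I) = n) : IsLocalRing.maximalIdeal R ^ n ≤ I := by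
  rcases eq_or_ne I ⊤ with rfl | hI
  · exact le_top
  haveI : Nontrivial (R ⧸ I) := Ideal.Quotient.nontrivial_iff.2 hI
  haveI : IsLocalRing (R ⧸ I) := IsLocalRing.of_surjective' (Ideal.Quotient.mk I) Ideal.Quotient.mk_surjective
  set J := IsLocalRing.maximalIdeal (R ⧸ I)
  have hJ : Ideal.map (Ideal.Quotient.mk I) (IsLocalRing.maximalIdeal R) ≤ J := by
    refine IsLocalRing.le_maximalIdeal ?_
    intro h
    have := congrArg (Ideal.comap (Ideal.Quotient.mk I)) h
    rw [Ideal.comap_map_of_surjective _ Ideal.Quotient.mk_surjective, Ideal.comap_top,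
      ← RingHom.ker_eq_comap_bot, Ideal.mk_ker, sup_eq_left.2 (IsLocalRing.le_maximalIdeal hI)] at this
    exact Ideal.IsPrime.ne_top inferInstance this
  have hdim : ∀ i, Module.finrank k ((J ^ i).restrictScalars k) ≤ n - i := by
    intro i
    induction i with
    | zero => rw [Nat.sub_zero, ← hn]; exact Submodule.finrank_le _
    | succ i ih =>
      by_cases h0 : J ^ i = ⊥
      · rw [pow_succ, h0, Ideal.bot_mul, Submodule.restrictScalars_bot, finrank_bot]
        exact Nat.zero_le _
      · have hlt : (J ^ (i + 1)).restrictScalars k < (J ^ i).restrictScalars k := by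
          rw [lt_iff_le_and_ne]
          refine ⟨Ideal.pow_le_pow_right (Nat.le_succ i), fun h => h0 ?_⟩
          have h' : J ^ (i + 1) = J ^ i := Submodule.restrictScalars_injective k _ _ h
          refine Submodule.eq_bot_of_le_smul_of_le_jacobson_bot J (J ^ i) (IsNoetherian.noetherian _) ?_
            (IsLocalRing.maximalIdeal_le_jacobson _)
          rw [smul_eq_mul, ← pow_succ', h']
        have := Submodule.finrank_lt_finrank_of_lt hlt
        omega
  have hJn : J ^ n = ⊥ := by
    have := hdim n
    rw [Nat.sub_self, Nat.le_zero, Submodule.finrank_eq_zero, Submodule.restrictScalars_eq_bot_iff] at this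
    exact this
  intro x hx
  rw [← Ideal.Quotient.eq_zero_iff_mem, ← Ideal.mem_bot, ← hJn]
  have := Ideal.mem_map_of_mem (Ideal.Quotient.mk I) hx
  rw [Ideal.map_pow] at this
  exact Ideal.pow_right_mono hJ n this

end Groth.Agent.S19436
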