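import Mathlib
import Groth.Statements.S19438
-- import your own Groth.Agent.* helpers here

set_option autoImplicit false
universe u
open CAlg

namespace Groth.Agent.S19438

/-- First assertion: let A be a Noetherian local commutative algebra over a field k with maximal ideal
M, residue field k (the map from k to A/M is onto) and embedding dimension dim M/M^2 at least 2, and
let I be a proper ideal with A/I finite-dimensional over k. If A/I is generated as a k-algebra by
one element, then some element of I does not lie in M^2; that is, the finite closed subscheme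
defined by I lies on a smooth hypersurface germ (it is curvilinear). (The published statement is for
the local ring of a smooth surface at a closed point; only a Noetherian local algebra with residue
field k and embedding dimension at least 2 is assumed here, which is what the published argument
uses.) -/
theorem result (k : Type u) [Field k]
    (A : Type u) [CommRing A] [Algebra k A] [IsNoetherianRing A] [IsLocalRing A]
    (hres : Function.Surjective (algebraMap k (IsLocalRing.ResidueField A)))
    (hemb : 2 ≤ Module.finrank (IsLocalRing.ResidueField A) (IsLocalRing.CotangentSpace A))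
    (I : Ideal A) (hI : I ≠ ⊤) [Module.Finite k (A ⧸ I)]
    (f : A ⧸ I) (hf : Algebra.adjoin k {f} = ⊤) :
    ∃ g ∈ I, g ∉ IsLocalRing.maximalIdeal A ^ 2 := by
  classical
  by_contra hno
  push_neg at hno
  set m := IsLocalRing.maximalIdeal A
  obtain ⟨a, rfl⟩ := Ideal.Quotient.mk_surjective f
  obtain ⟨c, hc⟩ := hres (IsLocalRing.residue A a)
  let t := a - algebraMap k A c
  have ht : t ∈ m := by
    rw [← Ideal.Quotient.eq_zero_iff_mem]
    show IsLocalRing.residue A (a - algebraMap k A c) = 0
    rw [map_sub, ← hc, sub_eq_zero]
    rfl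
  have hgen : ∀ z : A ⧸ I, ∃ y ∈ Algebra.adjoin k {a}, Ideal.Quotient.mk I y = z := by
    intro z
    have hz : z ∈ Algebra.adjoin k {Ideal.Quotient.mkₐ k I a} := hf.symm ▸ Algebra.mem_top
    rw [← Set.image_singleton (f := Ideal.Quotient.mkₐ k I), ← AlgHom.map_adjoin] at hz
    exact hz
  have hlin : ∀ y ∈ Algebra.adjoin k {a}, ∃ α β : k, y - (algebraMap k A α + algebraMap k A β * t) ∈ m ^ 2 := by
    intro y hy
    induction hy using Algebra.adjoin_induction with
    | mem x hx =>
      rw [Set.mem_singleton_iff.1 hx]
      exact ⟨c, 1, by simp [t]⟩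
    | algebraMap r => exact ⟨r, 0, by simp⟩
    | add x y _ _ hx hy =>
      obtain ⟨α, β, h1⟩ := hx
      obtain ⟨α', β', h2⟩ := hy
      refine ⟨α + α', β + β', ?_⟩
      convert add_mem h1 h2 using 1
      simp only [map_add]
      ring
    | mul x y _ _ hx hy =>
      obtain ⟨α, β, h1⟩ := hx
      obtain ⟨α', β', h2⟩ := hy
      refine ⟨α * α', α * β' + β * α', ?_⟩
      have ht2 : t * t ∈ m ^ 2 := by rw [pow_two]; exact Ideal.mul_mem_mul ht ht
      have e : x * y - (algebraMap k A (α * α') + algebraMap k A (α * β' + β * α') * t) =
          (x - (algebraMap k A α + algebraMap k A β * t)) * y +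
          (algebraMap k A α + algebraMap k A β * t) * (y - (algebraMap k A α' + algebraMap k A β' * t)) +
          algebraMap k A (β * β') * (t * t) := by
        simp only [map_mul, map_add]
        ring
      rw [e]
      exact add_mem (add_mem (Ideal.mul_mem_right _ _ h1) (Ideal.mul_mem_left _ _ h2)) (Ideal.mul_mem_left _ _ ht2)
  have hspan : ∀ z : IsLocalRing.CotangentSpace A, ∃ r : IsLocalRing.ResidueField A, r • m.toCotangent ⟨t, ht⟩ = z := by
    intro z
    obtain ⟨⟨x, hx⟩, rfl⟩ := m.toCotangent_surjective z
    obtain ⟨y, hy, hyx⟩ := hgen (Ideal.Quotient.mk I x)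
    obtain ⟨α, β, h1⟩ := hlin y hy
    have hxy : x - y ∈ m ^ 2 := hno _ (Ideal.Quotient.eq.1 hyx.symm)
    have h2 : x - (algebraMap k A α + algebraMap k A β * t) ∈ m ^ 2 := by
      have := add_mem hxy h1
      rwa [sub_add_sub_cancel] at this
    have hα : α = 0 := by
      by_contra hα
      apply (IsLocalRing.maximalIdeal.isMaximal A).ne_top
      refine Ideal.eq_top_of_isUnit_mem _ ?_ ((IsUnit.mk0 α hα).map (algebraMap k A))
      have h3 := Ideal.pow_le_self (two_ne_zero) h2
      have h4 := sub_mem hx h3
      rw [sub_sub_cancel] at h4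
      exact (Ideal.add_mem_iff_left _ (Ideal.mul_mem_left _ _ ht)).1 h4
    subst hα
    refine ⟨IsLocalRing.residue A (algebraMap k A β), ?_⟩
    show algebraMap k A β • m.toCotangent ⟨t, ht⟩ = _
    rw [← map_smul, eq_comm, Ideal.toCotangent_eq]
    simpa [Algebra.smul_def] using h2
  have h1 : Module.finrank (IsLocalRing.ResidueField A) (IsLocalRing.CotangentSpace A) ≤ 1 :=
    finrank_le_one _ hspan
  omega

end Groth.Agent.S19438
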