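import Groth.Statements.S19439
import Mathlib
-- import your own Groth.Agent.* helpers here

set_option autoImplicit false
universe u
open CAlg

namespace Groth.Agent.S19439

/-- Affine form: for all n and N there is an integer d, that depends only on n and N, such that for
every algebraically closed field k and every ideal I of the polynomial ring in N variables over k
whose quotient has finite dimension n over k, the polynomials of total degree at most d map onto the
quotient. -/
theorem result (n N : ℕ) :
    ∃ d : ℕ, ∀ (k : Type u) [Field k] [IsAlgClosed k] (I : Ideal (MvPolynomial (Fin N) k))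
      [Module.Finite k (MvPolynomial (Fin N) k ⧸ I)],
      Module.finrank k (MvPolynomial (Fin N) k ⧸ I) = n →
      Submodule.map (Ideal.Quotient.mkₐ k I).toLinearMap (MvPolynomial.restrictTotalDegree (Fin N) k d) = ⊤ := by
  classical
  refine ⟨n, fun k _ _ I _ hn => ?_⟩
  let q := (Ideal.Quotient.mkₐ k I).toLinearMap
  let V : ℕ → Submodule k (MvPolynomial (Fin N) k ⧸ I) :=
    fun d => (MvPolynomial.restrictTotalDegree (Fin N) k d).map q
  have hmono : Monotone V := fun a b hab => Submodule.map_mono fun p hp => by
    rw [MvPolynomial.mem_restrictTotalDegree] at hp ⊢; exact hp.trans hab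
  obtain ⟨j, hjn, hj⟩ : ∃ j ≤ n, V (j + 1) = V j := by
    by_contra hcon
    push Not at hcon
    have : ∀ j, j ≤ n + 1 → j ≤ Module.finrank k (V j) := by
      intro j
      induction j with
      | zero => intro; exact Nat.zero_le _
      | succ j ih =>
        intro hj
        have h1 := ih (by omega)
        have h2 := Submodule.finrank_lt_finrank_of_lt
          (lt_of_le_of_ne (hmono j.le_succ) (Ne.symm (hcon j (by omega))))
        simp only [Nat.succ_eq_add_one] at *
        omega
    have h3 := this (n + 1) le_rfl
    have h4 := Submodule.finrank_le (V (n + 1))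
    omega
  have htop : ∀ p : MvPolynomial (Fin N) k, q p ∈ V j := by
    intro p
    induction p using MvPolynomial.induction_on with
    | C a => exact ⟨MvPolynomial.C a, by
        rw [SetLike.mem_coe, MvPolynomial.mem_restrictTotalDegree, MvPolynomial.totalDegree_C]; exact Nat.zero_le _, rfl⟩
    | add a b ha hb => rw [map_add]; exact add_mem ha hb
    | mul_X a i ha =>
      obtain ⟨r, hr, hra⟩ := ha
      rw [← hj]
      refine ⟨r * MvPolynomial.X i, ?_, ?_⟩
      · rw [SetLike.mem_coe, MvPolynomial.mem_restrictTotalDegree] at hr ⊢
        refine (MvPolynomial.totalDegree_mul _ _).trans ?_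
        rw [MvPolynomial.totalDegree_X]; omega
      · show Ideal.Quotient.mkₐ k I (r * MvPolynomial.X i) = Ideal.Quotient.mkₐ k I (a * MvPolynomial.X i)
        rw [map_mul, map_mul]; congr 1
  rw [eq_top_iff]
  rintro x -
  obtain ⟨p, rfl⟩ := Ideal.Quotient.mk_surjective x
  exact hmono hjn (htop p)

end Groth.Agent.S19439
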