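import Groth.Statements.S19443
-- import your own Groth.Agent.* helpers here

set_option autoImplicit false
universe u
open LinAlg

namespace Groth.Agent.S19443

/-- Algebraic form: let G be a finite group with order invertible in the field k, ρ a linear
representation of G on a k-vector space V, and ω a nondegenerate bilinear form on V invariant under
G. Then ω restricted to the fixed subspace V^G is nondegenerate (for a finite group of symplectic
automorphisms, the fixed subspace is a symplectic subspace). -/
theorem result (k : Type u) [Field k]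
    (G : Type u) [Group G] [Finite G] (hG : (Nat.card G : k) ≠ 0)
    (V : Type u) [AddCommGroup V] [Module k V] (ρ : Representation k G V)
    (ω : LinearMap.BilinForm k V) (hω : ω.Nondegenerate)
    (hinv : ∀ (g : G) (v w : V), ω (ρ g v) (ρ g w) = ω v w) :
    (ω.restrict ρ.invariants).Nondegenerate := by
  classical
  have := Fintype.ofFinite G
  have avg : ∀ (u : V), (∑ g : G, ρ g u) ∈ ρ.invariants := fun u h => by
    rw [map_sum]
    refine Fintype.sum_equiv (Equiv.mulLeft h) _ _ fun g => ?_
    rw [← Module.End.mul_apply, ← map_mul]; rfl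
  have hG' : (Fintype.card G : k) ≠ 0 := by rwa [← Nat.card_eq_fintype_card]
  refine ⟨fun v hv => ?_, fun v hv => ?_⟩
  · refine Subtype.ext (hω.1 _ fun u => ?_)
    have h0 : ω (v : V) (∑ g : G, ρ g u) = 0 := hv ⟨_, avg u⟩
    rw [map_sum] at h0
    have e : ∀ g : G, ω (v : V) (ρ g u) = ω (v : V) u := fun g => by
      conv_lhs => rw [← v.2 g]
      exact hinv g _ _
    simp only [e, Finset.sum_const, Finset.card_univ, nsmul_eq_mul] at h0
    exact (mul_eq_zero.mp h0).resolve_left hG'
  · refine Subtype.ext (hω.2 _ fun u => ?_)
    have h0 : ω (∑ g : G, ρ g u) (v : V) = 0 := hv ⟨_, avg u⟩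
    rw [map_sum, LinearMap.coe_sum, Finset.sum_apply] at h0
    have e : ∀ g : G, ω (ρ g u) (v : V) = ω u (v : V) := fun g => by
      conv_lhs => rw [← v.2 g]
      exact hinv g _ _
    simp only [e, Finset.sum_const, Finset.card_univ, nsmul_eq_mul] at h0
    exact (mul_eq_zero.mp h0).resolve_left hG'

end Groth.Agent.S19443
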