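import Groth.Statements.S19444


set_option autoImplicit false
universe u
open SymTen

namespace Groth.Agent.S19444

section Span
open scoped TensorProduct
variable (A : Type u) [CommRing A] (R : Type u) [CommRing R] [Algebra A R] (n : ℕ)

noncomputable abbrev pw (r : R) : ⨂[A] _ : Fin n, R := PiTensorProduct.tprod A (fun _ : Fin n => r)

lemma coeff_eq (f : Fin n → Fin n) :
    ∑ S ∈ (Finset.univ : Finset (Finset (Fin n))).filter (fun S => ∀ i, f i ∈ S),
      (-1 : ℤ) ^ (n - S.card) = if Function.Surjective f then 1 else 0 := by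
  classical
  have h1 : ∑ S ∈ (Finset.univ : Finset (Finset (Fin n))).filter (fun S => ∀ i, f i ∈ S),
      (-1 : ℤ) ^ (n - S.card) = ∑ U ∈ (Finset.univ.image f)ᶜ.powerset, (-1 : ℤ) ^ U.card := by
    refine Finset.sum_nbij' (fun S => Sᶜ) (fun U => Uᶜ) ?_ ?_ ?_ ?_ ?_
    · intro S hS
      replace hS := (Finset.mem_filter.1 hS).2
      simp only [Finset.mem_coe, Finset.mem_powerset]
      intro x hx
      simp only [Finset.mem_compl, Finset.mem_image, Finset.mem_univ, true_and] at hx ⊢
      rintro ⟨i, rfl⟩
      exact hx (hS i)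
    · intro U hU
      simp only [Finset.mem_coe, Finset.mem_powerset] at hU
      refine Finset.mem_filter.2 ⟨Finset.mem_univ _, fun i => Finset.mem_compl.2 fun hi => ?_⟩
      have := hU hi
      simp at this
    · intro S _; simp
    · intro U _; simp
    · intro S _; rw [Finset.card_compl, Fintype.card_fin]
  rw [h1, Finset.sum_powerset_neg_one_pow_card]
  refine if_congr ?_ rfl rfl
  rw [Finset.compl_eq_empty_iff, Finset.eq_univ_iff_forall]
  simp [Function.Surjective]

lemma coeff_eq' (f : Fin n → Fin n) :
    ∑ S ∈ (Finset.univ : Finset (Finset (Fin n))).filter (fun S => ∀ i, f i ∈ S),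
      (-1 : A) ^ (n - S.card) = if Function.Surjective f then 1 else 0 := by
  have h := congrArg (fun z : ℤ => (z : A)) (coeff_eq n f)
  push_cast at h
  exact h

lemma polarization (r : Fin n → R) :
    ∑ σ : Equiv.Perm (Fin n), SymTen.perm A R n σ (PiTensorProduct.tprod A r) =
      ∑ S : Finset (Fin n), ((-1 : A) ^ (n - S.card)) • pw A R n (∑ i ∈ S, r i) := by
  classical
  have hS : ∀ S : Finset (Fin n), pw A R n (∑ i ∈ S, r i) =
      ∑ f : Fin n → Fin n, if ∀ i, f i ∈ S then PiTensorProduct.tprod A (fun i => r (f i)) else 0 := by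
    intro S
    rw [← Finset.sum_filter]
    have h := MultilinearMap.map_sum_finset (PiTensorProduct.tprod A (s := fun _ : Fin n => R))
      (fun (_ : Fin n) (j : Fin n) => r j) (fun _ => S)
    simp only [pw]
    rw [h]
    refine Finset.sum_congr ?_ (fun _ _ => rfl)
    ext f
    simp [Fintype.mem_piFinset]
  simp only [hS, Finset.smul_sum, smul_ite, smul_zero]
  rw [Finset.sum_comm]
  simp only [← Finset.sum_filter, ← Finset.sum_smul, coeff_eq' A, ite_smul, one_smul, zero_smul]
  simp only [SymTen.perm_tprod]
  rw [← Equiv.sum_comp (Equiv.inv (Equiv.Perm (Fin n)))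
    (fun σ : Equiv.Perm (Fin n) => PiTensorProduct.tprod A (fun i => r (σ.symm i)))]
  refine Finset.sum_bij (fun σ _ => ⇑σ) ?_ ?_ ?_ ?_
  · intro σ _; simp [σ.surjective]
  · intro σ _ τ _ h; exact Equiv.ext (congrFun h)
  · intro f hf
    simp only [Finset.mem_filter, Finset.mem_univ, true_and] at hf
    exact ⟨Equiv.ofBijective f ⟨Finite.injective_iff_surjective.2 hf, hf⟩, Finset.mem_univ _, rfl⟩
  · intro σ _; rfl

lemma sum_perm_mem_span (t : ⨂[A] _ : Fin n, R) :
    ∑ σ : Equiv.Perm (Fin n), SymTen.perm A R n σ t ∈ Submodule.span A (Set.range (pw A R n)) := by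
  induction t using PiTensorProduct.induction_on with
  | smul_tprod a r =>
    simp only [map_smul, ← Finset.smul_sum, polarization]
    exact Submodule.smul_mem _ _ (Submodule.sum_mem _ fun S _ =>
      Submodule.smul_mem _ _ (Submodule.subset_span (Set.mem_range_self _)))
  | add x y hx hy =>
    simp only [map_add, Finset.sum_add_distrib]
    exact Submodule.add_mem _ hx hy

lemma mem_span_of_mem_TS (hfact : IsUnit ((Nat.factorial n : ℕ) : A))
    (t : ⨂[A] _ : Fin n, R) (ht : t ∈ SymTen.TS A R n) :
    t ∈ Submodule.span A (Set.range (pw A R n)) := by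
  classical
  obtain ⟨u, hu⟩ := hfact
  have h := sum_perm_mem_span A R n t
  have h2 : ∑ σ : Equiv.Perm (Fin n), SymTen.perm A R n σ t = ((u : A)) • t := by
    rw [hu, Finset.sum_congr rfl (fun σ _ => (SymTen.perm_apply A R n σ t).trans (ht σ)),
      Finset.sum_const, Finset.card_univ, Fintype.card_perm, Fintype.card_fin, Nat.cast_smul_eq_nsmul]
  rw [h2] at h
  simpa [smul_smul] using Submodule.smul_mem _ (↑u⁻¹ : A) h

variable [Module.Free A R] [Module.Finite A R]

lemma exists_lin [Nontrivial A] (hn : Module.finrank A R = n)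
    (hfact : IsUnit ((Nat.factorial n : ℕ) : A)) :
    ∃ φ : (⨂[A] _ : Fin n, R) →ₗ[A] A, ∀ r : R, φ (pw A R n r) = Algebra.norm A r := by
  classical
  let b : Module.Basis (Fin n) A R := (Module.finBasisOfFinrankEq A R hn)
  let M := Algebra.leftMulMatrix b
  let L : Fin n → (R →ₗ[A] (Fin n → A)) := fun i => (LinearMap.proj i) ∘ₗ M.toLinearMap
  let G : MultilinearMap A (fun _ : Fin n => R) A :=
    (Matrix.detRowAlternating (R := A) (n := Fin n)).toMultilinearMap.compLinearMap L
  let F : MultilinearMap A (fun _ : Fin n => R) A :=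
    ∑ σ : Equiv.Perm (Fin n), G.domDomCongr σ
  obtain ⟨u, hu⟩ := hfact
  refine ⟨(↑u⁻¹ : A) • PiTensorProduct.lift F, fun r => ?_⟩
  have hF : F (fun _ => r) = (n.factorial : A) * Algebra.norm A r := by
    have hG : G (fun _ => r) = Algebra.norm A r := by
      rw [Algebra.norm_eq_matrix_det b]
      rfl
    simp only [F, MultilinearMap.sum_apply, MultilinearMap.domDomCongr_apply]
    rw [Finset.sum_const, Finset.card_univ, Fintype.card_perm, Fintype.card_fin, hG, nsmul_eq_mul]
  simp only [pw, LinearMap.smul_apply, PiTensorProduct.lift.tprod, hF, smul_eq_mul, ← hu, Units.inv_mul_cancel_left]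

end Span

/-- Linearised norm: let A be a commutative ring in which n! is invertible and R a commutative
A-algebra, free of rank n as an A-module. There is a unique A-algebra homomorphism from the
symmetric tensors TS^n_A(R) to A taking r ⊗ ⋯ ⊗ r to the norm of r for every r in R. (The published
corollary is stated for any free algebra of rank n; the construction printed for it divides by n!,
and n! invertible is assumed here.) -/
theorem result (A : Type u) [CommRing A] (R : Type u) [CommRing R]
    [Algebra A R] [Module.Free A R] [Module.Finite A R] (n : ℕ) (hn : Module.finrank A R = n)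
    (hfact : IsUnit ((Nat.factorial n : ℕ) : A)) :
    ∃! φ : SymTen.TS A R n →ₐ[A] A, ∀ r : R, φ (SymTen.tpow A R n r) = Algebra.norm A r := by
  classical
  rcases subsingleton_or_nontrivial A with hA | hA
  · exact ⟨{ toFun := fun _ => 0
             map_one' := Subsingleton.elim _ _
             map_mul' := fun _ _ => Subsingleton.elim _ _
             map_zero' := Subsingleton.elim _ _
             map_add' := fun _ _ => Subsingleton.elim _ _
             commutes' := fun _ => Subsingleton.elim _ _ },
      fun _ => Subsingleton.elim _ _, fun _ _ => AlgHom.ext fun _ => Subsingleton.elim _ _⟩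
  obtain ⟨φ, hφ⟩ := exists_lin A R n hn hfact
  have hmul : ∀ x ∈ Submodule.span A (Set.range (pw A R n)),
      ∀ y ∈ Submodule.span A (Set.range (pw A R n)), φ (x * y) = φ x * φ y := by
    intro x hx y hy
    induction hx using Submodule.span_induction with
    | zero => simp
    | add a c _ _ ha hc => simp only [add_mul, map_add, ha, hc]
    | smul a c _ hc => simp only [smul_mul_assoc, map_smul, hc]
    | mem a ha =>
      obtain ⟨r, rfl⟩ := ha
      induction hy using Submodule.span_induction with
      | zero => simp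
      | add a c _ _ ha hc => simp only [mul_add, map_add, ha, hc]
      | smul a c _ hc => simp only [mul_smul_comm, map_smul, hc]
      | mem a ha =>
        obtain ⟨s, rfl⟩ := ha
        have h : pw A R n r * pw A R n s = pw A R n (r * s) :=
          (congrArg Subtype.val (map_mul (SymTen.tpow A R n) r s)).symm
        rw [h, hφ, hφ, hφ, map_mul]
  have hone : φ 1 = 1 := by
    have h : pw A R n 1 = 1 := congrArg Subtype.val (map_one (SymTen.tpow A R n))
    rw [← h, hφ, map_one]
  let Φ : SymTen.TS A R n →ₐ[A] A := AlgHom.ofLinearMap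
    (φ ∘ₗ (SymTen.TS A R n).val.toLinearMap) hone
    (fun x y => hmul _ (mem_span_of_mem_TS A R n hfact _ x.2) _ (mem_span_of_mem_TS A R n hfact _ y.2))
  refine ⟨Φ, fun r => hφ r, fun ψ hψ => AlgHom.ext fun t => ?_⟩
  have key : ∀ x ∈ Submodule.span A (Set.range (pw A R n)), ∃ hx : x ∈ SymTen.TS A R n,
      ψ ⟨x, hx⟩ = φ x := by
    intro x hx
    induction hx using Submodule.span_induction with
    | zero => exact ⟨zero_mem _, (map_zero ψ).trans (map_zero φ).symm⟩
    | add a c _ _ ha hc =>
      obtain ⟨ha1, ha2⟩ := ha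
      obtain ⟨hc1, hc2⟩ := hc
      refine ⟨add_mem ha1 hc1, ?_⟩
      rw [map_add, ← ha2, ← hc2, ← map_add]; rfl
    | smul a c _ hc =>
      obtain ⟨hc1, hc2⟩ := hc
      refine ⟨Subalgebra.smul_mem _ hc1 a, ?_⟩
      rw [map_smul, ← hc2, ← map_smul]; rfl
    | mem a ha =>
      obtain ⟨r, rfl⟩ := ha
      exact ⟨(SymTen.tpow A R n r).2, (hψ r).trans (hφ r).symm⟩
  obtain ⟨_, h⟩ := key t.1 (mem_span_of_mem_TS A R n hfact _ t.2)
  exact h

end Groth.Agent.S19444
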