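import Groth.Statements.S19445
import Groth.Agent.DepthLib.RegularInfSq
import Mathlib.Algebra.Algebra.Hom

set_option autoImplicit false
universe u
open CAlg

namespace Groth.Agent.S19445

/-- Local form: let k be a field and A a regular local k-algebra with maximal ideal M and residue field
k (k maps onto A/M); let a finite group G whose order is invertible in k act on A by k-algebra
automorphisms. Then A/J is a regular local ring, where J is the ideal generated by the elements g·a
− a (J defines the fixed-point subscheme, so the fixed locus of G is smooth at the point). The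
accompanying identification of its tangent space with the G-invariants of the tangent space of A is
not restated here. -/
theorem result (k : Type u) [Field k] (A : Type u) [CommRing A]
    [Algebra k A] [IsRegularLocalRing A]
    (hres : Function.Surjective (algebraMap k (IsLocalRing.ResidueField A)))
    (G : Type u) [Group G] [Finite G] [MulSemiringAction G A] [SMulCommClass G k A]
    (hG : (Nat.card G : k) ≠ 0) :
    IsRegularLocalRing (A ⧸ Ideal.span {x : A | ∃ (g : G) (a : A), x = g • a - a}) := by
  classical
  haveI := Fintype.ofFinite G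
  set M := IsLocalRing.maximalIdeal A
  set J := Ideal.span {x : A | ∃ (g : G) (a : A), x = g • a - a}
  have hJ : ∀ (g : G) (a : A), g • a - a ∈ J := fun g a => Ideal.subset_span ⟨g, a, rfl⟩
  have hunit : ∀ (g : G) (a : A), IsUnit (g • a) → IsUnit a := fun g a h => by
    simpa [MulSemiringAction.toRingHom_apply] using h.map (MulSemiringAction.toRingHom G A g⁻¹)
  have hstM : ∀ (g : G) (a : A), a ∈ M → g • a ∈ M := fun g a ha h => ha (hunit g a h)
  have hdec : ∀ a : A, ∃ c : k, a - algebraMap k A c ∈ M := fun a => by
    obtain ⟨c, hc⟩ := hres (IsLocalRing.residue A a)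
    refine ⟨c, ?_⟩
    rw [← IsLocalRing.residue_eq_zero_iff, map_sub, sub_eq_zero, ← hc]
    rfl
  have hJM : J ≤ M := Ideal.span_le.mpr (by
    rintro _ ⟨g, a, rfl⟩
    obtain ⟨c, hc⟩ := hdec a
    have : g • a - a = g • (a - algebraMap k A c) - (a - algebraMap k A c) := by
      rw [smul_sub, smul_algebraMap]; abel
    rw [this]
    exact sub_mem (hstM g _ hc) hc)
  have hstJ : ∀ (g : G) (y : A), y ∈ J → g • y ∈ J := fun g y hy => by
    simpa using add_mem (hJ g y) hy
  have hsum : ∀ y ∈ J, ∑ h : G, h • y ∈ M * J := by
    intro y hy
    induction hy using Submodule.span_induction with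
    | mem z hz =>
      obtain ⟨g, a, rfl⟩ := hz
      rw [show ∑ h : G, h • (g • a - a) = 0 from ?_]
      · exact zero_mem _
      simp only [smul_sub, smul_smul]
      rw [Finset.sum_sub_distrib, sub_eq_zero]
      exact Fintype.sum_equiv (Equiv.mulRight g) _ _ fun h => rfl
    | zero => simp
    | add a b _ _ ha hb => simpa [smul_add, Finset.sum_add_distrib] using add_mem ha hb
    | smul r z hz ih =>
      obtain ⟨c, hc⟩ := hdec r
      have : ∑ h : G, h • (r • z) = algebraMap k A c * ∑ h : G, h • z +
          ∑ h : G, (h • (r - algebraMap k A c)) * h • z := by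
        rw [Finset.mul_sum, ← Finset.sum_add_distrib]
        refine Finset.sum_congr rfl fun h _ => ?_
        rw [smul_eq_mul, smul_mul', smul_sub, smul_algebraMap]; ring
      rw [this]
      exact add_mem (Ideal.mul_mem_left _ _ ih)
        (Ideal.sum_mem _ fun h _ => Ideal.mul_mem_mul (hstM h _ hc) (hstJ h z hz))
  refine DepthLib.isRegularLocalRing_quotient_of_inf_sq_le _ A J rfl hJM ?_
  rintro x ⟨hxJ, hx2⟩
  have hdiff : ∀ h : G, x - h • x ∈ M * J := by
    intro h
    rw [SetLike.mem_coe, pow_two] at hx2
    refine Submodule.mul_induction_on hx2 (fun m hm n hn => ?_) (fun a b ha hb => ?_)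
    · rw [show m * n - h • (m * n) = (m - h • m) * n + h • m * (n - h • n) by rw [smul_mul']; ring]
      refine add_mem ?_ (Ideal.mul_mem_mul (hstM h m hm) (by simpa using neg_mem (hJ h n)))
      rw [mul_comm M J]
      exact Ideal.mul_mem_mul (by simpa using neg_mem (hJ h m)) hn
    · rw [smul_add, add_sub_add_comm]; exact add_mem ha hb
  have hN : (Fintype.card G : A) * x ∈ M * J := by
    have h1 := add_mem (Ideal.sum_mem _ (t := Finset.univ) fun h (_ : h ∈ Finset.univ) => hdiff h) (hsum x hxJ)
    rwa [← Finset.sum_add_distrib, Finset.sum_congr rfl (fun h _ => sub_add_cancel x (h • x)),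
      Finset.sum_const, Finset.card_univ, nsmul_eq_mul] at h1
  have hNu : IsUnit (Fintype.card G : A) := by
    rw [← map_natCast (algebraMap k A), ← Nat.card_eq_fintype_card]
    exact (Ne.isUnit hG).map _
  exact (Ideal.unit_mul_mem_iff_mem _ hNu).mp hN

end Groth.Agent.S19445
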