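import Groth.Statements.S19447
import Groth.Agent.GLinCST.LocalFree
import Groth.Agent.PP16Lib.RegularCompletion
import Groth.Agent.PP16Lib.CompletionEquiv
import Mathlib.RingTheory.MvPowerSeries.NoZeroDivisors


set_option autoImplicit false
universe u
open ConstAct

namespace Groth.Agent.S19447

/-- Let k be an algebraically closed field, A the power series ring in n variables over k with maximal
ideal M, and G a finite group of order invertible in k acting faithfully on A by k-algebra
automorphisms, A being finite over the ring of invariants A^G. Say g is a pseudo-reflection or acts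
trivially on the cotangent space when A modulo M^2 and the elements g·a − a has dimension at least n
over k. If G is generated by such elements, then A is flat over A^G and A^G is a regular local ring:
generation by pseudo-reflections implies the other two conditions of the published criterion (only
this sufficiency half is stated; the converse implication is not part of this statement). -/
theorem result (k : Type u) [Field k]
    [IsAlgClosed k] (n : ℕ) (G : Type u) [Group G] [Finite G] [MulSemiringAction G (MvPowerSeries (Fin n) k)]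
    [SMulCommClass G k (MvPowerSeries (Fin n) k)] [FaithfulSMul G (MvPowerSeries (Fin n) k)]
    (hG : (Nat.card G : k) ≠ 0)
    [Module.Finite (ConstAct.inv k (MvPowerSeries (Fin n) k) G) (MvPowerSeries (Fin n) k)]
    (hgen : Subgroup.closure {g : G | n ≤ Module.finrank k (MvPowerSeries (Fin n) k ⧸
        (Ideal.span {x : MvPowerSeries (Fin n) k | ∃ a, x = g • a - a} ⊔
          IsLocalRing.maximalIdeal (MvPowerSeries (Fin n) k) ^ 2))} = ⊤) :
    Module.Flat (ConstAct.inv k (MvPowerSeries (Fin n) k) G) (MvPowerSeries (Fin n) k) ∧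
      IsRegularLocalRing (ConstAct.inv k (MvPowerSeries (Fin n) k) G) := by
  classical
  haveI : IsRegularRing (MvPowerSeries (Fin n) k) := PP16Lib.isRegularRing_mvPowerSeries n
  haveI : IsRegularLocalRing (MvPowerSeries (Fin n) k) := IsRegularLocalRing.of_isRegularRing_of_isLocalRing _
  haveI : IsDomain (MvPowerSeries (Fin n) k) := NoZeroDivisors.to_isDomain _
  set M := IsLocalRing.maximalIdeal (MvPowerSeries (Fin n) k) with hM
  have hmem : ∀ x : MvPowerSeries (Fin n) k, x ∈ M ↔ MvPowerSeries.constantCoeff x = 0 := fun x => by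
    rw [hM, IsLocalRing.mem_maximalIdeal, mem_nonunits_iff, MvPowerSeries.isUnit_iff_constantCoeff,
      isUnit_iff_ne_zero, not_not]
  have hres : ∀ a : MvPowerSeries (Fin n) k, ∃ c : k, a - algebraMap k (MvPowerSeries (Fin n) k) c ∈ M :=
    fun a => ⟨MvPowerSeries.constantCoeff a, by simp [hmem, MvPowerSeries.algebraMap_apply]⟩
  let V := MvPowerSeries (Fin n) k ⧸ M ^ 2
  let mk : MvPowerSeries (Fin n) k →ₗ[k] V := (Ideal.Quotient.mkₐ k (M ^ 2)).toLinearMap
  let gens : Finset V := insert (mk 1) (Finset.univ.image fun i => mk (MvPowerSeries.X i))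
  have hV : Submodule.span k (↑gens : Set V) = ⊤ := by
    refine eq_top_iff.2 fun v _ => ?_
    obtain ⟨a, rfl⟩ : ∃ a, mk a = v := Ideal.Quotient.mkₐ_surjective k _ v
    obtain ⟨c, hc⟩ := hres a
    have hspan : a - algebraMap k _ c ∈ Ideal.span (Set.range (MvPowerSeries.X : Fin n → MvPowerSeries (Fin n) k)) :=
      PP16Lib.ker_constantCoeff n k _ ((hmem _).1 hc)
    obtain ⟨b, hb⟩ := (Submodule.mem_span_range_iff_exists_fun _).1 hspan
    choose e he using fun i => hres (b i)
    have key : mk a = c • mk 1 + ∑ i, e i • mk (MvPowerSeries.X i) := by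
      simp only [← map_smul, ← map_sum, ← map_add]
      refine Ideal.Quotient.eq.2 ?_
      rw [show a = algebraMap k _ c + ∑ i, b i • MvPowerSeries.X i by rw [hb]; ring,
        Algebra.smul_def c, mul_one, add_sub_add_left_eq_sub, ← Finset.sum_sub_distrib]
      refine Submodule.sum_mem _ fun i _ => ?_
      rw [smul_eq_mul, Algebra.smul_def, ← sub_mul, pow_two]
      exact Ideal.mul_mem_mul (he i) ((hmem _).2 (MvPowerSeries.constantCoeff_X i))
    rw [key]
    refine add_mem (Submodule.smul_mem _ _ (Submodule.subset_span (Finset.mem_insert_self _ _))) ?_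
    exact Submodule.sum_mem _ fun i _ => Submodule.smul_mem _ _
      (Submodule.subset_span (Finset.mem_insert_of_mem (Finset.mem_image_of_mem _ (Finset.mem_univ i))))
  haveI : Module.Finite k V := ⟨⟨gens, hV⟩⟩
  have hdimV : Module.finrank k V ≤ n + 1 := by
    rw [← finrank_top k V, ← hV]
    exact (finrank_span_finset_le_card gens).trans ((Finset.card_insert_le _ _).trans
      (Nat.succ_le_succ (Finset.card_image_le.trans (by simp))))
  have hrefl : ∀ g ∈ {g : G | n ≤ Module.finrank k (MvPowerSeries (Fin n) k ⧸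
      (Ideal.span {x : MvPowerSeries (Fin n) k | ∃ a, x = g • a - a} ⊔ M ^ 2))},
      ∃ l : MvPowerSeries (Fin n) k, l ∈ M ∧ ∀ a : MvPowerSeries (Fin n) k, ∃ D : MvPowerSeries (Fin n) k, g • a - a = l * D := by
    intro g hg
    set I := Ideal.span {x : MvPowerSeries (Fin n) k | ∃ a, x = g • a - a}
    let π : V →ₐ[k] MvPowerSeries (Fin n) k ⧸ (I ⊔ M ^ 2) := Ideal.Quotient.factorₐ k le_sup_right
    have hπ : Function.Surjective π.toLinearMap := fun w => by
      obtain ⟨a, rfl⟩ := Ideal.Quotient.mkₐ_surjective k (I ⊔ M ^ 2) w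
      exact ⟨mk a, rfl⟩
    let T : MvPowerSeries (Fin n) k →ₗ[k] V :=
      mk ∘ₗ ((MulSemiringAction.toAlgHom k (MvPowerSeries (Fin n) k) g).toLinearMap - LinearMap.id)
    have hT : ∀ a, T a = mk (g • a - a) := fun a => rfl
    have hle : LinearMap.range T ≤ LinearMap.ker π.toLinearMap := by
      rintro _ ⟨a, rfl⟩
      rw [LinearMap.mem_ker, hT]
      change Ideal.Quotient.mk (I ⊔ M ^ 2) (g • a - a) = 0
      exact Ideal.Quotient.eq_zero_iff_mem.2 (Submodule.mem_sup_left (Ideal.subset_span ⟨a, rfl⟩))
    have hrk : Module.finrank k (LinearMap.range T) ≤ 1 := by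
      refine (Submodule.finrank_mono hle).trans ?_
      have h := π.toLinearMap.finrank_range_add_finrank_ker
      rw [LinearMap.range_eq_top.2 hπ, finrank_top] at h
      have hg' : n ≤ Module.finrank k (MvPowerSeries (Fin n) k ⧸ (I ⊔ M ^ 2)) := hg
      omega
    obtain ⟨⟨v, a₁, hv⟩, hall⟩ := finrank_le_one_iff.1 hrk
    obtain ⟨c₁, hc₁⟩ := hres a₁
    haveI := Fintype.ofFinite G
    obtain ⟨d', hd'⟩ := orderOf_dvd_natCard g
    refine GLinCST.exists_reflection_generator (k := k) hres (d := orderOf g) (pow_orderOf_eq_one g)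
      (fun h0 => hG (by rw [hd', Nat.cast_mul, h0, zero_mul])) hc₁ fun a _ => ?_
    obtain ⟨c, hc⟩ := hall ⟨T a, LinearMap.mem_range_self T a⟩
    refine ⟨c, Ideal.Quotient.eq.1 ?_⟩
    have e : g • (a₁ - algebraMap k _ c₁) - (a₁ - algebraMap k _ c₁) = g • a₁ - a₁ := by
      rw [smul_sub, smul_algebraMap]; ring
    rw [e]
    change mk (g • a - a) = mk (c • (g • a₁ - a₁))
    rw [map_smul, ← hT, ← hT, hv]
    exact (congrArg Subtype.val hc).symm
  haveI := GLinCST.free_inv hres hG hgen hrefl
  exact ⟨inferInstance, GLinCST.isRegularLocalRing_inv⟩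

end Groth.Agent.S19447
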