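import Groth.Statements.S19448
import Mathlib
-- import your own Groth.Agent.* helpers here

set_option autoImplicit false
universe u
open CAlg

namespace Groth.Agent.S19448

/-- Let k be a field, A a Noetherian local k-algebra with maximal ideal M and residue field k, and G a
finite group with |G| ≠ 0 in k acting on A by k-algebra automorphisms. An element of G which acts
trivially on M/M^2 acts trivially on A; in other words the stabilizer acts faithfully on the
cotangent space whenever it acts faithfully on the local ring. -/
theorem result (k : Type u) [Field k] (A : Type u) [CommRing A]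
    [Algebra k A] [IsLocalRing A] [IsNoetherianRing A]
    (hres : Function.Surjective (algebraMap k (IsLocalRing.ResidueField A)))
    (G : Type u) [Group G] [Finite G] [MulSemiringAction G A] [SMulCommClass G k A]
    (hG : (Nat.card G : k) ≠ 0) (g : G)
    (hg : ∀ a ∈ IsLocalRing.maximalIdeal A, g • a - a ∈ IsLocalRing.maximalIdeal A ^ 2) (a : A) :
    g • a = a := by
  classical
  set 𝔪 := IsLocalRing.maximalIdeal A with h𝔪
  have hbase : ∀ x : A, g • x - x ∈ 𝔪 ^ 2 := by
    intro x
    obtain ⟨c, hc⟩ := hres (IsLocalRing.residue A x)
    have hx : x - algebraMap k A c ∈ 𝔪 := by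
      rw [h𝔪, ← IsLocalRing.residue_eq_zero_iff, map_sub, ← hc, sub_eq_zero]
      rfl
    have h1 : g • algebraMap k A c = algebraMap k A c := by
      rw [Algebra.algebraMap_eq_smul_one, smul_comm, smul_one]
    have := hg _ hx
    rwa [smul_sub, h1, sub_sub_sub_cancel_right] at this
  have hd : ∀ n : ℕ, ∀ x ∈ 𝔪 ^ n, g • x - x ∈ 𝔪 ^ (n + 1) := by
    intro n
    induction n with
    | zero => intro x _; exact Ideal.pow_le_pow_right (by norm_num) (hbase x)
    | succ n ih =>
      intro x hx
      rw [pow_succ] at hx
      refine Submodule.mul_induction_on hx ?_ ?_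
      · intro y hy z hz
        have hgz : g • z ∈ 𝔪 := by
          have := add_mem (Ideal.pow_le_self two_ne_zero (hg z hz)) hz
          simpa using this
        have he : g • (y * z) - y * z = (g • y - y) * (g • z) + y * (g • z - z) := by
          rw [smul_mul']; ring
        rw [he]
        refine add_mem ?_ ?_
        · rw [pow_succ _ (n + 1)]; exact Ideal.mul_mem_mul (ih y hy) hgz
        · rw [show n + 1 + 1 = n + 2 by rfl, pow_add]; exact Ideal.mul_mem_mul hy (hg z hz)
      · intro y z hy hz
        have he : g • (y + z) - (y + z) = (g • y - y) + (g • z - z) := by rw [smul_add]; ring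
        rw [he]
        exact add_mem hy hz
  have hunit : IsUnit ((Nat.card G : A)) := by
    rw [← map_natCast (algebraMap k A)]
    exact (IsUnit.mk0 _ hG).map _
  have hall : ∀ n : ℕ, g • a - a ∈ 𝔪 ^ n := by
    intro n
    induction n with
    | zero => simp
    | succ n ih =>
      set δ := g • a - a with hδ
      have hstep : ∀ j : ℕ, g ^ j • a - a - (j : A) * δ ∈ 𝔪 ^ (n + 1) := by
        intro j
        induction j with
        | zero => simp
        | succ j ihj =>
          have hgmem : ∀ x ∈ 𝔪 ^ (n + 1), g • x ∈ 𝔪 ^ (n + 1) := fun x hx => by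
            have := add_mem (Ideal.pow_le_pow_right (Nat.le_succ (n + 1)) (hd _ x hx)) hx
            simpa using this
          have hcast : g • (j : A) = (j : A) := map_natCast (MulSemiringAction.toRingHom G A g) j
          have he : g ^ (j + 1) • a - a - ((j + 1 : ℕ) : A) * δ =
              g • (g ^ j • a - a - (j : A) * δ) + (j : A) * (g • δ - δ) := by
            have e1 : g • (g ^ j • a) = g ^ (j + 1) • a := by rw [pow_succ', mul_smul]
            simp only [smul_sub, smul_mul', hcast, Nat.cast_succ, e1]
            simp only [hδ, smul_sub]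
            ring
          rw [he]
          exact add_mem (hgmem _ ihj) (Ideal.mul_mem_left _ _ (hd n δ ih))
      have := hstep (Nat.card G)
      rw [pow_card_eq_one', one_smul, sub_self, zero_sub, neg_mem_iff] at this
      exact (Ideal.unit_mul_mem_iff_mem _ hunit).1 this
  have : g • a - a ∈ ⨅ n : ℕ, 𝔪 ^ n := (Ideal.mem_iInf).2 hall
  rw [Ideal.iInf_pow_eq_bot_of_isLocalRing 𝔪 (IsLocalRing.maximalIdeal.isMaximal A).ne_top, Ideal.mem_bot, sub_eq_zero] at this
  exact this

end Groth.Agent.S19448
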