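import Groth.Statements.S19449
import Mathlib.RingTheory.MvPolynomial.Basic
import Mathlib.LinearAlgebra.Matrix.Determinant.Basic
import Mathlib.Order.Fin.Basic

set_option autoImplicit false
universe u
open SymRep

namespace Groth.Agent.S19449

open MvPolynomial

variable {k : Type u} [Field k] {n : ℕ}

/-- exponent vector of a tuple of pairs -/
noncomputable def expo (p : Fin n → ℕ × ℕ) : Fin n × Fin 2 →₀ ℕ :=
  Finsupp.equivFunOnFinite.symm fun v => if v.2 = 0 then (p v.1).1 else (p v.1).2

lemma expo_injective : Function.Injective (expo (n := n)) := by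
  intro p q h
  funext i
  exact Prod.ext (by simpa [expo] using DFunLike.congr_fun h (i, 0))
    (by simpa [expo] using DFunLike.congr_fun h (i, 1))

lemma expo_surjective : Function.Surjective (expo (n := n)) := by
  intro d
  refine ⟨fun i => (d (i, 0), d (i, 1)), ?_⟩
  ext ⟨i, c⟩
  fin_cases c <;> simp [expo]

lemma prod_eq_monomial (p : Fin n → ℕ × ℕ) :
    ∏ i : Fin n, (X (i, (0 : Fin 2)) : MvPolynomial (Fin n × Fin 2) k) ^ (p i).1 * X (i, 1) ^ (p i).2 =
      monomial (expo p) 1 := by
  rw [monomial_eq, C_1, one_mul, Finsupp.prod_fintype _ _ (by simp), Fintype.prod_prod_type]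
  refine Finset.prod_congr rfl fun i _ => ?_
  rw [Fin.prod_univ_two]
  simp [expo]

noncomputable def alt (p : Fin n → ℕ × ℕ) : MvPolynomial (Fin n × Fin 2) k :=
  (Matrix.of fun i j : Fin n =>
    (X (i, 0) : MvPolynomial (Fin n × Fin 2) k) ^ (p j).1 * X (i, 1) ^ (p j).2).det

noncomputable def act (σ : Equiv.Perm (Fin n)) : MvPolynomial (Fin n × Fin 2) k →ₐ[k] MvPolynomial (Fin n × Fin 2) k :=
  rename (fun v : Fin n × Fin 2 => (σ v.1, v.2))

lemma alt_eq (p : Fin n → ℕ × ℕ) :
    alt (k := k) p = ∑ σ : Equiv.Perm (Fin n), ((Equiv.Perm.sign σ : ℤˣ) : ℤ) • monomial (expo (p ∘ σ.symm)) 1 := by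
  rw [alt, Matrix.det_apply]
  refine Finset.sum_congr rfl fun σ _ => ?_
  rw [Units.smul_def, ← prod_eq_monomial]
  congr 1
  exact (Fintype.prod_equiv σ _ _ fun i => by simp)

lemma act_monomial (σ : Equiv.Perm (Fin n)) (p : Fin n → ℕ × ℕ) :
    act (k := k) σ (monomial (expo p) 1) = monomial (expo (p ∘ σ.symm)) 1 := by
  rw [← prod_eq_monomial, ← prod_eq_monomial, map_prod]
  exact (Fintype.prod_equiv σ _ _ fun i => by simp [act])

lemma act_alt (σ : Equiv.Perm (Fin n)) (p : Fin n → ℕ × ℕ) :
    act (k := k) σ (alt p) = ((Equiv.Perm.sign σ : ℤˣ) : ℤ) • alt p := by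
  rw [alt, AlgHom.map_det, zsmul_eq_mul, ← Matrix.det_permute σ]
  congr 1
  ext i j
  simp [act]


/-- Over a field k of characteristic zero, let the symmetric group S_n act on the polynomial ring in the
2n variables x_i, y_i (i < n; the variable (i, 0) is x_i and (i, 1) is y_i) by permuting the index
i, and for an n-tuple p of pairs (p_j, q_j) of exponents let Δ_p be the determinant det(x_i^{p_j}
y_i^{q_j}). A polynomial is alternating — each permutation acts on it by its sign — exactly when it
is a k-linear combination of the Δ_p; and the Δ_p for p strictly increasing in the lexicographic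
order on pairs (one for each n-element set of exponent pairs) are linearly independent. Hence these
Δ_p form a basis of the space of alternating polynomials. -/
theorem result (k : Type u) [Field k] [CharZero k] (n : ℕ) :
    (∀ f : MvPolynomial (Fin n × Fin 2) k,
      (∀ σ : Equiv.Perm (Fin n),
          MvPolynomial.rename (fun v : Fin n × Fin 2 => (σ v.1, v.2)) f = ((Equiv.Perm.sign σ : ℤˣ) : ℤ) • f) ↔
        f ∈ Submodule.span k (Set.range fun p : Fin n → ℕ × ℕ =>
          (Matrix.of fun i j : Fin n =>
            (MvPolynomial.X (i, 0) : MvPolynomial (Fin n × Fin 2) k) ^ (p j).1 * MvPolynomial.X (i, 1) ^ (p j).2).det)) ∧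
    LinearIndependent k (fun p : {p : Fin n → ℕ ×ₗ ℕ // StrictMono p} =>
      (Matrix.of fun i j : Fin n =>
        (MvPolynomial.X (i, 0) : MvPolynomial (Fin n × Fin 2) k) ^ (ofLex (p.1 j)).1 *
          MvPolynomial.X (i, 1) ^ (ofLex (p.1 j)).2).det) := by
  classical
  refine ⟨fun f => ⟨fun hf => ?_, fun hf σ => ?_⟩, ?_⟩
  · show f ∈ Submodule.span k (Set.range (alt (k := k)))
    let Φ : MvPolynomial (Fin n × Fin 2) k →ₗ[k] MvPolynomial (Fin n × Fin 2) k :=
      ∑ σ : Equiv.Perm (Fin n), ((Equiv.Perm.sign σ : ℤˣ) : ℤ) • (act (k := k) σ).toLinearMap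
    have hΦ : ∀ x, Φ x = ∑ σ : Equiv.Perm (Fin n), ((Equiv.Perm.sign σ : ℤˣ) : ℤ) • act (k := k) σ x := by
      intro x
      simp [Φ, LinearMap.sum_apply]
    have hΦmem : ∀ x, Φ x ∈ Submodule.span k (Set.range (alt (k := k))) := by
      intro x
      induction x using MvPolynomial.induction_on' with
      | monomial d c =>
        obtain ⟨p, rfl⟩ := expo_surjective d
        have : (monomial (expo p) c : MvPolynomial (Fin n × Fin 2) k) = c • monomial (expo p) 1 := by
          rw [smul_monomial, smul_eq_mul, mul_one]
        rw [this, map_smul, hΦ]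
        simp only [act_monomial, ← alt_eq]
        exact Submodule.smul_mem _ _ (Submodule.subset_span ⟨p, rfl⟩)
      | add a b ha hb => rw [map_add]; exact add_mem ha hb
    have hfac : Φ f = (Fintype.card (Equiv.Perm (Fin n)) : k) • f := by
      rw [hΦ]
      rw [Finset.sum_congr rfl (g := fun _ => f) fun σ _ => by
        rw [show act σ f = _ from hf σ, smul_smul, ← Units.val_mul, Int.units_mul_self, Units.val_one, one_smul]]
      rw [Finset.sum_const, Finset.card_univ, Nat.cast_smul_eq_nsmul]
    have := Submodule.smul_mem _ ((Fintype.card (Equiv.Perm (Fin n)) : k)⁻¹) (hfac ▸ hΦmem f)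
    rwa [inv_smul_smul₀ (Nat.cast_ne_zero.mpr Fintype.card_ne_zero)] at this
  · change f ∈ Submodule.span k (Set.range (alt (k := k))) at hf
    show act σ f = _
    induction hf using Submodule.span_induction with
    | mem x hx => obtain ⟨p, rfl⟩ := hx; exact act_alt σ p
    | zero => simp
    | add a b _ _ ha hb => rw [map_add, ha, hb, smul_add]
    | smul c a _ ha => rw [map_smul, ha, smul_comm]
  · show LinearIndependent k (fun p : {p : Fin n → ℕ ×ₗ ℕ // StrictMono p} => alt (k := k) (fun j => ofLex (p.1 j)))
    rw [linearIndependent_iff']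
    intro s g hg p₀ hp₀
    have h := congrArg (MvPolynomial.coeff (expo fun j => ofLex (p₀.1 j))) hg
    rw [coeff_zero, coeff_sum, Finset.sum_eq_single p₀] at h
    · rw [coeff_smul, alt_eq, coeff_sum, Finset.sum_eq_single (1 : Equiv.Perm (Fin n))] at h
      · simpa [Equiv.Perm.one_def, Function.comp_def] using h
      · intro σ _ hσ
        rw [coeff_smul, coeff_monomial, if_neg, smul_zero]
        intro he
        apply hσ
        have := expo_injective he
        refine Equiv.ext fun i => ?_
        have h1 := congrFun this (σ i)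
        simp only [Function.comp_apply, Equiv.symm_apply_apply, EmbeddingLike.apply_eq_iff_eq] at h1
        rw [Equiv.Perm.one_apply]
        exact (p₀.2.injective h1).symm
      · simp
    · intro p _ hp
      rw [coeff_smul, alt_eq, coeff_sum, Finset.sum_eq_zero, smul_zero]
      intro σ _
      rw [coeff_smul, coeff_monomial, if_neg, smul_zero]
      intro he
      apply hp
      have := expo_injective he
      have h1 : p.1 ∘ σ.symm = p₀.1 := funext fun i => ofLex.injective (congrFun this i)
      have hmono : StrictMono σ.symm := fun a b hab => by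
        have := p₀.2 hab
        rw [← h1] at this
        exact p.2.lt_iff_lt.mp this
      have hid : (σ.symm : Fin n → Fin n) = id := by
        let e : Fin n ≃o Fin n := StrictMono.orderIsoOfSurjective _ hmono σ.symm.surjective
        have : e = OrderIso.refl _ := Subsingleton.elim _ _
        exact funext fun i => congrArg (fun e : Fin n ≃o Fin n => e i) this
      rw [hid, Function.comp_id] at h1
      exact Subtype.ext h1
    · intro h'; exact absurd hp₀ h' 

end Groth.Agent.S19449
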