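import Groth.Statements.S19452
import Mathlib
-- import your own Groth.Agent.* helpers here

set_option autoImplicit false
universe u
attribute [local instance] W4c6puncthilbintro.dualAlgebra
open HilbD

namespace Groth.Agent.S19452

open scoped DualNumber in
/-- A module over the dual numbers built as a self-extension of a flat module is flat. -/
lemma flat_of_selfExtension {A : Type u} [CommRing A] {M N : Type u} [AddCommGroup M]
    [Module (DualNumber A) M] [AddCommGroup N] [Module A N] [Module.Flat A N]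
    (π : M →+ N) (hπ : Function.Surjective π) (ι : N →+ M) (hι : Function.Injective ι)
    (hker : ∀ m, π m = 0 → ∃ z, m = ι z)
    (hsmul : ∀ (f : DualNumber A) (m : M), π (f • m) = TrivSqZeroExt.fst f • π m)
    (hιs : ∀ (f : DualNumber A) (z : N), f • ι z = ι (TrivSqZeroExt.fst f • z))
    (heps : ∀ m : M, (DualNumber.eps : DualNumber A) • m = ι (π m)) :
    Module.Flat (DualNumber A) M := by
  classical
  have hdec : ∀ (f : DualNumber A) (m : M),
      f • m = (TrivSqZeroExt.inl (TrivSqZeroExt.fst f) : DualNumber A) • m +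
        ι (TrivSqZeroExt.snd f • π m) := by
    intro f m
    have h1 : ι (TrivSqZeroExt.snd f • π m) =
        (TrivSqZeroExt.inr (TrivSqZeroExt.snd f) : DualNumber A) • m := by
      have := hιs (TrivSqZeroExt.inl (TrivSqZeroExt.snd f)) (π m)
      rw [TrivSqZeroExt.fst_inl, ← heps, smul_smul] at this
      rw [← this]
      congr 1
      refine TrivSqZeroExt.ext ?_ ?_ <;> simp
    rw [h1, ← add_smul, TrivSqZeroExt.inl_fst_add_inr_snd_eq]
  rw [Module.Flat.iff_forall_isTrivialRelation]
  intro l f x hfx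
  have h1 : ∑ i, TrivSqZeroExt.fst (f i) • π (x i) = 0 := by
    simpa [map_sum, hsmul] using congr_arg π hfx
  obtain ⟨k, c, y, hy, hc⟩ := Module.Flat.isTrivialRelation_of_sum_smul_eq_zero h1
  choose Y hY using fun j => hπ (y j)
  choose z hz using fun i => hker (x i - ∑ j, (TrivSqZeroExt.inl (c i j) : DualNumber A) • Y j)
    (by simp [map_sum, hsmul, hY, hy i])
  have hx : ∀ i, x i = (∑ j, (TrivSqZeroExt.inl (c i j) : DualNumber A) • Y j) + ι (z i) :=
    fun i => by rw [← hz i]; abel
  let d : Fin k → A := fun j => ∑ i, TrivSqZeroExt.snd (f i) * c i j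
  have h2 : ∑ j, d j • y j + ∑ i, TrivSqZeroExt.fst (f i) • z i = 0 := by
    apply hι
    rw [map_zero, map_add, map_sum, map_sum]
    calc ∑ j, ι (d j • y j) + ∑ i, ι (TrivSqZeroExt.fst (f i) • z i)
        = ∑ i, f i • x i := by
          simp only [hx, smul_add, Finset.smul_sum, smul_smul, Finset.sum_add_distrib, hιs]
          congr 1
          rw [Finset.sum_comm]
          refine Finset.sum_congr rfl fun j _ => ?_
          rw [← Finset.sum_smul, hdec, hY]
          have e1 : TrivSqZeroExt.fst (∑ i, f i * TrivSqZeroExt.inl (c i j)) = 0 := by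
            simpa [TrivSqZeroExt.fst_sum] using hc j
          have e2 : TrivSqZeroExt.snd (∑ i, f i * TrivSqZeroExt.inl (c i j)) = d j := by
            simp [TrivSqZeroExt.snd_sum, d]
          rw [e1, e2, TrivSqZeroExt.inl_zero, zero_smul, zero_add]
      _ = 0 := hfx
  have h3 : ∑ s : Fin k ⊕ Fin l, Sum.elim d (fun i => TrivSqZeroExt.fst (f i)) s •
      Sum.elim y z s = 0 := by simpa [Fintype.sum_sum_type] using h2
  obtain ⟨K, a, w, hw, ha⟩ := Module.Flat.isTrivialRelation_of_sum_smul_eq_zero h3
  choose W hW using fun t => hπ (w t)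
  choose e he using fun j => hker (Y j - ∑ t, (TrivSqZeroExt.inl (a (Sum.inl j) t) : DualNumber A) • W t)
    (by
      have := hw (Sum.inl j)
      simp only [Sum.elim_inl] at this
      simp [map_sum, hsmul, hW, hY, this])
  choose E hE using fun j => hπ (e j)
  let C : Fin l → Fin K ⊕ Fin k → DualNumber A := fun i =>
    Sum.elim (fun t => TrivSqZeroExt.inl (∑ j, c i j * a (Sum.inl j) t) +
      TrivSqZeroExt.inr (a (Sum.inr i) t)) (fun j => TrivSqZeroExt.inr (c i j))
  have hx' : ∀ i, x i = ∑ s, C i s • Sum.elim W E s := by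
    intro i
    rw [Fintype.sum_sum_type, hx i]
    simp only [C, Sum.elim_inl, Sum.elim_inr]
    have p1 : ∀ j, Y j = ∑ t, (TrivSqZeroExt.inl (a (Sum.inl j) t) : DualNumber A) • W t + ι (e j) :=
      fun j => by rw [← he j]; abel
    have p2 : ι (z i) = ∑ t, (TrivSqZeroExt.inr (a (Sum.inr i) t) : DualNumber A) • W t := by
      have := hw (Sum.inr i)
      simp only [Sum.elim_inr] at this
      rw [this, map_sum]
      refine Finset.sum_congr rfl fun t _ => ?_
      rw [hdec, hW]
      simp
    have p3 : ∀ j, (TrivSqZeroExt.inl (c i j) : DualNumber A) • ι (e j) =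
        (TrivSqZeroExt.inr (c i j) : DualNumber A) • E j := fun j => by
      rw [hιs, hdec (TrivSqZeroExt.inr _), hE]
      simp
    simp only [p1, smul_add, Finset.smul_sum, smul_smul, ← TrivSqZeroExt.inl_mul, p2, p3, add_smul,
      Finset.sum_add_distrib]
    rw [Finset.sum_comm]
    simp only [← Finset.sum_smul, ← TrivSqZeroExt.inl_sum]
    abel
  have hC : ∀ s, ∑ i, f i * C i s = 0 := by
    rintro (t | j)
    · refine TrivSqZeroExt.ext ?_ ?_
      · simp only [C, Sum.elim_inl, TrivSqZeroExt.fst_sum, TrivSqZeroExt.fst_zero,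
          TrivSqZeroExt.fst_mul, TrivSqZeroExt.fst_add, TrivSqZeroExt.fst_inl,
          TrivSqZeroExt.fst_inr, add_zero, Finset.mul_sum, ← mul_assoc]
        rw [Finset.sum_comm]
        simp [← Finset.sum_mul, hc]
      · have := ha t
        simp only [Fintype.sum_sum_type, Sum.elim_inl, Sum.elim_inr, d, Finset.sum_mul] at this
        simp only [C, Sum.elim_inl, TrivSqZeroExt.snd_sum, TrivSqZeroExt.snd_zero, DualNumber.snd_mul,
          TrivSqZeroExt.fst_add, TrivSqZeroExt.fst_inl, TrivSqZeroExt.fst_inr,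
          TrivSqZeroExt.snd_add, TrivSqZeroExt.snd_inl, TrivSqZeroExt.snd_inr, add_zero, zero_add,
          Finset.sum_add_distrib, Finset.mul_sum]
        rw [← this, add_comm]
        congr 1
        rw [Finset.sum_comm]
        simp only [mul_assoc]
    · refine TrivSqZeroExt.ext ?_ ?_
      · simp [C, TrivSqZeroExt.fst_sum]
      · simp only [C, Sum.elim_inr, TrivSqZeroExt.snd_sum, TrivSqZeroExt.snd_zero, DualNumber.snd_mul,
          TrivSqZeroExt.fst_inr, TrivSqZeroExt.snd_inr, mul_zero, add_zero]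
        exact hc j
  exact ⟨K + k, fun i => C i ∘ finSumFinEquiv.symm, Sum.elim W E ∘ finSumFinEquiv.symm,
    fun i => by rw [hx' i]; exact (finSumFinEquiv.symm.sum_comp (fun s => C i s • Sum.elim W E s)).symm,
    fun s => hC _⟩


/-- Let A be a commutative ring, R a commutative A-algebra free as an A-module, I an ideal of R with R/I
flat over A, and view the dual numbers R[ε] as an algebra over A[ε] (ε ↦ ε). For φ : I → R/I linear
over R, let J_φ be the ideal of elements a + bε of R[ε] with a ∈ I and b ≡ φ(a) modulo I. Then each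
R[ε]/J_φ is flat over A[ε] and J_φ reduces to I modulo ε; the assignment φ ↦ J_φ is injective; and
every ideal J of R[ε] with R[ε]/J flat over A[ε] which reduces to I modulo ε equals some J_φ. Thus
the first-order liftings of I correspond one-to-one to Hom_R(I, R/I) (the tangent space of the
Hilbert scheme at I). -/
theorem result (A : Type u) [CommRing A] (R : Type u) [CommRing R]
    [Algebra A R] [Module.Free A R] (I : Ideal R) [Module.Flat A (R ⧸ I)] :
    (∀ φ : I →ₗ[R] R ⧸ I,
        Module.Flat (DualNumber A) (DualNumber R ⧸ W4c6puncthilbintro.liftIdeal I φ) ∧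
          Ideal.map (TrivSqZeroExt.fstHom A R R) (W4c6puncthilbintro.liftIdeal I φ) = I) ∧
      Function.Injective (W4c6puncthilbintro.liftIdeal I) ∧
      ∀ J : Ideal (DualNumber R), Module.Flat (DualNumber A) (DualNumber R ⧸ J) →
        Ideal.map (TrivSqZeroExt.fstHom A R R) J = I →
          ∃ φ : I →ₗ[R] R ⧸ I, J = W4c6puncthilbintro.liftIdeal I φ := by
  classical
  have hfst : ∀ f : DualNumber A, TrivSqZeroExt.fst (W4c6puncthilbintro.dualMap A R f) =
      algebraMap A R (TrivSqZeroExt.fst f) := by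
    intro f
    conv_lhs => rw [← TrivSqZeroExt.inl_fst_add_inr_snd_eq f, DualNumber.inr_eq_smul_eps, map_add,
      map_smul, W4c6puncthilbintro.dualMap_inl, W4c6puncthilbintro.dualMap_eps]
    simp [TrivSqZeroExt.algebraMap_eq_inl', Algebra.smul_def]
  have heps : ∀ x : DualNumber R,
      (W4c6puncthilbintro.dualMap A R DualNumber.eps) * x =
        TrivSqZeroExt.inr (TrivSqZeroExt.fst x) := fun x => by
    rw [W4c6puncthilbintro.dualMap_eps]
    refine TrivSqZeroExt.ext ?_ ?_ <;> simp
  refine ⟨fun φ => ?_, fun φ ψ h => ?_, fun J hJflat hJ => ?_⟩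
  · set J := W4c6puncthilbintro.liftIdeal I φ with hJ
    have hmemfst : ∀ x ∈ J, TrivSqZeroExt.fst x ∈ I := fun x hx => hx.1
    have hlift : ∀ a (ha : a ∈ I), ∃ x ∈ J, TrivSqZeroExt.fst x = a := by
      intro a ha
      obtain ⟨b, hb⟩ := Ideal.Quotient.mk_surjective (φ ⟨a, ha⟩)
      refine ⟨TrivSqZeroExt.inl a + TrivSqZeroExt.inr b, ⟨by simpa using ha, ?_⟩, by simp⟩
      simpa using hb
    have hφ0 : ∀ a : I, (a : R) = 0 → φ a = 0 := fun a ha => by
      rw [show a = 0 from Subtype.ext ha, map_zero]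
    have hinr : ∀ r : R, (TrivSqZeroExt.inr r : DualNumber R) ∈ J ↔ r ∈ I := by
      intro r
      constructor
      · rintro ⟨h, h'⟩
        rw [← Ideal.Quotient.eq_zero_iff_mem]
        exact ((congr_arg (Ideal.Quotient.mk I) (TrivSqZeroExt.snd_inr R r).symm).trans h').trans
          (hφ0 _ (TrivSqZeroExt.fst_inr R r))
      · intro hr
        exact ⟨(TrivSqZeroExt.fst_inr R r).symm ▸ I.zero_mem,
          ((congr_arg (Ideal.Quotient.mk I) (TrivSqZeroExt.snd_inr R r)).trans
            (Ideal.Quotient.eq_zero_iff_mem.mpr hr)).trans (hφ0 _ (TrivSqZeroExt.fst_inr R r)).symm⟩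
    constructor
    · let π : (DualNumber R ⧸ J) →+* R ⧸ I := Ideal.Quotient.lift J
        ((Ideal.Quotient.mk I).comp (TrivSqZeroExt.fstHom A R R).toRingHom)
        (fun x hx => Ideal.Quotient.eq_zero_iff_mem.mpr (hmemfst x hx))
      let ι : (R ⧸ I) →+ DualNumber R ⧸ J := QuotientAddGroup.lift I.toAddSubgroup
        ((Ideal.Quotient.mk J).toAddMonoidHom.comp (TrivSqZeroExt.inrHom R R).toAddMonoidHom)
        (fun r hr => Ideal.Quotient.eq_zero_iff_mem.mpr ((hinr r).mpr hr))
      have hιmk : ∀ r, ι (Ideal.Quotient.mk I r) = Ideal.Quotient.mk J (TrivSqZeroExt.inr r) :=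
        fun r => rfl
      refine flat_of_selfExtension π.toAddMonoidHom ?_ ι ?_ ?_ ?_ ?_ ?_
      · intro n
        obtain ⟨r, rfl⟩ := Ideal.Quotient.mk_surjective n
        exact ⟨Ideal.Quotient.mk J (TrivSqZeroExt.inl r), by simp [π]⟩
      · rw [injective_iff_map_eq_zero]
        intro n hn
        obtain ⟨r, rfl⟩ := Ideal.Quotient.mk_surjective n
        rw [hιmk, Ideal.Quotient.eq_zero_iff_mem, hinr] at hn
        exact Ideal.Quotient.eq_zero_iff_mem.mpr hn
      · intro m hm
        obtain ⟨x, rfl⟩ := Ideal.Quotient.mk_surjective m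
        simp [π, Ideal.Quotient.eq_zero_iff_mem] at hm
        obtain ⟨y, hy, hyx⟩ := hlift _ hm
        refine ⟨Ideal.Quotient.mk I (TrivSqZeroExt.snd (x - y)), ?_⟩
        rw [hιmk, Ideal.Quotient.eq]
        rw [show x - TrivSqZeroExt.inr (TrivSqZeroExt.snd (x - y)) = y from
          TrivSqZeroExt.ext (by simp [hyx]) (by simp)]
        exact hy
      · intro f m
        obtain ⟨x, rfl⟩ := Ideal.Quotient.mk_surjective m
        show π (Ideal.Quotient.mk J (W4c6puncthilbintro.dualMap A R f * x)) = _
        simp [π, hfst, Algebra.smul_def]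
      · intro f n
        obtain ⟨r, rfl⟩ := Ideal.Quotient.mk_surjective n
        show Ideal.Quotient.mk J (W4c6puncthilbintro.dualMap A R f * TrivSqZeroExt.inr r) = _
        rw [show TrivSqZeroExt.fst f • Ideal.Quotient.mk I r =
          Ideal.Quotient.mk I (algebraMap A R (TrivSqZeroExt.fst f) * r) from
            (congr_arg (Ideal.Quotient.mk I) (Algebra.smul_def _ _).symm).trans rfl |>.symm, hιmk]
        congr 1
        refine TrivSqZeroExt.ext ?_ ?_ <;> simp [hfst, mul_comm]
      · intro m
        obtain ⟨x, rfl⟩ := Ideal.Quotient.mk_surjective m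
        show Ideal.Quotient.mk J (W4c6puncthilbintro.dualMap A R DualNumber.eps * x) = _
        rw [heps]
        rfl
    · ext a
      rw [Ideal.mem_map_iff_of_surjective (TrivSqZeroExt.fstHom A R R)
        (fun r => ⟨TrivSqZeroExt.inl r, by simp⟩)]
      exact ⟨by rintro ⟨x, hx, rfl⟩; exact hmemfst x hx, fun ha => hlift a ha⟩
  · refine LinearMap.ext fun a => ?_
    obtain ⟨b, hb⟩ := Ideal.Quotient.mk_surjective (φ a)
    have h1 : (TrivSqZeroExt.inl (a : R) + TrivSqZeroExt.inr b : DualNumber R) ∈
        W4c6puncthilbintro.liftIdeal I φ := ⟨by simp, by simpa using hb⟩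
    rw [h] at h1
    obtain ⟨h2, h3⟩ := h1
    simp only [TrivSqZeroExt.snd_add, TrivSqZeroExt.snd_inl, TrivSqZeroExt.snd_inr, zero_add] at h3
    rw [← hb, h3]
    congr 1
    exact Subtype.ext (by simp)
  · have himg : ∀ a, a ∈ I ↔ ∃ x ∈ J, TrivSqZeroExt.fst x = a := by
      intro a
      rw [← hJ]
      exact Ideal.mem_map_iff_of_surjective (TrivSqZeroExt.fstHom A R R)
        (fun r => ⟨TrivSqZeroExt.inl r, by simp⟩)
    have hinr : ∀ r : R, (TrivSqZeroExt.inr r : DualNumber R) ∈ J ↔ r ∈ I := by
      intro r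
      constructor
      · intro hr
        have h0 : ∑ _i : Fin 1, (DualNumber.eps : DualNumber A) •
            Ideal.Quotient.mk J (TrivSqZeroExt.inl r : DualNumber R) = 0 := by
          rw [Fin.sum_univ_one]
          show Ideal.Quotient.mk J (W4c6puncthilbintro.dualMap A R DualNumber.eps * _) = 0
          rw [heps, TrivSqZeroExt.fst_inl, Ideal.Quotient.eq_zero_iff_mem]
          exact hr
        have hflat : ∀ {l : ℕ} {f : Fin l → DualNumber A} {x : Fin l → DualNumber R ⧸ J},
            ∑ i, f i • x i = 0 → Module.IsTrivialRelation f x :=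
          Module.Flat.iff_forall_isTrivialRelation.mp hJflat
        obtain ⟨k, c, y, hy, hc⟩ := hflat h0
        choose Y hY using fun j => Ideal.Quotient.mk_surjective (y j)
        have hc0 : ∀ j, TrivSqZeroExt.fst (c 0 j) = 0 := by
          intro j
          have := congr_arg TrivSqZeroExt.snd (hc j)
          simpa [DualNumber.snd_mul] using this
        have h4 : (TrivSqZeroExt.inl r - ∑ j, W4c6puncthilbintro.dualMap A R (c 0 j) * Y j :
            DualNumber R) ∈ J := by
          rw [← Ideal.Quotient.eq, map_sum]; refine (hy 0).trans ?_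
          refine Finset.sum_congr rfl fun j _ => ?_
          rw [← hY j]
          rfl
        have h5 := (himg _).mpr ⟨_, h4, rfl⟩
        simpa [TrivSqZeroExt.fst_sum, hfst, hc0] using h5
      · intro hr
        obtain ⟨x, hx, rfl⟩ := (himg r).mp hr
        rw [← heps]
        exact J.mul_mem_left _ hx
    choose X hXJ hXfst using fun a : I => (himg a).mp a.2
    have hchar : ∀ x ∈ J, ∀ a : I, TrivSqZeroExt.fst x = a →
        Ideal.Quotient.mk I (TrivSqZeroExt.snd (X a)) = Ideal.Quotient.mk I (TrivSqZeroExt.snd x) := by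
      intro x hx a hxa
      rw [Ideal.Quotient.eq, ← hinr]
      rw [show (TrivSqZeroExt.inr (TrivSqZeroExt.snd (X a) - TrivSqZeroExt.snd x) : DualNumber R) =
        X a - x from TrivSqZeroExt.ext (by simp [hXfst a, hxa]) (by simp)]
      exact J.sub_mem (hXJ a) hx
    let φ : I →ₗ[R] R ⧸ I :=
      { toFun := fun a => Ideal.Quotient.mk I (TrivSqZeroExt.snd (X a))
        map_add' := fun a b => by
          rw [hchar (X a + X b) (J.add_mem (hXJ a) (hXJ b)) (a + b) (by simp [hXfst]), TrivSqZeroExt.snd_add, map_add]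
        map_smul' := fun r a => by
          rw [hchar (TrivSqZeroExt.inl r * X a) (J.mul_mem_left _ (hXJ a)) (r • a) (by simp [hXfst])]
          simp [Algebra.smul_def] }
    refine ⟨φ, le_antisymm (fun x hx => ?_) ?_⟩
    · have hx1 : TrivSqZeroExt.fst x ∈ I := (himg _).mpr ⟨x, hx, rfl⟩
      exact ⟨hx1, (hchar x hx ⟨_, hx1⟩ rfl).symm⟩
    · rintro x ⟨hx1, hx2⟩
      have h6 : TrivSqZeroExt.snd x - TrivSqZeroExt.snd (X ⟨_, hx1⟩) ∈ I :=
        Ideal.Quotient.eq.mp hx2
      have : x = X ⟨_, hx1⟩ +
          TrivSqZeroExt.inr (TrivSqZeroExt.snd x - TrivSqZeroExt.snd (X ⟨_, hx1⟩)) :=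
        TrivSqZeroExt.ext (by simp [hXfst]) (by simp)
      rw [this]
      exact J.add_mem (hXJ _) ((hinr _).mpr h6)

end Groth.Agent.S19452
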