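import Mathlib
import Groth.Statements.S19453
-- import your own Groth.Agent.* helpers here

set_option autoImplicit false
universe u
open CAlg

namespace Groth.Agent.S19453

section
open IsLocalRing

lemma exists_gen {A : Type*} [CommRing A] [IsRegularLocalRing A] (hdim : ringKrullDim A = 2)
    (g : A) (hg : g ∈ maximalIdeal A) (hg2 : g ∉ maximalIdeal A ^ 2) :
    ∃ x ∈ maximalIdeal A, maximalIdeal A = Ideal.span {g, x} := by
  have hV : Module.finrank (ResidueField A) (CotangentSpace A) = 2 := by
    have h := (IsRegularLocalRing.iff_finrank_cotangentSpace A).1 inferInstance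
    rw [hdim] at h
    exact_mod_cast h
  set v : CotangentSpace A := (maximalIdeal A).toCotangent ⟨g, hg⟩ with hv
  have hv0 : v ≠ 0 := fun h => hg2 ((Ideal.toCotangent_eq_zero _ _).1 h)
  have hW : Module.finrank (ResidueField A) (CotangentSpace A ⧸ Submodule.span (ResidueField A) {v}) = 1 := by
    rw [Submodule.finrank_quotient, hV, finrank_span_singleton hv0]
  obtain ⟨w, -, hw⟩ := finrank_eq_one_iff'.1 hW
  obtain ⟨w, rfl⟩ := Submodule.Quotient.mk_surjective _ w
  obtain ⟨⟨x, hx⟩, rfl⟩ := Ideal.toCotangent_surjective _ w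
  refine ⟨x, hx, le_antisymm ?_ ?_⟩
  · refine Submodule.le_of_le_smul_of_le_jacobson_bot (I := maximalIdeal A) (IsNoetherian.noetherian _)
      (IsLocalRing.maximalIdeal_le_jacobson _) ?_
    intro y hy
    obtain ⟨c, hc⟩ := hw (Submodule.Quotient.mk ((maximalIdeal A).toCotangent ⟨y, hy⟩))
    rw [← Submodule.Quotient.mk_smul, Submodule.Quotient.eq, Submodule.mem_span_singleton] at hc
    obtain ⟨a, ha⟩ := hc
    obtain ⟨c, rfl⟩ := residue_surjective c
    obtain ⟨a, rfl⟩ := residue_surjective a
    have h0 : (maximalIdeal A).toCotangent (c • (⟨x, hx⟩ : ↥(maximalIdeal A)) - ⟨y, hy⟩ - a • ⟨g, hg⟩) = 0 := by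
      rw [map_sub, map_sub, map_smul, map_smul]
      rw [← hv]
      rw [show IsLocalRing.residue A = algebraMap A (ResidueField A) from rfl, IsScalarTower.algebraMap_smul, IsScalarTower.algebraMap_smul] at ha
      rw [ha]; exact sub_self _
    rw [Ideal.toCotangent_eq_zero, pow_two] at h0
    simp only [Submodule.coe_sub, Submodule.coe_smul, smul_eq_mul] at h0
    refine Submodule.mem_sup.2 ⟨c * x - a * g, ?_, -(c * x - y - a * g), ?_, by ring⟩
    · exact sub_mem (Ideal.mul_mem_left _ _ (Ideal.subset_span (by simp))) (Ideal.mul_mem_left _ _ (Ideal.subset_span (by simp)))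
    · exact neg_mem h0
  · rw [Ideal.span_le]
    rintro z (rfl | rfl) <;> assumption

end


/-- Converse direction: let k be a field, A a regular local k-algebra of Krull dimension 2 with maximal
ideal M and residue field k, and I an ideal with A/I of finite dimension n ≥ 1 over k. If some
element of I does not lie in M^2, then A/I is isomorphic as a k-algebra to k[x]/(x^n): a cluster
lying on a smooth curve germ of a smooth surface is curvilinear, with coordinate ring generated by
one element. -/
theorem result (k : Type u) [Field k]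
    (A : Type u) [CommRing A] [Algebra k A] [IsRegularLocalRing A] (hdim : ringKrullDim A = 2)
    (hres : Function.Surjective (algebraMap k (IsLocalRing.ResidueField A)))
    (I : Ideal A) [Module.Finite k (A ⧸ I)] (n : ℕ) (hn : Module.finrank k (A ⧸ I) = n) (h1 : 1 ≤ n)
    (g : A) (hgI : g ∈ I) (hg : g ∉ IsLocalRing.maximalIdeal A ^ 2) :
    Nonempty ((A ⧸ I) ≃ₐ[k] (Polynomial k ⧸ Ideal.span {(Polynomial.X : Polynomial k) ^ n})) := by
  classical
  set m := IsLocalRing.maximalIdeal A
  have hI : I ≠ ⊤ := by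
    intro h
    have : Subsingleton (A ⧸ I) := Ideal.Quotient.subsingleton_iff.2 h
    rw [Module.finrank_zero_of_subsingleton] at hn; omega
  have hIm : I ≤ m := IsLocalRing.le_maximalIdeal hI
  obtain ⟨x, hx, hspan⟩ := exists_gen hdim g (hIm hgI) hg
  let φ : Polynomial k →ₐ[k] A ⧸ I := Polynomial.aeval (Ideal.Quotient.mk I x)
  have hstep : ∀ N : ℕ, ∀ a : A, ∃ p : Polynomial k, ∃ b : A, Ideal.Quotient.mk I a = φ p + Ideal.Quotient.mk I (x ^ N * b) := by
    intro N
    induction N with
    | zero => exact fun a => ⟨0, a, by simp [φ]⟩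
    | succ N ih =>
      intro a
      obtain ⟨p, b, hb⟩ := ih a
      obtain ⟨c, hc⟩ := hres (IsLocalRing.residue A b)
      have : b - algebraMap k A c ∈ m := by
        rw [← IsLocalRing.residue_eq_zero_iff, map_sub, ← hc]; exact sub_self _
      rw [show m = _ from hspan, Ideal.mem_span_pair] at this
      obtain ⟨u, v, huv⟩ := this
      refine ⟨p + Polynomial.C c * Polynomial.X ^ N, v, ?_⟩
      have hb' : b = algebraMap k A c + u * g + v * x := by linear_combination -huv
      have hg0 : Ideal.Quotient.mk I g = 0 := Ideal.Quotient.eq_zero_iff_mem.2 hgI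
      have hcA : algebraMap k (A ⧸ I) c = Ideal.Quotient.mk I (algebraMap k A c) := rfl
      rw [hb, hb']
      simp only [φ, map_add, map_mul, map_pow, Polynomial.aeval_C, Polynomial.aeval_X, hg0, hcA]
      ring
  obtain ⟨N, hN⟩ : ∃ N, Ideal.Quotient.mk I x ^ N = 0 := by
    have : IsArtinianRing (A ⧸ I) := IsArtinianRing.of_finite k _
    have : Nontrivial (A ⧸ I) := Ideal.Quotient.nontrivial_iff.2 hI
    have hloc : IsLocalRing (A ⧸ I) := IsLocalRing.of_surjective' _ Ideal.Quotient.mk_surjective
    have hmk : IsLocalHom (Ideal.Quotient.mk I) := IsLocalHom.of_surjective _ Ideal.Quotient.mk_surjective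
    exact Ring.KrullDimLE.isNilpotent_iff_mem_maximalIdeal.2 ((map_mem_nonunits_iff (Ideal.Quotient.mk I) x).2 hx)
  have hsurj : Function.Surjective φ := by
    intro y
    obtain ⟨a, rfl⟩ := Ideal.Quotient.mk_surjective y
    obtain ⟨p, b, hb⟩ := hstep N a
    exact ⟨p, by rw [hb, map_mul, map_pow, hN, zero_mul, add_zero]⟩
  obtain ⟨q, hq⟩ := (IsPrincipalIdealRing.principal (RingHom.ker φ)).principal
  have hmem : (Polynomial.X : Polynomial k) ^ N ∈ RingHom.ker φ := by
    rw [RingHom.mem_ker, map_pow]; show (φ Polynomial.X) ^ N = 0; rw [Polynomial.aeval_X, hN]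
  rw [hq] at hmem
  obtain ⟨j, hj, hjq⟩ := (dvd_prime_pow Polynomial.prime_X N).1 (Ideal.mem_span_singleton.1 hmem)
  have hker : RingHom.ker φ = Ideal.span {(Polynomial.X : Polynomial k) ^ j} := by
    rw [hq]; exact Ideal.span_singleton_eq_span_singleton.2 hjq
  let e := (Ideal.quotientEquivAlgOfEq k hker).symm.trans (Ideal.quotientKerAlgEquivOfSurjective hsurj)
  have hjn : j = n := by
    rw [← hn, ← e.toLinearEquiv.finrank_eq]
    exact (finrank_quotient_span_eq_natDegree.trans (Polynomial.natDegree_X_pow j)).symm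
  subst hjn
  exact ⟨e.symm⟩

end Groth.Agent.S19453
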