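import Groth.Statements.S19458
import Groth.Agent.MeroBasic.ZeroSchemeIntegral
-- import your own Groth.Agent.* helpers here

set_option autoImplicit false
universe u
open CategoryTheory CategoryTheory.Limits AlgebraicGeometry TopologicalSpace Opposite
open Mero

namespace Groth.Agent.S19458

/-- Let X be an integral scheme, L an invertible O_X-module and D an effective Cartier divisor on X (a
global section of the sheaf of units of K_X modulo units of O_X whose germ at every point is the
class of a germ of a regular function) such that O_X(D) is isomorphic to L. Then there is a nonzero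
global section s of L, given as a nonzero morphism O_X → L, whose zero scheme Z(s) is D: around
every point of X, on some affine open neighbourhood, the ideal of Z(s) is generated by a regular
function whose classes are the germs of D there. (The published statement is for an irreducible
variety over an algebraically closed field; this row states it for an arbitrary integral scheme.) -/
theorem result (X : Scheme.{u}) [AlgebraicGeometry.IsIntegral X]
    (L : X.Modules) (hL : PicF.IsInvertible L) (D : Mero.Divisor X) (hD : Mero.IsEffective D)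
    (e : L ≅ Mero.divMod D) :
    ∃ s : Coh.structureModule X ⟶ L, s ≠ 0 ∧ Mero.IsDivOfIdeal D (PicF2.zeroScheme L s) := by
  have hD1 : ∀ x : X, Mero.DivCond D x 1 := fun x G hG => by
    rw [one_mul]
    obtain ⟨a, ha⟩ := hD x
    obtain ⟨v, hv⟩ := QuotientGroup.eq.mp (ha.symm.trans hG)
    refine ⟨a * v, ?_⟩
    rw [eq_inv_mul_iff_mul_eq] at hv
    rw [← hv, map_mul]
    rfl
  have hval : ∀ y : (⊤ : X.Opens),
      (e.hom.app ⊤ (PicF2.secVal L (Groth.Agent.MeroBasic.oneHom hD1 ≫ e.inv) ⊤)).1 y = 1 := fun y => by
    refine Eq.trans ?_ (Groth.Agent.MeroBasic.secVal_oneHom hD1 y)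
    exact congrArg (fun t : Γ(Mero.divMod D, ⊤) => t.1 y) (DFunLike.congr_fun
      (congrArg (fun φ => (Scheme.Modules.Hom.app φ ⊤).hom) e.inv_hom_id) _)
  refine ⟨Groth.Agent.MeroBasic.oneHom hD1 ≫ e.inv, fun h0 => ?_, Groth.Agent.MeroBasic.isDivOfIdeal_zeroScheme hD1 _ e hval⟩
  obtain ⟨x⟩ := (inferInstance : Nonempty X)
  have h1 := hval ⟨x, trivial⟩
  rw [h0] at h1
  refine one_ne_zero (h1.symm.trans ?_)
  exact congrArg (fun t : Γ(Mero.divMod D, ⊤) => t.1 ⟨x, trivial⟩) (map_zero (e.hom.app ⊤).hom)

end Groth.Agent.S19458
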