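import Groth.Statements.S19459
import Groth.Agent.MeroBasic.ZeroSchemeIntegral
-- import your own Groth.Agent.* helpers here

set_option autoImplicit false
universe u
open CategoryTheory CategoryTheory.Limits AlgebraicGeometry TopologicalSpace Opposite
open Mero

namespace Groth.Agent.S19459

/-- Let X be an integral scheme, L₁ and L₂ invertible O_X-modules with nonzero global sections s₁ and s₂
(nonzero morphisms O_X → L₁ and O_X → L₂), and let D₁, D₂ be the effective Cartier divisors of the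
zero schemes Z(s₁), Z(s₂): divisors on X (global sections of the sheaf of units of K_X modulo units
of O_X) which around every point, on some affine open neighbourhood, are the class of a regular
function generating the ideal of the zero scheme. Then the divisor D₁ · D₂ (multiplicative notation
for the sum D₁ + D₂) is in the same sense the effective Cartier divisor of the zero scheme of the
global section s₁ ⊗ s₂ of the tensor product L₁ ⊗ L₂; that is, Z(s₁ ⊗ s₂) = Z(s₁) + Z(s₂). (The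
published statement is for an irreducible variety over an algebraically closed field; this row
states it for an arbitrary integral scheme.) -/
theorem result (X : Scheme.{u}) [AlgebraicGeometry.IsIntegral X]
    (L₁ L₂ : X.Modules) (hL₁ : PicF.IsInvertible L₁) (hL₂ : PicF.IsInvertible L₂)
    (s₁ : Coh.structureModule X ⟶ L₁) (s₂ : Coh.structureModule X ⟶ L₂) (hs₁ : s₁ ≠ 0) (hs₂ : s₂ ≠ 0)
    (D₁ D₂ : Mero.Divisor X) (hD₁ : Mero.IsDivOfIdeal D₁ (PicF2.zeroScheme L₁ s₁))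
    (hD₂ : Mero.IsDivOfIdeal D₂ (PicF2.zeroScheme L₂ s₂)) :
    Mero.IsDivOfIdeal (D₁ * D₂) (PicF2.zeroScheme (CohB1.tensorMod L₁ L₂) (SecTwist.tmulHom s₁ s₂)) := by
  obtain ⟨E₁, e₁, hE₁, h₁⟩ := Groth.Agent.MeroBasic.exists_effective_iso hL₁ s₁ hs₁
  obtain ⟨E₂, e₂, hE₂, h₂⟩ := Groth.Agent.MeroBasic.exists_effective_iso hL₂ s₂ hs₂
  obtain rfl := Groth.Agent.MeroBasic.divisor_unique hD₁ (Groth.Agent.MeroBasic.isDivOfIdeal_zeroScheme hE₁ s₁ e₁ h₁)
  obtain rfl := Groth.Agent.MeroBasic.divisor_unique hD₂ (Groth.Agent.MeroBasic.isDivOfIdeal_zeroScheme hE₂ s₂ e₂ h₂)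
  have := Groth.Agent.MeroBasic.isIso_mulTensor D₁ D₂
  refine Groth.Agent.MeroBasic.isDivOfIdeal_zeroScheme (fun x => ?_) _ (PicGrp.tensorModIso e₁ e₂ ≪≫ asIso (Groth.Agent.MeroBasic.mulTensor D₁ D₂)) fun y => ?_
  · simpa using Groth.Agent.MeroBasic.divCond_mul D₁ D₂ (hE₁ x) (hE₂ x)
  · rw [show (PicF2.secVal (CohB1.tensorMod L₁ L₂) (SecTwist.tmulHom s₁ s₂) ⊤ : Γ(CohB1.tensorMod L₁ L₂, ⊤)) =
      SecTwist.tmul L₁ L₂ ⊤ (PicF2.secVal L₁ s₁ ⊤) (PicF2.secVal L₂ s₂ ⊤) from SecTwist.val_tmulHom s₁ s₂ ⊤]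
    change ((Groth.Agent.MeroBasic.mulTensor D₁ D₂).app ⊤ ((PicGrp.tensorModIso e₁ e₂).hom.app ⊤
      (SecTwist.tmul L₁ L₂ ⊤ (PicF2.secVal L₁ s₁ ⊤) (PicF2.secVal L₂ s₂ ⊤)))).1 y = 1
    rw [Groth.Agent.MeroBasic.tensorModIso_tmul, Groth.Agent.MeroBasic.mulTensor_tmul]
    change (e₁.hom.app ⊤ (PicF2.secVal L₁ s₁ ⊤)).1 y * (e₂.hom.app ⊤ (PicF2.secVal L₂ s₂ ⊤)).1 y = 1
    rw [h₁ y, h₂ y, one_mul]

end Groth.Agent.S19459
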