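import Groth.Statements.S4656
import Mathlib
-- import your own Groth.Agent.* helpers here

set_option autoImplicit false
open CategoryTheory AlgebraicGeometry
universe u
open FDesc

namespace Groth.Agent.S4656

open TensorProduct

theorem flat_of_comp_faithfullyFlat {A B C : Type u} [CommRing A] [CommRing B] [CommRing C]
    [Algebra A B] [Algebra B C] [Algebra A C] [IsScalarTower A B C] [Module.FaithfullyFlat B C]
    [Module.Flat A C] : Module.Flat A B := by
  rw [Module.Flat.iff_lTensor_preserves_injective_linearMap]
  intro N N' _ _ _ _ f hf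
  let ι := (IsScalarTower.toAlgHom A B C).toLinearMap
  have hι : Function.Injective (ι.rTensor N) := by
    have e : ∀ z, ι.rTensor N z =
        TensorProduct.AlgebraTensorModule.cancelBaseChange A B B C N (1 ⊗ₜ[B] z) := fun z => by
      induction z with
      | zero => simp
      | tmul b n => simp [ι, Algebra.algebraMap_eq_smul_one]
      | add x y hx hy => simp [tmul_add, hx, hy]
    intro a b hab
    rw [e, e] at hab
    exact Module.FaithfullyFlat.tensorProduct_mk_injective _
      ((TensorProduct.AlgebraTensorModule.cancelBaseChange A B B C N).injective hab)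
  have hcomm : f.lTensor C ∘ₗ ι.rTensor N = ι.rTensor N' ∘ₗ f.lTensor B := by
    rw [LinearMap.lTensor_comp_rTensor, LinearMap.rTensor_comp_lTensor]
  refine Function.Injective.of_comp (f := ι.rTensor N') ?_
  rw [← LinearMap.coe_comp, ← hcomm, LinearMap.coe_comp]
  exact (Module.Flat.lTensor_preserves_injective_linearMap f hf).comp hι

theorem flat_of_comp {A B C : Type u} [CommRing A] [CommRing B] [CommRing C] [IsLocalRing B]
    [IsLocalRing C] (φ : A →+* B) (ψ : B →+* C) [IsLocalHom ψ] (hψ : ψ.Flat)
    (h : (ψ.comp φ).Flat) : φ.Flat := by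
  algebraize [φ, ψ, ψ.comp φ]
  haveI : IsLocalHom (algebraMap B C) := ‹IsLocalHom ψ›
  haveI : Module.FaithfullyFlat B C := Module.FaithfullyFlat.of_flat_of_isLocalHom
  exact flat_of_comp_faithfullyFlat (A := A) (B := B) (C := C)


/-- Let f : X → Y and g : Y → Z be morphisms of schemes and x a point of X at which f is flat (the local
ring of X at x is flat over that of Y at f(x)). Then the composite g ∘ f is flat at x if and only if
g is flat at f(x). -/
theorem result {X Y Z : Scheme.{u}} (f : X ⟶ Y) (g : Y ⟶ Z) (x : X)
    (hf : (f.stalkMap x).hom.Flat) :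
    ((f ≫ g).stalkMap x).hom.Flat ↔ (g.stalkMap (f x)).hom.Flat := by
  rw [Scheme.Hom.stalkMap_comp]
  exact ⟨fun h => flat_of_comp (g.stalkMap (f x)).hom (f.stalkMap x).hom hf h,
    fun h => RingHom.Flat.comp (f := (g.stalkMap (f x)).hom) (g := (f.stalkMap x).hom) h hf⟩

end Groth.Agent.S4656
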