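import Groth.Statements.S19461
import Groth.Agent.S4656
import Mathlib
-- import your own Groth.Agent.* helpers here

set_option autoImplicit false
universe u
open CAlg

namespace Groth.Agent.S19461

/-- The implication from isomorphic completions to flat and unramified. Let A → B be a local
homomorphism of Noetherian local rings and ψ a ring map from the completion of A at its maximal
ideal to that of B whose composite with A → A^ is A → B → B^. If ψ is bijective, then A → B is flat
and the maximal ideal of A generates the maximal ideal of B. (The published statement is the
implication, for a morphism of algebraic varieties over an algebraically closed field, from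
isomorphic induced maps of completed local rings at every point to flat and unramified; its proof is
this local-ring argument, valid for any Noetherian local rings. The converse implication is a
separate result.) -/
theorem result (A B : Type u) [CommRing A]
    [CommRing B] [IsLocalRing A] [IsLocalRing B] [IsNoetherianRing A] [IsNoetherianRing B]
    [Algebra A B] [IsLocalHom (algebraMap A B)]
    (ψ : AdicCompletion (IsLocalRing.maximalIdeal A) A →+* AdicCompletion (IsLocalRing.maximalIdeal B) B)
    (hψ : ψ.comp (algebraMap A (AdicCompletion (IsLocalRing.maximalIdeal A) A)) =
      (algebraMap B (AdicCompletion (IsLocalRing.maximalIdeal B) B)).comp (algebraMap A B))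
    (hbij : Function.Bijective ψ) :
    Module.Flat A B ∧
      Ideal.map (algebraMap A B) (IsLocalRing.maximalIdeal A) = IsLocalRing.maximalIdeal B := by
  let mA := IsLocalRing.maximalIdeal A
  let mB := IsLocalRing.maximalIdeal B
  haveI : Module.Flat B (AdicCompletion mB B) := AdicCompletion.flat_of_isNoetherian mB
  haveI : Module.FaithfullyFlat B (AdicCompletion mB B) := Module.FaithfullyFlat.of_flat_of_isLocalHom
  haveI : Module.Flat A (AdicCompletion mA A) := AdicCompletion.flat_of_isNoetherian mA
  have hflat : ((algebraMap B (AdicCompletion mB B)).comp (algebraMap A B)).Flat := by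
    rw [← hψ]
    exact RingHom.Flat.comp (RingHom.flat_algebraMap_iff.2 inferInstance) (RingHom.Flat.of_bijective hbij)
  refine ⟨RingHom.flat_algebraMap_iff.1 (Groth.Agent.S4656.flat_of_comp (algebraMap A B) (algebraMap B (AdicCompletion mB B)) (RingHom.flat_algebraMap_iff.2 inferInstance) hflat), ?_⟩
  have h1 : (IsLocalRing.maximalIdeal (AdicCompletion mA A)).map ψ = IsLocalRing.maximalIdeal (AdicCompletion mB B) := by
    refine IsLocalRing.eq_maximalIdeal ?_
    exact Ideal.map_isMaximal_of_equiv (RingEquiv.ofBijective ψ hbij)
  rw [AdicCompletion.maximalIdeal_eq_map, AdicCompletion.maximalIdeal_eq_map, Ideal.map_map, hψ, ← Ideal.map_map] at h1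
  have := congrArg (Ideal.comap (algebraMap B (AdicCompletion mB B))) h1
  rwa [Ideal.comap_map_eq_self_of_faithfullyFlat, Ideal.comap_map_eq_self_of_faithfullyFlat] at this

end Groth.Agent.S19461
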