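import Groth.Statements.S19462
import Mathlib
-- import your own Groth.Agent.* helpers here

set_option autoImplicit false
universe u
open GrNak

namespace Groth.Agent.S19462


open DirectSum in
/-- Component of a product with a homogeneous element. -/
theorem comp_smul {R : Type u} [CommRing R]
    {σ : Type u} [SetLike σ R] [AddSubmonoidClass σ R] (𝒜 : ℤ → σ) [GradedRing 𝒜]
    {M : Type u} [AddCommGroup M] [Module R M]
    {τ : Type u} [SetLike τ M] [AddSubmonoidClass τ M] (ℳ : ℤ → τ) [DirectSum.Decomposition ℳ]
    [SetLike.GradedSMul 𝒜 ℳ] {d : ℤ} {m : M} (hm : m ∈ ℳ d) (n : ℤ) (r : R) :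
    (decompose ℳ (r • m) n : M) = (decompose 𝒜 r (n - d) : R) • m := by
  classical
  induction r using DirectSum.Decomposition.inductionOn 𝒜 with
  | zero => simp
  | @homogeneous i a =>
    have h : (a : R) • m ∈ ℳ (i + d) := SetLike.GradedSMul.smul_mem a.2 hm
    by_cases hn : i + d = n
    · subst hn
      rw [decompose_of_mem_same ℳ h, add_sub_cancel_right, decompose_of_mem_same 𝒜 a.2]
    · rw [decompose_of_mem_ne ℳ h hn, decompose_of_mem_ne 𝒜 a.2 (by omega), zero_smul]
  | add a b ha hb =>
    simp only [add_smul, decompose_add, DirectSum.add_apply, AddMemClass.coe_add, ha, hb]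

open DirectSum in
theorem comp_mul {R : Type u} [CommRing R]
    {σ : Type u} [SetLike σ R] [AddSubmonoidClass σ R] (𝒜 : ℤ → σ) [GradedRing 𝒜]
    {d : ℤ} {y : R} (hy : y ∈ 𝒜 d) (n : ℤ) (r : R) :
    (decompose 𝒜 (y * r) n : R) = y * (decompose 𝒜 r (n - d) : R) := by
  haveI : SetLike.GradedSMul 𝒜 𝒜 := ⟨fun _ _ _ _ hi hj => SetLike.mul_mem_graded hi hj⟩
  rw [mul_comm y r, mul_comm y]
  exact comp_smul 𝒜 𝒜 hy n r

open DirectSum in
theorem one_add_regular {R : Type u} [CommRing R]
    {σ : Type u} [SetLike σ R] [AddSubmonoidClass σ R] (𝒜 : ℤ → σ) [GradedRing 𝒜]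
    (hneg : ∀ i : ℤ, i < 0 → ∀ x ∈ 𝒜 i, x = 0)
    {a : R} (ha : ∀ i : ℤ, i ≤ 0 → (decompose 𝒜 a i : R) = 0) {r : R} (h : (1 + a) * r = 0) :
    r = 0 := by
  classical
  have key : ∀ N : ℕ, ∀ n : ℤ, n < (N : ℤ) → (decompose 𝒜 r n : R) = 0 := by
    intro N
    induction N with
    | zero => exact fun n hn => hneg n (by omega) _ (SetLike.coe_mem _)
    | succ N ih =>
      intro n hn
      by_cases hlt : n < (N : ℤ)
      · exact ih n hlt
      have hr : (decompose 𝒜 r n : R) + (decompose 𝒜 (a * r) n : R) = 0 := by
        rw [← AddMemClass.coe_add, ← DirectSum.add_apply, ← decompose_add,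
          show r + a * r = (1 + a) * r by ring, h]
        simp
      have : (decompose 𝒜 (a * r) n : R) = 0 := by
        conv_lhs => rw [← DirectSum.sum_support_decompose 𝒜 a, Finset.sum_mul, decompose_sum]
        rw [DFinsupp.finset_sum_apply, AddSubmonoidClass.coe_finset_sum]
        refine Finset.sum_eq_zero fun i _ => ?_
        rw [comp_mul 𝒜 (SetLike.coe_mem _)]
        by_cases hi : i ≤ 0
        · rw [ha i hi, zero_mul]
        · rw [ih (n - i) (by omega), mul_zero]
      rwa [this, add_zero] at hr
  rw [← DirectSum.sum_support_decompose 𝒜 r]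
  exact Finset.sum_eq_zero fun i _ => key (i.toNat + 1) i (by omega)

/-- Let k be a field and R a commutative ℤ-graded k-algebra whose pieces of negative degree vanish and
whose degree-zero piece is the image of k, and let M be a finitely generated ℤ-graded R-module,
graded compatibly with R. Then M is a projective R-module if and only if M has an R-basis consisting
of homogeneous elements, i.e. M is a free graded module. (The published statement takes R a graded
quotient of a polynomial ring k[x_0, …, x_n] with its standard grading; stated here for any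
commutative graded k-algebra concentrated in non-negative degrees with degree-zero part k, to which
the same graded-Nakayama argument applies.) -/
theorem result {k : Type u} [Field k] {R : Type u} [CommRing R] [Algebra k R]
    {σ : Type u} [SetLike σ R] [AddSubmonoidClass σ R] (𝒜 : ℤ → σ) [GradedRing 𝒜]
    (hneg : ∀ i : ℤ, i < 0 → ∀ x ∈ 𝒜 i, x = 0)
    (hk : ∀ c : k, algebraMap k R c ∈ 𝒜 0) (h0 : ∀ x ∈ 𝒜 0, ∃ c : k, algebraMap k R c = x)
    {M : Type u} [AddCommGroup M] [Module R M] [Module.Finite R M]
    {τ : Type u} [SetLike τ M] [AddSubmonoidClass τ M] (ℳ : ℤ → τ) [DirectSum.Decomposition ℳ]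
    [SetLike.GradedSMul 𝒜 ℳ] :
    Module.Projective R M ↔
      ∃ (ι : Type u) (b : Module.Basis ι R M), ∀ i : ι, SetLike.IsHomogeneousElem ℳ (b i) := by
  classical
  refine ⟨fun hP => ?_, fun ⟨ι, b, _⟩ => Module.Projective.of_basis b⟩
  -- the ideal of elements of positive degree
  let I : Ideal R :=
    { carrier := {x | ∀ i : ℤ, i ≤ 0 → (DirectSum.decompose 𝒜 x i : R) = 0}
      zero_mem' := by intro i _; simp
      add_mem' := by
        intro x y hx hy i hi
        simp [hx i hi, hy i hi]
      smul_mem' := by
        intro y x hx i hi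
        induction y using DirectSum.Decomposition.inductionOn 𝒜 with
        | zero => simp
        | @homogeneous j a =>
          rw [smul_eq_mul, comp_mul 𝒜 a.2]
          by_cases hj : j < 0
          · rw [hneg j hj _ a.2, zero_mul]
          · rw [hx (i - j) (by omega), mul_zero]
        | add a b iha ihb => rw [add_smul, DirectSum.decompose_add, DirectSum.add_apply, AddMemClass.coe_add, iha, ihb, add_zero] }
  -- a homogeneous spanning finset exists
  obtain ⟨t, ht⟩ := (Module.Finite.fg_top : (⊤ : Submodule R M).FG)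
  have hex : ∃ n : ℕ, ∃ s : Finset M, (∀ x ∈ s, SetLike.IsHomogeneousElem ℳ x) ∧
      Submodule.span R (s : Set M) = ⊤ ∧ s.card = n := by
    refine ⟨_, t.biUnion (fun x => (DirectSum.decompose ℳ x).support.image
      fun i => (DirectSum.decompose ℳ x i : M)), ?_, ?_, rfl⟩
    · intro x hx
      simp only [Finset.mem_biUnion, Finset.mem_image] at hx
      obtain ⟨y, _, i, _, rfl⟩ := hx
      exact ⟨i, SetLike.coe_mem _⟩
    · rw [eq_top_iff, ← ht, Submodule.span_le]
      intro x hx
      rw [← DirectSum.sum_support_decompose ℳ x]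
      refine Submodule.sum_mem _ fun i hi => Submodule.subset_span ?_
      simp only [Finset.coe_biUnion, Set.mem_iUnion, Finset.coe_image, Set.mem_image]
      exact ⟨x, hx, i, hi, rfl⟩
  obtain ⟨s, hs, hspan, hcard⟩ := Nat.find_spec hex
  choose deg hdeg using hs
  -- coefficients of relations lie in I
  have hrel : ∀ c : s → R, ∑ i, c i • (i : M) = 0 → ∀ i, c i ∈ I := by
    intro c hc j
    by_contra hj
    have hj0 : (DirectSum.decompose 𝒜 (c j) 0 : R) ≠ 0 := by
      intro h0'
      refine hj fun i hi => ?_
      rcases hi.lt_or_eq with h | rfl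
      · exact hneg i h _ (SetLike.coe_mem _)
      · exact h0'
    obtain ⟨κ, hκ⟩ := h0 _ (SetLike.coe_mem (DirectSum.decompose 𝒜 (c j) 0))
    have hκ0 : κ ≠ 0 := by rintro rfl; exact hj0 (by rw [← hκ, map_zero])
    have hcomp : ∑ i : s, (DirectSum.decompose 𝒜 (c i) (deg j j.2 - deg i i.2) : R) • (i : M) = 0 := by
      have h1 : (DirectSum.decompose ℳ (∑ i, c i • (i : M)) (deg j j.2) : M) = 0 := by
        rw [hc]; simp
      rw [DirectSum.decompose_sum, DFinsupp.finset_sum_apply,
        AddSubmonoidClass.coe_finset_sum] at h1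
      rw [← h1]
      exact Finset.sum_congr rfl fun i _ => (comp_smul 𝒜 ℳ (hdeg i i.2) _ _).symm
    have hjmem : (j : M) ∈ Submodule.span R ((s.erase j : Finset M) : Set M) := by
      rw [← Finset.add_sum_erase _ _ (Finset.mem_univ j), sub_self, ← hκ,
        add_eq_zero_iff_eq_neg] at hcomp
      have h2 : (j : M) = algebraMap k R κ⁻¹ • (algebraMap k R κ • (j : M)) := by
        rw [smul_smul, ← map_mul, inv_mul_cancel₀ hκ0, map_one, one_smul]
      have hmem : algebraMap k R κ • (j : M) ∈
          Submodule.span R ((s.erase j : Finset M) : Set M) := by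
        rw [hcomp]
        refine Submodule.neg_mem _ (Submodule.sum_mem _ fun i hi =>
          Submodule.smul_mem _ _ (Submodule.subset_span ?_))
        exact Finset.mem_coe.2 (Finset.mem_erase.2
          ⟨fun h => (Finset.mem_erase.1 hi).1 (Subtype.ext h), i.2⟩)
      have h3 := Submodule.smul_mem _ (algebraMap k R κ⁻¹) hmem
      rwa [← h2] at h3
    refine Nat.find_min hex (m := (s.erase j).card)
      (by have := Finset.card_erase_lt_of_mem j.2; omega)
      ⟨s.erase j, fun x hx => ⟨deg x (Finset.mem_of_mem_erase hx), hdeg x _⟩, ?_, rfl⟩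
    rw [eq_top_iff, ← hspan, Submodule.span_le]
    intro x hx
    by_cases hxj : x = j
    · rw [hxj]; exact hjmem
    · exact Submodule.subset_span (Finset.mem_coe.2 (Finset.mem_erase.2 ⟨hxj, hx⟩))
  let π : (s → R) →ₗ[R] M := Fintype.linearCombination R (fun i : s => (i : M))
  have hπ : Function.Surjective π := by
    rw [← LinearMap.range_eq_top, Fintype.range_linearCombination, Subtype.range_coe_subtype]
    exact hspan
  obtain ⟨g, hg⟩ := Module.projective_lifting_property π (LinearMap.id : M →ₗ[R] M) hπ
  let p : (s → R) →ₗ[R] (s → R) := LinearMap.id - g ∘ₗ π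
  have hle : LinearMap.range p ≤ I • LinearMap.range p := by
    rintro _ ⟨v, rfl⟩
    have hker : π (p v) = 0 := by
      have := LinearMap.congr_fun hg (π v)
      simp only [LinearMap.comp_apply, LinearMap.id_apply] at this
      simp [p, this]
    have hpp : p (p v) = p v := by
      show p v - g (π (p v)) = p v
      rw [hker, map_zero, sub_zero]
    rw [← hpp]
    obtain ⟨w, hw⟩ : ∃ w, w = p v := ⟨_, rfl⟩
    rw [← hw] at hker ⊢
    rw [pi_eq_sum_univ w, map_sum]
    refine Submodule.sum_mem _ fun i _ => ?_
    rw [map_smul]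
    refine Submodule.smul_mem_smul (hrel _ ?_ i) (LinearMap.mem_range_self p _)
    simpa [π, Fintype.linearCombination_apply] using hker
  obtain ⟨r, hr1, hr2⟩ := Submodule.exists_sub_one_mem_and_smul_eq_zero_of_fg_of_le_smul I
    (LinearMap.range p) (Module.Finite.iff_fg.1 inferInstance) hle
  have hinj : LinearMap.ker π = ⊥ := by
    rw [eq_bot_iff]
    intro v hv
    rw [LinearMap.mem_ker] at hv
    have hpv : p v = v := by
      show v - g (π v) = v
      rw [hv, map_zero, sub_zero]
    have h0v := hr2 v ⟨v, hpv⟩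
    rw [Submodule.mem_bot]
    ext i
    refine one_add_regular 𝒜 hneg hr1 ?_
    have := congrFun h0v i
    simpa using this
  refine ⟨s, Module.Basis.mk (v := fun i : s => (i : M)) ?_ ?_, fun i => ?_⟩
  · rw [Fintype.linearIndependent_iff]
    intro c hc
    have : c ∈ LinearMap.ker π := by simpa [π, Fintype.linearCombination_apply] using hc
    rw [hinj, Submodule.mem_bot] at this
    exact congrFun this
  · rw [Subtype.range_coe_subtype]; exact hspan.ge
  · rw [Module.Basis.mk_apply]; exact ⟨deg i i.2, hdeg i i.2⟩

end Groth.Agent.S19462
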