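import Groth.Statements.S19465
import Groth.Agent.FibrewiseCrit.MultType
-- import your own Groth.Agent.* helpers here

set_option autoImplicit false
universe u
open CategoryTheory CategoryTheory.Limits MonoidalCategory CartesianMonoidalCategory MonObj GrpObj AlgebraicGeometry
open AlgGrp

namespace Groth.Agent.S19465

/-- Let S be a scheme and G an S-group scheme whose structure morphism G → S is locally of finite type.
Then G → S is an isomorphism (G is the trivial group scheme over S) if and only if every fibre G_s →
Spec κ(s), s ∈ S, is an isomorphism. -/
theorem result (S : Scheme.{u}) (G : Over S)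
    [GrpObj G] [LocallyOfFiniteType G.hom] :
    IsIso G.hom ↔ ∀ s : S, IsIso (G.hom.fiberToSpecResidueField s) := by
  constructor
  · intro h s
    exact inferInstanceAs (IsIso (Limits.pullback.snd G.hom (S.fromSpecResidueField s)))
  · intro h
    haveI : LocallyOfFiniteType (toUnit G).left := by
      rw [show (toUnit G).left = G.hom by simpa using Over.w (toUnit G)]; infer_instance
    haveI hm : Mono (toUnit G).left := Groth.FibrewiseCrit.mono_of_fibreHom_mono (toUnit G) fun s => by
      let u' := ((Over.pullback (S.fromSpecResidueField s)).map (toUnit G)).left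
      haveI := h s
      haveI hmm : Mono (G.hom.fiberToSpecResidueField s) := @IsIso.mono_of_iso _ _ _ _ _ (h s)
      have e : u' ≫ Limits.pullback.snd (𝟙_ (Over S)).hom (S.fromSpecResidueField s) = G.hom.fiberToSpecResidueField s :=
        Over.w ((Over.pullback (S.fromSpecResidueField s)).map (toUnit G))
      haveI : Mono (u' ≫ Limits.pullback.snd (𝟙_ (Over S)).hom (S.fromSpecResidueField s)) := e.symm ▸ hmm
      exact mono_of_mono u' (Limits.pullback.snd (𝟙_ (Over S)).hom (S.fromSpecResidueField s))
    rw [show (toUnit G).left = G.hom by simpa using Over.w (toUnit G)] at hm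
    have h1 : η[G].left ≫ G.hom = 𝟙 S := by simpa using Over.w η[G]
    exact ⟨η[G].left, by rw [← cancel_mono G.hom, Category.assoc, h1]; simp, h1⟩

end Groth.Agent.S19465
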