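import Groth.Statements.S19473
import Mathlib
import Groth.Agent.GrpSchField.Shear

set_option autoImplicit false
universe u
open CategoryTheory CategoryTheory.Limits MonoidalCategory CartesianMonoidalCategory MonObj GrpObj AlgebraicGeometry
open AlgGrp

namespace Groth.Agent.S19473

/-- Let S be a scheme and G an S-group scheme whose structure morphism G → S is locally of finite type.
Then G → S is unramified — formally unramified, since it is locally of finite type — if and only if
the identity section S → G is an open immersion. (The separated and quasi-separated clauses of the
published item are separate results.) -/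
theorem result (S : Scheme.{u})
    (G : Over S) [GrpObj G] [LocallyOfFiniteType G.hom] :
    FormallyUnramified G.hom ↔ IsOpenImmersion η[G].left := by
  constructor
  · intro hfu
    let Q : MorphismProperty Scheme.{u} := @FormallyUnramified ⊓ @LocallyOfFiniteType
    haveI hle : (@IsOpenImmersion : MorphismProperty Scheme.{u}).HasOfPostcompProperty Q :=
      MorphismProperty.hasOfPostcompProperty_iff_le_diagonal.mpr fun X Y f ⟨_, _⟩ => by
        show IsOpenImmersion (pullback.diagonal f)
        infer_instance
    refine MorphismProperty.of_postcomp (W := @IsOpenImmersion) (W' := Q) η[G].left G.hom ⟨hfu, inferInstance⟩ ?_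
    rw [Over.w η[G]]
    exact inferInstanceAs (IsOpenImmersion (𝟙 S))
  · intro h
    haveI := Groth.Agent.GrpSchField.diagonal_of_unit (G := G) @IsOpenImmersion h
    infer_instance

end Groth.Agent.S19473
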