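import Groth.Statements.S19475
import Mathlib.RingTheory.AdicCompletion.LocalRing
import Mathlib.RingTheory.LocalRing.ResidueField.Ideal

set_option autoImplicit false
universe u
open CAlg

namespace Groth.Agent.S19475

open scoped TensorProduct

open IsLocalRing in
/-- Let A be a Noetherian ring, B an A-algebra, q a prime ideal of B and p its preimage in A; let A_p
and B_q be the local rings at p and q and Â_p the completion of A_p at its maximal ideal pA_p. Then
the ideal generated by qB_q in B_q ⊗ Â_p is maximal. (The tensor product is formed over A; since A_p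
is a localization of A it agrees with the tensor product over A_p used in the published statement.) -/
theorem result (A B : Type u) [CommRing A] [CommRing B]
    [Algebra A B] [IsNoetherianRing A] (q : Ideal B) [q.IsPrime] :
    ((maximalIdeal (Localization.AtPrime q)).map
      (Algebra.TensorProduct.includeLeftRingHom :
        Localization.AtPrime q →+* TensorProduct A (Localization.AtPrime q)
          (AdicCompletion (maximalIdeal (Localization.AtPrime (q.under A)))
            (Localization.AtPrime (q.under A))))).IsMaximal := by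
  set p := q.under A with hpdef
  let L := Localization.AtPrime q
  let Ap := Localization.AtPrime p
  let C := AdicCompletion (maximalIdeal Ap) Ap
  set I : Ideal (L ⊗[A] C) := (maximalIdeal L).map (Algebra.TensorProduct.includeLeftRingHom : L →+* L ⊗[A] C) with hI
  show I.IsMaximal
  -- a point of the quotient
  let g : C →ₐ[A] q.ResidueField :=
    (Ideal.ResidueField.mapₐ p q (Algebra.ofId A B) (Ideal.over_def q p)).comp
      ((AdicCompletion.evalOneₐ (maximalIdeal Ap)).restrictScalars A)
  let φ : L ⊗[A] C →ₐ[A] q.ResidueField :=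
    Algebra.TensorProduct.lift (IsScalarTower.toAlgHom A L q.ResidueField) g (fun _ _ => Commute.all _ _)
  have hne : I ≠ ⊤ := by
    intro h
    have hle : I ≤ RingHom.ker φ := Ideal.map_le_iff_le_comap.mpr fun l hl => by
      show φ (l ⊗ₜ 1) = 0
      simp only [φ, Algebra.TensorProduct.lift_tmul, map_one, mul_one]
      exact (IsLocalRing.residue_eq_zero_iff l).mpr hl
    exact RingHom.ker_ne_top φ (top_le_iff.mp (h ▸ hle))
  -- every element comes from `L` modulo `I`
  have hm : ∀ y ∈ (maximalIdeal Ap).map (algebraMap Ap C), (1 : L) ⊗ₜ[A] y ∈ I := by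
    intro y hy
    have he : (maximalIdeal Ap).map (algebraMap Ap C) = p.map (algebraMap A C) := by
      rw [IsScalarTower.algebraMap_eq A Ap C, ← Ideal.map_map]
      exact congrArg (Ideal.map (algebraMap Ap C)) Localization.AtPrime.map_eq_maximalIdeal.symm
    rw [he] at hy
    have h1 : p.map (algebraMap A C) ≤ I.comap (Algebra.TensorProduct.includeRight : C →ₐ[A] L ⊗[A] C) := by
      refine Ideal.map_le_iff_le_comap.mpr fun a ha => ?_
      show (1 : L) ⊗ₜ[A] algebraMap A C a ∈ I
      rw [Algebra.algebraMap_eq_smul_one, TensorProduct.tmul_smul, TensorProduct.smul_tmul',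
        ← Algebra.algebraMap_eq_smul_one]
      refine Ideal.mem_map_of_mem _ ?_
      rw [IsScalarTower.algebraMap_apply A B L]
      exact (IsLocalization.AtPrime.to_map_mem_maximal_iff L q _).mpr ha
    exact h1 hy
  have hsurj : Function.Surjective ((Ideal.Quotient.mk I).comp (Algebra.TensorProduct.includeLeftRingHom : L →+* L ⊗[A] C)) := by
    intro z
    obtain ⟨t, rfl⟩ := Ideal.Quotient.mk_surjective z
    induction t using TensorProduct.induction_on with
    | zero => exact ⟨0, by simp⟩
    | add t t' h h' =>
      obtain ⟨l, hl⟩ := h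
      obtain ⟨l', hl'⟩ := h'
      exact ⟨l + l', by rw [map_add, map_add, hl, hl']⟩
    | tmul l c =>
      obtain ⟨x, hx⟩ := Ideal.Quotient.mk_surjective (AdicCompletion.evalOneₐ (maximalIdeal Ap) c)
      obtain ⟨⟨a, s⟩, hxs⟩ := IsLocalization.surj p.primeCompl x
      have hc : c - algebraMap Ap C x ∈ (maximalIdeal Ap).map (algebraMap Ap C) := by
        rw [← AdicCompletion.ker_evalOneₐ_eq_map _ (maximalIdeal Ap).fg_of_isNoetherianRing, RingHom.mem_ker, map_sub]
        show AdicCompletion.evalOneₐ (maximalIdeal Ap) c - AdicCompletion.evalOneₐ (maximalIdeal Ap) (algebraMap Ap C x) = 0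
        rw [AlgHom.commutes, ← hx]
        exact sub_self _
      have hs : IsUnit (algebraMap A L s) := by
        rw [IsScalarTower.algebraMap_apply A B L]
        exact IsLocalization.map_units L (⟨algebraMap A B s, s.2⟩ : q.primeCompl)
      refine ⟨l * (algebraMap A L a * ↑hs.unit⁻¹), ?_⟩
      rw [RingHom.comp_apply, Ideal.Quotient.eq]
      show (l * (algebraMap A L a * ↑hs.unit⁻¹)) ⊗ₜ[A] (1 : C) - l ⊗ₜ[A] c ∈ I
      have hC : algebraMap A L a ⊗ₜ[A] (1 : C) = algebraMap A L s ⊗ₜ[A] algebraMap Ap C x := by
        have h2 : algebraMap A C a = (s : A) • algebraMap Ap C x := by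
          rw [Algebra.smul_def, IsScalarTower.algebraMap_apply A Ap C, IsScalarTower.algebraMap_apply A Ap C, ← map_mul,
            mul_comm, hxs]
        rw [Algebra.algebraMap_eq_smul_one a, TensorProduct.smul_tmul, ← Algebra.algebraMap_eq_smul_one, h2,
          TensorProduct.tmul_smul, TensorProduct.smul_tmul', ← Algebra.algebraMap_eq_smul_one]
      have e : (l * (algebraMap A L a * ↑hs.unit⁻¹)) ⊗ₜ[A] (1 : C) = (l ⊗ₜ[A] (1 : C)) * ((1 : L) ⊗ₜ[A] algebraMap Ap C x) := by
        rw [show l * (algebraMap A L a * ↑hs.unit⁻¹) = (l * ↑hs.unit⁻¹) * algebraMap A L a by ring,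
          ← mul_one (1 : C), ← Algebra.TensorProduct.tmul_mul_tmul, mul_one, hC, Algebra.TensorProduct.tmul_mul_tmul,
          Algebra.TensorProduct.tmul_mul_tmul, mul_assoc, IsUnit.val_inv_mul]
      rw [e, show l ⊗ₜ[A] c = (l ⊗ₜ[A] (1 : C)) * ((1 : L) ⊗ₜ[A] c) by simp, ← mul_sub, ← TensorProduct.tmul_sub]
      refine I.mul_mem_left _ ?_
      rw [show algebraMap Ap C x - c = -(c - algebraMap Ap C x) by ring, TensorProduct.tmul_neg]
      exact I.neg_mem (hm _ hc)
  have : Nontrivial (L ⊗[A] C ⧸ I) := Ideal.Quotient.nontrivial_iff.mpr hne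
  have hker : RingHom.ker ((Ideal.Quotient.mk I).comp (Algebra.TensorProduct.includeLeftRingHom : L →+* L ⊗[A] C)) = maximalIdeal L := by
    refine ((IsLocalRing.maximalIdeal.isMaximal L).eq_of_le (RingHom.ker_ne_top _) fun l hl => ?_).symm
    exact Ideal.Quotient.eq_zero_iff_mem.mpr (Ideal.mem_map_of_mem _ hl)
  let e := (Ideal.quotEquivOfEq hker.symm).trans (RingHom.quotientKerEquivOfSurjective hsurj)
  exact Ideal.Quotient.maximal_of_isField _ (e.symm.toMulEquiv.isField (Ideal.Quotient.maximal_ideal_iff_isField_quotient _ |>.mp (IsLocalRing.maximalIdeal.isMaximal L)))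

end Groth.Agent.S19475
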