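import Groth.Statements.S19477
import Mathlib
import Groth.Agent.NagataLib.Polynomial
import Groth.Agent.NagataLib.FiniteClosure

set_option autoImplicit false
universe u
open Variety

namespace Groth.Agent.S19477

open TensorProduct Polynomial

variable {K F L : Type u} [Field K] [Field F] [Field L] [Algebra K F] [Algebra K L]
  {Ω : Type u} [Field Ω] [Algebra F Ω] [Algebra K Ω] [IsScalarTower K F Ω]

/-- The point of `F ⊗ L` given by an embedding of `L`. -/
noncomputable def ev (f : L →ₐ[K] Ω) : F ⊗[K] L →ₐ[F] Ω :=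
  Algebra.TensorProduct.lift (Algebra.ofId F Ω) f fun _ _ => Commute.all _ _

theorem ev_tmul (f : L →ₐ[K] Ω) (a : F) (b : L) : ev f (a ⊗ₜ[K] b) = algebraMap F Ω a * f b := by
  simp [ev]

theorem exists_point {A : Type u} [CommRing A] [Algebra F A] [Algebra.IsIntegral F A] [IsAlgClosure F Ω]
    (P : PrimeSpectrum A) : ∃ q : A →ₐ[F] Ω, P.asIdeal = RingHom.ker q := by
  have : IsAlgClosed Ω := IsAlgClosure.isAlgClosed F
  have hP : P.asIdeal.IsMaximal := Ideal.isMaximal_of_isIntegral_of_isMaximal_comap (R := F) P.asIdeal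
    ((Ideal.comap (algebraMap F A) P.asIdeal).eq_bot_of_prime ▸ Ideal.bot_isMaximal)
  let _ := Ideal.Quotient.field P.asIdeal
  have : Algebra.IsAlgebraic F (A ⧸ P.asIdeal) := Algebra.IsIntegral.isAlgebraic
  let j : (A ⧸ P.asIdeal) →ₐ[F] Ω := IsAlgClosed.lift
  refine ⟨j.comp (Ideal.Quotient.mkₐ F P.asIdeal), ?_⟩
  ext z
  simp only [RingHom.mem_ker, AlgHom.comp_apply, map_eq_zero, Ideal.Quotient.mkₐ_eq_mk, Ideal.Quotient.eq_zero_iff_mem]

theorem exists_ev [Algebra.IsAlgebraic K L] [IsAlgClosure F Ω] (P : PrimeSpectrum (F ⊗[K] L)) :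
    ∃ f : L →ₐ[K] Ω, P.asIdeal = RingHom.ker (ev f) := by
  obtain ⟨q, hq⟩ := exists_point (F := F) (Ω := Ω) P
  refine ⟨(q.restrictScalars K).comp Algebra.TensorProduct.includeRight, ?_⟩
  rw [hq]
  congr 1
  refine (Algebra.TensorProduct.ext (Algebra.ext_id _ _ _) ?_).symm
  ext b
  simp [ev_tmul]

theorem exists_eq_comap [IsGalois K L] (f₁ f₂ : L →ₐ[K] Ω) :
    ∃ γ : L ≃ₐ[K] L, RingHom.ker (ev f₂) = (RingHom.ker (ev f₁)).comap
      (Algebra.TensorProduct.map (AlgHom.id K F) (γ : L →ₐ[K] L)) := by
  letI : Algebra L Ω := f₁.toRingHom.toAlgebra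
  haveI : IsScalarTower K L Ω := IsScalarTower.of_algebraMap_eq fun x => (f₁.commutes x).symm
  refine ⟨Normal.algHomEquivAut K Ω L f₂, ?_⟩
  have hγ : ∀ b, f₁ (Normal.algHomEquivAut K Ω L f₂ b) = f₂ b := fun b =>
    AlgHom.congr_fun ((Normal.algHomEquivAut K Ω L).symm_apply_apply f₂) b
  ext z
  rw [RingHom.mem_ker, Ideal.mem_comap, RingHom.mem_ker]
  suffices h : ∀ z, ev (F := F) f₁ (Algebra.TensorProduct.map (AlgHom.id K F)
      ((Normal.algHomEquivAut K Ω L f₂ : L ≃ₐ[K] L) : L →ₐ[K] L) z) = ev f₂ z by rw [h]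
  intro z
  induction z using TensorProduct.induction_on with
  | zero => simp
  | tmul a b =>
    rw [Algebra.TensorProduct.map_tmul, ev_tmul, ev_tmul]
    exact congrArg _ (hγ b)
  | add a b ha hb => rw [map_add, map_add, map_add, ha, hb]

/-- The minimal polynomial over `F` of an element algebraic over `K` has coefficients algebraic over `K`. -/
theorem minpoly_map (E : IntermediateField K F) (hE : algebraicClosure K F ≤ E) {α : Ω} (hα : IsIntegral K α) :
    (minpoly E α).map (algebraMap E F) = minpoly F α := by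
  have hαF : IsIntegral F α := hα.tower_top
  have hαE : IsIntegral E α := hα.tower_top
  have hd := minpoly.dvd_map_of_isScalarTower K F α
  have hl := integralClosure.mem_lifts_of_monic_of_dvd_map F (minpoly.monic hα) (minpoly.monic hα.tower_top) hd
  have hco : ∀ n, (minpoly F α).coeff n ∈ E := fun n => by
    obtain ⟨c, hc⟩ := (Polynomial.lifts_iff_coeff_lifts _).1 hl n
    rw [← hc]
    exact hE (mem_algebraicClosure_iff'.2 c.2)
  obtain ⟨g, hg⟩ : ∃ g : E[X], g.map (algebraMap E F) = minpoly F α := by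
    rw [← Polynomial.mem_lifts, Polynomial.lifts_iff_coeff_lifts]
    exact fun n => ⟨⟨_, hco n⟩, rfl⟩
  refine Polynomial.eq_of_monic_of_dvd_of_natDegree_le (minpoly.monic hαF)
    ((minpoly.monic hαE).map (algebraMap E F)) (minpoly.dvd F α (by rw [aeval_map_algebraMap, minpoly.aeval])) ?_
  rw [Polynomial.natDegree_map, ← hg, Polynomial.natDegree_map]
  refine Polynomial.natDegree_le_of_dvd (minpoly.dvd E α ?_) fun h => ?_
  · rw [← aeval_map_algebraMap F, hg, minpoly.aeval]
  · exact (minpoly.monic hαF).ne_zero (by rw [← hg, h, Polynomial.map_zero])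

theorem main [IsGalois K L] [IsAlgClosure F Ω] (hK : Module.Finite K (algebraicClosure K F)) :
    Finite (PrimeSpectrum (F ⊗[K] L)) ∧
      ∀ P Q : PrimeSpectrum (F ⊗[K] L), ∃ γ : L ≃ₐ[K] L,
        Q.asIdeal = P.asIdeal.comap (Algebra.TensorProduct.map (AlgHom.id K F) (γ : L →ₐ[K] L)) := by
  classical
  have : Algebra.IsAlgebraic K L := IsGalois.to_normal.toIsAlgebraic
  choose f hf using exists_ev (K := K) (F := F) (L := L) (Ω := Ω)
  refine ⟨?_, fun P Q => by rw [hf P, hf Q]; exact exists_eq_comap _ _⟩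
  let E := algebraicClosure K F
  let ι := Algebra.TensorProduct.map E.val (AlgHom.id K L)
  have : IsArtinianRing (E ⊗[K] L) := by
    have : Module.Finite L (L ⊗[K] E) := inferInstance
    have : IsArtinianRing (L ⊗[K] E) := IsArtinianRing.of_finite (R := L) (S := L ⊗[K] E)
    exact RingEquiv.isArtinianRing (Algebra.TensorProduct.comm K L E).toRingEquiv
  refine Finite.of_injective (PrimeSpectrum.comap ι.toRingHom) fun P Q h => PrimeSpectrum.ext ?_
  have hmin : ∀ θ : L, minpoly F (f P θ) = minpoly F (f Q θ) := by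
    intro θ
    have hθ : IsIntegral K θ := Algebra.IsIntegral.isIntegral θ
    have key : ∀ R : PrimeSpectrum (F ⊗[K] L), ∀ g : E[X],
        aeval (f R θ) g = 0 ↔ aeval ((1 : E) ⊗ₜ[K] θ) g ∈ (PrimeSpectrum.comap ι.toRingHom R).asIdeal := by
      intro R g
      rw [PrimeSpectrum.comap_asIdeal, Ideal.mem_comap, hf R, RingHom.mem_ker]
      suffices hh : ev (f R) (ι (aeval ((1 : E) ⊗ₜ[K] θ) g)) = aeval (f R θ) g by rw [← hh]; rfl
      induction g using Polynomial.induction_on' with
      | add p q hp hq => simp [hp, hq]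
      | monomial n a =>
        simp [ι, ev_tmul, Algebra.TensorProduct.algebraMap_apply, ← map_pow, Algebra.TensorProduct.tmul_pow,
          IsScalarTower.algebraMap_apply E F Ω]
    rw [← minpoly_map E le_rfl (hθ.map (f P)), ← minpoly_map E le_rfl (hθ.map (f Q))]
    congr 1
    refine minpoly.eq_of_irreducible_of_monic (minpoly.irreducible (hθ.map (f P)).tower_top) ?_
      (minpoly.monic (hθ.map (f P)).tower_top)
    rw [key Q, ← h, ← key P, minpoly.aeval]
  rw [hf P, hf Q]
  ext z
  obtain ⟨s, hs⟩ := TensorProduct.exists_finset z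
  let M := IntermediateField.adjoin K ((s.image Prod.snd : Finset L) : Set L)
  have : FiniteDimensional K M :=
    IntermediateField.finiteDimensional_adjoin fun x _ => Algebra.IsIntegral.isIntegral x
  obtain ⟨θ, hθ⟩ := Field.exists_primitive_element K M
  obtain ⟨g, hg⟩ : ∃ g : F[X], aeval ((1 : F) ⊗ₜ[K] (θ : L)) g = z := by
    have hmem : ∀ p ∈ s, ∃ r : K[X], p.2 = aeval (θ : L) r := by
      intro p hp
      have : (⟨p.2, IntermediateField.subset_adjoin _ _ (by simpa using ⟨p.1, hp⟩)⟩ : M) ∈
          (IntermediateField.adjoin K {θ}).toSubalgebra := hθ.ge IntermediateField.mem_top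
      rw [IntermediateField.adjoin_simple_toSubalgebra_of_isAlgebraic (Algebra.IsAlgebraic.isAlgebraic θ),
        Algebra.adjoin_singleton_eq_range_aeval] at this
      obtain ⟨r, hr⟩ := this
      exact ⟨r, by rw [← IntermediateField.coe_val, aeval_algHom_apply]; exact (congrArg Subtype.val hr).symm⟩
    rw [hs]
    refine Finset.sum_induction _ (fun z => ∃ g : F[X], aeval ((1 : F) ⊗ₜ[K] (θ : L)) g = z)
      (fun a b ⟨g, hg⟩ ⟨g', hg'⟩ => ⟨g + g', by rw [map_add, hg, hg']⟩) ⟨0, map_zero _⟩ fun p hp => ?_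
    obtain ⟨r, hr⟩ := hmem p hp
    refine ⟨C p.1 * r.map (algebraMap K F), ?_⟩
    rw [map_mul, aeval_C, aeval_map_algebraMap, show (1 : F) ⊗ₜ[K] (θ : L) =
      Algebra.TensorProduct.includeRight (R := K) (A := F) (θ : L) from rfl, aeval_algHom_apply, ← hr]
    simp [Algebra.TensorProduct.algebraMap_apply]
  rw [← hg, RingHom.mem_ker, RingHom.mem_ker, ← aeval_algHom_apply, ← aeval_algHom_apply, ev_tmul, ev_tmul,
    map_one, one_mul, one_mul, ← minpoly.dvd_iff, ← minpoly.dvd_iff, hmin]

/-- Let K be a field, B an integral K-algebra of finite type with fraction field F, and L a Galois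
extension of K with group Γ = Aut_K(L). Then F ⊗_K L has only finitely many prime ideals and Γ,
acting through the second factor, permutes them transitively: for prime ideals P, Q there is γ ∈ Γ
with Q the preimage of P under id ⊗ γ. (The published statement is the geometric one, that the
points of an algebraic K-scheme X correspond to the Γ-orbits of points of X_L and that these orbits
are finite; it reduces to this algebraic statement by passing to the fibre over a point, and the
algebraic statement is what is proved.) -/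
theorem result (K B L : Type u) [Field K]
    [CommRing B] [IsDomain B] [Algebra K B] [Algebra.FiniteType K B] [Field L] [Algebra K L] [IsGalois K L] :
    Finite (PrimeSpectrum (TensorProduct K (FractionRing B) L)) ∧
      ∀ P Q : PrimeSpectrum (TensorProduct K (FractionRing B) L), ∃ γ : L ≃ₐ[K] L,
        Q.asIdeal = P.asIdeal.comap
          (Algebra.TensorProduct.map (AlgHom.id K (FractionRing B)) (γ : L →ₐ[K] L)) := by
  have : Algebra.EssFiniteType K (FractionRing B) :=
    have : Algebra.EssFiniteType B (FractionRing B) := Algebra.EssFiniteType.of_isLocalization _ (nonZeroDivisors B)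
    Algebra.EssFiniteType.comp K B (FractionRing B)
  have hK : Module.Finite K (algebraicClosure K (FractionRing B)) :=
    Groth.Agent.NagataLib.finite_integralClosure_domain (Groth.Agent.NagataLib.isNagata_of_finiteType_field K K) (FractionRing B)
  exact main (Ω := AlgebraicClosure (FractionRing B)) hK

end Groth.Agent.S19477
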