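import Groth.Statements.S19479
import Groth.Agent.ComodBasic.Basic

set_option autoImplicit false
universe u v w
open HopfRep

namespace Groth.Agent.S19479

open Groth.Agent.ComodBasic

open TensorProduct in
/-- Let K be a field, C a K-coalgebra and V a right C-comodule. The following are equivalent: (i) V is
the internal direct sum of a family of simple subcomodules, i.e. there is an independent family of
subcomodules W_i with sum V, each W_i nonzero and having no subcomodules inside it other than 0 and
W_i; (ii) every subcomodule of V has a complementary subcomodule. A subcomodule is a subspace W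
whose coaction lands in the image of W ⊗ C. (The source states this for left comodules; a left
comodule over C is a right comodule over the co-opposite coalgebra, so the statement is the same.) -/
theorem result {K : Type u} {C : Type v} [Field K]
    [AddCommGroup C] [Module K C] [Coalgebra K C] (V : Type w) [AddCommGroup V] [Module K V] [HopfRep.Comod K C V] :
    (∃ (ι : Type w) (W : ι → Submodule K V), iSupIndep W ∧ iSup W = ⊤ ∧ ∀ i,
        HopfRep.IsSubcomod (k := K) (A := C) (W i) ∧ W i ≠ ⊥ ∧
          ∀ W' : Submodule K V, HopfRep.IsSubcomod (k := K) (A := C) W' → W' ≤ W i → W' = ⊥ ∨ W' = W i) ↔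
      HopfRep.IsSemisimpleComod K C V := by

  rw [isSemisimpleComod_iff]
  constructor
  · rintro ⟨ι, W, -, hsup, hW⟩
    refine isSemisimpleModule_of_isSemisimpleModule_submodule' (p := fun i => toSub (W i) (hW i).1)
      (fun i => ?_) ?_
    · haveI : IsSimpleModule (Cv K C) (toSub (W i) (hW i).1) := by
        refine isSimpleModule_iff_isAtom.2 ⟨fun h => (hW i).2.1 ?_, fun M hM => ?_⟩
        · rw [(toSub_eq_iff _ _).1 h, Submodule.restrictScalars_bot]
        · refine (Submodule.restrictScalars_eq_bot_iff K _ _).1 (((hW i).2.2 _ (isSubcomod_restrict M)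
            (fun x hx => hM.le hx)).resolve_right fun h => hM.ne ((toSub_eq_iff _ _).2 h.symm).symm)
      infer_instance
    · rw [← Submodule.restrictScalars_eq_top_iff K, Submodule.restrictScalars_iSup]
      exact hsup
  · intro h
    obtain ⟨s, hind, hsup, hs⟩ := IsSemisimpleModule.exists_sSupIndep_sSup_simples_eq_top (Cv K C) V
    refine ⟨s, fun m => m.1.restrictScalars K, fun m => ?_, ?_, fun m => ⟨isSubcomod_restrict _, ?_, ?_⟩⟩
    · have hd := ((sSupIndep_iff s).1 hind) m
      rw [disjoint_iff] at hd ⊢
      simp only [← Submodule.restrictScalars_iSup, ← Submodule.restrictScalars_inf, hd,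
        Submodule.restrictScalars_bot]
    · rw [← Submodule.restrictScalars_iSup, ← sSup_eq_iSup', hsup, Submodule.restrictScalars_top]
    · haveI := hs m.1 m.2
      exact mt (Submodule.restrictScalars_eq_bot_iff K _ _).1 (isSimpleModule_iff_isAtom.1 this).1
    · intro W' hW' hle
      haveI := hs m.1 m.2
      rcases (isSimpleModule_iff_isAtom.1 this).le_iff.1 (show toSub W' hW' ≤ m.1 from fun v hv => hle hv) with h | h
      · exact Or.inl (by rw [(toSub_eq_iff _ _).1 h, Submodule.restrictScalars_bot])
      · exact Or.inr ((toSub_eq_iff _ _).1 h)

end Groth.Agent.S19479
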