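import Groth.Statements.S19485
import Mathlib
-- import your own Groth.Agent.* helpers here

set_option autoImplicit false
universe u
open Crimp

namespace Groth.Agent.S19485

/-- The criterion for closedness under multiplication on which the description of the stratum rests.
Over R = k⟦t⟧ with k an algebraically closed field of characteristic zero, let S̃ = k⟦x⟧ regarded as
an R-algebra through t ↦ x ^ 3, that is S̃ = R[x] / (x ^ 3 - t). Let m, n be natural numbers with m
not divisible by 3, and let g be a power series with nonzero constant term. Then the R-submodule of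
S̃ spanned by 1 and x ^ m g together with the ideal x ^ n S̃ is closed under multiplication if and
only if n ≤ 2m. (The published proposition goes on to describe the stratum of crimps with these
invariants as irreducible of dimension ⌊(n - m)/3⌋ with a normal form for g; only the closedness
criterion is stated here.) -/
theorem result {k : Type u} [Field k] [IsAlgClosed k] [CharZero k]
    (m n : ℕ) (hm : ¬ 3 ∣ m) (x g : W4c1hurwitzcpt.RootDisk 3 k)
    (hx : W4c1hurwitzcpt.RootDisk.val x = PowerSeries.X) (hg : PowerSeries.order (W4c1hurwitzcpt.RootDisk.val g) = 0)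
    (M : Submodule (PowerSeries k) (W4c1hurwitzcpt.RootDisk 3 k))
    (hM : M = Submodule.span (PowerSeries k) {1, x ^ m * g} ⊔
      (Ideal.span {x ^ n} : Ideal (W4c1hurwitzcpt.RootDisk 3 k)).restrictScalars (PowerSeries k)) :
    (∀ a ∈ M, ∀ b ∈ M, a * b ∈ M) ↔ n ≤ 2 * m := by
  classical
  let v : W4c1hurwitzcpt.RootDisk 3 k →+* PowerSeries k := W4c1hurwitzcpt.RootDisk.val.toRingHom
  have hval : ∀ a, v (algebraMap (PowerSeries k) (W4c1hurwitzcpt.RootDisk 3 k) a) = PowerSeries.expand 3 (by norm_num) a :=
    fun _ => rfl
  have hI : ∀ z, x ^ n ∣ z → z ∈ M := fun z hz => hM ▸ Submodule.mem_sup_right (Ideal.mem_span_singleton.2 hz)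
  constructor
  · intro hclosed
    by_contra hlt
    rw [not_le] at hlt
    have hh : x ^ m * g ∈ M := hM ▸ Submodule.mem_sup_left (Submodule.subset_span (by simp))
    have hmem := hclosed _ hh _ hh
    rw [hM] at hmem
    obtain ⟨s, hs, t, ht, hst⟩ := Submodule.mem_sup.1 hmem
    obtain ⟨a, b, rfl⟩ := Submodule.mem_span_pair.1 hs
    obtain ⟨c, rfl⟩ := Ideal.mem_span_singleton.1 (show t ∈ (Ideal.span {x ^ n} : Ideal (W4c1hurwitzcpt.RootDisk 3 k)) from ht)
    have h1 := congrArg v hst
    rw [map_add, map_add, map_mul, map_mul, map_mul, map_pow, map_pow, Algebra.smul_def, Algebra.smul_def,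
      map_mul, map_mul, map_one, mul_one, map_mul, map_pow, hval, hval, show v x = PowerSeries.X from hx] at h1
    have hG : PowerSeries.order (v g) = 0 := hg
    have hA : PowerSeries.order (PowerSeries.expand 3 (by norm_num) a) = 3 • PowerSeries.order a := PowerSeries.order_expand ..
    have hB : PowerSeries.order (PowerSeries.expand 3 (by norm_num) b * (PowerSeries.X ^ m * v g)) =
        3 • PowerSeries.order b + m := by
      rw [PowerSeries.order_mul, PowerSeries.order_mul, PowerSeries.order_X_pow, hG, add_zero, PowerSeries.order_expand]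
    have hS : PowerSeries.order (PowerSeries.X ^ m * v g * (PowerSeries.X ^ m * v g) - PowerSeries.X ^ n * v c) = (2 * m : ℕ) := by
      have e1 : PowerSeries.order (PowerSeries.X ^ m * v g * (PowerSeries.X ^ m * v g)) = (2 * m : ℕ) := by
        rw [PowerSeries.order_mul, PowerSeries.order_mul, PowerSeries.order_X_pow, hG, add_zero, ← Nat.cast_add]
        congr 1; omega
      have e2 : ((2 * m : ℕ) : ℕ∞) < PowerSeries.order (-(PowerSeries.X ^ n * v c)) := by
        rw [PowerSeries.order_neg, PowerSeries.order_mul, PowerSeries.order_X_pow]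
        exact lt_of_lt_of_le (by exact_mod_cast hlt) le_self_add
      rw [sub_eq_add_neg, PowerSeries.order_add_of_order_ne _ _ (by rw [e1]; exact e2.ne), e1, inf_eq_left.2 e2.le]
    rw [← h1, add_sub_cancel_right] at hS
    have key : ∀ p q : ℕ∞, p = 3 • PowerSeries.order a → q = 3 • PowerSeries.order b + m → p ≠ q →
        p ⊓ q ≠ (2 * m : ℕ) := by
      intro p q hp hq _ h
      rcases min_choice p q with h0 | h0
      · have h0' : ((2 * m : ℕ) : ℕ∞) = p := h.symm.trans h0
        rw [← h0'] at hp
        cases ha : PowerSeries.order a with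
        | top => rw [ha] at hp; simp at hp; exact (WithTop.mul_ne_top (by decide) (ENat.coe_ne_top m)) hp
        | coe i =>
          rw [ha, nsmul_eq_mul] at hp
          have hp' : 2 * m = 3 * i := by exact_mod_cast hp
          omega
      · have h0' : ((2 * m : ℕ) : ℕ∞) = q := h.symm.trans h0
        rw [← h0'] at hq
        cases hb : PowerSeries.order b with
        | top => rw [hb] at hq; simp at hq; exact (WithTop.mul_ne_top (by decide) (ENat.coe_ne_top m)) hq
        | coe i =>
          rw [hb, nsmul_eq_mul] at hq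
          have hq' : 2 * m = 3 * i + m := by exact_mod_cast hq
          omega
    by_cases heq : PowerSeries.order (PowerSeries.expand 3 (by norm_num) a) =
        PowerSeries.order (PowerSeries.expand 3 (by norm_num) b * (PowerSeries.X ^ m * v g))
    · rw [hA, hB] at heq
      cases ha : PowerSeries.order a with
      | coe i =>
        cases hb : PowerSeries.order b with
        | coe j =>
          rw [ha, hb, nsmul_eq_mul, nsmul_eq_mul] at heq
          have heq' : 3 * i = 3 * j + m := by exact_mod_cast heq
          omega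
        | top => rw [ha, hb, nsmul_eq_mul, nsmul_eq_mul] at heq; simp at heq; exact (WithTop.mul_ne_top (by decide) (ENat.coe_ne_top i)) heq
      | top =>
        have ha0 : a = 0 := PowerSeries.order_eq_top.1 ha
        rw [ha0, map_zero, zero_add, hB, ← heq, ha] at hS
        simp [eq_comm] at hS
        exact (WithTop.mul_ne_top (by decide) (ENat.coe_ne_top m)) hS
    · rw [PowerSeries.order_add_of_order_ne _ _ heq, hA, hB] at hS
      rw [hA, hB] at heq
      exact key _ _ rfl rfl heq hS
  · intro hle a ha b hb
    rw [hM] at ha hb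
    obtain ⟨s, hs, t, ht, rfl⟩ := Submodule.mem_sup.1 ha
    obtain ⟨s', hs', t', ht', rfl⟩ := Submodule.mem_sup.1 hb
    obtain ⟨a₁, b₁, rfl⟩ := Submodule.mem_span_pair.1 hs
    obtain ⟨a₂, b₂, rfl⟩ := Submodule.mem_span_pair.1 hs'
    have hd : x ^ n ∣ t := Ideal.mem_span_singleton.1 ht
    have hd' : x ^ n ∣ t' := Ideal.mem_span_singleton.1 ht'
    rw [add_mul, mul_add]
    refine M.add_mem (M.add_mem ?_ (hI _ (dvd_mul_of_dvd_right hd' _))) (hI _ (dvd_mul_of_dvd_left hd _))
    have e : (a₁ • (1 : W4c1hurwitzcpt.RootDisk 3 k) + b₁ • (x ^ m * g)) * (a₂ • 1 + b₂ • (x ^ m * g)) =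
        ((a₁ * a₂) • 1 + (a₁ * b₂ + b₁ * a₂) • (x ^ m * g)) + (b₁ * b₂) • (x ^ m * g * (x ^ m * g)) := by
      simp only [Algebra.smul_def, map_mul, map_add]; ring
    rw [e]
    refine M.add_mem (hM ▸ Submodule.mem_sup_left (Submodule.mem_span_pair.2 ⟨_, _, rfl⟩)) (M.smul_mem _ (hI _ ?_))
    exact (pow_dvd_pow x hle).trans ⟨g * g, by ring⟩

end Groth.Agent.S19485
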