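import Groth.Statements.S19486
import Mathlib
-- import your own Groth.Agent.* helpers here

set_option autoImplicit false
universe u
open Crimp

namespace Groth.Agent.S19486

/-- The emptiness of the stratum rests on the following computation. Over R = k⟦t⟧ with k an
algebraically closed field of characteristic zero, let S̃ = S̃₁ × R where S̃₁ = k⟦x⟧ is regarded as
an R-algebra through t ↦ x ^ 2, that is S̃₁ = R[x] / (x ^ 2 - t), with R embedded diagonally in the
product. Let m be odd, n > 2m, and let g be a power series with nonzero constant term. Then the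
R-submodule of S̃ spanned by 1 = (1, 1) and (x ^ m g, 0) together with the ideal x ^ n S̃₁ × 0 is
not closed under multiplication. (The published item concludes that the corresponding stratum of
crimps is empty; only this computation is stated here, with the ideal read as x ^ n S̃₁ × 0.) -/
theorem result {k : Type u} [Field k] [IsAlgClosed k] [CharZero k]
    (m n : ℕ) (hm : Odd m) (hmn : 2 * m < n) (x g : W4c1hurwitzcpt.RootDisk 2 k)
    (hx : W4c1hurwitzcpt.RootDisk.val x = PowerSeries.X) (hg : PowerSeries.order (W4c1hurwitzcpt.RootDisk.val g) = 0)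
    (M : Submodule (PowerSeries k) (W4c1hurwitzcpt.RootDisk 2 k × PowerSeries k))
    (hM : M = Submodule.span (PowerSeries k) {(1 : W4c1hurwitzcpt.RootDisk 2 k × PowerSeries k), (x ^ m * g, 0)} ⊔
      ((Ideal.span {x ^ n} : Ideal (W4c1hurwitzcpt.RootDisk 2 k)).restrictScalars (PowerSeries k)).prod ⊥) :
    ∃ a ∈ M, ∃ b ∈ M, a * b ∉ M := by
  classical
  let v : W4c1hurwitzcpt.RootDisk 2 k →+* PowerSeries k := W4c1hurwitzcpt.RootDisk.val.toRingHom
  refine ⟨(x ^ m * g, 0), hM ▸ Submodule.mem_sup_left (Submodule.subset_span (by simp)), (x ^ m * g, 0),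
    hM ▸ Submodule.mem_sup_left (Submodule.subset_span (by simp)), fun hmem => ?_⟩
  rw [hM] at hmem
  obtain ⟨s, hs, t, ht, hst⟩ := Submodule.mem_sup.1 hmem
  obtain ⟨a, b, rfl⟩ := Submodule.mem_span_pair.1 hs
  obtain ⟨ht1, ht2⟩ := ht
  obtain ⟨c, hc⟩ := Ideal.mem_span_singleton.1 (show t.1 ∈ (Ideal.span {x ^ n} : Ideal (W4c1hurwitzcpt.RootDisk 2 k)) from ht1)
  have ha : a = 0 := by
    have h2 := congrArg Prod.snd hst
    have ht0 : t.2 = 0 := ht2
    simpa [ht0] using h2
  subst ha
  have h1 := congrArg (fun z => v z.1) hst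
  simp only [Prod.fst_add, Prod.smul_fst, Prod.fst_mul, zero_smul, zero_add, Algebra.smul_def, Prod.algebraMap_apply, map_zero, zero_mul, Prod.fst_zero, hc, map_add, map_mul,
    map_pow] at h1
  rw [show v x = PowerSeries.X from hx,
    show v (algebraMap (PowerSeries k) (W4c1hurwitzcpt.RootDisk 2 k) b) = PowerSeries.expand 2 two_ne_zero b from rfl] at h1
  set G := v g
  have hG : PowerSeries.constantCoeff G ≠ 0 := by
    intro h0
    have h' : (1 : ℕ∞) ≤ PowerSeries.order G := PowerSeries.le_order _ _ fun i hi => by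
      have : i = 0 := by simpa using (ENat.lt_one_iff_eq_zero.1 hi)
      subst this
      rw [PowerSeries.coeff_zero_eq_constantCoeff_apply]; exact h0
    rw [show PowerSeries.order G = 0 from hg] at h'
    simp at h'
  have hc' : PowerSeries.X ^ n * v c = PowerSeries.X ^ (m + m) * (PowerSeries.X ^ (n - (m + m)) * v c) := by
    rw [← mul_assoc, ← pow_add, Nat.add_sub_cancel' (by omega)]
  -- compare coefficients in degree `2 * m`, then in degree `m`
  have hL : ∀ F : PowerSeries k, PowerSeries.X ^ m * G * (PowerSeries.X ^ m * G) = F * (PowerSeries.X ^ m * G) + PowerSeries.X ^ n * v c →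
      F * G = PowerSeries.X ^ m * (G * G - PowerSeries.X ^ (n - (m + m)) * v c) := by
    intro F h
    apply mul_left_cancel₀ (pow_ne_zero m (PowerSeries.X_ne_zero : (PowerSeries.X : PowerSeries k) ≠ 0))
    rw [hc', pow_add] at h
    linear_combination -h
  have h2 := hL (PowerSeries.expand 2 two_ne_zero b) (by linear_combination -h1)
  have hu : IsUnit G := PowerSeries.isUnit_iff_constantCoeff.2 (isUnit_iff_ne_zero.2 hG)
  obtain ⟨u, hu⟩ := hu.exists_right_inv
  set E := (G * G - PowerSeries.X ^ (n - (m + m)) * v c) * u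
  have h3 : PowerSeries.expand 2 two_ne_zero b = PowerSeries.X ^ m * E := by
    calc PowerSeries.expand 2 two_ne_zero b = PowerSeries.expand 2 two_ne_zero b * G * u := by rw [mul_assoc, hu, mul_one]
      _ = _ := by rw [h2, mul_assoc]
  have h4 := congrArg (PowerSeries.coeff m) h3
  rw [PowerSeries.coeff_expand_of_not_dvd 2 two_ne_zero b (fun h => Nat.not_even_iff_odd.2 hm (even_iff_two_dvd.2 h))] at h4
  rw [show PowerSeries.coeff m (PowerSeries.X ^ m * E) = PowerSeries.constantCoeff E by
    simpa using PowerSeries.coeff_X_pow_mul E m 0] at h4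
  have h5 : PowerSeries.constantCoeff E * PowerSeries.constantCoeff G = PowerSeries.constantCoeff G * PowerSeries.constantCoeff G := by
    rw [← map_mul, mul_assoc, mul_comm u, hu, mul_one, map_sub, map_mul, map_mul, map_pow,
      PowerSeries.constantCoeff_X, zero_pow (by omega), zero_mul, sub_zero]
  rw [← h4, zero_mul] at h5
  exact hG (mul_self_eq_zero.1 h5.symm)

end Groth.Agent.S19486
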