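import Groth.Statements.S19487
import Mathlib
-- import your own Groth.Agent.* helpers here

set_option autoImplicit false
open W4c1frobunstiva

namespace Groth.Agent.S19487

open Polynomial Finset in
theorem card_pi_sum {ι : Type*} [Fintype ι] [DecidableEq ι] (t : ι → Finset ℕ) (s : ℕ) :
    (((Fintype.piFinset t).filter fun e => ∑ i, e i = s).card) =
      (∏ i, ∑ v ∈ t i, (X : ℕ[X]) ^ v).coeff s := by
  rw [Finset.prod_univ_sum, finsetSum_coeff, Finset.card_filter]
  refine Finset.sum_congr rfl fun e _ => ?_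
  rw [Finset.prod_pow_eq_pow_sum, coeff_X_pow]
  simp [eq_comm]

open Finset in
theorem card_fin_fun {n q : ℕ} (P : (Fin n → ℕ) → Prop) [DecidablePred P] :
    Fintype.card {e : Fin n → Fin q // (∀ i, 1 ≤ (e i : ℕ)) ∧ P (fun i => (e i : ℕ))} =
      ((Fintype.piFinset fun _ : Fin n => Finset.Icc 1 (q - 1)).filter P).card := by
  rw [Fintype.card_subtype]
  refine Finset.card_bij (fun e _ i => (e i : ℕ)) ?_ ?_ ?_
  · intro e he
    rw [mem_filter] at he
    rw [mem_filter, Fintype.mem_piFinset]
    refine ⟨fun i => Finset.mem_Icc.mpr ⟨he.2.1 i, ?_⟩, he.2.2⟩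
    have := (e i).isLt
    omega
  · intro a _ b _ h
    funext i
    exact Fin.ext (congrFun h i)
  · intro e he
    rw [mem_filter, Fintype.mem_piFinset] at he
    have hb : ∀ i, e i < q := fun i => by
      have := Finset.mem_Icc.mp (he.1 i)
      omega
    refine ⟨fun i => ⟨e i, hb i⟩, ?_, rfl⟩
    rw [mem_filter]
    exact ⟨mem_univ _, fun i => (Finset.mem_Icc.mp (he.1 i)).1, he.2⟩

open Polynomial in
/-- generating polynomial -/
noncomputable def gen (h : ℕ) : ℕ[X] := ∑ v ∈ Finset.Icc 1 h, (X : ℕ[X]) ^ v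

open Polynomial Finset in
theorem card_small (n h s : ℕ) :
    Fintype.card {e : Fin n → Fin (h + 1) // (∀ i, 1 ≤ (e i : ℕ)) ∧ ∑ i, (e i : ℕ) = s} =
      ((gen h) ^ n).coeff s := by
  rw [card_fin_fun (n := n) (q := h + 1) (fun e => ∑ i, e i = s), card_pi_sum]
  simp [gen]

open Polynomial Finset in
theorem core (h n s D : ℕ) :
    Fintype.card {e : Fin n → Fin (2 * h + 1) // (∀ i, 1 ≤ (e i : ℕ)) ∧ ∑ i, (e i : ℕ) = s ∧
        (Finset.univ.filter fun i => 2 * (e i : ℕ) < 2 * h + 1).card = D} =
      n.choose D * ∑ j ∈ Finset.range (s + 1),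
        ((gen h) ^ D).coeff j * ((gen h) ^ (n - D)).coeff (s - j - (n - D) * h) := by
  rw [card_fin_fun (n := n) (q := 2 * h + 1)
    (fun e => ∑ i, e i = s ∧ (Finset.univ.filter fun i => 2 * e i < 2 * h + 1).card = D)]
  rw [Finset.card_eq_sum_card_fiberwise (t := (Finset.univ : Finset (Fin n)).powersetCard D)
    (f := fun e : Fin n → ℕ => Finset.univ.filter fun i => 2 * e i < 2 * h + 1)]
  swap
  · intro e he
    simp only [Finset.coe_filter, Set.mem_setOf_eq] at he
    simp only [Finset.mem_coe, Finset.mem_powersetCard]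
    exact ⟨Finset.subset_univ _, he.2.2⟩
  have hch : n.choose D = ((Finset.univ : Finset (Fin n)).powersetCard D).card := by
    rw [Finset.card_powersetCard, Finset.card_univ, Fintype.card_fin]
  rw [hch, Finset.card_eq_sum_ones, Finset.sum_mul]
  refine Finset.sum_congr rfl fun T hT => ?_
  rw [one_mul]
  obtain ⟨-, hT⟩ := Finset.mem_powersetCard.mp hT
  have hset : (((Fintype.piFinset fun _ : Fin n => Icc 1 (2 * h + 1 - 1)).filter fun e =>
        ∑ i, e i = s ∧ (univ.filter fun i => 2 * e i < 2 * h + 1).card = D).filter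
          fun e => (univ.filter fun i => 2 * e i < 2 * h + 1) = T) =
      ((Fintype.piFinset fun i => if i ∈ T then Icc 1 h else Icc (h + 1) (2 * h)).filter
        fun e => ∑ i, e i = s) := by
    ext e
    simp only [mem_filter, Fintype.mem_piFinset, Finset.ext_iff, mem_univ, true_and]
    constructor
    · rintro ⟨⟨he, hs, -⟩, hT'⟩
      refine ⟨fun i => ?_, hs⟩
      have h1 := Finset.mem_Icc.mp (he i)
      split_ifs with hi
      · have := (hT' i).mpr hi
        rw [Finset.mem_Icc]; omega
      · have := mt (hT' i).mp hi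
        rw [Finset.mem_Icc]; omega
    · rintro ⟨he, hs⟩
      have hT' : ∀ i, 2 * e i < 2 * h + 1 ↔ i ∈ T := fun i => by
        have h1 := he i
        split_ifs at h1 with hi <;> rw [Finset.mem_Icc] at h1
        · exact iff_of_true (by omega) hi
        · exact iff_of_false (by omega) hi
      refine ⟨⟨fun i => ?_, hs, ?_⟩, hT'⟩
      · have h1 := he i
        split_ifs at h1 with hi <;> rw [Finset.mem_Icc] at h1 ⊢ <;> omega
      · rw [← hT]
        congr 1
        ext i
        simp only [mem_filter, mem_univ, true_and, hT' i]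
  rw [hset, card_pi_sum]
  have hbig : ∑ v ∈ Icc (h + 1) (2 * h), (X : ℕ[X]) ^ v = X ^ h * gen h := by
    rw [gen, Finset.mul_sum]
    refine Finset.sum_bij' (fun v _ => v - h) (fun v _ => v + h) ?_ ?_ ?_ ?_ ?_
    all_goals intro v hv; rw [Finset.mem_Icc] at hv
    · rw [Finset.mem_Icc]; omega
    · rw [Finset.mem_Icc]; omega
    · omega
    · omega
    · rw [← pow_add, Nat.add_sub_cancel' (by omega)]
  have hprod : (∏ i, ∑ v ∈ (if i ∈ T then Icc 1 h else Icc (h + 1) (2 * h)), (X : ℕ[X]) ^ v) =
      gen h ^ D * (X ^ ((n - D) * h) * gen h ^ (n - D)) := by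
    rw [← Finset.prod_mul_prod_compl T]
    rw [Finset.prod_congr rfl (g := fun _ => gen h) (fun i hi => by rw [if_pos hi]; rfl),
      Finset.prod_congr (rfl : Tᶜ = Tᶜ) (g := fun _ => X ^ h * gen h)
        (fun i hi => by rw [if_neg (Finset.mem_compl.mp hi), hbig])]
    rw [Finset.prod_const, Finset.prod_const, Finset.card_compl, Fintype.card_fin, hT, mul_pow,
      ← pow_mul, mul_comm h]
  rw [hprod, coeff_mul, Finset.Nat.sum_antidiagonal_eq_sum_range_succ
    (fun a b => ((gen h) ^ D).coeff a * ((X : ℕ[X]) ^ ((n - D) * h) * gen h ^ (n - D)).coeff b)]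
  refine Finset.sum_congr rfl fun j _ => ?_
  rw [coeff_X_pow_mul']
  split_ifs with hle
  · rfl
  · have h0 : s - j - (n - D) * h = 0 := by omega
    have hm : n - D ≠ 0 := fun h' => hle (by simp [h'])
    have hz : (gen h).eval 0 = 0 := by
      rw [gen, eval_finsetSum]
      refine Finset.sum_eq_zero fun v hv => ?_
      rw [eval_pow, eval_X, zero_pow]
      have := (Finset.mem_Icc.mp hv).1
      omega
    rw [h0, coeff_zero_eq_eval_zero, eval_pow, hz, zero_pow hm]

/-- The second formula. For p odd and natural numbers n, s, write N_p(n, s) for the number of monomials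
of degree s in n variables in which every variable occurs with a positive exponent strictly less
than p, that is of exponent vectors (e_1, …, e_n) with sum s and 1 ≤ e_i ≤ p − 1, and N_p^D(n, s)
for the number of those in which exactly D variables occur with exponent less than p/2. Then
N_p^D(n, s) = C(n, D) · Σ_j N_{(p+1)/2}(D, j) · N_{(p+1)/2}(n − D, s − j − (n − D)(p − 1)/2), the
sum running over 0 ≤ j ≤ s. (Natural-number subtraction is used in the last argument; when it
truncates and n > D the factor vanishes, as it should. The published setting has p an odd prime;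
only p odd is used. The companion inclusion–exclusion expression for N_p(n, s) itself is a separate
statement.) -/
theorem result (p n s D : ℕ) (hp : Odd p) :
    Fintype.card {e : Fin n → Fin p // (∀ i, 1 ≤ (e i : ℕ)) ∧ ∑ i, (e i : ℕ) = s ∧
        (Finset.univ.filter fun i => 2 * (e i : ℕ) < p).card = D} =
      n.choose D * ∑ j ∈ Finset.range (s + 1),
        Fintype.card {e : Fin D → Fin ((p + 1) / 2) // (∀ i, 1 ≤ (e i : ℕ)) ∧ ∑ i, (e i : ℕ) = j} *
          Fintype.card {e : Fin (n - D) → Fin ((p + 1) / 2) // (∀ i, 1 ≤ (e i : ℕ)) ∧ ∑ i, (e i : ℕ) = (s - j - (n - D) * ((p - 1) / 2))} := by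
  obtain ⟨h, rfl⟩ := hp
  have h1 : (2 * h + 1 + 1) / 2 = h + 1 := by omega
  have h2 : (2 * h + 1 - 1) / 2 = h := by omega
  rw [core, h1, h2]
  simp only [card_small]

end Groth.Agent.S19487
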