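import Mathlib
import Groth.Statements.S19502
-- import your own Groth.Agent.* helpers here

set_option autoImplicit false
universe u
open W4c3ghconstell

namespace Groth.Agent.S19502

section

variable {ι : Type*} [DecidableEq ι]

lemma tail_eq {a : ι → ℝ} (ha : Summable a) (D : Finset ι) :
    (∑' i, if i ∈ D then (0 : ℝ) else a i) = (∑' i, a i) - ∑ i ∈ D, a i := by
  have hS : HasSum (fun i => if i ∈ D then a i else 0) (∑ i ∈ D, a i) := by
    have h : (∑ i ∈ D, if i ∈ D then a i else 0) = ∑ i ∈ D, a i := Finset.sum_congr rfl fun i hi => if_pos hi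
    rw [← h]
    exact hasSum_sum_of_ne_finset_zero fun i hi => if_neg hi
  have h := ha.hasSum.sub hS
  have e : (fun i => a i - if i ∈ D then a i else 0) = fun i => if i ∈ D then (0 : ℝ) else a i := by
    funext i; split_ifs <;> simp
  rw [e] at h
  exact h.tsum_eq

lemma weight_mul_ratio (θ : ℝ) {h h' : ℕ} (hle : h' ≤ h) : θ * (h' : ℝ) = θ * (h : ℝ) * ((h' : ℝ) / (h : ℝ)) := by
  rcases Nat.eq_zero_or_pos h with rfl | hp
  · simp [Nat.le_zero.1 hle]
  · have : (h : ℝ) ≠ 0 := by exact_mod_cast hp.ne'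
    field_simp

lemma ratio_mem {h h' : ℕ} (hle : h' ≤ h) : 0 ≤ (h' : ℝ) / (h : ℝ) ∧ (h' : ℝ) / (h : ℝ) ≤ 1 := by
  refine ⟨by positivity, div_le_one_of_le₀ (by exact_mod_cast hle) (by positivity)⟩

lemma summable_mul_ratio {a : ι → ℝ} (ha : Summable a) {r : ι → ℝ} (hr : ∀ i, 0 ≤ r i ∧ r i ≤ 1) :
    Summable fun i => a i * r i := by
  refine Summable.of_norm_bounded ha.abs fun i => ?_
  rw [Real.norm_eq_abs, abs_mul]
  exact mul_le_of_le_one_right (abs_nonneg _) (abs_le.2 ⟨by linarith [(hr i).1], (hr i).2⟩)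

end

/-- Let ι index the irreducible representations, θ : ι → ℚ a weight which is negative exactly on the
finite set D₋, h h' : ι → ℕ with h' ≤ h pointwise (the isotypic dimensions of an object and of a
sub-object) and Σ_i θ_i h_i summable. For a finite set D of indices put S_D = Σ_{i ∉ D} θ_i h_i, d =
#(D ∖ D₋) and θ̃_D = Σ_{i ∈ D} θ_i h'_i + (S_D / d) · Σ_{i ∈ D ∖ D₋} h'_i / h_i, the modified weight
attached to the parameters chosen for D (a quotient by zero is read as zero). Then for finite sets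
D₋ ⊆ D ⊆ D̃ contained in the locus θ ≠ 0: (first error term) θ̃_{D̃} − θ̃_D = Σ_{τ ∈ D̃ ∖ D} (θ_τ
h_τ + S_{D̃}/d̃) · (h'_τ/h_τ − (1/d) Σ_{σ ∈ D ∖ D₋} h'_σ/h_σ); (second error term) Σ_i θ_i h'_i −
θ̃_D = Σ_{τ ∉ D} θ_τ h_τ · (h'_τ/h_τ − (1/d) Σ_{σ ∈ D ∖ D₋} h'_σ/h_σ). -/
theorem result {ι : Type u} [DecidableEq ι]
    (θ : ι → ℚ) (h h' : ι → ℕ) (hle : ∀ i, h' i ≤ h i) (hfin : {i | θ i < 0}.Finite)
    (hsum : Summable (fun i => (θ i : ℝ) * (h i : ℝ))) (D D' : Finset ι)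
    (hDm : hfin.toFinset ⊆ D) (hDD' : D ⊆ D') (hsupp : ∀ i ∈ D', θ i ≠ 0) :
    (((∑ i ∈ D', (θ i : ℝ) * (h' i : ℝ)) + ((∑' i, if i ∈ D' then (0 : ℝ) else (θ i : ℝ) * (h i : ℝ)) / ((D' \ hfin.toFinset).card : ℝ)) * (∑ σ ∈ D' \ hfin.toFinset, ((h' σ : ℝ) / (h σ : ℝ)))) - ((∑ i ∈ D, (θ i : ℝ) * (h' i : ℝ)) + ((∑' i, if i ∈ D then (0 : ℝ) else (θ i : ℝ) * (h i : ℝ)) / ((D \ hfin.toFinset).card : ℝ)) * (∑ σ ∈ D \ hfin.toFinset, ((h' σ : ℝ) / (h σ : ℝ)))) =
      ∑ τ ∈ D' \ D, ((θ τ : ℝ) * (h τ : ℝ) + (∑' i, if i ∈ D' then (0 : ℝ) else (θ i : ℝ) * (h i : ℝ)) / ((D' \ hfin.toFinset).card : ℝ)) *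
        (((h' τ : ℝ) / (h τ : ℝ)) - (1 / ((D \ hfin.toFinset).card : ℝ)) * (∑ σ ∈ D \ hfin.toFinset, ((h' σ : ℝ) / (h σ : ℝ))))) ∧
    ((∑' i, (θ i : ℝ) * (h' i : ℝ)) - ((∑ i ∈ D, (θ i : ℝ) * (h' i : ℝ)) + ((∑' i, if i ∈ D then (0 : ℝ) else (θ i : ℝ) * (h i : ℝ)) / ((D \ hfin.toFinset).card : ℝ)) * (∑ σ ∈ D \ hfin.toFinset, ((h' σ : ℝ) / (h σ : ℝ)))) =
      ∑' τ, if τ ∈ D then (0 : ℝ) else (θ τ : ℝ) * (h τ : ℝ) *
        (((h' τ : ℝ) / (h τ : ℝ)) - (1 / ((D \ hfin.toFinset).card : ℝ)) * (∑ σ ∈ D \ hfin.toFinset, ((h' σ : ℝ) / (h σ : ℝ))))) := by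
  classical
  simp only [weight_mul_ratio _ (hle _)]
  set a : ι → ℝ := fun i => (θ i : ℝ) * (h i : ℝ) with ha
  set r : ι → ℝ := fun i => (h' i : ℝ) / (h i : ℝ) with hr
  have hr01 : ∀ i, 0 ≤ r i ∧ r i ≤ 1 := fun i => ratio_mem (hle i)
  have har : Summable fun i => a i * r i := summable_mul_ratio hsum hr01
  set N := D \ hfin.toFinset with hN
  set R := ∑ σ ∈ N, r σ with hR
  constructor
  · set E := D' \ D with hE
    have hunion : D' = D ∪ E := (Finset.union_sdiff_of_subset hDD').symm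
    have hdisj : Disjoint D E := Finset.disjoint_sdiff
    have hN' : D' \ hfin.toFinset = N ∪ E := by
      ext i
      simp only [hN, hE, Finset.mem_sdiff, Finset.mem_union]
      constructor
      · intro hi; by_cases hiD : i ∈ D
        · exact Or.inl ⟨hiD, hi.2⟩
        · exact Or.inr ⟨hi.1, hiD⟩
      · rintro (hi | hi)
        · exact ⟨hDD' hi.1, hi.2⟩
        · exact ⟨hi.1, fun h0 => hi.2 (hDm h0)⟩
    have hNE : Disjoint N E := hdisj.mono_left Finset.sdiff_subset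
    rw [hN', Finset.card_union_of_disjoint hNE, Finset.sum_union hNE, tail_eq hsum D, tail_eq hsum D',
      hunion, Finset.sum_union hdisj, Finset.sum_union hdisj]
    have hexp : ∀ x y : ℝ, ∑ τ ∈ E, (a τ + x) * (r τ - y) =
        ∑ τ ∈ E, a τ * r τ - y * ∑ τ ∈ E, a τ + x * ∑ τ ∈ E, r τ - (E.card : ℝ) * (x * y) := by
      intro x y
      simp_rw [show ∀ τ, (a τ + x) * (r τ - y) = a τ * r τ - y * a τ + x * r τ - x * y from fun τ => by ring]
      rw [Finset.sum_sub_distrib, Finset.sum_add_distrib, Finset.sum_sub_distrib, ← Finset.mul_sum, ← Finset.mul_sum, Finset.sum_const, nsmul_eq_mul]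
    rw [hexp, ← hR]
    push_cast
    rcases Nat.eq_zero_or_pos N.card with h0 | h0
    · have : R = 0 := by rw [hR, Finset.card_eq_zero.1 h0]; simp
      rw [this, h0]
      simp only [Nat.cast_zero, zero_add]
      ring
    · have hd : (N.card : ℝ) ≠ 0 := by exact_mod_cast h0.ne'
      have hd0 : (0 : ℝ) < (N.card : ℝ) := by exact_mod_cast h0
      have hd' : (N.card : ℝ) + (E.card : ℝ) ≠ 0 := ne_of_gt (add_pos_of_pos_of_nonneg hd0 (Nat.cast_nonneg _))
      generalize (∑ τ ∈ E, a τ * r τ) = A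
      generalize (∑ τ ∈ E, a τ) = B
      generalize (∑ τ ∈ E, r τ) = C
      generalize (∑ τ ∈ D, a τ * r τ) = A'
      generalize (∑ τ ∈ D, a τ) = B'
      generalize (∑' i, a i) = T
      clear_value R
      generalize (N.card : ℝ) = n at *
      generalize (E.card : ℝ) = m at *
      field_simp
      ring
  · rw [tail_eq hsum D]
    have e : (fun τ => if τ ∈ D then (0 : ℝ) else a τ * (r τ - 1 / (N.card : ℝ) * R)) =
        fun τ => (if τ ∈ D then (0 : ℝ) else a τ * r τ) - (1 / (N.card : ℝ) * R) * (if τ ∈ D then (0 : ℝ) else a τ) := by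
      funext τ; split_ifs <;> ring
    have hs1 : ∀ {b : ι → ℝ}, Summable b → Summable fun τ => if τ ∈ D then (0 : ℝ) else b τ := by
      intro b hb
      refine Summable.of_norm_bounded hb.abs fun i => ?_
      split_ifs <;> simp
    rw [e, (hs1 har).tsum_sub ((hs1 hsum).mul_left _), tsum_mul_left, tail_eq har D, tail_eq hsum D]
    ring

end Groth.Agent.S19502
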