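import Groth.Statements.S19522
-- import your own Groth.Agent.* helpers here

set_option autoImplicit false
universe u
open TensorProduct
open GLin

namespace Groth.Agent.S19522

/-- Let k be a field, A a commutative k-bialgebra coacting multiplicatively on a commutative k-algebra
R, and χ ∈ A a group-like element with an inverse χ' (χχ' = 1). Suppose the polynomial ring R[t]
carries a multiplicative coaction which restricts to the given one on constants and sends t to t ⊗
χ'. Then g ∈ R[t] is coinvariant if and only if, for every r, its r-th coefficient has coaction g_r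
↦ g_r ⊗ χ^r; that is, the ring of invariants of R[t] is the sum over r ≥ 0 of the weight-χ^r
semi-invariants of R times t^r. (The published statement is phrased for an affine variety with an
action of a linear algebraic group over an algebraically closed field of characteristic zero and
identifies the invariants of X × A¹ with the graded ring of invariant sections of the powers of the
linearised trivial bundle; this is its coordinate-ring content, valid over any field.) -/
theorem result (k : Type u) [Field k]
    (A : Type u) [CommRing A] [Bialgebra k A]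
    (R : Type u) [CommRing R] [Algebra k R] [HopfRep.Comod k A R] [GLin.IsCoactAlg k A R]
    [HopfRep.Comod k A (Polynomial R)] [GLin.IsCoactAlg k A (Polynomial R)]
    (χ χ' : A) (hχ : CoalgebraStruct.comul (R := k) (A := A) χ = χ ⊗ₜ[k] χ)
    (hχε : CoalgebraStruct.counit (R := k) (A := A) χ = 1) (hχχ' : χ * χ' = 1)
    (hC : ∀ r : R, HopfRep.Comod.coact (k := k) (A := A) (Polynomial.C r) =
      Algebra.TensorProduct.map (Polynomial.CAlgHom : R →ₐ[k] Polynomial R) (AlgHom.id k A)
        (HopfRep.Comod.coact (k := k) (A := A) r))
    (hX : HopfRep.Comod.coact (k := k) (A := A) (Polynomial.X : Polynomial R) = Polynomial.X ⊗ₜ[k] χ')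
    (g : Polynomial R) :
    g ∈ GLin.invariants k A (Polynomial R) ↔
      ∀ r : ℕ, g.coeff r ∈ HopfRep.eigenspace k A R (χ ^ r) := by
  classical
  have hX' : ∀ n : ℕ, HopfRep.Comod.coact (k := k) (A := A) ((Polynomial.X : Polynomial R) ^ n) =
      (Polynomial.X ^ n) ⊗ₜ[k] (χ' ^ n) := by
    intro n
    induction n with
    | zero =>
      rw [pow_zero, pow_zero, GLin.IsCoactAlg.coact_one (k := k) (A := A) (R := Polynomial R),
        Algebra.TensorProduct.one_def]
    | succ n ih =>
      rw [pow_succ, GLin.IsCoactAlg.coact_mul, ih, hX, Algebra.TensorProduct.tmul_mul_tmul, ← pow_succ,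
        ← pow_succ]
  have hmon : ∀ (n : ℕ) (a : R), HopfRep.Comod.coact (k := k) (A := A) (Polynomial.monomial n a) =
      Algebra.TensorProduct.map (Polynomial.CAlgHom : R →ₐ[k] Polynomial R) (AlgHom.id k A)
        (HopfRep.Comod.coact (k := k) (A := A) a) * ((Polynomial.X ^ n) ⊗ₜ[k] (χ' ^ n)) := by
    intro n a
    rw [← Polynomial.C_mul_X_pow_eq_monomial, GLin.IsCoactAlg.coact_mul, hC, hX']
  constructor
  · intro hg r
    let L : Polynomial R ⊗[k] A →ₗ[k] R ⊗[k] A :=
      ((Polynomial.lcoeff R r).restrictScalars k).rTensor A
    have hL : ∀ (n : ℕ) (b : A) (t : R ⊗[k] A),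
        L (Algebra.TensorProduct.map (Polynomial.CAlgHom : R →ₐ[k] Polynomial R) (AlgHom.id k A) t *
          ((Polynomial.X ^ n) ⊗ₜ[k] b)) = if r = n then t * ((1 : R) ⊗ₜ[k] b) else 0 := by
      intro n b t
      induction t using TensorProduct.induction_on with
      | zero => simp
      | tmul x y =>
        by_cases hrn : r = n <;>
          simp [L, hrn, Polynomial.CAlgHom, Polynomial.coeff_C_mul, Polynomial.coeff_X_pow]
      | add x y hx hy => rw [map_add, add_mul, map_add, hx, hy]; split <;> simp [add_mul]
    have key : ∀ q : Polynomial R, L (HopfRep.Comod.coact (k := k) (A := A) q) =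
        HopfRep.Comod.coact (k := k) (A := A) (q.coeff r) * ((1 : R) ⊗ₜ[k] (χ' ^ r)) := by
      intro q
      induction q using Polynomial.induction_on' with
      | add p q hp hq => rw [map_add, map_add, hp, hq, Polynomial.coeff_add, map_add, add_mul]
      | monomial n a =>
        rw [hmon, hL, Polynomial.coeff_monomial]
        by_cases hrn : r = n
        · subst hrn; simp
        · simp [hrn, Ne.symm hrn]
    have h1 := key g
    rw [show HopfRep.Comod.coact (k := k) (A := A) g = g ⊗ₜ[k] (1 : A) from hg] at h1
    have h2 := congrArg (· * ((1 : R) ⊗ₜ[k] (χ ^ r))) h1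
    simp only [L, LinearMap.rTensor_tmul, LinearMap.coe_restrictScalars, Polynomial.lcoeff_apply,
      mul_assoc, Algebra.TensorProduct.tmul_mul_tmul, mul_one, one_mul, ← mul_pow, mul_comm χ' χ, hχχ',
      one_pow, ← Algebra.TensorProduct.one_def] at h2
    exact h2.symm
  · intro h
    show HopfRep.Comod.coact (k := k) (A := A) g = g ⊗ₜ[k] (1 : A)
    conv_lhs => rw [g.as_sum_support]
    conv_rhs => rw [g.as_sum_support]
    rw [map_sum, TensorProduct.sum_tmul]
    refine Finset.sum_congr rfl fun n _ => ?_
    rw [hmon, show HopfRep.Comod.coact (k := k) (A := A) (g.coeff n) = g.coeff n ⊗ₜ[k] (χ ^ n) from h n]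
    simp [← mul_pow, hχχ', Polynomial.CAlgHom, Polynomial.C_mul_X_pow_eq_monomial]

end Groth.Agent.S19522
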