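import Groth.Statements.S19533
import Groth.Agent.UnitalMul.Field
import Groth.Agent.TrivSec.SmoothGR
import Groth.Agent.GrpSchField.ConnComp

set_option autoImplicit false
universe u
open CategoryTheory CategoryTheory.Limits MonoidalCategory CartesianMonoidalCategory MonObj GrpObj AlgebraicGeometry
open AbVar

namespace Groth.Agent.S19533

/-- Let k be an algebraically closed field, A an abelian variety over k (a k-group scheme whose
structure morphism is proper, smooth and geometrically connected) with unit point e, Y a scheme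
separated over k and f : A → Y a morphism over k. Write F₀ for the connected component of e in the
fibre f⁻¹(f(e)). Then the k-rational points of F₀ are stable under the group law: if k-points x and
y of A lie in F₀ then so do the product point x·y and the inverse point x⁻¹. (The published
statement is for Y a k-variety and concludes that F₀ with its reduced structure is an abelian
subvariety, together with the translation formula F_a = a + F₀; this row records the closure of
F₀(k) under multiplication and inversion, for Y merely separated over k.) -/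
theorem result (k : Type u) [Field k] [IsAlgClosed k]
    (A : Over (Spec (CommRingCat.of k))) [GrpObj A] [IsProper A.hom] [Smooth A.hom] [GeometricallyConnected A.hom]
    {Y : Scheme.{u}} (q : Y ⟶ Spec (CommRingCat.of k)) [IsSeparated q] (f : A.left ⟶ Y) (hf : f ≫ q = A.hom)
    (x y : 𝟙_ (Over (Spec (CommRingCat.of k))) ⟶ A)
    (hx : x.left (IsLocalRing.closedPoint k) ∈
      connectedComponentIn (f ⁻¹' {f (η[A].left (IsLocalRing.closedPoint k))}) (η[A].left (IsLocalRing.closedPoint k)))
    (hy : y.left (IsLocalRing.closedPoint k) ∈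
      connectedComponentIn (f ⁻¹' {f (η[A].left (IsLocalRing.closedPoint k))}) (η[A].left (IsLocalRing.closedPoint k))) :
    (lift x y ≫ μ[A]).left (IsLocalRing.closedPoint k) ∈
        connectedComponentIn (f ⁻¹' {f (η[A].left (IsLocalRing.closedPoint k))}) (η[A].left (IsLocalRing.closedPoint k)) ∧
      (x ≫ ι[A]).left (IsLocalRing.closedPoint k) ∈
        connectedComponentIn (f ⁻¹' {f (η[A].left (IsLocalRing.closedPoint k))}) (η[A].left (IsLocalRing.closedPoint k)) := by
  haveI : ConnectedSpace A.left := GeometricallyConnected.connectedSpace_of_subsingleton A.hom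
  haveI : GeometricallyReduced A.hom := Groth.Agent.TrivSec.geometricallyReduced_of_smooth A.hom
  haveI : IsLocallyNoetherian A.left := LocallyOfFiniteType.isLocallyNoetherian A.hom
  haveI : IsReduced A.left := GeometricallyReduced.isReduced_of_flat_of_isLocallyNoetherian A.hom
  haveI : IrreducibleSpace A.left := Groth.Agent.GrpSchField.irreducibleSpace_of_connectedSpace
  haveI : IsIntegral A.left := isIntegral_of_irreducibleSpace_of_isReduced _
  let pt := IsLocalRing.closedPoint k
  let ep : A.left := η[A].left pt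
  let Y' : Over (Spec (CommRingCat.of k)) := Over.mk q
  let f' : A ⟶ Y' := Over.homMk f hf
  haveI : IsSeparated Y'.hom := ‹IsSeparated q›
  let F : Set A.left := f ⁻¹' {f ep}
  have hFc : IsClosed F := by
    have hsec : IsClosedImmersion (η[A] ≫ f').left :=
      isClosedImmersion_of_comp_eq_id q (η[A] ≫ f').left (Over.w (η[A] ≫ f'))
    have hr : Set.range (η[A] ≫ f').left = {f ep} := by
      refine Set.eq_singleton_iff_unique_mem.mpr ⟨⟨pt, rfl⟩, ?_⟩
      rintro _ ⟨z, rfl⟩
      exact congrArg _ (Subsingleton.elim (α := (Spec (CommRingCat.of k) : Scheme.{u})) z pt)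
    exact (hr ▸ (η[A] ≫ f').left.isClosedEmbedding.isClosed_range).preimage f.continuous
  have hepF : ep ∈ F := rfl
  let C : Set A.left := connectedComponentIn F ep
  have hCF : C ⊆ F := connectedComponentIn_subset F ep
  have hCconn : _root_.IsConnected C := isConnected_connectedComponentIn_iff.mpr hepF
  let Z : TopologicalSpace.Closeds A.left := ⟨closure C, isClosed_closure⟩
  have hZF : (Z : Set A.left) ⊆ F := closure_minimal hCF hFc
  let J := Scheme.IdealSheafData.vanishingIdeal Z
  let Zs : Over (Spec (CommRingCat.of k)) := Over.mk (J.subschemeι ≫ A.hom)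
  let j : Zs ⟶ A := Over.homMk J.subschemeι rfl
  haveI : IsClosedImmersion j.left := inferInstanceAs (IsClosedImmersion J.subschemeι)
  haveI : IsReduced Zs.left := Groth.Agent.BMCoh.isReduced_vanishingIdeal_subscheme Z
  haveI : IsProper Zs.hom := inferInstanceAs (IsProper (J.subschemeι ≫ A.hom))
  have hrange : Set.range j.left = (Z : Set A.left) :=
    (Scheme.IdealSheafData.range_subschemeι J).trans (Scheme.IdealSheafData.coe_support_vanishingIdeal Z)
  haveI : ConnectedSpace Zs.left := by
    have hc : _root_.IsConnected (Set.univ : Set Zs.left) := by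
      refine ⟨?_, ?_⟩
      · obtain ⟨z, hz⟩ := hrange.symm.subset (subset_closure hCconn.nonempty.some_mem)
        exact ⟨z, trivial⟩
      · refine j.left.isClosedEmbedding.isEmbedding.isInducing.isPreconnected_image.mp ?_
        rw [Set.image_univ, hrange]
        exact hCconn.isPreconnected.closure
    exact connectedSpace_iff_univ.mpr hc
  have hlift : ∀ p : 𝟙_ (Over (Spec (CommRingCat.of k))) ⟶ A, p.left pt ∈ C →
      ∃ z : 𝟙_ (Over (Spec (CommRingCat.of k))) ⟶ Zs, z ≫ j = p := fun p hp => by
    obtain ⟨w, hw⟩ := hrange.symm.subset (subset_closure hp)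
    obtain ⟨z, hz⟩ := Groth.Agent.UnitalMul.exists_point_mem (W := Zs) (s := j.left ⁻¹' {p.left pt})
      ((Groth.Agent.UnitalMul.isClosed_point p).preimage j.left.continuous) ⟨w, hw⟩
    exact ⟨z, Groth.Agent.UnitalMul.point_ext hz⟩
  obtain ⟨z₀, hz₀⟩ := hlift η[A] (mem_connectedComponentIn hepF)
  have hTriv := Groth.Agent.RigidProd.trivialSections_of_connected Zs z₀
  let h : Zs ⊗ A ⟶ Y' := lift (fst Zs A ≫ j) (snd Zs A) ≫ μ[A] ≫ f'
  have hcol : (h.left '' ((snd Zs A).left ⁻¹' {ep})).Subsingleton := by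
    have key : ∀ p, (snd Zs A).left p = ep → h.left p = f ep := fun p hp => by
      have : p ∈ Set.range (𝟙 Zs ⊗ₘ η[A]).left := by
        rw [Groth.Agent.GrpSchField.range_tensorHom]
        exact ⟨⟨_, rfl⟩, pt, hp.symm⟩
      obtain ⟨w, rfl⟩ := this
      have e1 : (𝟙 Zs ⊗ₘ η[A]) ≫ h = fst Zs (𝟙_ _) ≫ j ≫ f' := by
        have e2 : (𝟙 Zs ⊗ₘ η[A]) ≫ lift (fst Zs A ≫ j) (snd Zs A) =
            lift (fst Zs (𝟙_ _) ≫ j) (toUnit _ ≫ η[A]) := by
          rw [comp_lift]
          congr 1
          · simp
          · rw [tensorHom_snd, toUnit_unique (snd Zs (𝟙_ (Over (Spec (CommRingCat.of k))))) (toUnit _)]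
        rw [← Category.assoc, e2, ← Category.assoc]
        show ((fst Zs (𝟙_ _) ≫ j) * (toUnit _ ≫ η[A])) ≫ f' = _
        rw [show (toUnit (Zs ⊗ 𝟙_ _) ≫ η[A]) = (1 : Zs ⊗ 𝟙_ _ ⟶ A) from rfl, _root_.mul_one,
          Category.assoc]
      rw [← Scheme.Hom.comp_apply, ← Over.comp_left, e1]
      show f (j.left ((fst Zs (𝟙_ _)).left w)) = f ep
      exact hZF (hrange.subset ⟨_, rfl⟩)
    rintro _ ⟨p₁, h₁, rfl⟩ _ ⟨p₂, h₂, rfl⟩
    rw [key p₁ h₁, key p₂ h₂]
  have hrig := Groth.Agent.RigidProd.rigid hTriv z₀ h ep hcol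
  have hinv : ∀ p : 𝟙_ (Over (Spec (CommRingCat.of k))) ⟶ A, p.left pt ∈ C →
      ((toUnit A ≫ p) * 𝟙 A) ≫ f' = f' := fun p hp => by
    obtain ⟨z, hz⟩ := hlift p hp
    have h1 := congr(lift (toUnit A ≫ z) (𝟙 A) ≫ $hrig)
    simp only [h, comp_lift_assoc, lift_fst_assoc, lift_snd_assoc, lift_snd, Category.id_comp,
      Category.assoc, hz, hz₀] at h1
    refine Eq.trans h1 ?_
    rw [← Category.assoc]
    show ((toUnit A ≫ η[A]) * 𝟙 A) ≫ f' = f'
    rw [show (toUnit A ≫ η[A]) = (1 : A ⟶ A) from rfl, _root_.one_mul, Category.id_comp]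
  have htr : ∀ p : 𝟙_ (Over (Spec (CommRingCat.of k))) ⟶ A, p.left pt ∈ C →
      ∀ a : 𝟙_ (Over (Spec (CommRingCat.of k))) ⟶ A, (p * a) ≫ f' = a ≫ f' := fun p hp a => by
    have := congr(a ≫ $(hinv p hp))
    rw [← Category.assoc, MonObj.comp_mul, ← Category.assoc, Category.comp_id,
      toUnit_unique (a ≫ toUnit A) (toUnit _), toUnit_unit, Category.id_comp] at this
    exact this
  have hopp : ∀ p : 𝟙_ (Over (Spec (CommRingCat.of k))) ⟶ A, p.left pt ∈ C →
      (∀ a : A.left, f (((toUnit A ≫ p⁻¹) * 𝟙 A).left a) = f a) := fun p hp a => by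
    have := congr(((toUnit A ≫ p⁻¹) * 𝟙 A) ≫ $(hinv p hp))
    rw [← Category.assoc, MonObj.comp_mul, ← Category.assoc, Category.comp_id,
      toUnit_unique (_ ≫ toUnit A) (toUnit A), ← _root_.mul_assoc, ← MonObj.comp_mul, _root_.mul_inv_cancel,
      MonObj.comp_one, _root_.one_mul, Category.id_comp] at this
    exact congr(($this).left a).symm
  have hmove : ∀ (τ : A ⟶ A) (b : 𝟙_ (Over (Spec (CommRingCat.of k))) ⟶ A), b.left pt ∈ C →
      (∀ a : A.left, f (τ.left a) = f a) → τ.left (b.left pt) ∈ C →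
      ∀ c : A.left, c ∈ C → τ.left c ∈ C := fun τ b hb hτ hτb c hc => by
    have him : τ.left '' C ⊆ F := by
      rintro _ ⟨a, ha, rfl⟩
      show f (τ.left a) = f ep
      rw [hτ a]
      exact hCF ha
    have hsub := (hCconn.image τ.left τ.left.continuous.continuousOn).isPreconnected.subset_connectedComponentIn
      ⟨_, hb, rfl⟩ him
    have heq : connectedComponentIn F (τ.left (b.left pt)) = C := (connectedComponentIn_eq hτb).symm
    exact heq ▸ hsub ⟨c, hc, rfl⟩
  have hη : η[A].left pt ∈ C := mem_connectedComponentIn hepF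
  have happ : ∀ p q : 𝟙_ (Over (Spec (CommRingCat.of k))) ⟶ A,
      ((toUnit A ≫ p) * 𝟙 A).left (q.left pt) = (p * q).left pt := fun p q => by
    have e3 : q ≫ ((toUnit A ≫ p) * 𝟙 A) = p * q := by
      rw [MonObj.comp_mul, ← Category.assoc, Category.comp_id,
        toUnit_unique (q ≫ toUnit A) (toUnit _), toUnit_unit, Category.id_comp]
    exact congr(($e3).left pt)
  have h1 : (η[A] : 𝟙_ _ ⟶ A) = 1 := by rw [one_eq_one]
  refine ⟨?_, ?_⟩
  · have := hmove ((toUnit A ≫ x) * 𝟙 A) η[A] hη
      (fun a => congr(($(hinv x hx)).left a)) (by rw [happ, h1, _root_.mul_one]; exact hx) _ hy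
    exact (happ x y) ▸ this
  · have := hmove ((toUnit A ≫ x⁻¹) * 𝟙 A) x hx (hopp x hx)
      (by rw [happ, _root_.inv_mul_cancel, ← h1]; exact hη) _ hη
    have h2 : (x⁻¹ * (η[A] : 𝟙_ _ ⟶ A)).left pt = (x⁻¹).left pt := by rw [h1, _root_.mul_one]
    exact ((happ x⁻¹ η[A]).trans h2) ▸ this

end Groth.Agent.S19533
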