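import Groth.Statements.S19540
import Mathlib
-- import your own Groth.Agent.* helpers here

set_option autoImplicit false
open CategoryTheory CategoryTheory.Limits Opposite
universe w v u
open CohSite

namespace Groth.Agent.S19540

/-- Let (C, J) be a site and B a class of objects of C, each weakly contractible (every epimorphism of
sheaves of sets, valued in a fixed universe, is surjective on sections over it), such that every
object V of C has a covering sieve all of whose arrows factor through some object of B. Then a
three-term complex F ⟶ G ⟶ H of abelian sheaves on (C, J) is exact if and only if for every U in B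
the sequence of section groups F(U) ⟶ G(U) ⟶ H(U) is exact. (The published statement is for sheaves
of modules over a sheaf of rings O; this row is the case of the constant sheaf of rings ℤ, i.e.
abelian sheaves, to which exactness questions for O-modules reduce. The universe set-up assumes that
abelian sheafification exists and inverts exactly the locally bijective maps, as on any small site.) -/
theorem result
    {C : Type u} [Category.{v} C] (J : GrothendieckTopology C) [HasSheafify J AddCommGrpCat.{w}]
    [J.WEqualsLocallyBijective AddCommGrpCat.{w}]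
    (B : C → Prop)
    (hB : ∀ U : C, B U → ∀ (P Q : Sheaf J (Type w)) (ψ : P ⟶ Q), Epi ψ → Function.Surjective (ψ.hom.app (op U)))
    (hcov : ∀ V : C, ∃ S : Sieve V, S ∈ J V ∧ ∀ ⦃W : C⦄ (f : W ⟶ V), S.arrows f →
      ∃ (U : C) (g : W ⟶ U) (h : U ⟶ V), B U ∧ g ≫ h = f)
    (S : ShortComplex (Sheaf J AddCommGrpCat.{w})) :
    S.Exact ↔ ∀ U : C, B U →
      (S.map (sheafToPresheaf J AddCommGrpCat.{w} ⋙ (evaluation Cᵒᵖ AddCommGrpCat.{w}).obj (op U))).Exact := by
  let E : C → Sheaf J AddCommGrpCat.{w} ⥤ AddCommGrpCat.{w} := fun U =>
    sheafToPresheaf J AddCommGrpCat.{w} ⋙ (evaluation Cᵒᵖ AddCommGrpCat.{w}).obj (op U)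
  haveI : ∀ U, (E U).Additive := fun U => Functor.additive_of_preserves_binary_products (E U)
  haveI : ∀ U, PreservesFiniteLimits (E U) := fun U => inferInstanceAs
    (PreservesFiniteLimits (sheafToPresheaf J AddCommGrpCat.{w} ⋙ (evaluation Cᵒᵖ AddCommGrpCat.{w}).obj (op U)))
  have hinj : ∀ U, Function.Injective ((E U).map S.iCycles) := fun U =>
    (AddCommGrpCat.mono_iff_injective _).mp inferInstance
  have hlift : ∀ U (y : (E U).obj S.X₂), (E U).map S.g y = 0 → ∃ z, (E U).map S.iCycles z = y := by
    intro U y hy
    haveI : Mono ((ShortComplex.mk S.iCycles S.g S.iCycles_g).map (E U)).f :=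
      inferInstanceAs (Mono ((E U).map S.iCycles))
    have hex : ((ShortComplex.mk S.iCycles S.g S.iCycles_g).map (E U)).Exact :=
      ShortComplex.exact_of_f_is_kernel _ (KernelFork.mapIsLimit _ S.cyclesIsKernel (E U))
    exact (ShortComplex.ab_exact_iff _).mp hex y hy
  constructor
  · intro hS U hU
    rw [S.exact_iff_epi_toCycles] at hS
    haveI : Sheaf.IsLocallySurjective S.toCycles := (Sheaf.isLocallySurjective_iff_epi' (φ := S.toCycles)).mpr hS
    have hsurj : Function.Surjective ((E U).map S.toCycles) :=
      hB U hU _ _ ((sheafCompose J (forget AddCommGrpCat.{w})).map S.toCycles) inferInstance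
    rw [ShortComplex.ab_exact_iff]
    intro y hy
    obtain ⟨z, hz⟩ := hlift U y hy
    obtain ⟨x, hx⟩ := hsurj z
    refine ⟨x, ?_⟩
    show (E U).map S.f x = y
    rw [← hz, ← hx, ← S.toCycles_i, Functor.map_comp]
    rfl
  · intro h
    rw [S.exact_iff_epi_toCycles]
    haveI : Sheaf.IsLocallySurjective S.toCycles := by
      refine ⟨fun {V} z => ?_⟩
      obtain ⟨R, hR, hfac⟩ := hcov V
      refine J.superset_covering ?_ hR
      intro W f hf
      obtain ⟨U, g, k, hU, rfl⟩ := hfac f hf
      let z' : (E U).obj S.cycles := S.cycles.obj.map k.op z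
      have hgz : (E U).map S.g ((E U).map S.iCycles z') = 0 := by
        rw [← ConcreteCategory.comp_apply, ← Functor.map_comp, S.iCycles_g, Functor.map_zero]
        rfl
      obtain ⟨x, hx⟩ := (ShortComplex.ab_exact_iff _).mp (h U hU) _ hgz
      have hxz : (E U).map S.toCycles x = z' := by
        apply hinj U
        have e := ConcreteCategory.congr_hom (congrArg (E U).map S.toCycles_i) x
        rw [Functor.map_comp] at e
        exact e.trans hx
      refine ⟨S.X₁.obj.map g.op x, ?_⟩
      rw [op_comp, Functor.map_comp, ConcreteCategory.comp_apply]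
      refine Eq.trans (NatTrans.naturality_apply S.toCycles.hom g.op x) ?_
      exact congrArg (S.cycles.obj.map g.op) hxz
    infer_instance

end Groth.Agent.S19540
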