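import Groth.Statements.S19546
import Mathlib
-- import your own Groth.Agent.* helpers here

set_option autoImplicit false
universe u v w
open scoped TensorProduct
open VBCurve

namespace Groth.Agent.S19546

open MvPolynomial in
/-- The truncated Segre parametrisation of matrices of rank at most one. -/
noncomputable def segre (K : Type*) [Field K] (m n : ℕ) (i j : ℕ) :
    MvPolynomial (Fin m × Fin n) K →ₐ[K] MvPolynomial (Fin m ⊕ Fin n) K :=
  aeval fun pq => if (pq.1 : ℕ) < i ∧ (pq.2 : ℕ) < j then X (Sum.inl pq.1) * X (Sum.inr pq.2) else 0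

theorem segre_X (K : Type*) [Field K] (m n i j : ℕ) (p : Fin m) (q : Fin n) :
    segre K m n i j (MvPolynomial.X (p, q)) =
      if (p : ℕ) < i ∧ (q : ℕ) < j then MvPolynomial.X (Sum.inl p) * MvPolynomial.X (Sum.inr q)
      else 0 :=
  MvPolynomial.aeval_X _ _

theorem ker_segre_mono (K : Type*) [Field K] (m n : ℕ) {i j i' j' : ℕ} (hi : i' ≤ i) (hj : j' ≤ j) :
    RingHom.ker (segre K m n i j) ≤ RingHom.ker (segre K m n i' j') := by
  let κ : MvPolynomial (Fin m ⊕ Fin n) K →ₐ[K] MvPolynomial (Fin m ⊕ Fin n) K :=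
    MvPolynomial.aeval (Sum.elim (fun p => if (p : ℕ) < i' then MvPolynomial.X (Sum.inl p) else 0)
      (fun q => if (q : ℕ) < j' then MvPolynomial.X (Sum.inr q) else 0))
  have h : κ.comp (segre K m n i j) = segre K m n i' j' := MvPolynomial.algHom_ext fun pq => by
    obtain ⟨p, q⟩ := pq
    rw [AlgHom.comp_apply, segre_X, segre_X]
    by_cases h1 : (p : ℕ) < i ∧ (q : ℕ) < j
    · rw [if_pos h1, map_mul]
      simp only [κ, MvPolynomial.aeval_X, Sum.elim_inl, Sum.elim_inr]
      split_ifs <;> simp_all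
    · rw [if_neg h1, map_zero, if_neg]
      exact fun h2 => h1 ⟨by omega, by omega⟩
  intro x hx
  rw [RingHom.mem_ker] at hx ⊢
  rw [← h, AlgHom.comp_apply, hx, map_zero]

theorem ker_segre_lt (K : Type*) [Field K] (m n : ℕ) {i j i' j' : ℕ} (hi : i' ≤ i) (hj : j' ≤ j)
    (p : Fin m) (q : Fin n) (hp : (p : ℕ) < i) (hq : (q : ℕ) < j)
    (h : i' ≤ (p : ℕ) ∨ j' ≤ (q : ℕ)) :
    RingHom.ker (segre K m n i j) < RingHom.ker (segre K m n i' j') := by
  refine lt_of_le_of_ne (ker_segre_mono K m n hi hj) fun he => ?_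
  have h1 : MvPolynomial.X (p, q) ∈ RingHom.ker (segre K m n i' j') := by
    rw [RingHom.mem_ker, segre_X, if_neg]
    omega
  rw [← he, RingHom.mem_ker, segre_X, if_pos ⟨hp, hq⟩] at h1
  exact mul_ne_zero (MvPolynomial.X_ne_zero _) (MvPolynomial.X_ne_zero _) h1

/-- Linear forms without common nonzero zero of rank at most one are at least `m + n + 1` many. -/
theorem le_card_of_no_rank_one (K : Type*) [Field K] [IsAlgClosed K] (m n c : ℕ)
    (L : Fin c → MvPolynomial (Fin (m + 1) × Fin (n + 1)) K)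
    (hL : ∀ r, MvPolynomial.eval 0 (L r) = 0)
    (h : ∀ z : Fin (m + 1) × Fin (n + 1) → K,
      (∀ p q p' q', z (p, q) * z (p', q') = z (p, q') * z (p', q)) →
      (∀ r, MvPolynomial.eval z (L r) = 0) → z = 0) :
    m + n + 1 ≤ c := by
  classical
  set P := RingHom.ker (segre K (m + 1) (n + 1) (m + 1) (n + 1)) with hP
  let M : Ideal (MvPolynomial (Fin (m + 1) × Fin (n + 1)) K) :=
    RingHom.ker (MvPolynomial.eval (0 : Fin (m + 1) × Fin (n + 1) → K))
  have hMmax : M.IsMaximal :=
    RingHom.ker_isMaximal_of_surjective _ fun a => ⟨MvPolynomial.C a, MvPolynomial.eval_C a⟩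
  let mk := Ideal.Quotient.mk P
  have hQP : ∀ i j, i ≤ m + 1 → j ≤ n + 1 →
      P ≤ RingHom.ker (segre K (m + 1) (n + 1) i j) := fun i j hi hj => ker_segre_mono K _ _ hi hj
  have hprime : ∀ Q : Ideal (MvPolynomial (Fin (m + 1) × Fin (n + 1)) K), Q.IsPrime → P ≤ Q →
      (Q.map mk).IsPrime := fun Q hQ hle =>
    Ideal.map_isPrime_of_surjective Ideal.Quotient.mk_surjective (by rwa [Ideal.mk_ker])
  have hlt : ∀ Q Q' : Ideal (MvPolynomial (Fin (m + 1) × Fin (n + 1)) K), P ≤ Q → Q < Q' →
      Q.map mk < Q'.map mk := by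
    intro Q Q' hle hQQ'
    refine lt_of_le_of_ne (Ideal.map_mono hQQ'.le) fun he => hQQ'.ne ?_
    have h1 := congrArg (Ideal.comap mk) he
    rwa [Ideal.comap_map_of_surjective' _ Ideal.Quotient.mk_surjective,
      Ideal.comap_map_of_surjective' _ Ideal.Quotient.mk_surjective, Ideal.mk_ker,
      sup_eq_left.2 hle, sup_eq_left.2 (hle.trans hQQ'.le)] at h1
  have hchain : ∀ k i j, 1 ≤ i → 1 ≤ j → i ≤ m + 1 → j ≤ n + 1 → i + j + k = m + n + 2 →
      (k : ℕ∞) ≤ ((RingHom.ker (segre K (m + 1) (n + 1) i j)).map mk).height := by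
    intro k
    induction k with
    | zero => simp
    | succ k ih =>
      intro i j hi hj him hjn hk
      have := hprime _ (RingHom.ker_isPrime _) (hQP i j him hjn)
      by_cases hi' : i < m + 1
      · have hs := hlt _ _ (hQP (i + 1) j (by omega) hjn) (ker_segre_lt K _ _ (i := i + 1) (i' := i)
          (j := j) (j' := j) (by omega) le_rfl ⟨i, hi'⟩ 0 (by simp) (by simp; omega)
          (Or.inl (by simp)))
        have := hprime _ (RingHom.ker_isPrime _) (hQP (i + 1) j (by omega) hjn)
        refine le_trans ?_ (Order.add_one_le_of_lt (Ideal.height_strict_mono_of_isPrime hs))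
        push_cast
        gcongr
        exact ih (i + 1) j (by omega) hj (by omega) hjn (by omega)
      · have hj' : j < n + 1 := by omega
        have hs := hlt _ _ (hQP i (j + 1) him (by omega)) (ker_segre_lt K _ _ (i := i) (i' := i)
          (j := j + 1) (j' := j) le_rfl (by omega) 0 ⟨j, hj'⟩ (by simp; omega) (by simp)
          (Or.inr (by simp)))
        have := hprime _ (RingHom.ker_isPrime _) (hQP i (j + 1) him (by omega))
        refine le_trans ?_ (Order.add_one_le_of_lt (Ideal.height_strict_mono_of_isPrime hs))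
        push_cast
        gcongr
        exact ih i (j + 1) hi (by omega) him (by omega) (by omega)
  have hM1 : RingHom.ker (segre K (m + 1) (n + 1) 1 1) < M := by
    refine lt_of_le_of_ne (fun x hx => ?_) fun he => ?_
    · have h1 : MvPolynomial.aeval (R := K) (0 : Fin (m + 1) ⊕ Fin (n + 1) → K)
          (segre K (m + 1) (n + 1) 1 1 x) = MvPolynomial.aeval (R := K) (0 : Fin (m + 1) × Fin (n + 1) → K) x := by
        rw [← AlgHom.comp_apply]
        congr 1
        refine MvPolynomial.algHom_ext fun pq => ?_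
        obtain ⟨p, q⟩ := pq
        rw [AlgHom.comp_apply, segre_X]
        split_ifs <;> simp
      rw [RingHom.mem_ker] at hx
      rw [hx, map_zero] at h1
      rw [RingHom.mem_ker]
      exact h1.symm
    · have h1 : MvPolynomial.X ((0 : Fin (m + 1)), (0 : Fin (n + 1))) ∈ M := by
        simp [M, RingHom.mem_ker]
      rw [← he, RingHom.mem_ker, segre_X, if_pos ⟨by simp, by simp⟩] at h1
      exact mul_ne_zero (MvPolynomial.X_ne_zero _) (MvPolynomial.X_ne_zero _) h1
  have hPM : P ≤ M := (hQP 1 1 (by omega) (by omega)).trans hM1.le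
  have hMp := hprime M hMmax.isPrime hPM
  have hlow : ((m + n + 1 : ℕ) : ℕ∞) ≤ (M.map mk).height := by
    have := hprime _ (RingHom.ker_isPrime _) (hQP 1 1 (by omega) (by omega))
    refine le_trans ?_ (Order.add_one_le_of_lt
      (Ideal.height_strict_mono_of_isPrime (hlt _ _ (hQP 1 1 (by omega) (by omega)) hM1)))
    push_cast
    gcongr
    exact_mod_cast hchain (m + n) 1 1 le_rfl le_rfl (by omega) (by omega) (by omega)
  -- the forms cut out the vertex
  let J : Ideal (MvPolynomial (Fin (m + 1) × Fin (n + 1)) K) :=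
    P ⊔ Ideal.span (Set.range L)
  have hJ : M ≤ J.radical := by
    rw [← MvPolynomial.vanishingIdeal_zeroLocus_eq_radical (K := K)]
    intro x hx z hz
    have hzero : z = 0 := by
      refine h z (fun p q p' q' => ?_) fun r => ?_
      · have hmem : MvPolynomial.X (p, q) * MvPolynomial.X (p', q') -
            MvPolynomial.X (p, q') * MvPolynomial.X (p', q) ∈ P := by
          rw [hP, RingHom.mem_ker, map_sub, map_mul, map_mul, segre_X, segre_X, segre_X, segre_X,
            if_pos ⟨p.2, q.2⟩, if_pos ⟨p'.2, q'.2⟩, if_pos ⟨p.2, q'.2⟩, if_pos ⟨p'.2, q.2⟩]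
          ring
        have h1 := hz _ (Ideal.mem_sup_left hmem)
        rw [map_sub, map_mul, map_mul] at h1
        simpa [sub_eq_zero] using h1
      · exact hz _ (Ideal.mem_sup_right (Ideal.subset_span ⟨r, rfl⟩))
    rw [hzero]
    rw [RingHom.mem_ker] at hx
    exact hx
  have hmin : M.map mk ∈ (Ideal.span (Set.range fun r => mk (L r))).minimalPrimes := by
    refine ⟨⟨hMp, Ideal.span_le.2 ?_⟩, fun Q ⟨hQ, hQle⟩ _ => ?_⟩
    · rintro _ ⟨r, rfl⟩
      exact Ideal.mem_map_of_mem _ (hL r)
    · have hQ' : (Q.comap mk).IsPrime := hQ.comap mk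
      have h1 : J ≤ Q.comap mk := by
        refine sup_le (fun x hx => ?_) (Ideal.span_le.2 ?_)
        · rw [Ideal.mem_comap, Ideal.Quotient.eq_zero_iff_mem.2 hx]
          exact Q.zero_mem
        · rintro _ ⟨r, rfl⟩
          exact hQle (Ideal.subset_span ⟨r, rfl⟩)
      exact Ideal.map_le_iff_le_comap.2 (hJ.trans (hQ'.radical_le_iff.2 h1))
  have hup : (M.map mk).height ≤ (c : ℕ∞) := by
    refine (Ideal.height_le_spanRank_toENat_of_mem_minimalPrimes _ _ hmin).trans ?_
    rw [Submodule.spanRank_toENat_eq_iInf_finset_card]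
    refine iInf_le_of_le ⟨Finset.univ.image fun r => mk (L r), by simp⟩ ?_
    exact_mod_cast Finset.card_image_le.trans (by simp)
  exact_mod_cast hlow.trans hup

/-- Let A, B, C be complex vector spaces, A and B finite-dimensional, and ν : A ⊗ B → C a linear map
injective on each factor separately (b ↦ ν(a ⊗ b) is injective for every a ≠ 0 and a ↦ ν(a ⊗ b) is
injective for every b ≠ 0). Then the image of ν has dimension at least dim A + dim B - 1. (For A = 0
the separate-injectivity hypothesis is empty and the inequality fails as soon as dim B ≥ 2, so A and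
B are taken nonzero here, the case the inequality is about.) -/
theorem result
    (A : Type u) (B : Type v) (C : Type w) [AddCommGroup A] [Module ℂ A] [AddCommGroup B] [Module ℂ B]
    [AddCommGroup C] [Module ℂ C] [FiniteDimensional ℂ A] [FiniteDimensional ℂ B]
    [Nontrivial A] [Nontrivial B] (ν : A ⊗[ℂ] B →ₗ[ℂ] C)
    (hA : ∀ a : A, a ≠ 0 → Function.Injective (fun b : B => ν (a ⊗ₜ[ℂ] b)))
    (hB : ∀ b : B, b ≠ 0 → Function.Injective (fun a : A => ν (a ⊗ₜ[ℂ] b))) :
    Module.finrank ℂ A + Module.finrank ℂ B ≤ Module.finrank ℂ (LinearMap.range ν) + 1 := by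
  obtain ⟨m, hm⟩ := Nat.exists_eq_succ_of_ne_zero (Module.finrank_pos (R := ℂ) (M := A)).ne'
  obtain ⟨n, hn⟩ := Nat.exists_eq_succ_of_ne_zero (Module.finrank_pos (R := ℂ) (M := B)).ne'
  let α := Module.finBasisOfFinrankEq ℂ A hm
  let β := Module.finBasisOfFinrankEq ℂ B hn
  let γ := Module.finBasis ℂ (LinearMap.range ν)
  let L : Fin (Module.finrank ℂ (LinearMap.range ν)) → MvPolynomial (Fin (m + 1) × Fin (n + 1)) ℂ :=
    fun r => ∑ pq, MvPolynomial.C (γ.repr (ν.rangeRestrict (α pq.1 ⊗ₜ β pq.2)) r) * MvPolynomial.X pq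
  have key := le_card_of_no_rank_one ℂ m n _ L (fun r => by simp [L]) fun z hz hLz => ?_
  · omega
  by_contra hne
  obtain ⟨⟨p₀, q₀⟩, h0 : z (p₀, q₀) ≠ 0⟩ := Function.ne_iff.1 hne
  let a : A := ∑ p, z (p, q₀) • α p
  let b : B := ∑ q, (z (p₀, q) / z (p₀, q₀)) • β q
  have ha : a ≠ 0 := fun h => h0 (Fintype.linearIndependent_iff.1 α.linearIndependent _ h p₀)
  have hb : b ≠ 0 := fun h => one_ne_zero (α := ℂ) (by
    have := Fintype.linearIndependent_iff.1 β.linearIndependent _ h q₀
    rwa [div_self h0] at this)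
  have hab : a ⊗ₜ[ℂ] b = ∑ pq : Fin (m + 1) × Fin (n + 1), z pq • (α pq.1 ⊗ₜ[ℂ] β pq.2) := by
    rw [Fintype.sum_prod_type, TensorProduct.sum_tmul]
    refine Finset.sum_congr rfl fun p _ => ?_
    rw [TensorProduct.tmul_sum]
    refine Finset.sum_congr rfl fun q _ => ?_
    rw [TensorProduct.smul_tmul_smul]
    congr 1
    field_simp
    rw [hz p q₀ p₀ q]
    ring
  have hν : ν.rangeRestrict (a ⊗ₜ b) = 0 := by
    refine γ.repr.injective ?_
    rw [map_zero]
    ext r
    rw [hab, map_sum, map_sum, Finsupp.finsetSum_apply, Finsupp.zero_apply, ← hLz r]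
    simp [L, mul_comm]
  refine hb (hA a ha ?_)
  show ν (a ⊗ₜ b) = ν (a ⊗ₜ 0)
  rw [TensorProduct.tmul_zero, map_zero]
  exact congrArg Subtype.val hν

end Groth.Agent.S19546
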