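import Groth.Statements.S19547
import Mathlib.RingTheory.Flat.FaithfullyFlat.Algebra

set_option autoImplicit false
universe u
open TensorProduct
open Desc

namespace Groth.Agent.S19547

/-- Let A → A' be a faithfully flat homomorphism of commutative rings, M' an A'-module and φ : M' ⊗_A A'
→ A' ⊗_A M' an isomorphism of (A' ⊗_A A')-modules for the diagonal actions (x ⊗ y)(u ⊗ z) = xu ⊗ yz
and (x ⊗ y)(z ⊗ u) = xz ⊗ yu, satisfying the cocycle condition φ_13 = φ_23 ∘ φ_12 between the three
pullbacks to A' ⊗_A A' ⊗_A A'. Here linearity over A' ⊗_A A' is stated on the generators x ⊗ 1 and 1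
⊗ y, and the cocycle condition on pure tensors u ⊗ a ⊗ b: writing φ(u ⊗ a) = Σ a_i ⊗ u_i, it says Σ
a_i ⊗ φ(u_i ⊗ b) = Σ b_j ⊗ a ⊗ u'_j where φ(u ⊗ b) = Σ b_j ⊗ u'_j. Let M = {u ∈ M' : φ(u ⊗ 1) = 1 ⊗
u}, an A-submodule of M'. Then the canonical map λ : A' ⊗_A M → M', x ⊗ u ↦ xu, is an isomorphism. -/
theorem result (A A' : Type u) [CommRing A] [CommRing A']
    [Algebra A A'] [Module.FaithfullyFlat A A'] (M' : Type u) [AddCommGroup M'] [Module A M']
    [Module A' M'] [IsScalarTower A A' M']
    (φ : M' ⊗[A] A' →ₗ[A] A' ⊗[A] M') (hφ : Function.Bijective φ)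
    (h1 : ∀ (x : A') (u : M') (z : A'),
      φ ((x • u) ⊗ₜ[A] z) = LinearMap.rTensor M' (LinearMap.mulLeft A x) (φ (u ⊗ₜ[A] z)))
    (h2 : ∀ (y : A') (u : M') (z : A'),
      φ (u ⊗ₜ[A] (y * z)) = LinearMap.lTensor A' (Algebra.lsmul A A M' y) (φ (u ⊗ₜ[A] z)))
    (hcoc : ∀ (u : M') (a b : A'),
      LinearMap.lTensor A' φ (TensorProduct.assoc A A' M' A' (LinearMap.rTensor A' φ ((u ⊗ₜ[A] a) ⊗ₜ[A] b))) =
        LinearMap.lTensor A' (TensorProduct.mk A A' M' a) (φ (u ⊗ₜ[A] b)))
    (M : Submodule A M') (hM : ∀ u : M', u ∈ M ↔ φ (u ⊗ₜ[A] (1 : A')) = (1 : A') ⊗ₜ[A] u) :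
    Function.Bijective
      ((TensorProduct.lift (Algebra.lsmul A A M').toLinearMap) ∘ₗ (LinearMap.lTensor A' M.subtype)) := by
  let ι : M' →ₗ[A] A' ⊗[A] M' := TensorProduct.mk A A' M' 1
  let θ : M' →ₗ[A] A' ⊗[A] M' := φ ∘ₗ (TensorProduct.mk A M' A').flip 1
  let d : M' →ₗ[A] A' ⊗[A] M' := θ - ι
  let μ : A' ⊗[A] M' →ₗ[A] M' := TensorProduct.lift (Algebra.lsmul A A M').toLinearMap
  have hθ : ∀ u, θ u = φ (u ⊗ₜ[A] 1) := fun u => rfl
  have hdM : ∀ u, u ∈ M ↔ d u = 0 := fun u => by rw [hM]; simp [d, ι, hθ, sub_eq_zero]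
  have hex : Function.Exact (LinearMap.lTensor A' M.subtype) (LinearMap.lTensor A' d) := by
    refine Module.Flat.lTensor_exact A' ?_
    intro u
    constructor
    · intro h; exact ⟨⟨u, (hdM u).2 h⟩, rfl⟩
    · rintro ⟨v, rfl⟩; exact (hdM _).1 v.2
  -- the cocycle at (u,1,1)
  have hc : ∀ u, LinearMap.lTensor A' θ (θ u) = LinearMap.lTensor A' ι (θ u) := fun u => by
    have h := hcoc u 1 1
    rw [LinearMap.rTensor_tmul, ← hθ] at h
    refine Eq.trans ?_ h
    generalize θ u = t
    induction t using TensorProduct.induction_on with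
    | zero => simp
    | tmul x v => simp [hθ]
    | add s t hs ht => simp only [map_add, TensorProduct.add_tmul, hs, ht]
  have hdθ : ∀ u, LinearMap.lTensor A' d (θ u) = 0 := fun u => by
    rw [LinearMap.lTensor_sub, LinearMap.sub_apply, hc, sub_self]
  have hθlin : ∀ (x : A') (u : M'), θ (x • u) = LinearMap.rTensor M' (LinearMap.mulLeft A x) (θ u) := fun x u => h1 x u 1
  let μ₁ : A' ⊗[A] (A' ⊗[A] M') →ₗ[A] A' ⊗[A] M' :=
    LinearMap.rTensor M' (LinearMap.mul' A A') ∘ₗ (TensorProduct.assoc A A' A' M').symm.toLinearMap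
  have he : ∀ u, μ (θ u) = u := fun u => by
    have key : θ (μ (θ u)) = θ u := by
      have hl : ∀ t, μ₁ (LinearMap.lTensor A' θ t) = θ (μ t) := fun t => by
        induction t using TensorProduct.induction_on with
        | zero => simp
        | tmul x v =>
          rw [LinearMap.lTensor_tmul, show μ (x ⊗ₜ[A] v) = x • v from rfl, hθlin]
          generalize θ v = t
          induction t using TensorProduct.induction_on with
          | zero => simp
          | tmul y w => simp [μ₁]
          | add s t hs ht => simp only [map_add, TensorProduct.tmul_add, hs, ht]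
        | add s t hs ht => simp only [map_add, hs, ht]
      have hr : ∀ t, μ₁ (LinearMap.lTensor A' ι t) = t := fun t => by
        induction t using TensorProduct.induction_on with
        | zero => simp
        | tmul x v => simp [μ₁, ι]
        | add s t hs ht => simp only [map_add, hs, ht]
      rw [← hl, hc, hr]
    rw [hθ, hθ] at key
    have hinj : Function.Injective (fun v : M' => v ⊗ₜ[A] (1 : A')) := fun v w h => by
      apply Module.FaithfullyFlat.tensorProduct_mk_injective (A := A) (B := A') M'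
      simpa using congrArg (TensorProduct.comm A M' A') h
    exact hinj (hφ.injective key)
  constructor
  · intro s t h
    apply Module.Flat.lTensor_preserves_injective_linearMap (M := A') M.subtype Subtype.val_injective
    have hθL : ∀ r : A' ⊗[A] M, θ (μ (LinearMap.lTensor A' M.subtype r)) = LinearMap.lTensor A' M.subtype r := fun r => by
      induction r using TensorProduct.induction_on with
      | zero => simp
      | tmul x v =>
        rw [LinearMap.lTensor_tmul, show μ (x ⊗ₜ[A] M.subtype v) = x • (v : M') from rfl, hθlin, hθ,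
          (hM v).1 v.2]
        simp
      | add s t hs ht => simp only [map_add, hs, ht]
    rw [← hθL s, ← hθL t]
    exact congrArg θ h
  · intro u
    obtain ⟨m, hm⟩ := (hex (θ u)).1 (hdθ u)
    exact ⟨m, by rw [LinearMap.comp_apply, hm]; exact he u⟩

end Groth.Agent.S19547
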