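import Groth.Statements.S19551
import Mathlib
-- import your own Groth.Agent.* helpers here

set_option autoImplicit false
universe u v w
open KronMod

namespace Groth.Agent.S19551

section
open Matrix
variable {K : Type u} [Field K] [IsAlgClosed K]

lemma exists_family {ι : Type} [Fintype ι] [DecidableEq ι] (A B : Matrix ι ι K)
    (h : ∀ t : K, (A + t • B).det = 0) :
    ∃ c : ℕ → (ι → K), (∀ i, A *ᵥ c (i + 1) + B *ᵥ c i = 0) ∧ ∃ i₀, c i₀ ≠ 0 ∧ A *ᵥ c i₀ = 0 := by
  classical
  let P : Matrix ι ι (Polynomial K) := A.map (Polynomial.C : K →+* Polynomial K) +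
    (Polynomial.X : Polynomial K) • B.map (Polynomial.C : K →+* Polynomial K)
  have hP : ∀ t : K, (Polynomial.evalRingHom t).mapMatrix P = A + t • B := fun t => by
    ext i j; simp [P]; ring
  have hdet : P.det = 0 := by
    refine Polynomial.funext fun t => ?_
    rw [Polynomial.eval_zero, ← h t, ← hP t, ← RingHom.map_det]
    rfl
  obtain ⟨v, hv0, hv⟩ := Matrix.exists_mulVec_eq_zero_iff.2 hdet
  let c : ℕ → (ι → K) := fun i j => (v j).coeff i
  have hsum : ∀ (M : Matrix ι ι K) (i : ℕ) (a : ι),
      (∑ j, Polynomial.C (M a j) * v j).coeff i = (M *ᵥ c i) a := fun M i a => by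
    simp [Matrix.mulVec, dotProduct, c, Polynomial.finset_sum_coeff]
  have hrow : ∀ a, (∑ j, Polynomial.C (A a j) * v j) + Polynomial.X * (∑ j, Polynomial.C (B a j) * v j) = 0 :=
    fun a => by
      have := congrFun hv a
      simpa [P, Matrix.mulVec, dotProduct, add_mul, Finset.sum_add_distrib, Finset.mul_sum, mul_assoc, mul_left_comm] using this
  have h0 : A *ᵥ c 0 = 0 := funext fun a => by
    have := congrArg (Polynomial.coeff · 0) (hrow a)
    simpa [Polynomial.coeff_add, hsum] using this
  have hs : ∀ i, A *ᵥ c (i + 1) + B *ᵥ c i = 0 := fun i => funext fun a => by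
    have := congrArg (Polynomial.coeff · (i + 1)) (hrow a)
    simpa [Polynomial.coeff_add, hsum, Polynomial.coeff_X_mul] using this
  obtain ⟨j, hj⟩ : ∃ j, v j ≠ 0 := by
    by_contra! hh; exact hv0 (funext hh)
  have hex : ∃ i, c i ≠ 0 := ⟨(v j).natDegree, fun e => hj (Polynomial.leadingCoeff_eq_zero.1 (congrFun e j))⟩
  refine ⟨c, hs, Nat.find hex, Nat.find_spec hex, ?_⟩
  rcases Nat.eq_zero_or_pos (Nat.find hex) with e | e
  · rw [e]; exact h0
  · obtain ⟨m, hm⟩ := Nat.exists_eq_add_one_of_ne_zero e.ne'
    have hc : c m = 0 := not_not.1 (Nat.find_min hex (by omega))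
    have := hs m
    rwa [hc, Matrix.mulVec_zero, add_zero, ← hm] at this

end


/-- Case of two arrows. Over an algebraically closed field K, if a Kronecker module f = (f_0, f_1) with
two arrows between spaces V and W of the same finite dimension k is semistable, then some linear
combination z_0 f_0 + z_1 f_1 of its arrows is a linear isomorphism V → W: for two arrows the
semistable locus of dimension vector (k, k) lies in the open set of modules whose generic
combination is invertible, for every k. (The published statement, over an algebraically closed field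
of characteristic zero, also covers the dimension vectors (1, 1) and (2, 2) for any number of
arrows; this row states the two-arrow case for all k, without the characteristic assumption.) -/
theorem result (K : Type u) [Field K] [IsAlgClosed K]
    (V : Type v) (W : Type w)
    [AddCommGroup V] [Module K V] [FiniteDimensional K V]
    [AddCommGroup W] [Module K W] [FiniteDimensional K W]
    (f : Fin 2 → (V →ₗ[K] W)) (k : ℕ)
    (hV : Module.finrank K V = k) (hW : Module.finrank K W = k)
    (hf : KronMod.IsSemistable f) :
    ∃ z : Fin 2 → K, Function.Bijective ((∑ j, z j • f j : V →ₗ[K] W) : V → W) := by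
  classical
  rcases Nat.eq_zero_or_pos k with hk | hk
  · subst hk
    haveI := Module.finrank_zero_iff.1 hV
    haveI := Module.finrank_zero_iff.1 hW
    exact ⟨0, ⟨fun a b _ => Subsingleton.elim a b, fun w => ⟨0, Subsingleton.elim _ _⟩⟩⟩
  by_contra hcon
  push Not at hcon
  let bV := Module.finBasisOfFinrankEq K V hV
  let bW := Module.finBasisOfFinrankEq K W hW
  let A := LinearMap.toMatrix bV bW (f 0)
  let B := LinearMap.toMatrix bV bW (f 1)
  have hdet : ∀ t : K, (A + t • B).det = 0 := fun t => by
    by_contra hne
    refine hcon ![1, t] ?_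
    have hM : LinearMap.toMatrix bV bW (∑ j, (![1, t] : Fin 2 → K) j • f j) = A + t • B := by
      simp [A, B, Fin.sum_univ_two]
    have hu : IsUnit (LinearMap.toMatrix bV bW (∑ j, (![1, t] : Fin 2 → K) j • f j)).det := by
      rw [hM]; exact isUnit_iff_ne_zero.2 hne
    exact (LinearEquiv.ofIsUnitDet hu).bijective
  obtain ⟨c, hc, i₀, hi₀, hA⟩ := exists_family A B hdet
  let v : ℕ → V := fun i => bV.equivFun.symm (c i)
  have hrep : ∀ (g : V →ₗ[K] W) (i : ℕ), bW.equivFun (g (v i)) = Matrix.mulVec (LinearMap.toMatrix bV bW g) (c i) :=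
    fun g i => by
      have := LinearMap.toMatrix_mulVec_repr bV bW g (v i)
      have he : ⇑(bV.repr (v i)) = c i := bV.equivFun.apply_symm_apply (c i)
      rw [Module.Basis.equivFun_apply, ← this, he]
  let V' := Submodule.span K (Set.range v)
  let W' := V'.map (f 0)
  have hsub : KronMod.IsSubrep f V' W' := by
    intro j
    rw [Submodule.map_le_iff_le_comap]
    intro x hx
    fin_cases j
    · exact Submodule.mem_map_of_mem hx
    · refine (Submodule.span_le (p := W'.comap (f 1))).2 ?_ hx
      rintro _ ⟨i, rfl⟩
      refine ⟨- v (i + 1), V'.neg_mem (Submodule.subset_span ⟨i + 1, rfl⟩), ?_⟩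
      apply bW.equivFun.injective
      rw [map_neg, map_neg, hrep, hrep]
      exact neg_eq_of_add_eq_zero_right (hc i)
  have hlt : Module.finrank K W' < Module.finrank K V' := by
    have h1 := LinearMap.finrank_range_add_finrank_ker ((f 0).domRestrict V')
    have h2 : LinearMap.range ((f 0).domRestrict V') = W' := by
      ext w; simp [W', LinearMap.mem_range]
    rw [h2] at h1
    have h3 : 0 < Module.finrank K (LinearMap.ker ((f 0).domRestrict V')) := by
      refine Module.finrank_pos_iff_exists_ne_zero.2 ⟨⟨⟨v i₀, Submodule.subset_span ⟨i₀, rfl⟩⟩, ?_⟩, ?_⟩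
      · rw [LinearMap.mem_ker, LinearMap.domRestrict_apply]
        apply bW.equivFun.injective
        rw [hrep, map_zero]
        exact hA
      · intro e
        exact hi₀ ((LinearEquiv.map_eq_zero_iff bV.equivFun.symm).1 (congrArg (fun z => ((z : LinearMap.ker ((f 0).domRestrict V')).1 : V)) e))
    omega
  have hss := hf.2 V' W' hsub ?_ ?_
  · rw [hV, hW] at hss
    exact absurd (Nat.le_of_mul_le_mul_left hss hk) (not_le.2 hlt)
  · rintro ⟨e, -⟩
    rw [e, finrank_bot] at hlt
    omega
  · rintro ⟨e, e'⟩
    rw [e, e', finrank_top, finrank_top, hV, hW] at hlt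
    omega

end Groth.Agent.S19551
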