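import Groth.Statements.S19552
import Groth.Agent.SerreSplit.Cancel

set_option autoImplicit false
universe u
open CAlg

namespace Groth.Agent.S19552

/-- Let R be a Noetherian ring of Krull dimension d and P, Q finitely generated projective R-modules of
constant rank at every prime which have the same class in the Grothendieck group, i.e. are stably
isomorphic: P ⊕ R^m ≅ Q ⊕ R^m for some m. Then there is a positive integer N with P^N ≅ Q^N. (The
two exponents in the published display are read as the same integer N; for modules of positive rank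
an isomorphism between direct powers forces equal exponents.) -/
theorem result (R : Type u) [CommRing R] [IsNoetherianRing R]
    (d n : ℕ) (hdim : ringKrullDim R = d)
    (P Q : Type u) [AddCommGroup P] [Module R P] [Module.Finite R P] [Module.Projective R P]
    [AddCommGroup Q] [Module R Q] [Module.Finite R Q] [Module.Projective R Q]
    (hrk : ∀ p : PrimeSpectrum R, Module.rankAtStalk (R := R) P p = n)
    (hrk' : ∀ p : PrimeSpectrum R, Module.rankAtStalk (R := R) Q p = n)
    (m : ℕ) (e : (P × (Fin m → R)) ≃ₗ[R] (Q × (Fin m → R))) :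
    ∃ N : ℕ, 1 ≤ N ∧ Nonempty ((Fin N → P) ≃ₗ[R] (Fin N → Q)) := by
  by_cases hn : n = 0
  · subst hn
    haveI : Subsingleton P := Module.rankAtStalk_eq_zero_iff_subsingleton.1 (funext hrk)
    haveI : Subsingleton Q := Module.rankAtStalk_eq_zero_iff_subsingleton.1 (funext hrk')
    exact ⟨1, le_rfl, ⟨LinearEquiv.ofSubsingleton _ _⟩⟩
  haveI : Module.Projective R (Fin (d + 1) → Q) := Module.Projective.of_equiv (DirectSum.linearEquivFunOnFintype R (Fin (d + 1)) fun _ => Q)
  refine ⟨d + 1, Nat.succ_pos d, Groth.Agent.SerreSplit.cancel_fin hdim (n := (d + 1) * n) ?_ ?_ ((d + 1) * m) ?_⟩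
  · exact lt_of_lt_of_le (Nat.lt_succ_self d) (Nat.le_mul_of_pos_right _ (Nat.pos_of_ne_zero hn))
  · intro p
    simp [Module.rankAtStalk_pi, hrk', finsum_eq_sum_of_fintype]
  · let σ : (Fin ((d + 1) * m) → R) ≃ₗ[R] (Fin (d + 1) → Fin m → R) :=
      (LinearEquiv.funCongrLeft R R finProdFinEquiv).trans (LinearEquiv.curry R R (Fin (d + 1)) (Fin m))
    let split : ∀ (A B : Type u) [AddCommGroup A] [Module R A] [AddCommGroup B] [Module R B],
        (Fin (d + 1) → A × B) ≃ₗ[R] ((Fin (d + 1) → A) × (Fin (d + 1) → B)) := fun A B _ _ _ _ =>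
      { toFun := fun f => (fun i => (f i).1, fun i => (f i).2)
        map_add' := fun _ _ => rfl
        map_smul' := fun _ _ => rfl
        invFun := fun z i => (z.1 i, z.2 i)
        left_inv := fun _ => rfl
        right_inv := fun _ => rfl }
    exact (LinearEquiv.prodCongr (LinearEquiv.refl R _) σ).trans ((split P (Fin m → R)).symm.trans
      ((LinearEquiv.piCongrRight fun _ => e).trans ((split Q (Fin m → R)).trans
        (LinearEquiv.prodCongr (LinearEquiv.refl R _) σ.symm))))

end Groth.Agent.S19552
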