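import Groth.Statements.S19565
import Mathlib.LinearAlgebra.RootSystem.CartanMatrix
-- import your own Groth.Agent.* helpers here

set_option autoImplicit false
universe u v w
open RootComb

namespace Groth.Agent.S19565

theorem root_notMem {ι : Type u} {k : Type v} [Field k]
    {M : Type w} [AddCommGroup M] [Module k M] {N : Type w} [AddCommGroup N] [Module k N]
    {P : RootPairing ι k M N} (b : P.Base) {j : ι} (hj : j ∈ b.support) :
    P.root j ∉ Submodule.span k (P.root '' ((b.support : Set ι) \ {j})) := by
  intro h
  refine b.linearIndepOn_root.linearIndependent.notMem_span_image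
    (s := {x : (b.support : Set ι) | (x : ι) ≠ j}) (x := ⟨j, hj⟩) (by simp) ?_
  refine Submodule.span_mono ?_ h
  rintro _ ⟨x, hx, rfl⟩
  exact ⟨⟨x, hx.1⟩, hx.2, rfl⟩

set_option maxHeartbeats 400000 in
/-- Let Φ be a finite reduced crystallographic irreducible root system over a field of characteristic
zero, Δ a base of simple roots, I ⊆ Δ, and suppose the simple roots outside I are split into two
disjoint non-empty sets A and B. Then there are a simple root β ∈ A and a root δ such that δ is a
non-negative integer combination of the simple roots of I ∪ B (a positive root whose support avoids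
A), δ is not in the linear span of I (so δ is not a root of the Levi subsystem of I), and ⟨δ, β^∨⟩ <
0. (The published statement is made for the root system of a semisimple group; for a reducible
system such as A₁ × A₁ with I empty and A, B the two simple roots there is no such δ, and the
argument measures distances in a connected Dynkin diagram, so the root system is taken irreducible
here.) -/
theorem result
    {ι : Type u} [Finite ι] [DecidableEq ι] {k : Type v} [Field k] [CharZero k]
    {M : Type w} [AddCommGroup M] [Module k M] {N : Type w} [AddCommGroup N] [Module k N]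
    (P : RootPairing ι k M N) [P.IsCrystallographic] [P.IsReduced] [P.IsIrreducible] (b : P.Base)
    (I A B : Finset ι) (hcover : I ∪ A ∪ B = b.support) (hIA : Disjoint I A) (hIB : Disjoint I B)
    (hAB : Disjoint A B) (hA : A.Nonempty) (hB : B.Nonempty) :
    ∃ l ∈ A, ∃ j : ι, P.root j ∈ AddSubmonoid.closure (P.root '' ↑(I ∪ B)) ∧
      P.root j ∉ Submodule.span k (P.root '' ↑I) ∧ P.pairingIn ℤ j l < 0 := by
  classical
  by_contra hcon
  push Not at hcon
  obtain ⟨b0, hb0⟩ := hB
  obtain ⟨a0, ha0⟩ := hA
  have hsub : ∀ x ∈ I ∪ B, x ∈ b.support := fun x hx => by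
    rw [← hcover]; simp only [Finset.mem_union] at hx ⊢; tauto
  have hb0s : b0 ∈ b.support := hsub b0 (Finset.mem_union_right _ hb0)
  have ha0s : a0 ∈ b.support := by rw [← hcover]; simp [ha0]
  let p : b.support → Prop := fun j => ∃ (r : ι) (f : ι → ℕ),
    P.root r = ∑ x ∈ I ∪ B, f x • P.root x ∧ 0 < f b0 ∧ (j : ι) ∈ I ∪ B ∧ 0 < f j
  have hpair : ∀ (r : ι) (f : ι → ℕ), P.root r = ∑ x ∈ I ∪ B, f x • P.root x → ∀ l,
      P.pairingIn ℤ r l = ∑ x ∈ I ∪ B, (f x : ℤ) * P.pairingIn ℤ x l := by
    intro r f hr l
    apply FaithfulSMul.algebraMap_injective ℤ k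
    rw [P.algebraMap_pairingIn, map_sum, ← P.root_coroot'_eq_pairing, hr, map_sum]
    refine Finset.sum_congr rfl fun x _ => ?_
    rw [map_mul, P.algebraMap_pairingIn, map_nsmul, P.root_coroot'_eq_pairing, nsmul_eq_mul]
    simp
  have hp : ∀ i j : b.support, p i → b.cartanMatrix j i ≠ 0 → p j := by
    rintro i j ⟨r, f, hr, hf0, hi, hfi⟩ hadj
    by_cases hj : (j : ι) ∈ I ∪ B ∧ 0 < f j
    · exact ⟨r, f, hr, hf0, hj.1, hj.2⟩
    have hne : i ≠ j := fun h => hj (h ▸ ⟨hi, hfi⟩)
    have hij : P.pairingIn ℤ i j < 0 := by
      refine lt_of_le_of_ne (b.pairingIn_le_zero_of_ne (fun h => hne (Subtype.ext h)) i.2 j.2) ?_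
      exact fun h => hadj ((b.cartanMatrix_apply_eq_zero_iff_symm).1 h)
    have hneg : P.pairingIn ℤ r j < 0 := by
      rw [hpair r f hr j]
      refine Finset.sum_neg' (fun x hx => ?_) ⟨i, hi, mul_neg_of_pos_of_neg (by exact_mod_cast hfi) hij⟩
      by_cases hxj : x = (j : ι)
      · subst hxj
        simp [Nat.eq_zero_of_not_pos fun h => hj ⟨hx, h⟩]
      · exact mul_nonpos_of_nonneg_of_nonpos (by positivity)
          (b.pairingIn_le_zero_of_ne hxj (hsub x hx) j.2)
    have hjIB : (j : ι) ∈ I ∪ B := by
      by_contra hn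
      have hjA : (j : ι) ∈ A := by
        have := (Finset.ext_iff.1 hcover _).2 j.2
        simp only [Finset.mem_union] at this hn
        tauto
      refine absurd hneg (not_lt.2 (hcon j hjA r ?_ ?_))
      · rw [hr]
        exact sum_mem fun x hx => nsmul_mem
          (AddSubmonoid.subset_closure (Set.mem_image_of_mem _ (Finset.mem_coe.2 hx))) _
      · intro hmem
        let W := Submodule.span k (P.root '' ((b.support : Set ι) \ {b0}))
        have hI' : Submodule.span k (P.root '' ↑I) ≤ W := Submodule.span_mono (Set.image_mono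
          fun x hx => ⟨hsub x (Finset.mem_union_left _ hx), fun h =>
            (Finset.disjoint_left.1 hIB (Finset.mem_coe.1 hx)) ((Set.mem_singleton_iff.1 h) ▸ hb0)⟩)
        have hrest : ∑ x ∈ (I ∪ B).erase b0, f x • P.root x ∈ W :=
          Submodule.sum_mem W fun x hx => Submodule.smul_of_tower_mem W (f x)
            (Submodule.subset_span ⟨x, ⟨hsub x (Finset.mem_of_mem_erase hx), Finset.ne_of_mem_erase hx⟩, rfl⟩)
        have h1 : f b0 • P.root b0 ∈ W := by
          have h2 := sub_mem (hI' hmem) hrest
          rwa [hr, ← Finset.add_sum_erase _ _ (Finset.mem_union_right _ hb0),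
            add_sub_cancel_right] at h2
        rw [← Nat.cast_smul_eq_nsmul k] at h1
        have h3 : P.root b0 ∈ W := (W.smul_mem_iff (by exact_mod_cast hf0.ne')).1 h1
        exact root_notMem b hb0s h3
    have hroot : P.root r + P.root j ∈ Set.range P.root := by
      refine P.root_add_root_mem_of_pairingIn_neg hneg fun h => ?_
      have h2 : P.root (j : ι) ∈ Submodule.span k (P.root '' ((b.support : Set ι) \ {(j : ι)})) := by
        have h3 : P.root r ∈ Submodule.span k (P.root '' ((b.support : Set ι) \ {(j : ι)})) := by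
          rw [hr]
          refine Submodule.sum_mem _ fun x hx => ?_
          by_cases hxj : x = (j : ι)
          · subst hxj; simp [Nat.eq_zero_of_not_pos fun h' => hj ⟨hx, h'⟩]
          · exact Submodule.smul_of_tower_mem _ (f x) (Submodule.subset_span ⟨x, ⟨hsub x hx, hxj⟩, rfl⟩)
        rw [h] at h3
        exact (Submodule.neg_mem_iff _).1 h3
      exact root_notMem b j.2 h2
    obtain ⟨r', hr'⟩ := hroot
    refine ⟨r', fun x => f x + (if x = (j : ι) then 1 else 0), ?_, Nat.add_pos_left hf0 _, hjIB, by simp⟩
    simp only [add_smul, Finset.sum_add_distrib, ← hr, hr', ite_smul, one_smul, zero_smul]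
    rw [Finset.sum_ite_eq' _ _ _, if_pos hjIB]
  have hinit : p ⟨b0, hb0s⟩ := ⟨b0, fun x => if x = b0 then 1 else 0, by simp [Finset.sum_ite_eq', hb0],
    by simp, Finset.mem_union_right _ hb0, by simp⟩
  obtain ⟨_, _, _, _, hmem, _⟩ := b.induction_on_cartanMatrix p (j := ⟨a0, ha0s⟩) hinit hp
  exact (Finset.mem_union.1 hmem).elim (fun h => Finset.disjoint_left.1 hIA h ha0)
    (fun h => Finset.disjoint_left.1 hAB ha0 h)

end Groth.Agent.S19565
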