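import Groth.Statements.S19569
import Mathlib.RingTheory.Smooth.NoetherianDescent
import Mathlib.RingTheory.Etale.Basic
-- import your own Groth.Agent.* helpers here

set_option autoImplicit false
universe u
open CAlg

namespace Groth.Agent.S19569

open TensorProduct in
/-- Let A be the colimit of a directed system of rings (A_i), given by compatible ring maps A_i → A
which are jointly surjective and such that an element of some A_i mapping to zero in A already maps
to zero in some later A_j, and let B be an étale A-algebra. Then for some index i there is an étale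
A_i-algebra B_i such that B is isomorphic, as an A-algebra, to the base change A ⊗_{A_i} B_i
(existence of an isomorphism). (Stated for a system indexed by a directed preordered set.) -/
theorem result {ι : Type u} [Preorder ι] [IsDirected ι (· ≤ ·)] [Nonempty ι]
    (G : ι → Type u) [∀ i, CommRing (G i)] (f : ∀ i j, i ≤ j → (G i →+* G j))
    (A : Type u) [CommRing A] (g : ∀ i, G i →+* A) (hg : ∀ i j (h : i ≤ j), (g j).comp (f i j h) = g i)
    (hsurj : ∀ a : A, ∃ i, ∃ x : G i, g i x = a)
    (hker : ∀ i (x : G i), g i x = 0 → ∃ j, ∃ h : i ≤ j, f i j h x = 0)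
    (B : Type u) [CommRing B] [Algebra A B] [Algebra.Etale A B] :
    ∃ (i : ι) (Bi : Type u) (_ : CommRing Bi) (_ : Algebra (G i) Bi), Algebra.Etale (G i) Bi ∧
      letI : Algebra (G i) A := (g i).toAlgebra
      Nonempty (B ≃ₐ[A] A ⊗[G i] Bi) := by
  classical
  obtain ⟨A₀, B₀, _, _, hfg, hB₀, ⟨e⟩⟩ :=
    Algebra.Etale.exists_subalgebra_fg (R := ℤ) (A := A) (B := B)
  have : Algebra.FiniteType ℤ A₀ := (Subalgebra.fg_iff_finiteType A₀).mp hfg
  obtain ⟨n, π, hπ, hker0⟩ := (Algebra.FinitePresentation.of_finiteType (R := ℤ) (A := A₀)).1 this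
  obtain ⟨T, hT⟩ := hker0
  choose ii xx hxx using fun k : Fin n => hsurj ((π (MvPolynomial.X k) : A₀) : A)
  obtain ⟨i, hi⟩ := Finite.exists_le ii
  let ψ : MvPolynomial (Fin n) ℤ →+* G i :=
    MvPolynomial.eval₂Hom (Int.castRingHom _) fun k => f (ii k) i (hi k) (xx k)
  have hψ : (g i).comp ψ = A₀.val.toRingHom.comp π.toRingHom := by
    refine MvPolynomial.ringHom_ext (fun r => by simp) fun k => ?_
    have := RingHom.congr_fun (hg (ii k) i (hi k)) (xx k)
    simp only [RingHom.comp_apply] at this
    simp [ψ, this, hxx]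
  have key : ∀ T' : Finset (MvPolynomial (Fin n) ℤ), (∀ x ∈ T', π.toRingHom x = 0) →
      ∃ (j : ι) (θ : MvPolynomial (Fin n) ℤ →+* G j),
        (g j).comp θ = A₀.val.toRingHom.comp π.toRingHom ∧ ∀ r ∈ T', θ r = 0 := by
    intro T'
    induction T' using Finset.induction with
    | empty => exact fun _ => ⟨i, ψ, hψ, by simp⟩
    | @insert r T' _ IH =>
      intro hsub
      obtain ⟨j, θ, hθ, h0⟩ := IH fun x hx => hsub x (Finset.mem_insert_of_mem hx)
      have hr : g j (θ r) = 0 := by
        have := RingHom.congr_fun hθ r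
        simp only [RingHom.comp_apply] at this
        rw [this, show π.toRingHom r = 0 from hsub r (Finset.mem_insert_self _ _),
          map_zero]
      obtain ⟨j', hjj', hj'⟩ := hker j _ hr
      refine ⟨j', (f j j' hjj').comp θ, by rw [← RingHom.comp_assoc, hg, hθ], fun x hx => ?_⟩
      rcases Finset.mem_insert.1 hx with rfl | hx
      · exact hj'
      · rw [RingHom.comp_apply, h0 x hx, map_zero]
  obtain ⟨j, θ, hθ, h0⟩ := key T (fun x hx => RingHom.mem_ker.1 (hT.le (Ideal.subset_span hx)))
  have hle : RingHom.ker π.toRingHom ≤ RingHom.ker θ :=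
    hT.symm.le.trans (Ideal.span_le.2 fun x hx => h0 x hx)
  let α : A₀ →+* G j := (Ideal.Quotient.lift _ θ hle).comp
    (RingHom.quotientKerEquivOfSurjective (f := π.toRingHom) hπ).symm.toRingHom
  have hα : (g j).comp α = A₀.val.toRingHom := by
    refine RingHom.ext fun a => ?_
    obtain ⟨q, rfl⟩ := hπ a
    have e' : (RingHom.quotientKerEquivOfSurjective (f := π.toRingHom) hπ).symm (π q) =
        Ideal.Quotient.mk _ q := by
      rw [RingEquiv.symm_apply_eq]
      rfl
    simp only [α, RingHom.comp_apply, RingEquiv.toRingHom_eq_coe, RingHom.coe_coe, e',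
      Ideal.Quotient.lift_mk]
    exact RingHom.congr_fun hθ q
  letI : Algebra A₀ (G j) := α.toAlgebra
  letI : Algebra (G j) A := (g j).toAlgebra
  haveI : IsScalarTower A₀ (G j) A := IsScalarTower.of_algebraMap_eq' hα.symm
  exact ⟨j, (G j) ⊗[A₀] B₀, inferInstance, inferInstance, inferInstance,
    ⟨e.trans (Algebra.TensorProduct.cancelBaseChange A₀ (G j) A A B₀).symm⟩⟩

end Groth.Agent.S19569
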