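import Groth.Statements.S1957
import Mathlib
import Groth.Agent.S2042
-- import your own Groth.Agent.* helpers here

set_option autoImplicit false
universe u
open Polynomial
open EtAlg

namespace Groth.Agent.S1957

/-- Let A be a ring, I an ideal and f a monic polynomial over A. Suppose the image of f in (A/I)[x]
factors as g h where the leading coefficient of g is a unit and g, h generate the unit ideal. Then
there is an etale A-algebra A' such that A/I -> A'/IA' is bijective, together with a factorization f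
= g' h' in A'[x] whose reduction modulo IA' is the image of the given one. -/
theorem result (A : Type u) [CommRing A] (I : Ideal A) (f : A[X]) (hf : f.Monic)
    (g h : (A ⧸ I)[X]) (hgh : f.map (Ideal.Quotient.mk I) = g * h) (hlead : IsUnit g.leadingCoeff)
    (hcop : IsCoprime g h) :
    ∃ (A' : Type u) (_ : CommRing A') (_ : Algebra A A') (_ : Algebra.Etale A A'),
      Function.Bijective (Ideal.quotientMap (I.map (algebraMap A A')) (algebraMap A A') Ideal.le_comap_map) ∧
      ∃ g' h' : A'[X], f.map (algebraMap A A') = g' * h' ∧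
        g'.map (Ideal.Quotient.mk (I.map (algebraMap A A'))) =
          g.map (Ideal.quotientMap (I.map (algebraMap A A')) (algebraMap A A') Ideal.le_comap_map) ∧
        h'.map (Ideal.Quotient.mk (I.map (algebraMap A A'))) =
          h.map (Ideal.quotientMap (I.map (algebraMap A A')) (algebraMap A A') Ideal.le_comap_map) := by
  classical
  obtain ⟨c, hc⟩ := hlead
  have hg₀ : (C (↑c⁻¹ : A ⧸ I) * g).Monic :=
    monic_C_mul_of_mul_leadingCoeff_eq_one (by rw [← hc, Units.inv_mul])
  have hprod : f.map (Ideal.Quotient.mk I) = (C (↑c⁻¹ : A ⧸ I) * g) * (C (c : A ⧸ I) * h) := by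
    rw [hgh]
    calc g * h = C ((↑c⁻¹ : A ⧸ I) * c) * (g * h) := by rw [Units.inv_mul, C_1, one_mul]
      _ = _ := by rw [C_mul]; ring
  have hh₀ : (C (c : A ⧸ I) * h).Monic := hg₀.of_mul_monic_left (hprod ▸ hf.map _)
  have hcop₀ : IsCoprime (C (↑c⁻¹ : A ⧸ I) * g) (C (c : A ⧸ I) * h) :=
    (isCoprime_mul_unit_left_left (isUnit_C.2 c⁻¹.isUnit) _ _).2 ((isCoprime_mul_unit_left_right (isUnit_C.2 c.isUnit) _ _).2 hcop)
  obtain ⟨A', _, _, hA', hbij, g₀, h₀, -, -, hfac, hg', hh'⟩ :=
    Groth.Agent.S2042.result I f hf _ _ hg₀ hh₀ hcop₀ hprod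
  obtain ⟨a, ha⟩ := Ideal.Quotient.mk_surjective (c : A ⧸ I)
  set s : A' := algebraMap A A' a
  let A'' := Localization.Away s
  let J' := I.map (algebraMap A A')
  let J'' := I.map (algebraMap A A'')
  have hle : J' ≤ J''.comap (algebraMap A' A'') := by
    rw [← Ideal.map_le_iff_le_comap, Ideal.map_map, ← IsScalarTower.algebraMap_eq]
  let ρ : A' ⧸ J' →+* A'' ⧸ J'' := Ideal.quotientMap J'' (algebraMap A' A'') hle
  have hsu : IsUnit (Ideal.Quotient.mk J' s) := by
    rw [show Ideal.Quotient.mk J' s = algebraMap (A ⧸ I) (A' ⧸ J') c by rw [← ha]; rfl]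
    exact c.isUnit.map _
  let τ : A'' →+* A' ⧸ J' := IsLocalization.Away.lift s hsu
  have hτ : ∀ x, τ (algebraMap A' A'' x) = Ideal.Quotient.mk J' x := IsLocalization.Away.lift_eq s hsu
  have hρ : Function.Bijective ρ := by
    refine ⟨?_, ?_⟩
    · let τ' : A'' ⧸ J'' →+* A' ⧸ J' := Ideal.Quotient.lift J'' τ fun x hx =>
        (Ideal.map_le_iff_le_comap.2 (fun r hr => by
          rw [Ideal.mem_comap, RingHom.mem_ker, IsScalarTower.algebraMap_apply A A' A'', hτ, Ideal.Quotient.eq_zero_iff_mem]
          exact Ideal.mem_map_of_mem _ hr) : J'' ≤ RingHom.ker τ) hx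
      refine Function.LeftInverse.injective (g := τ') fun x => ?_
      obtain ⟨x, rfl⟩ := Ideal.Quotient.mk_surjective x
      exact hτ x
    · intro y
      obtain ⟨y, rfl⟩ := Ideal.Quotient.mk_surjective y
      obtain ⟨k, x, hx⟩ := IsLocalization.Away.surj s y
      obtain ⟨w, hw⟩ := hsu.exists_right_inv
      refine ⟨Ideal.Quotient.mk J' x * w ^ k, ?_⟩
      have h1 : ρ w * Ideal.Quotient.mk J'' (algebraMap A' A'' s) = 1 := by
        rw [← Ideal.quotientMap_mk (f := algebraMap A' A'') (H := hle) (x := s), ← map_mul, mul_comm, hw, map_one]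
      rw [map_mul, Ideal.quotientMap_mk, ← hx, map_mul, map_pow, map_pow, mul_assoc, ← mul_pow,
        mul_comm (Ideal.Quotient.mk J'' (algebraMap A' A'' s)), h1, one_pow, mul_one]
  have hcomp : (Ideal.quotientMap J'' (algebraMap A A'') Ideal.le_comap_map : A ⧸ I →+* A'' ⧸ J'') =
      ρ.comp (algebraMap (A ⧸ I) (A' ⧸ J')) := by
    refine Ideal.Quotient.ringHom_ext (RingHom.ext fun r => ?_)
    show Ideal.Quotient.mk J'' (algebraMap A A'' r) = Ideal.Quotient.mk J'' (algebraMap A' A'' (algebraMap A A' r))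
    rw [← IsScalarTower.algebraMap_apply]
  obtain ⟨su, hsu'⟩ := IsLocalization.Away.algebraMap_isUnit (S := A'') s
  have hsq : Ideal.Quotient.mk J'' (su : A'') = Ideal.quotientMap J'' (algebraMap A A'') Ideal.le_comap_map c := by
    rw [hsu', ← ha, Ideal.quotientMap_mk, ← IsScalarTower.algebraMap_apply]
  have hsi : Ideal.Quotient.mk J'' (↑su⁻¹ : A'') * Ideal.quotientMap J'' (algebraMap A A'') Ideal.le_comap_map c = 1 := by
    rw [← hsq, ← map_mul, Units.inv_mul, map_one]
  refine ⟨A'', inferInstance, inferInstance, inferInstance, by rw [hcomp]; exact hρ.comp hbij,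
    C (su : A'') * g₀.map (algebraMap A' A''), C (↑su⁻¹ : A'') * h₀.map (algebraMap A' A''), ?_, ?_, ?_⟩
  · rw [IsScalarTower.algebraMap_eq A A' A'', ← Polynomial.map_map, hfac, Polynomial.map_mul]
    calc _ = C ((su : A'') * ↑su⁻¹) * (g₀.map (algebraMap A' A'') * h₀.map (algebraMap A' A'')) := by
          rw [Units.mul_inv, C_1, one_mul]
      _ = _ := by rw [C_mul]; ring
  · rw [Polynomial.map_mul, map_C, Polynomial.map_map, show (Ideal.Quotient.mk J'').comp (algebraMap A' A'') = ρ.comp (Ideal.Quotient.mk J') from rfl,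
      ← Polynomial.map_map, hg', Polynomial.map_map, ← hcomp, hsq, Polynomial.map_mul, map_C, ← mul_assoc, ← C_mul, ← map_mul,
      Units.mul_inv, map_one, C_1, one_mul]
  · rw [Polynomial.map_mul, map_C, Polynomial.map_map, show (Ideal.Quotient.mk J'').comp (algebraMap A' A'') = ρ.comp (Ideal.Quotient.mk J') from rfl,
      ← Polynomial.map_map, hh', Polynomial.map_map, ← hcomp, Polynomial.map_mul, map_C, ← mul_assoc, ← C_mul, hsi, C_1, one_mul]

end Groth.Agent.S1957
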