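import Groth.Statements.S19571
import Mathlib.AlgebraicGeometry.Morphisms.Flat
import Mathlib.AlgebraicGeometry.Morphisms.UniversallyOpen
import Mathlib.AlgebraicGeometry.AffineScheme

set_option autoImplicit false
universe u
open CategoryTheory AlgebraicGeometry
open EtaPt

namespace Groth.Agent.S19571

/-- Let f : Y → X be a morphism of schemes which is flat, surjective and locally of finite presentation.
Then every affine open U of X is covered by affine opens V each of which is the image f(W) of some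
affine open W of Y; stated pointwise: for every x ∈ U there are an affine open V of X with x ∈ V ≤ U
and an affine open W of Y with f(W) = V as sets. (For such V and W the induced ring map Γ(V) → Γ(W)
is then faithfully flat.) -/
theorem result
    {X Y : Scheme.{u}} (f : Y ⟶ X) [Flat f] [Surjective f] [LocallyOfFinitePresentation f]
    (U : X.affineOpens) (x : X) (hx : x ∈ (U : X.Opens)) :
    ∃ V : X.affineOpens, x ∈ (V : X.Opens) ∧ (V : X.Opens) ≤ (U : X.Opens) ∧
      ∃ W : Y.affineOpens, f.base '' ((W : Y.Opens) : Set Y) = ((V : X.Opens) : Set X) := by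
  obtain ⟨y, rfl⟩ := f.surjective x
  obtain ⟨W₀, hW₀, hyW₀, hW₀U⟩ := exists_isAffineOpen_mem_and_subset (U := f ⁻¹ᵁ (U : X.Opens)) (x := y) hx
  have hopen : IsOpen (f.base '' (W₀ : Set Y)) := f.isOpenMap _ W₀.isOpen
  obtain ⟨r, hrle, hxr⟩ := U.2.exists_basicOpen_le (V := ⟨_, hopen⟩) ⟨f.base y, ⟨y, hyW₀, rfl⟩⟩ hx
  refine ⟨⟨X.basicOpen r, U.2.basicOpen r⟩, hxr, X.basicOpen_le r, ?_⟩
  let r' : Γ(Y, W₀) := Y.presheaf.map (homOfLE hW₀U).op (f.app U r)
  refine ⟨⟨Y.basicOpen r', hW₀.basicOpen r'⟩, ?_⟩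
  have hb : Y.basicOpen r' = W₀ ⊓ f ⁻¹ᵁ X.basicOpen r := by
    rw [Scheme.preimage_basicOpen]
    exact Y.basicOpen_res _ _
  simp only [hb]
  refine Set.Subset.antisymm ?_ fun z hz => ?_
  · rintro _ ⟨z, hz, rfl⟩; exact hz.2
  · obtain ⟨w, hw, rfl⟩ := hrle hz
    exact ⟨w, ⟨hw, hz⟩, rfl⟩

end Groth.Agent.S19571
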