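import Groth.Statements.S19573
import Mathlib
-- import your own Groth.Agent.* helpers here

set_option autoImplicit false
universe u
open LocInt

namespace Groth.Agent.S19573

/-- The first sentence of the lemma together with the description of the closed subscheme Z given in its
proof, in the local model. Let R be a commutative ring, n ≥ 1, a ∈ R^n, and F = R^n / R·a the
cokernel of R → R^n, 1 ↦ a (the zeroth homology of the two-term complex R → R^n). Then the
annihilator ideal of the top exterior power ⋀^n F is the ideal generated by the coordinates a_1, …,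
a_n of a, and at every prime p of R off the closed set V(a_1, …, a_n) the module F is free of rank n
− 1 after localization at p. (The published statement is for a complex on a scheme which is locally
quasi-isomorphic to such a two-term complex L → E with L invertible and E locally free of rank n,
and says that H^0 restricted to the complement of the closed subscheme cut out by the annihilator of
its n-th exterior power is locally free of rank n − 1; this row is the local model.) -/
theorem result (R : Type u) [CommRing R]
    (n : ℕ) (hn : 1 ≤ n) (a : Fin n → R) :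
    (⋀[R]^n ((Fin n → R) ⧸ Submodule.span R {a})).annihilator = Ideal.span (Set.range a) ∧
    ∀ p : PrimeSpectrum R, ¬ Ideal.span (Set.range a) ≤ p.asIdeal →
      p ∈ Module.freeLocus R ((Fin n → R) ⧸ Submodule.span R {a}) ∧
      Module.rankAtStalk ((Fin n → R) ⧸ Submodule.span R {a}) p = n - 1 := by
  classical
  let π : (Fin n → R) →ₗ[R] ((Fin n → R) ⧸ Submodule.span R {a}) := Submodule.mkQ _
  have hπ : Function.Surjective π := Submodule.mkQ_surjective _
  let I := Ideal.span (Set.range a)
  refine ⟨le_antisymm ?_ ?_, ?_⟩
  · intro r hr
    let Q := R ⧸ I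
    let l0 : (Fin n → R) →ₗ[R] (Fin n → Q) := LinearMap.pi fun i => (Algebra.linearMap R Q).comp (LinearMap.proj i)
    let l : ((Fin n → R) ⧸ Submodule.span R {a}) →ₗ[R] (Fin n → Q) := Submodule.liftQ _ l0 (by
      rw [Submodule.span_le]
      rintro _ rfl
      funext i
      exact Ideal.Quotient.eq_zero_iff_mem.2 (Ideal.subset_span ⟨i, rfl⟩))
    let D : ((Fin n → R) ⧸ Submodule.span R {a}) [⋀^Fin n]→ₗ[R] Q :=
      { toMultilinearMap := ((Matrix.detRowAlternating (R := Q) (n := Fin n)).toMultilinearMap.restrictScalars R).compLinearMap (fun _ => l)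
        map_eq_zero_of_eq' := fun v i j hv hij => (Matrix.detRowAlternating (R := Q) (n := Fin n)).map_eq_zero_of_eq (fun k => l (v k)) (congrArg l hv) hij }
    have hD : D (fun i => π (Pi.single i 1)) = 1 := by
      change Matrix.det (fun i => l (π (Pi.single i 1))) = 1
      refine (congrArg Matrix.det (?_ : _ = (1 : Matrix (Fin n) (Fin n) Q))).trans Matrix.det_one
      ext i j
      simp only [l, π, Submodule.liftQ_apply, Submodule.mkQ_apply, l0, LinearMap.pi_apply, LinearMap.comp_apply, LinearMap.proj_apply, Algebra.linearMap_apply, Matrix.one_apply]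
      rcases eq_or_ne i j with rfl | hij
      · simp
      · simp [hij, Pi.single_eq_of_ne hij.symm]
    have h0 := congrArg (exteriorPower.alternatingMapLinearEquiv D)
      (Module.mem_annihilator.1 hr (exteriorPower.ιMulti R n (fun i => π (Pi.single i 1))))
    rw [map_smul, exteriorPower.alternatingMapLinearEquiv_apply_ιMulti, hD, map_zero] at h0
    exact Ideal.Quotient.eq_zero_iff_mem.1 (show algebraMap R Q r = 0 by rw [Algebra.algebraMap_eq_smul_one, h0])
  · rw [Ideal.span_le]
    rintro _ ⟨i, rfl⟩
    rw [SetLike.mem_coe, Module.mem_annihilator]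
    have hg : (a i • exteriorPower.ιMulti R n).compLinearMap π = 0 := by
      refine Module.Basis.ext_alternating (Pi.basisFun R (Fin n)) fun v hv => ?_
      obtain ⟨j, hj⟩ := (Finite.injective_iff_surjective.1 hv) i
      set w : Fin n → ((Fin n → R) ⧸ Submodule.span R {a}) := fun k => π (Pi.single (v k) 1) with hw
      have hz : a i • exteriorPower.ιMulti R n w = 0 := by
        have hrel : a i • π (Pi.single i 1) = - ∑ l ∈ Finset.univ.erase i, a l • π (Pi.single l 1) := by
          rw [eq_neg_iff_add_eq_zero, Finset.add_sum_erase _ (fun l => a l • π (Pi.single l 1)) (Finset.mem_univ i)]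
          simp only [← map_smul, ← map_sum]
          rw [← pi_eq_sum_univ' a]
          exact (Submodule.Quotient.mk_eq_zero _).2 (Submodule.mem_span_singleton_self a)
        have hwj : w j = π (Pi.single i 1) := by rw [hw]; simp only; rw [hj]
        conv_lhs => rw [← Function.update_eq_self j w]
        rw [← AlternatingMap.map_update_smul, hwj, hrel, AlternatingMap.map_update_neg, AlternatingMap.map_update_sum, neg_eq_zero]
        refine Finset.sum_eq_zero fun l hl => ?_
        obtain ⟨j', hj'⟩ := (Finite.injective_iff_surjective.1 hv) l
        have hne : j' ≠ j := fun e => (Finset.ne_of_mem_erase hl) (by rw [← hj', e, hj])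
        rw [AlternatingMap.map_update_smul, AlternatingMap.map_eq_zero_of_eq _ _ (show Function.update w j (π (Pi.single l 1)) j' = Function.update w j (π (Pi.single l 1)) j by rw [Function.update_of_ne hne, Function.update_self, hw]; simp only; rw [hj']) hne, smul_zero]
      simpa [hw, Pi.basisFun_apply] using hz
    intro x
    have htop := exteriorPower.ιMulti_span R n ((Fin n → R) ⧸ Submodule.span R {a})
    have hx : x ∈ Submodule.span R (Set.range (exteriorPower.ιMulti R n (M := (Fin n → R) ⧸ Submodule.span R {a}))) := by rw [htop]; trivial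
    induction hx using Submodule.span_induction with
    | mem y hy =>
      obtain ⟨v, rfl⟩ := hy
      have := DFunLike.congr_fun hg (fun k => (hπ (v k)).choose)
      simpa [(hπ _).choose_spec] using this
    | zero => simp
    | add y z _ _ hy hz => rw [smul_add, hy, hz, add_zero]
    | smul c y _ hy => rw [smul_comm, hy, smul_zero]
  · intro p hp
    obtain ⟨i, hi⟩ : ∃ i, a i ∉ p.asIdeal := by
      by_contra! hall
      exact hp (Ideal.span_le.2 (by rintro _ ⟨i, rfl⟩; exact hall i))
    let L := Localization.AtPrime p.asIdeal
    obtain ⟨u, hu⟩ := IsLocalization.map_units L (⟨a i, hi⟩ : p.asIdeal.primeCompl)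
    let ι' := {j : Fin n // j ≠ i}
    let g0 : (Fin n → R) →ₗ[R] (ι' → L) := LinearMap.pi fun j =>
      (Algebra.linearMap R L).comp (LinearMap.proj (j : Fin n)) -
        (LinearMap.mul R L ((↑u⁻¹ : L) * algebraMap R L (a j))).comp ((Algebra.linearMap R L).comp (LinearMap.proj i))
    let g : ((Fin n → R) ⧸ Submodule.span R {a}) →ₗ[R] (ι' → L) := Submodule.liftQ _ g0 (by
      rw [Submodule.span_le]
      intro x hx
      rw [Set.mem_singleton_iff] at hx
      subst x
      funext j
      simp only [g0, LinearMap.pi_apply, LinearMap.sub_apply, LinearMap.comp_apply, LinearMap.proj_apply, Algebra.linearMap_apply, LinearMap.mul_apply', Pi.zero_apply]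
      have h2 : (↑u⁻¹ : L) * algebraMap R L (a i) = 1 := by rw [← hu]; exact u.inv_mul
      linear_combination -(algebraMap R L (a j)) * h2)
    have hloc : IsLocalizedModule p.asIdeal.primeCompl g := by
      refine ⟨fun s => ?_, fun y => ?_, fun {x₁ x₂} hx => ?_⟩
      · convert (IsLocalization.map_units L s).map (Algebra.lsmul R R (ι' → L)) using 1
        refine LinearMap.ext fun x => ?_
        simp [algebraMap_smul]
      · obtain ⟨b, hb⟩ := IsLocalization.exist_integer_multiples_of_finite p.asIdeal.primeCompl y
        choose z hz using hb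
        let x : Fin n → R := fun j => if h : j ≠ i then z ⟨j, h⟩ else 0
        refine ⟨(π x, b), ?_⟩
        funext j
        simp only [g, π, Submodule.liftQ_apply, Submodule.mkQ_apply, g0, LinearMap.pi_apply, LinearMap.sub_apply, LinearMap.comp_apply, LinearMap.proj_apply, Algebra.linearMap_apply, LinearMap.mul_apply', Pi.smul_apply, Submonoid.smul_def]
        simp [x, j.2, hz j]
      · obtain ⟨x₁, rfl⟩ := hπ x₁
        obtain ⟨x₂, rfl⟩ := hπ x₂
        set x := x₁ - x₂ with hxdef
        have hall : ∀ j : Fin n, algebraMap R L (x j * a i) = algebraMap R L (x i * a j) := by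
          intro j
          rcases eq_or_ne j i with rfl | hj
          · rfl
          have h0 : g0 x ⟨j, hj⟩ = 0 := by
            simp only [g, π, Submodule.liftQ_apply, Submodule.mkQ_apply] at hx
            rw [hxdef, map_sub, hx, sub_self]; rfl
          simp only [g0, LinearMap.pi_apply, LinearMap.sub_apply, LinearMap.comp_apply, LinearMap.proj_apply, Algebra.linearMap_apply, LinearMap.mul_apply'] at h0
          have h2 : (↑u⁻¹ : L) * algebraMap R L (a i) = 1 := by rw [← hu]; exact u.inv_mul
          rw [map_mul, map_mul]
          linear_combination (algebraMap R L (a i)) * h0 + (algebraMap R L (a j)) * (algebraMap R L (x i)) * h2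
        choose s hs using fun j => (IsLocalization.eq_iff_exists p.asIdeal.primeCompl L).1 (hall j)
        let S0 : p.asIdeal.primeCompl := (∏ j, s j) * ⟨a i, hi⟩
        refine ⟨S0, ?_⟩
        rw [← sub_eq_zero, ← smul_sub, ← map_sub, Submonoid.smul_def, ← map_smul]
        refine (Submodule.Quotient.mk_eq_zero _).2 (Submodule.mem_span_singleton.2 ⟨((∏ j, s j : p.asIdeal.primeCompl) : R) * x i, ?_⟩)
        funext j
        obtain ⟨d, hd⟩ := Finset.dvd_prod_of_mem s (Finset.mem_univ j)
        simp only [S0, Pi.smul_apply, smul_eq_mul, Submonoid.coe_mul, hd, ← hxdef]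
        linear_combination -(d : R) * hs j
    have hfree : Module.Free L (ι' → L) := inferInstance
    refine ⟨(Module.mem_freeLocus_of_isLocalization p L (ι' → L) g).2 hfree, ?_⟩
    let e := IsLocalizedModule.iso p.asIdeal.primeCompl g
    let e' : LocalizedModule p.asIdeal.primeCompl ((Fin n → R) ⧸ Submodule.span R {a}) ≃ₗ[L] (ι' → L) :=
      e.extendScalarsOfIsLocalization p.asIdeal.primeCompl L
    rw [Module.rankAtStalk, e'.finrank_eq, Module.finrank_fintype_fun_eq_card]
    simp [ι']

end Groth.Agent.S19573
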