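import Groth.Statements.S19574
import Mathlib.RingTheory.Flat.Tensor
import Mathlib.Algebra.Homology.ShortComplex.ModuleCat
import Mathlib.LinearAlgebra.TensorProduct.Quotient
import Mathlib.Algebra.Category.ModuleCat.Monoidal.Basic

set_option autoImplicit false
universe u
open CategoryTheory MonoidalCategory
open Lie3Mod

namespace Groth.Agent.S19574

section
open TensorProduct
variable {R : Type u} [CommRing R]

theorem mem_smul_top_iff {P : Type u} [AddCommGroup P] [Module R P] (I : Ideal R) (y : P) :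
    y ∈ I • (⊤ : Submodule R P) ↔ (1 : R ⧸ I) ⊗ₜ[R] y = 0 := by
  rw [← (TensorProduct.quotTensorEquivQuotSMul P I).map_eq_zero_iff, ← Submodule.Quotient.mk_eq_zero]
  rw [show (1 : R ⧸ I) = Ideal.Quotient.mk I 1 from rfl, TensorProduct.quotTensorEquivQuotSMul_mk_tmul,
    one_smul]

/-- multiplication -/
noncomputable def mu {P : Type u} [AddCommGroup P] [Module R P] (I : Ideal R) : I ⊗[R] P →ₗ[R] P :=
  (TensorProduct.lid R P).toLinearMap ∘ₗ I.subtype.rTensor P

theorem exists_mu {P : Type u} [AddCommGroup P] [Module R P] (I : Ideal R) {y : P}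
    (hy : y ∈ I • (⊤ : Submodule R P)) : ∃ v, mu I v = y := by
  refine Submodule.smul_induction_on hy (fun r hr x _ => ⟨(⟨r, hr⟩ : I) ⊗ₜ x, by simp [mu]⟩) ?_
  rintro a b ⟨v, rfl⟩ ⟨w, rfl⟩
  exact ⟨v + w, map_add _ _ _⟩

theorem mu_lTensor {P Q : Type u} [AddCommGroup P] [Module R P] [AddCommGroup Q] [Module R Q]
    (I : Ideal R) (f : P →ₗ[R] Q) (v : I ⊗[R] P) : mu I (f.lTensor I v) = f (mu I v) := by
  induction v using TensorProduct.induction_on with
  | zero => simp
  | add a b ha hb => simp [ha, hb]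
  | tmul a b => simp [mu]

theorem mu_mem {P : Type u} [AddCommGroup P] [Module R P] (I : Ideal R) (v : I ⊗[R] P) :
    mu I v ∈ I • (⊤ : Submodule R P) := by
  induction v using TensorProduct.induction_on with
  | zero => simp
  | add a b ha hb => rw [map_add]; exact add_mem ha hb
  | tmul a b => simpa [mu] using Submodule.smul_mem_smul a.2 (Submodule.mem_top (x := b))

theorem flat_of_pure {P2 P M : Type u} [AddCommGroup P2] [Module R P2] [AddCommGroup P] [Module R P]
    [AddCommGroup M] [Module R M] [Module.Flat R P] (d : P2 →ₗ[R] P) (g : P →ₗ[R] M)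
    (hg : Function.Surjective g) (hex : Function.Exact d g)
    (h : ∀ (I : Ideal R) (y : P2), d y ∈ I • (⊤ : Submodule R P) → ∃ w ∈ I • (⊤ : Submodule R P2), d w = d y) :
    Module.Flat R M := by
  rw [Module.Flat.iff_rTensor_injective']
  intro I
  rw [injective_iff_map_eq_zero]
  intro x hx
  obtain ⟨y, rfl⟩ := LinearMap.lTensor_surjective I hg x
  have h1 : g (mu I y) = 0 := by
    rw [← mu_lTensor]
    simp [mu, hx]
  obtain ⟨y2, hy2⟩ := (hex _).1 h1
  obtain ⟨w, hw, hwd⟩ := h I y2 (hy2 ▸ mu_mem I y)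
  obtain ⟨v, rfl⟩ := exists_mu I hw
  have hinj : Function.Injective (mu (P := P) I) :=
    (TensorProduct.lid R P).injective.comp (Module.Flat.rTensor_preserves_injective_linearMap _ Subtype.val_injective)
  have hyv : d.lTensor I v = y := hinj (by rw [mu_lTensor, hwd, hy2])
  rw [← hyv, ← LinearMap.lTensor_comp_apply, hex.linearMap_comp_eq_zero, LinearMap.lTensor_zero,
    LinearMap.zero_apply]

end


/-- Let R be a commutative ring and d ≥ 1. Let K be a chain complex of R-modules concentrated in degrees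
0, …, d + 1, written … → 0 → P_{d+1} → P_d → … → P_1 → M with M = K_0, which is exact (so 0 →
P_{d+1} → … → P_1 → M → 0 is an exact sequence), such that P_1, …, P_d are flat R-modules and such
that for every ideal I of R the complex obtained by applying (R/I) ⊗_R − termwise is again exact.
Then M is a flat R-module. (No flatness is assumed for P_{d+1}. The published lemma adds that for R
Noetherian it suffices to test prime ideals I; that refinement is not part of this statement.) -/
theorem result (R : Type u) [CommRing R]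
    (d : ℕ) (hd : 1 ≤ d) (K : ChainComplex (ModuleCat.{u} R) ℕ)
    (hzero : ∀ i : ℕ, d + 1 < i → Limits.IsZero (K.X i))
    (hflat : ∀ i : ℕ, 1 ≤ i → i ≤ d → Module.Flat R (K.X i))
    (hK : K.Acyclic)
    (hbc : ∀ I : Ideal R,
      (((tensorLeft (ModuleCat.of R (R ⧸ I))).mapHomologicalComplex (ComplexShape.down ℕ)).obj K).Acyclic) :
    Module.Flat R (K.X 0) := by
  haveI := hflat 1 le_rfl hd
  have e10 := hK 0
  rw [HomologicalComplex.exactAt_iff' _ 1 0 0 (by simp) (by simp)] at e10
  have e21 := hK 1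
  rw [HomologicalComplex.exactAt_iff' _ 2 1 0 (by simp) (by simp),
    ShortComplex.ShortExact.moduleCat_exact_iff_function_exact] at e21
  refine flat_of_pure (K.d 2 1).hom (K.d 1 0).hom (fun m => ?_) e21 fun I y hy => ?_
  · refine ((ShortComplex.moduleCat_exact_iff _).1 e10 m ?_)
    change K.d 0 0 m = 0
    rw [K.shape 0 0 (by simp)]
    rfl
  · have h2 := hbc I 2
    rw [HomologicalComplex.exactAt_iff' _ 3 2 1 (by simp) (by simp), ShortComplex.moduleCat_exact_iff] at h2
    rw [mem_smul_top_iff] at hy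
    obtain ⟨x, hx⟩ := h2 ((1 : R ⧸ I) ⊗ₜ[R] y) hy
    obtain ⟨x', hx'⟩ : ∃ x' : K.X 3, (1 : R ⧸ I) ⊗ₜ[R] x' = x := by
      refine TensorProduct.induction_on x ⟨0, TensorProduct.tmul_zero _ _⟩ (fun q z => ?_) ?_
      · obtain ⟨r, rfl⟩ := Ideal.Quotient.mk_surjective q
        refine ⟨r • z, ?_⟩
        rw [TensorProduct.tmul_smul, TensorProduct.smul_tmul', Algebra.smul_def, mul_one]
        rfl
      · rintro _ _ ⟨a, rfl⟩ ⟨b, rfl⟩
        exact ⟨a + b, TensorProduct.tmul_add _ _ _⟩
    subst hx'
    refine ⟨y - K.d 3 2 x', ?_, ?_⟩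
    · rw [mem_smul_top_iff, TensorProduct.tmul_sub, sub_eq_zero]
      exact hx.symm
    · rw [map_sub]
      have hdd : (K.d 2 1).hom ((K.d 3 2).hom x') = 0 := congr($(K.d_comp_d 3 2 1) x')
      rw [hdd, sub_zero]

end Groth.Agent.S19574
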