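import Groth.Statements.S19586
import Mathlib
-- import your own Groth.Agent.* helpers here

set_option autoImplicit false
universe u
open KaehlerDifferential
open LocInt

namespace Groth.Agent.S19586

open scoped TensorProduct

section dual
variable (R : Type u) {B : Type u} {k : Type u} [CommRing R] [CommRing B] [Field k] [Algebra R B]
  [Algebra R k] [Algebra B k] [IsScalarTower R B k]

/-- The derivation attached to a functional on `k ⊗ Ω`. -/
noncomputable def dualDer : ((k ⊗[B] Ω[B⁄R]) →ₗ[k] k) →ₗ[k] Derivation R B k where
  toFun φ := ((φ.restrictScalars B).comp (TensorProduct.mk B k Ω[B⁄R] 1)).compDer (KaehlerDifferential.D R B)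
  map_add' φ ψ := by ext b; rfl
  map_smul' c φ := by ext b; rfl

lemma dualDer_bijective : Function.Bijective (dualDer R (B := B) (k := k)) := by
  refine ⟨(injective_iff_map_eq_zero _).mpr fun φ hφ => ?_, fun d => ?_⟩
  · refine TensorProduct.AlgebraTensorModule.ext fun c w => ?_
    have h0 : ∀ w, φ (1 ⊗ₜ[B] w) = 0 := by
      intro w
      have hmem : w ∈ Submodule.span B (Set.range (KaehlerDifferential.D R B)) := by
        rw [KaehlerDifferential.span_range_derivation]; exact Submodule.mem_top
      induction hmem using Submodule.span_induction with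
      | mem x hx =>
        obtain ⟨b, rfl⟩ := hx
        exact DFunLike.congr_fun hφ b
      | zero => simp
      | add x y _ _ hx hy => rw [TensorProduct.tmul_add, map_add, hx, hy, add_zero]
      | smul a x _ hx =>
        rw [TensorProduct.tmul_smul, ← algebraMap_smul k a, map_smul, hx, smul_zero]
    rw [show c ⊗ₜ[B] w = c • (1 ⊗ₜ[B] w) by rw [TensorProduct.smul_tmul', smul_eq_mul, mul_one],
      map_smul, h0, smul_zero]
    rfl
  · refine ⟨(d.liftKaehlerDifferential).liftBaseChange k, Derivation.ext fun b => ?_⟩
    show (d.liftKaehlerDifferential).liftBaseChange k (1 ⊗ₜ[B] KaehlerDifferential.D R B b) = d b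
    rw [LinearMap.liftBaseChange_tmul, one_smul, Derivation.liftKaehlerDifferential_comp_D]

lemma finrank_der [FiniteDimensional k (k ⊗[B] Ω[B⁄R])] :
    Module.finrank k (Derivation R B k) = Module.finrank k (k ⊗[B] Ω[B⁄R]) := by
  rw [← (LinearEquiv.ofBijective _ (dualDer_bijective R)).finrank_eq]
  exact Subspace.dual_finrank_eq

end dual

section alt
variable {R K M : Type u} [CommRing R] [Field K] [Algebra R K] [AddCommGroup M] [Module R M]

lemma alt_eq_zero [Module.Finite R M] {n : ℕ} (h : Module.finrank K (K ⊗[R] M) < n)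
    (ω : M [⋀^Fin n]→ₗ[R] K) : ω = 0 := by
  classical
  ext x
  have hdep : ¬ LinearIndependent K (fun j : Fin n => (1 : K) ⊗ₜ[R] x j) := fun hli => by
    have := hli.fintype_card_le_finrank
    rw [Fintype.card_fin] at this
    omega
  obtain ⟨c, hc, i, hi⟩ := Fintype.not_linearIndependent_iff.mp hdep
  let F : K ⊗[R] M →ₗ[K] K := (ω.toMultilinearMap.toLinearMap x i).liftBaseChange K
  have hF : ∀ j, F (1 ⊗ₜ[R] x j) = ω (Function.update x i (x j)) := fun j => by
    simp [F]
  have := congrArg F hc
  rw [map_sum, map_zero, Finset.sum_eq_single i] at this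
  · rw [map_smul, hF, Function.update_eq_self, smul_eq_mul] at this
    simpa using (mul_eq_zero.mp this).resolve_left hi
  · intro j _ hj
    rw [map_smul, hF, ω.map_update_self x hj.symm, smul_zero]
  · simp

lemma exists_alt_ne_zero [Module.Finite R M] {n : ℕ} (h : n ≤ Module.finrank K (K ⊗[R] M)) :
    ∃ ω : M [⋀^Fin n]→ₗ[R] K, ω ≠ 0 := by
  classical
  let b := Module.finBasis K (K ⊗[R] M)
  let P : (K ⊗[R] M) →ₗ[K] (Fin n → K) := LinearMap.pi fun j => b.coord (Fin.castLE h j)
  have hP : Function.Surjective P := fun v => by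
    refine ⟨∑ j, v j • b (Fin.castLE h j), funext fun l => ?_⟩
    simp [P, Finsupp.single_apply, (Fin.castLE_injective h).eq_iff]
  let L : M →ₗ[R] (Fin n → K) := (P.restrictScalars R).comp (TensorProduct.mk R K M 1)
  let ω : M [⋀^Fin n]→ₗ[R] K :=
    { toFun := fun x => Matrix.det (Matrix.of fun i => L (x i))
      map_update_add' := fun x i a b => by
        obtain rfl := Subsingleton.elim (‹DecidableEq (Fin n)›) (instDecidableEqFin n)
        have : ∀ c, (Matrix.of fun j => L (Function.update x i c j)) =
            (Matrix.of fun j => L (x j)).updateRow i (L c) := fun c => by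
          ext j l
          rcases eq_or_ne j i with rfl | hji
          · simp
          · simp [hji]
        simp only [this, map_add, Matrix.det_updateRow_add]
      map_update_smul' := fun x i r a => by
        obtain rfl := Subsingleton.elim (‹DecidableEq (Fin n)›) (instDecidableEqFin n)
        have : ∀ c, (Matrix.of fun j => L (Function.update x i c j)) =
            (Matrix.of fun j => L (x j)).updateRow i (L c) := fun c => by
          ext j l
          rcases eq_or_ne j i with rfl | hji
          · simp
          · simp [hji]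
        simp only [this, map_smul]
        rw [← algebraMap_smul K r (L a), Matrix.det_updateRow_smul, Algebra.smul_def]
      map_eq_zero_of_eq' := fun x i j hij hne => Matrix.det_zero_of_row_eq hne (congrArg L hij) }
  refine ⟨ω, fun h0 => ?_⟩
  have hspan : Submodule.span K (Set.range L) = ⊤ := by
    rw [← top_le_iff]
    rintro v -
    obtain ⟨w, rfl⟩ := hP v
    induction w with
    | zero => simp
    | tmul c m =>
      rw [show c ⊗ₜ[R] m = c • ((1 : K) ⊗ₜ[R] m) by rw [TensorProduct.smul_tmul', smul_eq_mul, mul_one],
        map_smul]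
      exact Submodule.smul_mem _ _ (Submodule.subset_span ⟨m, rfl⟩)
    | add x y hx hy => rw [map_add]; exact add_mem hx hy
  obtain ⟨s, hs, hspan', hli⟩ := exists_linearIndependent K (Set.range L)
  rw [hspan] at hspan'
  let bs := Module.Basis.mk hli (by simp [hspan'])
  haveI : Fintype s := FiniteDimensional.fintypeBasisIndex bs
  have hcard : Fintype.card s = n := by
    rw [← Module.finrank_eq_card_basis bs]; simp
  let e : Fin n ≃ s := (Fintype.equivFinOfCardEq hcard).symm
  choose m hm using fun i => hs (e i).2
  have := DFunLike.congr_fun h0 m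
  change Matrix.det (Matrix.of fun i => L (m i)) = 0 at this
  have hu : IsUnit (Matrix.of fun i => L (m i)) := by
    rw [← Matrix.linearIndependent_rows_iff_isUnit]
    have he : (Matrix.of fun i => L (m i)).row = fun i => ((e i : s) : Fin n → K) := funext fun i => hm i
    rw [he]
    exact hli.comp e e.injective
  exact ((Matrix.isUnit_iff_isUnit_det _).mp hu).ne_zero this

end alt

/-- Let A → B be a smooth ring map with Ω_{B/A} of rank n at every prime of B, g ∈ B a nonzerodivisor
and R = B/gB, so that Spec R is a hypersurface of virtual relative dimension n − 1 over Spec A. Let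
J ⊆ R be the annihilator of the n-th exterior power of Ω_{R/A} and Z = V(J) ⊆ Spec R. Then the
underlying set of Z is exactly the set of primes at which R is not smooth over A: for a prime p of
R, J ⊆ p if and only if the localization R_p is not formally smooth over A. -/
theorem result (A B R : Type u) [CommRing A] [CommRing B] [CommRing R]
    [Algebra A B] [Algebra B R] [Algebra A R] [IsScalarTower A B R] [Algebra.Smooth A B] (n : ℕ)
    (hn : ∀ p : PrimeSpectrum B, Module.rankAtStalk (Ω[B⁄A]) p = n)
    (g : B) (hg : IsSMulRegular B g) (hsurj : Function.Surjective (algebraMap B R))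
    (hker : RingHom.ker (algebraMap B R) = Ideal.span {g}) (p : PrimeSpectrum R) :
    (⋀[R]^n (Ω[R⁄A])).annihilator ≤ p.asIdeal ↔ p ∉ Algebra.smoothLocus A R := by
  classical
  letI K := p.asIdeal.ResidueField
  haveI : IsScalarTower B R K := inferInstanceAs (IsScalarTower B R p.asIdeal.ResidueField)
  haveI : IsScalarTower A B K := IsScalarTower.of_algebraMap_eq fun a => by
    rw [IsScalarTower.algebraMap_apply B R K, ← IsScalarTower.algebraMap_apply A B R,
      ← IsScalarTower.algebraMap_apply A R K]
  haveI : Algebra.FiniteType A R := Algebra.FiniteType.of_surjective (IsScalarTower.toAlgHom A B R) hsurj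
  have hgR : algebraMap B R g = 0 := by
    rw [← RingHom.mem_ker, hker]; exact Ideal.mem_span_singleton_self g
  -- the ring C
  let q : Ideal B := p.asIdeal.comap (algebraMap B R)
  let C := Localization.AtPrime q
  let Rp := Localization.AtPrime p.asIdeal
  letI : Algebra C Rp := (Localization.localRingHom q p.asIdeal (algebraMap B R) rfl).toAlgebra
  haveI : IsScalarTower C Rp K := IsLocalRing.instIsScalarTowerResidueField Rp
  haveI : IsScalarTower B C Rp := IsScalarTower.of_algebraMap_eq fun b => by
    rw [RingHom.algebraMap_toAlgebra, Localization.localRingHom_to_map]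
    exact IsScalarTower.algebraMap_apply B R Rp b
  haveI : IsScalarTower B C K := IsScalarTower.of_algebraMap_eq fun b => by
    rw [IsScalarTower.algebraMap_apply B R K, IsScalarTower.algebraMap_apply C Rp K,
      ← IsScalarTower.algebraMap_apply B C Rp, IsScalarTower.algebraMap_apply B R Rp,
      ← IsScalarTower.algebraMap_apply R Rp K]
  haveI : IsScalarTower A C Rp := IsScalarTower.of_algebraMap_eq fun a => by
    rw [IsScalarTower.algebraMap_apply A B C, ← IsScalarTower.algebraMap_apply B C Rp,
      IsScalarTower.algebraMap_apply B R Rp, ← IsScalarTower.algebraMap_apply A B R,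
      ← IsScalarTower.algebraMap_apply A R Rp]
  haveI : IsScalarTower A C K := IsScalarTower.of_algebraMap_eq fun a => by
    rw [IsScalarTower.algebraMap_apply A B K, IsScalarTower.algebraMap_apply A B C,
      IsScalarTower.algebraMap_apply B C K]
  haveI : Algebra.FormallyEtale B C := Algebra.FormallyEtale.of_isLocalization q.primeCompl
  haveI : Algebra.FormallySmooth A C := Algebra.FormallySmooth.comp A B C
  -- dimension of derivations of B
  have hnK : Module.finrank K (Derivation A B K) = n := by
    rw [finrank_der]
    let e : K ⊗[C] (C ⊗[B] Ω[B⁄A]) ≃ₗ[K] K ⊗[B] Ω[B⁄A] :=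
      TensorProduct.AlgebraTensorModule.cancelBaseChange _ _ _ _ _
    haveI : Module.Free C (C ⊗[B] Ω[B⁄A]) := Module.free_of_flat_of_isLocalRing
    rw [← e.finrank_eq, Module.finrank_baseChange,
      ← Module.rankAtStalk_eq_finrank_tensorProduct (⟨q, inferInstance⟩ : PrimeSpectrum B)]
    exact hn _
  haveI : Module.Finite K (Derivation A B K) :=
    Module.Finite.equiv (LinearEquiv.ofBijective _ (dualDer_bijective A (B := B) (k := K)))
  -- restriction to B
  let res : Derivation A R K →ₗ[K] Derivation A B K :=
    { toFun := fun d => d.compAlgebraMap B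
      map_add' := fun d e => by ext b; rfl
      map_smul' := fun c d => by ext b; rfl }
  have hres : Function.Injective res := fun d e hde => by
    ext r
    obtain ⟨b, rfl⟩ := hsurj r
    exact DFunLike.congr_fun hde b
  have hker0 : ∀ (D : Derivation A B K), D g = 0 → ∀ b, algebraMap B R b = 0 → D b = 0 := by
    intro D hD b hb
    rw [← RingHom.mem_ker, hker, Ideal.mem_span_singleton'] at hb
    obtain ⟨y, rfl⟩ := hb
    rw [D.leibniz, hD, smul_zero, zero_add, ← algebraMap_smul R g (D y), hgR, zero_smul]
  have hrange : ∀ D, (∃ d, res d = D) ↔ D g = 0 := by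
    intro D
    refine ⟨fun ⟨d, hd⟩ => ?_, fun hD => ?_⟩
    · rw [← hd]
      show d (algebraMap B R g) = 0
      rw [hgR, map_zero]
    · obtain ⟨sec, hsec⟩ := hsurj.hasRightInverse
      have key : ∀ b r, algebraMap B R b = r → D b = D (sec r) := fun b r h => by
        have := hker0 D hD (b - sec r) (by rw [map_sub, h, hsec, sub_self])
        rwa [map_sub, sub_eq_zero] at this
      refine ⟨Derivation.mk'
        { toFun := fun r => D (sec r)
          map_add' := fun a b => by rw [← map_add]; exact (key _ _ (by rw [map_add, hsec, hsec])).symm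
          map_smul' := fun a r => by
            rw [RingHom.id_apply, ← D.map_smul]
            exact (key _ _ (by
              rw [Algebra.smul_def, map_mul, hsec, ← IsScalarTower.algebraMap_apply, Algebra.smul_def])).symm }
        (fun a b => by
          show D (sec (a * b)) = a • D (sec b) + b • D (sec a)
          rw [← key (sec a * sec b) (a * b) (by rw [map_mul, hsec, hsec]), D.leibniz,
            ← algebraMap_smul R (sec a), ← algebraMap_smul R (sec b), hsec, hsec]), Derivation.ext fun b => ?_⟩
      exact (key b _ rfl).symm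
  have hfin : FiniteDimensional K (K ⊗[R] Ω[R⁄A]) := inferInstance
  have hJ : (⋀[R]^n (Ω[R⁄A])).annihilator ≤ p.asIdeal ↔ ∀ D : Derivation A B K, D g = 0 := by
    have e1 : Module.annihilator R ↥(⋀[R]^n (Ω[R⁄A])) = (⋀[R]^n (Ω[R⁄A])).annihilator := rfl
    rw [← e1]
    have e2 : Module.annihilator R ↥(⋀[R]^n (Ω[R⁄A])) ≤ p.asIdeal ↔ p ∈ Module.support R ↥(⋀[R]^n (Ω[R⁄A])) := by
      rw [Module.support_eq_zeroLocus, PrimeSpectrum.mem_zeroLocus]; rfl
    rw [e2, Module.mem_support_iff_nontrivial_residueField_tensorProduct]
    haveI : Module.Finite K (Derivation A R K) :=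
      Module.Finite.equiv (LinearEquiv.ofBijective _ (dualDer_bijective A (B := R) (k := K)))
    have e3 : (∀ D : Derivation A B K, D g = 0) ↔ n ≤ Module.finrank K (K ⊗[R] Ω[R⁄A]) := by
      rw [← finrank_der A (B := R), ← hnK]
      refine ⟨fun h => ?_, fun h D => (hrange D).mp ?_⟩
      · exact (LinearEquiv.ofBijective res ⟨hres, fun D => (hrange D).mpr (h D)⟩).finrank_eq.ge
      · exact (LinearMap.injective_iff_surjective_of_finrank_eq_finrank
          (le_antisymm (LinearMap.finrank_le_finrank_of_injective hres) h)).mp hres D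
    rw [e3]
    constructor
    · intro hnt
      by_contra hlt
      push Not at hlt
      obtain ⟨z, hz⟩ := exists_ne (0 : K ⊗[R] ↥(⋀[R]^n (Ω[R⁄A])))
      refine hz ((Module.forall_dual_apply_eq_zero_iff K z).mp fun φ => ?_)
      have h0 : (φ.restrictScalars R).comp (TensorProduct.mk R K ↥(⋀[R]^n (Ω[R⁄A])) 1) = 0 := by
        apply exteriorPower.linearMap_ext
        rw [alt_eq_zero hlt (((φ.restrictScalars R).comp (TensorProduct.mk R K ↥(⋀[R]^n (Ω[R⁄A])) 1)).compAlternatingMap (exteriorPower.ιMulti R n))]
        rfl
      have : φ = 0 := TensorProduct.AlgebraTensorModule.ext fun c w => by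
        rw [show c ⊗ₜ[R] w = c • ((1 : K) ⊗ₜ[R] w) by rw [TensorProduct.smul_tmul', smul_eq_mul, mul_one],
          map_smul, show φ ((1 : K) ⊗ₜ[R] w) = 0 from DFunLike.congr_fun h0 w, smul_zero]
        rfl
      rw [this]; rfl
    · intro hle
      obtain ⟨ω, hω⟩ := exists_alt_ne_zero hle
      refine not_subsingleton_iff_nontrivial.mp fun hsub => hω ?_
      ext x
      have h1 : ((exteriorPower.alternatingMapLinearEquiv ω).liftBaseChange K)
          ((1 : K) ⊗ₜ[R] exteriorPower.ιMulti R n x) = ω x := by
        rw [LinearMap.liftBaseChange_tmul, one_smul, exteriorPower.alternatingMapLinearEquiv_apply_ιMulti]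
      rw [← h1, Subsingleton.elim ((1 : K) ⊗ₜ[R] exteriorPower.ιMulti R n x) 0, map_zero]
      rfl
  -- smoothness
  have hCsurj : Function.Surjective (algebraMap C Rp) := by
    intro z
    obtain ⟨⟨r, s⟩, rfl⟩ := IsLocalization.mk'_surjective p.asIdeal.primeCompl z
    obtain ⟨b, rfl⟩ := hsurj r
    obtain ⟨t, ht⟩ := hsurj s
    refine ⟨IsLocalization.mk' C b ⟨t, show t ∈ q.primeCompl from fun h => s.2 (ht ▸ h)⟩, ?_⟩
    rw [RingHom.algebraMap_toAlgebra, Localization.localRingHom_mk']
    congr 1
    exact Subtype.ext ht
  have hCker : ∀ x : C, algebraMap C Rp x = 0 ↔ algebraMap B C g ∣ x := by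
    intro x
    constructor
    · intro hx
      obtain ⟨⟨b, s⟩, rfl⟩ := IsLocalization.mk'_surjective q.primeCompl x
      have h1 : algebraMap C Rp (algebraMap B C b) = 0 := by
        rw [← IsLocalization.mk'_spec C b s, map_mul, hx, zero_mul]
      rw [← IsScalarTower.algebraMap_apply, IsScalarTower.algebraMap_apply B R Rp,
        IsLocalization.map_eq_zero_iff p.asIdeal.primeCompl] at h1
      obtain ⟨⟨t, ht⟩, ht0⟩ := h1
      obtain ⟨t', rfl⟩ := hsurj t
      rw [← map_mul, ← RingHom.mem_ker, hker, Ideal.mem_span_singleton] at ht0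
      have hu : IsUnit (algebraMap B C t') := IsLocalization.map_units C (⟨t', ht⟩ : q.primeCompl)
      have h2 : algebraMap B C g ∣ algebraMap B C b := by
        have := map_dvd (algebraMap B C) ht0
        rw [map_mul] at this
        exact (IsUnit.dvd_mul_left hu).mp this
      rw [← IsLocalization.mk'_spec C b s] at h2
      exact (IsUnit.dvd_mul_right (IsLocalization.map_units C s)).mp h2
    · rintro ⟨y, rfl⟩
      rw [map_mul, ← IsScalarTower.algebraMap_apply, IsScalarTower.algebraMap_apply B R Rp, hgR, map_zero, zero_mul]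
  have hgC : ∀ x y : C, algebraMap B C g * x = algebraMap B C g * y → x = y := by
    intro x y hxy
    have : IsSMulRegular C (algebraMap B C g) :=
      (IsSMulRegular.of_flat hg : IsSMulRegular C (algebraMap B C g))
    exact this (by simpa using hxy)
  have hgmem : algebraMap B C g ∈ RingHom.ker (algebraMap C Rp) := (hCker _).mpr dvd_rfl
  rw [hJ]
  show _ ↔ ¬ Algebra.FormallySmooth A Rp
  rw [Algebra.FormallySmooth.iff_split_injection (P := C) hCsurj]
  refine ⟨fun h => fun ⟨l, hl⟩ => ?_, fun h D => ?_⟩
  · let ψ₀ : ↥(RingHom.ker (algebraMap C Rp)) →ₗ[C] K :=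
      { toFun := fun x => algebraMap C K ((hCker x.1).mp x.2).choose
        map_add' := fun x y => by
          rw [← map_add]
          congr 1
          apply hgC
          rw [mul_add, ← ((hCker x.1).mp x.2).choose_spec, ← ((hCker y.1).mp y.2).choose_spec,
            ← ((hCker (x + y).1).mp (x + y).2).choose_spec]
          rfl
        map_smul' := fun c x => by
          rw [RingHom.id_apply, Algebra.smul_def, ← map_mul]
          congr 1
          apply hgC
          rw [mul_left_comm, ← ((hCker x.1).mp x.2).choose_spec,
            ← ((hCker (c • x).1).mp (c • x).2).choose_spec]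
          rfl }
    let φ : (RingHom.ker (algebraMap C Rp)).Cotangent →ₗ[C] K := Submodule.liftQ _ ψ₀ (by
      rw [Submodule.smul_le]
      intro a ha x _
      rw [LinearMap.mem_ker, map_smul, Algebra.smul_def, IsScalarTower.algebraMap_apply C Rp K a,
        RingHom.mem_ker.mp ha, map_zero, zero_mul])
    let H : Ω[C⁄A] →ₗ[C] K := φ.comp (l.comp (TensorProduct.mk C Rp Ω[C⁄A] 1))
    have hD := h ((H.compDer (KaehlerDifferential.D A C)).compAlgebraMap B)
    have h1 : φ (l (1 ⊗ₜ[C] KaehlerDifferential.D A C (algebraMap B C g))) = 1 := by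
      rw [← KaehlerDifferential.kerCotangentToTensor_toCotangent A C Rp ⟨_, hgmem⟩, ← LinearMap.comp_apply l, hl]
      show ψ₀ ⟨_, hgmem⟩ = 1
      show algebraMap C K _ = 1
      rw [← map_one (algebraMap C K)]
      congr 1
      apply hgC
      rw [mul_one]
      exact ((hCker _).mp hgmem).choose_spec.symm
    exact one_ne_zero (h1.symm.trans hD)
  · by_contra hD
    apply h
    let hlin : Ω[C⁄A] →ₗ[C] K :=
      (D.liftKaehlerDifferential.liftBaseChange C).comp
        (KaehlerDifferential.tensorKaehlerEquivOfFormallyEtale A B C).symm.toLinearMap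
    have hπ : Function.Surjective ((Algebra.linearMap Rp K).restrictScalars C) :=
      IsLocalRing.residue_surjective
    obtain ⟨ℓ, hℓ⟩ := Module.projective_lifting_property _ hlin hπ
    let u := ℓ (KaehlerDifferential.D A C (algebraMap B C g))
    have hu : IsUnit u := by
      refine (IsLocalRing.residue_ne_zero_iff_isUnit u).mp ?_
      have e1 : IsLocalRing.residue Rp u = hlin (KaehlerDifferential.D A C (algebraMap B C g)) :=
        DFunLike.congr_fun hℓ _
      rw [e1]
      simpa [hlin, KaehlerDifferential.tensorKaehlerEquivOfFormallyEtale_symm_D_algebraMap] using hD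
    let v₀ : (RingHom.ker (algebraMap C Rp)).Cotangent := Ideal.toCotangent _ ⟨_, hgmem⟩
    let t : Rp →ₗ[C] (RingHom.ker (algebraMap C Rp)).Cotangent :=
      (Submodule.liftQ (LinearMap.ker (Algebra.linearMap C Rp)) (LinearMap.toSpanSingleton C _ v₀) (by
        intro c hc
        rw [LinearMap.mem_ker, LinearMap.toSpanSingleton_apply, ← map_smul, Ideal.toCotangent_eq_zero, sq]
        exact Ideal.mul_mem_mul hc hgmem)).comp
        ((Algebra.linearMap C Rp).quotKerEquivOfSurjective hCsurj).symm.toLinearMap
    have ht : ∀ c : C, t (algebraMap C Rp c) = c • v₀ := fun c => by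
      have : ((Algebra.linearMap C Rp).quotKerEquivOfSurjective hCsurj).symm (algebraMap C Rp c) =
          Submodule.Quotient.mk c := (LinearEquiv.symm_apply_eq _).mpr rfl
      simp only [t, LinearMap.comp_apply, LinearEquiv.coe_coe, this]
      rfl
    let L : Rp ⊗[C] Ω[C⁄A] →ₗ[C] Rp :=
      (((LinearMap.mulLeft C (↑hu.unit⁻¹ : Rp)).comp ℓ).liftBaseChange Rp).restrictScalars C
    refine ⟨t.comp L, LinearMap.ext fun z => ?_⟩
    obtain ⟨⟨x, hx⟩, rfl⟩ := Ideal.toCotangent_surjective _ z
    obtain ⟨y, rfl⟩ := (hCker x).mp hx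
    rw [LinearMap.comp_apply, KaehlerDifferential.kerCotangentToTensor_toCotangent, LinearMap.id_apply]
    have e1 : L (1 ⊗ₜ[C] KaehlerDifferential.D A C (algebraMap B C g * y)) = algebraMap C Rp y := by
      simp only [L, LinearMap.restrictScalars_apply, LinearMap.liftBaseChange_tmul, one_smul,
        LinearMap.comp_apply, LinearMap.mulLeft_apply, Derivation.leibniz, map_add, map_smul]
      rw [Algebra.smul_def, Algebra.smul_def, RingHom.mem_ker.mp hgmem, zero_mul, zero_add,
        show ℓ (KaehlerDifferential.D A C (algebraMap B C g)) = ↑hu.unit from hu.unit_spec.symm,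
        mul_comm (algebraMap C Rp y), Units.inv_mul, one_mul]
    rw [LinearMap.comp_apply, e1, ht]
    show _ = Ideal.toCotangent _ _
    rw [← map_smul]
    congr 1
    exact Subtype.ext (mul_comm _ _)

end Groth.Agent.S19586
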