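import Groth.Statements.S1959
import Mathlib

set_option autoImplicit false
universe u
open Polynomial
open EtAlg

namespace Groth.Agent.S1959

/-- Let I be an ideal of a ring A, A -> B an integral ring map and b an element of B whose image in B/IB
is idempotent. Then there are d ≥ 1 and a monic polynomial f over A with f(b) = 0 whose reduction
modulo I is x^d (x - 1)^d. -/
theorem result (A B : Type u) [CommRing A] [CommRing B] [Algebra A B]
    [Algebra.IsIntegral A B] (I : Ideal A) (b : B)
    (hb : IsIdempotentElem (Ideal.Quotient.mk (I.map (algebraMap A B)) b)) :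
    ∃ (f : A[X]) (d : ℕ), f.Monic ∧ 1 ≤ d ∧ aeval b f = 0 ∧
      f.map (Ideal.Quotient.mk I) = X ^ d * (X - 1) ^ d := by
  classical
  cases subsingleton_or_nontrivial (A ⧸ I) with
  | inl hs => exact ⟨(minpoly A b), 1, minpoly.monic (Algebra.IsIntegral.isIntegral b), le_rfl,
      minpoly.aeval A b, Subsingleton.elim _ _⟩
  | inr hnt =>
    haveI : Nontrivial A := (Ideal.Quotient.mk I).domain_nontrivial
    have hmem : b ^ 2 - b ∈ I.map (algebraMap A B) := by
      rw [← Ideal.Quotient.eq_zero_iff_mem, map_sub, map_pow, pow_two, hb.eq, sub_self]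
    obtain ⟨g, hg, hgz, hgc⟩ := Polynomial.exists_monic_aeval_eq_zero_forall_mem_of_mem_map hmem
    have hg' : (g * X).Monic := hg.mul monic_X
    have hdeg : (g * X).natDegree = g.natDegree + 1 := natDegree_mul_X hg.ne_zero
    have hmap : (g * X).map (Ideal.Quotient.mk I) = X ^ (g.natDegree + 1) := by
      have : g.map (Ideal.Quotient.mk I) = X ^ g.natDegree := by
        ext i
        rw [coeff_map, coeff_X_pow]
        split_ifs with h
        · rw [h, hg.coeff_natDegree, map_one]
        · exact Ideal.Quotient.eq_zero_iff_mem.2 (hgc i h)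
      rw [Polynomial.map_mul, this, Polynomial.map_X, pow_succ]
    have hq : (X ^ 2 - X : A[X]).Monic := monic_X_pow_sub (by rw [degree_X]; norm_num)
    have hqd : (X ^ 2 - X : A[X]).natDegree ≠ 0 := by
      rw [natDegree_sub_eq_left_of_natDegree_lt] <;> simp
    refine ⟨(g * X).comp (X ^ 2 - X), g.natDegree + 1, hg'.comp hq hqd, by omega, ?_, ?_⟩
    · rw [aeval_comp]; simp [hgz]
    · rw [Polynomial.map_comp, hmap, Polynomial.map_sub, Polynomial.map_pow, Polynomial.map_X,
        X_pow_comp, ← mul_pow]
      congr 1; ring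

end Groth.Agent.S1959
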