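import Groth.Statements.S19590
import Mathlib.GroupTheory.OrderOfElement
import Mathlib.Data.ZMod.Basic
import Mathlib.Tactic.Module
import Mathlib.LinearAlgebra.Matrix.GeneralLinearGroup.Defs

set_option autoImplicit false
open BddFin

namespace Groth.Agent.S19590

variable {n : ℕ}

/-- entrywise divisibility -/
def Dvd3 (k : ℕ) (A : Matrix (Fin n) (Fin n) ℤ) : Prop := ∃ M, A = (3 ^ k : ℤ) • M

lemma smul_cancel {c : ℤ} (hc : c ≠ 0) {A B : Matrix (Fin n) (Fin n) ℤ} (h : c • A = c • B) : A = B := by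
  ext i j
  exact mul_left_cancel₀ hc (by simpa using congrFun (congrFun h i) j)

lemma binom2 (A : Matrix (Fin n) (Fin n) ℤ) (q : ℕ) :
    ∃ R : Matrix (Fin n) (Fin n) ℤ, (1 + A) ^ q = 1 + (q : ℤ) • A + A * A * R := by
  induction q with
  | zero => exact ⟨0, by simp⟩
  | succ q ih =>
    obtain ⟨R, hR⟩ := ih
    refine ⟨R + R * A + (q : ℤ) • 1, ?_⟩
    rw [pow_succ, hR]
    push_cast
    simp only [mul_add, add_mul, mul_one, one_mul, add_smul, one_smul, smul_mul_assoc,
      mul_smul_comm, mul_assoc]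
    abel

lemma step {A : Matrix (Fin n) (Fin n) ℤ} {q : ℕ} (hq : q.Prime) (h : (1 + A) ^ q = 1) {k : ℕ}
    (hA : Dvd3 (k+1) A) : Dvd3 (k+2) A := by
  obtain ⟨M, rfl⟩ := hA
  by_cases h3 : q = 3
  · subst h3
    have e : (3 ^ (k+1) : ℤ) • ((3 : ℤ) • M + (3 : ℤ) • (3 ^ (k+1) : ℤ) • (M * M)
        + ((3 ^ (k+1) : ℤ) * 3 ^ (k+1)) • (M * M * M))
        = (3 ^ (k+1) : ℤ) • (0 : Matrix (Fin n) (Fin n) ℤ) := by
      rw [smul_zero]
      have : (1 + (3 ^ (k+1) : ℤ) • M) ^ 3 - 1 = 0 := by rw [h, sub_self]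
      rw [← this]
      simp only [pow_succ, pow_zero, mul_add, add_mul, mul_one, one_mul, smul_mul_assoc,
        mul_smul_comm, smul_smul, smul_add, mul_assoc]
      module
    have e' := smul_cancel (pow_ne_zero _ (by norm_num)) e
    refine ⟨-((3 : ℤ) ^ k • (M * M) + ((3 : ℤ) ^ k * 3 ^ k) • (M * M * M)), ?_⟩
    rw [show (3 : ℤ) ^ (k+2) = 3 ^ (k+1) * 3 by ring, mul_smul]
    congr 1
    refine smul_cancel (c := 3) (by norm_num) ?_
    rw [← sub_eq_zero]
    rw [← e']
    rw [pow_succ]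
    module
  · obtain ⟨R, hR⟩ := binom2 ((3 ^ (k+1) : ℤ) • M) q
    rw [h, add_assoc, left_eq_add] at hR
    have e : (3 ^ (k+1) : ℤ) • ((q : ℤ) • M + (3 ^ (k+1) : ℤ) • (M * M * R))
        = (3 ^ (k+1) : ℤ) • (0 : Matrix (Fin n) (Fin n) ℤ) := by
      rw [smul_zero, ← hR]
      simp only [smul_mul_assoc, mul_smul_comm, smul_smul, smul_add]
      module
    have e' := smul_cancel (pow_ne_zero _ (by norm_num)) e
    have hcop : IsCoprime (q : ℤ) ((3 : ℕ) : ℤ) := by
      rw [Nat.isCoprime_iff_coprime]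
      exact (Nat.coprime_primes hq Nat.prime_three).2 h3
    obtain ⟨a, b, hab⟩ := hcop
    push_cast at hab
    refine ⟨b • M - (a * 3 ^ k) • (M * M * R), ?_⟩
    have hM : M = (3 : ℤ) • (b • M - (a * 3 ^ k) • (M * M * R)) := by
      have e2 : a • ((q : ℤ) • M + (3 ^ (k+1) : ℤ) • (M * M * R)) = 0 := by rw [e', smul_zero]
      calc M = (a * q + b * 3) • M := by rw [hab, one_smul]
        _ = a • ((q : ℤ) • M + (3 ^ (k+1) : ℤ) • (M * M * R))
            + (3 : ℤ) • (b • M - (a * 3 ^ k) • (M * M * R)) := by rw [pow_succ]; module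
        _ = _ := by rw [e2, zero_add]
    calc (3 ^ (k+1) : ℤ) • M = (3 ^ (k+1) : ℤ) • ((3 : ℤ) • (b • M - (a * 3 ^ k) • (M * M * R))) := by
          rw [← hM]
      _ = _ := by rw [smul_smul, ← pow_succ]

lemma eq_zero_of_dvd {A : Matrix (Fin n) (Fin n) ℤ} (h : ∀ k, Dvd3 (k+1) A) : A = 0 := by
  ext i j
  obtain ⟨M, hM⟩ := h (A i j).natAbs
  by_contra h0
  have hd : (3 : ℤ) ^ ((A i j).natAbs + 1) ∣ A i j := ⟨M i j, by
    conv_lhs => rw [hM]
    simp⟩
  have := Nat.le_of_dvd (Int.natAbs_pos.2 h0) (Int.natAbs_dvd_natAbs.2 hd)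
  rw [Int.natAbs_pow] at this
  have := Nat.lt_pow_self (n := (A i j).natAbs + 1) (a := 3) (by norm_num)
  simp only [Int.reduceAbs] at *
  omega


/-- For every n, the orders of the finite subgroups of GL_n(ℤ) are bounded: there is B such that every
finite subgroup of GL_n(ℤ) has at most B elements. -/
theorem result (n : ℕ) :
    ∃ B : ℕ, ∀ H : Subgroup (Matrix.GeneralLinearGroup (Fin n) ℤ), Finite H → Nat.card H ≤ B := by
  classical
  refine ⟨Nat.card (Matrix.GeneralLinearGroup (Fin n) (ZMod 3)), fun H hH => ?_⟩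
  haveI : Finite (Matrix.GeneralLinearGroup (Fin n) (ZMod 3)) := inferInstance
  let r : Matrix.GeneralLinearGroup (Fin n) ℤ →* Matrix.GeneralLinearGroup (Fin n) (ZMod 3) :=
    Units.map (RingHom.mapMatrix (Int.castRingHom (ZMod 3))).toMonoidHom
  suffices hinj : Function.Injective (r.comp H.subtype) from Nat.card_le_card_of_injective _ hinj
  rw [← MonoidHom.ker_eq_bot_iff, Subgroup.eq_bot_iff_forall]
  by_contra! hne
  obtain ⟨g, hg, hg1⟩ := hne
  have ho : orderOf g ≠ 1 := fun h => hg1 (orderOf_eq_one_iff.1 h)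
  obtain ⟨q, hq, c, hc⟩ := Nat.exists_prime_and_dvd ho
  have hg0 : 0 < orderOf g := orderOf_pos g
  have hc0 : c ≠ 0 := by rintro rfl; rw [mul_zero] at hc; omega
  set g' := g ^ c with hg'
  have hq' : g' ^ q = 1 := by rw [hg', ← pow_mul, mul_comm, ← hc, pow_orderOf_eq_one]
  have hne' : g' ≠ 1 := fun h => by
    have h1 := Nat.le_of_dvd (Nat.pos_of_ne_zero hc0) (orderOf_dvd_of_pow_eq_one h)
    rw [hc] at h1
    have := hq.two_le
    nlinarith [Nat.pos_of_ne_zero hc0]
  have hk : g' ∈ (r.comp H.subtype).ker := pow_mem hg c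
  set A : Matrix (Fin n) (Fin n) ℤ :=
    ((g' : Matrix.GeneralLinearGroup (Fin n) ℤ) : Matrix (Fin n) (Fin n) ℤ) - 1 with hA
  have hpow : (1 + A) ^ q = 1 := by
    rw [hA, add_sub_cancel, ← Units.val_pow_eq_pow_val, ← SubgroupClass.coe_pow, hq']
    rfl
  have h1 : Dvd3 1 A := by
    have hm : (A.map (Int.castRingHom (ZMod 3))) = 0 := by
      have := congrArg Units.val (MonoidHom.mem_ker.1 hk)
      simp only [r, MonoidHom.coe_comp, Function.comp_apply, Units.coe_map, Subgroup.coe_subtype,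
        Units.val_one] at this
      show RingHom.mapMatrix (Int.castRingHom (ZMod 3)) A = 0
      rw [hA, map_sub, map_one]
      exact sub_eq_zero.2 this
    refine ⟨Matrix.of fun i j => A i j / 3, ?_⟩
    ext i j
    have := congrFun (congrFun hm i) j
    simp only [Matrix.map_apply, Int.coe_castRingHom, Matrix.zero_apply,
      ZMod.intCast_zmod_eq_zero_iff_dvd] at this
    have h' : (3 : ℤ) ∣ A i j := by exact_mod_cast this
    simp [Int.mul_ediv_cancel' h']
  have hall : ∀ k, Dvd3 (k+1) A := fun k => by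
    induction k with
    | zero => exact h1
    | succ k ih => exact step hq hpow ih
  refine hne' (Subtype.ext (Units.ext ?_))
  have := eq_zero_of_dvd hall
  rw [hA, sub_eq_zero] at this
  simpa using this

end Groth.Agent.S19590
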