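import Groth.Statements.S19591
import Mathlib.FieldTheory.Perfect
import Mathlib.LinearAlgebra.QuadraticForm.Basic
import Mathlib.LinearAlgebra.Dimension.Finrank
-- import your own Groth.Agent.* helpers here

set_option autoImplicit false
universe u v
open BddFin

namespace Groth.Agent.S19591

/-- Let K be a perfect field of characteristic 2, V a finite-dimensional K-vector space with dim V > 2
and q a quadratic form on V whose polar bilinear form is non-degenerate. Then q represents zero
non-trivially. (Non-degeneracy of the polar form, which is alternating in characteristic 2, forces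
dim V to be even, as the published lemma notes.) -/
theorem result
    (K : Type u) [Field K] [CharP K 2] [PerfectField K]
    (V : Type v) [AddCommGroup V] [Module K V] [FiniteDimensional K V]
    (hV : 2 < Module.finrank K V) (q : QuadraticForm K V)
    (hq : (QuadraticMap.polarBilin q).Nondegenerate) :
    ∃ v : V, v ≠ 0 ∧ q v = 0 := by
  by_contra hcon
  push Not at hcon
  haveI : Nontrivial V := Module.nontrivial_of_finrank_pos (lt_trans (by norm_num) hV)
  obtain ⟨v, hv⟩ := exists_ne (0 : V)
  let φ : V →ₗ[K] K := (QuadraticMap.polarBilin q) v
  have hrn := φ.finrank_range_add_finrank_ker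
  have hle : Module.finrank K (LinearMap.range φ) ≤ 1 := (Submodule.finrank_le _).trans (Module.finrank_self K).le
  have hlt : Module.finrank K (K ∙ v) < Module.finrank K (LinearMap.ker φ) := by
    rw [finrank_span_singleton hv]; omega
  obtain ⟨w, hw, hwv⟩ := SetLike.not_le_iff_exists.1 fun h => (not_le.2 hlt) (Submodule.finrank_mono h : _ ≤ Module.finrank K (K ∙ v))
  obtain ⟨t, ht⟩ := (PerfectRing.bijective_frobenius (R := K) (p := 2)).2 (q w / q v)
  have h0 : q (t • v + w) = 0 := by
    have hsplit : q (t • v + w) = q (t • v) + q w + QuadraticMap.polar q (t • v) w := QuadraticMap.map_add q _ _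
    have hp : QuadraticMap.polar q v w = 0 := hw
    rw [hsplit, QuadraticMap.map_smul, QuadraticMap.polar_smul_left, hp, smul_zero, add_zero, smul_eq_mul,
      ← pow_two, show t ^ 2 = q w / q v from ht, div_mul_cancel₀ _ (hcon v hv)]
    exact CharTwo.add_self_eq_zero _
  refine hcon _ (fun e => hwv ?_) h0
  rw [Submodule.mem_span_singleton]
  exact ⟨-t, by rw [neg_smul]; exact neg_eq_of_add_eq_zero_right e⟩

end Groth.Agent.S19591
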