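import Groth.Statements.S19595
import Mathlib
import Groth.Agent.ArLef.Fix
-- import your own Groth.Agent.* helpers here

set_option autoImplicit false
universe u
open ArLef

namespace Groth.Agent.S19595

theorem ker_map_residue {B : Type*} [CommRing B] [IsDomain B] [IsDiscreteValuationRing B] {π : B}
    (hπ : Irreducible π) :
    RingHom.ker (PowerSeries.map (IsLocalRing.residue B)) =
      Ideal.span {algebraMap B (PowerSeries B) π} := by
  refine le_antisymm (fun f hf => ?_) ?_
  · have h : ∀ n, ∃ c, PowerSeries.coeff n f = π * c := by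
      intro n
      have h := congrArg (PowerSeries.coeff n) (RingHom.mem_ker.1 hf)
      simp only [PowerSeries.coeff_map, map_zero, IsLocalRing.residue_eq_zero_iff] at h
      rw [hπ.maximalIdeal_eq, Ideal.mem_span_singleton] at h
      exact h
    choose c hc using h
    rw [Ideal.mem_span_singleton]
    exact ⟨PowerSeries.mk c, by ext n; simp [hc, PowerSeries.algebraMap_apply]⟩
  · rw [Ideal.span_le, Set.singleton_subset_iff, SetLike.mem_coe, RingHom.mem_ker,
      PowerSeries.algebraMap_apply, PowerSeries.map_C]
    rw [(IsLocalRing.residue_eq_zero_iff _).2 (by rw [hπ.maximalIdeal_eq]; exact Ideal.mem_span_singleton_self π), map_zero]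
    
theorem length_pi_pow {B : Type*} [CommRing B] [IsDomain B] [IsDiscreteValuationRing B] {π : B}
    (hπ : Irreducible π) (n : ℕ) (f : PowerSeries B) (h0 : ¬ algebraMap B (PowerSeries B) π ∣ f) :
    ArLefLib.len (Ideal.span ({algebraMap B (PowerSeries B) π ^ n, f} : Set (PowerSeries B))) =
      (n : ℕ∞) * ArLefLib.len (Ideal.span
        ({PowerSeries.map (IsLocalRing.residue B) f} : Set (PowerSeries (IsLocalRing.ResidueField B)))) := by
  have hs : Function.Surjective (PowerSeries.map (IsLocalRing.residue B)) :=
    PowerSeries.map_surjective _ IsLocalRing.residue_surjective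
  have hker := ker_map_residue hπ
  have hp : (Ideal.span {algebraMap B (PowerSeries B) π}).IsPrime := hker ▸ RingHom.ker_isPrime _
  have hreg : IsLeftRegular (algebraMap B (PowerSeries B) π) :=
    IsLeftCancelMulZero.mul_left_cancel_of_ne_zero (by
      rw [PowerSeries.algebraMap_apply, Ne, map_eq_zero_iff _ PowerSeries.C_injective]
      simpa using hπ.ne_zero)
  rw [ArLefLib.len_pow _ f (ArLefLib.reg_mod hp hreg h0), ← ArLefLib.len_comap _ hs]
  have h2 : Ideal.map (PowerSeries.map (IsLocalRing.residue B)) (Ideal.span {f}) =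
      Ideal.span {PowerSeries.map (IsLocalRing.residue B) f} := by
    rw [Ideal.map_span, Set.image_singleton]
  have h3 := Ideal.comap_map_of_surjective _ hs (Ideal.span {f})
  rw [h2, ← RingHom.ker_eq_comap_bot, hker] at h3
  rw [h3, Ideal.span_insert, sup_comm]

theorem fix_eq {B : Type*} [CommRing B] [IsDomain B] [IsDiscreteValuationRing B] {π : B}
    (j : ℕ) (γ : B) (hγ : IsUnit γ) (σ : PowerSeries B ≃+* PowerSeries B)
    (hσB : ∀ b : B, σ (algebraMap B (PowerSeries B) b) - algebraMap B (PowerSeries B) b ∈
      Ideal.span ({algebraMap B (PowerSeries B) (π ^ j)} : Set (PowerSeries B)))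
    (hσπ : σ (algebraMap B (PowerSeries B) π) = algebraMap B (PowerSeries B) (π + γ * π ^ j)) :
    ArLef.fixIdeal σ = Ideal.span ({algebraMap B (PowerSeries B) π ^ j,
      σ PowerSeries.X - PowerSeries.X} : Set (PowerSeries B)) := by
  refine le_antisymm ?_ ?_
  · refine ArLefLib.fix_le σ.toRingHom _ (Set.range (algebraMap B (PowerSeries B))) PowerSeries.X
      PowerSeries.X ?_ ?_ (fun r => ?_) ?_ (Ideal.subset_span (by simp)) (Ideal.subset_span (by simp))
    · rw [IsLocalRing.mem_maximalIdeal, mem_nonunits_iff, PowerSeries.isUnit_iff_constantCoeff, PowerSeries.constantCoeff_X]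
      exact not_isUnit_zero
    · rw [IsLocalRing.mem_maximalIdeal, mem_nonunits_iff, PowerSeries.isUnit_iff_constantCoeff, PowerSeries.constantCoeff_X]
      exact not_isUnit_zero
    · refine ⟨_, ⟨PowerSeries.constantCoeff r, rfl⟩, PowerSeries.mk fun n => PowerSeries.coeff (n + 1) r, 0, ?_⟩
      conv_lhs => rw [PowerSeries.eq_X_mul_shift_add_const r]
      rw [PowerSeries.algebraMap_apply, Algebra.algebraMap_self, RingHom.id_apply]
      ring
    · rintro _ ⟨b, rfl⟩
      refine (Ideal.span_le.2 (Set.singleton_subset_iff.2 ?_) : _ ≤ _) (hσB b)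
      rw [map_pow]
      exact Ideal.subset_span (by simp)
  · rw [Ideal.span_le]
    rintro x (rfl | rfl)
    · refine (Ideal.unit_mul_mem_iff_mem _ (hγ.map (algebraMap B (PowerSeries B)))).1 ?_
      have := ArLefLib.sub_mem_fix σ (algebraMap B (PowerSeries B) π)
      rwa [hσπ, map_add, add_sub_cancel_left, map_mul, map_pow] at this
    · exact ArLefLib.sub_mem_fix σ _

/-- In the case of a smooth point lying on the divisorial part of the fixed locus with multiplicity i
strictly between 0 and j, let B be a discrete valuation ring with uniformizer π and residue field k,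
B[[t]] the complete local ring of a semi-stable arithmetic surface over B at a point x where the
closed fibre is smooth, and σ a ring automorphism of B[[t]] with σ(π) = π + γ π^j (γ a unit of B, j
≥ 1) and σ(b) - b ∈ π^j B[[t]] for all b ∈ B (σ lies over an automorphism τ of B with v(τ(π) - π) =
j). Suppose σ(t) - t = π^i f with 0 < i < j and π not dividing f, so that the fixed-point ideal I of
σ is (π^j, π^i f) and its divisorial part near x is the closed fibre with multiplicity i. Then the
residual fixed-point scheme, with ideal (I : π^i), has length (j - i) m at x, where m is the length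
of k[[t]]/(f mod π) (the order at x of the derivation induced by σ on the closed fibre). -/
theorem result (B : Type u) [CommRing B] [IsDomain B] [IsDiscreteValuationRing B] (π : B) (hπ : Irreducible π)
    (j i : ℕ) (hi : 0 < i) (hij : i < j) (γ : B) (hγ : IsUnit γ)
    (σ : PowerSeries B ≃+* PowerSeries B)
    (hσB : ∀ b : B, σ (algebraMap B (PowerSeries B) b) - algebraMap B (PowerSeries B) b ∈
      Ideal.span ({algebraMap B (PowerSeries B) (π ^ j)} : Set (PowerSeries B)))
    (hσπ : σ (algebraMap B (PowerSeries B) π) = algebraMap B (PowerSeries B) (π + γ * π ^ j))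
    (f : PowerSeries B) (hf : σ PowerSeries.X - PowerSeries.X = algebraMap B (PowerSeries B) (π ^ i) * f)
    (hfπ : ¬ (algebraMap B (PowerSeries B) π ∣ f)) :
    Module.length (PowerSeries B) (PowerSeries B ⧸ (ArLef.fixIdeal σ).colon ({algebraMap B (PowerSeries B) (π ^ i)} : Set (PowerSeries B))) =
      ((j - i : ℕ) : ℕ∞) * Module.length (PowerSeries (IsLocalRing.ResidueField B)) (PowerSeries (IsLocalRing.ResidueField B) ⧸
        Ideal.span ({PowerSeries.map (IsLocalRing.residue B) f} : Set (PowerSeries (IsLocalRing.ResidueField B)))) := by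
  obtain ⟨m, rfl⟩ := Nat.exists_eq_add_of_le hij.le
  change Groth.Agent.ArLefLib.len _ = _ * Groth.Agent.ArLefLib.len _
  have hreg : IsLeftRegular (algebraMap B (PowerSeries B) π ^ i) :=
    IsLeftCancelMulZero.mul_left_cancel_of_ne_zero (pow_ne_zero i (by
      rw [PowerSeries.algebraMap_apply, Ne, map_eq_zero_iff _ PowerSeries.C_injective]
      simpa using hπ.ne_zero))
  rw [fix_eq _ γ hγ σ hσB hσπ, hf, map_pow, pow_add, Groth.Agent.ArLefLib.colon_pair _ _ _ hreg,
    Nat.add_sub_cancel_left, length_pi_pow hπ m f hfπ]

end Groth.Agent.S19595
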