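import Groth.Statements.S19596
import Mathlib
import Groth.Agent.ArLef.Fix
-- import your own Groth.Agent.* helpers here

set_option autoImplicit false
universe u
open ArLef ArLef.NodeAlg

namespace Groth.Agent.S19596

open ArLef in
theorem fix_eq {B : Type*} [CommRing B] [IsDomain B] [IsDiscreteValuationRing B] {π : B}
    (hπ : Irreducible π) (j : ℕ) (hj : 1 ≤ j) (γ : B) (hγ : IsUnit γ)
    (σ : NodeAlg B π ≃+* NodeAlg B π)
    (hσB : ∀ b : B, σ (algebraMap B (NodeAlg B π) b) - algebraMap B (NodeAlg B π) b ∈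
      Ideal.span ({algebraMap B (NodeAlg B π) (π ^ j)} : Set (NodeAlg B π)))
    (hσπ : σ (algebraMap B (NodeAlg B π) π) = algebraMap B (NodeAlg B π) (π + γ * π ^ j))
    (α β : (NodeAlg B π)ˣ) (ht : σ (NodeAlg.t π) = (α : NodeAlg B π) * NodeAlg.t π)
    (he : σ (NodeAlg.e π) = (β : NodeAlg B π) * NodeAlg.e π) :
    fixIdeal σ = Ideal.span ({((α : NodeAlg B π) - 1) * NodeAlg.t π,
      ((β : NodeAlg B π) - 1) * NodeAlg.e π} : Set (NodeAlg B π)) ∧
    (α : NodeAlg B π) * β - 1 =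
      algebraMap B (NodeAlg B π) γ * (NodeAlg.t π * NodeAlg.e π) ^ (j - 1) := by
  have hab := ArLefLib.mul_units_eq hπ j hj γ σ.toRingHom hσπ (α : NodeAlg B π) β (by
    change σ _ * σ _ = _
    rw [ht, he]; ring)
  refine ⟨le_antisymm (ArLefLib.node_fix_le hπ σ.toRingHom _ (fun b => ?_) ?_ ?_) ?_, hab⟩
  · change σ (algebraMap B _ b) - _ ∈ _
    refine (Ideal.span_le.2 (Set.singleton_subset_iff.2 ?_) : _ ≤ _) (hσB b)
    refine (Ideal.unit_mul_mem_iff_mem _ (hγ.map (algebraMap B (NodeAlg B π)))).1 ?_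
    rw [map_pow, ← ArLefLib.t_mul_e]
    obtain ⟨m, rfl⟩ := Nat.exists_eq_add_of_le hj
    rw [show 1 + m - 1 = m by omega] at hab
    refine Ideal.mem_span_pair.2 ⟨NodeAlg.e π, (α : NodeAlg B π) * NodeAlg.t π, ?_⟩
    rw [pow_add, pow_one]
    linear_combination (NodeAlg.t π * NodeAlg.e π) * hab
  · change σ _ - _ ∈ _
    rw [ht]
    exact Ideal.mem_span_pair.2 ⟨1, 0, by ring⟩
  · change σ _ - _ ∈ _
    rw [he]
    exact Ideal.mem_span_pair.2 ⟨0, 1, by ring⟩
  · rw [Ideal.span_le]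
    rintro x (rfl | rfl)
    · have := ArLefLib.sub_mem_fix σ (NodeAlg.t π)
      rwa [ht, ← sub_one_mul] at this
    · have := ArLefLib.sub_mem_fix σ (NodeAlg.e π)
      rwa [he, ← sub_one_mul] at this

/-- In the cases where σ fixes the two branches through the point, these lie on different components,
and the second branch lies in the divisorial part of the fixed locus with multiplicity i₂ strictly
between 0 and j while the first has multiplicity i₁ ≤ i₂, let B be a discrete valuation ring with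
uniformizer π, N = B[[t, e]]/(te - π) the complete local ring of a semi-stable arithmetic surface
over B at a singular point x of the closed fibre, and σ a ring automorphism of N with σ(π) = π + γ
π^j (γ a unit of B, j ≥ 1) and σ(c) - c ∈ π^j N for all c ∈ B. Suppose σ(t) = α t and σ(e) = β e
with units α, β, and α - 1 = t^{i₁} e^{i₂} a, β - 1 = t^{i₁} e^{i₂} b with i₁ ≤ i₂, 0 < i₂ < j, e
not dividing a and t not dividing b. Then, I being the fixed-point ideal of σ, whose divisorial part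
near x is t^{i₁} e^{i₂}, the residual fixed-point scheme with ideal (I : t^{i₁} e^{i₂}) has length 1
+ (j - i₁)·Leng N/(t, b) + (j - i₂)·Leng N/(e, a) at x; here Leng N/(t, b) + i₂ + 1 and Leng N/(e,
a) + i₁ + 1 are the orders at x of the derivations σ induces on the two components (the fixed-point
multiplicities when the component is outside the divisorial part). -/
theorem result (B : Type u) [CommRing B] [IsDomain B] [IsDiscreteValuationRing B] (π : B) (hπ : Irreducible π)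
    (j i₁ i₂ : ℕ) (h12 : i₁ ≤ i₂) (h2 : 0 < i₂) (h2j : i₂ < j) (γ : B) (hγ : IsUnit γ)
    (σ : ArLef.NodeAlg B π ≃+* ArLef.NodeAlg B π)
    (hσB : ∀ c : B, σ (algebraMap B (ArLef.NodeAlg B π) c) - algebraMap B (ArLef.NodeAlg B π) c ∈
      Ideal.span ({algebraMap B (ArLef.NodeAlg B π) (π ^ j)} : Set (ArLef.NodeAlg B π)))
    (hσπ : σ (algebraMap B (ArLef.NodeAlg B π) π) = algebraMap B (ArLef.NodeAlg B π) (π + γ * π ^ j))
    (α β : (ArLef.NodeAlg B π)ˣ) (ht : σ (ArLef.NodeAlg.t π) = (α : ArLef.NodeAlg B π) * ArLef.NodeAlg.t π) (he : σ (ArLef.NodeAlg.e π) = (β : ArLef.NodeAlg B π) * ArLef.NodeAlg.e π)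
    (a b : ArLef.NodeAlg B π) (ha : (α : ArLef.NodeAlg B π) - 1 = ArLef.NodeAlg.t π ^ i₁ * ArLef.NodeAlg.e π ^ i₂ * a) (hb : (β : ArLef.NodeAlg B π) - 1 = ArLef.NodeAlg.t π ^ i₁ * ArLef.NodeAlg.e π ^ i₂ * b)
    (hea : ¬ (ArLef.NodeAlg.e π ∣ a)) (htb : ¬ (ArLef.NodeAlg.t π ∣ b)) :
    Module.length (ArLef.NodeAlg B π) (ArLef.NodeAlg B π ⧸ (ArLef.fixIdeal σ).colon ({ArLef.NodeAlg.t π ^ i₁ * ArLef.NodeAlg.e π ^ i₂} : Set (ArLef.NodeAlg B π))) =
      1 + ((j - i₁ : ℕ) : ℕ∞) * Module.length (ArLef.NodeAlg B π) (ArLef.NodeAlg B π ⧸ Ideal.span ({ArLef.NodeAlg.t π, b} : Set (ArLef.NodeAlg B π))) +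
        ((j - i₂ : ℕ) : ℕ∞) * Module.length (ArLef.NodeAlg B π) (ArLef.NodeAlg B π ⧸ Ideal.span ({ArLef.NodeAlg.e π, a} : Set (ArLef.NodeAlg B π))) := by
  obtain ⟨hI, hab⟩ := fix_eq hπ j (by omega) γ hγ σ hσB hσπ α β ht he
  set t := ArLef.NodeAlg.t π
  set e := ArLef.NodeAlg.e π
  set D := t ^ i₁ * e ^ i₂ with hD
  have hr : IsLeftRegular D := Groth.Agent.ArLefLib.regular_mul_pow hπ i₁ i₂
  obtain ⟨m, hm⟩ := Nat.exists_eq_add_of_le (show i₁ ≤ j - 1 by omega)
  obtain ⟨n, hn⟩ := Nat.exists_eq_add_of_le (show i₂ ≤ j - 1 by omega)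
  rw [hI, ha, hb, show D * a * t = D * (a * t) by ring, show D * b * e = D * (b * e) by ring,
    Groth.Agent.ArLefLib.colon_pair D _ _ hr]
  have hrel : (α : ArLef.NodeAlg B π) * b + a =
      ((hγ.map (algebraMap B (ArLef.NodeAlg B π))).unit : ArLef.NodeAlg B π) * (t ^ m * e ^ n) := by
    apply hr
    rw [IsUnit.unit_spec]
    rw [mul_pow] at hab
    conv at hab => rhs; rw [show t ^ (j - 1) = t ^ (i₁ + m) by rw [hm], show e ^ (j - 1) = e ^ (i₂ + n) by rw [hn]]
    rw [pow_add, pow_add] at hab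
    simp only [hD]
    linear_combination hab - (α : ArLef.NodeAlg B π) * hb - ha
  have h := Groth.Agent.ArLefLib.len_core hπ m n a b α _ hrel htb hea
  refine h.trans ?_
  unfold Groth.Agent.ArLefLib.len
  rw [show j - i₁ = m + 1 by omega, show j - i₂ = n + 1 by omega]
  push_cast
  ring

end Groth.Agent.S19596
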