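import Groth.Statements.S19597
import Mathlib
import Groth.Agent.ArLef.Fix
-- import your own Groth.Agent.* helpers here

set_option autoImplicit false
universe u
open ArLef ArLef.NodeAlg

namespace Groth.Agent.S19597

open ArLef in
theorem fix_eq {B : Type*} [CommRing B] [IsDomain B] [IsDiscreteValuationRing B] {π : B}
    (hπ : Irreducible π) (j : ℕ) (hj : 1 ≤ j) (γ : B) (hγ : IsUnit γ)
    (σ : NodeAlg B π ≃+* NodeAlg B π)
    (hσB : ∀ b : B, σ (algebraMap B (NodeAlg B π) b) - algebraMap B (NodeAlg B π) b ∈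
      Ideal.span ({algebraMap B (NodeAlg B π) (π ^ j)} : Set (NodeAlg B π)))
    (hσπ : σ (algebraMap B (NodeAlg B π) π) = algebraMap B (NodeAlg B π) (π + γ * π ^ j))
    (α β : (NodeAlg B π)ˣ) (ht : σ (NodeAlg.t π) = (α : NodeAlg B π) * NodeAlg.t π)
    (he : σ (NodeAlg.e π) = (β : NodeAlg B π) * NodeAlg.e π) :
    fixIdeal σ = Ideal.span ({((α : NodeAlg B π) - 1) * NodeAlg.t π,
      ((β : NodeAlg B π) - 1) * NodeAlg.e π} : Set (NodeAlg B π)) ∧
    (α : NodeAlg B π) * β - 1 =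
      algebraMap B (NodeAlg B π) γ * (NodeAlg.t π * NodeAlg.e π) ^ (j - 1) := by
  have hab := ArLefLib.mul_units_eq hπ j hj γ σ.toRingHom hσπ (α : NodeAlg B π) β (by
    change σ _ * σ _ = _
    rw [ht, he]; ring)
  refine ⟨le_antisymm (ArLefLib.node_fix_le hπ σ.toRingHom _ (fun b => ?_) ?_ ?_) ?_, hab⟩
  · change σ (algebraMap B _ b) - _ ∈ _
    refine (Ideal.span_le.2 (Set.singleton_subset_iff.2 ?_) : _ ≤ _) (hσB b)
    refine (Ideal.unit_mul_mem_iff_mem _ (hγ.map (algebraMap B (NodeAlg B π)))).1 ?_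
    rw [map_pow, ← ArLefLib.t_mul_e]
    obtain ⟨m, rfl⟩ := Nat.exists_eq_add_of_le hj
    rw [show 1 + m - 1 = m by omega] at hab
    refine Ideal.mem_span_pair.2 ⟨NodeAlg.e π, (α : NodeAlg B π) * NodeAlg.t π, ?_⟩
    rw [pow_add, pow_one]
    linear_combination (NodeAlg.t π * NodeAlg.e π) * hab
  · change σ _ - _ ∈ _
    rw [ht]
    exact Ideal.mem_span_pair.2 ⟨1, 0, by ring⟩
  · change σ _ - _ ∈ _
    rw [he]
    exact Ideal.mem_span_pair.2 ⟨0, 1, by ring⟩
  · rw [Ideal.span_le]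
    rintro x (rfl | rfl)
    · have := ArLefLib.sub_mem_fix σ (NodeAlg.t π)
      rwa [ht, ← sub_one_mul] at this
    · have := ArLefLib.sub_mem_fix σ (NodeAlg.e π)
      rwa [he, ← sub_one_mul] at this

/-- In the cases where σ fixes the two branches through the point, these lie on different components,
the second lies in the divisorial part of the fixed locus with the maximal multiplicity j and the
first with multiplicity i₁ < j, let B be a discrete valuation ring with uniformizer π, N = B[[t,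
e]]/(te - π) the complete local ring of a semi-stable arithmetic surface over B at a singular point
x of the closed fibre, and σ a ring automorphism of N with σ(π) = π + γ π^j (γ a unit of B, j ≥ 1)
and σ(c) - c ∈ π^j N for all c ∈ B. Suppose σ(t) = α t and σ(e) = β e with units α, β, that α - 1 =
t^{i₁} e^j a and β - 1 = t^{i₁} e^{j-1} b with i₁ < j and t not dividing b. Then, I being the
fixed-point ideal of σ, whose divisorial part near x is t^{i₁} e^j, the length l of the residual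
fixed-point scheme with ideal (I : t^{i₁} e^j) satisfies l + (j - 1 - i₁) = (j - i₁)·Leng N/(t, b);
for i₁ = 0, Leng N/(t, b) + j is the fixed-point multiplicity s₁ of σ at x on the first component
and l = j (s₁ - j - 1) + 1. -/
theorem result (B : Type u) [CommRing B] [IsDomain B] [IsDiscreteValuationRing B] (π : B) (hπ : Irreducible π)
    (j i₁ : ℕ) (h1 : i₁ < j) (γ : B) (hγ : IsUnit γ)
    (σ : ArLef.NodeAlg B π ≃+* ArLef.NodeAlg B π)
    (hσB : ∀ c : B, σ (algebraMap B (ArLef.NodeAlg B π) c) - algebraMap B (ArLef.NodeAlg B π) c ∈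
      Ideal.span ({algebraMap B (ArLef.NodeAlg B π) (π ^ j)} : Set (ArLef.NodeAlg B π)))
    (hσπ : σ (algebraMap B (ArLef.NodeAlg B π) π) = algebraMap B (ArLef.NodeAlg B π) (π + γ * π ^ j))
    (α β : (ArLef.NodeAlg B π)ˣ) (ht : σ (ArLef.NodeAlg.t π) = (α : ArLef.NodeAlg B π) * ArLef.NodeAlg.t π) (he : σ (ArLef.NodeAlg.e π) = (β : ArLef.NodeAlg B π) * ArLef.NodeAlg.e π)
    (a b : ArLef.NodeAlg B π) (ha : (α : ArLef.NodeAlg B π) - 1 = ArLef.NodeAlg.t π ^ i₁ * ArLef.NodeAlg.e π ^ j * a) (hb : (β : ArLef.NodeAlg B π) - 1 = ArLef.NodeAlg.t π ^ i₁ * ArLef.NodeAlg.e π ^ (j - 1) * b)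
    (htb : ¬ (ArLef.NodeAlg.t π ∣ b)) :
    Module.length (ArLef.NodeAlg B π) (ArLef.NodeAlg B π ⧸ (ArLef.fixIdeal σ).colon ({ArLef.NodeAlg.t π ^ i₁ * ArLef.NodeAlg.e π ^ j} : Set (ArLef.NodeAlg B π))) + ((j - 1 - i₁ : ℕ) : ℕ∞) =
      ((j - i₁ : ℕ) : ℕ∞) * Module.length (ArLef.NodeAlg B π) (ArLef.NodeAlg B π ⧸ Ideal.span ({ArLef.NodeAlg.t π, b} : Set (ArLef.NodeAlg B π))) := by
  obtain ⟨hmax, hdom, hloc, hreg⟩ := Groth.Agent.ArLefLib.node_setup hπ
  obtain ⟨hI, hab⟩ := fix_eq hπ j (by omega) γ hγ σ hσB hσπ α β ht he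
  set t := ArLef.NodeAlg.t π
  set e := ArLef.NodeAlg.e π
  obtain ⟨m, hm⟩ := Nat.exists_eq_add_of_le (show i₁ ≤ j - 1 by omega)
  have hj1 : e ^ j = e ^ (j - 1) * e := by rw [← pow_succ, Nat.sub_add_cancel (by omega)]
  have hr : IsLeftRegular (t ^ i₁ * e ^ j) := Groth.Agent.ArLefLib.regular_mul_pow hπ i₁ j
  rw [hI, ha, hb, show t ^ i₁ * e ^ j * a * t = t ^ i₁ * e ^ j * (a * t) by ring,
    show t ^ i₁ * e ^ (j - 1) * b * e = t ^ i₁ * e ^ j * b by rw [hj1]; ring,
    Groth.Agent.ArLefLib.colon_pair _ _ _ hr]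
  have hrel : (α : ArLef.NodeAlg B π) * b + e * a = algebraMap B (ArLef.NodeAlg B π) γ * t ^ m := by
    apply Groth.Agent.ArLefLib.regular_mul_pow hπ i₁ (j - 1)
    rw [hj1] at ha
    rw [mul_pow] at hab
    conv at hab => rhs; rw [show t ^ (j - 1) = t ^ (i₁ + m) by rw [hm]]
    rw [pow_add] at hab
    linear_combination hab - (α : ArLef.NodeAlg B π) * hb - ha
  have hne : ¬ t ∣ e := by
    simpa using Groth.Agent.ArLefLib.not_dvd π (show (0 : Fin 2) ≠ 1 by decide) 1
  have hregb := Groth.Agent.ArLefLib.reg_mod (Groth.Agent.ArLefLib.prime_v π 0) (hreg 0) htb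
  change Groth.Agent.ArLefLib.len _ + _ = ((j - i₁ : ℕ) : ℕ∞) * Groth.Agent.ArLefLib.len _
  rw [mul_comm a t, Groth.Agent.ArLefLib.len_mul t a b hregb]
  have hbm : Ideal.span ({a, b} : Set (ArLef.NodeAlg B π)) = Ideal.span ({t ^ m, a} : Set (ArLef.NodeAlg B π)) := by
    refine le_antisymm ?_ ?_ <;> rw [Ideal.span_le] <;> rintro x (rfl | rfl)
    · exact Ideal.subset_span (by simp)
    · refine Ideal.mem_span_pair.2 ⟨((α⁻¹ : (ArLef.NodeAlg B π)ˣ) : ArLef.NodeAlg B π) * algebraMap B _ γ, -(((α⁻¹ : (ArLef.NodeAlg B π)ˣ) : ArLef.NodeAlg B π) * e), ?_⟩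
      have := congrArg (fun w => ((α⁻¹ : (ArLef.NodeAlg B π)ˣ) : ArLef.NodeAlg B π) * w) hrel
      simp only [mul_add, ← mul_assoc, Units.inv_mul, one_mul] at this
      linear_combination -this
    · refine (Ideal.unit_mul_mem_iff_mem _ (hγ.map (algebraMap B (ArLef.NodeAlg B π)))).1 ?_
      exact Ideal.mem_span_pair.2 ⟨e, α, by linear_combination hrel⟩
    · exact Ideal.subset_span (by simp)
  rw [hbm]
  rcases Nat.eq_zero_or_pos m with rfl | hm0
  · rw [pow_zero, Ideal.eq_top_of_isUnit_mem _ (Ideal.subset_span (Set.mem_insert 1 _)) isUnit_one,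
      Groth.Agent.ArLefLib.len_top, show j - 1 - i₁ = 0 by omega, show j - i₁ = 1 by omega]
    simp
  obtain ⟨k, rfl⟩ := Nat.exists_eq_add_of_le hm0
  rw [pow_add, pow_one] at hrel
  have hta : ¬ t ∣ a := by
    intro h
    refine htb ((Units.dvd_mul_left (u := α)).1 ?_)
    have h2 : t ∣ (α : ArLef.NodeAlg B π) * b + e * a := ⟨algebraMap B _ γ * t ^ k, by rw [hrel]; ring⟩
    exact (dvd_add_left (h.mul_left e)).1 h2
  have htb' : Ideal.span ({t, b} : Set (ArLef.NodeAlg B π)) = Ideal.span ({e * a, t} : Set (ArLef.NodeAlg B π)) := by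
    refine le_antisymm ?_ ?_ <;> rw [Ideal.span_le] <;> rintro x (rfl | rfl)
    · exact Ideal.subset_span (by simp)
    · refine Ideal.mem_span_pair.2 ⟨-((α⁻¹ : (ArLef.NodeAlg B π)ˣ) : ArLef.NodeAlg B π), ((α⁻¹ : (ArLef.NodeAlg B π)ˣ) : ArLef.NodeAlg B π) * (algebraMap B _ γ * t ^ k), ?_⟩
      have := congrArg (fun w => ((α⁻¹ : (ArLef.NodeAlg B π)ˣ) : ArLef.NodeAlg B π) * w) hrel
      simp only [mul_add, ← mul_assoc, Units.inv_mul, one_mul] at this
      linear_combination -this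
    · exact Ideal.mem_span_pair.2 ⟨algebraMap B _ γ * t ^ k, -(α : ArLef.NodeAlg B π), by linear_combination -hrel⟩
    · exact Ideal.subset_span (by simp)
  have het : ¬ e ∣ t := by
    simpa using Groth.Agent.ArLefLib.not_dvd π (show (1 : Fin 2) ≠ 0 by decide) 1
  rw [Groth.Agent.ArLefLib.len_pow t a (Groth.Agent.ArLefLib.reg_mod (Groth.Agent.ArLefLib.prime_v π 0) (hreg 0) hta),
    htb', Groth.Agent.ArLefLib.len_mul e a t (Groth.Agent.ArLefLib.reg_mod (Groth.Agent.ArLefLib.prime_v π 1) (hreg 1) het),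
    Set.pair_comm e t, Groth.Agent.ArLefLib.len_v π, Set.pair_comm a t,
    show j - 1 - i₁ = 1 + k by omega, show j - i₁ = 1 + k + 1 by omega]
  push_cast
  ring

end Groth.Agent.S19597
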