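import Groth.Statements.S19602
import Groth.Agent.ComodBasic.Stable


set_option autoImplicit false
universe u
open GIT

namespace Groth.Agent.S19602
open Groth.Agent.ComodBasic

/-- Let k be an algebraically closed field, G = Spec A a linearly reductive affine algebraic group over
k, and U = Spec R an affine k-scheme of finite type on which G acts. Two k-points x₁, x₂ of U have
the same image in U//G = Spec R^G if and only if the closures of their orbits have a common k-point.
Stated in coaction form. The published statement allows any affine U and asks only that the two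
orbit closures meet; this row assumes U of finite type over k and asks for a common k-point, which
is then equivalent. -/
theorem result (k : Type u) [Field k] [IsAlgClosed k]
    (A : Type u) [CommRing A] [HopfAlgebra k A] [Algebra.FiniteType k A] (hG : HopfRep.IsLinearlyReductive k A)
    (R : Type u) [CommRing R] [Algebra k R] [Algebra.FiniteType k R] [HopfRep.Comod k A R] [GLin.IsCoactAlg k A R]
    (x₁ x₂ : R →ₐ[k] k) :
    x₁.comp (GLin.invariants k A R).val = x₂.comp (GLin.invariants k A R).val ↔
      ∃ z : R →ₐ[k] k, GLin.InOrbitClosure k A x₁ z ∧ GLin.InOrbitClosure k A x₂ z := by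
  constructor
  · intro h
    exact exists_common_inOrbitClosure hG x₁ x₂ fun f hf => DFunLike.congr_fun h (⟨f, hf⟩ : GLin.invariants k A R)
  · rintro ⟨z, h₁, h₂⟩
    have key : ∀ w : R →ₐ[k] k, GLin.InOrbitClosure k A w z → ∀ f : GLin.invariants k A R, z f = w f := by
      intro w hw f
      have h : (f : R) - algebraMap k R (w f) ∈ RingHom.ker (GLin.orbitHom k A w) := by
        rw [RingHom.mem_ker, map_sub, AlgHom.commutes, orbitHom_eq_coef, coef_apply,
          show HopfRep.Comod.coact (k := k) (A := A) (f : R) = (f : R) ⊗ₜ[k] (1 : A) from f.2]
        simp [Algebra.algebraMap_eq_smul_one]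
      have h' := hw h
      rw [RingHom.mem_ker, map_sub, AlgHom.commutes, sub_eq_zero] at h'
      exact h'
    exact AlgHom.ext fun f => (key x₁ h₁ f).symm.trans (key x₂ h₂ f)

end Groth.Agent.S19602
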