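import Groth.Statements.S19603
import Groth.Agent.ComodBasic.StableLocus


set_option autoImplicit false
universe u
open GIT

namespace Groth.Agent.S19603
open Groth.Agent HopfRep TensorProduct
open scoped Groth.Agent.ComodBasic

/-- For the whole projective space U = P(V), let k be an algebraically closed field of arbitrary
characteristic and G = Spec A a linearly reductive affine algebraic group acting linearly on affine
ι-space, and let v be a vector. Then some invariant homogeneous polynomial of positive degree is
non-zero at v (the point of v is semistable) if and only if the origin is not in the closure of the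
orbit of v. -/
theorem result (k : Type u) [Field k] [IsAlgClosed k]
    (A : Type u) [CommRing A] [HopfAlgebra k A] [Algebra.FiniteType k A] (hG : HopfRep.IsLinearlyReductive k A)
    (ι : Type u) [Fintype ι] [HopfRep.Comod k A (MvPolynomial ι k)] [GLin.IsCoactAlg k A (MvPolynomial ι k)]
    (hlin : GLin.IsLinear k A ι) (v : ι → k) :
    GLin.IsSemistableVec k A v ↔
      ¬ GLin.InOrbitClosure k A (GLin.vecPt k ι v) (GLin.vecPt k ι (fun _ => (0 : k))) := by
  classical
  have hzero : ∀ z : MvPolynomial ι k →ₐ[k] k,
      GLin.InOrbitClosure k A (GLin.vecPt k ι (fun _ => (0 : k))) z → z = GLin.vecPt k ι (fun _ => (0 : k)) := by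
    intro z hz
    refine MvPolynomial.algHom_ext fun i => ?_
    obtain ⟨m, hm⟩ := hlin i
    have h0 : (MvPolynomial.X i : MvPolynomial ι k) ∈
        RingHom.ker (GLin.orbitHom k A (GLin.vecPt k ι (fun _ => (0 : k)))) := by
      rw [RingHom.mem_ker]
      change Algebra.TensorProduct.lid k A (Algebra.TensorProduct.map _ (AlgHom.id k A)
        (Comod.coact (k := k) (A := A) (MvPolynomial.X i : MvPolynomial ι k))) = 0
      rw [hm]
      simp
    have := RingHom.mem_ker.1 (hz h0)
    simp [this]
  constructor
  · intro hs hcl
    apply hs
    intro F hF d hd hFd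
    have h := OrbitDim.eval_invariant hcl hF
    rw [← MvPolynomial.aeval_eq_eval]
    refine h.symm.trans ?_
    simp only [MvPolynomial.aeval_zero', GLin.vecPt]
    rw [MvPolynomial.constantCoeff_eq]
    simp [hFd.coeff_eq_zero (show Finsupp.degree (0 : ι →₀ ℕ) ≠ d by simp; omega)]
  · intro hcl hn
    have hne : ∃ f ∈ HopfRep.fixedPts k A (MvPolynomial ι k),
        GLin.vecPt k ι v f ≠ GLin.vecPt k ι (fun _ => (0 : k)) f := by
      by_contra hcon
      push Not at hcon
      obtain ⟨z, hzv, hz0⟩ := ComodBasic.exists_common_inOrbitClosure hG _ _ hcon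
      exact hcl (hzero z hz0 ▸ hzv)
    obtain ⟨f, hf, hfne⟩ := hne
    let sc : MvPolynomial ι k →ₐ[k] Polynomial (MvPolynomial ι k) :=
      MvPolynomial.aeval fun i => Polynomial.C (MvPolynomial.X i) * Polynomial.X
    have hsc : ∀ (g : MvPolynomial ι k) (d : ℕ), (sc g).coeff d = MvPolynomial.homogeneousComponent d g := by
      intro g d
      induction g using MvPolynomial.induction_on' with
      | add p q hp hq => rw [map_add, Polynomial.coeff_add, hp, hq, map_add]
      | monomial s c =>
        have : sc (MvPolynomial.monomial s c) =
            Polynomial.C (MvPolynomial.monomial s c) * Polynomial.X ^ s.degree := by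
          rw [MvPolynomial.monomial_eq (s := s) (a := c), map_mul, MvPolynomial.aeval_C, map_mul, map_finsuppProd,
            map_finsuppProd, show s.degree = ∑ i ∈ s.support, s i from rfl, ← Finset.prod_pow_eq_pow_sum,
            mul_assoc, Finsupp.prod, Finsupp.prod, ← Finset.prod_mul_distrib]
          congr 1
          refine Finset.prod_congr rfl fun i _ => ?_
          rw [map_pow, map_pow, MvPolynomial.aeval_X, mul_pow]
        rw [this, Polynomial.coeff_C_mul_X_pow, MvPolynomial.homogeneousComponent_apply,
          MvPolynomial.support_monomial]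
        by_cases hc : c = 0
        · simp [hc]
        rw [if_neg hc, Finset.filter_singleton]
        by_cases hd : d = s.degree
        · simp [hd]
        · rw [if_neg hd, if_neg fun h => hd h.symm, Finset.sum_empty]
    let L : MvPolynomial ι k ⊗[k] A →ₐ[k] Polynomial (MvPolynomial ι k ⊗[k] A) :=
      Algebra.TensorProduct.lift
        ((Polynomial.mapAlgHom (Algebra.TensorProduct.includeLeft :
          MvPolynomial ι k →ₐ[k] MvPolynomial ι k ⊗[k] A)).comp sc)
        (Polynomial.CAlgHom.comp Algebra.TensorProduct.includeRight) (fun _ _ => by rw [commute_iff_eq]; ring)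
    have hL : (Polynomial.mapAlgHom (GLin.coactAlgHom k A (MvPolynomial ι k))).comp sc =
        L.comp (GLin.coactAlgHom k A (MvPolynomial ι k)) := by
      refine MvPolynomial.algHom_ext fun i => ?_
      obtain ⟨m, hm⟩ := hlin i
      simp only [AlgHom.comp_apply, sc, MvPolynomial.aeval_X, GLin.coactAlgHom_apply, hm, map_sum]
      simp only [Polynomial.coe_mapAlgHom, Polynomial.map_mul, Polynomial.map_C, Polynomial.map_X]
      simp only [RingHom.coe_coe, GLin.coactAlgHom_apply, hm, map_sum, Finset.sum_mul]
      refine Finset.sum_congr rfl fun j _ => ?_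
      simp [L, sc, Polynomial.CAlgHom, mul_assoc, Polynomial.X_mul_C, mul_comm Polynomial.X]
      rw [← mul_assoc, ← Polynomial.C_mul, Algebra.TensorProduct.tmul_mul_tmul, mul_one, one_mul]
    have hfix : ∀ d, MvPolynomial.homogeneousComponent d f ∈ GLin.invariants k A (MvPolynomial ι k) := by
      intro d
      rw [GLin.mem_invariants_iff]
      have h := congrArg (fun p : Polynomial (MvPolynomial ι k ⊗[k] A) => p.coeff d) (DFunLike.congr_fun hL f)
      simp only [AlgHom.comp_apply, GLin.coactAlgHom_apply, Polynomial.coe_mapAlgHom, Polynomial.coeff_map,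
        RingHom.coe_coe, hsc, show Comod.coact (k := k) (A := A) f = f ⊗ₜ[k] (1 : A) from hf] at h
      rw [h]
      simp [L, Polynomial.CAlgHom, Polynomial.coeff_map, hsc]
    apply hfne
    have hsum := MvPolynomial.sum_homogeneousComponent f
    rw [← hsum, map_sum, map_sum]
    refine Finset.sum_congr rfl fun d _ => ?_
    rcases Nat.eq_zero_or_pos d with rfl | hd
    · rw [MvPolynomial.homogeneousComponent_zero]
      simp
    · have h1 : GLin.vecPt k ι v (MvPolynomial.homogeneousComponent d f) = 0 := by
        rw [GLin.vecPt, MvPolynomial.aeval_eq_eval]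
        exact hn _ (hfix d) d hd (MvPolynomial.homogeneousComponent_isHomogeneous d f)
      rw [h1]
      simp only [MvPolynomial.aeval_zero', GLin.vecPt]
      simp [MvPolynomial.constantCoeff_eq, (MvPolynomial.homogeneousComponent_isHomogeneous d f).coeff_eq_zero
        (show Finsupp.degree (0 : ι →₀ ℕ) ≠ d by simp; omega)]

end Groth.Agent.S19603
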