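import Groth.Statements.S19605
import Groth.Agent.SecTensor.Assoc
import Groth.Agent.HilbPoly.AmpleVanish
import Groth.Agent.ProjCoh.RegularTwist
import Groth.Agent.ProjCoh.GlobalSections
import Groth.Agent.ProjTwist.Invertible
import Groth.Agent.ProjTwist.Tensor
import Groth.Agent.ProjCoh.Syzygy

set_option autoImplicit false
set_option backward.isDefEq.respectTransparency false
universe u
open CategoryTheory CategoryTheory.Limits AlgebraicGeometry
open Variety

open Groth.Agent
set_option linter.style.haveILetI false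

namespace Groth.Agent.S19605

/-- Let F be an m-regular coherent module on projective n-space over a field k. Then for all integers d
≥ m and e ≥ 0 the multiplication map H^0(F(d)) ⊗_k H^0(O(e)) → H^0(F(d+e)) is surjective. The target
is written as the global sections of F(d) ⊗ O(e) and the map as the canonical map from the global
sections of the sectionwise tensor product presheaf (these are H^0(F(d)) ⊗ H^0(O(e)), the tensor
being over the global functions, a field) to the global sections of its sheafification. -/
theorem result (k : Type u) [Field k] (n : ℕ)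
    (F : (CohB1.ProjSpace n k).Modules) (hF : Coh.IsCoh F) (m d : ℤ) (hd : m ≤ d) (h : Curv2.IsMRegular k n F m)
    (e : ℕ) :
    Function.Surjective
      ((toSheafify (Opens.grothendieckTopology (CohB1.ProjSpace n k))
        (CohB1.tensorPre (CohB1.tensorMod F (Twist.twistProjSpace n k d))
          (Twist.twistProjSpace n k (e : ℤ))).presheaf).app (Opposite.op ⊤)) := by
  let F' : (Proj (CohB1.polyGrading n k)).Modules := F
  haveI : F'.IsQuasicoherent := hF.1
  have hu : ∀ e : ℤ, ProjTwist.HasUnit (CohB1.polyGrading n k) e := fun e => ProjCoh.hasUnit_polyGrading e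
  have hO : ∀ e : ℤ, PicF.IsInvertible (Twist.twist (CohB1.polyGrading n k) e) := fun e =>
    ProjTwist.isInvertible_twist (hu e)
  let M := CohB1.tensorMod F' (Twist.twist (CohB1.polyGrading n k) d)
  haveI : M.IsQuasicoherent := ProjCoh.isQuasicoherent_tensor_of_gen F' (ProjCoh.locFreeGen_twist (n := n) (R := k) d)
  suffices hs : ∀ e : ℕ, SecTensor.simple M (Twist.twist (CohB1.polyGrading n k) (e : ℤ)) = ⊤ by
    intro t
    have ht : (show Γ(CohB1.tensorMod M (Twist.twist (CohB1.polyGrading n k) (e : ℤ)), ⊤) from t) ∈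
        SecTensor.simple M (Twist.twist (CohB1.polyGrading n k) (e : ℤ)) := by rw [hs e]; exact AddSubgroup.mem_top _
    obtain ⟨w, hw⟩ := SecTensor.exists_toTensor_of_mem_simple ht
    exact ⟨w, (ProjCoh.toTensor_app_apply _ _ _ w).symm.trans hw⟩
  intro e
  induction e with
  | zero =>
    obtain ⟨e₀⟩ := ProjTwist.nonempty_structureModule_iso_twist_zero (CohB1.polyGrading n k)
    rw [eq_top_iff]
    rintro t -
    obtain ⟨t₁, rfl⟩ := SecTensor.surjective_tMapR M e₀ t
    have h1 : InvBasic.IsBasis (Coh.structureModule (Proj (CohB1.polyGrading n k)))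
        (1 : Γ(Proj (CohB1.polyGrading n k), ⊤)) := fun W h => by
      convert Function.bijective_id
      rename_i r
      change r * (Proj (CohB1.polyGrading n k)).presheaf.map _ (1 : Γ(Proj (CohB1.polyGrading n k), ⊤)) = r
      rw [map_one, mul_one]
    obtain ⟨m₀, rfl⟩ := (HilbPoly.tmul_bij M h1 (le_refl (⊤ : (Proj (CohB1.polyGrading n k)).Opens))).2 t₁
    rw [SecTensor.tMapR_tmul]
    exact AddSubgroup.subset_closure ⟨_, _, rfl⟩
  | succ e ih =>
    obtain ⟨g⟩ := ProjTwist.nonempty_tensor_twist_iso (CohB1.polyGrading n k) (n := (e : ℤ)) (m := 1)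
      (r := ((e + 1 : ℕ) : ℤ)) (by push_cast; ring) (hu 1)
    refine SecTensor.simple_trans (hO e) (hO 1) g ih ?_
    haveI := ProjCoh.isQuasicoherent_tensor_of_gen M (ProjCoh.locFreeGen_twist (n := n) (R := k) (e : ℤ))
    have hreg : ∀ i : ℕ, 1 ≤ i → i ≤ n → Subsingleton (Coh.HH (CohB1.ProjSpace n k)
        (CohB1.tensorMod M (Twist.twistProjSpace n k ((e : ℤ) - i))) i) := fun i hi _ => by
      obtain ⟨a⟩ := HilbPoly.nonempty_assoc F' (hO d) (hO ((e : ℤ) - i))
      obtain ⟨t⟩ := ProjTwist.nonempty_tensor_twist_iso (CohB1.polyGrading n k) (n := d) (m := (e : ℤ) - i)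
        (r := d + ((e : ℤ) - i)) rfl (hu _)
      exact HilbPoly.exists_vanishing_ample.subsingleton_HH_of_iso
        (a.symm ≪≫ (ProjTwist.nonempty_tensorMod_iso (Iso.refl F') t).some)
        (ProjCoh.regular_propagates F hF.1 m h i _ hi (by omega))
    rw [eq_top_iff]
    rintro t -
    obtain ⟨w, hw⟩ := ProjCoh.exists_toTensor_eq _ (ProjCoh.zeroRegular_twist M (e : ℤ) hreg) t
    rw [← hw]
    exact SecTensor.toTensor_mem_simple _ _ w
end Groth.Agent.S19605
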