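import Groth.Statements.S19609
import Mathlib.Tactic
import Mathlib.RingTheory.AdicCompletion.Basic
-- import your own Groth.Agent.* helpers here

set_option autoImplicit false
universe u
open CartMod

namespace Groth.Agent.S19609

/-- Let p be a prime and u : A → B a ring homomorphism between commutative rings which are complete and
separated for the p-adic topology and have no p-torsion (flat over the p-adic base). If u induces a
bijection A/pA → B/pB (injectivity: u a ∈ pB forces a ∈ pA; surjectivity: every b ∈ B is congruent
to some u a modulo pB), then u is bijective. (The published statement is for a morphism of flat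
p-adic formal schemes over the Witt vectors of a perfect field: if its special fibre is an
isomorphism, so is the morphism; this row is its affine, ring-level case.) -/
theorem result (p : ℕ) [Fact p.Prime]
    {A B : Type u} [CommRing A] [CommRing B]
    [IsAdicComplete (Ideal.span {(p : A)}) A] [IsAdicComplete (Ideal.span {(p : B)}) B]
    (hA : IsSMulRegular A (p : A)) (hB : IsSMulRegular B (p : B)) (u : A →+* B)
    (hinj : ∀ a : A, u a ∈ Ideal.span {(p : B)} → a ∈ Ideal.span {(p : A)})
    (hsurj : ∀ b : B, ∃ a : A, b - u a ∈ Ideal.span {(p : B)}) :
    Function.Bijective u := by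
  constructor
  · rw [injective_iff_map_eq_zero]
    intro a ha
    have key : ∀ n : ℕ, ∀ a : A, u a = 0 → a ∈ (Ideal.span {(p : A)}) ^ n := by
      intro n
      induction n with
      | zero => intro a _; simp
      | succ n ih =>
        intro a ha
        obtain ⟨a', rfl⟩ := Ideal.mem_span_singleton'.mp (hinj a (by rw [ha]; exact Ideal.zero_mem _))
        rw [map_mul, map_natCast, mul_comm] at ha
        have ha' : u a' = 0 := hB (show (p : B) • u a' = (p : B) • (0 : B) by rw [smul_zero, smul_eq_mul, ha])
        rw [pow_succ]
        exact Ideal.mul_mem_mul (ih a' ha') (Ideal.mem_span_singleton_self _)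
    refine IsHausdorff.haus (inferInstance : IsHausdorff (Ideal.span {(p : A)}) A) a fun n => ?_
    rw [smul_eq_mul, Ideal.mul_top, SModEq.zero]
    exact key n a ha
  · intro b
    choose g hg using hsurj
    choose q hq using fun b => Ideal.mem_span_singleton'.mp (hg b)
    let r : ℕ → B := fun n => (q^[n]) b
    let s : ℕ → A := fun n => ∑ i ∈ Finset.range n, (p : A) ^ i * g (r i)
    have hsum : ∀ n, b - u (s n) = (p : B) ^ n * r n := by
      intro n
      induction n with
      | zero => simp [s, r]
      | succ n ih =>
        have h1 : r (n + 1) * (p : B) = r n - u (g (r n)) := by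
          simp only [r, Function.iterate_succ', Function.comp_apply]
          exact hq _
        simp only [s, Finset.sum_range_succ, map_add, map_mul, map_pow, map_natCast]
        rw [pow_succ]
        linear_combination ih - (p : B) ^ n * h1
    obtain ⟨L, hL⟩ := IsPrecomplete.prec (inferInstance : IsPrecomplete (Ideal.span {(p : A)}) A) (f := s)
      (fun {m n} hmn => by
        rw [smul_eq_mul, Ideal.mul_top, SModEq.sub_mem]
        simp only [s]
        rw [← Finset.sum_range_add_sum_Ico _ hmn, sub_add_cancel_left]
        refine neg_mem (sum_mem fun i hi => Ideal.mul_mem_right _ _ ?_)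
        rw [Finset.mem_Ico] at hi
        exact Ideal.pow_le_pow_right hi.1 (Ideal.pow_mem_pow (Ideal.mem_span_singleton_self _) i))
    refine ⟨L, (sub_eq_zero.mp (IsHausdorff.haus (inferInstance : IsHausdorff (Ideal.span {(p : B)}) B) _ fun n => ?_)).symm⟩
    rw [smul_eq_mul, Ideal.mul_top, SModEq.zero]
    have h1 := hL n
    rw [smul_eq_mul, Ideal.mul_top, SModEq.sub_mem] at h1
    have h2 : u (s n - L) ∈ (Ideal.span {(p : B)}) ^ n := by
      have h3 := Ideal.mem_map_of_mem u h1
      rwa [Ideal.map_pow, Ideal.map_span, Set.image_singleton, map_natCast] at h3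
    have h4 : (p : B) ^ n * r n ∈ (Ideal.span {(p : B)}) ^ n :=
      Ideal.mul_mem_right _ _ (Ideal.pow_mem_pow (Ideal.mem_span_singleton_self _) n)
    rw [show b - u L = (p : B) ^ n * r n + u (s n - L) by rw [map_sub, ← hsum]; ring]
    exact add_mem h4 h2

end Groth.Agent.S19609
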