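import Groth.Statements.S19610
import Groth.Agent.MLMod.NilFlat
-- import your own Groth.Agent.* helpers here

set_option autoImplicit false
universe u
open scoped TensorProduct
open CartMod

namespace Groth.Agent.S19610

/-- Let p be a prime and B a commutative algebra over the commutative ring A, both complete and
separated for the p-adic topology and both without p-torsion (flat over the p-adic base). If B/pB is
flat over A/pA, then B/p^nB is flat over A/p^nA for every n ≥ 1 (the quotients are written as base
changes (A/p^n) ⊗_A B). (The published statement is for a morphism of flat p-adic formal schemes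
over the Witt vectors of a perfect field: if its special fibre is flat, so are the induced morphisms
of schemes modulo every power of p; this row is its affine, ring-level case.) -/
theorem result (p : ℕ) [Fact p.Prime]
    {A B : Type u} [CommRing A] [CommRing B] [Algebra A B]
    [IsAdicComplete (Ideal.span {(p : A)}) A] [IsAdicComplete (Ideal.span {(p : B)}) B]
    (hA : IsSMulRegular A (p : A)) (hB : IsSMulRegular B (p : B))
    (h : Module.Flat (A ⧸ Ideal.span {(p : A)}) ((A ⧸ Ideal.span {(p : A)}) ⊗[A] B))
    (n : ℕ) (hn : 1 ≤ n) :
    Module.Flat (A ⧸ (Ideal.span {(p : A)} ^ n)) ((A ⧸ (Ideal.span {(p : A)} ^ n)) ⊗[A] B) := by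
  refine Groth.MLMod.flat_quotient_pow_of_torZero (I := Ideal.span {(p : A)}) (M := B) ?_ n
  rw [injective_iff_map_eq_zero]
  intro w hw
  let φ : A →ₗ[A] Ideal.span {(p : A)} :=
    LinearMap.toSpanSingleton A _ ⟨(p : A), Ideal.mem_span_singleton_self _⟩
  have hφ : Function.Surjective φ := by
    rintro ⟨y, hy⟩
    obtain ⟨c, rfl⟩ := Ideal.mem_span_singleton.1 hy
    exact ⟨c, Subtype.ext (mul_comm c _)⟩
  obtain ⟨v, rfl⟩ := LinearMap.rTensor_surjective B hφ w
  obtain ⟨b, rfl⟩ := (TensorProduct.lid A B).symm.surjective v
  have h1 := congrArg (TensorProduct.lid A B) hw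
  rw [TensorProduct.lid_symm_apply, LinearMap.rTensor_tmul, LinearMap.rTensor_tmul, map_zero] at h1
  have h2 : (p : B) * b = 0 := by
    simpa [φ, Algebra.smul_def] using h1
  have hb : b = 0 := hB (by simpa using h2)
  simp [hb]

end Groth.Agent.S19610
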