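import Mathlib
import Groth.Statements.S19611
-- import your own Groth.Agent.* helpers here

set_option autoImplicit false
universe u
open CategoryTheory AlgebraicGeometry
open CartMod

namespace Groth.Agent.S19611

/-- For a prime p and a scheme Y of characteristic p, write Y♭ for the scheme-theoretic image of the
absolute Frobenius F_Y : Y → Y, i.e. the closed subscheme of Y defined by the sections of O_Y whose
p-th power vanishes, and Y → Y♭ for the canonical morphism through which F_Y factors. Then Y → Y♭ is
an epimorphism of schemes: two morphisms g₁, g₂ from Y♭ to a scheme Z with equal composites Y → Y♭ →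
Z are equal. (The published statement is for k-morphisms g₁, g₂ from Y♭ to a k-scheme Z over a
perfect field k of characteristic p, compared after Frobenius twist through Y → (Y♭)'; this row asks
right-cancellation against morphisms to every scheme Z, which is equivalent to it for k-morphisms.) -/
theorem result (p : ℕ) [Fact p.Prime] (Y : Scheme.{u}) [FrobSch.IsCharP Y p] :
    Epi (FrobSch.frob Y p).toImage := by
  classical
  set F := FrobSch.frob Y p with hF
  haveI : QuasiCompact F := quasiCompact_iff _ |>.mpr fun U _ hU => hU
  have hpt : ∀ x : Y, F.imageι (F.toImage x) = x := fun x => by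
    rw [← Scheme.Hom.comp_apply, Scheme.Hom.toImage_imageι]; rfl
  have hsurj : Function.Surjective F.toImage := fun z =>
    ⟨F.imageι z, F.imageι.isEmbedding.injective (hpt _)⟩
  have hinjApp : ∀ T : F.image.Opens, Function.Injective (F.toImage.app T) := fun T =>
    ((TopCat.Presheaf.app_injective_iff_stalkFunctor_map_injective
      (F := F.image.sheaf) F.toImage.c).1 (fun x => F.stalkFunctor_toImage_injective x)) T
  apply CategoryTheory.Functor.epi_of_epi_map (Scheme.forgetToLocallyRingedSpace)
  apply CategoryTheory.Functor.epi_of_epi_map (LocallyRingedSpace.forgetToSheafedSpace)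
  apply SheafedSpace.epi_of_base_surjective_of_stalk_mono _ hsurj
  intro x
  apply ConcreteCategory.mono_of_injective
  change Function.Injective (F.toImage.stalkMap x)
  rw [injective_iff_map_eq_zero]
  intro t ht
  obtain ⟨V, hxV, s, rfl⟩ := F.image.presheaf.exists_germ_eq (x := F.toImage x) t
  rw [Scheme.Hom.germ_stalkMap_apply, ← map_zero (Y.presheaf.germ (F.toImage ⁻¹ᵁ V) x hxV).hom] at ht
  obtain ⟨W, hxW, iU, iV, e⟩ := Y.presheaf.germ_eq x hxV hxV _ _ ht
  let V' : F.image.Opens := V ⊓ F.imageι ⁻¹ᵁ W
  have hx' : F.toImage x ∈ V' := ⟨hxV, by change F.imageι (F.toImage x) ∈ W; rw [hpt]; exact hxW⟩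
  have hle : F.toImage ⁻¹ᵁ V' ≤ W := fun y hy => by
    have h2 : F.imageι (F.toImage y) ∈ W := hy.2
    rwa [hpt] at h2
  have hzero : F.image.presheaf.map (homOfLE inf_le_left : V' ⟶ V).op s = 0 := by
    apply hinjApp V'
    rw [map_zero, ← CommRingCat.comp_apply, Scheme.Hom.naturality, CommRingCat.comp_apply]
    have h2 := congrArg (Y.presheaf.map (homOfLE hle).op) e
    rw [map_zero, map_zero, ← CommRingCat.comp_apply, ← Functor.map_comp] at h2
    exact h2
  rw [← F.image.presheaf.germ_res_apply (homOfLE inf_le_left : V' ⟶ V) _ hx' s, hzero, map_zero]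

end Groth.Agent.S19611
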