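import Groth.Statements.S19612
import Mathlib.RingTheory.WittVector.DiscreteValuationRing
import Mathlib.RingTheory.Flat.TorsionFree
import Mathlib.RingTheory.Flat.EquationalCriterion
import Mathlib.LinearAlgebra.TensorProduct.Quotient
-- import your own Groth.Agent.* helpers here

set_option autoImplicit false
universe u
open scoped TensorProduct
open CartMod

namespace Groth.Agent.S19612

/-- Let k be a perfect field of characteristic p, W = W(k) the ring of Witt vectors of k, and A a
commutative W-algebra which is complete and separated for the p-adic topology (an adic W-algebra).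
Then flatness of A over W is equivalent to flatness of A/p^nA = (W/p^nW) ⊗_W A over W/p^nW for every
n ≥ 1. -/
theorem result (p : ℕ) [Fact p.Prime] (k : Type u) [Field k]
    [CharP k p] [PerfectRing k p] (A : Type u) [CommRing A] [Algebra (WittVector p k) A]
    [IsAdicComplete (Ideal.span {(p : WittVector p k)}) A] :
    Module.Flat (WittVector p k) A ↔
      ∀ n : ℕ, 1 ≤ n →
        Module.Flat (WittVector p k ⧸ (Ideal.span {(p : WittVector p k)} ^ n))
          ((WittVector p k ⧸ (Ideal.span {(p : WittVector p k)} ^ n)) ⊗[WittVector p k] A) := by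
  constructor
  · intro h n _
    infer_instance
  intro h
  have hreg : ∀ a : A, (p : WittVector p k) • a = 0 → a = 0 := by
    intro a ha
    refine IsHausdorff.haus (I := Ideal.span {(p : WittVector p k)}) inferInstance a fun m => ?_
    rw [SModEq.zero]
    set I := Ideal.span {(p : WittVector p k)} with hI
    have := h (m + 1) (by omega)
    let R := WittVector p k ⧸ I ^ (m + 1)
    let e := TensorProduct.quotTensorEquivQuotSMul A (I ^ (m + 1))
    have hrel : (Ideal.Quotient.mk (I ^ (m + 1)) (p : WittVector p k)) •
        ((1 : R) ⊗ₜ[WittVector p k] a) = 0 := by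
      change (p : WittVector p k) • ((1 : R) ⊗ₜ[WittVector p k] a) = 0
      rw [← TensorProduct.tmul_smul, ha, TensorProduct.tmul_zero]
    obtain ⟨l, c, y, hy, hc⟩ := Module.Flat.isTrivialRelation_of_sum_smul_eq_zero (R := R)
      (M := R ⊗[WittVector p k] A) (f := fun _ : Fin 1 => Ideal.Quotient.mk (I ^ (m + 1)) (p : WittVector p k))
      (x := fun _ : Fin 1 => (1 : R) ⊗ₜ[WittVector p k] a) (by simpa using hrel)
    have hmem : (1 : R) ⊗ₜ[WittVector p k] a ∈ (I ^ m • ⊤ : Submodule (WittVector p k) (R ⊗[WittVector p k] A)) := by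
      have hy0 : (1 : R) ⊗ₜ[WittVector p k] a = ∑ j, c 0 j • y j := hy 0
      rw [hy0]
      refine Submodule.sum_mem _ fun j _ => ?_
      obtain ⟨w, hw⟩ := Ideal.Quotient.mk_surjective (c 0 j)
      have hw' : (p : WittVector p k) * w ∈ I ^ (m + 1) := by
        rw [← Ideal.Quotient.eq_zero_iff_mem, map_mul, hw]
        simpa using hc j
      have hwm : w ∈ I ^ m := by
        rw [hI, Ideal.span_singleton_pow, Ideal.mem_span_singleton] at hw' ⊢
        rw [pow_succ'] at hw'
        exact (mul_dvd_mul_iff_left (WittVector.p_nonzero p k)).1 hw'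
      rw [← hw]
      change w • y j ∈ _
      exact Submodule.smul_mem_smul hwm trivial
    have hmem2 := Submodule.mem_map_of_mem (f := e.toLinearMap) hmem
    rw [Submodule.map_smul'', LinearEquiv.coe_toLinearMap] at hmem2
    have he : e ((1 : R) ⊗ₜ[WittVector p k] a) = Submodule.Quotient.mk a := by
      simpa [e] using TensorProduct.quotTensorEquivQuotSMul_mk_tmul (I ^ (m + 1)) (1 : WittVector p k) a
    rw [he] at hmem2
    have hmem3 : Submodule.Quotient.mk a ∈
        Submodule.map (I ^ (m + 1) • (⊤ : Submodule (WittVector p k) A)).mkQ (I ^ m • ⊤) := by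
      rw [Submodule.map_smul'', Submodule.map_top, Submodule.range_mkQ]
      exact Submodule.smul_mono le_rfl le_top hmem2
    obtain ⟨b, hb, hba⟩ := hmem3
    have := (Submodule.Quotient.eq _).1 hba
    have h3 : b - a ∈ I ^ m • (⊤ : Submodule (WittVector p k) A) :=
      Submodule.smul_mono (Ideal.pow_le_pow_right (Nat.le_succ m)) le_rfl this
    simpa using Submodule.sub_mem _ hb h3
  rw [Module.Flat.flat_iff_torsion_eq_bot_of_isBezout, Submodule.eq_bot_iff]
  intro a ha
  obtain ⟨⟨r, hr⟩, hra⟩ := ha
  obtain ⟨m, u, hu⟩ := WittVector.exists_eq_pow_p_mul' r (nonZeroDivisors.ne_zero hr)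
  have hra' : r • a = 0 := hra
  rw [hu, mul_comm, mul_smul] at hra'
  have h0 : (p : WittVector p k) ^ m • a = 0 := (u.isUnit.smul_eq_zero).1 hra'
  clear hra hu hra'
  induction m with
  | zero => simpa using h0
  | succ m ih =>
    rw [pow_succ', mul_smul] at h0
    exact ih (hreg _ h0)

end Groth.Agent.S19612
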