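import Groth.Statements.S19618
import Mathlib
-- import your own Groth.Agent.* helpers here

set_option autoImplicit false
universe u
open CategoryTheory CategoryTheory.Limits AlgebraicGeometry Opposite TopologicalSpace
open BlowUp

namespace Groth.Agent.S19618

/-- Let X be a locally Noetherian scheme, Y an effective Cartier divisor on X (a quasi-coherent ideal
sheaf which, near every point, is generated on some affine open by one nonzerodivisor; Y is its
support) and Z a closed integral subscheme (a closed immersion i from an integral scheme with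
generic point ξ). If Y and Z intersect properly — every point ζ of Y ∩ Z which is maximal under
generization inside Y ∩ Z satisfies dim O_{X,ζ} = codim(Y,X) + codim(Z,X), where codim(Y,X) is the
infimum over y ∈ Y of dim O_{X,y} and codim(Z,X) = dim O_{X,i(ξ)} — then Z is not contained in Y. -/
theorem result {X Z : Scheme.{u}}
    [IsLocallyNoetherian X] (𝓘 : X.IdealSheafData) (hY : BlowUp.IsEffCartierIdeal 𝓘)
    (i : Z ⟶ X) [IsClosedImmersion i] [IsIntegral Z]
    (hprop : ∀ ζ : ↥X, ζ ∈ (𝓘.support : Set ↥X) ∩ Set.range i.base →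
        (∀ ζ' : ↥X, ζ' ∈ (𝓘.support : Set ↥X) ∩ Set.range i.base → ζ' ⤳ ζ → ζ' = ζ) →
        ringKrullDim ↑(X.presheaf.stalk ζ) =
          (⨅ y : (𝓘.support : Set ↥X), ringKrullDim ↑(X.presheaf.stalk y.1)) +
            ringKrullDim ↑(X.presheaf.stalk (i (genericPoint ↥Z)))) :
    ¬ Set.range i.base ⊆ (𝓘.support : Set ↥X) := by
  intro hsub
  have hη : i (genericPoint ↥Z) ∈ (𝓘.support : Set ↥X) ∩ Set.range i.base := ⟨hsub ⟨_, rfl⟩, ⟨_, rfl⟩⟩
  have heq := hprop (i (genericPoint ↥Z)) hη (by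
    rintro ζ' ⟨-, z, rfl⟩ hsp
    exact (hsp.antisymm ((genericPoint_specializes z).map i.continuous)).eq)
  haveI : Nonempty (𝓘.support : Set ↥X) := ⟨⟨_, hη.1⟩⟩
  have h1 : ∀ y : (𝓘.support : Set ↥X), (1 : WithBot ℕ∞) ≤ ringKrullDim ↑(X.presheaf.stalk y.1) := by
    rintro ⟨y, hy⟩
    obtain ⟨U, hyU, f, hf, hI⟩ := hY y
    letI : Algebra Γ(X, U.1) (X.presheaf.stalk y) := X.presheaf.algebra_section_stalk ⟨y, hyU⟩
    let P := (U.2.primeIdealOf ⟨y, hyU⟩).asIdeal
    haveI := U.2.isLocalization_stalk ⟨y, hyU⟩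
    have hnz : algebraMap Γ(X, U.1) (X.presheaf.stalk y) f ∈ nonZeroDivisors (X.presheaf.stalk y) := by
      refine mem_nonZeroDivisors_iff_right.2 fun z hz => ?_
      obtain ⟨a, s, rfl⟩ := IsLocalization.exists_mk'_eq P.primeCompl z
      rw [mul_comm, IsLocalization.mul_mk'_eq_mk'_of_mul, IsLocalization.mk'_eq_zero_iff] at hz
      obtain ⟨t, ht⟩ := hz
      refine (IsLocalization.mk'_eq_zero_iff (M := P.primeCompl) a s).2 ⟨t, ?_⟩
      exact mem_nonZeroDivisors_iff_right.1 hf _ (by rw [mul_assoc, mul_comm a f]; exact ht)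
    have hnu : ¬ IsUnit (algebraMap Γ(X, U.1) (X.presheaf.stalk y) f) := by
      intro hu
      have h2 := (Scheme.IdealSheafData.mem_support_iff_of_mem hyU).1 hy
      rw [hI, Scheme.mem_zeroLocus_iff] at h2
      exact h2 f (Ideal.mem_span_singleton_self f) ((X.mem_basicOpen f y hyU).2 hu)
    haveI : Nontrivial (X.presheaf.stalk y ⧸ Ideal.span {algebraMap Γ(X, U.1) (X.presheaf.stalk y) f}) :=
      Ideal.Quotient.nontrivial_iff.2 fun h => hnu (Ideal.span_singleton_eq_top.1 h)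
    refine le_trans ?_ (ringKrullDim_quotient_succ_le_of_nonZeroDivisor hnz)
    calc (1 : WithBot ℕ∞) = 0 + 1 := (zero_add _).symm
      _ ≤ _ := by gcongr; exact ringKrullDim_nonneg_of_nontrivial
  have hinf : (1 : WithBot ℕ∞) ≤ ⨅ y : (𝓘.support : Set ↥X), ringKrullDim ↑(X.presheaf.stalk y.1) := le_ciInf h1
  obtain ⟨n, hn⟩ : ∃ n : ℕ, ringKrullDim ↑(X.presheaf.stalk (i (genericPoint ↥Z))) = n := by
    have hne : ringKrullDim ↑(X.presheaf.stalk (i (genericPoint ↥Z))) ≠ ⊤ := ringKrullDim_ne_top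
    have hnb : ringKrullDim ↑(X.presheaf.stalk (i (genericPoint ↥Z))) ≠ ⊥ := ringKrullDim_ne_bot
    obtain ⟨m, hm⟩ := WithBot.ne_bot_iff_exists.1 hnb
    have hmt : m ≠ ⊤ := fun h => hne (by rw [← hm, h]; rfl)
    obtain ⟨n, rfl⟩ := WithTop.ne_top_iff_exists.1 hmt
    exact ⟨n, hm.symm⟩
  rw [hn] at heq
  have h2 : ((n + 1 : ℕ) : WithBot ℕ∞) ≤ (n : ℕ) := by
    conv_rhs => rw [heq]
    push_cast
    rw [add_comm]
    gcongr
    exact hinf
  have h3 : (n + 1 : ℕ) ≤ n := by exact_mod_cast h2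
  omega

end Groth.Agent.S19618
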