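import Groth.Statements.S1962
import Groth.Agent.S12237
import Groth.Agent.IndEtaleOps.Lift
import Mathlib.RingTheory.Etale.Basic
-- import your own Groth.Agent.* helpers here

set_option autoImplicit false
universe u
open EtAlg

namespace Groth.Agent.S1962

/-- A strict henselization S of a local ring R (characterized by its universal property, with R → S a
local homomorphism) is formally étale over R. -/
theorem result (R S : Type u) [CommRing R] [IsLocalRing R] [CommRing S]
    [IsLocalRing S] [Algebra R S] [IsLocalHom (algebraMap R S)] [Hensel.IsStrictHenselization R S] :
    Algebra.FormallyEtale R S := by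
  have hS := Groth.Agent.S12237.result R S
  refine Algebra.FormallyEtale.iff_comp_bijective.2 fun B _ _ I hI => ?_
  haveI : HenselianRing B I := Groth.Agent.HenselLib.henselianRing_of_nil fun x hx =>
    ⟨2, by
      have := Ideal.pow_mem_pow hx 2
      rwa [hI, Ideal.mem_bot] at this⟩
  exact Function.bijective_iff_existsUnique _ |>.2 fun σ =>
    Groth.Agent.IndEtaleOps.existsUnique_lift_of_isIndEtale hS I σ

end Groth.Agent.S1962
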