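import Groth.Statements.S19620
import Groth.Agent.DQCPush.QCohD
import Groth.Agent.QCohLib.StalkRestrict
-- import your own Groth.Agent.* helpers here

set_option autoImplicit false
universe u
open CategoryTheory CategoryTheory.Limits AlgebraicGeometry
attribute [local instance] HasDerivedCategory.standard
open DCoh

namespace Groth.Agent.S19620

/-- Let f : X → Y be a proper morphism of schemes, with Rf_* the total right derived functor of f_* on
the unbounded derived categories of modules (assumed to exist), let Z ⊆ X be a closed subset and E
an object of D(O_X) whose cohomology sheaves are all supported in Z (every stalk at a point outside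
Z is trivial). Then the cohomology sheaves of Rf_*E are supported in the closed subset f(Z) of Y.
(The published statement, made in a setting where all schemes are separated and of finite type over
a regular base, takes f proper and perfect and concludes that Rf_* carries perfect complexes acyclic
outside Z to perfect complexes acyclic outside f(Z); the perfectness of Rf_*E is a separate result,
and the support inclusion, which is what the published proof establishes, holds for every proper f
and every E and is stated in that generality.) -/
theorem result {X Y : Scheme.{u}} (f : X ⟶ Y) [IsProper f]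
    [DCoh.HasRpush f] (Z : Set ↥X) (hZ : IsClosed Z) (E : DCoh.D X)
    (hE : ∀ i : ℤ, CohB1.support (DCoh.HD E i) ⊆ Z) (i : ℤ) :
    CohB1.support (DCoh.HD ((DCoh.Rpush f).obj E) i) ⊆ f.base '' Z := by
  intro y hy
  by_contra hne
  have hclosed : IsClosed (f.base '' Z) := f.isClosedMap Z hZ
  let V : Y.Opens := ⟨(f.base '' Z)ᶜ, hclosed.isOpen_compl⟩
  let U : X.Opens := f ⁻¹ᵁ V
  haveI : PreservesFiniteLimits (Scheme.Modules.restrictFunctor V.ι) := CxOX.preservesFiniteLimits_restrictFunctor _
  haveI : PreservesFiniteLimits (Scheme.Modules.restrictFunctor U.ι) := CxOX.preservesFiniteLimits_restrictFunctor _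
  haveI := Groth.Agent.DQCPush.hasRpush (f ∣_ V)
  haveI := Groth.Agent.HigherDirect.hasInjectiveResolutions_modules U.toScheme
  obtain ⟨e⟩ := Groth.Agent.DQCPush.nonempty_Rpush_restrict_iso f V
  open ZeroObject in
  have hL : IsZero ((DCoh.restrictD U.ι).obj E) := by
    have h0 : IsIso (0 : (DCoh.restrictD U.ι).obj E ⟶ 0) := by
      rw [DerivedCategory.isIso_iff]
      intro l
      refine isIso_of_source_target_iso_zero _ (IsZero.isoZero ?_)
        ((DerivedCategory.homologyFunctor _ l).map_isZero (isZero_zero _)).isoZero
      refine IsZero.of_iso ?_ (Groth.Agent.DQCPush.HDRestrictIso U.ι E l)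
      refine Groth.Agent.QCohLib.isZero_restrict_of_subsingleton_stalk U.ι fun w => ?_
      by_contra hw
      exact w.2 ⟨U.ι w, hE l hw, rfl⟩
    exact (isZero_zero _).of_iso (@asIso _ _ _ _ _ h0)
  haveI := Groth.Agent.RlimLib.preservesZeroMorphisms_RFun (Scheme.Modules.pushforward (f ∣_ V))
    (Groth.Agent.DerAdj.modules_hKinj _)
  have hz : IsZero (DCoh.HD ((DCoh.restrictD V.ι).obj ((DCoh.Rpush f).obj E)) i) :=
    ((DerivedCategory.homologyFunctor _ i).map_isZero
      ((Groth.Agent.DerAdj.RFun (Scheme.Modules.pushforward (f ∣_ V))).map_isZero hL)).of_iso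
      ((DerivedCategory.homologyFunctor _ i).mapIso (e.app E))
  exact hy ((Groth.Agent.QCohLib.subsingleton_restrict_stalk_iff V.ι _ ⟨y, hne⟩).1
    (Groth.Agent.QCohLib.subsingleton_stalk_of_isZero (hz.of_iso (Groth.Agent.DQCPush.HDRestrictIso V.ι _ i).symm) _))

end Groth.Agent.S19620
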