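import Groth.Statements.S19625
-- import your own Groth.Agent.* helpers here
import Groth.Agent.SurfRR.CurveInt
import Groth.Agent.SurfRR.CurveCartier
import Groth.Agent.CohDual.SmoothEquidim

set_option autoImplicit false
universe u
open CategoryTheory CategoryTheory.Limits AlgebraicGeometry
open Surf

namespace Groth.Agent.S19625

/-- Let k be a field and S an integral surface (dimension two) which is smooth over k and projective (a
closed immersion into some P^n_k over k). Let i : C → S be the closed immersion of an integral curve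
(dimension one) all of whose local rings are regular, with ideal sheaf I ⊆ O_S, and let N =
Hom(i^*I, O_C) be the normal sheaf of C in S, the dual of the conormal sheaf i^*I (the sheaf Hom,
assumed to exist as the right adjoint of tensoring with i^*I). Then the self-intersection number
C·C, namely the intersection number of O_S(C) with itself computed as the alternating sum χ(O_S) −
2χ(I) + χ(I ⊗ I) with the inverse I = O_S(−C) of O_S(C) (packaged as FGA.intNum), equals the degree
of N on C, the degree of a module M on C being χ(M) − χ(O_C). -/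
theorem result (k : Type u) [Field k] (S : Scheme.{u}) [S.Over (Spec (CommRingCat.of k))]
    [IsIntegral S] (hdim : topologicalKrullDim S = 2) [Smooth (S ↘ (Spec (CommRingCat.of k)))]
    (hproj : ∃ (n : ℕ) (ι : S ⟶ CohB1.ProjSpace n k), IsClosedImmersion ι ∧ ι ≫ CohB1.ProjSpace.toSpec n k = (S ↘ (Spec (CommRingCat.of k))))
    (C : Scheme.{u}) (i : C ⟶ S) [IsClosedImmersion i] [IsIntegral C] (hC : topologicalKrullDim C = 1)
    (hCreg : ∀ c : C, IsRegularLocalRing (C.presheaf.stalk c))
    [DCoh.HasSheafHom (Omega.conormal i)] :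
    letI : C.Over (Spec (CommRingCat.of k)) := ⟨i ≫ (S ↘ (Spec (CommRingCat.of k)))⟩
    FGA.intNum k S 2 ![ClSub.idealMod i.ker, ClSub.idealMod i.ker] (Coh.structureModule S) =
      Curv2.deg k C ((DCoh.sheafHom (Omega.conormal i)).obj (Coh.structureModule C)) 1 := by
  haveI : IsProper (S ↘ Spec (CommRingCat.of k)) := by
    obtain ⟨n, ι, hι, he⟩ := hproj
    haveI := hι
    haveI : IsProper (CohB1.ProjSpace.toSpec n k) := Groth.Agent.InvPow.isProper_toSpec n k
    rw [← he]
    infer_instance
  haveI : IsLocallyNoetherian S := LocallyOfFiniteType.isLocallyNoetherian (S ↘ Spec (CommRingCat.of k))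
  have hreg : ∀ x : S, IsRegularLocalRing (S.presheaf.stalk x) := fun x =>
    CohDual.SmoothEquidim.isRegularLocalRing_stalk (S ↘ Spec (CommRingCat.of k)) x
  letI : C.Over (Spec (CommRingCat.of k)) := ⟨i ≫ (S ↘ (Spec (CommRingCat.of k)))⟩
  have hI := SurfRR.isInvertible_idealMod_of_regular hdim hreg i hC
  obtain ⟨M, ⟨e⟩⟩ := NegVanish.exists_inverse hI
  have hM : PicF.IsInvertible M := NegVanish.isInvertible_of_inverse hI ⟨e⟩
  obtain ⟨c⟩ := ProjTwist.nonempty_tensorMod_comm M (ClSub.idealMod i.ker)
  refine (SurfRR.intNum_ideal_inverse k hdim.le i hI hM (L' := ClSub.idealMod i.ker) (c ≪≫ e)).trans ?_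
  let P := (Scheme.Modules.pullback i).obj M
  obtain ⟨p⟩ := InvPow.nonempty_pullback_tensor_iso i hI hM
  let u := QCohLib.pullbackUnitIso i
  let e₁ : CohB1.tensorMod (Omega.conormal i) P ≅ Coh.structureModule C :=
    p.symm ≪≫ (Scheme.Modules.pullback i).mapIso e ≪≫ u
  haveI : ModSite.HasSheafHom (O := C.sheaf) (Omega.conormal i) :=
    Groth.Agent.ModGroth.hasSheafHom (O := C.sheaf) (Omega.conormal i)
  obtain ⟨c₁⟩ := ProjTwist.nonempty_tensorMod_comm P (Omega.conormal i)
  obtain ⟨h₁⟩ := CohDual.nonempty_homMod_iso_of_inverse P (Omega.conormal i) ⟨c₁ ≪≫ e₁⟩ ⟨e₁⟩ (Coh.structureModule C)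
  obtain ⟨c₂⟩ := ProjTwist.nonempty_tensorMod_comm (Coh.structureModule C) P
  let eH : (DCoh.sheafHom (Omega.conormal i)).obj (Coh.structureModule C) ≅ P :=
    ((SSExist.homXIso (Omega.conormal i)).app _).symm ≪≫ h₁ ≪≫ c₂ ≪≫ SecTwist.unitorR P
  exact (congrArg (fun z : ℤ => z - ((1 : ℕ) : ℤ) * Curv2.euler k C (Coh.structureModule C))
    (HilbPoly.euler_congr (k := k) eH)).symm

end Groth.Agent.S19625
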