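import Groth.Statements.S19626
import Groth.Agent.EtMV.Flasque
import Groth.Agent.EtSite.PullStalk
import Groth.Agent.EtSite.PushEpi
import Groth.Agent.EtSite.RightExact

set_option autoImplicit false
universe u
open CategoryTheory CategoryTheory.Limits AlgebraicGeometry Opposite
open EtCore

namespace Groth.Agent.S19626

/-- Acyclicity on every object of the site. -/
def Ac {X : Scheme.{u}} (F : EtCoh.Ab X) : Prop :=
  ∀ (W : X.Etale) (q : ℕ), Subsingleton (EtCoh.H W.left ((EtCoh.pull W.hom).obj F) (q + 1))

open CategoryTheory.Abelian in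
theorem pull_injective {X : Scheme.{u}} (W : X.Etale) (I : EtCoh.Ab X) [Injective I] (q : ℕ) :
    Subsingleton (EtCoh.H W.left ((EtCoh.pull W.hom).obj I) (q + 1)) := by
  have : Etale W.hom := W.prop
  have := EtMV.jCont W.hom
  have : (EtCoh.pull W.hom).PreservesInjectiveObjects := EtMV.pull_preservesInjectiveObjects W.hom
  have : Injective ((EtCoh.pull W.hom).obj I) := Functor.injective_obj_of_injective _ inferInstance
  exact Ext.subsingleton_of_injective _ _ q

set_option backward.isDefEq.respectTransparency.types false in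
/-- Global sections of a restriction lift if sections over the object do. -/
theorem lift_top {Y : Scheme.{u}} {S : ShortComplex (EtCoh.Ab Y)} (W : Y.Etale)
    (hs : Function.Surjective (S.g.hom.app (op W)))
    (φ : EtCoh.const W.left ℤ ⟶ (EtCoh.pull W.hom).obj S.X₃) :
    ∃ ψ, ψ ≫ (EtCoh.pull W.hom).map S.g = φ := by
  have : Etale W.hom := W.prop
  have := EtMV.jCont W.hom
  let e := (EtMV.topMapIso W).op
  let σ := EtMV.σEt W.hom
  let q : EtCoh.sect ((EtCoh.pull W.hom).obj S.X₃) (EtCoh.top W.left) :=
    ((EtCore.constAdj W.left).homEquiv _ _ φ).hom (ULift.up 1)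
  obtain ⟨p, hp⟩ := hs (S.X₃.obj.map e.inv ((σ.hom.app S.X₃).hom.app (op (EtCoh.top W.left)) q))
  let p' : EtCoh.sect ((EtCoh.pull W.hom).obj S.X₂) (EtCoh.top W.left) :=
    (σ.inv.app S.X₂).hom.app (op (EtCoh.top W.left)) (S.X₂.obj.map e.hom p)
  refine ⟨((EtCore.constAdj W.left).homEquiv _ _).symm
    (AddCommGrpCat.ofHom (((zmultiplesHom _) p').comp AddEquiv.ulift.toAddMonoidHom)), ?_⟩
  apply ((EtCore.constAdj W.left).homEquiv _ _).injective
  rw [Adjunction.homEquiv_naturality_right, Equiv.apply_symm_apply]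
  have key : ((EtCoh.pull W.hom).map S.g).hom.app (op (EtCoh.top W.left)) p' = q := by
    have hn := ConcreteCategory.congr_hom (congr_app (congrArg (fun m => m.hom)
      (σ.inv.naturality S.g)) (op (EtCoh.top W.left))) (S.X₂.obj.map e.hom p)
    erw [ConcreteCategory.comp_apply, ConcreteCategory.comp_apply] at hn
    refine hn.symm.trans ?_
    erw [NatTrans.naturality_apply S.g.hom e.hom, hp, ← Functor.map_comp_apply, e.inv_hom_id, S.X₃.obj.map_id]
    exact ConcreteCategory.congr_hom (congr_app (congrArg (fun m => m.hom)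
      (σ.hom_inv_id_app S.X₃)) (op (EtCoh.top W.left))) q
  refine AddCommGrpCat.hom_ext (AddMonoidHom.ext fun ⟨n⟩ => ?_)
  show ((EtCoh.pull W.hom).map S.g).hom.app (op (EtCoh.top W.left)) (n • p') =
    ((EtCore.constAdj W.left).homEquiv _ _ φ).hom (ULift.up n)
  rw [map_zsmul, key]
  refine (map_zsmul ((EtCore.constAdj W.left).homEquiv _ _ φ).hom n (ULift.up 1)).symm.trans ?_
  exact congrArg _ (ULift.ext _ _ (by simp))

open CategoryTheory.Abelian in
theorem ac_push {X Y : Scheme.{u}} (f : X ⟶ Y) (q : ℕ) : ∀ (F : EtCoh.Ab X), Ac F → ∀ W' : Y.Etale,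
    Subsingleton (EtCoh.H W'.left ((EtCoh.pull W'.hom).obj ((EtCoh.push f).obj F)) (q + 1)) := by
  induction q using Nat.strong_induction_on with
  | _ q ih =>
    intro F hF W'
    let S := ShortComplex.mk (Injective.ι F) (cokernel.π _) (cokernel.condition _)
    have hS : S.ShortExact := { exact := ShortComplex.exact_of_g_is_cokernel _ (cokernelIsCokernel _) }
    have hI : Injective S.X₂ := inferInstanceAs (Injective (Injective.under F))
    have hsurj : ∀ W : X.Etale, Function.Surjective (S.g.hom.app (op W)) := fun W =>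
      have : Subsingleton (EtCoh.H W.left ((EtCoh.pull W.hom).obj S.X₁) 1) := hF W 0
      EtMV.sections_surjective hS W
    have := EtSite.push_preservesFiniteLimits f
    have : Mono S.f := hS.mono_f
    have hPS : (S.map (EtCoh.push f)).ShortExact :=
      { exact := (((EtCoh.push f).preservesFiniteLimits_iff_forall_exact_map_and_mono).1 inferInstance S hS).1
        mono_f := inferInstanceAs (Mono ((EtCoh.push f).map S.f))
        epi_g := by
          apply (sheafToPresheaf _ _).epi_of_epi_map
          refine @NatTrans.epi_of_epi_app _ _ _ _ _ _ _ fun V => ?_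
          rw [AddCommGrpCat.epi_iff_surjective]
          exact hsurj ((EtCoh.bc f).obj V.unop) }
    have hT := hPS.map_of_exact (EtCoh.pull W'.hom)
    have : Injective ((EtCoh.push f).obj S.X₂) := (EtCoh.pullPushAdj f).map_injective S.X₂ hI
    have h2 : Subsingleton (EtCoh.H W'.left ((EtCoh.pull W'.hom).obj ((EtCoh.push f).obj S.X₂)) (q + 1)) :=
      pull_injective W' _ q
    refine ⟨fun a b => ?_⟩
    suffices key : ∀ z : EtCoh.H W'.left ((EtCoh.pull W'.hom).obj ((EtCoh.push f).obj F)) (q + 1), z = 0 by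
      rw [key a, key b]
    intro z
    obtain ⟨x, rfl⟩ := Ext.covariant_sequence_exact₁ _ hT z
      (Subsingleton.elim (α := EtCoh.H W'.left ((EtCoh.pull W'.hom).obj ((EtCoh.push f).obj S.X₂)) (q + 1)) _ _)
      (rfl : q + 1 = q + 1)
    cases q with
    | zero =>
      obtain ⟨φ, rfl⟩ := (Ext.mk₀_bijective _ _).2 x
      obtain ⟨ψ, rfl⟩ := lift_top (S := S.map (EtCoh.push f)) W' (hsurj ((EtCoh.bc f).obj W')) φ
      erw [← Ext.mk₀_comp_mk₀, Ext.comp_assoc_of_second_deg_zero, hT.comp_extClass]
      exact Ext.comp_zero ..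
    | succ p =>
      have hQ : Ac S.X₃ := fun W r => by
        have hW := hS.map_of_exact (EtCoh.pull W.hom)
        refine ⟨fun a b => ?_⟩
        suffices key' : ∀ y : EtCoh.H W.left ((EtCoh.pull W.hom).obj S.X₃) (r + 1), y = 0 by
          rw [key' a, key' b]
        intro y
        obtain ⟨y', rfl⟩ := Ext.covariant_sequence_exact₃ _ hW y (rfl : r + 1 + 1 = r + 2)
          ((hF W (r + 1)).elim _ _)
        have := pull_injective W S.X₂ r
        rw [Subsingleton.elim (α := EtCoh.H W.left ((EtCoh.pull W.hom).obj S.X₂) (r + 1)) y' 0]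
        exact Ext.zero_comp ..
      have := ih p (Nat.lt_succ_self p) S.X₃ hQ W'
      rw [Subsingleton.elim (α := EtCoh.H W'.left ((EtCoh.pull W'.hom).obj ((EtCoh.push f).obj S.X₃)) (p + 1)) x 0]
      exact Ext.zero_comp ..

/-- Let f : X → Y be a morphism of schemes and F an abelian sheaf on the small étale site of X which is
flasque in the sense of étale cohomology: H^q(W, F|_W) = 0 for every étale X-scheme W and every q >
0, where F|_W is the pullback of F along the structure morphism of W. Then the direct image f_*F is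
flasque on Y in the same sense: H^q(W', (f_*F)|_{W'}) = 0 for every étale Y-scheme W' and every q >
0. -/
theorem result {X Y : Scheme.{u}} (f : X ⟶ Y)
    (F : EtCoh.Ab X)
    (hF : ∀ (W : X.Etale) (q : ℕ), 0 < q → Subsingleton (EtCoh.H W.left ((EtCoh.pull W.hom).obj F) q))
    (W' : Y.Etale) (q : ℕ) (hq : 0 < q) :
    Subsingleton (EtCoh.H W'.left ((EtCoh.pull W'.hom).obj ((EtCoh.push f).obj F)) q) := by
  obtain ⟨p, rfl⟩ : ∃ p, q = p + 1 := ⟨q - 1, by omega⟩
  exact ac_push f p F (fun W r => hF W (r + 1) (Nat.succ_pos r)) W'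

end Groth.Agent.S19626
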