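import Groth.Statements.S1963
import Groth.Agent.WEtaleVal.Etale

set_option autoImplicit false
set_option linter.style.haveILetI false
universe u
open EtAlg

namespace Groth.Agent.S1963

/-- Let A be a valuation ring, B an etale A-algebra and m a prime of B lying over the maximal ideal of
A. Then the localization B_m is a valuation ring, the map A -> B_m is injective and local, and the
extension is weakly unramified: every nonzero element of B_m is a unit multiple of the image of an
element of A. -/
theorem result (A B : Type u) [CommRing A] [IsDomain A] [ValuationRing A]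
    [CommRing B] [Algebra A B] [Algebra.Etale A B] (m : Ideal B) [m.IsPrime]
    (hm : m.comap (algebraMap A B) = IsLocalRing.maximalIdeal A) :
    IsDomain (Localization.AtPrime m) ∧ (∀ _ : IsDomain (Localization.AtPrime m), ValuationRing (Localization.AtPrime m)) ∧
    Function.Injective (algebraMap A (Localization.AtPrime m)) ∧ IsLocalHom (algebraMap A (Localization.AtPrime m)) ∧
    ∀ b : Localization.AtPrime m, b ≠ 0 → ∃ (a : A) (u : (Localization.AtPrime m)ˣ),
      b = u * algebraMap A (Localization.AtPrime m) a := by
  haveI : IsLocalHom (algebraMap A (Localization.AtPrime m)) := ⟨fun x hx => by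
    by_contra h
    have h1 : x ∈ IsLocalRing.maximalIdeal A := h
    rw [← hm] at h1
    rw [IsScalarTower.algebraMap_apply A B] at hx
    exact (IsLocalization.AtPrime.isUnit_to_map_iff (Localization.AtPrime m) m _).1 hx h1⟩
  haveI : IsLocalization (⊥ : Submonoid A) A := IsLocalization.self (bot_le)
  haveI : Algebra.WeaklyEtale A A :=
    Groth.Agent.WEtaleVal.weaklyEtale_of_isLocalization (⊥ : Submonoid A)
  obtain ⟨h1, h2, h3, h4⟩ := Groth.Agent.WEtaleVal.main (R := A) (V := A) (B := B)
    (C := Localization.AtPrime m) (fun _ _ h => h) m.primeCompl
  exact ⟨h1, h2, h3, ‹_›, h4⟩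

end Groth.Agent.S1963
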