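import Groth.Statements.S19631
-- import your own Groth.Agent.* helpers here

set_option autoImplicit false
universe u
open Hyper

namespace Groth.Agent.S19631

open CategoryTheory CategoryTheory.Limits Opposite Simplicial SimplexCategory in
set_option backward.isDefEq.respectTransparency false in
theorem isCoskeletal_cechNerveTerminalFrom {C : Type*} [Category C] [HasFiniteProducts C] (A : C) (n : ℕ) :
    SimplicialObject.IsCoskeletal (cechNerveTerminalFrom A) n := by
  let X : SimplicialObject C := cechNerveTerminalFrom A
  let z : SimplexCategory.Truncated n := ⟨⦋0⦌, Nat.zero_le n⟩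
  have hπ : ∀ (m : SimplexCategoryᵒᵖ) (i : Fin (m.unop.len + 1)),
      X.map (SimplexCategory.const ⦋0⦌ m.unop i).op ≫ Pi.π _ 0 = Pi.π _ i := fun m i => by
    simp [X, cechNerveTerminalFrom]
  let mk : ∀ (E : Functor.RightExtension (Truncated.inclusion n).op ((Truncated.inclusion n).op ⋙ X)),
      E.left ⟶ X := fun E =>
    { app := fun m => Pi.lift fun i => E.left.map (SimplexCategory.const ⦋0⦌ m.unop i).op ≫
        E.hom.app (op z) ≫ Pi.π (fun _ : Fin 1 => A) 0
      naturality := fun m k f => by
        apply Pi.hom_ext
        intro i
        simp only [X, cechNerveTerminalFrom, Category.assoc, Pi.lift_π]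
        rw [← Functor.map_comp_assoc]
        congr 1 }
  refine ⟨⟨⟨IsTerminal.ofUniqueHom (fun E => CostructuredArrow.homMk (mk E) ?_) fun E f => ?_⟩⟩⟩
  · apply NatTrans.ext
    funext k
    apply Pi.hom_ext
    intro i
    have h := E.hom.naturality ((Truncated.Hom.tr (SimplexCategory.const ⦋0⦌ k.unop.obj i) (Nat.zero_le n) k.unop.property : z ⟶ k.unop).op)
    have h' := congrArg (· ≫ Pi.π (fun _ : Fin 1 => A) 0) h
    simp only [Category.assoc] at h'
    erw [hπ (op k.unop.obj) i] at h'
    refine Eq.trans ?_ h'
    simp [mk, X, cechNerveTerminalFrom, Functor.RightExtension.mk]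
    rfl
  · apply CostructuredArrow.hom_ext
    apply NatTrans.ext
    funext m
    apply Pi.hom_ext
    intro i
    have h := f.left.naturality (SimplexCategory.const ⦋0⦌ m.unop i).op
    have h0 : f.left.app (op ⦋0⦌) = E.hom.app (op z) := by
      have := congrArg (fun t => t.app (op z)) (CostructuredArrow.w f)
      simpa [Functor.RightExtension.mk] using this
    have h' := congrArg (· ≫ Pi.π (fun _ : Fin 1 => A) 0) h
    simp only [Category.assoc] at h'
    erw [hπ m i, h0] at h'
    refine h'.symm.trans ?_
    simp [mk]

open CategoryTheory CategoryTheory.Limits AlgebraicGeometry in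
/-- Let f : X → Y be a morphism of schemes and X_• = cosk_0^Y(X) its Čech nerve, the simplicial scheme
over Y with X_p = X ×_Y ⋯ ×_Y X (p + 1 factors), face maps the projections forgetting one factor and
degeneracies induced by diagonals. Then X_•, as a simplicial object of the category of schemes over
Y, is n-coskeletal for every n, i.e. the adjunction morphisms X_• → cosk_n sk_n X_• (coskeleta
relative to Y) are isomorphisms. In the source this is phrased as: for a class S of covering maps of
varieties containing the identities, X_• → Y is an S-hypercover whenever X → Y lies in S, the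
adjunction maps X_p → (cosk_{p-1} sk_{p-1} X_•)_p being isomorphisms for p ≥ 1 and X_0 → Y being f.
(Stated for arbitrary schemes; the source has varieties over a field.) -/
theorem result (X Y : Scheme.{u}) (f : X ⟶ Y) (n : ℕ) :
    SimplicialObject.IsCoskeletal (cechNerveTerminalFrom (Over.mk f)) n := by
  exact isCoskeletal_cechNerveTerminalFrom (Over.mk f) n

end Groth.Agent.S19631
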