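import Mathlib
import Groth.Statements.S19632
-- import your own Groth.Agent.* helpers here

set_option autoImplicit false
universe u
open DeRham

namespace Groth.Agent.S19632

/-- Let k be a field of characteristic zero and G_m = Spec k[t, t⁻¹] the multiplicative group. The
kernel of the differential d : k[t, t⁻¹] → Ω¹ of the de Rham complex of G_m consists of the
constants: for a Laurent polynomial f, df = 0 if and only if f lies in the image of k. Equivalently
H^0_dR(G_m/k) = k. (Characteristic zero is used: in characteristic p the element t^p is closed.) -/
theorem result (k : Type u) [Field k] [CharZero k]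
    (f : LaurentPolynomial k) :
    KaehlerDifferential.D k (LaurentPolynomial k) f = 0 ↔ f ∈ Set.range (algebraMap k (LaurentPolynomial k)) := by
  constructor
  · intro h
    let δ : LaurentPolynomial k →ₗ[k] LaurentPolynomial k :=
      (AddMonoidAlgebra.basis ℤ k).constr k fun n => (n : k) • (LaurentPolynomial.T n : LaurentPolynomial k)
    have hδT : ∀ n : ℤ, δ (LaurentPolynomial.T n) = (n : k) • LaurentPolynomial.T n := fun n => by
      show δ (AddMonoidAlgebra.single n 1) = _
      rw [← AddMonoidAlgebra.basis_apply, Module.Basis.constr_basis]
    have hmk : ∀ (n : ℤ) (a : k), (LaurentPolynomial.C a * LaurentPolynomial.T n : LaurentPolynomial k) = a • LaurentPolynomial.T n := fun n a => by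
      rw [Algebra.smul_def]; rfl
    let D : Derivation k (LaurentPolynomial k) (LaurentPolynomial k) := Derivation.mk' δ fun a b => by
      induction a using LaurentPolynomial.induction_on' with
      | add a a' ha ha' => simp only [add_mul, map_add, smul_add, add_smul, ha, ha', smul_eq_mul]; ring
      | C_mul_T n c =>
        induction b using LaurentPolynomial.induction_on' with
        | add b b' hb hb' => simp only [mul_add, map_add, smul_eq_mul] at hb hb' ⊢; rw [hb, hb']; ring
        | C_mul_T m e =>
          simp only [hmk, smul_mul_assoc, mul_smul_comm, ← LaurentPolynomial.T_add, map_smul, hδT, smul_eq_mul, smul_smul]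
          rw [add_comm m n, ← add_smul]
          congr 1
          push_cast; ring
    have hD : δ f = 0 := by
      have := Derivation.liftKaehlerDifferential_comp_D D f
      rw [h, map_zero] at this
      exact this.symm
    have hcoeff : ∀ (g : LaurentPolynomial k) (m : ℤ), (δ g).coeff m = (m : k) * g.coeff m := by
      intro g m
      induction g using LaurentPolynomial.induction_on' with
      | add a a' ha ha' => simp [map_add, mul_add, ha, ha']
      | C_mul_T n c =>
        rw [hmk, map_smul, hδT]
        simp only [LaurentPolynomial.T, AddMonoidAlgebra.coeff_smul, AddMonoidAlgebra.coeff_single, Finsupp.smul_apply, Finsupp.single_apply, smul_eq_mul]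
        split_ifs with hnm
        · subst hnm; ring
        · simp
    refine ⟨f.coeff 0, ?_⟩
    show LaurentPolynomial.C (f.coeff 0) = f
    refine AddMonoidAlgebra.ext (Finsupp.ext fun m => ?_)
    have hm := hcoeff f m
    rw [hD] at hm
    by_cases h0 : m = 0
    · subst h0
      show (AddMonoidAlgebra.single (0 : ℤ) (f.coeff 0)).coeff 0 = f.coeff 0
      rw [AddMonoidAlgebra.coeff_single, Finsupp.single_eq_same]
    · have : f.coeff m = 0 := by
        rcases mul_eq_zero.1 (show (m : k) * f.coeff m = 0 by rw [← hm]; rfl) with h1 | h1
        · exact absurd (Int.cast_eq_zero.1 h1) h0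
        · exact h1
      show (AddMonoidAlgebra.single (0 : ℤ) (f.coeff 0)).coeff m = f.coeff m
      rw [AddMonoidAlgebra.coeff_single, Finsupp.single_eq_of_ne (by omega), this]
  · rintro ⟨a, rfl⟩
    exact Derivation.map_algebraMap _ _

end Groth.Agent.S19632
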