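import Mathlib
import Groth.Statements.S19634
-- import your own Groth.Agent.* helpers here

set_option autoImplicit false
universe u
open DeRham

namespace Groth.Agent.S19634

/-- Let k be a field of characteristic zero and A = k[X, Y]/(XY), the coordinate ring of two affine
lines crossing in a point. In the naive de Rham complex A → Ω¹_{A/k} the kernel of d consists of the
constants: dP = 0 if and only if P is in the image of k. -/
theorem result (k : Type u) [Field k] [CharZero k]
    (P : MvPolynomial (Fin 2) k ⧸ Ideal.span {(MvPolynomial.X 0 * MvPolynomial.X 1 : MvPolynomial (Fin 2) k)}) :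
    KaehlerDifferential.D k (MvPolynomial (Fin 2) k ⧸ Ideal.span {(MvPolynomial.X 0 * MvPolynomial.X 1 : MvPolynomial (Fin 2) k)}) P = 0 ↔
      P ∈ Set.range (algebraMap k (MvPolynomial (Fin 2) k ⧸ Ideal.span {(MvPolynomial.X 0 * MvPolynomial.X 1 : MvPolynomial (Fin 2) k)})) := by
  classical
  constructor
  swap
  · rintro ⟨c, rfl⟩
    exact Derivation.map_algebraMap _ c
  intro hP
  let I : Ideal (MvPolynomial (Fin 2) k) := Ideal.span {MvPolynomial.X 0 * MvPolynomial.X 1}
  have key : ∀ π : (MvPolynomial (Fin 2) k ⧸ I) →ₐ[k] Polynomial k, ∃ c : k, π P = Polynomial.C c := by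
    intro π
    letI := π.toRingHom.toAlgebra
    haveI : IsScalarTower k (MvPolynomial (Fin 2) k ⧸ I) (Polynomial k) :=
      ⟨fun c u v => by
        change π (c • u) * v = c • (π u * v)
        rw [map_smul, smul_mul_assoc]⟩
    have h := congrArg (KaehlerDifferential.map k k (MvPolynomial (Fin 2) k ⧸ I) (Polynomial k)) hP
    rw [KaehlerDifferential.map_D, map_zero] at h
    have h2 := congrArg (Polynomial.derivative' (R := k)).liftKaehlerDifferential h
    rw [Derivation.liftKaehlerDifferential_comp_D, map_zero] at h2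
    have h3 : Polynomial.derivative (π P) = 0 := h2
    exact ⟨_, Polynomial.eq_C_of_derivative_eq_zero h3⟩
  obtain ⟨F, hF⟩ := Ideal.Quotient.mk_surjective P
  rw [← hF] at key
  let ev : Fin 2 → (MvPolynomial (Fin 2) k →ₐ[k] Polynomial k) := fun i => MvPolynomial.aeval (Pi.single i Polynomial.X)
  have hev : ∀ i, ∀ x ∈ I, ev i x = 0 := by
    intro i x hx
    obtain ⟨q, rfl⟩ := Ideal.mem_span_singleton.mp hx
    rw [map_mul, map_mul]
    fin_cases i <;> simp [ev]
  have hc : ∀ i, ∃ c, ev i F = Polynomial.C c := fun i => key (Ideal.Quotient.liftₐ I (ev i) (hev i))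
  refine ⟨MvPolynomial.coeff 0 F, ?_⟩
  rw [← hF, ← Ideal.Quotient.mk_algebraMap, MvPolynomial.algebraMap_eq, Ideal.Quotient.eq]
  refine Ideal.mem_span_singleton.mpr ?_
  have hmon : ∀ (i : Fin 2) (j : Fin 2), j ≠ i → ∀ d : Fin 2 →₀ ℕ, d j = 0 → 0 < d i → MvPolynomial.coeff d F = 0 := by
    intro i j hji d hdj hdi
    obtain ⟨c, hc⟩ := hc i
    have h := congrArg (fun q : Polynomial k => q.coeff (d i)) hc
    simp only [Polynomial.coeff_C, hdi.ne', if_false] at h
    rw [F.as_sum, map_sum, Polynomial.finsetSum_coeff] at h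
    have hterm : ∀ e : Fin 2 →₀ ℕ, (ev i (MvPolynomial.monomial e (MvPolynomial.coeff e F))).coeff (d i) =
        if e = d then MvPolynomial.coeff e F else 0 := by
      intro e
      simp only [ev, MvPolynomial.aeval_monomial]
      rw [Finsupp.prod_fintype _ _ (by simp), ← Finset.mul_prod_erase Finset.univ _ (Finset.mem_univ i)]
      have : Finset.univ.erase i = {j} := by
        ext l; fin_cases i <;> fin_cases j <;> fin_cases l <;> simp at hji ⊢
      rw [this, Finset.prod_singleton, Pi.single_eq_same, Pi.single_eq_of_ne hji]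
      have hed : e = d ↔ e i = d i ∧ e j = 0 := by
        constructor
        · rintro rfl; exact ⟨rfl, hdj⟩
        · rintro ⟨h1, h2⟩
          ext l
          fin_cases i <;> fin_cases j <;> fin_cases l <;> simp_all
      by_cases hej : e j = 0
      · simp [hej, hed, Polynomial.coeff_X_pow, eq_comm]
      · simp [zero_pow hej, hed, hej]
    simp only [hterm, Finset.sum_ite_eq', MvPolynomial.mem_support_iff] at h
    by_contra h0; rw [if_pos h0] at h; exact h0 h
  have hdvd : ∀ d : Fin 2 →₀ ℕ, MvPolynomial.coeff d (MvPolynomial.C (MvPolynomial.coeff 0 F) - F) ≠ 0 → 1 ≤ d 0 ∧ 1 ≤ d 1 := by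
    intro d hd
    rw [MvPolynomial.coeff_sub, MvPolynomial.coeff_C] at hd
    by_contra h
    rcases (by omega : d 0 = 0 ∨ d 1 = 0) with h0 | h1
    · by_cases h1 : d 1 = 0
      · have : d = 0 := by ext l; fin_cases l <;> simp [h0, h1]
        subst this; simp at hd
      · have hne : ¬ 0 = d := fun e => h1 (by rw [← e]; rfl)
        exact hd (by rw [if_neg hne, hmon 1 0 (by decide) d h0 (by omega), sub_zero])
    · by_cases h0 : d 0 = 0
      · have : d = 0 := by ext l; fin_cases l <;> simp [h0, h1]
        subst this; simp at hd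
      · have hne : ¬ 0 = d := fun e => h0 (by rw [← e]; rfl)
        exact hd (by rw [if_neg hne, hmon 0 1 (by decide) d h1 (by omega), sub_zero])
  rw [show (MvPolynomial.X 0 * MvPolynomial.X 1 : MvPolynomial (Fin 2) k) = MvPolynomial.monomial (Finsupp.single 0 1 + Finsupp.single 1 1) 1 by
    simp [MvPolynomial.X, MvPolynomial.monomial_mul]]
  rw [MvPolynomial.as_sum (MvPolynomial.C (MvPolynomial.coeff 0 F) - F)]
  refine Finset.dvd_sum fun d hd => ?_
  rw [MvPolynomial.mem_support_iff] at hd
  obtain ⟨h0, h1⟩ := hdvd d hd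
  rw [MvPolynomial.monomial_dvd_monomial]
  refine ⟨Or.inr (fun l => ?_), one_dvd _⟩
  fin_cases l <;> simp <;> omega

end Groth.Agent.S19634
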