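import Mathlib
import Groth.Statements.S19635
-- import your own Groth.Agent.* helpers here

set_option autoImplicit false
universe u
open DeRham

namespace Groth.Agent.S19635

set_option backward.isDefEq.respectTransparency false
set_option backward.isDefEq.respectTransparency.types false

/-- Let k be a field of characteristic zero and A = k[X, Y]/(XY), the coordinate ring of two affine
lines crossing in a point. The differential d : A → Ω¹_{A/k} of the naive de Rham complex is not
surjective, so the naive H^1 of this singular curve does not vanish although one expects trivial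
cohomology; this is the example motivating the h-topology definition. -/
theorem result (k : Type u) [Field k] [CharZero k] :
    ¬ Function.Surjective (KaehlerDifferential.D k (MvPolynomial (Fin 2) k ⧸ Ideal.span {(MvPolynomial.X 0 * MvPolynomial.X 1 : MvPolynomial (Fin 2) k)})) := by
  let P := MvPolynomial (Fin 2) k
  let I : Ideal P := Ideal.span {(MvPolynomial.X 0 * MvPolynomial.X 1 : P)}
  let x : TrivSqZeroExt k (k × k) := TrivSqZeroExt.inr ((1 : k), (0 : k))
  let y : TrivSqZeroExt k (k × k) := TrivSqZeroExt.inr ((0 : k), (1 : k))
  let χ₀ : P →ₐ[k] TrivSqZeroExt k (k × k) := MvPolynomial.aeval ![x, y]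
  let χ : (P ⧸ I) →ₐ[k] TrivSqZeroExt k (k × k) := Ideal.Quotient.liftₐ I χ₀ (by
    intro a ha
    obtain ⟨b, rfl⟩ := Ideal.mem_span_singleton'.1 ha
    rw [map_mul, map_mul, show χ₀ (MvPolynomial.X 0) = x from MvPolynomial.aeval_X _ _, show χ₀ (MvPolynomial.X 1) = y from MvPolynomial.aeval_X _ _]
    simp [x, y, TrivSqZeroExt.inr_mul_inr])
  let act : P ⧸ I → k × k × k → k × k × k := fun f v =>
    ((χ f).fst * v.1, (χ f).fst * v.2.1, (χ f).fst * v.2.2 + (χ f).snd.1 * v.2.1 - (χ f).snd.2 * v.1)
  letI instM : Module (P ⧸ I) (k × k × k) :=
    { smul := act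
      one_smul := fun v => by show act 1 v = v; simp [act]
      mul_smul := fun f g v => by
        show act (f * g) v = act f (act g v)
        simp [act]
        and_intros <;> ring
      smul_zero := fun f => by show act f 0 = 0; simp [act]
      smul_add := fun f v w => by
        show act f (v + w) = act f v + act f w
        simp [act]
        refine ⟨by ring, by ring, by ring⟩
      add_smul := fun f g v => by
        show act (f + g) v = act f v + act g v
        simp [act]
        refine ⟨by ring, by ring, by ring⟩
      zero_smul := fun v => by show act 0 v = 0; simp [act] }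
  haveI : IsScalarTower k (P ⧸ I) (k × k × k) := ⟨fun c f v => by
    show act (c • f) v = c • act f v
    simp [act]
    refine ⟨by ring, by ring, by ring⟩⟩
  have hsmul : ∀ (f : P ⧸ I) (v : k × k × k), f • v = act f v := fun _ _ => rfl
  let D₀ : (P ⧸ I) →ₗ[k] k × k × k :=
    { toFun := fun f => ((χ f).snd.1, (χ f).snd.2, 0)
      map_add' := fun f g => by simp
      map_smul' := fun c f => by simp }
  let D₁ : Derivation k (P ⧸ I) (k × k × k) := Derivation.mk' D₀ fun f g => by
    rw [hsmul, hsmul]
    simp [D₀, act]
    ring
  intro hsurj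
  obtain ⟨f, hf⟩ := hsurj ((Ideal.Quotient.mk I (MvPolynomial.X 0)) • KaehlerDifferential.D k (P ⧸ I) (Ideal.Quotient.mk I (MvPolynomial.X 1)))
  have h := congrArg D₁.liftKaehlerDifferential hf
  rw [map_smul, Derivation.liftKaehlerDifferential_comp_D, Derivation.liftKaehlerDifferential_comp_D, hsmul] at h
  have h3 := congrArg (fun v : k × k × k => v.2.2) h
  have hx : χ (Ideal.Quotient.mk I (MvPolynomial.X 0)) = x := MvPolynomial.aeval_X _ _
  have hy : χ (Ideal.Quotient.mk I (MvPolynomial.X 1)) = y := MvPolynomial.aeval_X _ _
  simp [D₁, D₀, act, hx, hy, x, y] at h3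

end Groth.Agent.S19635
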