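import Groth.Statements.S1964
import Groth.Agent.HenselLib.Local
import Groth.Agent.HenselLib.TFAE
import Groth.Agent.HenselLib.Ops

set_option autoImplicit false
universe u
open EtAlg

namespace Groth.Agent.S1964

/-- A domain B integral over a henselian local ring A is itself henselian local, and the structure map A
-> B is local; if the residue field of A is separably closed, so is that of B, and the residue field
extension is purely inseparable. -/
theorem result (A B : Type u) [CommRing A] [HenselianLocalRing A] [CommRing B]
    [IsDomain B] [Algebra A B] [Algebra.IsIntegral A B] :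
    ∃ _ : HenselianLocalRing B, IsLocalHom (algebraMap A B) ∧
      (IsSepClosed (IsLocalRing.ResidueField A) →
        IsSepClosed (IsLocalRing.ResidueField B) ∧
        ∀ _ : IsLocalHom (algebraMap A B),
          letI := (IsLocalRing.ResidueField.map (algebraMap A B)).toAlgebra
          IsPurelyInseparable (IsLocalRing.ResidueField A) (IsLocalRing.ResidueField B)) := by
  classical
  have : HenselianRing A (IsLocalRing.maximalIdeal A) := inferInstance
  have hloc : IsLocalRing B := by
    refine IsLocalRing.of_unique_max_ideal ?_
    obtain ⟨M, hM⟩ := Ideal.exists_maximal B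
    refine ⟨M, hM, fun N hN => ?_⟩
    by_contra hne
    obtain ⟨b, hbN, hbM⟩ := SetLike.not_le_iff_exists.mp fun hle => hne (hN.eq_of_le hM.ne_top hle)
    let C := Algebra.adjoin A ({b} : Set B)
    have hfin : Module.Finite A C :=
      Module.Finite.iff_fg.mpr (Algebra.IsIntegral.isIntegral b).fg_adjoin_singleton
    obtain ⟨ι, _, D, _, hD, ⟨e⟩⟩ := HenselLib.exists_prod_local_of_surjOn (A := A) (B := C) (by
      intro x hx
      obtain ⟨y, rfl⟩ := Ideal.Quotient.mk_surjective x
      have hy : y ^ 2 - y ∈ (IsLocalRing.maximalIdeal A).map (algebraMap A C) := by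
        rw [sq, ← Ideal.Quotient.eq, map_mul]; exact hx
      obtain ⟨e, he, hey⟩ := HenselLib.exists_idem (IsLocalRing.maximalIdeal A) hy
      exact ⟨e, he, Ideal.Quotient.eq.mpr hey⟩)
    have hsub : ∀ i j : ι, i = j := by
      intro i j
      by_contra hij
      have h : (Pi.single i 1 : ∀ k, D k) * Pi.single j 1 = 0 := by
        funext k
        rcases eq_or_ne k i with rfl | hk
        · simp [Pi.single_eq_of_ne hij]
        · simp [Pi.single_eq_of_ne hk]
      have h' := congrArg e.symm h
      rw [map_mul, map_zero, mul_eq_zero] at h'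
      rcases h' with h' | h'
      · have := hD i
        exact one_ne_zero (α := D i) (by simpa using congrFun (e.symm.injective (h'.trans (map_zero e.symm).symm)) i)
      · have := hD j
        exact one_ne_zero (α := D j) (by simpa using congrFun (e.symm.injective (h'.trans (map_zero e.symm).symm)) j)
    have hne' : Nonempty ι := by
      by_contra hempty
      rw [not_nonempty_iff] at hempty
      exact one_ne_zero (α := C) (e.injective (funext fun i => hempty.elim i))
    obtain ⟨i₀⟩ := hne'
    have : Unique ι := { default := i₀, uniq := fun j => hsub j i₀ }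
    have hCloc : IsLocalRing C := by
      have := hD default
      exact (e.trans (RingEquiv.piUnique D)).symm.isLocalRing
    have : Algebra.IsIntegral C B := Algebra.IsIntegral.tower_top A
    have h1 := IsLocalRing.eq_maximalIdeal (Ideal.isMaximal_comap_of_isIntegral_of_isMaximal (R := C) M)
    have h2 := IsLocalRing.eq_maximalIdeal (Ideal.isMaximal_comap_of_isIntegral_of_isMaximal (R := C) N)
    have hb : (⟨b, Algebra.self_mem_adjoin_singleton A b⟩ : C) ∈ Ideal.comap (algebraMap C B) N := hbN
    rw [h2, ← h1] at hb
    exact hbM hb
  have hlh : IsLocalHom (algebraMap A B) := by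
    refine ((IsLocalRing.local_hom_TFAE (algebraMap A B)).out 0 4).mpr ?_
    exact IsLocalRing.eq_maximalIdeal (Ideal.isMaximal_comap_of_isIntegral_of_isMaximal (R := A) (IsLocalRing.maximalIdeal B))
  have hH : HenselianRing B ((IsLocalRing.maximalIdeal A).map (algebraMap A B)) :=
    HenselLib.henselianRing_of_isIntegral (IsLocalRing.maximalIdeal A) B
  have hrad : ((IsLocalRing.maximalIdeal A).map (algebraMap A B)).radical = IsLocalRing.maximalIdeal B := by
    refine le_antisymm ?_ ?_
    · rw [(IsLocalRing.maximalIdeal.isMaximal B).isPrime.radical_le_iff, Ideal.map_le_iff_le_comap]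
      exact (IsLocalRing.eq_maximalIdeal
        (Ideal.isMaximal_comap_of_isIntegral_of_isMaximal (R := A) (IsLocalRing.maximalIdeal B))).ge
    · rw [Ideal.radical_eq_sInf]
      refine le_sInf fun Q ⟨hQ, hQp⟩ => ?_
      have hc : (Ideal.comap (algebraMap A B) Q).IsMaximal := by
        have := hQp
        have hle : IsLocalRing.maximalIdeal A ≤ Ideal.comap (algebraMap A B) Q := Ideal.map_le_iff_le_comap.mp hQ
        rw [← (IsLocalRing.maximalIdeal.isMaximal A).eq_of_le (Ideal.IsPrime.ne_top inferInstance) hle]
        exact IsLocalRing.maximalIdeal.isMaximal A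
      have := hQp
      exact (IsLocalRing.eq_maximalIdeal (Ideal.isMaximal_of_isIntegral_of_isMaximal_comap Q hc)).ge
  have hH' : HenselianRing B (IsLocalRing.maximalIdeal B) := by
    rw [← hrad]; exact HenselLib.henselianRing_radical _
  have hBL : HenselianLocalRing B := HenselLib.henselianLocalRing_of_henselianRing
  refine ⟨hBL, hlh, fun hsep => ?_⟩
  let _ : Algebra (IsLocalRing.ResidueField A) (IsLocalRing.ResidueField B) :=
    (IsLocalRing.ResidueField.map (algebraMap A B)).toAlgebra
  have halg : Algebra.IsAlgebraic (IsLocalRing.ResidueField A) (IsLocalRing.ResidueField B) := by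
    refine ⟨fun x => ?_⟩
    obtain ⟨b, rfl⟩ := IsLocalRing.residue_surjective x
    obtain ⟨f, hf, hfb⟩ := Algebra.IsIntegral.isIntegral (R := A) b
    refine ⟨f.map (IsLocalRing.residue A), (hf.map _).ne_zero, ?_⟩
    rw [Polynomial.aeval_def, Polynomial.eval₂_map]
    have hcomp : (algebraMap (IsLocalRing.ResidueField A) (IsLocalRing.ResidueField B)).comp
        (IsLocalRing.residue A) = (IsLocalRing.residue B).comp (algebraMap A B) := RingHom.ext fun a => rfl
    rw [hcomp, ← Polynomial.hom_eval₂, hfb, map_zero]
  exact ⟨Algebra.IsAlgebraic.isSepClosed (F := IsLocalRing.ResidueField A) (E := IsLocalRing.ResidueField B),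
    fun _ => inferInstance⟩

end Groth.Agent.S1964
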