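import Groth.Statements.S1965
import Mathlib

set_option autoImplicit false
universe u
open Polynomial
open EtAlg

namespace Groth.Agent.S1965

/-- Newton's method for a complete pair; Mathlib's proof does not use monicity. -/
theorem newton {R : Type u} [CommRing R] (I : Ideal R) [IsAdicComplete I R] (f : R[X]) (a₀ : R)
    (h₁ : f.eval a₀ ∈ I) (h₂ : IsUnit (Ideal.Quotient.mk I ((derivative f).eval a₀))) :
    ∃ a : R, f.IsRoot a ∧ a - a₀ ∈ I := by
    classical
      let f' := derivative f
      -- we define a sequence `c n` by starting at `a₀` and then continually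
      -- applying the function sending `b` to `b - f(b)/f'(b)` (Newton's method).
      -- Note that `f'.eval b` is a unit, because `b` has the same residue as `a₀` modulo `I`.
      let c : ℕ → R := fun n => Nat.recOn n a₀ fun _ b => b - f.eval b * (Ring.inverse (f'.eval b))
      have hc : ∀ n, c (n + 1) = c n - f.eval (c n) * (Ring.inverse (f'.eval (c n))) := by
        intro n
        simp only [c]
      -- we now spend some time determining properties of the sequence `c : ℕ → R`
      -- `hc_mod`: for every `n`, we have `c n ≡ a₀ [SMOD I]`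
      -- `hf'c`  : for every `n`, `f'.eval (c n)` is a unit
      -- `hfcI`  : for every `n`, `f.eval (c n)` is contained in `I ^ (n+1)`
      have hc_mod : ∀ n, c n ≡ a₀ [SMOD I] := by
        intro n
        induction n with
        | zero => rfl
        | succ n ih => ?_
        rw [hc, sub_eq_add_neg, ← add_zero a₀]
        refine ih.add ?_
        rw [SModEq.zero, Ideal.neg_mem_iff]
        refine I.mul_mem_right _ ?_
        rw [← SModEq.zero] at h₁ ⊢
        exact (ih.eval f).trans h₁
      have hf'c : ∀ n, IsUnit (f'.eval (c n)) := by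
        intro n
        have := isLocalHom_of_le_jacobson_bot I (IsAdicComplete.le_jacobson_bot I)
        apply IsUnit.of_map (Ideal.Quotient.mk I)
        convert! h₂ using 1
        exact SModEq.def.mp ((hc_mod n).eval _)
      have hfcI : ∀ n, f.eval (c n) ∈ I ^ (n + 1) := by
        intro n
        induction n with
        | zero => simpa only [Nat.rec_zero, zero_add, pow_one] using! h₁
        | succ n ih => ?_
        rw [← taylor_eval_sub (c n), hc, sub_eq_add_neg, sub_eq_add_neg,
          add_neg_cancel_comm]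
        rw [eval_eq_sum, sum_over_range' _ _ _ (lt_add_of_pos_right _ zero_lt_two), ←
          Finset.sum_range_add_sum_Ico _ (Nat.le_add_left _ _)]
        swap
        · intro i
          rw [zero_mul]
        refine Ideal.add_mem _ ?_ ?_
        · rw [← one_add_one_eq_two, Finset.sum_range_succ, Finset.range_one, Finset.sum_singleton,
            taylor_coeff_zero, taylor_coeff_one, pow_zero, pow_one, mul_one, mul_neg,
            mul_left_comm, Ring.mul_inverse_cancel _ (hf'c n), mul_one, add_neg_cancel]
          exact Ideal.zero_mem _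
        · refine Submodule.sum_mem _ ?_
          simp only [Finset.mem_Ico]
          rintro i ⟨h2i, _⟩
          have aux : n + 2 ≤ i * (n + 1) := by trans 2 * (n + 1) <;> nlinarith only [h2i]
          refine Ideal.mul_mem_left _ _ (Ideal.pow_le_pow_right aux ?_)
          rw [pow_mul']
          exact Ideal.pow_mem_pow ((Ideal.neg_mem_iff _).2 <| Ideal.mul_mem_right _ _ ih) _
      -- we are now in the position to show that `c : ℕ → R` is a Cauchy sequence
      have aux : ∀ m n, m ≤ n → c m ≡ c n [SMOD (I ^ m • ⊤ : Ideal R)] := by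
        intro m n hmn
        rw [← Ideal.one_eq_top, Ideal.smul_eq_mul, mul_one]
        obtain ⟨k, rfl⟩ := Nat.exists_eq_add_of_le hmn
        clear hmn
        induction k with
        | zero => rw [add_zero]
        | succ k ih => ?_
        rw [← add_assoc, hc, ← add_zero (c m), sub_eq_add_neg]
        refine ih.add ?_
        symm
        rw [SModEq.zero, Ideal.neg_mem_iff]
        refine Ideal.mul_mem_right _ _ (Ideal.pow_le_pow_right ?_ (hfcI _))
        rw [add_assoc]
        exact le_self_add
      -- hence the sequence converges to some limit point `a`, which is the `a` we are looking for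
      obtain ⟨a, ha⟩ := IsPrecomplete.prec' c (aux _ _)
      refine ⟨a, ?_, ?_⟩
      · show f.IsRoot a
        suffices ∀ n, f.eval a ≡ 0 [SMOD (I ^ n • ⊤ : Ideal R)] by exact IsHausdorff.haus' _ this
        intro n
        specialize ha n
        rw [← Ideal.one_eq_top, Ideal.smul_eq_mul, mul_one] at ha ⊢
        refine (ha.symm.eval f).trans ?_
        rw [SModEq.zero]
        exact Ideal.pow_le_pow_right le_self_add (hfcI _)
      · show a - a₀ ∈ I
        specialize ha (0 + 1)
        rw [hc, pow_one, ← Ideal.one_eq_top, Ideal.smul_eq_mul, mul_one, sub_eq_add_neg] at ha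
        rw [← SModEq.sub_mem, ← add_zero a₀]
        refine ha.symm.trans (SModEq.rfl.add ?_)
        rw [SModEq.zero, Ideal.neg_mem_iff]
        exact Ideal.mul_mem_right _ _ h₁

/-- Let A be a complete Noetherian local domain of Krull dimension 1 with maximal ideal m, P a
polynomial over A and α a root of P which is not a root of the derivative P'. Then for every c there
is an n such that for every polynomial Q all of whose coefficients lie in m^n, the polynomial P + Q
has a root β with β - α in m^c. -/
theorem result (A : Type u) [CommRing A] [IsDomain A] [IsLocalRing A] [IsNoetherianRing A]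
    [IsAdicComplete (IsLocalRing.maximalIdeal A) A] (hdim : ringKrullDim A = 1) (P : A[X]) (α : A)
    (hα : P.eval α = 0) (hα' : (derivative P).eval α ≠ 0) (c : ℕ) :
    ∃ n : ℕ, ∀ Q : A[X], (∀ i, Q.coeff i ∈ IsLocalRing.maximalIdeal A ^ n) →
      ∃ β : A, (P + Q).eval β = 0 ∧ β - α ∈ IsLocalRing.maximalIdeal A ^ c := by
  classical
  set e := (derivative P).eval α with he
  set 𝔪 := IsLocalRing.maximalIdeal A
  obtain ⟨r, hr⟩ : ∃ r, 𝔪 ^ r ≤ Ideal.span {e} := by
    refine Ideal.exists_pow_le_of_le_radical_of_fg ?_ (IsNoetherian.noetherian 𝔪)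
    rw [Ideal.radical_eq_sInf]
    refine le_sInf fun J hJ => ?_
    haveI := hJ.2
    have : Ring.KrullDimLE 1 A := Ring.krullDimLE_iff.2 (by rw [hdim]; rfl)
    have hJ0 : J ≠ ⊥ := fun hb => hα' (by
      have := hJ.1 (Ideal.mem_span_singleton_self e)
      rwa [hb, Ideal.mem_bot] at this)
    exact le_of_eq (IsLocalRing.eq_maximalIdeal
      (Ring.krullDimLE_one_iff_of_isPrime_bot.1 this J hJ0 hJ.2)).symm
  refine ⟨r + r + (c + 1), fun Q hQ => ?_⟩
  have hsq : ∀ x ∈ 𝔪 ^ (r + r + (c + 1)), ∃ y ∈ 𝔪 ^ (c + 1), x = e * e * y := by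
    intro x hx
    rw [pow_add, pow_add] at hx
    have := Ideal.mul_mono_left (Ideal.mul_mono hr hr) hx
    rw [Ideal.span_singleton_mul_span_singleton, Ideal.mem_span_singleton_mul] at this
    obtain ⟨y, hy, rfl⟩ := this
    exact ⟨y, hy, rfl⟩
  have heval : ∀ (G : A[X]) (N : ℕ), (∀ i, G.coeff i ∈ 𝔪 ^ N) → G.eval α ∈ 𝔪 ^ N := fun G N hG => by
    rw [eval_eq_sum_range]
    exact Ideal.sum_mem _ fun i _ => Ideal.mul_mem_right _ _ (hG i)
  obtain ⟨q, hq, hq'⟩ := hsq _ (heval Q _ hQ)
  obtain ⟨q₁, hq₁, hq₁'⟩ := hsq _ (heval (derivative Q) _ (fun i => by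
    rw [coeff_derivative]; exact Ideal.mul_mem_right _ _ (hQ _)))
  set T := taylor α (P + Q) with hT
  obtain ⟨U, hU⟩ : ∃ U : A[X], T = C (T.coeff 0) + C (T.coeff 1) * X + X ^ 2 * U := by
    refine ⟨T.divX.divX, ?_⟩
    conv_lhs => rw [← X_mul_divX_add T, ← X_mul_divX_add T.divX]
    rw [coeff_divX]; ring
  have hT0 : T.coeff 0 = e * e * q := by
    rw [hT, taylor_coeff_zero, eval_add, hα, zero_add, hq']
  have hT1 : T.coeff 1 = e * (1 + e * q₁) := by
    rw [hT, taylor_coeff_one, derivative_add, eval_add, hq₁']; ring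
  let H : A[X] := C q + C (1 + e * q₁) * X + X ^ 2 * U.comp (C e * X)
  have hpow : 𝔪 ^ (c + 1) ≤ 𝔪 := Ideal.pow_le_self (Nat.succ_ne_zero c)
  have hH0 : H.eval 0 ∈ 𝔪 := by simpa [H] using hpow hq
  have hH1 : IsUnit (Ideal.Quotient.mk 𝔪 ((derivative H).eval 0)) := by
    have : (derivative H).eval 0 = 1 + e * q₁ := by simp [H, derivative_mul]
    rw [this, map_add, map_one, map_mul, Ideal.Quotient.eq_zero_iff_mem.2 (hpow hq₁), mul_zero,
      add_zero]
    exact isUnit_one
  obtain ⟨t, ht, ht0⟩ := newton 𝔪 H 0 hH0 hH1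
  rw [sub_zero] at ht0
  have hHt : q + t * (1 + e * q₁ + t * U.eval (e * t)) = 0 := by
    have : H.eval t = 0 := ht
    simp only [H, eval_add, eval_mul, eval_C, eval_X, eval_pow, eval_comp] at this
    linear_combination this
  have hu : IsUnit (1 + e * q₁ + t * U.eval (e * t)) := by
    rw [add_assoc]
    refine IsLocalRing.notMem_maximalIdeal.1 fun hmem => ?_
    have h2 : e * q₁ + t * U.eval (e * t) ∈ 𝔪 :=
      Ideal.add_mem _ (Ideal.mul_mem_left _ _ (hpow hq₁)) (Ideal.mul_mem_right _ _ ht0)
    have := Ideal.sub_mem _ hmem h2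
    rw [add_sub_cancel_right] at this
    exact (Ideal.ne_top_iff_one _).1 (IsLocalRing.maximalIdeal.isMaximal A).ne_top this
  have htc : t ∈ 𝔪 ^ (c + 1) := by
    obtain ⟨u, hu⟩ := hu
    have : t = -q * ↑u⁻¹ := by
      rw [eq_comm, Units.mul_inv_eq_iff_eq_mul, hu]
      linear_combination -hHt
    rw [this]
    exact Ideal.mul_mem_right _ _ (Ideal.neg_mem_iff _ |>.2 hq)
  refine ⟨α + e * t, ?_, ?_⟩
  · rw [← taylor_eval_sub α, show α + e * t - α = e * t by ring, ← hT, hU]
    simp only [eval_add, eval_mul, eval_C, eval_X, eval_pow, hT0, hT1]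
    linear_combination (e * e) * hHt
  · rw [show α + e * t - α = e * t by ring]
    exact Ideal.mul_mem_left _ _ (Ideal.pow_le_pow_right (Nat.le_succ c) htc)

end Groth.Agent.S1965
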