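import Mathlib
import Groth.Statements.S19651
-- import your own Groth.Agent.* helpers here

set_option autoImplicit false
universe u v
open AbVar

namespace Groth.Agent.S19651

open Polynomial in
/-- Stated for an arbitrary invariant bilinear form, as the argument there allows. Let k be a field, V a
k-vector space with a bilinear form B and M a linear automorphism of V with B(Mx, My) = B(x, y) for
all x, y. If Q₁ and Q₂ are polynomials such that the reciprocal polynomial of Q₁ (its coefficient
list reversed) is coprime to Q₂, then every vector killed by a power of Q₁(M) is B-orthogonal to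
every vector killed by a power of Q₂(M). With Q₁ = Q₂ = Q this says that the generalized kernel of
Q(M) is totally isotropic whenever Q is coprime to its reciprocal polynomial, which for an
irreducible Q means that Q is not self-reciprocal. (The published statement takes M symplectic and
Q₁, Q₂ irreducible factors of the characteristic polynomial, with Q not self-reciprocal in the first
clause; its second clause asks Q₁ and Q₂ to be distinct and not reciprocal, which holds as proved
when this is read as saying that Q₂ is not the reciprocal of Q₁, but fails if it only means that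
neither is self-reciprocal, as the diagonal matrix with entries 2 and 1/2 preserving the standard
alternating form on k² shows; the coprimality of the reciprocal of Q₁ with Q₂, which is what the
published proof uses, is imposed here and covers both clauses.) -/
theorem result
    {k : Type u} [Field k] {V : Type v} [AddCommGroup V] [Module k V]
    (B : LinearMap.BilinForm k V) (M : V ≃ₗ[k] V)
    (hM : ∀ x y : V, B (M x) (M y) = B x y)
    (Q₁ Q₂ : k[X]) (h : IsCoprime Q₁.reverse Q₂)
    (x y : V)
    (hx : ∃ n : ℕ, (Polynomial.aeval (M : V →ₗ[k] V) Q₁ ^ n) x = 0)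
    (hy : ∃ n : ℕ, (Polynomial.aeval (M : V →ₗ[k] V) Q₂ ^ n) y = 0) :
    B x y = 0 := by
  classical
  obtain ⟨n, hn⟩ := hx
  obtain ⟨m, hm⟩ := hy
  set T : V →ₗ[k] V := (M : V →ₗ[k] V)
  have hpow : ∀ (i : ℕ) (u v : V), B ((T ^ i) u) ((T ^ i) v) = B u v := by
    intro i
    induction i with
    | zero => simp
    | succ i ih => intro u v; rw [pow_succ', Module.End.mul_apply, Module.End.mul_apply]; exact (hM _ _).trans (ih u v)
  set d := Q₁.natDegree
  have hid : ∀ u v : V, B (Polynomial.aeval T Q₁ u) ((T ^ d) v) = B u (Polynomial.aeval T Q₁.reverse v) := by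
    intro u v
    rw [Polynomial.aeval_eq_sum_range' (n := d + 1) (Nat.lt_succ_self _),
      Polynomial.aeval_eq_sum_range' (n := d + 1) (Nat.lt_succ_of_le (Polynomial.reverse_natDegree_le Q₁))]
    conv_rhs => rw [← Finset.sum_range_reflect]
    simp only [LinearMap.sum_apply, map_sum, LinearMap.smul_apply, map_smul]
    refine Finset.sum_congr rfl fun i hi => ?_
    have hi' : i ≤ d := Nat.lt_succ_iff.1 (Finset.mem_range.1 hi)
    rw [show d + 1 - 1 - i = d - i by omega, Polynomial.coeff_reverse, Polynomial.revAt_le (Nat.sub_le _ _),
      show d - (d - i) = i by omega]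
    congr 1
    rw [show (T ^ d) v = (T ^ i) ((T ^ (d - i)) v) by rw [← Module.End.mul_apply, ← pow_add, Nat.add_sub_cancel' hi']]
    exact hpow i u _
  have hidn : ∀ (j : ℕ) (u v : V), B ((Polynomial.aeval T Q₁ ^ j) u) ((T ^ (d * j)) v) = B u ((Polynomial.aeval T Q₁.reverse ^ j) v) := by
    intro j
    induction j with
    | zero => simp
    | succ j ih =>
      intro u v
      rw [pow_succ', Module.End.mul_apply, Nat.mul_succ, Nat.add_comm, pow_add, Module.End.mul_apply, hid,
        ← Module.End.mul_apply (Polynomial.aeval T Q₁.reverse)]
      have hc : Polynomial.aeval T Q₁.reverse * T ^ (d * j) = T ^ (d * j) * Polynomial.aeval T Q₁.reverse := by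
        rw [show T ^ (d * j) = Polynomial.aeval T (Polynomial.X ^ (d * j) : k[X]) by simp, ← map_mul, ← map_mul, mul_comm]
      rw [hc, Module.End.mul_apply, ih, ← Module.End.mul_apply, ← pow_succ]
  obtain ⟨s, t, hst⟩ := h.pow (m := n) (n := m)
  have hy1 : (Polynomial.aeval T Q₁.reverse ^ n) ((Polynomial.aeval T s) y) = y := by
    have h1 := congrArg (fun P => Polynomial.aeval T P y) hst
    simp only [map_add, map_mul, map_pow, map_one, LinearMap.add_apply, Module.End.mul_apply, Module.End.one_apply, hm, map_zero, add_zero] at h1
    rw [← Module.End.mul_apply, ← map_pow, ← map_mul, mul_comm, map_mul, map_pow, Module.End.mul_apply]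
    exact h1
  rw [← hy1, ← hidn, hn, map_zero, LinearMap.zero_apply]

end Groth.Agent.S19651
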