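import Groth.Statements.S19652
import Mathlib
-- import your own Groth.Agent.* helpers here

set_option autoImplicit false
universe u v
open AbVar

namespace Groth.Agent.S19652

open Polynomial in
/-- Stated for an arbitrary invariant nondegenerate bilinear form, as the argument there allows. Let k
be a field, V a finite-dimensional k-vector space with a nondegenerate bilinear form B and M a
linear automorphism of V with B(Mx, My) = B(x, y) for all x, y. If Q is a polynomial associated to
its own reciprocal polynomial (its coefficient list reversed), then B restricted to the generalized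
kernel of Q(M), the union of the kernels of the powers Q(M)^n, is nondegenerate. (The published
statement takes M symplectic and Q a self-reciprocal divisor of the characteristic polynomial;
divisibility plays no role and is not assumed.) -/
theorem result
    {k : Type u} [Field k] {V : Type v} [AddCommGroup V] [Module k V] [FiniteDimensional k V]
    (B : LinearMap.BilinForm k V) (hB : B.Nondegenerate) (M : V ≃ₗ[k] V)
    (hM : ∀ x y : V, B (M x) (M y) = B x y)
    (Q : k[X]) (hQ : Associated Q Q.reverse) :
    (B.restrict (⨆ n : ℕ, LinearMap.ker (Polynomial.aeval (M : V →ₗ[k] V) Q ^ n))).Nondegenerate := by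
  set T : Module.End k V := Polynomial.aeval (M : V →ₗ[k] V) Q with hT
  set n := Q.natDegree with hn
  obtain ⟨u, hu⟩ := hQ
  obtain ⟨c, hc, hcu⟩ := Polynomial.isUnit_iff.1 u.isUnit
  have hMpow : ∀ (i : ℕ) (x y : V), B (((M : V →ₗ[k] V) ^ i) x) (((M : V →ₗ[k] V) ^ i) y) = B x y := by
    intro i
    induction i with
    | zero => intro x y; simp
    | succ i ih => intro x y; simp only [pow_succ, Module.End.mul_apply]; rw [ih]; exact hM x y
  have hsym : ∀ x z : V, B (T x) (((M : V →ₗ[k] V) ^ n) z) = c * B x (T z) := by
    intro x z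
    have hrev : Polynomial.aeval (M : V →ₗ[k] V) Q.reverse = c • T := by
      rw [← hu, ← hcu, map_mul, Polynomial.aeval_C, ← Algebra.commutes, ← Algebra.smul_def]
    have : Polynomial.aeval (M : V →ₗ[k] V) Q.reverse =
        ∑ i ∈ Finset.range (n + 1), Q.coeff i • (M : V →ₗ[k] V) ^ (n - i) := by
      rw [Polynomial.aeval_eq_sum_range' (n := n + 1) (Nat.lt_succ_of_le Q.reverse_natDegree_le),
        ← Finset.sum_range_reflect]
      refine Finset.sum_congr rfl fun i hi => ?_
      rw [Finset.mem_range] at hi
      rw [Polynomial.coeff_reverse, Polynomial.revAt_le (by omega)]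
      congr 2; all_goals omega
    have h2 : c * B x (T z) = ∑ i ∈ Finset.range (n + 1), Q.coeff i * B x (((M : V →ₗ[k] V) ^ (n - i)) z) := by
      rw [← smul_eq_mul, ← map_smul, ← LinearMap.smul_apply, ← hrev, this, LinearMap.sum_apply, map_sum]
      simp
    rw [h2, hT, Polynomial.aeval_eq_sum_range, LinearMap.sum_apply, map_sum, LinearMap.sum_apply]
    refine Finset.sum_congr rfl fun i hi => ?_
    rw [Finset.mem_range] at hi
    rw [LinearMap.smul_apply, map_smul, LinearMap.smul_apply, smul_eq_mul]
    congr 1
    conv_lhs => rw [show n = i + (n - i) by omega, pow_add, Module.End.mul_apply, hMpow]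
  by_cases hQ0 : c = 0
  · exact absurd hQ0 hc.ne_zero
  have hiter : ∀ (N : ℕ) (x z : V), B ((T ^ N) x) ((((M : V →ₗ[k] V) ^ n) ^ N) z) = c ^ N * B x ((T ^ N) z) := by
    intro N
    induction N with
    | zero => intro x z; simp
    | succ N ih =>
      intro x z
      have hcomm : Commute (((M : V →ₗ[k] V) ^ n) ^ N) T := by
        rw [hT, ← pow_mul, ← Polynomial.aeval_X (R := k) (M : V →ₗ[k] V), ← map_pow, Polynomial.aeval_X]
        exact ((Commute.all ((Polynomial.X : k[X]) ^ (n * N)) Q).map (Polynomial.aeval (M : V →ₗ[k] V)))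
      rw [pow_succ', pow_succ', Module.End.mul_apply, Module.End.mul_apply, hsym,
        ← Module.End.mul_apply T, ← hcomm.eq, Module.End.mul_apply, ih, pow_succ' c, mul_assoc,
        ← Module.End.mul_apply, ← pow_succ, pow_succ']
  have horth : ∀ (N : ℕ) (x : V), (T ^ N) x = 0 → ∀ z, B x ((T ^ N) z) = 0 := by
    intro N x hx z
    have := hiter N x z
    rw [hx, map_zero, LinearMap.zero_apply] at this
    exact (mul_eq_zero.1 this.symm).resolve_left (pow_ne_zero _ hQ0)
  set K := ⨆ n : ℕ, LinearMap.ker (T ^ n)
  have hc' := LinearMap.isCompl_iSup_ker_pow_iInf_range_pow T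
  have horthK : ∀ x ∈ K, ∀ y ∈ ⨅ n : ℕ, LinearMap.range (T ^ n), B x y = 0 := by
    intro x hx y hy
    have hdir : Directed (· ≤ ·) fun n : ℕ => LinearMap.ker (T ^ n) :=
      (monotone_nat_of_le_succ fun i => fun v hv => by
        rw [LinearMap.mem_ker] at hv ⊢
        rw [pow_succ', Module.End.mul_apply, hv, map_zero]).directed_le
    obtain ⟨N, hN⟩ := (Submodule.mem_iSup_of_directed _ hdir).1 hx
    obtain ⟨z, rfl⟩ := (Submodule.mem_iInf _).1 hy N
    exact horth N x hN z
  have hsl : (B.restrict K).SeparatingLeft := by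
    intro x hx
    refine Subtype.ext (hB.1 _ fun v => ?_)
    obtain ⟨a, ha, b, hb, rfl⟩ := Submodule.mem_sup.1 (hc'.sup_eq_top ▸ Submodule.mem_top (x := v))
    rw [map_add, horthK x.1 x.2 b hb, add_zero]
    exact hx ⟨a, ha⟩
  exact LinearMap.BilinForm.Nondegenerate.ofSeparatingLeft hsl

end Groth.Agent.S19652
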