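import Groth.Statements.S1966
import Groth.Agent.HenselLib.Ops
import Mathlib
-- import your own Groth.Agent.* helpers here

set_option autoImplicit false
universe u
open EtAlg

namespace Groth.Agent.S1966

/-- Towers indexed by the natural numbers: let (A_k) be rings with surjective transition maps A_{k+1} ->
A_k whose kernels consist of nilpotent elements, and let A be a ring with compatible projections p_k
: A -> A_k identifying A with the set of compatible sequences (p is jointly injective and every
compatible sequence comes from an element of A). Then for every k the pair (A, ker p_k) is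
henselian. -/
theorem result (A : Type u) [CommRing A] (As : ℕ → Type u) [∀ k, CommRing (As k)]
    (t : ∀ k, As (k + 1) →+* As k) (ht : ∀ k, Function.Surjective (t k))
    (hnil : ∀ k (x : As (k + 1)), t k x = 0 → IsNilpotent x)
    (p : ∀ k, A →+* As k) (hp : ∀ k, (t k).comp (p (k + 1)) = p k)
    (hinj : ∀ a b : A, (∀ k, p k a = p k b) → a = b)
    (hsurj : ∀ x : ∀ k, As k, (∀ k, t k (x (k + 1)) = x k) → ∃ a : A, ∀ k, p k a = x k) (k : ℕ) :
    HenselianRing A (RingHom.ker (p k)) := by
  have hnilp : ∀ x ∈ RingHom.ker (p k), ∀ j, IsNilpotent (p j x) := by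
    intro x hx j
    induction j with
    | zero =>
      have : ∀ i, p i x = 0 → p 0 x = 0 := fun i => by
        induction i with
        | zero => exact id
        | succ i ih => intro h; exact ih (by rw [← hp i, RingHom.comp_apply, h, map_zero])
      rw [this k hx]; exact IsNilpotent.zero
    | succ j ih =>
      obtain ⟨n, hn⟩ := ih
      rw [← hp j, RingHom.comp_apply, ← map_pow] at hn
      exact IsNilpotent.of_pow (hnil j _ hn)
  refine ⟨fun x hx => Ideal.mem_jacobson_bot.2 fun y => ?_, fun f hf a₀ h₁ h₂ => ?_⟩
  · have hu : ∀ j, IsUnit (p j (x * y + 1)) := fun j => by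
      rw [map_add, map_one]
      exact ((hnilp (x * y) (Ideal.mul_mem_right _ _ hx) j)).isUnit_add_one
    choose v hv using fun j => (hu j).exists_right_inv
    obtain ⟨w, hw⟩ := hsurj v fun j => by
      refine (hu j).mul_left_cancel ?_
      rw [hv j, ← hp j, RingHom.comp_apply, ← map_mul, hv (j + 1), map_one]
    exact IsUnit.of_mul_eq_one w (hinj _ _ fun j => by rw [map_mul, hw, hv, map_one])
  · let N : ∀ j, Ideal (As j) := fun j => (RingHom.ker (p k)).map (p j)
    have hN : ∀ j, ∀ y ∈ N j, IsNilpotent y := fun j y hy => by
      have : N j ≤ nilradical (As j) :=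
        Ideal.map_le_iff_le_comap.2 fun x hx => mem_nilradical.2 (hnilp x hx j)
      exact mem_nilradical.1 (this hy)
    have hex : ∀ j, ∃ c : As j, (f.map (p j)).IsRoot c ∧ c - p j a₀ ∈ N j := fun j => by
      haveI := Groth.Agent.HenselLib.henselianRing_of_nil (hN j)
      refine HenselianRing.is_henselian (f.map (p j)) (hf.map _) (p j a₀) ?_ ?_
      · rw [Polynomial.eval_map, Polynomial.eval₂_hom]
        exact Ideal.mem_map_of_mem _ h₁
      · have h3 := h₂.map (Ideal.quotientMap (N j) (p j) Ideal.le_comap_map)
        rwa [Ideal.quotientMap_mk, ← Polynomial.eval₂_hom, ← Polynomial.eval_map,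
          ← Polynomial.derivative_map] at h3
    choose c hc hcN using hex
    have hcomp : ∀ j, t j (c (j + 1)) = c j := by
      intro j
      have hr : (f.map (p j)).IsRoot (t j (c (j + 1))) := by
        rw [Polynomial.IsRoot, ← hp j, ← Polynomial.map_map, Polynomial.eval_map,
          Polynomial.eval₂_hom, (hc (j + 1)).eq_zero, map_zero]
      have hd : t j (c (j + 1)) - c j ∈ N j := by
        have h3 : t j (c (j + 1)) - p j a₀ ∈ N j := by
          rw [← hp j, RingHom.comp_apply, ← map_sub]
          have := Ideal.mem_map_of_mem (t j) (hcN (j + 1))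
          rw [Ideal.map_map, hp j] at this
          exact this
        have := sub_mem h3 (hcN j)
        rwa [sub_sub_sub_cancel_right] at this
      haveI := Groth.Agent.HenselLib.henselianRing_of_nil (hN j)
      have hu : IsUnit ((f.map (p j)).derivative.eval (c j)) := by
        have h3 := h₂.map (Ideal.quotientMap (N j) (p j) Ideal.le_comap_map)
        rw [Ideal.quotientMap_mk, ← Polynomial.eval₂_hom, ← Polynomial.eval_map,
          ← Polynomial.derivative_map] at h3
        have e : Ideal.Quotient.mk (N j) ((f.map (p j)).derivative.eval (p j a₀)) =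
            Ideal.Quotient.mk (N j) ((f.map (p j)).derivative.eval (c j)) := by
          rw [Ideal.Quotient.eq]
          exact Ideal.mem_of_dvd _ (Polynomial.sub_dvd_eval_sub _ _ _)
            (by rw [← neg_sub]; exact neg_mem (hcN j))
        rw [e] at h3
        haveI := isLocalHom_of_le_jacobson_bot (N j) HenselianRing.jac
        exact (isUnit_map_iff _ _).1 h3
      obtain ⟨q, hq⟩ := Polynomial.binomExpansion (f.map (p j)) (c j) (t j (c (j + 1)) - c j)
      rw [add_sub_cancel, hr.eq_zero, (hc j).eq_zero, zero_add] at hq
      have hz : (t j (c (j + 1)) - c j) * ((f.map (p j)).derivative.eval (c j) +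
          q * (t j (c (j + 1)) - c j)) = 0 := by linear_combination -hq
      refine sub_eq_zero.1 ((IsUnit.mul_left_eq_zero ?_).1 hz)
      exact IsNilpotent.isUnit_add_left_of_commute
        ((Commute.all _ _).isNilpotent_mul_left (hN j _ hd)) hu (Commute.all _ _)
    obtain ⟨a, ha⟩ := hsurj c hcomp
    refine ⟨a, hinj _ _ fun j => ?_, ?_⟩
    · rw [map_zero, ← Polynomial.eval₂_hom, ← Polynomial.eval_map, ha j]
      exact (hc j).eq_zero
    · have h3 := hcN k
      rw [← ha k, ← map_sub] at h3
      have h4 : N k = ⊥ := eq_bot_iff.2 (Ideal.map_le_iff_le_comap.2 fun x hx => hx)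
      rw [h4, Ideal.mem_bot] at h3
      exact h3

end Groth.Agent.S1966
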