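import Groth.Statements.S19660
import Mathlib
-- import your own Groth.Agent.* helpers here

set_option autoImplicit false
universe u v
open AbVar

namespace Groth.Agent.S19660

/-- The text applies this to the Frobenius acting on the points of prime order of a principally
polarised abelian variety over a finite field with q elements and to their Weil pairing. Let k be a
field, V a finite-dimensional k-vector space with a nondegenerate bilinear form B, q a nonzero
element of k and M a linear automorphism of V with B(Mx, My) = q·B(x, y) for all x, y. Write V₁ and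
V_q for the generalized eigenspaces of M at 1 and at q. Then every vector of V₁ that is B-orthogonal
to all of V_q is zero, every vector of V_q that is B-orthogonal (on the right) to all of V₁ is zero,
and when q ≠ 1 the form B vanishes identically on V₁ × V₁ and on V_q × V_q. (The text asserts this
as the evident adaptation, to a form scaled by q, of the orthogonality and nondegeneracy facts for
generalized kernels of an automorphism preserving a form; the abstract statement is recorded here,
the application to the Weil pairing needing that pairing's formalism.) -/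
theorem result
    {k : Type u} [Field k] {V : Type v} [AddCommGroup V] [Module k V] [FiniteDimensional k V]
    (B : LinearMap.BilinForm k V) (hB : B.Nondegenerate) (q : k) (hq : q ≠ 0)
    (M : V ≃ₗ[k] V) (hM : ∀ x y : V, B (M x) (M y) = q * B x y) :
    (∀ x ∈ Module.End.maxGenEigenspace (M : Module.End k V) 1,
        (∀ y ∈ Module.End.maxGenEigenspace (M : Module.End k V) q, B x y = 0) → x = 0) ∧
      (∀ y ∈ Module.End.maxGenEigenspace (M : Module.End k V) q,
        (∀ x ∈ Module.End.maxGenEigenspace (M : Module.End k V) 1, B x y = 0) → y = 0) ∧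
      (q ≠ 1 → ∀ x ∈ Module.End.maxGenEigenspace (M : Module.End k V) 1,
        ∀ x' ∈ Module.End.maxGenEigenspace (M : Module.End k V) 1, B x x' = 0) ∧
      (q ≠ 1 → ∀ y ∈ Module.End.maxGenEigenspace (M : Module.End k V) q,
        ∀ y' ∈ Module.End.maxGenEigenspace (M : Module.End k V) q, B y y' = 0) := by
  let f : Module.End k V := (M : Module.End k V)
  let P : k → ℕ → Module.End k V := fun a N => (f - a • 1) ^ N
  have hstep : ∀ x z, B ((f - (1 : k) • 1) x) (f z) = -B x ((f - q • 1) z) := by
    intro x z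
    simp only [LinearMap.sub_apply, LinearMap.smul_apply, Module.End.one_apply, one_smul, map_sub, map_smul, smul_eq_mul]
    rw [show B (f x) (f z) = q * B x z from hM x z]
    ring
  have hcomm : ∀ (a : k) (N i : ℕ), Commute (f ^ i) (P a N) := fun a N i =>
    (((Commute.refl f).sub_right ((Commute.one_right f).smul_right a)).pow_pow i N)
  have hiter : ∀ (N : ℕ) (x z : V), B ((P 1 N) x) ((f ^ N) z) = (-1) ^ N * B x ((P q N) z) := by
    intro N
    induction N with
    | zero => intro x z; simp [P]
    | succ N ih =>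
      intro x z
      have h2 : (f ^ N) ((f - q • 1) z) = (f - q • 1) ((f ^ N) z) := by
        have := hcomm q 1 N
        simp only [P, pow_one] at this
        exact LinearMap.congr_fun this.eq z
      simp only [P, pow_succ' (f - (1 : k) • 1), pow_succ' f, Module.End.mul_apply]
      rw [hstep, show (f - (1 : k) • 1) ^ N = P 1 N from rfl, ← h2, ih, pow_succ (-1 : k), pow_succ (f - q • 1), Module.End.mul_apply]
      ring
  have hK : ∀ (a : k) (x : V), x ∈ Module.End.maxGenEigenspace f a ↔ ∃ N, (P a N) x = 0 := fun a x => Module.End.mem_maxGenEigenspace f a x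
  have hmono : ∀ (a : k) (N N' : ℕ) (x : V), N ≤ N' → (P a N) x = 0 → (P a N') x = 0 := by
    intro a N N' x h hx
    obtain ⟨d, rfl⟩ := Nat.exists_eq_add_of_le h
    simp only [P] at hx ⊢
    rw [add_comm, pow_add, Module.End.mul_apply, hx, map_zero]
  have horth1 : ∀ x ∈ Module.End.maxGenEigenspace f 1, ∀ N, (P 1 N) x = 0 → ∀ z, B x ((P q N) z) = 0 := by
    intro x _ N hx z
    have := hiter N x z
    rw [hx, map_zero, LinearMap.zero_apply] at this
    exact (mul_eq_zero.1 this.symm).resolve_left (pow_ne_zero _ (neg_ne_zero.2 one_ne_zero))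
  have horthq : ∀ (y : V) (N : ℕ), (P q N) y = 0 → ∀ z, B ((P 1 N) z) y = 0 := by
    intro y N hy z
    have hfs : Function.Bijective (f ^ N) := by
      rw [Module.End.coe_pow]; exact M.bijective.iterate N
    obtain ⟨y', rfl⟩ := hfs.2 y
    have h' : (P q N) y' = 0 := hfs.1 (by rw [map_zero, ← Module.End.mul_apply, (hcomm q N N).eq, Module.End.mul_apply, hy])
    rw [hiter, h', map_zero, mul_zero]
  have hfit : ∀ a : k, ∃ N₀, ∀ N, N₀ ≤ N → ∀ v : V, ∃ u z, (P a N) u = 0 ∧ v = u + (P a N) z := by
    intro a
    obtain ⟨N₀, h⟩ := Filter.eventually_atTop.1 (f - a • 1).eventually_isCompl_ker_pow_range_pow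
    refine ⟨N₀, fun N hN v => ?_⟩
    obtain ⟨u, hu, w, ⟨z, rfl⟩, rfl⟩ := Submodule.mem_sup.1 ((h N hN).sup_eq_top ▸ Submodule.mem_top (x := v))
    exact ⟨u, z, hu, rfl⟩
  have hrange : ∀ a b : k, a ≠ b → ∀ (x : V) (N : ℕ), (P a N) x = 0 → ∃ z, x = (P b N) z := by
    intro a b hab x N hx
    obtain ⟨u, v, huv⟩ := ((Polynomial.isCoprime_X_sub_C_of_isUnit_sub (sub_ne_zero.2 hab).isUnit).pow (m := N) (n := N))
    refine ⟨Polynomial.aeval f v x, ?_⟩
    have := congrArg (fun p => Polynomial.aeval f p x) huv
    have hP : ∀ c : k, Polynomial.aeval f ((Polynomial.X - Polynomial.C c) ^ N) = P c N := fun c => by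
      simp [P, Algebra.algebraMap_eq_smul_one]
    simp only [map_add, map_one, LinearMap.add_apply, Module.End.one_apply] at this
    rw [map_mul, mul_comm v, map_mul, hP, hP, Module.End.mul_apply, hx, map_zero, zero_add, Module.End.mul_apply] at this
    exact this.symm
  refine ⟨?_, ?_, ?_, ?_⟩
  · intro x hx h
    obtain ⟨N₁, hx₁⟩ := (hK 1 x).1 hx
    obtain ⟨N₀, h₀⟩ := hfit q
    refine hB.1 x fun v => ?_
    obtain ⟨u, z, hu, rfl⟩ := h₀ (max N₀ N₁) (le_max_left _ _) v
    rw [map_add, h u ((hK q u).2 ⟨_, hu⟩), horth1 x hx _ (hmono 1 _ _ x (le_max_right _ _) hx₁), add_zero]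
  · intro y hy h
    obtain ⟨N₁, hy₁⟩ := (hK q y).1 hy
    obtain ⟨N₀, h₀⟩ := hfit 1
    refine hB.2 y fun v => ?_
    obtain ⟨u, z, hu, rfl⟩ := h₀ (max N₀ N₁) (le_max_left _ _) v
    rw [map_add, LinearMap.add_apply, h u ((hK 1 u).2 ⟨_, hu⟩), horthq y _ (hmono q _ _ y (le_max_right _ _) hy₁), add_zero]
  · intro hq1 x hx x' hx'
    obtain ⟨N, hN⟩ := (hK 1 x).1 hx
    obtain ⟨N', hN'⟩ := (hK 1 x').1 hx'
    obtain ⟨z, rfl⟩ := hrange 1 q (Ne.symm hq1) x' (max N N') (hmono 1 _ _ x' (le_max_right _ _) hN')
    exact horth1 x hx _ (hmono 1 _ _ x (le_max_left _ _) hN) z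
  · intro hq1 y hy y' hy'
    obtain ⟨N, hN⟩ := (hK q y).1 hy
    obtain ⟨N', hN'⟩ := (hK q y').1 hy'
    obtain ⟨z, rfl⟩ := hrange q 1 hq1 y (max N N') (hmono q _ _ y (le_max_left _ _) hN)
    exact horthq y' _ (hmono q _ _ y' (le_max_right _ _) hN') z

end Groth.Agent.S19660
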