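import Groth.Statements.S1967
import Groth.Agent.WEtaleVal.Product

set_option autoImplicit false
set_option linter.style.haveILetI false
universe u
open TensorProduct
open EtAlg

namespace Groth.Agent.S1967

/-- If A is an integrally closed domain with fraction field K and B is weakly etale over A, then every
element of B ⊗_A K that is integral over B (via b ↦ b ⊗ 1) already comes from B. -/
theorem result (A : Type u) [CommRing A] [IsDomain A] [IsIntegrallyClosed A]
    (K : Type u) [Field K] [Algebra A K] [IsFractionRing A K] (B : Type u) [CommRing B] [Algebra A B]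
    [Algebra.WeaklyEtale A B] :
    IsIntegrallyClosedIn B (B ⊗[A] K) := by
  classical
  let ι := {W : ValuationSubring K // ∀ a, algebraMap A K a ∈ W}
  letI algW : ∀ i : ι, Algebra A i.1 := fun i =>
    ((algebraMap A K).codRestrict i.1.toSubring i.2).toAlgebra
  let D := ∀ i : ι, i.1
  let jD : D →ₐ[A] (ι → K) :=
    { toFun := fun d i => (d i : K)
      map_one' := rfl
      map_mul' := fun _ _ => rfl
      map_zero' := rfl
      map_add' := fun _ _ => rfl
      commutes' := fun _ => rfl }
  let jK : K →ₐ[A] (ι → K) :=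
    { toFun := fun k _ => k
      map_one' := rfl
      map_mul' := fun _ _ => rfl
      map_zero' := rfl
      map_add' := fun _ _ => rfl
      commutes' := fun _ => rfl }
  let g : K →ₗ[A] (ι → K) ⧸ LinearMap.range jD.toLinearMap :=
    (Submodule.mkQ _).comp jK.toLinearMap
  -- A is the intersection of the valuation rings containing it
  have hex : Function.Exact (Algebra.linearMap A K) g := by
    intro x
    refine ⟨fun hx => ?_, ?_⟩
    · obtain ⟨d, hd⟩ := (Submodule.Quotient.mk_eq_zero _).1 hx
      haveI : IsIntegrallyClosedIn (algebraMap A K).range K := by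
        rw [Subring.isIntegrallyClosedIn_iff]
        rintro y ⟨P, hP, hy⟩
        obtain ⟨Q, hQ, -, hQm⟩ := Polynomial.lifts_and_degree_eq_and_monic
          ((Polynomial.map_surjective _ (algebraMap A K).rangeRestrict_surjective) P) hP
        have : IsIntegral A y := ⟨Q, hQm, by rw [← hQ, Polynomial.eval₂_map] at hy; exact hy⟩
        obtain ⟨a, ha⟩ := IsIntegrallyClosed.isIntegral_iff.1 this
        exact ⟨a, ha⟩
      by_contra hne
      obtain ⟨W, hW, hxW⟩ := Subring.exists_le_valuationSubring_of_isIntegrallyClosedIn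
        (R := (algebraMap A K).range) (x := x) (by rintro ⟨a, ha⟩; exact hne ⟨a, ha⟩)
      have h := congrFun hd ⟨W, fun a => hW ⟨a, rfl⟩⟩
      change ((d ⟨W, fun a => hW ⟨a, rfl⟩⟩ : W) : K) = x at h
      exact hxW (h ▸ SetLike.coe_mem _)
    · rintro ⟨a, rfl⟩
      refine (Submodule.Quotient.mk_eq_zero _).2 ⟨algebraMap A D a, ?_⟩
      exact funext fun _ => rfl
  rw [isIntegrallyClosedIn_iff]
  refine ⟨Algebra.TensorProduct.includeLeft_injective (S := A) (IsFractionRing.injective A K), fun {x} hx => ?_⟩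
  let ΨD : D ⊗[A] B →ₐ[A] (ι → K) ⊗[A] B := Algebra.TensorProduct.map jD (AlgHom.id A B)
  let Φ : B ⊗[A] K →ₐ[A] (ι → K) ⊗[A] B := (Algebra.TensorProduct.map jK (AlgHom.id A B)).comp
    (Algebra.TensorProduct.comm A B K).toAlgHom
  have hΨD : Function.Injective ΨD :=
    Module.Flat.rTensor_preserves_injective_linearMap (M := B) jD.toLinearMap
      (fun d e h => funext fun i => Subtype.ext (congrFun h i))
  have halg : ∀ s : D, algebraMap D (D ⊗[A] B) s = s ⊗ₜ[A] (1 : B) := fun _ => rfl
  -- denominators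
  have hden : ∀ y : (ι → K) ⊗[A] B, ∃ (s : D) (c : D ⊗[A] B),
      (∀ i, s i ≠ 0) ∧ ΨD (algebraMap D _ s) * y = ΨD c := by
    intro y
    induction y with
    | zero => exact ⟨1, 0, fun i => one_ne_zero, by simp⟩
    | tmul l b =>
      let s : D := fun i => if h : l i ∈ i.1 then 1 else ⟨(l i)⁻¹, (i.1.mem_or_inv_mem _).resolve_left h⟩
      let d : D := fun i => if h : l i ∈ i.1 then ⟨l i, h⟩ else 1
      refine ⟨s, d ⊗ₜ b, fun i => ?_, ?_⟩
      · simp only [s]
        split_ifs with h
        · exact one_ne_zero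
        · intro h0
          have h1 : (l i)⁻¹ = 0 := congrArg Subtype.val h0
          exact h (by rw [inv_eq_zero.1 h1]; exact i.1.zero_mem)
      · simp only [ΨD, halg, Algebra.TensorProduct.map_tmul, AlgHom.id_apply,
          Algebra.TensorProduct.tmul_mul_tmul, one_mul]
        congr 1
        funext i
        show ((s i : i.1) : K) * l i = (d i : K)
        simp only [s, d]
        split_ifs with h
        · simp
        · have : l i ≠ 0 := fun h0 => h (by rw [h0]; exact i.1.zero_mem)
          simp [inv_mul_cancel₀ this]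
    | add y₁ y₂ h₁ h₂ =>
      obtain ⟨s₁, c₁, hs₁, e₁⟩ := h₁
      obtain ⟨s₂, c₂, hs₂, e₂⟩ := h₂
      refine ⟨s₁ * s₂, algebraMap D _ s₂ * c₁ + algebraMap D _ s₁ * c₂,
        fun i => mul_ne_zero (hs₁ i) (hs₂ i), ?_⟩
      rw [map_mul, map_mul, map_add, map_mul, map_mul, ← e₁, ← e₂]
      ring
  obtain ⟨s, c, hs, hc⟩ := hden (Φ x)
  obtain ⟨P, hP, hPx⟩ := hx
  let iB : B →+* D ⊗[A] B := (Algebra.TensorProduct.includeRight : B →ₐ[A] D ⊗[A] B).toRingHom
  have hroot : ((P.map iB).scaleRoots (algebraMap D _ s)).eval c = 0 := by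
    apply hΨD
    have hcomp : ΨD.toRingHom.comp iB = Φ.toRingHom.comp (algebraMap B (B ⊗[A] K)) :=
      RingHom.ext fun b => by
        simp [ΨD, Φ, iB, Algebra.TensorProduct.algebraMap_apply]
    have h1 : Polynomial.eval₂ ΨD.toRingHom (Φ x) (P.map iB) = 0 := by
      rw [Polynomial.eval₂_map, hcomp]
      exact (Polynomial.hom_eval₂ P _ Φ.toRingHom x).symm.trans ((congrArg Φ hPx).trans (map_zero Φ))
    have h2 := Polynomial.scaleRoots_eval₂_eq_zero ΨD.toRingHom (s := algebraMap D _ s) h1
    rw [map_zero]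
    refine Eq.trans (Polynomial.eval₂_at_apply ΨD.toRingHom c).symm ?_
    rw [show ΨD.toRingHom c = ΨD.toRingHom (algebraMap D _ s) * Φ x from hc.symm]
    exact h2
  obtain ⟨e, he⟩ := Groth.Agent.WEtaleVal.dvd_of_scaleRoots (fun i : ι => i.1) s hs c (P.map iB)
    (hP.map _) hroot
  -- hence `Φ x` comes from `D ⊗ B`
  have hxe : Φ x = ΨD e := by
    have hu : IsUnit (ΨD (algebraMap D _ s)) := by
      have hsu : IsUnit (jD s) := Pi.isUnit_iff.2 fun i => IsUnit.mk0 _ fun h => hs i (Subtype.ext h)
      have := hsu.map (Algebra.TensorProduct.includeLeft : (ι → K) →ₐ[A] (ι → K) ⊗[A] B)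
      simpa [ΨD, halg] using this
    exact hu.mul_left_cancel (by rw [hc, he, map_mul])
  have hx0 : g.rTensor B (TensorProduct.comm A B K x) = 0 := by
    rw [LinearMap.rTensor_comp_apply]
    rw [show jK.toLinearMap.rTensor B (TensorProduct.comm A B K x) = jD.toLinearMap.rTensor B e from hxe]
    rw [← LinearMap.rTensor_comp_apply, show (Submodule.mkQ (LinearMap.range jD.toLinearMap)).comp jD.toLinearMap = 0 from
      LinearMap.ext fun d => (Submodule.Quotient.mk_eq_zero _).2 ⟨d, rfl⟩]
    simp
  obtain ⟨w, hw⟩ := (Module.Flat.rTensor_exact B hex _).1 hx0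
  refine ⟨TensorProduct.lid A B w, (TensorProduct.comm A B K).injective ?_⟩
  rw [← hw, Algebra.TensorProduct.algebraMap_apply]
  clear hw
  induction w with
  | zero => simp
  | tmul a b =>
    simp [TensorProduct.smul_tmul', TensorProduct.tmul_smul, Algebra.algebraMap_eq_smul_one]
  | add w₁ w₂ h₁ h₂ => simp only [map_add, TensorProduct.add_tmul, ← h₁, ← h₂]

end Groth.Agent.S1967
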