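import Groth.Statements.S19686
import Groth.Agent.AbRigid.Basic
import Groth.Agent.BiextVanish.Basic

set_option autoImplicit false
universe u
open CategoryTheory CategoryTheory.Limits MonoidalCategory CartesianMonoidalCategory MonObj AlgebraicGeometry
open AbSch

namespace Groth.Agent.S19686

section Site

open Opposite

variable {C : Type (u + 1)} [Category.{u} C] {J : GrothendieckTopology C}
  {P Q G : Sheaf J AddCommGrpCat.{u + 1}} {B : Biext J P Q G} (f : Biext.Hom J B B)

theorem exists_delta (T : C) (x : B.E.obj.obj (op T)) : ∃! g : G.obj.obj (op T), B.act T g x = f.map T x :=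
  B.existsUnique_act T x (f.map T x) (f.πP_map T x).symm (f.πQ_map T x).symm

noncomputable def delta (T : C) (x : B.E.obj.obj (op T)) : G.obj.obj (op T) := (exists_delta f T x).choose

theorem act_delta (T : C) (x : B.E.obj.obj (op T)) : B.act T (delta f T x) x = f.map T x :=
  (exists_delta f T x).choose_spec.1

theorem delta_eq (T : C) (x : B.E.obj.obj (op T)) {g : G.obj.obj (op T)} (h : B.act T g x = f.map T x) :
    delta f T x = g := ((exists_delta f T x).choose_spec.2 g h).symm

theorem delta_congr (T : C) (x y : B.E.obj.obj (op T)) (hP : B.πP T x = B.πP T y) (hQ : B.πQ T x = B.πQ T y) :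
    delta f T x = delta f T y := by
  obtain ⟨a, ha, -⟩ := B.existsUnique_act T x y hP hQ
  refine (delta_eq f T y ?_).symm
  rw [← ha, f.map_act, ← act_delta f T x, ← B.add_act, ← B.add_act, add_comm]
  rfl

theorem delta_map {T T' : C} (h : T' ⟶ T) (x : B.E.obj.obj (op T)) :
    delta f T' (B.E.obj.map h.op x) = G.obj.map h.op (delta f T x) :=
  delta_eq f T' _ (by rw [← B.act_map, act_delta, f.map_res])

theorem delta_add₁ (T : C) (x : B.E.obj.obj (op T)) :
    delta f T (B.add₁ T x x rfl) = delta f T x + delta f T x := by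
  refine delta_eq f T _ ?_
  rw [f.map_add₁, B.add_act, ← B.add₁_act, B.add₁_comm, ← B.add₁_act]
  simp only [act_delta]

theorem delta_add₂ (T : C) (x : B.E.obj.obj (op T)) :
    delta f T (B.add₂ T x x rfl) = delta f T x + delta f T x := by
  refine delta_eq f T _ ?_
  rw [f.map_add₂, B.add_act, ← B.add₂_act, B.add₂_comm, ← B.add₂_act]
  simp only [act_delta]

theorem delta_eq_zero_left (T : C) (x : B.E.obj.obj (op T)) (h : B.πP T x = 0) : delta f T x = 0 := by
  have e := delta_add₁ f T x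
  rw [delta_congr f T (B.add₁ T x x rfl) x (by rw [B.πP_add₁, h, add_zero]) (B.πQ_add₁ T x x rfl)] at e
  simpa using e

theorem delta_eq_zero_right (T : C) (x : B.E.obj.obj (op T)) (h : B.πQ T x = 0) : delta f T x = 0 := by
  have e := delta_add₂ f T x
  rw [delta_congr f T (B.add₂ T x x rfl) x (B.πP_add₂ T x x rfl) (by rw [B.πQ_add₂, h, add_zero])] at e
  simpa using e

/-- The difference of an endomorphism and the identity at a pair of sections. -/
theorem exists_delta_section (U : C) (p : P.obj.obj (op U)) (q : Q.obj.obj (op U)) :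
    ∃ g : G.obj.obj (op U), ∀ ⦃V : C⦄ (h : V ⟶ U) (x : B.E.obj.obj (op V)),
      B.πP V x = P.obj.map h.op p → B.πQ V x = Q.obj.map h.op q → delta f V x = G.obj.map h.op g := by
  obtain ⟨R, hR, hex⟩ := B.locallySurjective U p q
  obtain ⟨g, S, hS, hg⟩ := Groth.Agent.BiextVanish.glue' G
    (fun V h g => ∃ x : B.E.obj.obj (op V), B.πP V x = P.obj.map h.op p ∧ B.πQ V x = Q.obj.map h.op q ∧
      delta f V x = g)
    (fun V W h k g => by
      rintro ⟨x, hP, hQ, rfl⟩
      exact ⟨B.E.obj.map k.op x, by rw [B.πP_map, hP, Groth.Agent.BiextVanish.map_comp'],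
        by rw [B.πQ_map, hQ, Groth.Agent.BiextVanish.map_comp'], delta_map f k x⟩)
    (fun V h g g' => by
      rintro ⟨x, hP, hQ, rfl⟩ ⟨y, hP', hQ', rfl⟩
      exact delta_congr f V x y (hP.trans hP'.symm) (hQ.trans hQ'.symm))
    ⟨R, hR, fun V h hh => by obtain ⟨x, hP, hQ⟩ := hex h hh; exact ⟨_, x, hP, hQ, rfl⟩⟩
  refine ⟨g, fun V h x hP hQ => ?_⟩
  refine Groth.Agent.BiextVanish.eq_of_local' G (J.pullback_stable h hS) fun W k hk => ?_
  obtain ⟨y, hP', hQ', hy⟩ := hg (k ≫ h) hk
  rw [← delta_map, ← Groth.Agent.BiextVanish.map_comp', ← hy]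
  exact delta_congr f W _ _ (by rw [hP', B.πP_map, hP, Groth.Agent.BiextVanish.map_comp'])
    (by rw [hQ', B.πQ_map, hQ, Groth.Agent.BiextVanish.map_comp'])

theorem section_eq_zero (U : C) (p : P.obj.obj (op U)) (q : Q.obj.obj (op U)) (g : G.obj.obj (op U))
    (hg : ∀ ⦃V : C⦄ (h : V ⟶ U) (x : B.E.obj.obj (op V)),
      B.πP V x = P.obj.map h.op p → B.πQ V x = Q.obj.map h.op q → delta f V x = G.obj.map h.op g)
    (h0 : p = 0 ∨ q = 0) : g = 0 := by
  obtain ⟨R, hR, hex⟩ := B.locallySurjective U p q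
  refine Groth.Agent.BiextVanish.eq_of_local' G hR fun V k hk => ?_
  obtain ⟨x, hP, hQ⟩ := hex k hk
  rw [← hg k x hP hQ, map_zero]
  rcases h0 with rfl | rfl
  · exact delta_eq_zero_left f V x (by rw [hP, map_zero])
  · exact delta_eq_zero_right f V x (by rw [hQ, map_zero])

theorem eq_id_of_delta (h : ∀ T x, delta f T x = 0) : f = Biext.HomOver.id J B := by
  have e : f.map = (Biext.HomOver.id J B).map := by
    funext T x
    rw [← act_delta f T x, h, B.zero_act]
    rfl
  exact Biext.HomOver.ext' _ fun T x => congrFun (congrFun e T) x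

end Site

/-- Let S be a scheme and A₁, A₂, A₃ abelian S-schemes (smooth, proper, connected fibres). Then the
category of biextensions of (A₁, A₂) by A₃ is rigid: for every biextension B of (A₁, A₂) by A₃,
formed with the sheaves of points on the big fppf site of all S-schemes, the only endomorphism of B
inducing the identity on A₁, A₂ and A₃ is the identity (equivalently, there is no non-zero
biadditive morphism from A₁ × A₂ to A₃). The source also asserts that every such biextension is
trivial; that assertion is not part of this statement. -/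
theorem result {S : Scheme.{u}} (A₁ A₂ A₃ : Over S)
    [GrpObj A₁] [IsCommMonObj A₁] [Smooth A₁.hom] [IsProper A₁.hom]
    (hA₁ : ∀ s : S, ConnectedSpace ↥(A₁.hom.fiber s))
    [GrpObj A₂] [IsCommMonObj A₂] [Smooth A₂.hom] [IsProper A₂.hom]
    (hA₂ : ∀ s : S, ConnectedSpace ↥(A₂.hom.fiber s))
    [GrpObj A₃] [IsCommMonObj A₃] [Smooth A₃.hom] [IsProper A₃.hom]
    (hA₃ : ∀ s : S, ConnectedSpace ↥(A₃.hom.fiber s))
    (B : Biext (QuotSh.J Scheme.fppfPrecoverage S) (CGrpSh.pts Scheme.fppfPrecoverage A₁) (CGrpSh.pts Scheme.fppfPrecoverage A₂) (CGrpSh.pts Scheme.fppfPrecoverage A₃))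
    (f : Biext.Hom (QuotSh.J Scheme.fppfPrecoverage S) B B) : f = Biext.HomOver.id (QuotSh.J Scheme.fppfPrecoverage S) B := by
  refine eq_id_of_delta f fun T x => ?_
  let pr₁ : (CGrpSh.pts Scheme.fppfPrecoverage A₁).obj.obj (Opposite.op (A₁ ⊗ A₂)) :=
    ULift.up (Additive.ofMul (fst A₁ A₂))
  let pr₂ : (CGrpSh.pts Scheme.fppfPrecoverage A₂).obj.obj (Opposite.op (A₁ ⊗ A₂)) :=
    ULift.up (Additive.ofMul (snd A₁ A₂))
  obtain ⟨g, hg⟩ := exists_delta_section f (A₁ ⊗ A₂) pr₁ pr₂
  let g' : A₁ ⊗ A₂ ⟶ A₃ := g.down.toMul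
  have hax : ∀ {W : Over S} (h : W ⟶ A₁ ⊗ A₂),
      (h ≫ fst A₁ A₂ = 1 ∨ h ≫ snd A₁ A₂ = 1) → h ≫ g' = 1 := by
    intro W h h0
    have := section_eq_zero f W ((CGrpSh.pts Scheme.fppfPrecoverage A₁).obj.map h.op pr₁)
      ((CGrpSh.pts Scheme.fppfPrecoverage A₂).obj.map h.op pr₂)
      ((CGrpSh.pts Scheme.fppfPrecoverage A₃).obj.map h.op g)
      (fun V k y hP hQ => by
        rw [← Groth.Agent.BiextVanish.map_comp'] at hP hQ
        rw [hg (k ≫ h) y hP hQ, Groth.Agent.BiextVanish.map_comp'])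
      (h0.imp (fun e => ULift.ext _ _ (congrArg Additive.ofMul e)) (fun e => ULift.ext _ _ (congrArg Additive.ofMul e)))
    exact congrArg (fun z => z.down.toMul) this
  haveI : IsSeparated A₃.hom := inferInstance
  have hone : g' = 1 := Groth.Agent.AbRigid.eq_one_of_axes hA₁ hA₂ g'
    (hax _ (Or.inr (by rw [lift_snd]; rfl)))
    (hax _ (Or.inl (by rw [lift_fst]; rfl)))
  let k : T ⟶ A₁ ⊗ A₂ := lift (B.πP T x).down.toMul (B.πQ T x).down.toMul
  rw [hg k x (ULift.ext _ _ (congrArg Additive.ofMul (lift_fst _ _).symm))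
    (ULift.ext _ _ (congrArg Additive.ofMul (lift_snd _ _).symm))]
  refine ULift.ext _ _ (congrArg Additive.ofMul ?_)
  show k ≫ g' = 1
  rw [hone, MonObj.comp_one]

end Groth.Agent.S19686
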