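import Groth.Statements.S19693
import Groth.Agent.FinLocFree.Push
-- import your own Groth.Agent.* helpers here

set_option autoImplicit false
set_option linter.style.haveILetI false
set_option backward.isDefEq.respectTransparency false
universe u
open CategoryTheory CategoryTheory.Limits AlgebraicGeometry Opposite
open FinCov

namespace Groth.Agent.S19693

/-- Let X be a scheme and A a quasi-coherent O_X-algebra whose underlying O_X-module is locally free of
rank d. Then the structure morphism Spec(A) → X of the relative spectrum of A is a cover of degree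
d: finite, flat, locally of finite presentation and of rank d at every point of X. (This is the
quasi-inverse direction of the equivalence between degree-d covers of X and O_X-algebras locally
free of rank d; the other direction and the identification of the direct-image algebra of Spec(A)
with A are separate statements.) -/
theorem result {X : Scheme.{u}} (A : RelSpec.QCAlg X) (d : ℕ)
    (hA : FlatMod.IsFinLocFreeOfRank d A.toModule) : FinCov.IsCover A.π d := by
  have key : ∀ x : X, ∃ (V : X.Opens), x ∈ V ∧ ∃ hV : IsAffineOpen V,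
      IsPullback (A.ι V hV) (Spec.map (A.str.app (op V))) A.π hV.fromSpec ∧
      (A.str.app (op V)).hom.Finite ∧ (A.str.app (op V)).hom.Flat ∧ (A.str.app (op V)).hom.FinitePresentation ∧
      ∀ p, (A.str.app (op V)).hom.finrank p = d := by
    intro x
    obtain ⟨U, hxU, ⟨e⟩⟩ := hA x
    obtain ⟨V, hV, hxV, hVU⟩ := TopologicalSpace.Opens.isBasis_iff_nbhd.mp X.isBasis_affineOpens hxU
    obtain ⟨b, hb⟩ := LocFreeAnn.exists_basis e
    specialize hb V hVU
    refine ⟨V, hxV, hV, (IsOpenImmersion.isPullback _ _ _ _ (A.ι_π V hV)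
      (by rw [IsAffineOpen.opensRange_fromSpec]; exact A.π_preimage V hV)).flip, ?_⟩
    let φ : Γ(X, V) →+* A.presheaf.obj (op V) := (A.str.app (op V)).hom
    change φ.Finite ∧ φ.Flat ∧ φ.FinitePresentation ∧ ∀ p, φ.finrank p = d
    algebraize [φ]
    let e' : (Fin d → Γ(X, V)) ≃ₗ[Γ(X, V)] A.presheaf.obj (op V) :=
      LinearEquiv.ofBijective (Fintype.linearCombination Γ(X, V) fun i =>
        (show A.presheaf.obj (op V) from A.toModule.presheaf.map (homOfLE hVU).op (b i))) (by
        exact hb)
    haveI : Module.Free Γ(X, V) (A.presheaf.obj (op V)) := Module.Free.of_equiv e'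
    haveI : Module.Finite Γ(X, V) (A.presheaf.obj (op V)) := Module.Finite.equiv e'
    haveI : Module.FinitePresentation Γ(X, V) (A.presheaf.obj (op V)) := Module.finitePresentation_of_projective _ _
    haveI : Algebra.FinitePresentation Γ(X, V) (A.presheaf.obj (op V)) := .of_finitePresentation _ _
    refine ⟨RingHom.finite_algebraMap.2 inferInstance, RingHom.flat_algebraMap_iff.2 inferInstance,
      RingHom.finitePresentation_algebraMap.2 inferInstance, fun p => ?_⟩
    show (algebraMap Γ(X, V) (A.presheaf.obj (op V))).finrank p = d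
    rw [RingHom.finrank_algebraMap]
    haveI : Nontrivial Γ(X, V) := p.nontrivial
    rw [Module.rankAtStalk_eq_finrank_of_free, ← e'.finrank_eq]
    simp
  choose V hxV hV hsq h1 h2 h3 h4 using key
  have hsup : iSup V = ⊤ := top_le_iff.1 fun x _ => TopologicalSpace.Opens.mem_iSup.2 ⟨x, hxV x⟩
  have aux : ∀ (P : MorphismProperty Scheme.{u}) [P.RespectsIso] (x : X),
      P (Spec.map (A.str.app (op (V x)))) → P (A.π ∣_ V x) := fun P _ x h => by
    have h1 : P (pullback.snd A.π (hV x).fromSpec) := by
      rw [← (hsq x).isoPullback_inv_snd]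
      exact (P.cancel_left_of_respectsIso _ _).2 h
    have h2 := (P.arrow_mk_iso_iff (morphismRestrictOpensRange A.π (hV x).fromSpec)).2 h1
    rwa [(hV x).opensRange_fromSpec] at h2
  have hfin : IsFinite A.π := (IsZariskiLocalAtTarget.iff_of_iSup_eq_top (P := @IsFinite) V hsup).2 fun i =>
    aux @IsFinite i ((IsFinite.SpecMap_iff _).2 (h1 i))
  have hflat : Flat A.π := (IsZariskiLocalAtTarget.iff_of_iSup_eq_top (P := @Flat) V hsup).2 fun i =>
    aux @Flat i (Flat.SpecMap_iff.2 (h2 i))
  refine ⟨⟨hfin, hflat, (IsZariskiLocalAtTarget.iff_of_iSup_eq_top (P := @LocallyOfFinitePresentation) V hsup).2 fun i =>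
    aux @LocallyOfFinitePresentation i ((LocallyOfFinitePresentation.SpecMap_iff _).2 (h3 i))⟩, fun y => ?_⟩
  have h5 := Scheme.Hom.finrank_of_isPullback _ _ _ _ (hsq y) ((hV y).primeIdealOf ⟨y, hxV y⟩)
  rw [IsAffineOpen.fromSpec_primeIdealOf, Scheme.Hom.finrank_SpecMap_eq_finrank (h1 y) (h2 y), h4] at h5
  exact h5.symm
end Groth.Agent.S19693
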