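import Groth.Statements.S19695
import Groth.Agent.FinLocFree.Push
import Groth.Agent.QCohLib.Basic
-- import your own Groth.Agent.* helpers here

set_option autoImplicit false
set_option linter.style.haveILetI false
set_option backward.isDefEq.respectTransparency false
universe u
open CategoryTheory CategoryTheory.Limits AlgebraicGeometry Opposite
open FinCov

namespace Groth.Agent.S19695

/-- Let X be a scheme, A a quasi-coherent O_X-algebra which is locally free of rank d as an O_X-module,
and τ : A → O_X its trace (the O_X-linear map which over every affine open where A is finite free is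
the trace of the regular representation). Then the structure map O_X → A followed by τ equals
multiplication by d on O_X. -/
theorem result {X : Scheme.{u}} (A : RelSpec.QCAlg X) (d : ℕ)
    (hA : FlatMod.IsFinLocFreeOfRank d A.toModule)
    (τ : A.toModule ⟶ Coh.structureModule X) (hτ : FinCov.IsTrace A τ) :
    FinCov.strMod A ≫ τ = d • 𝟙 (Coh.structureModule X) := by
    have key : ∀ x : X, ∀ W : X.Opens, x ∈ W → ∃ V : X.Opens, x ∈ V ∧ V ≤ W ∧ ∀ r : Γ(X, V),
        (τ.val.app (op V)).hom ((A.str.app (op V)).hom r) = d • r := by
      intro x W hxW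
      obtain ⟨U, hxU, ⟨e⟩⟩ := hA x
      obtain ⟨V, hV, hxV, hVU⟩ := TopologicalSpace.Opens.isBasis_iff_nbhd.mp X.isBasis_affineOpens (show x ∈ U ⊓ W from ⟨hxU, hxW⟩)
      obtain ⟨b, hb⟩ := LocFreeAnn.exists_basis e
      specialize hb V (hVU.trans inf_le_left)
      refine ⟨V, hxV, hVU.trans inf_le_right, fun r => ?_⟩
      letI : Algebra Γ(X, V) (A.presheaf.obj (op V)) := (A.str.app (op V)).hom.toAlgebra
      let e' : (Fin d → Γ(X, V)) ≃ₗ[Γ(X, V)] A.presheaf.obj (op V) :=
        LinearEquiv.ofBijective (Fintype.linearCombination Γ(X, V) fun i =>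
          (show A.presheaf.obj (op V) from A.toModule.presheaf.map (homOfLE (hVU.trans inf_le_left)).op (b i))) (by
          exact hb)
      haveI : Module.Free Γ(X, V) (A.presheaf.obj (op V)) := Module.Free.of_equiv e'
      haveI : Module.Finite Γ(X, V) (A.presheaf.obj (op V)) := Module.Finite.equiv e'
      refine (hτ V hV inferInstance inferInstance _).trans ?_
      rcases subsingleton_or_nontrivial Γ(X, V) with h | h
      · exact @Subsingleton.elim Γ(X, V) _ _ _
      · refine (Algebra.trace_algebraMap (R := Γ(X, V)) (S := A.presheaf.obj (op V)) r).trans ?_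
        rw [← e'.finrank_eq, Module.finrank_fin_fun]
    apply Scheme.Modules.hom_ext
    intro W
    ext (r : Γ(X, W))
    refine QCohLib.section_ext (M := Coh.structureModule X) (U := W) _ _ fun x hx => ?_
    obtain ⟨V, hxV, hVW, h⟩ := key x W hx
    rw [← TopCat.Presheaf.germ_res_apply (Coh.structureModule X).presheaf (homOfLE hVW) x hxV,
      ← TopCat.Presheaf.germ_res_apply (Coh.structureModule X).presheaf (homOfLE hVW) x hxV ((d • 𝟙 (Coh.structureModule X) : _ ⟶ _).app W r)]
    congr 1
    rw [← QCohLib.app_map, ← QCohLib.app_map]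
    refine (h _).trans ?_
    exact (map_nsmul (AddMonoidHom.mk' (fun φ : Coh.structureModule X ⟶ Coh.structureModule X => φ.app V _)
      (fun _ _ => rfl)) d (𝟙 _)).symm

end Groth.Agent.S19695
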