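import Groth.Statements.S19698
import Groth.Agent.FinLocFree.Push
import Groth.Agent.QCAlgGen.Basic
import Groth.Agent.InvBasic.Basic
-- import your own Groth.Agent.* helpers here

set_option autoImplicit false
set_option linter.style.haveILetI false
set_option backward.isDefEq.respectTransparency false
universe u
open CategoryTheory CategoryTheory.Limits AlgebraicGeometry Opposite
open FinCov

namespace Groth.Agent.S19698

/-- Let X be a scheme, L an invertible O_X-module, m : L ⊗ L → O_X a homomorphism of O_X-modules, and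
(A, j : L → A) a quasi-coherent O_X-algebra presented as O_X ⊕ L with product given by m (over every
open, every section of A is uniquely s·1 + j(l), and j(l)·j(l') = m(l ⊗ l')·1). Then A is locally
free of rank 2 as an O_X-module. (The classification of double covers is stated for schemes on which
2 is invertible; this assertion does not use that assumption, so it is not made here.) -/
theorem result {X : Scheme.{u}} (L : X.Modules) (hL : PicF.IsInvertible L)
    (m : CohB1.tensorMod L L ⟶ Coh.structureModule X) (A : RelSpec.QCAlg X) (j : L ⟶ A.toModule)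
    (h : FinCov.IsDblAlg L m A j) : FlatMod.IsFinLocFreeOfRank 2 A.toModule := by
  haveI := Groth.Agent.QCAlgGen.isQuasicoherent_toModule A
  intro x
  obtain ⟨U₀, hx, ℓ₀, hℓ₀⟩ := Groth.Agent.InvBasic.exists_isBasis hL x
  obtain ⟨_, ⟨U, hU, rfl⟩, hxU, hle⟩ := X.isBasis_affineOpens.exists_subset_of_mem_open hx U₀.isOpen
  let ℓ : Γ(L, U) := L.presheaf.map (homOfLE hle).op ℓ₀
  have hℓ : Function.Bijective fun r : Γ(X, U) => r • ℓ := hℓ₀ U hle
  let b₀ : Γ(A.toModule, U) := (1 : A.presheaf.obj (op U))
  let b₁ : Γ(A.toModule, U) := (j.val.app (op U)).hom ℓ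
  refine ⟨U, hxU, Groth.Agent.FinLocFree.nonempty_restrict_iso_free hU ![b₀, b₁] ?_⟩
  have hsplit := h.1 U
  have e : (fun c : Fin 2 → Γ(X, U) => ∑ i, c i • ![b₀, b₁] i) =
      (fun p : Γ(X, U) × L.val.obj (op U) =>
        (A.str.app (op U)).hom p.1 + toSec A ((j.val.app (op U)).hom p.2)) ∘
        (fun c : Fin 2 → Γ(X, U) => (c 0, c 1 • ℓ)) := by
    funext c
    simp only [Fin.sum_univ_two, Matrix.cons_val_zero, Matrix.cons_val_one, Function.comp]
    refine congrArg₂ (· + ·) ?_ ?_
    · exact mul_one ((A.str.app (op U)).hom (c 0))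
    · exact ((j.val.app (op U)).hom.map_smul (c 1) ℓ).symm
  rw [e]
  refine hsplit.comp ⟨fun c c' hc => ?_, fun p => ?_⟩
  · rw [Prod.mk.injEq] at hc
    funext i
    fin_cases i
    · exact hc.1
    · exact hℓ.1 hc.2
  · obtain ⟨r, hr⟩ := hℓ.2 p.2
    exact ⟨![p.1, r], Prod.ext rfl hr⟩

end Groth.Agent.S19698
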