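import Groth.Statements.S19702
import Mathlib
import Groth.Agent.GrpSchField.ConnComp
-- import your own Groth.Agent.* helpers here

set_option autoImplicit false
set_option linter.style.haveILetI false
set_option backward.isDefEq.respectTransparency false
universe u
open CategoryTheory MonoidalCategory CartesianMonoidalCategory MonObj GrpObj AlgebraicGeometry CategoryTheory.Limits
open AlgGrp

namespace Groth.Agent.S19702

open scoped TensorProduct in
theorem bijective_of_isPushout_of_bijective {R S A B : CommRingCat.{u}} (f : R ⟶ A) (g : R ⟶ S) (i : A ⟶ B) (j : S ⟶ B)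
    (h : IsPushout f g i j) (hR : IsField R) [Nontrivial A] [Nontrivial S] (hj : Function.Bijective j.hom) :
    Function.Bijective f.hom := by
  letI := hR.toField
  letI := f.hom.toAlgebra
  letI := g.hom.toAlgebra
  letI := i.hom.toAlgebra
  letI := j.hom.toAlgebra
  letI := (f ≫ i).hom.toAlgebra
  haveI : IsScalarTower R A B := IsScalarTower.of_algebraMap_eq' rfl
  haveI : IsScalarTower R S B := IsScalarTower.of_algebraMap_eq' (congrArg CommRingCat.Hom.hom h.w)
  haveI : Algebra.IsPushout R A S B := CommRingCat.isPushout_iff_isPushout.mp h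
  haveI : Algebra.IsPushout R S A B := Algebra.IsPushout.symm inferInstance
  let e : S ⊗[R] A ≃ₗ[S] S :=
    (Algebra.IsPushout.equiv R S A B).toLinearEquiv.trans
      (LinearEquiv.ofBijective (Algebra.linearMap S B) hj).symm
  have h1 : Module.finrank R A = 1 := by
    rw [← Module.finrank_baseChange (R := S), LinearEquiv.finrank_eq e, Module.finrank_self]
  refine ⟨f.hom.injective, fun y => ?_⟩
  obtain ⟨c, hc⟩ := Subalgebra.bot_eq_top_of_finrank_eq_one h1 ▸ (Algebra.mem_top : y ∈ (⊤ : Subalgebra R A))
  exact ⟨c, hc⟩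

/-- Let k be a field, K a field extension of k and G a k-group scheme of finite type. Then G is
anti-affine, i.e. O(G) = k, if and only if the base change G_K is anti-affine, i.e. O(G_K) = K. -/
theorem result (k : Type u) [Field k] (K : Type u) [Field K] [Algebra k K]
    (G : Over (Spec (CommRingCat.of k))) [GrpObj G] [LocallyOfFiniteType G.hom] [QuasiCompact G.hom] :
    Function.Bijective ((Scheme.ΓSpecIso (CommRingCat.of k)).inv ≫ G.hom.appTop).hom ↔
      Function.Bijective ((Scheme.ΓSpecIso (CommRingCat.of K)).inv ≫ (Red.bc (Spec.map (CommRingCat.ofHom (algebraMap k K))) G).hom.appTop).hom := by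
  let g := Spec.map (CommRingCat.ofHom (algebraMap k K))
  haveI : CompactSpace G.left := QuasiCompact.compactSpace_of_compactSpace G.hom
  haveI : QuasiSeparatedSpace G.left := GrpSchField.quasiSeparatedSpace
  haveI : QuasiSeparated G.hom := HasAffineProperty.iff_of_isAffine.mpr ‹QuasiSeparatedSpace G.left›
  have H : IsPullback (Limits.pullback.fst G.hom g) (Limits.pullback.snd G.hom g) G.hom g :=
    IsPullback.of_hasPullback G.hom g
  have := isIso_pushoutSection_of_isQuasiSeparated_of_flat_right H (US := ⊤) (UT := ⊤) (UX := ⊤)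
    (by simp) (by simp) (UY := ⊤) (by simp) (isAffineOpen_top _) (isAffineOpen_top _)
    isCompact_univ (isQuasiSeparated_univ (α := G.left))
  have hpo := (isIso_pushoutSection_iff ..).mp this
  have e1 : ∀ {A B : Scheme.{u}} (g : A ⟶ B) (h : (⊤ : A.Opens) ≤ g ⁻¹ᵁ ⊤), g.appLE ⊤ ⊤ h = g.appTop :=
    fun g _ => g.appLE_eq_app
  simp only [e1] at hpo
  rw [← ConcreteCategory.isIso_iff_bijective, ← ConcreteCategory.isIso_iff_bijective, isIso_comp_left_iff,
    isIso_comp_left_iff]
  change IsIso G.hom.appTop ↔ IsIso (Limits.pullback.snd G.hom g).appTop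
  refine ⟨fun h => hpo.isIso_inr_of_isIso h, fun h => ?_⟩
  haveI : Nonempty G.left := ⟨(MonObj.one : _ ⟶ G).left (default : Spec (CommRingCat.of k))⟩
  haveI : Nonempty ↥(⊤ : G.left.Opens) := ⟨⟨Classical.arbitrary G.left, trivial⟩⟩
  haveI : Nonempty ↥((⊤ : G.left.Opens) : Scheme.{u}) := ⟨⟨Classical.arbitrary G.left, trivial⟩⟩
  haveI : Nontrivial Γ(G.left, ⊤) := Scheme.component_nontrivial G.left ⊤
  haveI : Nontrivial Γ(Spec (CommRingCat.of K), ⊤) := (Scheme.ΓSpecIso (CommRingCat.of K)).commRingCatIsoToRingEquiv.toEquiv.nontrivial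
  exact (ConcreteCategory.isIso_iff_bijective _).2 (bijective_of_isPushout_of_bijective _ _ _ _ hpo
    ((Scheme.ΓSpecIso (CommRingCat.of k)).commRingCatIsoToRingEquiv.toMulEquiv.isField (Field.toIsField k))
    ((ConcreteCategory.isIso_iff_bijective _).1 h))

end Groth.Agent.S19702
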