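import Groth.Statements.S19708
import Mathlib
-- import your own Groth.Agent.* helpers here

set_option autoImplicit false
universe u v w
open W4c5adicflatcompl
open CAlg

namespace Groth.Agent.S19708

/-- Let A be a commutative ring, I an ideal of A, M an I-adically complete A-module, Z a set and f : Z →
M a function. Then f is I-adically decaying (for every n, all but finitely many values f(z) lie in
I^n M) if and only if the family (f(z))_{z ∈ Z} has an I-adic sum in M, i.e. there is an element m
of M such that for every n some finite subset S of Z has f(z) ∈ I^n M for all z outside S and m −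
Σ_{z ∈ S} f(z) ∈ I^n M. -/
theorem result {A : Type u} [CommRing A] (I : Ideal A) (Z : Type v)
    (M : Type w) [AddCommGroup M] [Module A M] [IsAdicComplete I M] (f : Z → M) :
    f ∈ decaying I Z M ↔ ∃ m : M, ∀ n : ℕ, ∃ S : Finset Z,
      (∀ z, z ∉ S → f z ∈ (I ^ n • ⊤ : Submodule A M)) ∧ m - (∑ z ∈ S, f z) ∈ (I ^ n • ⊤ : Submodule A M) := by
  classical
  constructor
  · intro hf
    let T : ℕ → Finset Z := fun n => (hf n).toFinset
    have hT : ∀ n z, z ∉ T n → f z ∈ (I ^ n • ⊤ : Submodule A M) := fun n z hz => by
      simpa [T] using hz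
    have hc : ∀ {m n : ℕ}, m ≤ n → (∑ z ∈ T m, f z) ≡ (∑ z ∈ T n, f z)
        [SMOD (I ^ m • ⊤ : Submodule A M)] := by
      intro m n hmn
      have hsub : T m ⊆ T n := by
        intro z hz
        by_contra h
        have h2 : f z ∈ (I ^ m • ⊤ : Submodule A M) :=
          Submodule.smul_mono_left (Ideal.pow_le_pow_right hmn) (hT n z h)
        simp [T] at hz
        exact hz h2
      rw [SModEq.sub_mem, ← Finset.sum_sdiff hsub, sub_add_cancel_right]
      refine neg_mem (Submodule.sum_mem _ fun z hz => hT m z ?_)
      exact (Finset.mem_sdiff.mp hz).2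
    obtain ⟨L, hL⟩ := IsPrecomplete.prec (inferInstance : IsPrecomplete I M) hc
    refine ⟨L, fun n => ⟨T n, hT n, ?_⟩⟩
    exact SModEq.sub_mem.mp (hL n).symm
  · rintro ⟨m, hm⟩ n
    obtain ⟨S, hS, -⟩ := hm n
    exact S.finite_toSet.subset fun z hz => by
      by_contra h
      exact hz (hS z h)

end Groth.Agent.S19708
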