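import Groth.Statements.S1971
import Groth.Agent.HenselLib.PairHenselization

set_option autoImplicit false
universe u
open EtAlg

namespace Groth.Agent.S1971

/-- Let A be a ring with ideals I and J having the same zero locus in Spec A. Then an A-algebra is a
henselization of the pair (A, I) if and only if it is a henselization of the pair (A, J). -/
theorem result (A : Type u) [CommRing A] (I J : Ideal A)
    (h : PrimeSpectrum.zeroLocus (I : Set A) = PrimeSpectrum.zeroLocus (J : Set A)) (B : Type u) [CommRing B] [Algebra A B] :
    Hens2.IsPairHenselization A I B ↔ Hens2.IsPairHenselization A J B := by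
  suffices key : ∀ I J : Ideal A, I.radical = J.radical → Hens2.IsPairHenselization A I B →
      Hens2.IsPairHenselization A J B by
    have hr : I.radical = J.radical := by
      rw [← PrimeSpectrum.vanishingIdeal_zeroLocus_eq_radical,
        ← PrimeSpectrum.vanishingIdeal_zeroLocus_eq_radical, h]
    exact ⟨key I J hr, key J I hr.symm⟩
  intro I J hr hB
  have hle : ∀ {C : Type u} [CommRing C] (f : A →+* C) (I J : Ideal A), I.radical = J.radical →
      J.map f ≤ (I.map f).radical := fun f I J hr =>
    (Ideal.map_mono (Ideal.le_radical.trans hr.ge)).trans (Ideal.map_radical_le f)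
  refine ⟨?_, fun C _ K f hK hJK => ?_⟩
  · have := hB.1
    have := Groth.Agent.HenselLib.henselianRing_radical (I.map (algebraMap A B))
    exact Groth.Agent.HenselLib.henselianRing_of_le (hle (algebraMap A B) I J hr)
  · exact hB.2 C K.radical f (Groth.Agent.HenselLib.henselianRing_radical K)
      ((hle f J I hr.symm).trans (Ideal.radical_mono hJK))

end Groth.Agent.S1971
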