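import Groth.Statements.S19711
import Mathlib
-- import your own Groth.Agent.* helpers here

set_option autoImplicit false
universe u
open CategoryTheory
open Coh

namespace Groth.Agent.S19711

/-- Let A be a Noetherian integral domain and F an A-linear additive functor from A-modules to A-modules
with F(A) a finitely generated A-module. Call such a functor generically injective when there is a
dense open subset U of Spec A such that for every point u of U whose residue field κ(u) is a
finitely generated A-algebra the comparison map F(A) ⊗_A κ(u) → F(κ(u)) is injective; since F is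
A-linear this injectivity says: every m in F(A) whose image under F(A → κ(u)) vanishes satisfies s·m
∈ u·F(A) for some s outside u. If F is generically injective then so is every A-linear additive
subfunctor K ⊆ F (a natural transformation K → F with injective components). (The published
statement is over a reduced Noetherian affine scheme, for additive functors on quasi-coherent
sheaves with values in abelian groups and the induced A-action, assumes F weakly bounded (F(A/p)
finitely generated for every prime ideal p) and also records that K is again weakly bounded; only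
the finite generation of F(A), which its argument uses, is assumed here, and the integral case with
A-linear functors stated here is the one its argument by generic flatness treats.) -/
theorem result {A : Type u} [CommRing A] [IsNoetherianRing A] [IsDomain A]
    (F K : ModuleCat.{u} A ⥤ ModuleCat.{u} A) [F.Additive] [F.Linear A] [K.Additive] [K.Linear A]
    (ι : K ⟶ F) (hι : ∀ X : ModuleCat.{u} A, Function.Injective (ι.app X).hom)
    (hfin : Module.Finite A (F.obj (ModuleCat.of A A)))
    (hGI : ∃ U : Set (PrimeSpectrum A), IsOpen U ∧ Dense U ∧ ∀ u ∈ U, Algebra.FiniteType A u.asIdeal.ResidueField →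
        ∀ m : F.obj (ModuleCat.of A A),
          (F.map (ModuleCat.ofHom (Algebra.linearMap A u.asIdeal.ResidueField))).hom m = 0 →
            ∃ s ∉ u.asIdeal, s • m ∈ u.asIdeal • (⊤ : Submodule A (F.obj (ModuleCat.of A A)))) :
    ∃ U : Set (PrimeSpectrum A), IsOpen U ∧ Dense U ∧ ∀ u ∈ U, Algebra.FiniteType A u.asIdeal.ResidueField →
        ∀ m : K.obj (ModuleCat.of A A),
          (K.map (ModuleCat.ofHom (Algebra.linearMap A u.asIdeal.ResidueField))).hom m = 0 →
            ∃ s ∉ u.asIdeal, s • m ∈ u.asIdeal • (⊤ : Submodule A (K.obj (ModuleCat.of A A))) := by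
  classical
  obtain ⟨U, hUo, hUd, hU⟩ := hGI
  let A₁ := ModuleCat.of A A
  let F₀ := F.obj A₁
  let K₀ := K.obj A₁
  let i : K₀ →ₗ[A] F₀ := (ι.app A₁).hom
  haveI : Module.Finite A F₀ := hfin
  haveI : IsNoetherian A F₀ := isNoetherian_of_isNoetherianRing_of_finite A F₀
  haveI : Module.Finite A K₀ := Module.Finite.of_injective i (hι A₁)
  haveI : Module.FinitePresentation A F₀ := Module.finitePresentation_of_finite A F₀
  let S := nonZeroDivisors A
  let iS : LocalizedModule S K₀ →ₗ[FractionRing A] LocalizedModule S F₀ := LocalizedModule.map S i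
  have hiS : Function.Injective iS := LocalizedModule.map_injective S i (hι A₁)
  obtain ⟨ρ, hρ⟩ := iS.exists_leftInverse_of_injective (LinearMap.ker_eq_bot.2 hiS)
  let fK := LocalizedModule.mkLinearMap S K₀
  let fF := LocalizedModule.mkLinearMap S F₀
  obtain ⟨π, s, hπ⟩ := Module.FinitePresentation.exists_lift_of_isLocalizedModule S fK
    ((ρ.restrictScalars A).comp fF)
  have h1 : fK.comp (π.comp i) = fK.comp ((s : A) • LinearMap.id) := by
    refine LinearMap.ext fun x => ?_
    show fK (π (i x)) = fK ((s : A) • x)
    rw [← LinearMap.comp_apply fK π, hπ, map_smul]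
    show (s : A) • ρ (fF (i x)) = (s : A) • fK x
    congr 1
    have h2 : fF (i x) = iS (fK x) := by simp [fF, fK, iS, LocalizedModule.map_mk]
    rw [h2]
    exact LinearMap.congr_fun hρ (fK x)
  obtain ⟨s', hs'⟩ := Module.Finite.exists_smul_of_comp_eq_of_isLocalizedModule S fK _ _ h1
  let c : A := s' * s
  have hc : c ≠ 0 := mul_ne_zero (nonZeroDivisors.ne_zero s'.2) (nonZeroDivisors.ne_zero s.2)
  have hci : ∀ x, ((s' : A) • π) (i x) = c • x := by
    intro x
    show (s' : A) • π (i x) = ((s' : A) * (s : A)) • x
    rw [mul_smul]
    exact LinearMap.congr_fun hs' x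
  refine ⟨U ∩ (PrimeSpectrum.basicOpen c : Set (PrimeSpectrum A)), hUo.inter (PrimeSpectrum.basicOpen c).2,
    hUd.inter_of_isOpen_right ?_ (PrimeSpectrum.basicOpen c).2, ?_⟩
  · refine IsOpen.dense (PrimeSpectrum.basicOpen c).2 ⟨⟨⊥, Ideal.isPrime_bot⟩, ?_⟩
    show c ∉ (⊥ : Ideal A)
    simpa using hc
  · rintro u ⟨huU, huc⟩ hft m hm
    let φ := ModuleCat.ofHom (Algebra.linearMap A u.asIdeal.ResidueField)
    have hnat : (F.map φ).hom (i m) = (ι.app _).hom ((K.map φ).hom m) :=
      LinearMap.congr_fun (congrArg ModuleCat.Hom.hom (ι.naturality φ)).symm m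
    obtain ⟨t, ht, htm⟩ := hU u huU hft (i m) (by
      show (F.map φ).hom (i m) = 0
      rw [hnat]
      show (ι.app _).hom ((K.map φ).hom m) = 0
      rw [show (K.map φ).hom m = 0 from hm, map_zero])
    refine ⟨t * c, u.isPrime.mul_notMem ht huc, ?_⟩
    have h2 := Submodule.mem_map_of_mem (f := (s' : A) • π) htm
    rw [map_smul, hci, ← mul_smul, Submodule.map_smul''] at h2
    exact Submodule.smul_mono le_rfl le_top h2

end Groth.Agent.S19711
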