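import Groth.Statements.S1973
import Groth.Agent.WEtaleVal.Etale

set_option autoImplicit false
set_option linter.style.haveILetI false
universe u
open EtAlg

namespace Groth.Agent.S1973

/-- The local rings of an étale algebra over a Dedekind domain. -/
theorem local_ring {A B : Type u} [CommRing A] [IsDedekindDomain A] [CommRing B] [Algebra A B]
    [Algebra.Etale A B] (q : Ideal B) [q.IsPrime] :
    IsDomain (Localization.AtPrime q) ∧ (∀ _ : IsDomain (Localization.AtPrime q),
      ¬ IsField (Localization.AtPrime q) → IsDiscreteValuationRing (Localization.AtPrime q)) := by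
  haveI : IsNoetherianRing B := Algebra.FiniteType.isNoetherianRing A B
  let p := q.under A
  let V := Localization.AtPrime p
  let C := Localization.AtPrime q
  haveI : IsDomain V := IsLocalization.isDomain_localization (Ideal.primeCompl_le_nonZeroDivisors p)
  haveI : ValuationRing V := by
    rcases eq_or_ne p ⊥ with h | h
    · have hf : IsField V := by
        refine IsLocalRing.isField_iff_maximalIdeal_eq.2 ?_
        rw [← Localization.AtPrime.map_eq_maximalIdeal, Ideal.map_eq_bot_iff_le_ker]
        exact h.le.trans bot_le
      letI := hf.toField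
      infer_instance
    · haveI := IsLocalization.AtPrime.isDiscreteValuationRing_of_dedekind_domain A h V
      infer_instance
  have hlift : ∀ y : p.primeCompl, IsUnit (algebraMap A C y) := fun y => by
    rw [IsScalarTower.algebraMap_apply A B C]
    exact IsLocalization.map_units C (⟨algebraMap A B y, y.2⟩ : q.primeCompl)
  letI : Algebra V C := (IsLocalization.lift hlift : V →+* C).toAlgebra
  haveI : IsScalarTower A V C :=
    .of_algebraMap_eq fun x => (IsLocalization.lift_eq hlift x).symm
  haveI : IsLocalHom (algebraMap V C) := ⟨fun x hx => by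
    obtain ⟨a, s, rfl⟩ := IsLocalization.exists_mk'_eq p.primeCompl x
    refine (IsLocalization.AtPrime.isUnit_mk'_iff V p a s).2 fun ha => ?_
    have : IsUnit (algebraMap A C a) := by
      rw [IsScalarTower.algebraMap_apply A V C, ← IsLocalization.mk'_spec V a s, map_mul,
        ← IsScalarTower.algebraMap_apply A V C]
      exact hx.mul (hlift s)
    rw [IsScalarTower.algebraMap_apply A B C] at this
    exact (IsLocalization.AtPrime.isUnit_to_map_iff C q _).1 this ha⟩
  haveI : Algebra.WeaklyEtale A V :=
    Groth.Agent.WEtaleVal.weaklyEtale_of_isLocalization p.primeCompl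
  obtain ⟨hd, hv, -, -⟩ := Groth.Agent.WEtaleVal.main (R := A) (V := V) (B := B) (C := C)
    (IsLocalization.injective V (Ideal.primeCompl_le_nonZeroDivisors p)) q.primeCompl
  refine ⟨hd, fun h hnf => ?_⟩
  haveI := h
  haveI : ValuationRing C := hv h
  haveI : IsNoetherianRing C := IsLocalization.isNoetherianRing q.primeCompl C inferInstance
  haveI : IsPrincipalIdealRing C := by
    have hN : IsNoetherianRing C ↔ IsPrincipalIdealRing C := (IsBezout.TFAE (R := C)).out 0 1
    exact hN.1 inferInstance
  exact { not_a_field' := fun hb => hnf (IsLocalRing.isField_iff_maximalIdeal_eq.2 hb) }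

/-- An étale algebra over a Dedekind domain which is a domain is a Dedekind domain. -/
theorem isDedekind {A B : Type u} [CommRing A] [IsDedekindDomain A] [CommRing B] [IsDomain B]
    [Algebra A B] [Algebra.Etale A B] : IsDedekindDomain B := by
  haveI : IsNoetherianRing B := Algebra.FiniteType.isNoetherianRing A B
  haveI : IsDedekindDomainDvr B :=
    { is_dvr_at_nonzero_prime := fun P hP _ => (local_ring (A := A) P).2 inferInstance
        (IsLocalization.AtPrime.not_isField B hP (Localization.AtPrime P)) }
  infer_instance

/-- The decomposition into a product of Dedekind domains. -/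
theorem exists_decomposition (A B : Type u) [CommRing A] [IsDedekindDomain A] [CommRing B]
    [Algebra A B] [Algebra.Etale A B] :
    ∃ (n : ℕ) (D : Fin n → Type u) (_ : ∀ i, CommRing (D i)) (_ : ∀ i, IsDedekindDomain (D i)),
      Nonempty (B ≃+* ∀ i, D i) := by
  classical
  haveI : IsNoetherianRing B := Algebra.FiniteType.isNoetherianRing A B
  haveI : IsReduced B := by
    refine isReduced_ofLocalizationMaximal B fun J _ => ?_
    haveI := (local_ring (A := A) J).1
    infer_instance
  haveI : Finite (minimalPrimes B) := (minimalPrimes.finite_of_isNoetherianRing B).to_subtype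
  obtain ⟨n, ⟨σ⟩⟩ := Finite.exists_equiv_fin (minimalPrimes B)
  let P : Fin n → Ideal B := fun i => (σ.symm i : Ideal B)
  have hP : ∀ i, P i ∈ minimalPrimes B := fun i => (σ.symm i).2
  haveI : ∀ i, (P i).IsPrime := fun i => (hP i).1.1
  have hcop : Pairwise fun i j => IsCoprime (P i) (P j) := by
    intro i j hij
    rw [Ideal.isCoprime_iff_sup_eq]
    by_contra hne
    obtain ⟨m, hm, hle⟩ := Ideal.exists_le_maximal _ hne
    haveI := (local_ring (A := A) m).1
    let K := RingHom.ker (algebraMap B (Localization.AtPrime m))
    haveI : K.IsPrime := RingHom.ker_isPrime _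
    have key : ∀ k, P k ≤ m → K = P k := by
      intro k hk
      have h1 : K ≤ P k := fun x hx => by
        obtain ⟨s, hs⟩ := (IsLocalization.map_eq_zero_iff m.primeCompl (Localization.AtPrime m) x).1 hx
        exact ((hP k).1.1.mem_or_mem (hs ▸ (P k).zero_mem)).resolve_left fun h => s.2 (hk h)
      exact le_antisymm h1 ((hP k).2 ⟨inferInstance, bot_le⟩ h1)
    exact hij (σ.symm.injective (Subtype.ext
      ((key i (le_sup_left.trans hle)).symm.trans (key j (le_sup_right.trans hle)))))
  have hinf : ⨅ i, P i = ⊥ := by
    rw [eq_bot_iff]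
    intro x hx
    have : x ∈ (⊥ : Ideal B).radical := by
      rw [← Ideal.sInf_minimalPrimes]
      refine Ideal.mem_sInf.2 fun {Q} hQ => ?_
      have := (Ideal.mem_iInf.1 hx) (σ ⟨Q, hQ⟩)
      simpa [P] using this
    obtain ⟨k, hk⟩ := this
    exact (Ideal.mem_bot).2 (IsReduced.eq_zero _ ⟨k, hk⟩)
  let e : B ≃+* ∀ i, B ⧸ P i :=
    (RingEquiv.quotientBot B).symm.trans ((Ideal.quotEquivOfEq hinf.symm).trans
      (Ideal.quotientInfRingEquivPiQuotient P hcop))
  have hed : ∀ (i : Fin n) (x : B), e x i = Ideal.Quotient.mk (P i) x := fun _ _ => rfl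
  refine ⟨n, fun i => B ⧸ P i, inferInstance, fun i => ?_, ⟨e⟩⟩
  let ε := e.symm (Pi.single i 1)
  have hε : ∀ j, Ideal.Quotient.mk (P j) ε = (Pi.single i (1 : B ⧸ P i) : ∀ j, B ⧸ P j) j :=
    fun j => by rw [← hed, RingEquiv.apply_symm_apply]
  have hid : IsIdempotentElem ε := e.injective (by
    rw [map_mul, RingEquiv.apply_symm_apply]
    ext j
    rcases eq_or_ne j i with rfl | hj <;> simp_all)
  haveI : IsLocalization.Away ε (B ⧸ P i) := by
    refine IsLocalization.away_of_isIdempotentElem hid ?_ Ideal.Quotient.mk_surjective
    rw [Ideal.Quotient.algebraMap_eq, Ideal.mk_ker]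
    refine le_antisymm (fun x hx => ?_) ((Ideal.span_singleton_le_iff_mem _).2 ?_)
    · refine Ideal.mem_span_singleton'.2 ⟨x, e.injective (funext fun j => ?_)⟩
      rw [hed, hed, map_mul, map_sub, map_one, hε]
      rcases eq_or_ne j i with rfl | hj
      · rw [Pi.single_eq_same, sub_self, mul_zero, Ideal.Quotient.eq_zero_iff_mem.2 hx]
      · rw [Pi.single_eq_of_ne hj, sub_zero, mul_one]
    · rw [← Ideal.Quotient.eq_zero_iff_mem, map_sub, map_one, hε, Pi.single_eq_same, sub_self]
  haveI : Algebra.Etale B (B ⧸ P i) := Algebra.Etale.of_isLocalizationAway ε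
  haveI : Algebra.Etale A (B ⧸ P i) := Algebra.Etale.comp A B (B ⧸ P i)
  exact isDedekind (A := A)

/-- Let A be a Dedekind domain and B an etale A-algebra. Then B is isomorphic as a ring to a finite
product of Dedekind domains, and for every maximal ideal q of B whose localization is not a field,
the localization B_q is a discrete valuation ring. (The source states the last claim for all maximal
ideals; it fails for field factors, e.g. A a DVR with uniformizer π and B = A[1/π], so the guard is
needed.) -/
theorem result (A B : Type u) [CommRing A] [IsDedekindDomain A] [CommRing B] [Algebra A B]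
    [Algebra.Etale A B] :
    (∃ (n : ℕ) (D : Fin n → Type u) (_ : ∀ i, CommRing (D i)) (_ : ∀ i, IsDedekindDomain (D i)),
      Nonempty (B ≃+* ∀ i, D i)) ∧
    ∀ (q : Ideal B) [q.IsMaximal], ¬ IsField (Localization.AtPrime q) →
      ∃ _ : IsDomain (Localization.AtPrime q), IsDiscreteValuationRing (Localization.AtPrime q) := by
  haveI : IsNoetherianRing B := Algebra.FiniteType.isNoetherianRing A B
  refine ⟨exists_decomposition A B, fun q _ hq => ?_⟩
  obtain ⟨hd, hd'⟩ := local_ring (A := A) q
  exact ⟨hd, hd' hd hq⟩

end Groth.Agent.S1973
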