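import Groth.Statements.S19741
import Mathlib.RingTheory.AlgebraicIndependent.TranscendenceBasis
-- import your own Groth.Agent.* helpers here

set_option autoImplicit false
universe w u
open EssDim

namespace Groth.Agent.S19741

open CategoryTheory AlgebraicGeometry in
/-- For a field extension `K` of `k` and a presheaf of sets `P` on schemes over `k`, restrict `P` to
schemes over `K` by viewing a scheme over `Spec K` as a scheme over `Spec k`; then the essential
dimension over `K` of the restricted presheaf is at most the essential dimension of `P` over `k`.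
(The source states this for an algebraic stack over `k` and its base change to `K`, through the
presheaf of isomorphism classes of objects, whose restriction to schemes over `K` is the presheaf of
classes of the base-changed stack; the inequality is stated here for an arbitrary presheaf, which is
what the argument with composita of fields of definition gives.) -/
theorem result (k : Type u) [Field k] (K : Type u) [Field K] [Algebra k K]
    (P : (Over (Spec (CommRingCat.of k)))ᵒᵖ ⥤ Type w) :
    EssDim.ed (k := K) ((Over.map (Spec.map (CommRingCat.ofHom (algebraMap k K)))).op ⋙ P) ≤ EssDim.ed P := by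
  classical
  unfold EssDim.ed
  refine iSup_le fun L => iSup_le fun hL => iSup_le fun hLA => iSup_le fun ξ => ?_
  letI : Algebra k L := Algebra.compHom L (algebraMap k K)
  haveI : IsScalarTower k K L := IsScalarTower.of_algebraMap_eq fun _ => rfl
  let φ := Spec.map (CommRingCat.ofHom (algebraMap k K))
  let η : ∀ (M : Type u) [Field M] [Algebra K M] [Algebra k M] [IsScalarTower k K M],
      (Over.map φ).obj (SGA7.pt (K := K) M) ≅ SGA7.pt (K := k) M := fun M _ _ _ _ =>
    Over.isoMk (Iso.refl _) (by
      change 𝟙 _ ≫ Spec.map (CommRingCat.ofHom (algebraMap k M)) =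
        Spec.map (CommRingCat.ofHom (algebraMap K M)) ≫ Spec.map (CommRingCat.ofHom (algebraMap k K))
      rw [Category.id_comp, ← Spec.map_comp, ← CommRingCat.ofHom_comp,
        ← IsScalarTower.algebraMap_eq k K M])
  let ξ' : EssDim.FPt P L := P.map (η L).inv.op ξ
  refine le_trans ?_ (EssDim.edAt_le_ed ξ')
  rw [WithBot.coe_le_coe]
  refine le_iInf fun E => ?_
  obtain ⟨ξ₀, hξ₀⟩ := E.2
  let F : IntermediateField K L := IntermediateField.adjoin K (E.1 : Set L)
  have hEF : E.1 ≤ F.restrictScalars k := fun x hx => IntermediateField.subset_adjoin K _ hx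
  let j : E.1 →ₐ[k] F :=
    { toFun := fun x => ⟨x.1, hEF x.2⟩
      map_one' := rfl
      map_mul' := fun _ _ => rfl
      map_zero' := rfl
      map_add' := fun _ _ => rfl
      commutes' := fun r => Subtype.ext (IsScalarTower.algebraMap_apply k K L r) }
  have hdesc : EssDim.Descends ((Over.map φ).op ⋙ P) ξ F := by
    refine ⟨P.map (η F).hom.op (EssDim.fmap j ξ₀), ?_⟩
    have hnat : (Over.map φ).map (EssDim.resPt F.val) ≫ (η F).hom ≫ EssDim.resPt j =
        (η L).hom ≫ EssDim.resPt E.1.val := by
      ext : 1
      simp only [η, Over.comp_left, Over.map_map_left, EssDim.resPt_left, Over.isoMk_hom_left,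
        Iso.refl_hom]
      erw [Category.id_comp, Category.id_comp]
      rw [← Spec.map_comp]
      rfl
    change (P.map (EssDim.resPt j).op ≫ P.map (η F).hom.op ≫
      P.map ((Over.map φ).map (EssDim.resPt F.val)).op) ξ₀ = ξ
    rw [← P.map_comp, ← P.map_comp, ← op_comp, ← op_comp, Category.assoc, hnat, op_comp, P.map_comp]
    change P.map (η L).hom.op (EssDim.fmap E.1.val ξ₀) = ξ
    rw [hξ₀]
    change (P.map (η L).inv.op ≫ P.map (η L).hom.op) ξ = ξ
    rw [← P.map_comp, ← op_comp, Iso.hom_inv_id, op_id, P.map_id]
    rfl
  refine (EssDim.edAt_le_of_descends hdesc).trans ?_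
  refine OrderHomClass.mono Cardinal.toENat ?_
  -- the compositum has transcendence degree at most that of `E`
  let s : Set F := Set.range j
  have himg : F.val '' s = (E.1 : Set L) := by
    ext x
    constructor
    · rintro ⟨_, ⟨y, rfl⟩, rfl⟩
      exact y.2
    · intro hx
      exact ⟨j ⟨x, hx⟩, ⟨_, rfl⟩, rfl⟩
  haveI : Algebra.IsAlgebraic (Algebra.adjoin K s) F := by
    refine ⟨fun x => ?_⟩
    obtain ⟨r, hr, d, hd, hx⟩ := IntermediateField.mem_adjoin_iff_div.1 x.2
    rw [← himg, ← AlgHom.map_adjoin] at hr hd
    obtain ⟨r, hr', rfl⟩ := hr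
    obtain ⟨d, hd', rfl⟩ := hd
    by_cases hd0 : d = 0
    · have : x = 0 := Subtype.ext (by rw [hx, hd0]; simp)
      rw [this]
      exact isAlgebraic_zero
    · refine ⟨Polynomial.C (⟨d, hd'⟩ : Algebra.adjoin K s) * Polynomial.X -
        Polynomial.C ⟨r, hr'⟩, fun h => hd0 ?_, ?_⟩
      · have := congrArg (fun q => Polynomial.coeff q 1) h
        simpa using congrArg Subtype.val (by simpa using this :
          (⟨d, hd'⟩ : Algebra.adjoin K s) = 0)
      · simp only [map_sub, map_mul, Polynomial.aeval_C, Polynomial.aeval_X]
        have hd0' : (d : L) ≠ 0 := fun h => hd0 (Subtype.ext h)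
        apply Subtype.ext
        change (d : L) * (x : L) - (r : L) = 0
        rw [hx]
        change (d : L) * ((r : L) / (d : L)) - (r : L) = 0
        field_simp
        ring
  obtain ⟨t, hts, ht⟩ := exists_isTranscendenceBasis_subset (R := K) s
  rw [← ht.cardinalMk_eq_trdeg]
  have hind : AlgebraicIndependent k (fun z : t => (z : F)) :=
    ht.1.restrictScalars (algebraMap k K).injective
  choose g hg using fun z : t => hts z.2
  exact (AlgebraicIndependent.of_comp j (x := g) (by
    rw [show (j : E.1 → F) ∘ g = fun z : t => (z : F) from funext hg]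
    exact hind)).cardinalMk_le_trdeg

end Groth.Agent.S19741
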