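import Groth.Statements.S19748
import Groth.Agent.SegreDim.SegreCor

set_option autoImplicit false
universe u
open scoped TensorProduct
open GrSegre

namespace Groth.Agent.S19748

open Groth.Agent.SegreDim

/-- Let R and S be graded rings defined over a field k with Segre product T = R # S, M a graded R-module
and N a graded S-module. Suppose that multiplication by some homogeneous element f ∈ R_d of positive
degree d is bijective on M and multiplication by some homogeneous g ∈ S_e of positive degree e is
bijective on N. Then multiplication by some homogeneous element of T of positive degree is bijective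
on M # N. Here a graded ring defined over k is a commutative k-algebra of finite type, graded in
nonnegative degrees by k-subspaces with degree-zero part k·1; the Segre product T = R # S = ⊕_n R_n
⊗_k S_n is presented abstractly as a graded k-algebra T with an injective k-algebra homomorphism ψ :
T → R ⊗_k S carrying T_n onto the k-span of the elementary tensors a ⊗ b with a ∈ R_n, b ∈ S_n; the
Segre product M # N = ⊕_n M_n ⊗_k N_n of a graded R-module M and a graded S-module N is presented
abstractly as a graded T-module P with an injective k-linear map φ : P → M ⊗_k N carrying P_n onto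
the k-span of the tensors x ⊗ y with x ∈ M_n, y ∈ N_n and turning the action of t ∈ T into that of
ψ(t) (acting factorwise on M ⊗_k N). -/
theorem result (k : Type u) [Field k] (R : Type u) [CommRing R] [Algebra k R] (𝒜 : ℤ → Submodule k R) [GradedAlgebra 𝒜] (hposR : ∀ n : ℤ, n < 0 → 𝒜 n = ⊥) (h0R : 𝒜 0 = Submodule.span k {(1 : R)}) [Algebra.FiniteType k R] (S : Type u) [CommRing S] [Algebra k S] (ℬ : ℤ → Submodule k S) [GradedAlgebra ℬ] (hposS : ∀ n : ℤ, n < 0 → ℬ n = ⊥) (h0S : ℬ 0 = Submodule.span k {(1 : S)}) [Algebra.FiniteType k S] (T : Type u) [CommRing T] [Algebra k T] (𝒯 : ℤ → Submodule k T) [GradedAlgebra 𝒯] (ψ : T →ₐ[k] TensorProduct k R S) (hT : GrSeg.IsSegreRing 𝒜 ℬ 𝒯 ψ) (M : Type u) [AddCommGroup M] [Module R M] [Module k M] [IsScalarTower k R M] (ℳ : ℤ → AddSubgroup M) [DirectSum.Decomposition ℳ] [SetLike.GradedSMul 𝒜 ℳ] (N : Type u) [AddCommGroup N] [Module S N] [Module k N] [IsScalarTower k S N] (𝒩 : ℤ → AddSubgroup N) [DirectSum.Decomposition 𝒩] [SetLike.GradedSMul ℬ 𝒩] (P : Type u) [AddCommGroup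 P] [Module T P] [Module k P] [IsScalarTower k T P] (𝒬 : ℤ → AddSubgroup P) [DirectSum.Decomposition 𝒬] (φ : P →ₗ[k] TensorProduct k M N) (hP : GrSeg.IsSegreMod ψ ℳ 𝒩 𝒬 φ) (d : ℕ) (hd : 0 < d) (f : R) (hf : f ∈ 𝒜 (d : ℤ)) (hfM : Function.Bijective (fun x : M => f • x)) (e : ℕ) (he : 0 < e) (g : S) (hg : g ∈ ℬ (e : ℤ)) (hgN : Function.Bijective (fun y : N => g • y)) : ∃ (c : ℤ) (t : T), 0 < c ∧ t ∈ 𝒯 c ∧ Function.Bijective (fun p : P => t • p) := by
  classical
  have hfe : f ^ e ∈ 𝒜 ((d : ℤ) * e) := by
    have := SetLike.pow_mem_graded e hf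
    rwa [nsmul_eq_mul, mul_comm] at this
  have hgd : g ^ d ∈ ℬ ((d : ℤ) * e) := by
    have := SetLike.pow_mem_graded d hg
    rwa [nsmul_eq_mul] at this
  obtain ⟨t, ht, hψ⟩ : (f ^ e) ⊗ₜ[k] (g ^ d) ∈ (𝒯 ((d : ℤ) * e)).map ψ.toLinearMap := by
    rw [hT.2]; exact Submodule.subset_span ⟨_, hfe, _, hgd, rfl⟩
  have hψ : ψ t = (f ^ e) ⊗ₜ[k] (g ^ d) := hψ
  have hbf : Function.Bijective (Algebra.lsmul k k M (f ^ e)) := by
    show Function.Bijective (fun x : M => f ^ e • x)
    rw [← smul_iterate]; exact hfM.iterate e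
  have hbg : Function.Bijective (Algebra.lsmul k k N (g ^ d)) := by
    show Function.Bijective (fun x : N => g ^ d • x)
    rw [← smul_iterate]; exact hgN.iterate d
  have hact : ∀ z, GrSeg.act k R S M N (ψ t) z =
      TensorProduct.congr (LinearEquiv.ofBijective _ hbf) (LinearEquiv.ofBijective _ hbg) z := by
    intro z
    rw [hψ]
    induction z using TensorProduct.induction_on with
    | zero => simp
    | tmul a b => simp only [GrSeg.act_tmul, TensorProduct.congr_tmul, LinearEquiv.ofBijective_apply]; simp [← map_pow]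
    | add a b ha hb => simp only [map_add, ha, hb]
  refine ⟨(d : ℤ) * e, t, by positivity, ht, fun p q hpq => ?_, fun p => ?_⟩
  · have h := congrArg φ hpq
    rw [hP.map_smul, hP.map_smul, hact, hact] at h
    exact hP.injective ((LinearEquiv.injective _) h)
  · obtain ⟨w, hw⟩ := exists_retraction (𝒜 := 𝒜) (ℬ := ℬ) ψ φ hP
    refine ⟨w ((TensorProduct.congr (LinearEquiv.ofBijective _ hbf) (LinearEquiv.ofBijective _ hbg)).symm (φ p)),
      hP.injective ?_⟩
    rw [hP.map_smul, hw, ← act_diagProjM (𝒯 := 𝒯) ψ hT, hact, LinearEquiv.apply_symm_apply,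
      diagProjM_map ψ φ hP]

end Groth.Agent.S19748
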