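import Groth.Statements.S1975
import Groth.Agent.S0736
import Groth.Agent.HenselLib.IndEtale
import Groth.Agent.HenselLib.HenselizationLocal
import Groth.Agent.WEtaleVal.Etale

set_option autoImplicit false
set_option linter.style.haveILetI false
universe u
open EtAlg

namespace Groth.Agent.S1975

/-- Let A be a valuation ring and S a henselization or strict henselization of A. Then S is a valuation
ring, A -> S is injective, and every nonzero element of S is a unit multiple of the image of an
element of A (the value groups agree). -/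
theorem result (A S : Type u) [CommRing A] [IsDomain A] [ValuationRing A] [CommRing S]
    [IsLocalRing S] [Algebra A S] [IsLocalHom (algebraMap A S)]
    (h : Hensel.IsHenselization A S ∨ Hensel.IsStrictHenselization A S) :
    IsDomain S ∧ (∀ _ : IsDomain S, ValuationRing S) ∧ Function.Injective (algebraMap A S) ∧
      ∀ s : S, s ≠ 0 → ∃ (a : A) (u : Sˣ), s = u * algebraMap A S a := by
  obtain ⟨K, _, _, ρ, hc⟩ : ∃ (K : Type u) (_ : Field K) (_ : Algebra A K) (ρ : S →ₐ[A] K),
      Groth.Agent.HenselLib.IsNbhdColim A K S ρ := by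
    rcases h with h | h
    · haveI := h
      obtain ⟨ρ, hρ⟩ := Groth.Agent.HenselLib.exists_colim_of_isHenselization A S
      exact ⟨_, _, _, ρ, hρ⟩
    · haveI := h
      exact ⟨_, _, _, _, Groth.Agent.HenselLib.exists_colim_of_isStrictHenselization A S⟩
  haveI : Algebra.WeaklyEtale A S := Groth.Agent.S0736.result A S hc.isIndEtale
  haveI := Groth.Agent.WEtaleVal.isDomain A (C := S)
  refine ⟨‹_›, fun _ => Groth.Agent.WEtaleVal.valuationRing A, Groth.Agent.WEtaleVal.injective A,
    fun s hs => ?_⟩
  obtain ⟨C, _, _, _, τ, c, rfl⟩ := hc.exists_rep s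
  obtain ⟨P, hP, hPc⟩ := Groth.Agent.WEtaleVal.exists_aeval_eq_zero (R := A) c
  obtain ⟨a, w, hw⟩ := Groth.Agent.WEtaleVal.exists_unit_mul_of_aeval (V := A) hs
    (Groth.Agent.WEtaleVal.injective A) P hP
    (by rw [Polynomial.aeval_algHom_apply, hPc, map_zero])
  exact ⟨a, w, hw⟩

end Groth.Agent.S1975
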