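import Groth.Statements.S19750
import Groth.Agent.SegreDim.SegreCor

set_option autoImplicit false
universe u
open scoped TensorProduct
open GrSegre

namespace Groth.Agent.S19750

open Groth.Agent.SegreDim TensorProduct

/-- Let R and S be graded rings defined over a field k, both generated over k by their degree-one parts
and of positive Krull dimension, T = R # S with irrelevant ideal T_+, and let a ≥ b be integers.
Then the number of generators ν_T(R(a) # S(b)) = dim_k (R(a) # S(b)) / T_+ (R(a) # S(b)) equals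
dim_k R_{a−b}. Here a graded ring defined over k is a commutative k-algebra of finite type, graded
in nonnegative degrees by k-subspaces with degree-zero part k·1; the Segre product T = R # S = ⊕_n
R_n ⊗_k S_n is presented abstractly as a graded k-algebra T with an injective k-algebra homomorphism
ψ : T → R ⊗_k S carrying T_n onto the k-span of the elementary tensors a ⊗ b with a ∈ R_n, b ∈ S_n;
the Segre product R(a) # S(b) = ⊕_n R_{n+a} ⊗_k S_{n+b} of the shifted modules is presented
abstractly as a graded T-module P with an injective k-linear map φ : P → R ⊗_k S carrying P_n onto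
the k-span of the tensors x ⊗ y with x ∈ R_{n+a}, y ∈ S_{n+b} and turning the action of t ∈ T into
that of ψ(t); T_+ is the ideal spanned by the T_n with n > 0. -/
theorem result (k : Type u) [Field k] (R : Type u) [CommRing R] [Algebra k R] (𝒜 : ℤ → Submodule k R) [GradedAlgebra 𝒜] (hposR : ∀ n : ℤ, n < 0 → 𝒜 n = ⊥) (h0R : 𝒜 0 = Submodule.span k {(1 : R)}) [Algebra.FiniteType k R] (S : Type u) [CommRing S] [Algebra k S] (ℬ : ℤ → Submodule k S) [GradedAlgebra ℬ] (hposS : ∀ n : ℤ, n < 0 → ℬ n = ⊥) (h0S : ℬ 0 = Submodule.span k {(1 : S)}) [Algebra.FiniteType k S] (T : Type u) [CommRing T] [Algebra k T] (𝒯 : ℤ → Submodule k T) [GradedAlgebra 𝒯] (ψ : T →ₐ[k] TensorProduct k R S) (hT : GrSeg.IsSegreRing 𝒜 ℬ 𝒯 ψ) (hstdR : Ideal.span (⋃ n ∈ Set.Ioi (0 : ℤ), (𝒜 n : Set R)) = Ideal.span ((𝒜 1 : Submodule k R) : Set R)) (hstdS : Ideal.span (⋃ n ∈ Set.Ioi (0 : ℤ), (ℬ n : Set S)) = Ideal.span ((ℬ 1 : Submodule k S) : Set S)) (hr1 : 1 ≤ ringKrullDim R) (hs1 : 1 ≤ ringKrullDim S) (mT : HomogeneousIdeal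 𝒯) (hmT : mT.toIdeal = Ideal.span (⋃ n ∈ Set.Ioi (0 : ℤ), (𝒯 n : Set T))) (a b : ℤ) (hab : b ≤ a) (P : Type u) [AddCommGroup P] [Module T P] [Module k P] [IsScalarTower k T P] (𝒬 : ℤ → AddSubgroup P) [DirectSum.Decomposition 𝒬] (φ : P →ₗ[k] TensorProduct k R S) (hP : GrSeg.IsSegreMod ψ (fun n : ℤ => 𝒜 (n + a)) (fun n : ℤ => ℬ (n + b)) 𝒬 φ) : Module.finrank k (P ⧸ (mT.toIdeal • (⊤ : Submodule T P))) = Module.finrank k (𝒜 (a - b)) := by
  classical
  have hA : IsStd 𝒜 := ⟨hposR, h0R⟩
  have hB : IsStd ℬ := ⟨hposS, h0S⟩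
  have : Nontrivial S := by
    by_contra h
    rw [not_nontrivial_iff_subsingleton] at h
    rw [ringKrullDim_eq_bot_of_subsingleton] at hs1
    exact absurd hs1 (by simp)
  set J : Submodule T P := mT.toIdeal • ⊤
  let V : Submodule k (R ⊗[k] S) := (J.restrictScalars k).map φ
  have hVpos : ∀ m : ℤ, -b ≤ m →
      GrSeg.segrePiece k (fun n : ℤ => 𝒜 (n + a)) (fun n : ℤ => ℬ (n + b)) (m + 1) ≤ V := by
    intro m hm
    rw [GrSeg.segrePiece, Submodule.span_le]
    rintro _ ⟨x, hx, y, hy, rfl⟩
    have hx' := le_span_one_mul (pos_le_of_std hstdR) (j := m + a) (by omega)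
      (show x ∈ 𝒜 (m + a + 1) by rwa [add_right_comm])
    have hy' := le_span_one_mul (pos_le_of_std hstdS) (j := m + b) (by omega)
      (show y ∈ ℬ (m + b + 1) by rwa [add_right_comm])
    show x ⊗ₜ[k] y ∈ V
    clear hx hy
    induction hx' using Submodule.span_induction with
    | mem x hx =>
      induction hy' using Submodule.span_induction with
      | mem y hy =>
        obtain ⟨u, hu, r, hr, rfl⟩ := hx
        obtain ⟨v, hv, s, hs, rfl⟩ := hy
        obtain ⟨t, ht, hψ⟩ : u ⊗ₜ[k] v ∈ (𝒯 1).map ψ.toLinearMap := by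
          rw [hT.2]; exact Submodule.subset_span ⟨u, hu, v, hv, rfl⟩
        obtain ⟨q, -, hq⟩ : r ⊗ₜ[k] s ∈ φ '' (𝒬 m : Set P) := by
          rw [hP.image_piece]; exact Submodule.subset_span ⟨r, hr, s, hs, rfl⟩
        have htJ : t ∈ mT.toIdeal := by
          rw [hmT]
          exact Ideal.subset_span (Set.mem_iUnion₂.2 ⟨1, Set.mem_Ioi.2 one_pos, ht⟩)
        have hφ : φ (t • q) = (u * r) ⊗ₜ[k] (v * s) := by
          rw [hP.map_smul t q, hq, show ψ t = u ⊗ₜ[k] v from hψ, GrSeg.act_tmul]
          rfl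
        have htq : t • q ∈ J := Submodule.smul_mem_smul htJ Submodule.mem_top
        rw [← hφ]
        exact Submodule.mem_map_of_mem (f := φ) (p := J.restrictScalars k) htq
      | zero => rw [tmul_zero]; exact zero_mem _
      | add _ _ _ _ h1 h2 => rw [tmul_add]; exact add_mem h1 h2
      | smul c _ _ h => rw [tmul_smul]; exact V.smul_mem c h
    | zero => rw [zero_tmul]; exact zero_mem _
    | add _ _ _ _ h1 h2 => rw [add_tmul]; exact add_mem h1 h2
    | smul c _ _ h => rw [← smul_tmul']; exact V.smul_mem c h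
  obtain ⟨w, hw⟩ : ∃ w : 𝒜 (a - b) →ₗ[k] P, ∀ r, φ (w r) = (r : R) ⊗ₜ[k] (1 : S) := by
    have hmem : ∀ r : 𝒜 (a - b), (r : R) ⊗ₜ[k] (1 : S) ∈ LinearMap.range φ := fun r => by
      have h : (r : R) ⊗ₜ[k] (1 : S) ∈ φ '' (𝒬 (-b) : Set P) := by
        rw [hP.image_piece]
        exact Submodule.subset_span ⟨r, by show (r : R) ∈ 𝒜 (-b + a); rw [neg_add_eq_sub]; exact r.2,
          1, by show (1 : S) ∈ ℬ (-b + b); rw [neg_add_cancel]; exact SetLike.one_mem_graded ℬ, rfl⟩
      obtain ⟨q, -, hq⟩ := h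
      exact ⟨q, hq⟩
    let L := LinearMap.codRestrict (LinearMap.range φ)
      (((TensorProduct.mk k R S).flip 1).comp (𝒜 (a - b)).subtype) hmem
    refine ⟨(LinearEquiv.ofInjective φ hP.injective).symm.toLinearMap ∘ₗ L, fun r => ?_⟩
    exact congrArg Subtype.val ((LinearEquiv.ofInjective φ hP.injective).apply_symm_apply (L r))
  let Θ : 𝒜 (a - b) →ₗ[k] P ⧸ J := (J.mkQ.restrictScalars k) ∘ₗ w
  let pr : R ⊗[k] S →ₗ[k] R ⊗[k] S := TensorProduct.map
    ((𝒜 (a - b)).subtype ∘ₗ (DirectSum.component k ℤ (fun i => 𝒜 i) (a - b)) ∘ₗ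
      (DirectSum.decomposeLinearEquiv 𝒜).toLinearMap)
    ((ℬ 0).subtype ∘ₗ (DirectSum.component k ℤ (fun i => ℬ i) 0) ∘ₗ
      (DirectSum.decomposeLinearEquiv ℬ).toLinearMap)
  have hpr : ∀ r s, pr (r ⊗ₜ[k] s) =
      (DirectSum.decompose 𝒜 r (a - b) : R) ⊗ₜ[k] (DirectSum.decompose ℬ s 0 : S) := fun _ _ => rfl
  have hkill : ∀ n : ℤ, 0 < n → ∀ t ∈ 𝒯 n, ∀ z, pr (GrSeg.act k R S R S (ψ t) z) = 0 := by
    intro n hn t ht z
    have hmem : ψ t ∈ GrSeg.segrePiece k 𝒜 ℬ n := hT.2 n ▸ ⟨t, ht, rfl⟩
    rw [GrSeg.segrePiece] at hmem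
    generalize ψ t = u at hmem
    induction hmem using Submodule.span_induction with
    | mem u hu =>
      obtain ⟨c, hc, e, he, rfl⟩ := hu
      induction z using TensorProduct.induction_on with
      | zero => simp
      | add _ _ h1 h2 => simp only [map_add, h1, h2, add_zero]
      | tmul r s =>
        rw [GrSeg.act_tmul, hpr, smul_eq_mul, smul_eq_mul, proj_mul s he,
          hB.eq_zero (show (0 : ℤ) - n < 0 by omega) (Submodule.coe_mem _), mul_zero, tmul_zero]
    | zero => simp
    | add _ _ _ _ h1 h2 => simp only [map_add, LinearMap.add_apply, h1, h2, add_zero]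
    | smul c _ _ h => simp only [map_smul, LinearMap.smul_apply, h, smul_zero]
  have hJ' : ∀ q ∈ J, pr (φ q) = 0 := by
    intro q hq
    refine Submodule.smul_induction_on hq (fun t ht q _ => ?_) (fun x y hx hy => by
      rw [map_add, map_add, hx, hy, add_zero])
    rw [hmT] at ht
    rw [hP.map_smul]
    refine Submodule.span_induction (p := fun t _ => ∀ z, pr (GrSeg.act k R S R S (ψ t) z) = 0)
      ?_ ?_ ?_ ?_ ht (φ q)
    · intro t ht z
      obtain ⟨n, hn, htn⟩ := Set.mem_iUnion₂.1 ht
      exact hkill n (Set.mem_Ioi.1 hn) t htn z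
    · intro z; simp
    · intro x y _ _ hx hy z; simp only [map_add, LinearMap.add_apply, hx, hy, add_zero]
    · intro c x _ hx z
      have hmul : ∀ u v z, GrSeg.act k R S R S (u * v) z =
          GrSeg.act k R S R S u (GrSeg.act k R S R S v z) := by
        intro u v z
        induction u using TensorProduct.induction_on with
        | zero => simp
        | add _ _ h1 h2 => simp only [add_mul, map_add, LinearMap.add_apply, h1, h2]
        | tmul u₁ u₂ =>
          induction v using TensorProduct.induction_on with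
          | zero => simp
          | add _ _ h1 h2 => simp only [mul_add, map_add, LinearMap.add_apply, h1, h2]
          | tmul v₁ v₂ =>
            induction z using TensorProduct.induction_on with
            | zero => simp
            | add _ _ h1 h2 => simp only [map_add, h1, h2]
            | tmul z₁ z₂ => simp [GrSeg.act_tmul, mul_assoc]
      rw [smul_eq_mul, mul_comm, map_mul, hmul, hx]
  have hinj : Function.Injective Θ := by
    rw [← LinearMap.ker_eq_bot, LinearMap.ker_eq_bot']
    intro r hr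
    have h := hJ' _ ((Submodule.Quotient.mk_eq_zero J).1 hr)
    rw [hw, hpr, DirectSum.decompose_of_mem_same 𝒜 r.2,
      DirectSum.decompose_of_mem_same ℬ (SetLike.one_mem_graded ℬ)] at h
    refine Subtype.ext (Algebra.TensorProduct.includeLeft_injective (S := k) (A := R) (B := S)
      (algebraMap k S).injective ?_)
    simpa using h
  have hsurj : Function.Surjective Θ := by
    intro Q
    obtain ⟨q, rfl⟩ := J.mkQ_surjective Q
    induction q using DirectSum.Decomposition.inductionOn 𝒬 with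
    | zero => exact ⟨0, by simp⟩
    | add x y hx hy =>
      obtain ⟨r, hr⟩ := hx; obtain ⟨s, hs⟩ := hy
      exact ⟨r + s, by rw [map_add, hr, hs, map_add]⟩
    | @homogeneous m q =>
      suffices h : φ q ∈ (LinearMap.range w).map φ ⊔ V by
        obtain ⟨_, ⟨_, ⟨r, rfl⟩, rfl⟩, _, ⟨j, hj, rfl⟩, hsum⟩ := Submodule.mem_sup.1 h
        refine ⟨r, ?_⟩
        have : (q : P) = w r + j := hP.injective (by rw [map_add, hsum])
        rw [this]
        show J.mkQ (w r) = J.mkQ (w r + j)
        rw [map_add, (Submodule.Quotient.mk_eq_zero J).2 hj |> fun h => (show J.mkQ j = 0 from h),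
          add_zero]
      have hmem : φ q ∈ (GrSeg.segrePiece k (fun n : ℤ => 𝒜 (n + a)) (fun n : ℤ => ℬ (n + b)) m :
          Set (R ⊗[k] S)) := hP.image_piece m ▸ Set.mem_image_of_mem φ q.2
      rcases lt_trichotomy m (-b) with hm | hm | hm
      · refine Submodule.mem_sup_left ?_
        have hle : GrSeg.segrePiece k (fun n : ℤ => 𝒜 (n + a)) (fun n : ℤ => ℬ (n + b)) m ≤
            (LinearMap.range w).map φ := by
          rw [GrSeg.segrePiece, Submodule.span_le]
          rintro _ ⟨x, -, y, hy, rfl⟩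
          rw [hB.eq_zero (show m + b < 0 by omega) hy, tmul_zero]
          exact zero_mem _
        exact hle hmem
      · refine Submodule.mem_sup_left ?_
        have hle : GrSeg.segrePiece k (fun n : ℤ => 𝒜 (n + a)) (fun n : ℤ => ℬ (n + b)) m ≤
            (LinearMap.range w).map φ := by
          rw [GrSeg.segrePiece, Submodule.span_le]
          rintro _ ⟨x, hx, y, hy, rfl⟩
          subst hm
          have hy0 : y ∈ ℬ 0 := by simpa using hy
          obtain ⟨c, rfl⟩ := hB.exists_scalar hy0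
          have hx0 : x ∈ 𝒜 (a - b) := by
            have hx' : x ∈ 𝒜 (-b + a) := hx
            rwa [neg_add_eq_sub] at hx'
          rw [tmul_smul]
          exact Submodule.smul_mem _ c ⟨w ⟨x, hx0⟩, ⟨_, rfl⟩, hw _⟩
        exact hle hmem
      · refine Submodule.mem_sup_right ?_
        have := hVpos (m - 1) (by omega)
        rw [sub_add_cancel] at this
        exact this hmem
  exact (LinearEquiv.ofBijective Θ ⟨hinj, hsurj⟩).finrank_eq.symm

end Groth.Agent.S19750
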