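import Groth.Statements.S19751
import Groth.Agent.GrDual.Dual
-- import your own Groth.Agent.* helpers here

set_option autoImplicit false
universe u
open GrDual

set_option linter.unusedVariables false

namespace Groth.Agent.S19751

/-- Let R be a graded ring defined over a field k with m = R_+, let F and M be finitely generated graded
R-modules and f : F → M a surjective homomorphism of graded R-modules, with dual f^* : M^* → F^* on
graded k-duals. Then f is minimal, that is Ker f ⊆ m F, if and only if f^* is essential: an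
injective homomorphism of graded modules such that every nonzero graded submodule of F^* meets its
image. Here a graded ring defined over k is a commutative k-algebra of finite type, graded in
nonnegative degrees by k-subspaces with degree-zero part k·1, and R_+ is the ideal spanned by the
R_n with n > 0; the graded k-dual M^* = ⊕_n Hom_k(M_{−n}, k) of a graded R-module M (with r ∈ R
acting by (r f)(x) = f(r x)) is presented abstractly as a graded R-module D with a k-bilinear
pairing β : D × M → k compatible with the R-actions, under which D_n pairs to zero with M_m for m ≠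
−n and is identified with the full dual space of M_{−n}; f^* is presented as the R-linear map g :
M^* → F^* with β_F(g d, x) = β_M(d, f x). -/
theorem result (k : Type u) [Field k] (R : Type u) [CommRing R] [Algebra k R] (𝒜 : ℤ → Submodule k R) [GradedAlgebra 𝒜] (hposR : ∀ n : ℤ, n < 0 → 𝒜 n = ⊥) (h0R : 𝒜 0 = Submodule.span k {(1 : R)}) [Algebra.FiniteType k R] (mR : HomogeneousIdeal 𝒜) (hmR : mR.toIdeal = Ideal.span (⋃ n ∈ Set.Ioi (0 : ℤ), (𝒜 n : Set R))) (F : Type u) [AddCommGroup F] [Module R F] [Module k F] [IsScalarTower k R F] (ℱ : ℤ → AddSubgroup F) [DirectSum.Decomposition ℱ] [SetLike.GradedSMul 𝒜 ℱ] [Module.Finite R F] (M : Type u) [AddCommGroup M] [Module R M] [Module k M] [IsScalarTower k R M] (ℳ : ℤ → AddSubgroup M) [DirectSum.Decomposition ℳ] [SetLike.GradedSMul 𝒜 ℳ] [Module.Finite R M] (f : F →ₗ[R] M) (hf : Function.Surjective f) (hfgr : GrLC.IsGrHom ℱ ℳ f) (DM : Type u) [AddCommGroup DM] [Module R DM] [Module k DM] [IsScalarTower k R DM] (𝒟M : ℤ → AddSubgroup DM) [DirectSum.Decomposition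 𝒟M] [SetLike.GradedSMul 𝒜 𝒟M] (βM : DM →ₗ[k] M →ₗ[k] k) (hDM : GrSeg.IsGDual R ℳ 𝒟M βM) (DF : Type u) [AddCommGroup DF] [Module R DF] [Module k DF] [IsScalarTower k R DF] (𝒟F : ℤ → AddSubgroup DF) [DirectSum.Decomposition 𝒟F] [SetLike.GradedSMul 𝒜 𝒟F] (βF : DF →ₗ[k] F →ₗ[k] k) (hDF : GrSeg.IsGDual R ℱ 𝒟F βF) (g : DM →ₗ[R] DF) (hg : GrSeg.IsGDualMap βM βF f g) : LinearMap.ker f ≤ mR.toIdeal • (⊤ : Submodule R F) ↔ GrLC.IsStarEss 𝒟M 𝒟F g := by
  classical
  have : IsNoetherianRing R := Algebra.FiniteType.isNoetherianRing k R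
  have hinj := GrDual.beta_injective hDF
  have hginj : Function.Injective g := by
    refine (injective_iff_map_eq_zero g).mpr fun e he => GrDual.beta_injective hDM (LinearMap.ext fun x => ?_)
    obtain ⟨x, rfl⟩ := hf x
    rw [← hg e x, he]
    simp
  have hggr : GrLC.IsGrHom 𝒟M 𝒟F g := fun n e he => GrDual.dual_mem_piece hDF fun m hm x hx => by
    rw [hg e x]; exact hDM.vanish n e he m hm _ (hfgr m x hx)
  have hmF : ∀ (n : ℤ), ∀ x ∈ mR.toIdeal • (⊤ : Submodule R F), GrDual.pr ℱ n x ∈ mR.toIdeal • (⊤ : Submodule R F) := by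
    intro n x hx
    refine Submodule.smul_induction_on hx (fun r hr y _ => ?_) (fun a b ha hb => by rw [map_add]; exact add_mem ha hb)
    rw [← GrDual.sum_supp 𝒜 r, Finset.sum_smul, map_sum]
    refine Submodule.sum_mem _ fun a _ => ?_
    rw [GrDual.pr_smul (GrDual.pr_mem 𝒜 a r)]
    exact Submodule.smul_mem_smul (mR.isHomogeneous a hr) trivial
  have hscal : ∀ r : R, ∃ c : k, r - algebraMap k R c ∈ mR.toIdeal := by
    intro r
    induction r using DirectSum.Decomposition.inductionOn 𝒜 with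
    | zero => exact ⟨0, by simp⟩
    | add a b ha hb =>
      obtain ⟨c, hc⟩ := ha
      obtain ⟨c', hc'⟩ := hb
      exact ⟨c + c', by rw [map_add, add_sub_add_comm]; exact add_mem hc hc'⟩
    | homogeneous r =>
      rename_i i
      rcases lt_trichotomy i 0 with h | h | h
      · exact ⟨0, by simp [GrDual.eq_zero_of_neg hposR h r.2]⟩
      · subst h
        have hr2 : (r : R) ∈ Submodule.span k {(1 : R)} := h0R ▸ (show (r : R) ∈ 𝒜 0 from r.2)
        obtain ⟨c, hc⟩ := Submodule.mem_span_singleton.mp hr2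
        exact ⟨c, by rw [← hc, Algebra.smul_def, mul_one, sub_self]; exact zero_mem _⟩
      · refine ⟨0, ?_⟩
        rw [map_zero, sub_zero, hmR]
        exact Ideal.subset_span (Set.mem_biUnion (show i ∈ Set.Ioi (0:ℤ) from h) r.2)
  constructor
  · intro hker
    refine ⟨hginj, hggr, fun P hP hP0 hbot => ?_⟩
    obtain ⟨y, hy, hy0⟩ := (Submodule.ne_bot_iff P).mp hP0
    obtain ⟨n₀, hn₀⟩ : ∃ n, GrDual.pr 𝒟F n y ≠ 0 := by
      by_contra h
      push Not at h
      exact hy0 (GrDual.eq_zero_of_pr 𝒟F h)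
    obtain ⟨b, hb⟩ := GrDual.exists_lower_bound (M := F) (ℳ := ℱ) hposR h0R
    let S : Set ℤ := {n | ∃ d ∈ P, d ∈ 𝒟F n ∧ d ≠ 0}
    obtain ⟨n, ⟨d, hdP, hdn, hd0⟩, hmax⟩ := Int.exists_greatest_of_bdd (P := fun n => n ∈ S)
      ⟨-b, fun n ⟨d, _, hd, hd0⟩ => by
        by_contra h
        exact hd0 (GrDual.dual_bound hDF (hb (-n) (by omega)) hd)⟩
      ⟨n₀, _, hP n₀ hy, GrDual.pr_mem 𝒟F n₀ y, hn₀⟩
    have hkill : mR.toIdeal • (⊤ : Submodule R F) ≤ GrDual.perp hDF (Submodule.span R {d}) := by
      rw [Submodule.smul_le]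
      intro r hr x _ e he
      obtain ⟨a, rfl⟩ := Submodule.mem_span_singleton.mp he
      have hrd : r • d = 0 := by
        have hle : Ideal.span (⋃ i ∈ Set.Ioi (0 : ℤ), (𝒜 i : Set R)) ≤ LinearMap.ker (LinearMap.toSpanSingleton R DF d) := by
          rw [Ideal.span_le]
          intro s hs
          simp only [Set.mem_iUnion] at hs
          obtain ⟨i, hi, hs⟩ := hs
          show s • d = 0
          by_contra hne
          have : i + n ≤ n := hmax _ ⟨s • d, P.smul_mem s hdP, GrDual.smul_mem (𝒜 := 𝒜) hs hdn, hne⟩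
          have : (0 : ℤ) < i := hi
          omega
        exact hle (hmR ▸ hr)
      rw [← hDF.map_smul, smul_comm, hrd, smul_zero, map_zero, LinearMap.zero_apply]
    have hvan : ∀ x, f x = 0 → βF d x = 0 := fun x hx =>
      hkill (hker hx) d (Submodule.mem_span_singleton_self d)
    obtain ⟨L, hL⟩ := LinearMap.exists_rightInverse_of_surjective (f.restrictScalars k) (LinearMap.range_eq_top.mpr hf)
    obtain ⟨e, he, hee⟩ := hDM.exists_eq n ((βF d).comp L)
    have hge : g e = d := by
      refine sub_eq_zero.mp (hDF.eq_zero n _ (sub_mem (hggr n e he) hdn) fun x hx => ?_)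
      rw [map_sub, LinearMap.sub_apply, hg e x, hee _ (hfgr _ x hx), LinearMap.comp_apply, sub_eq_zero]
      refine sub_eq_zero.mp ?_
      rw [← map_sub]
      refine hvan _ ?_
      rw [map_sub, show f (L (f x)) = f x from LinearMap.congr_fun hL _, sub_self]
    have : d ∈ P ⊓ LinearMap.range g := ⟨hdP, e, hge⟩
    rw [hbot, Submodule.mem_bot] at this
    exact hd0 this
  · intro hess x hx
    rw [← GrDual.sum_supp ℱ x]
    refine Submodule.sum_mem _ fun n _ => ?_
    by_contra hxn
    have hxker : f (GrDual.pr ℱ n x) = 0 := by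
      have e := GrDual.pr_map ℱ ℳ f.toAddMonoidHom 0 (fun g y hy => by rw [add_zero]; exact hfgr g y hy) n x
      refine e.trans ?_
      show GrDual.pr ℳ _ (f x) = 0
      rw [LinearMap.mem_ker.mp hx, map_zero]
    obtain ⟨φ, hφx, hφ⟩ := Submodule.exists_dual_map_eq_bot_of_notMem
      (p := (mR.toIdeal • (⊤ : Submodule R F)).restrictScalars k) (x := GrDual.pr ℱ n x) hxn inferInstance
    obtain ⟨d, hd, hdφ⟩ := hDF.exists_eq (-n) φ
    have hdx : βF d (GrDual.pr ℱ n x) = φ (GrDual.pr ℱ n x) :=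
      hdφ _ (by rw [neg_neg]; exact GrDual.pr_mem ℱ n x)
    have hd0 : d ≠ 0 := fun h => hφx (by rw [← hdx, h, map_zero, LinearMap.zero_apply])
    have hdm : ∀ r ∈ mR.toIdeal, r • d = 0 := fun r hr => hinj (LinearMap.ext fun z => by
      rw [hDF.map_smul, map_zero, LinearMap.zero_apply, ← GrDual.pr_of_mem 𝒟F hd, GrDual.beta_pr hDF, neg_neg,
        hdφ _ (by rw [neg_neg]; exact GrDual.pr_mem ℱ n _)]
      have : φ (GrDual.pr ℱ n (r • z)) ∈ ((mR.toIdeal • (⊤ : Submodule R F)).restrictScalars k).map φ :=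
        ⟨_, hmF n _ (Submodule.smul_mem_smul hr trivial), rfl⟩
      rwa [hφ, Submodule.mem_bot] at this)
    let P : Submodule R DF :=
      { carrier := {z | ∃ c : k, z = c • d}
        add_mem' := by rintro _ _ ⟨a, rfl⟩ ⟨b, rfl⟩; exact ⟨a + b, (add_smul a b d).symm⟩
        zero_mem' := ⟨0, (zero_smul k d).symm⟩
        smul_mem' := by
          rintro r _ ⟨a, rfl⟩
          obtain ⟨c, hc⟩ := hscal r
          refine ⟨a * c, ?_⟩
          have := hdm _ hc
          rw [sub_smul, sub_eq_zero, algebraMap_smul] at this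
          rw [smul_comm, this, mul_smul] }
    have hPh : P.IsHomogeneous 𝒟F := by
      rintro i z ⟨c, rfl⟩
      show GrDual.pr 𝒟F i (c • d) ∈ P
      rcases eq_or_ne (-n) i with h | h
      · subst h
        rw [GrDual.pr_of_mem 𝒟F (GrDual.ksmul_mem (𝒜 := 𝒜) c hd)]
        exact ⟨c, rfl⟩
      · rw [GrDual.pr_of_ne 𝒟F (GrDual.ksmul_mem (𝒜 := 𝒜) c hd) h]
        exact zero_mem _
    have hP0 : P ≠ ⊥ := fun h => hd0 (by
      have : d ∈ P := ⟨1, (one_smul k d).symm⟩
      rwa [h, Submodule.mem_bot] at this)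
    obtain ⟨z, ⟨⟨c, rfl⟩, e, he⟩, hz0⟩ := (Submodule.ne_bot_iff _).mp (hess.essential P hPh hP0)
    have hc0 : c ≠ 0 := fun h => hz0 (by rw [h, zero_smul])
    have := hg e (GrDual.pr ℱ n x)
    rw [he, hxker, map_zero, map_smul, LinearMap.smul_apply, hdx, smul_eq_zero] at this
    exact hφx (this.resolve_left hc0)

end Groth.Agent.S19751
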