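import Groth.Statements.S19752
import Groth.Agent.GrDual.Dual
-- import your own Groth.Agent.* helpers here

set_option autoImplicit false
universe u
open GrDual

set_option linter.unusedVariables false

namespace Groth.Agent.S19752

/-- Let R = ⊕_{n ≥ 0} R_n be a Noetherian graded ring with R_0 = k a field, m = R_+ and k = R/m. Then
the graded k-dual R^* = ⊕_n Hom_k(R_{−n}, k) is the injective envelope of R/m in the category of
graded R-modules: for every injective homomorphism of graded R-modules e : R/m → R^*, the module R^*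
is an injective object of the graded category and every nonzero graded submodule of R^* meets the
image of e. Here a graded ring defined over k is a commutative k-algebra of finite type, graded in
nonnegative degrees by k-subspaces with degree-zero part k·1, and R_+ is the ideal spanned by the
R_n with n > 0 (a Noetherian such ring is the same as one of finite type over k); the graded k-dual
M^* = ⊕_n Hom_k(M_{−n}, k) of a graded R-module M (with r ∈ R acting by (r f)(x) = f(r x)) is
presented abstractly as a graded R-module D with a k-bilinear pairing β : D × M → k compatible with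
the R-actions, under which D_n pairs to zero with M_m for m ≠ −n and is identified with the full
dual space of M_{−n}. -/
theorem result (k : Type u) [Field k] (R : Type u) [CommRing R] [Algebra k R] (𝒜 : ℤ → Submodule k R) [GradedAlgebra 𝒜] (hposR : ∀ n : ℤ, n < 0 → 𝒜 n = ⊥) (h0R : 𝒜 0 = Submodule.span k {(1 : R)}) [Algebra.FiniteType k R] (mR : HomogeneousIdeal 𝒜) (hmR : mR.toIdeal = Ideal.span (⋃ n ∈ Set.Ioi (0 : ℤ), (𝒜 n : Set R))) (D : Type u) [AddCommGroup D] [Module R D] [Module k D] [IsScalarTower k R D] (𝒟 : ℤ → AddSubgroup D) [DirectSum.Decomposition 𝒟] [SetLike.GradedSMul 𝒜 𝒟] (β : D →ₗ[k] R →ₗ[k] k) (hD : GrSeg.IsGDual R 𝒜 𝒟 β) (e : (R ⧸ mR.toIdeal) →ₗ[R] D) (he : Function.Injective e) (hegr : GrLC.IsGrHom (GrLC.quotGr 𝒜 mR) 𝒟 e) : GrLC.IsStarInjHull 𝒜 (GrLC.quotGr 𝒜 mR) 𝒟 e := by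
  classical
  have hinj := GrDual.beta_injective hD
  have hone : (1 : R) ∈ 𝒜 0 := SetLike.one_mem_graded 𝒜
  have he1 : e 1 ∈ 𝒟 0 := hegr 0 1 ⟨1, hone, map_one (Ideal.Quotient.mk mR.toIdeal)⟩
  refine { injective := he, grHom := hegr, essential := ?_, starInj := ?_ }
  · intro P hP hP0 hbot
    obtain ⟨y, hy, hy0⟩ := (Submodule.ne_bot_iff P).mp hP0
    obtain ⟨n, hn⟩ : ∃ n, GrDual.pr 𝒟 n y ≠ 0 := by
      by_contra h
      push Not at h
      exact hy0 (GrDual.eq_zero_of_pr 𝒟 h)
    obtain ⟨r, hr, hβ⟩ : ∃ r ∈ 𝒜 (-n), β (GrDual.pr 𝒟 n y) r ≠ 0 := by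
      by_contra h
      push Not at h
      exact hn (hD.eq_zero n _ (GrDual.pr_mem 𝒟 n y) h)
    have hd0 : r • GrDual.pr 𝒟 n y ∈ 𝒟 0 := by
      simpa using GrDual.smul_mem (𝒜 := 𝒜) (ℳ := 𝒟) hr (GrDual.pr_mem 𝒟 n y)
    have hdP : r • GrDual.pr 𝒟 n y ∈ P := P.smul_mem r (hP n hy)
    have h1 : β (r • GrDual.pr 𝒟 n y) 1 = β (GrDual.pr 𝒟 n y) r := by rw [hD.map_smul, smul_eq_mul, mul_one]
    have he0 : e 1 ≠ 0 := fun h => by
      have h' : (1 : R ⧸ mR.toIdeal) = 0 := he (h.trans (map_zero e).symm)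
      have hy' : r • GrDual.pr 𝒟 n y = 0 := by
        rw [← one_smul R (r • GrDual.pr 𝒟 n y)]
        have hm : (1 : R) ∈ mR.toIdeal := Ideal.Quotient.eq_zero_iff_mem.mp ((map_one _).trans h')
        rw [hmR] at hm
        have hle : Ideal.span (⋃ n ∈ Set.Ioi (0 : ℤ), (𝒜 n : Set R)) ≤ GrDual.upper hposR h0R (ℳ := 𝒜) 1 ⊤ := by
          rw [Ideal.span_le]
          intro x hx
          simp only [Set.mem_iUnion] at hx
          obtain ⟨m, hm0, hx⟩ := hx
          exact ⟨fun i hi => GrDual.pr_of_ne 𝒜 hx (by have : 0 < m := hm0; omega), trivial⟩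
        have := (hle hm).1 0 (by norm_num)
        rw [GrDual.pr_of_mem 𝒜 hone] at this
        rw [one_smul, ← one_smul R (r • GrDual.pr 𝒟 n y), this, zero_smul]
      exact hβ (by rw [← h1, hy', map_zero, LinearMap.zero_apply])
    have hc : β (e 1) 1 ≠ 0 := fun hz => he0 (hD.eq_zero 0 _ he1 fun x hx => by
      rw [neg_zero, h0R, Submodule.mem_span_singleton] at hx
      obtain ⟨c, rfl⟩ := hx
      rw [map_smul, hz, smul_zero])
    set c : k := β (r • GrDual.pr 𝒟 n y) 1 / β (e 1) 1 with hcdef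
    have heq : r • GrDual.pr 𝒟 n y = c • e 1 := by
      refine sub_eq_zero.mp (hD.eq_zero 0 _ (sub_mem hd0 (GrDual.ksmul_mem (𝒜 := 𝒜) c he1)) fun x hx => ?_)
      rw [neg_zero, h0R, Submodule.mem_span_singleton] at hx
      obtain ⟨a, rfl⟩ := hx
      rw [(β (r • GrDual.pr 𝒟 n y - c • e 1)).map_smul, map_sub, LinearMap.sub_apply, β.map_smul c, LinearMap.smul_apply, smul_eq_mul c, hcdef,
        div_mul_cancel₀ _ hc, sub_self, smul_zero]
    have hr' : c • e 1 ∈ LinearMap.range e := ⟨algebraMap k R c • 1, by rw [map_smul, algebraMap_smul]⟩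
    have hmem : r • GrDual.pr 𝒟 n y ∈ P ⊓ LinearMap.range e := ⟨hdP, heq ▸ hr'⟩
    rw [hbot, Submodule.mem_bot] at hmem
    exact hβ (by rw [← h1, hmem, map_zero, LinearMap.zero_apply])
  · intro A B f hf hfinj g hg
    let _ : Module k A.carrier := Module.compHom A.carrier (algebraMap k R)
    have _ : IsScalarTower k R A.carrier :=
      ⟨fun c r a => show (c • r) • a = algebraMap k R c • r • a by rw [Algebra.smul_def, mul_smul]⟩
    let _ : Module k B.carrier := Module.compHom B.carrier (algebraMap k R)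
    have _ : IsScalarTower k R B.carrier :=
      ⟨fun c r a => show (c • r) • a = algebraMap k R c • r • a by rw [Algebra.smul_def, mul_smul]⟩
    let lA : A.carrier →ₗ[k] k := (β.flip 1).comp (g.restrictScalars k)
    have hlA : ∀ n, n ≠ 0 → ∀ a ∈ A.gr n, lA a = 0 := fun n hn a ha =>
      hD.vanish n (g a) (hg n a ha) 0 (fun h => hn (by omega)) 1 hone
    obtain ⟨L, hL⟩ := LinearMap.exists_leftInverse_of_injective (f.restrictScalars k) (LinearMap.ker_eq_bot.mpr hfinj)
    let lB : B.carrier →ₗ[k] k := lA.comp (L.comp (GrDual.prL 𝒜 B.gr 0))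
    let γ : B.carrier →ₗ[k] R →ₗ[k] k :=
      LinearMap.mk₂ k (fun b r => lB (r • b))
        (fun a b r => by rw [smul_add, map_add])
        (fun c b r => by rw [smul_comm, map_smul])
        (fun b r s => by rw [add_smul, map_add])
        (fun c b r => by rw [smul_assoc, map_smul])
    obtain ⟨h, hh1, hh2⟩ := GrDual.adjoint (𝒜 := 𝒜) hD (ℰ := B.gr) γ 0
      (fun r b s => by
        show lB (s • r • b) = lB ((r • s) • b)
        rw [smul_eq_mul, mul_comm, mul_smul])
      (fun n b hb m hm s hs => by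
        show lB (s • b) = 0
        have : GrDual.pr B.gr 0 (s • b) = 0 :=
          GrDual.pr_of_ne B.gr (GrDual.smul_mem (𝒜 := 𝒜) hs hb) (fun e => hm (by omega))
        show lA (L (GrDual.pr B.gr 0 (s • b))) = 0
        rw [this, map_zero, map_zero])
    refine ⟨h, fun n b hb => by simpa using hh1 n b hb, LinearMap.ext fun a => hinj (LinearMap.ext fun s => ?_)⟩
    rw [LinearMap.comp_apply, hh2]
    show lA (L (GrDual.pr B.gr 0 (s • f a))) = β (g a) s
    rw [← map_smul]
    have e1 := GrDual.pr_map A.gr B.gr f.toAddMonoidHom 0 (fun n x hx => by rw [add_zero]; exact hf n x hx) 0 (s • a)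
    rw [add_zero] at e1
    change f (GrDual.pr A.gr 0 (s • a)) = GrDual.pr B.gr 0 (f (s • a)) at e1
    rw [← e1]
    have e2 : L (f (GrDual.pr A.gr 0 (s • a))) = GrDual.pr A.gr 0 (s • a) := LinearMap.congr_fun hL _
    rw [e2]
    have e3 : lA (GrDual.pr A.gr 0 (s • a)) = lA (s • a) := by
      conv_rhs => rw [← GrDual.sum_supp A.gr (s • a), map_sum]
      by_cases hmem : (0 : ℤ) ∈ GrDual.supp A.gr (s • a)
      · rw [Finset.sum_eq_single_of_mem 0 hmem fun n _ hn => hlA n hn _ (GrDual.pr_mem A.gr n _)]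
      · rw [GrDual.pr_eq_zero_of_notMem A.gr hmem, map_zero]
        exact (Finset.sum_eq_zero fun n hn => hlA n (fun e => hmem (e ▸ hn)) _ (GrDual.pr_mem A.gr n _)).symm
    rw [e3]
    show β (g (s • a)) 1 = β (g a) s
    rw [map_smul, hD.map_smul, smul_eq_mul, mul_one]

end Groth.Agent.S19752
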