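import Groth.Statements.S19753
import Groth.Agent.SegreDim.SegreCor

set_option autoImplicit false
universe u
open scoped TensorProduct
open GrSegre

namespace Groth.Agent.S19753

open Groth.Agent.SegreDim

/-- Let R and S be graded rings defined over a field k, both generated over k by their degree-one parts
and of positive Krull dimension, T = R # S, and let M and N be finitely generated graded modules
over R and S respectively, neither of them Artinian. Then dim (M # N) = dim M + dim N − 1,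
dimensions being Krull dimensions of supports. Here a graded ring defined over k is a commutative
k-algebra of finite type, graded in nonnegative degrees by k-subspaces with degree-zero part k·1;
the Segre product T = R # S = ⊕_n R_n ⊗_k S_n is presented abstractly as a graded k-algebra T with
an injective k-algebra homomorphism ψ : T → R ⊗_k S carrying T_n onto the k-span of the elementary
tensors a ⊗ b with a ∈ R_n, b ∈ S_n; the Segre product M # N = ⊕_n M_n ⊗_k N_n of a graded R-module
M and a graded S-module N is presented abstractly as a graded T-module P with an injective k-linear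
map φ : P → M ⊗_k N carrying P_n onto the k-span of the tensors x ⊗ y with x ∈ M_n, y ∈ N_n and
turning the action of t ∈ T into that of ψ(t) (acting factorwise on M ⊗_k N). -/
theorem result (k : Type u) [Field k] (R : Type u) [CommRing R] [Algebra k R] (𝒜 : ℤ → Submodule k R) [GradedAlgebra 𝒜] (hposR : ∀ n : ℤ, n < 0 → 𝒜 n = ⊥) (h0R : 𝒜 0 = Submodule.span k {(1 : R)}) [Algebra.FiniteType k R] (S : Type u) [CommRing S] [Algebra k S] (ℬ : ℤ → Submodule k S) [GradedAlgebra ℬ] (hposS : ∀ n : ℤ, n < 0 → ℬ n = ⊥) (h0S : ℬ 0 = Submodule.span k {(1 : S)}) [Algebra.FiniteType k S] (T : Type u) [CommRing T] [Algebra k T] (𝒯 : ℤ → Submodule k T) [GradedAlgebra 𝒯] (ψ : T →ₐ[k] TensorProduct k R S) (hT : GrSeg.IsSegreRing 𝒜 ℬ 𝒯 ψ) (hstdR : Ideal.span (⋃ n ∈ Set.Ioi (0 : ℤ), (𝒜 n : Set R)) = Ideal.span ((𝒜 1 : Submodule k R) : Set R)) (hstdS : Ideal.span (⋃ n ∈ Set.Ioi (0 : ℤ), (ℬ n : Set S)) = Ideal.span ((ℬ 1 : Submodule k S) : Set S)) (hr1 : 1 ≤ ringKrullDim R) (hs1 : 1 ≤ ringKrullDim S)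 (M : Type u) [AddCommGroup M] [Module R M] [Module k M] [IsScalarTower k R M] (ℳ : ℤ → AddSubgroup M) [DirectSum.Decomposition ℳ] [SetLike.GradedSMul 𝒜 ℳ] [Module.Finite R M] (N : Type u) [AddCommGroup N] [Module S N] [Module k N] [IsScalarTower k S N] (𝒩 : ℤ → AddSubgroup N) [DirectSum.Decomposition 𝒩] [SetLike.GradedSMul ℬ 𝒩] [Module.Finite S N] (P : Type u) [AddCommGroup P] [Module T P] [Module k P] [IsScalarTower k T P] (𝒬 : ℤ → AddSubgroup P) [DirectSum.Decomposition 𝒬] (φ : P →ₗ[k] TensorProduct k M N) (hP : GrSeg.IsSegreMod ψ ℳ 𝒩 𝒬 φ) (dM dN : ℕ) (hdM : Module.supportDim R M = dM) (hdN : Module.supportDim S N = dN) (hMA : ¬ IsArtinian R M) (hNA : ¬ IsArtinian S N) : Module.supportDim T P = ((dM + dN - 1 : ℕ) : WithBot ℕ∞) := by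
  classical
  have hA : IsStd 𝒜 := ⟨hposR, h0R⟩
  have hB : IsStd ℬ := ⟨hposS, h0S⟩
  obtain ⟨D, f, g, X, Y, hD, hf, hg, hX, hY, hXs, hYs⟩ :=
    exists_common_params (ℳ := ℳ) (𝒩 := 𝒩) (M := M) (N := N) hA hB dM dN
      (fun l hl _ => length_le_of_supportDim hdM l hl) (fun l hl _ => length_le_of_supportDim hdN l hl)
  obtain ⟨r, rfl⟩ : ∃ r, dM = r + 1 := by
    rcases Nat.eq_zero_or_eq_succ_pred dM with rfl | h
    · exfalso
      have : Module.Finite k M := ⟨⟨X, by
        rw [← hXs]
        refine le_antisymm (Submodule.span_mono fun x hx => ⟨0, x, hx, by simp⟩)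
          (Submodule.span_mono ?_)
        rintro _ ⟨a, x, hx, rfl⟩; simpa using hx⟩⟩
      exact hMA (isArtinian_of_tower k inferInstance)
    · exact ⟨_, h⟩
  obtain ⟨s, rfl⟩ : ∃ s, dN = s + 1 := by
    rcases Nat.eq_zero_or_eq_succ_pred dN with rfl | h
    · exfalso
      have : Module.Finite k N := ⟨⟨Y, by
        rw [← hYs]
        refine le_antisymm (Submodule.span_mono fun x hx => ⟨0, x, hx, by simp⟩)
          (Submodule.span_mono ?_)
        rintro _ ⟨a, x, hx, rfl⟩; simpa using hx⟩⟩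
      exact hNA (isArtinian_of_tower k inferInstance)
    · exact ⟨_, h⟩
  obtain ⟨x, hxX, hxn⟩ := hXs.nonTors_or_supportDim_lt.2.resolve_right (by rw [hdM]; exact lt_irrefl _)
  obtain ⟨y, hyY, hyn⟩ := hYs.nonTors_or_supportDim_lt.2.resolve_right (by rw [hdN]; exact lt_irrefl _)
  obtain ⟨i, hi⟩ := hX x hxX
  obtain ⟨j, hj⟩ := hY y hyY
  obtain ⟨x', hx', hxn'⟩ := exists_nonTors_ge hD hf (pos_le_of_std hstdR) hi hxn (le_max_left i j)
  obtain ⟨y', hy', hyn'⟩ := exists_nonTors_ge hD hg (pos_le_of_std hstdS) hj hyn (le_max_right i j)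
  rw [supportDim_segreMod ψ φ hT hP hD hf hg hX hY hXs hYs hx' hxn' hy' hyn']
  rw [show r + 1 + (s + 1) - 1 = r + s + 1 by omega]

end Groth.Agent.S19753
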