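import Groth.Statements.S19759
import Mathlib
import Groth.Agent.GrInj.TopExact
import Groth.Agent.GrInj.Conv
import Groth.Agent.GrInj.CanPairing
import Groth.Agent.GrDual.Dual
-- import your own Groth.Agent.* helpers here

set_option autoImplicit false
universe u
open GrDual

namespace Groth.Agent.S19759

/-- Let R be a graded ring defined over a field k with m = R_+ and n = dim R, K_R = (H^n_m(R))^* its
canonical module, and M a finitely generated graded R-module. Then (H^n_m(M))^* ≅ Hom_R(M, K_R) as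
graded R-modules. Stated here as the existence of an R-linear isomorphism carrying the degree-d
piece of (H^n_m(M))^* into the maps M → K_R homogeneous of degree d (existence of an isomorphism
only; the published one is natural in M). Here a graded ring defined over k is a commutative
k-algebra of finite type, graded in nonnegative degrees by k-subspaces with degree-zero part k·1,
and R_+ is the ideal spanned by the R_n with n > 0; the graded k-dual M^* = ⊕_n Hom_k(M_{−n}, k) of
a graded R-module M (with r ∈ R acting by (r f)(x) = f(r x)) is presented abstractly as a graded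
R-module D with a k-bilinear pairing β : D × M → k compatible with the R-actions, under which D_n
pairs to zero with M_m for m ≠ −n and is identified with the full dual space of M_{−n}; graded local
cohomology with its homogeneous pieces is computed from *injective resolutions in the graded
category and carries the k-vector space structures given. -/
theorem result (k : Type u) [Field k] (R : Type u) [CommRing R] [Algebra k R] (𝒜 : ℤ → Submodule k R) [GradedAlgebra 𝒜] (hposR : ∀ n : ℤ, n < 0 → 𝒜 n = ⊥) (h0R : 𝒜 0 = Submodule.span k {(1 : R)}) [Algebra.FiniteType k R] (mR : HomogeneousIdeal 𝒜) (hmR : mR.toIdeal = Ideal.span (⋃ n ∈ Set.Ioi (0 : ℤ), (𝒜 n : Set R))) (n : ℕ) (hn : ringKrullDim R = n) (I : GrLC.StarInjRes 𝒜 𝒜) [Module k (I.H mR n)] [IsScalarTower k R (I.H mR n)] [DirectSum.Decomposition (I.Hgr mR n)] (K : Type u) [AddCommGroup K] [Module R K] [Module k K] [IsScalarTower k R K] (𝒦 : ℤ → AddSubgroup K) [DirectSum.Decomposition 𝒦] [SetLike.GradedSMul 𝒜 𝒦] (βK : K →ₗ[k]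 I.H mR n →ₗ[k] k) (hK : GrSeg.IsGDual R (I.Hgr mR n) 𝒦 βK) (M : Type u) [AddCommGroup M] [Module R M] [Module k M] [IsScalarTower k R M] (ℳ : ℤ → AddSubgroup M) [DirectSum.Decomposition ℳ] [SetLike.GradedSMul 𝒜 ℳ] [Module.Finite R M] (EM : GrLC.StarInjRes 𝒜 ℳ) [Module k (EM.H mR n)] [IsScalarTower k R (EM.H mR n)] [DirectSum.Decomposition (EM.Hgr mR n)] (D : Type u) [AddCommGroup D] [Module R D] [Module k D] [IsScalarTower k R D] (𝒟 : ℤ → AddSubgroup D) [DirectSum.Decomposition 𝒟] [SetLike.GradedSMul 𝒜 𝒟] (βD : D →ₗ[k] EM.H mR n →ₗ[k] k) (hD : GrSeg.IsGDual R (EM.Hgr mR n) 𝒟 βD) : ∃ ε : D ≃ₗ[R] (M →ₗ[R] K), GrLC.IsGrHom 𝒟 (fun d : ℤ => (GrLC.homDeg 𝒜 ℳ 𝒦 d).toAddSubgroup) ε.toLinearMap := by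
  classical
  haveI : IsNoetherianRing R := Algebra.FiniteType.isNoetherianRing k R
  let 𝒜' := GrInj.Conv.grp 𝒜
  let a := GrInj.Conv.ideal 𝒜 mR
  let X : GrLC.GMod 𝒜' := GrLC.GMod.of 𝒜' M (GrInj.Conv.grp ℳ)
  haveI : Module.Finite R X.carrier := inferInstanceAs (Module.Finite R M)
  let I' := GrInj.Conv.res I
  let E' := GrInj.Conv.res EM
  let T : ∀ {g : ℤ} {x : M}, x ∈ ℳ g → (I.H mR n →ₗ[R] EM.H mR n) := fun {g} {x} hx =>
    GrInj.tr I' a n E' (g := g) (x := x) hx
  have hTadd : ∀ {g : ℤ} {x y : M} (hx : x ∈ ℳ g) (hy : y ∈ ℳ g) (c : I.H mR n),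
      T (add_mem hx hy) c = T hx c + T hy c := fun hx hy c => GrInj.tr_add I' a n E' hx hy c
  have hTsmul : ∀ {g d : ℤ} {x : M} (hx : x ∈ ℳ g) {r : R} (hr : r ∈ 𝒜 d) (hrx : r • x ∈ ℳ (d + g))
      (c : I.H mR n), T hrx c = T hx (r • c) := fun {g d x} hx {r} hr hrx c => by
    rw [map_smul]; exact GrInj.tr_smul I' a n E' hx hr c
  have hTmem : ∀ {g : ℤ} {x : M} (hx : x ∈ ℳ g) {p : ℤ} {c : I.H mR n}, c ∈ I.Hgr mR n p →
      T hx c ∈ EM.Hgr mR n (p + g) := fun {g} {x} hx {p} {c} hc => GrInj.tr_mem I' a n E' hx hc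
  have hgen : ∀ P : EM.H mR n → Prop, P 0 → (∀ u v, P u → P v → P (u + v)) →
      (∀ (g : ℤ) (x : M) (hx : x ∈ ℳ g), ∀ p, ∀ c ∈ I.Hgr mR n p, P (T hx c)) → ∀ w, P w :=
    fun P h1 h2 h3 => GrInj.trGen I' a n hn X E' P h1 h2 h3
  have hβK := GrDual.beta_injective hK
  have hβD := GrDual.beta_injective hD
  -- the image of an element
  have hex : ∀ (d : D) (g : ℤ) (x : M) (hx : x ∈ ℳ g), ∃ κ : K, ∀ c, βK κ c = βD d (T hx c) := by
    intro d g x hx
    induction d using GrInj.induction 𝒟 with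
    | h0 => exact ⟨0, fun c => by rw [map_zero, map_zero]; rfl⟩
    | hh e d hd =>
      obtain ⟨κ, hκ, hκe⟩ := hK.exists_eq (e + g) ((βD d).comp ((T hx).restrictScalars k))
      refine ⟨κ, fun c => ?_⟩
      induction c using GrInj.induction (I.Hgr mR n) with
      | h0 => rw [map_zero, map_zero, map_zero]
      | hh p c hc =>
        by_cases hp : p = -(e + g)
        · subst hp; exact hκe c hc
        · rw [hK.vanish _ κ hκ p hp c hc,
            hD.vanish e d hd (p + g) (fun h => hp (by omega)) _ (hTmem hx hc)]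
      | hadd u v hu hv => rw [map_add, map_add, map_add, hu, hv]
    | hadd u v hu hv =>
      obtain ⟨κ, hκ⟩ := hu
      obtain ⟨κ', hκ'⟩ := hv
      exact ⟨κ + κ', fun c => by rw [map_add, map_add, LinearMap.add_apply, LinearMap.add_apply, hκ, hκ']⟩
  choose ε₁ hε₁ using hex
  have hεadd : ∀ d g (u v : ℳ g), ε₁ d g (u + v : ℳ g) (u + v).2 = ε₁ d g u u.2 + ε₁ d g v v.2 :=
    fun d g u v => hβK (LinearMap.ext fun c => by
      rw [map_add, LinearMap.add_apply, hε₁, hε₁, hε₁, ← map_add, ← hTadd u.2 v.2]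
      )
  let ε₂ : D → M →+ K := fun d =>
    (DirectSum.toAddMonoid fun g => AddMonoidHom.mk' (fun x : ℳ g => ε₁ d g x x.2) (hεadd d g)).comp
      (DirectSum.decomposeAddEquiv ℳ).toAddMonoidHom
  have hε₂ : ∀ d g x (hx : x ∈ ℳ g) c, βK (ε₂ d x) c = βD d (T hx c) := fun d g x hx c => by
    show βK (DirectSum.toAddMonoid _ (DirectSum.decompose ℳ x)) c = _
    rw [DirectSum.decompose_of_mem ℳ hx, DirectSum.toAddMonoid_of]
    exact hε₁ d g x hx c
  have hlin : ∀ d (r : R) (x : M), ε₂ d (r • x) = r • ε₂ d x := by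
    intro d r x
    induction x using GrInj.induction ℳ with
    | h0 => rw [smul_zero, map_zero, smul_zero]
    | hh g x hx =>
      induction r using GrInj.induction 𝒜' with
      | h0 => rw [zero_smul, map_zero, zero_smul]
      | hh e r hr =>
        have hr' : r ∈ 𝒜 e := hr
        have hrx : r • x ∈ ℳ (e + g) := SetLike.GradedSMul.smul_mem (A := 𝒜) (B := ℳ) hr' hx
        refine hβK (LinearMap.ext fun c => ?_)
        rw [hε₂ d _ _ hrx, hK.map_smul, hε₂ d g x hx, hTsmul hx hr' hrx]
      | hadd u v hu hv => rw [add_smul, map_add, hu, hv, add_smul]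
    | hadd u v hu hv => rw [smul_add, map_add, hu, hv, map_add, smul_add]
  let ε₀ : D →ₗ[R] (M →ₗ[R] K) :=
    { toFun := fun d => { toFun := ε₂ d, map_add' := map_add _, map_smul' := hlin d }
      map_add' := fun d d' => GrInj.hom_ext (ℳ := ℳ) fun g x hx => hβK (LinearMap.ext fun c => by
        show βK (ε₂ (d + d') x) c = βK (ε₂ d x + ε₂ d' x) c
        rw [map_add βK, LinearMap.add_apply, hε₂ _ g x hx, hε₂ _ g x hx, hε₂ _ g x hx, map_add βD,
          LinearMap.add_apply])
      map_smul' := fun r d => GrInj.hom_ext (ℳ := ℳ) fun g x hx => hβK (LinearMap.ext fun c => by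
        show βK (ε₂ (r • d) x) c = βK (r • ε₂ d x) c
        rw [hK.map_smul, hε₂ _ g x hx, hε₂ _ g x hx, hD.map_smul, (T hx).map_smul]) }
  have hinj : Function.Injective ε₀ := (injective_iff_map_eq_zero ε₀).2 fun d hd => by
    refine hβD ((LinearMap.ext fun w => ?_).trans (map_zero βD).symm)
    refine hgen (fun w => βD d w = 0) (map_zero _) (fun u v hu hv => by
      show βD d (u + v) = 0
      rw [map_add, hu, hv, add_zero]) (fun g x hx p c _ => ?_) w
    rw [← hε₂ d g x hx, show ε₂ d x = 0 from LinearMap.congr_fun hd x, map_zero]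
    rfl
  have hsurj_hom : ∀ (e : ℤ) (f : M →ₗ[R] K), GrLC.IsGrHomDeg ℳ 𝒦 f e → ∃ d ∈ 𝒟 e, ε₀ d = f := by
    intro e f hf
    let ω : X.carrier →+ I'.H a n →+ k := AddMonoidHom.mk' (fun x => (βK (f x)).toAddMonoidHom) fun x y =>
      AddMonoidHom.ext fun c => by
        exact LinearMap.congr_fun ((congrArg βK (map_add f x y)).trans (map_add βK _ _)) c
    obtain ⟨Φ, hΦ⟩ := GrInj.exists_factor_top I' a n hn X E' ω fun r x c => by
      exact (congrArg (fun κ => βK κ c) (map_smul f r x)).trans (hK.map_smul r (f x) c)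
    have hΦ' : ∀ (g : ℤ) (x : M) (hx : x ∈ ℳ g) (c : I.H mR n), Φ (T hx c) = βK (f x) c :=
      fun g x hx c => hΦ g x hx c
    let Φl : EM.H mR n →ₗ[k] k :=
      { toFun := Φ
        map_add' := map_add Φ
        map_smul' := fun s w => by
          refine hgen (fun w => Φ (s • w) = s • Φ w) (by rw [smul_zero]; exact (map_zero Φ).trans (by rw [show Φ (0 : EM.H mR n) = 0 from map_zero Φ, smul_zero]))
            (fun u v hu hv => by
              show Φ (s • (u + v)) = s • Φ (u + v)
              rw [smul_add]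
              exact (map_add Φ _ _).trans (by rw [hu, hv, ← smul_add]; exact congrArg _ (map_add Φ u v).symm))
            (fun g x hx p c _ => ?_) w
          show Φ (s • T hx c) = s • Φ (T hx c)
          rw [← LinearMap.map_smul_of_tower (T hx) s c, hΦ', hΦ', map_smul] }
    obtain ⟨d, hd, hde⟩ := hD.exists_eq e Φl
    refine ⟨d, hd, GrInj.hom_ext (ℳ := ℳ) fun g x hx => hβK (LinearMap.ext fun c => ?_)⟩
    show βK (ε₂ d x) c = _
    rw [hε₂ d g x hx]
    induction c using GrInj.induction (I.Hgr mR n) with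
    | h0 => rw [map_zero, map_zero, map_zero]
    | hh p c hc =>
      by_cases hp : p + g = -e
      · exact (hde _ (hp ▸ hTmem hx hc)).trans (hΦ' g x hx c)
      · rw [hD.vanish e d hd (p + g) hp _ (hTmem hx hc),
          hK.vanish (g + e) (f x) (hf g x hx) p (fun h => hp (by omega)) c hc]
    | hadd u v hu hv => rw [map_add, map_add, map_add, hu, hv]
  have hmem : ∀ (e : ℤ) (d : D), d ∈ 𝒟 e → GrLC.IsGrHomDeg ℳ 𝒦 (ε₀ d) e := by
    intro e d hd g x hx
    obtain ⟨κ, hκ, hκe⟩ := hK.exists_eq (g + e) ((βD d).comp ((T hx).restrictScalars k))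
    show ε₂ d x ∈ 𝒦 (g + e)
    rw [show ε₂ d x = κ from hβK (LinearMap.ext fun c => ?_)]
    · exact hκ
    rw [hε₂ d g x hx]
    induction c using GrInj.induction (I.Hgr mR n) with
    | h0 => rw [map_zero, map_zero, map_zero]
    | hh p c hc =>
      by_cases hp : p = -(g + e)
      · subst hp; exact (hκe c hc).symm
      · rw [hK.vanish _ κ hκ p hp c hc,
          hD.vanish e d hd (p + g) (fun h => hp (by omega)) _ (hTmem hx hc)]
    | hadd u v hu hv => rw [map_add, map_add, map_add, hu, hv]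
  have hsurj : Function.Surjective ε₀ := by
    intro f
    haveI : Module.Finite R M := inferInstance
    obtain ⟨N, deg, v, hv, hspan⟩ := GrInj.exists_hom_gens (R := R) (ℳ := ℳ)
    choose ft hft hft' using fun t => GrInj.exists_homDeg_part 𝒜' (𝒞 := GrInj.Conv.grp ℳ) (𝓔 := GrInj.Conv.grp 𝒦) f t
    let S : Finset ℤ := Finset.univ.biUnion fun i =>
      (GrInj.supp (GrInj.Conv.grp 𝒦) (f (v i))).image fun j => j - deg i
    have hsum : f = ∑ t ∈ S, ft t := by
      refine LinearMap.ext_on_range hspan fun i => ?_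
      rw [LinearMap.sum_apply]
      conv_lhs => rw [← GrInj.sum_supp (ℳ := GrInj.Conv.grp 𝒦) (f (v i))]
      simp only [fun t => hft' t (deg i) (v i) (hv i)]
      rw [← Finset.sum_image (g := fun t => deg i + t)
        (f := fun j => GrInj.pr (GrInj.Conv.grp 𝒦) j (f (v i))) (fun a _ b _ hab => add_left_cancel hab)]
      refine Finset.sum_subset (fun j hj => ?_) fun j _ hj => GrInj.pr_eq_zero hj
      exact Finset.mem_image.2 ⟨j - deg i,
        Finset.mem_biUnion.2 ⟨i, Finset.mem_univ _, Finset.mem_image.2 ⟨j, hj, rfl⟩⟩, add_sub_cancel _ _⟩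
    choose d _hd hd' using fun t => hsurj_hom t (ft t) (fun g x hx => hft t g x hx)
    exact ⟨∑ t ∈ S, d t, by rw [map_sum, hsum]; exact Finset.sum_congr rfl fun t _ => hd' t⟩
  exact ⟨LinearEquiv.ofBijective ε₀ ⟨hinj, hsurj⟩, fun e d hd => hmem e d hd⟩

end Groth.Agent.S19759
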