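import Groth.Statements.S1976
import Groth.Agent.WEtaleField.Basic
import Groth.Agent.IndEtaleOps.Fibre
-- import your own Groth.Agent.* helpers here

set_option autoImplicit false
set_option linter.style.haveILetI false
universe u
open CategoryTheory
open EtAlg

namespace Groth.Agent.S1976

open scoped TensorProduct

section

variable {K B : Type u} [CommRing K] [CommRing B] [Algebra K B]

variable (K B) in
/-- The finitely generated subalgebras. -/
abbrev FGSub : Type u := {S : Subalgebra K B // S.FG}

instance : Nonempty (FGSub K B) := ⟨⟨⊥, Subalgebra.fg_bot⟩⟩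

instance : IsDirectedOrder (FGSub K B) :=
  ⟨fun S T => ⟨⟨S.1 ⊔ T.1, S.2.sup T.2⟩, (le_sup_left : S.1 ≤ S.1 ⊔ T.1), (le_sup_right : T.1 ≤ S.1 ⊔ T.1)⟩⟩

variable (K B) in
/-- The diagram of finitely generated subalgebras. -/
noncomputable def diagram : FGSub K B ⥤ Under (CommRingCat.of K) where
  obj S := Under.mk (CommRingCat.ofHom (algebraMap K S.1))
  map {S T} f := Under.homMk (CommRingCat.ofHom (Subalgebra.inclusion f.le).toRingHom) rfl
  map_id _ := rfl
  map_comp _ _ := rfl

/-- An algebra all of whose finitely generated subalgebras are étale is ind-étale. -/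
theorem isIndEtale_of_forall_fg (h : ∀ S : Subalgebra K B, S.FG → Algebra.Etale K S) :
    EtPBC.IsIndEtale K B := by
  classical
  let c : Limits.Cocone (diagram K B) :=
    { pt := Under.mk (CommRingCat.ofHom (algebraMap K B))
      ι :=
        { app := fun S => Under.homMk (CommRingCat.ofHom S.1.val.toRingHom) rfl
          naturality := fun S T f => rfl } }
  let S₀ : B → FGSub K B := fun b =>
    ⟨Algebra.adjoin K {b}, Subalgebra.fg_def.2 ⟨{b}, Set.finite_singleton b, rfl⟩⟩
  have hkey : ∀ (s : Limits.Cocone (diagram K B)) (S : FGSub K B) (b : B) (hb : b ∈ S.1),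
      (Under.Hom.right (s.ι.app (S₀ b))).hom ⟨b, Algebra.subset_adjoin rfl⟩ =
        (Under.Hom.right (s.ι.app S)).hom ⟨b, hb⟩ := by
    intro s S b hb
    have hle : S₀ b ≤ S := Algebra.adjoin_le (Set.singleton_subset_iff.2 hb)
    rw [← s.w (homOfLE hle)]
    rfl
  have hu : ∀ s : Limits.Cocone (diagram K B), ∃! d : c.pt ⟶ s.pt, ∀ S, c.ι.app S ≫ d = s.ι.app S := by
    intro s
    let g : B → s.pt.right := fun b =>
      (Under.Hom.right (s.ι.app (S₀ b))).hom ⟨b, Algebra.subset_adjoin rfl⟩
    have hg : ∀ (S : FGSub K B) (b : B) (hb : b ∈ S.1),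
        g b = (Under.Hom.right (s.ι.app S)).hom ⟨b, hb⟩ := hkey s
    have hw : ∀ r : K, g (algebraMap K B r) = s.pt.hom.hom r := fun r => by
      rw [hg ⟨⊥, Subalgebra.fg_bot⟩ _ (Subalgebra.algebraMap_mem _ r)]
      exact RingHom.congr_fun (congrArg CommRingCat.Hom.hom
        (Under.w (s.ι.app ⟨⊥, Subalgebra.fg_bot⟩))) r
    let g' : B →+* s.pt.right :=
      { toFun := g
        map_one' := by rw [hg ⟨⊥, Subalgebra.fg_bot⟩ 1 (one_mem _)]; exact map_one _
        map_zero' := by rw [hg ⟨⊥, Subalgebra.fg_bot⟩ 0 (zero_mem _)]; exact map_zero _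
        map_mul' := fun a b => by
          let S : FGSub K B := ⟨(S₀ a).1 ⊔ (S₀ b).1, (S₀ a).2.sup (S₀ b).2⟩
          have ha : a ∈ S.1 := (le_sup_left : _ ≤ S.1) (Algebra.subset_adjoin rfl)
          have hb : b ∈ S.1 := (le_sup_right : _ ≤ S.1) (Algebra.subset_adjoin rfl)
          rw [hg S a ha, hg S b hb, hg S (a * b) (mul_mem ha hb), ← map_mul]
          rfl
        map_add' := fun a b => by
          let S : FGSub K B := ⟨(S₀ a).1 ⊔ (S₀ b).1, (S₀ a).2.sup (S₀ b).2⟩
          have ha : a ∈ S.1 := (le_sup_left : _ ≤ S.1) (Algebra.subset_adjoin rfl)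
          have hb : b ∈ S.1 := (le_sup_right : _ ≤ S.1) (Algebra.subset_adjoin rfl)
          rw [hg S a ha, hg S b hb, hg S (a + b) (add_mem ha hb), ← map_add]
          rfl }
    refine ⟨Under.homMk (CommRingCat.ofHom g') (CommRingCat.hom_ext (RingHom.ext hw)), fun S => ?_,
      fun d hd => ?_⟩
    · exact Under.UnderMorphism.ext (CommRingCat.hom_ext (RingHom.ext fun (x : ↥S.1) => hg S x.1 x.2))
    · refine Under.UnderMorphism.ext (CommRingCat.hom_ext (RingHom.ext fun b => ?_))
      exact RingHom.congr_fun (congrArg (fun m => CommRingCat.Hom.hom (Under.Hom.right m)) (hd (S₀ b)))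
        (⟨b, Algebra.subset_adjoin rfl⟩ : ↥(S₀ b).1)
  exact ⟨FGSub K B, inferInstance, inferInstance, diagram K B, c,
    Limits.IsColimit.ofExistsUnique hu, fun S => RingHom.etale_algebraMap.2 (h S.1 S.2), ⟨Iso.refl _⟩⟩

end


/-- (2) ⇔ (3): a K-algebra B over a field K is weakly etale exactly when it can be written as a filtered
colimit of etale K-algebras, and in that case its finitely generated K-subalgebras are etale. -/
theorem result (K : Type u) [Field K] (B : Type u) [CommRing B] [Algebra K B] :
    (Algebra.WeaklyEtale K B ↔ EtPBC.IsIndEtale K B) ∧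
    (Algebra.WeaklyEtale K B → ∀ S : Subalgebra K B, S.FG → Algebra.Etale K S) := by
  have hfwd : EtPBC.IsIndEtale K B → Algebra.WeaklyEtale K B := fun h => by
    classical
    have hex : ∀ s : Finset B, ∃ (E : Type u) (_ : CommRing E) (_ : Algebra K E) (_ : Algebra.Etale K E)
        (φ : E →ₐ[K] B), ∀ x ∈ s, x ∈ φ.range := by
      intro s
      induction s using Finset.induction with
      | empty => exact ⟨K, inferInstance, inferInstance, inferInstance, Algebra.ofId K B, by simp⟩
      | insert b s _ ih =>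
        obtain ⟨E, _, _, _, φ, hφ⟩ := ih
        obtain ⟨E', _, _, _, φ', x, hx, -⟩ := Groth.Agent.IndEtaleOps.exists_etale_rep h b
        haveI : Algebra.Etale K (E ⊗[K] E') := Algebra.Etale.comp K E (E ⊗[K] E')
        refine ⟨E ⊗[K] E', inferInstance, inferInstance, inferInstance,
          Algebra.TensorProduct.productMap φ φ', fun y hy => ?_⟩
        rw [Algebra.TensorProduct.productMap_range]
        rcases Finset.mem_insert.1 hy with rfl | hy
        · exact (le_sup_right : φ'.range ≤ φ.range ⊔ φ'.range) ⟨x, hx⟩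
        · exact (le_sup_left : φ.range ≤ φ.range ⊔ φ'.range) (hφ y hy)
    refine Groth.Agent.WEtaleField.of_forall_fg_etale fun S hS => ?_
    haveI := S.fg_iff_finiteType.1 hS
    obtain ⟨s, rfl⟩ := hS
    obtain ⟨E, _, _, _, φ, hφ⟩ := hex s
    haveI := Groth.Agent.WEtaleField.range_weaklyEtale φ
    exact Groth.Agent.WEtaleField.etale_of_injective
      (Subalgebra.inclusion (Algebra.adjoin_le hφ)) (Subalgebra.inclusion_injective _)
  refine ⟨⟨fun h => ?_, hfwd⟩, fun h S hS => ?_⟩
  · exact isIndEtale_of_forall_fg fun S hS => by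
      haveI := S.fg_iff_finiteType.1 hS
      exact Groth.Agent.WEtaleField.etale_of_injective S.val Subtype.val_injective
  · haveI := S.fg_iff_finiteType.1 hS
    exact Groth.Agent.WEtaleField.etale_of_injective S.val Subtype.val_injective

end Groth.Agent.S1976
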