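import Groth.Statements.S19760
import Groth.Agent.GrDual.Dual
-- import your own Groth.Agent.* helpers here

set_option autoImplicit false
universe u
open GrDual

set_option linter.unusedVariables false

namespace Groth.Agent.S19760

/-- Let R = ⊕_{n ≥ 0} R_n be a Noetherian graded ring with R_0 = k a field and R^* = ⊕_n Hom_k(R_{−n},
k) its graded k-dual. A graded R-module M is Artinian exactly when, for some t and some integer
shifts n_1, …, n_t, it embeds as a graded module into the direct sum of the shifted duals R^*(n_1),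
…, R^*(n_t), that is, when there is an injective R-linear map M → (R^*)^t whose i-th component
carries M_g into R^*_{g+n_i} for every g. Here a graded ring defined over k is a commutative
k-algebra of finite type, graded in nonnegative degrees by k-subspaces with degree-zero part k·1,
and R_+ is the ideal spanned by the R_n with n > 0 (a Noetherian such ring is the same as one of
finite type over k); the graded k-dual M^* = ⊕_n Hom_k(M_{−n}, k) of a graded R-module M (with r ∈ R
acting by (r f)(x) = f(r x)) is presented abstractly as a graded R-module D with a k-bilinear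
pairing β : D × M → k compatible with the R-actions, under which D_n pairs to zero with M_m for m ≠
−n and is identified with the full dual space of M_{−n}. -/
theorem result (k : Type u) [Field k] (R : Type u) [CommRing R] [Algebra k R] (𝒜 : ℤ → Submodule k R) [GradedAlgebra 𝒜] (hposR : ∀ n : ℤ, n < 0 → 𝒜 n = ⊥) (h0R : 𝒜 0 = Submodule.span k {(1 : R)}) [Algebra.FiniteType k R] (D : Type u) [AddCommGroup D] [Module R D] [Module k D] [IsScalarTower k R D] (𝒟 : ℤ → AddSubgroup D) [DirectSum.Decomposition 𝒟] [SetLike.GradedSMul 𝒜 𝒟] (β : D →ₗ[k] R →ₗ[k] k) (hD : GrSeg.IsGDual R 𝒜 𝒟 β) (M : Type u) [AddCommGroup M] [Module R M] [Module k M] [IsScalarTower k R M] (ℳ : ℤ → AddSubgroup M) [DirectSum.Decomposition ℳ] [SetLike.GradedSMul 𝒜 ℳ] : IsArtinian R M ↔ ∃ (t : ℕ) (sh : Fin t → ℤ) (f : M →ₗ[R] (Fin t → D)), Function.Injective f ∧ ∀ (i : Fin t) (g : ℤ) (x : M), x ∈ ℳ g → f x i ∈ 𝒟 (g + sh i) := by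
  classical
  have : IsNoetherianRing R := Algebra.FiniteType.isNoetherianRing k R
  constructor
  · intro hM
    let S : Set (Submodule R M) := {K | ∃ (t : ℕ) (sh : Fin t → ℤ) (f : M →ₗ[R] (Fin t → D)),
      K = LinearMap.ker f ∧ ∀ (i : Fin t) (g : ℤ) (x : M), x ∈ ℳ g → f x i ∈ 𝒟 (g + sh i)}
    obtain ⟨K, ⟨t, sh, f, rfl, hf⟩, hmin⟩ := IsArtinian.set_has_minimal S
      ⟨_, 0, Fin.elim0, 0, rfl, fun i => i.elim0⟩
    refine ⟨t, sh, f, LinearMap.ker_eq_bot.mp ?_, hf⟩
    by_contra hne
    obtain ⟨y, hy, hy0⟩ := (Submodule.ne_bot_iff _).mp hne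
    obtain ⟨n, hn⟩ : ∃ n, GrDual.pr ℳ n y ≠ 0 := by
      by_contra h
      push Not at h
      exact hy0 (GrDual.eq_zero_of_pr ℳ h)
    have hker : GrDual.pr ℳ n y ∈ LinearMap.ker f := by
      rw [LinearMap.mem_ker]
      funext i
      have e := GrDual.pr_map ℳ 𝒟 ((LinearMap.proj i).comp f).toAddMonoidHom (sh i) (fun g x hx => hf i g x hx) n y
      refine e.trans ?_
      show GrDual.pr 𝒟 _ (f y i) = 0
      rw [LinearMap.mem_ker.mp hy]
      simp
    obtain ⟨φ, hφ⟩ : ∃ φ : M →ₗ[k] k, φ (GrDual.pr ℳ n y) ≠ 0 := by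
      by_contra h
      push Not at h
      exact hn ((Module.forall_dual_apply_eq_zero_iff k _).mp h)
    let ψ : M →ₗ[k] k := φ.comp (GrDual.prL 𝒜 ℳ n)
    let γ : M →ₗ[k] R →ₗ[k] k :=
      LinearMap.mk₂ k (fun b r => ψ (r • b))
        (fun a b r => by rw [smul_add, map_add])
        (fun c b r => by rw [smul_comm, map_smul])
        (fun b r s => by rw [add_smul, map_add])
        (fun c b r => by rw [smul_assoc, map_smul])
    obtain ⟨h, hh1, hh2⟩ := GrDual.adjoint (𝒜 := 𝒜) hD (ℰ := ℳ) γ (-n)
      (fun r b s => by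
        show ψ (s • r • b) = ψ ((r • s) • b)
        rw [smul_eq_mul, mul_comm, mul_smul])
      (fun g b hb m hm s hs => by
        show φ (GrDual.pr ℳ n (s • b)) = 0
        rw [GrDual.pr_of_ne ℳ (GrDual.smul_mem (𝒜 := 𝒜) hs hb) (fun e => hm (by omega)), map_zero])
    let f' : M →ₗ[R] (Fin (t + 1) → D) := LinearMap.pi (Fin.cons h fun i => (LinearMap.proj i).comp f)
    refine hmin (LinearMap.ker f') ⟨t + 1, Fin.cons (-n) sh, f', rfl, fun i g x hx => ?_⟩ ?_
    · refine Fin.cases ?_ (fun j => ?_) i
      · simpa [f'] using hh1 g x hx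
      · simpa [f'] using hf j g x hx
    · refine lt_of_le_of_ne (fun x hx => ?_) fun e => ?_
      · rw [LinearMap.mem_ker] at hx ⊢
        funext i
        have := congrFun hx i.succ
        simpa [f'] using this
      · rw [← e, LinearMap.mem_ker] at hker
        have h0 : h (GrDual.pr ℳ n y) = 0 := by simpa [f'] using congrFun hker 0
        refine hφ ?_
        have := hh2 (GrDual.pr ℳ n y) 1
        rw [h0, map_zero, LinearMap.zero_apply] at this
        rw [← GrDual.pr_of_mem ℳ (GrDual.pr_mem ℳ n y)]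
        simpa [γ, ψ, GrDual.prL] using this.symm
  · rintro ⟨t, sh, f, hf, -⟩
    have : IsArtinian R D := GrDual.isArtinian_dual (𝒜 := 𝒜) hD hposR h0R
    exact isArtinian_of_injective f hf

end Groth.Agent.S19760
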