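import Groth.Statements.S19763
import Mathlib
import Groth.Agent.GrInj.SegrePoly
-- import your own Groth.Agent.* helpers here

set_option autoImplicit false
universe u
open scoped TensorProduct
attribute [local instance] MvPolynomial.weightedGradedAlgebra
open GrSegre

namespace Groth.Agent.S19763

open Groth.Agent.GrInj in
/-- The depth of the Segre product of two shifted polynomial rings, from its cohomology. -/
theorem depth_eq {T : Type u} [CommRing T] [IsNoetherianRing T] {𝒯 : ℤ → AddSubgroup T} [GradedRing 𝒯]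
    {P : Type u} [AddCommGroup P] [Module T P] [Module.Finite T P] {𝒬 : ℤ → AddSubgroup P} [DirectSum.Decomposition 𝒬]
    [SetLike.GradedSMul 𝒯 𝒬] (m : HomogeneousIdeal 𝒯) (E : GrLC.StarInjRes 𝒯 𝒬) (n : ℕ)
    (hlow : ∀ i < n, ∀ d, E.Hcomp m i d = ⊥) (htop : ∃ d, E.Hcomp m n d ≠ ⊥) :
    LocCoh.idealDepth m.toIdeal P = (n : ℕ∞) := by
  have h1 : (n : ℕ∞) ≤ LocCoh.idealDepth m.toIdeal P :=
    (Groth.Agent.LocCohLib.natCast_le_idealDepth_iff_vanishing m.toIdeal P n).2 fun i hi =>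
      CMCrit.subsingleton_of_subsingleton_H 𝒬 E i (SegK.subsingleton_H_of_pieces E m i (hlow i hi))
  have h2 : ¬ ((n + 1 : ℕ) : ℕ∞) ≤ LocCoh.idealDepth m.toIdeal P := fun h => by
    obtain ⟨d, hd⟩ := htop
    exact hd (SegK.pieces_of_subsingleton_H E m n d (CMCrit.subsingleton_H_of_subsingleton 𝒬 E n
      ((Groth.Agent.LocCohLib.natCast_le_idealDepth_iff_vanishing m.toIdeal P (n + 1)).1 h n (Nat.lt_succ_self n))))
  refine le_antisymm ?_ h1
  rw [Nat.cast_add, Nat.cast_one, not_le] at h2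
  exact (ENat.lt_add_one_iff (ENat.natCast_ne_top n)).1 h2

/-- Let R = k[X_1, …, X_r] and S = k[Y_1, …, Y_s] be polynomial rings over a field k with every variable
of degree 1, r ≥ 2 and s ≥ 2, T = R # S, and M = R(a), N = S(b) for integers a, b. Then (a) M # N is
a Cohen–Macaulay T-module if and only if s > a − b > −r; (b) if a − b ≥ s then depth (M # N) = s;
(c) if a − b ≤ −r then depth (M # N) = r. Here the polynomial rings carry the standard grading by
k-subspaces of homogeneous polynomials (indexed by ℤ, all variables of weight 1); the Segre product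
T = R # S = ⊕_n R_n ⊗_k S_n is presented abstractly as a graded k-algebra T with an injective
k-algebra homomorphism ψ : T → R ⊗_k S carrying T_n onto the k-span of the elementary tensors of
bidegree (n, n), T_+ is the ideal spanned by the T_n with n > 0, and R(a) # S(b) = ⊕_n R_{n+a} ⊗_k
S_{n+b} is presented abstractly as a graded T-module P with an injective k-linear map φ : P → R ⊗_k
S carrying P_n onto the k-span of the tensors x ⊗ y with x ∈ R_{n+a}, y ∈ S_{n+b} and turning the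
action of t ∈ T into that of ψ(t); a module over a ring is called Cohen–Macaulay when each of its
localizations at a prime ideal is zero or a Cohen–Macaulay module over the local ring (dimension of
the support equal to the depth), and the dimension of a module is the Krull dimension of its
support; the depth of P is its grade with respect to T_+ (the common length of the maximal P-regular
sequences in T_+). -/
theorem result (k : Type u) [Field k] (r s : ℕ) (h2r : 2 ≤ r) (h2s : 2 ≤ s) (T : Type u) [CommRing T] [Algebra k T] (𝒯 : ℤ → Submodule k T) [GradedAlgebra 𝒯] (ψ : T →ₐ[k] TensorProduct k (MvPolynomial (Fin r) k) (MvPolynomial (Fin s) k)) (hT : GrSeg.IsSegreRing (MvPolynomial.weightedHomogeneousSubmodule k (fun _ : Fin r => (1 : ℤ))) (MvPolynomial.weightedHomogeneousSubmodule k (fun _ : Fin s => (1 : ℤ))) 𝒯 ψ) (mT : HomogeneousIdeal 𝒯) (hmT : mT.toIdeal = Ideal.span (⋃ n ∈ Set.Ioi (0 : ℤ), (𝒯 n : Set T))) (a b : ℤ) (P : Type u) [AddCommGroup P] [Module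 T P] [Module k P] [IsScalarTower k T P] (𝒬 : ℤ → AddSubgroup P) [DirectSum.Decomposition 𝒬] (φ : P →ₗ[k] TensorProduct k (MvPolynomial (Fin r) k) (MvPolynomial (Fin s) k)) (hP : GrSeg.IsSegreMod ψ (fun n : ℤ => (MvPolynomial.weightedHomogeneousSubmodule k (fun _ : Fin r => (1 : ℤ))) (n + a)) (fun n : ℤ => (MvPolynomial.weightedHomogeneousSubmodule k (fun _ : Fin s => (1 : ℤ))) (n + b)) 𝒬 φ) : ((∀ (q : Ideal T) [q.IsPrime], Subsingleton (LocalizedModule q.primeCompl P) ∨ LocCoh.IsCohenMacaulayModule (Localization.AtPrime q) (LocalizedModule q.primeCompl P)) ↔ (a - b < (s : ℤ) ∧ -(r : ℤ) < a - b)) ∧ ((s : ℤ) ≤ a - b → LocCoh.idealDepth mT.toIdeal P = (s : ℕ∞)) ∧ (a - b ≤ -(r : ℤ) → LocCoh.idealDepth mT.toIdeal P = (r : ℕ∞)) := by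
  classical
  let 𝒜 := Groth.Agent.GrInj.SegPoly.W k r
  let ℬ := Groth.Agent.GrInj.SegPoly.W k s
  let mR := Groth.Agent.GrInj.SegPoly.irr k r
  let mS := Groth.Agent.GrInj.SegPoly.irr k s
  let ℳ := Groth.Agent.GrInj.SegPoly.sh k r a
  let 𝒩 := Groth.Agent.GrInj.SegPoly.sh k s b
  have hP' : GrSeg.IsSegreMod ψ ℳ 𝒩 𝒬 φ := ⟨hP.injective, fun n => (hP.image_piece n).trans (congrArg SetLike.coe (by
    unfold GrSeg.segrePiece
    congr 1
    ext z
    constructor
    · rintro ⟨x, hx, y, hy, rfl⟩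
      exact ⟨x, (Groth.Agent.GrInj.SegPoly.mem_sh k r).2 hx, y, (Groth.Agent.GrInj.SegPoly.mem_sh k s).2 hy, rfl⟩
    · rintro ⟨x, hx, y, hy, rfl⟩
      exact ⟨x, (Groth.Agent.GrInj.SegPoly.mem_sh k r).1 hx, y, (Groth.Agent.GrInj.SegPoly.mem_sh k s).1 hy, rfl⟩)),
    hP.map_smul⟩
  have hposR := Groth.Agent.GrInj.SegPoly.hpos k r
  have hposS := Groth.Agent.GrInj.SegPoly.hpos k s
  have h0R := Groth.Agent.GrInj.SegPoly.h0 k r
  have h0S := Groth.Agent.GrInj.SegPoly.h0 k s
  have hdR := Groth.Agent.GrInj.SegPoly.dim_eq k r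
  have hdS := Groth.Agent.GrInj.SegPoly.dim_eq k s
  haveI := Groth.Agent.GrInj.SegPoly.isCM k r
  haveI := Groth.Agent.GrInj.SegPoly.isCM k s
  have hdM := (Module.supportDim_self_eq_ringKrullDim (R := MvPolynomial (Fin r) k)).trans hdR
  have hdN := (Module.supportDim_self_eq_ringKrullDim (R := MvPolynomial (Fin s) k)).trans hdS
  haveI := Groth.Agent.GrInj.SegK.gradedSMul_segre hT hP'
  haveI := Groth.Agent.GrInj.SegK.finite_segre hposR h0R hposS h0S hT hP' hdM hdN
  have hR0 : ∀ n, ℳ n = ⊥ ↔ n + a < 0 := Groth.Agent.GrInj.SegPoly.sh_eq_bot_iff k r (by omega) a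
  have hS0 : ∀ n, 𝒩 n = ⊥ ↔ n + b < 0 := Groth.Agent.GrInj.SegPoly.sh_eq_bot_iff k s (by omega) b
  haveI : Nontrivial P := by
    obtain ⟨x, hx, hx0⟩ : ∃ x ∈ ℳ (max (-a) (-b)), x ≠ 0 := by
      by_contra h
      push Not at h
      exact absurd ((hR0 _).1 ((AddSubgroup.eq_bot_iff_forall _).2 h)) (by omega)
    obtain ⟨y, hy, hy0⟩ : ∃ y ∈ 𝒩 (max (-a) (-b)), y ≠ 0 := by
      by_contra h
      push Not at h
      exact absurd ((hS0 _).1 ((AddSubgroup.eq_bot_iff_forall _).2 h)) (by omega)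
    have hxy : x ⊗ₜ[k] y ∈ φ '' (𝒬 (max (-a) (-b)) : Set P) := by
      rw [hP'.image_piece]
      exact Submodule.subset_span ⟨x, hx, y, hy, rfl⟩
    obtain ⟨p, -, hp⟩ := hxy
    refine ⟨p, 0, fun h => ?_⟩
    rw [h, map_zero] at hp
    rcases smul_eq_zero.1 (show (1 : k) • (x ⊗ₜ[k] y) = 0 by rw [← hp, smul_zero]) with h1 | h1
    · exact one_ne_zero h1
    obtain ⟨f, hf⟩ := Module.Projective.exists_dual_ne_zero k hx0
    obtain ⟨g, hg⟩ := Module.Projective.exists_dual_ne_zero k hy0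
    have h2 := congrArg (TensorProduct.lift (LinearMap.compl₁₂ (LinearMap.mul k k) f g)) h1
    simp [hf, hg] at h2
  haveI : IsNoetherianRing T := Groth.Agent.SegreDim.isNoetherian ψ hT.1 hT.2
  haveI := Groth.Agent.GrInj.SegK.nontrivial_segre ψ
  have hcmR : ∀ (q : Ideal (MvPolynomial (Fin r) k)) [q.IsPrime],
      Subsingleton (LocalizedModule q.primeCompl (MvPolynomial (Fin r) k)) ∨
      LocCoh.IsCohenMacaulayModule (Localization.AtPrime q) (LocalizedModule q.primeCompl (MvPolynomial (Fin r) k)) :=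
    fun q _ => Or.inr ((Groth.Agent.DepthLib.isCohenMacaulayModule_congr
      (LinearEquiv.extendScalarsOfIsLocalization q.primeCompl (Localization.AtPrime q)
        (IsLocalizedModule.linearEquiv q.primeCompl (LocalizedModule.mkLinearMap q.primeCompl _)
          (Algebra.linearMap _ (Localization.AtPrime q))))).2
      (LocCoh.IsCohenMacaulayRing.isCohenMacaulayLocalRing_localization q).supportDim_eq_depth)
  have hcmS : ∀ (q : Ideal (MvPolynomial (Fin s) k)) [q.IsPrime],
      Subsingleton (LocalizedModule q.primeCompl (MvPolynomial (Fin s) k)) ∨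
      LocCoh.IsCohenMacaulayModule (Localization.AtPrime q) (LocalizedModule q.primeCompl (MvPolynomial (Fin s) k)) :=
    fun q _ => Or.inr ((Groth.Agent.DepthLib.isCohenMacaulayModule_congr
      (LinearEquiv.extendScalarsOfIsLocalization q.primeCompl (Localization.AtPrime q)
        (IsLocalizedModule.linearEquiv q.primeCompl (LocalizedModule.mkLinearMap q.primeCompl _)
          (Algebra.linearMap _ (Localization.AtPrime q))))).2
      (LocCoh.IsCohenMacaulayRing.isCohenMacaulayLocalRing_localization q).supportDim_eq_depth)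
  obtain ⟨I₀⟩ := Groth.Agent.GrInj.SegK.nonempty_res (𝒜 := 𝒜) (ℳ := 𝒜)
  obtain ⟨J₀⟩ := Groth.Agent.GrInj.SegK.nonempty_res (𝒜 := ℬ) (ℳ := ℬ)
  obtain ⟨E⟩ := Groth.Agent.GrInj.SegK.nonempty_res (𝒜 := 𝒯) (ℳ := 𝒬)
  let I := Groth.Agent.GrInj.SegPoly.shRes k r I₀ a
  let J := Groth.Agent.GrInj.SegPoly.shRes k s J₀ b
  have hIr : ∀ n, I.Hcomp mR r n = ⊥ ↔ -(r : ℤ) < n + a := fun n =>
    (Groth.Agent.GrInj.SegPoly.shRes_Hcomp k r I₀ a r n).trans
      (Groth.Agent.GrInj.SegPoly.hcomp_top_iff k r (by omega) I₀ (n + a))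
  have hJs : ∀ n, J.Hcomp mS s n = ⊥ ↔ -(s : ℤ) < n + b := fun n =>
    (Groth.Agent.GrInj.SegPoly.shRes_Hcomp k s J₀ b s n).trans
      (Groth.Agent.GrInj.SegPoly.hcomp_top_iff k s (by omega) J₀ (n + b))
  have hdim := (Groth.Agent.S19754.result k _ 𝒜 hposR h0R _ ℬ hposS h0S T 𝒯 ψ hT _ ℳ _ 𝒩 P 𝒬 φ hP' r s
    (by omega) (by omega) hdM hdN hcmR hcmS).resolve_right (not_subsingleton P)
  refine ⟨(Groth.Agent.GrInj.SegK.cm_segreMod_iff hT hposR h0R hposS h0S mR rfl mS rfl I J hP' hdM hdN hdim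
    h2r h2s hcmR hcmS).trans ?_, ?_⟩
  · constructor
    · rintro ⟨h1, h2⟩
      constructor
      · rcases h1 (-a) with h | h
        · have := (hR0 _).1 h
          omega
        · have := (hJs _).1 h
          omega
      · rcases h2 (-b) with h | h
        · have := (hIr _).1 h
          omega
        · have := (hS0 _).1 h
          omega
    · rintro ⟨h1, h2⟩
      refine ⟨fun n => ?_, fun n => ?_⟩
      · rcases lt_or_ge (n + a) 0 with h | h
        · exact Or.inl ((hR0 n).2 h)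
        · exact Or.inr ((hJs n).2 (by omega))
      · rcases lt_or_ge (n + b) 0 with h | h
        · exact Or.inr ((hS0 n).2 h)
        · exact Or.inl ((hIr n).2 (by omega))
  have hposT : ∀ n : ℤ, n < 0 → 𝒯 n = ⊥ := fun n hn => by
    rw [Submodule.eq_bot_iff]
    intro t ht
    have h : ψ t ∈ GrSeg.segrePiece k 𝒜 ℬ n := (hT.2 n).le ⟨t, ht, rfl⟩
    have h0 : GrSeg.segrePiece k 𝒜 ℬ n = ⊥ := by
      unfold GrSeg.segrePiece
      rw [Submodule.span_eq_bot]
      rintro _ ⟨x, hx, y, -, rfl⟩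
      rw [(Submodule.mem_bot k).1 ((hposR n hn).le hx), TensorProduct.zero_tmul]
    rw [h0, Submodule.mem_bot] at h
    exact hT.1 (h.trans (map_zero ψ).symm)
  have h0T := Groth.Agent.GrInj.SegK.deg0_segre hT h0R h0S
  have hRv := Groth.Agent.GrInj.SegK.hcompMod_eq_bot_below hposR h0R (m := mR) rfl I hdM hcmR
  have hSv := Groth.Agent.GrInj.SegK.hcompMod_eq_bot_below hposS h0S (m := mS) rfl J hdN hcmS
  have key := fun q d => Groth.Agent.GrInj.SegK.kunneth_depth_two hposR h0R hposS h0S hT mR rfl mS rfl mT hmT I J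
    hP' E d (fun i hi => hRv i (by omega) d) (fun i hi => hSv i (by omega) d) q
  have eI : ∀ i d, Module.finrank (GrLC.deg0 𝒜) (I.Hcomp mR i d) = 0 ↔ I.Hcomp mR i d = ⊥ :=
    Groth.Agent.GrInj.SegK.finrank_hcomp_eq_zero_iff hposR h0R rfl I
  have eJ : ∀ i d, Module.finrank (GrLC.deg0 ℬ) (J.Hcomp mS i d) = 0 ↔ J.Hcomp mS i d = ⊥ :=
    Groth.Agent.GrInj.SegK.finrank_hcomp_eq_zero_iff hposS h0S rfl J
  have eE : ∀ i d, Module.finrank (GrLC.deg0 𝒯) (E.Hcomp mT i d) = 0 ↔ E.Hcomp mT i d = ⊥ :=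
    Groth.Agent.GrInj.SegK.finrank_hcomp_eq_zero_iff hposT h0T hmT E
  have eM : ∀ d, Module.finrank (GrLC.deg0 𝒜) (GrLC.comp 𝒜 ℳ d) = 0 ↔ d + a < 0 := fun d =>
    ((Groth.Agent.GrInj.SegK.finrank_comp_eq_zero_iff hposR h0R (m := mR) rfl d).trans
      (AddSubgroup.eq_bot_iff_forall _).symm).trans (hR0 d)
  have eN : ∀ d, Module.finrank (GrLC.deg0 ℬ) (GrLC.comp ℬ 𝒩 d) = 0 ↔ d + b < 0 := fun d =>
    ((Groth.Agent.GrInj.SegK.finrank_comp_eq_zero_iff hposS h0S (m := mS) rfl d).trans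
      (AddSubgroup.eq_bot_iff_forall _).symm).trans (hS0 d)
  refine ⟨fun hab => ?_, fun hab => ?_⟩
  · refine depth_eq (Groth.Agent.GrInj.Conv.ideal 𝒯 mT) (Groth.Agent.GrInj.Conv.res E) s (fun i hi d => ?_) ⟨-a, ?_⟩
    · refine (Groth.Agent.GrInj.Conv.res_Hcomp E mT i d).2 ((eE i d).1 ?_)
      rw [key, (eJ i d).2 (hSv i hi d), mul_zero, zero_add, Nat.add_eq_zero_iff]
      refine ⟨?_, Finset.sum_eq_zero fun j hj => ?_⟩
      · rcases Nat.lt_trichotomy i r with h | h | h
        · rw [(eI i d).2 (hRv i h d), zero_mul]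
        · subst h
          rcases lt_or_ge (d + b) 0 with h | h
          · rw [(eN d).2 h, mul_zero]
          · rw [(eI i d).2 ((hIr d).2 (by omega)), zero_mul]
        · rw [(eI i d).2 (Groth.Agent.GrInj.SegK.hcompMod_eq_bot_above I hdM i h d), zero_mul]
      · have := Finset.mem_range.1 hj
        rcases lt_or_ge j r with h | h
        · rw [(eI j d).2 (hRv j h d), zero_mul]
        · rw [(eJ _ d).2 (hSv (i + 1 - j) (by omega) d), mul_zero]
    · intro hbot
      have h := (eE s (-a)).2 ((Groth.Agent.GrInj.Conv.res_Hcomp E mT s (-a)).1 hbot)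
      rw [key] at h
      rcases Nat.mul_eq_zero.1 (Nat.add_eq_zero_iff.1 (Nat.add_eq_zero_iff.1 h).1).1 with h | h
      · have := (eM _).1 h
        omega
      · have := (hJs _).1 ((eJ _ _).1 h)
        omega
  · refine depth_eq (Groth.Agent.GrInj.Conv.ideal 𝒯 mT) (Groth.Agent.GrInj.Conv.res E) r (fun i hi d => ?_) ⟨-b, ?_⟩
    · refine (Groth.Agent.GrInj.Conv.res_Hcomp E mT i d).2 ((eE i d).1 ?_)
      rw [key, (eI i d).2 (hRv i hi d), zero_mul, add_zero, Nat.add_eq_zero_iff]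
      refine ⟨?_, Finset.sum_eq_zero fun j hj => ?_⟩
      · rcases Nat.lt_trichotomy i s with h | h | h
        · rw [(eJ i d).2 (hSv i h d), mul_zero]
        · subst h
          rcases lt_or_ge (d + a) 0 with h | h
          · rw [(eM d).2 h, zero_mul]
          · rw [(eJ i d).2 ((hJs d).2 (by omega)), mul_zero]
        · rw [(eJ i d).2 (Groth.Agent.GrInj.SegK.hcompMod_eq_bot_above J hdN i h d), mul_zero]
      · have := Finset.mem_range.1 hj
        rcases lt_or_ge j r with h | h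
        · rw [(eI j d).2 (hRv j h d), zero_mul]
        · rw [(eJ _ d).2 (hSv (i + 1 - j) (by omega) d), mul_zero]
    · intro hbot
      have h := (eE r (-b)).2 ((Groth.Agent.GrInj.Conv.res_Hcomp E mT r (-b)).1 hbot)
      rw [key] at h
      rcases Nat.mul_eq_zero.1 (Nat.add_eq_zero_iff.1 (Nat.add_eq_zero_iff.1 h).1).2 with h | h
      · have := (hIr _).1 ((eI _ _).1 h)
        omega
      · have := (eN _).1 h
        omega

end Groth.Agent.S19763
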