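import Groth.Statements.S19764
import Mathlib
import Groth.Agent.GrInj.SegreKDimOne
import Groth.Agent.GrInj.SegrePoly
-- import your own Groth.Agent.* helpers here

set_option autoImplicit false
universe u
open scoped TensorProduct
attribute [local instance] MvPolynomial.weightedGradedAlgebra
open GrSegre

namespace Groth.Agent.S19764

/-- The depth of the Segre product of two shifted polynomial rings, from its cohomology. -/
theorem depth_eq {T : Type u} [CommRing T] [IsNoetherianRing T] {𝒯 : ℤ → AddSubgroup T} [GradedRing 𝒯]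
    {P : Type u} [AddCommGroup P] [Module T P] [Module.Finite T P] {𝒬 : ℤ → AddSubgroup P} [DirectSum.Decomposition 𝒬]
    [SetLike.GradedSMul 𝒯 𝒬] (m : HomogeneousIdeal 𝒯) (E : GrLC.StarInjRes 𝒯 𝒬) (n : ℕ)
    (hlow : ∀ i < n, ∀ d, E.Hcomp m i d = ⊥) (htop : ∃ d, E.Hcomp m n d ≠ ⊥) :
    LocCoh.idealDepth m.toIdeal P = (n : ℕ∞) := by
  have h1 : (n : ℕ∞) ≤ LocCoh.idealDepth m.toIdeal P :=
    (Groth.Agent.LocCohLib.natCast_le_idealDepth_iff_vanishing m.toIdeal P n).2 fun i hi =>
      Groth.Agent.GrInj.CMCrit.subsingleton_of_subsingleton_H 𝒬 E i (Groth.Agent.GrInj.SegK.subsingleton_H_of_pieces E m i (hlow i hi))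
  have h2 : ¬ ((n + 1 : ℕ) : ℕ∞) ≤ LocCoh.idealDepth m.toIdeal P := fun h => by
    obtain ⟨d, hd⟩ := htop
    exact hd (Groth.Agent.GrInj.SegK.pieces_of_subsingleton_H E m n d (Groth.Agent.GrInj.CMCrit.subsingleton_H_of_subsingleton 𝒬 E n
      ((Groth.Agent.LocCohLib.natCast_le_idealDepth_iff_vanishing m.toIdeal P (n + 1)).1 h n (Nat.lt_succ_self n))))
  refine le_antisymm ?_ h1
  rw [Nat.cast_add, Nat.cast_one, not_le] at h2
  exact (ENat.lt_add_one_iff (ENat.natCast_ne_top n)).1 h2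

/-- Let R = k[X] and S = k[Y_1, …, Y_s] be polynomial rings over a field k with every variable of degree
1, s ≥ 2, T = R # S, and M = R(a), N = S(b) for integers a, b. Then (a) if a ≥ b, M # N is a
Cohen–Macaulay T-module; (b) if a < b, depth (M # N) = 1. (Part (a) of the published statement also
identifies M # N with S(b); that identification is not stated here.) Here the polynomial rings carry
the standard grading by k-subspaces of homogeneous polynomials (indexed by ℤ, all variables of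
weight 1); the Segre product T = R # S = ⊕_n R_n ⊗_k S_n is presented abstractly as a graded
k-algebra T with an injective k-algebra homomorphism ψ : T → R ⊗_k S carrying T_n onto the k-span of
the elementary tensors of bidegree (n, n), T_+ is the ideal spanned by the T_n with n > 0, and R(a)
# S(b) = ⊕_n R_{n+a} ⊗_k S_{n+b} is presented abstractly as a graded T-module P with an injective
k-linear map φ : P → R ⊗_k S carrying P_n onto the k-span of the tensors x ⊗ y with x ∈ R_{n+a}, y ∈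
S_{n+b} and turning the action of t ∈ T into that of ψ(t); a module over a ring is called
Cohen–Macaulay when each of its localizations at a prime ideal is zero or a Cohen–Macaulay module
over the local ring (dimension of the support equal to the depth), and the dimension of a module is
the Krull dimension of its support; the depth of P is its grade with respect to T_+ (the common
length of the maximal P-regular sequences in T_+). -/
theorem result (k : Type u) [Field k] (s : ℕ) (h2s : 2 ≤ s) (T : Type u) [CommRing T] [Algebra k T] (𝒯 : ℤ → Submodule k T) [GradedAlgebra 𝒯] (ψ : T →ₐ[k] TensorProduct k (MvPolynomial (Fin 1) k) (MvPolynomial (Fin s) k)) (hT : GrSeg.IsSegreRing (MvPolynomial.weightedHomogeneousSubmodule k (fun _ : Fin 1 => (1 : ℤ))) (MvPolynomial.weightedHomogeneousSubmodule k (fun _ : Fin s => (1 : ℤ))) 𝒯 ψ) (mT : HomogeneousIdeal 𝒯) (hmT : mT.toIdeal = Ideal.span (⋃ n ∈ Set.Ioi (0 : ℤ), (𝒯 n : Set T))) (a b : ℤ) (P : Type u) [AddCommGroup P] [Module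 T P] [Module k P] [IsScalarTower k T P] (𝒬 : ℤ → AddSubgroup P) [DirectSum.Decomposition 𝒬] (φ : P →ₗ[k] TensorProduct k (MvPolynomial (Fin 1) k) (MvPolynomial (Fin s) k)) (hP : GrSeg.IsSegreMod ψ (fun n : ℤ => (MvPolynomial.weightedHomogeneousSubmodule k (fun _ : Fin 1 => (1 : ℤ))) (n + a)) (fun n : ℤ => (MvPolynomial.weightedHomogeneousSubmodule k (fun _ : Fin s => (1 : ℤ))) (n + b)) 𝒬 φ) : (b ≤ a → (∀ (q : Ideal T) [q.IsPrime], Subsingleton (LocalizedModule q.primeCompl P) ∨ LocCoh.IsCohenMacaulayModule (Localization.AtPrime q) (LocalizedModule q.primeCompl P))) ∧ (a < b → LocCoh.idealDepth mT.toIdeal P = (1 : ℕ∞)) := by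
  classical
  let 𝒜 := Groth.Agent.GrInj.SegPoly.W k 1
  let ℬ := Groth.Agent.GrInj.SegPoly.W k s
  let mR := Groth.Agent.GrInj.SegPoly.irr k 1
  let mS := Groth.Agent.GrInj.SegPoly.irr k s
  let ℳ := Groth.Agent.GrInj.SegPoly.sh k 1 a
  let 𝒩 := Groth.Agent.GrInj.SegPoly.sh k s b
  have hP' : GrSeg.IsSegreMod ψ ℳ 𝒩 𝒬 φ := ⟨hP.injective, fun n => (hP.image_piece n).trans (congrArg SetLike.coe (by
    unfold GrSeg.segrePiece
    congr 1
    ext z
    constructor
    · rintro ⟨x, hx, y, hy, rfl⟩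
      exact ⟨x, (Groth.Agent.GrInj.SegPoly.mem_sh k 1).2 hx, y, (Groth.Agent.GrInj.SegPoly.mem_sh k s).2 hy, rfl⟩
    · rintro ⟨x, hx, y, hy, rfl⟩
      exact ⟨x, (Groth.Agent.GrInj.SegPoly.mem_sh k 1).1 hx, y, (Groth.Agent.GrInj.SegPoly.mem_sh k s).1 hy, rfl⟩)),
    hP.map_smul⟩
  have hposR := Groth.Agent.GrInj.SegPoly.hpos k 1
  have hposS := Groth.Agent.GrInj.SegPoly.hpos k s
  have h0R := Groth.Agent.GrInj.SegPoly.h0 k 1
  have h0S := Groth.Agent.GrInj.SegPoly.h0 k s
  have hdR := Groth.Agent.GrInj.SegPoly.dim_eq k 1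
  have hdS := Groth.Agent.GrInj.SegPoly.dim_eq k s
  haveI := Groth.Agent.GrInj.SegPoly.isCM k 1
  haveI := Groth.Agent.GrInj.SegPoly.isCM k s
  have hdM := (Module.supportDim_self_eq_ringKrullDim (R := MvPolynomial (Fin 1) k)).trans hdR
  have hdN := (Module.supportDim_self_eq_ringKrullDim (R := MvPolynomial (Fin s) k)).trans hdS
  haveI := Groth.Agent.GrInj.SegK.gradedSMul_segre hT hP'
  haveI := Groth.Agent.GrInj.SegK.finite_segre hposR h0R hposS h0S hT hP' hdM hdN
  have hR0 : ∀ n, ℳ n = ⊥ ↔ n + a < 0 := Groth.Agent.GrInj.SegPoly.sh_eq_bot_iff k 1 (by omega) a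
  have hS0 : ∀ n, 𝒩 n = ⊥ ↔ n + b < 0 := Groth.Agent.GrInj.SegPoly.sh_eq_bot_iff k s (by omega) b
  haveI : Nontrivial P := by
    obtain ⟨x, hx, hx0⟩ : ∃ x ∈ ℳ (max (-a) (-b)), x ≠ 0 := by
      by_contra h
      push Not at h
      exact absurd ((hR0 _).1 ((AddSubgroup.eq_bot_iff_forall _).2 h)) (by omega)
    obtain ⟨y, hy, hy0⟩ : ∃ y ∈ 𝒩 (max (-a) (-b)), y ≠ 0 := by
      by_contra h
      push Not at h
      exact absurd ((hS0 _).1 ((AddSubgroup.eq_bot_iff_forall _).2 h)) (by omega)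
    have hxy : x ⊗ₜ[k] y ∈ φ '' (𝒬 (max (-a) (-b)) : Set P) := by
      rw [hP'.image_piece]
      exact Submodule.subset_span ⟨x, hx, y, hy, rfl⟩
    obtain ⟨p, -, hp⟩ := hxy
    refine ⟨p, 0, fun h => ?_⟩
    rw [h, map_zero] at hp
    rcases smul_eq_zero.1 (show (1 : k) • (x ⊗ₜ[k] y) = 0 by rw [← hp, smul_zero]) with h1 | h1
    · exact one_ne_zero h1
    obtain ⟨f, hf⟩ := Module.Projective.exists_dual_ne_zero k hx0
    obtain ⟨g, hg⟩ := Module.Projective.exists_dual_ne_zero k hy0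
    have h2 := congrArg (TensorProduct.lift (LinearMap.compl₁₂ (LinearMap.mul k k) f g)) h1
    simp [hf, hg] at h2
  haveI : IsNoetherianRing T := Groth.Agent.SegreDim.isNoetherian ψ hT.1 hT.2
  haveI := Groth.Agent.GrInj.SegK.nontrivial_segre ψ
  have hcmR : ∀ (q : Ideal (MvPolynomial (Fin 1) k)) [q.IsPrime],
      Subsingleton (LocalizedModule q.primeCompl (MvPolynomial (Fin 1) k)) ∨
      LocCoh.IsCohenMacaulayModule (Localization.AtPrime q) (LocalizedModule q.primeCompl (MvPolynomial (Fin 1) k)) :=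
    fun q _ => Or.inr ((Groth.Agent.DepthLib.isCohenMacaulayModule_congr
      (LinearEquiv.extendScalarsOfIsLocalization q.primeCompl (Localization.AtPrime q)
        (IsLocalizedModule.linearEquiv q.primeCompl (LocalizedModule.mkLinearMap q.primeCompl _)
          (Algebra.linearMap _ (Localization.AtPrime q))))).2
      (LocCoh.IsCohenMacaulayRing.isCohenMacaulayLocalRing_localization q).supportDim_eq_depth)
  have hcmS : ∀ (q : Ideal (MvPolynomial (Fin s) k)) [q.IsPrime],
      Subsingleton (LocalizedModule q.primeCompl (MvPolynomial (Fin s) k)) ∨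
      LocCoh.IsCohenMacaulayModule (Localization.AtPrime q) (LocalizedModule q.primeCompl (MvPolynomial (Fin s) k)) :=
    fun q _ => Or.inr ((Groth.Agent.DepthLib.isCohenMacaulayModule_congr
      (LinearEquiv.extendScalarsOfIsLocalization q.primeCompl (Localization.AtPrime q)
        (IsLocalizedModule.linearEquiv q.primeCompl (LocalizedModule.mkLinearMap q.primeCompl _)
          (Algebra.linearMap _ (Localization.AtPrime q))))).2
      (LocCoh.IsCohenMacaulayRing.isCohenMacaulayLocalRing_localization q).supportDim_eq_depth)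
  obtain ⟨I₀⟩ := Groth.Agent.GrInj.SegK.nonempty_res (𝒜 := 𝒜) (ℳ := 𝒜)
  obtain ⟨E⟩ := Groth.Agent.GrInj.SegK.nonempty_res (𝒜 := 𝒯) (ℳ := 𝒬)
  let I := Groth.Agent.GrInj.SegPoly.shRes k 1 I₀ a
  have hIr : ∀ n, I.Hcomp mR 1 n = ⊥ ↔ -(1 : ℤ) < n + a := fun n => by
    have h := (Groth.Agent.GrInj.SegPoly.shRes_Hcomp k 1 I₀ a 1 n).trans
      (Groth.Agent.GrInj.SegPoly.hcomp_top_iff k 1 le_rfl I₀ (n + a))
    simpa using h
  have hdim := (Groth.Agent.S19754.result k _ 𝒜 hposR h0R _ ℬ hposS h0S T 𝒯 ψ hT _ ℳ _ 𝒩 P 𝒬 φ hP' 1 s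
    le_rfl (by omega) hdM hdN hcmR hcmS).resolve_right (not_subsingleton P)
  obtain ⟨h0, h1, hiff, -⟩ := Groth.Agent.GrInj.SegK.cm_segreMod_dim_one hT hposR h0R hposS h0S mR rfl I hP'
    (by omega : 1 ≤ s) hdM hdN (hdim.trans (by rw [show 1 + s - 1 = s by omega])) hcmR hcmS (mT := mT) hmT E
  refine ⟨fun hab => (hiff h2s).2 fun d => ?_, fun hab => ?_⟩
  · rcases lt_or_ge (d + b) 0 with h | h
    · exact Or.inr ((hS0 d).2 h)
    · exact Or.inl ((hIr d).2 (by omega))
  · refine depth_eq (Groth.Agent.GrInj.Conv.ideal 𝒯 mT) (Groth.Agent.GrInj.Conv.res E) 1 (fun i hi d => ?_) ⟨-b, ?_⟩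
    · obtain rfl : i = 0 := by omega
      exact (Groth.Agent.GrInj.Conv.res_Hcomp E mT 0 d).2 (h0 d)
    · intro hbot
      rcases (h1 h2s (-b)).1 ((Groth.Agent.GrInj.Conv.res_Hcomp E mT 1 (-b)).1 hbot) with h | h
      · have := (hIr _).1 h
        omega
      · have := (hS0 _).1 h
        omega

end Groth.Agent.S19764
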