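import Groth.Statements.S19799
import Mathlib
-- import your own Groth.Agent.* helpers here

set_option autoImplicit false
universe u v w
open scoped TensorProduct
open CAlg

namespace Groth.Agent.S19799

section Aux
open scoped TensorProduct

private lemma exists_embedding (k : Type u) [Field k] [IsAlgClosed k] (A : Type v) [CommRing A]
    [Algebra k A] [Module.Finite k A] :
    ∃ (n : ℕ) (φ : (A ⧸ nilradical A) →ₐ[k] (Fin n → k)), Function.Injective φ := by
  haveI : IsArtinianRing A := IsArtinianRing.of_finite k A
  haveI : Finite (MaximalSpectrum A) := inferInstance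
  let n := Nat.card (MaximalSpectrum A)
  let e := Finite.equivFin (MaximalSpectrum A)
  have hev : ∀ m : MaximalSpectrum A, ∃ f : A →ₐ[k] k, RingHom.ker f.toRingHom = m.asIdeal := by
    intro m
    haveI := m.isMaximal
    letI : Field (A ⧸ m.asIdeal) := Ideal.Quotient.field m.asIdeal
    have hb : Function.Bijective (algebraMap k (A ⧸ m.asIdeal)) :=
      IsAlgClosed.algebraMap_bijective_of_isIntegral
    refine ⟨(AlgEquiv.ofBijective (Algebra.ofId k (A ⧸ m.asIdeal)) hb).symm.toAlgHom.comp
      (Ideal.Quotient.mkₐ k m.asIdeal), ?_⟩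
    ext a
    simp [RingHom.mem_ker, Ideal.Quotient.eq_zero_iff_mem]
  choose f hf using hev
  let F : A →ₐ[k] (Fin n → k) := Pi.algHom k _ fun i => f (e.symm i)
  have hker : RingHom.ker F.toRingHom = nilradical A := by
    ext a
    rw [RingHom.mem_ker, mem_nilradical]
    constructor
    · intro ha
      rw [← mem_nilradical, nilradical_eq_sInf, Submodule.mem_sInf]
      intro P hP
      haveI hPp : Ideal.IsPrime P := hP
      have := congr_fun ha (e ⟨P, (IsArtinianRing.isMaximal_of_isPrime P)⟩)
      have hmem : a ∈ RingHom.ker (f ⟨P, (IsArtinianRing.isMaximal_of_isPrime P)⟩).toRingHom := by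
        rw [RingHom.mem_ker]
        simpa [F] using this
      rwa [hf] at hmem
    · intro ha
      exact (IsReduced.eq_zero (F a) (ha.map F.toRingHom) : F a = 0)
  refine ⟨n, Ideal.Quotient.liftₐ _ F (fun a ha => (hker.ge ha : a ∈ RingHom.ker F.toRingHom)), ?_⟩
  rw [injective_iff_map_eq_zero]
  intro x hx
  obtain ⟨a, rfl⟩ := Ideal.Quotient.mk_surjective x
  rw [Ideal.Quotient.eq_zero_iff_mem, ← hker]
  exact hx

end Aux

/-- Let k be an algebraically closed field and A, B commutative k-algebras, each finite-dimensional as a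
k-vector space. Then reduction commutes with tensor products: the kernel of the canonical surjection
A ⊗_k B ⟶ (A/nilradical A) ⊗_k (B/nilradical B) equals the nilradical of A ⊗_k B, so that this
surjection induces an isomorphism (A ⊗_k B)_red ≅ A_red ⊗_k B_red and in particular A_red ⊗_k B_red
is reduced. -/
theorem result (k : Type u) [Field k]
    [IsAlgClosed k] (A : Type v) [CommRing A] [Algebra k A] [Module.Finite k A]
    (B : Type w) [CommRing B] [Algebra k B] [Module.Finite k B] :
    RingHom.ker (Algebra.TensorProduct.map (Ideal.Quotient.mkₐ k (nilradical A))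
      (Ideal.Quotient.mkₐ k (nilradical B))).toRingHom = nilradical (A ⊗[k] B) := by
  obtain ⟨n, φ, hφ⟩ := exists_embedding k A
  obtain ⟨m, ψ, hψ⟩ := exists_embedding k B
  set g := Algebra.TensorProduct.map (Ideal.Quotient.mkₐ k (nilradical A))
    (Ideal.Quotient.mkₐ k (nilradical B)) with hg
  apply le_antisymm
  · intro x hx
    have := Algebra.TensorProduct.map_ker (Ideal.Quotient.mkₐ k (nilradical A))
      (Ideal.Quotient.mkₐ k (nilradical B)) Ideal.Quotient.mk_surjective Ideal.Quotient.mk_surjective
    replace hx := this.le hx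
    refine (sup_le ?_ ?_ : _ ≤ nilradical (A ⊗[k] B)) hx
    · rw [Ideal.map_le_iff_le_comap]
      intro a ha
      rw [Ideal.mem_comap, mem_nilradical]
      exact (mem_nilradical.mp (Ideal.Quotient.eq_zero_iff_mem.mp ha)).map _
    · rw [Ideal.map_le_iff_le_comap]
      intro a ha
      rw [Ideal.mem_comap, mem_nilradical]
      exact (mem_nilradical.mp (Ideal.Quotient.eq_zero_iff_mem.mp ha)).map _
  · intro x hx
    rw [RingHom.mem_ker]
    let h : ((A ⧸ nilradical A) ⊗[k] (B ⧸ nilradical B)) →ₐ[k] (Fin m → Fin n → k) :=
      (Algebra.TensorProduct.piScalarRight k k (Fin n → k) (Fin m)).toAlgHom.comp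
        (Algebra.TensorProduct.map φ ψ)
    have hinj : Function.Injective h := by
      refine (Algebra.TensorProduct.piScalarRight k k (Fin n → k) (Fin m)).injective.comp ?_
      exact TensorProduct.map_injective_of_flat_flat φ.toLinearMap ψ.toLinearMap hφ hψ
    apply hinj
    rw [map_zero]
    exact IsReduced.eq_zero _ (((mem_nilradical.mp hx).map g).map h)

end Groth.Agent.S19799
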