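import Groth.Statements.S19804
import Mathlib.RingTheory.Spectrum.Prime.FreeLocus
import Mathlib.Algebra.Azumaya.Defs

set_option autoImplicit false
open scoped TensorProduct
universe u v w
open Brauer

namespace Groth.Agent.S19804

/-- Let R be a commutative ring with Spec R connected, A an Azumaya R-algebra and e an idempotent
element of A. If for some nonzero commutative R-algebra R' the element 1 ⊗ e of R' ⊗_R A is 0, then
e = 0; and if 1 ⊗ e = 1 in R' ⊗_R A, then e = 1. (The published statement is for an Azumaya algebra
over a connected scheme S and base change to an arbitrary nonempty S-scheme T; this row takes S and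
T affine.) -/
theorem result {R : Type u} [CommRing R]
    [ConnectedSpace (PrimeSpectrum R)] {A : Type v} [Ring A] [Algebra R A] [IsAzumaya R A]
    (e : A) (he : IsIdempotentElem e) (R' : Type w) [CommRing R'] [Nontrivial R'] [Algebra R R'] :
    ((1 : R') ⊗ₜ[R] e = (0 : R' ⊗[R] A) → e = 0) ∧ ((1 : R') ⊗ₜ[R] e = (1 : R' ⊗[R] A) → e = 1) := by
  have key : ∀ e : A, IsIdempotentElem e → (1 : R') ⊗ₜ[R] e = (0 : R' ⊗[R] A) → e = 0 := by
    intro e he h0
    let L : A →ₗ[R] A := LinearMap.mulLeft R e
    let Q := LinearMap.range L
    have hL : L.rangeRestrict.comp Q.subtype = LinearMap.id := LinearMap.ext fun x => Subtype.ext (by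
      obtain ⟨y, hy⟩ := x.2
      show e * (x : A) = x
      rw [← hy, LinearMap.mulLeft_apply, ← mul_assoc, he.eq])
    haveI : Module.Finite R Q := Module.Finite.range L
    haveI : Module.Projective R Q := Module.Projective.of_split Q.subtype L.rangeRestrict hL
    have hsub : Subsingleton (R' ⊗[R] Q) := subsingleton_of_forall_eq 0 fun t => by
      have h1 : L.baseChange R' = 0 := LinearMap.ext fun x => by
        induction x using TensorProduct.induction_on with
        | zero => simp
        | add a b ha hb => rw [map_add, ha, hb]; simp
        | tmul c a =>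
          rw [LinearMap.baseChange_tmul, LinearMap.zero_apply, LinearMap.mulLeft_apply]
          calc c ⊗ₜ[R] (e * a) = ((1 : R') ⊗ₜ[R] e) * (c ⊗ₜ[R] a) := by
                rw [Algebra.TensorProduct.tmul_mul_tmul, one_mul]
            _ = 0 := by rw [h0, zero_mul]
      have h2 : t = L.rangeRestrict.baseChange R' (Q.subtype.baseChange R' t) := by
        rw [← LinearMap.comp_apply, ← LinearMap.baseChange_comp, hL, LinearMap.baseChange_id]
        rfl
      obtain ⟨s, hs⟩ : ∃ s, L.rangeRestrict.baseChange R' s = t := ⟨_, h2.symm⟩
      have h3 : Q.subtype.baseChange R' t = 0 := by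
        rw [← hs, ← LinearMap.comp_apply, ← LinearMap.baseChange_comp, show Q.subtype.comp L.rangeRestrict = L from rfl, h1]
        rfl
      rw [h2, h3, map_zero]
    obtain ⟨q⟩ : Nonempty (PrimeSpectrum R') := inferInstance
    have hq : Module.rankAtStalk (R := R) Q (PrimeSpectrum.comap (algebraMap R R') q) = 0 := by
      rw [← Module.rankAtStalk_baseChange, Module.rankAtStalk_eq_zero_of_subsingleton]
      rfl
    haveI : Module.FinitePresentation R Q := Module.finitePresentation_of_projective R Q
    have hc : IsLocallyConstant (Module.rankAtStalk (R := R) Q) := Module.isLocallyConstant_rankAtStalk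
    have hz : Module.rankAtStalk (R := R) Q = 0 := funext fun p => by
      rw [hc.apply_eq_of_preconnectedSpace p (PrimeSpectrum.comap (algebraMap R R') q), hq]
      rfl
    have := Module.rankAtStalk_eq_zero_iff_subsingleton.1 hz
    have h4 := congr_arg Subtype.val (Subsingleton.elim (⟨L e, e, rfl⟩ : Q) 0)
    simpa [L, he.eq] using h4
  refine ⟨key e he, fun h1 => ?_⟩
  have := key (1 - e) he.one_sub (by rw [TensorProduct.tmul_sub, h1, ← Algebra.TensorProduct.one_def, sub_self])
  exact (sub_eq_zero.1 this).symm

end Groth.Agent.S19804
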