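import Groth.Statements.S19805
import Groth.Agent.AsympCoh.Seq

set_option autoImplicit false
set_option backward.isDefEq.respectTransparency false
universe u
open CategoryTheory CategoryTheory.Limits AlgebraicGeometry
open scoped ENNReal
open Variety

open Groth.Agent Groth.Agent.InvBasic Groth.Agent.ProjUniv Groth.Agent.InvPow Groth.Agent.QCohLib Groth.Agent.HilbPoly Groth.Agent.CurveDeg Groth.Agent.CohFinite
set_option linter.style.haveILetI false

namespace Groth.Agent.S19805

/-- Let X be a projective variety of dimension d over a field k (a geometrically integral scheme, proper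
over k, admitting an ample invertible module, with dim X = d) and L an invertible O_X-module; write
vol(L) for the upper limit of dim_k H^0(X, L^m) / m^d as m → ∞, taken in the extended non-negative
reals (the volume of L up to the factor d!). Then for every integer a ≥ 1 the volume is homogeneous
of degree d: vol(L^a) = a^d · vol(L). -/
theorem result (k : Type u) [Field k] (X : Scheme.{u})
    [X.Over (Spec (CommRingCat.of k))] [IsIntegral X] [GeometricallyIntegral (X ↘ Spec (CommRingCat.of k))]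
    [IsProper (X ↘ Spec (CommRingCat.of k))]
    (hproj : ∃ A : X.Modules, CohB1.IsAmple A) (d : ℕ) (hd : topologicalKrullDim X = d)
    (L : X.Modules) (hL : PicF.IsInvertible L) (a : ℕ) (ha : 0 < a) :
    Filter.limsup (fun m : ℕ => (Module.finrank k (Coh.HH X (CohB1.tensorPow (CohB1.tensorPow L a) m) 0) : ℝ≥0∞) /
        (m : ℝ≥0∞) ^ d) Filter.atTop =
      (a : ℝ≥0∞) ^ d * Filter.limsup (fun m : ℕ => (Module.finrank k (Coh.HH X (CohB1.tensorPow L m) 0) : ℝ≥0∞) /
        (m : ℝ≥0∞) ^ d) Filter.atTop := by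
  let Φ := Groth.Agent.AsympCoh.powFam hL
  let u : ℕ → ℕ := fun m => Module.finrank k (Coh.HH X (CohB1.tensorPow L m) 0)
  obtain ⟨C, hC, hlip⟩ := Groth.Agent.AsympCoh.exists_abs_sub_le k Φ (n := d) hd.le 0
  have hu : ∀ m, Groth.Agent.AsympCoh.hT k Φ (Coh.structureModule X) 0 (fun _ => m) = (u m : ℝ) :=
    fun m => Groth.Agent.AsympCoh.hT_unit k Φ (fun _ => m) (Iso.refl _) 0
  have hstep : ∀ m : ℕ, (u m : ℝ) ≤ u (a * (m / a)) + C * a * Groth.Agent.AsympCoh.bnd d (2 * m) := fun m => by
    have h := hlip (fun _ => m) (fun _ => a * (m / a))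
    rw [hu, hu] at h
    have hle : a * (m / a) ≤ m := Nat.mul_div_le m a
    have hlt : m - a * (m / a) ≤ a := by
      have := Nat.mod_add_div m a
      have := Nat.mod_lt m ha
      omega
    have e1 : (∑ _j : Φ.ι, (max m (a * (m / a)) - min m (a * (m / a)) : ℕ)) ≤ a := by
      simp only [Φ, Groth.Agent.AsympCoh.powFam, Finset.univ_unique, Finset.sum_singleton, max_eq_left hle,
        min_eq_right hle]
      exact hlt
    have e2 : Groth.Agent.AsympCoh.size (fun _ : Φ.ι => m) +
        Groth.Agent.AsympCoh.size (fun _ : Φ.ι => a * (m / a)) ≤ 2 * m := by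
      simp only [Groth.Agent.AsympCoh.size, Φ, Groth.Agent.AsympCoh.powFam, Finset.univ_unique, Finset.sum_singleton]
      omega
    have h' := (abs_le.mp h).2
    have := mul_le_mul (mul_le_mul_of_nonneg_left (Nat.cast_le (α := ℝ).mpr e1) hC)
      (Groth.Agent.AsympCoh.bnd_mono d e2) (Groth.Agent.AsympCoh.bnd_nonneg _ _) (by positivity)
    linarith
  let f : ℕ → ℝ≥0∞ := fun m => (u m : ℝ≥0∞) / (m : ℝ≥0∞) ^ d
  have hg : (fun m : ℕ => (Module.finrank k (Coh.HH X (CohB1.tensorPow (CohB1.tensorPow L a) m) 0) : ℝ≥0∞) /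
      (m : ℝ≥0∞) ^ d) =ᶠ[Filter.atTop] fun m => (a : ℝ≥0∞) ^ d * f (a * m) := by
    refine Filter.eventually_atTop.mpr ⟨1, fun m hm => ?_⟩
    obtain ⟨e⟩ := nonempty_pow_mul_iso hL a m
    have he : Module.finrank k (Coh.HH X (CohB1.tensorPow (CohB1.tensorPow L a) m) 0) = u (a * m) := by
      exact Int.ofNat.inj (hdim_congr k e 0)
    simp only [f, he, Nat.cast_mul, mul_pow, div_eq_mul_inv]
    rw [ENNReal.mul_inv (Or.inr (ENNReal.pow_ne_top (ENNReal.natCast_ne_top m)))
      (Or.inl (ENNReal.pow_ne_top (ENNReal.natCast_ne_top a)))]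
    have h0 : (a : ℝ≥0∞) ^ d ≠ 0 := pow_ne_zero _ (Nat.cast_ne_zero.mpr (by omega))
    rw [← mul_assoc, mul_comm ((a : ℝ≥0∞) ^ d), mul_assoc (u (a * m) : ℝ≥0∞), ← mul_assoc ((a : ℝ≥0∞) ^ d),
      ENNReal.mul_inv_cancel h0 (ENNReal.pow_ne_top (ENNReal.natCast_ne_top a)), one_mul]
  rw [Filter.limsup_congr hg, ENNReal.limsup_const_mul_of_ne_top (ENNReal.pow_ne_top (ENNReal.natCast_ne_top a))]
  refine congrArg ((a : ℝ≥0∞) ^ d * ·) (le_antisymm ?_ ?_)
  · have ht : Filter.Tendsto (fun m => a * m) Filter.atTop Filter.atTop :=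
      Filter.tendsto_atTop_atTop.mpr fun b => ⟨b, fun m hm => hm.trans (Nat.le_mul_of_pos_left m ha)⟩
    change Filter.limsup (f ∘ fun m => a * m) Filter.atTop ≤ _
    rw [Filter.limsup_comp]
    exact Filter.limsup_le_limsup_of_le ht
  · have hdiv : Filter.Tendsto (fun m : ℕ => m / a) Filter.atTop Filter.atTop :=
      le_of_eq (Filter.map_div_atTop_eq_nat a ha)
    refine ENNReal.le_of_forall_pos_le_add fun ε hε hlt => ?_
    have hε2 : (0 : ℝ≥0∞) < ε := ENNReal.coe_pos.mpr hε
    have h1 := hdiv.eventually (Filter.eventually_lt_of_limsup_lt (ENNReal.lt_add_right hlt.ne (ENNReal.half_pos hε2.ne').ne'))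
    have h2 : ∀ᶠ m : ℕ in Filter.atTop, C * a * Groth.Agent.AsympCoh.bnd d (2 * m) / (m : ℝ) ^ d ≤ (ε : ℝ) / 2 := by
      have ht := (Groth.Agent.AsympCoh.tendsto_bnd_div d (C * a * 2 ^ d / d.factorial)).eventually
        (eventually_le_nhds (show (0 : ℝ) < (ε : ℝ) / 2 by positivity))
      refine ht.mono fun m hm => le_trans ?_ hm
      refine div_le_div_of_nonneg_right ?_ (by positivity)
      have hb : Groth.Agent.AsympCoh.bnd d (2 * m) ≤ 2 ^ d * Groth.Agent.AsympCoh.bnd d m := by
        cases d with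
        | zero => simp [Groth.Agent.AsympCoh.bnd]
        | succ e =>
          simp only [Groth.Agent.AsympCoh.bnd, Nat.cast_mul, Nat.cast_ofNat]
          refine (pow_le_pow_left₀ (by positivity) (by linarith [m.cast_nonneg (α := ℝ)] :
            (1 + 2 * (m : ℝ)) ≤ 2 * (1 + m)) e).trans ?_
          rw [mul_pow]
          exact mul_le_mul_of_nonneg_right (pow_le_pow_right₀ one_le_two (Nat.le_succ e)) (by positivity)
      calc C * a * Groth.Agent.AsympCoh.bnd d (2 * m) ≤ C * a * (2 ^ d * Groth.Agent.AsympCoh.bnd d m) :=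
            mul_le_mul_of_nonneg_left hb (by positivity)
        _ = _ := by field_simp
    refine Filter.limsup_le_of_le (by isBoundedDefault) ?_
    filter_upwards [h1, h2, Filter.eventually_ge_atTop a] with m hm1 hm2 hm3
    have hq : 1 ≤ m / a := Nat.div_pos hm3 ha
    have hpos : (0 : ℝ) < ((a * (m / a) : ℕ) : ℝ) := by exact_mod_cast Nat.mul_pos ha hq
    have hm0 : (0 : ℝ) < (m : ℝ) := by exact_mod_cast (lt_of_lt_of_le ha hm3)
    have hcast : ∀ v n : ℕ, 0 < (n : ℝ) → (v : ℝ≥0∞) / (n : ℝ≥0∞) ^ d = ENNReal.ofReal ((v : ℝ) / (n : ℝ) ^ d) :=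
      fun v n hn => by
        rw [ENNReal.ofReal_div_of_pos (by positivity), ENNReal.ofReal_pow hn.le, ENNReal.ofReal_natCast, ENNReal.ofReal_natCast]
    have hreal : (u m : ℝ) / (m : ℝ) ^ d ≤
        (u (a * (m / a)) : ℝ) / ((a * (m / a) : ℕ) : ℝ) ^ d + (ε : ℝ) / 2 := by
      refine (div_le_div_of_nonneg_right (hstep m) (by positivity)).trans ?_
      rw [add_div]
      exact add_le_add (div_le_div_of_nonneg_left (by positivity) (by positivity)
        (pow_le_pow_left₀ hpos.le (by exact_mod_cast Nat.mul_div_le m a) d)) hm2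
    change f m ≤ _
    simp only [f] at hm1 ⊢
    rw [hcast _ _ hm0]
    refine (ENNReal.ofReal_le_ofReal hreal).trans (ENNReal.ofReal_add_le.trans ?_)
    rw [← hcast _ _ hpos, ENNReal.ofReal_div_of_pos two_pos, ENNReal.ofReal_coe_nnreal, ENNReal.ofReal_ofNat]
    refine (add_le_add hm1.le le_rfl).trans ?_
    rw [add_assoc, ENNReal.add_halves]
end Groth.Agent.S19805
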