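import Groth.Statements.S19806
import Groth.Agent.AsympCoh.Seq
import Groth.Agent.IntTh.NumTrivial
import Groth.Agent.IntTh.SemiampleGrowth
import Groth.Agent.IntTh.Big
import Groth.Agent.IntTh.Positive

set_option autoImplicit false
set_option backward.isDefEq.respectTransparency false
universe u
open CategoryTheory CategoryTheory.Limits AlgebraicGeometry
open scoped ENNReal
open Variety

open Groth.Agent Groth.Agent.InvBasic Groth.Agent.ProjUniv Groth.Agent.InvPow Groth.Agent.QCohLib Groth.Agent.HilbPoly Groth.Agent.CurveDeg Groth.Agent.CohFinite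
set_option linter.style.haveILetI false
set_option maxHeartbeats 1600000

namespace Groth.Agent.S19806

/-- Let X be a projective variety of dimension d over a field k (a geometrically integral scheme, proper
over k, admitting an ample invertible module, with dim X = d) and L an invertible O_X-module; write
vol(L) for the upper limit of dim_k H^0(X, L^m) / m^d as m → ∞, taken in the extended non-negative
reals (the volume of L up to the factor d!). Call L big when the lower limit of dim_k H^0(X, L^m) /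
m^d is positive. Then L is big if and only if vol(L) is positive. -/
theorem result (k : Type u) [Field k] (X : Scheme.{u})
    [X.Over (Spec (CommRingCat.of k))] [IsIntegral X] [GeometricallyIntegral (X ↘ Spec (CommRingCat.of k))]
    [IsProper (X ↘ Spec (CommRingCat.of k))]
    (hproj : ∃ A : X.Modules, CohB1.IsAmple A) (d : ℕ) (hd : topologicalKrullDim X = d)
    (L : X.Modules) (hL : PicF.IsInvertible L) :
    0 < Filter.liminf (fun m : ℕ => (Module.finrank k (Coh.HH X (CohB1.tensorPow L m) 0) : ℝ≥0∞) /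
        (m : ℝ≥0∞) ^ d) Filter.atTop ↔
      0 < Filter.limsup (fun m : ℕ => (Module.finrank k (Coh.HH X (CohB1.tensorPow L m) 0) : ℝ≥0∞) /
        (m : ℝ≥0∞) ^ d) Filter.atTop := by
  refine ⟨fun h => h.trans_le Filter.liminf_le_limsup, fun hlim => ?_⟩
  haveI := isNoetherian_of_proper (X := X) k
  obtain ⟨H, hH⟩ := hproj
  obtain ⟨t, ht⟩ := Groth.Agent.IntTh.exists_globallyGenerated_pow k hH
  let B := CohB1.tensorPow H (t + 1)
  have hB : CohB1.IsAmple B := InvPow.isAmple_pow hH t.succ_pos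
  obtain ⟨σ, hσx⟩ := exists_gen_of_isGloballyGenerated hB.1 ht (genericPoint X)
  have hσ : σ ≠ 0 := IntTh.ne_zero_of_mem_genOpen hB.1 hσx
  obtain ⟨B', hB'⟩ := NegVanish.exists_inverse hB.1
  have hB'i := NegVanish.isInvertible_of_inverse hB.1 hB'
  let Φ := Groth.Agent.AsympCoh.powFam hL
  let u : ℕ → ℕ := fun m => Module.finrank k (Coh.HH X (CohB1.tensorPow L m) 0)
  let O := Coh.structureModule X
  have hO : Coh.IsCoh O := isCoh_of_isInvertible (HilbPoly.isInvertible_structureModule X)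
  have hB1 := isInvertible_tensorPow hB'i 1
  -- the restriction to the divisor of `σ` grows slowly
  let Q := cokernel (HilbPoly.mulSection O σ)
  haveI : Mono (HilbPoly.mulSection O σ) :=
    mono_mulSection_invertible (HilbPoly.isInvertible_structureModule X) hB.1 σ (genOpen_nonempty_of_ne_zero hB.1 hσ)
  have hQ : Coh.IsCoh Q := QCohLib.isCoh_cokernel _ hO.1 (HilbPoly.isCoh_tensorMod hO hB.1)
  let F := CohB1.tensorMod Q (CohB1.tensorPow B' 1)
  have hF : Coh.IsCoh F := HilbPoly.isCoh_tensorMod hQ hB1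
  have hFdim : topologicalKrullDim (CohB1.support F) < (d : WithBot ℕ∞) := by
    rw [HilbPoly.support_tensorMod Q hB1]
    have hdisj := disjoint_support_cokernel_mulSection O hB.1 σ
    have hne : CohB1.support Q ≠ Set.univ := fun h =>
      (genOpen_nonempty_of_ne_zero hB.1 hσ).ne_empty (Set.disjoint_univ.mp (h ▸ hdisj).symm)
    exact HilbPoly.dim_lt_of_ssubset (QCohLib.isClosed_support hQ.2) (IrreducibleSpace.isIrreducible_univ X)
      isClosed_univ ((Set.subset_univ _).ssubset_of_ne hne)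
      (((topologicalKrullDim_subspace_le X _).trans hd.le).trans_lt (by exact_mod_cast Nat.lt_succ_self d))
  obtain ⟨C, hC, hbd⟩ := Groth.Agent.AsympCoh.bounded_of_dim_lt k Φ d F hF hFdim 0
  have hsmall : ∀ c : ℝ, 0 ≤ c → ∀ ε : ℝ, 0 < ε →
      ∀ᶠ m : ℕ in Filter.atTop, c * Groth.Agent.AsympCoh.bnd d m / (m : ℝ) ^ d < ε := fun c hc ε hε => by
    refine ((Groth.Agent.AsympCoh.tendsto_bnd_div d (c / d.factorial)).eventually (eventually_lt_nhds hε)).mono
      fun m hm => ?_
    refine lt_of_eq_of_lt ?_ hm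
    field_simp
  have hcast : ∀ v n : ℕ, 0 < n → (v : ℝ≥0∞) / (n : ℝ≥0∞) ^ d = ENNReal.ofReal ((v : ℝ) / (n : ℝ) ^ d) :=
    fun v n hn => by
      rw [ENNReal.ofReal_div_of_pos (pow_pos (Nat.cast_pos.mpr hn) d), ENNReal.ofReal_pow (Nat.cast_nonneg n),
        ENNReal.ofReal_natCast, ENNReal.ofReal_natCast]
  -- some power of `L` contains `B`
  obtain ⟨m₀, hm₀, s, hs⟩ : ∃ m₀, 0 < m₀ ∧
      ∃ s : Γ(CohB1.tensorMod (CohB1.tensorPow L m₀) (CohB1.tensorPow B' 1), ⊤), s ≠ 0 := by
    by_contra hno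
    push Not at hno
    obtain ⟨c, hc0, hc⟩ : ∃ c : ℝ, 0 < c ∧ ENNReal.ofReal c <
        Filter.limsup (fun m : ℕ => (u m : ℝ≥0∞) / (m : ℝ≥0∞) ^ d) Filter.atTop := by
      obtain ⟨c, hc0, hc⟩ := exists_between hlim
      exact ⟨c.toReal, ENNReal.toReal_pos hc0.ne' (hc.trans_le le_top).ne,
        (ENNReal.ofReal_toReal_le).trans_lt hc⟩
    refine absurd (Filter.limsup_le_of_le (by isBoundedDefault) ?_) (not_le.mpr hc)
    filter_upwards [hsmall C hC c hc0, Filter.eventually_ge_atTop 1] with m hm hm1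
    rw [hcast _ _ hm1]
    refine ENNReal.ofReal_le_ofReal ((div_le_div_of_nonneg_right ?_ (by positivity)).trans hm.le)
    have hM := isInvertible_tensorPow hL m
    have hN := isInvertible_tensorMod hM hB1
    have h1 := IntTh.hdim_cut k hB.1 hB' σ hσ hM 0
    have h2 : hdim k X (CohB1.tensorMod (CohB1.tensorPow L m) (CohB1.tensorPow B' 1)) 0 ≤ 0 := by
      by_contra h
      obtain ⟨s, hs⟩ := IntTh.exists_section_of_hdim_pos k (isCoh_of_isInvertible hN) (not_le.mp h)
      exact hs (hno m hm1 s)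
    have h3 : (hdim k X (CohB1.tensorMod Q (CohB1.tensorMod (CohB1.tensorPow L m) (CohB1.tensorPow B' 1))) 0 : ℝ) ≤
        C * Groth.Agent.AsympCoh.bnd d m := by
      obtain ⟨c'⟩ := ProjTwist.nonempty_tensorMod_comm (CohB1.tensorPow L m) (CohB1.tensorPow B' 1)
      obtain ⟨a⟩ := nonempty_assoc Q hB1 hM
      rw [hdim_congr k ((ProjTwist.nonempty_tensorMod_iso (Iso.refl Q) c').some ≪≫ a) 0]
      refine (hbd fun _ => m).trans_eq ?_
      simp [Groth.Agent.AsympCoh.size, Φ, Groth.Agent.AsympCoh.powFam]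
    have h4 : hdim k X (CohB1.tensorMod (CohB1.tensorPow L m) (CohB1.tensorPow B' 0)) 0 = (u m : ℤ) :=
      hdim_congr k (SecTwist.unitorR _) 0
    rw [h4] at h1
    have h5 := (Int.cast_le (R := ℝ)).mpr (h1.trans (add_le_add h2 le_rfl))
    push_cast at h5
    linarith
  have hLm := isInvertible_tensorPow hL m₀
  have hN := isInvertible_tensorMod hLm hB1
  let N := CohB1.tensorMod (CohB1.tensorPow L m₀) (CohB1.tensorPow B' 1)
  have hgrow : ∀ q : ℕ, ((q + d).choose d : ℤ) ≤ u (m₀ * q) := fun q => by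
    letI : X.Over (Spec (CommRingCat.of k)) := inferInstance
    have hpos : IntTh.inumOn k (𝟙 X) (List.replicate d B) ≠ 0 := by
      refine (ne_of_gt ?_)
      unfold IntTh.inumOn
      letI : X.Over (Spec (CommRingCat.of k)) := ⟨𝟙 X ≫ (X ↘ Spec (CommRingCat.of k))⟩
      haveI : IsProper (X ↘ Spec (CommRingCat.of k)) := inferInstanceAs (IsProper (𝟙 X ≫ _))
      refine IntTh.inum_pos_of_ample k (by simp) (fun A hA => ?_) hd
      rw [List.map_replicate] at hA
      rw [List.eq_of_mem_replicate hA]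
      exact InvPow.isAmple_of_iso ((Scheme.Modules.pullbackId X).app B).symm hB
    refine (IntTh.choose_le_hdim k hB.1 ht (𝟙 X) hd hpos q).trans ?_
    have hNq := isInvertible_tensorPow hN q
    have hBq := isInvertible_tensorPow hB.1 q
    have hB'q := isInvertible_tensorPow hB'i q
    have hind : ∀ j : ℕ, hdim k X (CohB1.tensorPow B q) 0 ≤
        hdim k X (CohB1.tensorMod (CohB1.tensorPow B q) (CohB1.tensorPow N j)) 0 := fun j => by
      induction j with
      | zero => exact (hdim_congr k (SecTwist.unitorR _).symm 0).le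
      | succ j ih =>
        have hG := isInvertible_tensorMod hBq (isInvertible_tensorPow hN j)
        haveI : Mono (HilbPoly.mulSection (CohB1.tensorMod (CohB1.tensorPow B q) (CohB1.tensorPow N j)) s) :=
          mono_mulSection_invertible hG hN s (genOpen_nonempty_of_ne_zero hN hs)
        obtain ⟨a⟩ := nonempty_assoc (CohB1.tensorPow B q) (isInvertible_tensorPow hN j) hN
        exact ih.trans ((hdim_congr k (SecTwist.unitorR _).symm 0).le.trans (IntTh.hdim_le_of_regular k
          (isCoh_of_isInvertible hG) hN s (HilbPoly.isInvertible_structureModule X)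
          (SecTwist.unitorR _ ≪≫ a.symm)))
    have hLq := isInvertible_tensorPow hLm q
    obtain ⟨o⟩ := nonempty_pow_one_iso hB'i
    obtain ⟨c₁⟩ := HilbPoly.nonempty_tensorPow_congr
      (ProjTwist.nonempty_tensorMod_iso (Iso.refl (CohB1.tensorPow L m₀)) o).some q
    obtain ⟨p⟩ := nonempty_tensor_pow_iso hLm hB'i q
    obtain ⟨pm⟩ := nonempty_pow_mul_iso hL m₀ q
    obtain ⟨a⟩ := nonempty_assoc (CohB1.tensorPow B q) hLq hB'q
    obtain ⟨c₂⟩ := ProjTwist.nonempty_tensorMod_comm (CohB1.tensorPow B q) (CohB1.tensorPow (CohB1.tensorPow L m₀) q)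
    obtain ⟨a₂⟩ := nonempty_assoc (CohB1.tensorPow (CohB1.tensorPow L m₀) q) hBq hB'q
    obtain ⟨e⟩ := NegVanish.isInverseOf_pow hB.1 hB' q
    let i : CohB1.tensorMod (CohB1.tensorPow B q) (CohB1.tensorPow N q) ≅ CohB1.tensorPow L (m₀ * q) :=
      (ProjTwist.nonempty_tensorMod_iso (Iso.refl _) (c₁ ≪≫ p)).some ≪≫ a ≪≫
        (ProjTwist.nonempty_tensorMod_iso c₂ (Iso.refl _)).some ≪≫ a₂.symm ≪≫
        (ProjTwist.nonempty_tensorMod_iso pm e).some ≪≫ SecTwist.unitorR _
    exact (hind q).trans (hdim_congr k i 0).le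
  obtain ⟨C', hC', hlip⟩ := Groth.Agent.AsympCoh.exists_abs_sub_le k Φ (n := d) hd.le 0
  have hu : ∀ m, Groth.Agent.AsympCoh.hT k Φ (Coh.structureModule X) 0 (fun _ => m) = (u m : ℝ) :=
    fun m => Groth.Agent.AsympCoh.hT_unit k Φ (fun _ => m) (Iso.refl _) 0
  let ρ : ℝ := 1 / ((d.factorial : ℝ) * (2 * m₀) ^ d)
  have hm₀' : (0 : ℝ) < m₀ := Nat.cast_pos.mpr hm₀
  have hρ : 0 < ρ := by simp only [ρ]; positivity
  refine lt_of_lt_of_le (ENNReal.ofReal_pos.mpr (half_pos hρ)) (Filter.le_liminf_of_le (by isBoundedDefault) ?_)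
  filter_upwards [hsmall (C' * m₀ * 2 ^ d) (by positivity) (ρ / 2) (half_pos hρ), Filter.eventually_ge_atTop m₀]
    with m hm hm1
  have hmpos : 0 < m := hm₀.trans_le hm1
  have hle : m₀ * (m / m₀) ≤ m := Nat.mul_div_le m m₀
  have hlt : m - m₀ * (m / m₀) ≤ m₀ := by
    have := Nat.mod_add_div m m₀
    have := Nat.mod_lt m hm₀
    omega
  rw [hcast _ _ hmpos]
  refine ENNReal.ofReal_le_ofReal ?_
  have h := hlip (fun _ => m) (fun _ => m₀ * (m / m₀))
  rw [hu, hu] at h
  have e1 : (∑ _j : Φ.ι, (max m (m₀ * (m / m₀)) - min m (m₀ * (m / m₀)) : ℕ)) ≤ m₀ := by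
    simp only [Φ, Groth.Agent.AsympCoh.powFam, Finset.univ_unique, Finset.sum_singleton, max_eq_left hle,
      min_eq_right hle]
    exact hlt
  have e2 : Groth.Agent.AsympCoh.size (fun _ : Φ.ι => m) +
      Groth.Agent.AsympCoh.size (fun _ : Φ.ι => m₀ * (m / m₀)) ≤ 2 * m := by
    simp only [Groth.Agent.AsympCoh.size, Φ, Groth.Agent.AsympCoh.powFam, Finset.univ_unique, Finset.sum_singleton]
    omega
  have e3 : Groth.Agent.AsympCoh.bnd d (2 * m) ≤ 2 ^ d * Groth.Agent.AsympCoh.bnd d m := by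
    cases d with
    | zero => simp [Groth.Agent.AsympCoh.bnd]
    | succ e =>
      simp only [Groth.Agent.AsympCoh.bnd, Nat.cast_mul, Nat.cast_ofNat]
      refine (pow_le_pow_left₀ (by positivity) (by linarith [m.cast_nonneg (α := ℝ)] :
        (1 + 2 * (m : ℝ)) ≤ 2 * (1 + m)) e).trans ?_
      rw [mul_pow]
      exact mul_le_mul_of_nonneg_right (pow_le_pow_right₀ one_le_two (Nat.le_succ e)) (by positivity)
  have h5 := mul_le_mul (mul_le_mul_of_nonneg_left (Nat.cast_le (α := ℝ).mpr e1) hC')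
    ((Groth.Agent.AsympCoh.bnd_mono d e2).trans e3) (Groth.Agent.AsympCoh.bnd_nonneg _ _) (by positivity)
  have h6 : ((m / m₀ : ℕ) : ℝ) ^ d / d.factorial ≤ u (m₀ * (m / m₀)) := by
    rw [div_le_iff₀ (by positivity)]
    have n1 : (m / m₀) ^ d ≤ d.factorial * (m / m₀ + d).choose d := by
      rw [← Nat.descFactorial_eq_factorial_mul_choose]
      refine le_trans ?_ (Nat.pow_sub_le_descFactorial _ _)
      exact Nat.pow_le_pow_left (by omega) d
    have n2 : (m / m₀ + d).choose d ≤ u (m₀ * (m / m₀)) := by exact_mod_cast hgrow (m / m₀)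
    have n3 := (Nat.cast_le (α := ℝ)).mpr (n1.trans (Nat.mul_le_mul_left _ n2))
    push_cast at n3
    linarith
  have h7 : ρ * (m : ℝ) ^ d ≤ ((m / m₀ : ℕ) : ℝ) ^ d / d.factorial := by
    have hq : (1 : ℕ) ≤ m / m₀ := Nat.div_pos hm1 hm₀
    have hlt' : m ≤ 2 * (m₀ * (m / m₀)) := by
      have : m₀ ≤ m₀ * (m / m₀) := Nat.le_mul_of_pos_right m₀ hq
      omega
    have h8 : (m : ℝ) ≤ 2 * m₀ * ((m / m₀ : ℕ) : ℝ) := by
      rw [mul_assoc]; exact_mod_cast hlt'
    have h9 := pow_le_pow_left₀ (Nat.cast_nonneg m) h8 d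
    rw [mul_pow] at h9
    simp only [ρ]
    rw [div_mul_eq_mul_div, one_mul, div_le_div_iff₀ (by positivity) (by positivity)]
    calc (m : ℝ) ^ d * d.factorial ≤ (2 * (m₀ : ℝ)) ^ d * ((m / m₀ : ℕ) : ℝ) ^ d * d.factorial :=
          mul_le_mul_of_nonneg_right h9 (by positivity)
      _ = _ := by ring
  rw [le_div_iff₀ (by positivity)]
  rw [div_lt_iff₀ (pow_pos (Nat.cast_pos.mpr hmpos) d)] at hm
  have h' := (abs_le.mp h).1
  linarith
end Groth.Agent.S19806
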