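import Groth.Statements.S19809
import Mathlib
-- import your own Groth.Agent.* helpers here

set_option autoImplicit false
universe u
open RatCurv

namespace Groth.Agent.S19809

section
variable {K : Type u} [Field K]

/-- The monomial `s^(n-i) t^i`. -/
noncomputable def mon (K : Type u) [Field K] (n : ℕ) (i : Fin (n + 1)) : MvPolynomial (Fin 2) K :=
  MvPolynomial.X 0 ^ (n - i.1) * MvPolynomial.X 1 ^ i.1

/-- The binary form with given coefficients. -/
noncomputable def P (K : Type u) [Field K] (n : ℕ) :
    (Fin (n + 1) → K) →ₗ[K] MvPolynomial (Fin 2) K :=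
  Fintype.linearCombination K (mon K n)

lemma mon_eq (n : ℕ) (i : Fin (n + 1)) :
    mon K n i = MvPolynomial.monomial (Finsupp.single 0 (n - i.1) + Finsupp.single 1 i.1) 1 := by
  rw [mon, MvPolynomial.X_pow_eq_monomial, MvPolynomial.X_pow_eq_monomial,
    MvPolynomial.monomial_mul, one_mul]

lemma P_mem (n : ℕ) (c : Fin (n + 1) → K) :
    P K n c ∈ MvPolynomial.homogeneousSubmodule (Fin 2) K n := by
  simp only [P, Fintype.linearCombination_apply]
  refine Submodule.sum_mem _ fun i _ => Submodule.smul_mem _ _ ?_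
  rw [MvPolynomial.mem_homogeneousSubmodule, mon_eq]
  refine MvPolynomial.isHomogeneous_monomial _ ?_
  rw [map_add, Finsupp.degree_single, Finsupp.degree_single]
  omega

lemma coeff_P (n : ℕ) (c : Fin (n + 1) → K) (j : Fin (n + 1)) :
    (P K n c).coeff (Finsupp.single 0 (n - j.1) + Finsupp.single 1 j.1) = c j := by
  classical
  simp only [P, Fintype.linearCombination_apply, mon_eq, MvPolynomial.coeff_sum,
    MvPolynomial.coeff_smul, MvPolynomial.coeff_monomial]
  rw [Finset.sum_eq_single j]
  · simp
  · intro i _ hij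
    rw [if_neg, smul_zero]
    intro h
    have := DFunLike.congr_fun h 1
    simp at this
    exact hij (Fin.ext this)
  · simp

lemma P_injective (n : ℕ) : Function.Injective (P K n) := fun a b h => funext fun j => by
  rw [← coeff_P n a j, ← coeff_P n b j, h]

lemma range_P (n : ℕ) :
    LinearMap.range (P K n) = MvPolynomial.homogeneousSubmodule (Fin 2) K n := by
  refine le_antisymm ?_ fun p hp => ?_
  · rintro _ ⟨c, rfl⟩; exact P_mem n c
  · refine ⟨fun j => p.coeff (Finsupp.single 0 (n - j.1) + Finsupp.single 1 j.1), ?_⟩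
    refine MvPolynomial.ext _ _ fun d => ?_
    by_cases hd : d.degree = n
    · have h01 : d 0 + d 1 = n := by
        rw [Finsupp.degree_eq_sum] at hd; simpa [Fin.sum_univ_two] using hd
      have hde : d = Finsupp.single 0 (n - d 1) + Finsupp.single 1 (d 1) := by
        ext a; fin_cases a <;> simp; omega
      have h := coeff_P n
        (fun j => p.coeff (Finsupp.single 0 (n - j.1) + Finsupp.single 1 j.1)) ⟨d 1, by omega⟩
      simp only [← hde] at h
      exact h
    · have h1 := (MvPolynomial.mem_homogeneousSubmodule n p).mp hp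
      have h2 := (MvPolynomial.mem_homogeneousSubmodule n _).mp
        (P_mem n (fun j => p.coeff (Finsupp.single 0 (n - j.1) + Finsupp.single 1 j.1)))
      rw [h1.coeff_eq_zero hd, h2.coeff_eq_zero hd]

lemma finrank_hom (n : ℕ) :
    Module.finrank K (MvPolynomial.homogeneousSubmodule (Fin 2) K n) = n + 1 := by
  rw [← range_P, LinearMap.finrank_range_of_inj (P_injective n), Module.finrank_fin_fun]

lemma finite_hom (n : ℕ) :
    Module.Finite K (MvPolynomial.homogeneousSubmodule (Fin 2) K n) := by
  rw [← range_P]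
  exact Module.Finite.range _

/-- A binary cubic over an algebraically closed field has a linear factor. -/
lemma exists_factor [IsAlgClosed K] {g : MvPolynomial (Fin 2) K}
    (hg : g ∈ MvPolynomial.homogeneousSubmodule (Fin 2) K 3) :
    ∃ l ∈ MvPolynomial.homogeneousSubmodule (Fin 2) K 1,
      ∃ q ∈ MvPolynomial.homogeneousSubmodule (Fin 2) K 2, g = l * q := by
  rw [← range_P] at hg
  obtain ⟨a, rfl⟩ := hg
  by_cases h0 : a 0 = 0
  · refine ⟨P K 1 ![0, 1], P_mem _ _, P K 2 ![a 1, a 2, a 3], P_mem _ _, ?_⟩
    simp [P, Fintype.linearCombination_apply, mon, Fin.sum_univ_succ, h0, MvPolynomial.smul_eq_C_mul]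
    ring
  · obtain ⟨r, hr⟩ : ∃ r, (Polynomial.C (a 0) * Polynomial.X ^ 3 + Polynomial.C (a 1) * Polynomial.X ^ 2 +
        Polynomial.C (a 2) * Polynomial.X + Polynomial.C (a 3)).IsRoot r :=
      IsAlgClosed.exists_root _ (by rw [Polynomial.degree_cubic h0]; decide)
    simp [Polynomial.IsRoot] at hr
    refine ⟨P K 1 ![1, -r], P_mem _ _,
      P K 2 ![a 0, a 1 + r * a 0, a 2 + r * a 1 + r ^ 2 * a 0], P_mem _ _, ?_⟩
    have h3 : a 3 = -r * (a 2 + r * a 1 + r ^ 2 * a 0) := by linear_combination hr
    simp [P, Fintype.linearCombination_apply, mon, Fin.sum_univ_succ, h3, MvPolynomial.smul_eq_C_mul]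
    ring

end


/-- A smooth rational quintic curve C ⊂ P^3 has a one-parameter family of 3-secant lines. Stated, as for
the nondegenerate case, through binary forms: C is the image of P^1 under a 4-dimensional linear
series V of binary quintic forms which separates every length-2 subscheme of P^1 (for every nonzero
quadratic form e, the forms of V together with the multiples of e span all quintic forms), so that
P^1 → P(V^*) = P^3 is a closed embedding; the linear forms on P^3 are the elements of V, a line L ⊂
P^3 is the 2-dimensional space of linear forms vanishing on it, and L ∩ C has length at least 3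
exactly when that space is contained in g · K[s,t]_2 for a cubic form g. The conclusion: there are
infinitely many pairwise non-proportional nonzero cubic forms g with dim (V ∩ g · K[s,t]_2) ≥ 2,
i.e. for every finite set of cubics there is such a g proportional to none of them. (The ground
field is algebraically closed of characteristic zero in place of the complex numbers; the third
printed assertion, on curves all of whose 3-secants are 4-secant, is not stated.) -/
theorem result (K : Type u) [Field K] [IsAlgClosed K]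
    [CharZero K] (V : Submodule K (MvPolynomial (Fin 2) K))
    (hV : V ≤ MvPolynomial.homogeneousSubmodule (Fin 2) K 5) (hdim : Module.finrank K ↥V = 4)
    (hsep : ∀ e ∈ MvPolynomial.homogeneousSubmodule (Fin 2) K 2, e ≠ 0 →
      ∀ F ∈ MvPolynomial.homogeneousSubmodule (Fin 2) K 5, ∃ v ∈ V,
        ∃ h ∈ MvPolynomial.homogeneousSubmodule (Fin 2) K 3, F = v + e * h)
    (F : Finset (MvPolynomial (Fin 2) K)) :
    ∃ g ∈ MvPolynomial.homogeneousSubmodule (Fin 2) K 3, g ≠ 0 ∧
      2 ≤ Module.finrank K ↥(V ⊓ (MvPolynomial.homogeneousSubmodule (Fin 2) K 2).map (LinearMap.mulLeft K g)) ∧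
      ∀ g' ∈ F, ∀ c : K, g ≠ c • g' := by
  classical
  let H : ℕ → Submodule K (MvPolynomial (Fin 2) K) := MvPolynomial.homogeneousSubmodule (Fin 2) K
  haveI := fun n => finite_hom (K := K) n
  set V' : Submodule K (H 5) := V.comap (H 5).subtype with hV'
  have hVf : Module.finrank K V' = 4 := by
    rw [← hdim]; exact (Submodule.comapSubtypeEquivOfLe hV).finrank_eq
  have hQ : Module.finrank K (↥(H 5) ⧸ V') = 2 := by
    have := Submodule.finrank_quotient_add_finrank V'
    rw [finrank_hom, hVf] at this
    omega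
  let Φ : (H 5) →ₗ[K] (Fin 2 → K) :=
    (LinearEquiv.ofFinrankEq (↥(H 5) ⧸ V') (Fin 2 → K) (by rw [hQ, Module.finrank_fin_fun])).toLinearMap
      ∘ₗ V'.mkQ
  have hΦ : ∀ w : H 5, Φ w = 0 ↔ (w : MvPolynomial (Fin 2) K) ∈ V := fun w => by
    simp [Φ, V']
  let m : (Fin 4 → K) →ₗ[K] (Fin 3 → K) →ₗ[K] (H 5) :=
    LinearMap.mk₂ K (fun g h => (⟨P K 3 g * P K 2 h,
        (MvPolynomial.mem_homogeneousSubmodule 5 _).mpr
          (((MvPolynomial.mem_homogeneousSubmodule 3 _).mp (P_mem 3 g)).mul
            ((MvPolynomial.mem_homogeneousSubmodule 2 _).mp (P_mem 2 h)))⟩ : H 5))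
      (fun a b h => Subtype.ext (by simp [add_mul]))
      (fun c a h => Subtype.ext (by simp [smul_mul_assoc]))
      (fun a h h' => Subtype.ext (by simp [mul_add]))
      (fun c a h => Subtype.ext (by simp [mul_smul_comm]))
  let γ : K → (Fin 2 → K) →ₗ[K] K := fun c => LinearMap.proj 0 + c • LinearMap.proj 1
  -- no cubic has all its multiples in `V`
  have hno : ∀ g, g ≠ 0 → ¬ ∀ h, Φ (m g h) = 0 := by
    intro g hg hall
    obtain ⟨l, hl, q, hq, hlq⟩ := exists_factor (P_mem 3 g)
    have hq0 : q ≠ 0 := by
      rintro rfl; rw [mul_zero] at hlq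
      exact hg (P_injective 3 (by rw [hlq, map_zero]))
    have hl0 : l ≠ 0 := by
      rintro rfl; rw [zero_mul] at hlq
      exact hg (P_injective 3 (by rw [hlq, map_zero]))
    let A := (H 2).map (LinearMap.mulLeft K (P K 3 g))
    let B := (H 3).map (LinearMap.mulLeft K q)
    have hAV : A ≤ V := by
      rintro _ ⟨h, hh, rfl⟩
      rw [SetLike.mem_coe] at hh
      obtain ⟨h', rfl⟩ := (range_P (K := K) 2).ge hh
      exact (hΦ _).mp (hall h')
    have hAB : A ≤ B := by
      rintro _ ⟨h, hh, rfl⟩
      refine ⟨l * h, ?_, by simp [hlq]; ring⟩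
      exact (MvPolynomial.mem_homogeneousSubmodule 3 _).mpr
        (((MvPolynomial.mem_homogeneousSubmodule 1 _).mp hl).mul
          ((MvPolynomial.mem_homogeneousSubmodule 2 _).mp hh))
    have hfull : H 5 ≤ V ⊔ B := by
      intro f hf
      obtain ⟨v, hv, h, hh, rfl⟩ := hsep q hq hq0 f hf
      exact Submodule.add_mem_sup hv ⟨h, hh, rfl⟩
    have hinj : ∀ p : MvPolynomial (Fin 2) K, p ≠ 0 → Function.Injective (LinearMap.mulLeft K p) :=
      fun p hp a b hab => mul_left_cancel₀ hp (by simpa using hab)
    have hg' : P K 3 g ≠ 0 := fun h => hg (P_injective 3 (by rw [h, map_zero]))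
    have hA : Module.finrank K A = 3 := by
      rw [← (Submodule.equivMapOfInjective _ (hinj _ hg') (H 2)).finrank_eq, finrank_hom]
    have hB : Module.finrank K B = 4 := by
      rw [← (Submodule.equivMapOfInjective _ (hinj _ hq0) (H 3)).finrank_eq, finrank_hom]
    haveI : Module.Finite K V :=
      Module.finite_of_finrank_pos (by rw [hdim]; norm_num)
    haveI : Module.Finite K B := Module.Finite.map _ _
    have h1 := Submodule.finrank_mono (show A ≤ V ⊓ B from le_inf hAV hAB)
    have h2 := Submodule.finrank_sup_add_finrank_inf_eq V B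
    have h3 := Submodule.finrank_mono hfull
    rw [finrank_hom] at h3
    omega
  have hserve : ∀ c, ∃ g : Fin 4 → K, g ≠ 0 ∧ ∀ h, γ c (Φ (m g h)) = 0 := by
    intro c
    let T : (Fin 4 → K) →ₗ[K] ((Fin 3 → K) →ₗ[K] K) :=
      (LinearMap.llcomp K (Fin 3 → K) (H 5) K (γ c ∘ₗ Φ)) ∘ₗ m
    have hlt : Module.finrank K ((Fin 3 → K) →ₗ[K] K) < Module.finrank K (Fin 4 → K) := by
      rw [Module.finrank_linearMap, Module.finrank_fin_fun, Module.finrank_fin_fun, Module.finrank_self]
      norm_num
    obtain ⟨g, hg, hg0⟩ := Submodule.exists_mem_ne_zero_of_ne_bot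
      (LinearMap.ker_ne_bot_of_finrank_lt (f := T) hlt)
    exact ⟨g, hg0, fun h => LinearMap.congr_fun (LinearMap.mem_ker.mp hg) h⟩
  choose g hg0 hgγ using hserve
  have hdist : ∀ c c' : K, ∀ a : K, g c = a • g c' → c = c' := by
    intro c c' a hca
    by_contra hne
    refine hno (g c) (hg0 c) fun h => ?_
    have h1 := hgγ c h
    have h2 : γ c' (Φ (m (g c) h)) = 0 := by
      simp [hca, hgγ c' h]
    simp only [γ, LinearMap.add_apply, LinearMap.smul_apply, LinearMap.proj_apply, smul_eq_mul] at h1 h2
    have h3 : Φ (m (g c) h) 1 = 0 := by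
      have : (c - c') * Φ (m (g c) h) 1 = 0 := by linear_combination h1 - h2
      exact (mul_eq_zero.mp this).resolve_left (sub_ne_zero.mpr hne)
    funext i
    fin_cases i
    · simpa [h3] using h1
    · simpa using h3
  obtain ⟨c, hc⟩ : ∃ c, ∀ g' ∈ F, ∀ a : K, P K 3 (g c) ≠ a • g' := by
    by_contra h
    push Not at h
    choose g' hg'F a ha using h
    have hinj : Function.Injective g' := by
      intro c c' hcc
      have ha' : a c' ≠ 0 := fun h0 => by
        have := ha c'
        rw [h0, zero_smul] at this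
        exact hg0 c' (P_injective 3 (by rw [this, map_zero]))
      refine hdist c c' (a c / a c') (P_injective 3 ?_)
      rw [map_smul, ha c, ha c', smul_smul, div_mul_cancel₀ _ ha', hcc]
    exact (Infinite.not_finite (α := K)) <|
      Finite.of_injective (fun c => (⟨g' c, hg'F c⟩ : F)) fun c c' h => hinj (congr_arg Subtype.val h)
  refine ⟨P K 3 (g c), P_mem _ _, fun h => hg0 c (P_injective 3 (by rw [h, map_zero])), ?_, hc⟩
  let R : (Fin 3 → K) →ₗ[K] (Fin 2 → K) := Φ ∘ₗ m (g c)
  have hR : Module.finrank K (LinearMap.range R) ≤ 1 := by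
    have hne : LinearMap.range R ≠ ⊤ := fun htop => by
      obtain ⟨h, hh⟩ : Pi.single (0 : Fin 2) (1 : K) ∈ LinearMap.range R := htop ▸ Submodule.mem_top
      have := hgγ c h
      rw [show Φ (m (g c) h) = Pi.single (0 : Fin 2) (1 : K) from hh] at this
      simp [γ] at this
    have := Submodule.finrank_lt hne
    rw [Module.finrank_fin_fun] at this
    omega
  have hK : 2 ≤ Module.finrank K (LinearMap.ker R) := by
    have := LinearMap.finrank_range_add_finrank_ker R
    rw [Module.finrank_fin_fun] at this
    omega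
  refine hK.trans ?_
  haveI : Module.Finite K V := Module.finite_of_finrank_pos (by rw [hdim]; norm_num)
  let ψ : LinearMap.ker R →ₗ[K]
      ↥(V ⊓ (MvPolynomial.homogeneousSubmodule (Fin 2) K 2).map (LinearMap.mulLeft K (P K 3 (g c)))) :=
    LinearMap.codRestrict _ ((H 5).subtype ∘ₗ m (g c) ∘ₗ (LinearMap.ker R).subtype) fun h =>
      ⟨(hΦ _).mp (LinearMap.mem_ker.mp h.2), P K 2 h.1, P_mem _ _, rfl⟩
  haveI : Module.Finite K
      ↥(V ⊓ (MvPolynomial.homogeneousSubmodule (Fin 2) K 2).map (LinearMap.mulLeft K (P K 3 (g c)))) :=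
    Submodule.finiteDimensional_of_le inf_le_left
  refine LinearMap.finrank_le_finrank_of_injective (f := ψ) fun a b hab => ?_
  have h' : P K 3 (g c) * P K 2 a.1 = P K 3 (g c) * P K 2 b.1 := congr_arg Subtype.val hab
  exact Subtype.ext (P_injective 2
    (mul_left_cancel₀ (fun h => hg0 c (P_injective 3 (by rw [h, map_zero]))) h'))

end Groth.Agent.S19809
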