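import Groth.Statements.S1985
import Groth.Agent.NagataUJ.Local
import Groth.Agent.NagataLib.Scheme
import Groth.Agent.DeltaFlat.Residue
-- import your own Groth.Agent.* helpers here

set_option autoImplicit false
universe u
open EtAlg

open Groth.Agent TensorProduct
namespace Groth.Agent.S1985

/-- Let A -> B be an extension of discrete valuation rings whose extension of fraction fields L/K is
separable. If B is a Nagata ring then so is A. -/
theorem result (A B K L : Type u) [CommRing A] [IsDomain A] [IsDiscreteValuationRing A]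
    [CommRing B] [IsDomain B] [IsDiscreteValuationRing B] [Algebra A B] [IsLocalHom (algebraMap A B)]
    (hinj : Function.Injective (algebraMap A B))
    [Field K] [Field L] [Algebra A K] [IsFractionRing A K] [Algebra B L] [IsFractionRing B L]
    [Algebra K L] [Algebra A L] [IsScalarTower A K L] [IsScalarTower A B L] [Algebra.IsSeparable K L] (hB : CAlg.IsNagata B) :
    CAlg.IsNagata A := by
  refine ⟨inferInstance, fun P hP => ?_⟩
  by_cases hP0 : P = ⊥
  swap
  · have : P.IsMaximal := hP.isMaximal hP0
    let := Ideal.Quotient.field P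
    exact NagataUJ.isN2_of_isNagata (NagataLib.isNagata_of_finiteType_field (A ⧸ P) (A ⧸ P))
  subst hP0
  refine NagataLib.isN2_of_ringEquiv (RingEquiv.quotientBot A).symm ?_
  intro M _ _ _ _ hfd
  -- move the scalar field to `K`
  let e := (IsLocalization.algEquiv (nonZeroDivisors A) K (FractionRing A))
  letI : Algebra K M := ((algebraMap (FractionRing A) M).comp e.toRingEquiv.toRingHom).toAlgebra
  have : IsScalarTower A K M := .of_algebraMap_eq fun a => by
    rw [RingHom.algebraMap_toAlgebra]
    simp [IsScalarTower.algebraMap_apply A (FractionRing A) M]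
  letI : Algebra K (FractionRing A) := e.toRingEquiv.toRingHom.toAlgebra
  have : IsScalarTower K (FractionRing A) M := .of_algebraMap_eq fun a => rfl
  have : Module.Finite K (FractionRing A) :=
    Module.Finite.of_surjective (Algebra.linearMap K (FractionRing A)) e.surjective
  have : FiniteDimensional K M := Module.Finite.trans (FractionRing A) M
  -- integral closure of `B` in `T`
  have : _root_.IsReduced (L ⊗[K] M) :=
    have := DeltaFlat.isReduced_tensor_of_isSeparable K M L
    isReduced_of_injective (Algebra.TensorProduct.comm K L M).toRingEquiv.toRingHom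
      (Algebra.TensorProduct.comm K L M).toRingEquiv.injective
  have hLft : Algebra.FiniteType B L := by
    obtain ⟨ϖ, hϖ⟩ := IsDiscreteValuationRing.exists_irreducible B
    have : IsLocalization.Away ϖ L := by
      refine IsLocalization.Away.mk ϖ ?_ (fun z => ?_) fun u v h => ?_
      · exact isUnit_iff_ne_zero.2 (by simpa using hϖ.ne_zero)
      · obtain ⟨⟨u, ⟨v, hv⟩⟩, rfl⟩ := IsLocalization.mk'_surjective (nonZeroDivisors B) z
        obtain ⟨n, w, hw⟩ := IsDiscreteValuationRing.eq_unit_mul_pow_irreducible
          (nonZeroDivisors.ne_zero hv) hϖ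
        refine ⟨n, u * ((w⁻¹ : Bˣ) : B), ?_⟩
        show IsLocalization.mk' L u ⟨v, hv⟩ * _ = _
        rw [IsLocalization.mk'_eq_mul_mk'_one]
        have h1 : IsLocalization.mk' L (1 : B) ⟨v, hv⟩ * algebraMap B L v = 1 := by
          rw [IsLocalization.mk'_spec, map_one]
        have h2 : algebraMap B L (ϖ ^ n) = algebraMap B L v * algebraMap B L ((w⁻¹ : Bˣ) : B) := by
          rw [← map_mul, hw, mul_comm (w : B), mul_assoc, Units.mul_inv, mul_one]
        rw [← map_pow, h2, map_mul]
        linear_combination (algebraMap B L u * algebraMap B L ((w⁻¹ : Bˣ) : B)) * h1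
      · exact ⟨0, by simpa using IsFractionRing.injective B L h⟩
    exact IsLocalization.finiteType_of_monoid_fg (Submonoid.powers ϖ) L
  have : Algebra.FiniteType B (L ⊗[K] M) := Algebra.FiniteType.trans (S := L) hLft inferInstance
  have hfinB := NagataLib.finite_integralClosure_reduced hB (L ⊗[K] M)
  let bM := Module.finBasis K M
  let bT := Algebra.TensorProduct.basis L bM
  obtain ⟨G, hG⟩ := (Module.finite_def.1 hfinB)
  classical
  obtain ⟨δ, hδ⟩ := IsLocalization.exist_integer_multiples_of_finset (nonZeroDivisors B)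
    ((G ×ˢ (Finset.univ : Finset (Fin (Module.finrank K M)))).image
      fun gi => bT.repr gi.1.1 gi.2)
  have hδint : ∀ (x : integralClosure B (L ⊗[K] M)) i,
      ∃ b : B, algebraMap B L b = algebraMap B L δ * bT.repr x.1 i := by
    intro x i
    have hx : x ∈ Submodule.span B (G : Set (integralClosure B (L ⊗[K] M))) := hG ▸ trivial
    induction hx using Submodule.span_induction with
    | mem g hg =>
      obtain ⟨b, hb⟩ := hδ (bT.repr g.1 i)
        (Finset.mem_image.2 ⟨(g, i), Finset.mem_product.2 ⟨hg, Finset.mem_univ i⟩, rfl⟩)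
      exact ⟨b, by rw [hb, Algebra.smul_def]⟩
    | zero => exact ⟨0, by simp⟩
    | add y z _ _ hy hz =>
      obtain ⟨b, hb⟩ := hy
      obtain ⟨b', hb'⟩ := hz
      exact ⟨b + b', by simp [map_add, hb, hb', mul_add]⟩
    | smul a y _ hy =>
      obtain ⟨b, hb⟩ := hy
      refine ⟨a * b, ?_⟩
      show _ = algebraMap B L δ * bT.repr (a • y.1) i
      rw [← algebraMap_smul L a y.1, map_smul, Finsupp.smul_apply, smul_eq_mul, map_mul, hb]
      ring
  obtain ⟨π, hπ⟩ := IsDiscreteValuationRing.exists_irreducible A
  obtain ⟨k, hk⟩ : ∃ k : ℕ, (δ : B) ∣ algebraMap A B π ^ k := by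
    obtain ⟨s, hs⟩ := IsDiscreteValuationRing.exists_irreducible B
    obtain ⟨k, hk⟩ := IsDiscreteValuationRing.associated_pow_irreducible
      (nonZeroDivisors.coe_ne_zero δ) hs
    refine ⟨k, hk.dvd.trans (pow_dvd_pow_of_dvd ?_ k)⟩
    have : algebraMap A B π ∈ IsLocalRing.maximalIdeal B :=
      (IsLocalRing.mem_maximalIdeal _).2 (show algebraMap A B π ∈ nonunits B from fun h => hπ.not_isUnit ((isUnit_map_iff _ π).1 h))
    rw [hs.maximalIdeal_eq, Ideal.mem_span_singleton] at this
    exact this
  have hdescend : ∀ (c : K) (b : B), algebraMap B L b = algebraMap K L c →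
      ∃ a : A, algebraMap A K a = c := by
    intro c b h
    rcases ValuationRing.isInteger_or_isInteger A c with ⟨a, ha⟩ | ⟨a, ha⟩
    · exact ⟨a, ha⟩
    by_cases hc : c = 0
    · exact ⟨0, by simp [hc]⟩
    have h1 : algebraMap B L (algebraMap A B a * b) = 1 := by
      rw [map_mul, h, ← IsScalarTower.algebraMap_apply, IsScalarTower.algebraMap_apply A K L, ha,
        ← map_mul, inv_mul_cancel₀ hc, map_one]
    have h2 : algebraMap A B a * b = 1 := IsFractionRing.injective B L (by rw [h1, map_one])
    have h3 : IsUnit a := (isUnit_map_iff (algebraMap A B) a).1 (IsUnit.of_mul_eq_one _ h2)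
    obtain ⟨u, rfl⟩ := h3
    refine ⟨((u⁻¹ : Aˣ) : A), ?_⟩
    rw [map_units_inv, ha, inv_inv]
  let N : Submodule A M := Submodule.span A (Set.range fun i => (algebraMap A K π ^ k)⁻¹ • bM i)
  have hle : Subalgebra.toSubmodule (integralClosure A M) ≤ N := by
    intro x hx
    let ι : M →ₐ[A] L ⊗[K] M :=
      { (Algebra.TensorProduct.includeRight : M →ₐ[K] L ⊗[K] M).toRingHom with
        commutes' := fun a => by
          show (1 : L) ⊗ₜ[K] algebraMap A M a = algebraMap A (L ⊗[K] M) a
          rw [IsScalarTower.algebraMap_apply A K M, IsScalarTower.algebraMap_apply A K (L ⊗[K] M)]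
          exact (Algebra.TensorProduct.includeRight : M →ₐ[K] L ⊗[K] M).commutes _ }
    have : IsScalarTower A B (L ⊗[K] M) := .of_algebraMap_eq fun a => by
      rw [IsScalarTower.algebraMap_apply B L (L ⊗[K] M), ← IsScalarTower.algebraMap_apply A B L,
        IsScalarTower.algebraMap_apply A L (L ⊗[K] M)]
    have hx' : IsIntegral A (ι x) := IsIntegral.map ι hx
    have hxB : IsIntegral B (ι x) := hx'.tower_top
    have hcoord : ∀ i, ∃ a : A, algebraMap A K a = algebraMap A K π ^ k * bM.repr x i := by
      intro i
      obtain ⟨b, hb⟩ := hδint ⟨ι x, hxB⟩ i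
      obtain ⟨q, hq⟩ := hk
      refine hdescend _ (q * b) ?_
      have hr : bT.repr (ι x) i = algebraMap K L (bM.repr x i) := by
        show bT.repr ((1 : L) ⊗ₜ[K] x) i = _
        simp [bT]
      rw [map_mul, hb, hr, map_mul, map_pow, ← IsScalarTower.algebraMap_apply A K L,
        IsScalarTower.algebraMap_apply A B L, ← map_pow, hq, map_mul]
      ring
    choose a ha using hcoord
    rw [← bM.sum_repr x]
    refine Submodule.sum_mem _ fun i _ => ?_
    have : bM.repr x i • bM i = a i • ((algebraMap A K π ^ k)⁻¹ • bM i) := by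
      rw [← algebraMap_smul K (a i), smul_smul, ha]
      have hne : algebraMap A K π ^ k ≠ 0 :=
        pow_ne_zero _ (by simpa using hπ.ne_zero)
      congr 1
      field_simp
    rw [this]
    exact Submodule.smul_mem _ _ (Submodule.subset_span ⟨i, rfl⟩)
  have : Module.Finite A N := Module.Finite.span_of_finite A (Set.finite_range _)
  have : IsNoetherian A N := isNoetherian_of_isNoetherianRing_of_finite A N
  exact Module.Finite.of_injective (Submodule.inclusion hle) (Submodule.inclusion_injective hle)

end Groth.Agent.S1985
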