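import Groth.Statements.S19856
import Mathlib
-- import your own Groth.Agent.* helpers here

set_option autoImplicit false
universe u v
open CAlg

namespace Groth.Agent.S19856

/-- Ring-level form: let O be a discrete valuation ring and G a finite group acting faithfully on O by
ring automorphisms, such that every element of G acts trivially on the residue field of O (that is,
g • a - a lies in the maximal ideal for all a) and such that the order of G is nonzero in the
residue field of O. Then G is cyclic. (The source states this for a finite group of order invertible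
in an algebraically closed field k acting faithfully on a smooth connected k-variety and the
subgroup of elements fixing pointwise a codimension-one irreducible component of the ramification
locus, applied to the local ring at the generic point of that component; it is stated here for an
arbitrary discrete valuation ring with a faithful action. The source also shows that this subgroup
is nontrivial; that geometric part is not stated.) -/
theorem result
    (O : Type u) [CommRing O] [IsDomain O] [IsDiscreteValuationRing O]
    (G : Type v) [Group G] [Finite G] [MulSemiringAction G O] [FaithfulSMul G O]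
    (htriv : ∀ (g : G) (a : O), g • a - a ∈ IsLocalRing.maximalIdeal O)
    (hcard : ((Nat.card G : ℕ) : IsLocalRing.ResidueField O) ≠ 0) :
    IsCyclic G := by
  classical
  set 𝔪 := IsLocalRing.maximalIdeal O with h𝔪
  obtain ⟨π, hπ⟩ := IsDiscreteValuationRing.exists_irreducible O
  have hm : 𝔪 = Ideal.span {π} := hπ.maximalIdeal_eq
  have hπm : π ∈ 𝔪 := hm ▸ Ideal.mem_span_singleton_self π
  have hu : ∀ g : G, ∃ u : O, g • π = π * u := fun g => by
    have : g • π ∈ 𝔪 := by simpa using add_mem (htriv g π) hπm
    rw [hm, Ideal.mem_span_singleton] at this
    exact this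
  choose u hu using hu
  have htrivial : ∀ g : G, u g - 1 ∈ 𝔪 → g = 1 := by
    intro g hg
    have hd : ∀ n : ℕ, ∀ x ∈ 𝔪 ^ n, g • x - x ∈ 𝔪 ^ (n + 1) := by
      intro n
      induction n with
      | zero => intro x _; simpa using htriv g x
      | succ n ih =>
        intro x hx
        rw [pow_succ, hm, Ideal.mem_mul_span_singleton, ← hm] at hx
        obtain ⟨y, hy, rfl⟩ := hx
        have he : g • (y * π) - y * π = π * ((g • y - y) * u g + y * (u g - 1)) := by
          rw [smul_mul', hu]; ring
        rw [he, pow_succ' 𝔪 (n + 1)]
        refine Ideal.mul_mem_mul hπm (add_mem (Ideal.mul_mem_right _ _ (ih y hy)) ?_)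
        rw [pow_succ]
        exact Ideal.mul_mem_mul hy hg
    have hunit : IsUnit ((Nat.card G : O)) := by
      rw [← IsLocalRing.residue_ne_zero_iff_isUnit, map_natCast]; exact hcard
    refine eq_of_smul_eq_smul fun a : O => ?_
    rw [one_smul, ← sub_eq_zero, ← Ideal.mem_bot, ← Ideal.iInf_pow_eq_bot_of_isLocalRing 𝔪 (IsLocalRing.maximalIdeal.isMaximal O).ne_top, Ideal.mem_iInf]
    intro n
    induction n with
    | zero => simp
    | succ n ih =>
      set δ := g • a - a with hδ
      have hgmem : ∀ x ∈ 𝔪 ^ (n + 1), g • x ∈ 𝔪 ^ (n + 1) := fun x hx => by
        simpa using add_mem (Ideal.pow_le_pow_right (Nat.le_succ (n + 1)) (hd _ x hx)) hx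
      have hstep : ∀ j : ℕ, g ^ j • a - a - (j : O) * δ ∈ 𝔪 ^ (n + 1) := by
        intro j
        induction j with
        | zero => simp
        | succ j ihj =>
          have hcast : g • (j : O) = (j : O) := map_natCast (MulSemiringAction.toRingHom G O g) j
          have he : g ^ (j + 1) • a - a - ((j + 1 : ℕ) : O) * δ =
              g • (g ^ j • a - a - (j : O) * δ) + (j : O) * (g • δ - δ) := by
            have e1 : g • (g ^ j • a) = g ^ (j + 1) • a := by rw [pow_succ', mul_smul]
            simp only [smul_sub, smul_mul', hcast, Nat.cast_succ, e1]
            simp only [hδ, smul_sub]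
            ring
          rw [he]
          exact add_mem (hgmem _ ihj) (Ideal.mul_mem_left _ _ (hd n δ ih))
      have := hstep (Nat.card G)
      rw [pow_card_eq_one', one_smul, sub_self, zero_sub, neg_mem_iff] at this
      exact (Ideal.unit_mul_mem_iff_mem _ hunit).1 this
  have hmul : ∀ g h : G, IsLocalRing.residue O (u (g * h)) = IsLocalRing.residue O (u g) * IsLocalRing.residue O (u h) := by
    intro g h
    have h1 : u (g * h) = u g * (g • u h) := by
      apply mul_left_cancel₀ hπ.ne_zero
      rw [← mul_assoc, ← hu, ← hu, mul_smul, hu h, smul_mul']
    rw [h1, map_mul]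
    congr 1
    rw [← sub_eq_zero, ← map_sub, IsLocalRing.residue_eq_zero_iff]
    exact htriv g _
  have h1 : u 1 = 1 := mul_left_cancel₀ hπ.ne_zero (by rw [← hu, one_smul, mul_one])
  let f : G →* IsLocalRing.ResidueField O :=
    { toFun := fun g => IsLocalRing.residue O (u g)
      map_one' := by show IsLocalRing.residue O (u 1) = 1; rw [h1, map_one]
      map_mul' := hmul }
  refine isCyclic_of_injective_ringHom f ((injective_iff_map_eq_one f).2 fun g hg => htrivial g ?_)
  rw [h𝔪, ← IsLocalRing.residue_eq_zero_iff, map_sub, map_one, sub_eq_zero]
  exact hg

end Groth.Agent.S19856
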