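import Groth.Statements.S19858
import Groth.Agent.FlatAscent.Descent

set_option autoImplicit false
universe u
open EGA4

namespace Groth.Agent.S19858

open scoped TensorProduct

/-- Let A → B → C be homomorphisms of Noetherian rings such that C is faithfully flat over B and the
composite A → C is a normal homomorphism (flat, with geometrically normal fibres). Then A → B is a
normal homomorphism. (In the source C is the adic completion of A along an ideal and A → C is
assumed normal; only the faithful flatness of B → C and the normality of A → C enter, so C is an
arbitrary Noetherian ring here.) -/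
theorem result (A B C : Type u)
    [CommRing A] [CommRing B] [CommRing C] [IsNoetherianRing A] [IsNoetherianRing B] [IsNoetherianRing C]
    [Algebra A B] [Algebra B C] [Algebra A C] [IsScalarTower A B C] [Module.FaithfullyFlat B C]
    (hAC : EGA4.IsNormalHom A C) : EGA4.IsNormalHom A B := by
  have := hAC.1
  refine ⟨Groth.Agent.FlatAscent.flat_of_faithfullyFlat (C := C), fun p _ k' _ _ hk => ?_⟩
  let : Algebra A k' := ((algebraMap p.ResidueField k').comp (algebraMap A p.ResidueField)).toAlgebra
  have : IsScalarTower A p.ResidueField k' := .of_algebraMap_eq fun _ => rfl
  exact Groth.Agent.FlatAscent.descend_base_change (B := B) (C := C) p k'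
    (fun R _ => EGA4.IsNormalRing R)
    (fun _ _ _ _ e h => Groth.Agent.FlatAscent.isNormalRing_of_ringEquiv e h)
    (fun _ _ _ _ _ _ h => Groth.Agent.FlatAscent.isNormalRing_of_faithfullyFlat h) (hAC.2 p k' hk)

end Groth.Agent.S19858
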