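import Groth.Statements.S19863
import Groth.Agent.S4736
import Groth.Agent.S9250
import Groth.Agent.S0543
import Groth.Agent.J2Lib.Descent
-- import your own Groth.Agent.* helpers here

set_option autoImplicit false
universe u
open EGA4

namespace Groth.Agent.S19863

/-- Let A be a Noetherian ring, J a proper ideal of A, Â the J-adic completion and A_T the localization
of A at T = 1 + J. If the canonical map A → Â is a regular homomorphism (flat, with Noetherian
geometrically regular fibres), then A_T is a regular ring if and only if Â is a regular ring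
(Noetherian, with regular local rings at all primes). (The cases of the henselization of the pair
and of the weak completion are not stated here.) -/
theorem result
    (A : Type u) [CommRing A] [IsNoetherianRing A] (J : Ideal A) (hJ : J ≠ ⊤)
    (hf : CAlg.IsRegularHom A (AdicCompletion J A))
    (T : Submonoid A) (hT : T = MonoidHom.mker (Ideal.Quotient.mk J)) :
    IsRegularRing (Localization T) ↔ IsRegularRing (AdicCompletion J A) := by
  subst hT
  let T := MonoidHom.mker (Ideal.Quotient.mk J)
  let A' := Localization T
  let Ah := AdicCompletion J A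
  have : IsNoetherianRing Ah := Groth.Agent.S0543.result A J
  have : IsNoetherianRing A' := IsLocalization.isNoetherianRing T A' inferInstance
  have hc : IsAdicComplete (J.map (algebraMap A Ah)) Ah := AdicCompletion.isAdicComplete_self _ (IsNoetherian.noetherian J)
  have hunit : ∀ t : T, IsUnit (algebraMap A Ah t) := fun t => by
    have h1 : (t : A) - 1 ∈ J := Ideal.Quotient.eq.mp (t.2 : Ideal.Quotient.mk J (t : A) = 1)
    have h2 : algebraMap A Ah ((t : A) - 1) ∈ Ideal.jacobson (⊥ : Ideal Ah) :=
      IsAdicComplete.le_jacobson_bot _ (Ideal.mem_map_of_mem _ h1)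
    have h3 := Ideal.mem_jacobson_bot.mp h2 1
    rwa [mul_one, map_sub, map_one, sub_add_cancel] at h3
  let : Algebra A' Ah := (IsLocalization.lift (M := T) (g := algebraMap A Ah) hunit).toAlgebra
  have : IsScalarTower A A' Ah := .of_algebraMap_eq fun x => (IsLocalization.lift_eq hunit x).symm
  have : IsLocalization (Algebra.algebraMapSubmonoid Ah T) Ah := IsLocalization.of_le_isUnit fun x hx => by
    obtain ⟨t, ht, rfl⟩ := hx
    exact hunit ⟨t, ht⟩
  have hreg : CAlg.IsRegularHom A' Ah := Groth.Agent.S4736.result A Ah hf T A' Ah
  have := hreg.1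
  refine ⟨fun h => ?_, fun h => ?_⟩
  · exact Groth.Agent.S9250.result A' Ah hreg
  · have hff : Module.FaithfullyFlat A' Ah := by
      refine ⟨fun {M} hM h => ?_⟩
      rw [Ideal.smul_top_eq_map] at h
      have h1 : M.map (algebraMap A' Ah) = ⊤ := by
        refine (Ideal.eq_top_iff_one _).mpr ?_
        have := h.ge (Submodule.mem_top (x := (1 : Ah)))
        exact this
      let m := M.comap (algebraMap A A')
      have hJm : J ≤ m := by
        intro x hx
        by_contra hxm
        obtain ⟨y, i, hi, hyi⟩ := hM.exists_inv (show algebraMap A A' x ∉ M from hxm)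
        obtain ⟨a, t, rfl⟩ := IsLocalization.exists_mk'_eq T y
        have ht : (t : A) - a * x ∈ MonoidHom.mker (Ideal.Quotient.mk J) := by
          show Ideal.Quotient.mk J ((t : A) - a * x) = 1
          rw [map_sub, map_mul, Ideal.Quotient.eq_zero_iff_mem.mpr hx, mul_zero, sub_zero]
          exact t.2
        refine hM.ne_top (M.eq_top_of_isUnit_mem (x := algebraMap A A' ((t : A) - a * x)) ?_
          (IsLocalization.map_units A' (⟨_, ht⟩ : T)))
        have : algebraMap A A' ((t : A) - a * x) = algebraMap A A' t * i := by
          rw [map_sub, map_mul, ← IsLocalization.mk'_spec A' a t]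
          linear_combination -(algebraMap A A' t) * hyi
        rw [this]
        exact M.mul_mem_left _ hi
      let π : Ah →+* A ⧸ m :=
        (Ideal.Quotient.factor hJm).comp (AdicCompletion.evalOneₐ J).toRingHom
      have hπ : ∀ a : A, π (algebraMap A Ah a) = Ideal.Quotient.mk m a := fun a => by
        show Ideal.Quotient.factor hJm (AdicCompletion.evalOneₐ J (algebraMap A Ah a)) = _
        rw [AlgHom.commutes]
        rfl
      have hle : M.map (algebraMap A' Ah) ≤ RingHom.ker π := Ideal.map_le_iff_le_comap.mpr fun z hz => by
        obtain ⟨a, t, rfl⟩ := IsLocalization.exists_mk'_eq T z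
        have ha : a ∈ m := by
          show algebraMap A A' a ∈ M
          rw [← IsLocalization.mk'_spec A' a t]
          exact M.mul_mem_right _ hz
        have h2 : π (algebraMap A' Ah (IsLocalization.mk' A' a t)) * π (algebraMap A Ah t) = 0 := by
          rw [← map_mul, IsScalarTower.algebraMap_apply A A' Ah, ← map_mul, IsLocalization.mk'_spec,
            ← IsScalarTower.algebraMap_apply, hπ, Ideal.Quotient.eq_zero_iff_mem.mpr ha]
        have h3 : IsUnit (π (algebraMap A Ah t)) := (hunit t).map π
        exact h3.mul_left_eq_zero.mp h2
      have h4 : (1 : A ⧸ m) = 0 := by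
        rw [← map_one π]
        exact hle (h1.ge Submodule.mem_top)
      have hmne : m ≠ ⊤ := Ideal.comap_ne_top _ hM.ne_top
      exact hmne ((Ideal.eq_top_iff_one m).mpr (Ideal.Quotient.eq_zero_iff_mem.mp (by rw [map_one]; exact h4)))
    exact Groth.Agent.J2Lib.isRegularRing_of_faithfullyFlat A' Ah

end Groth.Agent.S19863
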