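import Groth.Statements.S19868
import Mathlib
import Groth.Agent.PLie.Jacobson
-- import your own Groth.Agent.* helpers here

set_option autoImplicit false
universe u v
open PLie

namespace Groth.Agent.S19868

set_option maxHeartbeats 6000000

open DualNumber in
/-- Let K be a field of prime characteristic p, K[ε] the ring of dual numbers (taken with its
characteristic-p structure) and a, …, i ∈ K. Let L be a Lie algebra over K[ε], free as a module with
basis x = bs 0, y = bs 1, z = bs 2 and brackets [x,y] = aε x + bε y + cε z, [x,z] = dε x + eε y + fε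
z, [y,z] = (1 + gε) x + hε y + iε z, a first-order deformation of the Heisenberg algebra (the Jacobi
identity forces b + f = 0). Then L carries a p-mapping over K[ε] if and only if b = c = e = 0 when p
= 2; for odd p there is no condition. (The published statement is about the singularity of the point
h_3 in the restrictable locus of the rank-one-centre stratum of the moduli scheme of based
three-dimensional Lie algebras over the prime field; this row states the restrictability criterion
for the first-order deformations of h_3 asserted in its proof, over any field of characteristic p in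
place of the prime field.) -/
theorem result (K : Type u) [Field K] (p : ℕ) [Fact p.Prime] [CharP K p]
    [CharP (DualNumber K) p] (a b c d e f g h i : K)
    (L : Type v) [LieRing L] [LieAlgebra (DualNumber K) L] (bs : Module.Basis (Fin 3) (DualNumber K) L)
    (hxy : ⁅bs 0, bs 1⁆ = (a • ε : DualNumber K) • bs 0 + (b • ε : DualNumber K) • bs 1 + (c • ε : DualNumber K) • bs 2)
    (hxz : ⁅bs 0, bs 2⁆ = (d • ε : DualNumber K) • bs 0 + (e • ε : DualNumber K) • bs 1 + (f • ε : DualNumber K) • bs 2)
    (hyz : ⁅bs 1, bs 2⁆ = (1 + g • ε : DualNumber K) • bs 0 + (h • ε : DualNumber K) • bs 1 + (i • ε : DualNumber K) • bs 2) :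
    Nonempty (PLie.PMap (DualNumber K) p L) ↔ (p = 2 → b = 0 ∧ c = 0 ∧ e = 0) := by
  have hp := (Fact.out : p.Prime).two_le
  have hyx : ⁅bs 1, bs 0⁆ = -⁅bs 0, bs 1⁆ := (lie_skew _ _).symm
  have hzx : ⁅bs 2, bs 0⁆ = -⁅bs 0, bs 2⁆ := (lie_skew _ _).symm
  have hzy : ⁅bs 2, bs 1⁆ = -⁅bs 1, bs 2⁆ := (lie_skew _ _).symm
  have hJ : b + f = 0 := by
    have h := congrArg (fun w => (bs.repr w 0).snd) (leibniz_lie (bs 0) (bs 1) (bs 2))
    simp [hyx, hzx, hzy, hxy, hxz, hyz, lie_add, add_lie, lie_smul, smul_lie, lie_self, lie_neg,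
      neg_lie, TrivSqZeroExt.fst_mul, TrivSqZeroExt.snd_mul, Finsupp.single_apply] at h
    linear_combination -h
  constructor
  · rintro ⟨φ⟩ rfl
    have hy := φ.ad_map (bs 1)
    change LieAlgebra.ad (DualNumber K) L (φ (bs 1)) = _ at hy
    have hdy := bs.sum_repr (φ (bs 1))
    rw [Fin.sum_univ_three] at hdy
    rw [← hdy] at hy
    have hz := φ.ad_map (bs 2)
    change LieAlgebra.ad (DualNumber K) L (φ (bs 2)) = _ at hz
    have hdz := bs.sum_repr (φ (bs 2))
    rw [Fin.sum_univ_three] at hdz
    rw [← hdz] at hz
    have z1 := congrArg (fun w => (bs.repr w 0).fst) (LinearMap.congr_fun hz (bs 1))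
    have z2 := congrArg (fun w => (bs.repr w 0).fst) (LinearMap.congr_fun hz (bs 2))
    have z3 := congrArg (fun w => (bs.repr w 0).snd) (LinearMap.congr_fun hz (bs 0))
    have y1 := congrArg (fun w => (bs.repr w 0).fst) (LinearMap.congr_fun hy (bs 1))
    have y2 := congrArg (fun w => (bs.repr w 0).fst) (LinearMap.congr_fun hy (bs 2))
    have y3 := congrArg (fun w => (bs.repr w 0).snd) (LinearMap.congr_fun hy (bs 0))
    have y4 := congrArg (fun w => (bs.repr w 1).snd) (LinearMap.congr_fun hy (bs 2))
    simp [pow_two, hyx, hzx, hzy, hxy, hxz, hyz, lie_add, add_lie, lie_smul, smul_lie, lie_self,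
      lie_neg, neg_lie, TrivSqZeroExt.fst_mul, TrivSqZeroExt.snd_mul, Finsupp.single_apply]
      at z1 z2 z3 y1 y2 y3 y4
    have he : e = 0 := by simpa [z1, z2] using z3.symm
    have hc : c = 0 := by simpa [y1, y2] using y3.symm
    have hb : b = 0 := by simpa [y2, he] using y4.symm
    exact ⟨hb, hc, he⟩
  · intro hcond
    let Y : DualNumber K := if p = 2 then (i - a) • ε else if p = 3 then (-c) • ε else 0
    let Z : DualNumber K := if p = 2 then (-(d + h)) • ε else if p = 3 then e • ε else 0
    obtain ⟨φ, -⟩ := Groth.Agent.PLieLib.exists_pmap_basis (p := p) bs ![0, Y • bs 1, Z • bs 2] (fun k => by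
      obtain rfl | rfl | h4 : p = 2 ∨ p = 3 ∨ 4 ≤ p := by omega
      · obtain ⟨rfl, rfl, rfl⟩ := hcond rfl
        have hf : f = 0 := by simpa using hJ
        subst hf
        refine bs.ext fun j => bs.ext_elem fun l => ?_
        fin_cases k <;> fin_cases j <;> fin_cases l <;>
          (apply TrivSqZeroExt.ext <;> simp [Y, Z, pow_two, hyx, hzx, hzy, hxy, hxz, hyz, lie_add,
            add_lie, lie_smul, smul_lie, lie_self, lie_neg, neg_lie, TrivSqZeroExt.fst_mul,
            TrivSqZeroExt.snd_mul, Finsupp.single_apply] <;> ring)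
      · refine bs.ext fun j => bs.ext_elem fun l => ?_
        fin_cases k <;> fin_cases j <;> fin_cases l <;>
          (apply TrivSqZeroExt.ext <;> simp [Y, Z, pow_succ, hyx, hzx, hzy, hxy, hxz, hyz, lie_add,
            add_lie, lie_smul, smul_lie, lie_self, lie_neg, neg_lie, TrivSqZeroExt.fst_mul,
            TrivSqZeroExt.snd_mul, Finsupp.single_apply] <;> ring)
      · have h2 : p ≠ 2 := by omega
        have h3 : p ≠ 3 := by omega
        have h0 : LieAlgebra.ad (DualNumber K) L (bs k) ^ 4 = 0 := by
          refine bs.ext fun j => bs.ext_elem fun l => ?_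
          fin_cases k <;> fin_cases j <;> fin_cases l <;>
            (apply TrivSqZeroExt.ext <;> simp [pow_succ, hyx, hzx, hzy, hxy, hxz, hyz, lie_add,
              add_lie, lie_smul, smul_lie, lie_self, lie_neg, neg_lie, TrivSqZeroExt.fst_mul,
              TrivSqZeroExt.snd_mul, Finsupp.single_apply])
        rw [show p = 4 + (p - 4) by omega, pow_add, h0, zero_mul]
        rw [show Y • bs 1 = 0 by rw [show Y = 0 by simp [Y, h2, h3]]; exact Module.zero_smul _,
          show Z • bs 2 = 0 by rw [show Z = 0 by simp [Z, h2, h3]]; exact Module.zero_smul _]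
        fin_cases k <;> simp)
    exact ⟨φ⟩

end Groth.Agent.S19868
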