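import Groth.Statements.S1987
import Mathlib.RingTheory.Polynomial.Eisenstein.Basic
import Mathlib.RingTheory.AdjoinRoot
import Mathlib.RingTheory.Polynomial.UniqueFactorization
import Mathlib.RingTheory.Valuation.ValuationRing
import Mathlib.RingTheory.DiscreteValuationRing.TFAE
import Mathlib.RingTheory.Ideal.GoingUp

set_option autoImplicit false
universe u
open Polynomial
open EtAlg

namespace Groth.Agent.S1987

variable {A : Type u} [CommRing A] [IsDomain A] [IsDiscreteValuationRing A] {π : A} {n : ℕ}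

theorem monic (hn : 2 ≤ n) : (X ^ n - C π : A[X]).Monic := monic_X_pow_sub_C π (by omega)

theorem irreducible_f (hπ : Irreducible π) (hn : 2 ≤ n) : Irreducible (X ^ n - C π : A[X]) := by
  have hne : Ideal.span {π} ≠ ⊤ := by
    rw [Ne, Ideal.span_singleton_eq_top]; exact hπ.not_isUnit
  have hdeg : (X ^ n - C π : A[X]).natDegree = n := natDegree_X_pow_sub_C
  refine IsEisensteinAt.irreducible (Monic.isEisensteinAt_of_mem_of_notMem (monic hn) hne
    (fun {k} hk => ?_) ?_) ((Ideal.span_singleton_prime hπ.ne_zero).mpr hπ.prime)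
    (monic hn).isPrimitive (by omega)
  · rw [hdeg] at hk
    rw [coeff_sub, coeff_X_pow, if_neg (by omega), zero_sub, neg_mem_iff, coeff_C]
    split
    · exact Ideal.mem_span_singleton_self π
    · exact Ideal.zero_mem _
  · rw [coeff_sub, coeff_X_pow, if_neg (by omega), zero_sub, neg_mem_iff, coeff_C_zero,
      Ideal.span_singleton_pow, Ideal.mem_span_singleton]
    intro h
    rw [pow_two] at h
    obtain ⟨c, hc⟩ := h
    exact hπ.not_isUnit (IsUnit.of_mul_eq_one c (mul_left_cancel₀ hπ.ne_zero (by rw [mul_one, ← mul_assoc, ← hc])))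

local notation "𝔸" => AdjoinRoot (X ^ n - C π : A[X])

local notation "ξ" => AdjoinRoot.root (X ^ n - C π : A[X])

theorem root_pow : (ξ : 𝔸) ^ n = algebraMap A 𝔸 π := by
  have h := AdjoinRoot.eval₂_root (X ^ n - C π : A[X])
  rw [eval₂_sub, eval₂_X_pow, eval₂_C, sub_eq_zero] at h
  rw [h, AdjoinRoot.algebraMap_eq]

theorem decomp (y : 𝔸) : ∃ (a : A) (z : 𝔸), y = algebraMap A 𝔸 a + ξ * z := by
  obtain ⟨p, rfl⟩ := AdjoinRoot.mk_surjective (g := (X ^ n - C π : A[X])) y
  refine ⟨p.coeff 0, AdjoinRoot.mk _ p.divX, ?_⟩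
  conv_lhs => rw [← X_mul_divX_add p]
  rw [map_add, map_mul, AdjoinRoot.mk_X, AdjoinRoot.mk_C, add_comm, AdjoinRoot.algebraMap_eq]

theorem map_mem_of_isMaximal (hπ : Irreducible π) (hn : 2 ≤ n) (M : Ideal 𝔸) [M.IsMaximal] (a : A) :
    algebraMap A 𝔸 a ∈ M ↔ ¬ IsUnit a := by
  have := (monic (π := π) hn).finite_adjoinRoot
  have h1 : (M.comap (algebraMap A 𝔸)) = IsLocalRing.maximalIdeal A :=
    IsLocalRing.eq_maximalIdeal (Ideal.isMaximal_comap_of_isIntegral_of_isMaximal (R := A) M)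
  exact (SetLike.ext_iff.mp h1 a).trans (IsLocalRing.mem_maximalIdeal a)

theorem root_mem_of_isMaximal (hπ : Irreducible π) (hn : 2 ≤ n) (M : Ideal 𝔸) [M.IsMaximal] :
    (ξ : 𝔸) ∈ M := by
  refine Ideal.IsPrime.mem_of_pow_mem inferInstance n ?_
  rw [root_pow]
  exact (map_mem_of_isMaximal hπ hn M π).mpr hπ.not_isUnit

theorem not_isUnit_root (hπ : Irreducible π) (hn : 2 ≤ n) [Nontrivial 𝔸] : ¬ IsUnit (ξ : 𝔸) := by
  intro h
  obtain ⟨M, hM⟩ := Ideal.exists_maximal 𝔸
  exact hM.ne_top (Ideal.eq_top_of_isUnit_mem _ (root_mem_of_isMaximal hπ hn M) h)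

theorem isUnit_or_dvd (hπ : Irreducible π) (hn : 2 ≤ n) (y : 𝔸) : IsUnit y ∨ ξ ∣ y := by
  obtain ⟨a, z, rfl⟩ := decomp y
  by_cases ha : IsUnit a
  · left
    by_contra hu
    obtain ⟨M, hM, hmem⟩ := exists_max_ideal_of_mem_nonunits hu
    refine (map_mem_of_isMaximal hπ hn M a).mp ?_ ha
    exact (Ideal.add_mem_iff_left _ (Ideal.mul_mem_right _ _ (root_mem_of_isMaximal hπ hn M))).mp hmem
  · right
    obtain ⟨c, rfl⟩ : π ∣ a := by
      rw [← Ideal.mem_span_singleton, ← hπ.maximalIdeal_eq]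
      exact (IsLocalRing.mem_maximalIdeal a).mpr ha
    refine dvd_add (dvd_trans (dvd_pow_self _ (show n ≠ 0 by omega)) ?_) (dvd_mul_right _ _)
    rw [root_pow, map_mul]
    exact dvd_mul_right _ _

theorem isDomain_𝔸 (hπ : Irreducible π) (hn : 2 ≤ n) : IsDomain 𝔸 :=
  AdjoinRoot.isDomain_of_prime (UniqueFactorizationMonoid.irreducible_iff_prime.mp (irreducible_f hπ hn))

theorem root_ne_zero (hπ : Irreducible π) (hn : 2 ≤ n) : (ξ : 𝔸) ≠ 0 := by
  intro h
  have h1 : algebraMap A 𝔸 π = 0 := by rw [← root_pow, h, zero_pow (by omega)]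
  rw [AdjoinRoot.algebraMap_eq] at h1
  exact hπ.ne_zero (AdjoinRoot.of.injective_of_degree_ne_zero
    (by rw [degree_X_pow_sub_C (by omega) π]; exact_mod_cast (show n ≠ 0 by omega))
    (h1.trans (map_zero _).symm))

theorem irreducible_root (hπ : Irreducible π) (hn : 2 ≤ n) : Irreducible (ξ : 𝔸) := by
  have := isDomain_𝔸 hπ hn
  refine ⟨not_isUnit_root hπ hn, fun a b hab => ?_⟩
  rcases isUnit_or_dvd hπ hn a with ha | ⟨c, rfl⟩
  · exact Or.inl ha
  rcases isUnit_or_dvd hπ hn b with hb | ⟨d, rfl⟩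
  · exact Or.inr hb
  exfalso
  refine not_isUnit_root hπ hn (IsUnit.of_mul_eq_one (c * d) ?_)
  exact mul_left_cancel₀ (root_ne_zero hπ hn) (by rw [mul_one]; exact (by ring : _ = _).trans hab.symm)

theorem isDVR (hπ : Irreducible π) (hn : 2 ≤ n) [IsDomain 𝔸] : IsDiscreteValuationRing 𝔸 := by
  have := (monic (π := π) hn).finite_adjoinRoot
  have : IsNoetherianRing 𝔸 := IsNoetherianRing.of_finite A 𝔸
  refine IsDiscreteValuationRing.ofHasUnitMulPowIrreducibleFactorization
    ⟨ξ, irreducible_root hπ hn, fun {y} hy => ?_⟩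
  obtain ⟨k, b, hb, rfl⟩ := WfDvdMonoid.max_power_factor hy (irreducible_root hπ hn)
  exact ⟨k, associated_mul_isUnit_right_iff ((isUnit_or_dvd hπ hn b).resolve_right hb) |>.mpr (Associated.refl _)⟩

theorem totallyRamified (hπ : Irreducible π) (hn : 2 ≤ n) [IsDomain 𝔸] [IsDiscreteValuationRing 𝔸]
    (K₁ : Type u) [Field K₁] [Algebra 𝔸 K₁] [IsFractionRing 𝔸 K₁] :
    EtRam.IsTotallyRamified A ((algebraMap 𝔸 K₁).comp (algebraMap A 𝔸)) := by
  set φ := algebraMap 𝔸 K₁
  have hφ : Function.Injective φ := IsFractionRing.injective 𝔸 K₁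
  let V₀ : ValuationSubring K₁ := { φ.range with
    mem_or_inv_mem' := fun t => ValuationRing.isInteger_or_isInteger 𝔸 t }
  have hdom : EtRam.Dominates A (φ.comp (algebraMap A 𝔸)) V₀ := by
    refine ⟨fun a => ⟨_, rfl⟩, fun a ha => ?_⟩
    show V₀.valuation (((⟨_, ⟨algebraMap A 𝔸 a, rfl⟩⟩ : V₀) : K₁)) < 1
    rw [← ValuationSubring.valuation_lt_one_iff, IsLocalRing.mem_maximalIdeal]
    intro hu
    obtain ⟨⟨_, w, rfl⟩, hy⟩ := isUnit_iff_exists_inv.mp hu
    have h1 : algebraMap A 𝔸 a * w = 1 := hφ (by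
      rw [map_mul, map_one]
      exact congrArg Subtype.val hy)
    obtain ⟨M, hM⟩ := Ideal.exists_maximal 𝔸
    exact hM.ne_top (Ideal.eq_top_of_isUnit_mem _ ((map_mem_of_isMaximal hπ hn M a).mpr ha)
      (IsUnit.of_mul_eq_one w h1))
  have hsub : ∀ V, EtRam.Dominates A (φ.comp (algebraMap A 𝔸)) V → ∀ t, t ∈ V ↔ ∃ y, φ y = t := by
    intro V hV
    have hn0 : n ≠ 0 := by omega
    have hxn : φ ξ ^ n = φ (algebraMap A 𝔸 π) := by rw [← map_pow, root_pow]
    have hπlt : V.valuation (φ (algebraMap A 𝔸 π)) < 1 :=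
      hV.2 π ((IsLocalRing.mem_maximalIdeal π).mpr hπ.not_isUnit)
    have hxlt : V.valuation (φ ξ) < 1 := by
      rw [← pow_lt_one_iff_of_nonneg zero_le hn0, ← map_pow, hxn]; exact hπlt
    have hxV : φ ξ ∈ V := (V.valuation_le_one_iff _).mp hxlt.le
    have hall : ∀ y, φ y ∈ V := by
      intro y
      obtain ⟨p, rfl⟩ := AdjoinRoot.mk_surjective (g := (X ^ n - C π : A[X])) y
      induction p using Polynomial.induction_on' with
      | add p q hp hq => rw [map_add, map_add]; exact add_mem hp hq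
      | monomial k a =>
        rw [← C_mul_X_pow_eq_monomial, map_mul, map_pow, map_mul, map_pow, AdjoinRoot.mk_X,
          AdjoinRoot.mk_C]
        exact mul_mem (hV.1 a) (pow_mem hxV k)
    intro t
    refine ⟨fun ht => ?_, fun ⟨y, hy⟩ => hy ▸ hall y⟩
    rcases ValuationRing.isInteger_or_isInteger 𝔸 t with h | ⟨y, hy⟩
    · exact h
    by_cases ht0 : t = 0
    · exact ⟨0, by rw [ht0, map_zero]⟩
    rcases isUnit_or_dvd hπ hn y with hu | ⟨z, rfl⟩
    · obtain ⟨u, rfl⟩ := hu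
      refine ⟨↑u⁻¹, ?_⟩
      rw [← inv_inv t, ← hy, map_units_inv]
    exfalso
    have h1 : V.valuation (φ (ξ * z)) < 1 := by
      rw [map_mul, map_mul]
      exact lt_of_le_of_lt (mul_le_of_le_one_right' ((V.valuation_le_one_iff _).mpr (hall z))) hxlt
    have h2 : V.valuation t * V.valuation (φ (ξ * z)) = 1 := by
      rw [← map_mul, hy, mul_inv_cancel₀ ht0, map_one]
    exact (lt_of_le_of_lt (mul_le_of_le_one_left' ((V.valuation_le_one_iff _).mpr ht)) h1).ne h2
  refine ⟨⟨V₀, hdom⟩, fun V V' h h' => ValuationSubring.ext _ _ fun t =>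
    (hsub V h t).trans (hsub V' h' t).symm, fun V h r => ?_⟩
  obtain ⟨⟨t, ht⟩, rfl⟩ := IsLocalRing.residue_surjective r
  obtain ⟨y, rfl⟩ := (hsub V h t).mp ht
  obtain ⟨a, z, hy⟩ := decomp y
  refine ⟨a, ?_⟩
  symm
  dsimp only
  rw [← sub_eq_zero, ← map_sub, IsLocalRing.residue_eq_zero_iff, ValuationSubring.valuation_lt_one_iff]
  show V.valuation (φ y - φ (algebraMap A 𝔸 a)) < 1
  rw [← map_sub, hy, add_sub_cancel_left, map_mul, map_mul]
  have hxlt : V.valuation (φ ξ) < 1 := by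
    rw [← pow_lt_one_iff_of_nonneg zero_le (show n ≠ 0 by omega), ← map_pow, ← map_pow φ, root_pow]
    exact h.2 π ((IsLocalRing.mem_maximalIdeal π).mpr hπ.not_isUnit)
  exact lt_of_le_of_lt (mul_le_of_le_one_right' ((V.valuation_le_one_iff _).mpr ((hsub V h _).mpr ⟨z, rfl⟩))) hxlt

/-- Let A be a discrete valuation ring with uniformizer π and n ≥ 2, and let A' = A[x]/(x^n - π). Then
x^n - π is irreducible over A, A' is an integrally closed discrete valuation ring (so it is the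
integral closure of A in its fraction field K₁ = K(π^{1/n}), of degree n over K), the maximal ideal
of A generates the n-th power of the maximal ideal of A' (ramification index n), and K₁ is totally
ramified with respect to A. -/
theorem result (A : Type u) [CommRing A] [IsDomain A] [IsDiscreteValuationRing A] (π : A)
    (hπ : Irreducible π) (n : ℕ) (hn : 2 ≤ n) :
    Irreducible (X ^ n - C π : A[X]) ∧
    ∃ (_ : IsDomain (AdjoinRoot (X ^ n - C π : A[X]))) (_ : IsDiscreteValuationRing (AdjoinRoot (X ^ n - C π : A[X]))),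
      IsIntegrallyClosed (AdjoinRoot (X ^ n - C π : A[X])) ∧
      (IsLocalRing.maximalIdeal A).map (algebraMap A (AdjoinRoot (X ^ n - C π : A[X]))) = IsLocalRing.maximalIdeal (AdjoinRoot (X ^ n - C π : A[X])) ^ n ∧
      ∀ (K₁ : Type u) [Field K₁] [Algebra (AdjoinRoot (X ^ n - C π : A[X])) K₁] [IsFractionRing (AdjoinRoot (X ^ n - C π : A[X])) K₁],
        EtRam.IsTotallyRamified A ((algebraMap (AdjoinRoot (X ^ n - C π : A[X])) K₁).comp (algebraMap A (AdjoinRoot (X ^ n - C π : A[X])))) := by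
  have hd := isDomain_𝔸 (π := π) hπ hn
  have hdvr := isDVR (π := π) hπ hn
  refine ⟨irreducible_f hπ hn, hd, hdvr, inferInstance, ?_, fun K₁ _ _ _ => totallyRamified hπ hn K₁⟩
  rw [hπ.maximalIdeal_eq, (irreducible_root hπ hn).maximalIdeal_eq, Ideal.map_span, Set.image_singleton,
    Ideal.span_singleton_pow, root_pow]

end Groth.Agent.S1987
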