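import Groth.Statements.S19871
import Groth.Agent.WeilLib.Kunneth


set_option autoImplicit false
universe u v
open CategoryTheory AlgebraicGeometry
open WeilCoh Groth.Agent.WeilLib

namespace Groth.Agent.S19871

/-- Let `H` be a Weil cohomology theory with coefficients in a field `K` of characteristic zero on
nonsingular connected projective varieties over an algebraically closed field `k`; let `X`, `Y` be
such varieties and `P` a product `X × Y` with projections `p`, `q`, of dimension `dim X + dim Y`.
For an integer `r`, sending a class `φ ∈ H^{2 dim X + r}(P)` to the family, indexed by all integers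
`i`, of the `K`-linear maps `H^i(X) → H^{i+r}(Y)`, `x ↦ q_*(p^* x ∪ φ)`, is a bijection from `H^{2
dim X + r}(P)` onto the families of linear maps `(H^i(X) → H^{i+r}(Y))_i`, i.e. onto the degree-`r`
homomorphisms of graded vector spaces from `H•(X)` to `H•(Y)` (the factors with `i` outside `[0, 2
dim X]` are zero). The target degree is written `i + (2 dim X + r) + 2 dim Y − 2 dim P`, the
indexing of the push-forward; it equals `i + r` by the dimension hypothesis. (The published lemma
states a canonical isomorphism `Hom^r(H•X, H•Y) ≅ H^{2 dim X + r}(X × Y)(dim X)` obtained from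
Poincaré duality on `X` and the Künneth formula, for smooth projective varieties over an arbitrary
field with Tate twists; this row is its case of connected varieties over an algebraically closed
field, without twists, with the isomorphism written as the action of a class by pull-back, cup
product and push-forward.) -/
theorem result (k : Type u) [Field k] [IsAlgClosed k] (K : Type v) [Field K] [CharZero K]
    (T : WeilCoh.Theory k K) (X Y P : WeilCoh.Var k) (p : P ⟶ X) (q : P ⟶ Y) (hP : WeilCoh.IsProd p q)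
    (hdim : WeilCoh.dim P.obj.left = WeilCoh.dim X.obj.left + WeilCoh.dim Y.obj.left) (r : ℤ) :
    Function.Bijective (fun φ : ↥(T.gr P (2 * (WeilCoh.dim X.obj.left : ℤ) + r)) => fun i : ℤ =>
      (T.push q (i + (2 * (WeilCoh.dim X.obj.left : ℤ) + r))) ∘ₗ
        ((LinearMap.mulRight K (φ : T.H P)).restrict (p := T.gr P i) (q := T.gr P (i + (2 * (WeilCoh.dim X.obj.left : ℤ) + r)))
          (fun x hx => SetLike.mul_mem_graded hx φ.2)) ∘ₗ
        (T.pullDeg p i)) := by
  obtain ⟨e, f, hef⟩ := exists_bases T X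
  have hdeg : ∀ s : ℤ, s + (2 * (WeilCoh.dim X.obj.left : ℤ) + r) + 2 * (WeilCoh.dim Y.obj.left : ℤ) -
      2 * (WeilCoh.dim P.obj.left : ℤ) =
      s + (2 * (WeilCoh.dim X.obj.left : ℤ) + r) - 2 * WeilCoh.dim X.obj.left := fun s => by
    rw [hdim]; push_cast; ring
  constructor
  · intro φ φ' h
    let g : ∀ s : ℕ, ↥(T.gr X (s : ℤ)) →ₗ[K] T.H Y := fun s =>
      Submodule.subtype _ ∘ₗ (T.push q ((s : ℤ) + (2 * (WeilCoh.dim X.obj.left : ℤ) + r))) ∘ₗ
        ((LinearMap.mulRight K (φ : T.H P)).restrict (p := T.gr P (s : ℤ))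
          (q := T.gr P ((s : ℤ) + (2 * (WeilCoh.dim X.obj.left : ℤ) + r)))
          (fun x hx => SetLike.mul_mem_graded hx φ.2)) ∘ₗ (T.pullDeg p (s : ℤ))
    have hg : ∀ (s : ℕ) (a : ↥(T.gr X (s : ℤ))), g s a ∈
        T.gr Y ((s : ℤ) + (2 * (WeilCoh.dim X.obj.left : ℤ) + r) - 2 * WeilCoh.dim X.obj.left) :=
      fun s a => (hdeg s) ▸ Subtype.prop _
    refine Subtype.ext ((eq_expansion T e f hef hP φ.2 g hg fun s a b => tr_push T q _ _ b).trans
      (eq_expansion T e f hef hP φ'.2 g hg fun s a b => ?_).symm)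
    have := congrArg (fun L => ((L (s : ℤ)) a : T.H Y)) h
    exact (congrArg (fun y => T.tr Y (y * b)) this).trans (tr_push T q _ _ b)
  · intro G
    let g : ∀ s : ℕ, ↥(T.gr X (s : ℤ)) →ₗ[K] T.H Y := fun s => Submodule.subtype _ ∘ₗ G (s : ℤ)
    have hg : ∀ (s : ℕ) (a : ↥(T.gr X (s : ℤ))), g s a ∈
        T.gr Y ((s : ℤ) + (2 * (WeilCoh.dim X.obj.left : ℤ) + r) - 2 * WeilCoh.dim X.obj.left) :=
      fun s a => (hdeg s) ▸ Subtype.prop _
    refine ⟨⟨_, expansion_mem T e f hef (p := p) (q := q) g hg⟩, funext fun i => LinearMap.ext fun a => ?_⟩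
    refine Subtype.ext (push_eq T q _ _ _ fun j b hb => ?_)
    rcases lt_or_ge i 0 with hi | hi
    · have : a = 0 := Subtype.ext (eq_zero_of_mem_of_out T a.2 (Or.inl hi))
      subst this
      simp
    obtain ⟨s, rfl⟩ : ∃ s : ℕ, i = (s : ℤ) := ⟨i.toNat, (Int.toNat_of_nonneg hi).symm⟩
    by_cases hs : s ≤ 2 * WeilCoh.dim X.obj.left
    swap
    · have : a = 0 := Subtype.ext (eq_zero_of_mem_of_out T a.2 (Or.inr (by omega)))
      subst this
      simp
    change T.tr Y (g s a * b) =
      T.tr P (T.pull p (a : T.H X) * expansion T e f p q g * T.pull q b)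
    rw [mul_comm_z T (T.pull_mem p _ _ a.2) (expansion_mem T e f hef (p := p) (q := q) g hg),
      smul_mul_assoc, map_smul, smul_eq_mul, mul_assoc, tr_expansion_mul T e f hef hP g hg s hs a hb,
      ← mul_assoc, ← zpow_add₀ (by simp), Even.neg_one_zpow ⟨(s : ℤ) * (2 * (WeilCoh.dim X.obj.left : ℤ) + r), by ring⟩,
      one_mul]

end Groth.Agent.S19871
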