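import Groth.Statements.S19881
import Mathlib
import Groth.Agent.GrInj.TopShift
import Groth.Agent.GrInj.StarLoc
import Groth.Agent.GrInj.TopDim
import Groth.Agent.GrInj.StdReg
import Groth.Agent.GrInj.Koszul
import Groth.Agent.GrInj.Hilbert
-- import your own Groth.Agent.* helpers here

set_option autoImplicit false
universe u
open GrLC

namespace Groth.Agent.S19881

section
open Groth.Agent.GrInj
open scoped Pointwise
variable {R : Type u} [CommRing R] [IsNoetherianRing R] {𝒜 : ℤ → AddSubgroup R} [GradedRing 𝒜]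

theorem exists_avoid_linear {K : Type u} (T : K → R) [Infinite K] (hT : ∀ s t, s ≠ t → IsUnit (T s - T t))
    (hT1 : ∀ s, ∀ x ∈ 𝒜 1, T s * x ∈ 𝒜 1) (S : Finset (Ideal R))
    (hS : ∀ p ∈ S, p.IsPrime ∧ ∃ y ∈ 𝒜 1, y ∉ p) : ∃ x ∈ 𝒜 1, ∀ p ∈ S, x ∉ p := by
  classical
  induction S using Finset.induction_on with
  | empty => exact ⟨0, zero_mem _, fun p hp => absurd hp (Finset.notMem_empty p)⟩
  | insert p₀ S _ ih =>
    obtain ⟨x, hx, hxS⟩ := ih fun p hp => hS p (Finset.mem_insert_of_mem hp)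
    obtain ⟨hp₀, y, hy, hy₀⟩ := hS p₀ (Finset.mem_insert_self _ _)
    have hbad : ∀ p ∈ insert p₀ S, {s : K | x + T s * y ∈ p}.Subsingleton := by
      intro p hp s hs t ht
      by_contra hst
      have h1 : (T s - T t) * y ∈ p := by simpa [sub_mul] using p.sub_mem hs ht
      have h2 : y ∈ p := (Ideal.unit_mul_mem_iff_mem p (hT s t hst)).1 h1
      rcases Finset.mem_insert.1 hp with rfl | hpS
      · exact hy₀ h2
      · exact hxS p hpS ((p.add_mem_iff_left (p.mul_mem_left _ h2)).1 hs)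
    have hfin : (⋃ p ∈ insert p₀ S, {s : K | x + T s * y ∈ p}).Finite :=
      (Finset.finite_toSet _).biUnion fun p hp => (hbad p hp).finite
    obtain ⟨s, hs⟩ := hfin.exists_notMem
    exact ⟨x + T s * y, add_mem hx (hT1 s y hy), fun p hp h => hs (Set.mem_biUnion hp h)⟩

theorem exists_regular_linear_seq (hpos : ∀ n : ℤ, n < 0 → 𝒜 n = ⊥) {m : HomogeneousIdeal 𝒜}
    (hm1 : ∀ x ∈ 𝒜 1, x ∈ m.toIdeal)
    (hm : ∀ p : Ideal R, p.IsPrime → (∀ x ∈ 𝒜 1, x ∈ p) → m.toIdeal ≤ p)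
    {K : Type u} (T : K → R) [Infinite K] (hT : ∀ s t, s ≠ t → IsUnit (T s - T t))
    (hT1 : ∀ s, ∀ x ∈ 𝒜 1, T s * x ∈ 𝒜 1) :
    ∀ (j : ℕ) (X : GMod.{u} 𝒜), Module.Finite R X.carrier → ∀ E : GrLC.StarInjRes 𝒜 X.gr,
      (∀ i < j, Subsingleton (E.H m i)) → ∃ xs : Fin j → R, (∀ i, xs i ∈ 𝒜 1) ∧
        RingTheory.Sequence.IsWeaklyRegular X.carrier (List.ofFn xs) := by
  classical
  intro j
  induction j with
  | zero => exact fun X _ E _ => ⟨fun i => i.elim0, fun i => i.elim0, by simp⟩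
  | succ j ih =>
    intro X hX E hE
    haveI := hX
    have htf : ∀ y ∈ GrLC.gam m.toIdeal X.carrier, y = 0 := fun y hy => eq_zero_of_pr (ℳ := X.gr) fun d =>
      eq_zero_of_van (van_of_res E (eq_bot_iff.2 fun c _ => (Submodule.mem_bot _).2
        (Subsingleton.elim (h := hE 0 (Nat.succ_pos j)) c 0))) (pr_mem d y) (S13225.gam_homogeneous m d hy)
    have hfin := associatedPrimes.finite R X.carrier
    obtain ⟨x, hx, hxS⟩ := exists_avoid_linear (𝒜 := 𝒜) T hT hT1 hfin.toFinset fun p hp => by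
      obtain ⟨hp', y, hy⟩ := (isAssociatedPrime_iff (R := R) (M := X.carrier)).1 (hfin.mem_toFinset.1 hp)
      refine ⟨hp', ?_⟩
      by_contra hall
      push Not at hall
      have hle := hm p hp' hall
      have hy0 : y = 0 := htf y ⟨1, fun s hs => by
        have hr' : s ∈ p := hle (by rwa [pow_one] at hs)
        rw [hy, Submodule.mem_colon_singleton, Submodule.mem_bot] at hr'
        exact hr'⟩
      exact hp'.ne_top (by rw [hy, hy0]; simp)
    have hreg : IsSMulRegular X.carrier x := isSMulRegular_iff_right_eq_zero_of_smul.2 fun y hy => by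
      by_contra hy0
      have hmem : x ∈ ⋃ p ∈ associatedPrimes R X.carrier, (p : Set R) := by
        rw [biUnion_associatedPrimes_eq_zero_divisors]; exact ⟨y, hy0, hy⟩
      obtain ⟨p, hp, hxp⟩ := Set.mem_iUnion₂.1 hmem
      exact hxS p (hfin.mem_toFinset.2 hp) hxp
    have hP : (x • (⊤ : Submodule R X.carrier)).IsHomogeneous X.gr := by
      have he : (x • (⊤ : Submodule R X.carrier)) = LinearMap.range (LinearMap.lsmul R X.carrier x) := by
        rw [← Submodule.map_top]; rfl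
      rw [he]; exact hom_range (grHom_lsmul (ℳ := X.gr) hx)
    let Y : GMod.{u} 𝒜 := quoMod 𝒜 (x • (⊤ : Submodule R X.carrier)) hP
    obtain ⟨G⟩ := S13215.result R 𝒜 Y.carrier Y.gr
    let ρ : X.carrier →ₗ[R] Y.carrier := Submodule.mkQ (x • (⊤ : Submodule R X.carrier))
    have hρk : LinearMap.ker ρ = LinearMap.range (LinearMap.lsmul R X.carrier x) :=
      (Submodule.ker_mkQ _).trans (by rw [← Submodule.map_top]; rfl)
    have hρ : IsGrHom X.gr Y.gr ρ := grHom_quoMk hP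
    have hG := subsingleton_step (a := m) hx hreg hρ (Submodule.mkQ_surjective _) hρk E G (n := j) hE
    obtain ⟨xs, hxs, hxsr⟩ := ih Y (inferInstanceAs (Module.Finite R (X.carrier ⧸ x • (⊤ : Submodule R X.carrier)))) G hG
    refine ⟨Fin.cons x xs, fun i => ?_, ?_⟩
    · cases i using Fin.cases with
      | zero => exact hx
      | succ i => exact hxs i
    · rw [List.ofFn_succ]
      simp only [Fin.cons_zero, Fin.cons_succ]
      exact (RingTheory.Sequence.isWeaklyRegular_cons_iff _ _ _).2 ⟨hreg, hxsr⟩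

theorem le_radical_of_regular [LocCoh.IsCohenMacaulayRing R] (hpos : ∀ n : ℤ, n < 0 → 𝒜 n = ⊥)
    {m : HomogeneousIdeal 𝒜} (hm : GrLC.IsStarLocal 𝒜 m) {d : ℕ} (hd : ringKrullDim R = d) (xs : Fin d → R)
    (hxs : ∀ i, xs i ∈ 𝒜 1) (hreg : RingTheory.Sequence.IsWeaklyRegular R (List.ofFn xs)) :
    m.toIdeal ≤ (Ideal.span (Set.range xs)).radical := by
  rw [Ideal.radical_eq_sInf]
  refine le_sInf fun P hP => ?_
  haveI := hP.2
  haveI := Ideal.IsPrime.homogeneousCore (𝒜 := 𝒜) (I := P) hP.2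
  haveI := star_isMaximal hpos hm
  have hmem : ∀ i, xs i ∈ (P.homogeneousCore 𝒜).toIdeal := fun i =>
    Ideal.mem_homogeneousCore_of_homogeneous_of_mem ⟨1, hxs i⟩ (hP.1 (Ideal.subset_span ⟨i, rfl⟩))
  have hle : (P.homogeneousCore 𝒜).toIdeal ≤ m.toIdeal := star_le hm _ (Ideal.IsPrime.ne_top inferInstance)
  have hd' : (d : ℕ∞) ≤ (P.homogeneousCore 𝒜).toIdeal.height := by
    rw [← (S14424.result R).1 inferInstance _ (Ideal.IsPrime.ne_top inferInstance)]
    unfold LocCoh.idealDepth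
    split_ifs with h
    · exact le_top
    · refine le_iSup₂_of_le (List.ofFn xs) ⟨hreg, fun r hr => ?_⟩ (by simp)
      obtain ⟨i, rfl⟩ := List.mem_ofFn.1 hr
      exact hmem i
  rcases eq_or_lt_of_le hle with h | h
  · exact h.ge.trans (Ideal.toIdeal_homogeneousCore_le 𝒜 P)
  · exfalso
    have h1 := Ideal.height_strict_mono_of_isPrime h
    have h2 : m.toIdeal.height = (d : ℕ∞) := by
      have := (ringKrullDim_eq_height_star hpos hm).symm.trans hd
      exact_mod_cast this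
    rw [h2] at h1
    exact absurd hd' (not_le.2 h1)

theorem li_of_regular (hpos : ∀ n : ℤ, n < 0 → 𝒜 n = ⊥) {N : ℕ} (b : Fin N → R) (hb : ∀ i, b i ∈ 𝒜 1)
    (hreg : RingTheory.Sequence.IsWeaklyRegular R (List.ofFn b)) (c : Fin N → GrLC.deg0 𝒜)
    (hc : ∑ i, (c i : R) * b i = 0) : c = 0 := by
  classical
  by_contra hne
  obtain ⟨i, hi, himax⟩ : ∃ i, c i ≠ 0 ∧ ∀ l, i < l → c l = 0 := by
    have hne' : (Finset.univ.filter fun i => c i ≠ 0).Nonempty := by
      obtain ⟨i, hi⟩ := Function.ne_iff.1 hne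
      exact ⟨i, Finset.mem_filter.2 ⟨Finset.mem_univ i, hi⟩⟩
    refine ⟨_, (Finset.mem_filter.1 (Finset.max'_mem _ hne')).2, fun l hl => by_contra fun h => ?_⟩
    exact absurd (Finset.le_max' _ l (Finset.mem_filter.2 ⟨Finset.mem_univ l, h⟩)) (not_le.2 hl)
  let J : Ideal R := Ideal.ofList ((List.ofFn b).take i)
  have hbJ : ∀ l, l < i → b l ∈ J := fun l hl => Ideal.subset_span (List.mem_take_iff_getElem.2
    ⟨l.1, by simp only [List.length_ofFn]; omega, by simp⟩)
  have hJ : ∀ y ∈ J, pr 𝒜 0 y = 0 := fun y hy => by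
    induction hy using Submodule.span_induction with
    | mem y hy =>
      obtain ⟨l, rfl⟩ := List.mem_ofFn.1 (List.mem_of_mem_take hy)
      exact pr_of_ne (hb l) one_ne_zero
    | zero => exact map_zero _
    | add p q _ _ hp hq => rw [map_add, hp, hq, add_zero]
    | smul s p hpm hp =>
      rw [← sum_supp (ℳ := 𝒜) s, Finset.sum_smul, map_sum]
      refine Finset.sum_eq_zero fun d _ => ?_
      rw [pr_smul' (pr_mem (ℳ := 𝒜) d s)]
      rcases lt_trichotomy d 0 with h | rfl | h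
      · rw [AddSubgroup.mem_bot.1 ((hpos d h).le (pr_mem (ℳ := 𝒜) d s)), zero_smul]
      · rw [sub_zero, hp, smul_zero]
      · rw [AddSubgroup.mem_bot.1 ((hpos (0 - d) (by omega)).le (pr_mem (ℳ := 𝒜) (0 - d) p)), smul_zero]
  have hcb : b i * (c i : R) ∈ J := by
    have hrest : (∑ l ∈ Finset.univ.erase i, (c l : R) * b l) ∈ J := sum_mem fun l hl => by
      rcases lt_or_gt_of_ne (Finset.ne_of_mem_erase hl) with h | h
      · exact J.mul_mem_left _ (hbJ l h)
      · rw [himax l h]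
        show (0 : R) * b l ∈ J
        rw [zero_mul]; exact zero_mem _
    rw [← Finset.add_sum_erase _ _ (Finset.mem_univ i)] at hc
    rw [mul_comm, eq_neg_of_add_eq_zero_left hc]
    exact neg_mem hrest
  have hJtop : (J • ⊤ : Submodule R R) = J := by rw [smul_eq_mul, Ideal.mul_top]
  have h1 := hreg.regular_mod_prev i.1 (by simp)
  rw [List.getElem_ofFn] at h1
  have hcJ : (c i : R) ∈ J := by
    have h2 : Submodule.Quotient.mk (c i : R) = (0 : R ⧸ (J • ⊤ : Submodule R R)) := h1 (by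
      show b i • (Submodule.Quotient.mk (c i : R) : R ⧸ (J • ⊤ : Submodule R R)) = b i • 0
      rw [smul_zero, ← Submodule.Quotient.mk_smul, Submodule.Quotient.mk_eq_zero, hJtop]
      exact hcb)
    rw [Submodule.Quotient.mk_eq_zero, hJtop] at h2
    exact h2
  exact hi (Subtype.ext ((pr_of_mem (show (c i : R) ∈ 𝒜 0 from (c i).2)).symm.trans (hJ _ hcJ)))

end

/-- Let R = ⊕_{n ≥ 0} R_n be a (Noetherian) positively ℤ-graded ring which is standard graded
(irrelevant ideal generated by R_1), with R_0 Artinian, *local with unique homogeneous maximal ideal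
m, Cohen–Macaulay of Krull dimension d, and with infinite residue field R/m. If the a-invariant of R
equals −d, i.e. the end (largest nonzero degree) of the graded local cohomology module H^d_m(R),
computed from any *injective resolution of R in the graded category, is −d, then R is a polynomial
ring over R_0 in d variables of degree one: there is an R_0-algebra isomorphism R_0[T_1, …, T_d] ≅ R
mapping every variable into R_1. (The published statement asserts the equivalence of a(R) = −d with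
R ≅ R_0[T_1, …, T_d] without the residue-field hypothesis; its argument treats the case of an
infinite residue field, which is the case stated here, and only the forward implication is stated.) -/
theorem result (R : Type u) [CommRing R]
    [LocCoh.IsCohenMacaulayRing R] (𝒜 : ℤ → AddSubgroup R) [GradedRing 𝒜]
    (hpos : ∀ n : ℤ, n < 0 → 𝒜 n = ⊥)
    (hstd : Ideal.span (⋃ n ∈ Set.Ioi (0 : ℤ), (𝒜 n : Set R)) = Ideal.span ((𝒜 1 : AddSubgroup R) : Set R))
    [IsArtinianRing (GrLC.deg0 𝒜)] (m : HomogeneousIdeal 𝒜) (hm : GrLC.IsStarLocal 𝒜 m)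
    (hinf : Infinite (R ⧸ m.toIdeal)) (d : ℕ) (hd : ringKrullDim R = d) (I : GrLC.StarInjRes 𝒜 𝒜)
    (ha : GrLC.endDeg (I.Hgr m d) = (((-(d : ℤ) : ℤ) : WithTop ℤ) : WithBot (WithTop ℤ))) :
    ∃ e : MvPolynomial (Fin d) (GrLC.deg0 𝒜) ≃ₐ[GrLC.deg0 𝒜] R, ∀ t : Fin d, e (MvPolynomial.X t) ∈ 𝒜 1 := by
  classical
  haveI := GrInj.star_isMaximal hpos hm
  let a := GrInj.irrel 𝒜
  have hrad : a.toIdeal.radical = m.toIdeal.radical := GrInj.radical_irrel_eq hpos hm
  have hhom : a.toIdeal = Ideal.span ((𝒜 1 : AddSubgroup R) : Set R) := GrInj.irrel_def.trans hstd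
  have hm1 : ∀ x ∈ 𝒜 1, x ∈ m.toIdeal := fun x hx => GrInj.mem_star_of_pos hpos hm one_pos hx
  have hmp : ∀ p : Ideal R, p.IsPrime → (∀ x ∈ 𝒜 1, x ∈ p) → m.toIdeal ≤ p := fun p hp hall =>
    Ideal.le_radical.trans (hrad.ge.trans (hp.radical_le_iff.2 (hhom.le.trans (Ideal.span_le.2 hall))))
  have hdeg0 : ∀ x ∈ 𝒜 0, x ∉ m.toIdeal → IsUnit x := fun x hx hxm => by
    rw [← Ideal.span_singleton_eq_top]
    by_contra h
    exact hxm (GrInj.star_le hm ⟨Ideal.span {x}, Ideal.homogeneous_span 𝒜 _ (by rintro _ rfl; exact ⟨0, hx⟩)⟩ h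
      (Ideal.subset_span rfl))
  have hsec : ∀ c : R ⧸ m.toIdeal, ∃ t ∈ 𝒜 0, Ideal.Quotient.mk m.toIdeal t = c := fun c => by
    obtain ⟨x, rfl⟩ := Ideal.Quotient.mk_surjective c
    refine ⟨GrInj.pr 𝒜 0 x, GrInj.pr_mem 0 x, Ideal.Quotient.eq.2 ?_⟩
    refine GrInj.mem_of_pr (ℳ := 𝒜) (P := m.toIdeal) fun i => ?_
    rw [map_sub]
    rcases lt_trichotomy i 0 with h | rfl | h
    · rw [GrInj.pr_of_ne (GrInj.pr_mem 0 x) h.ne', AddSubgroup.mem_bot.1 ((hpos i h).le (GrInj.pr_mem (ℳ := 𝒜) i x)), sub_zero]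
      exact zero_mem _
    · rw [GrInj.pr_of_mem (GrInj.pr_mem (ℳ := 𝒜) 0 x), sub_self]; exact zero_mem _
    · rw [GrInj.pr_of_ne (GrInj.pr_mem 0 x) h.ne, zero_sub]
      exact neg_mem (GrInj.mem_star_of_pos hpos hm h (GrInj.pr_mem i x))
  choose T hT0 hTc using hsec
  have hT : ∀ s t, s ≠ t → IsUnit (T s - T t) := fun s t hst => hdeg0 _ (sub_mem (hT0 s) (hT0 t)) fun h =>
    hst ((hTc s).symm.trans ((Ideal.Quotient.eq.2 h).trans (hTc t)))
  have hT1 : ∀ s, ∀ x ∈ 𝒜 1, T s * x ∈ 𝒜 1 := fun s x hx => by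
    have := SetLike.mul_mem_graded (hT0 s) hx
    rwa [zero_add] at this
  obtain ⟨xs, hxs, hreg⟩ := exists_regular_linear_seq hpos hm1 hmp T hT hT1 d (GrInj.selfMod 𝒜)
    (inferInstanceAs (Module.Finite R R)) I (fun i hi => GrInj.subsingleton_H_cm hpos hm hd I i hi)
  have hrad' := le_radical_of_regular hpos hm hd xs hxs hreg
  -- the pieces of the quotient in positive degree vanish
  have hofl : (Ideal.ofList (List.ofFn xs) • ⊤ : Submodule R R) = Ideal.span (Set.range xs) := by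
    rw [smul_eq_mul, Ideal.mul_top, Ideal.ofList,
      show {r : R | r ∈ List.ofFn xs} = Set.range xs from Set.ext fun r => List.mem_ofFn]
  let P : Submodule R (GrInj.selfMod 𝒜).carrier := Ideal.ofList (List.ofFn xs) • ⊤
  have hPeq : ∀ y : R, y ∈ P ↔ y ∈ Ideal.span (Set.range xs) := fun y => SetLike.ext_iff.1 hofl y
  have hP : P.IsHomogeneous (GrInj.selfMod 𝒜).gr := fun i x hx => (hPeq _).2
    (Ideal.homogeneous_span 𝒜 _ (by rintro _ ⟨l, rfl⟩; exact ⟨1, hxs l⟩) i ((hPeq x).1 hx))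
  have key : ∀ (Y : GMod.{u} 𝒜) (π : (GrInj.selfMod 𝒜).carrier →ₗ[R] Y.carrier),
      GrLC.IsGrHom (GrInj.selfMod 𝒜).gr Y.gr π → Function.Surjective π → LinearMap.ker π = P →
      ∀ F : GrLC.StarInjRes 𝒜 Y.gr, GrLC.endDeg (F.Hgr m 0) = GrLC.endDeg (I.Hgr m (0 + d)) +
        (((d : ℤ) : WithTop ℤ) : WithBot (WithTop ℤ)) := fun Y π h1 h2 h3 F => by
    have hsum : ((Finset.univ : Finset (Fin d)).sum fun _ => (1 : ℤ)) = (d : ℤ) := by simp
    rw [← hsum]
    exact GrInj.endDeg_regular_quotient (a := m) hpos d xs (fun _ => 1) hxs (fun i => hm1 _ (hxs i))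
        (GrInj.selfMod 𝒜) I hreg 0 (fun i hi => GrInj.subsingleton_H_cm hpos hm hd I i (by omega))
        Y.carrier Y.gr π h1 h2 h3 F
  let Q : GMod.{u} 𝒜 := GrInj.quoMod 𝒜 P hP
  obtain ⟨F⟩ := S13215.result R 𝒜 Q.carrier Q.gr
  have hend : GrLC.endDeg (F.Hgr m 0) ≤ (((0 : ℤ) : WithTop ℤ) : WithBot (WithTop ℤ)) := by
    rw [key Q P.mkQ (fun i x hx => ⟨x, hx, rfl⟩) (Submodule.mkQ_surjective _) (Submodule.ker_mkQ _) F,
      Nat.zero_add]
    refine le_trans (add_le_add ha.le le_rfl) (le_of_eq ?_)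
    exact congrArg (fun z : ℤ => ((z : WithTop ℤ) : WithBot (WithTop ℤ))) (neg_add_cancel (d : ℤ))
  have hgen : ∀ n : ℤ, 0 < n → ∀ x ∈ 𝒜 n, x ∈ Ideal.span (Set.range xs) := by
    intro n hn x hx
    have hvan : GrInj.Van m 0 n Q := GrInj.van_of_res F (eq_bot_iff.2 fun c hc => (Submodule.mem_bot _).2
      (AddSubgroup.mem_bot.1 (((GrInj.endDeg_le_iff _ _).1 hend n hn).le hc)))
    obtain ⟨K, hK⟩ := Ideal.exists_pow_le_of_le_radical_of_fg hrad' (IsNoetherian.noetherian m.toIdeal)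
    refine (hPeq x).1 ((Submodule.Quotient.mk_eq_zero P).1 (GrInj.eq_zero_of_van (X := Q) hvan ⟨x, hx, rfl⟩
      ⟨K, fun s hs => (Submodule.Quotient.mk_smul P s x).symm.trans ((Submodule.Quotient.mk_eq_zero P).2
        ((hPeq _).2 (Ideal.mul_mem_right _ _ (hK hs))))⟩))
  have hspan : Ideal.span (Set.range xs) = a.toIdeal := by
    refine le_antisymm (Ideal.span_le.2 ?_) (Ideal.span_le.2 fun x hx => ?_)
    · rintro _ ⟨i, rfl⟩
      exact hhom.ge (Ideal.subset_span (hxs i))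
    · simp only [Set.mem_iUnion] at hx
      obtain ⟨n, hn, hx⟩ := hx
      exact hgen n hn x hx
  let φ : GrLC.deg0 𝒜 →+* R := (GrLC.deg0 𝒜).subtype
  have hφ : ∀ c, φ c ∈ 𝒜 0 := fun c => c.2
  have hsurj : Function.Surjective (MvPolynomial.eval₂Hom φ xs) := GrInj.eval_surjective φ xs hxs hpos hspan
    (fun n hn x hx => GrInj.mem_a a hpos GrInj.irrel_def hn.ne' hx) fun x hx => ⟨⟨x, hx⟩, rfl⟩
  have hvanA : GrInj.VanAbove a 0 (GrInj.selfMod 𝒜) := fun k n hkn => by
    refine GrInj.van_of_res I (GrInj.Hcomp_eq_bot_iff_radical hrad I k n ?_)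
    rcases lt_trichotomy k d with h | rfl | h
    · exact eq_bot_iff.2 fun c _ => (Submodule.mem_bot _).2
        (Subsingleton.elim (h := GrInj.subsingleton_H_cm hpos hm hd I k h) c 0)
    · have h1 := (GrInj.endDeg_le_iff _ _).1 ha.le n (by omega)
      exact eq_bot_iff.2 fun c hc => (Submodule.mem_bot _).2 (AddSubgroup.mem_bot.1 (h1.le hc))
    · exact eq_bot_iff.2 fun c _ => (Submodule.mem_bot _).2
        (Subsingleton.elim (h := GrInj.subsingleton_H_above hd I m h) c 0)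
  have hdep : 0 < d → ∀ x : R, x ∈ GrLC.gam a.toIdeal R → x = 0 := fun hd0 x hx =>
    GrInj.eq_zero_of_pr (ℳ := 𝒜) fun n => GrInj.eq_zero_of_van (X := GrInj.selfMod 𝒜)
      (GrInj.van_of_res I (GrInj.Hcomp_eq_bot_iff_radical hrad I 0 n (eq_bot_iff.2 fun c _ =>
        (Submodule.mem_bot _).2 (Subsingleton.elim (h := GrInj.subsingleton_H_cm hpos hm hd I 0 hd0) c 0))))
      (GrInj.pr_mem (ℳ := 𝒜) n x) (S13225.gam_homogeneous (ℳ := 𝒜) a n hx)
  have hinj : Function.Injective (MvPolynomial.eval₂Hom φ xs) :=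
    GrInj.eval_injective φ hφ xs hxs hdep hvanA hspan hsurj Subtype.val_injective (li_of_regular hpos xs hxs hreg)
  refine ⟨AlgEquiv.ofRingEquiv (f := RingEquiv.ofBijective _ ⟨hinj, hsurj⟩) fun c => ?_, fun t => ?_⟩
  · exact MvPolynomial.eval₂Hom_C φ xs c
  · show MvPolynomial.eval₂Hom φ xs (MvPolynomial.X t) ∈ 𝒜 1
    rw [MvPolynomial.eval₂Hom_X']
    exact hxs t

end Groth.Agent.S19881
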