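import Groth.Statements.S19889
import Groth.Agent.GrpSchField.ClosedImage
import Groth.Agent.GrpSchField.ConnComp

set_option autoImplicit false
universe u
open CategoryTheory CategoryTheory.Limits MonoidalCategory CartesianMonoidalCategory MonObj GrpObj AlgebraicGeometry
open GrpSch

namespace Groth.Agent.S19889

/-- Let k be an algebraically closed field, G a commutative group scheme locally of finite type over k,
and i : G⁰ → G its identity component (a homomorphism that is an open immersion onto the connected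
component of the unit point). Then the natural map from the torsion subgroup of G(k) to the torsion
subgroup of G(k)/G⁰(k) is surjective: if g is a k-point of G and gⁿ lies in G⁰(k) for some n ≥ 1,
then there is a k-point t of G of finite order such that t⁻¹ g lies in G⁰(k). -/
theorem result (k : Type u) [Field k] [IsAlgClosed k]
    {G G0 : Over (Spec (CommRingCat.of k))} [GrpObj G] [IsCommMonObj G] [GrpObj G0]
    [LocallyOfFiniteType G.hom] (i : G0 ⟶ G) [IsMonHom i] (hi : AutSch.IsIdComp i)
    (g : 𝟙_ (Over (Spec (CommRingCat.of k))) ⟶ G) (n : ℕ) (hn : 0 < n)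
    (hg : g ^ n ∈ AutSch.ptsRange i) :
    ∃ t : 𝟙_ (Over (Spec (CommRingCat.of k))) ⟶ G, IsOfFinOrder t ∧ t⁻¹ * g ∈ AutSch.ptsRange i := by
  obtain ⟨hmon, hopen, hrange⟩ := hi
  have hC : Set.range i.left = connectedComponent (Groth.Agent.GrpSchField.e G) := by
    refine hrange.trans ?_
    ext x
    simp only [SGA3x.neutralSet, Set.mem_iUnion]
    have huniv : ∀ p : ↥(𝟙_ (Over (Spec (CommRingCat.of k)))).left,
        G.hom.base ⁻¹' {(𝟙_ (Over (Spec (CommRingCat.of k)))).hom.base p} = Set.univ := fun p =>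
      Set.eq_univ_of_forall fun y => Subsingleton.elim (α := Spec (CommRingCat.of k)) _ _
    constructor
    · rintro ⟨p, hp⟩
      rw [huniv, connectedComponentIn_univ] at hp
      have : p = IsLocalRing.closedPoint k :=
        Subsingleton.elim (α := Spec (CommRingCat.of k)) _ _
      subst this
      exact hp
    · intro hx
      refine ⟨IsLocalRing.closedPoint k, ?_⟩
      have h := huniv (IsLocalRing.closedPoint k)
      erw [h, connectedComponentIn_univ]
      exact hx
  have hC' := hC.trans (Groth.Agent.GrpSchField.connectedComponent_eq_unitComp G)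
  have hcpt : CompactSpace G0.left := ⟨i.left.isEmbedding.isCompact_iff.mpr (by
    rw [Set.image_univ, hC']
    exact Groth.Agent.GrpSchField.isCompact_unitComp G)⟩
  have hirr : IrreducibleSpace G0.left := by
    have h : IsIrreducible (Set.range i.left) := hC' ▸ isIrreducible_singleton.closure
    have := isIrreducible_iff_irreducibleSpace.mp h
    exact i.left.isEmbedding.toHomeomorph.irreducibleSpace_iff.mpr this
  have : LocallyOfFiniteType G0.hom := by
    rw [← Over.w i]
    infer_instance
  have : IsLocallyNoetherian G0.left := LocallyOfFiniteType.isLocallyNoetherian G0.hom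
  have : IsNoetherian G0.left := ⟨⟩
  let ψ : ℕ → (G0 ⟶ G) := fun m => i ^ n ^ m
  have hψ : ∀ m, IsMonHom (ψ m) := fun m => by
    show IsMonHom (i ^ n ^ m)
    have h1 : μ[G0] = fst G0 G0 * snd G0 G0 := by rw [Hom.mul_def, lift_fst_snd, Category.id_comp]
    refine ⟨?_, ?_⟩
    · rw [comp_pow, IsMonHom.one_hom]
      have : η[G] = (1 : 𝟙_ (Over (Spec (CommRingCat.of k))) ⟶ G) := by
        rw [Hom.one_def, toUnit_unit, Category.id_comp]
      rw [this, one_pow]
    · rw [comp_pow, show μ[G0] ≫ i = (fst G0 G0 ≫ i) * (snd G0 G0 ≫ i) by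
        rw [h1]; exact map_mul (IsMonHom.monoidHom i (G0 ⊗ G0)) _ _, mul_pow, ← comp_pow, ← comp_pow,
        Hom.mul_def]
      congr 1
  have hpow : ∀ m (N : ℕ), i ^ (n ^ m * N) = ((𝟙 G0) ^ N) ≫ ψ m := fun m N => by
    show _ = ((𝟙 G0) ^ N) ≫ (i ^ n ^ m)
    rw [comp_pow, show ((𝟙 G0) ^ N) ≫ i = i ^ N by
      simpa using map_pow (IsMonHom.monoidHom i G0) (𝟙 G0) N, ← pow_mul, mul_comm]
  have hanti : ∀ m j, closure (Set.range (ψ (m + j)).left) ⊆ closure (Set.range (ψ m).left) := by
    intro m j
    refine closure_mono ?_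
    rintro _ ⟨y, rfl⟩
    have : ψ (m + j) = ((𝟙 G0) ^ (n ^ j)) ≫ ψ m := by
      rw [← hpow]
      show i ^ n ^ (m + j) = _
      rw [pow_add]
    rw [this, Groth.Agent.GrpSchField.comp_left_apply]
    exact ⟨_, rfl⟩
  have hsub : ∀ m, closure (Set.range (ψ m).left) ⊆ Set.range i.left := by
    intro m
    refine closure_minimal ?_ (hC ▸ isClosed_connectedComponent)
    rintro _ ⟨y, rfl⟩
    have : ψ m = ((𝟙 G0) ^ (n ^ m)) ≫ i := by
      show i ^ n ^ m = _
      exact (by simpa using map_pow (IsMonHom.monoidHom i G0) (𝟙 G0) (n ^ m) :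
        ((𝟙 G0) ^ (n ^ m)) ≫ i = i ^ n ^ m).symm
    rw [this, Groth.Agent.GrpSchField.comp_left_apply]
    exact ⟨_, rfl⟩
  let W : ℕ →o (TopologicalSpace.Closeds G0.left)ᵒᵈ :=
    ⟨fun m => OrderDual.toDual ⟨i.left ⁻¹' closure (Set.range (ψ m).left),
      isClosed_closure.preimage i.left.continuous⟩, fun a b hab => by
      obtain ⟨j, rfl⟩ := Nat.exists_eq_add_of_le hab
      exact fun x hx => hanti a j hx⟩
  obtain ⟨m, hm⟩ := wellFoundedGT_iff_monotone_chain_condition.mp inferInstance W
  have hstab : closure (Set.range (ψ m).left) = closure (Set.range (ψ (m + (m + 1))).left) := by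
    have h := congrArg (fun c : (TopologicalSpace.Closeds G0.left)ᵒᵈ =>
      i.left '' ((OrderDual.ofDual c : TopologicalSpace.Closeds G0.left) : Set G0.left))
      (hm (m + (m + 1)) (Nat.le_add_right _ _))
    replace h : i.left '' (i.left ⁻¹' closure (Set.range (ψ m).left)) =
        i.left '' (i.left ⁻¹' closure (Set.range (ψ (m + (m + 1))).left)) := h
    rwa [Set.image_preimage_eq_of_subset (hsub _), Set.image_preimage_eq_of_subset (hsub _)] at h
  obtain ⟨h0, hh0⟩ := hg
  replace hh0 : h0 ≫ i = g ^ n := hh0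
  have hmem : Groth.Agent.GrpSchField.ptOf (g ^ n ^ (m + 1)) ∈
      closure (Set.range (ψ (m + (m + 1))).left) := by
    rw [← hstab, pow_succ', pow_mul, ← hh0, ← comp_pow]
    exact subset_closure ⟨_, (Groth.Agent.GrpSchField.comp_left_apply h0 (ψ m) _).symm⟩
  have := hψ (m + (m + 1))
  obtain ⟨b, hb⟩ :=
    Groth.Agent.GrpSchField.exists_lift_of_mem_closure_range (ψ (m + (m + 1))) _ hmem
  have hb' : ((b ≫ i) ^ n ^ m) ^ n ^ (m + 1) = g ^ n ^ (m + 1) := by
    rw [← hb, ← pow_mul, ← pow_add, ← comp_pow]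
  refine ⟨g * ((b ≫ i) ^ n ^ m)⁻¹, ?_, ?_⟩
  · refine isOfFinOrder_iff_pow_eq_one.mpr ⟨n ^ (m + 1), pow_pos hn _, ?_⟩
    rw [mul_pow, inv_pow, hb', mul_inv_cancel]
  · rw [_root_.mul_inv_rev, _root_.inv_inv, inv_mul_cancel_right]
    exact (AutSch.ptsRange i).pow_mem ⟨b, rfl⟩ _

end Groth.Agent.S19889
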