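import Groth.Statements.S1989
import Groth.Agent.EtRamTower.Basic

set_option autoImplicit false
universe u
open EtAlg

namespace Groth.Agent.S1989

/-- Let K be the fraction field of a discrete valuation ring A, and K ⊂ L ⊂ M finite separable
extensions. If M is tamely ramified, respectively unramified, with respect to A, then so is L. -/
theorem result (A K : Type u) [CommRing A] [IsDomain A] [IsDiscreteValuationRing A] [Field K] [Algebra A K] [IsFractionRing A K] (L M : Type u) [Field L] [Field M]
    [Algebra K L] [Algebra K M] [Algebra L M] [IsScalarTower K L M] [FiniteDimensional K M] [Algebra.IsSeparable K M] :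
    (EtRam.IsTamelyRamified A ((algebraMap K M).comp (algebraMap A K)) →
      EtRam.IsTamelyRamified A ((algebraMap K L).comp (algebraMap A K))) ∧
    (EtRam.IsUnramifiedExt A ((algebraMap K M).comp (algebraMap A K)) →
      EtRam.IsUnramifiedExt A ((algebraMap K L).comp (algebraMap A K))) := by
  haveI : FiniteDimensional K L := FiniteDimensional.left K L M
  haveI : Algebra.IsSeparable K L := Algebra.isSeparable_tower_bot_of_isSeparable K L M
  have hg : (algebraMap K M).comp (algebraMap A K) =
      (algebraMap L M).comp ((algebraMap K L).comp (algebraMap A K)) := by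
    rw [IsScalarTower.algebraMap_eq K L M, RingHom.comp_assoc]
  constructor <;> intro hM V hV <;> obtain ⟨W, rfl, hW⟩ := Groth.Agent.EtRamTower.exists_over (algebraMap L M) hV <;>
    letI : Algebra A (W.comap (algebraMap L M)) := (RingHom.codRestrict _ _ hV.1).toAlgebra <;>
    letI : Algebra (W.comap (algebraMap L M)) W := (EtRam.inclOfComap W (algebraMap L M)).toAlgebra <;>
    rw [← hg] at hW <;>
    letI : Algebra A W := (RingHom.codRestrict _ _ hW.1).toAlgebra <;>
    haveI : IsScalarTower A (W.comap (algebraMap L M)) W := IsScalarTower.of_algebraMap_eq (fun a => Subtype.ext (RingHom.congr_fun hg a)) <;>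
    haveI : IsLocalHom (algebraMap A W) := Groth.Agent.EtRamTower.isLocalHom_codRestrict hW <;>
    haveI : IsLocalHom (algebraMap (W.comap (algebraMap L M)) W) := Groth.Agent.EtRamTower.isLocalHom_comap _ W <;>
    haveI hlV : IsLocalHom (algebraMap A (W.comap (algebraMap L M))) := Groth.Agent.EtRamTower.isLocalHom_codRestrict hV <;>
    haveI : IsDiscreteValuationRing (W.comap (algebraMap L M)) := Groth.Agent.EtRamTower.isDVR_of_dominates _ hV <;>
    haveI : IsDiscreteValuationRing W := Groth.Agent.EtRamTower.isDVR_of_dominates W hW <;>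
    obtain ⟨e, he⟩ := Groth.Agent.EtRamTower.exists_map_eq_pow (algebraMap A (W.comap (algebraMap L M)))
      (fun a b h => IsFractionRing.injective A K ((algebraMap K L).injective (congrArg Subtype.val h))) <;>
    obtain ⟨f, hf⟩ := Groth.Agent.EtRamTower.exists_map_eq_pow (algebraMap (W.comap (algebraMap L M)) W)
      (fun a b h => Subtype.ext ((algebraMap L M).injective (congrArg Subtype.val h))) <;>
    have hef : (IsLocalRing.maximalIdeal A).map (algebraMap A W) = IsLocalRing.maximalIdeal W ^ (f * e) := by
      rw [IsScalarTower.algebraMap_eq A (W.comap (algebraMap L M)) W, ← Ideal.map_map, he, Ideal.map_pow, hf, ← pow_mul]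
  · intro
    obtain ⟨hsep, htame⟩ := hM W hW
    refine ⟨Algebra.isSeparable_tower_bot_of_isSeparable _ _ (IsLocalRing.ResidueField W), fun p hp hc => ?_⟩
    have := htame p hp hc
    rw [Groth.Agent.EtRamTower.ramificationIdx_eq hef] at this
    rw [Groth.Agent.EtRamTower.ramificationIdx_eq he]
    exact fun hd => this (hd.mul_left f)
  · intro
    obtain ⟨hun, hsep⟩ := hM W hW
    refine ⟨?_, Algebra.isSeparable_tower_bot_of_isSeparable _ _ (IsLocalRing.ResidueField W)⟩
    have h1 : IsLocalRing.maximalIdeal W ^ (f * e) = IsLocalRing.maximalIdeal W ^ 1 := by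
      rw [← hef, pow_one]; exact hun
    have := Nat.eq_one_of_mul_eq_one_left (Groth.Agent.EtRamTower.pow_inj h1)
    rw [this, pow_one] at he
    exact he

end Groth.Agent.S1989
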