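import Groth.Statements.S19890
import Mathlib

set_option autoImplicit false
universe u
open CAlg

namespace Groth.Agent.S19890

/-- Let R → R' be a faithfully flat ring map between Noetherian integrally closed local domains. Then
unique factorization descends along this map: when R' is a UFD, so is R. (The first assertion of the
lemma, descent of principality for an ideal whose extension to R' is principal, is a separate
statement.) -/
theorem result
    (R R' : Type u) [CommRing R] [CommRing R'] [IsDomain R] [IsDomain R']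
    [IsNoetherianRing R] [IsNoetherianRing R'] [IsLocalRing R] [IsLocalRing R']
    [IsIntegrallyClosed R] [IsIntegrallyClosed R']
    [Algebra R R'] [Module.FaithfullyFlat R R'] [UniqueFactorizationMonoid R'] :
    UniqueFactorizationMonoid R := by
  haveI hflat : Module.Flat R R' := inferInstance
  refine { (inferInstance : WfDvdMonoid R) with irreducible_iff_prime := fun {p} => ⟨fun hp => ?_, Prime.irreducible⟩ }
  refine ⟨hp.ne_zero, hp.not_isUnit, fun a b hab => ?_⟩
  rcases eq_or_ne a 0 with rfl | ha
  · exact Or.inl (dvd_zero p)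
  classical
  letI := UniqueFactorizationMonoid.toGCDMonoid R'
  let I : Ideal R := Ideal.span {p} ⊓ Ideal.span {a}
  let g := lcm (algebraMap R R' p) (algebraMap R R' a)
  have hIg : I.map (algebraMap R R') = Ideal.span {g} := by
    refine le_antisymm ?_ ?_
    · rw [Ideal.map_le_iff_le_comap]
      rintro x ⟨hx1, hx2⟩
      rw [Ideal.mem_comap, Ideal.mem_span_singleton]
      exact lcm_dvd_iff.mpr ⟨map_dvd _ (Ideal.mem_span_singleton.mp hx1), map_dvd _ (Ideal.mem_span_singleton.mp hx2)⟩
    · rw [Ideal.span_singleton_le_iff_mem]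
      obtain ⟨u, hu⟩ := dvd_lcm_left (algebraMap R R' p) (algebraMap R R' a)
      obtain ⟨v, hv⟩ := dvd_lcm_right (algebraMap R R' p) (algebraMap R R' a)
      have hrel : ∑ i, ![p, -a] i • ![u, v] i = 0 := by
        simp [Algebra.smul_def, ← hu, ← hv]
      obtain ⟨k, B, y, hy, hB⟩ := Module.Flat.isTrivialRelation_of_sum_smul_eq_zero (R := R) (M := R') (f := ![p, -a]) (x := ![u, v]) hrel
      have hy0 : u = ∑ j, B 0 j • y j := hy 0
      show g ∈ _
      rw [show g = algebraMap R R' p * u from hu, hy0, Finset.mul_sum]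
      refine sum_mem fun j _ => ?_
      rw [Algebra.smul_def, ← mul_assoc, ← map_mul]
      refine Ideal.mul_mem_right _ _ (Ideal.mem_map_of_mem _ ⟨Ideal.mem_span_singleton.mpr (dvd_mul_right _ _), ?_⟩)
      have h2 := hB j
      simp [Fin.sum_univ_two] at h2
      exact Ideal.mem_span_singleton.mpr ⟨B 1 j, by linear_combination h2⟩
  obtain ⟨c, hcI, hIc⟩ : ∃ c ∈ I, I = Ideal.span {c} := by
    obtain ⟨t, ht⟩ := IsNoetherian.noetherian I
    have hg : g ∈ Ideal.span ((t.image (algebraMap R R') : Finset R') : Set R') := by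
      rw [Finset.coe_image, ← Ideal.map_span, show Ideal.span (t : Set R) = I from ht, hIg]
      exact Ideal.mem_span_singleton_self g
    have hg0 : g ≠ 0 := by
      have hinj := FaithfulSMul.algebraMap_injective R R'
      intro h
      rw [lcm_eq_zero_iff] at h
      exact h.elim (fun h => hp.ne_zero (hinj (h.trans (map_zero _).symm))) (fun h => ha (hinj (h.trans (map_zero _).symm)))
    have hex : ∃ x ∈ t, ∃ s : R', IsUnit s ∧ algebraMap R R' x = g * s := by
      by_contra hno
      push Not at hno
      have hle : Ideal.span ((t.image (algebraMap R R') : Finset R') : Set R') ≤ IsLocalRing.maximalIdeal R' * Ideal.span {g} := by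
        rw [Ideal.span_le]
        rintro _ hy
        obtain ⟨x, hx, rfl⟩ := Finset.mem_image.mp hy
        obtain ⟨s, hs⟩ : g ∣ algebraMap R R' x := Ideal.mem_span_singleton.mp
          (hIg.le (Ideal.mem_map_of_mem _ (ht.le (Submodule.subset_span hx))))
        rw [SetLike.mem_coe, hs, mul_comm g s]
        exact Ideal.mul_mem_mul ((IsLocalRing.mem_maximalIdeal s).mpr fun h => hno x hx s h hs) (Ideal.mem_span_singleton_self g)
      obtain ⟨m, hm, hmg⟩ := Ideal.mem_mul_span_singleton.mp (hle hg)
      exact (IsLocalRing.mem_maximalIdeal m).mp hm (by rw [(mul_eq_right₀ hg0).mp hmg]; exact isUnit_one)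
    obtain ⟨x, hx, s, hs, hxs⟩ := hex
    refine ⟨x, ht.le (Submodule.subset_span hx), ?_⟩
    rw [← Ideal.comap_map_eq_self_of_faithfullyFlat (B := R') I,
      ← Ideal.comap_map_eq_self_of_faithfullyFlat (B := R') (Ideal.span {x}), hIg, Ideal.map_span, Set.image_singleton,
      hxs, Ideal.span_singleton_mul_right_unit hs]
  obtain ⟨y, hy⟩ := Ideal.mem_span_singleton.mp hcI.1
  obtain ⟨x, hx⟩ := Ideal.mem_span_singleton.mp hcI.2
  have hpa : p * a ∈ I := ⟨Ideal.mem_span_singleton.mpr (dvd_mul_right _ _), Ideal.mem_span_singleton.mpr (dvd_mul_left _ _)⟩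
  obtain ⟨t, ht⟩ := Ideal.mem_span_singleton.mp (hIc.le hpa)
  have hpxt : p = x * t := mul_left_cancel₀ ha (by rw [mul_comm a p, ht, hx]; ring)
  rcases hp.isUnit_or_isUnit hpxt with hu | hu
  · refine Or.inl ((Dvd.intro y hy.symm).trans ?_)
    rw [hx]
    exact (associated_mul_unit_left a x hu).dvd
  · refine Or.inr ?_
    have h3 : a * b ∈ I := ⟨Ideal.mem_span_singleton.mpr hab, Ideal.mem_span_singleton.mpr (dvd_mul_right _ _)⟩
    obtain ⟨w, hw⟩ := Ideal.mem_span_singleton.mp (hIc.le h3)
    obtain ⟨t, rfl⟩ := hu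
    refine ⟨w * ↑t⁻¹, mul_left_cancel₀ ha ?_⟩
    rw [hw, hx, hpxt]
    rw [show a * (x * ↑t * (w * ↑t⁻¹)) = a * x * w * (↑t * ↑t⁻¹) by ring, Units.mul_inv, mul_one]

end Groth.Agent.S19890
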