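import Mathlib
import Groth.Statements.S9495
-- import your own Groth.Agent.* helpers here

set_option autoImplicit false
universe u
open SchMor

namespace Groth.Agent.S9495

open AlgebraicGeometry CategoryTheory in
theorem Y_closed {X S : Scheme.{u}} (f : X ⟶ S) (𝒰 : S.OpenCover) :
    IsClosed (Set.range f) ↔ ∀ i, IsClosed (𝒰.f i ⁻¹' Set.range f) := by
  refine ⟨fun h i => h.preimage (𝒰.f i).continuous, fun h => ?_⟩
  rw [← isOpen_compl_iff, isOpen_iff_forall_mem_open]
  intro x hx
  obtain ⟨i, y, rfl⟩ := 𝒰.exists_eq x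
  refine ⟨𝒰.f i '' (𝒰.f i ⁻¹' Set.range f)ᶜ, ?_, (𝒰.f i).isOpenEmbedding.isOpenMap _ (h i).isOpen_compl, ⟨y, hx, rfl⟩⟩
  rintro _ ⟨z, hz, rfl⟩
  exact hz

open AlgebraicGeometry CategoryTheory in
theorem affine_case {X : Scheme.{u}} {R : CommRingCat.{u}} (f : X ⟶ Spec R) [QuasiCompact f]
    (H : StableUnderSpecialization (Set.range f)) : IsClosed (Set.range f) := by
  obtain ⟨A, g, hg⟩ := compactSpace_iff_exists.mp (QuasiCompact.compactSpace_of_compactSpace f)
  obtain ⟨φ, hφ⟩ := Spec.homEquiv.symm.surjective (g ≫ f)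
  have hr : Set.range f = PrimeSpectrum.comap φ.hom '' Set.univ := by
    rw [Set.image_univ, ← hg.range_comp f]
    show Set.range (g ≫ f) = _
    rw [← hφ]; rfl
  rw [hr] at H ⊢
  exact PrimeSpectrum.isClosed_image_of_stableUnderSpecialization φ.hom _ isClosed_univ H

open AlgebraicGeometry in
open CategoryTheory in
/-- For a quasi-compact morphism of schemes f : X → S, the image f(X) is closed in S if and only if it
is stable under specialization. -/
theorem result
    {X S : Scheme.{u}} (f : X ⟶ S) [QuasiCompact f] :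
    IsClosed (Set.range f) ↔ StableUnderSpecialization (Set.range f) := by
  refine ⟨fun h => h.stableUnderSpecialization, fun H => ?_⟩
  rw [Y_closed f S.affineCover]
  intro i
  rw [← Scheme.Pullback.range_snd]
  have : QuasiCompact (Limits.pullback.snd f (S.affineCover.f i)) := instQuasiCompactSndScheme f (S.affineCover.f i)
  refine @affine_case _ _ (Limits.pullback.snd f (S.affineCover.f i)) this ?_
  erw [Scheme.Pullback.range_snd]
  exact fun a b hab ha => H (hab.map (S.affineCover.f i).continuous) ha

end Groth.Agent.S9495
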