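import Groth.Statements.S19891
import Groth.Agent.ImmDescent.Basic
import Groth.Agent.S9495
-- import your own Groth.Agent.* helpers here

set_option autoImplicit false
universe u
open CategoryTheory AlgebraicGeometry
open ValCrit

namespace Groth.Agent.S19891

/-- Let h : Z → Y and f : Y → X be morphisms of quasi-compact quasi-separated schemes, with h dominant.
Then f is separated if and only if the following refined uniqueness criterion holds: for every point
z of Z, every valuation ring R of the residue field κ(z) and every morphism φ : Spec R → X whose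
restriction to Spec κ(z) is the canonical morphism Spec κ(z) → Z → Y → X, any two morphisms Spec R →
Y lying over φ and restricting to Spec κ(z) → Z → Y on the generic point coincide. (The published
statement does not require h to be dominant; its proof uses that every point of Y generalises to a
point of h(Z), and for Z empty the criterion holds whatever f is, so dominance of h is assumed
here.) -/
theorem result {X Y Z : Scheme.{u}} (h : Z ⟶ Y) (f : Y ⟶ X)
    [CompactSpace ↥Z] [QuasiSeparatedSpace ↥Z] [CompactSpace ↥Y] [QuasiSeparatedSpace ↥Y]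
    [CompactSpace ↥X] [QuasiSeparatedSpace ↥X] (hd : DenseRange h.base) :
    IsSeparated f ↔
      ∀ (z : ↥Z) (R : ValuationSubring ↑(Z.residueField z)) (φ : Spec (CommRingCat.of ↥R) ⟶ X),
        Spec.map (CommRingCat.ofHom R.subtype) ≫ φ = Z.fromSpecResidueField z ≫ h ≫ f →
        ∀ φ₁ φ₂ : Spec (CommRingCat.of ↥R) ⟶ Y,
          Spec.map (CommRingCat.ofHom R.subtype) ≫ φ₁ = Z.fromSpecResidueField z ≫ h → φ₁ ≫ f = φ →
          Spec.map (CommRingCat.ofHom R.subtype) ≫ φ₂ = Z.fromSpecResidueField z ≫ h → φ₂ ≫ f = φ →
          φ₁ = φ₂ := by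
  constructor
  · intro _ z R φ _ φ₁ φ₂ h₁ h₁' h₂ h₂'
    have w : CommSq (Z.fromSpecResidueField z ≫ h)
        (Spec.map (CommRingCat.ofHom (algebraMap R (Z.residueField z)))) f φ :=
      ⟨by rw [← h₁', ← Category.assoc]; exact congrArg (· ≫ f) h₁.symm⟩
    haveI : Subsingleton w.LiftStruct :=
      (IsSeparated.valuativeCriterion f) { R := R, K := Z.residueField z, commSq := w, .. }
    exact congrArg CommSq.LiftStruct.l
      (Subsingleton.elim (α := w.LiftStruct) ⟨φ₁, h₁, h₁'⟩ ⟨φ₂, h₂, h₂'⟩)
  · intro H
    refine ⟨?_⟩
    have hcl : IsClosed (Set.range (Limits.pullback.diagonal f)) := by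
      refine (Groth.Agent.S9495.result _).2 ?_
      rintro _ w hspec ⟨y, rfl⟩
      obtain ⟨z, hz⟩ := Groth.Agent.ImmDescent.exists_specializes_of_mem_closure_range h (hd y)
      let g := h ≫ Limits.pullback.diagonal f
      have hzw : g z ⤳ w := (hz.map (Limits.pullback.diagonal f).continuous).trans hspec
      let P := Limits.pullback f f
      let toRes : P.presheaf.stalk w ⟶ Z.residueField z :=
        P.presheaf.stalkSpecializes hzw ≫ g.stalkMap z ≫ Z.residue z
      obtain ⟨A, hA, hA_local⟩ := IsLocalRing.exists_factor_valuationRing toRes.hom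
      let toA : P.presheaf.stalk w ⟶ .of A := CommRingCat.ofHom (toRes.hom.codRestrict _ hA)
      let ψ := Spec.map toA ≫ P.fromSpecStalk w
      have hψ : Spec.map (CommRingCat.ofHom A.subtype) ≫ ψ = Z.fromSpecResidueField z ≫ g := by
        rw [Scheme.fromSpecResidueField, Category.assoc, ← Scheme.SpecMap_stalkMap_fromSpecStalk,
          ← Scheme.SpecMap_stalkSpecializes_fromSpecStalk hzw]
        simp_rw [ψ, ← Spec.map_comp_assoc]
        rfl
      have e₁ : Spec.map (CommRingCat.ofHom A.subtype) ≫ ψ ≫ Limits.pullback.fst f f =
          Z.fromSpecResidueField z ≫ h := by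
        rw [reassoc_of% hψ]
        simp [g]
      have e₂ : Spec.map (CommRingCat.ofHom A.subtype) ≫ ψ ≫ Limits.pullback.snd f f =
          Z.fromSpecResidueField z ≫ h := by
        rw [reassoc_of% hψ]
        simp [g]
      have key := H z A (ψ ≫ Limits.pullback.fst f f ≫ f)
        (by simpa only [Category.assoc] using congrArg (· ≫ f) e₁)
        _ _ e₁ (by simp only [Category.assoc]) e₂
        (by simp only [Category.assoc, Limits.pullback.condition])
      have hψ' : ψ = (ψ ≫ Limits.pullback.fst f f) ≫ Limits.pullback.diagonal f := by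
        refine Limits.pullback.hom_ext ?_ ?_
        · simp
        · simpa using key.symm
      refine ⟨(ψ ≫ Limits.pullback.fst f f) (IsLocalRing.closedPoint A), ?_⟩
      rw [← Scheme.Hom.comp_apply, ← hψ']
      have hc : Spec.map toA (IsLocalRing.closedPoint A) =
          IsLocalRing.closedPoint (P.presheaf.stalk w) :=
        IsLocalRing.comap_closedPoint (S := A) (toRes.hom.codRestrict A.toSubring hA)
      simp only [ψ, Scheme.Hom.comp_base, TopCat.coe_comp, Function.comp_apply]
      rw [hc, Scheme.fromSpecStalk_closedPoint]
    exact .of_isPreimmersion _ hcl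

end Groth.Agent.S19891
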