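import Groth.Statements.S19892
import Groth.Agent.UnivClosed.Dense
-- import your own Groth.Agent.* helpers here

set_option autoImplicit false
universe u
open CategoryTheory AlgebraicGeometry
open ValCrit

namespace Groth.Agent.S19892

/-- Let h : Z → Y and f : Y → X be morphisms of quasi-compact quasi-separated schemes, with h dominant
and f locally of finite type. Then f is proper if and only if the following refined valuative
criterion holds: for every point z of Z, every valuation ring R of the residue field κ(z) and every
morphism φ : Spec R → X whose restriction to Spec κ(z) is the canonical morphism Spec κ(z) → Z → Y →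
X, there is exactly one morphism Spec R → Y lying over φ and restricting to Spec κ(z) → Z → Y on the
generic point. (The published statement does not require h to be dominant; its proof uses that every
point of Y generalises to a point of h(Z), and for Z empty the criterion holds whatever f is, so
dominance of h is assumed here.) -/
theorem result {X Y Z : Scheme.{u}} (h : Z ⟶ Y) (f : Y ⟶ X)
    [CompactSpace ↥Z] [QuasiSeparatedSpace ↥Z] [CompactSpace ↥Y] [QuasiSeparatedSpace ↥Y]
    [CompactSpace ↥X] [QuasiSeparatedSpace ↥X] (hd : DenseRange h.base)
    [LocallyOfFiniteType f] :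
    IsProper f ↔
      ∀ (z : ↥Z) (R : ValuationSubring ↑(Z.residueField z)) (φ : Spec (CommRingCat.of ↥R) ⟶ X),
        Spec.map (CommRingCat.ofHom R.subtype) ≫ φ = Z.fromSpecResidueField z ≫ h ≫ f →
        ∃! φ' : Spec (CommRingCat.of ↥R) ⟶ Y,
          Spec.map (CommRingCat.ofHom R.subtype) ≫ φ' = Z.fromSpecResidueField z ≫ h ∧ φ' ≫ f = φ := by
  haveI : QuasiCompact h := quasiCompact_of_compactSpace h
  haveI : QuasiCompact f := quasiCompact_of_compactSpace f
  haveI : QuasiSeparated f := inferInstance
  constructor
  · intro _ z R φ hφ
    have w : CommSq (Z.fromSpecResidueField z ≫ h)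
        (Spec.map (CommRingCat.ofHom (algebraMap R (Z.residueField z)))) f φ :=
      ⟨by rw [Category.assoc]; exact hφ.symm⟩
    let S : ValuativeCommSq f := { R := R, K := Z.residueField z, commSq := w, .. }
    haveI : Subsingleton w.LiftStruct := (IsSeparated.valuativeCriterion f) S
    have hex : ValuativeCriterion.Existence f := by
      have h' : UniversallyClosed f := inferInstance
      rw [UniversallyClosed.eq_valuativeCriterion] at h'
      exact h'.1
    haveI : w.HasLift := hex S
    refine ⟨w.lift, ⟨w.fac_left, w.fac_right⟩, ?_⟩
    rintro φ' ⟨h₁, h₂⟩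
    exact congrArg CommSq.LiftStruct.l
      (Subsingleton.elim (α := w.LiftStruct) ⟨φ', h₁, h₂⟩ ⟨w.lift, w.fac_left, w.fac_right⟩)
  · intro H
    have H' : Groth.Agent.UnivClosed.HasDenseLift f h := by
      intro z R y hy
      obtain ⟨l, ⟨h₁, h₂⟩, hu⟩ := H z R y (by rw [hy, Category.assoc])
      exact ⟨l, ⟨h₂, h₁⟩, fun l' hl' => hu l' ⟨hl'.2, hl'.1⟩⟩
    haveI := Groth.Agent.UnivClosed.isSeparated_of_dense f h hd H'
    haveI := Groth.Agent.UnivClosed.universallyClosed_of_dense f h hd H'
    exact { }

end Groth.Agent.S19892
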