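import Groth.Statements.S19895
import Groth.Agent.Verlinde.Schur

set_option autoImplicit false
open Complex
open VerlindeComb

namespace Groth.Agent.S19895

/-- Fix integers r ≥ 2 and k ≥ 1, and two partitions λ, λ' with k ≥ λ_1 ≥ ⋯ ≥ λ_{r-1} ≥ λ_r = 0 and k ≥
λ'_1 ≥ ⋯ ≥ λ'_{r-1} ≥ λ'_r = 0 such that λ is not equivalent to the dual partition λ'* = (k − λ'_r,
…, k − λ'_1), two integer vectors being equivalent when their difference is a constant vector (a, …,
a). For an integer vector v with r + k > v_1 > ⋯ > v_{r-1} > v_r = 0 put z(v)_j = exp(2πi v_j / (r +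
k)), let S_μ(v) = det(z(v)_j^{μ_i + r − i}) / det(z(v)_j^{r − i}) be the Schur value and P(v) =
∏_{i<j} (2 sin(π (v_i − v_j)/(r + k)))². Then the sum over all such v of exp(−2πi (|λ| + |λ'|) (v_1
+ ⋯ + v_r) / (r (r + k))) · S_λ(v) · S_{λ'}(v) · P(v) vanishes; that is, the genus-zero Verlinde
number of rank r, degree 0 and level k with two parabolic points of types λ, λ' is zero. (Only the
vanishing case is stated; the complementary case, where the number equals 1, is not part of this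
statement. The source allows r = 1, where the non-equivalence hypothesis cannot hold.) Indices are
0-based below: lam i stands for λ_{i+1}. -/
theorem result (r k : ℕ) (hr : 2 ≤ r)
    (hk : 1 ≤ k) (lam lam' : Fin r → ℕ) (hlam : Antitone lam) (hlamk : ∀ i, lam i ≤ k)
    (hlam0 : ∀ i : Fin r, (i : ℕ) = r - 1 → lam i = 0)
    (hlam' : Antitone lam') (hlam'k : ∀ i, lam' i ≤ k) (hlam'0 : ∀ i : Fin r, (i : ℕ) = r - 1 → lam' i = 0)
    (hne : ¬ ∃ a : ℤ, ∀ i, (lam i : ℤ) - ((k - lam' (Fin.rev i) : ℕ) : ℤ) = a)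
    (z : (Fin r → ℕ) → Fin r → ℂ)
    (hz : ∀ v j, z v j = Complex.exp (2 * Real.pi * Complex.I * (v j : ℂ) / ((r : ℂ) + k)))
    (S : (Fin r → ℕ) → (Fin r → ℕ) → ℂ)
    (hS : ∀ μ v, S μ v = (Matrix.of fun i j : Fin r => z v j ^ (μ i + (r - 1 - (i : ℕ)))).det /
        (Matrix.of fun i j : Fin r => z v j ^ (r - 1 - (i : ℕ))).det)
    (P : (Fin r → ℕ) → ℝ)
    (hP : ∀ v, P v = ∏ p ∈ (Finset.univ : Finset (Fin r × Fin r)).filter (fun p => p.1 < p.2),
        ((2 : ℝ) * Real.sin (Real.pi * ((v p.1 : ℝ) - (v p.2 : ℝ)) / ((r : ℝ) + k))) ^ 2) :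
    (∑ v ∈ (Finset.univ : Finset (Fin r → Fin (r + k))).filter
        (fun v : Fin r → Fin (r + k) => StrictAnti v ∧ ∀ i : Fin r, (i : ℕ) = r - 1 → (v i : ℕ) = 0),
      Complex.exp (-(2 * Real.pi * Complex.I * (((∑ i, lam i) + (∑ i, lam' i) : ℕ) : ℂ) *
          ((∑ j, (v j : ℕ) : ℕ) : ℂ) / ((r : ℂ) * ((r : ℂ) + k)))) *
        S lam (fun j => (v j : ℕ)) * S lam' (fun j => (v j : ℕ)) * (P (fun j => (v j : ℕ)) : ℂ)) = 0 := by
  obtain ⟨p, rfl⟩ : ∃ p, r = p + 2 := ⟨r - 2, by omega⟩
  have : NeZero (p + 2 + k) := ⟨by omega⟩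
  set n := p + 2 + k with hn
  have hnc : ((p + 2 : ℕ) : ℂ) + k = (n : ℂ) := by rw [hn]; push_cast; ring
  let aN : Fin (p + 2) → ℕ := fun i => lam i + (p + 2 - 1 - (i : ℕ))
  let bN : Fin (p + 2) → ℕ := fun i => lam' i + (p + 2 - 1 - (i : ℕ))
  let a : Fin (p + 2) → ZMod n := fun i => (aN i : ZMod n)
  let b : Fin (p + 2) → ZMod n := fun i => (bN i : ZMod n)
  set Q := (∑ i, lam i) + ∑ i, lam' i with hQ
  set A := Q + (p + 2) * (p + 1) with hA
  have hAsum : ∑ i, aN i + ∑ i, bN i = A := by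
    have hrev : ∑ i : Fin (p + 2), (p + 2 - 1 - (i : ℕ)) + ∑ i : Fin (p + 2), (p + 2 - 1 - (i : ℕ))
        = (p + 2) * (p + 1) := by
      conv_lhs =>
        arg 2
        rw [← Equiv.sum_comp Fin.revPerm]
      rw [← Finset.sum_add_distrib, Finset.sum_congr rfl (g := fun _ => p + 1) fun i _ => ?_]
      · simp
      · have := i.isLt
        simp only [Fin.revPerm_apply, Fin.val_rev]
        omega
    simp only [aN, bN, Finset.sum_add_distrib, hA, hQ]
    omega
  have hAz : ∑ i, a i + ∑ i, b i = (A : ZMod n) := by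
    rw [← hAsum]; push_cast; rfl
  have hSv : ∀ (μ : Fin (p + 2) → ℕ) (v : Fin (p + 2) → Fin n), S μ (fun j => (v j : ℕ)) =
      Verlinde.D (fun i => ((μ i + (p + 2 - 1 - (i : ℕ)) : ℕ) : ZMod n)) (Verlinde.cls v) /
        Verlinde.D (Verlinde.del n (p + 2)) (Verlinde.cls v) := by
    intro μ v
    have hzv : ∀ j, z (fun j => (v j : ℕ)) j = ZMod.stdAddChar (Verlinde.cls v j) := fun j => by
      rw [hz, Verlinde.cls_apply, Verlinde.char_natCast, hnc]
    rw [hS]
    simp only [hzv]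
    rw [Verlinde.D_pow, Verlinde.D_pow]
    rfl
  have hterm : ∀ v ∈ Verlinde.idx n (p + 2),
      Complex.exp (-(2 * Real.pi * Complex.I * ((Q : ℕ) : ℂ) *
          ((∑ j, (v j : ℕ) : ℕ) : ℂ) / (((p + 2 : ℕ) : ℂ) * (((p + 2 : ℕ) : ℂ) + k)))) *
        S lam (fun j => (v j : ℕ)) * S lam' (fun j => (v j : ℕ)) * (P (fun j => (v j : ℕ)) : ℂ) =
      ((Equiv.Perm.sign (Fin.revPerm : Equiv.Perm (Fin (p + 2))) : ℤ) : ℂ) *
        Verlinde.tw A a b v := by
    intro v hv
    have hD := Verlinde.D_del_ne_zero (n := n) (Verlinde.mem_idx.1 hv).1.injective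
    have hPv : (P (fun j => (v j : ℕ)) : ℂ) = Verlinde.D (Verlinde.del n (p + 2)) (Verlinde.cls v) *
        Verlinde.D (-Verlinde.del n (p + 2)) (Verlinde.cls v) := by
      have h := Verlinde.sin_prod (n := n) (fun j => (v j : ℕ))
      rw [hP]
      have hr' : ((p + 2 : ℕ) : ℝ) + k = (n : ℝ) := by rw [hn]; push_cast; ring
      rw [hr', h]
      rfl
    rw [hSv, hSv, hPv, Verlinde.D_neg_del, hnc]
    have hch : Complex.exp (-(2 * Real.pi * Complex.I * ((Q : ℕ) : ℂ) *
          ((∑ j, (v j : ℕ) : ℕ) : ℂ) / (((p + 2 : ℕ) : ℂ) * (n : ℂ)))) *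
        ZMod.stdAddChar (-((p + 2 - 1 : ℕ) : ZMod n) * ∑ j, Verlinde.cls v j) =
        Complex.exp (-(2 * Real.pi * Complex.I * (A : ℂ) *
          ((∑ j, (v j : ℕ) : ℕ) : ℂ) / (((p + 2 : ℕ) : ℂ) * (n : ℂ)))) := by
      have : ∑ j, Verlinde.cls v j = (((∑ j, (v j : ℕ)) : ℕ) : ZMod n) := by
        push_cast; rfl
      rw [this, neg_mul, ← Nat.cast_mul (α := ZMod n), AddChar.map_neg_eq_inv, Verlinde.char_natCast,
        ← Complex.exp_neg, ← Complex.exp_add, show p + 2 - 1 = p + 1 from rfl, hA]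
      congr 1
      have h1 : (n : ℂ) ≠ 0 := Nat.cast_ne_zero.2 (NeZero.ne n)
      have h2 : ((p + 2 : ℕ) : ℂ) ≠ 0 := Nat.cast_ne_zero.2 (by omega)
      field_simp
      push_cast
      ring
    rw [Verlinde.tw, ← hch]
    field_simp
    simp only [a, b, aN, bN]
    ring
  show (∑ v ∈ Verlinde.idx n (p + 2), _) = 0
  rw [Finset.sum_congr rfl hterm, ← Finset.mul_sum]
  refine mul_eq_zero_of_right _ ?_
  by_cases hdvd : (p + 2) ∣ A
  swap
  · exact Verlinde.sum_tw_eq_zero A a b hAz hdvd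
  obtain ⟨m, hm⟩ := hdvd
  have htw : ∀ v ∈ Verlinde.idx n (p + 2),
      Verlinde.tw A a b v = Verlinde.G a b (m : ZMod n) (Verlinde.cls v) := by
    intro v _
    have : ∑ j, Verlinde.cls v j = (((∑ j, (v j : ℕ)) : ℕ) : ZMod n) := by
      push_cast; rfl
    rw [Verlinde.tw, Verlinde.G, this, neg_mul, ← Nat.cast_mul (α := ZMod n), AddChar.map_neg_eq_inv,
      Verlinde.char_natCast, ← Complex.exp_neg, hm]
    congr 3
    have h2 : ((p + 2 : ℕ) : ℂ) ≠ 0 := Nat.cast_ne_zero.2 (by omega)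
    push_cast
    push_cast at h2
    field_simp
  rw [Finset.sum_congr rfl htw]
  have hzero : ∑ w : Fin (p + 2) → ZMod n, Verlinde.G a b (m : ZMod n) w = 0 := by
    refine Verlinde.sum_G_eq_zero a b _ fun π => ?_
    by_contra hall
    push Not at hall
    have he : ∀ i, ∃ e : ℤ, (aN i : ℤ) + (bN (π i) : ℤ) = m + n * e := by
      intro i
      have h := hall i
      have h' : (((aN i : ℤ) + (bN (π i) : ℤ) - (m : ℤ) : ℤ) : ZMod n) = 0 := by
        push_cast
        exact sub_eq_zero.2 h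
      obtain ⟨e, he⟩ := (ZMod.intCast_zmod_eq_zero_iff_dvd _ _).1 h'
      exact ⟨e, by linear_combination he⟩
    choose e he using he
    have hbnd : ∀ i, aN i < n ∧ bN i < n := fun i => by
      have := hlamk i
      have := hlam'k i
      simp only [aN, bN, hn]
      omega
    have hadj : ∀ i j, e i ≤ e j + 1 := by
      intro i j
      have h1 := (hbnd i).1
      have h2 := (hbnd (π i)).2
      have h3 := he i
      have h4 := he j
      by_contra hc
      push Not at hc
      have : (n : ℤ) * 2 ≤ (n : ℤ) * (e i - e j) :=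
        mul_le_mul_of_nonneg_left (by omega) (Int.natCast_nonneg n)
      have h5 : (n : ℤ) * (e i - e j) = ((aN i : ℤ) + bN (π i)) - ((aN j : ℤ) + bN (π j)) := by
        linear_combination h4 - h3
      omega
    have hesum : (n : ℤ) * ∑ i, e i = 0 := by
      have h1 : ∑ i, ((aN i : ℤ) + (bN (π i) : ℤ)) = (A : ℤ) := by
        rw [Finset.sum_add_distrib, Equiv.sum_comp π (fun i => (bN i : ℤ)), ← hAsum]
        push_cast; rfl
      rw [Finset.sum_congr rfl fun i _ => he i, Finset.sum_add_distrib, ← Finset.mul_sum, hm] at h1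
      simp at h1
      rcases h1 with h1 | h1
      · exact absurd h1 (NeZero.ne n)
      · rw [h1, mul_zero]
    have hes : ∑ i, e i = 0 :=
      (mul_eq_zero.1 hesum).resolve_left (by exact_mod_cast NeZero.ne n)
    have he0 : ∀ i, e i = 0 := by
      intro i
      by_contra hne'
      rcases lt_or_gt_of_ne hne' with hlt | hgt
      · have : ∑ j, e j < ∑ _j : Fin (p + 2), (0 : ℤ) :=
          Finset.sum_lt_sum (fun j _ => by have := hadj j i; omega) ⟨i, Finset.mem_univ i, hlt⟩
        simp [hes] at this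
      · have : ∑ _j : Fin (p + 2), (0 : ℤ) < ∑ j, e j :=
          Finset.sum_lt_sum (fun j _ => by have := hadj i j; omega) ⟨i, Finset.mem_univ i, hgt⟩
        simp [hes] at this
    have heq : ∀ i, aN i + bN (π i) = m := fun i => by
      have := he i
      rw [he0 i] at this
      simp at this
      omega
    have hanti : StrictAnti π := by
      intro i j hij
      have h1 := heq i
      have h2 := heq j
      have h3 := hlam hij.le
      by_contra hc
      push Not at hc
      have h4 := hlam' hc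
      simp only [aN, bN] at h1 h2
      rw [Fin.le_def] at hc
      rw [Fin.lt_def] at hij
      have := (π i).isLt
      have := j.isLt
      omega
    have hπ : ∀ i, π i = i.rev := by
      have hmono : StrictMono (π ∘ Fin.rev) := fun i j hij => hanti (Fin.rev_lt_rev.2 hij)
      have := (StrictMono.range_inj hmono strictMono_id).1 (by
        rw [Set.range_id, Fin.rev_surjective.range_comp, π.surjective.range_eq])
      intro i
      simpa using congrFun this i.rev
    refine hne ⟨(m : ℤ) - (p + 1) - k, fun i => ?_⟩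
    have h1 := heq i
    rw [hπ] at h1
    have := hlam'k i.rev
    have := i.isLt
    simp only [aN, bN, Fin.val_rev] at h1
    omega
  have hsum := Verlinde.r_mul_sum_G (n := n) (r := p + 2) (by omega) a b (m := (m : ZMod n))
    (by rw [hAz, hm, Nat.cast_mul])
  rw [hzero, mul_zero, zero_eq_mul] at hsum
  exact hsum.resolve_left (mul_ne_zero (Nat.cast_ne_zero.2 (NeZero.ne n))
    (Nat.cast_ne_zero.2 (Nat.factorial_ne_zero _)))

end Groth.Agent.S19895
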