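import Groth.Statements.S19898
-- import your own Groth.Agent.* helpers here

set_option autoImplicit false
universe u
open scoped TensorProduct
open SymTen

namespace Groth.Agent.S19898

section Aux

variable {R : Type u} [CommRing R] {B : Type u} [CommRing B] [Algebra R B] {d : ℕ}
  (b : Module.Basis (Fin d) R B)

theorem tpowAct_tprod (a p : Fin d → B) :
    SymTen.tpowAct R B B d (PiTensorProduct.tprod R a) (PiTensorProduct.tprod R p) =
      PiTensorProduct.tprod R (fun i => a i * p i) := by
  simp [SymTen.tpowAct, MultilinearMap.compLinearMap_apply, PiTensorProduct.map_tprod]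

theorem tpowAct_mul (t u z : ⨂[R] _ : Fin d, B) :
    SymTen.tpowAct R B B d (t * u) z = SymTen.tpowAct R B B d t (SymTen.tpowAct R B B d u z) := by
  induction t using PiTensorProduct.induction_on with
  | add x y hx hy => simp [add_mul, hx, hy]
  | smul_tprod r a =>
    induction u using PiTensorProduct.induction_on with
    | add x y hx hy => simp only [mul_add, map_add, LinearMap.add_apply, hx, hy]
    | smul_tprod s a' =>
      induction z using PiTensorProduct.induction_on with
      | add x y hx hy => simp only [map_add, hx, hy]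
      | smul_tprod q p =>
        simp only [smul_mul_assoc, mul_smul_comm, map_smul, LinearMap.smul_apply,
          PiTensorProduct.tprod_mul_tprod, tpowAct_tprod, smul_smul]
        congr 1
        · ring
        · congr 1
          funext i
          simp [mul_assoc]

theorem tpowAct_one (z : ⨂[R] _ : Fin d, B) :
    SymTen.tpowAct R B B d (1 : ⨂[R] _ : Fin d, B) z = z := by
  induction z using PiTensorProduct.induction_on with
  | add x y hx hy => simp only [map_add, hx, hy]
  | smul_tprod q p =>
    simp only [PiTensorProduct.one_def, map_smul, tpowAct_tprod, Pi.one_apply, one_mul]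

/-- the determinant functional -/
noncomputable def Det : (⨂[R] _ : Fin d, B) →ₗ[R] R :=
  PiTensorProduct.lift b.det.toMultilinearMap

theorem Det_tprod (p : Fin d → B) : Det b (PiTensorProduct.tprod R p) = b.det p := by
  simp [Det]

noncomputable def eTop : ⨂[R] _ : Fin d, B := PiTensorProduct.tprod R (fun i => b i)

theorem sub_Det_mem (z : ⨂[R] _ : Fin d, B) :
    z - Det b z • eTop b ∈ SymTen.altSpan R B d := by
  let Q : B [⋀^Fin d]→ₗ[R] ((⨂[R] _ : Fin d, B) ⧸ SymTen.altSpan R B d) :=
    { (SymTen.altSpan R B d).mkQ.compMultilinearMap (PiTensorProduct.tprod R) with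
      map_eq_zero_of_eq' := fun v i j h hij => by
        show (Submodule.Quotient.mk (PiTensorProduct.tprod R v) :
          (⨂[R] _ : Fin d, B) ⧸ SymTen.altSpan R B d) = 0
        rw [Submodule.Quotient.mk_eq_zero]
        exact Submodule.subset_span ⟨v, i, j, hij, h, rfl⟩ }
  have hQ : Q = (LinearMap.toSpanSingleton R _ (Q (fun i => b i))).compAlternatingMap b.det := by
    refine b.ext_alternating fun v hv => ?_
    obtain ⟨σ, rfl⟩ : ∃ σ : Equiv.Perm (Fin d), v = σ :=
      ⟨Equiv.ofBijective v (Finite.injective_iff_bijective.1 hv), rfl⟩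
    have h1 : Q (fun i => b (σ i)) = Equiv.Perm.sign σ • Q (fun i => b i) := Q.map_perm _ σ
    have h2 : b.det (fun i => b (σ i)) = Equiv.Perm.sign σ • b.det (fun i => b i) :=
      b.det.map_perm _ σ
    rw [LinearMap.compAlternatingMap_apply, h1, h2, b.det_self]
    simp
  induction z using PiTensorProduct.induction_on with
  | add x y hx hy =>
    have := add_mem hx hy
    convert this using 1
    rw [map_add, add_smul]
    abel
  | smul_tprod q p =>
    rw [map_smul, smul_eq_mul, mul_smul, ← smul_sub]
    refine Submodule.smul_mem _ _ ?_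
    rw [← Submodule.Quotient.mk_eq_zero, Submodule.Quotient.mk_sub, Det_tprod, sub_eq_zero,
      Submodule.Quotient.mk_smul]
    exact DFunLike.congr_fun hQ p

noncomputable def cfun (f : Fin d → Fin d) : (⨂[R] _ : Fin d, B) →ₗ[R] R :=
  PiTensorProduct.lift ((MultilinearMap.mkPiAlgebra R (Fin d) R).compLinearMap fun i => b.coord (f i))

theorem expand (t : ⨂[R] _ : Fin d, B) :
    t = ∑ f : Fin d → Fin d, cfun b f t • PiTensorProduct.tprod R (fun i => b (f i)) := by
  induction t using PiTensorProduct.induction_on with
  | add x y hx hy =>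
    conv_lhs => rw [hx, hy]
    simp only [map_add, add_smul, Finset.sum_add_distrib]
  | smul_tprod q p =>
    simp only [map_smul, smul_eq_mul, mul_smul, ← Finset.smul_sum]
    congr 1
    conv_lhs => rw [show p = fun i => ∑ k, b.repr (p i) k • b k from funext fun i => (b.sum_repr (p i)).symm]
    rw [MultilinearMap.map_sum]
    refine Finset.sum_congr rfl fun f _ => ?_
    rw [MultilinearMap.map_smul_univ]
    simp [cfun, Module.Basis.coord_apply]

theorem cfun_reindex (f : Fin d → Fin d) (σ : Equiv.Perm (Fin d)) (t : ⨂[R] _ : Fin d, B) :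
    cfun b f (PiTensorProduct.reindex R (fun _ : Fin d => B) σ t) = cfun b (fun i => f (σ i)) t := by
  induction t using PiTensorProduct.induction_on with
  | add x y hx hy => simp only [map_add, hx, hy]
  | smul_tprod q p =>
    simp only [map_smul, PiTensorProduct.reindex_tprod]
    congr 1
    simp only [cfun, PiTensorProduct.lift.tprod, MultilinearMap.compLinearMap_apply,
      MultilinearMap.mkPiAlgebra_apply]
    rw [← Equiv.prod_comp σ]
    refine Finset.prod_congr rfl fun i _ => ?_
    show b.coord (f (σ i)) (p (σ.symm (σ i))) = _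
    rw [Equiv.symm_apply_apply]

theorem Det_act_altSpan (t : ⨂[R] _ : Fin d, B)
    (ht : ∀ σ : Equiv.Perm (Fin d), PiTensorProduct.reindex R (fun _ : Fin d => B) σ t = t)
    (z : ⨂[R] _ : Fin d, B) (hz : z ∈ SymTen.altSpan R B d) :
    Det b (SymTen.tpowAct R B B d t z) = 0 := by
  suffices SymTen.altSpan R B d ≤ LinearMap.ker (Det b ∘ₗ SymTen.tpowAct R B B d t) from this hz
  refine Submodule.span_le.2 ?_
  rintro _ ⟨p, i, j, hij, hp, rfl⟩
  simp only [SetLike.mem_coe, LinearMap.mem_ker, LinearMap.comp_apply]
  conv_lhs => rw [expand b t]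
  simp only [map_sum, map_smul, LinearMap.coe_sum, Finset.sum_apply, LinearMap.smul_apply,
    tpowAct_tprod, Det_tprod, smul_eq_mul]
  have hpτ : ∀ k, p (Equiv.swap i j k) = p k := by
    intro k
    rcases eq_or_ne k i with rfl | hki
    · simp [hp]
    rcases eq_or_ne k j with rfl | hkj
    · simp [hp]
    rw [Equiv.swap_apply_of_ne_of_ne hki hkj]
  refine Finset.sum_involution (fun f _ => fun k => f (Equiv.swap i j k)) ?_ ?_ ?_ ?_
  · intro f _
    have hc : cfun b (fun k => f (Equiv.swap i j k)) t = cfun b f t := by
      rw [← cfun_reindex, ht]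
    have hv : (fun k => b (f (Equiv.swap i j k)) * p k) =
        (fun k => b (f k) * p k) ∘ Equiv.swap i j := by
      funext k
      simp [hpτ k]
    rw [hc, hv, AlternatingMap.map_swap _ _ hij]
    simp
  · intro f _ hne heq
    apply hne
    have hf : f j = f i := by simpa using congr_fun heq i
    rw [AlternatingMap.map_eq_zero_of_eq _ _ (show (fun k => b (f k) * p k) i = (fun k => b (f k) * p k) j by
      simp [hf, hp]) hij, mul_zero]
  · intro f _; exact Finset.mem_univ _
  · intro f _
    funext k
    simp

noncomputable def chi : (⨂[R] _ : Fin d, B) →ₗ[R] R :=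
  Det b ∘ₗ (SymTen.tpowAct R B B d).flip (eTop b)

theorem Det_act (t : ⨂[R] _ : Fin d, B)
    (ht : ∀ σ : Equiv.Perm (Fin d), PiTensorProduct.reindex R (fun _ : Fin d => B) σ t = t)
    (z : ⨂[R] _ : Fin d, B) :
    Det b (SymTen.tpowAct R B B d t z) = Det b z * chi b t := by
  have h := Det_act_altSpan b t ht _ (sub_Det_mem b z)
  simpa [chi, sub_eq_zero] using h

theorem chi_one : chi b (1 : ⨂[R] _ : Fin d, B) = 1 := by
  show Det b (SymTen.tpowAct R B B d 1 (eTop b)) = 1
  rw [tpowAct_one, eTop, Det_tprod, b.det_self]

theorem chi_mul (t u : ⨂[R] _ : Fin d, B)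
    (ht : ∀ σ : Equiv.Perm (Fin d), PiTensorProduct.reindex R (fun _ : Fin d => B) σ t = t) :
    chi b (t * u) = chi b t * chi b u := by
  show Det b (SymTen.tpowAct R B B d (t * u) (eTop b)) = _
  rw [tpowAct_mul, Det_act b t ht, mul_comm]
  rfl

theorem prod_tmul {S : Type u} [CommRing S] [Algebra R S] {ι : Type*} (s : Finset ι) (a : ι → S)
    {T : Type u} [CommRing T] [Algebra R T] (c : ι → T) :
    ∏ j ∈ s, (a j ⊗ₜ[R] c j) = (∏ j ∈ s, a j) ⊗ₜ[R] (∏ j ∈ s, c j) := by
  classical
  induction s using Finset.induction_on with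
  | empty => simp [Algebra.TensorProduct.one_def]
  | insert j s hj ih =>
    rw [Finset.prod_insert hj, Finset.prod_insert hj, Finset.prod_insert hj, ih,
      Algebra.TensorProduct.tmul_mul_tmul]

theorem chi_tpowLaw {S : Type u} [CommRing S] [Algebra R S] (x : S ⊗[R] B) :
    (chi b).lTensor S ((SymTen.tpowLaw R B d).law.toFun' S x) = Algebra.norm S x ⊗ₜ[R] (1 : R) := by
  classical
  set bS := Algebra.TensorProduct.basis S b with hbS
  set s : Fin d → S := fun k => bS.repr x k with hs
  have hx : x = ∑ k, s k ⊗ₜ[R] b k := by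
    conv_lhs => rw [← bS.sum_repr x]
    refine Finset.sum_congr rfl fun k _ => ?_
    rw [hbS, Algebra.TensorProduct.basis_apply, TensorProduct.smul_tmul', smul_eq_mul, mul_one]
  have hl : (SymTen.tpowLaw R B d).law.toFun' S x =
      ∑ f : Fin d → Fin d, (∏ j, s (f j)) ⊗ₜ[R] PiTensorProduct.tprod R (fun j => b (f j)) := by
    rw [SymTen.tpowLaw, PolLaw.MulLaw.prodMap_toFun']
    conv_lhs => rw [hx]
    simp only [map_sum, Algebra.TensorProduct.map_tmul, AlgHom.id_apply, Finset.prod_univ_sum,
      Fintype.piFinset_univ]
    refine Finset.sum_congr rfl fun f _ => ?_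
    rw [prod_tmul]
    congr 1
    simp only [PiTensorProduct.singleAlgHom_apply, MonoidHom.mulSingle_apply]
    rw [← PiTensorProduct.tprod_prod]
    exact congrArg _ (Finset.univ_prod_mulSingle _)
  have hn : Algebra.norm S x = ∑ f : Fin d → Fin d,
      (∏ j, s (f j)) * algebraMap R S (b.det (fun j => b (f j) * b j)) := by
    rw [Algebra.norm_eq_matrix_det bS, ← Matrix.det_transpose]
    let row : Fin d → Fin d → (Fin d → S) := fun j k i => algebraMap R S (b.repr (b k * b j) i)
    have hM : (Algebra.leftMulMatrix bS x).transpose = fun j => ∑ k, s k • row j k := by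
      funext j i
      rw [Matrix.transpose_apply, Algebra.leftMulMatrix_eq_repr_mul]
      conv_lhs => rw [hx]
      simp only [Finset.sum_mul, map_sum, Finsupp.coe_finsetSum, Finset.sum_apply, hbS,
        Algebra.TensorProduct.basis_apply, Algebra.TensorProduct.tmul_mul_tmul, mul_one,
        Algebra.TensorProduct.basis_repr_tmul, Finsupp.smul_apply, Finsupp.mapRange_apply, row,
        Pi.smul_apply, smul_eq_mul]
    rw [hM]
    show Matrix.detRowAlternating.toMultilinearMap (fun j => ∑ k, s k • row j k) = _
    rw [MultilinearMap.map_sum]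
    refine Finset.sum_congr rfl fun f _ => ?_
    rw [MultilinearMap.map_smul_univ, smul_eq_mul, Module.Basis.det_apply, RingHom.map_det,
      ← Matrix.det_transpose (RingHom.mapMatrix _ _)]
    rfl
  rw [hl, hn, map_sum, TensorProduct.sum_tmul]
  refine Finset.sum_congr rfl fun f _ => ?_
  have : chi b (PiTensorProduct.tprod R (fun j => b (f j))) = b.det (fun j => b (f j) * b j) := by
    simp [chi, eTop, tpowAct_tprod, Det_tprod]
  rw [LinearMap.lTensor_tmul, this, mul_comm, ← Algebra.smul_def, TensorProduct.smul_tmul, smul_eq_mul,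
    mul_one]

end Aux

/-- Let R be a commutative ring and R' a commutative R-algebra that is free of rank d as an R-module.
Let (C, γ) be the degree-d divided power algebra of R' over R, given as an R-algebra C with a
multiplicative homogeneous degree-d polynomial law γ : R' → C that is universal among such laws; let
φ : C → T^d_R(R') be the R-algebra homomorphism into the d-fold tensor power whose composite with γ
is the law x ↦ x ⊗ ⋯ ⊗ x, and π : C → R the R-algebra homomorphism whose composite with γ is the
norm law of R' over R. Let T^d_R(R') act on itself factor by factor and let I_d ⊂ T^d_R(R') be the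
R-span of the pure tensors with two equal factors, so that T^d_R(R')/I_d is the top exterior power
Λ^d_R(R'), free of rank one. Then for every c ∈ C and every x ∈ T^d_R(R') the element φ(c)·x − π(c)
x lies in I_d: the symmetric tensor φ(c) acts on Λ^d_R(R') as multiplication by the scalar π(c),
i.e. the homomorphism TS^d_R(R') → R given by the action on the top exterior power, composed with φ,
equals π. (The source states this for R' finite locally free of constant rank d; the free case is
the affine-local form.) -/
theorem result (R : Type u) [CommRing R] (R' : Type u) [CommRing R']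
    [Algebra R R'] [Module.Free R R'] [Module.Finite R R'] (d : ℕ) (hd : Module.finrank R R' = d)
    {C : Type u} [CommRing C] [Algebra R C] (γ : PolLaw.MulLaw R R' C d) (hγ : PolLaw.IsGammaD γ)
    (φ : C →ₐ[R] (⨂[R] _ : Fin d, R')) (hφ : PolLaw.MulLaw.postcomp φ γ = SymTen.tpowLaw R R' d)
    (π : C →ₐ[R] R) (hπ : PolLaw.MulLaw.postcomp π γ = PolLaw.normLaw R R' d hd)
    (c : C) (x : ⨂[R] _ : Fin d, R') :
    SymTen.tpowAct R R' R' d (φ c) x - π c • x ∈ SymTen.altSpan R R' d := by
  rcases subsingleton_or_nontrivial R with hR | hR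
  · haveI : Subsingleton (⨂[R] _ : Fin d, R') := Module.subsingleton R _
    rw [Subsingleton.elim (SymTen.tpowAct R R' R' d (φ c) x - π c • x) 0]
    exact Submodule.zero_mem _
  obtain ⟨b⟩ : Nonempty (Module.Basis (Fin d) R R') := ⟨Module.finBasisOfFinrankEq R R' hd⟩
  -- φ c is symmetric
  have hsym : ∀ (c : C) (σ : Equiv.Perm (Fin d)),
      PiTensorProduct.reindex R (fun _ : Fin d => R') σ (φ c) = φ c := by
    intro c σ
    have hu := hγ (⨂[R] _ : Fin d, R') (SymTen.tpowLaw R R' d)
    have hs : ∀ (j : Fin d) (a : R'),
        SymTen.perm R R' d σ (PiTensorProduct.singleAlgHom (A := fun _ : Fin d => R') j a) =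
          PiTensorProduct.singleAlgHom (A := fun _ : Fin d => R') (σ j) a := by
      intro j a
      simp only [PiTensorProduct.singleAlgHom_apply, MonoidHom.mulSingle_apply, SymTen.perm_tprod]
      congr 1
      funext i
      rcases eq_or_ne i (σ j) with rfl | h
      · simp
      · rw [Pi.mulSingle_eq_of_ne h, Pi.mulSingle_eq_of_ne]
        intro h'
        exact h (by rw [← h']; simp)
    have h1 : PolLaw.postcomp φ.toLinearMap γ.law = (SymTen.tpowLaw R R' d).law :=
      congrArg PolLaw.MulLaw.law hφ
    have h2 : PolLaw.postcomp ((SymTen.perm R R' d σ).comp φ).toLinearMap γ.law =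
        (SymTen.tpowLaw R R' d).law := by
      refine PolynomialLaw.ext ?_
      funext S iS iA z
      show ((SymTen.perm R R' d σ).toLinearMap ∘ₗ φ.toLinearMap).lTensor S (γ.law.toFun' S z) = _
      rw [LinearMap.lTensor_comp, LinearMap.comp_apply,
        show φ.toLinearMap.lTensor S (γ.law.toFun' S z) = (SymTen.tpowLaw R R' d).law.toFun' S z from
          congrFun (congrArg (fun F : R' →ₚₗ[R] _ => F.toFun' S) h1) z,
        PolLaw.lTensor_algHom_apply, SymTen.tpowLaw, PolLaw.MulLaw.prodMap_toFun', map_prod,
        ← Equiv.prod_comp σ (fun j => Algebra.TensorProduct.map (AlgHom.id S S)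
          (PiTensorProduct.singleAlgHom (A := fun _ : Fin d => R') j) z)]
      refine Finset.prod_congr rfl fun j _ => ?_
      induction z using TensorProduct.induction_on with
      | zero => simp
      | tmul s a =>
        simp only [Algebra.TensorProduct.map_tmul, AlgHom.id_apply]
        exact congrArg (s ⊗ₜ[R] ·) (hs j a)
      | add u v hu hv => simp only [map_add, hu, hv]
    have := hu.unique h2 h1
    rw [← SymTen.perm_apply]
    exact AlgHom.congr_fun this c
  let ψ : C →ₐ[R] R := AlgHom.ofLinearMap (chi b ∘ₗ φ.toLinearMap)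
    (by simp [chi_one b]) (by
      intro a a'
      show chi b (φ (a * a')) = chi b (φ a) * chi b (φ a')
      rw [map_mul, chi_mul b _ _ (hsym a)])
  have hψ : π = ψ := by
    refine (hγ R (PolLaw.normLaw R R' d hd)).unique (congrArg PolLaw.MulLaw.law hπ) ?_
    refine PolynomialLaw.ext ?_
    funext S iS iA z
    letI : CommRing S := { Algebra.semiringToRing R (A := S), iS with }
    show (chi b ∘ₗ φ.toLinearMap).lTensor S (γ.law.toFun' S z) = _
    rw [LinearMap.lTensor_comp, LinearMap.comp_apply,
      show φ.toLinearMap.lTensor S (γ.law.toFun' S z) = (SymTen.tpowLaw R R' d).law.toFun' S z from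
        congrFun (congrArg (fun F : R' →ₚₗ[R] _ => F.toFun' S) (congrArg PolLaw.MulLaw.law hφ)) z,
      PolLaw.normLaw_apply, chi_tpowLaw b]
  have hπc : π c = chi b (φ c) := by rw [hψ]; rfl
  have h1 := sub_Det_mem b (SymTen.tpowAct R R' R' d (φ c) x)
  rw [Det_act b (φ c) (hsym c)] at h1
  have h2 := Submodule.smul_mem _ (π c) (sub_Det_mem b x)
  convert Submodule.sub_mem _ h1 h2 using 1
  rw [smul_sub, smul_smul, hπc, mul_comm]
  abel

end Groth.Agent.S19898
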