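import Groth.Statements.S1990
import Groth.Agent.EtRamTower.Basic

set_option autoImplicit false
universe u
open EtAlg

namespace Groth.Agent.S1990

/-- Let K be the fraction field of a discrete valuation ring A, and K ⊂ L ⊂ M finite separable
extensions. If L/K is tamely ramified (resp. unramified) with respect to A and M/L is tamely
ramified (resp. unramified) with respect to every valuation subring of L dominating A, then M/K is
tamely ramified (resp. unramified) with respect to A. -/
theorem result (A K : Type u) [CommRing A] [IsDomain A] [IsDiscreteValuationRing A] [Field K] [Algebra A K] [IsFractionRing A K] (L M : Type u) [Field L] [Field M]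
    [Algebra K L] [Algebra K M] [Algebra L M] [IsScalarTower K L M] [FiniteDimensional K M] [Algebra.IsSeparable K M] :
    (EtRam.IsTamelyRamified A ((algebraMap K L).comp (algebraMap A K)) →
      (∀ (V : ValuationSubring L), EtRam.Dominates A ((algebraMap K L).comp (algebraMap A K)) V →
        EtRam.IsTamelyRamified V ((algebraMap L M).comp V.subtype)) →
      EtRam.IsTamelyRamified A ((algebraMap K M).comp (algebraMap A K))) ∧
    (EtRam.IsUnramifiedExt A ((algebraMap K L).comp (algebraMap A K)) →
      (∀ (V : ValuationSubring L), EtRam.Dominates A ((algebraMap K L).comp (algebraMap A K)) V →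
        EtRam.IsUnramifiedExt V ((algebraMap L M).comp V.subtype)) →
      EtRam.IsUnramifiedExt A ((algebraMap K M).comp (algebraMap A K))) := by
  haveI : FiniteDimensional K L := FiniteDimensional.left K L M
  haveI : Algebra.IsSeparable K L := Algebra.isSeparable_tower_bot_of_isSeparable K L M
  have hg : (algebraMap K M).comp (algebraMap A K) =
      (algebraMap L M).comp ((algebraMap K L).comp (algebraMap A K)) := by
    rw [IsScalarTower.algebraMap_eq K L M, RingHom.comp_assoc]
  constructor <;> intro hL hLM W hW <;>
    have hV := Groth.Agent.EtRamTower.dominates_comap (algebraMap L M) (hg ▸ hW) <;>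
    have hWV := Groth.Agent.EtRamTower.dominates_subtype (algebraMap L M) W <;>
    letI : Algebra A (W.comap (algebraMap L M)) := (RingHom.codRestrict _ _ hV.1).toAlgebra <;>
    letI : Algebra (W.comap (algebraMap L M)) W :=
      (RingHom.codRestrict ((algebraMap L M).comp (W.comap (algebraMap L M)).subtype) W hWV.1).toAlgebra <;>
    letI : Algebra A W := (RingHom.codRestrict _ _ hW.1).toAlgebra <;>
    haveI : IsScalarTower A (W.comap (algebraMap L M)) W := IsScalarTower.of_algebraMap_eq (fun a => Subtype.ext (RingHom.congr_fun hg a)) <;>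
    haveI : IsLocalHom (algebraMap (W.comap (algebraMap L M)) W) := Groth.Agent.EtRamTower.isLocalHom_codRestrict hWV <;>
    haveI : IsLocalHom (algebraMap A (W.comap (algebraMap L M))) := Groth.Agent.EtRamTower.isLocalHom_codRestrict hV <;>
    haveI : IsDiscreteValuationRing (W.comap (algebraMap L M)) := Groth.Agent.EtRamTower.isDVR_of_dominates _ hV <;>
    haveI : IsDiscreteValuationRing W := Groth.Agent.EtRamTower.isDVR_of_dominates W hW <;>
    obtain ⟨e, he⟩ := Groth.Agent.EtRamTower.exists_map_eq_pow (algebraMap A (W.comap (algebraMap L M)))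
      (fun a b h => IsFractionRing.injective A K ((algebraMap K L).injective (congrArg Subtype.val h))) <;>
    obtain ⟨f, hf⟩ := Groth.Agent.EtRamTower.exists_map_eq_pow (algebraMap (W.comap (algebraMap L M)) W)
      (fun a b h => Subtype.ext ((algebraMap L M).injective (congrArg Subtype.val h))) <;>
    have hef : (IsLocalRing.maximalIdeal A).map (algebraMap A W) = IsLocalRing.maximalIdeal W ^ (f * e) := by
      rw [IsScalarTower.algebraMap_eq A (W.comap (algebraMap L M)) W, ← Ideal.map_map, he, Ideal.map_pow, hf, ← pow_mul]
  · intro
    obtain ⟨hs1, ht1⟩ := hL _ hV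
    obtain ⟨hs2, ht2⟩ := hLM _ hV W hWV
    refine ⟨Algebra.IsSeparable.trans _ (IsLocalRing.ResidueField (W.comap (algebraMap L M))) _, fun p hp hc => ?_⟩
    have h1 := ht1 p hp hc
    have h2 := ht2 p hp (charP_of_injective_algebraMap
      (algebraMap (IsLocalRing.ResidueField A) (IsLocalRing.ResidueField (W.comap (algebraMap L M)))).injective p)
    rw [Groth.Agent.EtRamTower.ramificationIdx_eq he] at h1
    rw [Groth.Agent.EtRamTower.ramificationIdx_eq hf] at h2
    rw [Groth.Agent.EtRamTower.ramificationIdx_eq hef]
    exact fun hd => (hp.dvd_mul.1 hd).elim h2 h1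
  · intro
    obtain ⟨hu1, hs1⟩ := hL _ hV
    obtain ⟨hu2, hs2⟩ := hLM _ hV W hWV
    refine ⟨?_, Algebra.IsSeparable.trans _ (IsLocalRing.ResidueField (W.comap (algebraMap L M))) _⟩
    change (IsLocalRing.maximalIdeal A).map (algebraMap A W) = _
    rw [IsScalarTower.algebraMap_eq A (W.comap (algebraMap L M)) W, ← Ideal.map_map]
    rw [show (IsLocalRing.maximalIdeal A).map (algebraMap A (W.comap (algebraMap L M))) = _ from hu1]
    exact hu2

end Groth.Agent.S1990
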