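import Groth.Statements.S19904
import Groth.Agent.ArtFunLib.Criteria
import Mathlib

set_option autoImplicit false
universe u v
open CategoryTheory
open ArtFun

namespace Groth.Agent.S19904

/-- For functors F, G, G' on Artinian local Λ-algebras with residue field k and morphisms φ : F → G, ψ :
G' → G: if φ is smooth then the base change F ×_G G' → G' (second projection of the fibre product of
functors) is smooth. -/
theorem result {Λ : Type u} {k : Type u} [CommRing Λ] [Field k] [Algebra Λ k]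
    [IsNoetherianRing Λ] [Module.Finite Λ k]
    {F G G' : ArtFun.Art Λ k ⥤ Type v} (φ : F ⟶ G) (ψ : G' ⟶ G) (hφ : ArtFun.IsSmooth φ) :
    ArtFun.IsSmooth (Limits.pullback.snd φ ψ) := by
  open Groth.Agent.ArtFunLib ArtFun ArtFun.Art in
  intro B A μ hμ w
  obtain ⟨⟨a, b⟩, hab⟩ := w
  obtain ⟨z, hz₁, hz₂⟩ := IsSmooth.lift hφ hμ ((Limits.pullback.fst φ ψ).app A a) (ψ.app B b)
    (by rw [pullback_cond, hab, nat_apply])
  obtain ⟨w, hw₁, hw₂⟩ := pullback_exists φ ψ z b hz₂
  refine ⟨w, Subtype.ext (Prod.ext ((pullback_eq_iff φ ψ).mpr ⟨?_, ?_⟩) hw₂)⟩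
  · exact ((nat_apply (Limits.pullback.fst φ ψ) μ w).trans (congrArg _ hw₁)).trans hz₁
  · exact ((nat_apply (Limits.pullback.snd φ ψ) μ w).trans (congrArg _ hw₂)).trans hab.symm

end Groth.Agent.S19904
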