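import Groth.Statements.S19919
set_option linter.unusedVariables false

set_option autoImplicit false
universe u v w
open DPow

namespace Groth.Agent.S19919

/-- Let R be a commutative ring and P = R⟨X_1, …, X_N⟩ the divided power polynomial algebra over R,
presented concretely as an R-algebra P with elements x i n = X_i^[n] (i < N, n ≥ 0) such that
X_i^[0] = 1, X_i^[n] · X_i^[m] = C(n+m, n) X_i^[n+m], and the monomials ∏_i X_i^[e_i] form an
R-basis of P; let P_+ be the ideal generated by the X_i^[n] with n ≥ 1 and γ the divided power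
structure on P_+ with γ_n(X_i^[1]) = X_i^[n]. Then (P, P_+, γ) is the free divided power R-algebra
on N variables: for every commutative R-algebra S, every ideal J of S with a divided power structure
δ and every family s_1, …, s_N of elements of J there is exactly one R-algebra homomorphism φ : P →
S that is a divided power morphism from (P_+, γ) to (J, δ) and satisfies φ(X_i^[1]) = s_i for all i. -/
theorem result (R : Type u) [CommRing R] (N : ℕ)
    (P : Type v) [CommRing P] [Algebra R P] (x : Fin N → ℕ → P)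
    (hx0 : ∀ i, x i 0 = 1)
    (hxmul : ∀ i n m, x i n * x i m = ((n + m).choose n : P) * x i (n + m))
    (b : Module.Basis (Fin N →₀ ℕ) R P) (hb : ∀ e : Fin N →₀ ℕ, b e = e.prod (fun i k => x i k))
    (γ : DividedPowers (Ideal.span {y : P | ∃ (i : Fin N) (n : ℕ), 1 ≤ n ∧ y = x i n}))
    (hγ : ∀ (i : Fin N) (n : ℕ), γ.dpow n (x i 1) = x i n)
    (S : Type w) [CommRing S] [Algebra R S] (J : Ideal S) (δ : DividedPowers J)
    (s : Fin N → S) (hs : ∀ i, s i ∈ J) :
    ∃! φ : P →ₐ[R] S, γ.IsDPMorphism δ φ.toRingHom ∧ ∀ i, φ (x i 1) = s i := by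
  classical
  have hxI : ∀ i n, 1 ≤ n → x i n ∈ Ideal.span {y : P | ∃ (i : Fin N) (n : ℕ), 1 ≤ n ∧ y = x i n} := fun i n hn => Ideal.subset_span ⟨i, n, hn, rfl⟩
  let c : (Fin N →₀ ℕ) → S := fun e => ∏ i, δ.dpow (e i) (s i)
  let L : P →ₗ[R] S := b.constr R c
  have hLb : ∀ e, L (b e) = c e := fun e => b.constr_basis R c e
  have hbe : ∀ e, b e = ∏ i, x i (e i) := fun e => by
    rw [hb, Finsupp.prod_fintype]
    exact fun i => hx0 i
  have hL1 : L 1 = 1 := by
    rw [show (1 : P) = b 0 by rw [hbe]; simp [hx0], hLb]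
    exact Finset.prod_eq_one fun i _ => by simp [δ.dpow_zero (hs i)]
  have hmulb : ∀ e e', b e * b e' = (((∏ i, (e i + e' i).choose (e i)) : ℕ) : R) • b (e + e') := by
    intro e e'
    rw [hbe, hbe, hbe, ← Finset.prod_mul_distrib, Algebra.smul_def, map_natCast, Nat.cast_prod, ← Finset.prod_mul_distrib]
    exact Finset.prod_congr rfl fun i _ => by rw [hxmul]; rfl
  have hcmul : ∀ e e', c e * c e' = (((∏ i, (e i + e' i).choose (e i)) : ℕ) : R) • c (e + e') := by
    intro e e'
    simp only [c]
    rw [← Finset.prod_mul_distrib, Algebra.smul_def, map_natCast, Nat.cast_prod, ← Finset.prod_mul_distrib]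
    exact Finset.prod_congr rfl fun i _ => by rw [δ.mul_dpow (hs i)]; rfl
  have hmul : (LinearMap.mul R P).compr₂ L = ((LinearMap.mul R S).comp L).compl₂ L := by
    refine b.ext fun e => b.ext fun e' => ?_
    simp only [LinearMap.compr₂_apply, LinearMap.mul_apply', LinearMap.compl₂_apply, LinearMap.comp_apply]
    rw [hmulb, map_smul, hLb, hLb, hLb, hcmul]
  let φ : P →ₐ[R] S := AlgHom.ofLinearMap L hL1 (fun a a' => LinearMap.congr_fun (LinearMap.congr_fun hmul a) a')
  have hφx : ∀ i n, φ (x i n) = δ.dpow n (s i) := by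
    intro i n
    have e1 : b (Finsupp.single i n) = x i n := by
      rw [hb, Finsupp.prod_single_index]
      exact hx0 i
    change L (x i n) = _
    rw [← e1, hLb]
    simp only [c]
    rw [Finset.prod_eq_single i]
    · rw [Finsupp.single_eq_same]
    · intro j _ hj; rw [Finsupp.single_eq_of_ne hj, δ.dpow_zero (hs j)]
    · simp
  refine ⟨φ, ⟨DividedPowers.IsDPMorphism.on_span γ δ rfl ?_ ?_, fun i => ?_⟩, ?_⟩
  · rintro _ ⟨i, n, hn, rfl⟩
    change φ (x i n) ∈ J
    rw [hφx]; exact δ.dpow_mem (by omega) (hs i)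
  · rintro k _ ⟨i, n, hn, rfl⟩
    change φ (γ.dpow k (x i n)) = δ.dpow k (φ (x i n))
    rw [hφx, δ.dpow_comp (by omega) (hs i), ← hγ i n, γ.dpow_comp (by omega) (hxI i 1 le_rfl),
      map_mul, map_natCast, hγ, hφx]
  · rw [hφx, δ.dpow_one (hs i)]
  · rintro ψ ⟨hψ, hψ1⟩
    have hψx : ∀ i n, ψ (x i n) = δ.dpow n (s i) := by
      intro i n
      rw [← hγ i n, ← hψ1 i]
      exact (hψ.dpow_comp (x i 1) (hxI i 1 le_rfl)).symm
    refine AlgHom.toLinearMap_injective (b.ext fun e => ?_)
    change ψ (b e) = L (b e)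
    rw [hLb, hbe, map_prod]
    exact Finset.prod_congr rfl fun i _ => hψx i (e i)

end Groth.Agent.S19919
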