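import Groth.Statements.S1992
import Mathlib
-- import your own Groth.Agent.* helpers here

set_option autoImplicit false
universe u
open Polynomial
open EtAlg

namespace Groth.Agent.S1992

section Aux
theorem exists_root_localization {A : Type u} [CommRing A]
    (hA : ∀ f : A[X], f.Monic → ∃ s : Multiset A, f = (s.map fun a => X - C a).prod)
    (M : Submonoid A) (L : Type u) [CommRing L] [Algebra A L] [IsLocalization M L] [Nontrivial L]
    (f : L[X]) (hf : f.Monic) (hd : f.natDegree ≠ 0) : ∃ b : L, f.eval b = 0 := by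
  haveI : Nontrivial A := (algebraMap A L).domain_nontrivial
  obtain ⟨s, hs⟩ := IsLocalization.exist_integer_multiples M f.support (fun i => f.coeff i)
  let h := f.scaleRoots (algebraMap A L s)
  have hh : h ∈ Polynomial.lifts (algebraMap A L) := by
    rw [Polynomial.lifts_iff_coeff_lifts]
    intro i
    rw [Polynomial.coeff_scaleRoots]
    by_cases hi : i ∈ f.support
    · rcases lt_or_ge i f.natDegree with hin | hin
      · obtain ⟨c, hc⟩ := hs i hi
        obtain ⟨j, hj⟩ := Nat.exists_eq_add_of_lt hin
        refine ⟨c * (s : A) ^ j, ?_⟩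
        rw [hj, Nat.add_assoc, Nat.add_sub_cancel_left, pow_succ', map_mul, map_pow, hc,
          Algebra.smul_def]
        ring
      · obtain rfl : i = f.natDegree :=
          le_antisymm (Polynomial.le_natDegree_of_mem_supp i hi) hin
        exact ⟨1, by rw [hf.coeff_natDegree, Nat.sub_self, pow_zero, mul_one, map_one]⟩
    · exact ⟨0, by rw [Polynomial.notMem_support_iff.1 hi, zero_mul, map_zero]⟩
  obtain ⟨G, hG, hGd, hGm⟩ := Polynomial.lifts_and_natDegree_eq_and_monic hh ((Polynomial.monic_scaleRoots_iff _).2 hf)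
  obtain ⟨t, ht⟩ := hA G hGm
  have htne : t ≠ 0 := fun e => hd (by
    have h1 : G.natDegree = 0 := by rw [ht, e, Multiset.map_zero, Multiset.prod_zero, natDegree_one]
    rwa [hGd, Polynomial.natDegree_scaleRoots] at h1)
  obtain ⟨a, ha⟩ := Multiset.exists_mem_of_ne_zero htne
  have hGa : G.eval a = 0 := by
    rw [ht, eval_multiset_prod, Multiset.map_map]
    exact Multiset.prod_eq_zero (Multiset.mem_map.2 ⟨a, ha, by simp⟩)
  obtain ⟨u, hu⟩ := (IsLocalization.map_units L s).exists_left_inv
  refine ⟨u * algebraMap A L a, ?_⟩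
  have h1 : h.eval (algebraMap A L a) = 0 := by
    rw [← hG, Polynomial.eval_map, Polynomial.eval₂_hom, hGa, map_zero]
  have h2 := Polynomial.scaleRoots_eval₂_mul (p := f) (RingHom.id L) (u * algebraMap A L a)
    (algebraMap A L s)
  rw [RingHom.id_apply, ← mul_assoc, mul_comm (algebraMap A L s) u, hu, one_mul] at h2
  change h.eval (algebraMap A L a) = _ at h2
  rw [h1] at h2
  exact ((IsLocalization.map_units L s).pow _).mul_right_eq_zero.1 h2.symm

theorem exists_root_near {L : Type u} [CommRing L] [IsLocalRing L]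
    (hL : ∀ f : L[X], f.Monic → f.natDegree ≠ 0 → ∃ b, f.eval b = 0) :
    ∀ (n : ℕ) (f : L[X]), f.natDegree = n → f.Monic → ∀ a₀ : L,
      f.eval a₀ ∈ IsLocalRing.maximalIdeal L → IsUnit (f.derivative.eval a₀) →
      ∃ a, f.IsRoot a ∧ a - a₀ ∈ IsLocalRing.maximalIdeal L := by
  intro n
  induction n with
  | zero =>
    intro f hn hf a₀ h1 h2
    rw [hf.natDegree_eq_zero.1 hn, eval_one] at h1
    exact absurd ((IsLocalRing.maximalIdeal L).eq_top_iff_one.2 h1) (Ideal.IsPrime.ne_top inferInstance)
  | succ n ih =>
    intro f hn hf a₀ h1 h2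
    obtain ⟨b, hb⟩ := hL f hf (by omega)
    obtain ⟨q, rfl⟩ := dvd_iff_isRoot.2 hb
    by_cases hba : a₀ - b ∈ IsLocalRing.maximalIdeal L
    · exact ⟨b, hb, by rw [← neg_sub]; exact neg_mem hba⟩
    have hq : q.Monic := (monic_X_sub_C b).of_mul_monic_left hf
    rw [eval_mul, eval_sub, eval_X, eval_C] at h1
    have h1' := ((inferInstance : (IsLocalRing.maximalIdeal L).IsPrime).mem_or_mem h1).resolve_left hba
    have hdeg : q.natDegree = n := by
      rw [(monic_X_sub_C b).natDegree_mul hq, natDegree_X_sub_C] at hn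
      omega
    obtain ⟨a, ha, ha'⟩ := ih q hdeg hq a₀ h1' (by
      rw [derivative_mul, derivative_X_sub_C, one_mul, eval_add, eval_mul, eval_sub, eval_X,
        eval_C] at h2
      by_contra hn'
      have := (IsLocalRing.maximalIdeal L).add_mem h1'
        ((IsLocalRing.maximalIdeal L).mul_mem_left (a₀ - b) (show _ ∈ IsLocalRing.maximalIdeal L from hn'))
      exact this h2)
    exact ⟨a, by rw [IsRoot, eval_mul, ha.eq_zero, mul_zero], ha'⟩

end Aux

/-- Let A be an absolutely integrally closed ring, i.e. every monic polynomial over A is a product of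
linear factors X - a. Then for every prime p of A the localization A_p is a strictly henselian local
ring (henselian with separably closed residue field). -/
theorem result (A : Type u) [CommRing A]
    (hA : ∀ f : A[X], f.Monic → ∃ s : Multiset A, f = (s.map fun a => X - C a).prod)
    (p : Ideal A) [p.IsPrime] :
    EtCoh.IsStrictlyHenselianLocalRing (Localization.AtPrime p) := by
  have hL := exists_root_localization hA p.primeCompl (Localization.AtPrime p)
  haveI : HenselianLocalRing (Localization.AtPrime p) :=
    { is_henselian := fun f hf a₀ h₁ h₂ => exists_root_near hL _ f rfl hf a₀ h₁ h₂ }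
  refine ⟨inferInstance, ?_⟩
  haveI : IsAlgClosed (IsLocalRing.ResidueField (Localization.AtPrime p)) := by
    refine IsAlgClosed.of_exists_root _ fun g hg hirr => ?_
    obtain ⟨G, hG, hGd, hGm⟩ := Polynomial.lifts_and_natDegree_eq_and_monic
      ((Polynomial.lifts_iff_coeff_lifts g).2 fun i => IsLocalRing.residue_surjective (g.coeff i)) hg
    obtain ⟨b, hb⟩ := hL G hGm (hGd.symm ▸ hirr.natDegree_pos.ne')
    exact ⟨IsLocalRing.residue _ b, by rw [← hG, Polynomial.eval_map, Polynomial.eval₂_hom, hb, map_zero]⟩
  infer_instance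

end Groth.Agent.S1992
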