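import Groth.Statements.S1993
import Groth.Agent.HenselLib.PairHenselization
import Groth.Agent.HenselLib.Ops
import Groth.Agent.HenselLib.HenselizationLocal

set_option autoImplicit false
universe u
open EtAlg

namespace Groth.Agent.S1993

/-- Let A be a local ring with maximal ideal m and B a local A-algebra with local structure map. Then B
is a henselization of the pair (A, m) if and only if B is a henselization of the local ring A (both
in the sense of the universal properties). -/
theorem result (A B : Type u) [CommRing A] [IsLocalRing A] [CommRing B]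
    [IsLocalRing B] [Algebra A B] [IsLocalHom (algebraMap A B)] :
    Hens2.IsPairHenselization A (IsLocalRing.maximalIdeal A) B ↔ Hensel.IsHenselization A B := by
  let m := IsLocalRing.maximalIdeal A
  have isMax : ∀ (H : Type u) [CommRing H] [Algebra A H], Hens2.IsPairHenselization A m H →
      (m.map (algebraMap A H)).IsMaximal := by
    intro H _ _ hH
    have hb := Groth.Agent.HenselLib.quotient_pow_bijective hH 1
    rw [← pow_one m]
    refine Ideal.Quotient.maximal_of_isField _ (MulEquiv.isField ?_
      (RingEquiv.ofBijective _ hb).symm.toMulEquiv)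
    have : (m ^ 1).IsMaximal := by rw [pow_one]; exact IsLocalRing.maximalIdeal.isMaximal A
    exact (Ideal.Quotient.maximal_ideal_iff_isField_quotient _).mp this
  have toHensel : ∀ (H : Type u) [CommRing H] [IsLocalRing H] [Algebra A H]
      [IsLocalHom (algebraMap A H)],
      Hens2.IsPairHenselization A m H → Hensel.IsHenselization A H := by
    intro H _ _ _ _ hH
    have hmax := IsLocalRing.eq_maximalIdeal (isMax H hH)
    have h1 : HenselianRing H (IsLocalRing.maximalIdeal H) := hmax ▸ hH.1
    exact ⟨Groth.Agent.HenselLib.henselianLocalRing_of_henselianRing (H := h1), fun T _ _ f hf =>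
      hH.2 T (IsLocalRing.maximalIdeal T) f inferInstance
        (Ideal.map_le_iff_le_comap.mpr fun r hr => map_nonunit f r hr)⟩
  refine ⟨toHensel B, fun hB => ?_⟩
  obtain ⟨H, _, _, hH⟩ := Groth.Agent.HenselLib.exists_pairHenselization A m
  have hmax := isMax H hH
  have : IsLocalRing H := IsLocalRing.of_unique_max_ideal ⟨_, hmax, fun M hM =>
    (hmax.eq_of_le hM.ne_top (hH.1.jac.trans
      (sInf_le ⟨bot_le, hM⟩))).symm⟩
  have hl : IsLocalHom (algebraMap A H) := ⟨fun r hr => by
    by_contra hnu
    exact hmax.ne_top (Ideal.eq_top_of_isUnit_mem _ (Ideal.mem_map_of_mem _ hnu) hr)⟩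
  have hH' := toHensel H hH
  have := hH'.henselian
  have := hB.henselian
  obtain ⟨g, hg, -⟩ := hB.universal H (algebraMap A H) hl
  obtain ⟨k, hk, -⟩ := hH'.universal B (algebraMap A B) ‹_›
  have h1 : k.comp g = RingHom.id B := (hB.universal B (algebraMap A B) ‹_›).unique
    (by rw [RingHom.comp_assoc, hg, hk]) rfl
  have h2 : g.comp k = RingHom.id H := (hH'.universal H (algebraMap A H) hl).unique
    (by rw [RingHom.comp_assoc, hk, hg]) rfl
  exact Groth.Agent.HenselLib.isPairHenselization_of_algEquiv hH
    (AlgEquiv.ofRingEquiv (f := RingEquiv.ofRingHom k g h1 h2) (RingHom.congr_fun hk))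

end Groth.Agent.S1993
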