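import Groth.Statements.S1995
import Groth.Agent.HenselLib.PairHenselization
import Groth.Agent.HenselLib.Ops
import Groth.Agent.HenselLib.TFAE

set_option autoImplicit false
universe u
open EtAlg

namespace Groth.Agent.S1995

/-- Let I_1, …, I_n be pairwise comaximal ideals of a ring A, B a henselization of the pair (A, I_1 ∩ …
∩ I_n) and B_i a henselization of (A, I_i) for each i. Then B is isomorphic as an A-algebra to the
product of the B_i (any such isomorphism is the natural comparison map, by the universal property). -/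
theorem result (A : Type u) [CommRing A] {n : ℕ} (I : Fin n → Ideal A)
    (hI : Pairwise fun i j => I i ⊔ I j = ⊤) (B : Type u) [CommRing B] [Algebra A B]
    (hB : Hens2.IsPairHenselization A (⨅ i, I i) B) (Bi : Fin n → Type u) [∀ i, CommRing (Bi i)] [∀ i, Algebra A (Bi i)]
    (hBi : ∀ i, Hens2.IsPairHenselization A (I i) (Bi i)) :
    Nonempty (B ≃ₐ[A] ∀ i, Bi i) := by
  classical
  set J : Ideal A := ⨅ i, I i with hJdef
  set JB := J.map (algebraMap A B)
  have := hB.1
  have hjac : JB ≤ Ideal.jacobson ⊥ := HenselianRing.jac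
  have hx : ∀ i, ∃ x : A, ∀ j, x - (if j = i then 1 else 0) ∈ I j := fun i =>
    Ideal.exists_forall_sub_mem_ideal (fun a b h => Ideal.isCoprime_iff_sup_eq.2 (hI h)) _
  choose x hx using hx
  have hxi : ∀ i, x i - 1 ∈ I i := fun i => by simpa using hx i i
  have hxj : ∀ i j, j ≠ i → x i ∈ I j := fun i j h => by simpa [h] using hx i j
  have hxJ : ∀ i, x i ^ 2 - x i ∈ J := fun i => Submodule.mem_iInf _ |>.2 fun j => by
    rw [show x i ^ 2 - x i = x i * (x i - 1) by ring]
    rcases eq_or_ne j i with rfl | h
    · exact Ideal.mul_mem_left _ _ (hxi j)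
    · exact Ideal.mul_mem_right _ _ (hxj i j h)
  have hlift : ∀ i, ∃ e : B, IsIdempotentElem e ∧ e - algebraMap A B (x i) ∈ JB := fun i => by
    have h := Groth.Agent.HenselLib.exists_idem JB (B := B) (x := algebraMap A B (x i)) (by
      rw [Algebra.algebraMap_self, Ideal.map_id, ← map_pow, ← map_sub]
      exact Ideal.mem_map_of_mem _ (hxJ i))
    simpa [Ideal.map_id] using h
  choose e he hex using hlift
  have hortho : Pairwise (e · * e · = 0) := fun i j hij => by
    refine Groth.Agent.HenselLib.idem_eq_zero_of_mem hjac ((he i).mul (he j)) ?_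
    have h1 : x i * x j ∈ J := Submodule.mem_iInf _ |>.2 fun k => by
      rcases eq_or_ne k i with rfl | h
      · exact Ideal.mul_mem_left _ _ (hxj j k hij)
      · exact Ideal.mul_mem_right _ _ (hxj i k h)
    rw [show e i * e j = (e i - algebraMap A B (x i)) * e j +
        algebraMap A B (x i) * (e j - algebraMap A B (x j)) + algebraMap A B (x i * x j) by
      rw [map_mul]; ring]
    exact add_mem (add_mem (Ideal.mul_mem_right _ _ (hex i)) (Ideal.mul_mem_left _ _ (hex j)))
      (Ideal.mem_map_of_mem _ h1)
  have hcomp : CompleteOrthogonalIdempotents e := by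
    have ho : OrthogonalIdempotents e := ⟨he, hortho⟩
    refine ⟨ho, Groth.Agent.HenselLib.idem_eq_of_sub_mem hjac ho.isIdempotentElem_sum
      IsIdempotentElem.one ?_⟩
    have h1 : (∑ i, x i) - 1 ∈ J := Submodule.mem_iInf _ |>.2 fun k => by
      rw [← Finset.add_sum_erase _ _ (Finset.mem_univ k), add_sub_right_comm]
      exact add_mem (hxi k) (Ideal.sum_mem _ fun i hi => hxj i k (Finset.ne_of_mem_erase hi).symm)
    rw [show (∑ i, e i) - 1 = (∑ i, (e i - algebraMap A B (x i))) + algebraMap A B ((∑ i, x i) - 1) by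
      rw [Finset.sum_sub_distrib, map_sub, map_sum, map_one]; ring]
    exact add_mem (Ideal.sum_mem _ fun i _ => hex i) (Ideal.mem_map_of_mem _ h1)
  have hpair : ∀ i, Hens2.IsPairHenselization A (I i) (B ⧸ Ideal.span {1 - e i}) := by
    intro i
    set B' := B ⧸ Ideal.span {1 - e i}
    have hq : Ideal.Quotient.mk (Ideal.span {1 - e i}) (e i) = 1 := by
      rw [← map_one (Ideal.Quotient.mk (Ideal.span {1 - e i})), eq_comm, Ideal.Quotient.eq]
      exact Ideal.mem_span_singleton_self _
    have hK : JB.map (algebraMap B B') = (I i).map (algebraMap A B') := by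
      rw [Ideal.map_map, ← IsScalarTower.algebraMap_eq]
      refine le_antisymm (Ideal.map_mono (iInf_le I i)) (Ideal.map_le_iff_le_comap.2 fun a ha => ?_)
      have h1 : a * x i ∈ J := Submodule.mem_iInf _ |>.2 fun k => by
        rcases eq_or_ne k i with rfl | h
        · exact Ideal.mul_mem_right _ _ ha
        · exact Ideal.mul_mem_left _ _ (hxj i k h)
      have h2 : algebraMap A B' (x i) - 1 ∈ J.map (algebraMap A B') := by
        have h := Ideal.mem_map_of_mem (algebraMap B B') (hex i)
        rw [Ideal.map_map, ← IsScalarTower.algebraMap_eq, map_sub, Ideal.Quotient.algebraMap_eq,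
          hq, ← Ideal.Quotient.algebraMap_eq, ← IsScalarTower.algebraMap_apply] at h
        simpa using neg_mem h
      rw [Ideal.mem_comap, show algebraMap A B' a =
        algebraMap A B' (a * x i) - algebraMap A B' a * (algebraMap A B' (x i) - 1) by
          rw [map_mul]; ring]
      exact sub_mem (Ideal.mem_map_of_mem _ h1) (Ideal.mul_mem_left _ _ h2)
    refine ⟨hK ▸ Groth.Agent.HenselLib.henselianRing_of_isIntegral JB B', fun C _ K f hK' hle => ?_⟩
    obtain ⟨g, hg, hgu⟩ := hB.2 C K f hK' ((Ideal.map_mono (iInf_le I i)).trans hle)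
    have hge : g (e i) = 1 := by
      refine Groth.Agent.HenselLib.idem_eq_of_sub_mem hK'.jac ((he i).map g) IsIdempotentElem.one ?_
      have h : JB.map g ≤ K := by
        rw [Ideal.map_map, hg]; exact (Ideal.map_mono (iInf_le I i)).trans hle
      have h1 := K.add_mem (h (Ideal.mem_map_of_mem g (hex i))) (hle (Ideal.mem_map_of_mem f (hxi i)))
      rw [map_sub, map_sub, map_one, ← RingHom.comp_apply g (algebraMap A B), hg] at h1
      simpa using h1
    refine ⟨Ideal.Quotient.lift _ g (fun z hz => ?_), ?_, fun g' hg' => ?_⟩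
    · obtain ⟨c, rfl⟩ := Ideal.mem_span_singleton'.1 hz
      rw [map_mul, map_sub, map_one, hge, sub_self, mul_zero]
    · exact RingHom.ext fun a => RingHom.congr_fun hg a
    · refine Ideal.Quotient.ringHom_ext (RingHom.ext fun b => ?_)
      exact RingHom.congr_fun (hgu (g'.comp (Ideal.Quotient.mk _))
        (RingHom.ext fun a => RingHom.congr_fun hg' a)) b
  let Φ : B →ₐ[A] ∀ i, B ⧸ Ideal.span {1 - e i} :=
    Pi.algHom A _ fun i => Ideal.Quotient.mkₐ A (Ideal.span {1 - e i})
  exact ⟨(AlgEquiv.ofBijective Φ hcomp.bijective_pi).trans (AlgEquiv.piCongrRight fun i =>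
    (Groth.Agent.HenselLib.exists_algEquiv_of_isPairHenselization (hpair i) (hBi i)).some)⟩

end Groth.Agent.S1995
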