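import Groth.Statements.S19967
import Mathlib.AlgebraicGeometry.Morphisms.Flat
import Groth.Agent.FlatDescent.Point
import Mathlib.AlgebraicGeometry.Morphisms.ClosedImmersion
import Mathlib.RingTheory.Flat.TorsionFree
import Mathlib.AlgebraicGeometry.IdealSheaf.Functorial
-- import your own Groth.Agent.* helpers here

set_option autoImplicit false
universe u
open CategoryTheory CategoryTheory.Limits AlgebraicGeometry
open FlatMor

namespace Groth.Agent.S19967

theorem key {X Y : Scheme.{u}} (φ : X ⟶ Y) [IsClosedImmersion φ] (h : φ.ker = ⊥) : IsIso φ := by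
  exact IsClosedImmersion.isIso_iff_ker_eq_bot.mpr h

theorem germ_eq_zero {T P : Scheme.{u}} (p : T ⟶ P) [Flat p] {V : P.Opens} (hV : IsAffineOpen V)
    {b : Γ(P, V)} (hb : b ∈ p.ker.ideal ⟨V, hV⟩) (x : P) (hxV : x ∈ V) (hx : ∃ t, p t = x) :
    P.presheaf.germ V x hxV b = 0 := by
  obtain ⟨t, rfl⟩ := hx
  have hb : (p.app V).hom b = 0 := p.ideal_ker_le ⟨V, hV⟩ hb
  have h : (p.stalkMap t).hom (P.presheaf.germ V (p t) hxV b) = 0 := by
    refine (Scheme.Hom.germ_stalkMap_apply p V t hxV b).trans ?_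
    erw [hb]
    exact map_zero _
  have hfl : (p.stalkMap t).hom.Flat := Flat.stalkMap p t
  letI := (p.stalkMap t).hom.toAlgebra
  haveI : Module.Flat (P.presheaf.stalk (p t)) (T.presheaf.stalk t) := hfl
  haveI : IsLocalHom (algebraMap (P.presheaf.stalk (p t)) (T.presheaf.stalk t)) :=
    inferInstanceAs (IsLocalHom (p.stalkMap t).hom)
  haveI := Module.FaithfullyFlat.of_flat_of_isLocalHom (A := P.presheaf.stalk (p t)) (B := T.presheaf.stalk t)
  exact FaithfulSMul.algebraMap_injective (P.presheaf.stalk (p t)) (T.presheaf.stalk t) (h.trans (map_zero _).symm)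

theorem genericPoint_prime {C : Scheme.{u}} [IsIntegral C] {U : C.Opens} (hU : IsAffineOpen U)
    (hgU : genericPoint C ∈ U) : (hU.primeIdealOf ⟨genericPoint C, hgU⟩).asIdeal = ⊥ := by
  haveI : Nonempty U := ⟨⟨_, hgU⟩⟩
  rw [hU.primeIdealOf_genericPoint, genericPoint_eq_bot_of_affine]
  rfl

theorem eq_zero_of_torsionFree {P C : Scheme.{u}} [IsIntegral C] (q : P ⟶ C) [Flat q] {U : C.Opens}
    (hU : IsAffineOpen U) {V : P.Opens} (hV : IsAffineOpen V) (e : V ≤ q ⁻¹ᵁ U) (b : Γ(P, V))
    (hb : ∀ (x : P) (hxV : x ∈ V), q x = genericPoint C → P.presheaf.germ V x hxV b = 0) : b = 0 := by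
  rcases isEmpty_or_nonempty U with hE | hN
  · have hVE : V = ⊥ := TopologicalSpace.Opens.ext (Set.eq_empty_iff_forall_notMem.mpr fun z hz => hE.elim ⟨q z, e hz⟩)
    subst hVE
    exact Subsingleton.elim _ _
  have hfl := q.flat_appLE hU hV e
  algebraize [(q.appLE U V e).hom]
  haveI : IsDomain Γ(C, U) := IsIntegral.component_integral U
  by_cases hz : ∃ a : Γ(C, U), a ≠ 0 ∧ algebraMap Γ(C, U) Γ(P, V) a * b = 0
  · obtain ⟨a, ha, hab⟩ := hz
    have := Module.Flat.isSMulRegular_of_isRegular (M := Γ(P, V)) (isRegular_of_ne_zero ha)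
    exact this ((Algebra.smul_def a b).trans (hab.trans (smul_zero a).symm))
  simp only [not_exists, not_and] at hz
  let S₀ : Submonoid Γ(P, V) := (nonZeroDivisors Γ(C, U)).map (algebraMap Γ(C, U) Γ(P, V)).toMonoidHom
  let I : Ideal Γ(P, V) := Submodule.colon ⊥ {b}
  have hd : Disjoint (I : Set Γ(P, V)) (S₀ : Set Γ(P, V)) := by
    refine Set.disjoint_left.mpr fun s hsI hsS => ?_
    obtain ⟨a, ha, rfl⟩ := hsS
    exact hz a (nonZeroDivisors.ne_zero ha) (by simpa [I, Submodule.mem_colon_singleton] using hsI)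
  obtain ⟨Q, hQp, hIQ, hQd⟩ := Ideal.exists_le_prime_disjoint I S₀ hd
  let x : P := hV.fromSpec ⟨Q, hQp⟩
  have hxV : x ∈ V := by
    rw [← SetLike.mem_coe, ← hV.range_fromSpec]; exact ⟨_, rfl⟩
  have hQ : hV.primeIdealOf ⟨x, hxV⟩ = (⟨Q, hQp⟩ : PrimeSpectrum _) :=
    hV.fromSpec.isOpenEmbedding.injective (hV.fromSpec_primeIdealOf _)
  have hcomap : Q.comap (algebraMap Γ(C, U) Γ(P, V)) = ⊥ := by
    refine eq_bot_iff.mpr fun a ha => by_contra fun h0 => ?_
    exact Set.disjoint_left.mp hQd ha ⟨a, mem_nonZeroDivisors_iff_ne_zero.mpr h0, rfl⟩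
  have hqx : q x = genericPoint C := by
    have h1 := IsAffineOpen.comap_primeIdealOf_appLE (f := q) (x := x) U hU V hV e hxV
    rw [hQ] at h1
    have hgU : genericPoint C ∈ U := ((genericPoint_spec C).mem_open_set_iff U.isOpen).mpr (by
      obtain ⟨u⟩ := hN; exact ⟨u.1, trivial, u.2⟩)
    have h2 := congrArg (fun p => hU.fromSpec p) h1
    simp only [hU.fromSpec_primeIdealOf] at h2
    rw [← h2]
    refine (congrArg (fun p => hU.fromSpec p) (PrimeSpectrum.ext (hcomap.trans ?_))).trans (hU.fromSpec_primeIdealOf ⟨_, hgU⟩)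
    exact (genericPoint_prime hU hgU).symm
  have h3 := hb x hxV hqx
  letI := TopCat.Presheaf.algebra_section_stalk P.presheaf (⟨x, hxV⟩ : V)
  haveI := hV.isLocalization_stalk ⟨x, hxV⟩
  obtain ⟨⟨c, hc⟩, hcb⟩ := (IsLocalization.map_eq_zero_iff (hV.primeIdealOf ⟨x, hxV⟩).asIdeal.primeCompl
    (P.presheaf.stalk x) b).mp h3
  exact absurd (hQ ▸ hIQ (show c ∈ I by simpa [I, Submodule.mem_colon_singleton] using hcb)) hc

/-- Let f : S' → S be a flat morphism of locally Noetherian schemes, i : C → S and i' : C' → S' closed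
immersions with C and C' integral, and g : C' → C with g ≫ i = i' ≫ f. Let φ : C' → C ×_S S' be the
induced morphism and η ∈ S the image of the generic point of C. If φ becomes an isomorphism after
base change along the canonical morphism Spec O_{S,η} → S (that is, after pulling back to (C ×_S S')
×_S Spec O_{S,η}), then φ is an isomorphism. (In the source S and S' are excellent surfaces over an
algebraically closed field, C and C' regular curves not inside the singular loci, and the
isomorphism over Spec O_{S,η} is part of the definition of a morphism of surface-curve pairs; those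
extra hypotheses play no part.) -/
theorem result
    {S S' C C' : Scheme.{u}} [IsLocallyNoetherian S] [IsLocallyNoetherian S']
    (f : S' ⟶ S) [Flat f] (i : C ⟶ S) [IsClosedImmersion i] [IsIntegral C]
    (i' : C' ⟶ S') [IsClosedImmersion i'] [IsIntegral C']
    (g : C' ⟶ C) (hsq : g ≫ i = i' ≫ f)
    (hgen : IsIso (pullback.snd (pullback.lift g i' hsq)
      (pullback.fst (pullback.fst i f ≫ i) (S.fromSpecStalk (i.base (genericPoint C)))))) :
    IsIso (pullback.lift g i' hsq) := by
  let φ := pullback.lift g i' hsq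
  haveI : IsClosedImmersion (φ ≫ pullback.snd i f) := by rw [pullback.lift_snd]; infer_instance
  haveI : IsClosedImmersion φ := IsClosedImmersion.of_comp φ (pullback.snd i f)
  let η : S := i.base (genericPoint C)
  let p₁ := pullback.fst (pullback.fst i f ≫ i) (S.fromSpecStalk η)
  haveI : Flat (S.fromSpecStalk η) := Groth.FlatDescent.flat_fromSpecStalk η
  haveI : AlgebraicGeometry.Flat p₁ := MorphismProperty.of_isPullback (P := @AlgebraicGeometry.Flat) (IsPullback.of_hasPullback (pullback.fst i f ≫ i) (S.fromSpecStalk η)).flip inferInstance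
  haveI : IsIso (pullback.snd φ p₁) := hgen
  have hle : φ.ker ≤ p₁.ker := by
    have : p₁ = (inv (pullback.snd φ p₁) ≫ pullback.fst φ p₁) ≫ φ := by
      rw [Category.assoc, pullback.condition (f := φ) (g := p₁), IsIso.inv_hom_id_assoc]
    rw [this]
    exact Scheme.Hom.le_ker_comp _ φ
  have hker : φ.ker = ⊥ := by
    refine eq_bot_iff.mpr ?_
    refine Scheme.IdealSheafData.le_of_iSup_eq_top (fun p : {p : C.affineOpens × (pullback i f).affineOpens //
      p.2.1 ≤ pullback.fst i f ⁻¹ᵁ p.1.1} => p.1.2) ?_ fun p => ?_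
    · refine top_le_iff.mp fun z _ => ?_
      obtain ⟨_, ⟨U, hU, rfl⟩, hzU, -⟩ :=
        C.isBasis_affineOpens.exists_subset_of_mem_open (Set.mem_univ (pullback.fst i f z)) isOpen_univ
      obtain ⟨_, ⟨V, hV, rfl⟩, hzV, hVU⟩ := (pullback i f).isBasis_affineOpens.exists_subset_of_mem_open
        (show z ∈ pullback.fst i f ⁻¹ᵁ U from hzU) (pullback.fst i f ⁻¹ᵁ U).isOpen
      exact TopologicalSpace.Opens.mem_iSup.mpr ⟨⟨(⟨U, hU⟩, ⟨V, hV⟩), hVU⟩, hzV⟩
    · obtain ⟨⟨⟨U, hU⟩, ⟨V, hV⟩⟩, e⟩ := p
      intro b hb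
      exact eq_zero_of_torsionFree (pullback.fst i f) hU hV e b fun x hxV hx =>
        germ_eq_zero p₁ hV (hle ⟨V, hV⟩ hb) x hxV
          (Scheme.Pullback.exists_preimage_pullback (f := pullback.fst i f ≫ i) (g := S.fromSpecStalk η) x
            (IsLocalRing.closedPoint _) (by
              rw [Scheme.Hom.comp_apply, hx]
              exact (S.fromSpecStalk_closedPoint).symm) |>.imp fun t ht => ht.1)
  exact key φ hker

end Groth.Agent.S19967
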