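import Groth.Statements.S19968
-- import your own Groth.Agent.* helpers here
import Groth.Agent.InvPow.SecTwistExtend

set_option autoImplicit false
universe u
open CategoryTheory AlgebraicGeometry Opposite
open LinSer

namespace Groth.Agent.S19968

/-- Rational points impose at most one condition each on a complete linear system. Let k be a field, X a
scheme over k, L an invertible O_X-module, and p_1, …, p_n morphisms Spec k → X over k (k-rational
points). Suppose there are n + 1 global sections of L, given as morphisms t_0, …, t_n : O_X → L,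
whose values in Γ(X, L) are linearly independent over k. Then there is a nonzero morphism s : O_X →
L such that no p_i lands in the open X_s where s generates L; that is, s vanishes at every p_i and
the p_i lie on a common member of the complete linear system of L. (The source has X an irreducible
projective variety over the complex numbers, L base-point-free and the points closed, and phrases
this as surjectivity of the incidence correspondence onto X^n for n at most the dimension of the
linear system; only rationality of the points and the dimension count are used, and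
base-point-freeness plays no part in this item.) -/
theorem result
    (k : Type u) [Field k] (X : Scheme.{u}) [X.Over (Spec (CommRingCat.of k))]
    (L : X.Modules) (hL : PicF.IsInvertible L)
    (n : ℕ) (p : Fin n → (Spec (CommRingCat.of k) ⟶ X))
    (hp : ∀ i, p i ≫ (X ↘ Spec (CommRingCat.of k)) = 𝟙 _)
    (t : Fin (n + 1) → (Coh.structureModule X ⟶ L))
    (ht : LinSer.LinIndep k X L (fun j => (L.unitHomEquiv (t j)).val (op ⊤))) :
    ∃ s : Coh.structureModule X ⟶ L, s ≠ 0 ∧
      ∀ i, (p i) (IsLocalRing.closedPoint k) ∉ CohB1.genLocus L s := by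
  classical
  let σ : Fin (n + 1) → Γ(L, ⊤) := fun j => SecTwist.val (t j) ⊤
  let x : Fin n → X := fun i => (p i) (IsLocalRing.closedPoint k)
  choose V hxV ℓ hℓ using fun i => InvBasic.exists_isBasis hL (x i)
  choose c hc using fun i j => InvPow.exists_coef (hℓ i) (ProjUniv.gres L (σ j) (V i))
  have hle : ∀ i, (⊤ : (Spec (CommRingCat.of k)).Opens) ≤ (p i) ⁻¹ᵁ V i := fun i y _ => by
    show (p i) y ∈ V i
    rw [show y = IsLocalRing.closedPoint k from Subsingleton.elim (α := PrimeSpectrum k) _ _]
    exact hxV i
  let φ : ∀ i, Γ(X, V i) →+* k := fun i =>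
    ((Scheme.ΓSpecIso (CommRingCat.of k)).hom.hom).comp ((p i).appLE (V i) ⊤ (hle i)).hom
  have hφk : ∀ i (a : k), φ i (ProjUniv.resR le_top (Coh.toGlobal (X ↘ Spec (CommRingCat.of k)) a)) = a := fun i a => by
    show ((X.presheaf.map (homOfLE le_top).op ≫ (p i).appLE (V i) ⊤ (hle i)) ≫ (Scheme.ΓSpecIso (CommRingCat.of k)).hom)
      ((X ↘ Spec (CommRingCat.of k)).appTop ((Scheme.ΓSpecIso (CommRingCat.of k)).inv a)) = a
    rw [Scheme.Hom.map_appLE, Scheme.Hom.appLE]
    erw [CategoryTheory.Functor.map_id, Category.comp_id]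
    show (((X ↘ Spec (CommRingCat.of k)).appTop ≫ (p i).appTop) ≫ (Scheme.ΓSpecIso (CommRingCat.of k)).hom)
      ((Scheme.ΓSpecIso (CommRingCat.of k)).inv a) = a
    rw [← Scheme.Hom.comp_appTop, hp i, Scheme.Hom.id_appTop, Category.id_comp]
    exact ConcreteCategory.congr_hom (Scheme.ΓSpecIso (CommRingCat.of k)).inv_hom_id a
  let T : (Fin (n + 1) → k) →ₗ[k] (Fin n → k) := Fintype.linearCombination k fun j i => φ i (c i j)
  obtain ⟨a, haT, ha0⟩ : ∃ a, T a = 0 ∧ a ≠ 0 := by
    have : ¬ Function.Injective T := fun h => by
      have := LinearMap.finrank_le_finrank_of_injective h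
      rw [Module.finrank_fin_fun, Module.finrank_fin_fun] at this
      omega
    rw [← LinearMap.ker_eq_bot, ← Ne, Submodule.ne_bot_iff] at this
    obtain ⟨a, ha, ha0⟩ := this
    exact ⟨a, ha, ha0⟩
  let τ : Γ(L, ⊤) := ∑ j, (show Γ(X, ⊤) from Coh.toGlobal (X ↘ Spec (CommRingCat.of k)) (a j)) • σ j
  let s := ProjTwist.globalHom L τ
  refine ⟨s, fun hs => ha0 (ht a ?_), fun i hmem => ?_⟩
  · have h0 : τ = 0 := by
      have h1 : InvPow.sec s ⊤ = 0 := by
        simp only [InvPow.sec, hs]
        rfl
      rw [← h1]
      exact ((ProjTwist.globalHom_app L τ ⊤ (1 : Γ(X, ⊤))).trans ((one_smul _ _).trans (QCohLib.map_self L _ τ))).symm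
    exact h0
  · rw [InvPow.genLocus_globalHom hL] at hmem
    let b : Γ(X, V i) := ∑ j, ProjUniv.resR le_top (Coh.toGlobal (X ↘ Spec (CommRingCat.of k)) (a j)) * c i j
    have hb : ProjUniv.gres L τ (V i) = b • ℓ i := by
      show ProjUniv.res L le_top τ = _
      rw [Finset.sum_smul]
      refine (map_sum ((L.presheaf.map (homOfLE le_top).op).hom) _ _).trans (Finset.sum_congr rfl fun j _ => ?_)
      show ProjUniv.res L le_top (_ • σ j) = _
      rw [ProjUniv.res_smul, mul_smul, ← hc i j]
    have hbx : x i ∈ X.basicOpen b := (InvPow.genOpen_inf_eq_basicOpen hL (hℓ i) hb).le ⟨hmem, hxV i⟩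
    have hu : IsUnit (φ i b) := by
      suffices hu0 : IsUnit ((p i).appLE (V i) ⊤ (hle i) b) from hu0.map (Scheme.ΓSpecIso (CommRingCat.of k)).hom.hom
      have htop : (Spec (CommRingCat.of k)).basicOpen ((p i).appLE (V i) ⊤ (hle i) b) = ⊤ := by
        refine top_unique fun y _ => ?_
        have h2 : (p i) ⁻¹ᵁ X.basicOpen b ⊓ ⊤ = (Spec (CommRingCat.of k)).basicOpen ((p i).appLE (V i) ⊤ (hle i) b) := by
          rw [Scheme.basicOpen_appLE]; exact inf_comm _ _
        refine h2.le ⟨?_, trivial⟩
        show (p i) y ∈ X.basicOpen b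
        rw [show y = IsLocalRing.closedPoint k from Subsingleton.elim (α := PrimeSpectrum k) _ _]
        exact hbx
      have h3 := ((Spec (CommRingCat.of k)).mem_basicOpen ((p i).appLE (V i) ⊤ (hle i) b) (IsLocalRing.closedPoint k) trivial).1 (htop.ge trivial)
      let e := (Scheme.ΓSpecIso (CommRingCat.of k)).commRingCatIsoToRingEquiv
      refine (MulEquiv.isUnit_map (f := e)).1 ((isUnit_iff_ne_zero (a := (e _ : k))).2 ?_)
      intro h4
      rw [(map_eq_zero_iff e e.injective).1 h4, map_zero] at h3
      exact not_isUnit_zero h3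
    refine not_isUnit_zero (M₀ := k) ?_
    have hzero : φ i b = 0 := by
      simp only [b, map_sum, map_mul, hφk]
      have := congrFun haT i
      simpa [T, Fintype.linearCombination_apply] using this
    rwa [hzero] at hu

end Groth.Agent.S19968
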