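import Groth.Statements.S19969
import Groth.Agent.EssFree.Apps
-- import your own Groth.Agent.* helpers here

set_option autoImplicit false
universe u
open CategoryTheory MonoidalCategory CartesianMonoidalCategory AlgebraicGeometry
open AlgGrp

namespace Groth.Agent.S19969

open CategoryTheory CategoryTheory.Limits AlgebraicGeometry in
theorem isClosedImmersion_pullback_diagonal {R : CommRingCat.{u}} {X P : Scheme.{u}} (h : X ⟶ Spec R)
    (Φ : P ⟶ pullback h h)
    (hΦ : ∀ p : P, ∀ U : X.Opens, pullback.snd h h (Φ p) ∈ U → pullback.fst h h (Φ p) ∈ U) :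
    IsClosedImmersion (pullback.snd (pullback.diagonal h) Φ) := by
  haveI : IsImmersion (pullback.snd (pullback.diagonal h) Φ) :=
    MorphismProperty.pullback_snd _ _ (inferInstance : IsImmersion (pullback.diagonal h))
  refine IsClosedImmersion.of_isPreimmersion _ ?_
  rw [Scheme.Pullback.range_snd, ← isOpen_compl_iff, isOpen_iff_forall_mem_open]
  intro p hp
  obtain ⟨_, ⟨U, hU, rfl⟩, hpU, -⟩ := X.isBasis_affineOpens.exists_subset_of_mem_open
    (Set.mem_univ (pullback.snd h h (Φ p))) isOpen_univ
  haveI : IsAffine (U : Scheme.{u}) := hU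
  let j := pullback.map ((Scheme.Opens.ι U) ≫ h) ((Scheme.Opens.ι U) ≫ h) h h (Scheme.Opens.ι U) (Scheme.Opens.ι U) (𝟙 _) (by simp) (by simp)
  haveI : IsOpenImmersion j := inferInstanceAs (IsOpenImmersion (pullback.map _ _ _ _ _ _ _ _ _))
  have hC : IsClosed (Set.range (pullback.diagonal ((Scheme.Opens.ι U) ≫ h))) :=
    (IsClosedImmersion.base_closed (f := pullback.diagonal ((Scheme.Opens.ι U) ≫ h))).isClosed_range
  have hmem : Φ p ∈ Set.range j := by
    rw [Scheme.Pullback.range_map]
    exact ⟨by rw [Set.mem_preimage, Scheme.Opens.range_ι]; exact hΦ p U hpU,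
      by rw [Set.mem_preimage, Scheme.Opens.range_ι]; exact hpU⟩
  have hd : pullback.diagonal ((Scheme.Opens.ι U) ≫ h) ≫ j = (Scheme.Opens.ι U) ≫ pullback.diagonal h := by
    apply pullback.hom_ext
    · simp only [j, Category.assoc, pullback.map, pullback.lift_fst, pullback.diagonal_fst, pullback.diagonal_fst_assoc, Category.comp_id]
    · simp only [j, Category.assoc, pullback.map, pullback.lift_snd, pullback.diagonal_snd, pullback.diagonal_snd_assoc, Category.comp_id]
  refine ⟨Φ ⁻¹' (j '' (Set.range (pullback.diagonal ((Scheme.Opens.ι U) ≫ h)))ᶜ), ?_,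
    (j.isOpenEmbedding.isOpenMap _ hC.isOpen_compl).preimage Φ.continuous, ?_⟩
  · rintro q ⟨z, hz, hzq⟩ ⟨x, hx⟩
    have hxU : x ∈ U := by
      have hj1 : j ≫ pullback.fst h h = pullback.fst (Scheme.Opens.ι U ≫ h) (Scheme.Opens.ι U ≫ h) ≫ Scheme.Opens.ι U :=
        pullback.lift_fst _ _ _
      have h1 : pullback.fst h h (j z) = Scheme.Opens.ι U (pullback.fst (Scheme.Opens.ι U ≫ h) (Scheme.Opens.ι U ≫ h) z) := by
        rw [← Scheme.Hom.comp_apply, ← Scheme.Hom.comp_apply, hj1]
      rw [hzq, ← hx, ← Scheme.Hom.comp_apply, pullback.diagonal_fst] at h1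
      exact (show x = _ from h1) ▸ (pullback.fst ((Scheme.Opens.ι U) ≫ h) ((Scheme.Opens.ι U) ≫ h) z).2
    refine hz ⟨⟨x, hxU⟩, j.isOpenEmbedding.injective ?_⟩
    rw [hzq, ← Scheme.Hom.comp_apply, hd, Scheme.Hom.comp_apply, ← hx]
    rfl
  · obtain ⟨z, hz⟩ := hmem
    refine ⟨z, ?_, hz⟩
    rintro ⟨x, rfl⟩
    exact hp ⟨(Scheme.Opens.ι U) x, by rw [← hz, ← Scheme.Hom.comp_apply, ← Scheme.Hom.comp_apply, hd]⟩


/-- Let k be a field, X and Y arbitrary k-schemes and a : Y ×_k X → X a k-morphism such that every open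
subscheme U of X is stable under a, in the sense that the preimage of U under the projection Y ×_k X
→ X is contained in the preimage of U under a. Consider the subfunctor X^a of X whose T-valued
points, for a k-scheme T, are the k-morphisms x : T → X with a ∘ (id_Y × x) = x ∘ pr_T as morphisms
Y ×_k T → X. Then X^a is represented by a closed subscheme of X: there is a closed immersion j : Z →
X over k lying in X^a(Z) through which every element of X^a(T) factors. Neither separatedness of X
nor any finiteness condition on X or Y is assumed. -/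
theorem result (k : Type u) [Field k]
    (X Y : Over (Spec (CommRingCat.of k))) (a : Y ⊗ X ⟶ X)
    (hstab : ∀ U : X.left.Opens, (CartesianMonoidalCategory.snd Y X).left ⁻¹ᵁ U ≤ a.left ⁻¹ᵁ U) :
    ∃ (Z : Over (Spec (CommRingCat.of k))) (j : Z ⟶ X), IsClosedImmersion j.left ∧
      (Y ◁ j) ≫ a = CartesianMonoidalCategory.snd Y Z ≫ j ∧
      ∀ (T : Over (Spec (CommRingCat.of k))) (x : T ⟶ X),
        (Y ◁ x) ≫ a = CartesianMonoidalCategory.snd Y T ≫ x → ∃ z : T ⟶ Z, z ≫ j = x := by
  let u := a
  let v := CartesianMonoidalCategory.snd Y X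
  let y : X ⟶ X ⊗ X := lift (𝟙 X) (𝟙 X)
  have hcl : IsClosedImmersion (Limits.pullback.snd y.left (lift u v).left) := by
    refine isClosedImmersion_pullback_diagonal X.hom (lift u v).left fun p U hp => ?_
    have e1 : (lift u v).left ≫ Limits.pullback.fst X.hom X.hom = a.left :=
      congrArg CommaMorphism.left (lift_fst u v)
    have e2 : (lift u v).left ≫ Limits.pullback.snd X.hom X.hom = v.left :=
      congrArg CommaMorphism.left (lift_snd u v)
    rw [← Scheme.Hom.comp_apply, e2] at hp
    rw [← Scheme.Hom.comp_apply, e1]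
    exact hstab U hp
  have H : ∃ (T : Over (Spec (CommRingCat.of k))) (t : T ⟶ X), IsClosedImmersion t.left ∧
      ∀ (S' : Over (Spec (CommRingCat.of k))) (g : S' ⟶ X), (∃ z : S' ⟶ T, z ≫ t = g) ↔
        ∀ (S'' : Over (Spec (CommRingCat.of k))) (s : S'' ⟶ S') (x : S'' ⟶ Y),
          lift x (s ≫ g) ≫ u = lift x (s ≫ g) ≫ v := by
    obtain ⟨T, t, ht, -, hT⟩ := EssFree.exists_closed_factLocus_of (Q := False) (lift u v) y (by
      obtain ⟨T, t, ht, -, hT⟩ := EssFree.exists_closed_full (f := Limits.pullback.snd Y.hom X.hom)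
        (j := Limits.pullback.snd y.left (lift u v).left)
        (EssFree.isEssentiallyFree_pullback_snd _ _ (EssFree.isEssentiallyFree_field Y.hom))
      exact ⟨T, t, ht, fun h => h.elim, fun g => hT g⟩)
    refine ⟨T, t, ht, fun S' g => (hT S' g).trans
      (forall_congr' fun S'' => forall_congr' fun s => forall_congr' fun x => ?_)⟩
    constructor
    · rintro ⟨x', hx'⟩
      have h1 := congrArg (· ≫ CartesianMonoidalCategory.fst X X) hx'
      have h2 := congrArg (· ≫ CartesianMonoidalCategory.snd X X) hx'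
      simp only [y, Category.assoc, lift_fst, lift_snd, Category.comp_id] at h1 h2
      exact h1.symm.trans h2
    · exact fun h => ⟨lift x (s ≫ g) ≫ u, by apply CartesianMonoidalCategory.hom_ext <;> simp [y, h]⟩
  obtain ⟨T, t, ht, hT⟩ := H
  refine ⟨T, t, ht, ?_, fun S' g hg => (hT S' g).2 fun S'' s x => ?_⟩
  · have := (hT T t).1 ⟨𝟙 T, Category.id_comp t⟩ (Y ⊗ T) (CartesianMonoidalCategory.snd Y T) (CartesianMonoidalCategory.fst Y T)
    have hw : lift (CartesianMonoidalCategory.fst Y T) (CartesianMonoidalCategory.snd Y T ≫ t) = Y ◁ t := by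
      apply CartesianMonoidalCategory.hom_ext <;> simp
    rwa [hw, whiskerLeft_snd] at this
  · have hw : lift x (s ≫ g) = lift x s ≫ (Y ◁ g) := by
      apply CartesianMonoidalCategory.hom_ext <;> simp
    rw [hw, Category.assoc, Category.assoc, hg, whiskerLeft_snd]

end Groth.Agent.S19969
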