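import Groth.Statements.S19974
import Mathlib.Algebra.TrivSqZeroExt.Basic

set_option autoImplicit false
universe u v w x
open scoped BigOperators
open DefMod

namespace Groth.Agent.S19974
set_option maxHeartbeats 1000000

/-- Let K be a field of characteristic 0, O a commutative K-algebra with a K-linear derivation δ, and D
the ring of differential operators O[∂], presented abstractly as a K-algebra D with an algebra map ι
: O → D and an element ∂ of D such that ∂ ι(f) = ι(f) ∂ + ι(δ f) for every f in O and such that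
every element of D is in a unique way a finite sum of terms ι(f_i) ∂^i. Let E be a left D-module,
given as a K-vector space with a K-algebra map ρ : D → End_K(E), which is finite free as an
O-module. A K-derivation of D with values in the D-bimodule End_K(E) is a K-linear map s with s(PQ)
= s(P) ρ(Q) + ρ(P) s(Q); a K-derivation of O with values in End_K(E) is a K-linear map r with r(fg)
= r(f) ρ(ι g) + ρ(ι f) r(g). Then: (a) for every K-derivation s of D into End_K(E), the pair (r, v)
= (s ∘ ι, s(∂)) satisfies the identity [r(f), ρ(∂)] + [ρ(ι f), v] + r(δ f) = 0 for all f in O; (b)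
conversely, for every K-derivation r of O into End_K(E) and every v in End_K(E) satisfying that
identity for all f, there is exactly one K-derivation s of D into End_K(E) with s ∘ ι = r and s(∂) =
v. In other words s ↦ (s ∘ ι, s(∂)) maps the K-derivations of D injectively onto the pairs
satisfying the identity. -/
theorem result
    (K : Type u) [Field K] [CharZero K]
    (O : Type v) [CommRing O] [Algebra K O] (δ : Derivation K O O)
    (D : Type w) [Ring D] [Algebra K D] (ι : O →ₐ[K] D) (d : D)
    (hd : ∀ f : O, d * ι f = ι f * d + ι (δ f))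
    (hbasis : Function.Bijective (fun c : ℕ →₀ O => c.sum (fun i f => ι f * d ^ i)))
    (E : Type x) [AddCommGroup E] [Module K E] (ρ : D →ₐ[K] Module.End K E)
    (hE : ∃ (n : ℕ) (b : Fin n → E), Function.Bijective (fun c : Fin n → O => ∑ i, ρ (ι (c i)) (b i))) :
    (∀ s : D →ₗ[K] Module.End K E, (∀ P Q : D, s (P * Q) = s P * ρ Q + ρ P * s Q) →
      ∀ f : O, (s (ι f) * ρ d - ρ d * s (ι f)) + (ρ (ι f) * s d - s d * ρ (ι f)) + s (ι (δ f)) = 0) ∧
    ∀ (r : O →ₗ[K] Module.End K E) (v : Module.End K E),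
      (∀ f g : O, r (f * g) = r f * ρ (ι g) + ρ (ι f) * r g) →
      (∀ f : O, (r f * ρ d - ρ d * r f) + (ρ (ι f) * v - v * ρ (ι f)) + r (δ f) = 0) →
      ∃! s : D →ₗ[K] Module.End K E,
        (∀ P Q : D, s (P * Q) = s P * ρ Q + ρ P * s Q) ∧ s ∘ₗ ι.toLinearMap = r ∧ s d = v := by
  classical
  refine ⟨fun s hs f => ?_, fun r v hr hid => ?_⟩
  · have h := congrArg s (hd f)
    rw [map_add, hs, hs] at h
    rw [← sub_eq_zero] at h
    rw [← neg_zero, ← h]
    abel
  have hr1 : r 1 = 0 := by
    have := hr 1 1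
    rw [one_mul, map_one ι, map_one ρ, mul_one, one_mul] at this
    simpa using this
  let φ : O →ₗ[K] TrivSqZeroExt (Module.End K E) (Module.End K E) :=
    { toFun := fun f => TrivSqZeroExt.inl (ρ (ι f)) + TrivSqZeroExt.inr (r f)
      map_add' := fun f g => TrivSqZeroExt.ext (by simp) (by simp)
      map_smul' := fun c f => TrivSqZeroExt.ext (by simp) (by simp) }
  have hφ1 : φ 1 = 1 := TrivSqZeroExt.ext (by simp [φ]) (by simp [φ, hr1])
  have hφm : ∀ f g, φ (f * g) = φ f * φ g := fun f g =>
    TrivSqZeroExt.ext (by simp [φ])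
      (by simp [φ, hr, TrivSqZeroExt.snd_mul, smul_eq_mul, MulOpposite.smul_eq_mul_unop]; abel)
  let X : TrivSqZeroExt (Module.End K E) (Module.End K E) := TrivSqZeroExt.inl (ρ d) + TrivSqZeroExt.inr v
  have hX : ∀ f, X * φ f = φ f * X + φ (δ f) := by
    intro f
    refine TrivSqZeroExt.ext ?_ ?_
    · simp [φ, X]
      rw [← map_mul, hd, map_add, map_mul]
    · have h := hid f
      simp [φ, X, TrivSqZeroExt.snd_mul, smul_eq_mul, MulOpposite.smul_eq_mul_unop]
      rw [← sub_eq_zero] at h ⊢
      rw [← neg_zero, ← h]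
      abel
  let L : (ℕ →₀ O) →ₗ[K] D :=
    Finsupp.lsum K (fun i => (LinearMap.mulRight K (d ^ i)).comp ι.toLinearMap)
  have hL : ∀ c, L c = c.sum (fun i f => ι f * d ^ i) := fun c => rfl
  let e := LinearEquiv.ofBijective L hbasis
  let M : (ℕ →₀ O) →ₗ[K] TrivSqZeroExt (Module.End K E) (Module.End K E) :=
    Finsupp.lsum K (fun i => (LinearMap.mulRight K (X ^ i)).comp φ)
  let Ψ : D →ₗ[K] TrivSqZeroExt (Module.End K E) (Module.End K E) := M.comp e.symm.toLinearMap
  have hΨ : ∀ i f, Ψ (ι f * d ^ i) = φ f * X ^ i := by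
    intro i f
    have he : e.symm (ι f * d ^ i) = Finsupp.single i f := by
      rw [LinearEquiv.symm_apply_eq]
      show _ = L _
      simp [L]
    show M (e.symm (ι f * d ^ i)) = _
    rw [he]
    simp [M]
  have ind : ∀ (p : D → Prop), p 0 → (∀ a b, p a → p b → p (a + b)) →
      (∀ i f, p (ι f * d ^ i)) → ∀ P, p P := by
    intro p h0 hadd hb P
    obtain ⟨c, rfl⟩ := hbasis.2 P
    show p (L c)
    induction c using Finsupp.induction_linear with
    | zero => simpa using h0
    | add a b ha hb => simpa using hadd _ _ ha hb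
    | single i f => simpa [L] using hb i f
  have hΨι : ∀ f P, Ψ (ι f * P) = φ f * Ψ P := by
    intro f
    refine ind _ (by simp) (fun a b ha hb => by simp [mul_add, ha, hb]) (fun i g => ?_)
    rw [← mul_assoc, ← map_mul, hΨ, hΨ, hφm, mul_assoc]
  have hΨd : ∀ P, Ψ (d * P) = X * Ψ P := by
    refine ind _ (by simp) (fun a b ha hb => by simp [mul_add, ha, hb]) (fun i g => ?_)
    rw [← mul_assoc, hd, add_mul, mul_assoc, ← pow_succ', map_add, hΨ, hΨ, hΨ,
      ← mul_assoc, hX, add_mul, mul_assoc, ← pow_succ']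
  have hΨdi : ∀ (i : ℕ) P, Ψ (d ^ i * P) = X ^ i * Ψ P := by
    intro i
    induction i with
    | zero => simp
    | succ i ih => intro P; rw [pow_succ', mul_assoc, hΨd, ih, ← mul_assoc, ← pow_succ']
  have hmul : ∀ P Q, Ψ (P * Q) = Ψ P * Ψ Q := by
    refine ind _ (by simp) (fun a b ha hb => fun Q => by simp [add_mul, ha, hb]) (fun i f Q => ?_)
    rw [mul_assoc, hΨι, hΨdi, hΨ, mul_assoc]
  have hΨ0 : ∀ f, Ψ (ι f) = φ f := fun f => by simpa using hΨ 0 f
  have hΨ1 : Ψ d = X := by simpa [hφ1] using hΨ 1 1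
  have hfst : ∀ P, (Ψ P).fst = ρ P := by
    refine ind _ (by simp) (fun a b ha hb => by simp [ha, hb]) (fun i f => ?_)
    rw [hΨ]
    simp [φ, X, TrivSqZeroExt.fst_pow]
  let s : D →ₗ[K] Module.End K E := (TrivSqZeroExt.sndHom (Module.End K E) (Module.End K E)).restrictScalars K |>.comp Ψ
  have hs : ∀ P, s P = (Ψ P).snd := fun P => rfl
  have hder : ∀ P Q : D, s (P * Q) = s P * ρ Q + ρ P * s Q := by
    intro P Q
    rw [hs, hmul, TrivSqZeroExt.snd_mul, hfst, hfst]
    simp only [← hs, smul_eq_mul, MulOpposite.smul_eq_mul_unop, MulOpposite.unop_op]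
    exact add_comm _ _
  refine ⟨s, ⟨hder, ?_, ?_⟩, ?_⟩
  · ext f : 1
    simp [hs, hΨ0, φ]
  · simp [hs, hΨ1, X]
  · rintro t ⟨ht, htr, htd⟩
    have h0 : ∀ i : ℕ, t (d ^ i) = s (d ^ i) := by
      intro i
      induction i with
      | zero =>
        have e1 := ht 1 1
        have e2 := hder 1 1
        rw [one_mul, map_one ρ, mul_one, one_mul] at e1 e2
        simp at e1 e2
        simp [e1, e2]
      | succ i ih =>
        rw [pow_succ, ht, hder, ih, htd]
        simp [hs, hΨ1, X]
    refine LinearMap.ext (ind _ (by simp) (fun a b ha hb => by simp [ha, hb]) (fun i f => ?_))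
    rw [ht, hder, h0]
    have : t (ι f) = r f := LinearMap.congr_fun htr f
    rw [this]
    simp [hs, hΨ0, φ]

end Groth.Agent.S19974
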