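import Groth.Statements.S1999
import Groth.Agent.WildInertia.Basic
import Groth.Agent.WildInertia.Card

set_option autoImplicit false
universe u
open scoped Pointwise
open EtAlg

namespace Groth.Agent.S1999

/-- Parts (2)–(5) in the case of part (6): let A be a discrete valuation ring with fraction field K, L/K
a finite Galois extension with group G, B the integral closure of A in L, m a maximal ideal of B
whose residue field is separable over that of A, and e the ramification index of m over A. Let D be
the decomposition group (stabilizer of m), I the inertia group (elements acting trivially on B/m)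
and P the wild inertia group, here the elements of D acting trivially on B/m² (the description valid
in the separable residue field case). Then P ≤ I, P is normal in D, P is a p-group if the residue
characteristic is p > 0 and trivial if it is 0, and I/P is cyclic of order the prime-to-p part of e
and isomorphic to a subgroup of the e-th roots of unity of B/m — more precisely to the full group of
e-th roots of unity of B/m. -/
theorem result (A K L B : Type u) [CommRing A] [IsDomain A] [IsDiscreteValuationRing A]
    [CommRing B] [IsDomain B] [Field K] [Field L] [Algebra A K] [Algebra B L] [IsFractionRing A K] [IsFractionRing B L]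
    [Algebra A B] [Algebra K L] [Algebra A L] [IsScalarTower A K L] [IsScalarTower A B L] [IsIntegralClosure B A L]
    [FiniteDimensional K L] [IsGalois K L] (m : Ideal B) [m.IsMaximal]
    [Algebra.IsSeparable (A ⧸ m.comap (algebraMap A B)) (B ⧸ m)] :
    letI := IsIntegralClosure.MulSemiringAction A K L B
    let D : Subgroup (L ≃ₐ[K] L) := MulAction.stabilizer (L ≃ₐ[K] L) m
    let I : Subgroup (L ≃ₐ[K] L) := m.inertia (L ≃ₐ[K] L)
    let P : Subgroup (L ≃ₐ[K] L) := D ⊓ (m ^ 2).inertia (L ≃ₐ[K] L)
    let e : ℕ := Ideal.ramificationIdx' (IsLocalRing.maximalIdeal A) m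
    P ≤ I ∧ I ≤ D ∧ (P.subgroupOf D).Normal ∧
    (∀ p : ℕ, p.Prime → CharP (A ⧸ m.comap (algebraMap A B)) p → IsPGroup p P) ∧
    (CharZero (A ⧸ m.comap (algebraMap A B)) → P = ⊥) ∧
    (∀ [(P.subgroupOf I).Normal],
      IsCyclic (I ⧸ P.subgroupOf I) ∧
      (∀ p : ℕ, p.Prime → CharP (A ⧸ m.comap (algebraMap A B)) p → Nat.card (I ⧸ P.subgroupOf I) = e / p ^ e.factorization p) ∧
      (CharZero (A ⧸ m.comap (algebraMap A B)) → Nat.card (I ⧸ P.subgroupOf I) = e) ∧
      Nonempty (I ⧸ P.subgroupOf I ≃* ↥(rootsOfUnity e (B ⧸ m)))) := by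
  intro D I P e
  let _ := IsIntegralClosure.MulSemiringAction A K L B
  have := IsIntegralClosure.isDedekindDomain A K L B
  have : Module.Finite A B := IsIntegralClosure.finite A K L B
  have hgal : IsGaloisGroup (L ≃ₐ[K] L) A B := IsGaloisGroup.of_isFractionRing _ _ _ K L
  have : FaithfulSMul (L ≃ₐ[K] L) B := hgal.faithful
  have : Algebra.IsIntegral A B := IsIntegralClosure.isIntegral_algebra A L
  have hinj : Function.Injective (algebraMap A B) := by
    refine Function.Injective.of_comp (f := algebraMap B L) ?_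
    rw [← RingHom.coe_comp, ← IsScalarTower.algebraMap_eq, IsScalarTower.algebraMap_eq A K L]
    exact (algebraMap K L).injective.comp (IsFractionRing.injective A K)
  have : Module.IsTorsionFree A B := Module.isTorsionFree_iff_algebraMap_injective.mpr hinj
  have : Module.Free A B := Module.free_of_finite_type_torsion_free'
  set p₀ : Ideal A := m.comap (algebraMap A B) with hp₀
  have hp₀max : p₀.IsMaximal := Ideal.isMaximal_comap_of_isIntegral_of_isMaximal m
  have : m.LiesOver p₀ := ⟨rfl⟩
  have hp₀eq : p₀ = IsLocalRing.maximalIdeal A := IsLocalRing.eq_maximalIdeal hp₀max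
  have hp₀bot : p₀ ≠ ⊥ := hp₀eq ▸ IsDiscreteValuationRing.not_a_field A
  have hm : m ≠ ⊥ := fun h => hp₀bot <| by
    rw [hp₀, h, ← RingHom.ker_eq_comap_bot, RingHom.ker_eq_bot_iff_eq_zero]
    exact fun x hx => hinj (by simpa using hx)
  -- the ramification index is the order of the inertia group
  have hcardI : Nat.card I = e := by
    have h1 := WildInertia.card_inertia_eq_ramificationIdx (G := L ≃ₐ[K] L) p₀ m
    rw [h1]
    show m.ramificationIdx A = Ideal.ramificationIdx' (IsLocalRing.maximalIdeal A) m
    rw [← hp₀eq, Ideal.ramificationIdx'_eq_ramificationIdx p₀ m hp₀bot]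
  have hePos : 0 < e := hcardI ▸ Nat.card_pos
  have hPI : P ≤ I := inf_le_right.trans (WildInertia.sq_inertia_le m)
  have hID : I ≤ D := Ideal.inertia_le_stabilizer m
  have hsqD : (m ^ 2).inertia (L ≃ₐ[K] L) ≤ D := (WildInertia.sq_inertia_le m).trans hID
  have hPsq : P = (m ^ 2).inertia (L ≃ₐ[K] L) := inf_eq_right.mpr hsqD
  have hnormal : (P.subgroupOf D).Normal := by
    refine (Subgroup.normal_subgroupOf_iff (hPI.trans hID)).mpr fun h g hh hg => ?_
    rw [hPsq] at hh ⊢
    exact WildInertia.conj_mem_inertia (WildInertia.stabilizer_le_stabilizer_pow 2 hg) hh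
  -- transport of the residue characteristic
  let ι : A ⧸ p₀ →+* B ⧸ m := algebraMap (A ⧸ p₀) (B ⧸ m)
  have hfield : IsField (A ⧸ p₀) := (Ideal.Quotient.maximal_ideal_iff_isField_quotient p₀).mp hp₀max
  have hιinj : Function.Injective ι := Ideal.algebraMap_quotient_injective
  have hsmallP : ∀ p : ℕ, p.Prime → CharP (A ⧸ p₀) p → IsPGroup p P := by
    intro p hp hchar
    have : CharP (B ⧸ m) p := charP_of_injective_ringHom hιinj p
    rw [hPsq]
    refine WildInertia.isPGroup_sq_inertia hp ?_
    rw [← Ideal.Quotient.eq_zero_iff_mem, map_natCast, CharP.cast_eq_zero]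
  have hbotP : CharZero (A ⧸ p₀) → P = ⊥ := by
    intro hchar
    have : CharZero (B ⧸ m) := charZero_of_injective_ringHom hιinj
    rw [hPsq, Subgroup.eq_bot_iff_forall]
    intro σ hσ
    refine WildInertia.eq_one_of_orderOf_notMem hσ fun hmem => ?_
    rw [← Ideal.Quotient.eq_zero_iff_mem, map_natCast, Nat.cast_eq_zero] at hmem
    exact (orderOf_pos σ).ne' hmem
  refine ⟨hPI, hID, hnormal, hsmallP, hbotP, ?_⟩
  intro _
  obtain ⟨θ, hθ⟩ := WildInertia.exists_tame_character A (G := L ≃ₐ[K] L) hm
    (WildInertia.exists_separating_polynomial p₀ m)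
  have hker : θ.ker = P.subgroupOf I := by
    ext σ
    rw [MonoidHom.mem_ker, Subgroup.mem_subgroupOf, hPsq]
    exact hθ σ
  let φ : I ⧸ P.subgroupOf I ≃* θ.range :=
    (QuotientGroup.quotientMulEquivOfEq hker.symm).trans (QuotientGroup.quotientKerEquivRange θ)
  have hcardq : Nat.card (I ⧸ P.subgroupOf I) = Nat.card θ.range := Nat.card_congr φ.toEquiv
  have hsplit : e = Nat.card P * Nat.card θ.range := by
    have h := Subgroup.card_eq_card_quotient_mul_card_subgroup (P.subgroupOf I)
    rw [hcardI, hcardq, Nat.card_congr (Subgroup.subgroupOfEquivOfLe hPI).toEquiv] at h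
    exact h.trans (mul_comm _ _)
  have hfinr : Finite θ.range := Finite.of_surjective _ θ.rangeRestrict_surjective
  have hP0 : ∀ p : ℕ, p.Prime → CharP (A ⧸ p₀) p →
      ∃ a, Nat.card P = p ^ a ∧ Nat.card θ.range = e / p ^ e.factorization p := by
    intro p hp hchar
    have : Fact p.Prime := ⟨hp⟩
    have : CharP (B ⧸ m) p := charP_of_injective_ringHom hιinj p
    obtain ⟨a, ha⟩ := IsPGroup.iff_card.mp (hsmallP p hp hchar)
    have hnd : ¬ p ∣ Nat.card θ.range := WildInertia.not_dvd_natCard_of_subgroup_units θ.range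
    have hfac : e.factorization p = a := by
      rw [hsplit, ha, Nat.factorization_mul (pow_ne_zero _ hp.ne_zero) Nat.card_pos.ne',
        Finsupp.add_apply, hp.factorization_pow, Finsupp.single_eq_same,
        Nat.factorization_eq_zero_of_not_dvd hnd, add_zero]
    refine ⟨a, ha, ?_⟩
    rw [hfac, hsplit, ha, Nat.mul_div_cancel_left _ (pow_pos hp.pos _)]
  have hzero : CharZero (A ⧸ p₀) → Nat.card θ.range = e := by
    intro hchar
    rw [hsplit, hbotP hchar, Subgroup.card_bot, one_mul]
  have hrange : θ.range = rootsOfUnity e (B ⧸ m) := by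
    refine WildInertia.range_eq_rootsOfUnity θ (Dvd.intro_left _ hsplit.symm) fun ζ hζ => ?_
    have : IsDomain (A ⧸ p₀) := hfield.isDomain
    rcases CharP.exists' (A ⧸ p₀) with hchar | ⟨p, hp, hchar⟩
    · rwa [hzero hchar]
    · have : CharP (B ⧸ m) p := charP_of_injective_ringHom hιinj p
      obtain ⟨a, ha, -⟩ := hP0 p hp.out hchar
      rw [hsplit, ha] at hζ
      exact (mem_rootsOfUnity_prime_pow_mul_iff (R := B ⧸ m) p a (Nat.card θ.range)).mp hζ
  have hne : NeZero e := ⟨hePos.ne'⟩
  let ψ : I ⧸ P.subgroupOf I ≃* rootsOfUnity e (B ⧸ m) :=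
    φ.trans (MulEquiv.subgroupCongr hrange)
  refine ⟨isCyclic_of_surjective ψ.symm ψ.symm.surjective, fun p hp hchar => ?_,
    fun hchar => hcardq.trans (hzero hchar), ⟨ψ⟩⟩
  obtain ⟨a, -, h⟩ := hP0 p hp hchar
  exact hcardq.trans h

end Groth.Agent.S1999
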