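import Groth.Statements.S20004
import Groth.Agent.WildQuot.Extend
import Groth.Agent.WildQuot.Galois
-- import your own Groth.Agent.* helpers here

set_option autoImplicit false
universe u v w
open WildQuot

namespace Groth.Agent.S20004

/-- Let `A` be a complete regular local ring of Krull dimension at least `2` and prime characteristic
`p`; let `k` be a field with `k → A` mapping onto the residue field, such that `k` has no Galois
extension of degree `p`; let `G` be a group of order `p` acting on `A` by `k`-algebra automorphisms,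
ramified precisely at the origin (for every non-maximal prime `P`, the inertia subgroup of `P` is
trivial). Let `R` be a `k`-algebra with an injective structure map `R → A` whose image is fixed by
`G` (so `R ⊆ A^G`), with `A` finite over `R`. Galois extensions of fraction fields are expressed
through automorphism counts: since `A` and `A^G` are normal domains finite over `R`,
`Frac(A^G)/Frac(R)` is Galois exactly when `p` times the number of `k`-algebra automorphisms of
`A^G` fixing the image of `R` equals the rank `[Frac A : Frac R]` of `A` over `R`, and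
`Frac(A)/Frac(R)` is Galois exactly when the number of `R`-algebra automorphisms of `A` equals that
rank. The row: the first equality implies the second. (The published statement assumes `R ⊆ A^G`
finite with `Frac(A^G)/Frac(R)` Galois and concludes that `Frac(A)/Frac(R)` is Galois; here `R` is
taken to contain `k`, as the norm subrings of the source do.) -/
theorem result
    (p : ℕ) [Fact p.Prime] (A : Type u) [CommRing A] [IsRegularLocalRing A] [CharP A p]
    [IsAdicComplete (IsLocalRing.maximalIdeal A) A] (hdim : 2 ≤ ringKrullDim A)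
    (k : Type v) [Field k] [Algebra k A]
    (hk : Function.Surjective (IsLocalRing.residue A ∘ algebraMap k A))
    (hkp : ∀ (L : Type v) [Field L] [Algebra k L], IsGalois k L → Module.finrank k L ≠ p)
    (G : Type w) [Group G] [Finite G] [MulSemiringAction G A] (hcard : Nat.card G = p)
    [SMulCommClass G k A]
    (hram : ∀ P : Ideal A, P.IsPrime → P ≠ IsLocalRing.maximalIdeal A → P.inertia G = ⊥)
    (R : Type v) [CommRing R] [Algebra k R] [Algebra R A] [IsScalarTower k R A] [Module.Finite R A]
    (hRinj : Function.Injective (algebraMap R A))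
    (hRG : ∀ (σ : G) (r : R), σ • algebraMap R A r = algebraMap R A r)
    (hgal : p * Nat.card {φ : FixedPoints.subalgebra k A G ≃ₐ[k] FixedPoints.subalgebra k A G //
        ∀ b : FixedPoints.subalgebra k A G, (b : A) ∈ Set.range (algebraMap R A) → (φ b : A) = b} =
      Module.finrank R A) :
    Nat.card (A ≃ₐ[R] A) = Module.finrank R A := by
  classical
  haveI : Fintype G := Fintype.ofFinite G
  have hcardF : Fintype.card G = p := by rw [← Nat.card_eq_fintype_card, hcard]
  haveI := Groth.Agent.DepthLib.isDomain_of_isRegularLocalRing A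
  haveI : IsDomain R := hRinj.isDomain (algebraMap R A)
  obtain ⟨hfin, hle⟩ := Groth.Agent.WildQuot.finite_algEquiv_and_card_le_finrank R A hRinj
  have hGk : ∀ (σ : G) (c : k), σ • algebraMap k A c = algebraMap k A c := fun σ c => by
    rw [Algebra.algebraMap_eq_smul_one, smul_comm, smul_one]
  let e : FixedPoints.subalgebra k A G ≃+* FixedPoints.subring A G :=
    { toFun := fun x => ⟨x, x.2⟩, invFun := fun x => ⟨x, x.2⟩, left_inv := fun _ => rfl,
      right_inv := fun _ => rfl, map_mul' := fun _ _ => rfl, map_add' := fun _ _ => rfl }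
  let T := {φ : FixedPoints.subalgebra k A G ≃ₐ[k] FixedPoints.subalgebra k A G //
      ∀ b : FixedPoints.subalgebra k A G, (b : A) ∈ Set.range (algebraMap R A) → (φ b : A) = b}
  have hext : ∀ φ : T, ∃ ψ : A ≃ₐ[R] A, ∀ x : FixedPoints.subalgebra k A G, ψ x = φ.1 x := fun φ => by
    obtain ⟨ψ, hψ⟩ := Groth.Agent.WildQuot.exists_ringEquiv_extends hk hGk hdim hram p hcardF
      (e.symm.trans (φ.1.toRingEquiv.trans e)) hkp
    refine ⟨AlgEquiv.ofRingEquiv (f := ψ) fun r => ?_, fun x => hψ (e x)⟩
    exact (hψ (e ⟨_, fun σ => hRG σ r⟩)).trans (φ.2 ⟨_, fun σ => hRG σ r⟩ ⟨r, rfl⟩)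
  choose Ψ hΨ using hext
  let act : G → (A ≃ₐ[R] A) := fun σ =>
    AlgEquiv.ofRingEquiv (f := MulSemiringAction.toRingEquiv G A σ) fun r => hRG σ r
  have hfaith : ∀ σ τ : G, (∀ t : A, σ • t = τ • t) → σ = τ := fun σ τ h => by
    have hm : (⊥ : Ideal A) ≠ IsLocalRing.maximalIdeal A := Groth.Agent.WildQuot.bot_ne_maximalIdeal hdim
    have h1 : σ⁻¹ * τ ∈ (⊥ : Ideal A).inertia G := fun t => by
      simp [mul_smul, ← h t]
    rw [hram ⊥ Ideal.isPrime_bot hm, Subgroup.mem_bot, inv_mul_eq_one] at h1
    exact h1
  let F : G × T → (A ≃ₐ[R] A) := fun x => (act x.1).trans (Ψ x.2)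
  have hF : Function.Injective F := fun ⟨σ, φ⟩ ⟨σ', φ'⟩ h => by
    have h' : ∀ t : A, Ψ φ (σ • t) = Ψ φ' (σ' • t) := fun t => DFunLike.congr_fun h t
    have hφ : φ = φ' := Subtype.ext (AlgEquiv.ext fun x => Subtype.ext (by
      have h1 := h' x
      rw [x.2 σ, x.2 σ', hΨ, hΨ] at h1
      exact h1))
    subst hφ
    exact Prod.ext (hfaith σ σ' fun t => (Ψ φ).injective (h' t)) rfl
  have h := Nat.card_le_card_of_injective F hF
  rw [Nat.card_prod, hcard, hgal] at h
  exact le_antisymm hle h

end Groth.Agent.S20004
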