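import Groth.Statements.S2001
import Groth.Agent.GluePair.Criteria
-- import your own Groth.Agent.* helpers here

set_option autoImplicit false
universe u
open TensorProduct
open EtAlg

namespace Groth.Agent.S2001

/-- Let (R -> R', f) be a glueing pair and M, N R-modules glueable for it. Given an R'-linear map φ' :
R' ⊗_R M -> R' ⊗_R N and an R-linear map φ₁ : M_f -> N_f which induce the same map into (R' ⊗_R N)_f
on elements of M, there is a unique R-linear map ψ : M -> N whose base change to R' is φ' and whose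
localization is φ₁. -/
theorem result (R R' : Type u) [CommRing R] [CommRing R'] [Algebra R R'] (f : R)
    (hRR : EtGlue.IsGlueingPair R R' f) (M N : Type u) [AddCommGroup M] [Module R M] [AddCommGroup N] [Module R N]
    (hM : EtGlue.IsGlueable R R' f M) (hN : EtGlue.IsGlueable R R' f N)
    (φ' : R' ⊗[R] M →ₗ[R'] R' ⊗[R] N)
    (φ₁ : LocalizedModule (Submonoid.powers f) M →ₗ[R] LocalizedModule (Submonoid.powers f) N)
    (hc : ∀ m : M, EtGlue.locOfTensor R R' f N (φ' ((1 : R') ⊗ₜ[R] m)) =
      EtGlue.tensorOfLoc R R' f N (φ₁ (LocalizedModule.mkLinearMap (Submonoid.powers f) M m))) :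
    ∃! ψ : M →ₗ[R] N, ψ.baseChange R' = φ' ∧
      IsLocalizedModule.map (Submonoid.powers f) (LocalizedModule.mkLinearMap (Submonoid.powers f) M)
        (LocalizedModule.mkLinearMap (Submonoid.powers f) N) ψ = φ₁ := by
  choose ψ hψ₁ hψ₂ using fun m : M => hN.2 _ _ (hc m)
  let Ψ : M →ₗ[R] N :=
    { toFun := ψ
      map_add' := fun a b => hN.1 (Prod.ext
        (by dsimp only; rw [tmul_add, hψ₁, hψ₁, hψ₁, tmul_add, map_add])
        (by dsimp only; rw [map_add, hψ₂, hψ₂, hψ₂, map_add, map_add]))
      map_smul' := fun r a => hN.1 (Prod.ext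
        (by dsimp only; rw [RingHom.id_apply, tmul_smul, hψ₁, hψ₁, tmul_smul,
          LinearMap.map_smul_of_tower])
        (by dsimp only; rw [RingHom.id_apply, map_smul, hψ₂, hψ₂, map_smul, map_smul])) }
  refine ⟨Ψ, ⟨TensorProduct.AlgebraTensorModule.ext fun a m => ?_, ?_⟩, fun φ hφ => ?_⟩
  · rw [LinearMap.baseChange_tmul, show a ⊗ₜ[R] m = a • ((1 : R') ⊗ₜ[R] m) by
      rw [smul_tmul', smul_eq_mul, mul_one], map_smul, ← hψ₁, smul_tmul', smul_eq_mul, mul_one]
    rfl
  · refine IsLocalizedModule.ext (Submonoid.powers f) (LocalizedModule.mkLinearMap (Submonoid.powers f) M)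
      (IsLocalizedModule.map_units (LocalizedModule.mkLinearMap (Submonoid.powers f) N)) ?_
    ext m
    rw [LinearMap.comp_apply, LinearMap.comp_apply, IsLocalizedModule.map_apply]
    exact hψ₂ m
  · obtain ⟨h₁, h₂⟩ := hφ
    refine LinearMap.ext fun m => hN.1 (Prod.ext ?_ ?_)
    · dsimp only
      rw [← LinearMap.baseChange_tmul, h₁]
      exact (hψ₁ m).symm
    · dsimp only
      rw [← IsLocalizedModule.map_apply (Submonoid.powers f) (LocalizedModule.mkLinearMap (Submonoid.powers f) M)
        (LocalizedModule.mkLinearMap (Submonoid.powers f) N), h₂]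
      exact (hψ₂ m).symm

end Groth.Agent.S2001
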