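import Mathlib
import Groth.Statements.S20010
-- import your own Groth.Agent.* helpers here

set_option autoImplicit false
universe u
open CategoryTheory CategoryTheory.Limits AlgebraicGeometry TopologicalSpace
open ModPair

namespace Groth.Agent.S20010

/-- Let (X_i) be a cofiltered system of schemes with affine transition morphisms such that X_{i₀} is
quasi-compact and quasi-separated for some index i₀, let X be its limit, and let {U_a ⟶ X} be a
family of quasi-compact open immersions (open immersions of finite presentation) which is jointly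
surjective (a covering family for the Zariski class). Then the covering descends: for some index i
there is a finite jointly surjective family {V_j ⟶ X_i}_{j < n} of quasi-compact open immersions
such that every V_j ×_{X_i} X is one of the U_a, i.e. for each j some U_{a_j} ⟶ X is the base change
of V_j ⟶ X_i along X ⟶ X_i. -/
theorem result {I : Type u} [SmallCategory I] [IsCofiltered I]
    (D : I ⥤ Scheme.{u}) (c : Cone D) (hc : IsLimit c)
    [∀ (i j : I) (t : i ⟶ j), IsAffineHom (D.map t)] (i₀ : I) [CompactSpace (D.obj i₀)]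
    [QuasiSeparatedSpace (D.obj i₀)] {ι : Type u} (U : ι → Scheme.{u}) (u : ∀ a, U a ⟶ c.pt)
    [∀ a, IsOpenImmersion (u a)] [∀ a, QuasiCompact (u a)] (hcov : ∀ x : c.pt, ∃ (a : ι) (y : U a), (u a).base y = x) :
    ∃ (i : I) (n : ℕ) (V : Fin n → Scheme.{u}) (v : ∀ j, V j ⟶ D.obj i) (a : Fin n → ι)
      (e : ∀ j, U (a j) ⟶ V j),
      (∀ j, IsOpenImmersion (v j) ∧ QuasiCompact (v j)) ∧
      (∀ x : D.obj i, ∃ (j : Fin n) (y : V j), (v j).base y = x) ∧
      ∀ j, IsPullback (e j) (u (a j)) (v j) (c.π.app i) := by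
  classical
  haveI : ∀ {i j : I} (f : i ⟶ j), IsAffineHom (D.map f) := fun f => inferInstance
  let D' := Over.forget i₀ ⋙ D
  let c' := c.whisker (Over.forget i₀)
  have hc' : IsLimit c' := (Functor.Initial.isLimitWhiskerEquiv (Over.forget i₀) c).symm hc
  haveI : ∀ {a b : Over i₀} (f : a ⟶ b), IsAffineHom (D'.map f) := fun f => by
    change IsAffineHom (D.map f.left); infer_instance
  haveI : ∀ a, CompactSpace (D'.obj a) := fun a => QuasiCompact.compactSpace_of_compactSpace (D.map a.hom)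
  haveI : ∀ a, QuasiSeparatedSpace (D'.obj a) := fun a => quasiSeparatedSpace_of_quasiSeparated (D.map a.hom)
  haveI : CompactSpace c.pt := Scheme.compactSpace_of_isLimit D' c' hc'
  have hopen : ∀ a, IsOpen (Set.range (u a).base) := fun a => (u a).isOpenEmbedding.isOpen_range
  obtain ⟨s, hs⟩ := isCompact_univ.elim_finite_subcover (fun a => Set.range (u a).base) hopen
    (fun x _ => Set.mem_iUnion.2 (let ⟨a, y, h⟩ := hcov x; ⟨a, y, h⟩))
  have hW : ∀ a : s, IsCompact ((u a.1).opensRange : Set c.pt) := fun a => by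
    haveI : CompactSpace (U a.1) := QuasiCompact.compactSpace_of_compactSpace (u a.1)
    exact isCompact_range (u a.1).continuous
  choose i V hVc hV using fun a : s => exists_preimage_eq D' c' hc' _ (hW a)
  obtain ⟨j, fj⟩ := IsCofiltered.inf_objs_exists (Finset.univ.image i)
  let g : ∀ a : s, j ⟶ i a := fun a => (@fj (i a) (by simp)).some
  let V1 : s → (D'.obj j).Opens := fun a => D'.map (g a) ⁻¹ᵁ V a
  have hV1 : ∀ a, c'.π.app j ⁻¹ᵁ V1 a = (u a.1).opensRange := fun a => by
    rw [← hV a, ← c'.w (g a), Scheme.Hom.comp_preimage]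
  obtain ⟨k, fkj, hk⟩ := exists_map_eq_top D' c' hc' (⨆ a, V1 a) (i := j) (by
    rw [← top_le_iff]
    intro x hx
    obtain ⟨a, ha, hxa⟩ := Set.mem_iUnion₂.1 (hs hx)
    have : x ∈ c'.π.app j ⁻¹ᵁ V1 ⟨a, ha⟩ := by rw [hV1]; exact hxa
    exact Scheme.Hom.preimage_mono _ (le_iSup V1 ⟨a, ha⟩) this)
  let V2 : s → (D'.obj k).Opens := fun a => D'.map fkj ⁻¹ᵁ V1 a
  have hV2 : ∀ a, c'.π.app k ⁻¹ᵁ V2 a = (u a.1).opensRange := fun a => by
    rw [← hV1 a, ← c'.w fkj, Scheme.Hom.comp_preimage]
  let eF : Fin (Fintype.card s) ≃ s := (Fintype.equivFin s).symm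
  let E : ∀ a : s, U a.1 ≅ ↑(c'.π.app k ⁻¹ᵁ V2 a) := fun a =>
    IsOpenImmersion.isoOfRangeEq (u a.1) (c'.π.app k ⁻¹ᵁ V2 a).ι
      (by rw [Scheme.Opens.range_ι, hV2]; rfl)
  have hoi : ∀ a, IsOpenImmersion (V2 a).ι := fun a => inferInstance
  refine ⟨k.left, Fintype.card s, fun l => ↑(V2 (eF l)), fun l => (V2 (eF l)).ι, fun l => (eF l).1,
    fun l => (E (eF l)).hom ≫ (c'.π.app k ∣_ V2 (eF l)), fun l => ⟨hoi (eF l), ?_⟩, fun x => ?_, fun l => ?_⟩
  · have hc2 : IsCompact (V2 (eF l) : Set (D'.obj k)) :=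
      QuasiCompact.isCompact_preimage (f := D'.map fkj) _ (V1 (eF l)).2
        (QuasiCompact.isCompact_preimage (f := D'.map (g (eF l))) _ (V (eF l)).2 (hVc (eF l)))
    haveI : CompactSpace (V2 (eF l) : Scheme.{u}) := isCompact_iff_compactSpace.mp hc2
    haveI : QuasiSeparatedSpace (D.obj k.left) := inferInstanceAs (QuasiSeparatedSpace (D'.obj k))
    infer_instance
  · have hx : x ∈ D'.map fkj ⁻¹ᵁ (⨆ a, V1 a) := by rw [hk]; trivial
    obtain ⟨a, ha⟩ := TopologicalSpace.Opens.mem_iSup.1 (show (D'.map fkj).base x ∈ ⨆ a, V1 a from hx)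
    exact ⟨eF.symm a, ⟨x, by rw [eF.apply_symm_apply]; exact ha⟩, rfl⟩
  · exact IsPullback.of_iso (isPullback_morphismRestrict (c'.π.app k) (V2 (eF l))) (E (eF l)).symm (Iso.refl _)
      (Iso.refl _) (Iso.refl _) (by simp; exact Category.comp_id _) (by simp [E]) (by simp; exact (Category.id_comp _).symm) (by simp [c'])

end Groth.Agent.S20010
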