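import Mathlib
import Groth.Statements.S20018
-- import your own Groth.Agent.* helpers here

set_option autoImplicit false
open CAlg

namespace Groth.Agent.S20018

open PowerSeries in
/-- Product expansion of big Witt vectors: let R be a commutative ring and x ∈ 1 + tR[[t]] a formal
power series with constant term 1. Then x can be written uniquely as an infinite product ∏_{i ≥ 1}
(1 - α_i t^i) with α_i ∈ R. The infinite product is expressed through its truncations: there is a
unique sequence α : ℕ → R (α i standing for the coefficient attached to t^{i+1}) such that for every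
N the series x and the finite product ∏_{i=0}^{N} (1 - α_i t^{i+1}) agree modulo t^{N+2}. -/
theorem result
    (R : Type*) [CommRing R] (x : PowerSeries R) (hx : PowerSeries.constantCoeff x = 1) :
    ∃! α : ℕ → R, ∀ N : ℕ,
      PowerSeries.trunc (N + 2) x =
        PowerSeries.trunc (N + 2) (∏ i ∈ Finset.range (N + 1),
          (1 - PowerSeries.C (α i) * PowerSeries.X ^ (i + 1) : PowerSeries R)) := by
  let P : ℕ → PowerSeries R := fun N => Nat.rec 1
    (fun N Q => Q * (1 - PowerSeries.C (PowerSeries.coeff (N + 1) (Q - x)) * PowerSeries.X ^ (N + 1))) N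
  let α : ℕ → R := fun N => PowerSeries.coeff (N + 1) (P N - x)
  have key : ∀ (N : ℕ) (Q : PowerSeries R) (a : R) (j : ℕ), PowerSeries.constantCoeff Q = 1 → j ≤ N + 1 →
      PowerSeries.coeff j (Q * (1 - PowerSeries.C a * PowerSeries.X ^ (N + 1))) =
        if j = N + 1 then PowerSeries.coeff j Q - a else PowerSeries.coeff j Q := by
    intro N Q a j hQ hj
    rw [mul_sub, mul_one, map_sub, mul_left_comm, PowerSeries.coeff_C_mul, PowerSeries.coeff_mul_X_pow']
    rcases eq_or_lt_of_le hj with h | h
    · subst h; simp [hQ]
    · rw [if_neg (by omega), if_neg h.ne]; simp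
  have hc : ∀ (a : ℕ → R) (N : ℕ), PowerSeries.constantCoeff
      (∏ i ∈ Finset.range N, (1 - PowerSeries.C (a i) * PowerSeries.X ^ (i + 1) : PowerSeries R)) = 1 := by
    intro a N
    rw [map_prod]
    exact Finset.prod_eq_one fun i _ => by simp
  have hP : ∀ N, P N = ∏ i ∈ Finset.range N, (1 - PowerSeries.C (α i) * PowerSeries.X ^ (i + 1) : PowerSeries R) := by
    intro N
    induction N with
    | zero => simp [P]
    | succ N ih => rw [Finset.prod_range_succ, ← ih]
  have hco : ∀ N j, j ≤ N → PowerSeries.coeff j (P N) = PowerSeries.coeff j x := by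
    intro N
    induction N with
    | zero => intro j hj; obtain rfl : j = 0 := by omega
              simp [P, hx]
    | succ N ih =>
      intro j hj
      show PowerSeries.coeff j (P N * (1 - PowerSeries.C (α N) * PowerSeries.X ^ (N + 1))) = _
      rw [key N (P N) (α N) j (by rw [hP]; exact hc α N) hj]
      split_ifs with h
      · subst h; simp [α]
      · exact ih j (by omega)
  refine ⟨α, fun N => ?_, fun β hβ => ?_⟩
  · ext j
    rw [PowerSeries.coeff_trunc, PowerSeries.coeff_trunc]
    split_ifs with h
    · rw [← hP, hco (N + 1) j (by omega)]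
    · rfl
  · funext N
    induction N using Nat.strong_induction_on with
    | _ N ih =>
      have h1 := congrArg (fun q => Polynomial.coeff q (N + 1)) (hβ N)
      simp only [PowerSeries.coeff_trunc, Nat.lt_succ_self, if_true] at h1
      rw [Finset.prod_range_succ, key N _ (β N) (N + 1) (hc β N) le_rfl, if_pos rfl,
        Finset.prod_congr rfl (fun i hi => by rw [ih i (Finset.mem_range.1 hi)]), ← hP] at h1
      show β N = PowerSeries.coeff (N + 1) (P N - x)
      rw [map_sub, h1]; abel

end Groth.Agent.S20018
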