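import Groth.Statements.S20019
import Groth.Agent.CharRing.Basic
import Groth.Agent.ComodBasic.Cartier
import Groth.Agent.NagataLib.FiniteClosure
import Groth.Agent.NagataLib.Polynomial


set_option autoImplicit false
open scoped TensorProduct
open HopfRep

namespace Groth.Agent.S20019

/-- Let A → B be a surjective homomorphism of finitely generated commutative Hopf algebras over the
complex numbers, that is a closed embedding H ↪ G of complex linear algebraic groups with G = Spec A
and H = Spec B. For a comodule structure on the coordinate space ℂ^d with coaction e_i ↦ Σ_j e_j ⊗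
a_ji, its character is Σ_i a_ii. Then R(H) is a finite R(G)-module, with the complexified
representation rings realised inside the coordinate rings by characters: there are finitely many
characters f_1, …, f_r of H-comodule structures such that every ℂ-linear combination of characters
of H-comodule structures on coordinate spaces is of the form Σ_j s_j f_j with each s_j in the
ℂ-subalgebra of B generated by the images of the characters of G-comodule structures on coordinate
spaces. (The representation rings of the published statement are rendered through characters; over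
the complex numbers the characters of pairwise non-isomorphic simple comodules are linearly
independent, so the span of characters is the complexified representation ring.) -/
theorem result
    (A B : Type) [CommRing A] [HopfAlgebra ℂ A] [Algebra.FiniteType ℂ A]
    [CommRing B] [HopfAlgebra ℂ B] [Algebra.FiniteType ℂ B]
    (π : A →ₐc[ℂ] B) (hπ : Function.Surjective π) :
    ∃ F : Finset B,
      (↑F : Set B) ⊆ Set.range (fun p : (Σ d : ℕ, HopfRep.Comod ℂ B (Fin d → ℂ)) =>
          ∑ i : Fin p.1, TensorProduct.lid ℂ B (LinearMap.rTensor B (LinearMap.proj i)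
            (@HopfRep.Comod.coact ℂ B _ _ _ _ (Fin p.1 → ℂ) _ _ p.2 (Pi.single i 1)))) ∧
      (↑(Submodule.span ℂ (Set.range (fun p : (Σ d : ℕ, HopfRep.Comod ℂ B (Fin d → ℂ)) =>
          ∑ i : Fin p.1, TensorProduct.lid ℂ B (LinearMap.rTensor B (LinearMap.proj i)
            (@HopfRep.Comod.coact ℂ B _ _ _ _ (Fin p.1 → ℂ) _ _ p.2 (Pi.single i 1)))))) : Set B) ⊆
        ↑(Submodule.span (Algebra.adjoin ℂ (π '' Set.range (fun p : (Σ d : ℕ, HopfRep.Comod ℂ A (Fin d → ℂ)) =>
          ∑ i : Fin p.1, TensorProduct.lid ℂ A (LinearMap.rTensor A (LinearMap.proj i)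
            (@HopfRep.Comod.coact ℂ A _ _ _ _ (Fin p.1 → ℂ) _ _ p.2 (Pi.single i 1))))))
          (↑F : Set B)) := by
  open Groth.Agent.ComodBasic Groth.Agent.CharRing CoalgebraStruct Polynomial in
  exact (by
    classical
    have hset : ∀ (C : Type) [CommRing C] [HopfAlgebra ℂ C],
        Set.range (fun p : (Σ d : ℕ, HopfRep.Comod ℂ C (Fin d → ℂ)) =>
          ∑ i : Fin p.1, TensorProduct.lid ℂ C (LinearMap.rTensor C (LinearMap.proj i)
            (@HopfRep.Comod.coact ℂ C _ _ _ _ (Fin p.1 → ℂ) _ _ p.2 (Pi.single i 1)))) = charSet ℂ C := by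
      intro C _ _
      ext x
      constructor
      · rintro ⟨⟨d, c⟩, rfl⟩
        letI := c
        refine ⟨d, coefMatrix (A := C) (Pi.basisFun ℂ (Fin d)),
          ⟨fun i j => comul_coefMatrix _ i j, fun i j => counit_coefMatrix _ i j⟩, ?_⟩
        refine Finset.sum_congr rfl fun i _ => ?_
        show lslice ((Pi.basisFun ℂ (Fin d)).coord i) _ = _
        rw [Pi.basisFun_apply, show (Pi.basisFun ℂ (Fin d)).coord i = LinearMap.proj i from
          LinearMap.ext fun y => by simp]
        rfl
      · rintro ⟨d, P, hP, rfl⟩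
        refine ⟨⟨d, comodOfMatrix P hP.comul_apply hP.counit_apply⟩, ?_⟩
        refine Finset.sum_congr rfl fun i _ => ?_
        show TensorProduct.lid ℂ C (LinearMap.rTensor C (LinearMap.proj i)
          ((comodOfMatrix P hP.comul_apply hP.counit_apply).coact (Pi.single i 1))) = P i i
        rw [← Pi.basisFun_apply ℂ (Fin d) i]
        show TensorProduct.lid ℂ C (LinearMap.rTensor C (LinearMap.proj i)
          ((Pi.basisFun ℂ (Fin d)).constr ℂ (fun j => ∑ l, Pi.basisFun ℂ (Fin d) l ⊗ₜ[ℂ] P l j)
            (Pi.basisFun ℂ (Fin d) i))) = P i i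
        rw [Module.Basis.constr_basis]
        simp [Pi.single_apply]
    rw [hset A, hset B]
    -- a faithful corepresentation
    obtain ⟨s, hs⟩ := (Algebra.FiniteType.out : (⊤ : Subalgebra ℂ A).FG)
    obtain ⟨M, hM, hsM⟩ := exists_finite_subcomod_of_finite (k := ℂ) (C := A) (V := A) (↑s) s.finite_toSet
    let N : Submodule ℂ A := M.restrictScalars ℂ
    haveI : Module.Finite ℂ N := hM
    letI : HopfRep.Comod ℂ A N := ComodSub.Comod.restr (HopfRep.Comod.regular ℂ A) N (isSubcomod_restrict M)
    let bN := Module.finBasis ℂ N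
    let a := coefMatrix (A := A) bN
    have ha : IsCorep (k := ℂ) a := ⟨fun i j => comul_coefMatrix _ i j, fun i j => counit_coefMatrix _ i j⟩
    have hgen : Algebra.adjoin ℂ (Set.range fun x : Fin (Module.finrank ℂ N) × Fin (Module.finrank ℂ N) => a x.1 x.2) = ⊤ := by
      rw [eq_top_iff, ← hs]
      refine Algebra.adjoin_le fun y hy => ?_
      have hy' : ∀ n : N, (n : A) ∈ Submodule.span ℂ (Set.range fun x : Fin (Module.finrank ℂ N) × Fin (Module.finrank ℂ N) => a x.1 x.2) := by
        have hb : ∀ j, (bN j : A) = ∑ i, counit (R := ℂ) ((bN i : A)) • a i j := by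
          intro j
          have h1 := congrArg (N.subtype.rTensor A) (coact_eq_sum (A := A) bN j)
          rw [ComodSub.restr_coact_coe (HopfRep.Comod.regular ℂ A) N (isSubcomod_restrict M), map_sum] at h1
          have h2 := congrArg (fun t => TensorProduct.lid ℂ A ((counit (R := ℂ) (A := A)).rTensor A t)) h1
          simp only [map_sum, LinearMap.rTensor_tmul, TensorProduct.lid_tmul, Submodule.subtype_apply] at h2
          rw [show (HopfRep.Comod.regular ℂ A).coact (bN j : A) = comul (R := ℂ) (bN j : A) from rfl] at h2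
          rw [Coalgebra.rTensor_counit_comul, TensorProduct.lid_tmul, one_smul] at h2
          exact h2
        intro n
        rw [← bN.sum_repr n, ← Submodule.subtype_apply, map_sum]
        refine sum_mem fun j _ => ?_
        rw [map_smul, Submodule.subtype_apply, hb]
        exact Submodule.smul_mem _ _ (sum_mem fun i _ => Submodule.smul_mem _ _ (Submodule.subset_span ⟨(i, j), rfl⟩))
      exact Algebra.span_le_adjoin ℂ _ (hy' ⟨y, hsM hy⟩)
    let h := a.map π
    have hh : IsCorep (k := ℂ) h := ha.map π
    have hgenB : Algebra.adjoin ℂ (Set.range fun x : Fin (Module.finrank ℂ N) × Fin (Module.finrank ℂ N) => h x.1 x.2) = ⊤ := by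
      have h1 := congrArg (Subalgebra.map (π : A →ₐ[ℂ] B)) hgen
      rw [AlgHom.map_adjoin, ← Set.range_comp, Algebra.map_top, (AlgHom.range_eq_top _).2 hπ] at h1
      exact h1
    -- the ring of coefficients of the characteristic polynomial
    let R₀ : Subalgebra ℂ B := Algebra.adjoin ℂ (Set.range fun i : Fin (Module.finrank ℂ N + 1) => h.charpoly.coeff i)
    have hR₀ : R₀ ≤ Algebra.adjoin ℂ (π '' charSet ℂ A) := by
      refine Algebra.adjoin_le ?_
      rintro _ ⟨i, rfl⟩
      show (a.map π).charpoly.coeff i ∈ Algebra.adjoin ℂ (π '' charSet ℂ A)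
      rw [show a.map π = a.map ((π : A →ₐ[ℂ] B) : A →+* B) from rfl, Matrix.charpoly_map, coeff_map]
      have h3 : (π : A →ₐ[ℂ] B) (a.charpoly.coeff i) ∈ (Algebra.adjoin ℂ (charSet ℂ A)).map (π : A →ₐ[ℂ] B) :=
        ⟨_, charpoly_coeff_mem ha (i : ℕ), rfl⟩
      rw [AlgHom.map_adjoin] at h3
      exact h3
    have hint : IsIntegral R₀ h := by
      have hl : h.charpoly ∈ lifts (algebraMap R₀ B) := by
        rw [lifts_iff_coeff_lifts]
        intro n
        by_cases hn : n < Module.finrank ℂ N + 1
        · exact ⟨⟨_, Algebra.subset_adjoin ⟨⟨n, hn⟩, rfl⟩⟩, rfl⟩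
        · refine ⟨0, ?_⟩
          rw [map_zero, coeff_eq_zero_of_natDegree_lt]
          refine lt_of_le_of_lt ?_ (not_le.1 fun hle => hn (Nat.lt_succ_of_le hle))
          by_cases hB : Nontrivial B
          · rw [Matrix.charpoly_natDegree_eq_dim, Fintype.card_fin]
          · rw [not_nontrivial_iff_subsingleton] at hB
            simp [natDegree_of_subsingleton]
      obtain ⟨q, hq, -, hqm⟩ := lifts_and_natDegree_eq_and_monic hl h.charpoly_monic
      refine ⟨q, hqm, ?_⟩
      rw [← aeval_def, ← aeval_map_algebraMap B, hq, Matrix.aeval_self_charpoly]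
    haveI : IsReduced B := isReduced_of_charZero (k := ℂ)
    haveI : IsNoetherianRing B := Algebra.FiniteType.isNoetherianRing ℂ B
    have hchar : ∀ x ∈ charSet ℂ B, x ∈ integralClosure R₀ B := by
      rintro _ ⟨d, T, hT, rfl⟩
      exact isIntegral_trace (isIntegral_of_coeff R₀ hT fun i j =>
        adjoin_le_intCoeff R₀ hh hint (hgenB.ge trivial))
    haveI : Algebra.FiniteType ℂ R₀ := (Subalgebra.fg_iff_finiteType R₀).1
      ⟨(Finset.univ.image fun i : Fin (Module.finrank ℂ N + 1) => h.charpoly.coeff i), by simp [R₀]⟩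
    haveI : Algebra.FiniteType R₀ B := Algebra.FiniteType.of_restrictScalars_finiteType ℂ R₀ B
    haveI : IsNoetherianRing R₀ := Algebra.FiniteType.isNoetherianRing ℂ R₀
    haveI : Module.Finite R₀ (integralClosure R₀ B) := NagataLib.finite_integralClosure_reduced
      (NagataLib.isNagata_of_finiteType_field ℂ R₀) B
    haveI : IsNoetherian R₀ (integralClosure R₀ B) := isNoetherian_of_isNoetherianRing_of_finite R₀ _
    haveI : IsNoetherian R₀ (integralClosure R₀ B).toSubmodule := ‹IsNoetherian R₀ (integralClosure R₀ B)›
    have hfg : (Submodule.span R₀ (charSet ℂ B)).FG :=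
      Submodule.FG.of_le (T := Subalgebra.toSubmodule (integralClosure R₀ B))
        (Module.Finite.iff_fg.1 (‹Module.Finite R₀ (integralClosure R₀ B)›))
        (Submodule.span_le.2 hchar)
    obtain ⟨F, hF, hspan⟩ := (Submodule.fg_span_iff_fg_span_finset_subset (charSet ℂ B)).1 hfg
    have key : ∀ x ∈ Submodule.span R₀ (↑F : Set B),
        x ∈ Submodule.span (Algebra.adjoin ℂ (π '' charSet ℂ A)) (↑F : Set B) := by
      intro x hx
      induction hx using Submodule.span_induction with
      | mem y hy => exact Submodule.subset_span hy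
      | zero => exact zero_mem _
      | add y z _ _ ihy ihz => exact add_mem ihy ihz
      | smul r y _ ih => exact Submodule.smul_mem _ (⟨r.1, hR₀ r.2⟩ : Algebra.adjoin ℂ (π '' charSet ℂ A)) ih
    refine ⟨F, hF, fun x hx => key x ?_⟩
    rw [← hspan]
    exact Submodule.span_le_restrictScalars ℂ R₀ _ hx)

end Groth.Agent.S20019
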