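import Groth.Statements.S20022
import Mathlib
import Groth.Agent.GrInj.Basic
-- import your own Groth.Agent.* helpers here

set_option autoImplicit false
universe u
open GrLC

namespace Groth.Agent.S20022

/-- Let R be a commutative ℤ-graded ring whose degree-zero subring R_0 is a field k and which is the
Laurent polynomial ring k[T, T⁻¹] on a homogeneous invertible element T of positive degree d, in the
following intrinsic sense: T is a unit lying in R_d, and every nonzero homogeneous element of degree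
n equals a·T^j for some a ∈ R_0 and some integer j with j·d = n (so R_n = 0 unless d divides n, and
R_{jd} = k·T^j). Then every graded R-module M is free in the graded sense: M has an R-basis
consisting of homogeneous elements. (The other case of condition (2), R = k concentrated in degree
zero, is not included.) -/
theorem result (R : Type u) [CommRing R]
    (𝒜 : ℤ → AddSubgroup R) [GradedRing 𝒜] (h0 : IsField (GrLC.deg0 𝒜))
    (d : ℤ) (hd : 0 < d) (T : Rˣ) (hT : (T : R) ∈ 𝒜 d)
    (hA : ∀ (n : ℤ) (x : R), x ∈ 𝒜 n → x ≠ 0 →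
      ∃ j : ℤ, ∃ a ∈ 𝒜 0, j * d = n ∧ x = a * ((T ^ j : Rˣ) : R))
    (M : Type u) [AddCommGroup M] [Module R M] (ℳ : ℤ → AddSubgroup M)
    [DirectSum.Decomposition ℳ] [SetLike.GradedSMul 𝒜 ℳ] :
    ∃ (κ : Type u) (b : Module.Basis κ R M), ∀ i : κ, SetLike.IsHomogeneousElem ℳ (b i) := by
  classical
  letI : Field (GrLC.deg0 𝒜) := h0.toField
  -- powers of `T`
  have hTz : ∀ j : ℤ, ((T ^ j : Rˣ) : R) ∈ 𝒜 (j * d) := by
    have hinv : ((T⁻¹ : Rˣ) : R) ∈ 𝒜 (-d) := by
      have h1 : GrInj.pr 𝒜 0 ((T : R) * ((T⁻¹ : Rˣ) : R)) = (T : R) * GrInj.pr 𝒜 (-d) ((T⁻¹ : Rˣ) : R) := by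
        have := GrInj.pr_smul (ℳ := 𝒜) hT (-d) ((T⁻¹ : Rˣ) : R)
        simpa using this
      rw [Units.mul_inv, GrInj.pr_of_mem (SetLike.GradedOne.one_mem)] at h1
      have h2 : ((T⁻¹ : Rˣ) : R) = GrInj.pr 𝒜 (-d) ((T⁻¹ : Rˣ) : R) := by
        conv_lhs => rw [← mul_one ((T⁻¹ : Rˣ) : R), h1, ← mul_assoc, Units.inv_mul, one_mul]
      exact h2.symm ▸ GrInj.pr_mem (ℳ := 𝒜) _ _
    intro j
    induction j using Int.induction_on with
    | zero => simpa using SetLike.GradedOne.one_mem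
    | succ j ih => rw [zpow_add_one, Units.val_mul, add_mul, one_mul]; exact SetLike.GradedMul.mul_mem ih hT
    | pred j ih => rw [zpow_sub_one, Units.val_mul, sub_mul, one_mul, sub_eq_add_neg]; exact SetLike.GradedMul.mul_mem ih hinv
  let ρ := {ρ : ℤ // 0 ≤ ρ ∧ ρ < d}
  let β : ρ → Type u := fun ρ => Module.Basis.ofVectorSpaceIndex (GrLC.deg0 𝒜) (GrLC.comp 𝒜 ℳ ρ.1)
  let bs : (ρ : ρ) → Module.Basis (β ρ) (GrLC.deg0 𝒜) (GrLC.comp 𝒜 ℳ ρ.1) := fun ρ => Module.Basis.ofVectorSpace _ _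
  let v : (Σ ρ, β ρ) → M := fun i => (bs i.1 i.2).1
  have hv : ∀ i, v i ∈ ℳ i.1.1 := fun i => (bs i.1 i.2).2
  have hspan : ∀ (g : ℤ) (x : M), x ∈ ℳ g → x ∈ Submodule.span R (Set.range v) := by
    intro g x hx
    have hy : ((T ^ (-(g / d)) : Rˣ) : R) • x ∈ ℳ (g % d) := by
      have := GrInj.smul_mem_gr (hTz (-(g / d))) hx
      rwa [show -(g / d) * d + g = g % d by rw [Int.emod_def]; ring] at this
    have hx' : x = ((T ^ (g / d) : Rˣ) : R) • ((T ^ (-(g / d)) : Rˣ) : R) • x := by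
      rw [smul_smul, ← Units.val_mul, ← zpow_add, add_neg_cancel, zpow_zero, Units.val_one, one_smul]
    rw [hx']
    refine Submodule.smul_mem _ _ ?_
    let P : ρ := ⟨g % d, Int.emod_nonneg _ hd.ne', Int.emod_lt_of_pos _ hd⟩
    have h1 : (⟨_, hy⟩ : GrLC.comp 𝒜 ℳ P.1) ∈ Submodule.span (GrLC.deg0 𝒜) (Set.range (bs P)) := by
      rw [(bs P).span_eq]; trivial
    have h2 := Submodule.mem_map_of_mem (f := (GrLC.comp 𝒜 ℳ P.1).subtype) h1
    rw [Submodule.map_span, ← Set.range_comp] at h2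
    exact Submodule.span_le_restrictScalars (GrLC.deg0 𝒜) R _
      (Submodule.span_mono (by rintro _ ⟨b, rfl⟩; exact ⟨⟨P, b⟩, rfl⟩) h2)
  have hind : LinearIndependent R v := by
    rw [linearIndependent_iff']
    intro s c hc i hi
    refine GrInj.eq_zero_of_pr (ℳ := 𝒜) fun n => ?_
    by_contra hne
    obtain ⟨j, α, hα, hjn, hα'⟩ := hA n _ (GrInj.pr_mem n (c i)) hne
    -- the component of the relation in degree `n + deg i`
    let co : (Σ ρ, β ρ) → R := fun l => if l.1 = i.1 then GrInj.pr 𝒜 n (c l) else 0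
    have h1 : ∑ l ∈ s, co l • v l = 0 := by
      have h2 := congrArg (GrInj.pr ℳ (n + i.1.1)) hc
      rw [map_sum, map_zero] at h2
      refine Eq.trans (Finset.sum_congr rfl fun l _ => ?_) h2
      have hp := GrInj.pr_map (ℳ := 𝒜) (𝒩 := ℳ) (f := (smulAddHom R M).flip (v l)) (d := l.1.1)
        (fun g b hb => GrInj.smul_mem_gr hb (hv l)) (n + i.1.1 - l.1.1) (c l)
      rw [sub_add_cancel] at hp
      rw [show GrInj.pr ℳ (n + i.1.1) (c l • v l) = GrInj.pr 𝒜 (n + i.1.1 - l.1.1) (c l) • v l from hp]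
      by_cases hl : l.1 = i.1
      · rw [show co l = GrInj.pr 𝒜 n (c l) from if_pos hl, hl, add_sub_cancel_right]
      · rw [show co l = 0 from if_neg hl, zero_smul]
        by_cases hz : GrInj.pr 𝒜 (n + i.1.1 - l.1.1) (c l) = 0
        · rw [hz, zero_smul]
        exfalso
        obtain ⟨j', α', -, hj', -⟩ := hA _ _ (GrInj.pr_mem _ (c l)) hz
        refine hl (Subtype.ext ?_)
        have h3 : i.1.1 - l.1.1 = (j' - j) * d := by rw [sub_mul, hj', hjn]; ring
        have h4 := i.1.2; have h5 := l.1.2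
        rcases lt_trichotomy (j' - j) 0 with h | h | h
        · nlinarith
        · rw [h, zero_mul] at h3; omega
        · nlinarith
    let a' : (Σ ρ, β ρ) → GrLC.deg0 𝒜 := fun l => ⟨GrInj.pr 𝒜 0 (((T ^ (-j) : Rˣ) : R) * co l), GrInj.pr_mem _ _⟩
    have ha' : ∀ l, (a' l : R) = ((T ^ (-j) : Rˣ) : R) * co l := fun l => by
      refine GrInj.pr_of_mem ?_
      by_cases hl : l.1 = i.1
      · rw [show co l = GrInj.pr 𝒜 n (c l) from if_pos hl]
        have := SetLike.GradedMul.mul_mem (hTz (-j)) (GrInj.pr_mem (ℳ := 𝒜) n (c l))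
        rwa [neg_mul, hjn, neg_add_cancel] at this
      · rw [show co l = 0 from if_neg hl, mul_zero]; exact zero_mem _
    have hi0 : a' i = 0 := by
      have hli : LinearIndependent (GrLC.deg0 𝒜) fun b : β i.1 => (bs i.1 b).1 :=
        (bs i.1).linearIndependent.map' (GrLC.comp 𝒜 ℳ i.1.1).subtype (Submodule.ker_subtype _)
      refine linearIndependent_iff'.1 hli (s.preimage (Sigma.mk i.1) sigma_mk_injective.injOn)
        (fun b => a' ⟨i.1, b⟩) ?_ i.2 (Finset.mem_preimage.2 hi)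
      rw [Finset.sum_preimage (Sigma.mk i.1) s _ (fun l => a' l • v l) fun l _ hl => ?_]
      · calc ∑ l ∈ s, a' l • v l = ((T ^ (-j) : Rˣ) : R) • ∑ l ∈ s, co l • v l := by
              rw [Finset.smul_sum]
              refine Finset.sum_congr rfl fun l _ => ?_
              show (a' l : R) • v l = _
              rw [ha', mul_smul]
          _ = 0 := by rw [h1, smul_zero]
      · have hne' : l.1 ≠ i.1 := fun h => hl (by obtain ⟨p, b⟩ := l; subst h; exact ⟨b, rfl⟩)
        show (a' l : R) • v l = 0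
        rw [ha', show co l = 0 from if_neg hne', mul_zero, zero_smul]
    have h6 := ha' i
    rw [hi0, show co i = GrInj.pr 𝒜 n (c i) from if_pos rfl, ZeroMemClass.coe_zero] at h6
    exact hne ((Units.mul_right_eq_zero _).1 h6.symm)
  refine ⟨_, Module.Basis.mk hind (fun x _ => ?_), fun i => ⟨i.1.1, by rw [Module.Basis.mk_apply]; exact hv i⟩⟩
  clear * - x hspan
  induction x using GrInj.induction ℳ with
  | h0 => exact zero_mem _
  | hh g y hy => exact hspan g y hy
  | hadd p q hp hq => exact add_mem hp hq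

end Groth.Agent.S20022
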