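import Groth.Statements.S20027
import Mathlib
import Groth.Agent.S18655
import Groth.Agent.GrInj.StdPoly
import Groth.Agent.GorLib.RingLevel
-- import your own Groth.Agent.* helpers here

set_option autoImplicit false
universe u
open GrLC

namespace Groth.Agent.S20027

theorem bassNum_congr {A : Type u} [CommRing A] {I J : Ideal A} [I.IsMaximal] [J.IsMaximal] (h : I = J) (n : ℕ) :
    GrLC.bassNum I A n = GrLC.bassNum J A n := by
  subst h; rfl

open MvPolynomial in
theorem comp_zero {k : Type u} [Field k] {r : ℕ} {i : ℤ} {p : MvPolynomial (Fin (r + 1)) k}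
    (hp : p ∈ GrInj.Std.gr k r i) (t : ℕ) (ht : i ≠ (t : ℤ)) : homogeneousComponent t p = 0 := by
  ext m
  rw [coeff_homogeneousComponent, coeff_zero]
  split_ifs with h
  · by_contra hne
    have h1 := hp hne
    rw [GrSyzHilb.weight_eq] at h1
    refine ht (h1.symm.trans ?_)
    rw [← h, Finsupp.degree_apply]
    exact congrArg Nat.cast (Finset.sum_subset (Finset.subset_univ m.support) fun x _ hx => by simpa using hx).symm
  · rfl

open MvPolynomial in
theorem mem_comp {k : Type u} [Field k] {r : ℕ} (p : MvPolynomial (Fin (r + 1)) k) (t : ℕ) :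
    homogeneousComponent t p ∈ GrInj.Std.gr k r (t : ℤ) := by
  intro m hm
  rw [coeff_homogeneousComponent] at hm
  split_ifs at hm with h
  · rw [GrSyzHilb.weight_eq, ← h, Finsupp.degree_apply,
      Finset.sum_subset (Finset.subset_univ m.support) fun x _ hx => by simpa using hx]
  · exact absurd rfl hm

theorem field_deg0 (k : Type u) [Field k] (r : ℕ) :
    (∀ x ∈ GrInj.Std.gr k r 0, ∃ c : k, MvPolynomial.C c = x) ∧ IsField (GrLC.deg0 (GrInj.Std.gr k r)) := by
  have hC : ∀ c : k, (MvPolynomial.C c : MvPolynomial (Fin (r + 1)) k) ∈ GrInj.Std.gr k r 0 := fun c =>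
    show MvPolynomial.IsWeightedHomogeneous (fun _ : Fin (r + 1) => (1 : ℤ)) (MvPolynomial.C c) 0 from
      MvPolynomial.isWeightedHomogeneous_C _ c
  have key : ∀ x ∈ GrInj.Std.gr k r 0, ∃ c : k, MvPolynomial.C c = x := fun x hx =>
    ⟨MvPolynomial.constantCoeff x, (sub_eq_zero.1 (GrSyzHilb.piece_zero (sub_mem hx (hC _)) (by simp))).symm⟩
  refine ⟨key, ⟨⟨0, 1, fun h => zero_ne_one (α := MvPolynomial (Fin (r + 1)) k) (congrArg Subtype.val h)⟩, mul_comm, fun {x} hx => ?_⟩⟩
  obtain ⟨c, hc⟩ := key x.1 x.2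
  have hc0 : c ≠ 0 := fun h => hx (Subtype.ext (by rw [← hc, h, map_zero]; rfl))
  refine ⟨⟨MvPolynomial.C c⁻¹, hC _⟩, Subtype.ext ?_⟩
  show (x : MvPolynomial (Fin (r + 1)) k) * MvPolynomial.C c⁻¹ = 1
  rw [← hc, ← map_mul, mul_inv_cancel₀ hc0, map_one]

theorem finrank_deg0 (k : Type u) [Field k] (r : ℕ) (i : ℤ) :
    Module.finrank (GrLC.deg0 (GrInj.Std.gr k r)) (GrLC.comp (GrInj.Std.gr k r) (GrInj.Std.gr k r) i) =
      Module.finrank k (GrSyz.stdGr k (Fin (r + 1)) i) := by
  obtain ⟨key, -⟩ := field_deg0 k r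
  let σ : k →+* GrLC.deg0 (GrInj.Std.gr k r) :=
    (MvPolynomial.C : k →+* MvPolynomial (Fin (r + 1)) k).codRestrict (GrLC.deg0 (GrInj.Std.gr k r)) fun c =>
      show MvPolynomial.IsWeightedHomogeneous (fun _ : Fin (r + 1) => (1 : ℤ)) (MvPolynomial.C c) 0 from
        MvPolynomial.isWeightedHomogeneous_C _ c
  have hσ : Function.Bijective σ := by
    refine ⟨fun a b h => MvPolynomial.C_injective _ _ (congrArg Subtype.val h), fun x => ?_⟩
    obtain ⟨c, hc⟩ := key x.1 x.2
    exact ⟨c, Subtype.ext hc⟩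
  let j : GrSyz.stdGr k (Fin (r + 1)) i ≃+ GrLC.comp (GrInj.Std.gr k r) (GrInj.Std.gr k r) i :=
    { toFun := fun x => ⟨x.1, x.2⟩
      invFun := fun x => ⟨x.1, x.2⟩
      left_inv := fun _ => rfl
      right_inv := fun _ => rfl
      map_add' := fun _ _ => rfl }
  exact (congrArg Cardinal.toNat (rank_eq_of_equiv_equiv σ j hσ fun c x => Subtype.ext
    (MvPolynomial.smul_eq_C_mul (x : MvPolynomial (Fin (r + 1)) k) c))).symm

theorem endDeg_std (k : Type u) [Field k] (r : ℕ) (hdim : ringKrullDim (MvPolynomial (Fin (r + 1)) k) = ((r + 1 : ℕ) : WithBot ℕ∞))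
    [LocCoh.IsCohenMacaulayRing (MvPolynomial (Fin (r + 1)) k)]
    (I : GrLC.StarInjRes (GrInj.Std.gr k r) (GrInj.Std.gr k r)) :
    GrLC.endDeg (I.Hgr (GrInj.Std.irr k r) (r + 1)) = (((-((r : ℤ) + 1)) : WithTop ℤ) : WithBot (WithTop ℤ)) := by
  have hm := GrInj.isStarLocal_of_field (GrInj.Std.pos k r) (field_deg0 k r).2 (GrInj.Std.irr_eq k r)
  have hvan := GrInj.subsingleton_H_cm (GrInj.Std.pos k r) hm hdim I
  have hne : I.Hgr (GrInj.Std.irr k r) (r + 1) (-((r : ℤ) + 1)) ≠ ⊥ := by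
    intro hb
    have htop : GrInj.Van (GrInj.Std.irr k r) (r + 1) (-((r : ℤ) + 1)) (GrInj.selfMod (GrInj.Std.gr k r)) :=
      GrInj.van_of_res I (eq_bot_iff.2 fun c hc => (Submodule.mem_bot _).2 (AddSubgroup.mem_bot.1 (hb.le hc)))
    have hX : ∀ (j : ℕ) (l : ℤ), 0 ≤ (j : ℤ) + l →
        GrInj.Van (GrInj.Std.irr k r) j l (GrInj.selfMod (GrInj.Std.gr k r)) := by
      intro j l hjl
      rcases eq_or_lt_of_le hjl with h | h
      · rcases lt_trichotomy j (r + 1) with hj | hj | hj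
        · refine GrInj.van_of_res I ?_
          haveI := hvan j hj
          exact eq_bot_iff.2 fun c _ => (Submodule.mem_bot _).2 (@Subsingleton.elim _ (hvan j hj) c 0)
        · subst hj
          rwa [show l = -((r : ℤ) + 1) by push_cast at h; omega]
        · exact GrInj.Std.van_of_large k r _ j l hj
      · exact GrInj.Std.vanAbove_self k r j l h
    have h1 := GrInj.mem_smul_top_of_van (GrInj.Std.irr_hom k r) (hX 0 0 (by simp)) (fun j l _ hjl => hX j l (by omega))
      (show (1 : MvPolynomial (Fin (r + 1)) k) ∈ (GrInj.selfMod (GrInj.Std.gr k r)).gr 0 from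
        SetLike.one_mem_graded (GrInj.Std.gr k r))
    exact GrInj.Std.one_notMem k r ((Ideal.mul_top _).le h1)
  refine le_antisymm (iSup₂_le fun g hg => ?_) (le_iSup₂_of_le
    (f := fun (g : ℤ) (_ : I.Hgr (GrInj.Std.irr k r) (r + 1) g ≠ ⊥) => ((g : WithTop ℤ) : WithBot (WithTop ℤ)))
    (-((r : ℤ) + 1)) hne le_rfl)
  refine WithBot.coe_le_coe.2 (WithTop.coe_le_coe.2 (by_contra fun hlt => hg ?_))
  have hlt' : ¬ g ≤ -((r : ℤ) + 1) := hlt
  refine (AddSubgroup.eq_bot_iff_forall _).2 fun c hc => ?_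
  exact (Submodule.mem_bot _).1 ((GrInj.Std.vanAbove_self k r (r + 1) g (by push_cast; omega) I).le hc)

/-- Let k be a field, s ≥ 1, d ≥ 1, and R = k[X_1, …, X_s] graded with every variable in degree 1.
Present the Veronese subring R^(d) = ⊕_j R_{jd} as a commutative ring R' with an injective ring
homomorphism φ : R' → R whose image is the set of polynomials whose homogeneous components in all
degrees not divisible by d are zero, and let m' be the maximal ideal of R' that is the preimage of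
the ideal of polynomials with zero constant term (the irrelevant ideal of R^(d)). Let n be the least
integer such that n ≥ s and d divides n. Then the type of R^(d), namely the Bass number μ_s(m', R')
= dim over the residue field of Ext^s over the local ring R'_{m'} from its residue field to R'_{m'}
(here s = dim R'), equals the binomial coefficient (n − 1 choose s − 1). -/
theorem result (k : Type u) [Field k] (s d : ℕ) (hs : 1 ≤ s)
    (hd : 1 ≤ d) (R' : Type u) [CommRing R'] (φ : R' →+* MvPolynomial (Fin s) k)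
    (hφ : Function.Injective φ)
    (hrange : ∀ p : MvPolynomial (Fin s) k, p ∈ φ.range ↔
      ∀ j : ℕ, ¬ d ∣ j → MvPolynomial.homogeneousComponent j p = 0)
    (m' : Ideal R') [m'.IsMaximal]
    (hm' : m' = Ideal.comap φ (RingHom.ker (MvPolynomial.constantCoeff : MvPolynomial (Fin s) k →+* k)))
    (n : ℕ) (hsn : s ≤ n) (hdn : d ∣ n) (hmin : ∀ n' : ℕ, s ≤ n' → d ∣ n' → n ≤ n') :
    GrLC.bassNum m' R' s = (Nat.choose (n - 1) (s - 1) : ℕ∞) := by
  classical
  obtain ⟨r, rfl⟩ : ∃ r, s = r + 1 := ⟨s - 1, by omega⟩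
  obtain ⟨-, h0⟩ := field_deg0 k r
  haveI : LocCoh.IsGorensteinRing k := by
    haveI := DepthLib.CMPoly.isRegularRing_field k
    exact GorLib.isGorensteinRing_of_isRegularRing k
  haveI := GorLib.isGorensteinRing_mvPolynomial k (r + 1)
  haveI := GrInj.isCohenMacaulayRing_of_gorenstein (R := MvPolynomial (Fin (r + 1)) k)
  have hdim : ringKrullDim (MvPolynomial (Fin (r + 1)) k) = ((r + 1 : ℕ) : WithBot ℕ∞) := by
    rw [MvPolynomial.ringKrullDim_of_isNoetherianRing, ringKrullDim_eq_zero_of_field, zero_add, Nat.card_fin]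
  have hpos := GrInj.Std.pos k r
  -- the grading of the subring
  have hmem : ∀ (j : ℤ) (p : MvPolynomial (Fin (r + 1)) k), p ∈ GrInj.Std.gr k r (j * d) → ∃ x, φ x = p := fun j p hp =>
    (hrange p).2 fun t ht => comp_zero hp t fun h => ht (Int.natCast_dvd_natCast.1 ⟨j, by rw [← h, mul_comm]⟩)
  let 𝒜' : ℤ → AddSubgroup R' := fun j => (GrInj.Std.gr k r (j * d)).comap (φ : R' →+ MvPolynomial (Fin (r + 1)) k)
  have hdz : (d : ℤ) ≠ 0 := by omega
  choose π hπ using fun (j : ℤ) (x : R') => hmem j _ (GrInj.pr_mem (ℳ := GrInj.Std.gr k r) (j * d) (φ x))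
  have hsum : ∀ x : R', ∃ (N : ℕ) (y : ℕ → R'), x = ∑ t ∈ Finset.range N, y t ∧
      ∀ t, φ (y t) = MvPolynomial.homogeneousComponent t (φ x) ∧ y t ∈ 𝒜' ((t : ℤ) / d) := by
    intro x
    have hy : ∀ t : ℕ, ∃ y, φ y = MvPolynomial.homogeneousComponent t (φ x) ∧ y ∈ 𝒜' ((t : ℤ) / d) := by
      intro t
      by_cases ht : d ∣ t
      · have he : ((t : ℤ) / d) * d = t := Int.ediv_mul_cancel (Int.natCast_dvd_natCast.2 ht)
        obtain ⟨y, hy⟩ := hmem ((t : ℤ) / d) _ (by rw [he]; exact mem_comp (φ x) t)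
        refine ⟨y, hy, show φ y ∈ GrInj.Std.gr k r ((t : ℤ) / d * d) from ?_⟩
        rw [he, hy]
        exact mem_comp (φ x) t
      · exact ⟨0, by rw [map_zero, (hrange _).1 ⟨x, rfl⟩ t ht], zero_mem _⟩
    choose y hy using hy
    refine ⟨(φ x).totalDegree + 1, y, hφ ?_, hy⟩
    rw [map_sum, Finset.sum_congr rfl fun t _ => (hy t).1, MvPolynomial.sum_homogeneousComponent]
  have hint : DirectSum.IsInternal 𝒜' := by
    refine GrInj.isInternal_of 𝒜' (fun j => AddMonoidHom.mk' (π j) fun a b => hφ (by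
        rw [map_add, hπ, hπ, hπ, map_add, map_add]))
      (fun j x hx => hφ ((hπ j x).trans (GrInj.pr_of_mem hx)))
      (fun i j hij x hx => hφ (by
        show φ (π _ x) = φ 0
        rw [hπ, map_zero]
        exact GrInj.pr_of_ne hx fun h => hij (mul_right_cancel₀ hdz h))) fun x => ?_
    obtain ⟨N, y, hxy, hy⟩ := hsum x
    rw [hxy]
    exact sum_mem fun t _ => le_iSup 𝒜' _ (hy t).2
  letI : DirectSum.Decomposition 𝒜' := hint.chooseDecomposition
  haveI hgm : SetLike.GradedMonoid 𝒜' :=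
    { one_mem := show φ 1 ∈ GrInj.Std.gr k r (0 * d) by rw [map_one, zero_mul]; exact SetLike.one_mem_graded _
      mul_mem := fun i j a b ha hb => show φ (a * b) ∈ GrInj.Std.gr k r ((i + j) * d) by
        rw [map_mul, add_mul]; exact SetLike.mul_mem_graded ha hb }
  letI : GradedRing 𝒜' := { hgm, hint.chooseDecomposition with }
  have hdeg : ∀ j : ℤ, (𝒜' j).map (φ : R' →+ MvPolynomial (Fin (r + 1)) k) = GrInj.Std.gr k r (j * d) := fun j => by
    refine le_antisymm ?_ fun p hp => ?_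
    · rintro _ ⟨x, hx, rfl⟩; exact hx
    · obtain ⟨x, rfl⟩ := hmem j p hp
      exact ⟨x, hp, rfl⟩
  let M' : HomogeneousIdeal 𝒜' := ⟨Ideal.span (⋃ j ∈ Set.Ioi (0 : ℤ), (𝒜' j : Set R')),
    Ideal.homogeneous_span _ _ fun x hx => by
      simp only [Set.mem_iUnion] at hx
      obtain ⟨t, -, hx⟩ := hx
      exact ⟨t, hx⟩⟩
  have hM : M'.toIdeal = m' := by
    rw [hm']
    refine le_antisymm (Ideal.span_le.2 fun x hx => ?_) fun x hx => ?_
    · simp only [Set.mem_iUnion] at hx
      obtain ⟨t, ht, hx⟩ := hx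
      exact GrSyzHilb.coeff_zero_of_pos (n := t * d) (mul_pos ht (by omega)) hx
    · obtain ⟨N, y, hxy, hy⟩ := hsum x
      rw [hxy]
      refine sum_mem fun t _ => ?_
      by_cases hz : y t = 0
      · rw [hz]; exact zero_mem _
      refine Ideal.subset_span (Set.mem_biUnion (x := (t : ℤ) / d) ?_ (hy t).2)
      have ht0 : t ≠ 0 := fun h => hz (hφ (by
        rw [(hy t).1, h, MvPolynomial.homogeneousComponent_zero, map_zero,
          show MvPolynomial.coeff 0 (φ x) = 0 from hx, map_zero]))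
      have htd : d ∣ t := by
        by_contra hnd
        exact hz (hφ (by rw [(hy t).1, (hrange _).1 ⟨x, rfl⟩ t hnd, map_zero]))
      obtain ⟨e, rfl⟩ := htd
      rw [Set.mem_Ioi, show ((d * e : ℕ) : ℤ) = (d : ℤ) * e by push_cast; rfl, Int.mul_ediv_cancel_left _ hdz]
      exact_mod_cast Nat.pos_of_ne_zero fun h => ht0 (by rw [h, mul_zero])
  haveI : M'.toIdeal.IsMaximal := hM ▸ inferInstance
  obtain ⟨I⟩ := S13215.result (MvPolynomial (Fin (r + 1)) k) (GrInj.Std.gr k r) (MvPolynomial (Fin (r + 1)) k) (GrInj.Std.gr k r)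
  have hn2 : n < r + 1 + d := by
    by_contra h
    have := hmin (n - d) (by omega) (Nat.dvd_sub hdn dvd_rfl)
    omega
  have h := S18655.result (MvPolynomial (Fin (r + 1)) k) (GrInj.Std.gr k r) hpos h0 (GrInj.Std.irr k r)
    (GrInj.isStarLocal_of_field hpos h0 (GrInj.Std.irr_eq k r)) (GrInj.Std.irr_eq k r)
    ((GrInj.Std.irr_eq k r).symm.trans (GrInj.Std.irr_hom k r)) (r + 1) hdim I (-((r : ℤ) + 1))
    (endDeg_std k r hdim I) d (by omega) R' 𝒜' φ hφ hdeg M' rfl ((n : ℤ) - (r + 1)) (by omega) (by omega)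
    (by rw [show -((r : ℤ) + 1) - ((n : ℤ) - (r + 1)) = -(n : ℤ) by ring, dvd_neg]; exact Int.natCast_dvd_natCast.2 hdn)
  rw [← bassNum_congr hM, h, finrank_deg0, GrSyzHilb.finrank_piece, if_pos (by omega)]
  congr 2
  omega

end Groth.Agent.S20027
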