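import Groth.Statements.S2008
import Mathlib
import Groth.Agent.EtAlgLib.TorsionFF
-- import your own Groth.Agent.* helpers here

set_option autoImplicit false
universe u
open TensorProduct
open EtAlg

namespace Groth.Agent.S2008

/-- For a ring map R -> S and an ideal I of R the following are equivalent: (1) S is flat over R and
S/IS is faithfully flat over R/I; (2) S is flat over R and Spec(S/IS) -> Spec(R/I) is surjective;
(3) S is flat over R and S ⊗_R M is nonzero for every nonzero R-module M killed by I; (4) S is flat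
over R and S ⊗_R M is nonzero for every nonzero I-power torsion R-module M. (Faithfulness of base
change on these subcategories is stated as detection of nonzero objects, which is equivalent for an
exact functor.) -/
theorem result (R S : Type u) [CommRing R] [CommRing S] [Algebra R S] (I : Ideal R) :
    List.TFAE [
      Module.Flat R S ∧ Module.FaithfullyFlat (R ⧸ I) (S ⧸ I.map (algebraMap R S)),
      Module.Flat R S ∧ Function.Surjective (PrimeSpectrum.comap (Ideal.quotientMap (I.map (algebraMap R S)) (algebraMap R S) Ideal.le_comap_map)),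
      Module.Flat R S ∧ ∀ (M : Type u) [AddCommGroup M] [Module R M], (∀ (a : R) (m : M), a ∈ I → a • m = 0) →
        Nontrivial M → Nontrivial (S ⊗[R] M),
      Module.Flat R S ∧ ∀ (M : Type u) [AddCommGroup M] [Module R M], (∀ m : M, ∃ n : ℕ, ∀ a ∈ I ^ n, a • m = 0) →
        Nontrivial M → Nontrivial (S ⊗[R] M)] := by
  tfae_have 1 → 2 := fun ⟨h, h'⟩ => ⟨h, PrimeSpectrum.comap_surjective_of_faithfullyFlat
    (A := R ⧸ I) (B := S ⧸ I.map (algebraMap R S))⟩
  tfae_have 2 → 1 := fun ⟨h, hs⟩ => by
    haveI := h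
    haveI := EtAlgLib.flat_quotient (S := S) I
    exact ⟨h, Module.FaithfullyFlat.of_comap_surjective hs⟩
  tfae_have 2 → 4 := fun ⟨h, hs⟩ => by
    haveI := h
    refine ⟨h, fun M _ _ hM _ => EtAlgLib.nontrivial_tensor_of_torsion (fun m hm hIm => ?_) M hM⟩
    have hp : (m.map (Ideal.Quotient.mk I)).IsPrime :=
      Ideal.map_isPrime_of_surjective Ideal.Quotient.mk_surjective (by rwa [Ideal.mk_ker])
    obtain ⟨q, hq⟩ := hs ⟨_, hp⟩
    refine ⟨q.asIdeal.comap (Ideal.Quotient.mk _), inferInstance, ?_⟩
    have h1 := congrArg (fun J : Ideal (R ⧸ I) => J.comap (Ideal.Quotient.mk I))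
      (congrArg PrimeSpectrum.asIdeal hq)
    rw [PrimeSpectrum.comap_asIdeal] at h1
    beta_reduce at h1
    rw [Ideal.comap_comap, Ideal.quotientMap_comp_mk, Ideal.comap_map_of_surjective _
      Ideal.Quotient.mk_surjective, ← RingHom.ker_eq_comap_bot, Ideal.mk_ker, sup_eq_left.2 hIm] at h1
    rw [Ideal.comap_comap]
    exact h1
  tfae_have 4 → 3 := fun ⟨h, hM⟩ => ⟨h, fun M _ _ hI => hM M fun m =>
    ⟨1, fun a ha => hI a m (by rwa [pow_one] at ha)⟩⟩
  tfae_have 3 → 2 := fun ⟨h, hM⟩ => by
    refine ⟨h, fun p => ?_⟩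
    obtain ⟨q, hq⟩ := EtAlgLib.exists_prime_over_of_detects hM
      (PrimeSpectrum.comap (Ideal.Quotient.mk I) p) (fun a ha => by
        rw [PrimeSpectrum.comap_asIdeal, Ideal.mem_comap, Ideal.Quotient.eq_zero_iff_mem.2 ha]
        exact zero_mem _)
    have hle : I.map (algebraMap R S) ≤ q.asIdeal := Ideal.map_le_iff_le_comap.2 fun a ha => by
      rw [← PrimeSpectrum.comap_asIdeal, hq, PrimeSpectrum.comap_asIdeal, Ideal.mem_comap,
        Ideal.Quotient.eq_zero_iff_mem.2 ha]
      exact zero_mem _
    let q' : PrimeSpectrum (S ⧸ I.map (algebraMap R S)) := ⟨q.asIdeal.map (Ideal.Quotient.mk _),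
      Ideal.map_isPrime_of_surjective Ideal.Quotient.mk_surjective (by rwa [Ideal.mk_ker])⟩
    have hq' : PrimeSpectrum.comap (Ideal.Quotient.mk (I.map (algebraMap R S))) q' = q :=
      PrimeSpectrum.ext (by
        rw [PrimeSpectrum.comap_asIdeal, Ideal.comap_map_of_surjective _ Ideal.Quotient.mk_surjective,
          ← RingHom.ker_eq_comap_bot, Ideal.mk_ker, sup_eq_left.2 hle])
    refine ⟨q', PrimeSpectrum.comap_injective_of_surjective _ (Ideal.Quotient.mk_surjective (I := I)) ?_⟩
    rw [← PrimeSpectrum.comap_comp_apply, Ideal.quotientMap_comp_mk, PrimeSpectrum.comap_comp_apply,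
      hq', hq]
  tfae_finish

end Groth.Agent.S2008
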