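import Groth.Statements.S2009
import Mathlib
import Groth.Agent.EtAlgLib.TorsionFF
-- import your own Groth.Agent.* helpers here

set_option autoImplicit false
universe u
open TensorProduct
open EtAlg

namespace Groth.Agent.S2009

/-- Let R -> S be flat with S/IS faithfully flat over R/I. Then the natural map M -> S ⊗_R M is
bijective for every I-power torsion R-module M if and only if R/I -> S/IS is bijective. -/
theorem result (R S : Type u) [CommRing R] [CommRing S] [Algebra R S] (I : Ideal R)
    [Module.Flat R S] [Module.FaithfullyFlat (R ⧸ I) (S ⧸ I.map (algebraMap R S))] :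
    (∀ (M : Type u) [AddCommGroup M] [Module R M], (∀ m : M, ∃ n : ℕ, ∀ a ∈ I ^ n, a • m = 0) →
      Function.Bijective (TensorProduct.mk R S M 1)) ↔
    Function.Bijective (Ideal.quotientMap (I.map (algebraMap R S)) (algebraMap R S) Ideal.le_comap_map) := by
  have hsurj : Function.Surjective (PrimeSpectrum.comap (Ideal.quotientMap (I.map (algebraMap R S))
      (algebraMap R S) Ideal.le_comap_map)) :=
    PrimeSpectrum.comap_surjective_of_faithfullyFlat (A := R ⧸ I) (B := S ⧸ I.map (algebraMap R S))
  constructor
  · intro h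
    have hI : ∀ m : R ⧸ I, ∃ n : ℕ, ∀ a ∈ I ^ n, a • m = 0 := fun m => ⟨1, fun a ha => by
      rw [pow_one] at ha
      rw [Algebra.smul_def, Ideal.Quotient.algebraMap_eq, Ideal.Quotient.eq_zero_iff_mem.2 ha,
        zero_mul]⟩
    have hb := h (R ⧸ I) hI
    have he : ⇑(Ideal.quotientMap (I.map (algebraMap R S)) (algebraMap R S) Ideal.le_comap_map) =
        ⇑(Algebra.TensorProduct.quotIdealMapEquivTensorQuot S I).symm ∘
          ⇑(TensorProduct.mk R S (R ⧸ I) 1) := by
      funext x
      obtain ⟨x, rfl⟩ := Ideal.Quotient.mk_surjective x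
      rw [Ideal.quotientMap_mk]
      simp [Algebra.smul_def]
    rw [he]
    exact (AlgEquiv.bijective _).comp hb
  · intro hb M _ _ hM
    have hmax : ∀ m : Ideal R, m.IsMaximal → I ≤ m →
        ∃ q : Ideal S, q.IsPrime ∧ q.comap (algebraMap R S) = m := fun m hm hIm => by
      have hp : (m.map (Ideal.Quotient.mk I)).IsPrime :=
        Ideal.map_isPrime_of_surjective Ideal.Quotient.mk_surjective (by rwa [Ideal.mk_ker])
      obtain ⟨q, hq⟩ := hsurj ⟨_, hp⟩
      refine ⟨q.asIdeal.comap (Ideal.Quotient.mk _), inferInstance, ?_⟩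
      have h1 := congrArg (fun J : Ideal (R ⧸ I) => J.comap (Ideal.Quotient.mk I))
        (congrArg PrimeSpectrum.asIdeal hq)
      rw [PrimeSpectrum.comap_asIdeal] at h1
      beta_reduce at h1
      rw [Ideal.comap_comap, Ideal.quotientMap_comp_mk, Ideal.comap_map_of_surjective _
        Ideal.Quotient.mk_surjective, ← RingHom.ker_eq_comap_bot, Ideal.mk_ker,
        sup_eq_left.2 hIm] at h1
      rw [Ideal.comap_comap]
      exact h1
    constructor
    · rw [← LinearMap.ker_eq_bot]
      by_contra hne
      haveI : Nontrivial (LinearMap.ker (TensorProduct.mk R S M 1)) :=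
        Submodule.nontrivial_iff_ne_bot.2 hne
      haveI := EtAlgLib.nontrivial_tensor_of_torsion hmax (LinearMap.ker (TensorProduct.mk R S M 1))
        fun x => by
          obtain ⟨n, hn⟩ := hM x.1
          exact ⟨n, fun a ha => Subtype.ext (hn a ha)⟩
      have h0 : (LinearMap.ker (TensorProduct.mk R S M 1)).subtype.lTensor S = 0 :=
        TensorProduct.ext' fun s x => by
          have hx := x.2
          rw [LinearMap.mem_ker, TensorProduct.mk_apply] at hx
          have h2 : s ⊗ₜ[R] x.1 = s • ((1 : S) ⊗ₜ[R] x.1) := by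
            rw [TensorProduct.smul_tmul', smul_eq_mul, mul_one]
          simp only [LinearMap.lTensor_tmul, Submodule.coe_subtype, LinearMap.zero_apply]
          rw [h2, hx, smul_zero]
      obtain ⟨z, hz⟩ := exists_ne (0 : S ⊗[R] ↥(LinearMap.ker (TensorProduct.mk R S M 1)))
      exact hz (Module.Flat.lTensor_preserves_injective_linearMap _
        (Submodule.injective_subtype _) (by rw [h0]; rfl))
    · intro y
      induction y using TensorProduct.induction_on with
      | zero => exact ⟨0, map_zero _⟩
      | tmul s m =>
        obtain ⟨n, hn⟩ := hM m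
        have h : ∀ s : S, ∃ r : R, s - algebraMap R S r ∈ I.map (algebraMap R S) := fun s => by
          obtain ⟨r, hr⟩ := hb.2 (Ideal.Quotient.mk _ s)
          obtain ⟨r, rfl⟩ := Ideal.Quotient.mk_surjective r
          rw [Ideal.quotientMap_mk] at hr
          exact ⟨r, Ideal.Quotient.eq.1 hr.symm⟩
        obtain ⟨r, hr⟩ := EtAlgLib.mem_range_add_pow I h n s
        refine ⟨r • m, ?_⟩
        suffices H : ∀ z ∈ (I ^ n).map (algebraMap R S), z ⊗ₜ[R] m = 0 by
          have := H _ hr
          rw [TensorProduct.sub_tmul, sub_eq_zero] at this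
          rw [this, TensorProduct.mk_apply, TensorProduct.tmul_smul, TensorProduct.smul_tmul',
            Algebra.smul_def, mul_one]
        intro z hz
        rw [Ideal.map] at hz
        induction hz using Submodule.span_induction with
        | mem x hx =>
          obtain ⟨a, ha, rfl⟩ := hx
          rw [Algebra.algebraMap_eq_smul_one, TensorProduct.smul_tmul, hn a ha, TensorProduct.tmul_zero]
        | zero => exact TensorProduct.zero_tmul _ _
        | add x y _ _ hx hy => rw [TensorProduct.add_tmul, hx, hy, add_zero]
        | smul t x _ hx => rw [← TensorProduct.smul_tmul', hx, smul_zero]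
      | add x y hx hy =>
        obtain ⟨a, rfl⟩ := hx
        obtain ⟨b, rfl⟩ := hy
        exact ⟨a + b, map_add _ _ _⟩

end Groth.Agent.S2009
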