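import Groth.Statements.S2010
import Groth.Agent.GluePair.FlatGlue
import Groth.Agent.EtAlgLib.TorsionFF
-- import your own Groth.Agent.* helpers here

set_option autoImplicit false
universe u
open TensorProduct
open EtAlg

namespace Groth.Agent.S2010

section aux
open TensorProduct

variable {R S : Type u} [CommRing R] [CommRing S] [Algebra R S] [Module.Flat R S] {t : ℕ} {f : Fin t → R}

/-- Cocycles in the base change come from cocycles, up to a coboundary. -/
theorem exists_cocycle_decomp
    (hq : Function.Bijective (Ideal.quotientMap (Ideal.map (algebraMap R S) (Ideal.span (Set.range f)))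
      (algebraMap R S) Ideal.le_comap_map))
    (N : Type u) [AddCommGroup N] [Module R N] (K : ℕ) (y : Fin t → S ⊗[R] N)
    (hy : ∀ i j, f j ^ K • y i = f i ^ K • y j) :
    ∃ (n : Fin t → N) (y0 : S ⊗[R] N), (∀ i j, f j ^ K • n i = f i ^ K • n j) ∧
      ∀ i, y i = (1 : S) ⊗ₜ[R] n i + f i ^ K • y0 := by
  classical
  let P : Fin t × Fin t → (Fin t → N) →ₗ[R] N := fun p =>
    f p.2 ^ K • LinearMap.proj (φ := fun _ : Fin t => N) p.1 -
      f p.1 ^ K • LinearMap.proj (φ := fun _ : Fin t => N) p.2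
  let d1 : (Fin t → N) →ₗ[R] (Fin t × Fin t → N) := LinearMap.pi P
  have hev : ∀ {ι : Type} [Fintype ι] [DecidableEq ι] (z : S ⊗[R] (ι → N)) (i : ι),
      TensorProduct.piRight R R S (fun _ : ι => N) z i =
        (LinearMap.proj (φ := fun _ : ι => N) i).lTensor S z := by
    intro ι _ _ z i
    induction z using TensorProduct.induction_on with
    | zero => simp
    | add a b ha hb => simp only [map_add, Pi.add_apply, ha, hb]
    | tmul s v => simp
  obtain ⟨z, hz⟩ := (TensorProduct.piRight R R S (fun _ : Fin t => N)).surjective y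
  have hzi : ∀ i, (LinearMap.proj (φ := fun _ : Fin t => N) i).lTensor S z = y i := fun i => by
    rw [← hev, hz]
  have hz0 : d1.lTensor S z = 0 := by
    apply (TensorProduct.piRight R R S (fun _ : Fin t × Fin t => N)).injective
    funext p
    rw [map_zero, hev, ← LinearMap.lTensor_comp_apply, LinearMap.proj_pi, LinearMap.lTensor_sub,
      LinearMap.lTensor_smul, LinearMap.lTensor_smul, LinearMap.sub_apply, LinearMap.smul_apply,
      LinearMap.smul_apply, hzi, hzi, hy, sub_self]
    rfl
  obtain ⟨w, rfl⟩ := (Module.Flat.lTensor_exact S (LinearMap.exact_subtype_ker_map d1) z).mp hz0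
  have key : ∀ w : S ⊗[R] LinearMap.ker d1, ∃ (n : Fin t → N) (y0 : S ⊗[R] N),
      (∀ i j, f j ^ K • n i = f i ^ K • n j) ∧ ∀ i, (LinearMap.proj (φ := fun _ : Fin t => N) i).lTensor S
        ((LinearMap.ker d1).subtype.lTensor S w) = (1 : S) ⊗ₜ[R] n i + f i ^ K • y0 := by
    intro w
    induction w using TensorProduct.induction_on with
    | zero => exact ⟨0, 0, fun i j => by simp, fun i => by simp⟩
    | add a b ha hb =>
      obtain ⟨n, y0, hn, ha⟩ := ha
      obtain ⟨n', y0', hn', hb⟩ := hb
      refine ⟨n + n', y0 + y0', fun i j => ?_, fun i => ?_⟩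
      · rw [Pi.add_apply, Pi.add_apply, smul_add, smul_add, hn, hn']
      · rw [map_add, map_add, ha, hb, Pi.add_apply, tmul_add, smul_add]
        abel
    | tmul s v =>
      have hcomp : ∀ i j, f j ^ K • v.1 i = f i ^ K • v.1 j := fun i j => by
        have := congrFun (LinearMap.mem_ker.mp v.2) (i, j)
        simpa [d1, P, sub_eq_zero] using this
      have hle : Ideal.span (Set.range f) ≤ (Ideal.span (Set.range fun i => f i ^ K)).radical :=
        Ideal.span_le.mpr (by rintro _ ⟨i, rfl⟩; exact ⟨K, Ideal.subset_span ⟨i, rfl⟩⟩)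
      obtain ⟨L, hL⟩ := Ideal.exists_pow_le_of_le_radical_of_fg hle
        (Submodule.fg_span (Set.finite_range f))
      have hs1 : ∀ s : S, ∃ r : R, s - algebraMap R S r ∈
          (Ideal.span (Set.range f)).map (algebraMap R S) := fun s => by
        obtain ⟨r, hr⟩ := hq.2 (Ideal.Quotient.mk _ s)
        obtain ⟨r, rfl⟩ := Ideal.Quotient.mk_surjective r
        rw [Ideal.quotientMap_mk] at hr
        exact ⟨r, Ideal.Quotient.eq.1 hr.symm⟩
      obtain ⟨r, hr⟩ := EtAlgLib.mem_range_add_pow _ hs1 L s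
      have hr' := Ideal.map_mono hL hr
      rw [Ideal.map_span, ← Set.range_comp] at hr'
      obtain ⟨c, hc⟩ := (Submodule.mem_span_range_iff_exists_fun S).mp hr'
      refine ⟨r • v.1, ∑ l, c l ⊗ₜ[R] v.1 l, fun i j => ?_, fun i => ?_⟩
      · rw [Pi.smul_apply, Pi.smul_apply, smul_comm, hcomp, smul_comm]
      · have hs : s = algebraMap R S r + ∑ l, c l • algebraMap R S (f l ^ K) := by
          rw [← sub_eq_iff_eq_add']
          exact hc.symm
        rw [LinearMap.lTensor_tmul, LinearMap.lTensor_tmul, Submodule.subtype_apply, LinearMap.proj_apply]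
        conv_lhs => rw [hs]
        rw [add_tmul, sum_tmul, Pi.smul_apply, Finset.smul_sum]
        congr 1
        · rw [Algebra.algebraMap_eq_smul_one, smul_tmul]
        · refine Finset.sum_congr rfl fun l _ => ?_
          rw [← tmul_smul, ← hcomp i l, smul_eq_mul, mul_comm, ← Algebra.smul_def, smul_tmul]
  obtain ⟨n, y0, hn, hw⟩ := key w
  exact ⟨n, y0, hn, fun i => by rw [← hzi, hw]⟩

end aux

/-- Let R -> S be flat and I a finitely generated ideal with R/I -> S/IS bijective; let N be an R-module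
and M an I-power torsion R-module. For every short exact sequence 0 -> S ⊗_R N -> E' -> S ⊗_R M -> 0
of S-modules there are a short exact sequence 0 -> N -> E -> M -> 0 of R-modules and an R-linear map
E -> E' making the two squares with the maps n ↦ 1 ⊗ n and m ↦ 1 ⊗ m commute. -/
theorem result (R S : Type u) [CommRing R] [CommRing S] [Algebra R S] [Module.Flat R S] (I : Ideal R)
    (hI : I.FG) (hq : Function.Bijective (Ideal.quotientMap (I.map (algebraMap R S)) (algebraMap R S) Ideal.le_comap_map))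
    (N M : Type u) [AddCommGroup N] [Module R N] [AddCommGroup M] [Module R M]
    (hM : ∀ m : M, ∃ n : ℕ, ∀ a ∈ I ^ n, a • m = 0)
    (E' : Type u) [AddCommGroup E'] [Module S E'] [Module R E'] [IsScalarTower R S E'] (i' : S ⊗[R] N →ₗ[S] E') (p' : E' →ₗ[S] S ⊗[R] M)
    (hi' : Function.Injective i') (hp' : Function.Surjective p') (hex' : LinearMap.range i' = LinearMap.ker p') :
    ∃ (E : Type u) (_ : AddCommGroup E) (_ : Module R E) (i : N →ₗ[R] E) (p : E →ₗ[R] M) (g : E →ₗ[R] E'),
      Function.Injective i ∧ Function.Surjective p ∧ LinearMap.range i = LinearMap.ker p ∧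
      (∀ n : N, g (i n) = i' ((1 : S) ⊗ₜ[R] n)) ∧ (∀ e : E, p' (g e) = (1 : S) ⊗ₜ[R] p e) := by
  classical
  obtain ⟨t, f, rfl⟩ := Submodule.fg_iff_exists_fin_generating_family.mp hI
  have hMbij := GluePair.bijective_mk_of_iTors hq M hM
  let μ : M ≃ₗ[R] S ⊗[R] M := LinearEquiv.ofBijective (TensorProduct.mk R S M 1) hMbij
  let Ni := fun i => LocalizedModule (Submonoid.powers (f i)) N
  let fr : (i : Fin t) → ℕ → N → Ni i := fun i K n =>
    LocalizedModule.mk n ⟨f i ^ K, Submonoid.pow_mem _ (Submonoid.mem_powers (f i)) K⟩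
  have hshift : ∀ i (K L : ℕ) (n : N), fr i (K + L) (f i ^ L • n) = fr i K n := fun i K L n => by
    simp only [fr]
    rw [LocalizedModule.mk_eq]
    refine ⟨1, ?_⟩
    simp [Submonoid.smul_def, smul_smul, pow_add]
  let Ok : E' × ((i : Fin t) → Ni i) → ℕ → (Fin t → N) → Prop := fun x K n =>
    (∀ i, f i ^ K • x.1 = i' ((1 : S) ⊗ₜ[R] n i)) ∧ (∀ i j, f j ^ K • n i = f i ^ K • n j) ∧
      ∀ i, x.2 i = fr i K (n i)
  have hOk : ∀ x K L n, Ok x K n → Ok x (K + L) (fun i => f i ^ L • n i) := by
    rintro x K L n ⟨h1, h2, h3⟩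
    refine ⟨fun i => ?_, fun i j => ?_, fun i => by rw [h3, hshift]⟩
    · rw [pow_add, mul_comm, mul_smul, h1, TensorProduct.tmul_smul, LinearMap.map_smul_of_tower]
    · rw [show f j ^ (K + L) • f i ^ L • n i = (f i ^ L * f j ^ L) • f j ^ K • n i by
          simp only [smul_smul]; congr 1; ring,
        show f i ^ (K + L) • f j ^ L • n j = (f i ^ L * f j ^ L) • f i ^ K • n j by
          simp only [smul_smul]; congr 1; ring, h2]
  let E : Submodule R (E' × ((i : Fin t) → Ni i)) :=
    { carrier := {x | ∃ K n, Ok x K n}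
      add_mem' := by
        rintro x y ⟨K, n, hx⟩ ⟨L, n', hy⟩
        obtain ⟨h1, h2, h3⟩ := hOk x K L n hx
        have hy' := hOk y L K n' hy
        rw [add_comm L K] at hy'
        obtain ⟨h1', h2', h3'⟩ := hy'
        refine ⟨K + L, fun i => f i ^ L • n i + f i ^ K • n' i, fun i => ?_, fun i j => ?_, fun i => ?_⟩
        · rw [Prod.fst_add, smul_add, h1, h1', TensorProduct.tmul_add, map_add]
        · rw [smul_add, smul_add, h2, h2']
        · rw [Prod.snd_add, Pi.add_apply, h3, h3']
          simp only [fr]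
          rw [LocalizedModule.mk_add_mk, LocalizedModule.mk_eq]
          refine ⟨1, ?_⟩
          simp only [Submonoid.smul_def, Submonoid.coe_mul, smul_add, smul_smul, OneMemClass.coe_one, one_mul, mul_assoc]
      zero_mem' := ⟨0, 0, fun i => by simp, fun i j => by simp,
        fun i => (LocalizedModule.zero_mk _).symm⟩
      smul_mem' := by
        rintro r x ⟨K, n, h1, h2, h3⟩
        refine ⟨K, fun i => r • n i, fun i => ?_, fun i j => ?_, fun i => ?_⟩
        · rw [Prod.smul_fst, smul_comm, h1, TensorProduct.tmul_smul, LinearMap.map_smul_of_tower]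
        · rw [smul_comm, h2, smul_comm]
        · rw [Prod.smul_snd, Pi.smul_apply, h3]
          exact LocalizedModule.smul'_mk _ _ _ }
  let i0 : N →ₗ[R] E := LinearMap.codRestrict E
    (LinearMap.prod ((i'.restrictScalars R) ∘ₗ TensorProduct.mk R S N 1)
      (LinearMap.pi fun i => LocalizedModule.mkLinearMap (Submonoid.powers (f i)) N))
    fun n => ⟨0, fun _ => n, fun i => by simp, fun i j => by simp, fun i => by
      simp [fr]; rfl⟩
  let g : E →ₗ[R] E' := (LinearMap.fst R E' _).comp E.subtype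
  let p : E →ₗ[R] M := μ.symm.toLinearMap ∘ₗ (p'.restrictScalars R) ∘ₗ g
  have hpg : ∀ e : E, p' (g e) = (1 : S) ⊗ₜ[R] p e := fun e => (μ.apply_symm_apply _).symm
  refine ⟨E, inferInstance, inferInstance, i0, p, g, ?_, ?_, ?_, fun n => rfl, hpg⟩
  · refine (injective_iff_map_eq_zero _).mpr fun n hn => ?_
    have hn1 : i' ((1 : S) ⊗ₜ[R] n) = 0 := congrArg (fun x : E => x.1.1) hn
    exact GluePair.eq_zero_of_tmul_of_loc N hq n (hi' (by rw [hn1, map_zero]))
      fun i => congrArg (fun x : E => x.1.2 i) hn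
  · intro m
    obtain ⟨e', he'⟩ := hp' ((1 : S) ⊗ₜ[R] m)
    obtain ⟨K, hK⟩ := hM m
    have hlift : ∀ i, ∃ y : S ⊗[R] N, i' y = f i ^ K • e' := fun i => by
      rw [← LinearMap.mem_range, hex', LinearMap.mem_ker, LinearMap.map_smul_of_tower, he',
        ← TensorProduct.tmul_smul, hK (f i ^ K) (Ideal.pow_mem_pow (Ideal.subset_span (Set.mem_range_self i)) K),
        TensorProduct.tmul_zero]
    choose y hy using hlift
    obtain ⟨n, y0, hn, hny⟩ := exists_cocycle_decomp hq N K y fun i j => hi' (by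
      rw [LinearMap.map_smul_of_tower, LinearMap.map_smul_of_tower, hy, hy, smul_comm])
    refine ⟨⟨(e' - i' y0, fun i => fr i K (n i)), K, n, fun i => ?_, hn, fun i => rfl⟩, ?_⟩
    · show f i ^ K • (e' - i' y0) = _
      rw [smul_sub, ← hy, ← LinearMap.map_smul_of_tower, ← map_sub, hny, add_sub_cancel_right]
    · show μ.symm (p' (e' - i' y0)) = m
      have : p' (i' y0) = 0 := LinearMap.mem_ker.mp (hex' ▸ LinearMap.mem_range_self i' y0)
      rw [map_sub, he', this, sub_zero]
      exact μ.symm_apply_apply m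
  · apply le_antisymm
    · rintro _ ⟨n, rfl⟩
      have : p' (i' ((1 : S) ⊗ₜ[R] n)) = 0 :=
        LinearMap.mem_ker.mp (hex' ▸ LinearMap.mem_range_self i' _)
      show μ.symm (p' (i' ((1 : S) ⊗ₜ[R] n))) = 0
      rw [this, map_zero]
    · rintro ⟨⟨e', e⟩, K, n, h1, h2, h3⟩ hx
      have hp0 : p' e' = 0 := μ.symm.map_eq_zero_iff.mp (LinearMap.mem_ker.mp hx)
      obtain ⟨y, rfl⟩ : e' ∈ LinearMap.range i' := hex' ▸ LinearMap.mem_ker.mpr hp0
      obtain ⟨ν, hν, hνi⟩ := GluePair.exists_of_compatible N hq y K n (fun i => by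
        have hyn : f i ^ K • y = (1 : S) ⊗ₜ[R] n i := hi' (by
          rw [LinearMap.map_smul_of_tower]; exact h1 i)
        rw [EtGlue.tensorOfLoc, IsLocalizedModule.mk_eq_mk', IsLocalizedModule.map_mk']
        symm
        rw [IsLocalizedModule.mk'_eq_iff, Submonoid.smul_def, ← map_smul]
        exact congrArg _ hyn.symm) (fun i j => ⟨0, by rw [h2, sub_self, smul_zero]⟩)
      refine ⟨ν, Subtype.ext (Prod.ext ?_ (funext fun i => ?_))⟩
      · show i' ((1 : S) ⊗ₜ[R] ν) = i' y
        rw [hν]
      · exact (hνi i).trans (h3 i).symm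


end Groth.Agent.S2010
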