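import Groth.Statements.S2011
import Mathlib
-- import your own Groth.Agent.* helpers here

set_option autoImplicit false
universe u
open EtAlg

namespace Groth.Agent.S2011

/-- Let A be a Noetherian ring and I an ideal contained in the Jacobson radical of A (a Zariski pair).
Then for every f in I the localization A_f is a Jacobson ring. -/
theorem result (A : Type u) [CommRing A] [IsNoetherianRing A] (I : Ideal A)
    (hI : I ≤ (⊥ : Ideal A).jacobson) (f : A) (hf : f ∈ I) : IsJacobsonRing (Localization.Away f) := by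
  classical
  refine isJacobsonRing_iff_prime_eq.2 fun P hP => le_antisymm (fun x hx => ?_) Ideal.le_jacobson
  by_contra hxP
  -- a maximal ideal containing `P` and avoiding `x`
  suffices H : ∃ N : Ideal (Localization.Away f), N.IsMaximal ∧ P ≤ N ∧ x ∉ N by
    obtain ⟨N, hN, hPN, hxN⟩ := H
    exact hxN (Ideal.mem_sInf.1 hx ⟨hPN, hN⟩)
  obtain ⟨⟨g, ⟨_, n, rfl⟩⟩, hg⟩ := IsLocalization.surj (Submonoid.powers f) x
  have hfP : f ∉ P.comap (algebraMap A (Localization.Away f)) := fun h =>
    hP.ne_top (Ideal.eq_top_of_isUnit_mem _ h (IsLocalization.Away.algebraMap_isUnit f))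
  have hgP : g ∉ P.comap (algebraMap A (Localization.Away f)) := fun h => hxP (by
    rw [Ideal.mem_comap, ← hg] at h
    exact (hP.mem_or_mem h).resolve_right fun h' =>
      hP.ne_top (Ideal.eq_top_of_isUnit_mem _ h' (by
        rw [map_pow]; exact (IsLocalization.Away.algebraMap_isUnit f).pow n)))
  obtain ⟨(Q : Ideal A), hPQ, hQmax⟩ :=
    set_has_maximal_iff_noetherian.2 ‹IsNoetherianRing A›
      {Q : Ideal A | Q.IsPrime ∧ P.comap (algebraMap A (Localization.Away f)) ≤ Q ∧ f * g ∉ Q}
      ⟨_, inferInstance, le_rfl, fun h => ((Ideal.IsPrime.comap (algebraMap A (Localization.Away f))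
        (K := P)).mem_or_mem h).elim hfP hgP⟩
  obtain ⟨hQ, hle, hfg⟩ := hPQ
  have hfQ : f ∉ Q := fun h => hfg (Q.mul_mem_right g h)
  have hgQ : g ∉ Q := fun h => hfg (Q.mul_mem_left f h)
  -- primes strictly above `Q` are maximal
  have key : ∀ Q' : Ideal A, Q'.IsPrime → Q < Q' → f ∈ Q' := by
    intro Q' hQ' hlt
    obtain ⟨M, hM, hQM⟩ := Ideal.exists_le_maximal Q' hQ'.ne_top
    by_contra hfQ'
    let π := Ideal.Quotient.mk Q
    have hall : ∀ q : Ideal A, q.IsPrime → Q < q → f * g ∈ q := fun q hq hlt' => by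
      by_contra hc
      exact hQmax q ⟨hq, hle.trans hlt'.le, hc⟩ hlt'
    have hfM : f ∈ M := Ideal.mem_sInf.1 (hI hf) ⟨bot_le, hM⟩
    have hQ'M : Q' < M := lt_of_le_of_ne hQM fun e => hfQ' (e ▸ hfM)
    -- minimal primes over `Q + (f g)`
    obtain ⟨y, hyM, hy⟩ : ∃ y ∈ M, ∀ q ∈ (Q ⊔ Ideal.span {f * g}).minimalPrimes, q ≠ M → y ∉ q := by
      by_contra hc
      push Not at hc
      have hfin := (Q ⊔ Ideal.span {f * g}).finite_minimalPrimes_of_isNoetherianRing
      have hsub : (M : Set A) ⊆ ⋃ q ∈ ((hfin.toFinset.erase M : Finset (Ideal A)) : Set (Ideal A)), (q : Set A) := by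
        intro y hy
        obtain ⟨q, hq, hqM, hyq⟩ := hc y hy
        exact Set.mem_iUnion₂.2 ⟨q, Finset.mem_coe.2 (Finset.mem_erase.2 ⟨hqM, hfin.mem_toFinset.2 hq⟩), hyq⟩
      rw [Ideal.subset_union_prime (f := fun q : Ideal A => q) M M (fun q hq _ _ => by
        exact (hfin.mem_toFinset.1 (Finset.mem_erase.1 hq).2).1.1)] at hsub
      obtain ⟨q, hq, hMq⟩ := hsub
      obtain ⟨hne, hq'⟩ := Finset.mem_erase.1 hq
      exact hne (hM.eq_of_le (hfin.mem_toFinset.1 hq').1.1.ne_top hMq).symm
    obtain ⟨q, hqmin, hqM⟩ := Ideal.exists_minimalPrimes_le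
      (sup_le (hlt.le.trans hQM) ((Ideal.span_singleton_le_iff_mem _).2 hyM) : Q ⊔ Ideal.span {y} ≤ M)
    have hqp : q.IsPrime := hqmin.1.1
    have hQq : Q ≤ q := le_sup_left.trans hqmin.1.2
    have hyq : y ∈ q := hqmin.1.2 (Ideal.mem_sup_right (Ideal.mem_span_singleton_self y))
    have hQ'fg : f * g ∈ Q' := hall Q' hQ' hlt
    have hQ'Q : Q ⊔ Ideal.span {f * g} ≤ Q' := sup_le hlt.le ((Ideal.span_singleton_le_iff_mem _).2 hQ'fg)
    have hyQ : y ∉ Q := fun h => by
      obtain ⟨q', hq', hle'⟩ := Ideal.exists_minimalPrimes_le hQ'Q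
      exact hy q' hq' (fun e => hfQ' (hle' (e ▸ hfM))) (hq'.1.2 (Ideal.mem_sup_left h))
    have hQq' : Q < q := lt_of_le_of_ne hQq fun e => hyQ (e ▸ hyq)
    obtain ⟨q', hq'min, hq'q⟩ := Ideal.exists_minimalPrimes_le
      (sup_le hQq ((Ideal.span_singleton_le_iff_mem _).2 (hall q hqp hQq')) : Q ⊔ Ideal.span {f * g} ≤ q)
    -- `q'` has height at most one over `Q`, so `q' = q`
    have hht : (q.map π).height ≤ 1 := Ideal.map_height_le_one_of_mem_minimalPrimes hqmin
    haveI : (q.map π).IsPrime :=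
      Ideal.map_isPrime_of_surjective Ideal.Quotient.mk_surjective (by rwa [Ideal.mk_ker])
    haveI hq'p : q'.IsPrime := hq'min.1.1
    have hq'Q : Q ≤ q' := le_sup_left.trans hq'min.1.2
    have hfgq' : f * g ∈ q' := hq'min.1.2 (Ideal.mem_sup_right (Ideal.mem_span_singleton_self _))
    haveI : (q'.map π).IsPrime :=
      Ideal.map_isPrime_of_surjective Ideal.Quotient.mk_surjective (by rwa [Ideal.mk_ker])
    have hcm : ∀ J : Ideal A, Q ≤ J → (J.map π).comap π = J := fun J hJ => by
      rw [Ideal.comap_map_of_surjective _ Ideal.Quotient.mk_surjective, ← RingHom.ker_eq_comap_bot,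
        Ideal.mk_ker, sup_eq_left.2 hJ]
    have hqq : q' = q := by
      by_contra hne
      have hlt1 : (⊥ : Ideal (A ⧸ Q)) < q'.map π := bot_lt_iff_ne_bot.2 fun e => hfg (by
        have := Ideal.mem_map_of_mem π hfgq'
        rw [e, Ideal.mem_bot] at this
        exact Ideal.Quotient.eq_zero_iff_mem.1 this)
      have hlt2 : q'.map π < q.map π := lt_of_le_of_ne (Ideal.map_mono hq'q) fun e =>
        hne (by rw [← hcm q' hq'Q, e, hcm q hQq])
      have h1 := Ideal.height_strict_mono_of_isPrime hlt1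
      have h2 := Ideal.height_strict_mono_of_isPrime hlt2
      have h3 : (q'.map π).height < 1 := lt_of_lt_of_le h2 hht
      rw [ENat.lt_one_iff_eq_zero] at h3
      rw [h3] at h1
      exact absurd h1 (not_lt.2 bot_le)
    subst hqq
    refine hy q' hq'min (fun e => ?_) hyq
    subst e
    -- `M` is minimal over `Q + (f g)`, but it strictly contains `Q'`
    exact hQ'M.not_ge (hq'min.2 ⟨hQ', hQ'Q⟩ hQM)
  haveI := hQ
  have hdisj : Disjoint (Submonoid.powers f : Set A) (Q : Set A) := by
    rw [Ideal.disjoint_powers_iff_notMem_of_isPrime]; exact hfQ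
  refine ⟨Q.map (algebraMap A (Localization.Away f)), ?_, ?_, ?_⟩
  · haveI := IsLocalization.isPrime_of_isPrime_disjoint (Submonoid.powers f) (Localization.Away f) Q hQ hdisj
    obtain ⟨N, hN, hle'⟩ := Ideal.exists_le_maximal _ (Ideal.IsPrime.ne_top
      (IsLocalization.isPrime_of_isPrime_disjoint (Submonoid.powers f) (Localization.Away f) Q hQ hdisj))
    suffices hQN : N.comap (algebraMap A (Localization.Away f)) = Q by
      rwa [← hQN, IsLocalization.map_comap (Submonoid.powers f)]
    by_contra hne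
    have h1 : Q ≤ N.comap (algebraMap A (Localization.Away f)) := Ideal.map_le_iff_le_comap.1 hle'
    exact hN.ne_top (Ideal.eq_top_of_isUnit_mem _ (key _ inferInstance (lt_of_le_of_ne h1 (Ne.symm hne)))
      (IsLocalization.Away.algebraMap_isUnit f))
  · rw [← IsLocalization.map_comap (Submonoid.powers f) (Localization.Away f) P]
    exact Ideal.map_mono hle
  · intro h
    have h2 : g ∈ (Q.map (algebraMap A (Localization.Away f))).comap (algebraMap A (Localization.Away f)) := by
      rw [Ideal.mem_comap, ← hg]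
      exact Ideal.mul_mem_right _ _ h
    rw [← Ideal.under_def, IsLocalization.under_map_of_isPrime_disjoint (Submonoid.powers f) (Localization.Away f) hQ hdisj] at h2
    exact hgQ h2

end Groth.Agent.S2011
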