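import Groth.Statements.S2013
import Groth.Agent.ReducedHypersurface.Main
import Groth.Agent.Catenary.Basic
import Groth.Agent.Hironaka.Catenary
-- import your own Groth.Agent.* helpers here

set_option autoImplicit false
universe u
open EtAlg

namespace Groth.Agent.S2013

/-- Let R be a catenary Noetherian local normal domain and J a nonzero radical ideal of R. Then J
contains a nonzero element f such that R/fR is reduced. (The source does not say 'nonzero ideal' but
its conclusion requires it.) -/
theorem result (R : Type u) [CommRing R] [IsDomain R] [IsNoetherianRing R]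
    [IsLocalRing R] [IsIntegrallyClosed R] (hc : CAlg.IsCatenary R) (J : Ideal R) (hJ : J.IsRadical) (hJ0 : J ≠ ⊥) :
    ∃ f ∈ J, f ≠ 0 ∧ IsReduced (R ⧸ Ideal.span {f}) := by
  refine ReducedHypersurface.exists_isReduced ?_ hJ hJ0
  intro Q y hQp hQ hy Z hZ
  haveI := hQp
  haveI := hZ.isPrime
  have hQZ : Q ≤ Z := le_sup_left.trans hZ.le
  let q : PrimeSpectrum R := ⟨Q, hQp⟩
  let z : PrimeSpectrum R := ⟨Z, hZ.isPrime⟩
  have hcov : q ⋖ z := Hironaka.covBy_of_mem_minimalPrimes_sup hy hZ
  let b : PrimeSpectrum R := ⟨⊥, Ideal.isPrime_bot⟩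
  have hcov0 : b ⋖ q := by
    refine ⟨?_, fun r h1 h2 => ?_⟩
    · exact lt_of_le_of_ne bot_le (fun e => Ideal.ne_bot_of_height_eq_one hQ (congrArg PrimeSpectrum.asIdeal e).symm)
    · have := (Ideal.height_strict_mono_of_isPrime_of_isPrime (show r.asIdeal < Q from h2)).trans_eq hQ
      rw [Order.lt_one_iff, Ideal.height_eq_zero_iff, IsDomain.minimalPrimes_eq_singleton_bot,
        Set.mem_singleton_iff] at this
      exact h1.ne (PrimeSpectrum.ext this.symm)
  -- transfer to the localisation at `Z`
  let A := Localization.AtPrime Z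
  have hcat : CAlg.IsCatenary A := Catenary.isCatenary_of_isLocalization Z.primeCompl hc
  let φ := Catenary.locEmb (S := A) Z.primeCompl
  have hrange : ∀ r : PrimeSpectrum R, r ≤ z → r ∈ Set.range φ := fun r hr => by
    change r ∈ Set.range (PrimeSpectrum.comap (algebraMap R A))
    rw [PrimeSpectrum.localization_comap_range A Z.primeCompl]
    exact Set.disjoint_left.2 fun x hx hxr => hx (hr hxr)
  obtain ⟨b', hb'⟩ := hrange b (hcov0.le.trans hcov.le)
  obtain ⟨q', hq'⟩ := hrange q hcov.le
  obtain ⟨z', hz'⟩ := hrange z le_rfl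
  have c1 : b' ⋖ q' := CovBy.of_image φ (by rw [hb', hq']; exact hcov0)
  have c2 : q' ⋖ z' := CovBy.of_image φ (by rw [hq', hz']; exact hcov)
  have htop : IsMax z' := by
    intro w hw
    have : φ w ≤ z := by
      intro x hx
      exact (IsLocalization.AtPrime.to_map_mem_maximal_iff A Z x).1
        (IsLocalRing.le_maximalIdeal w.2.ne_top hx)
    exact φ.le_iff_le.1 (this.trans hz'.ge)
  have h1 : Order.coheight z' = 0 := Order.coheight_eq_zero.2 htop
  have h2 := Hironaka.coheight_of_covBy hcat c2
  have h3 := Hironaka.coheight_of_covBy hcat c1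
  rw [h2, h1] at h3
  -- `dim A = coheight ⊥`
  have h4 : (Order.coheight b' : WithBot ℕ∞) = ringKrullDim A := by
    rw [Hironaka.coheight_eq_ringKrullDim_quotient]
    have hb0 : b'.asIdeal = ⊥ := by
      have : (φ b').asIdeal = ⊥ := by rw [hb']
      rw [← IsLocalization.map_under Z.primeCompl A b'.asIdeal]
      change Ideal.map _ (φ b').asIdeal = ⊥
      rw [this, Ideal.map_bot]
    rw [hb0]
    exact ringKrullDim_eq_of_ringEquiv (RingEquiv.quotientBot A)
  rw [h3, IsLocalization.AtPrime.ringKrullDim_eq_height Z A] at h4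
  have h5 : Z.height = 0 + 1 + 1 := (WithBot.coe_injective h4).symm
  rw [h5]
  norm_num

end Groth.Agent.S2013
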