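import Groth.Statements.S2014
import Mathlib.RingTheory.Length
import Mathlib.RingTheory.Nakayama
import Mathlib.RingTheory.Ideal.MinimalPrime.Noetherian
-- import your own Groth.Agent.* helpers here

set_option autoImplicit false
universe u
open EtAlg

namespace Groth.Agent.S2014

/-- Let R be a Noetherian local ring of Krull dimension 1 and x an element of the maximal ideal
contained in no minimal prime of R. Then the number of minimal prime ideals of R is at most the
length of R/xR as an R-module. -/
theorem result (R : Type u) [CommRing R] [IsNoetherianRing R] [IsLocalRing R]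
    (hdim : ringKrullDim R = 1) (x : R) (hx : x ∈ IsLocalRing.maximalIdeal R) (hmin : ∀ p ∈ minimalPrimes R, x ∉ p) :
    (Set.ncard (minimalPrimes R) : ℕ∞) ≤ Module.length R (R ⧸ Ideal.span {x}) := by
  classical
  have main : ∀ s : Finset (Ideal R), (∀ p ∈ s, p ∈ minimalPrimes R) →
      (s.card : ℕ∞) ≤ Module.length R (R ⧸ (s.inf id ⊔ Ideal.span {x})) := by
    intro s
    induction s using Finset.induction with
    | empty => intro _; simp
    | @insert P s hP ih =>
      intro hs
      have hs' : ∀ p ∈ s, p ∈ minimalPrimes R := fun p hp => hs p (Finset.mem_insert_of_mem hp)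
      have hPmin := hs P (Finset.mem_insert_self _ _)
      rw [Finset.inf_insert, id_eq, Finset.card_insert_of_notMem hP, Nat.cast_succ]
      generalize hJ : s.inf id = J at ih ⊢
      have hlt : P ⊓ J ⊔ Ideal.span {x} < J ⊔ Ideal.span {x} := by
        refine lt_of_le_of_ne (sup_le_sup_right inf_le_right _) fun heq => ?_
        have hle : J ≤ P ⊓ J ⊔ IsLocalRing.maximalIdeal R • J := by
          intro a ha
          have ha' : a ∈ P ⊓ J ⊔ Ideal.span {x} := heq ▸ Ideal.mem_sup_left ha
          obtain ⟨b, hb, c, hc, rfl⟩ := Submodule.mem_sup.1 ha'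
          obtain ⟨r, rfl⟩ := Ideal.mem_span_singleton.1 hc
          have hxr : x * r ∈ J := by simpa using J.sub_mem ha hb.2
          have hr : r ∈ J := by
            rw [← hJ, Submodule.mem_finsetInf]
            intro Q hQ
            rw [← hJ, Submodule.mem_finsetInf] at hxr
            exact ((hs' Q hQ).1.1.mem_or_mem (hxr Q hQ)).resolve_left (hmin Q (hs' Q hQ))
          exact Submodule.add_mem_sup hb (Submodule.smul_mem_smul hx hr)
        have hJP : J ≤ P ⊓ J :=
          Submodule.le_of_le_smul_of_le_jacobson_bot (IsNoetherian.noetherian J)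
            (IsLocalRing.maximalIdeal_le_jacobson _) hle
        obtain ⟨Q, hQ, hQP⟩ := hPmin.1.1.inf_le'.1 (hJ.le.trans (hJP.trans inf_le_left) :
          s.inf id ≤ P)
        exact hP ((le_antisymm hQP (hPmin.2 (hs' Q hQ).1 hQP) : Q = P) ▸ hQ)
      let π : (R ⧸ (P ⊓ J ⊔ Ideal.span {x})) →ₗ[R] (R ⧸ (J ⊔ Ideal.span {x})) :=
        Submodule.factor hlt.le
      have hπ : Function.Surjective π := Submodule.factor_surjective _
      rw [Module.length_eq_add_of_exact (LinearMap.ker π).subtype π
        (Submodule.injective_subtype _) hπ (LinearMap.exact_subtype_ker_map π), add_comm _ (1 : ℕ∞)]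
      refine add_le_add ?_ (ih hs')
      rw [ENat.one_le_iff_ne_zero]
      intro h0
      have := Module.length_eq_zero_iff.1 h0
      obtain ⟨a, ha, ha'⟩ := SetLike.exists_of_lt hlt
      apply ha'
      let y : LinearMap.ker π := ⟨Submodule.Quotient.mk a, by
        rw [LinearMap.mem_ker]
        exact (Submodule.Quotient.mk_eq_zero _).2 ha⟩
      exact (Submodule.Quotient.mk_eq_zero _).1 (congrArg Subtype.val (Subsingleton.elim y 0))
  have hfin : (minimalPrimes R).Finite := minimalPrimes.finite_of_isNoetherianRing R
  rw [Set.ncard_eq_toFinset_card _ hfin]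
  refine (main hfin.toFinset fun p hp => hfin.mem_toFinset.1 hp).trans ?_
  exact Module.length_le_of_surjective (Submodule.factor le_sup_right) (Submodule.factor_surjective _)

end Groth.Agent.S2014
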