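import Groth.Statements.S2016
import Mathlib

set_option autoImplicit false
universe u
open EtAlg

namespace Groth.Agent.S2016

section

open Submodule

variable {R : Type*} [CommRing R]

theorem exists_dvd_all (h : ∀ a b : R, a ∣ b ∨ b ∣ a) {ι : Type*} (s : Finset ι) (hs : s.Nonempty)
    (f : ι → R) : ∃ i ∈ s, ∀ j ∈ s, f i ∣ f j := by
  classical
  induction hs using Finset.Nonempty.cons_induction with
  | singleton a => exact ⟨a, Finset.mem_singleton_self a, fun j hj => by
      rw [Finset.mem_singleton.1 hj]⟩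
  | cons a s ha hs ih =>
    obtain ⟨i, hi, hmin⟩ := ih
    rcases h (f a) (f i) with hd | hd
    · refine ⟨a, Finset.mem_cons_self a s, fun j hj => ?_⟩
      rcases Finset.mem_cons.1 hj with rfl | hj
      · exact dvd_rfl
      · exact hd.trans (hmin j hj)
    · refine ⟨i, Finset.mem_cons_of_mem hi, fun j hj => ?_⟩
      rcases Finset.mem_cons.1 hj with rfl | hj
      · exact hd
      · exact hmin j hj

/-- Smith normal form when divisibility is total. -/
theorem exists_diag (h : ∀ a b : R, a ∣ b ∨ b ∣ a) : ∀ (n : ℕ) (K : Submodule R (Fin n → R)), K.FG →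
    ∃ (e : (Fin n → R) ≃ₗ[R] (Fin n → R)) (a : Fin n → R), ∀ x, x ∈ K ↔ ∀ i, a i ∣ e x i
  | 0, K, _ => ⟨LinearEquiv.refl R _, 0, fun x => by
      rw [Subsingleton.elim x 0]; exact iff_of_true K.zero_mem fun i => i.elim0⟩
  | n + 1, K, hK => by
    classical
    obtain ⟨S, hS⟩ := hK
    rcases S.eq_empty_or_nonempty with rfl | hne
    · refine ⟨LinearEquiv.refl R _, 0, fun x => ?_⟩
      rw [← hS]; simp [funext_iff]
    obtain ⟨⟨x₀, j₀⟩, hmem, hmin⟩ := exists_dvd_all h (S ×ˢ (Finset.univ : Finset (Fin (n + 1))))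
      (hne.product Finset.univ_nonempty) (fun p => p.1 p.2)
    have hx₀ : x₀ ∈ K := hS ▸ subset_span (Finset.mem_product.1 hmem).1
    have hall : ∀ x ∈ K, ∀ j, x₀ j₀ ∣ x j := by
      intro x hx
      rw [← hS] at hx
      induction hx using span_induction with
      | mem y hy => exact fun j => hmin (y, j) (Finset.mk_mem_product hy (Finset.mem_univ j))
      | zero => exact fun j => dvd_zero _
      | add u v _ _ hu hv => exact fun j => dvd_add (hu j) (hv j)
      | smul c u _ hu => exact fun j => dvd_mul_of_dvd_right (hu j) c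
    choose v hv using fun i => hall x₀ hx₀ (j₀.succAbove i)
    let e0 : (Fin (n + 1) → R) ≃ₗ[R] R × (Fin n → R) :=
      { toFun := fun x => (x j₀, fun i => x (j₀.succAbove i) - x j₀ * v i)
        map_add' := fun x y => Prod.ext rfl (funext fun i => by
          simp only [Pi.add_apply, Prod.snd_add]; ring)
        map_smul' := fun c x => Prod.ext rfl (funext fun i => by
          simp only [Pi.smul_apply, RingHom.id_apply, Prod.smul_snd, smul_eq_mul]; ring)
        invFun := fun p => j₀.insertNth p.1 (fun i => p.2 i + p.1 * v i)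
        left_inv := fun x => by
          funext j
          induction j using Fin.succAboveCases j₀ with
          | x => simp
          | p i => simp
        right_inv := fun p => by
          refine Prod.ext (by simp) (funext fun i => by simp) }
    have he0 : e0 x₀ = (x₀ j₀, 0) := Prod.ext rfl (funext fun i => by
      change x₀ (j₀.succAbove i) - x₀ j₀ * v i = 0
      rw [← hv i, sub_self])
    let K' : Submodule R (Fin n → R) := K.map ((LinearMap.snd R R (Fin n → R)).comp e0.toLinearMap)
    obtain ⟨e', a', ha'⟩ := exists_diag h n K' ((Submodule.FG.map _ ⟨S, hS⟩))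
    refine ⟨e0.trans ((LinearEquiv.prodCongr (LinearEquiv.refl R R) e').trans
      (Fin.consLinearEquiv R (fun _ : Fin (n + 1) => R))), Fin.cons (x₀ j₀) a', fun x => ?_⟩
    rw [Fin.forall_fin_succ]
    change x ∈ K ↔ x₀ j₀ ∣ x j₀ ∧ ∀ i, a' i ∣ e' (e0 x).2 i
    rw [← ha']
    change x ∈ K ↔ x₀ j₀ ∣ x j₀ ∧ (e0 x).2 ∈ K'
    refine ⟨fun hx => ⟨hall x hx j₀, Submodule.mem_map_of_mem hx⟩, fun ⟨⟨c, hc⟩, ⟨y, hy, hy'⟩⟩ => ?_⟩
    obtain ⟨d, hd⟩ := hall y hy j₀
    have : x = y + (c - d) • x₀ := e0.injective (by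
      rw [map_add, map_smul, he0]
      refine Prod.ext ?_ ?_
      · change x j₀ = y j₀ + (c - d) * x₀ j₀
        rw [hc, hd]; ring
      · change (e0 x).2 = (e0 y).2 + (c - d) • (0 : Fin n → R)
        rw [smul_zero, add_zero]; exact hy'.symm)
    rw [this]
    exact K.add_mem hy (K.smul_mem _ hx₀)

theorem exists_equiv_pi (h : ∀ a b : R, a ∣ b ∨ b ∣ a) (M : Type*) [AddCommGroup M] [Module R M]
    [Module.FinitePresentation R M] :
    ∃ (n : ℕ) (a : Fin n → R), Nonempty (M ≃ₗ[R] ((i : Fin n) → R ⧸ Ideal.span {a i})) := by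
  classical
  obtain ⟨n, K, eM, hK⟩ := Module.FinitePresentation.exists_fin R M
  obtain ⟨e, a, ha⟩ := exists_diag h n K hK
  refine ⟨n, a, ⟨eM ≪≫ₗ ?_⟩⟩
  refine Submodule.Quotient.equiv K (Submodule.pi Set.univ fun i => Ideal.span {a i}) e ?_ ≪≫ₗ
    Submodule.quotientPi _
  ext y
  simp only [Submodule.mem_map_equiv, ha, Submodule.mem_pi, Set.mem_univ, true_implies,
    Ideal.mem_span_singleton, LinearEquiv.apply_symm_apply]

variable {M : Type*} [AddCommGroup M] [Module R M]

/-- The map from a sum of cyclic modules given by torsion elements. -/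
noncomputable def cycMap {ι : Type*} [Fintype ι] [DecidableEq ι] (f : ι → R) (x : ι → M) (hx : ∀ i, f i • x i = 0) :
    (∀ i, R ⧸ Ideal.span {f i}) →ₗ[R] M :=
  LinearMap.lsum R (fun i => R ⧸ Ideal.span {f i}) R fun i =>
    Submodule.liftQ _ (LinearMap.toSpanSingleton R M (x i))
      (Submodule.span_le.2 (Set.singleton_subset_iff.2 (by simp [hx])))

theorem cycMap_mk {ι : Type*} [Fintype ι] [DecidableEq ι] (f : ι → R) (x : ι → M) (hx : ∀ i, f i • x i = 0)
    (r : ι → R) : cycMap f x hx (fun i => Ideal.Quotient.mk _ (r i)) = ∑ i, r i • x i := by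
  simp [cycMap, LinearMap.lsum_apply, LinearMap.sum_apply]
  rfl

variable (M) in
/-- Scalars whose multiplication factors through a finite sum of cyclic modules. -/
def goodIdeal : Ideal R where
  carrier := {g | ∃ (n : ℕ) (f : Fin n → R) (π : (∀ i, R ⧸ Ideal.span {f i}) →ₗ[R] M)
    (s : M →ₗ[R] (∀ i, R ⧸ Ideal.span {f i})), π ∘ₗ s = g • LinearMap.id}
  zero_mem' := ⟨0, Fin.elim0, 0, 0, by simp⟩
  smul_mem' := by
    rintro c g ⟨n, f, π, s, h⟩
    exact ⟨n, f, π, c • s, by rw [LinearMap.comp_smul, h, smul_smul, smul_eq_mul]⟩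
  add_mem' := by
    rintro g g' ⟨n, f, π, s, h⟩ ⟨n', f', π', s', h'⟩
    let F := Fin.append f f'
    have e1 : ∀ i, F (Fin.castAdd n' i) = f i := Fin.append_left f f'
    have e2 : ∀ i, F (Fin.natAdd n i) = f' i := Fin.append_right f f'
    let p1 : (∀ i, R ⧸ Ideal.span {F i}) →ₗ[R] (∀ i, R ⧸ Ideal.span {f i}) := LinearMap.pi fun i =>
      (Submodule.quotEquivOfEq _ _ (by rw [e1 i])).toLinearMap ∘ₗ LinearMap.proj (Fin.castAdd n' i)
    let p2 : (∀ i, R ⧸ Ideal.span {F i}) →ₗ[R] (∀ i, R ⧸ Ideal.span {f' i}) := LinearMap.pi fun i =>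
      (Submodule.quotEquivOfEq _ _ (by rw [e2 i])).toLinearMap ∘ₗ LinearMap.proj (Fin.natAdd n i)
    let j : ∀ k, (M →ₗ[R] R ⧸ Ideal.span {F k}) := Fin.addCases
      (fun i => (Submodule.quotEquivOfEq _ _ (by rw [e1 i])).toLinearMap ∘ₗ LinearMap.proj i ∘ₗ s)
      (fun i => (Submodule.quotEquivOfEq _ _ (by rw [e2 i])).toLinearMap ∘ₗ LinearMap.proj i ∘ₗ s')
    have hp1 : p1 ∘ₗ LinearMap.pi j = s := by
      refine LinearMap.ext fun m => funext fun i => ?_
      simp only [p1, j, LinearMap.comp_apply, LinearMap.pi_apply, LinearMap.proj_apply,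
        LinearEquiv.coe_coe, Fin.addCases_left]
      obtain ⟨r, hr⟩ := Submodule.Quotient.mk_surjective _ (s m i)
      rw [← hr, Submodule.quotEquivOfEq_mk, Submodule.quotEquivOfEq_mk]
    have hp2 : p2 ∘ₗ LinearMap.pi j = s' := by
      refine LinearMap.ext fun m => funext fun i => ?_
      simp only [p2, j, LinearMap.comp_apply, LinearMap.pi_apply, LinearMap.proj_apply,
        LinearEquiv.coe_coe, Fin.addCases_right]
      obtain ⟨r, hr⟩ := Submodule.Quotient.mk_surjective _ (s' m i)
      rw [← hr, Submodule.quotEquivOfEq_mk, Submodule.quotEquivOfEq_mk]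
    refine ⟨n + n', F, π ∘ₗ p1 + π' ∘ₗ p2, LinearMap.pi j, ?_⟩
    rw [LinearMap.add_comp, LinearMap.comp_assoc, LinearMap.comp_assoc, hp1, hp2, h, h', add_smul]

theorem exists_good_notMem [Module.FinitePresentation R M] (m : Ideal R) [m.IsMaximal]
    (h : ∀ a b : Localization.AtPrime m, a ∣ b ∨ b ∣ a) : ∃ g ∈ goodIdeal (R := R) M, g ∉ m := by
  classical
  let S := m.primeCompl
  let Rm := Localization.AtPrime m
  let mk := LocalizedModule.mkLinearMap S M
  obtain ⟨n, a, ⟨ψ⟩⟩ := exists_equiv_pi h (LocalizedModule S M)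
  choose fs hfs using fun i => IsLocalization.surj S (a i)
  let f : Fin n → R := fun i => (fs i).1
  have hspan : ∀ i, (Ideal.span {a i} : Ideal Rm) = Ideal.span {algebraMap R Rm (f i)} := fun i => by
    rw [← hfs i, Ideal.span_singleton_mul_right_unit (IsLocalization.map_units Rm (fs i).2)]
  choose xs hxs using fun i => IsLocalizedModule.surj S mk (ψ.symm (Pi.single i 1))
  have hz : ∀ i, ∃ t : S, (t : R) • (f i • (xs i).1) = 0 := fun i => by
    refine (IsLocalizedModule.eq_zero_iff S mk).1 ?_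
    rw [map_smul, ← hxs i, Submonoid.smul_def, smul_comm]
    have : (f i) • ψ.symm (Pi.single i 1) = 0 := by
      rw [← algebraMap_smul Rm (f i) (ψ.symm _), ← map_smul, ← Pi.single_smul]
      have : (algebraMap R Rm (f i)) • (1 : Rm ⧸ Ideal.span {a i}) = 0 := by
        change Ideal.Quotient.mk (Ideal.span {a i}) (algebraMap R Rm (f i) * 1) = 0
        rw [mul_one]
        exact Ideal.Quotient.eq_zero_iff_mem.2 (by rw [hspan i]; exact Ideal.mem_span_singleton_self _)
      rw [this, Pi.single_zero, map_zero]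
    rw [this, smul_zero]
  choose ts hts using hz
  let x : Fin n → M := fun i => (ts i : R) • (xs i).1
  have hx : ∀ i, f i • x i = 0 := fun i => by rw [smul_comm]; exact hts i
  let u : Fin n → Rmˣ := fun i => (IsLocalization.map_units Rm (ts i * (xs i).2)).unit
  let ψ' : LocalizedModule S M ≃ₗ[R] ((i : Fin n) → Rm ⧸ Ideal.span {a i}) :=
    (ψ ≪≫ₗ LinearEquiv.piCongrRight fun i => LinearEquiv.smulOfUnit (u i)⁻¹).restrictScalars R
  have hψ' : ∀ i, ψ' (mk (x i)) = Pi.single i 1 := fun i => by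
    have e : mk (x i) = (u i : Rm) • ψ.symm (Pi.single i 1) := by
      rw [map_smul, ← hxs i, Submonoid.smul_def, smul_smul, IsUnit.unit_spec, algebraMap_smul]
      rfl
    change (fun k => ((u k)⁻¹ : Rmˣ) • ψ (mk (x i)) k) = _
    funext k
    rw [e, map_smul, LinearEquiv.apply_symm_apply, Pi.smul_apply, Units.smul_def]
    rcases eq_or_ne k i with rfl | hki
    · rw [smul_smul, Units.inv_mul, one_smul]
    · rw [Pi.single_eq_of_ne hki, smul_zero, smul_zero]
  let ℓc (i : Fin n) : (R ⧸ Ideal.span {f i}) →ₗ[R] Rm ⧸ Ideal.span {a i} :=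
    Submodule.liftQ _ (((Ideal.Quotient.mkₐ R (Ideal.span {a i})).toLinearMap) ∘ₗ Algebra.linearMap R Rm)
      (Submodule.span_le.2 (Set.singleton_subset_iff.2
        (Ideal.Quotient.eq_zero_iff_mem.2 (by rw [hspan i]; exact Ideal.mem_span_singleton_self _))))
  haveI : ∀ i, IsLocalizedModule S (ℓc i) := fun i => by
    refine ⟨?_, fun y => ?_, fun {x₁ x₂} hxx => ?_⟩
    · intro s
      rw [Module.End.isUnit_iff]
      have hu := IsLocalization.map_units Rm s
      refine Function.bijective_iff_has_inverse.2 ⟨fun z => ((hu.unit⁻¹ : Rmˣ) : Rm) • z,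
        fun z => ?_, fun z => ?_⟩
      · simp only [Module.algebraMap_end_apply]
        rw [← algebraMap_smul Rm (s : R) z, smul_smul, hu.val_inv_mul, one_smul]
      · simp only [Module.algebraMap_end_apply]
        rw [← algebraMap_smul Rm (s : R), smul_smul, hu.mul_val_inv, one_smul]
    · obtain ⟨y, rfl⟩ := Ideal.Quotient.mk_surjective y
      obtain ⟨⟨r, s⟩, hrs⟩ := IsLocalization.surj S y
      refine ⟨(Submodule.Quotient.mk r, s), ?_⟩
      change Ideal.Quotient.mk (Ideal.span {a i}) ((s : R) • y) = Ideal.Quotient.mk (Ideal.span {a i}) (algebraMap R Rm r)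
      rw [Algebra.smul_def, mul_comm, hrs]
    · obtain ⟨r₁, rfl⟩ := Submodule.Quotient.mk_surjective _ x₁
      obtain ⟨r₂, rfl⟩ := Submodule.Quotient.mk_surjective _ x₂
      have hm : algebraMap R Rm (r₁ - r₂) ∈ Ideal.span {algebraMap R Rm (f i)} := by
        rw [← hspan i, map_sub]
        exact (Ideal.Quotient.eq).1 hxx
      rw [← Set.image_singleton, ← Ideal.map_span,
        IsLocalization.mem_map_algebraMap_iff S] at hm
      obtain ⟨⟨⟨b, hb⟩, s⟩, hbs⟩ := hm
      rw [← map_mul] at hbs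
      obtain ⟨c, hc⟩ := (IsLocalization.eq_iff_exists S Rm).1 hbs
      refine ⟨c * s, ?_⟩
      rw [Submonoid.smul_def, Submonoid.smul_def, ← Submodule.Quotient.mk_smul,
        ← Submodule.Quotient.mk_smul, Submodule.Quotient.eq]
      have : ((c * s : S) : R) • r₁ - ((c * s : S) : R) • r₂ = (c : R) * b := by
        rw [← hc, Submonoid.coe_mul, smul_eq_mul, smul_eq_mul]; ring
      rw [this]
      exact Ideal.mul_mem_left _ _ hb
  let ℓ : ((i : Fin n) → R ⧸ Ideal.span {f i}) →ₗ[R] ((i : Fin n) → Rm ⧸ Ideal.span {a i}) :=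
    LinearMap.pi fun i => ℓc i ∘ₗ LinearMap.proj i
  haveI : IsLocalizedModule S ℓ := IsLocalizedModule.pi S ℓc
  have hkey : ∀ p, ψ' (mk (cycMap f x hx p)) = ℓ p := by
    intro p
    choose r hr using fun i => Ideal.Quotient.mk_surjective (p i)
    obtain rfl : p = fun i => Ideal.Quotient.mk _ (r i) := funext fun i => (hr i).symm
    rw [cycMap_mk]
    simp only [map_sum, map_smul, hψ']
    funext k
    rw [Finset.sum_apply, Finset.sum_eq_single k]
    · change r k • Pi.single (M := fun j => Rm ⧸ Ideal.span {a j}) k 1 k = _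
      rw [Pi.single_eq_same]
      change Ideal.Quotient.mk (Ideal.span {a k}) (r k • (1 : Rm)) =
        Ideal.Quotient.mk (Ideal.span {a k}) (algebraMap R Rm (r k))
      rw [Algebra.smul_def, mul_one]
    · intro j _ hjk
      rw [Pi.smul_apply, Pi.single_eq_of_ne (Ne.symm hjk), smul_zero]
    · exact fun hk => (hk (Finset.mem_univ k)).elim
  obtain ⟨s₀, s, hs⟩ := Module.FinitePresentation.exists_lift_of_isLocalizedModule S ℓ
    (ψ'.toLinearMap ∘ₗ mk)
  have hzero : mk ∘ₗ (cycMap f x hx ∘ₗ s₀ - (s : R) • LinearMap.id) = 0 := by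
    refine LinearMap.ext fun y => ψ'.injective ?_
    simp only [LinearMap.comp_apply, LinearMap.sub_apply, LinearMap.smul_apply, LinearMap.id_apply,
      LinearMap.zero_apply, map_sub, map_smul, map_zero, hkey]
    have := LinearMap.congr_fun hs y
    simp only [LinearMap.comp_apply] at this
    rw [this, sub_eq_zero]
    rfl
  obtain ⟨t, ht⟩ := Module.Finite.exists_smul_of_comp_eq_of_isLocalizedModule S mk
    (g₁ := cycMap f x hx ∘ₗ s₀ - (s : R) • LinearMap.id) (g₂ := 0) (by rw [hzero, LinearMap.comp_zero])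
  refine ⟨(t : R) * s, ⟨n, f, cycMap f x hx, (t : R) • s₀, ?_⟩, fun hm => ?_⟩
  · rw [LinearMap.comp_smul, ← smul_smul]
    rw [smul_zero, Submonoid.smul_def, smul_sub, sub_eq_zero] at ht
    exact ht
  · exact ((inferInstance : m.IsPrime).mem_or_mem hm).elim t.2 s.2

end

/-- Let R be a ring such that for every maximal ideal m and all a, b in R_m, either a divides b or b
divides a in R_m. Then each finitely presented R-module is a direct summand of a direct sum of
finitely many cyclic modules R/fR. -/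
theorem result (R : Type u) [CommRing R]
    (h : ∀ (m : Ideal R) [m.IsMaximal], ∀ a b : Localization.AtPrime m, a ∣ b ∨ b ∣ a)
    (M : Type u) [AddCommGroup M] [Module R M] [Module.FinitePresentation R M] :
    ∃ (n : ℕ) (f : Fin n → R) (N : Type u) (_ : AddCommGroup N) (_ : Module R N),
      Nonempty ((M × N) ≃ₗ[R] ((i : Fin n) → R ⧸ Ideal.span {f i})) := by
  classical
  have htop : goodIdeal (R := R) M = ⊤ := by
    by_contra hne
    obtain ⟨m, hm, hle⟩ := Ideal.exists_le_maximal _ hne
    obtain ⟨g, hg, hgm⟩ := exists_good_notMem (M := M) m (h m)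
    exact hgm (hle hg)
  obtain ⟨n, f, π, s, hs⟩ : (1 : R) ∈ goodIdeal (R := R) M := htop ▸ Submodule.mem_top
  rw [one_smul] at hs
  refine ⟨n, f, LinearMap.ker π, inferInstance, inferInstance, ⟨?_⟩⟩
  have hs' : ∀ y, π (s y) = y := fun y => LinearMap.congr_fun hs y
  exact
    { toFun := fun q => s q.1 + q.2.1
      map_add' := fun q q' => by simp [add_add_add_comm]
      map_smul' := fun c q => by simp [smul_add]
      invFun := fun p => (π p, ⟨p - s (π p), by simp [hs']⟩)
      left_inv := fun q => by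
        have h2 : π q.2.1 = 0 := q.2.2
        refine Prod.ext ?_ (Subtype.ext ?_) <;> simp [hs', h2]
      right_inv := fun p => by simp }


end Groth.Agent.S2016
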