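import Groth.Statements.S2017
import Mathlib
-- import your own Groth.Agent.* helpers here

set_option autoImplicit false
universe u
open EtAlg

namespace Groth.Agent.S2017

section Aux
theorem finiteType_subalgebra {R X : Type u} [CommRing R] [IsNoetherianRing R] [CommRing X]
    [Algebra R X] [Algebra.FiniteType R X] (P : Subalgebra R X) (h : Module.Finite P X) :
    Algebra.FiniteType R P :=
  ⟨fg_of_fg_of_fg R P X Algebra.FiniteType.out h.fg_top Subtype.val_injective⟩

theorem finiteType_pi {R ι : Type u} [CommRing R] [Fintype ι] (A : ι → Type u) [∀ i, CommRing (A i)]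
    [∀ i, Algebra R (A i)] (hA : ∀ i, Algebra.FiniteType R (A i)) :
    Algebra.FiniteType R (∀ i, A i) := by
  classical
  choose s hs using fun i => (hA i).out
  refine ⟨⟨Finset.univ.biUnion fun i => insert (Pi.single i 1) ((s i).image (Pi.single i)), ?_⟩⟩
  rw [eq_top_iff]
  rintro a -
  rw [← Finset.univ_sum_single a]
  refine sum_mem fun i _ => ?_
  have ha : a i ∈ Algebra.adjoin R (s i : Set (A i)) := (hs i).symm ▸ Algebra.mem_top
  generalize a i = x at ha
  induction ha using Algebra.adjoin_induction with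
  | mem x hx =>
    exact Algebra.subset_adjoin (Finset.mem_biUnion.2 ⟨i, Finset.mem_univ i,
      Finset.mem_insert_of_mem (Finset.mem_image.2 ⟨x, hx, rfl⟩)⟩)
  | algebraMap r =>
    rw [Algebra.algebraMap_eq_smul_one, Pi.single_smul]
    exact Subalgebra.smul_mem _ (Algebra.subset_adjoin (Finset.mem_biUnion.2 ⟨i, Finset.mem_univ i,
      Finset.mem_insert_self _ _⟩)) r
  | add x y _ _ hx hy => rw [Pi.single_add]; exact add_mem hx hy
  | mul x y _ _ hx hy => rw [Pi.single_mul]; exact mul_mem hx hy

end Aux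

/-- Let R be a Noetherian ring, A, B, C R-algebras of finite type, f : A -> B a surjective R-algebra map
and g : C -> B an R-algebra map making B a finite C-module. Then the fibre product A ×_B C (the
equalizer of f ∘ pr₁ and g ∘ pr₂ in A × C) is an R-algebra of finite type. -/
theorem result (R A B C : Type u) [CommRing R] [IsNoetherianRing R] [CommRing A] [CommRing B]
    [CommRing C] [Algebra R A] [Algebra R B] [Algebra R C] [Algebra.FiniteType R A] [Algebra.FiniteType R B]
    [Algebra.FiniteType R C] (f : A →ₐ[R] B) (hf : Function.Surjective f) (g : C →ₐ[R] B)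
    (hg : (g.toRingHom).Finite) :
    Algebra.FiniteType R ↥(AlgHom.equalizer (f.comp (AlgHom.fst R A C)) (g.comp (AlgHom.snd R A C))) := by
  classical
  refine finiteType_subalgebra _ ?_
  letI := g.toRingHom.toAlgebra
  haveI : Module.Finite C B := hg
  obtain ⟨s, hs⟩ := Module.Finite.fg_top (R := C) (M := B)
  choose σ hσ using hf
  refine ⟨⟨insert ((1 : A), (0 : C)) (insert ((0 : A), (1 : C)) (s.image fun b => (σ b, (0 : C)))), ?_⟩⟩
  rw [eq_top_iff]
  rintro ⟨a, c⟩ -
  set M := Submodule.span ↥(AlgHom.equalizer (f.comp (AlgHom.fst R A C)) (g.comp (AlgHom.snd R A C)))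
    ((insert ((1 : A), (0 : C)) (insert ((0 : A), (1 : C)) (s.image fun b => (σ b, (0 : C))) ) :
      Finset (A × C)) : Set (A × C)) with hM
  have mem : ∀ (x y : A × C), f x.1 = g x.2 → y ∈ M → x * y ∈ M := fun x y hx hy =>
    M.smul_mem (⟨x, hx⟩ : ↥(AlgHom.equalizer (f.comp (AlgHom.fst R A C)) (g.comp (AlgHom.snd R A C)))) hy
  have h0 : ((0 : A), c) ∈ M := by
    have := mem (σ (g c), c) (0, 1) (hσ _) (Submodule.subset_span (by simp))
    simpa using this
  have hker : ∀ a'' : A, f a'' = 0 → (a'', (0 : C)) ∈ M := fun a'' ha => by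
    have := mem (a'', 0) (1, 0) (by simp [ha]) (Submodule.subset_span (by simp))
    simpa using this
  have h1 : ∀ b : B, ∃ a' : A, f a' = b ∧ (a', (0 : C)) ∈ M := fun b => by
    have hb : b ∈ Submodule.span C (s : Set B) := hs ▸ Submodule.mem_top
    induction hb using Submodule.span_induction with
    | mem x hx => exact ⟨σ x, hσ x, Submodule.subset_span (Finset.mem_coe.2
      (Finset.mem_insert_of_mem (Finset.mem_insert_of_mem (Finset.mem_image.2 ⟨x, hx, rfl⟩))))⟩
    | zero => exact ⟨0, map_zero f, M.zero_mem⟩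
    | add x y _ _ hx hy =>
      obtain ⟨a₁, e₁, m₁⟩ := hx
      obtain ⟨a₂, e₂, m₂⟩ := hy
      exact ⟨a₁ + a₂, by rw [map_add, e₁, e₂], by simpa using M.add_mem m₁ m₂⟩
    | smul c' x _ hx =>
      obtain ⟨a₁, e₁, m₁⟩ := hx
      refine ⟨σ (g c') * a₁, by rw [map_mul, hσ, e₁]; rfl, ?_⟩
      simpa using mem (σ (g c'), c') (a₁, 0) (hσ _) m₁
  obtain ⟨a', e', m'⟩ := h1 (f a)
  have := M.add_mem (M.add_mem (hker (a - a') (by rw [map_sub, e', sub_self])) m') h0
  simpa using this

end Groth.Agent.S2017
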