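import Mathlib
import Groth.Statements.S2018
-- import your own Groth.Agent.* helpers here

set_option autoImplicit false
universe u
open EtAlg

namespace Groth.Agent.S2018

/-- Let g : A' -> A be a surjective ring map and f : B -> A an integral ring map. Then the projection
from the fibre product B ×_A A' (the equalizer of f ∘ pr₁ and g ∘ pr₂ in B × A') to A' is integral. -/
theorem result (A A' B : Type u) [CommRing A] [CommRing A'] [CommRing B] (g : A' →+* A)
    (hg : Function.Surjective g) (f : B →+* A) (hf : f.IsIntegral) :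
    ((RingHom.snd B A').comp ((f.comp (RingHom.fst B A')).eqLocus (g.comp (RingHom.snd B A'))).subtype).IsIntegral := by
  classical
  set P := (f.comp (RingHom.fst B A')).eqLocus (g.comp (RingHom.snd B A'))
  intro a'
  obtain ⟨q, hq, hqa⟩ := hf (g a')
  obtain ⟨s, hs⟩ : ∃ s : B → P, ∀ b, (s b : B × A').1 = b := ⟨fun b => ⟨(b, (hg (f b)).choose), (hg (f b)).choose_spec.symm⟩, fun b => rfl⟩
  let π : P →+* B := (RingHom.fst B A').comp P.subtype
  obtain hB | hB := subsingleton_or_nontrivial B
  · have h1 : (0 : A) = 1 := by rw [← map_zero f, ← map_one f, Subsingleton.elim (0 : B) 1]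
    refine ⟨Polynomial.X - Polynomial.C ⟨(0, a'), (eq_of_zero_eq_one h1 _ _)⟩, Polynomial.monic_X_sub_C _, ?_⟩
    simp
  obtain ⟨Q, hQ, hdeg, hQm⟩ := Polynomial.lifts_and_degree_eq_and_monic (f := π)
    ((Polynomial.lifts_iff_coeff_lifts _).mpr fun n => ⟨s _, hs _⟩) hq
  let ψ : P →+* A' := (RingHom.snd B A').comp P.subtype
  let c : A' := Polynomial.eval₂ ψ a' Q
  have hc : g c = f (0 : B) := by
    rw [map_zero, Polynomial.hom_eval₂, show g.comp ψ = f.comp π from RingHom.ext fun x => x.2.symm, ← Polynomial.eval₂_map, hQ]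
    exact hqa
  by_cases h0 : Q = 1
  · have h1 : (0 : A) = 1 := by rw [← hqa, ← hQ, h0]; simp
    refine ⟨Polynomial.X - Polynomial.C ⟨(0, a'), (eq_of_zero_eq_one h1 _ _)⟩, Polynomial.monic_X_sub_C _, ?_⟩
    simp
  · refine ⟨Q - Polynomial.C ⟨(0, c), hc.symm⟩, hQm.sub_of_left ?_, ?_⟩
    · exact Polynomial.degree_C_le.trans_lt (Polynomial.natDegree_pos_iff_degree_pos.mp (Nat.pos_of_ne_zero fun h => h0 (hQm.natDegree_eq_zero.mp h)))
    · rw [Polynomial.eval₂_sub, Polynomial.eval₂_C]
      exact sub_self c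

end Groth.Agent.S2018
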