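import Groth.Statements.S2025
import Mathlib
-- import your own Groth.Agent.* helpers here

set_option autoImplicit false
universe u
open Smoothing

namespace Groth.Agent.S2025

section
open MvPolynomial

variable {R A : Type u} [CommRing R] [CommRing A] [Algebra R A]

theorem swap_sum {S : Type*} [CommRing S] {ι : Type*} [Fintype ι] (u : ι → S) (b : ι → ι → S) (T : ι → S) :
    ∑ x, u x * ∑ j, b x j * T j = ∑ x, (∑ y, u y * b y x) * T x := by
  simp_rw [Finset.mul_sum, Finset.sum_mul]
  rw [Finset.sum_comm]
  simp only [mul_assoc]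

theorem exists_data [Algebra.Smooth R A] :
    ∃ (n : ℕ) (π : MvPolynomial (Fin n) R →ₐ[R] A) (h : Fin n → MvPolynomial (Fin n) R),
      Function.Surjective π ∧ (RingHom.ker π).FG ∧ (∀ i, π (h i) = 0) ∧
      (∀ f, π f = 0 → f - ∑ j, pderiv j f * h j ∈ RingHom.ker π ^ 2) ∧
      (∀ i k, π (pderiv k (h i)) = ∑ j, π (pderiv j (h i)) * π (pderiv k (h j))) := by
  classical
  obtain ⟨n, π, hπ, hfg⟩ := Algebra.FinitePresentation.out (R := R) (A := A)
  set I : Ideal (MvPolynomial (Fin n) R) := RingHom.ker π with hI
  have hfg' : I.FG := hfg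
  have hI2 : ∀ z ∈ I ^ 2, π z = 0 := fun z hz => by
    have : z ∈ I := Ideal.pow_le_self two_ne_zero hz
    exact this
  let g : MvPolynomial (Fin n) R ⧸ I ^ 2 →ₐ[R] A := Ideal.Quotient.liftₐ (I ^ 2) π hI2
  have hg : Function.Surjective g := fun a => ⟨Ideal.Quotient.mk _ (hπ a).choose, (hπ a).choose_spec⟩
  have hgnil : IsNilpotent (RingHom.ker (g : MvPolynomial (Fin n) R ⧸ I ^ 2 →+* A)) := by
    refine ⟨2, ?_⟩
    refine eq_bot_iff.2 ((pow_two (RingHom.ker (g : MvPolynomial (Fin n) R ⧸ I ^ 2 →+* A))).le.trans (Ideal.mul_le.2 ?_))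
    intro a ha b hb
    obtain ⟨a, rfl⟩ := Ideal.Quotient.mk_surjective a
    obtain ⟨b, rfl⟩ := Ideal.Quotient.mk_surjective b
    rw [Submodule.mem_bot, ← map_mul, Ideal.Quotient.eq_zero_iff_mem, pow_two]
    exact Ideal.mul_mem_mul ha hb
  obtain ⟨σ, hσ⟩ := Algebra.FormallySmooth.exists_lift (R := R) (A := A) _ hgnil
    ((Ideal.quotientKerAlgEquivOfSurjective hg).symm.toAlgHom)
  have hσ' : ∀ a, g (σ a) = a := by
    intro a
    have h1 := congrArg (Ideal.quotientKerAlgEquivOfSurjective hg) (AlgHom.congr_fun hσ a)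
    exact h1.trans ((Ideal.quotientKerAlgEquivOfSurjective hg).apply_symm_apply a)
  choose s hs using fun i => Ideal.Quotient.mk_surjective (σ (π (X i)))
  let h : Fin n → MvPolynomial (Fin n) R := fun i => X i - s i
  have hh : ∀ i, π (h i) = 0 := fun i => by
    simp only [h, map_sub]
    rw [show π (s i) = g (Ideal.Quotient.mk _ (s i)) from rfl, hs, hσ', sub_self]
  let mk := Ideal.Quotient.mkₐ R (I ^ 2)
  have hmul : ∀ i j, mk (h i) * mk (h j) = 0 := fun i j => by
    rw [← map_mul]
    exact Ideal.Quotient.eq_zero_iff_mem.2 (by rw [pow_two]; exact Ideal.mul_mem_mul (hh i) (hh j))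
  have taylor : ∀ f, σ (π f) = mk f - ∑ j, mk (pderiv j f) * mk (h j) := by
    intro f
    induction f using MvPolynomial.induction_on with
    | C c =>
      rw [← MvPolynomial.algebraMap_eq, AlgHom.commutes, AlgHom.commutes]
      simp [MvPolynomial.algebraMap_eq]
    | add a b ha hb => simp only [map_add, ha, hb, add_mul, Finset.sum_add_distrib]; abel
    | mul_X f i hf =>
      have hx : σ (π (X i)) = mk (X i) - mk (h i) := by
        rw [← hs, ← map_sub]; simp [mk, h]
      have h0 : (∑ j, mk (pderiv j f) * mk (h j)) * mk (h i) = 0 := by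
        rw [Finset.sum_mul]
        exact Finset.sum_eq_zero fun j _ => by rw [mul_assoc, hmul, mul_zero]
      have hd : ∑ j, mk (pderiv j (f * X i)) * mk (h j) =
          (∑ j, mk (pderiv j f) * mk (h j)) * mk (X i) + mk f * mk (h i) := by
        simp only [Derivation.leibniz, smul_eq_mul, map_add, map_mul, pderiv_X, add_mul, Finset.sum_add_distrib, Finset.sum_mul]
        rw [add_comm]
        congr 1
        · exact Finset.sum_congr rfl fun j _ => by ring
        · rw [Finset.sum_eq_single i (fun j _ hj => by rw [Pi.single_eq_of_ne hj.symm, map_zero, mul_zero, zero_mul]) (by simp)]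
          simp
      rw [map_mul, map_mul, hf, hx, hd, map_mul, sub_mul, mul_sub, mul_sub, h0]
      ring
  have main : ∀ f, π f = 0 → f - ∑ j, pderiv j f * h j ∈ I ^ 2 := fun f hf => by
    have := taylor f
    rw [hf, map_zero] at this
    rw [← Ideal.Quotient.eq_zero_iff_mem, map_sub, map_sum]
    simpa [mk, map_mul] using this.symm
  refine ⟨n, π, h, hπ, hfg', hh, main, fun i k => ?_⟩
  have h2 : π (pderiv k (h i - ∑ j, pderiv j (h i) * h j)) = 0 := by
    have hm := main (h i) (hh i)
    generalize h i - ∑ j, pderiv j (h i) * h j = z at hm ⊢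
    rw [pow_two] at hm
    induction hm using Submodule.mul_induction_on' with
    | mem_mul_mem a ha b hb =>
      simp [show π a = 0 from ha, show π b = 0 from hb]
    | add a _ b _ ha hb => simp [ha, hb]
  simpa [map_sum, hh, sub_eq_zero, mul_comm] using h2

theorem retract_smooth [Algebra.Smooth R A] :
    ∃ (B : Type u) (_ : CommRing B) (_ : Algebra R B) (_ : Algebra A B) (_ : IsScalarTower R A B),
      Algebra.Smooth A B ∧ Nonempty (B →ₐ[A] A) ∧ Algebra.IsStandardSmooth R B := by
  classical
  obtain ⟨n, π, h, hπ, hfg, hh, htay, hq⟩ := exists_data (R := R) (A := A)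
  set I : Ideal (MvPolynomial (Fin n) R) := RingHom.ker π
  let sub : MvPolynomial (Fin n) R →ₐ[R] (MvPolynomial (Fin n ⊕ Fin n) R) := aeval fun i => X (Sum.inl i) + X (Sum.inr i)
  let F : Fin n → (MvPolynomial (Fin n ⊕ Fin n) R) := fun i => sub (h i) + (X (Sum.inr i) - ∑ j, sub (pderiv j (h i)) * X (Sum.inr j))
  let S := (MvPolynomial (Fin n ⊕ Fin n) R) ⧸ Ideal.span (Set.range F)
  let mk : (MvPolynomial (Fin n ⊕ Fin n) R) →ₐ[R] S := Ideal.Quotient.mkₐ R _
  let ρ : (MvPolynomial (Fin n ⊕ Fin n) R) →ₐ[R] A := aeval (Sum.elim (fun i => π (X i)) 0)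
  have hρsub : ∀ f, ρ (sub f) = π f := by
    intro f
    have : ρ.comp sub = π := MvPolynomial.algHom_ext fun i => by simp [ρ, sub]
    exact AlgHom.congr_fun this f
  have hρT : ∀ i, ρ (X (Sum.inr i)) = 0 := fun i => by simp [ρ]
  have hρF : ∀ i, ρ (F i) = 0 := fun i => by simp [F, hρsub, hh, hρT]
  have hchain : ∀ (k : Fin n) f, pderiv (Sum.inr k) (sub f) = sub (pderiv k f) := by
    intro k f
    induction f using MvPolynomial.induction_on with
    | C c => simp [sub]
    | add a b ha hb => simp only [map_add, ha, hb]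
    | mul_X f i hf =>
      simp only [Derivation.leibniz, smul_eq_mul, map_add, map_mul, hf]
      congr 2
      simp [sub, pderiv_X, Pi.single_apply]
  let P₀ : Algebra.PreSubmersivePresentation R S (Fin n ⊕ Fin n) (Fin n) :=
    Algebra.PreSubmersivePresentation.naive (v := F) Sum.inr Sum.inr_injective
  let ρS : S →ₐ[R] A := Ideal.Quotient.liftₐ _ ρ (fun z hz => by
    refine (Ideal.span_le.2 ?_ : Ideal.span (Set.range F) ≤ RingHom.ker ρ) hz
    rintro _ ⟨i, rfl⟩
    exact hρF i)
  have hρS : ∀ z, ρS (mk z) = ρ z := fun z => rfl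
  have hjac : ρS P₀.jacobian = 1 := by
    rw [Algebra.PreSubmersivePresentation.jacobian_eq_jacobiMatrix_det,
      show algebraMap P₀.Ring S P₀.jacobiMatrix.det = mk P₀.jacobiMatrix.det from rfl, hρS,
      AlgHom.map_det]
    convert Matrix.det_one (n := Fin n) (R := A)
    ext k i
    rw [AlgHom.mapMatrix_apply, Matrix.map_apply, Algebra.PreSubmersivePresentation.jacobiMatrix_apply]
    show ρ (pderiv (Sum.inr k) (F i)) = _
    simp only [F, map_add, map_sub, map_sum, hchain, Derivation.leibniz, smul_eq_mul, map_mul, hρsub, hρT,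
      zero_mul, add_zero, pderiv_X]
    rw [Finset.sum_eq_single k (fun j _ hj => by
      rw [Pi.single_eq_of_ne (by simpa using hj), map_zero, mul_zero]) (by simp)]
    simp [Pi.single_apply, Matrix.one_apply, eq_comm]
  -- the ideal of `A` dies near the section
  let T : Fin n → S := fun i => mk (X (Sum.inr i))
  let K : Ideal S := I.map (mk.comp sub)
  let J : Ideal S := Ideal.span (Set.range T) ⊔ K
  have hmemK : ∀ f, π f = 0 → mk (sub f) ∈ K := fun f hf => Ideal.mem_map_of_mem (mk.comp sub) hf
  have hhS : ∀ i, mk (sub (h i)) = -(T i - ∑ j, mk (sub (pderiv j (h i))) * T j) := fun i => by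
    rw [eq_neg_iff_add_eq_zero]
    simp only [T, ← map_mul, ← map_sum, ← map_sub, ← map_add]
    exact Ideal.Quotient.eq_zero_iff_mem.2 (Ideal.subset_span ⟨i, rfl⟩)
  have hK2 : ∀ f, π f = 0 → mk (sub f) - ∑ j, mk (sub (pderiv j f)) * mk (sub (h j)) ∈ J • K := by
    intro f hf
    have := Ideal.mem_map_of_mem (mk.comp sub) (htay f hf)
    rw [Ideal.map_pow] at this
    simp only [AlgHom.comp_apply, map_sub, map_sum, map_mul] at this
    refine (Submodule.smul_mono_left (le_sup_right : K ≤ J)) ?_
    rw [pow_two] at this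
    exact this
  have hhK : ∀ i, mk (sub (h i)) ∈ J • K := by
    intro i
    have hsum : ∑ j, mk (sub (pderiv j (h i))) * mk (sub (h j)) =
        -∑ k, mk (sub (pderiv k (h i) - ∑ j, pderiv j (h i) * pderiv k (h j))) * T k := by
      simp only [hhS, map_sub, map_sum, map_mul, sub_mul, Finset.sum_mul, mul_neg, Finset.sum_neg_distrib, mul_sub,
        Finset.mul_sum, Finset.sum_sub_distrib, neg_sub]
      exact congrArg (· - _) (swap_sum (fun x => mk (sub (pderiv x (h i)))) (fun x j => mk (sub (pderiv j (h x)))) T)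
    have := Submodule.add_mem _ (hK2 (h i) (hh i)) (show ∑ j, mk (sub (pderiv j (h i))) * mk (sub (h j)) ∈ J • K by
      rw [hsum]
      refine neg_mem (Submodule.sum_mem _ fun k _ => ?_)
      rw [mul_comm]
      exact Submodule.smul_mem_smul (Submodule.mem_sup_left (Ideal.subset_span ⟨k, rfl⟩))
        (hmemK _ (by rw [map_sub, map_sum]; simp [hq i k])))
    simpa using this
  have hKle : K ≤ J • K := Ideal.map_le_iff_le_comap.2 fun f hf => by
    show mk (sub f) ∈ J • K
    have := Submodule.add_mem _ (hK2 f hf) (Submodule.sum_mem (J • K) (t := Finset.univ)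
      (f := fun j => mk (sub (pderiv j f)) * mk (sub (h j))) fun j _ => Ideal.mul_mem_left _ _ (hhK j))
    simpa using this
  obtain ⟨r, hr, hrK⟩ := Submodule.exists_sub_one_mem_and_smul_eq_zero_of_fg_of_le_smul J K
    (Ideal.FG.map hfg _) hKle
  have hρr : ρS r = 1 := by
    have hJ : J ≤ RingHom.ker ρS := by
      refine sup_le (Ideal.span_le.2 ?_) (Ideal.map_le_iff_le_comap.2 fun f hf => ?_)
      · rintro _ ⟨i, rfl⟩; exact hρT i
      · show ρS (mk (sub f)) = 0
        rw [hρS, hρsub]; exact hf
    have := hJ hr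
    rwa [RingHom.mem_ker, map_sub, map_one, sub_eq_zero] at this
  set g : S := P₀.jacobian * r with hg
  let B := Localization.Away g
  let Q := Algebra.PreSubmersivePresentation.localizationAway B g
  let SP : Algebra.SubmersivePresentation R B (Unit ⊕ (Fin n ⊕ Fin n)) (Unit ⊕ Fin n) :=
    { Q.comp P₀ with
      jacobian_isUnit := by
        rw [Algebra.PreSubmersivePresentation.comp_jacobian_eq_jacobian_smul_jacobian,
          Algebra.smul_def, IsUnit.mul_iff]
        refine ⟨?_, (Algebra.SubmersivePresentation.localizationAway B g).jacobian_isUnit⟩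
        have := IsLocalization.map_units B (⟨g, 1, by simp⟩ : Submonoid.powers g)
        rw [show ((⟨g, 1, by simp⟩ : Submonoid.powers g) : S) = P₀.jacobian * r from hg, map_mul, IsUnit.mul_iff] at this
        exact this.1 }
  haveI hstd : Algebra.IsStandardSmooth R B := SP.isStandardSmooth
  let ι : MvPolynomial (Fin n) R →ₐ[R] B := (IsScalarTower.toAlgHom R S B).comp (mk.comp sub)
  have hru : IsUnit (algebraMap S B r) := by
    have := IsLocalization.map_units B (⟨g, 1, by simp⟩ : Submonoid.powers g)
    rw [show ((⟨g, 1, by simp⟩ : Submonoid.powers g) : S) = P₀.jacobian * r from hg, map_mul, IsUnit.mul_iff] at this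
    exact this.2
  have hι : ∀ f, π f = 0 → ι f = 0 := fun f hf => by
    refine hru.mul_right_eq_zero.1 ?_
    show algebraMap S B r * algebraMap S B (mk (sub f)) = 0
    rw [← map_mul, show r * mk (sub f) = 0 from hrK _ (hmemK f hf), map_zero]
  let jA : A →ₐ[R] B := (Ideal.Quotient.liftₐ I ι hι).comp (Ideal.quotientKerAlgEquivOfSurjective hπ).symm.toAlgHom
  have hjA : ∀ f, jA (π f) = ι f := fun f => by
    show Ideal.Quotient.liftₐ I ι hι ((Ideal.quotientKerAlgEquivOfSurjective hπ).symm (π f)) = _
    rw [show (Ideal.quotientKerAlgEquivOfSurjective hπ).symm (π f) = Ideal.Quotient.mk I f from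
      (Ideal.quotientKerAlgEquivOfSurjective hπ).injective (by rw [AlgEquiv.apply_symm_apply]; rfl)]
    rfl
  letI algAB : Algebra A B := jA.toRingHom.toAlgebra
  haveI : IsScalarTower R A B := IsScalarTower.of_algebraMap_eq fun x => (jA.commutes x).symm
  have hρg : IsUnit (ρS g) := by rw [hg, map_mul, hjac, hρr, mul_one]; exact isUnit_one
  let σB : B →ₐ[R] A := IsLocalization.Away.liftAlgHom g (f := ρS) hρg
  have hσB : ∀ z, σB (algebraMap S B z) = ρS z := fun z => IsLocalization.Away.lift_eq _ hρg z
  let retr : B →ₐ[A] A :=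
    { σB.toRingHom with
      commutes' := fun a => by
        obtain ⟨f, rfl⟩ := hπ a
        show σB (jA (π f)) = π f
        rw [hjA]
        show σB (algebraMap S B (mk (sub f))) = π f
        rw [hσB, hρS, hρsub] }
  refine ⟨B, inferInstance, inferInstance, algAB, inferInstance, ⟨?_, ?_⟩, ⟨retr⟩, hstd⟩
  · refine Algebra.FormallySmooth.of_comp_surjective fun C _ _ N hN g₀ => ?_
    letI algRC : Algebra R C := ((algebraMap A C).comp (algebraMap R A)).toAlgebra
    haveI : IsScalarTower R A C := IsScalarTower.of_algebraMap_eq fun x => rfl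
    choose τ hτ using fun j => Ideal.Quotient.mk_surjective (g₀ (algebraMap S B (T j)))
    let qC : Fin n → Fin n → C := fun i j => algebraMap A C (π (pderiv j (h i)))
    let τ' : Fin n → C := fun i => ∑ j, qC i j * τ j
    let e : (MvPolynomial (Fin n ⊕ Fin n) R) →ₐ[R] C := aeval (Sum.elim (fun i => algebraMap A C (π (X i)) - τ' i) τ')
    have hesub : ∀ f, e (sub f) = algebraMap A C (π f) := by
      intro f
      have : e.comp sub = (IsScalarTower.toAlgHom R A C).comp π := MvPolynomial.algHom_ext fun i => by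
        simp [e, sub]
      exact AlgHom.congr_fun this f
    have heT : ∀ i, e (X (Sum.inr i)) = τ' i := fun i => by simp [e]
    have heF : ∀ i, e (F i) = 0 := fun i => by
      simp only [F, map_add, map_sub, map_sum, map_mul, hesub, heT, hh, map_zero, zero_add]
      simp only [τ', qC, Finset.mul_sum]
      rw [Finset.sum_comm, ← Finset.sum_sub_distrib]
      refine Finset.sum_eq_zero fun j _ => ?_
      rw [hq i j, map_sum, Finset.sum_mul, sub_eq_zero]
      exact Finset.sum_congr rfl fun l _ => by rw [map_mul, mul_assoc]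
    let eS : S →ₐ[R] C := Ideal.Quotient.liftₐ _ e (fun z hz => by
      refine (Ideal.span_le.2 ?_ : Ideal.span (Set.range F) ≤ RingHom.ker e) hz
      rintro _ ⟨i, rfl⟩
      exact heF i)
    have hqT : ∀ i, algebraMap S B (T i) = ∑ j, algebraMap A B (π (pderiv j (h i))) * algebraMap S B (T j) := by
      intro i
      have h0 : ι (h i) = 0 := hι _ (hh i)
      have h1 : algebraMap S B (mk (sub (h i))) = 0 := h0
      rw [hhS, map_neg, neg_eq_zero, map_sub, map_sum, sub_eq_zero] at h1
      rw [h1]
      refine Finset.sum_congr rfl fun j _ => ?_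
      rw [map_mul]
      congr 1
      exact (hjA _).symm
    have hgT : ∀ i, Ideal.Quotient.mk N (τ' i) = g₀ (algebraMap S B (T i)) := fun i => by
      conv_rhs => rw [hqT i, map_sum]
      simp only [τ', qC, map_sum, map_mul, AlgHom.commutes, hτ]
      rfl
    have hgU : ∀ z : S, Ideal.Quotient.mk N (eS z) = g₀ (algebraMap S B z) := by
      intro z
      obtain ⟨z, rfl⟩ := Ideal.Quotient.mk_surjective z
      induction z using MvPolynomial.induction_on with
      | C c =>
        have hc : eS (Ideal.Quotient.mk _ (MvPolynomial.C c)) = algebraMap A C (algebraMap R A c) := e.commutes c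
        rw [hc, show algebraMap S B (Ideal.Quotient.mk _ (MvPolynomial.C c)) = algebraMap A B (algebraMap R A c) from
          ((IsScalarTower.toAlgHom R S B).comp mk).commutes c |>.trans (IsScalarTower.algebraMap_apply R A B c),
          AlgHom.commutes]
        rfl
      | add a b ha hb => simp only [map_add, ha, hb]
      | mul_X f v hf =>
        simp only [map_mul, hf]
        congr 1
        rcases v with i | i
        · have h2 := hgT i
          have hsubX : (X (Sum.inl i) : (MvPolynomial (Fin n ⊕ Fin n) R)) = sub (X i) - X (Sum.inr i) := by simp [sub]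
          show Ideal.Quotient.mk N (e (X (Sum.inl i))) = g₀ (algebraMap S B (mk (X (Sum.inl i))))
          rw [hsubX, map_sub, map_sub, map_sub, map_sub, map_sub, hesub, heT]
          rw [h2]
          congr 1
          rw [show algebraMap S B (mk (sub (X i))) = algebraMap A B (π (X i)) from (hjA _).symm, AlgHom.commutes]
          rfl
        · exact (congrArg (Ideal.Quotient.mk N) (heT i)).trans (hgT i)
    have heg : IsUnit (eS g) := by
      have hN' : IsNilpotent N := ⟨2, hN⟩
      rw [← (IsNilpotent.isUnit_quotient_mk_iff hN' : IsUnit (Ideal.Quotient.mk N (eS g)) ↔ _), hgU]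
      exact (IsLocalization.map_units B (⟨g, 1, by simp⟩ : Submonoid.powers g)).map g₀
    let eB : B →ₐ[R] C := IsLocalization.Away.liftAlgHom g (f := eS) heg
    have heB : ∀ z, eB (algebraMap S B z) = eS z := fun z => IsLocalization.Away.lift_eq _ heg z
    let eA : B →ₐ[A] C :=
      { eB.toRingHom with
        commutes' := fun a => by
          obtain ⟨f, rfl⟩ := hπ a
          show eB (jA (π f)) = algebraMap A C (π f)
          rw [hjA]
          show eB (algebraMap S B (mk (sub f))) = _
          rw [heB]
          exact hesub f }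
    refine ⟨eA, ?_⟩
    apply AlgHom.coe_ringHom_injective
    refine IsLocalization.ringHom_ext (Submonoid.powers g) (RingHom.ext fun z => ?_)
    show Ideal.Quotient.mk N (eB (algebraMap S B z)) = g₀ (algebraMap S B z)
    rw [heB]
    exact hgU z
  · exact Algebra.FinitePresentation.of_restrict_scalars_finitePresentation (R := R) A B

end

/-- If `A` is smooth over `R` there is a smooth `A`-algebra `B` with an `A`-algebra retraction `B → A`
such that `B` is standard smooth over `R`. -/
theorem result {R A : Type u} [CommRing R] [CommRing A]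
    [Algebra R A] [Algebra.Smooth R A] :
    ∃ (B : Type u) (_ : CommRing B) (_ : Algebra R B) (_ : Algebra A B) (_ : IsScalarTower R A B),
      Algebra.Smooth A B ∧ Nonempty (B →ₐ[A] A) ∧ Algebra.IsStandardSmooth R B := by
  obtain ⟨B, i1, i2, i3, i4, h⟩ := retract_smooth (R := R) (A := A)
  exact ⟨B, i1, i2, i3, i4, h⟩

end Groth.Agent.S2025
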