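import Groth.Statements.S2108
import Mathlib
-- import your own Groth.Agent.* helpers here

set_option autoImplicit false
universe u
open Smoothing

namespace Groth.Agent.S2108

theorem exists_section {R : Type u} [CommRing R] {L : Type u} [CommRing L] [Algebra R L]
    {B : Type u} [CommRing B] [Algebra R B] [Algebra.FormallySmooth R B] (π : L →ₐ[R] B)
    (hπs : Function.Surjective π) (K : Ideal L) (hKker : RingHom.ker π = K) (hK2 : K ^ 2 = ⊥) :
    ∃ s : B →ₐ[R] L, π.comp s = AlgHom.id R B := by
  have hnil : IsNilpotent (RingHom.ker (π : L →+* B)) := ⟨2, by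
    rw [show RingHom.ker (π : L →+* B) = RingHom.ker π from rfl, hKker, hK2]; rfl⟩
  exact ⟨Algebra.FormallySmooth.liftOfSurjective (AlgHom.id R B) π hπs hnil,
    Algebra.FormallySmooth.comp_liftOfSurjective (AlgHom.id R B) π hπs hnil⟩

open MvPolynomial in
theorem core {R : Type u} [CommRing R] {n m : ℕ} (f : Fin m → MvPolynomial (Fin n) R)
    {L : Type u} [CommRing L] [IsLocalRing L] [Algebra R L] {B : Type u} [CommRing B] [Algebra R B]
    {κ : Type u} [Field κ] (g : MvPolynomial (Fin n) R →ₐ[R] L) (π : L →ₐ[R] B) (s : B →ₐ[R] L)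
    (hs : π.comp s = AlgHom.id R B) (K : Ideal L) (hK : K = Ideal.span (Set.range fun l => g (f l)))
    (hKker : RingHom.ker π = K) (hK2 : K ^ 2 = ⊥) (χ : L →+* κ) (hχs : Function.Surjective χ) :
    ∃ (c : ℕ) (rows : Fin c → Fin m) (cols : Fin c → Fin n), Function.Injective rows ∧ Function.Injective cols ∧
      χ (g (Smoothing.jacobianMinor f rows cols)) ≠ 0 ∧ ∀ l, g (f l) ∈ Ideal.span (Set.range fun j => g (f (rows j))) := by
  classical
  let D : MvPolynomial (Fin n) R → L := fun x => g x - s (π (g x))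
  have hDK : ∀ x, D x ∈ K := fun x => by
    rw [← hKker, RingHom.mem_ker]
    show π (g x - s (π (g x))) = 0
    rw [map_sub, ← AlgHom.comp_apply π s, hs, AlgHom.id_apply, sub_self]
  have hDD : ∀ x y, D x * D y = 0 := fun x y => by
    rw [← Ideal.mem_bot, ← hK2, sq]; exact Ideal.mul_mem_mul (hDK x) (hDK y)
  have hder : ∀ F, D F = ∑ i, g (MvPolynomial.pderiv i F) * D (MvPolynomial.X i) := by
    intro F
    induction F using MvPolynomial.induction_on with
    | C r => simp [D, ← MvPolynomial.algebraMap_eq]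
    | add a b ha hb =>
      have : D (a + b) = D a + D b := by simp only [D, map_add]; ring
      rw [this, ha, hb, ← Finset.sum_add_distrib]
      simp [map_add, add_mul]
    | mul_X a j ha =>
      have hm : D (a * MvPolynomial.X j) = g a * D (MvPolynomial.X j) + g (MvPolynomial.X j) * D a := by
        have := hDD a (MvPolynomial.X j)
        simp only [D, map_mul] at this ⊢
        linear_combination -this
      rw [hm, ha, Finset.mul_sum, ← Finset.sum_erase_add _ _ (Finset.mem_univ j),
        ← Finset.sum_erase_add (f := fun i => g (MvPolynomial.pderiv i (a * MvPolynomial.X j)) * D (MvPolynomial.X i)) _ (Finset.mem_univ j)]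
      have e1 : ∀ i ∈ Finset.univ.erase j, g (MvPolynomial.pderiv i (a * MvPolynomial.X j)) * D (MvPolynomial.X i) =
          g (MvPolynomial.X j) * (g (MvPolynomial.pderiv i a) * D (MvPolynomial.X i)) := fun i hi => by
        rw [MvPolynomial.pderiv_mul, MvPolynomial.pderiv_X_of_ne (Ne.symm (Finset.ne_of_mem_erase hi)), mul_zero, add_zero, map_mul]
        ring
      rw [Finset.sum_congr rfl e1, MvPolynomial.pderiv_mul, MvPolynomial.pderiv_X_self, mul_one, map_add, map_mul]
      ring
  -- residue field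
  have hχ : RingHom.ker χ = IsLocalRing.maximalIdeal L :=
    IsLocalRing.eq_maximalIdeal (RingHom.ker_isMaximal_of_surjective χ hχs)
  let M : Matrix (Fin m) (Fin n) κ := Matrix.of fun l i => χ (g (MvPolynomial.pderiv i (f l)))
  obtain ⟨v, hv1, hvspan, hv⟩ := Submodule.exists_fun_fin_finrank_span_eq κ (Set.range M.row)
  choose rows hrows using hv1
  have hrinj : Function.Injective rows := fun a b hab => hv.injective (by rw [← hrows a, ← hrows b, hab])
  generalize hc : Module.finrank κ (Submodule.span κ (Set.range M.row)) = c at v hvspan hv rows hrows hrinj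
  let Mc : Matrix (Fin c) (Fin n) κ := M.submatrix rows id
  have hMc : LinearIndependent κ Mc.row := by
    have : Mc.row = v := funext hrows
    rw [this]; exact hv
  have hrank : Mc.rank = c := by rw [hMc.rank_matrix, Fintype.card_fin]
  obtain ⟨w, hw1, -, hw⟩ := Submodule.exists_fun_fin_finrank_span_eq κ (Set.range Mc.col)
  choose cols₀ hcols₀ using hw1
  have hfr : Module.finrank κ (Submodule.span κ (Set.range Mc.col)) = c := by
    rw [← Matrix.rank_eq_finrank_span_cols, hrank]
  let cols : Fin c → Fin n := fun i => cols₀ (finCongr hfr.symm i)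
  have hcli : LinearIndependent κ (Mc.submatrix id cols).col := by
    have : (Mc.submatrix id cols).col = w ∘ finCongr hfr.symm := by
      funext i j
      exact congrFun (hcols₀ (finCongr hfr.symm i)) j
    rw [this]; exact hw.comp _ (finCongr hfr.symm).injective
  have hcinj : Function.Injective cols := fun a b hab => hcli.injective (funext fun j => by simp [Matrix.col, hab])
  have hdet : χ (g (Smoothing.jacobianMinor f rows cols)) ≠ 0 := by
    rw [Smoothing.jacobianMinor, AlgHom.map_det, RingHom.map_det]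
    exact (Matrix.isUnit_iff_isUnit_det _).mp (Matrix.linearIndependent_cols_iff_isUnit.mp hcli) |>.ne_zero
  -- Nakayama
  set N : Ideal L := Ideal.span (Set.range fun j => g (f (rows j))) with hN
  have hKN : K ≤ N := by
    refine Submodule.le_of_le_smul_of_le_jacobson_bot (I := IsLocalRing.maximalIdeal L)
      (hK ▸ Submodule.fg_span (Set.finite_range _)) (IsLocalRing.maximalIdeal_le_jacobson _) ?_
    rw [hK, Submodule.span_le, ← hK]
    rintro _ ⟨l, rfl⟩
    have hmem : M.row l ∈ Submodule.span κ (Set.range v) := hvspan ▸ Submodule.subset_span ⟨l, rfl⟩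
    obtain ⟨t, ht⟩ := (Submodule.mem_span_range_iff_exists_fun _).mp hmem
    choose t' ht' using fun j => hχs (t j)
    have hDf : ∀ l, D (f l) = g (f l) := fun l => by
      have : π (g (f l)) = 0 := by
        rw [← RingHom.mem_ker, hKker, hK]; exact Ideal.subset_span ⟨l, rfl⟩
      simp [D, this]
    have hE : g (f l) - ∑ j, t' j * g (f (rows j)) ∈ IsLocalRing.maximalIdeal L • K := by
      have e : ∀ l, g (f l) = ∑ i, g (MvPolynomial.pderiv i (f l)) * D (MvPolynomial.X i) := fun l => (hDf l).symm.trans (hder _)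
      rw [e l, Finset.sum_congr rfl fun j _ => congrArg (t' j * ·) (e (rows j))]
      simp only [Finset.mul_sum]
      rw [Finset.sum_comm, ← Finset.sum_sub_distrib]
      refine Submodule.sum_mem _ fun i _ => ?_
      rw [show g (MvPolynomial.pderiv i (f l)) * D (MvPolynomial.X i) -
          ∑ j, t' j * (g (MvPolynomial.pderiv i (f (rows j))) * D (MvPolynomial.X i)) =
          (g (MvPolynomial.pderiv i (f l)) - ∑ j, t' j * g (MvPolynomial.pderiv i (f (rows j)))) • D (MvPolynomial.X i) by
        rw [smul_eq_mul, sub_mul, Finset.sum_mul]; exact congrArg _ (Finset.sum_congr rfl fun j _ => by ring)]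
      refine Submodule.smul_mem_smul ?_ (hDK _)
      rw [← hχ, RingHom.mem_ker, map_sub, map_sum, sub_eq_zero]
      have := congrFun ht i
      simp only [Finset.sum_apply, Pi.smul_apply, smul_eq_mul, ← hrows] at this
      refine this.symm.trans (Finset.sum_congr rfl fun j _ => ?_)
      rw [map_mul, ht']; rfl
    show g (f l) ∈ _
    rw [← sub_add_cancel (g (f l)) (∑ j, t' j * g (f (rows j)))]
    exact add_mem (Submodule.mem_sup_right hE)
      (Submodule.mem_sup_left (Submodule.sum_mem _ fun j _ => Ideal.mul_mem_left _ _ (Ideal.subset_span ⟨j, rfl⟩)))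
  exact ⟨c, rows, cols, hrinj, hcinj, hdet, fun l => hKN (hK ▸ Ideal.subset_span ⟨l, rfl⟩)⟩

open MvPolynomial in
theorem outer {R A : Type u} [CommRing R] [CommRing A] [Algebra R A] {n m : ℕ}
    (f : Fin m → MvPolynomial (Fin n) R) (φ : MvPolynomial (Fin n) R →ₐ[R] A) (hφ : Function.Surjective φ)
    (q : Ideal A) [q.IsPrime] [Algebra.FormallySmooth R (Localization.AtPrime q)]
    (I : Ideal (MvPolynomial (Fin n) R)) (hI : I = Ideal.span (Set.range f)) (hker : RingHom.ker φ.toRingHom = I)
    {P2 : Type u} [CommRing P2] [Algebra R P2] (mk : MvPolynomial (Fin n) R →ₐ[R] P2) (hmk : Function.Surjective mk)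
    (hmker : ∀ x, mk x = 0 ↔ x ∈ I ^ 2) (ψ : P2 →ₐ[R] A) (hψ : ∀ x, ψ (mk x) = φ x) :
    ∃ (c : ℕ) (rows : Fin c → Fin m) (cols : Fin c → Fin n), Function.Injective rows ∧ Function.Injective cols ∧
      φ (Smoothing.jacobianMinor f rows cols) ∉ q ∧
      ∀ l, ∃ u, φ u ∉ q ∧ u * f l ∈ Ideal.span (Set.range (f ∘ rows)) ⊔ I ^ 2 := by
  classical
  subst hI
  set I : Ideal (MvPolynomial (Fin n) R) := Ideal.span (Set.range f) with hI
  have hmker' : RingHom.ker mk = I ^ 2 := Ideal.ext fun x => hmker x
  haveI : (q.comap ψ.toRingHom).IsPrime := Ideal.IsPrime.comap _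
  let L := Localization.AtPrime (q.comap ψ.toRingHom)
  let B := Localization.AtPrime q
  let π₀ : L →+* B := Localization.localRingHom (q.comap ψ.toRingHom) q ψ.toRingHom rfl
  have hπ₀ : ∀ x, π₀ (algebraMap P2 L x) = algebraMap A B (ψ x) := fun x => Localization.localRingHom_to_map _ _ _ rfl x
  let π : L →ₐ[R] B := { π₀ with
    commutes' := fun r => by
      show π₀ (algebraMap R L r) = algebraMap R B r
      rw [IsScalarTower.algebraMap_apply R P2 L, hπ₀, AlgHom.commutes, ← IsScalarTower.algebraMap_apply] }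
  let g : MvPolynomial (Fin n) R →ₐ[R] L := (IsScalarTower.toAlgHom R P2 L).comp (mk)
  have hg : ∀ x, g x = algebraMap P2 L (mk x) := fun x => rfl
  have hπg : ∀ x, π (g x) = algebraMap A B (φ x) := fun x => by rw [hg, ← hψ]; exact hπ₀ _
  have hπs : Function.Surjective π := by
    intro b
    obtain ⟨⟨x, t⟩, rfl⟩ := IsLocalization.mk'_surjective q.primeCompl b
    obtain ⟨x', rfl⟩ := hφ x
    obtain ⟨t', ht'⟩ := hφ t.1
    have ht'' : mk t' ∈ (q.comap ψ.toRingHom).primeCompl := fun h => t.2 (by
      have : φ t' ∈ q := hψ t' ▸ h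
      rwa [ht'] at this)
    refine ⟨IsLocalization.mk' L (mk x') ⟨_, ht''⟩, ?_⟩
    show π₀ _ = _
    rw [Localization.localRingHom_mk']
    congr 1
    · exact hψ x'
    · exact Subtype.ext ((hψ t').trans ht')
  set K : Ideal L := Ideal.span (Set.range fun l => g (f l)) with hK
  have hKmap : K = I.map g.toRingHom := by
    rw [hK, show I.map g.toRingHom = (Ideal.span (Set.range f)).map g.toRingHom from rfl, Ideal.map_span, ← Set.range_comp]; rfl
  have hKker : RingHom.ker π = K := by
    refine le_antisymm (fun x hx => ?_) (by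
      rw [hK, Ideal.span_le]
      rintro _ ⟨l, rfl⟩
      have : φ (f l) = 0 := (SetLike.ext_iff.mp hker (f l)).mpr (Ideal.subset_span ⟨l, rfl⟩)
      rw [SetLike.mem_coe, RingHom.mem_ker, hπg, this, map_zero])
    obtain ⟨⟨y, s⟩, rfl⟩ := IsLocalization.mk'_surjective (q.comap ψ.toRingHom).primeCompl x
    obtain ⟨y', rfl⟩ := hmk y
    rw [RingHom.mem_ker] at hx
    have hx' : π (g y') = 0 := by
      rw [hg, ← IsLocalization.mk'_spec L (mk y') s, map_mul, hx, zero_mul]
    rw [hπg, IsLocalization.map_eq_zero_iff q.primeCompl] at hx'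
    obtain ⟨t, ht⟩ := hx'
    obtain ⟨t', ht'⟩ := hφ t.1
    have h1 : t' * y' ∈ I := hker ▸ (show φ (t' * y') = 0 by rw [map_mul, ht', ht])
    have hu : IsUnit (g t') := by
      rw [hg]
      refine IsLocalization.map_units L (⟨_, fun h => t.2 ?_⟩ : (q.comap ψ.toRingHom).primeCompl)
      have : φ t' ∈ q := hψ t' ▸ h
      rwa [ht'] at this
    have h2 : g t' * g y' ∈ K := by rw [← map_mul, hKmap]; exact Ideal.mem_map_of_mem _ h1
    show IsLocalization.mk' L (mk y') s ∈ K
    rw [IsLocalization.mk'_eq_mul_mk'_one]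
    exact Ideal.mul_mem_right _ _ ((Ideal.unit_mul_mem_iff_mem _ hu).mp h2)
  have hK2 : K ^ 2 = ⊥ := by
    rw [hKmap, ← Ideal.map_pow, Ideal.map_eq_bot_iff_le_ker]
    intro x hx
    rw [RingHom.mem_ker]
    show g x = 0
    rw [hg, (hmker x).mpr hx, map_zero]
  obtain ⟨s, hs⟩ := exists_section (B := B) π hπs K hKker hK2
  let χ : L →+* q.ResidueField := (IsLocalRing.residue B).comp π.toRingHom
  have hχs : Function.Surjective χ := IsLocalRing.residue_surjective.comp hπs
  obtain ⟨c, rows, cols, hrinj, hcinj, hdet, hKN⟩ := core f g π s hs K hK hKker hK2 χ hχs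
  have hden : ∀ l, ∃ u, φ u ∉ q ∧ u * f l ∈ Ideal.span (Set.range (f ∘ rows)) ⊔ I ^ 2 := by
    intro l
    have h1 := hKN l
    have h2 : Ideal.span (Set.range fun j => g (f (rows j))) = ((Ideal.span (Set.range (f ∘ rows))).map (mk)).map (algebraMap P2 L) := by
      rw [Ideal.map_span, Ideal.map_span, ← Set.range_comp, ← Set.range_comp]; rfl
    rw [hg, h2, IsLocalization.algebraMap_mem_map_algebraMap_iff (q.comap ψ.toRingHom).primeCompl] at h1
    obtain ⟨u, hu, h⟩ := h1
    obtain ⟨u', rfl⟩ := hmk u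
    refine ⟨u', fun h' => hu (show ψ (mk u') ∈ q by rw [hψ]; exact h'), ?_⟩
    rw [← map_mul, ← Ideal.mem_comap, Ideal.comap_map_of_surjective _ hmk,
      ← RingHom.ker_eq_comap_bot, hmker'] at h
    exact h
  have hmin : φ (Smoothing.jacobianMinor f rows cols) ∉ q := fun h => hdet (by
    show IsLocalRing.residue B (π (g _)) = 0
    rw [hπg, IsLocalRing.residue_eq_zero_iff, IsLocalization.AtPrime.to_map_mem_maximal_iff B q]
    exact h)
  exact ⟨c, rows, cols, hrinj, hcinj, hmin, hden⟩

/-- Let `A = R[x_1, …, x_n]/(f_1, …, f_m)` and `𝔮` a prime of `A` at which `R → A` is smooth. Then there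
are `a ∈ A ∖ 𝔮`, an integer `c` and injections picking `c` relations and `c` variables such that `a`
is a multiple of the image of the corresponding Jacobian minor and `a f_ℓ` lies in the ideal
generated by the chosen relations plus the square of the relation ideal, for every `ℓ`. -/
theorem result {R A : Type u} [CommRing R] [CommRing A] [Algebra R A] {n m : ℕ}
    (f : Fin m → MvPolynomial (Fin n) R) (φ : MvPolynomial (Fin n) R →ₐ[R] A) (hφ : Function.Surjective φ)
    (hker : RingHom.ker φ.toRingHom = Ideal.span (Set.range f)) (q : Ideal A) [q.IsPrime] [Algebra.IsSmoothAt R q] :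
    ∃ a : A, a ∉ q ∧ ∃ (c : ℕ) (rows : Fin c ↪ Fin m) (cols : Fin c ↪ Fin n) (a' : A),
      a = a' * φ (Smoothing.jacobianMinor f rows cols) ∧
      ∀ a₁ : MvPolynomial (Fin n) R, φ a₁ = a → ∀ ℓ : Fin m,
        a₁ * f ℓ ∈ Ideal.span (Set.range (f ∘ rows)) ⊔ Ideal.span (Set.range f) ^ 2 := by
  classical
  set I : Ideal (MvPolynomial (Fin n) R) := Ideal.span (Set.range f) with hI
  have hφI : ∀ x ∈ I ^ 2, φ x = 0 := fun x hx => by
    have : x ∈ RingHom.ker φ.toRingHom := hker ▸ Ideal.pow_le_self two_ne_zero hx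
    exact this
  let P2 := MvPolynomial (Fin n) R ⧸ I ^ 2
  let ψ : P2 →ₐ[R] A := Ideal.Quotient.liftₐ (I ^ 2) φ hφI
  have hψ : ∀ x, ψ (Ideal.Quotient.mk (I ^ 2) x) = φ x := fun x => rfl
  obtain ⟨c, rows, cols, hrinj, hcinj, hmin, hden⟩ := outer f φ hφ q I rfl hker (Ideal.Quotient.mkₐ R (I ^ 2))
    Ideal.Quotient.mk_surjective (fun x => Ideal.Quotient.eq_zero_iff_mem) ψ hψ
  choose u hu hu' using hden
  refine ⟨φ (∏ l, u l) * φ (Smoothing.jacobianMinor f rows cols), fun h => ?_, c, ⟨rows, hrinj⟩, ⟨cols, hcinj⟩,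
    φ (∏ l, u l), rfl, fun a₁ ha₁ l => ?_⟩
  · rcases Ideal.IsPrime.mem_or_mem inferInstance h with h | h
    · rw [map_prod] at h
      obtain ⟨l, -, hl⟩ := (Ideal.IsPrime.prod_mem_iff (p := q)).mp h
      exact hu l hl
    · exact hmin h
  · rw [← map_mul] at ha₁
    have h1 : a₁ - (∏ l, u l) * Smoothing.jacobianMinor f rows cols ∈ I :=
      hker ▸ (show φ (_ - _) = 0 by rw [map_sub, ha₁, sub_self])
    rw [show a₁ * f l = (a₁ - (∏ l, u l) * Smoothing.jacobianMinor f rows cols) * f l +
      ((∏ i ∈ Finset.univ.erase l, u i) * Smoothing.jacobianMinor f rows cols) * (u l * f l) by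
        rw [← Finset.mul_prod_erase _ _ (Finset.mem_univ l)]; ring]
    refine add_mem (Submodule.mem_sup_right ?_) (Ideal.mul_mem_left _ _ (hu' l))
    rw [sq]
    exact Ideal.mul_mem_mul h1 (Ideal.subset_span ⟨l, rfl⟩)

end Groth.Agent.S2108
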