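import Groth.Statements.S2026
import Mathlib
import Groth.Agent.S2108
-- import your own Groth.Agent.* helpers here

set_option autoImplicit false
universe u
open Smoothing

namespace Groth.Agent.S2026

open MvPolynomial

variable {R : Type u} [CommRing R]

/-- Newton step: a homomorphism killing the relations. -/
theorem exists_correction {n m c : ℕ} (f : Fin m → MvPolynomial (Fin n) R)
    (rows : Fin c → Fin m) (cols : Fin c → Fin n) {L B : Type u} [CommRing L] [Algebra R L] [CommRing B] [Algebra R B]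
    (g : MvPolynomial (Fin n) R →ₐ[R] L) (π : L →ₐ[R] B) (hK2 : RingHom.ker π ^ 2 = ⊥)
    (hf : ∀ l, π (g (f l)) = 0) (hmin : IsUnit (g (Smoothing.jacobianMinor f rows cols)))
    (hgen : ∀ l, ∃ u, IsUnit (g u) ∧ u * f l ∈ Ideal.span (Set.range (f ∘ rows)) ⊔ Ideal.span (Set.range f) ^ 2) :
    ∃ h : MvPolynomial (Fin n) R →ₐ[R] L, π.comp h = π.comp g ∧ ∀ l, h (f l) = 0 := by
  classical
  set K : Ideal L := RingHom.ker π with hK
  have hKK : ∀ x y, x ∈ K → y ∈ K → x * y = 0 := fun x y hx hy => by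
    rw [← Ideal.mem_bot, ← hK2, sq]; exact Ideal.mul_mem_mul hx hy
  let M : Matrix (Fin c) (Fin c) L := Matrix.of fun j k => g (pderiv (cols k) (f (rows j)))
  have hM : IsUnit M.det := by
    convert hmin using 1
    rw [Smoothing.jacobianMinor, AlgHom.map_det]
    rfl
  let ε : Fin c → L := M⁻¹.mulVec fun j => g (f (rows j))
  have hε : ∀ k, ε k ∈ K := fun k => by
    show ∑ j, M⁻¹ k j * g (f (rows j)) ∈ K
    exact Ideal.sum_mem K fun j _ => K.mul_mem_left _ (RingHom.mem_ker.mpr (hf (rows j)))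
  let δ : Fin n → L := fun i => ∑ k, if cols k = i then ε k else 0
  have hδ : ∀ i, δ i ∈ K := fun i => Ideal.sum_mem _ fun k _ => by split_ifs; exacts [hε k, K.zero_mem]
  let h : MvPolynomial (Fin n) R →ₐ[R] L := aeval fun i => g (X i) - δ i
  have hform : ∀ F, h F = g F - ∑ i, g (pderiv i F) * δ i := by
    intro F
    induction F using MvPolynomial.induction_on with
    | C r => simp [h, ← MvPolynomial.algebraMap_eq]
    | add a b ha hb =>
      simp only [map_add, add_mul, Finset.sum_add_distrib, ha, hb]; ring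
    | mul_X a j ha =>
      have hj : h (X j) = g (X j) - δ j := by simp [h]
      have hsum : ∑ i, g (pderiv i (a * X j)) * δ i = g (X j) * (∑ i, g (pderiv i a) * δ i) + g a * δ j := by
        rw [Finset.mul_sum]
        have e : ∀ i, g (pderiv i (a * X j)) * δ i = g (X j) * (g (pderiv i a) * δ i) + (if i = j then g a * δ i else 0) := by
          intro i
          rw [pderiv_mul]
          by_cases hij : i = j
          · subst hij; rw [pderiv_X_self, if_pos rfl, mul_one, map_add, map_mul]; ring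
          · rw [pderiv_X_of_ne (Ne.symm hij), if_neg hij, mul_zero, add_zero, map_mul]; ring
        simp only [e, Finset.sum_add_distrib, Finset.sum_ite_eq', Finset.mem_univ, if_true]
      have h0 : (∑ i, g (pderiv i a) * δ i) * δ j = 0 :=
        hKK _ _ (Ideal.sum_mem _ fun i _ => Ideal.mul_mem_left _ _ (hδ i)) (hδ j)
      rw [map_mul, hj, ha, map_mul, hsum]
      linear_combination h0
  have hhg : ∀ F, π (h F) = π (g F) := fun F => by
    rw [hform, map_sub, sub_eq_self]
    exact Ideal.sum_mem _ fun i _ => Ideal.mul_mem_left _ _ (hδ i)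
  refine ⟨h, AlgHom.ext hhg, ?_⟩
  have hrow : ∀ j, h (f (rows j)) = 0 := by
    intro j
    rw [hform, sub_eq_zero]
    have e1 : ∑ i, g (pderiv i (f (rows j))) * δ i = M.mulVec ε j := by
      simp only [δ, Finset.mul_sum, mul_ite, mul_zero]
      rw [Finset.sum_comm]
      simp [M, Matrix.mulVec, dotProduct]
    rw [e1, Matrix.mulVec_mulVec, Matrix.mul_nonsing_inv _ hM, Matrix.one_mulVec]
  intro l
  obtain ⟨u, hu, hul⟩ := hgen l
  have hI : ∀ x ∈ Ideal.span (Set.range f), h x ∈ K := fun x hx => by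
    have : Ideal.span (Set.range f) ≤ K.comap h := by
      rw [Ideal.span_le]
      rintro _ ⟨l, rfl⟩
      show π (h (f l)) = 0
      rw [hhg, hf]
    exact this hx
  have hz : h (u * f l) = 0 := by
    have hle : Ideal.span (Set.range (f ∘ rows)) ⊔ Ideal.span (Set.range f) ^ 2 ≤ RingHom.ker h := by
      refine sup_le (Ideal.span_le.2 ?_) ?_
      · rintro _ ⟨j, rfl⟩; exact hrow j
      · rw [sq, Ideal.mul_le]
        intro x hx y hy
        rw [RingHom.mem_ker, map_mul]
        exact hKK _ _ (hI x hx) (hI y hy)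
    exact hle hul
  have hhu : IsUnit (h u) := by
    have hd : IsNilpotent (h u - g u) := ⟨2, by
      rw [sq]; exact hKK _ _ (by rw [hK, RingHom.mem_ker, map_sub, hhg, sub_self]) (by rw [hK, RingHom.mem_ker, map_sub, hhg, sub_self])⟩
    simpa using hd.isUnit_add_left_of_commute hu (Commute.all _ _)
  rw [map_mul] at hz
  exact hhu.mul_right_eq_zero.mp hz

theorem isUnit_of_map {L B : Type u} [CommRing L] [CommRing B] [Algebra R L] [Algebra R B] (π : L →ₐ[R] B)
    (hπ : Function.Surjective π) (hK2 : RingHom.ker π ^ 2 = ⊥) {x : L} (hx : IsUnit (π x)) : IsUnit x := by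
  obtain ⟨y, hy⟩ := hπ ↑(hx.unit⁻¹)
  have hd : IsNilpotent (x * y - 1) := ⟨2, by
    rw [← Ideal.mem_bot, ← hK2]
    exact Ideal.pow_mem_pow (by rw [RingHom.mem_ker, map_sub, map_mul, hy, map_one, IsUnit.mul_val_inv, sub_self]) 2⟩
  exact isUnit_of_mul_isUnit_left (show IsUnit (x * y) by simpa using hd.isUnit_add_one)

/-- Section from a killing homomorphism. -/
theorem smooth_abstract {n m c : ℕ} (f : Fin m → MvPolynomial (Fin n) R) (rows : Fin c → Fin m) (cols : Fin c → Fin n)
    {A : Type u} [CommRing A] [Algebra R A] (φ : MvPolynomial (Fin n) R →ₐ[R] A) (hφ : Function.Surjective φ)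
    (hker : RingHom.ker φ.toRingHom = Ideal.span (Set.range f)) (W : Submonoid A)
    {B : Type u} [CommRing B] [Algebra R B] [Algebra A B] [IsScalarTower R A B] [IsLocalization W B]
    {P : Type u} [CommRing P] [Algebra R P] [Algebra.FormallySmooth R P]
    (g : MvPolynomial (Fin n) R →ₐ[R] P) (π : P →ₐ[R] B) (hπ : Function.Surjective π)
    (hπg : ∀ x, π (g x) = algebraMap A B (φ x))
    (hmin : IsUnit (algebraMap A B (φ (Smoothing.jacobianMinor f rows cols))))
    (hgen : ∀ l, ∃ u, IsUnit (algebraMap A B (φ u)) ∧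
      u * f l ∈ Ideal.span (Set.range (f ∘ rows)) ⊔ Ideal.span (Set.range f) ^ 2) :
    Algebra.FormallySmooth R B := by
  let L := P ⧸ RingHom.ker π.toRingHom ^ 2
  let π₁ : L →ₐ[R] B := π.kerSquareLift
  have hπ₁ : Function.Surjective π₁ := fun b => ⟨Ideal.Quotient.mk _ (hπ b).choose, (hπ b).choose_spec⟩
  have hK2 : RingHom.ker π₁ ^ 2 = ⊥ := by
    refine le_bot_iff.mp ?_
    rw [sq (RingHom.ker π₁), Ideal.mul_le]
    intro x hx y hy
    obtain ⟨x, rfl⟩ := Ideal.Quotient.mk_surjective x
    obtain ⟨y, rfl⟩ := Ideal.Quotient.mk_surjective y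
    rw [Ideal.mem_bot, ← map_mul, Ideal.Quotient.eq_zero_iff_mem, sq]
    exact Ideal.mul_mem_mul hx hy
  let g₁ : MvPolynomial (Fin n) R →ₐ[R] L := (Ideal.Quotient.mkₐ R _).comp g
  have hg₁ : ∀ x, π₁ (g₁ x) = algebraMap A B (φ x) := hπg
  have hu : ∀ x, IsUnit (algebraMap A B (φ x)) → IsUnit (g₁ x) := fun x hx =>
    isUnit_of_map π₁ hπ₁ hK2 (by rw [hg₁]; exact hx)
  obtain ⟨h, hhg, hhf⟩ := exists_correction f rows cols g₁ π₁ hK2 (fun l => by
      have : φ (f l) = 0 := (SetLike.ext_iff.mp hker (f l)).mpr (Ideal.subset_span ⟨l, rfl⟩)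
      rw [hg₁, this, map_zero]) (hu _ hmin)
    (fun l => by obtain ⟨u, h1, h2⟩ := hgen l; exact ⟨u, hu u h1, h2⟩)
  have hkk : RingHom.ker φ.toRingHom ≤ RingHom.ker h.toRingHom := by
    rw [hker, Ideal.span_le]
    rintro _ ⟨l, rfl⟩
    exact hhf l
  let hA : A →ₐ[R] L := AlgHom.liftOfSurjective φ hφ h hkk
  have hhA : ∀ x, hA (φ x) = h x := fun x => AlgHom.liftOfSurjective_apply φ hφ h hkk x
  have hπh : ∀ a, π₁ (hA a) = algebraMap A B a := fun a => by
    obtain ⟨x, rfl⟩ := hφ a
    rw [hhA, ← AlgHom.comp_apply, hhg, AlgHom.comp_apply, hg₁]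
  have hW : ∀ w : W, IsUnit (hA.toRingHom w) := fun w =>
    isUnit_of_map π₁ hπ₁ hK2 (by
      show IsUnit (π₁ (hA w))
      rw [hπh]; exact IsLocalization.map_units B w)
  let s₀ : B →+* L := IsLocalization.lift hW
  have hs₀ : ∀ a, s₀ (algebraMap A B a) = hA a := IsLocalization.lift_eq hW
  let s : B →ₐ[R] L := { s₀ with
    commutes' := fun r => by
      show s₀ (algebraMap R B r) = algebraMap R L r
      rw [IsScalarTower.algebraMap_apply R A B, hs₀, AlgHom.commutes] }
  refine Algebra.FormallySmooth.of_split π s (AlgHom.coe_ringHom_injective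
    (IsLocalization.ringHom_ext W (RingHom.ext fun a => ?_)))
  show π₁ (s₀ (algebraMap A B a)) = algebraMap A B a
  rw [hs₀, hπh]

/-- Jacobian criterion, at a prime. -/
theorem smoothAt_of_minor {n m c : ℕ} (f : Fin m → MvPolynomial (Fin n) R) (rows : Fin c → Fin m) (cols : Fin c → Fin n)
    {A : Type u} [CommRing A] [Algebra R A] (φ : MvPolynomial (Fin n) R →ₐ[R] A) (hφ : Function.Surjective φ)
    (hker : RingHom.ker φ.toRingHom = Ideal.span (Set.range f)) (q : Ideal A) [q.IsPrime]
    (hmin : φ (Smoothing.jacobianMinor f rows cols) ∉ q)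
    (hgen : ∀ l, ∃ u, φ u ∉ q ∧ u * f l ∈ Ideal.span (Set.range (f ∘ rows)) ⊔ Ideal.span (Set.range f) ^ 2) :
    Algebra.IsSmoothAt R q := by
  haveI : (q.comap φ.toRingHom).IsPrime := Ideal.IsPrime.comap _
  let π₀ := Localization.localRingHom (q.comap φ.toRingHom) q φ.toRingHom rfl
  have hπ₀ : ∀ x, π₀ (algebraMap _ (Localization.AtPrime (q.comap φ.toRingHom)) x) =
      algebraMap A (Localization.AtPrime q) (φ x) := fun x => Localization.localRingHom_to_map _ _ _ rfl x
  let π : Localization.AtPrime (q.comap φ.toRingHom) →ₐ[R] Localization.AtPrime q := { π₀ with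
    commutes' := fun r => by
      show π₀ (algebraMap R _ r) = algebraMap R _ r
      rw [IsScalarTower.algebraMap_apply R (MvPolynomial (Fin n) R) (Localization.AtPrime (q.comap φ.toRingHom)),
        hπ₀, AlgHom.commutes, ← IsScalarTower.algebraMap_apply] }
  haveI : Algebra.FormallySmooth R (Localization.AtPrime (q.comap φ.toRingHom)) :=
    haveI := Algebra.FormallySmooth.of_isLocalization (R := MvPolynomial (Fin n) R)
      (Rₘ := Localization.AtPrime (q.comap φ.toRingHom)) (q.comap φ.toRingHom).primeCompl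
    Algebra.FormallySmooth.comp R (MvPolynomial (Fin n) R) _
  have hπs : Function.Surjective π := by
    intro b
    obtain ⟨⟨x, t⟩, rfl⟩ := IsLocalization.mk'_surjective q.primeCompl b
    obtain ⟨x', rfl⟩ := hφ x
    obtain ⟨t', ht'⟩ := hφ t.1
    refine ⟨IsLocalization.mk' _ x' (⟨t', fun h => t.2 (ht' ▸ h)⟩ : (q.comap φ.toRingHom).primeCompl), ?_⟩
    show π₀ _ = _
    rw [Localization.localRingHom_mk']
    congr 1
    exact Subtype.ext ht'
  have hu : ∀ x, φ x ∉ q → IsUnit (algebraMap A (Localization.AtPrime q) (φ x)) := fun x hx =>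
    IsLocalization.map_units (Localization.AtPrime q) (⟨φ x, hx⟩ : q.primeCompl)
  exact smooth_abstract f rows cols φ hφ hker q.primeCompl
    (IsScalarTower.toAlgHom R (MvPolynomial (Fin n) R) (Localization.AtPrime (q.comap φ.toRingHom))) π hπs hπ₀
    (hu _ hmin) (fun l => by obtain ⟨u, h1, h2⟩ := hgen l; exact ⟨u, hu u h1, h2⟩)

theorem elementary_of_smoothAt {A : Type u} [CommRing A] [Algebra R A] [Algebra.FinitePresentation R A]
    (q : Ideal A) [q.IsPrime] [Algebra.IsSmoothAt R q] :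
    ∃ a, a ∉ q ∧ Smoothing.IsElementaryStandard R A a := by
  classical
  obtain ⟨n, φ, hφ, hfg⟩ := Algebra.FinitePresentation.out (R := R) (A := A)
  obtain ⟨gs, hgs⟩ := hfg
  let f : Fin gs.card → MvPolynomial (Fin n) R := fun i => (gs.equivFin.symm i).1
  have hker : RingHom.ker φ.toRingHom = Ideal.span (Set.range f) := by
    have : Set.range f = (gs : Set (MvPolynomial (Fin n) R)) := by
      ext x
      constructor
      · rintro ⟨i, rfl⟩; exact (gs.equivFin.symm i).2
      · intro hx; exact ⟨gs.equivFin ⟨x, hx⟩, by simp [f]⟩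
    rw [this]; exact hgs.symm
  obtain ⟨a, haq, c, rows, cols, a', ha, hkill⟩ := Groth.Agent.S2108.result f φ hφ hker q
  have hcm : c ≤ gs.card := by simpa using Fintype.card_le_of_embedding rows
  have hcn : c ≤ n := by simpa using Fintype.card_le_of_embedding cols
  obtain ⟨σ, hσ⟩ : ∃ σ : Equiv.Perm (Fin gs.card), ∀ j, σ (Fin.castLE hcm j) = rows j := by
    let e : {x : Fin gs.card // x ∈ Set.range (Fin.castLE hcm)} ≃ {x : Fin gs.card // x ∈ Set.range rows} :=
      (Equiv.ofInjective _ (Fin.castLE_injective hcm)).symm.trans (Equiv.ofInjective _ rows.injective)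
    refine ⟨e.extendSubtype, fun j => ?_⟩
    rw [Equiv.extendSubtype_apply_of_mem e _ ⟨j, rfl⟩]
    simp [e, Equiv.ofInjective_symm_apply]
  obtain ⟨τ, hτ⟩ : ∃ τ : Equiv.Perm (Fin n), ∀ j, τ (Fin.castLE hcn j) = cols j := by
    let e : {x : Fin n // x ∈ Set.range (Fin.castLE hcn)} ≃ {x : Fin n // x ∈ Set.range cols} :=
      (Equiv.ofInjective _ (Fin.castLE_injective hcn)).symm.trans (Equiv.ofInjective _ cols.injective)
    refine ⟨e.extendSubtype, fun j => ?_⟩
    rw [Equiv.extendSubtype_apply_of_mem e _ ⟨j, rfl⟩]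
    simp [e, Equiv.ofInjective_symm_apply]
  let ρ : MvPolynomial (Fin n) R ≃ₐ[R] MvPolynomial (Fin n) R := renameEquiv R τ.symm
  let f' : Fin gs.card → MvPolynomial (Fin n) R := fun l => ρ (f (σ l))
  let φ' : MvPolynomial (Fin n) R →ₐ[R] A := φ.comp ρ.symm.toAlgHom
  have hφ' : ∀ x, φ' (ρ x) = φ x := fun x => by show φ (ρ.symm (ρ x)) = _; rw [AlgEquiv.symm_apply_apply]
  have hrange : Set.range f' = ρ '' Set.range f := by
    ext x
    constructor
    · rintro ⟨l, rfl⟩; exact ⟨_, ⟨σ l, rfl⟩, rfl⟩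
    · rintro ⟨_, ⟨l, rfl⟩, rfl⟩; exact ⟨σ.symm l, by simp [f']⟩
  have hspan : Ideal.span (Set.range f') = (Ideal.span (Set.range f)).map (ρ.toAlgHom : MvPolynomial (Fin n) R →+* MvPolynomial (Fin n) R) := by
    rw [Ideal.map_span, hrange]; rfl
  have hker' : RingHom.ker φ'.toRingHom = Ideal.span (Set.range f') := by
    ext x
    obtain ⟨x, rfl⟩ := ρ.surjective x
    rw [hspan, ← hker]
    show φ' (ρ x) = 0 ↔ _
    rw [hφ']
    constructor
    · exact fun h => Ideal.mem_map_of_mem _ h
    · intro h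
      obtain ⟨y, hy, hyx⟩ := (Ideal.mem_map_iff_of_surjective _ ρ.surjective).mp h
      rw [← ρ.injective hyx]; exact hy
  refine ⟨a, haq, { n := n, m := gs.card, c := c, hcn := hcn, hcm := hcm, rel := f', hom := φ', surj := hφ.comp ρ.symm.surjective, ker_eq := hker' }, ⟨a', ?_⟩, ?_⟩
  · rw [ha]
    congr 1
    have e : Smoothing.jacobianMinor f' (Fin.castLE hcm) (Fin.castLE hcn) = ρ (Smoothing.jacobianMinor f rows cols) := by
      rw [Smoothing.jacobianMinor, Smoothing.jacobianMinor, AlgEquiv.map_det]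
      congr 1
      ext1 j k
      show pderiv (Fin.castLE hcn k) (rename τ.symm (f (σ (Fin.castLE hcm j)))) = rename τ.symm _
      rw [hσ, show Fin.castLE hcn k = τ.symm (cols k) by rw [← hτ, Equiv.symm_apply_apply],
        pderiv_rename τ.symm.injective]
      rfl
    show _ = φ' (Smoothing.jacobianMinor f' (Fin.castLE hcm) (Fin.castLE hcn))
    rw [e, hφ']
  · intro a₁ ha₁ j _
    have h1 := hkill (ρ.symm a₁) ha₁ (σ j)
    have h2 := Ideal.mem_map_of_mem (ρ.toAlgHom : MvPolynomial (Fin n) R →+* MvPolynomial (Fin n) R) h1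
    rw [Ideal.map_sup, Ideal.map_pow, ← hspan, Ideal.map_span] at h2
    rw [map_mul] at h2
    have hsub : ρ '' Set.range (f ∘ rows) ⊆ f' '' {j' : Fin gs.card | (j' : ℕ) < c} := by
      rintro _ ⟨_, ⟨i, rfl⟩, rfl⟩
      exact ⟨Fin.castLE hcm i, i.2, by show ρ (f (σ (Fin.castLE hcm i))) = _; rw [hσ]; rfl⟩
    have h3 := (sup_le_sup_right (Ideal.span_mono hsub) (Ideal.span (Set.range f') ^ 2)) h2
    simpa [f'] using h3

/-- For a finitely presented `R`-algebra `A`, the singular ideal (functions vanishing on the non-smooth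
locus) coincides with the radical of the ideal spanned by all strictly standard elements, and
equally with the radical of the ideal spanned by all elementary standard elements. -/
theorem result {R A : Type u} [CommRing R] [CommRing A]
    [Algebra R A] [Algebra.FinitePresentation R A] :
    Smoothing.singularIdeal R A = (Ideal.span {a : A | Smoothing.IsStrictlyStandard R A a}).radical ∧
      Smoothing.singularIdeal R A =
        (Ideal.span {a : A | Smoothing.IsElementaryStandard R A a}).radical := by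
  classical
  have hES : ∀ a : A, Smoothing.IsElementaryStandard R A a → Smoothing.IsStrictlyStandard R A a := by
    rintro a ⟨P, ⟨a', ha⟩, hk⟩
    exact ⟨P, ha ▸ Ideal.mul_mem_left _ _ (Ideal.subset_span ⟨Fin.castLE P.hcn, rfl⟩), hk⟩
  have h1 : Smoothing.singularIdeal R A ≤ (Ideal.span {a : A | Smoothing.IsElementaryStandard R A a}).radical := by
    intro x hx
    rw [Ideal.radical_eq_sInf, Submodule.mem_sInf]
    rintro q ⟨hle, hq⟩
    refine (PrimeSpectrum.mem_vanishingIdeal _ _).mp hx ⟨q, hq⟩ fun hsm => ?_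
    haveI : Algebra.IsSmoothAt R q := hsm
    obtain ⟨a, haq, ha⟩ := elementary_of_smoothAt (R := R) q
    exact haq (hle (Ideal.subset_span ha))
  have h2 : (Ideal.span {a : A | Smoothing.IsStrictlyStandard R A a}).radical ≤ Smoothing.singularIdeal R A := by
    intro x hx
    refine (PrimeSpectrum.mem_vanishingIdeal _ _).mpr fun q hq => ?_
    refine (Ideal.IsPrime.radical_le_iff q.isPrime).mpr (Ideal.span_le.2 ?_) hx
    rintro a ⟨P, hmem, hk⟩
    by_contra haq
    refine hq ?_
    have hex : ∃ cols : Fin P.c → Fin P.n, P.hom (Smoothing.jacobianMinor P.rel (Fin.castLE P.hcm) cols) ∉ q.asIdeal := by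
      by_contra! hc
      exact haq (Ideal.span_le.2 (by rintro _ ⟨cols, rfl⟩; exact hc cols) hmem)
    obtain ⟨cols, hcols⟩ := hex
    refine smoothAt_of_minor P.rel (Fin.castLE P.hcm) cols P.hom P.surj P.ker_eq q.asIdeal hcols fun l => ?_
    obtain ⟨a₁, ha₁⟩ := P.surj a
    refine ⟨a₁, ha₁.symm ▸ haq, ?_⟩
    by_cases hl : (l : ℕ) < P.c
    · exact Submodule.mem_sup_left (Ideal.mul_mem_left _ _ (Ideal.subset_span ⟨⟨l, hl⟩, rfl⟩))
    · have hsub : P.rel '' {j' : Fin P.m | (j' : ℕ) < P.c} ⊆ Set.range (P.rel ∘ Fin.castLE P.hcm) := by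
        rintro _ ⟨j, hj, rfl⟩
        exact ⟨⟨j, hj⟩, rfl⟩
      exact (sup_le_sup_right (Ideal.span_mono hsub) (Ideal.span (Set.range P.rel) ^ 2)) (hk a₁ ha₁ l (not_lt.mp hl))
  have h3 : (Ideal.span {a : A | Smoothing.IsElementaryStandard R A a}).radical ≤
      (Ideal.span {a : A | Smoothing.IsStrictlyStandard R A a}).radical :=
    Ideal.radical_mono (Ideal.span_mono hES)
  exact ⟨le_antisymm (h1.trans h3) h2, le_antisymm h1 (h3.trans h2)⟩

end Groth.Agent.S2026
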