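import Groth.Statements.S2032
-- import your own Groth.Agent.* helpers here

set_option autoImplicit false
universe u
open Smoothing

namespace Groth.Agent.S2032

open MvPolynomial Polynomial

/-- Determinant trick: `s` with `s • I ⊆ J` and `φ s` a power of `φ a''`, multiple of `φ a''`. -/
theorem exists_killer {P A : Type*} [CommRing P] [CommRing A] (φ : P →+* A) (I J : Ideal P)
    (hI : I.FG) (hker : RingHom.ker φ = I) (b : P) (h : ∀ x ∈ I, b * x ∈ J ⊔ I ^ 2) :
    ∃ (s : P) (k : ℕ), φ s = φ b ^ (k + 1) ∧ ∀ x ∈ I, s * x ∈ J := by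
  let M : Submodule P (P ⧸ J) := Submodule.map J.mkQ I
  have hfg : M.FG := Submodule.FG.map _ hI
  have : Module.Finite P M := Module.Finite.iff_fg.mpr hfg
  have hr : LinearMap.range (algebraMap P (Module.End P M) b) ≤ I • (⊤ : Submodule P M) := by
    rintro _ ⟨⟨y, hy⟩, rfl⟩
    obtain ⟨x, hx, rfl⟩ := hy
    rw [Submodule.mem_smul_top_iff]
    show b • J.mkQ x ∈ I • Submodule.map J.mkQ I
    rw [← Submodule.map_smul'']
    obtain ⟨u, hu, v, hv, huv⟩ := Submodule.mem_sup.mp (h x hx)
    refine ⟨v, ?_, ?_⟩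
    · simpa [pow_two] using hv
    · rw [← LinearMap.map_smul, smul_eq_mul, ← huv, map_add]
      simp [Ideal.Quotient.eq_zero_iff_mem.mpr hu]
  obtain ⟨p, hp, -, hc, hp0⟩ :=
    LinearMap.exists_monic_and_natDegree_eq_and_coeff_mem_pow_and_aeval_eq_zero P _ I hr
  rw [Polynomial.aeval_algebraMap_apply, Polynomial.coe_aeval_eq_eval] at hp0
  refine ⟨b * p.eval b, p.natDegree, ?_, fun x hx => ?_⟩
  · have hmap : p.map φ = Polynomial.X ^ p.natDegree := by
      ext k
      rw [Polynomial.coeff_map, Polynomial.coeff_X_pow]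
      rcases lt_trichotomy k p.natDegree with hk | hk | hk
      · rw [if_neg hk.ne, ← RingHom.mem_ker, hker]
        exact Ideal.pow_le_self (by omega) (hc k)
      · rw [if_pos hk, hk, hp.coeff_natDegree, map_one]
      · rw [if_neg hk.ne', Polynomial.coeff_eq_zero_of_natDegree_lt hk, map_zero]
    rw [map_mul, ← Polynomial.eval_map_apply, hmap, Polynomial.eval_pow, Polynomial.eval_X,
      pow_succ']
  · have := congrArg (fun f : Module.End P M => (f ⟨J.mkQ x, x, hx, rfl⟩ : P ⧸ J)) hp0
    simp only [Module.algebraMap_end_apply, Submodule.coe_smul, LinearMap.zero_apply,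
      Submodule.coe_zero] at this
    rw [← LinearMap.map_smul] at this
    rw [mul_assoc]
    exact J.mul_mem_left b ((Submodule.Quotient.mk_eq_zero J).mp this)

variable {R : Type u} [CommRing R] {n c : ℕ}

/-- The relations of the presentation of the localization. -/
noncomputable def vrel (f : Fin c → MvPolynomial (Fin n) R) (s : MvPolynomial (Fin n) R) :
    Fin c ⊕ Unit → MvPolynomial (Fin n ⊕ Unit) R :=
  Sum.elim (fun j => rename Sum.inl (f j))
    fun _ => MvPolynomial.X (Sum.inr ()) * rename Sum.inl s - 1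

theorem pderiv_inr_rename_inl (q : MvPolynomial (Fin n) R) (u : Unit) :
    pderiv (Sum.inr u) (rename Sum.inl q : MvPolynomial (Fin n ⊕ Unit) R) = 0 := by
  induction q using MvPolynomial.induction_on with
  | C r => simp
  | add p q hp hq => simp [map_add, hp, hq]
  | mul_X p i hp => simp [Derivation.leibniz, hp]

theorem det_jacobi (f : Fin c → MvPolynomial (Fin n) R) (s : MvPolynomial (Fin n) R)
    (col : Fin c → Fin n) :
    (Matrix.of fun i j : Fin c ⊕ Unit => pderiv (Sum.map col id i) (vrel f s j)).det =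
      rename Sum.inl (Matrix.of fun j k : Fin c => pderiv (col k) (f j)).det *
        rename Sum.inl s := by
  have : (Matrix.of fun i j : Fin c ⊕ Unit => pderiv (Sum.map col id i) (vrel f s j)) =
      Matrix.fromBlocks
        ((Matrix.of fun j k : Fin c => pderiv (col k) (f j)).transpose.map (rename Sum.inl))
        (Matrix.of fun k _ => pderiv (Sum.inl (col k)) (vrel f s (Sum.inr ())))
        0 (Matrix.of fun _ _ => rename Sum.inl s) := by
    ext (i | i) (j | j)
    · simp [vrel, pderiv_rename Sum.inl_injective]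
    · simp
    · simp [vrel, pderiv_inr_rename_inl]
    · simp [vrel, pderiv_inr_rename_inl, Derivation.leibniz]
  rw [this, Matrix.det_fromBlocks_zero₂₁, Matrix.det_unique (Matrix.of fun _ _ => _), AlgHom.map_det]
  congr 1
  rw [← Matrix.det_transpose]
  rfl

theorem isStandardSmooth_away {A : Type u} [CommRing A] [Algebra R A]
    (hom : MvPolynomial (Fin n) R →ₐ[R] A) (surj : Function.Surjective hom) (a : A)
    (f : Fin c → MvPolynomial (Fin n) R) (hf : ∀ j, hom (f j) = 0)
    (s : MvPolynomial (Fin n) R) (k : ℕ) (hs : hom s = a ^ (k + 1))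
    (hsI : ∀ x, hom x = 0 → s * x ∈ Ideal.span (Set.range f))
    (col : Fin c → Fin n) (hcol : Function.Injective col)
    (hdet : hom (Matrix.of fun j k : Fin c => pderiv (col k) (f j)).det ∣ a) :
    Algebra.IsStandardSmooth R (Localization.Away a) := by
  classical
  let K : Ideal (MvPolynomial (Fin n ⊕ Unit) R) := Ideal.span (Set.range (vrel f s))
  let η : MvPolynomial (Fin n) R →ₐ[R] MvPolynomial (Fin n ⊕ Unit) R ⧸ K :=
    (Ideal.Quotient.mkₐ R K).comp (rename Sum.inl)
  have hηs : IsUnit (η s) := by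
    refine IsUnit.of_mul_eq_one (Ideal.Quotient.mk K (MvPolynomial.X (Sum.inr ()))) ?_
    simp only [η, AlgHom.comp_apply, Ideal.Quotient.mkₐ_eq_mk]
    rw [← map_mul, ← (Ideal.Quotient.mk K).map_one, Ideal.Quotient.eq, mul_comm]
    exact Ideal.subset_span ⟨Sum.inr (), rfl⟩
  have hηJ : Ideal.span (Set.range f) ≤ RingHom.ker η := by
    rw [Ideal.span_le]
    rintro _ ⟨j, rfl⟩
    exact Ideal.Quotient.eq_zero_iff_mem.mpr (Ideal.subset_span ⟨Sum.inl j, rfl⟩)
  have hηI : ∀ x, x ∈ RingHom.ker hom → η x = 0 := fun x hx => by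
    have := hηJ (hsI x hx)
    rw [RingHom.mem_ker, map_mul] at this
    exact hηs.mul_left_cancel (by rw [this, mul_zero])
  let ψ₀ : A →ₐ[R] MvPolynomial (Fin n ⊕ Unit) R ⧸ K :=
    (Ideal.Quotient.liftₐ (RingHom.ker hom) η hηI).comp
      (Ideal.quotientKerAlgEquivOfSurjective surj).symm.toAlgHom
  have hψ₀ : ∀ x, ψ₀ (hom x) = η x := fun x => by
    have : (Ideal.quotientKerAlgEquivOfSurjective surj).symm (hom x) = Ideal.Quotient.mk _ x :=
      (Ideal.quotientKerAlgEquivOfSurjective surj).symm_apply_eq.mpr rfl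
    show Ideal.Quotient.liftₐ (RingHom.ker hom) η hηI
      ((Ideal.quotientKerAlgEquivOfSurjective surj).symm (hom x)) = η x
    rw [this]
    rfl
  have hψa : IsUnit (ψ₀ a) := by
    rw [← isUnit_pow_iff (Nat.succ_ne_zero k), ← map_pow, ← hs, hψ₀]
    exact hηs
  let ψ : Localization.Away a →ₐ[R] MvPolynomial (Fin n ⊕ Unit) R ⧸ K :=
    IsLocalization.liftAlgHom (M := Submonoid.powers a) (f := ψ₀) (fun y => by
      obtain ⟨m, hm⟩ := y.2
      rw [← hm, map_pow]
      exact hψa.pow m)
  let w : Localization.Away a := IsLocalization.Away.invSelf a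
  have hw : algebraMap A (Localization.Away a) a * w = 1 := IsLocalization.Away.mul_invSelf a
  let φ₀ : MvPolynomial (Fin n ⊕ Unit) R →ₐ[R] Localization.Away a :=
    aeval (Sum.elim (fun i => algebraMap A (Localization.Away a) (hom (MvPolynomial.X i)))
      fun _ => w ^ (k + 1))
  have hφ₀ : ∀ q, φ₀ (rename Sum.inl q) = algebraMap A (Localization.Away a) (hom q) := by
    intro q
    have : φ₀.comp (rename Sum.inl) = (IsScalarTower.toAlgHom R A (Localization.Away a)).comp hom :=
      MvPolynomial.algHom_ext fun i => by simp [φ₀]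
    exact DFunLike.congr_fun this q
  let φ : MvPolynomial (Fin n ⊕ Unit) R ⧸ K →ₐ[R] Localization.Away a :=
    Ideal.Quotient.liftₐ K φ₀ (by
      show K ≤ RingHom.ker φ₀
      rw [Ideal.span_le]
      rintro _ ⟨j | j, rfl⟩
      · simp [vrel, hφ₀, hf]
      · simp only [vrel, Sum.elim_inr, SetLike.mem_coe, RingHom.mem_ker, map_sub, map_mul, hφ₀,
          hs, map_pow, map_one, φ₀, MvPolynomial.aeval_X]
        rw [← mul_pow, mul_comm, hw, one_pow, sub_self])
  have hψφ : ψ.comp φ = AlgHom.id R _ := by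
    refine Ideal.Quotient.algHom_ext R (MvPolynomial.algHom_ext fun i => ?_)
    have hl : ∀ q, ψ (algebraMap A _ (hom q)) = η q := fun q => by
      simp [ψ, IsLocalization.lift_eq, hψ₀]
    rcases i with i | i
    · show ψ (φ₀ (MvPolynomial.X (Sum.inl i))) = Ideal.Quotient.mk K _
      simpa [φ₀, η] using hl (MvPolynomial.X i)
    · show ψ (φ (Ideal.Quotient.mk K _)) = Ideal.Quotient.mk K _
      apply hηs.mul_left_cancel
      have h1 : ψ (algebraMap A _ a) ^ (k + 1) = η s := by
        rw [← map_pow, ← map_pow, ← hs, hl]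
      have h2 : φ (Ideal.Quotient.mk K (MvPolynomial.X (Sum.inr i))) = w ^ (k + 1) := by
        show φ₀ (MvPolynomial.X (Sum.inr i)) = _
        simp [φ₀]
      rw [h2, map_pow, ← h1, ← mul_pow, ← map_mul, hw, map_one, one_pow, h1]
      symm
      simp only [η, AlgHom.comp_apply, Ideal.Quotient.mkₐ_eq_mk]
      rw [← map_mul, ← (Ideal.Quotient.mk K).map_one, Ideal.Quotient.eq]
      rw [mul_comm]
      exact Ideal.subset_span ⟨Sum.inr (), rfl⟩
  have hφψ : φ.comp ψ = AlgHom.id R _ := by
    refine AlgHom.coe_ringHom_injective (IsLocalization.ringHom_ext (Submonoid.powers a) ?_)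
    ext x
    obtain ⟨q, rfl⟩ := surj x
    show φ (ψ (algebraMap A _ (hom q))) = algebraMap A _ (hom q)
    have : ψ (algebraMap A _ (hom q)) = η q := by simp [ψ, IsLocalization.lift_eq, hψ₀]
    rw [this]
    exact hφ₀ q
  let e : (MvPolynomial (Fin n ⊕ Unit) R ⧸ K) ≃ₐ[R] Localization.Away a :=
    AlgEquiv.ofAlgHom φ ψ hφψ hψφ
  let P : Algebra.PreSubmersivePresentation R (MvPolynomial (Fin n ⊕ Unit) R ⧸ K)
      (Fin n ⊕ Unit) (Fin c ⊕ Unit) :=
    Algebra.PreSubmersivePresentation.naive (v := vrel f s) (Sum.map col id)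
      (hcol.sumMap Function.injective_id)
  have hP : P.jacobiMatrix =
      Matrix.of fun i j : Fin c ⊕ Unit => pderiv (Sum.map col id i) (vrel f s j) := by
    refine Matrix.ext fun i j => ?_
    exact Algebra.PreSubmersivePresentation.jacobiMatrix_apply _ _ _
  have hjac : IsUnit P.jacobian := by
    rw [Algebra.PreSubmersivePresentation.jacobian_eq_jacobiMatrix_det, hP, det_jacobi,
      map_mul]
    have hP' : ∀ q, algebraMap P.Ring (MvPolynomial (Fin n ⊕ Unit) R ⧸ K) (rename Sum.inl q)
        = η q := by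
      intro q
      rw [P.algebraMap_apply]
      exact (DFunLike.congr_fun (MvPolynomial.aeval_unique (Ideal.Quotient.mkₐ R K)) _).symm
    rw [hP', hP']
    obtain ⟨a', ha'⟩ := hdet
    have := hψa
    rw [ha', map_mul, hψ₀, IsUnit.mul_iff] at this
    exact this.1.mul hηs
  exact ({ P with jacobian_isUnit := hjac } :
    Algebra.SubmersivePresentation R _ _ _).ofAlgEquiv e |>.isStandardSmooth

/-- For a finitely presented `R`-algebra `A` and `a ∈ A`, if `a` is elementary standard then `A_a` is
standard smooth over `R`. (Part (f), the converse for large powers of `a`, is not stated: as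
published it fails, for example for the nodal cubic `A = {g ∈ ℚ[u] : g(0) = g(1)}` and `a =
u(u-1)`.) -/
theorem result {R A : Type u} [CommRing R] [CommRing A]
    [Algebra R A] [Algebra.FinitePresentation R A] (a : A)
    (ha : Smoothing.IsElementaryStandard R A a) : Algebra.IsStandardSmooth R (Localization.Away a) := by
  obtain ⟨P, ⟨a', ha'⟩, hkill⟩ := ha
  obtain ⟨b, hb⟩ := P.surj a
  let f : Fin P.c → MvPolynomial (Fin P.n) R := fun j => P.rel (Fin.castLE P.hcm j)
  let I : Ideal (MvPolynomial (Fin P.n) R) := Ideal.span (Set.range P.rel)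
  let J : Ideal (MvPolynomial (Fin P.n) R) := Ideal.span (Set.range f)
  have himage : Ideal.span (P.rel '' {j' : Fin P.m | (j' : ℕ) < P.c}) = J := by
    congr 1
    ext x
    constructor
    · rintro ⟨j, hj, rfl⟩
      exact ⟨⟨j, hj⟩, rfl⟩
    · rintro ⟨j, rfl⟩
      exact ⟨Fin.castLE P.hcm j, j.2, rfl⟩
  have hkey : ∀ x ∈ I, b * x ∈ J ⊔ I ^ 2 := by
    intro x hx
    induction hx using Submodule.span_induction with
    | mem x hx =>
      obtain ⟨j, rfl⟩ := hx
      by_cases hj : (j : ℕ) < P.c
      · exact Ideal.mem_sup_left (J.mul_mem_left _ (Ideal.subset_span ⟨⟨j, hj⟩, rfl⟩))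
      · rw [← himage]
        exact hkill b hb j (not_lt.mp hj)
    | zero => simp
    | add x y _ _ hx hy => rw [mul_add]; exact add_mem hx hy
    | smul r x _ hx => rw [smul_eq_mul, mul_left_comm]; exact Ideal.mul_mem_left _ r hx
  obtain ⟨s, k, hs, hsI⟩ := exists_killer (P.hom : MvPolynomial (Fin P.n) R →+* A) I J
    (Submodule.fg_span (Set.finite_range _)) P.ker_eq b hkey
  refine isStandardSmooth_away P.hom P.surj a f (fun j => ?_) s k (by rw [← hb]; exact hs)
    (fun x hx => hsI x ?_) (Fin.castLE P.hcn) (Fin.castLE_injective _) ?_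
  · have : P.rel (Fin.castLE P.hcm j) ∈ RingHom.ker P.hom.toRingHom := by
      rw [P.ker_eq]; exact Ideal.subset_span ⟨_, rfl⟩
    exact this
  · show x ∈ Ideal.span (Set.range P.rel)
    rw [← P.ker_eq]; exact hx
  · exact Dvd.intro_left a' ha'.symm

end Groth.Agent.S2032
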