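import Groth.Statements.S2040
import Groth.Agent.GRing17.AndreLocal

set_option autoImplicit false
universe u
open CAlg

namespace Groth.Agent.S2040

/-- For a complete Noetherian local ring `A` with residue field `k`, and a complete Noetherian local
`k`-algebra `B` which is formally smooth over `k` for the adic topology of its maximal ideal, there
is a Noetherian complete local ring `C` with a local homomorphism `A → C`, formally smooth for the
adic topology of the maximal ideal of `C`, whose special fibre `C ⊗ k` is isomorphic to `B` over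
`k`. -/
theorem result {A B : Type u} [CommRing A] [IsLocalRing A]
    [IsNoetherianRing A] [IsAdicComplete (IsLocalRing.maximalIdeal A) A] [CommRing B] [IsLocalRing B]
    [IsNoetherianRing B] [IsAdicComplete (IsLocalRing.maximalIdeal B) B]
    [Algebra (IsLocalRing.maximalIdeal A).ResidueField B]
    (hB : CAlgX.IsAdicFormallySmooth (IsLocalRing.maximalIdeal A).ResidueField B (IsLocalRing.maximalIdeal B)) :
    ∃ (C : Type u) (_ : CommRing C) (_ : IsLocalRing C) (_ : Algebra A C),
      IsNoetherianRing C ∧ IsAdicComplete (IsLocalRing.maximalIdeal C) C ∧ IsLocalHom (algebraMap A C) ∧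
        CAlgX.IsAdicFormallySmooth A C (IsLocalRing.maximalIdeal C) ∧
        Nonempty ((IsLocalRing.maximalIdeal A).Fiber C ≃ₐ[(IsLocalRing.maximalIdeal A).ResidueField] B) := by
  classical
  let k := (IsLocalRing.maximalIdeal A).ResidueField
  obtain ⟨Λ, _, n, f, hΛ, hf⟩ :=
    CohenStruct.exists_surjective A (IsNoetherian.noetherian _)
  have : IsLocalRing Λ := by
    rcases hΛ with hF | ⟨hd, hdvr, -⟩
    · let := hF.toField; infer_instance
    · infer_instance
  let P := MvPowerSeries (Fin n) Λ
  let _ : Algebra P A := f.toAlgebra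
  have : Module.Finite P A := RingHom.finite_algebraMap.mp (RingHom.Finite.of_surjective f hf)
  let _ : Algebra A B := ((algebraMap k B).comp (algebraMap A k)).toAlgebra
  have : IsScalarTower A k B := .of_algebraMap_eq fun _ => rfl
  let _ : Algebra P B := ((algebraMap A B).comp f).toAlgebra
  have : IsScalarTower P A B := by
    exact IsScalarTower.of_algebraMap_eq (R := P) (S := A) (A := B) fun _ => rfl
  obtain ⟨B₀, _, _, _, _, _, π₀, _, _, hB₀, hπ₀, hk₀⟩ := GRing17.exists_flat_model hΛ n
    ((algebraMap A k).comp f) ((Ideal.algebraMap_residueField_surjective _).comp hf) (fun _ => rfl) hB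
  obtain ⟨_, hN, hc, hl, hb, π, hπ, hk⟩ := GRing17.baseChange_props (P := P) (A := A) (B := B₀) (Q := B)
    (IsLocalRing.residue_surjective.comp hf) (fun a ha => by
      show algebraMap k B (algebraMap A k a) = 0
      rw [Ideal.algebraMap_residueField_eq_zero.mpr ha, map_zero]) π₀ hπ₀ hk₀
  refine ⟨TensorProduct P A B₀, inferInstance, inferInstance, inferInstance, hN, hc, hl,
    GRing17.adicSmooth_baseChange hb hB₀, ?_⟩
  obtain ⟨hs, hker⟩ := GRing17.baseChange_of_surjective (A := A) (K := k) (B := TensorProduct P A B₀)
    (Ideal.algebraMap_residueField_surjective _)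
  let g : (IsLocalRing.maximalIdeal A).Fiber (TensorProduct P A B₀) →ₐ[k] B :=
    Algebra.TensorProduct.lift (Algebra.ofId k B) π fun _ _ => Commute.all _ _
  have hg : ∀ c, g (Algebra.TensorProduct.includeRight c) = π c := fun c =>
    (Algebra.TensorProduct.lift_tmul _ _ _ (1 : k) c).trans (by rw [map_one, one_mul])
  refine ⟨AlgEquiv.ofBijective g ⟨(injective_iff_map_eq_zero g).mpr fun x hx => ?_, fun b => ?_⟩⟩
  · obtain ⟨c, rfl⟩ := hs x
    rw [hg] at hx
    refine (Ideal.map_le_iff_le_comap.mpr fun a ha => ?_ :
      (IsLocalRing.maximalIdeal A).map (algebraMap A (TensorProduct P A B₀)) ≤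
        RingHom.ker (Algebra.TensorProduct.includeRight : TensorProduct P A B₀ →ₐ[A] _).toRingHom) (hk hx)
    rw [Ideal.mem_comap, RingHom.mem_ker]
    show Algebra.TensorProduct.includeRight (algebraMap A (TensorProduct P A B₀) a) = 0
    rw [AlgHom.commutes, IsScalarTower.algebraMap_apply A k, Ideal.algebraMap_residueField_eq_zero.mpr ha, map_zero]
  · obtain ⟨c, rfl⟩ := hπ b
    exact ⟨_, hg c⟩

end Groth.Agent.S2040
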