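import Groth.Statements.S2041
import Mathlib
import Groth.Agent.EtAlgLib.IdemLift
-- import your own Groth.Agent.* helpers here

set_option autoImplicit false
universe u
open CAlg

namespace Groth.Agent.S2041

section Aux
open scoped TensorProduct
open Polynomial

theorem exists_monic_of_mem_map {A B : Type u} [CommRing A] [CommRing B] [Algebra A B]
    [Algebra.IsIntegral A B] (I : Ideal A) (z : B) (hz : z ∈ I.map (algebraMap A B)) :
    ∃ (q : A[X]) (N : ℕ), q.Monic ∧ N ≠ 0 ∧ aeval z q = 0 ∧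
      q.map (Ideal.Quotient.mk I) = X ^ N := by
  classical
  obtain ⟨s, hs⟩ : ∃ s : Finset B, ∀ t : Subalgebra A B, ↑s ⊆ (t : Set B) →
      ∃ hz' : z ∈ t, (⟨z, hz'⟩ : t) ∈ I.map (algebraMap A t) := by
    rw [Ideal.map] at hz
    induction hz using Submodule.span_induction with
    | mem x hx =>
      obtain ⟨a, ha, rfl⟩ := hx
      exact ⟨∅, fun t _ => ⟨t.algebraMap_mem a, Ideal.mem_map_of_mem (algebraMap A t) ha⟩⟩
    | zero => exact ⟨∅, fun t _ => ⟨zero_mem t, Submodule.zero_mem _⟩⟩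
    | add x y _ _ hx hy =>
      obtain ⟨s, hs⟩ := hx
      obtain ⟨s', hs'⟩ := hy
      refine ⟨s ∪ s', fun t ht => ?_⟩
      rw [Finset.coe_union, Set.union_subset_iff] at ht
      obtain ⟨h1, h1'⟩ := hs t ht.1
      obtain ⟨h2, h2'⟩ := hs' t ht.2
      exact ⟨add_mem h1 h2, Ideal.add_mem _ h1' h2'⟩
    | smul r x _ hx =>
      obtain ⟨s, hs⟩ := hx
      refine ⟨insert r s, fun t ht => ?_⟩
      rw [Finset.coe_insert, Set.insert_subset_iff] at ht
      obtain ⟨h1, h1'⟩ := hs t ht.2
      exact ⟨mul_mem ht.1 h1, Ideal.mul_mem_left _ ⟨r, ht.1⟩ h1'⟩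
  let t := Algebra.adjoin A (s : Set B)
  obtain ⟨hz', hzI⟩ := hs t Algebra.subset_adjoin
  haveI : Module.Finite A t := ⟨(Submodule.fg_top t.toSubmodule).2
    (fg_adjoin_of_finite s.finite_toSet fun x _ => Algebra.IsIntegral.isIntegral x)⟩
  have hrange : LinearMap.range (LinearMap.mulLeft A (⟨z, hz'⟩ : t)) ≤ I • ⊤ := by
    rintro _ ⟨w, rfl⟩
    rw [Ideal.smul_top_eq_map]
    exact Ideal.mul_mem_right _ _ hzI
  obtain ⟨q, hq, -, hqc, hq0⟩ :=
    LinearMap.exists_monic_and_natDegree_eq_and_coeff_mem_pow_and_aeval_eq_zero A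
      (LinearMap.mulLeft A (⟨z, hz'⟩ : t)) I hrange
  have h1 : aeval (⟨z, hz'⟩ : t) q = 0 := by
    have h := congrArg (fun f : Module.End A t => f 1) hq0
    have e : LinearMap.mulLeft A (⟨z, hz'⟩ : t) = Algebra.lmul A t ⟨z, hz'⟩ := rfl
    beta_reduce at h
    rw [e, aeval_algHom_apply] at h
    simpa using h
  have h2 : aeval z q = 0 := by
    have h := congrArg t.val h1
    rwa [← aeval_algHom_apply, map_zero] at h
  refine ⟨X * q, q.natDegree + 1, monic_X.mul hq, by omega, by rw [map_mul, h2, mul_zero], ?_⟩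
  rw [Polynomial.map_mul, map_X, EtAlgLib.map_eq_X_pow I q hq hqc, pow_succ']

end Aux

open TensorProduct in
/-- Let `I ⊆ A` be an ideal, `A → B` integral and `ē` an idempotent of `B/IB`. Then there is an étale
`A`-algebra `A'` with `A/I → A'/IA'` bijective and an idempotent of `A' ⊗ B` whose class modulo `I`
agrees with that of any lift of `ē`. -/
theorem result {A B : Type u} [CommRing A] [CommRing B] [Algebra A B]
    [Algebra.IsIntegral A B] (I : Ideal A) (e : B ⧸ I.map (algebraMap A B)) (he : IsIdempotentElem e) :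
    ∃ (A' : Type u) (_ : CommRing A') (_ : Algebra A A'), Algebra.Etale A A' ∧
      Function.Bijective (algebraMap (A ⧸ I) (A' ⧸ I.map (algebraMap A A'))) ∧
      ∃ e' : A' ⊗[A] B, IsIdempotentElem e' ∧
        ∀ b : B, Ideal.Quotient.mk (I.map (algebraMap A B)) b = e →
          e' - 1 ⊗ₜ b ∈ I.map (algebraMap A (A' ⊗[A] B)) := by
  open Polynomial in
    obtain ⟨b₀, hb₀⟩ := Ideal.Quotient.mk_surjective e
    have hz : b₀ * b₀ - b₀ ∈ I.map (algebraMap A B) := by
      rw [← Ideal.Quotient.eq, map_mul, hb₀, he.eq]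
    obtain ⟨q, N, hq, hqd, hq0, hqmap⟩ := exists_monic_of_mem_map I _ hz
    have hP : (q.comp (X * (X - C 1))).Monic := by
      nontriviality A
      refine hq.comp (monic_X.mul (monic_X_sub_C 1)) ?_
      rw [monic_X.natDegree_mul (monic_X_sub_C 1), natDegree_X, natDegree_X_sub_C]
      omega
    have hPmap : (q.comp (X * (X - C 1))).map (Ideal.Quotient.mk I) =
        X ^ N * (X - C 1) ^ N := by
      rw [Polynomial.map_comp, hqmap, X_pow_comp, Polynomial.map_mul, map_X, Polynomial.map_sub, map_X,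
        map_C, map_one, mul_pow]
    obtain ⟨A', i1, i2, hA', hbij, v, hv⟩ :=
      EtAlgLib.exists_etale_idem I _ hP N hqd hPmap
    let x : A' ⊗[A] B := 1 ⊗ₜ b₀
    have hx : aeval x ((q.comp (X * (X - C 1))).map (algebraMap A A')) = 0 := by
      rw [aeval_map_algebraMap, aeval_comp, map_mul, map_sub, aeval_X, aeval_C, map_one]
      have : x * (x - 1) = Algebra.TensorProduct.includeRight (R := A) (A := A') (b₀ * b₀ - b₀) := by
        rw [map_sub, map_mul, Algebra.TensorProduct.includeRight_apply, mul_sub, mul_one]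
      rw [this, aeval_algHom_apply, hq0, map_zero]
    refine ⟨A', i1, i2, hA', hbij, aeval x v, (hv _ x hx).1, fun b hb => ?_⟩
    let E := (A' ⊗[A] B) ⧸ I.map (algebraMap A (A' ⊗[A] B))
    let π : (A' ⊗[A] B) →ₐ[A'] E := Ideal.Quotient.mkₐ A' _
    have hπ : ∀ c ∈ I.map (algebraMap A B), π ((1 : A') ⊗ₜ[A] c) = 0 := fun c hc => by
      have h := Ideal.mem_map_of_mem (Algebra.TensorProduct.includeRight (R := A) (A := A')).toRingHom hc
      rw [Ideal.map_map, AlgHom.toRingHom_eq_coe, AlgHom.comp_algebraMap] at h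
      exact Ideal.Quotient.eq_zero_iff_mem.2 h
    rw [← Ideal.Quotient.eq_zero_iff_mem]
    change π (aeval x v - 1 ⊗ₜ b) = 0
    have hidem : IsIdempotentElem (π x) := by
      have := hπ _ hz
      rw [TensorProduct.tmul_sub, map_sub, sub_eq_zero] at this
      rw [IsIdempotentElem, ← map_mul, Algebra.TensorProduct.tmul_mul_tmul, one_mul, this]
    have hx' : aeval (π x) ((q.comp (X * (X - C 1))).map (algebraMap A A')) = 0 := by
      rw [aeval_algHom_apply, hx, map_zero]
    have hI : ∀ a ∈ I, algebraMap A' E (algebraMap A A' a) = 0 := fun a ha => by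
      rw [← IsScalarTower.algebraMap_apply]
      exact Ideal.Quotient.eq_zero_iff_mem.2 (Ideal.mem_map_of_mem (algebraMap A (A' ⊗[A] B)) ha)
    rw [map_sub, ← aeval_algHom_apply, (hv E (π x) hx').2 hidem hI, ← map_sub, ← TensorProduct.tmul_sub]
    exact hπ _ (Ideal.Quotient.eq.1 (hb₀.trans hb.symm))

end Groth.Agent.S2041
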