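import Groth.Statements.S2044
import Mathlib
import Groth.Agent.EtAlgLib.IdemLift
-- import your own Groth.Agent.* helpers here

set_option autoImplicit false
universe u
open CAlg

namespace Groth.Agent.S2044

section Aux
open scoped TensorProduct Matrix
open Polynomial

theorem exists_monic_matrix {A : Type u} [CommRing A] (I : Ideal A) {n : ℕ}
    (M : Matrix (Fin n) (Fin n) A) (hM : ∀ i j, (M * M - M) i j ∈ I) :
    ∃ (q : A[X]) (N : ℕ), q.Monic ∧ N ≠ 0 ∧ aeval (M * M - M) q = 0 ∧
      q.map (Ideal.Quotient.mk I) = X ^ N := by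
  classical
  have hrange : LinearMap.range (Matrix.toLinAlgEquiv' (M * M - M)) ≤ I • ⊤ := by
    rintro _ ⟨w, rfl⟩
    rw [← Finset.univ_sum_single (Matrix.toLinAlgEquiv' (M * M - M) w)]
    refine Submodule.sum_mem _ fun i _ => ?_
    rw [← mul_one ((Matrix.toLinAlgEquiv' (M * M - M) w) i), ← smul_eq_mul, Pi.single_smul]
    refine Submodule.smul_mem_smul ?_ Submodule.mem_top
    rw [Matrix.toLinAlgEquiv'_apply]
    simp only [Matrix.mulVec, dotProduct]
    exact Ideal.sum_mem _ fun j _ => Ideal.mul_mem_right _ _ (hM i j)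
  obtain ⟨q, hq, -, hqc, hq0⟩ :=
    LinearMap.exists_monic_and_natDegree_eq_and_coeff_mem_pow_and_aeval_eq_zero A
      (Matrix.toLinAlgEquiv' (M * M - M)) I hrange
  rw [aeval_algHom_apply, EmbeddingLike.map_eq_zero_iff] at hq0
  exact ⟨X * q, q.natDegree + 1, monic_X.mul hq, by omega, by rw [map_mul, hq0, mul_zero],
    by rw [Polynomial.map_mul, map_X, EtAlgLib.map_eq_X_pow I q hq hqc, pow_succ']⟩

theorem nonempty_reduction_equiv {R A' Q : Type u} [CommRing R] [CommRing A'] [CommRing Q]
    [Algebra A' Q] [Algebra R Q] {P : Type u} [AddCommGroup P] [Module R P] {n : ℕ}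
    (π : (Fin n → R) →ₗ[R] P) (hπ : Function.Surjective π)
    (s : P →ₗ[R] (Fin n → R)) (hs : ∀ p, π (s p) = p)
    (e : Matrix (Fin n) (Fin n) A') (he : IsIdempotentElem e)
    (hmod : e.map (algebraMap A' Q) = (LinearMap.toMatrix' (s ∘ₗ π)).map (algebraMap R Q)) :
    Nonempty (TensorProduct A' Q (LinearMap.range (Matrix.toLin' e)) ≃ₗ[Q] TensorProduct R Q P) := by
  classical
  let P' := LinearMap.range (Matrix.toLin' e)
  let θ := TensorProduct.piScalarRight A' Q Q (Fin n)
  let ι : TensorProduct A' Q P' →ₗ[Q] (Fin n → Q) := θ.toLinearMap ∘ₗ P'.subtype.baseChange Q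
  let β : (Fin n → Q) →ₗ[Q] TensorProduct R Q P :=
    Fintype.linearCombination Q fun j => (1 : Q) ⊗ₜ[R] π (Pi.single j 1)
  let T : TensorProduct R Q P →ₗ[Q] (Fin n → Q) :=
    LinearMap.liftBaseChange Q ((Algebra.linearMap R Q).compLeft (Fin n) ∘ₗ s)
  have hidem : ∀ w, Matrix.toLin' e (Matrix.toLin' e w) = Matrix.toLin' e w := fun w => by
    rw [← LinearMap.comp_apply, ← Matrix.toLin'_mul, he.eq]
  have hι : Function.Injective ι := by
    refine θ.injective.comp (Function.LeftInverse.injective
      (g := ((Matrix.toLin' e).rangeRestrict).baseChange Q) fun z => ?_)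
    rw [← LinearMap.comp_apply, ← LinearMap.baseChange_comp]
    have : (Matrix.toLin' e).rangeRestrict ∘ₗ P'.subtype = LinearMap.id := LinearMap.ext fun v => by
      obtain ⟨w, hw⟩ := v.2
      refine Subtype.ext ?_
      change Matrix.toLin' e v.1 = v.1
      rw [← hw, hidem]
    rw [this, LinearMap.baseChange_id]; rfl
  have hιe : ∀ j, ι ((1 : Q) ⊗ₜ ⟨Matrix.toLin' e (Pi.single j 1), LinearMap.mem_range_self _ _⟩) =
      fun i => algebraMap R Q (LinearMap.toMatrix' (s ∘ₗ π) i j) := fun j => by
    funext i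
    have h := congrFun (congrFun hmod i) j
    simp only [Matrix.map_apply] at h
    simp [ι, θ, Algebra.smul_def, h]
  have hTι : T ∘ₗ β ∘ₗ ι = ι := by
    refine LinearMap.ext fun z => ?_
    induction z using TensorProduct.induction_on with
    | zero => simp
    | add a b ha hb => simp only [map_add, ha, hb]
    | tmul q v =>
      obtain ⟨_, w, rfl⟩ := v
      funext i
      have hfix : ∀ i, (Matrix.toLin' e w) i = ∑ j, e i j * (Matrix.toLin' e w) j := fun i => by
        conv_lhs => rw [← hidem w]
        rfl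
      have hrow : ∀ j, algebraMap R Q (s (π (Pi.single j 1)) i) = algebraMap A' Q (e i j) := fun j => by
        have h := congrFun (congrFun hmod i) j
        simp only [Matrix.map_apply, LinearMap.toMatrix'_apply, LinearMap.comp_apply] at h
        exact h.symm
      have hι1 : ∀ j, ι (q ⊗ₜ[A'] ⟨Matrix.toLin' e w, LinearMap.mem_range_self _ w⟩) j =
          q * algebraMap A' Q (Matrix.toLin' e w j) := fun j => by
        simp [ι, θ, Algebra.smul_def, mul_comm]
      simp only [LinearMap.comp_apply, β, Fintype.linearCombination_apply, map_sum, map_smul,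
        Finset.sum_apply, Pi.smul_apply, hι1]
      simp only [T, LinearMap.liftBaseChange_tmul, one_smul, LinearMap.comp_apply,
        LinearMap.compLeft_apply, Function.comp_apply, Algebra.linearMap_apply, hrow, smul_eq_mul]
      rw [hfix i, map_sum, Finset.mul_sum]
      refine Finset.sum_congr rfl fun j _ => ?_
      rw [map_mul]; ring
  refine ⟨LinearEquiv.ofBijective (β ∘ₗ ι) ⟨fun a b h => hι ?_, ?_⟩⟩
  · rw [← hTι]
    exact congrArg T h
  · have key : ∀ j, (1 : Q) ⊗ₜ[R] π (Pi.single j 1) ∈ LinearMap.range (β ∘ₗ ι) := fun j => by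
      refine ⟨(1 : Q) ⊗ₜ ⟨Matrix.toLin' e (Pi.single j 1), LinearMap.mem_range_self _ _⟩, ?_⟩
      rw [LinearMap.comp_apply, hιe]
      simp only [β, Fintype.linearCombination_apply]
      simp only [algebraMap_smul, ← TensorProduct.tmul_smul, ← TensorProduct.tmul_sum]
      congr 1
      conv_rhs => rw [← hs (π (Pi.single j 1))]
      conv_rhs => rw [← Finset.univ_sum_single (s (π (Pi.single j 1))), map_sum]
      refine Finset.sum_congr rfl fun i _ => ?_
      rw [LinearMap.toMatrix'_apply, ← map_smul, ← Pi.single_smul, smul_eq_mul, mul_one]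
      rfl
    intro z
    induction z using TensorProduct.induction_on with
    | zero => exact ⟨0, map_zero _⟩
    | add a b ha hb =>
      obtain ⟨a, rfl⟩ := ha
      obtain ⟨b, rfl⟩ := hb
      exact ⟨a + b, map_add _ _ _⟩
    | tmul q p =>
      obtain ⟨w, rfl⟩ := hπ p
      change q ⊗ₜ π w ∈ LinearMap.range (β ∘ₗ ι)
      rw [← Finset.univ_sum_single w, map_sum, TensorProduct.tmul_sum]
      refine Submodule.sum_mem _ fun j _ => ?_
      rw [← mul_one (w j), ← smul_eq_mul, Pi.single_smul, map_smul, TensorProduct.tmul_smul,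
        ← algebraMap_smul Q (w j), ← mul_one q, ← smul_eq_mul q, ← TensorProduct.smul_tmul']
      exact Submodule.smul_mem _ _ (Submodule.smul_mem _ _ (key j))

end Aux

open TensorProduct in
/-- Let `I ⊆ A` be an ideal and `P` a finite projective `A/I`-module. Then there is an étale `A`-algebra
`A'` with `A/I → A'/IA'` bijective and a finite projective `A'`-module whose reduction modulo `IA'`
is the base change of `P`. -/
theorem result {A : Type u} [CommRing A] (I : Ideal A) (P : Type u)
    [AddCommGroup P] [Module (A ⧸ I) P] [Module.Finite (A ⧸ I) P] [Module.Projective (A ⧸ I) P] :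
    ∃ (A' : Type u) (_ : CommRing A') (_ : Algebra A A'), Algebra.Etale A A' ∧
      Function.Bijective (algebraMap (A ⧸ I) (A' ⧸ I.map (algebraMap A A'))) ∧
      ∃ (P' : Type u) (_ : AddCommGroup P') (_ : Module A' P'), Module.Finite A' P' ∧
        Module.Projective A' P' ∧
        Nonempty (((A' ⧸ I.map (algebraMap A A')) ⊗[A'] P') ≃ₗ[A' ⧸ I.map (algebraMap A A')]
          ((A' ⧸ I.map (algebraMap A A')) ⊗[A ⧸ I] P)) := by
  open Polynomial in
    classical
    obtain ⟨n, π, hπ⟩ := Module.Finite.exists_fin' (A ⧸ I) P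
    obtain ⟨s, hs⟩ := Module.projective_lifting_property π LinearMap.id hπ
    have hs' : ∀ p, π (s p) = p := fun p => LinearMap.congr_fun hs p
    let Ē := LinearMap.toMatrix' (s ∘ₗ π)
    have hE : IsIdempotentElem Ē := by
      rw [IsIdempotentElem, ← LinearMap.toMatrix'_comp]
      exact congrArg LinearMap.toMatrix' (LinearMap.ext fun v => congrArg s (hs' (π v)))
    let M : Matrix (Fin n) (Fin n) A := fun i j => Function.surjInv Ideal.Quotient.mk_surjective (Ē i j)
    have hM : M.map (Ideal.Quotient.mk I) = Ē := Matrix.ext fun i j => Function.surjInv_eq _ _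
    have hM2 : ∀ i j, (M * M - M) i j ∈ I := fun i j => by
      have h : (Ideal.Quotient.mk I).mapMatrix (M * M - M) = 0 := by
        rw [map_sub, map_mul, RingHom.mapMatrix_apply, hM, hE.eq, sub_self]
      exact Ideal.Quotient.eq_zero_iff_mem.1 (congrFun (congrFun h i) j)
    obtain ⟨q, N, hq, hN, hq0, hqmap⟩ := exists_monic_matrix I M hM2
    have hP : (q.comp (X * (X - C 1))).Monic := by
      nontriviality A
      refine hq.comp (monic_X.mul (monic_X_sub_C 1)) ?_
      rw [monic_X.natDegree_mul (monic_X_sub_C 1), natDegree_X, natDegree_X_sub_C]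
      omega
    have hPmap : (q.comp (X * (X - C 1))).map (Ideal.Quotient.mk I) = X ^ N * (X - C 1) ^ N := by
      rw [Polynomial.map_comp, hqmap, X_pow_comp, Polynomial.map_mul, map_X, Polynomial.map_sub, map_X,
        map_C, map_one, mul_pow]
    obtain ⟨A', i1, i2, hA', hbij, v, hv⟩ := EtAlgLib.exists_etale_idem I _ hP N hN hPmap
    let x : Matrix (Fin n) (Fin n) A' := (Algebra.ofId A A').mapMatrix M
    have hx : aeval x ((q.comp (X * (X - C 1))).map (algebraMap A A')) = 0 := by
      rw [aeval_map_algebraMap, aeval_algHom_apply, aeval_comp, map_mul, map_sub, aeval_X, aeval_C,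
        map_one, mul_sub, mul_one, hq0, map_zero]
    let e := aeval x v
    have he : IsIdempotentElem e := (hv _ x hx).1
    let J := I.map (algebraMap A A')
    let ρ : Matrix (Fin n) (Fin n) A' →ₐ[A'] Matrix (Fin n) (Fin n) (A' ⧸ J) :=
      (Ideal.Quotient.mkₐ A' J).mapMatrix
    have hρx : ρ x = Ē.map (algebraMap (A ⧸ I) (A' ⧸ J)) := by
      rw [← hM]
      exact Matrix.ext fun i j => rfl
    have hρe : ρ e = Ē.map (algebraMap (A ⧸ I) (A' ⧸ J)) := by
      rw [← hρx, show ρ e = aeval (ρ x) v from (aeval_algHom_apply ρ x v).symm]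
      refine (hv _ (ρ x) (by rw [aeval_algHom_apply, hx, map_zero])).2 ?_ fun a ha => ?_
      · rw [hρx]
        exact hE.map (algebraMap (A ⧸ I) (A' ⧸ J)).mapMatrix
      · refine Matrix.ext fun i j => ?_
        have : algebraMap A' (A' ⧸ J) (algebraMap A A' a) = 0 :=
          Ideal.Quotient.eq_zero_iff_mem.2 (Ideal.mem_map_of_mem _ ha)
        rw [Matrix.algebraMap_eq_diagonal, Matrix.zero_apply, Matrix.diagonal_apply]
        split_ifs with hij
        · exact this
        · rfl
    refine ⟨A', i1, i2, hA', hbij, ↥(LinearMap.range (Matrix.toLin' e)), inferInstance, inferInstance,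
      inferInstance, Module.Projective.of_split (LinearMap.range (Matrix.toLin' e)).subtype
        (Matrix.toLin' e).rangeRestrict (LinearMap.ext fun y => Subtype.ext ?_),
      nonempty_reduction_equiv π hπ s hs' e he hρe⟩
    obtain ⟨_, w, rfl⟩ := y
    show Matrix.toLin' e (Matrix.toLin' e w) = Matrix.toLin' e w
    rw [← LinearMap.comp_apply, ← Matrix.toLin'_mul, he.eq]

end Groth.Agent.S2044
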