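import Groth.Statements.S2045
import Groth.Agent.GRing17.HenselCpl
import Groth.Agent.S12236
import Groth.Agent.S0511
import Groth.Agent.S0510
import Groth.Agent.HenselLib.HenselizationAlg
-- import your own Groth.Agent.* helpers here

set_option autoImplicit false
universe u
open CAlg

namespace Groth.Agent.S2045

/-- If `R` is a Noetherian local G-ring then its henselization is a G-ring. -/
theorem result {R S : Type u} [CommRing R] [IsLocalRing R] [IsNoetherianRing R]
    (hR : CAlg.IsGRing R) [CommRing S] [IsLocalRing S] [Algebra R S] [IsLocalHom (algebraMap R S)]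
    [Hensel.IsHenselization R S] : CAlg.IsGRing S := by
  have : IsNoetherianRing S := (Groth.Agent.S0511.result R S).mp inferInstance
  have : Module.Flat R S := by
    obtain ⟨ρ, h⟩ := Groth.Agent.HenselLib.exists_colim_of_isHenselization R S
    exact h.flat
  refine Groth.Agent.GRing17.isGRing_of_indEtale_levels hR (Groth.Agent.S12236.result R S)
    (IsLocalRing.maximalIdeal R) ?_ (Groth.Agent.S0510.result R S)
  rw [IsLocalRing.jacobson_eq_maximalIdeal ⊥ bot_ne_top]
  exact IsLocalRing.map_maximalIdeal_le (algebraMap R S)

end Groth.Agent.S2045
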