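import Groth.Statements.S2046
import Groth.Agent.GRing17.AndreLocal
import Groth.Agent.GRing17.Hensel
import Groth.Agent.GRing17.Excellent
import Groth.Agent.S2047
import Groth.Agent.S4736
import Groth.Agent.S12237
import Groth.Agent.S1962
import Groth.Agent.S0539
import Groth.Agent.HenselLib.HenselizationAlg
import Groth.Agent.HenselLib.HenselizationLocal

set_option autoImplicit false
universe u
open CAlg

namespace Groth.Agent.S2046

/-- If `R` is a Noetherian local G-ring then its strict henselization is a G-ring. -/
theorem result {R S : Type u} [CommRing R] [IsLocalRing R] [IsNoetherianRing R]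
    (hR : CAlg.IsGRing R) [CommRing S] [IsLocalRing S] [Algebra R S] [IsLocalHom (algebraMap R S)]
    [Hensel.IsStrictHenselization R S] : CAlg.IsGRing S := by
  have h := Groth.Agent.HenselLib.exists_colim_of_isStrictHenselization R S
  have : IsNoetherianRing S := h.isNoetherianRing
    fun r hr => Groth.Agent.HenselLib.algebraMap_eq_zero_of_tower hr
  have : Module.FaithfullyFlat R S := Groth.Agent.S0539.result R S
  have hfe : Algebra.FormallyEtale R S := Groth.Agent.S1962.result R S
  have hfs : CAlgX.IsAdicFormallySmooth R S (IsLocalRing.maximalIdeal S) :=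
    fun E _ _ N hN ψ _ => Algebra.FormallySmooth.comp_surjective R S N hN ψ
  let Rh := AdicCompletion (IsLocalRing.maximalIdeal R) R
  let Sh := AdicCompletion (IsLocalRing.maximalIdeal S) S
  obtain ⟨alg, hT, hreg⟩ := Groth.Agent.GRing17.exists_regular_completionMap hfs
  let _ := alg
  have := Groth.Agent.CohenStruct.isNoetherianRing_completion S
  have hR' : CAlg.IsRegularHom R Rh := by
    let m := IsLocalRing.maximalIdeal R
    let e : R ≃ₐ[R] Localization.AtPrime m := IsLocalization.atUnits R m.primeCompl fun x hx => by
      simp only [m, Ideal.mem_primeCompl_iff, IsLocalRing.mem_maximalIdeal, mem_nonunits_iff, not_not] at hx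
      exact hx
    have h1 : CAlg.IsRegularHom R (EGA4.Cpl R) :=
      Groth.Agent.GRing17.regular_cpl_congr (S := R) e (hR.2 m)
    exact h1
  have hRS : CAlg.IsRegularHom R Sh := Groth.Agent.S9294.result R Rh Sh hR' hreg fun q _ => by
    have := Algebra.EssFiniteType.isNoetherianRing Sh (TensorProduct R Sh q.ResidueField)
    exact isNoetherianRing_of_ringEquiv _ (Algebra.TensorProduct.comm R Sh q.ResidueField).toRingEquiv
  have : Module.Flat S Sh := AdicCompletion.flat_of_isNoetherian _
  have hS : CAlg.IsRegularHom S Sh :=
    Groth.Agent.GRing17.isRegularHom_of_indEtale (Groth.Agent.S12237.result R S) hRS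
  refine Groth.Agent.S2047.result.2 fun n hn => ?_
  have hn' : n = IsLocalRing.maximalIdeal S := IsLocalRing.eq_maximalIdeal hn
  let e : S ≃ₐ[S] Localization.AtPrime n := IsLocalization.atUnits S n.primeCompl fun x hx => by
    subst hn'
    simp only [Ideal.mem_primeCompl_iff, IsLocalRing.mem_maximalIdeal, mem_nonunits_iff, not_not] at hx
    exact hx
  exact Groth.Agent.GRing17.regular_cpl_congr (S := S) e.symm hS

end Groth.Agent.S2046
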