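import Groth.Statements.S2050
import Groth.Agent.FlatDescent.Descent
import Groth.Agent.FlatDescent.FlatOn
-- import your own Groth.Agent.* helpers here

set_option autoImplicit false
universe u
open CAlg

namespace Groth.Agent.S2050

section Aux

variable {R : Type u} [CommRing R] {n : ℕ} {M : Type u} [AddCommGroup M] [Module (MvPolynomial (Fin n) R) M]
  [Module R M] [IsScalarTower R (MvPolynomial (Fin n) R) M]

local notation "P" => MvPolynomial (Fin n) R

theorem mk_eq_zero' {A : Type*} [CommRing A] {N : Type*} [AddCommGroup N] [Module A N] {S : Submonoid A} {y : N} {u : S} :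
    LocalizedModule.mk y u = 0 ↔ ∃ t : S, t • y = 0 := by
  rw [← LocalizedModule.zero_mk (1 : S), LocalizedModule.mk_eq]
  simp

theorem exists_fg_le {m : ℕ} (π : (Fin m → P) →ₗ[P] M) (hπ : Function.Surjective π) (p : Ideal R) [p.IsPrime]
    (h : Module.FinitePresentation (Localization (Algebra.algebraMapSubmonoid P p.primeCompl))
      (LocalizedModule (Algebra.algebraMapSubmonoid P p.primeCompl) M)) :
    ∃ K' : Submodule P (Fin m → P), K'.FG ∧ K' ≤ LinearMap.ker π ∧
      ∀ x ∈ LinearMap.ker π, ∃ c : R, c ∉ p ∧ c • x ∈ K' := by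
  classical
  set U := Algebra.algebraMapSubmonoid P p.primeCompl
  let f := LocalizedModule.map U π
  have hf : Function.Surjective f := LocalizedModule.map_surjective U π hπ
  haveI := h
  have hfg : (LinearMap.ker f).FG := Module.FinitePresentation.fg_ker f hf
  obtain ⟨G, hG⟩ := hfg
  have hgen : ∀ z : G, ∃ y ∈ LinearMap.ker π, ∃ u : U, LocalizedModule.mk y u = (z : LocalizedModule U (Fin m → P)) := by
    rintro ⟨z, hz⟩
    have hz' : z ∈ LinearMap.ker f := hG ▸ Submodule.subset_span hz
    induction z using LocalizedModule.induction_on with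
    | h y u =>
      rw [LinearMap.mem_ker, LocalizedModule.map_mk, mk_eq_zero'] at hz'
      obtain ⟨t, ht⟩ := hz'
      refine ⟨(t : P) • y, by rw [LinearMap.mem_ker, map_smul]; exact ht, t * u, ?_⟩
      exact LocalizedModule.mk_cancel_common_left t u y
  choose y hy u hu using hgen
  refine ⟨Submodule.span P (Set.range y), Submodule.fg_span (Set.finite_range y),
    Submodule.span_le.2 (by rintro _ ⟨z, rfl⟩; exact hy z), fun x hx => ?_⟩
  have hle : LinearMap.ker f ≤ (Submodule.span P (Set.range y)).localized U := by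
    rw [← hG, Submodule.span_le]
    intro z hz
    refine ⟨y ⟨z, hz⟩, Submodule.subset_span ⟨_, rfl⟩, u ⟨z, hz⟩, ?_⟩
    rw [← IsLocalizedModule.mk_eq_mk']
    exact hu ⟨z, hz⟩
  have hx' : LocalizedModule.mk x (1 : U) ∈ LinearMap.ker f := by
    rw [LinearMap.mem_ker, LocalizedModule.map_mk, LinearMap.mem_ker.1 hx, LocalizedModule.zero_mk]
  obtain ⟨k, hk, v, hv⟩ := hle hx'
  rw [← IsLocalizedModule.mk_eq_mk', LocalizedModule.mk_eq] at hv
  obtain ⟨⟨_, c, hc, rfl⟩, hcv⟩ := hv
  obtain ⟨d, hd, hdv⟩ := v.2
  refine ⟨c * d, fun hmem => ((‹p.IsPrime›.mem_or_mem hmem).elim hc hd), ?_⟩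
  have : (c * d) • x = algebraMap R P c • k := by
    rw [← algebraMap_smul P (c * d) x, map_mul, mul_smul]
    simp only [Submonoid.smul_def, OneMemClass.coe_one, one_smul, ← hdv] at hcv
    exact hcv.symm
  rw [this]
  exact Submodule.smul_mem _ _ hk

theorem flatAt_of_flat [Module.Flat R M] (Q : Ideal P) [Q.IsPrime] : FlatCA.FlatAt R Q M := by
  rw [← Groth.FlatDescent.flatOn_primeCompl_iff]
  intro I x hx
  refine ⟨1, Submonoid.one_mem _, ?_⟩
  rw [one_smul]
  have h := Module.Flat.iff_lTensor_injective'.1 ‹Module.Flat R M› I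
  have hinj : Function.Injective (Groth.FlatDescent.mulI P M I) := by
    intro a b hab
    apply h
    apply (TensorProduct.rid R M).injective
    have key : ∀ z : TensorProduct R M I, TensorProduct.rid R M (I.subtype.lTensor M z) = Groth.FlatDescent.mulI P M I z := by
      intro z
      induction z using TensorProduct.induction_on with
      | zero => simp
      | tmul a b => simp [Groth.FlatDescent.mulI]
      | add a b ha hb => simp only [map_add, ha, hb]
    rw [key, key, hab]
  exact hinj (hx.trans (map_zero _).symm)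

end Aux

/-- Let `S = R[x_1, …, x_n]` and `M` a finite `S`-module, flat over `R`, such that for every prime `𝔭`
of `R` the localization `M_𝔭` is finitely presented over `S_𝔭`. If `R` embeds into the product of
finitely many of its local rings, then `M` is finitely presented over `S`. -/
theorem result {R : Type u} [CommRing R] (n : ℕ)
    {M : Type u} [AddCommGroup M] [Module (MvPolynomial (Fin n) R) M] [Module R M]
    [IsScalarTower R (MvPolynomial (Fin n) R) M] [Module.Finite (MvPolynomial (Fin n) R) M] [Module.Flat R M]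
    (s : Finset (PrimeSpectrum R))
    (hs : Function.Injective fun r : R => fun p : s => algebraMap R (Localization.AtPrime p.1.asIdeal) r)
    (hloc : ∀ (p : Ideal R) [p.IsPrime],
      Module.FinitePresentation
        (Localization (Algebra.algebraMapSubmonoid (MvPolynomial (Fin n) R) p.primeCompl))
        (LocalizedModule (Algebra.algebraMapSubmonoid (MvPolynomial (Fin n) R) p.primeCompl) M)) :
    Module.FinitePresentation (MvPolynomial (Fin n) R) M := by
  classical
  let P := MvPolynomial (Fin n) R
  obtain ⟨m, π, hπ⟩ := Module.Finite.exists_fin' P M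
  choose K₀ hK₀fg hK₀le hK₀ using fun p : Ideal R => fun hp : p.IsPrime =>
    haveI := hp; exists_fg_le π hπ p (hloc p)
  let K' : Submodule P (Fin m → P) := s.sup fun p => K₀ p.asIdeal p.2
  have hK'fg : K'.FG := Submodule.fg_finset_sup _ _ fun p _ => hK₀fg _ _
  have hK'le : K' ≤ LinearMap.ker π := Finset.sup_le fun p _ => hK₀le _ _
  have hK's : ∀ x ∈ LinearMap.ker π, ∀ p : s, ∃ c : R, c ∉ p.1.asIdeal ∧ c • x ∈ K' := fun x hx p => by
    obtain ⟨c, hc, hcx⟩ := hK₀ _ p.1.2 x hx
    exact ⟨c, hc, (Finset.le_sup (f := fun p : PrimeSpectrum R => K₀ p.asIdeal p.2) p.2) hcx⟩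
  have hlocal : ∀ Q : PrimeSpectrum P, ∃ g : P, g ∉ Q.asIdeal ∧ ∃ K'' : Submodule P (Fin m → P), K''.FG ∧
      K'' ≤ LinearMap.ker π ∧ ∀ Q' : PrimeSpectrum P, g ∉ Q'.asIdeal → ∀ x ∈ LinearMap.ker π,
        ∃ t : P, t ∉ Q'.asIdeal ∧ t • x ∈ K'' := by
    intro Q
    set p := Q.asIdeal.comap (algebraMap R P)
    let K'' := K' ⊔ K₀ p inferInstance
    have hfg : K''.FG := hK'fg.sup (hK₀fg _ _)
    have hle : K'' ≤ LinearMap.ker π := sup_le hK'le (hK₀le _ _)
    let φ : ((Fin m → P) ⧸ K'') →ₗ[P] M := K''.liftQ π hle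
    have hbij : Function.Bijective (LocalizedModule.map Q.asIdeal.primeCompl φ) := by
      refine ⟨?_, LocalizedModule.map_surjective _ φ fun y => ?_⟩
      · rw [injective_iff_map_eq_zero]
        intro z hz
        induction z using LocalizedModule.induction_on with
        | h y u =>
          obtain ⟨x, rfl⟩ := K''.mkQ_surjective y
          rw [LocalizedModule.map_mk, mk_eq_zero'] at hz
          obtain ⟨t, ht⟩ := hz
          obtain ⟨c, hc, hcx⟩ := hK₀ p inferInstance ((t : P) • x) (by
            rw [LinearMap.mem_ker, map_smul]; exact ht)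
          refine mk_eq_zero'.2 ⟨⟨algebraMap R P c, hc⟩ * t, ?_⟩
          rw [Submonoid.smul_def, ← map_smul, Submodule.mkQ_apply, Submodule.Quotient.mk_eq_zero, Submonoid.coe_mul,
            mul_smul, algebraMap_smul]
          exact Submodule.mem_sup_right hcx
      · obtain ⟨x, rfl⟩ := hπ y
        exact ⟨Submodule.Quotient.mk x, rfl⟩
    have hflat : FlatCA.FlatAt R Q.asIdeal ((Fin m → P) ⧸ K'') := by
      haveI : Module.Flat R (LocalizedModule Q.asIdeal.primeCompl M) := flatAt_of_flat (M := M) Q.asIdeal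
      exact Module.Flat.of_linearEquiv ((LinearEquiv.ofBijective _ hbij).restrictScalars R)
    obtain ⟨_, ⟨g, rfl⟩, hgQ, hgsub⟩ := PrimeSpectrum.isTopologicalBasis_basic_opens.exists_subset_of_mem_open
      (show Q ∈ {q : PrimeSpectrum P | FlatCA.FlatAt R q.asIdeal ((Fin m → P) ⧸ K'')} from hflat)
      (Groth.FlatDescent.isOpen_flatLocus (R := R) hfg)
    refine ⟨g, hgQ, K'', hfg, hle, fun Q' hQ' x hx => ?_⟩
    haveI hflat' : Module.Flat R (LocalizedModule Q'.asIdeal.primeCompl ((Fin m → P) ⧸ K'')) := hgsub hQ'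
    set L := LocalizedModule Q'.asIdeal.primeCompl ((Fin m → P) ⧸ K'')
    set z : L := LocalizedModule.mkLinearMap _ _ (K''.mkQ x) with hz
    have hz0 : z = 0 := by
      let j : R →ₗ[R] (∀ p : s, Localization.AtPrime p.1.asIdeal) :=
        LinearMap.pi fun p => Algebra.linearMap R _
      have hj : Function.Injective (j.lTensor L) := Module.Flat.lTensor_preserves_injective_linearMap j hs
      apply (TensorProduct.rid R L).symm.injective
      apply hj
      apply (TensorProduct.piRight R R L fun p : s => Localization.AtPrime p.1.asIdeal).injective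
      funext p
      obtain ⟨c, hc, hcx⟩ := hK's x hx p
      have hcz : c • z = 0 := by
        rw [hz, ← algebraMap_smul P c (LocalizedModule.mkLinearMap _ _ (K''.mkQ x)), ← map_smul, algebraMap_smul,
          ← LinearMap.map_smul_of_tower, Submodule.mkQ_apply, (Submodule.Quotient.mk_eq_zero _).2 (Submodule.mem_sup_left hcx),
          map_zero]
      obtain ⟨w, hw⟩ := IsLocalization.map_units (Localization.AtPrime p.1.asIdeal) (⟨c, hc⟩ : p.1.asIdeal.primeCompl)
      simp only [TensorProduct.rid_symm_apply, LinearMap.lTensor_tmul, TensorProduct.piRight_apply,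
        TensorProduct.piRightHom_tmul, map_zero, Pi.zero_apply]
      have e : j (1 : R) p = c • (↑w⁻¹ : Localization.AtPrime p.1.asIdeal) := by
        rw [Algebra.smul_def, ← hw, Units.mul_inv]
        simp [j]
      rw [e, TensorProduct.tmul_smul, TensorProduct.smul_tmul', hcz, TensorProduct.zero_tmul]
    rw [hz, LocalizedModule.mkLinearMap_apply, mk_eq_zero'] at hz0
    obtain ⟨t, ht⟩ := hz0
    refine ⟨t, t.2, ?_⟩
    rw [Submonoid.smul_def, ← map_smul, Submodule.mkQ_apply, Submodule.Quotient.mk_eq_zero] at ht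
    exact ht
  choose g hg K'' hKfg hKle hK using hlocal
  have hspan : Ideal.span (Set.range g) = ⊤ := by
    by_contra hne
    obtain ⟨Q, hQ, hQle⟩ := Ideal.exists_le_maximal _ hne
    exact hg ⟨Q, hQ.isPrime⟩ (hQle (Ideal.subset_span ⟨_, rfl⟩))
  obtain ⟨T, hT, hT1⟩ := Submodule.mem_span_finite_of_mem_span ((Ideal.eq_top_iff_one _).1 hspan)
  choose Qof hQof using fun t : T => hT t.2
  have hker : LinearMap.ker π = Finset.univ.sup fun t : T => K'' (Qof t) := by
    refine le_antisymm (fun x hx => ?_) (Finset.sup_le fun t _ => hKle _)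
    set Kt := Finset.univ.sup fun t : T => K'' (Qof t)
    by_contra hne
    obtain ⟨Q, hQ, hQle⟩ := Ideal.exists_le_maximal (Kt.colon {x}) (fun htop => hne (by
      have h1 := Submodule.mem_colon_singleton.1 ((Ideal.eq_top_iff_one _).1 htop)
      rwa [one_smul] at h1))
    obtain ⟨t, ht⟩ : ∃ t : T, (t : P) ∉ Q := by
      by_contra hall
      push_neg at hall
      exact hQ.ne_top ((Ideal.eq_top_iff_one _).2 (Submodule.span_le.2 (fun t ht => hall ⟨t, ht⟩) hT1))
    obtain ⟨a, ha, hax⟩ := hK (Qof t) ⟨Q, hQ.isPrime⟩ (by rw [hQof]; exact ht) x hx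
    exact ha (hQle (Submodule.mem_colon_singleton.2
      ((Finset.le_sup (f := fun t : T => K'' (Qof t)) (Finset.mem_univ t)) hax)))
  exact Module.finitePresentation_of_surjective π hπ (hker ▸ Submodule.fg_finset_sup _ _ fun t _ => hKfg _)

end Groth.Agent.S2050
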