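import Groth.Statements.S2052
import Groth.Agent.SHensel17.Unib

set_option autoImplicit false
universe u
open CAlg

namespace Groth.Agent.S2052

/-- A local ring `A` is unibranch (its reduction is a domain with local integral closure) if and only if
the henselization of `A` has a unique minimal prime ideal. -/
theorem result {A Ah : Type u} [CommRing A] [IsLocalRing A]
    [CommRing Ah] [IsLocalRing Ah] [Algebra A Ah] [IsLocalHom (algebraMap A Ah)]
    [Hensel.IsHenselization A Ah] :
    CAlg2.IsUnibranch A ↔ CAlgX.HasUniqueMinimalPrime Ah := by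
  rw [Groth.Agent.SHensel17.unibranch_iff_red A Ah]
  constructor
  · intro h
    refine ⟨nilradical Ah, ⟨⟨h, bot_le⟩, fun P hP _ => nilradical_le_prime P (H := hP.1)⟩, fun P hP => ?_⟩
    exact le_antisymm (hP.2 ⟨h, bot_le⟩ (nilradical_le_prime P (H := hP.1.1))) (nilradical_le_prime P (H := hP.1.1))
  · rintro ⟨P, hP, huniq⟩
    have : nilradical Ah = P := by
      rw [nilradical, ← Ideal.sInf_minimalPrimes]
      exact le_antisymm (sInf_le hP) (le_sInf fun Q hQ => (huniq Q hQ).ge)
    exact this ▸ hP.1.1

end Groth.Agent.S2052
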