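import Groth.Statements.S2054
import Groth.Agent.DepthLib.Reflexive
import Groth.Agent.DepthLib.SerreNormal
import Mathlib.LinearAlgebra.FreeModule.PID

set_option autoImplicit false
universe u
open CAlg

namespace Groth.Agent.S2054

theorem isPrincipalIdealRing_of_dim_le_one {A : Type u} [CommRing A] [IsDomain A] [IsRegularLocalRing A]
    (hdim : ringKrullDim A ≤ 1) : IsPrincipalIdealRing A := by
  refine ((tfae_of_isNoetherianRing_of_isLocalRing_of_isDomain A).out 4 0 rfl rfl).mp ?_
  rw [← IsRegularLocalRing.spanFinrank_maximalIdeal] at hdim
  have hle : (IsLocalRing.maximalIdeal A).spanFinrank ≤ 1 := by exact_mod_cast hdim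
  rcases Nat.le_one_iff_eq_zero_or_eq_one.mp hle with h0 | h1
  · rw [(Submodule.spanFinrank_eq_zero_iff_eq_bot (IsNoetherian.noetherian _)).mp h0]
    exact bot_isPrincipal
  · exact ((Submodule.spanFinrank_eq_one_iff _).mp h1).1


/-- Let `R` be a Noetherian normal domain and `M` a finite `R`-module. Then `M` is reflexive (the map to
its double dual is bijective) if and only if `M` is torsion free and satisfies Serre's condition
`(S_2)`. -/
theorem result {R M : Type u} [CommRing R] [IsDomain R] [IsNoetherianRing R]
    [IsIntegrallyClosed R] [AddCommGroup M] [Module R M] [Module.Finite R M] :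
    Module.IsReflexive R M ↔ NoZeroSMulDivisors R M ∧ LocCoh.HasSk 2 R M := by
  have hR : LocCoh.HasSk 2 R R := (DepthLib.hasRk_one_hasSk_two_of_normal fun p hp =>
    ⟨inferInstance, isIntegrallyClosed_of_isLocalization _ p.primeCompl p.primeCompl_le_nonZeroDivisors⟩).2
  constructor
  · intro hr
    refine ⟨⟨fun {r x} h => ?_⟩, DepthLib.hasSk_congr (Module.evalEquiv R M).symm
      (DepthLib.hasSk_linearMap le_rfl hR)⟩
    by_cases hr0 : r = 0
    · exact Or.inl hr0
    refine Or.inr ((Module.bijective_dual_eval R M).1 (LinearMap.ext fun φ => ?_))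
    have := congrArg φ h
    rw [map_smul, map_zero, smul_eq_mul] at this
    simpa [Module.Dual.eval_apply] using (mul_eq_zero.mp this).resolve_left hr0
  · rintro ⟨hT, hM⟩
    haveI : Module.IsTorsionFree R M := ⟨fun r hr x y h => by
      rcases hT.eq_zero_or_eq_zero_of_smul_eq_zero (c := r) (x := x - y) (by rw [smul_sub, sub_eq_zero]; exact h) with h0 | h0
      · exact absurd h0 hr.ne_zero
      · exact sub_eq_zero.mp h0⟩
    refine DepthLib.isReflexive_of_forall_localization fun p _ => ?_
    haveI := isIntegrallyClosed_of_isLocalization (Localization.AtPrime p) p.primeCompl p.primeCompl_le_nonZeroDivisors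
    haveI : Module.IsTorsionFree (Localization.AtPrime p) (LocalizedModule p.primeCompl M) :=
      IsLocalizedModule.isTorsionFree (LocalizedModule.mkLinearMap p.primeCompl M) p.primeCompl
    by_cases hdim : ringKrullDim (Localization.AtPrime p) ≤ 1
    · haveI := DepthLib.isRegularLocalRing_of_isIntegrallyClosed hdim
      haveI : IsPrincipalIdealRing (Localization.AtPrime p) := isPrincipalIdealRing_of_dim_le_one hdim
      haveI : Module.Free (Localization.AtPrime p) (LocalizedModule p.primeCompl M) :=
        Module.free_of_finite_type_torsion_free'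
      exact Or.inl inferInstance
    · rw [IsLocalization.AtPrime.ringKrullDim_eq_height p, not_le] at hdim
      have h2 : ((2 : ℕ) : ℕ∞) ≤ p.height := by
        rw [show ((2 : ℕ) : ℕ∞) = 1 + 1 by norm_num]
        exact Order.add_one_le_of_lt (WithBot.coe_lt_coe.mp hdim)
      have hdep : 2 ≤ LocCoh.depth (Localization.AtPrime p) (LocalizedModule p.primeCompl M) := by
        rcases subsingleton_or_nontrivial (LocalizedModule p.primeCompl M) with hs | hn
        · rw [DepthLib.depth_eq_top_of_subsingleton]; exact le_top
        · have h := hM p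
          rw [show Module.supportDim (Localization.AtPrime p) (LocalizedModule p.primeCompl M) =
            ringKrullDim (Localization.AtPrime p) from ?_, IsLocalization.AtPrime.ringKrullDim_eq_height p,
            min_eq_left (show ((2 : ℕ) : WithBot ℕ∞) ≤ p.height from WithBot.coe_le_coe.mpr h2)] at h
          · exact WithBot.coe_le_coe.mp h
          rw [Module.supportDim_eq_ringKrullDim_quotient_annihilator]
          refine ringKrullDim_eq_of_ringEquiv ((Ideal.quotEquivOfEq ?_).trans (RingEquiv.quotientBot _))
          rw [eq_bot_iff]
          intro a ha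
          obtain ⟨x, hx⟩ := exists_ne (0 : LocalizedModule p.primeCompl M)
          exact (smul_eq_zero.mp (Module.mem_annihilator.mp ha x)).resolve_right hx
      refine Or.inr ⟨hdep, ?_⟩
      have h := hR p
      rw [DepthLib.supportDim_localization_self, DepthLib.depth_localization_self,
        min_eq_left (show ((2 : ℕ) : WithBot ℕ∞) ≤ p.height from WithBot.coe_le_coe.mpr h2)] at h
      exact le_trans one_le_two (WithBot.coe_le_coe.mp h)

end Groth.Agent.S2054
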