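import Groth.Statements.S7041
import Mathlib
-- import your own Groth.Agent.* helpers here

set_option autoImplicit false
universe u
open TensorProduct
open LocCoh

namespace Groth.Agent.S7041

/-- Let R → R' be a homomorphism of commutative rings and I an ideal of R such that the induced map
R/I^n → R'/I^n R' is bijective for every n > 0. Then for every R-module M in which every element is
killed by a power of I, the map M → R' ⊗_R M sending m to 1 ⊗ m is bijective. -/
theorem result {R R' : Type u} [CommRing R] [CommRing R'] [Algebra R R']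
    (I : Ideal R)
    (hq : ∀ n : ℕ, 0 < n → Function.Bijective
      (Ideal.quotientMap (Ideal.map (algebraMap R R') (I ^ n)) (algebraMap R R') Ideal.le_comap_map))
    (M : Type u) [AddCommGroup M] [Module R M] (hM : LocCoh.IsPowerTorsion I M) :
    Function.Bijective (fun m : M => (1 : R') ⊗ₜ[R] m) := by
  classical
  have hk : ∀ m : M, ∃ n : ℕ, ∀ a ∈ I ^ (n + 1), a • m = 0 := fun m => by
    obtain ⟨n, hn⟩ := hM m
    exact ⟨n, fun a ha => hn a (Ideal.pow_le_pow_right (Nat.le_succ n) ha)⟩
  have hex : ∀ (n : ℕ) (r : R'), ∃ a : R, r - algebraMap R R' a ∈ (I ^ (n + 1)).map (algebraMap R R') := by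
    intro n r
    obtain ⟨q, hq'⟩ := (hq (n + 1) n.succ_pos).2 (Ideal.Quotient.mk _ r)
    obtain ⟨a, rfl⟩ := Ideal.Quotient.mk_surjective q
    rw [Ideal.quotientMap_mk, Ideal.Quotient.eq] at hq'
    exact ⟨a, by rw [← neg_sub]; exact neg_mem hq'⟩
  have hker : ∀ (n : ℕ) (a : R), algebraMap R R' a ∈ (I ^ (n + 1)).map (algebraMap R R') → a ∈ I ^ (n + 1) := by
    intro n a ha
    rw [← Ideal.Quotient.eq_zero_iff_mem]
    apply (hq (n + 1) n.succ_pos).1
    rw [Ideal.quotientMap_mk, map_zero, Ideal.Quotient.eq_zero_iff_mem.mpr ha]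
  choose ord hord using hk
  choose lift hlift using hex
  let v : R' → M → M := fun r m => lift (ord m) r • m
  have hv : ∀ r m (n : ℕ) (a : R), (∀ c ∈ I ^ (n + 1), c • m = 0) →
      r - algebraMap R R' a ∈ (I ^ (n + 1)).map (algebraMap R R') → v r m = a • m := by
    intro r m n a hn ha
    obtain ⟨k, hk, hkm⟩ : ∃ k, (k ≤ n ∧ k ≤ ord m) ∧ ∀ c ∈ I ^ (k + 1), c • m = 0 := by
      rcases le_total n (ord m) with h | h
      exacts [⟨n, ⟨le_rfl, h⟩, hn⟩, ⟨ord m, ⟨h, le_rfl⟩, hord m⟩]
    have h1 := Ideal.map_mono (Ideal.pow_le_pow_right (Nat.succ_le_succ hk.1)) ha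
    have h2 := Ideal.map_mono (Ideal.pow_le_pow_right (Nat.succ_le_succ hk.2)) (hlift (ord m) r)
    have h3 : lift (ord m) r - a ∈ I ^ (k + 1) := hker k _ (by
      rw [map_sub]
      convert sub_mem h1 h2 using 1
      ring)
    exact sub_eq_zero.mp (by rw [← sub_smul]; exact hkm _ h3)
  have hmax : ∀ {m : M} {n N : ℕ}, n ≤ N → (∀ c ∈ I ^ (n + 1), c • m = 0) →
      ∀ c ∈ I ^ (N + 1), c • m = 0 := fun h hn c hc =>
    hn c (Ideal.pow_le_pow_right (Nat.succ_le_succ h) hc)
  let B : R' →+ M →+ M := AddMonoidHom.mk' (fun r => AddMonoidHom.mk' (v r) fun m m' => by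
      let N := max (ord m) (ord m')
      have h1 := hmax (le_max_left _ (ord m')) (hord m)
      have h2 := hmax (le_max_right (ord m) _) (hord m')
      rw [hv r (m + m') N _ (fun c hc => by rw [smul_add, h1 c hc, h2 c hc, add_zero]) (hlift N r),
        hv r m N _ h1 (hlift N r), hv r m' N _ h2 (hlift N r), smul_add])
    fun r r' => AddMonoidHom.ext fun m => by
      show v (r + r') m = v r m + v r' m
      rw [hv (r + r') m (ord m) (lift (ord m) r + lift (ord m) r') (hord m) ?_, add_smul]
      rw [map_add, add_sub_add_comm]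
      exact add_mem (hlift _ r) (hlift _ r')
  let ψ : R' ⊗[R] M →+ M := TensorProduct.liftAddHom B fun c r m => by
    show v (c • r) m = v r (c • m)
    have h1 : ∀ d ∈ I ^ (ord m + 1), d • c • m = 0 := fun d hd => by
      rw [smul_comm, hord m d hd, smul_zero]
    rw [hv r (c • m) (ord m) _ h1 (hlift _ r),
      hv (c • r) m (ord m) (c * lift (ord m) r) (hord m) ?_, mul_comm, mul_smul]
    rw [map_mul, Algebra.smul_def, ← mul_sub]
    exact Ideal.mul_mem_left _ _ (hlift _ r)
  refine ⟨fun m m' h => ?_, fun z => ⟨ψ z, ?_⟩⟩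
  · have h1 : ∀ m, v 1 m = m := fun m => by
      rw [hv 1 m (ord m) 1 (hord m) (by simp), one_smul]
    have := congrArg ψ h
    simpa [ψ, B, h1] using this
  · induction z with
    | zero => simp
    | add x y hx hy => simp [map_add, tmul_add, hx, hy]
    | tmul r m =>
      show (1 : R') ⊗ₜ[R] (lift (ord m) r • m) = r ⊗ₜ m
      rw [TensorProduct.tmul_smul, TensorProduct.smul_tmul', ← Algebra.algebraMap_eq_smul_one,
        ← sub_eq_zero, ← TensorProduct.sub_tmul]
      have hmem := hlift (ord m) r
      rw [Ideal.map, Ideal.span] at hmem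
      rw [← neg_sub, TensorProduct.neg_tmul, neg_eq_zero]
      generalize r - algebraMap R R' (lift (ord m) r) = w at hmem ⊢
      induction hmem using Submodule.closure_induction with
      | zero => exact TensorProduct.zero_tmul _ _
      | add a b _ _ ha hb => rw [TensorProduct.add_tmul, ha, hb, add_zero]
      | smul_mem s a ha =>
        obtain ⟨c, hc, rfl⟩ := ha
        rw [smul_eq_mul, mul_comm, ← Algebra.smul_def, TensorProduct.smul_tmul, hord m c hc,
          TensorProduct.tmul_zero]

end Groth.Agent.S7041
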