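import Groth.Statements.S2055
import Groth.Agent.S7041

set_option autoImplicit false
universe u
open CAlg

namespace Groth.Agent.S2055

open TensorProduct

variable {R S : Type u} [CommRing R] [CommRing S] [Algebra R S] [Module.Flat R S] {I : Ideal R}

omit [Module.Flat R S] in
lemma exists_approx (hq : Function.Bijective (algebraMap (R ⧸ I) (S ⧸ I.map (algebraMap R S))))
    (n : ℕ) (s : S) : ∃ a : R, s - algebraMap R S a ∈ (I ^ n).map (algebraMap R S) := by
  induction n generalizing s with
  | zero => exact ⟨0, by rw [pow_zero, Ideal.one_eq_top, Ideal.map_top]; trivial⟩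
  | succ n ih =>
    obtain ⟨a, ha⟩ := ih s
    suffices h : ∀ z ∈ (I ^ n).map (algebraMap R S), ∀ t : S, ∃ b : R,
        t * z - algebraMap R S b ∈ (I ^ (n + 1)).map (algebraMap R S) by
      obtain ⟨b, hb⟩ := h _ ha 1
      refine ⟨a + b, ?_⟩
      rw [one_mul] at hb
      rwa [map_add, ← sub_sub]
    intro z hz
    rw [Ideal.map] at hz
    induction hz using Submodule.span_induction with
    | mem z hz =>
      obtain ⟨c, hc, rfl⟩ := hz
      intro t
      obtain ⟨q, hq'⟩ := hq.2 (Ideal.Quotient.mk _ t)
      obtain ⟨b, rfl⟩ := Ideal.Quotient.mk_surjective q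
      have hb : t - algebraMap R S b ∈ I.map (algebraMap R S) := Ideal.Quotient.eq.mp hq'.symm
      refine ⟨b * c, ?_⟩
      rw [map_mul, ← sub_mul, pow_succ', Ideal.map_mul]
      exact Ideal.mul_mem_mul hb (Ideal.mem_map_of_mem _ hc)
    | zero => exact fun t => ⟨0, by simp⟩
    | add z w _ _ hz hw =>
      intro t
      obtain ⟨b, hb⟩ := hz t
      obtain ⟨b', hb'⟩ := hw t
      exact ⟨b + b', by rw [map_add, mul_add, add_sub_add_comm]; exact add_mem hb hb'⟩
    | smul r z _ hz =>
      intro t
      obtain ⟨b, hb⟩ := hz (t * r)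
      exact ⟨b, by rwa [smul_eq_mul, ← mul_assoc]⟩

omit [Module.Flat R S] in
lemma one_tmul_injective_of_killed (hq : Function.Bijective (algebraMap (R ⧸ I) (S ⧸ I.map (algebraMap R S))))
    {T : Type u} [AddCommGroup T] [Module R T] (hT : Module.IsTorsionBySet R T I) :
    Function.Injective (fun t : T => (1 : S) ⊗ₜ[R] t) := by
  letI := hT.module
  let e := RingEquiv.ofBijective _ hq
  let χ : S →+* R ⧸ I := e.symm.toRingHom.comp (Ideal.Quotient.mk _)
  have hχ : ∀ a : R, χ (algebraMap R S a) = Ideal.Quotient.mk I a := fun a => by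
    show e.symm (Ideal.Quotient.mk _ (algebraMap R S a)) = _
    rw [RingEquiv.symm_apply_eq]
    rfl
  let ψ : S ⊗[R] T →ₗ[R] T := TensorProduct.lift (LinearMap.mk₂ R (fun s t => χ s • t)
    (fun s s' t => by rw [map_add, add_smul])
    (fun c s t => by
      rw [Algebra.smul_def, map_mul, hχ, mul_smul, Module.IsTorsionBySet.mk_smul])
    (fun s t t' => smul_add _ _ _)
    (fun c s t => by
      rw [← Module.IsTorsionBySet.mk_smul hT c t, ← Module.IsTorsionBySet.mk_smul hT c (χ s • t), ← mul_smul, ← mul_smul, mul_comm]))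
  intro a b hab
  have := congrArg ψ hab
  simpa [ψ] using this

lemma quotientMap_bijective (hq : Function.Bijective (algebraMap (R ⧸ I) (S ⧸ I.map (algebraMap R S)))) (n : ℕ) :
    Function.Bijective (Ideal.quotientMap (Ideal.map (algebraMap R S) (I ^ n)) (algebraMap R S) Ideal.le_comap_map) := by
  constructor
  · rw [injective_iff_map_eq_zero]
    intro q hq'
    obtain ⟨a, rfl⟩ := Ideal.Quotient.mk_surjective q
    rw [Ideal.quotientMap_mk, Ideal.Quotient.eq_zero_iff_mem] at hq'
    rw [Ideal.Quotient.eq_zero_iff_mem]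
    revert a
    induction n with
    | zero => intro a _; simp
    | succ n ih =>
      intro a ha
      have han : a ∈ I ^ n := ih a (Ideal.map_mono (Ideal.pow_le_pow_right (Nat.le_succ n)) ha)
      let T : Submodule R (R ⧸ I ^ (n + 1)) := Submodule.map (Ideal.Quotient.mkₐ R (I ^ (n + 1))).toLinearMap (I ^ n)
      have hT : Module.IsTorsionBySet R T I := by
        rintro ⟨_, x, hx, rfl⟩ ⟨c, hc⟩
        refine Subtype.ext ?_
        show c • Ideal.Quotient.mk (I ^ (n + 1)) x = 0
        rw [Algebra.smul_def, Ideal.Quotient.algebraMap_eq, ← map_mul, Ideal.Quotient.eq_zero_iff_mem, pow_succ']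
        exact Ideal.mul_mem_mul hc hx
      let ā : T := ⟨Ideal.Quotient.mk _ a, a, han, rfl⟩
      have h0 : (1 : S) ⊗ₜ[R] ā = 0 := by
        apply Module.Flat.lTensor_preserves_injective_linearMap (M := S) T.subtype Subtype.val_injective
        rw [LinearMap.lTensor_tmul, map_zero]
        show (1 : S) ⊗ₜ[R] Ideal.Quotient.mk (I ^ (n + 1)) a = 0
        apply (Algebra.TensorProduct.quotIdealMapEquivTensorQuot S (I ^ (n + 1))).symm.injective
        have e0 := Algebra.TensorProduct.quotIdealMapEquivTensorQuot_symm_tmul S (I ^ (n + 1)) (1 : S) a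
        rw [map_zero]
        refine e0.trans ?_
        rw [Algebra.smul_def, mul_one]
        exact Ideal.Quotient.eq_zero_iff_mem.mpr ha
      have := one_tmul_injective_of_killed hq hT (a₁ := ā) (a₂ := 0) (h0.trans (tmul_zero T (1 : S)).symm)
      exact Ideal.Quotient.eq_zero_iff_mem.mp (congrArg Subtype.val this)
  · intro q
    obtain ⟨s, rfl⟩ := Ideal.Quotient.mk_surjective q
    obtain ⟨a, ha⟩ := exists_approx hq n s
    exact ⟨Ideal.Quotient.mk _ a, by rw [Ideal.quotientMap_mk]; exact (Ideal.Quotient.eq.mpr ha).symm⟩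


open TensorProduct in
/-- Let `R → S` be flat and `I ⊆ R` a finitely generated ideal with `R/I → S/IS` bijective. If one of
the `R`-modules `M`, `N` has every element killed by a power of `I`, then base change of linear maps
`Hom_R(M, N) → Hom_S(S ⊗ M, S ⊗ N)` is bijective. -/
theorem result {R S M N : Type u} [CommRing R] [CommRing S]
    [Algebra R S] [Module.Flat R S] (I : Ideal R) (hI : I.FG)
    (hq : Function.Bijective (algebraMap (R ⧸ I) (S ⧸ I.map (algebraMap R S))))
    [AddCommGroup M] [Module R M] [AddCommGroup N] [Module R N]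
    (hMN : (∀ x : M, ∃ n : ℕ, ∀ a ∈ I ^ n, a • x = 0) ∨ (∀ y : N, ∃ n : ℕ, ∀ a ∈ I ^ n, a • y = 0)) :
    Function.Bijective (fun f : M →ₗ[R] N => LinearMap.baseChange S f) := by
  classical
  have hpow := fun n (_ : 0 < n) => quotientMap_bijective hq n
  have htor : ∀ (T : Type u) [AddCommGroup T] [Module R T], LocCoh.IsPowerTorsion I T →
      Function.Bijective (fun t : T => (1 : S) ⊗ₜ[R] t) := fun T _ _ hT => S7041.result I hpow T hT
  rcases hMN with hM | hN
  · have key : ∀ n : ℕ,
        (∀ z : S ⊗[R] N, (∀ a ∈ I ^ n, a • z = 0) → ∃ y, (∀ a ∈ I ^ n, a • y = 0) ∧ (1 : S) ⊗ₜ[R] y = z) ∧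
        (∀ y : N, (∀ a ∈ I ^ n, a • y = 0) → (1 : S) ⊗ₜ[R] y = 0 → y = 0) := by
      intro n
      obtain ⟨m, g, hg⟩ := Submodule.fg_iff_exists_fin_generating_family.mp (hI.pow (n := n))
      let Γ : Submodule R N := Submodule.torsionBySet R N (I ^ n : Ideal R)
      have hΓ : ∀ y, y ∈ Γ ↔ ∀ a ∈ I ^ n, a • y = 0 := fun y => by
        rw [Submodule.mem_torsionBySet_iff]
        exact ⟨fun h a ha => h ⟨a, ha⟩, fun h a => h a a.2⟩
      let D : N →ₗ[R] (Fin m → N) := LinearMap.pi fun j => LinearMap.lsmul R N (g j)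
      have hexact : Function.Exact Γ.subtype D := by
        intro y
        constructor
        · intro hy
          refine ⟨⟨y, (hΓ y).mpr fun a ha => ?_⟩, rfl⟩
          rw [← hg] at ha
          induction ha using Submodule.span_induction with
          | mem a ha => obtain ⟨j, rfl⟩ := ha; exact congrFun hy j
          | zero => exact zero_smul _ _
          | add a b _ _ ha hb => rw [add_smul, ha, hb, add_zero]
          | smul r a _ ha => rw [smul_eq_mul, mul_smul, ha, smul_zero]
        · rintro ⟨⟨y, hy⟩, rfl⟩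
          funext j
          exact (hΓ y).mp hy _ (hg ▸ Submodule.subset_span ⟨j, rfl⟩)
      have hΓtor : LocCoh.IsPowerTorsion I Γ :=
        fun y => ⟨n, fun a ha => Subtype.ext ((hΓ y).mp y.2 a ha)⟩
      refine ⟨fun z hz => ?_, fun y hy hy0 => ?_⟩
      · have hz0 : D.lTensor S z = 0 := by
          apply (TensorProduct.piRight R R S (fun _ : Fin m => N)).injective
          rw [map_zero]
          funext j
          have hgen : ∀ w, TensorProduct.piRight R R S (fun _ : Fin m => N) (D.lTensor S w) j = g j • w := by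
            intro w
            induction w with
            | zero => simp
            | tmul s x => simp [D, TensorProduct.piRight_apply, TensorProduct.tmul_smul]
            | add a b ha hb => rw [map_add, map_add, Pi.add_apply, ha, hb, smul_add]
          rw [hgen]
          exact hz _ (hg ▸ Submodule.subset_span ⟨j, rfl⟩)
        obtain ⟨w, rfl⟩ := (Module.Flat.lTensor_exact S hexact z).mp hz0
        obtain ⟨y, rfl⟩ := (htor Γ hΓtor).2 w
        exact ⟨y, (hΓ y).mp y.2, by simp⟩
      · have : (1 : S) ⊗ₜ[R] (⟨y, (hΓ y).mpr hy⟩ : Γ) = 0 := by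
          apply Module.Flat.lTensor_preserves_injective_linearMap (M := S) Γ.subtype Subtype.val_injective
          simpa using hy0
        exact congrArg Subtype.val ((htor Γ hΓtor).1 (a₁ := ⟨y, (hΓ y).mpr hy⟩) (a₂ := 0)
          (this.trans (tmul_zero Γ (1 : S)).symm))
    constructor
    · intro f g hfg
      ext x
      obtain ⟨n, hn⟩ := hM x
      refine sub_eq_zero.mp ((key n).2 _ (fun a ha => ?_) ?_)
      · rw [smul_sub, ← map_smul, ← map_smul, hn a ha, map_zero, map_zero, sub_self]
      · have := LinearMap.congr_fun hfg ((1 : S) ⊗ₜ[R] x)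
        simp only [LinearMap.baseChange_tmul] at this
        rw [tmul_sub, this, sub_self]
    · intro F
      have hex : ∀ x : M, ∃ y : N, (∃ n, ∀ a ∈ I ^ n, a • y = 0) ∧ (1 : S) ⊗ₜ[R] y = F ((1 : S) ⊗ₜ x) := by
        intro x
        obtain ⟨n, hn⟩ := hM x
        obtain ⟨y, hy, hy'⟩ := (key n).1 (F ((1 : S) ⊗ₜ x)) (fun a ha => by
          rw [← LinearMap.map_smul_of_tower, ← tmul_smul, hn a ha, tmul_zero, map_zero])
        exact ⟨y, ⟨n, hy⟩, hy'⟩
      choose f hf hf' using hex
      have huniq : ∀ y y' : N, (∃ n, ∀ a ∈ I ^ n, a • y = 0) → (∃ n, ∀ a ∈ I ^ n, a • y' = 0) →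
          (1 : S) ⊗ₜ[R] y = (1 : S) ⊗ₜ[R] y' → y = y' := by
        rintro y y' ⟨n, hn⟩ ⟨n', hn'⟩ h
        refine sub_eq_zero.mp ((key (max n n')).2 _ (fun a ha => ?_) (by rw [tmul_sub, h, sub_self]))
        rw [smul_sub, hn a (Ideal.pow_le_pow_right (le_max_left _ _) ha),
          hn' a (Ideal.pow_le_pow_right (le_max_right _ _) ha), sub_self]
      let fl : M →ₗ[R] N :=
        { toFun := f
          map_add' := fun x x' => huniq _ _ (hf _) (by
              obtain ⟨n, hn⟩ := hf x
              obtain ⟨n', hn'⟩ := hf x'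
              exact ⟨max n n', fun a ha => by
                rw [smul_add, hn a (Ideal.pow_le_pow_right (le_max_left _ _) ha),
                  hn' a (Ideal.pow_le_pow_right (le_max_right _ _) ha), add_zero]⟩)
            (by rw [hf', tmul_add, tmul_add, map_add, hf', hf'])
          map_smul' := fun c x => huniq _ _ (hf _) (by
              obtain ⟨n, hn⟩ := hf x
              exact ⟨n, fun a ha => by rw [RingHom.id_apply, smul_comm, hn a ha, smul_zero]⟩)
            (by rw [RingHom.id_apply, hf', tmul_smul, tmul_smul, LinearMap.map_smul_of_tower, hf']) }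
      refine ⟨fl, ?_⟩
      ext x
      exact hf' x
  · have hη := htor N hN
    constructor
    · intro f g hfg
      ext x
      apply hη.1
      simpa using LinearMap.congr_fun hfg ((1 : S) ⊗ₜ[R] x)
    · intro F
      let η : N ≃ₗ[R] S ⊗[R] N := LinearEquiv.ofBijective (TensorProduct.mk R S N 1) hη
      refine ⟨η.symm.toLinearMap.comp ((F.restrictScalars R).comp (TensorProduct.mk R S M 1)), ?_⟩
      ext x
      exact η.apply_symm_apply (F ((1 : S) ⊗ₜ[R] x))

end Groth.Agent.S2055
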