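import Groth.Statements.S2059
import Mathlib.RingTheory.Jacobson.Ring
import Mathlib.FieldTheory.MvRatFunc.Rank
import Mathlib.LinearAlgebra.Dimension.Constructions
import Mathlib.SetTheory.Cardinal.Arithmetic

set_option autoImplicit false
universe u
open CAlg

namespace Groth.Agent.S2059

open Cardinal in
lemma rank_le_of_adjoin_eq_top {k A : Type u} [CommRing k] [Nontrivial k] [CommRing A] [Algebra k A] (t : Set A)
    (ht : Algebra.adjoin k t = ⊤) : Module.rank k A ≤ max ℵ₀ #t := by
  have h : (Submodule.span k (Submonoid.closure t : Set A)) = ⊤ := by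
    rw [← Algebra.adjoin_eq_span, ht, Algebra.top_toSubmodule]
  rw [← rank_top k A, ← h]
  refine (rank_span_le _).trans ?_
  have hsub : (Submonoid.closure t : Set A) ⊆ Set.range (fun l : List t => (l.map (↑)).prod) := by
    intro a ha
    obtain ⟨l, hl, rfl⟩ := Submonoid.exists_list_of_mem_closure ha
    lift l to List t using hl
    exact ⟨l, rfl⟩
  exact (mk_le_mk_of_subset hsub).trans (mk_range_le.trans (mk_list_le_max _))

open Cardinal in
lemma isAlgebraic_of_adjoin_eq_top {k K : Type u} [Field k] [Field K] [Algebra k K] (t : Set K)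
    (ht : Algebra.adjoin k t = ⊤) (hk : max ℵ₀ #t < #k) : Algebra.IsAlgebraic k K := by
  refine ⟨fun x => ?_⟩
  by_contra hx
  have hx' : Transcendental k x := hx
  have h2 := hx'.linearIndependent_sub_inv.cardinal_lift_le_rank
  rw [Cardinal.lift_id, Cardinal.lift_id] at h2
  exact absurd (lt_of_le_of_lt (h2.trans (rank_le_of_adjoin_eq_top t ht)) hk) (lt_irrefl _)


/-- Let `k` be a field and `S` a `k`-algebra generated by a set of cardinality smaller than that of `k`.
Then for every maximal ideal `𝔪` of `S` the residue field `S/𝔪` is algebraic over `k`, and `S` is a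
Jacobson ring. -/
theorem result {k S : Type u} [Field k] [CommRing S] [Algebra k S]
    (s : Set S) (hs : Algebra.adjoin k s = ⊤) (hcard : Cardinal.mk s < Cardinal.mk k) :
    (∀ (m : Ideal S) [m.IsMaximal], Algebra.IsAlgebraic k (S ⧸ m)) ∧ IsJacobsonRing S := by
  classical
  by_cases hfin : s.Finite
  · haveI : Algebra.FiniteType k S := ⟨⟨hfin.toFinset, by rw [hfin.coe_toFinset, hs]⟩⟩
    refine ⟨fun m hm => ?_, isJacobsonRing_of_finiteType (A := k)⟩
    letI := Ideal.Quotient.field m
    haveI : Module.Finite k (S ⧸ m) := finite_of_finite_type_of_isJacobsonRing k (S ⧸ m)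
    exact Algebra.IsAlgebraic.of_finite k (S ⧸ m)
  have hs0 : Cardinal.aleph0 ≤ Cardinal.mk s := Cardinal.aleph0_le_mk_iff.mpr (Set.infinite_coe_iff.mpr hfin)
  have hk : max Cardinal.aleph0 (Cardinal.mk s) < Cardinal.mk k := by rwa [max_eq_right hs0]
  constructor
  · intro m hm
    letI := Ideal.Quotient.field m
    refine isAlgebraic_of_adjoin_eq_top ((Ideal.Quotient.mkₐ k m) '' s) ?_
      (lt_of_le_of_lt (max_le_max le_rfl Cardinal.mk_image_le) hk)
    rw [← AlgHom.map_adjoin, hs, Algebra.map_top]
    exact (AlgHom.range_eq_top _).mpr Ideal.Quotient.mk_surjective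
  · rw [isJacobsonRing_iff_prime_eq]
    intro P hP
    refine le_antisymm (fun x hx => ?_) Ideal.le_jacobson
    by_contra hxP
    let y := Ideal.Quotient.mk P x
    have hy : y ≠ 0 := fun h => hxP (Ideal.Quotient.eq_zero_iff_mem.mp h)
    let L := Localization.Away y
    haveI : Nontrivial L := (IsLocalization.injective L (powers_le_nonZeroDivisors_of_noZeroDivisors hy)).nontrivial
    obtain ⟨M, hM⟩ := Ideal.exists_maximal L
    letI := Ideal.Quotient.field M
    let ι : S →ₐ[k] L := (IsScalarTower.toAlgHom k (S ⧸ P) L).comp (Ideal.Quotient.mkₐ k P)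
    let t : Set L := ι '' s ∪ {IsLocalization.Away.invSelf (S := L) y}
    have ht : Algebra.adjoin k t = ⊤ := by
      rw [eq_top_iff]
      intro z _
      obtain ⟨⟨a, _, n, rfl⟩, hz⟩ := IsLocalization.surj (Submonoid.powers y) z
      obtain ⟨a, rfl⟩ := Ideal.Quotient.mk_surjective a
      have hz' : z = ι a * IsLocalization.Away.invSelf (S := L) y ^ n := by
        calc z = z * (algebraMap (S ⧸ P) L y ^ n * IsLocalization.Away.invSelf (S := L) y ^ n) := by
              rw [← mul_pow, IsLocalization.Away.mul_invSelf, one_pow, mul_one]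
          _ = ι a * IsLocalization.Away.invSelf (S := L) y ^ n := by
              rw [← mul_assoc, ← map_pow, hz]
              rfl
      rw [hz']
      refine mul_mem ?_ (pow_mem (Algebra.subset_adjoin (R := k) (Set.mem_union_right _ (Set.mem_singleton _))) n)
      have : ι a ∈ (Algebra.adjoin k s).map ι := ⟨a, by rw [hs]; trivial, rfl⟩
      rw [AlgHom.map_adjoin] at this
      exact Algebra.adjoin_mono Set.subset_union_left this
    haveI halg : Algebra.IsAlgebraic k (L ⧸ M) := by
      refine isAlgebraic_of_adjoin_eq_top ((Ideal.Quotient.mkₐ k M) '' t) ?_ (lt_of_le_of_lt ?_ hk)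
      · rw [← AlgHom.map_adjoin, ht, Algebra.map_top]
        exact (AlgHom.range_eq_top _).mpr Ideal.Quotient.mk_surjective
      · refine max_le (le_max_left _ _) (Cardinal.mk_image_le.trans ((Cardinal.mk_union_le _ _).trans ?_))
        refine (add_le_add Cardinal.mk_image_le (le_of_eq (Cardinal.mk_singleton _))).trans ?_
        rw [max_eq_right hs0, Cardinal.add_one_eq hs0]
    let φ : S →ₐ[k] L ⧸ M := (Ideal.Quotient.mkₐ k M).comp ι
    let m : Ideal S := RingHom.ker φ
    haveI hmp : m.IsPrime := RingHom.ker_isPrime φ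
    haveI : Algebra.IsIntegral k (S ⧸ m) :=
      Algebra.IsIntegral.of_injective (Ideal.kerLiftAlg φ) (Ideal.kerLiftAlg_injective φ)
    have hm : m.IsMaximal := Ideal.Quotient.maximal_of_isField m (isField_of_isIntegral_of_isField' (Field.toIsField k))
    have hPm : P ≤ m := fun a ha => by
      show Ideal.Quotient.mk M (algebraMap (S ⧸ P) L (Ideal.Quotient.mk P a)) = 0
      rw [Ideal.Quotient.eq_zero_iff_mem.mpr ha, map_zero, map_zero]
    have hxm : φ x = 0 := (Ideal.mem_sInf.mp hx) ⟨hPm, hm⟩
    exact ((IsLocalization.Away.algebraMap_isUnit (S := L) y).map (Ideal.Quotient.mk M)).ne_zero hxm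

end Groth.Agent.S2059
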