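import Groth.Statements.S9268
import Groth.Agent.PP16Lib.JacobianSplit
import Mathlib.RingTheory.Smooth.Basic
import Mathlib.RingTheory.FinitePresentation
import Mathlib.RingTheory.Etale.Basic
import Mathlib.RingTheory.Localization.Away.AdjoinRoot

set_option autoImplicit false
universe u
open CAlg

namespace Groth.Agent.S9268

/-- Suppose A is a Noetherian ring and B is a finitely generated A-algebra, and consider a prime q of B
lying over p in A. Then A → B is smooth at q (meaning some g not in q makes A → B_g smooth) exactly
when the induced map A_p → B_q is formally smooth with respect to the adic topology defined by the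
maximal ideal of B_q. -/
theorem result (A B : Type u) [CommRing A] [IsNoetherianRing A]
    [CommRing B] [Algebra A B] [Algebra.FiniteType A B] (q : Ideal B) [q.IsPrime] :
    (∃ g : B, g ∉ q ∧ Algebra.Smooth A (Localization.Away g)) ↔
      letI := (Localization.localRingHom (Ideal.comap (algebraMap A B) q) q (algebraMap A B) rfl).toAlgebra
      CAlgX.IsAdicFormallySmooth (Localization.AtPrime (Ideal.comap (algebraMap A B) q))
        (Localization.AtPrime q) (IsLocalRing.maximalIdeal (Localization.AtPrime q)) := by
  letI := (Localization.localRingHom (Ideal.comap (algebraMap A B) q) q (algebraMap A B) rfl).toAlgebra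
  let Ap := Localization.AtPrime (Ideal.comap (algebraMap A B) q)
  let Bq := Localization.AtPrime q
  haveI : IsScalarTower A Ap Bq := IsScalarTower.of_algebraMap_eq fun a => by
    show _ = Localization.localRingHom (Ideal.comap (algebraMap A B) q) q (algebraMap A B) rfl (algebraMap A Ap a)
    rw [Localization.localRingHom_to_map, ← IsScalarTower.algebraMap_apply]
  have hiff : CAlgX.IsAdicFormallySmooth Ap Bq (IsLocalRing.maximalIdeal Bq) ↔
      CAlgX.IsAdicFormallySmooth A Bq (IsLocalRing.maximalIdeal Bq) := by
    haveI : Algebra.FormallyEtale A Ap := Algebra.FormallyEtale.of_isLocalization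
      (Ideal.comap (algebraMap A B) q).primeCompl
    refine ⟨fun h => PP16Lib.adicSmooth_comp h, fun h E _ _ N hN ψ hψ => ?_⟩
    obtain ⟨k, hk⟩ := hψ
    letI : Algebra A E := ((algebraMap Ap E).comp (algebraMap A Ap)).toAlgebra
    haveI : IsScalarTower A Ap E := IsScalarTower.of_algebraMap_eq fun _ => rfl
    obtain ⟨χ, hχ⟩ := h E N hN (ψ.restrictScalars A) ⟨k, hk⟩
    have hc : χ.toRingHom.comp (algebraMap Ap Bq) = algebraMap Ap E :=
      IsLocalization.ringHom_ext (Ideal.comap (algebraMap A B) q).primeCompl (RingHom.ext fun a => by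
        show χ (algebraMap Ap Bq (algebraMap A Ap a)) = algebraMap Ap E (algebraMap A Ap a)
        rw [← IsScalarTower.algebraMap_apply A Ap Bq, χ.commutes]
        rfl)
    exact ⟨{ χ with commutes' := fun x => RingHom.congr_fun hc x }, AlgHom.ext fun x => DFunLike.congr_fun hχ x⟩
  change _ ↔ CAlgX.IsAdicFormallySmooth Ap Bq (IsLocalRing.maximalIdeal Bq)
  rw [hiff]
  constructor
  · rintro ⟨g, hg, hgs⟩
    haveI := hgs.formallySmooth
    haveI := PP16Lib.formallySmooth_atPrime_of_away (A := A) q hg
    exact fun E _ _ N hN ψ _ =>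
      ⟨Algebra.FormallySmooth.lift N ⟨2, hN⟩ ψ, Algebra.FormallySmooth.comp_lift N ⟨2, hN⟩ ψ⟩
  · intro h
    obtain ⟨n, φ, hφ⟩ := Algebra.FiniteType.iff_quotient_mvPolynomial''.mp ‹Algebra.FiniteType A B›
    letI : Algebra (MvPolynomial (Fin n) A) B := φ.toRingHom.toAlgebra
    haveI : IsScalarTower A (MvPolynomial (Fin n) A) B := IsScalarTower.of_algebraMap_eq fun x => (φ.commutes x).symm
    haveI : Module.Finite (MvPolynomial (Fin n) A) (RingHom.ker (algebraMap (MvPolynomial (Fin n) A) B)) :=
      Module.Finite.of_fg (IsNoetherian.noetherian _)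
    haveI : Module.Finite (MvPolynomial (Fin n) A) (RingHom.ker (algebraMap (MvPolynomial (Fin n) A) B)).Cotangent :=
      Module.Finite.of_surjective _ (Ideal.toCotangent_surjective _)
    obtain ⟨f, hf, h1, -⟩ := PP16Lib.exists_away_of_injective (A := A) (B := MvPolynomial (Fin n) A) hφ q
      (PP16Lib.injective_of_adicSmooth_atPrime hφ q h)
    haveI : Algebra.FinitePresentation B (Localization.Away f) := IsLocalization.Away.finitePresentation f
    haveI : Algebra.FinitePresentation A B := Algebra.FinitePresentation.of_finiteType.mp inferInstance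
    exact ⟨f, hf, ⟨h1, Algebra.FinitePresentation.trans A B (Localization.Away f)⟩⟩

end Groth.Agent.S9268
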