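import Groth.Statements.S2060
import Groth.Agent.S9268
import Groth.Agent.PP16Lib.SmallLift
import Mathlib.RingTheory.Smooth.Locus

set_option autoImplicit false
universe u
open CAlg

namespace Groth.Agent.S2060

/-- Let `R` be Noetherian, `S` of finite type over `R` and `𝔮` a prime of `S`. Then `R → S` is smooth at
`𝔮` if and only if for every surjection `B' → B` of Artinian local `R`-algebras whose kernel is
principal and killed by the maximal ideal of `B'`, every `R`-algebra map `S → B` under which the
maximal ideal pulls back to `𝔮` lifts to `B'`. -/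
theorem result {R S : Type u} [CommRing R] [IsNoetherianRing R]
    [CommRing S] [Algebra R S] [Algebra.FiniteType R S] (q : Ideal S) [q.IsPrime] :
    Algebra.IsSmoothAt R q ↔
      ∀ (B' B : Type u) [CommRing B'] [CommRing B] [IsLocalRing B'] [IsLocalRing B]
        [IsArtinianRing B'] [IsArtinianRing B] [Algebra R B'] [Algebra R B] (π : B' →ₐ[R] B),
        Function.Surjective π →
        (∃ t : B', RingHom.ker π.toRingHom = Ideal.span {t} ∧
          ∀ a ∈ IsLocalRing.maximalIdeal B', a * t = 0) →
        ∀ g : S →ₐ[R] B, (IsLocalRing.maximalIdeal B).comap g = q →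
          ∃ g' : S →ₐ[R] B', π.comp g' = g := by
  constructor
  · intro hsm B' B _ _ _ _ _ _ _ _ π hπ ⟨t, ht, htm⟩ g hg
    haveI : Algebra.FormallySmooth R (Localization.AtPrime q) := hsm
    have hunit : ∀ y : q.primeCompl, IsUnit (g (y : S)) := fun y => by
      by_contra h
      exact y.2 (hg ▸ (Ideal.mem_comap.mpr ((IsLocalRing.mem_maximalIdeal _).mpr h) : (y : S) ∈ (IsLocalRing.maximalIdeal B).comap g))
    let gq : Localization.AtPrime q →ₐ[R] B := IsLocalization.liftAlgHom (M := q.primeCompl) (f := g) hunit
    have htker : t ∈ RingHom.ker π.toRingHom := ht ▸ Ideal.mem_span_singleton_self t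
    have htmax : t ∈ IsLocalRing.maximalIdeal B' := by
      rw [IsLocalRing.mem_maximalIdeal]
      intro hu
      have h0 := hu.map π
      rw [show π t = 0 from htker] at h0
      exact not_isUnit_zero h0
    have hnil : RingHom.ker π.toRingHom ^ 2 = ⊥ := by
      rw [ht, Ideal.span_singleton_pow, pow_two, htm t htmax, Ideal.span_singleton_eq_bot]
    let ε := Ideal.quotientKerAlgEquivOfSurjective hπ
    let χ := Algebra.FormallySmooth.lift (RingHom.ker π) ⟨2, hnil⟩ (ε.symm.toAlgHom.comp gq)
    refine ⟨χ.comp (IsScalarTower.toAlgHom R S (Localization.AtPrime q)), AlgHom.ext fun x => ?_⟩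
    have h := congrArg ε (Algebra.FormallySmooth.mk_lift (RingHom.ker π) ⟨2, hnil⟩ (ε.symm.toAlgHom.comp gq)
      (algebraMap S (Localization.AtPrime q) x))
    rw [show ε ((ε.symm.toAlgHom.comp gq) (algebraMap S _ x)) = gq (algebraMap S _ x) from ε.apply_symm_apply _] at h
    refine h.trans ?_
    simp only [gq, IsLocalization.liftAlgHom_apply, IsLocalization.lift_eq]
    rfl
  · intro hlift
    let P := q.comap (algebraMap R S)
    letI := (Localization.localRingHom P q (algebraMap R S) rfl).toAlgebra
    let Rp := Localization.AtPrime P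
    let Sq := Localization.AtPrime q
    haveI : IsScalarTower R Rp Sq := IsScalarTower.of_algebraMap_eq fun a => by
      show _ = Localization.localRingHom P q (algebraMap R S) rfl (algebraMap R Rp a)
      rw [Localization.localRingHom_to_map, ← IsScalarTower.algebraMap_apply]
    haveI : IsLocalHom (algebraMap Rp Sq) := Localization.isLocalHom_localRingHom P q (algebraMap R S) rfl
    haveI : IsNoetherianRing S := Algebra.FiniteType.isNoetherianRing R S
    haveI : IsNoetherianRing Sq := IsLocalization.isNoetherianRing q.primeCompl _ inferInstance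
    have hS : PP16Lib.HasSmallLifts Rp Sq := by
      intro C _ _ _ _ _ J hJ hlen _ ψ _ _
      letI : Algebra R C := ((algebraMap Rp C).comp (algebraMap R Rp)).toAlgebra
      haveI : IsScalarTower R Rp C := IsScalarTower.of_algebraMap_eq fun _ => rfl
      haveI : IsArtinianRing (C ⧸ J) := Ideal.Quotient.mk_surjective.isArtinianRing
      haveI hsimple : IsSimpleModule C J := (Module.length_eq_one_iff).mp hlen
      haveI := IsSimpleModule.nontrivial C J
      obtain ⟨⟨t, htJ⟩, ht0⟩ := exists_ne (0 : J)
      have hspan : Function.Surjective (LinearMap.toSpanSingleton C J ⟨t, htJ⟩) :=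
        IsSimpleModule.toSpanSingleton_surjective C ht0
      have htm : ∀ a ∈ IsLocalRing.maximalIdeal C, a * t = 0 := fun a ha => by
        by_contra h
        obtain ⟨c, hc⟩ := IsSimpleModule.toSpanSingleton_surjective C
          (show (⟨a * t, J.mul_mem_left a htJ⟩ : J) ≠ 0 from fun e => h (congrArg Subtype.val e)) ⟨t, htJ⟩
        have hc' : c * (a * t) = t := congrArg Subtype.val hc
        have hu : IsUnit (1 - c * a) :=
          (IsLocalRing.isUnit_or_isUnit_one_sub_self (c * a)).resolve_left fun hu =>
            (IsLocalRing.mem_maximalIdeal _).mp (Ideal.mul_mem_left _ c ha) hu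
        have : (1 - c * a) * t = 0 := by rw [sub_mul, one_mul, mul_assoc, hc', sub_self]
        exact ht0 (Subtype.ext ((hu.mul_right_eq_zero).mp this))
      let g : S →ₐ[R] C ⧸ J := (ψ.restrictScalars R).comp (IsScalarTower.toAlgHom R S Sq)
      have hg : (IsLocalRing.maximalIdeal (C ⧸ J)).comap g = q := by
        ext x
        have h1 : ψ (algebraMap S Sq x) ∈ IsLocalRing.maximalIdeal (C ⧸ J) ↔ algebraMap S Sq x ∈ IsLocalRing.maximalIdeal Sq := by
          rw [IsLocalRing.mem_maximalIdeal, IsLocalRing.mem_maximalIdeal, mem_nonunits_iff, mem_nonunits_iff]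
          exact not_congr ⟨fun h => IsUnit.of_map ψ.toRingHom _ h, fun h => h.map ψ⟩
        rw [IsLocalization.AtPrime.to_map_mem_maximal_iff Sq q] at h1
        exact h1
      obtain ⟨g', hg'⟩ := hlift C (C ⧸ J) (Ideal.Quotient.mkₐ R J) Ideal.Quotient.mk_surjective
        ⟨t, by
          rw [show RingHom.ker (Ideal.Quotient.mkₐ R J).toRingHom = J from Ideal.mk_ker]
          refine le_antisymm (fun x hx => ?_) ((Ideal.span_singleton_le_iff_mem J).mpr htJ)
          obtain ⟨c, hc⟩ := hspan ⟨x, hx⟩
          exact Ideal.mem_span_singleton'.mpr ⟨c, congrArg Subtype.val hc⟩, htm⟩ g hg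
      have hunit : ∀ y : q.primeCompl, IsUnit (g' (y : S)) := fun y => by
        have h1 : IsUnit (Ideal.Quotient.mk J (g' (y : S))) := by
          rw [show Ideal.Quotient.mk J (g' (y : S)) = g (y : S) from DFunLike.congr_fun hg' _]
          exact (IsLocalization.map_units Sq y).map ψ
        haveI : IsLocalHom (Ideal.Quotient.mk J) := IsLocalHom.of_surjective _ Ideal.Quotient.mk_surjective
        exact IsUnit.of_map (Ideal.Quotient.mk J) _ h1
      let χ : Sq →ₐ[R] C := IsLocalization.liftAlgHom (M := q.primeCompl) (f := g') hunit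
      have hc : χ.toRingHom.comp (algebraMap Rp Sq) = algebraMap Rp C :=
        IsLocalization.ringHom_ext P.primeCompl (RingHom.ext fun a => by
          show χ (algebraMap Rp Sq (algebraMap R Rp a)) = algebraMap Rp C (algebraMap R Rp a)
          rw [← IsScalarTower.algebraMap_apply R Rp Sq, χ.commutes, IsScalarTower.algebraMap_apply R Rp C])
      refine ⟨{ χ with commutes' := fun x => RingHom.congr_fun hc x }, ?_⟩
      have : (Ideal.Quotient.mkₐ R J).comp χ = ψ.restrictScalars R :=
        IsLocalization.algHom_ext q.primeCompl (AlgHom.ext fun x => by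
          show Ideal.Quotient.mk J (χ (algebraMap S Sq x)) = g x
          simp only [χ, IsLocalization.liftAlgHom_apply, IsLocalization.lift_eq]
          exact DFunLike.congr_fun hg' x)
      exact AlgHom.ext fun x => DFunLike.congr_fun this x
    obtain ⟨f, hf, hfs⟩ := (S9268.result R S q).mpr (PP16Lib.adicSmooth_of_hasSmallLifts hS)
    haveI := hfs.formallySmooth
    exact PP16Lib.formallySmooth_atPrime_of_away q hf

end Groth.Agent.S2060
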