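import Mathlib
import Groth.Agent.RegularSerre.Serre
import Groth.Agent.ProjDim.Regular
import Groth.Statements.S2061
-- import your own Groth.Agent.* helpers here

set_option autoImplicit false
universe u
open CategoryTheory
open CAlg

namespace Groth.Agent.S2061

/-- For a Noetherian local ring `R` write `𝔪` for its maximal ideal and `κ` for its residue field. The
projective dimension of `κ` as an `R`-module is at least the `κ`-dimension of `𝔪/𝔪²`: if `κ` has
projective dimension less than `d` then `dim_κ 𝔪/𝔪² < d`. -/
theorem result {R : Type u} [CommRing R] [IsLocalRing R]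
    [IsNoetherianRing R] (d : ℕ)
    (hd : HasProjectiveDimensionLT (ModuleCat.of R (IsLocalRing.ResidueField R)) d) :
    Module.finrank (IsLocalRing.ResidueField R) (IsLocalRing.CotangentSpace R) < d := by
  have hd1 : HasProjectiveDimensionLT (ModuleCat.of R (IsLocalRing.ResidueField R)) (d + 1) :=
    hasProjectiveDimensionLT_of_ge _ d _ (by omega)
  haveI : IsRegularLocalRing R :=
    Groth.Agent.RegularSerre.isRegularLocalRing_of_projDim_residueField _ R le_rfl d hd1
  rw [← IsLocalRing.spanFinrank_maximalIdeal_eq_finrank_cotangentSpace]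
  obtain ⟨rs, hl, hw, hgen⟩ := Groth.Agent.ProjDim.exists_regular_generators _ R rfl
  have hr : RingTheory.Sequence.IsRegular R rs := ⟨hw, by
    rw [hgen, smul_eq_mul, Ideal.mul_top]
    exact (IsLocalRing.maximalIdeal.isMaximal R).ne_top.symm⟩
  have h := ModuleCat.projectiveDimension_quotient_eq_length.{u} rs hr
  rw [hl] at h
  let e : Shrink.{u} (R ⧸ Ideal.ofList rs) ≃ₗ[R] IsLocalRing.ResidueField R :=
    (Shrink.linearEquiv R (R ⧸ Ideal.ofList rs)).trans (Submodule.quotEquivOfEq _ _ hgen)
  rw [projectiveDimension_eq_of_iso e.toModuleIso] at h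
  cases d with
  | zero =>
    exfalso
    have h0 := (hasProjectiveDimensionLT_zero_iff_isZero _).mp hd
    have : Subsingleton (IsLocalRing.ResidueField R) := ModuleCat.subsingleton_of_isZero h0
    exact false_of_nontrivial_of_subsingleton (IsLocalRing.ResidueField R)
  | succ n =>
    have h2 := (projectiveDimension_le_iff _ n).2 hd
    rw [h] at h2
    exact Nat.lt_succ_of_le (by exact_mod_cast h2)

end Groth.Agent.S2061
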