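import Groth.Statements.S2070
import Groth.Agent.NormalTensor.Main
import Groth.Agent.S9413
-- import your own Groth.Agent.* helpers here

set_option autoImplicit false
universe u
open CAlg

namespace Groth.Agent.S2070

open Groth.Agent

open TensorProduct in
/-- Let `A` be an algebra over a field `k`. Then all local rings of `k' ⊗ A` are integrally closed
domains for every field extension `k'/k` if and only if this holds for every finite purely
inseparable extension `k'/k` (extensions in the same universe). -/
theorem result {k A : Type u} [Field k] [CommRing A] [Algebra k A] :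
    (∀ (k' : Type u) [Field k'] [Algebra k k'] (P : Ideal (k' ⊗[k] A)) [P.IsPrime],
        IsDomain (Localization.AtPrime P) ∧ IsIntegrallyClosed (Localization.AtPrime P)) ↔
      ∀ (k' : Type u) [Field k'] [Algebra k k'], Module.Finite k k' → IsPurelyInseparable k k' →
        ∀ (P : Ideal (k' ⊗[k] A)) [P.IsPrime],
          IsDomain (Localization.AtPrime P) ∧ IsIntegrallyClosed (Localization.AtPrime P) := by
  refine ⟨fun h k' _ _ _ _ P _ => h k' P, fun h => ?_⟩
  have hgeo : EGA4.IsGeomNormal k A := by
    intro L _ _ hfinL
    obtain ⟨k', _, _, K', _, _, _, _, ⟨hfin, hpi⟩, _, _, _, _⟩ := FlatAscent.exists_separable_compositum (k := k) L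
    let R := k' ⊗[k] A
    have hR : EGA4.IsNormalRing R := fun P _ => h k' hfin hpi P
    have h1 : EGA4.IsNormalRing (K' ⊗[k'] R) := NormalTensor.isNormalRing_separable_tensor K' hR
    let R₁ := L ⊗[k] A
    let T₁ := R₁ ⊗[L] K'
    let e : K' ⊗[k'] R ≃+* T₁ :=
      (Algebra.TensorProduct.cancelBaseChange k k' K' K' A).toRingEquiv.trans
        ((Algebra.TensorProduct.cancelBaseChange k L K' K' A).symm.toRingEquiv.trans
          (Algebra.TensorProduct.comm L K' R₁).toRingEquiv)
    exact FlatAscent.isNormalRing_of_faithfullyFlat (R := R₁) (S := T₁) (FlatAscent.isNormalRing_of_ringEquiv e h1)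
  intro k' _ _
  have hfield : EGA4.IsNormalRing k' :=
    FlatAscent.isNormalRing_of_isRegularRing
  exact FlatAscent.isNormalRing_of_ringEquiv (Algebra.TensorProduct.comm k A k').toRingEquiv
    (S9413.result k A k' hgeo hfield)

end Groth.Agent.S2070
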