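import Mathlib
import Groth.Statements.S2071
-- import your own Groth.Agent.* helpers here

set_option autoImplicit false
universe u
open CAlg

namespace Groth.Agent.S2071

/-- For a field extension `k'/k`, every element of `k'` has a positive power in `k` if and only if
either `k' = k`, or the characteristic is a prime `p` and either `k'/k` is purely inseparable or
`k'` is algebraic over its prime field. -/
theorem result {k k' : Type u} [Field k] [Field k'] [Algebra k k'] :
    (∀ x : k', ∃ n : ℕ, 0 < n ∧ x ^ n ∈ Set.range (algebraMap k k')) ↔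
      Function.Surjective (algebraMap k k') ∨
        ∃ p : ℕ, p.Prime ∧ CharP k' p ∧
          (IsPurelyInseparable k k' ∨ Algebra.IsAlgebraic (⊥ : Subfield k') k') := by
  classical
  constructor
  · intro hpow
    by_cases hsurj : Function.Surjective (algebraMap k k')
    · exact Or.inl hsurj
    refine Or.inr ?_
    haveI halg : Algebra.IsIntegral k k' := ⟨fun x => by
      obtain ⟨n, hn, c, hc⟩ := hpow x
      exact IsIntegral.of_pow hn (hc ▸ isIntegral_algebraMap)⟩
    have core : ∀ x : k', IsSeparable k x → x ∉ Set.range (algebraMap k k') →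
        ∃ (X r : AlgebraicClosure k') (ζ : k → AlgebraicClosure k'), r ≠ X ∧ X = algebraMap k' _ x ∧
          (∀ a, ∃ n : ℕ, 0 < n ∧ ζ a ^ n = 1) ∧ ∀ a, X + algebraMap k _ a ≠ 0 ∧ ζ a * (X + algebraMap k _ a) = r + algebraMap k _ a := by
      intro x hx hxk
      set X := algebraMap k' (AlgebraicClosure k') x with hX
      have hint : IsIntegral k x := Algebra.IsIntegral.isIntegral x
      have hsplit : ((minpoly k x).map (algebraMap k (AlgebraicClosure k'))).Splits := IsAlgClosed.splits _
      have hcard := Polynomial.card_rootSet_eq_natDegree (K := AlgebraicClosure k') hx hsplit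
      have h2 : 2 ≤ (minpoly k x).natDegree := (minpoly.two_le_natDegree_iff hint).mpr hxk
      have hXr : X ∈ (minpoly k x).rootSet (AlgebraicClosure k') := by
        rw [Polynomial.mem_rootSet, hX, Polynomial.aeval_algebraMap_apply, minpoly.aeval, map_zero]
        exact ⟨minpoly.ne_zero hint, rfl⟩
      obtain ⟨⟨r, hr⟩, hne⟩ := Fintype.exists_ne_of_one_lt_card (by rw [hcard]; omega) (⟨X, hXr⟩ : (minpoly k x).rootSet (AlgebraicClosure k'))
      have hrX : r ≠ X := fun h => hne (Subtype.ext h)
      have hne0 : ∀ a : k, X + algebraMap k (AlgebraicClosure k') a ≠ 0 := fun a h0 => hxk ⟨-a, by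
        apply FaithfulSMul.algebraMap_injective k' (AlgebraicClosure k')
        rw [← IsScalarTower.algebraMap_apply, map_neg]
        linear_combination -h0⟩
      refine ⟨X, r, fun a => (r + algebraMap k _ a) / (X + algebraMap k _ a), hrX, rfl, fun a => ?_,
        fun a => ⟨hne0 a, div_mul_cancel₀ _ (hne0 a)⟩⟩
      obtain ⟨n, hn, c, hc⟩ := hpow (x + algebraMap k k' a)
      refine ⟨n, hn, ?_⟩
      let q : Polynomial k := (Polynomial.X + Polynomial.C a) ^ n - Polynomial.C c
      have hq : Polynomial.aeval x q = 0 := by simp [q, hc]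
      have hqX : Polynomial.aeval X q = 0 := by rw [hX, Polynomial.aeval_algebraMap_apply, hq, map_zero]
      have hqr : Polynomial.aeval r q = 0 := by
        obtain ⟨s, hs⟩ := minpoly.dvd k x hq
        rw [hs, map_mul, (Polynomial.mem_rootSet.mp hr).2, zero_mul]
      simp [q, sub_eq_zero] at hqX hqr
      simp only [div_pow]
      rw [hqr, hqX, div_self]
      rw [← hqX]; exact pow_ne_zero _ (hne0 a)
    have alg : ∀ (P : Type u) [Field P] [Algebra P (AlgebraicClosure k')] (X r : AlgebraicClosure k') (ζ : k → AlgebraicClosure k'),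
        r ≠ X → (∀ a, ∃ n : ℕ, 0 < n ∧ ζ a ^ n = 1) →
        (∀ a, X + algebraMap k _ a ≠ 0 ∧ ζ a * (X + algebraMap k _ a) = r + algebraMap k _ a) →
        IsIntegral P X ∧ IsIntegral P r ∧ ∀ a, IsIntegral P (algebraMap k (AlgebraicClosure k') a) := by
      intro P _ _ X r ζ hrX hζ he
      let A := algebraicClosure P (AlgebraicClosure k')
      have hA : ∀ a, ζ a ∈ A := fun a => by
        obtain ⟨n, hn, h1⟩ := hζ a
        exact mem_algebraicClosure_iff'.mpr (IsIntegral.of_pow hn (h1 ▸ isIntegral_one))
      have hz1 : ∀ a, ζ a - 1 ≠ 0 := fun a h0 => hrX (by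
        have := (he a).2
        rw [sub_eq_zero.mp h0, one_mul] at this
        exact (add_right_cancel this).symm)
      have hlin : ∀ a, X + algebraMap k _ a = (r - X) * (ζ a - 1)⁻¹ := fun a => by
        rw [eq_mul_inv_iff_mul_eq₀ (hz1 a)]
        linear_combination (he a).2
      have h0 : X = (r - X) * (ζ 0 - 1)⁻¹ := by simpa using hlin 0
      have hd1 : (r - X) * ((ζ 1 - 1)⁻¹ - (ζ 0 - 1)⁻¹) = 1 := by
        rw [mul_sub, ← hlin 1, ← h0, map_one, add_sub_cancel_left]
      have hd : r - X ∈ A := by
        rw [eq_inv_of_mul_eq_one_left hd1]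
        exact A.inv_mem (A.sub_mem (A.inv_mem (A.sub_mem (hA 1) A.one_mem)) (A.inv_mem (A.sub_mem (hA 0) A.one_mem)))
      have hX' : X ∈ A := h0 ▸ A.mul_mem hd (A.inv_mem (A.sub_mem (hA 0) A.one_mem))
      refine ⟨mem_algebraicClosure_iff'.mp hX', mem_algebraicClosure_iff'.mp (by simpa using A.add_mem hd hX'), fun a => ?_⟩
      refine mem_algebraicClosure_iff'.mp ?_
      have := A.sub_mem (A.mul_mem hd (A.inv_mem (A.sub_mem (hA a) A.one_mem))) hX'
      rwa [← hlin a, add_sub_cancel_left] at this
    obtain ⟨p, hp⟩ := CharP.exists k'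
    rcases CharP.char_is_prime_or_zero k' p with hpp | rfl
    · refine ⟨p, hpp, hp, ?_⟩
      by_cases hpi : IsPurelyInseparable k k'
      · exact Or.inl hpi
      refine Or.inr ?_
      obtain ⟨x, hx, hxk⟩ : ∃ x : k', IsSeparable k x ∧ x ∉ Set.range (algebraMap k k') := by
        by_contra hno
        refine hpi ⟨halg, fun x hx => ?_⟩
        by_contra hxr
        exact hno ⟨x, hx, hxr⟩
      obtain ⟨X, r, ζ, hrX, -, hζ, he⟩ := core x hx hxk
      have h := (alg (⊥ : Subfield k') X r ζ hrX hζ he).2.2
      refine Algebra.isAlgebraic_iff_isIntegral.mpr ⟨fun z => ?_⟩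
      obtain ⟨n, hn, c, hc⟩ := hpow z
      refine IsIntegral.of_pow hn ?_
      rw [← hc]
      apply (isIntegral_algebraMap_iff (FaithfulSMul.algebraMap_injective k' (AlgebraicClosure k'))).mp
      rw [← IsScalarTower.algebraMap_apply]
      exact h c
    · exfalso
      haveI : CharZero k' := CharP.charP_to_charZero k'
      haveI : CharZero k := RingHom.charZero (algebraMap k k')
      haveI : CharZero (AlgebraicClosure k') := charZero_of_injective_algebraMap (FaithfulSMul.algebraMap_injective k' (AlgebraicClosure k'))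
      obtain ⟨x, hxk⟩ := not_forall.mp hsurj
      obtain ⟨X, r, ζ, hrX, -, hζ, he⟩ := core x (minpoly.irreducible (Algebra.IsIntegral.isIntegral x)).separable hxk
      let PQ := ULift.{u} ℚ
      letI : Algebra PQ (AlgebraicClosure k') := ((algebraMap ℚ (AlgebraicClosure k')).comp ULift.ringEquiv.toRingHom).toAlgebra
      have hi := alg PQ X r ζ hrX hζ he
      have down : ∀ z : AlgebraicClosure k', IsIntegral PQ z → IsIntegral ℚ z := fun z hz => by
        obtain ⟨q, hq, hqz⟩ := hz
        refine ⟨q.map ULift.ringEquiv.toRingHom, hq.map _, ?_⟩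
        rw [Polynomial.eval₂_map]
        exact hqz
      let F : IntermediateField ℚ (AlgebraicClosure k') := IntermediateField.adjoin ℚ {X, r}
      haveI : FiniteDimensional ℚ F := IntermediateField.finiteDimensional_adjoin_pair (down _ hi.1) (down _ hi.2.1)
      haveI : NumberField F := {}
      have hXF : X ∈ F := IntermediateField.subset_adjoin ℚ _ (by simp)
      have hrF : r ∈ F := IntermediateField.subset_adjoin ℚ _ (by simp)
      have hmem : ∀ a : ℕ, ζ (a : k) ∈ F := fun a => by
        rw [eq_div_iff (he (a : k)).1 |>.mpr (he (a : k)).2, map_natCast]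
        exact F.div_mem (F.add_mem hrF (natCast_mem F a)) (F.add_mem hXF (natCast_mem F a))
      let G : ℕ → F := fun a => ⟨ζ (a : k), hmem a⟩
      have hG : Function.Injective G := by
        intro a b hab
        have hz : ζ (a : k) = ζ (b : k) := congrArg Subtype.val hab
        have h1 := (he (a : k)).2
        have h2 := (he (b : k)).2
        rw [hz] at h1
        have hne1 : ζ (b : k) - 1 ≠ 0 := fun h0 => hrX (by
          rw [sub_eq_zero.mp h0, one_mul] at h2
          exact (add_right_cancel h2).symm)
        have h3 : (ζ (b : k) - 1) * ((a : AlgebraicClosure k') - (b : AlgebraicClosure k')) = 0 := by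
          rw [← map_natCast (algebraMap k (AlgebraicClosure k')) a, ← map_natCast (algebraMap k (AlgebraicClosure k')) b]
          linear_combination h1 - h2
        exact Nat.cast_injective (R := AlgebraicClosure k') (sub_eq_zero.mp ((mul_eq_zero.mp h3).resolve_left hne1))
      refine (Set.infinite_range_of_injective hG) (Set.Finite.subset (NumberField.Embeddings.finite_of_norm_le F ℂ 1) ?_)
      rintro _ ⟨a, rfl⟩
      obtain ⟨n, hn, h1⟩ := hζ (a : k)
      have h1' : G a ^ n = 1 := Subtype.ext (by simpa [G] using h1)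
      exact ⟨IsIntegral.of_pow hn (h1' ▸ isIntegral_one), fun φ =>
        (Complex.norm_eq_one_of_pow_eq_one (by rw [← map_pow, h1', map_one]) hn.ne').le⟩
  · rintro (h | ⟨p, hp, hchar, h | h⟩) x
    · exact ⟨1, one_pos, by rw [pow_one]; exact h x⟩
    · haveI := hchar
      haveI : CharP k p := (algebraMap k k').charP (algebraMap k k').injective p
      haveI : Fact p.Prime := ⟨hp⟩
      haveI : ExpChar k p := ExpChar.prime hp
      obtain ⟨n, hn⟩ := IsPurelyInseparable.pow_mem k p x
      exact ⟨p ^ n, pow_pos hp.pos n, hn⟩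
    · haveI := hchar
      haveI : Fact p.Prime := ⟨hp⟩
      rcases eq_or_ne x 0 with rfl | hx
      · exact ⟨1, one_pos, 0, by simp⟩
      haveI : Finite (⊥ : Subfield k') := by
        have hle : ((⊥ : Subfield k') : Set k') ⊆ Set.range (ZMod.castHom (dvd_refl p) k') :=
          fun z hz => (bot_le : (⊥ : Subfield k') ≤ (ZMod.castHom (dvd_refl p) k').fieldRange) hz
        exact ((Set.finite_range _).subset hle).to_subtype
      haveI : FiniteDimensional (⊥ : Subfield k') (IntermediateField.adjoin (⊥ : Subfield k') {x}) :=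
        IntermediateField.adjoin.finiteDimensional (h.isAlgebraic x).isIntegral
      haveI : Finite (IntermediateField.adjoin (⊥ : Subfield k') {x}) := Module.finite_of_finite (⊥ : Subfield k')
      let g : IntermediateField.adjoin (⊥ : Subfield k') {x} := ⟨x, IntermediateField.mem_adjoin_simple_self _ x⟩
      have hg : g ≠ 0 := fun h0 => hx (congrArg Subtype.val h0)
      obtain ⟨n, hn, h1⟩ := (isOfFinOrder_of_finite (Units.mk0 g hg)).exists_pow_eq_one
      refine ⟨n, hn, 1, ?_⟩
      rw [map_one]
      exact (congrArg (fun z => ((z : IntermediateField.adjoin (⊥ : Subfield k') {x}) : k')) (congrArg Units.val h1)).symm.trans (by simp [g])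

end Groth.Agent.S2071
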