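import Groth.Statements.S2073
import Mathlib

set_option autoImplicit false
universe u
open CAlg

namespace Groth.Agent.S2073

open scoped TensorProduct nonZeroDivisors

attribute [local instance] Algebra.TensorProduct.rightAlgebra in
theorem aux {R S : Type u} [CommRing R] [IsDomain R] [CommRing S] [Algebra R S]
    [Algebra.FiniteType R S] (hinj : Function.Injective (algebraMap R S)) :
    ∃ (d : ℕ) (y : Fin d → S) (S' : Subalgebra R S), AlgebraicIndependent R y ∧ (∀ i, y i ∈ S') ∧ S'.FG ∧
      (∀ s ∈ S', IsIntegral (Algebra.adjoin R (Set.range y)) s) ∧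
      ∃ f : R, f ≠ 0 ∧ ∀ s : S, ∃ n : ℕ, (f ^ n) • s ∈ S' := by
  classical
  let K := FractionRing R
  let L := K ⊗[R] S
  haveI hloc : IsLocalization (Algebra.algebraMapSubmonoid S R⁰) L :=
    (Algebra.isLocalization_iff_isPushout R⁰ K).2 inferInstance
  haveI : Nontrivial L := by
    refine nontrivial_of_ne 0 1 fun h => ?_
    have h1 : algebraMap S L 1 = 0 := by rw [map_one]; exact h.symm
    obtain ⟨⟨_, m, hm, rfl⟩, hm'⟩ :=
      (IsLocalization.map_eq_zero_iff (Algebra.algebraMapSubmonoid S R⁰) L 1).1 h1
    rw [mul_one] at hm'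
    exact nonZeroDivisors.ne_zero hm (hinj (hm'.trans (map_zero _).symm))
  obtain ⟨d, g, hginj, hgint⟩ := exists_integral_inj_algHom_of_fg K L
  choose z hz using fun i => IsLocalization.surj (Algebra.algebraMapSubmonoid S R⁰) (g (MvPolynomial.X i))
  choose r hr hr' using fun i => (z i).2.2
  let y : Fin d → S := fun i => (z i).1
  let c : Fin d → K := fun i => algebraMap R K (r i)
  have hc : ∀ i, c i ≠ 0 := fun i => IsFractionRing.to_map_ne_zero_of_mem_nonZeroDivisors (hr i)
  let σ : MvPolynomial (Fin d) K →ₐ[K] MvPolynomial (Fin d) K :=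
    MvPolynomial.aeval fun i => MvPolynomial.C (c i) * MvPolynomial.X i
  let σ' : MvPolynomial (Fin d) K →ₐ[K] MvPolynomial (Fin d) K :=
    MvPolynomial.aeval fun i => MvPolynomial.C (c i)⁻¹ * MvPolynomial.X i
  have hσ : ∀ p, σ (σ' p) = p := fun p => by
    have : σ.comp σ' = AlgHom.id K _ := by
      refine MvPolynomial.algHom_ext fun i => ?_
      simp [σ, σ', ← mul_assoc, ← MvPolynomial.C_mul, inv_mul_cancel₀ (hc i)]
    exact AlgHom.congr_fun this p
  have hσ' : ∀ p, σ' (σ p) = p := fun p => by
    have : σ'.comp σ = AlgHom.id K _ := by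
      refine MvPolynomial.algHom_ext fun i => ?_
      simp [σ, σ', ← mul_assoc, ← MvPolynomial.C_mul, mul_inv_cancel₀ (hc i)]
    exact AlgHom.congr_fun this p
  let g' := g.comp σ
  have hg'inj : Function.Injective g' :=
    hginj.comp (Function.LeftInverse.injective hσ')
  have hg'int : g'.toRingHom.IsIntegral :=
    RingHom.IsIntegral.trans σ.toRingHom g.toRingHom
      (RingHom.isIntegral_of_surjective _ (Function.RightInverse.surjective hσ)) hgint
  have hg'X : ∀ i, g' (MvPolynomial.X i) = algebraMap S L (y i) := by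
    intro i
    have e : algebraMap K L (c i) = algebraMap S L ((z i).2 : S) := by
      rw [← hr' i]
      simp only [c, ← IsScalarTower.algebraMap_apply]
    simp only [g', σ, AlgHom.comp_apply, MvPolynomial.aeval_X, map_mul]
    rw [show g (MvPolynomial.C (c i)) = algebraMap K L (c i) from g.commutes (c i), e, mul_comm]
    exact hz i
  let h : MvPolynomial (Fin d) R →ₐ[R] S := MvPolynomial.aeval y
  have hcompat : ∀ p, g' (MvPolynomial.map (algebraMap R K) p) = algebraMap S L (h p) := by
    intro p
    induction p using MvPolynomial.induction_on with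
    | C a =>
      rw [MvPolynomial.map_C, show g' (MvPolynomial.C (algebraMap R K a)) =
        algebraMap K L (algebraMap R K a) from g'.commutes _, show h (MvPolynomial.C a) =
        algebraMap R S a from h.commutes a, ← IsScalarTower.algebraMap_apply,
        ← IsScalarTower.algebraMap_apply]
    | add p q hp hq => simp only [map_add, hp, hq]
    | mul_X p i hp => simp only [map_mul, MvPolynomial.map_X, hp, hg'X, h, MvPolynomial.aeval_X]
  have hindep : AlgebraicIndependent R y := by
    intro p q hpq
    exact MvPolynomial.map_injective _ (IsFractionRing.injective R K)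
      (hg'inj (by rw [hcompat, hcompat]; exact congrArg _ hpq))
  have hint : ∀ x : S, ∃ m ∈ R⁰, IsIntegral (Algebra.adjoin R (Set.range y)) (m • x) := by
    intro x
    letI : Algebra (MvPolynomial (Fin d) R) S := h.toRingHom.toAlgebra
    letI : Algebra (MvPolynomial (Fin d) R) L := ((algebraMap S L).comp h.toRingHom).toAlgebra
    letI : Algebra (MvPolynomial (Fin d) K) L := g'.toRingHom.toAlgebra
    letI : Algebra (MvPolynomial (Fin d) R) (MvPolynomial (Fin d) K) := MvPolynomial.algebraMvPolynomial
    haveI : IsScalarTower (MvPolynomial (Fin d) R) S L := IsScalarTower.of_algebraMap_eq fun _ => rfl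
    haveI : IsScalarTower (MvPolynomial (Fin d) R) (MvPolynomial (Fin d) K) L :=
      IsScalarTower.of_algebraMap_eq fun p => (hcompat p).symm
    let M := R⁰.map (MvPolynomial.C (σ := Fin d))
    haveI : IsLocalization M (MvPolynomial (Fin d) K) := MvPolynomial.isLocalization R⁰ K
    have hMS : Algebra.algebraMapSubmonoid S M = Algebra.algebraMapSubmonoid S R⁰ := by
      ext t
      constructor
      · rintro ⟨_, ⟨a, ha, rfl⟩, rfl⟩
        exact ⟨a, ha, (h.commutes a).symm⟩
      · rintro ⟨a, ha, rfl⟩
        exact ⟨_, ⟨a, ha, rfl⟩, h.commutes a⟩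
    haveI : IsLocalization (Algebra.algebraMapSubmonoid S M) L := by rw [hMS]; exact hloc
    obtain ⟨⟨_, m, hm, rfl⟩, hmx⟩ := IsIntegral.exists_multiple_integral_of_isLocalization M
      (algebraMap S L x) (hg'int (algebraMap S L x) : IsIntegral (MvPolynomial (Fin d) K) (algebraMap S L x))
    rw [Submonoid.smul_def] at hmx
    have hmx' : IsIntegral (MvPolynomial (Fin d) R)
        (algebraMap S L (MvPolynomial.C (σ := Fin d) m • x)) := by
      rw [algebra_compatible_smul S, smul_eq_mul, map_mul, ← IsScalarTower.algebraMap_apply]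
      rwa [Algebra.smul_def] at hmx
    obtain ⟨_, ⟨m', hm', rfl⟩, hm'x⟩ :=
      IsLocalization.exists_isIntegral_smul_of_isIntegral_map (Sₘ := L) M hmx'
    obtain ⟨p, hp, hpz⟩ := hm'x
    refine ⟨m' * m, mul_mem hm' hm, ?_⟩
    let h' : MvPolynomial (Fin d) R →+* Algebra.adjoin R (Set.range y) :=
      h.toRingHom.codRestrict (Algebra.adjoin R (Set.range y)) fun q => by
        rw [Algebra.adjoin_range_eq_range_aeval]; exact ⟨q, rfl⟩
    refine ⟨p.map h', hp.map h', ?_⟩
    rw [Polynomial.eval₂_map, show (algebraMap (Algebra.adjoin R (Set.range y)) S).comp h' =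
      algebraMap (MvPolynomial (Fin d) R) S from RingHom.ext fun _ => rfl]
    have e : (m' * m) • x = h (MvPolynomial.C m') * (h (MvPolynomial.C m) * x) := by
      rw [show h (MvPolynomial.C m') = algebraMap R S m' from h.commutes m',
        show h (MvPolynomial.C m) = algebraMap R S m from h.commutes m, Algebra.smul_def, map_mul,
        mul_assoc]
    rw [e]
    rw [Algebra.smul_def, Algebra.smul_def] at hpz
    exact hpz
  obtain ⟨gens, hgens⟩ := Algebra.FiniteType.out (R := R) (A := S)
  choose m hm hmint using hint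
  let f := ∏ x ∈ gens, m x
  have hf : f ≠ 0 := Finset.prod_ne_zero_iff.2 fun x _ => nonZeroDivisors.ne_zero (hm x)
  let T : Finset S := Finset.univ.image y ∪ gens.image (f • ·)
  refine ⟨d, y, Algebra.adjoin R (T : Set S), hindep, fun i => Algebra.subset_adjoin (by simp [T]),
    Subalgebra.fg_adjoin_finset T, ?_, f, hf, fun s => ?_⟩
  · intro s hs
    have : Algebra.adjoin R (T : Set S) ≤
        (integralClosure (Algebra.adjoin R (Set.range y)) S).restrictScalars R := by
      refine Algebra.adjoin_le ?_
      intro t ht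
      simp only [T, Finset.coe_union, Finset.coe_image, Set.mem_union, Set.mem_image, Finset.coe_univ,
        Set.image_univ] at ht
      rcases ht with ht | ⟨x, hx, rfl⟩
      · exact isIntegral_algebraMap (x := (⟨t, Algebra.subset_adjoin ht⟩ : Algebra.adjoin R (Set.range y)))
      · obtain ⟨c, hc⟩ := Finset.dvd_prod_of_mem m hx
        show IsIntegral _ (f • x)
        rw [show f • x = c • (m x • x) by rw [smul_smul, mul_comm]; exact congrArg (· • x) hc]
        exact (hmint x).smul c
    exact this hs
  · have hs : s ∈ Algebra.adjoin R (gens : Set S) := hgens ▸ Algebra.mem_top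
    set S' := Algebra.adjoin R (T : Set S)
    induction hs using Algebra.adjoin_induction with
    | mem x hx => exact ⟨1, by rw [pow_one]; exact Algebra.subset_adjoin (by
        simp only [T, Finset.coe_union, Finset.coe_image]; exact Or.inr ⟨x, hx, rfl⟩)⟩
    | algebraMap r => exact ⟨0, by rw [pow_zero, one_smul]; exact S'.algebraMap_mem r⟩
    | add a b _ _ ha hb =>
      obtain ⟨i, hi⟩ := ha; obtain ⟨j, hj⟩ := hb
      refine ⟨i + j, ?_⟩
      rw [smul_add]
      refine S'.add_mem ?_ ?_
      · rw [pow_add, mul_comm, mul_smul]; exact S'.smul_mem hi _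
      · rw [pow_add, mul_smul]; exact S'.smul_mem hj _
    | mul a b _ _ ha hb =>
      obtain ⟨i, hi⟩ := ha; obtain ⟨j, hj⟩ := hb
      refine ⟨i + j, ?_⟩
      rw [pow_add, ← smul_mul_smul_comm]
      exact S'.mul_mem hi hj


/-- Let `R` be a domain and `R → S` an injective ring map of finite type. Then there are elements `y_1,
…, y_d` of `S` algebraically independent over `R`, a finitely generated `R`-subalgebra `S'` of `S`
containing them and integral over `R[y_1, …, y_d]`, and a nonzero `f ∈ R` such that every element of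
`S` lands in `S'` after multiplication by a power of `f`. -/
theorem result {R S : Type u} [CommRing R] [IsDomain R] [CommRing S] [Algebra R S]
    [Algebra.FiniteType R S] (hinj : Function.Injective (algebraMap R S)) :
    ∃ (d : ℕ) (y : Fin d → S) (S' : Subalgebra R S), AlgebraicIndependent R y ∧ (∀ i, y i ∈ S') ∧ S'.FG ∧
      (∀ s ∈ S', IsIntegral (Algebra.adjoin R (Set.range y)) s) ∧
      ∃ f : R, f ≠ 0 ∧ ∀ s : S, ∃ n : ℕ, (f ^ n) • s ∈ S' := by
  exact aux hinj

end Groth.Agent.S2073
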