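import Groth.Statements.S2076
import Groth.Agent.LimLib.EventualBase

set_option autoImplicit false
set_option backward.isDefEq.respectTransparency false
set_option backward.defeqAttrib.useBackward true
universe u
open CategoryTheory AlgebraicGeometry
open Lim

namespace Groth.Agent.S2076

/-- Let `X = lim X_i` be a cofiltered limit of quasi-compact schemes over `S` with affine transition
morphisms and `h : Y → X` a closed immersion with `Y → S` locally of finite type. Then `Y → X_i` is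
a closed immersion for some `i`. -/
theorem result {I : Type u} [SmallCategory I] [IsCofiltered I] (S : Scheme.{u})
    (D : I ⥤ Over S) (c : Limits.Cone D) (hc : Limits.IsLimit c)
    [∀ (i j : I) (f : i ⟶ j), IsAffineHom (D.map f).left] [∀ i, CompactSpace (D.obj i).left]
    {Y : Scheme.{u}} (h : Y ⟶ c.pt.left) [IsClosedImmersion h] [LocallyOfFiniteType (h ≫ c.pt.hom)] :
    ∃ i : I, IsClosedImmersion (h ≫ (c.π.app i).left) := by
  classical
  let D' := D ⋙ Over.forget S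
  let c' : Limits.Cone D' := (Over.forget S).mapCone c
  have hc' : Limits.IsLimit c' := Limits.isLimitOfPreserves (Over.forget S) hc
  haveI haffT : ∀ {i j : I} (f : i ⟶ j), IsAffineHom (D'.map f) := fun {i j} f =>
    (inferInstance : IsAffineHom (D.map f).left)
  obtain ⟨i⟩ := IsCofiltered.nonempty (C := I)
  haveI := isAffineHom_π_app _ _ hc'
  let X : Scheme.{u} := D'.obj i
  let T : X ⟶ S := (D.obj i).hom
  haveI : CompactSpace X := (inferInstance : CompactSpace (D.obj i).left)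
  obtain ⟨s, hs⟩ := isCompact_univ.elim_finite_subcover
    (fun V : {V : X.affineOpens // ∃ U : S.affineOpens, (V : X.Opens) ≤ T ⁻¹ᵁ U} =>
      ((V.1 : X.Opens) : Set X)) (fun V => V.1.1.2) (fun x _ => by
      obtain ⟨_, ⟨U, hU, rfl⟩, hxU, -⟩ :=
        S.isBasis_affineOpens.exists_subset_of_mem_open (Set.mem_univ (T x)) isOpen_univ
      obtain ⟨_, ⟨V, hV, rfl⟩, hxV, hVU⟩ :=
        X.isBasis_affineOpens.exists_subset_of_mem_open (show x ∈ T ⁻¹ᵁ U from hxU) (T ⁻¹ᵁ U).2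
      exact Set.mem_iUnion.2 ⟨⟨⟨V, hV⟩, ⟨U, hU⟩, hVU⟩, hxV⟩)
  let p : ∀ k, Y ⟶ D'.obj k := fun k => h ≫ c'.π.app k
  haveI hp : ∀ k, IsAffineHom (p k) := fun k => inferInstance
  have key : ∀ a : s, ∃ (j : I) (φ : j ⟶ i), ∀ (k : I) (ψ : k ⟶ j),
      Function.Surjective ((p k).app (D'.map (ψ ≫ φ) ⁻¹ᵁ a.1.1.1)) := by
    intro a
    obtain ⟨U, hle⟩ := a.1.2
    let W : X.Opens := a.1.1.1
    have hW : IsAffineOpen W := a.1.1.2
    let YW : Y.Opens := h ⁻¹ᵁ (c'.π.app i ⁻¹ᵁ W)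
    have hYW : IsAffineOpen YW := (hW.preimage (c'.π.app i)).preimage h
    let q : ∀ l : Over i, Γ(D'.obj l.left, D'.map l.hom ⁻¹ᵁ W) ⟶ Γ(Y, YW) := fun l =>
      Groth.Agent.LimLib.πs c' W l ≫ h.app _
    have hbase : (h ≫ c.pt.hom) = h ≫ c'.π.app i ≫ T :=
      congrArg (fun f : c.pt.left ⟶ S => h ≫ f) (Over.w (c.π.app i)).symm
    have hYU : YW ≤ (h ≫ c'.π.app i ≫ T) ⁻¹ᵁ U.1 := fun y hy => hle hy
    haveI hlft : LocallyOfFiniteType (h ≫ c'.π.app i ≫ T) := hbase ▸ inferInstance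
    have hft := HasRingHomProperty.appLE (P := @LocallyOfFiniteType) (h ≫ c'.π.app i ≫ T)
      hlft U ⟨YW, hYW⟩ hYU
    letI := ((h ≫ c'.π.app i ≫ T).appLE U.1 YW hYU).hom.toAlgebra
    obtain ⟨gens, hgens⟩ := (hft : Algebra.FiniteType Γ(S, U.1) Γ(Y, YW)).out
    have hQ : ∀ y : gens, ∃ (j : I) (φ : j ⟶ i), ∀ (k : I) (ψ : k ⟶ j),
        (y : Γ(Y, YW)) ∈ (q (Over.mk (ψ ≫ φ))).hom.range := by
      intro y
      obtain ⟨x, hx⟩ := Scheme.Hom.app_surjective h _ (hW.preimage (c'.π.app i)) y.1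
      obtain ⟨l, t, rfl⟩ := Groth.Agent.LimLib.exists_πs_eq hc' hW x
      refine ⟨l.left, l.hom, fun k ψ => ⟨Groth.Agent.LimLib.rs W
        (Over.homMk ψ : Over.mk (ψ ≫ l.hom) ⟶ l) t, ?_⟩⟩
      show h.app _ (Groth.Agent.LimLib.πs c' W _ _) = _
      rw [Groth.Agent.LimLib.πs_rs_apply]
      exact hx
    choose j φ hj using hQ
    obtain ⟨m, fm, gm, hm⟩ := IsCofiltered.wideCospan φ
    refine ⟨m, fm, fun k ψ => ?_⟩
    let o : Over i := Over.mk (ψ ≫ fm)
    have hgen : ∀ y ∈ gens, y ∈ (q o).hom.range := by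
      intro y hy
      have h2 := hj ⟨y, hy⟩ k (ψ ≫ gm ⟨y, hy⟩)
      rwa [Category.assoc, hm] at h2
    have hR : ∀ r, algebraMap Γ(S, U.1) Γ(Y, YW) r ∈ (q o).hom.range := by
      intro r
      have hle' : D'.map o.hom ⁻¹ᵁ W ≤ (D'.map o.hom ≫ T) ⁻¹ᵁ U.1 := fun y hy => hle hy
      refine ⟨(D'.map o.hom ≫ T).appLE U.1 _ hle' r, ?_⟩
      rw [RingHom.algebraMap_toAlgebra]
      show h.app _ ((c'.π.app o.left).appLE _ _ _ ((D'.map o.hom ≫ T).appLE U.1 _ hle' r)) = _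
      rw [Groth.Agent.LimLib.appLE_appLE_apply, Scheme.Hom.app_eq_appLE]
      refine (Groth.Agent.LimLib.appLE_appLE_apply _ _ _ _ r).trans ?_
      exact Groth.Agent.LimLib.appLE_congr_hom
        (congrArg (fun f : c.pt.left ⟶ S => h ≫ f) (by rw [c'.w_assoc])) _ _ r
    have hsurj : Function.Surjective (q o) := by
      intro y
      have hy : y ∈ Algebra.adjoin Γ(S, U.1) (gens : Set Γ(Y, YW)) := hgens ▸ Algebra.mem_top
      induction hy using Algebra.adjoin_induction with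
      | mem g hg => exact hgen g hg
      | algebraMap r => exact hR r
      | add a b _ _ ha hb => exact add_mem (s := (q o).hom.range) ha hb
      | mul a b _ _ ha hb => exact mul_mem (s := (q o).hom.range) ha hb
    have e : (p k) ⁻¹ᵁ (D'.map (ψ ≫ fm) ⁻¹ᵁ W) = YW := by
      rw [← Scheme.Hom.comp_preimage, Category.assoc, c'.w, Scheme.Hom.comp_preimage]
    intro y
    obtain ⟨x, hx⟩ := hsurj (Y.presheaf.map (eqToHom e.symm).op y)
    refine ⟨x, (ConcreteCategory.bijective_of_isIso (Y.presheaf.map (eqToHom e.symm).op)).1 ?_⟩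
    rw [← hx]
    show Y.presheaf.map (homOfLE e.ge).op ((p k).app _ x) =
      h.app _ ((c'.π.app k).appLE _ _ _ x)
    rw [Groth.Agent.LimLib.map_app_apply, Scheme.Hom.app_eq_appLE]
    exact (Groth.Agent.LimLib.appLE_appLE_apply _ _ _ _ x).symm
  choose j φ hj using key
  obtain ⟨m, fm, gm, hm⟩ := IsCofiltered.wideCospan φ
  refine ⟨m, ?_⟩
  change IsClosedImmersion (p m)
  refine IsZariskiLocalAtTarget.of_iSup_eq_top (fun a : s => D'.map fm ⁻¹ᵁ a.1.1.1) ?_ fun a => ?_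
  · refine eq_top_iff.2 fun x _ => ?_
    obtain ⟨a, ha, hx⟩ := Set.mem_iUnion₂.1 (hs (Set.mem_univ (D'.map fm x)))
    exact TopologicalSpace.Opens.mem_iSup.2 ⟨⟨a, ha⟩, hx⟩
  · have hV : IsAffineOpen (D'.map fm ⁻¹ᵁ a.1.1.1) := a.1.1.2.preimage _
    have hsur := hj a m (gm a)
    rw [hm] at hsur
    haveI : IsAffine (D'.map fm ⁻¹ᵁ a.1.1.1).toScheme := hV
    haveI : IsAffine (p m ⁻¹ᵁ (D'.map fm ⁻¹ᵁ a.1.1.1)).toScheme := hV.preimage (p m)
    refine IsClosedImmersion.of_surjective_of_isAffine _ ?_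
    rw [morphismRestrict_appTop]
    intro y
    obtain ⟨z, hz⟩ := (ConcreteCategory.bijective_of_isIso (Y.presheaf.map
      (eqToHom (image_morphismRestrict_preimage (p m) _ ⊤)).op)).2 y
    have h2 : Function.Surjective ((p m).app ((D'.map fm ⁻¹ᵁ a.1.1.1).ι ''ᵁ ⊤)) := by
      rw [Scheme.Opens.ι_image_top]; exact hsur
    obtain ⟨w, rfl⟩ := h2 z
    exact ⟨w, hz⟩

end Groth.Agent.S2076
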