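import Groth.Statements.S2084
import Groth.Agent.DepthLib.CMModule

set_option autoImplicit false
universe u
open CAlg

namespace Groth.Agent.S2084

/-- Let `R` be a Noetherian local ring admitting a finite Cohen–Macaulay module whose support is all of
`Spec R`. Then every maximal chain of prime ideals (starting at a minimal prime, ending at the
maximal ideal, with no prime strictly between consecutive members) has length equal to the dimension
of `R`. -/
theorem result {R M : Type u} [CommRing R] [IsLocalRing R] [IsNoetherianRing R]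
    [AddCommGroup M] [Module R M] [Module.Finite R M] (hM : LocCoh.IsCohenMacaulayModule R M)
    (hsupp : Module.support R M = Set.univ) (s : LTSeries (PrimeSpectrum R))
    (hhead : s.head.asIdeal ∈ minimalPrimes R) (hlast : s.last.asIdeal = IsLocalRing.maximalIdeal R)
    (hsat : ∀ i : Fin s.length, s (Fin.castSucc i) ⋖ s (Fin.succ i)) :
    (s.length : WithBot ℕ∞) = ringKrullDim R := by
  haveI := DepthLib.nontrivial_of_isCohenMacaulayModule hM
  have hdimM : Module.supportDim R M = ringKrullDim R := by
    rw [Module.supportDim, hsupp, ringKrullDim, Order.krullDim_eq_of_orderIso (OrderIso.Set.univ)]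
  obtain ⟨D, hD⟩ := DepthLib.exists_nat_supportDim (R := R) M
  have hloc : ∀ p : PrimeSpectrum R, ∃ a f : ℕ, LocCoh.depth (Localization.AtPrime p.asIdeal)
      (LocalizedModule p.asIdeal.primeCompl M) = a ∧ ringKrullDim (R ⧸ p.asIdeal) = f ∧ a + f = D ∧
      Module.supportDim (Localization.AtPrime p.asIdeal) (LocalizedModule p.asIdeal.primeCompl M) = a := by
    intro p
    have hp : p ∈ Module.support R M := hsupp ▸ Set.mem_univ p
    haveI := (DepthLib.nontrivial_localizedModule_iff p).mpr hp
    obtain ⟨hcm, hsum⟩ := DepthLib.isCohenMacaulayModule_localization hM p hp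
    obtain ⟨a, ha⟩ := DepthLib.exists_nat_depth (R := Localization.AtPrime p.asIdeal)
      (LocalizedModule p.asIdeal.primeCompl M)
    obtain ⟨f, hf⟩ := DepthLib.exists_nat_ringKrullDim_quotient p.asIdeal
    rw [hcm, ha, hf, hD] at hsum
    exact ⟨a, f, ha, hf, by exact_mod_cast hsum, by rw [hcm, ha]; rfl⟩
  choose a f ha hf haf hsa using hloc
  have hstep : ∀ i : Fin s.length, f (s (Fin.castSucc i)) = f (s (Fin.succ i)) + 1 := by
    intro i
    set p := s (Fin.castSucc i)
    set q := s (Fin.succ i)
    have hpq : p.asIdeal < q.asIdeal := (hsat i).lt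
    obtain ⟨y, hyq, hyp⟩ := SetLike.exists_of_lt hpq
    have h1 := DepthLib.ringKrullDim_quotient_succ_le hpq.le hyp hyq
    rw [hf, hf] at h1
    have h1' : f q + 1 ≤ f p := by exact_mod_cast h1
    have hh : (q.asIdeal.map (Ideal.Quotient.mk p.asIdeal)).height ≤ 1 := by
      haveI : (q.asIdeal.map (Ideal.Quotient.mk p.asIdeal)).IsPrime :=
        Ideal.map_isPrime_of_surjective Ideal.Quotient.mk_surjective (by rw [Ideal.mk_ker]; exact hpq.le)
      refine Ideal.height_le_one_of_isPrincipal_of_mem_minimalPrimes (Ideal.span {Ideal.Quotient.mk p.asIdeal y}) _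
        ⟨⟨inferInstance, (Ideal.span_singleton_le_iff_mem _).mpr (Ideal.mem_map_of_mem _ hyq)⟩, ?_⟩
      rintro J ⟨hJ, hyJ⟩ hJq
      haveI := hJ
      let P : PrimeSpectrum R := ⟨J.comap (Ideal.Quotient.mk p.asIdeal), inferInstance⟩
      have hPy : y ∈ P.asIdeal := hyJ (Ideal.mem_span_singleton_self _)
      have hle : P ≤ q := by
        refine (Ideal.comap_mono hJq).trans ?_
        rw [Ideal.comap_map_of_surjective' _ Ideal.Quotient.mk_surjective, Ideal.mk_ker, sup_eq_left.mpr hpq.le]
      have hge : p < P := lt_of_le_of_ne (show p.asIdeal ≤ P.asIdeal from fun z hz => by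
          show Ideal.Quotient.mk p.asIdeal z ∈ J
          rw [Ideal.Quotient.eq_zero_iff_mem.mpr hz]; exact J.zero_mem)
        (fun h => hyp (by rw [h]; exact hPy))
      rcases hle.eq_or_lt with he | hlt
      · rw [← he, Ideal.map_comap_of_surjective _ Ideal.Quotient.mk_surjective]
      · exact absurd hlt ((hsat i).2 hge)
    have h2 := (DepthLib.depth_localization_le_add_height M p.asIdeal q.asIdeal hpq.le).trans
      (add_le_add le_rfl hh)
    rw [ha, ha] at h2
    have h2' : a q ≤ a p + 1 := by exact_mod_cast h2
    have := haf p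
    have := haf q
    omega
  have hhead : f s.head = D := by
    have h1 : Module.supportDim (Localization.AtPrime s.head.asIdeal) (LocalizedModule s.head.asIdeal.primeCompl M) ≤ 0 := by
      refine (Module.supportDim_le_ringKrullDim _ _).trans ?_
      rw [IsLocalization.AtPrime.ringKrullDim_eq_height s.head.asIdeal, Ideal.height_eq_zero_iff.mpr hhead]
      rfl
    rw [hsa] at h1
    have : a s.head ≤ 0 := by exact_mod_cast h1
    have := haf s.head
    omega
  have hlast' : f s.last = 0 := by
    have := hf s.last
    rw [hlast, ringKrullDim_eq_zero_of_isField ((Ideal.Quotient.maximal_ideal_iff_isField_quotient _).mp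
      (IsLocalRing.maximalIdeal.isMaximal R))] at this
    exact_mod_cast this.symm
  have hall : ∀ (k : ℕ) (hk : k ≤ s.length), f (s ⟨k, Nat.lt_succ_of_le hk⟩) + k = D := by
    intro k
    induction k with
    | zero => intro _; exact hhead
    | succ k ih =>
      intro hk
      have h1 := ih (by omega)
      have h2 := hstep ⟨k, by omega⟩
      simp only [Fin.castSucc_mk, Fin.succ_mk] at h2
      omega
  have := hall s.length le_rfl
  rw [← hdimM, hD, ← this, show (⟨s.length, Nat.lt_succ_self _⟩ : Fin (s.length + 1)) = Fin.last _ from rfl]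
  rw [show f (s (Fin.last _)) = 0 from hlast', zero_add]

end Groth.Agent.S2084
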