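import Groth.Statements.S2088
import Groth.Agent.ResExt.Main

set_option autoImplicit false
universe u
open CAlg

namespace Groth.Agent.S2088

/-- Let `(R, 𝔪, k)` be a local ring and `K/k` a field extension. Then there is a flat local homomorphism
of local rings `R → R'` with `𝔪R' = 𝔪_{R'}` whose residue field is isomorphic to `K` over `k`. -/
theorem result {R K : Type u} [CommRing R] [IsLocalRing R] [Field K]
    [Algebra (IsLocalRing.ResidueField R) K] :
    ∃ (R' : Type u) (_ : CommRing R') (_ : IsLocalRing R') (_ : Algebra R R') (_ : IsLocalHom (algebraMap R R')),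
      Module.Flat R R' ∧ (IsLocalRing.maximalIdeal R).map (algebraMap R R') = IsLocalRing.maximalIdeal R' ∧
      Nonempty (IsLocalRing.ResidueField R' ≃ₐ[IsLocalRing.ResidueField R] K) := by
  classical
  letI : Algebra R K :=
    ((algebraMap (IsLocalRing.ResidueField R) K).comp (IsLocalRing.residue R)).toAlgebra
  have : IsScalarTower R (IsLocalRing.ResidueField R) K := IsScalarTower.of_algebraMap_eq fun _ => rfl
  obtain ⟨_, _⟩ := exists_wellFoundedLT K
  obtain ⟨E⟩ := (Groth.Agent.ResExt.Eqns.nonempty : Nonempty (Groth.Agent.ResExt.Eqns R K))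
  refine ⟨E.B, inferInstance, inferInstance, inferInstance, inferInstance, inferInstance,
    E.maximalIdeal_eq.symm, ⟨?_⟩⟩
  have hloc : IsLocalHom E.res.toRingHom := ⟨fun b hb => IsUnit.of_map E.res b hb⟩
  let ρ : IsLocalRing.ResidueField E.B →+* K := IsLocalRing.ResidueField.lift E.res.toRingHom
  refine AlgEquiv.ofBijective (AlgHom.mk ρ fun r => ?_)
    ⟨ρ.injective, fun y => ?_⟩
  · obtain ⟨a, rfl⟩ := IsLocalRing.residue_surjective r
    exact (E.res.commutes a)
  · obtain ⟨b, hb⟩ := E.res_surjective y
    exact ⟨IsLocalRing.residue E.B b, hb⟩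

end Groth.Agent.S2088
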