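import Groth.Statements.S2090
import Groth.Agent.DepthLib.Sk
import Mathlib.Algebra.Exact

set_option autoImplicit false
universe u
open CAlg

namespace Groth.Agent.S2090

/-- Let `R` be Noetherian and `φ : M → N` a map of `R`-modules with `M` finite. Suppose that for every
prime `𝔭` either `φ_𝔭` is bijective, or `M_𝔭` has depth at least two and `𝔭` is not an associated
prime of `N`. Then `φ` is bijective. -/
theorem result {R M N : Type u} [CommRing R] [IsNoetherianRing R] [AddCommGroup M]
    [Module R M] [Module.Finite R M] [AddCommGroup N] [Module R N] (φ : M →ₗ[R] N)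
    (h : ∀ (p : Ideal R) [p.IsPrime],
      Function.Bijective (LocalizedModule.map p.primeCompl φ) ∨
        (2 ≤ LocCoh.depth (Localization.AtPrime p) (LocalizedModule p.primeCompl M) ∧
          p ∉ associatedPrimes R N)) :
    Function.Bijective φ := by
  classical
  have hinj : Function.Injective φ := by
    rw [← LinearMap.ker_eq_bot]
    by_contra hne
    haveI : Nontrivial (LinearMap.ker φ) := Submodule.nontrivial_iff_ne_bot.mpr hne
    obtain ⟨p, hp⟩ := associatedPrimes.nonempty R (LinearMap.ker φ)
    haveI := IsAssociatedPrime.isPrime hp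
    rcases h p with hb | ⟨hd, -⟩
    · haveI : Nontrivial (LocalizedModule p.primeCompl (LinearMap.ker φ)) :=
        (DepthLib.nontrivial_localizedModule_iff (M := LinearMap.ker φ) (⟨p, inferInstance⟩ : PrimeSpectrum R)).mpr
          (DepthLib.mem_support_of_mem_associatedPrimes hp)
      obtain ⟨z, hz⟩ := exists_ne (0 : LocalizedModule p.primeCompl (LinearMap.ker φ))
      have hi := LocalizedModule.map_injective p.primeCompl (LinearMap.ker φ).subtype (Submodule.injective_subtype _)
      have hex := LocalizedModule.map_exact p.primeCompl _ _ (LinearMap.exact_subtype_ker_map φ)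
      exact hz (hi (hb.1 (by rw [map_zero, map_zero]; exact hex.apply_apply_eq_zero z)))
    · rw [DepthLib.depth_localization_eq_zero_of_mem_associatedPrimes p
        (associatedPrimes.subset_of_injective (Submodule.injective_subtype _) hp)] at hd
      exact absurd hd (by norm_num)
  refine ⟨hinj, LinearMap.range_eq_top.mp ?_⟩
  by_contra hne
  haveI : Nontrivial (N ⧸ LinearMap.range φ) := Submodule.Quotient.nontrivial_iff.mpr hne
  obtain ⟨p, hp⟩ := associatedPrimes.nonempty R (N ⧸ LinearMap.range φ)
  obtain ⟨hprime, z, hz⟩ := isAssociatedPrime_iff.mp hp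
  obtain ⟨z, rfl⟩ := Submodule.Quotient.mk_surjective _ z
  let N' : Submodule R N := LinearMap.range φ ⊔ R ∙ z
  haveI : Module.Finite R N' :=
    Module.Finite.iff_fg.mpr ((Module.Finite.iff_fg.mp inferInstance).sup (Submodule.fg_span_singleton z))
  let f : M →ₗ[R] N' := φ.codRestrict N' fun m => Submodule.mem_sup_left ⟨m, rfl⟩
  let g := (LinearMap.range f).mkQ
  have hf : Function.Injective f := fun a b hab => hinj (congrArg Subtype.val hab)
  let z' : N' := ⟨z, Submodule.mem_sup_right (Submodule.mem_span_singleton_self z)⟩
  have hpC : p ∈ associatedPrimes R (N' ⧸ LinearMap.range f) := by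
    refine isAssociatedPrime_iff.mpr ⟨hprime, g z', ?_⟩
    rw [hz]
    ext a
    simp only [Submodule.mem_colon_singleton, Submodule.mem_bot, g, Submodule.mkQ_apply,
      ← Submodule.Quotient.mk_smul, Submodule.Quotient.mk_eq_zero, LinearMap.mem_range]
    exact exists_congr fun m => ⟨fun hm => Subtype.ext hm, fun hm => congrArg Subtype.val hm⟩
  rcases h p with hb | ⟨hd, hpN⟩
  · obtain ⟨w, hw⟩ := hb.2 (LocalizedModule.mk z 1)
    induction w using LocalizedModule.induction_on with
    | h m t =>
      rw [LocalizedModule.map_mk, LocalizedModule.mk_eq] at hw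
      obtain ⟨v, hv⟩ := hw
      simp only [Submonoid.smul_def, Submonoid.coe_one, one_smul] at hv
      have hmem : (v : R) * (t : R) ∈ p := by
        refine (SetLike.ext_iff.mp hz _).mpr ?_
        rw [Submodule.mem_colon_singleton, Submodule.mem_bot, ← Submodule.Quotient.mk_smul,
          Submodule.Quotient.mk_eq_zero]
        exact ⟨(v : R) • m, by rw [map_smul, mul_smul]; exact hv⟩
      exact (hprime.mem_or_mem hmem).elim v.2 t.2
  · have hN' : 1 ≤ LocCoh.depth (Localization.AtPrime p) (LocalizedModule p.primeCompl N') := by
      rw [Order.one_le_iff_pos, pos_iff_ne_zero, ne_eq, DepthLib.depth_localization_eq_zero_iff]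
      exact fun hh => hpN (associatedPrimes.subset_of_injective N'.injective_subtype hh)
    have := DepthLib.natCast_le_idealDepth_right (n := 1) (f := LocalizedModule.map p.primeCompl f)
      (g := LocalizedModule.map p.primeCompl g) (LocalizedModule.map_injective _ _ hf)
      (LocalizedModule.map_surjective _ _ (Submodule.mkQ_surjective _))
      (LocalizedModule.map_exact _ _ _ f.exact_map_mkQ_range)
      (by exact_mod_cast hN') (by exact_mod_cast hd)
    rw [← LocCoh.depth, DepthLib.depth_localization_eq_zero_of_mem_associatedPrimes p hpC] at this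
    exact absurd this (by norm_num)

end Groth.Agent.S2090
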