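import Groth.Statements.S2093
import Groth.Agent.GRing17.ReducedCompletion
-- import your own Groth.Agent.* helpers here

set_option autoImplicit false
universe u
open CAlg

namespace Groth.Agent.S2093

/-- Let `(R, 𝔪)` be a Noetherian local domain and `x ∈ 𝔪` nonzero such that `R/xR` has no embedded
associated primes, and for every associated prime `𝔭` of `R/xR` the local ring `R_𝔭` is regular and
the completion of `R/𝔭` is reduced. Then the completion of `R` is reduced. -/
theorem result {R : Type u} [CommRing R] [IsDomain R] [IsLocalRing R]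
    [IsNoetherianRing R] (x : R) (hx : x ≠ 0) (hxm : x ∈ IsLocalRing.maximalIdeal R)
    (hemb : ∀ p ∈ associatedPrimes R (R ⧸ Ideal.span {x}), p ∈ (Ideal.span {x}).minimalPrimes)
    (hreg : ∀ p ∈ associatedPrimes R (R ⧸ Ideal.span {x}), ∀ (_ : p.IsPrime),
      IsRegularLocalRing (Localization.AtPrime p) ∧
        IsReduced (AdicCompletion ((IsLocalRing.maximalIdeal R).map (Ideal.Quotient.mk p)) (R ⧸ p))) :
    IsReduced (AdicCompletion (IsLocalRing.maximalIdeal R) R) := by
  have hreg' : IsSMulRegular R x := IsSMulRegular.of_ne_zero hx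
  refine GRing17.isReduced_completion_of_colonPrimes_regular hreg' hxm fun P _ hP => ?_
  have hass := GRing17.mem_associatedPrimes_of_isColonPrime hP
  have hmin := hemb P hass
  have hxP : x ∈ P := hmin.1.2 (Ideal.mem_span_singleton_self x)
  obtain ⟨hR, hred⟩ := hreg P hass inferInstance
  have := hR
  have hdim : ringKrullDim (Localization.AtPrime P) ≤ 1 := by
    rw [IsLocalization.AtPrime.ringKrullDim_eq_height P (Localization.AtPrime P)]
    exact_mod_cast Ideal.height_le_one_of_isPrincipal_of_mem_minimalPrimes _ P hmin
  have hne : ¬ IsField (Localization.AtPrime P) := fun hF => by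
    have h1 := IsLocalRing.isField_iff_maximalIdeal_eq.mp hF
    have h2 := (IsLocalization.AtPrime.to_map_mem_maximal_iff (Localization.AtPrime P) P x).mpr hxP
    rw [h1, Submodule.mem_bot] at h2
    exact hx (IsLocalization.injective (Localization.AtPrime P) P.primeCompl_le_nonZeroDivisors (h2.trans (map_zero _).symm))
  have := SmoothDense.isDiscreteValuationRing_of_regular _ hdim hne
  refine ⟨GRing17.exists_regular_uniformizer hreg' P hxP, fun {inst} => ?_⟩
  rwa [← IsLocalRing.map_maximalIdeal_of_surjective (Ideal.Quotient.mk P) Ideal.Quotient.mk_surjective]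

end Groth.Agent.S2093
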