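import Groth.Statements.S2094
import Mathlib
-- import your own Groth.Agent.* helpers here

set_option autoImplicit false
universe u
open CAlg

namespace Groth.Agent.S2094

/-- The symmetric algebra of an `A`-module is a smooth `A`-algebra exactly when the module is finite
projective. -/
theorem result {A M : Type u} [CommRing A] [AddCommGroup M] [Module A M] :
    Algebra.Smooth A (SymmetricAlgebra A M) ↔ Module.Finite A M ∧ Module.Projective A M := by
  classical
  constructor
  · intro hsm
    haveI : Algebra.FormallySmooth A (SymmetricAlgebra A M) := hsm.formallySmooth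
    haveI : Algebra.FinitePresentation A (SymmetricAlgebra A M) := hsm.finitePresentation
    letI : Module Aᵐᵒᵖ M := Module.compHom _ ((RingHom.id A).fromOpposite mul_comm)
    haveI : IsCentralScalar A M := ⟨fun _ _ => rfl⟩
    let φ : SymmetricAlgebra A M →ₐ[A] TrivSqZeroExt A M := SymmetricAlgebra.lift (TrivSqZeroExt.inrHom A M)
    have hφ : ∀ m, φ (SymmetricAlgebra.ι A M m) = TrivSqZeroExt.inr m := fun m => SymmetricAlgebra.lift_ι_apply _ m
    refine ⟨?_, ?_⟩
    · obtain ⟨s, hs⟩ := (inferInstance : Algebra.FiniteType A (SymmetricAlgebra A M)).out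
      refine ⟨⟨s.image (fun x => TrivSqZeroExt.snd (φ x)), ?_⟩⟩
      rw [Finset.coe_image, eq_top_iff]
      intro m _
      have key : ∀ x ∈ Algebra.adjoin A (s : Set (SymmetricAlgebra A M)),
          TrivSqZeroExt.snd (φ x) ∈ Submodule.span A ((fun x => TrivSqZeroExt.snd (φ x)) '' (s : Set _)) := by
        intro x hx
        induction hx using Algebra.adjoin_induction with
        | mem x hx => exact Submodule.subset_span ⟨x, hx, rfl⟩
        | algebraMap r => simp [TrivSqZeroExt.algebraMap_eq_inl']
        | add x y _ _ hx hy => rw [map_add, TrivSqZeroExt.snd_add]; exact add_mem hx hy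
        | mul x y _ _ hx hy =>
          rw [map_mul, TrivSqZeroExt.snd_mul, op_smul_eq_smul]
          exact add_mem (Submodule.smul_mem _ _ hy) (Submodule.smul_mem _ _ hx)
      have := key (SymmetricAlgebra.ι A M m) (by rw [hs]; trivial)
      rwa [hφ, TrivSqZeroExt.snd_inr] at this
    · refine Module.Projective.of_lifting_property fun {N} {P} _ _ _ _ g f hg => ?_
      letI : Module Aᵐᵒᵖ N := Module.compHom _ ((RingHom.id A).fromOpposite mul_comm)
      haveI : IsCentralScalar A N := ⟨fun _ _ => rfl⟩
      letI : Module Aᵐᵒᵖ P := Module.compHom _ ((RingHom.id A).fromOpposite mul_comm)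
      haveI : IsCentralScalar A P := ⟨fun _ _ => rfl⟩
      let G : TrivSqZeroExt A N →ₐ[A] TrivSqZeroExt A P := TrivSqZeroExt.map g
      have hGf : ∀ x, (G x).fst = x.fst := fun x => by
        induction x using TrivSqZeroExt.ind with
        | inl_add_inr a m => simp [G, TrivSqZeroExt.map_inl, TrivSqZeroExt.map_inr]
      have hGs : ∀ x, (G x).snd = g x.snd := fun x => by
        induction x using TrivSqZeroExt.ind with
        | inl_add_inr a m => simp [G, TrivSqZeroExt.map_inl, TrivSqZeroExt.map_inr]
      have hG : Function.Surjective G := fun x => by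
        obtain ⟨n, hn⟩ := hg x.snd
        exact ⟨TrivSqZeroExt.inl x.fst + TrivSqZeroExt.inr n, by
          ext
          · rw [hGf]; simp
          · rw [hGs]; simp [hn]⟩
      have hnil : IsNilpotent (RingHom.ker G) := by
        refine ⟨2, ?_⟩
        rw [pow_two, Ideal.zero_eq_bot, eq_bot_iff, Ideal.mul_le]
        intro a ha b hb
        have h1 : a.fst = 0 := by rw [← hGf, RingHom.mem_ker.1 ha]; simp
        have h2 : b.fst = 0 := by rw [← hGf, RingHom.mem_ker.1 hb]; simp
        rw [Ideal.mem_bot]
        ext <;> simp [h1, h2]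
      let ψ := SymmetricAlgebra.lift ((TrivSqZeroExt.inrHom A P).comp f)
      let L := Algebra.FormallySmooth.liftOfSurjective ψ G hG hnil
      refine ⟨{ toFun := fun m => (L (SymmetricAlgebra.ι A M m)).snd
                map_add' := fun a b => by simp
                map_smul' := fun r a => by simp }, ?_⟩
      refine LinearMap.ext fun m => ?_
      show g (L (SymmetricAlgebra.ι A M m)).snd = f m
      rw [← hGs, Algebra.FormallySmooth.liftOfSurjective_apply]
      simp [ψ]
  · rintro ⟨hfin, hproj⟩
    haveI := hfin
    haveI := hproj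
    haveI : Algebra.FormallySmooth A (SymmetricAlgebra A M) := by
      refine Algebra.FormallySmooth.of_comp_surjective fun B _ _ I _ g => ?_
      obtain ⟨l, hl⟩ := Module.projective_lifting_property (Ideal.Quotient.mkₐ A I).toLinearMap
        (g.toLinearMap.comp (SymmetricAlgebra.ι A M)) (Ideal.Quotient.mkₐ_surjective A I)
      refine ⟨SymmetricAlgebra.lift l, SymmetricAlgebra.algHom_ext ?_⟩
      refine LinearMap.ext fun m => ?_
      have := LinearMap.congr_fun hl m
      simpa [SymmetricAlgebra.lift_ι_apply] using this
    haveI : Algebra.FinitePresentation A (SymmetricAlgebra A M) := by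
      obtain ⟨n, f, hf⟩ := Module.Finite.exists_fin' A M
      obtain ⟨s, hs⟩ := Module.projective_lifting_property f LinearMap.id hf
      let e : Fin n → M := fun i => f (Pi.single i 1)
      let r : MvPolynomial (Fin n) A →ₐ[A] SymmetricAlgebra A M :=
        MvPolynomial.aeval fun i => SymmetricAlgebra.ι A M (e i)
      let lin : (Fin n → A) →ₗ[A] MvPolynomial (Fin n) A := Fintype.linearCombination A MvPolynomial.X
      let σ : SymmetricAlgebra A M →ₐ[A] MvPolynomial (Fin n) A := SymmetricAlgebra.lift (lin.comp s)
      have hrlin : r.toLinearMap.comp lin = (SymmetricAlgebra.ι A M).comp f := by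
        refine (Pi.basisFun A (Fin n)).ext fun i => ?_
        simp [lin, r, e]
      have hrσ : r.comp σ = AlgHom.id A _ := by
        refine SymmetricAlgebra.algHom_ext (LinearMap.ext fun m => ?_)
        show r (σ (SymmetricAlgebra.ι A M m)) = SymmetricAlgebra.ι A M m
        rw [show σ (SymmetricAlgebra.ι A M m) = lin (s m) from SymmetricAlgebra.lift_ι_apply _ m]
        exact (LinearMap.congr_fun hrlin (s m)).trans (congrArg (SymmetricAlgebra.ι A M) (LinearMap.congr_fun hs m))
      have hsurj : Function.Surjective r := fun x => ⟨σ x, AlgHom.congr_fun hrσ x⟩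
      let J : Ideal (MvPolynomial (Fin n) A) :=
        Ideal.span (Set.range fun i => MvPolynomial.X i - σ (r (MvPolynomial.X i)))
      have hJ : RingHom.ker r.toRingHom = J := by
        refine le_antisymm (fun x hx => ?_) (Ideal.span_le.2 ?_)
        · have hd : (Ideal.Quotient.mkₐ A J).comp (σ.comp r) = Ideal.Quotient.mkₐ A J := by
            refine MvPolynomial.algHom_ext fun i => ?_
            simp only [AlgHom.comp_apply, Ideal.Quotient.mkₐ_eq_mk]
            exact (Ideal.Quotient.eq.2 (show MvPolynomial.X i - σ (r (MvPolynomial.X i)) ∈ J from Ideal.subset_span ⟨i, rfl⟩)).symm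
          rw [← Ideal.Quotient.eq_zero_iff_mem, ← Ideal.Quotient.mkₐ_eq_mk A, ← hd]
          have hx' : r x = 0 := hx
          simp [hx']
        · rintro _ ⟨i, rfl⟩
          rw [SetLike.mem_coe, RingHom.mem_ker]
          show r (MvPolynomial.X i - σ (r (MvPolynomial.X i))) = 0
          rw [map_sub, sub_eq_zero]
          exact (AlgHom.congr_fun hrσ _).symm
      refine Algebra.FinitePresentation.of_surjective hsurj ?_
      rw [hJ]
      exact ⟨(Set.finite_range _).toFinset, by rw [Set.Finite.coe_toFinset]⟩
    exact ⟨inferInstance, inferInstance⟩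

end Groth.Agent.S2094
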