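import Groth.Statements.S2095
import Mathlib.RingTheory.TensorProduct.Quotient
import Mathlib.Tactic.LinearCombination

set_option autoImplicit false
universe u
open CAlg

namespace Groth.Agent.S2095

open TensorProduct in
/-- Let `R → S` be a ring map, `𝔫 ⊆ S` an ideal and `R → R'` a ring map admitting an `R`-linear
retraction. If `R' → R' ⊗ S` is formally smooth for the adic topology of the extension of `𝔫`, then
`R → S` is formally smooth for the `𝔫`-adic topology. -/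
theorem result {R S R' : Type u} [CommRing R] [CommRing S] [Algebra R S]
    (𝔫 : Ideal S) [CommRing R'] [Algebra R R'] (ρ : R' →ₗ[R] R) (hρ : ∀ r : R, ρ (algebraMap R R' r) = r)
    (h : CAlgX.IsAdicFormallySmooth R' (R' ⊗[R] S)
      (𝔫.map (Algebra.TensorProduct.includeRight : S →ₐ[R] R' ⊗[R] S))) :
    CAlgX.IsAdicFormallySmooth R S 𝔫 := by
  intro E _ _ N hN ψ hψ
  obtain ⟨k, hk⟩ := hψ
  let i : E →ₐ[R] R' ⊗[R] E := Algebra.TensorProduct.includeRight
  let N' : Ideal (R' ⊗[R] E) := N.map i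
  have hN' : N' ^ 2 = ⊥ := by rw [← Ideal.map_pow, hN, Ideal.map_bot]
  let q : E ⧸ N →ₐ[R] (R' ⊗[R] E) ⧸ N' :=
    Ideal.Quotient.liftₐ _ ((Ideal.Quotient.mkₐ R N').comp i) fun e he =>
      Ideal.Quotient.eq_zero_iff_mem.mpr (Ideal.mem_map_of_mem i he)
  let ψ' : R' ⊗[R] S →ₐ[R'] (R' ⊗[R] E) ⧸ N' :=
    Algebra.TensorProduct.lift (Algebra.ofId R' _) (q.comp ψ) fun x y => Commute.all _ _
  have hψ' : ∀ s, ψ' ((1 : R') ⊗ₜ[R] s) = q (ψ s) := fun s => by
    show Algebra.TensorProduct.lift _ _ _ _ = _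
    rw [Algebra.TensorProduct.lift_tmul, map_one, one_mul]
    rfl
  obtain ⟨χ, hχ⟩ := h (R' ⊗[R] E) N' hN' ψ' ⟨k, fun x hx => by
    have hle : (𝔫.map (Algebra.TensorProduct.includeRight : S →ₐ[R] R' ⊗[R] S)) ^ k ≤ RingHom.ker ψ' := by
      rw [← Ideal.map_pow, Ideal.map_le_iff_le_comap]
      intro s hs
      rw [Ideal.mem_comap, RingHom.mem_ker]
      exact (hψ' s).trans (by rw [hk s hs, map_zero])
    exact hle hx⟩
  let r : R' ⊗[R] E →ₗ[R] E := TensorProduct.lift ((LinearMap.lsmul R E).comp ρ)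
  have hr : ∀ a e, r (a ⊗ₜ[R] e) = ρ a • e := fun a e => rfl
  have hri : ∀ e y, r (i e * y) = e * r y := fun e y => by
    induction y using TensorProduct.induction_on with
    | zero => simp
    | add a b ha hb => rw [mul_add, map_add, map_add, ha, hb, mul_add]
    | tmul a c =>
      show r (((1 : R') ⊗ₜ[R] e) * (a ⊗ₜ[R] c)) = _
      rw [Algebra.TensorProduct.tmul_mul_tmul, one_mul, hr, hr, mul_smul_comm]
  have hri' : ∀ e, r (i e) = e := fun e => by
    show r ((1 : R') ⊗ₜ[R] e) = e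
    rw [hr, ← map_one (algebraMap R R'), hρ, one_smul]
  have hrN : ∀ n ∈ N', r n ∈ N := fun n hn => by
    refine Submodule.span_induction (p := fun n _ => ∀ y, r (y * n) ∈ N) ?_ ?_ ?_ ?_ hn 1 |> (one_mul n ▸ ·)
    · rintro _ ⟨e, he, rfl⟩ y
      rw [mul_comm, hri]
      exact N.mul_mem_right _ he
    · intro y; rw [mul_zero, map_zero]; exact zero_mem _
    · intro a b _ _ ha hb y; rw [mul_add, map_add]; exact add_mem (ha y) (hb y)
    · intro c a _ ha y; rw [smul_eq_mul, ← mul_assoc]; exact ha _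
  have hN0 : ∀ {a b : R' ⊗[R] E}, a ∈ N' → b ∈ N' → a * b = 0 := fun {a b} ha hb => by
    rw [← Ideal.mem_bot, ← hN', pow_two]
    exact Ideal.mul_mem_mul ha hb
  have hE0 : ∀ {a b : E}, a ∈ N → b ∈ N → a * b = 0 := fun {a b} ha hb => by
    rw [← Ideal.mem_bot, ← hN, pow_two]
    exact Ideal.mul_mem_mul ha hb
  let s : S →ₗ[R] E :=
    r.comp ((χ.restrictScalars R).toLinearMap.comp (Algebra.TensorProduct.includeRight : S →ₐ[R] R' ⊗[R] S).toLinearMap)
  have hs : ∀ x, ∃ e d, Ideal.Quotient.mk N e = ψ x ∧ d ∈ N' ∧ χ ((1 : R') ⊗ₜ[R] x) = i e + d := fun x => by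
    obtain ⟨e, he⟩ := Ideal.Quotient.mk_surjective (ψ x)
    refine ⟨e, χ ((1 : R') ⊗ₜ[R] x) - i e, he, ?_, (add_sub_cancel _ _).symm⟩
    rw [← Ideal.Quotient.eq, show Ideal.Quotient.mk N' (χ ((1 : R') ⊗ₜ[R] x)) = ψ' ((1 : R') ⊗ₜ[R] x) from
      DFunLike.congr_fun hχ _, hψ', ← he]
    rfl
  have hs1 : s 1 = 1 := by
    show r (χ ((1 : R') ⊗ₜ[R] (1 : S))) = 1
    rw [← Algebra.TensorProduct.one_def, map_one, ← map_one i, hri']
  refine ⟨AlgHom.ofLinearMap s hs1 fun x y => ?_, AlgHom.ext fun x => ?_⟩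
  · obtain ⟨e, d, -, hd, hx⟩ := hs x
    obtain ⟨e', d', -, hd', hy⟩ := hs y
    show r (χ ((1 : R') ⊗ₜ[R] (x * y))) = r (χ ((1 : R') ⊗ₜ[R] x)) * r (χ ((1 : R') ⊗ₜ[R] y))
    rw [show (1 : R') ⊗ₜ[R] (x * y) = ((1 : R') ⊗ₜ[R] x) * ((1 : R') ⊗ₜ[R] y) by
      rw [Algebra.TensorProduct.tmul_mul_tmul, one_mul], map_mul, hx, hy,
      show (i e + d) * (i e' + d') = i (e * e') + (i e * d' + i e' * d) by
        rw [map_mul]; linear_combination hN0 hd hd']
    simp only [map_add r, hri, hri']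
    linear_combination (-1 : E) * hE0 (hrN d hd) (hrN d' hd')
  · obtain ⟨e, d, he, hd, hx⟩ := hs x
    show Ideal.Quotient.mk N (r (χ ((1 : R') ⊗ₜ[R] x))) = ψ x
    rw [hx, map_add r, hri', map_add, Ideal.Quotient.eq_zero_iff_mem.mpr (hrN d hd), add_zero, he]

end Groth.Agent.S2095
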