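import Mathlib
import Groth.Statements.S2097
-- import your own Groth.Agent.* helpers here

set_option autoImplicit false
universe u
open CAlg

namespace Groth.Agent.S2097

/-- Let `R → S` be smooth, `A` an `R`-algebra and `I ⊆ A` an ideal all of whose elements are nilpotent.
Every `R`-algebra map `S → A/I` lifts to an `R`-algebra map `S → A`. -/
theorem result {R S A : Type u} [CommRing R] [CommRing S] [Algebra R S] [Algebra.Smooth R S]
    [CommRing A] [Algebra R A] (I : Ideal A) (hI : ∀ x ∈ I, IsNilpotent x) (g : S →ₐ[R] A ⧸ I) :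
    ∃ f : S →ₐ[R] A, (Ideal.Quotient.mkₐ R I).comp f = g := by
  classical
  obtain ⟨n, π, hπ, hfg⟩ := Algebra.FinitePresentation.out (R := R) (A := S)
  obtain ⟨t, ht⟩ := hfg
  choose a ha using fun i : Fin n => Ideal.Quotient.mk_surjective (g (π (MvPolynomial.X i)))
  let l : MvPolynomial (Fin n) R →ₐ[R] A := MvPolynomial.aeval a
  have hl : (Ideal.Quotient.mkₐ R I).comp l = g.comp π := MvPolynomial.algHom_ext fun i => by simp [l, ha]
  let I₀ : Ideal A := Ideal.span (l '' t)
  have hI₀ : I₀ ≤ I := Ideal.span_le.mpr fun _ ⟨x, hx, e⟩ => by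
    subst e
    have h0 : π x = 0 := (ht ▸ Ideal.subset_span hx : x ∈ RingHom.ker π.toRingHom)
    rw [SetLike.mem_coe, ← Ideal.Quotient.eq_zero_iff_mem]
    exact (AlgHom.congr_fun hl x).trans (by simp [h0])
  have hnil : IsNilpotent I₀ := by
    refine Ideal.FG.isNilpotent_iff_le_nilradical (Submodule.fg_span (t.finite_toSet.image l)) |>.mpr fun x hx => ?_
    exact hI x (hI₀ hx)
  have hker : RingHom.ker π.toRingHom ≤ RingHom.ker ((Ideal.Quotient.mkₐ R I₀).comp l).toRingHom := by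
    rw [← ht]
    exact Ideal.span_le.mpr fun x hx => Ideal.Quotient.eq_zero_iff_mem.mpr (Ideal.subset_span ⟨x, hx, rfl⟩)
  let g' : S →ₐ[R] A ⧸ I₀ := AlgHom.liftOfSurjective π hπ ((Ideal.Quotient.mkₐ R I₀).comp l) hker
  obtain ⟨f, hf⟩ := Algebra.FormallySmooth.exists_lift I₀ hnil g'
  refine ⟨f, AlgHom.ext fun s => ?_⟩
  obtain ⟨x, rfl⟩ := hπ s
  have h1 : f (π x) - l x ∈ I₀ := Ideal.Quotient.eq.mp ((AlgHom.congr_fun hf (π x)).trans (AlgHom.liftOfSurjective_apply π hπ _ hker x))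
  exact (Ideal.Quotient.eq.mpr (hI₀ h1)).trans (AlgHom.congr_fun hl x)

end Groth.Agent.S2097
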