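import Groth.Statements.S2098
import Mathlib

set_option autoImplicit false
universe u
open CAlg

namespace Groth.Agent.S2098

/-- Let `R` be Noetherian, `I` an ideal inside the Jacobson radical and `u : N → M` a map of finite
`R`-modules. If for arbitrarily large `n` the induced map `N/IⁿN → M/IⁿM` has a left inverse, then
`u` has a left inverse. -/
theorem result {R M N : Type u} [CommRing R] [IsNoetherianRing R] (I : Ideal R)
    (hI : I ≤ (⊥ : Ideal R).jacobson) [AddCommGroup M] [Module R M] [Module.Finite R M] [AddCommGroup N] [Module R N]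
    [Module.Finite R N] (u : N →ₗ[R] M)
    (h : ∀ n₀ : ℕ, ∃ n, n₀ ≤ n ∧ ∃ s : (M ⧸ (I ^ n) • (⊤ : Submodule R M)) →ₗ[R] (N ⧸ (I ^ n) • (⊤ : Submodule R N)),
      ∀ x : N, s (Submodule.Quotient.mk (u x)) = Submodule.Quotient.mk x) :
    ∃ s : M →ₗ[R] N, s.comp u = LinearMap.id := by
  classical
  -- pi-type membership
  have hpi : ∀ (p : ℕ) (J : Ideal R) (v : Fin p → N), (∀ j, v j ∈ J • (⊤ : Submodule R N)) →
      v ∈ J • (⊤ : Submodule R (Fin p → N)) := by
    intro p J v hv
    rw [show v = ∑ j, LinearMap.single R (fun _ : Fin p => N) j (v j) from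
      (Finset.univ_sum_single v).symm]
    refine Submodule.sum_mem _ fun j _ => ?_
    have := Submodule.mem_map_of_mem (f := LinearMap.single R (fun _ : Fin p => N) j) (hv j)
    rw [Submodule.map_smul''] at this
    exact Submodule.smul_mono le_rfl le_top this
  obtain ⟨a, π, hπ⟩ := Module.Finite.exists_fin' R M
  obtain ⟨b, ρ, hρ⟩ := (Submodule.fg_iff_exists_fin_linearMap R _).1 (IsNoetherian.noetherian (LinearMap.ker π))
  obtain ⟨p, γ, hγ⟩ := Module.Finite.exists_fin' R N
  let J : (N →ₗ[R] N) →ₗ[R] (Fin p → N) :=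
    LinearMap.pi fun i => LinearMap.applyₗ (γ (Pi.single i 1))
  have hJ : Function.Injective J := fun e e' he => LinearMap.ext fun y => by
    obtain ⟨v, rfl⟩ := hγ y
    rw [pi_eq_sum_univ' v]
    simp only [map_sum, map_smul]
    exact Finset.sum_congr rfl fun i _ => congrArg (v i • ·) (congrFun he i)
  haveI : IsNoetherian R (N →ₗ[R] N) := isNoetherian_of_injective J hJ
  let P : Submodule R (N →ₗ[R] N) := LinearMap.range (LinearMap.lcomp R N u : (M →ₗ[R] N) →ₗ[R] _)
  -- Artin-Rees
  let Φ : (Fin a → N) →ₗ[R] (Fin b → N) :=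
    LinearMap.pi fun j => ∑ i, ρ (Pi.single j 1) i • LinearMap.proj i
  obtain ⟨c, hc⟩ := Ideal.exists_pow_inf_eq_pow_smul I (LinearMap.range Φ)
  obtain ⟨c', hc'⟩ := Ideal.exists_pow_inf_eq_pow_smul I (LinearMap.range J)
  have key : ∀ k, (LinearMap.id : N →ₗ[R] N) ∈ P ⊔ I ^ k • ⊤ := by
    intro k
    obtain ⟨n, hn, s, hs⟩ := h (k + c' + c)
    let t₀ : Fin a → N := fun i =>
      Function.surjInv (Submodule.mkQ_surjective _) (s (Submodule.Quotient.mk (π (Pi.single i 1))))
    let t : (Fin a → R) →ₗ[R] N := Fintype.linearCombination R t₀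
    have ht : ∀ v, Submodule.Quotient.mk (t v) = s (Submodule.Quotient.mk (π v)) := by
      intro v
      conv_rhs => rw [pi_eq_sum_univ' v]
      simp only [t, Fintype.linearCombination_apply, map_sum, map_smul,
        ← Submodule.mkQ_apply]
      exact Finset.sum_congr rfl fun i _ => congrArg (v i • ·) (Function.surjInv_eq _ _)
    have hρt : ∀ j, Φ t₀ j = t (ρ (Pi.single j 1)) := fun j => by
      simp [Φ, t, Fintype.linearCombination_apply]
    have hmem : Φ t₀ ∈ I ^ n • ⊤ ⊓ LinearMap.range Φ := by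
      refine ⟨hpi _ _ _ fun j => ?_, LinearMap.mem_range_self _ _⟩
      rw [hρt, ← Submodule.Quotient.mk_eq_zero, ht]
      have : π (ρ (Pi.single j 1)) = 0 :=
        LinearMap.mem_ker.1 (hρ ▸ LinearMap.mem_range_self ρ _)
      rw [this, Submodule.Quotient.mk_zero, map_zero]
    rw [hc n (by omega)] at hmem
    have hmem' : Φ t₀ ∈ Submodule.map Φ (I ^ (n - c) • ⊤) := by
      rw [Submodule.map_smul'', Submodule.map_top]
      exact Submodule.smul_mono le_rfl inf_le_right hmem
    obtain ⟨δ, hδ, hδΦ⟩ := hmem'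
    let t' : (Fin a → R) →ₗ[R] N := Fintype.linearCombination R (t₀ - δ)
    have ht' : LinearMap.ker π ≤ LinearMap.ker t' := by
      rw [← hρ]
      rintro _ ⟨w, rfl⟩
      rw [pi_eq_sum_univ' w, map_sum]
      refine Submodule.sum_mem _ fun j _ => ?_
      rw [map_smul]
      refine Submodule.smul_mem _ _ ?_
      have := congrFun hδΦ j
      simp only [Φ, LinearMap.pi_apply, LinearMap.sum_apply, LinearMap.smul_apply,
        LinearMap.proj_apply] at this
      simp [t', Fintype.linearCombination_apply, smul_sub, Finset.sum_sub_distrib, this]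
    let σ : M →ₗ[R] N := (Submodule.liftQ _ t' ht').comp
      (π.quotKerEquivOfSurjective hπ).symm.toLinearMap
    have hσ : ∀ v, σ (π v) = t' v := fun v => by
      have : (π.quotKerEquivOfSurjective hπ).symm (π v) = Submodule.Quotient.mk v := by
        rw [LinearEquiv.symm_apply_eq]; rfl
      simp [σ, this]
    have hdiff : ∀ v, t v - t' v ∈ I ^ (n - c) • (⊤ : Submodule R N) := by
      intro v
      have e : t v - t' v = (Fintype.linearCombination R δ : _ →ₗ[R] N) v := by
        simp [t, t', Fintype.linearCombination_apply, smul_sub, Finset.sum_sub_distrib]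
      rw [e, Fintype.linearCombination_apply]
      refine Submodule.sum_mem _ fun i _ => Submodule.smul_mem _ _ ?_
      have := Submodule.mem_map_of_mem (f := LinearMap.proj (R := R) (φ := fun _ : Fin a => N) i) hδ
      rw [Submodule.map_smul''] at this
      exact Submodule.smul_mono le_rfl le_top this
    have hval : ∀ x, (LinearMap.id - σ.comp u : N →ₗ[R] N) x ∈
        I ^ (n - c) • (⊤ : Submodule R N) := by
      intro x
      obtain ⟨v, hv⟩ := hπ (u x)
      have h1 : t v - x ∈ I ^ n • (⊤ : Submodule R N) := by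
        rw [← Submodule.Quotient.eq, ht, hv, hs]
      have h2 := hdiff v
      have h3 : (LinearMap.id - σ.comp u : N →ₗ[R] N) x = (t v - t' v) - (t v - x) := by
        simp [← hv, hσ]
      rw [h3]
      exact Submodule.sub_mem _ h2
        (Submodule.smul_mono (Ideal.pow_le_pow_right (by omega)) le_rfl h1)
    have hJe : J (LinearMap.id - σ.comp u) ∈ I ^ (n - c) • ⊤ ⊓ LinearMap.range J :=
      ⟨hpi _ _ _ fun i => hval _, LinearMap.mem_range_self _ _⟩
    rw [hc' (n - c) (by omega)] at hJe
    have hJe' : J (LinearMap.id - σ.comp u) ∈ Submodule.map J (I ^ k • ⊤) := by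
      rw [Submodule.map_smul'', Submodule.map_top]
      exact Submodule.smul_mono (Ideal.pow_le_pow_right (by omega)) inf_le_right hJe
    obtain ⟨e', he', hJee⟩ := hJe'
    rw [hJ hJee] at he'
    exact Submodule.mem_sup.2 ⟨σ.comp u, ⟨σ, rfl⟩, _, he', add_sub_cancel _ _⟩
  have hzero : P.mkQ LinearMap.id ∈ (⨅ k : ℕ, I ^ k • ⊤ : Submodule R ((N →ₗ[R] N) ⧸ P)) := by
    rw [Submodule.mem_iInf]
    intro k
    have := Submodule.mem_map_of_mem (f := P.mkQ) (key k)
    rw [Submodule.map_sup, Submodule.map_smul'', Submodule.map_top, Submodule.range_mkQ,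
      show Submodule.map P.mkQ P = ⊥ by simp, bot_sup_eq] at this
    exact this
  rw [Ideal.iInf_pow_smul_eq_bot_of_le_jacobson I hI, Submodule.mem_bot, Submodule.mkQ_apply,
    Submodule.Quotient.mk_eq_zero] at hzero
  exact hzero

end Groth.Agent.S2098
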