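import Groth.Statements.S2100
import Groth.Agent.RefinedNN.Basic
import Groth.Agent.LocalDim.Affine
import Groth.Agent.DimTrdeg.Basic
-- import your own Groth.Agent.* helpers here

set_option autoImplicit false
universe u
open CAlg

namespace Groth.Agent.S2100

/-- Let `k` be a field, `𝔮` a prime of `k[x_1, …, x_n]` and `r` the transcendence degree of `κ(𝔮)` over
`k`. Then there is a finite `k`-algebra map `φ : k[y_1, …, y_n] → k[x_1, …, x_n]` with `φ⁻¹(𝔮) =
(y_{r+1}, …, y_n)`. -/
theorem result {k : Type u} [Field k] (n r : ℕ) (q : Ideal (MvPolynomial (Fin n) k))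
    [q.IsPrime] (hr : Algebra.trdeg k q.ResidueField = r) :
    ∃ φ : MvPolynomial (Fin n) k →ₐ[k] MvPolynomial (Fin n) k, φ.toRingHom.Finite ∧
      q.comap φ = Ideal.span (Set.range fun i : {i : Fin n // r ≤ (i : ℕ)} => MvPolynomial.X (i : Fin n)) := by
  obtain ⟨r', hr', φ, hfin, hcomap⟩ := Groth.Agent.RefinedNN.exists_normalization n q
  have hq := Groth.Agent.LocalDim.ringKrullDim_quotient_eq_trdeg k q r hr
  let ψ := Ideal.quotientMap q φ.toRingHom hcomap.ge
  letI := ψ.toAlgebra
  have hψ : Function.Injective ψ := Ideal.quotientMap_injective' hcomap.le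
  haveI : Module.Finite (MvPolynomial (Fin n) k ⧸ Groth.Agent.RefinedNN.tailIdeal k n r') (MvPolynomial (Fin n) k ⧸ q) := by
    show ψ.Finite
    refine RingHom.Finite.of_comp_finite (f := Ideal.Quotient.mk _) ?_
    have : ψ.comp (Ideal.Quotient.mk _) = (Ideal.Quotient.mk q).comp φ.toRingHom := RingHom.ext fun a => rfl
    rw [this]
    exact (RingHom.Finite.of_surjective _ Ideal.Quotient.mk_surjective).comp hfin
  have hdim := Groth.Agent.DimTrdeg.ringKrullDim_eq_of_isIntegral
    (MvPolynomial (Fin n) k ⧸ Groth.Agent.RefinedNN.tailIdeal k n r') (MvPolynomial (Fin n) k ⧸ q) hψ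
  rw [hq, Groth.Agent.RefinedNN.ringKrullDim_quot_tailIdeal k n r' hr'] at hdim
  obtain rfl : r = r' := by exact_mod_cast hdim
  exact ⟨φ, hfin, hcomap⟩

end Groth.Agent.S2100
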