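import Groth.Statements.S2101
import Mathlib
-- import your own Groth.Agent.* helpers here

set_option autoImplicit false
universe u
open CAlg

namespace Groth.Agent.S2101


open MvPolynomial

variable {R : Type u} [CommRing R] {r : ℕ} (f : Fin r → R)

/-- `f i` is regular modulo the `f j`, `j ∈ S`. -/
def RegAt (i : Fin r) (S : Set (Fin r)) : Prop :=
  ∀ a : R, f i * a ∈ Ideal.span (f '' S) → a ∈ Ideal.span (f '' S)

theorem isRegular_ofFn_iff {A : Type u} [CommRing A] (g : Fin r → A) :
    RingTheory.Sequence.IsRegular A (List.ofFn g) ↔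
      (∀ i : Fin r, RegAt g i {j | j < i}) ∧ Ideal.span (Set.range g) ≠ ⊤ := by
  have hset : ∀ k, Ideal.ofList ((List.ofFn g).take k) = Ideal.span (g '' {j | (j : ℕ) < k}) := by
    intro k
    refine congrArg Ideal.span (Set.ext fun x => ?_)
    simp only [Set.mem_setOf_eq, List.mem_take_iff_getElem, Set.mem_image, List.getElem_ofFn]
    constructor
    · rintro ⟨j, hj, rfl⟩
      exact ⟨⟨j, by simp at hj; omega⟩, by simp at hj ⊢; omega, rfl⟩
    · rintro ⟨j, hj, rfl⟩
      exact ⟨j, by simp; omega, rfl⟩
  rw [RingTheory.Sequence.isRegular_iff, RingTheory.Sequence.isWeaklyRegular_iff]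
  refine and_congr ⟨fun h i => ?_, fun h k hk => ?_⟩ ?_
  · intro a ha
    have := h i (by simp)
    rw [isSMulRegular_quotient_iff_mem_of_smul_mem] at this
    have h2 := this a
    simp only [smul_eq_mul, Ideal.mul_top, hset, List.getElem_ofFn] at h2
    exact h2 ha
  · rw [isSMulRegular_quotient_iff_mem_of_smul_mem]
    intro a
    simp only [smul_eq_mul, Ideal.mul_top, hset, List.getElem_ofFn]
    exact h ⟨k, by simpa using hk⟩ a
  · have : Ideal.ofList (List.ofFn g) = Ideal.span (Set.range g) :=
      congrArg Ideal.span (Set.ext fun x => by simp [List.mem_ofFn])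
    rw [smul_eq_mul, Ideal.mul_top, this, ne_comm]

theorem regAt_of_lt (h : ∀ (i : Fin r) (S : Set (Fin r)), (∀ j ∈ S, j < i) → RegAt f i S) :
    ∀ (S : Finset (Fin r)) (i : Fin r), i ∉ S → RegAt f i S := by
  intro S
  induction S using Finset.induction_on_max with
  | empty => intro i _; exact h i _ (by simp)
  | insert j S hj ih =>
    intro i hi
    simp only [Finset.mem_insert, not_or] at hi
    by_cases hji : j < i
    · refine h i _ fun k hk => ?_
      rcases Finset.mem_insert.1 hk with rfl | hk
      · exact hji
      · exact (hj k hk).trans hji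
    have hij : i < j := lt_of_le_of_ne (not_lt.1 hji) hi.1
    intro a ha
    rw [Finset.coe_insert, Set.image_insert_eq, Ideal.mem_span_insert] at ha ⊢
    obtain ⟨b, c, hc, habc⟩ := ha
    have hb : f j * b ∈ Ideal.span (f '' (insert i ↑S)) := by
      rw [Set.image_insert_eq, Ideal.mem_span_insert]
      exact ⟨a, -c, neg_mem hc, by linear_combination -habc⟩
    have hb' := h j (insert i ↑S) (by
      intro k hk
      rcases hk with rfl | hk
      · exact hij
      · exact hj k hk) b hb
    rw [Set.image_insert_eq, Ideal.mem_span_insert] at hb'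
    obtain ⟨d, c', hc', hbd⟩ := hb'
    refine ⟨d, a - d * f j, ih i hi.2 _ ?_, by ring⟩
    rw [show f i * (a - d * f j) = c + f j * c' by linear_combination habc + f j * hbd]
    exact add_mem hc (Ideal.mul_mem_left _ _ hc')

theorem forall_perm_iff :
    (∀ σ : Equiv.Perm (Fin r), ∀ i, RegAt (f ∘ σ) i {j | j < i}) ↔
      (∀ (i : Fin r) (S : Set (Fin r)), (∀ j ∈ S, j < i) → RegAt f i S) := by
  constructor
  · intro h i S hS
    classical
    let key : Fin r → ℕ := fun j => if j = i then 1 else if j ∈ S then 0 else 2
    let σ := Tuple.sort key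
    have hmono : Monotone (key ∘ σ) := Tuple.monotone_sort key
    have hk : σ '' {j | j < σ.symm i} = S := by
      ext x
      have hnot : ∀ y, y ∈ S → y ≠ i := fun y hy hyi => (lt_irrefl i) (hyi ▸ hS y hy)
      constructor
      · rintro ⟨j, hj, rfl⟩
        have h1 := hmono hj.le
        have h2 : σ j ≠ i := fun h0 => (ne_of_lt (show j < σ.symm i from hj)) (by rw [← h0, σ.symm_apply_apply])
        by_contra hx
        simp [key, h2, hx] at h1
      · intro hx
        refine ⟨σ.symm x, ?_, σ.apply_symm_apply x⟩
        by_contra hlt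
        have h1 := hmono (not_lt.1 hlt)
        simp [key, hnot x hx, hx] at h1
    intro a ha
    have := h σ (σ.symm i) a
    rw [Function.comp_apply, σ.apply_symm_apply, Set.image_comp, hk] at this
    exact this ha
  · intro h σ i
    classical
    have hset : f '' ↑((Finset.univ.filter fun j => j < i).image σ) = (f ∘ σ) '' {j | j < i} := by
      rw [Finset.coe_image, Set.image_comp]; simp
    have := regAt_of_lt f h ((Finset.univ.filter fun j => j < i).image σ) (σ i) (by simp)
    intro a ha
    have h2 := this a
    rw [hset] at h2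
    exact h2 ha

/-- The products `f i * X i`. -/
noncomputable abbrev prods : Fin r → MvPolynomial (Fin r) R := fun i => C (f i) * X i

/-- The coefficient ideal at exponent `e`. -/
def coefIdeal (i : Fin r) (e : Fin r →₀ ℕ) : Ideal R := Ideal.span (f '' {j | j < i ∧ e j ≠ 0})

theorem mem_span_prods_iff (i : Fin r) (p : MvPolynomial (Fin r) R) :
    p ∈ Ideal.span (prods f '' {j | j < i}) ↔ ∀ e, p.coeff e ∈ coefIdeal f i e := by
  classical
  constructor
  · intro hp
    induction hp using Submodule.span_induction with
    | mem q hq =>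
      obtain ⟨j, hj, rfl⟩ := hq
      intro e
      rw [prods, X, C_mul_monomial, coeff_monomial]
      split_ifs with he
      · rw [mul_one]; exact Ideal.subset_span ⟨j, ⟨hj, by rw [← he]; simp⟩, rfl⟩
      · exact zero_mem _
    | zero => intro e; simp
    | add a b _ _ ha hb => intro e; rw [coeff_add]; exact add_mem (ha e) (hb e)
    | smul c a _ ha =>
      intro e
      rw [smul_eq_mul, coeff_mul]
      refine Ideal.sum_mem _ fun uv huv => Ideal.mul_mem_left _ _ ?_
      refine Ideal.span_mono (Set.image_mono ?_) (ha uv.2)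
      intro j hj
      refine ⟨hj.1, ?_⟩
      have := congrArg (fun v : Fin r →₀ ℕ => v j) (Finset.HasAntidiagonal.mem_antidiagonal.1 huv)
      simp only [Finsupp.add_apply] at this
      have := hj.2
      omega
  · intro h
    rw [p.as_sum]
    refine Ideal.sum_mem _ fun e _ => ?_
    have he := h e
    generalize p.coeff e = c at he ⊢
    induction he using Submodule.span_induction with
    | mem x hx =>
      obtain ⟨j, ⟨hj, hej⟩, rfl⟩ := hx
      have : monomial e (f j) = monomial (e - Finsupp.single j 1) (1 : R) * prods f j := by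
        rw [prods, X, C_mul_monomial, monomial_mul, one_mul, mul_one]
        congr
        ext k
        by_cases hk : j = k
        · subst hk; simp; omega
        · simp [Finsupp.single_eq_of_ne (Ne.symm hk)]
      rw [this]
      exact Ideal.mul_mem_left _ _ (Ideal.subset_span ⟨j, hj, rfl⟩)
    | zero => simp
    | add a b _ _ ha hb => rw [map_add]; exact add_mem ha hb
    | smul c a _ ha => rw [smul_eq_mul, ← C_mul_monomial]; exact Ideal.mul_mem_left _ _ ha

theorem regAt_prods_iff (i : Fin r) :
    RegAt (prods f) i {j | j < i} ↔ ∀ (S : Set (Fin r)), (∀ j ∈ S, j < i) → RegAt f i S := by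
  classical
  have key : ∀ e, coefIdeal f i (e + Finsupp.single i 1) = coefIdeal f i e := by
    intro e
    refine congrArg Ideal.span (congrArg _ (Set.ext fun j => ?_))
    simp only [Set.mem_setOf_eq, and_congr_right_iff]
    intro hj
    simp [Finsupp.single_eq_of_ne hj.ne]
  constructor
  · intro h S hS a ha
    let e : Fin r →₀ ℕ := Finsupp.equivFunOnFinite.symm fun j => if j ∈ S then 1 else 0
    have hce : coefIdeal f i e = Ideal.span (f '' S) := by
      refine congrArg Ideal.span (congrArg _ (Set.ext fun j => ?_))
      by_cases hj : j ∈ S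
      · simp [e, hj, hS j hj]
      · simp [e, hj]
    have := (mem_span_prods_iff f i _).1 (h (monomial e a) ((mem_span_prods_iff f i _).2 fun e' => by
      rw [prods, X, C_mul_monomial, monomial_mul, mul_one, coeff_monomial]
      split_ifs with he
      · rw [← he, add_comm, key, hce]; exact ha
      · exact zero_mem _)) e
    rwa [coeff_monomial, if_pos rfl, hce] at this
  · intro h p hp
    rw [mem_span_prods_iff] at hp ⊢
    intro e
    have h1 := hp (e + Finsupp.single i 1)
    rw [key, prods, mul_assoc, coeff_C_mul, mul_comm (X i) p, coeff_mul_X] at h1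
    exact h {j | j < i ∧ e j ≠ 0} (fun j hj => hj.1) _ h1

theorem span_prods_ne_top (hf : Ideal.span (Set.range f) ≠ ⊤) : Ideal.span (Set.range (prods f)) ≠ ⊤ := by
  intro h
  have hle : Ideal.span (Set.range (prods f)) ≤ RingHom.ker (constantCoeff (R := R) (σ := Fin r)) := by
    rw [Ideal.span_le]
    rintro _ ⟨j, rfl⟩
    simp [prods]
  rw [h] at hle
  have h1 : constantCoeff (R := R) (σ := Fin r) 1 = 0 := hle Submodule.mem_top
  rw [map_one] at h1
  exact hf ((Ideal.eq_top_iff_one _).2 (h1.symm ▸ zero_mem _))


/-- For elements `f_1, …, f_r` generating a proper ideal, all reorderings are regular sequences in `R`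
if and only if the products `f_i x_i` form a regular sequence in `R[x_1, …, x_r]`. -/
theorem result {R : Type u} [CommRing R] {r : ℕ} (f : Fin r → R)
    (hf : Ideal.span (Set.range f) ≠ ⊤) :
    (∀ σ : Equiv.Perm (Fin r), RingTheory.Sequence.IsRegular R (List.ofFn (f ∘ σ))) ↔
      RingTheory.Sequence.IsRegular (MvPolynomial (Fin r) R)
        (List.ofFn fun i => MvPolynomial.C (f i) * MvPolynomial.X i) := by
  simp only [isRegular_ofFn_iff]
  have hr : ∀ σ : Equiv.Perm (Fin r), Set.range (f ∘ σ) = Set.range f := fun σ => σ.surjective.range_comp f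
  constructor
  · intro h
    exact ⟨fun i => (regAt_prods_iff f i).2 fun S hS => (forall_perm_iff f).1 (fun σ => (h σ).1) i S hS,
      span_prods_ne_top f hf⟩
  · rintro ⟨h, -⟩ σ
    exact ⟨(forall_perm_iff f).2 (fun i S hS => (regAt_prods_iff f i).1 (h i) S hS) σ, by rw [hr]; exact hf⟩

end Groth.Agent.S2101
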