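import Groth.Statements.S2102
import Mathlib
import Groth.Agent.NormalSect.Basic
-- import your own Groth.Agent.* helpers here

set_option autoImplicit false
universe u
open CategoryTheory AlgebraicGeometry
open Mor

namespace Groth.Agent.S2102

/-- The ring of global sections of an integral normal scheme is an integrally closed domain. -/
theorem result (X : Scheme.{u}) [IsIntegral X] (hX : Pi1.IsNormalScheme X) :
    IsIntegrallyClosed (Γ(X, ⊤) : Type u) := by
  haveI : Nonempty (⊤ : X.Opens) := ⟨⟨Nonempty.some inferInstance, trivial⟩⟩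
  rw [isIntegrallyClosed_iff (FractionRing Γ(X, ⊤))]
  intro x hx
  obtain ⟨a, b, hb, rfl⟩ := IsFractionRing.div_surjective Γ(X, ⊤) x
  obtain ⟨p, hp, hpx⟩ := hx
  let ι := {V : X.affineOpens // Nonempty (V.1 : X.Opens)}
  let res : ∀ V : ι, Γ(X, ⊤) →+* Γ(X, V.1.1) := fun V =>
    (X.presheaf.map (homOfLE (le_top : V.1.1 ≤ ⊤)).op).hom
  have hinj : ∀ (W : X.Opens) [Nonempty W],
      Function.Injective (X.presheaf.map (homOfLE (le_top : W ≤ ⊤)).op).hom := fun W _ =>
    AlgebraicGeometry.map_injective_of_isIntegral X (homOfLE (le_top : W ≤ ⊤))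
  have hloc : ∀ V : ι, ∃ t : Γ(X, V.1.1), t * res V b = res V a := by
    intro V
    haveI := V.2
    haveI := NormalSect.isIntegrallyClosed_section hX V.1.2
    have hri : Function.Injective (res V) := hinj _
    have hnz : nonZeroDivisors Γ(X, ⊤) ≤ (nonZeroDivisors Γ(X, V.1.1)).comap (res V) :=
      nonZeroDivisors_le_comap_nonZeroDivisors_of_injective _ hri
    let L : FractionRing Γ(X, ⊤) →+* FractionRing Γ(X, V.1.1) :=
      IsLocalization.map _ (res V) hnz
    have hL : ∀ c, L (algebraMap _ _ c) = algebraMap _ _ (res V c) :=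
      fun c => IsLocalization.map_eq hnz c
    have hint : IsIntegral Γ(X, V.1.1) (L (algebraMap _ _ a / algebraMap _ _ b)) := by
      refine ⟨p.map (res V), hp.map _, ?_⟩
      rw [Polynomial.eval₂_map, show (algebraMap Γ(X, V.1.1) _).comp (res V) =
        L.comp (algebraMap _ _) from RingHom.ext fun c => (hL c).symm, ← Polynomial.hom_eval₂, hpx,
        map_zero]
    obtain ⟨t, ht⟩ := IsIntegrallyClosed.isIntegral_iff.mp hint
    refine ⟨t, IsFractionRing.injective Γ(X, V.1.1) (FractionRing Γ(X, V.1.1)) ?_⟩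
    rw [map_mul, ht, map_div₀, hL, hL, div_mul_cancel₀]
    rw [Ne, FaithfulSMul.algebraMap_eq_zero_iff]
    exact fun h0 => nonZeroDivisors.ne_zero hb (hri (h0.trans (map_zero _).symm))
  choose t ht using hloc
  have hcov : (⊤ : X.Opens) ≤ iSup fun V : ι => V.1.1 := by
    intro y _
    obtain ⟨V, hV, hy, -⟩ := exists_isAffineOpen_mem_and_subset (x := y) (U := (⊤ : X.Opens)) trivial
    exact TopologicalSpace.Opens.mem_iSup.mpr ⟨⟨⟨V, hV⟩, ⟨⟨y, hy⟩⟩⟩, hy⟩
  have hcompat : TopCat.Presheaf.IsCompatible X.presheaf (fun V : ι => V.1.1) t := by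
    intro V W
    by_cases hne : Nonempty (V.1.1 ⊓ W.1.1 : X.Opens)
    · have e : ∀ (U : X.Opens) (i : V.1.1 ⊓ W.1.1 ⟶ U) (c : Γ(X, ⊤)),
          (X.presheaf.map i.op).hom ((X.presheaf.map (homOfLE (le_top : U ≤ ⊤)).op).hom c) =
            (X.presheaf.map (homOfLE (le_top : V.1.1 ⊓ W.1.1 ≤ ⊤)).op).hom c := fun U i c => by
        rw [← CommRingCat.comp_apply, ← Functor.map_comp]
        rfl
      have hbne : (X.presheaf.map (homOfLE (le_top : V.1.1 ⊓ W.1.1 ≤ ⊤)).op).hom b ≠ 0 :=
        fun h0 => nonZeroDivisors.ne_zero hb (hinj _ (h0.trans (map_zero _).symm))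
      refine mul_right_cancel₀ hbne ?_
      have h1 := congrArg (X.presheaf.map (TopologicalSpace.Opens.infLELeft V.1.1 W.1.1).op).hom (ht V)
      have h2 := congrArg (X.presheaf.map (TopologicalSpace.Opens.infLERight V.1.1 W.1.1).op).hom (ht W)
      rw [map_mul] at h1 h2
      simp only [res] at h1 h2
      rw [e, e] at h1 h2
      exact h1.trans h2.symm
    · have he : (V.1.1 ⊓ W.1.1 : X.Opens) = ⊥ := by
        ext y
        exact ⟨fun hy => (hne ⟨⟨y, hy⟩⟩).elim, False.elim⟩
      haveI : Subsingleton Γ(X, V.1.1 ⊓ W.1.1) := by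
        rw [he]
        infer_instance
      exact Subsingleton.elim _ _
  obtain ⟨s₀, hs, -⟩ := X.sheaf.existsUnique_gluing' (fun V : ι => V.1.1) ⊤
    (fun V => homOfLE le_top) hcov t hcompat
  let s : Γ(X, ⊤) := s₀
  have hsb : s * b = a := by
    refine X.sheaf.eq_of_locally_eq' (fun V : ι => V.1.1) ⊤ (fun V => homOfLE le_top) hcov _ _
      fun V => ?_
    show (res V) (s * b) = res V a
    rw [map_mul, ← ht V]
    exact congrArg (· * res V b) (hs V)
  refine ⟨s, ?_⟩
  rw [← hsb, map_mul, mul_div_cancel_right₀]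
  rw [Ne, FaithfulSMul.algebraMap_eq_zero_iff]
  exact nonZeroDivisors.ne_zero hb

end Groth.Agent.S2102
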