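import Groth.Statements.S2105
import Mathlib

set_option autoImplicit false
universe u
open CAlg

namespace Groth.Agent.S2105

/-- Appending to an `H_1`-regular sequence `f` a sequence `g` whose image modulo the ideal `(f)` is
`H_1`-regular yields an `H_1`-regular sequence. -/
theorem result {A : Type u} [CommRing A] {n m : ℕ} (f : Fin n → A)
    (g : Fin m → A) (hf : CAlgX.IsH1Regular f)
    (hg : CAlgX.IsH1Regular (fun j => Ideal.Quotient.mk (Ideal.span (Set.range f)) (g j))) :
    CAlgX.IsH1Regular (Fin.append f g) := by
  classical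
  intro b hb
  let I := Ideal.span (Set.range f)
  set F := Fin.append f g with hF
  set T := Submodule.span A {v : Fin (n + m) → A | ∃ i j : Fin (n + m), v = Pi.single i (F j) - Pi.single j (F i)} with hT
  -- lift the relation among the `g`
  have hsum : ∑ i, b (Fin.castAdd m i) * f i + ∑ j, b (Fin.natAdd n j) * g j = 0 := by
    rw [← hb, Fin.sum_univ_add]
    simp [F]
  have hgI : ∑ j, Ideal.Quotient.mk I (b (Fin.natAdd n j)) * Ideal.Quotient.mk I (g j) = 0 := by
    simp only [← map_mul, ← map_sum]
    rw [Ideal.Quotient.eq_zero_iff_mem, eq_neg_of_add_eq_zero_right hsum]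
    exact neg_mem (sum_mem fun i _ => I.mul_mem_left _ (Ideal.subset_span ⟨i, rfl⟩))
  have hlift : ∀ v ∈ Submodule.span (A ⧸ I) {v : Fin m → A ⧸ I | ∃ i j : Fin m,
      v = Pi.single i (Ideal.Quotient.mk I (g j)) - Pi.single j (Ideal.Quotient.mk I (g i))},
      ∃ t ∈ T, ∀ j, Ideal.Quotient.mk I (t (Fin.natAdd n j)) = v j := by
    intro v hv
    induction hv using Submodule.span_induction with
    | zero => exact ⟨0, zero_mem _, fun j => by simp⟩
    | add x y _ _ hx hy =>
      obtain ⟨t, ht, h⟩ := hx
      obtain ⟨t', ht', h'⟩ := hy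
      exact ⟨t + t', add_mem ht ht', fun j => by simp [h, h']⟩
    | smul r x _ hx =>
      obtain ⟨t, ht, h⟩ := hx
      obtain ⟨r, rfl⟩ := Ideal.Quotient.mk_surjective r
      exact ⟨r • t, T.smul_mem r ht, fun j => by simp [h]⟩
    | mem x hx =>
      obtain ⟨i, j, rfl⟩ := hx
      refine ⟨_, Submodule.subset_span ⟨Fin.natAdd n i, Fin.natAdd n j, rfl⟩, fun k => ?_⟩
      simp only [F, Pi.sub_apply, map_sub, Pi.single_apply, Fin.natAdd_inj, Fin.append_right]
      split_ifs <;> simp
  obtain ⟨t, ht, hte⟩ := hlift _ (hg _ hgI)
  have hrem : ∀ j, b (Fin.natAdd n j) - t (Fin.natAdd n j) ∈ I := fun j => by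
    rw [← Ideal.Quotient.eq]
    exact (hte j).symm
  choose c hc using fun j => (Ideal.mem_span_range_iff_exists_fun).mp (hrem j)
  -- kill the `g`-part
  let t' : Fin (n + m) → A := ∑ j, ∑ i, c j i •
    ((Pi.single (Fin.natAdd n j) (F (Fin.castAdd m i)) : Fin (n + m) → A) - Pi.single (Fin.castAdd m i) (F (Fin.natAdd n j)))
  have ht' : t' ∈ T := sum_mem fun j _ => sum_mem fun i _ => T.smul_mem _ (Submodule.subset_span ⟨_, _, rfl⟩)
  have htriv : ∀ v ∈ T, ∑ k, v k * F k = 0 := by
    intro v hv
    induction hv using Submodule.span_induction with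
    | zero => simp
    | add x y _ _ hx hy => simp [add_mul, Finset.sum_add_distrib, hx, hy]
    | smul r x _ hx => simp [mul_assoc, ← Finset.mul_sum, hx]
    | mem x hx =>
      obtain ⟨i, j, rfl⟩ := hx
      simp only [Pi.sub_apply, sub_mul, Finset.sum_sub_distrib, Pi.single_apply, ite_mul, zero_mul, Finset.sum_ite_eq',
        Finset.mem_univ, if_true]
      ring
  set b' := b - t - t' with hb'
  have hz : ∀ j, b' (Fin.natAdd n j) = 0 := by
    intro j
    have hne : ∀ (i : Fin n) (k : Fin m), Fin.natAdd n k ≠ Fin.castAdd m i := fun i k h => by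
      have := congrArg Fin.val h
      simp at this
      omega
    have h2 : t' (Fin.natAdd n j) = ∑ i, c j i * f i := by
      simp [t', F, Finset.sum_apply, Pi.single_apply, hne, Fin.natAdd_inj]
    show b _ - t _ - t' _ = 0
    rw [h2, hc, sub_self]
  have h0 : ∑ i, b' (Fin.castAdd m i) * f i = 0 := by
    have := htriv (t + t') (add_mem ht ht')
    have hall : ∑ k, b' k * F k = 0 := by
      have h : b' = b - (t + t') := by rw [hb', sub_sub]
      rw [h]
      simp only [Pi.sub_apply, sub_mul, Finset.sum_sub_distrib, this, sub_zero]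
      exact hb
    rw [Fin.sum_univ_add] at hall
    simpa [hz, F] using hall
  have hlift' : ∀ v ∈ Submodule.span A {v : Fin n → A | ∃ i j : Fin n, v = Pi.single i (f j) - Pi.single j (f i)},
      (Fin.append v 0 : Fin (n + m) → A) ∈ T := by
    intro v hv
    induction hv using Submodule.span_induction with
    | zero =>
      convert zero_mem T using 1
      ext k
      induction k using Fin.addCases <;> simp
    | add x y _ _ hx hy =>
      convert add_mem hx hy using 1
      ext k
      induction k using Fin.addCases <;> simp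
    | smul r x _ hx =>
      convert T.smul_mem r hx using 1
      ext k
      induction k using Fin.addCases <;> simp
    | mem x hx =>
      obtain ⟨i, j, rfl⟩ := hx
      refine Submodule.subset_span ⟨Fin.castAdd m i, Fin.castAdd m j, ?_⟩
      have hne : ∀ (i : Fin n) (k : Fin m), Fin.natAdd n k ≠ Fin.castAdd m i := fun i k h => by
        have := congrArg Fin.val h
        simp at this
        omega
      ext k
      induction k using Fin.addCases with
      | left k => simp [F, Pi.single_apply, Fin.castAdd_inj]
      | right k => simp [F, Pi.single_apply, hne]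
  have hb'T : b' ∈ T := by
    convert hlift' _ (hf _ h0) using 1
    ext k
    induction k using Fin.addCases with
    | left k => simp
    | right k => simp [hz]
  have : b = b' + (t + t') := by rw [hb']; abel
  rw [this]
  exact add_mem hb'T (add_mem ht ht')

end Groth.Agent.S2105
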