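import Groth.Statements.S2109
import Mathlib
import Groth.Agent.SopTight.Basic
import Groth.Agent.DepthLib.RegularLocal
-- import your own Groth.Agent.* helpers here

set_option autoImplicit false
universe u
open Smoothing

namespace Groth.Agent.S2109

section
open Groth.Agent

theorem seq_regular {R : Type u} [CommRing R] [IsLocalRing R] [IsNoetherianRing R]
    [LocCoh.IsCohenMacaulayLocalRing R] {d : ℕ} (hdim : ringKrullDim R = d) (f : Fin d → R)
    (h : SopTight.IsSop f) (i : Fin d) (z : R)
    (hz : f i * z ∈ Ideal.span (Set.range fun j : {j : Fin d // (j : ℕ) < (i : ℕ)} => f j)) :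
    z ∈ Ideal.span (Set.range fun j : {j : Fin d // (j : ℕ) < (i : ℕ)} => f j) := by
  classical
  have hJ : Ideal.ofList (List.ofFn f) = Ideal.span (Set.range f) := by
    simp [Ideal.ofList, List.mem_ofFn, Set.range]
  have hd0 : Module.supportDim R (R ⧸ (Ideal.ofList (List.ofFn f) • ⊤ : Submodule R R)) ≤ 0 := by
    rw [hJ, Module.supportDim, Module.support_quotient]
    have hmax : ∀ q ∈ PrimeSpectrum.zeroLocus (Ideal.span (Set.range f) : Set R),
        q.asIdeal = IsLocalRing.maximalIdeal R := fun q hq =>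
      le_antisymm (IsLocalRing.le_maximalIdeal q.isPrime.ne_top)
        (h.ge.trans (q.isPrime.radical_le_iff.mpr hq))
    haveI : Subsingleton ↥(Module.support R R ∩
        PrimeSpectrum.zeroLocus (Ideal.span (Set.range f) : Set R)) :=
      ⟨fun a b => Subtype.ext (PrimeSpectrum.ext ((hmax _ a.2.2).trans (hmax _ b.2.2).symm))⟩
    exact Order.krullDim_nonpos_of_subsingleton
  have hreg := DepthLib.isWeaklyRegular_of_supportDim_drop (List.ofFn f) R
    DepthLib.isCohenMacaulayModule_self (by simpa [List.mem_ofFn] using h.mem) (by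
      rw [List.length_ofFn, Module.supportDim_self_eq_ringKrullDim, hdim]
      calc _ ≤ (0 : WithBot ℕ∞) + (d : WithBot ℕ∞) := add_le_add hd0 le_rfl
        _ = _ := zero_add _)
  have hi := hreg.regular_mod_prev i.1 (by simp)
  have e0 : (Ideal.ofList ((List.ofFn f).take i.1) • ⊤ : Submodule R R) =
      Ideal.span (Set.range fun j : {j : Fin d // (j : ℕ) < (i : ℕ)} => f j) := by
    rw [smul_eq_mul, Ideal.mul_top, Ideal.ofList]
    congr 1
    ext x
    simp only [Set.mem_setOf_eq, List.mem_take_iff_getElem, List.getElem_ofFn, Set.mem_range]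
    constructor
    · rintro ⟨j, hj, rfl⟩
      simp only [List.length_ofFn, lt_min_iff] at hj
      exact ⟨⟨⟨j, hj.2⟩, hj.1⟩, rfl⟩
    · rintro ⟨⟨⟨j, hj⟩, hji⟩, rfl⟩
      exact ⟨j, by simp only [List.length_ofFn, lt_min_iff]; exact ⟨hji, hj⟩, rfl⟩
  simp only [List.getElem_ofFn, Fin.eta] at hi
  rw [← e0] at hz ⊢
  rw [← Submodule.Quotient.mk_eq_zero] at hz ⊢
  refine hi ?_
  show f i • Submodule.Quotient.mk z = f i • (0 : R ⧸ (Ideal.ofList ((List.ofFn f).take i.1) • ⊤ : Submodule R R))
  rw [smul_zero, ← Submodule.Quotient.mk_smul, smul_eq_mul]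
  exact hz

theorem one_killer {Λ : Type u} [CommRing Λ] [IsNoetherianRing Λ] (S : Submonoid Λ) (T K : Ideal Λ)
    (h : ∀ z ∈ T, ∃ s ∈ S, s * z ∈ K) : ∃ s ∈ S, ∀ z ∈ T, s * z ∈ K := by
  classical
  obtain ⟨t, rfl⟩ := IsNoetherian.noetherian T
  have h' : ∀ z ∈ t, ∃ s ∈ S, s * z ∈ K := fun z hz => h z (Submodule.subset_span hz)
  choose! s hs hsz using h'
  refine ⟨∏ z ∈ t, s z, Submonoid.prod_mem _ hs, fun z hz => ?_⟩
  induction hz using Submodule.span_induction with
  | mem z hz =>
    rw [← Finset.mul_prod_erase _ _ (Finset.mem_coe.1 hz), mul_right_comm]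
    exact Ideal.mul_mem_right _ _ (hsz z (Finset.mem_coe.1 hz))
  | zero => simp
  | add a b _ _ ha hb => rw [mul_add]; exact Ideal.add_mem _ ha hb
  | smul r a _ ha => rw [smul_eq_mul, mul_left_comm]; exact Ideal.mul_mem_left _ _ ha

end

/-- Let `Λ` be Noetherian, `I ⊆ 𝔮` with `𝔮` prime, `n, e > 0`, such that `𝔮ⁿΛ_𝔮 ⊆ IΛ_𝔮` and `Λ_𝔮` is a
regular local ring of dimension `d`. Then there are `N > 0` and `π_1, …, π_d ∈ Λ` generating `𝔮Λ_𝔮`,
with `π_i^N ∈ I`, such that for each `i` the annihilators of `π_i` and `π_i²` in `Λ/(π_1^e, …,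
π_{i-1}^e)` coincide. -/
theorem result {Λ : Type u} [CommRing Λ] [IsNoetherianRing Λ] (I q : Ideal Λ)
    [q.IsPrime] (hIq : I ≤ q) (n e d : ℕ) (hn : 0 < n) (he : 0 < e)
    (hpow : (q ^ n).map (algebraMap Λ (Localization.AtPrime q)) ≤ I.map (algebraMap Λ (Localization.AtPrime q)))
    [IsRegularLocalRing (Localization.AtPrime q)] (hd : ringKrullDim (Localization.AtPrime q) = d) :
    ∃ (N : ℕ) (π : Fin d → Λ), 0 < N ∧
      Ideal.span (Set.range fun i => algebraMap Λ (Localization.AtPrime q) (π i)) =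
        q.map (algebraMap Λ (Localization.AtPrime q)) ∧
      (∀ i, π i ^ N ∈ I) ∧
      ∀ i : Fin d, ∀ x : Λ ⧸ Ideal.span (Set.range fun j : {j : Fin d // (j : ℕ) < (i : ℕ)} => π j ^ e),
        Ideal.Quotient.mk _ (π i) ^ 2 * x = 0 → Ideal.Quotient.mk _ (π i) * x = 0 := by
  classical
  obtain ⟨ι, hι⟩ : ∃ ι, ι = algebraMap Λ (Localization.AtPrime q) := ⟨_, rfl⟩
  haveI := DepthLib.isCohenMacaulayLocalRing_of_isRegularLocalRing (Localization.AtPrime q)
  have hq : q.map ι = IsLocalRing.maximalIdeal (Localization.AtPrime q) :=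
    hι ▸ Localization.AtPrime.map_eq_maximalIdeal
  rw [← hι] at hpow ⊢
  rw [hq]
  have hunit : ∀ s ∈ q.primeCompl, IsUnit (ι s) := fun s hs =>
    hι ▸ IsLocalization.map_units (Localization.AtPrime q) (⟨s, hs⟩ : q.primeCompl)
  have hmem : ∀ (J : Ideal Λ) (x : Λ), ι x ∈ J.map ι ↔ ∃ s ∈ q.primeCompl, s * x ∈ J := fun J x =>
    hι ▸ IsLocalization.algebraMap_mem_map_algebraMap_iff q.primeCompl _ _ _
  have start : ∃ π : Fin d → Λ, Ideal.span (Set.range fun i => ι (π i)) =
      IsLocalRing.maximalIdeal (Localization.AtPrime q) ∧ ∀ i, π i ^ n ∈ I := by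
    set m := IsLocalRing.maximalIdeal (Localization.AtPrime q) with hm
    have hgen : m.spanFinrank = d := by
      have := ((isRegularLocalRing_iff (R := Localization.AtPrime q)).1 inferInstance).trans hd
      exact_mod_cast this
    have hfg : Submodule.FG m := IsNoetherian.noetherian m
    have hfin := Submodule.FG.finite_generators hfg
    haveI := hfin.fintype
    let e : Fin d ≃ ↥(Submodule.generators m) := (Fintype.equivFinOfCardEq (by
      rw [← Nat.card_eq_fintype_card, Nat.card_coe_set_eq, Submodule.FG.generators_ncard hfg, hgen])).symm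
    let g : Fin d → Localization.AtPrime q := fun i => (e i).1
    have hg : Ideal.span (Set.range g) = m := by
      rw [show Set.range g = Submodule.generators m by
        rw [show g = (Subtype.val ∘ e) from rfl, Set.range_comp, e.surjective.range_eq, Set.image_univ,
          Subtype.range_coe]]
      exact Submodule.span_generators m
    have hex : ∀ i, ∃ p : Λ, p ^ n ∈ I ∧ Associated (ι p) (g i) := by
      intro i
      obtain ⟨⟨a, s⟩, hs⟩ := IsLocalization.surj q.primeCompl (g i)
      have hs' : g i * ι s = ι a := by rw [hι]; exact hs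
      have hga : g i ∈ m := hg ▸ Ideal.subset_span ⟨i, rfl⟩
      have : ι (a ^ n) ∈ I.map ι := by
        refine hpow ?_
        rw [Ideal.map_pow, hq, map_pow, ← hs']
        exact Ideal.pow_mem_pow (Ideal.mul_mem_right _ _ hga) n
      obtain ⟨t, ht, hta⟩ := (hmem _ _).1 this
      refine ⟨t * a, ?_, ?_⟩
      · obtain ⟨k, rfl⟩ := Nat.exists_eq_succ_of_ne_zero hn.ne'
        rw [mul_pow, pow_succ t, mul_assoc]
        exact Ideal.mul_mem_left _ _ hta
      · rw [map_mul, ← hs']
        exact ((associated_isUnit_mul_left_iff (hunit t ht)).2 ((associated_mul_isUnit_left_iff (hunit _ s.2)).2 (Associated.refl _)))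
    choose p hpI hpa using hex
    refine ⟨p, ?_, hpI⟩
    rw [← hg]
    refine le_antisymm (Ideal.span_le.2 ?_) (Ideal.span_le.2 ?_)
    · rintro _ ⟨i, rfl⟩
      obtain ⟨u, hu⟩ := (hpa i).symm
      show ι (p i) ∈ _
      rw [← hu]
      exact Ideal.mul_mem_right _ _ (Ideal.subset_span ⟨i, rfl⟩)
    · rintro _ ⟨i, rfl⟩
      obtain ⟨u, hu⟩ := hpa i
      show g i ∈ _
      rw [← hu]
      exact Ideal.mul_mem_right _ _ (Ideal.subset_span ⟨i, rfl⟩)
  have step : ∀ k, ∃ π : Fin d → Λ, Ideal.span (Set.range fun i => ι (π i)) =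
      IsLocalRing.maximalIdeal (Localization.AtPrime q) ∧ (∀ i, π i ^ n ∈ I) ∧
      ∀ i : Fin d, (i : ℕ) < k → ∀ z : Λ,
        π i ^ 2 * z ∈ Ideal.span (Set.range fun j : {j : Fin d // (j : ℕ) < (i : ℕ)} => π j ^ e) →
        π i * z ∈ Ideal.span (Set.range fun j : {j : Fin d // (j : ℕ) < (i : ℕ)} => π j ^ e) := by
    intro k
    induction k with
    | zero =>
      obtain ⟨π, h1, h2⟩ := start
      exact ⟨π, h1, h2, fun i hi => absurd hi (Nat.not_lt_zero _)⟩
    | succ k ih =>
      obtain ⟨π, h1, h2, h3⟩ := ih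
      by_cases hk : d ≤ k
      · exact ⟨π, h1, h2, fun i _ => h3 i (lt_of_lt_of_le i.2 hk)⟩
      obtain ⟨i₀, hi₀⟩ : ∃ i₀ : Fin d, (i₀ : ℕ) = k := ⟨⟨k, by omega⟩, rfl⟩
      set K := Ideal.span (Set.range fun j : {j : Fin d // (j : ℕ) < (i₀ : ℕ)} => π j ^ e) with hK
      let T : Ideal Λ := K.colon {π i₀ ^ 2}
      have hTmem : ∀ z, z ∈ T ↔ π i₀ ^ 2 * z ∈ K := fun z => by
        show z ∈ Submodule.colon K {π i₀ ^ 2} ↔ _
        rw [Submodule.mem_colon_singleton, smul_eq_mul, mul_comm]
      have hloc : ∀ z ∈ T, ∃ s ∈ q.primeCompl, s * z ∈ K := by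
        intro z hz
        rw [hTmem] at hz
        have hsop : SopTight.IsSop (fun i => ι (π i)) := by
          show Ideal.radical (Ideal.span (Set.range fun i => ι (π i))) = _
          rw [h1]
          exact (IsLocalRing.maximalIdeal.isMaximal _).isPrime.radical
        have hsop' := hsop.pow (fun i => if i = i₀ then 2 else e) (fun i => by split_ifs <;> omega)
        have hKm : K.map ι = Ideal.span (Set.range fun j : {j : Fin d // (j : ℕ) < (i₀ : ℕ)} =>
            ι (π j) ^ (if (j : Fin d) = i₀ then 2 else e)) := by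
          rw [hK, Ideal.map_span, ← Set.range_comp]
          congr 1
          refine congrArg Set.range (funext fun j => ?_)
          rw [if_neg (fun h => (ne_of_lt j.2) (congrArg Fin.val h)), Function.comp_apply, map_pow]
        have := seq_regular hd _ hsop' i₀ (ι z) (by
          rw [← hKm, if_pos rfl, ← map_pow, ← map_mul]
          exact Ideal.mem_map_of_mem _ hz)
        rw [← hKm] at this
        exact (hmem _ _).1 this
      obtain ⟨s, hs, hsT⟩ := one_killer q.primeCompl T K hloc
      let U : Ideal Λ :=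
        { carrier := {x | ∃ c : ℕ, s ^ c * x ∈ K}
          zero_mem' := ⟨0, by simp⟩
          add_mem' := by
            rintro x y ⟨a, ha⟩ ⟨b, hb⟩
            refine ⟨a + b, ?_⟩
            rw [mul_add]
            refine Ideal.add_mem _ ?_ ?_
            · rw [pow_add, mul_comm (s ^ a), mul_assoc]; exact Ideal.mul_mem_left _ _ ha
            · rw [pow_add, mul_assoc]; exact Ideal.mul_mem_left _ _ hb
          smul_mem' := by
            rintro r x ⟨a, ha⟩
            exact ⟨a, by rw [smul_eq_mul, mul_left_comm]; exact Ideal.mul_mem_left _ _ ha⟩ }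
      obtain ⟨t, ⟨c, rfl⟩, htU⟩ := one_killer (Submonoid.powers s) U K
        (fun z ⟨a, ha⟩ => ⟨s ^ a, ⟨a, rfl⟩, ha⟩)
      refine ⟨Function.update π i₀ (s ^ (c + 1) * π i₀), ?_, fun i => ?_, fun i hi z hz => ?_⟩
      · rw [← h1]
        have hu : IsUnit (ι (s ^ (c + 1))) := by rw [map_pow]; exact (hunit s hs).pow _
        refine le_antisymm (Ideal.span_le.2 ?_) (Ideal.span_le.2 ?_)
        · rintro _ ⟨i, rfl⟩
          rcases eq_or_ne i i₀ with rfl | hii
          · simp only [Function.update_self, map_mul]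
            exact Ideal.mul_mem_left _ _ (Ideal.subset_span ⟨i, rfl⟩)
          · simp only [Function.update_of_ne hii]
            exact Ideal.subset_span ⟨i, rfl⟩
        · rintro _ ⟨i, rfl⟩
          show ι (π i) ∈ Ideal.span _
          rcases eq_or_ne i i₀ with rfl | hii
          · rw [← Ideal.unit_mul_mem_iff_mem _ hu]
            exact Ideal.subset_span ⟨i, by simp⟩
          · exact Ideal.subset_span ⟨i, by simp [Function.update_of_ne hii]⟩
      · rcases eq_or_ne i i₀ with rfl | hii
        · rw [Function.update_self, mul_pow]; exact Ideal.mul_mem_left _ _ (h2 i)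
        · rw [Function.update_of_ne hii]; exact h2 i
      · have hrange : (fun j : {j : Fin d // (j : ℕ) < (i : ℕ)} =>
            Function.update π i₀ (s ^ (c + 1) * π i₀) j ^ e) = fun j : {j : Fin d // (j : ℕ) < (i : ℕ)} => π j ^ e := by
          funext j
          rw [Function.update_of_ne (fun h => ?_)]
          have := congrArg Fin.val h
          have := j.2
          omega
        rw [hrange] at hz ⊢
        rcases eq_or_ne i i₀ with rfl | hii
        · rw [Function.update_self] at hz ⊢
          rw [mul_pow, mul_comm _ (π i ^ 2), mul_assoc] at hz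
          have h4 := hsT _ ((hTmem _).2 hz)
          have hzU : z ∈ U := by
            refine ⟨1 + (c + 1) * 2, ?_⟩
            rw [pow_add, pow_one, pow_mul, mul_assoc]
            exact h4
          have h5 := htU z hzU
          have h6 := Ideal.mul_mem_right (s * π i) _ h5
          convert h6 using 1
          ring
        · rw [Function.update_of_ne hii] at hz ⊢
          exact h3 i (lt_of_le_of_ne (Nat.lt_succ_iff.1 hi) (fun h => hii (Fin.ext (h.trans hi₀.symm)))) z hz
  obtain ⟨π, h1, h2, h3⟩ := step d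
  refine ⟨n, π, hn, h1, h2, fun i x hx => ?_⟩
  obtain ⟨z, rfl⟩ := Ideal.Quotient.mk_surjective x
  rw [← map_pow, ← map_mul, Ideal.Quotient.eq_zero_iff_mem] at hx
  rw [← map_mul, Ideal.Quotient.eq_zero_iff_mem]
  exact h3 i i.2 z hx

end Groth.Agent.S2109
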