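import Groth.Statements.S2112
import Groth.Agent.GeomIrr.Basic
-- import your own Groth.Agent.* helpers here

set_option autoImplicit false
universe u
open CAlg

namespace Groth.Agent.S2112

open scoped TensorProduct

open TensorProduct in
open CategoryTheory CategoryTheory.Limits AlgebraicGeometry in
/-- An irreducible affine scheme over a separably closed field has irreducible products. -/
theorem irreducibleSpace_spec {k R S : Type u} [Field k] [IsSepClosed k] [CommRing R] [CommRing S] [Algebra k R]
    [Algebra k S] [IrreducibleSpace (PrimeSpectrum R)] [IrreducibleSpace (PrimeSpectrum S)] :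
    IrreducibleSpace (PrimeSpectrum (R ⊗[k] S)) := by
  let f := Spec.map (CommRingCat.ofHom (algebraMap k R))
  let g := Spec.map (CommRingCat.ofHom (algebraMap k S))
  have : IrreducibleSpace ↥(Spec (CommRingCat.of R)) := ‹IrreducibleSpace (PrimeSpectrum R)›
  have : IrreducibleSpace ↥(Spec (CommRingCat.of S)) := ‹IrreducibleSpace (PrimeSpectrum S)›
  have : GeometricallyIrreducible f := Groth.Agent.GeomIrr.geometricallyIrreducible_of_irreducibleSpace f
  have h : IrreducibleSpace ↥(pullback f g) := inferInstance
  exact (pullbackSpecIso k R S).hom.homeomorph.irreducibleSpace_iff.mp h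

/-- A unique minimal prime means irreducible spectrum. -/
theorem unique_iff {A : Type u} [CommRing A] :
    CAlgX.HasUniqueMinimalPrime A ↔ IrreducibleSpace (PrimeSpectrum A) := by
  rw [PrimeSpectrum.irreducibleSpace_iff_isPrime_nilradical]
  constructor
  · rintro ⟨p, hp, huniq⟩
    have h1 : minimalPrimes A = {p} := Set.eq_singleton_iff_unique_mem.mpr ⟨hp, huniq⟩
    have h2 : nilradical A = p := by
      rw [nilradical, Ideal.zero_eq_bot, ← Ideal.sInf_minimalPrimes]
      rw [show (⊥ : Ideal A).minimalPrimes = {p} from h1, sInf_singleton]
    rw [h2]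
    exact hp.1.1
  · intro h
    have hm : nilradical A ∈ minimalPrimes A := ⟨⟨h, bot_le⟩, fun q hq _ => by
      have := hq.1
      exact nilradical_le_prime q⟩
    exact ⟨_, hm, fun q hq => le_antisymm (hq.2 hm.1 (by have := hq.1.1; exact nilradical_le_prime q))
      (by have := hq.1.1; exact nilradical_le_prime q)⟩

/-- Let `k` be a separably closed field and `R`, `S` two `k`-algebras each having exactly one minimal
prime ideal. Then `R ⊗_k S` has exactly one minimal prime ideal. -/
theorem result {k R S : Type u} [Field k] [IsSepClosed k] [CommRing R] [CommRing S]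
    [Algebra k R] [Algebra k S] (hR : CAlgX.HasUniqueMinimalPrime R) (hS : CAlgX.HasUniqueMinimalPrime S) :
    CAlgX.HasUniqueMinimalPrime (R ⊗[k] S) := by
  rw [unique_iff] at hR hS ⊢
  exact irreducibleSpace_spec

end Groth.Agent.S2112
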