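import Groth.Statements.S2113
import Mathlib
import Groth.Agent.H4FinPrimes.Basic
-- import your own Groth.Agent.* helpers here

set_option autoImplicit false
universe u
open CAlg

namespace Groth.Agent.S2113

/-- A Noetherian ring in which each prime is maximal or else lies below infinitely many primes is a
Jacobson ring. -/
theorem result {R : Type u} [CommRing R] [IsNoetherianRing R]
    (h : ∀ (p : Ideal R) [p.IsPrime], p.IsMaximal ∨ {q : PrimeSpectrum R | p ≤ q.asIdeal}.Infinite) :
    IsJacobsonRing R := by
  classical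
  rw [isJacobsonRing_iff_prime_eq]
  intro p hp
  induction p using IsNoetherian.induction with
  | hgt p ih =>
    by_contra hne
    obtain ⟨f, hf, hfp⟩ := SetLike.exists_of_lt (lt_of_le_of_ne Ideal.le_jacobson (Ne.symm hne))
    rcases h p with hmax | hinf
    · exact hne (Ideal.jacobson_eq_self_of_isMaximal)
    have hall : ∀ q : Ideal R, q.IsPrime → p < q → f ∈ q := fun q hq hpq =>
      ih q hpq hq ▸ Ideal.jacobson_mono hpq.le hf
    haveI : IsDomain (R ⧸ p) := Ideal.Quotient.isDomain p
    have hf' : Ideal.Quotient.mk p f ≠ 0 := fun e => hfp (Ideal.Quotient.eq_zero_iff_mem.mp e)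
    have hall' : ∀ Q : Ideal (R ⧸ p), Q.IsPrime → Q ≠ ⊥ → Ideal.Quotient.mk p f ∈ Q := by
      intro Q hQ hQ0
      refine hall (Q.comap (Ideal.Quotient.mk p)) (hQ.comap _) (lt_of_le_of_ne ?_ fun e => hQ0 ?_)
      · exact fun x hx => by simp [Ideal.mem_comap, Ideal.Quotient.eq_zero_iff_mem.mpr hx]
      · rw [← Ideal.map_comap_of_surjective _ Ideal.Quotient.mk_surjective Q, ← e,
          Ideal.map_quotient_self]
    refine hinf ?_
    refine Set.Finite.of_finite_image (f := fun q : PrimeSpectrum R =>
      q.asIdeal.map (Ideal.Quotient.mk p)) ?_ ?_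
    · refine ((Set.finite_singleton ⊥).union (Ideal.span {Ideal.Quotient.mk p f}
        ).finite_minimalPrimes_of_isNoetherianRing).subset ?_
      rintro _ ⟨q, hq, rfl⟩
      by_cases hQ0 : q.asIdeal.map (Ideal.Quotient.mk p) = ⊥
      · exact Or.inl hQ0
      · exact Or.inr (H4FinPrimes.mem_minimalPrimes_of_forall_mem hf' hall' _
          (Ideal.map_isPrime_of_surjective Ideal.Quotient.mk_surjective
            (by rw [Ideal.mk_ker]; exact hq)) hQ0)
    · intro q hq q' hq' e
      apply PrimeSpectrum.ext
      have e' := congrArg (Ideal.comap (Ideal.Quotient.mk p)) e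
      simp only [Ideal.comap_map_of_surjective _ Ideal.Quotient.mk_surjective,
        ← RingHom.ker_eq_comap_bot, Ideal.mk_ker] at e'
      rwa [sup_of_le_left hq, sup_of_le_left hq'] at e'

end Groth.Agent.S2113
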