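import Groth.Statements.S2114
import Groth.Agent.NagataLib.Localization

set_option autoImplicit false
universe u
open CAlg

namespace Groth.Agent.S2114

/-- Let `R ⊆ S` be an extension of domains which is of finite type and quasi-finite, with `R` Noetherian
and N-2 (integral closures in finite extensions of the fraction field are finite). Then `S` is N-2. -/
theorem result {R S : Type u} [CommRing R] [IsDomain R] [IsNoetherianRing R] [CommRing S]
    [IsDomain S] [Algebra R S] (hinj : Function.Injective (algebraMap R S)) [Algebra.FiniteType R S]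
    [Algebra.QuasiFinite R S] (hR : CAlg.IsN2 R) : CAlg.IsN2 S := by
  have key : ∀ p : PrimeSpectrum S, ∃ r : S, r ∉ p.asIdeal ∧
      ∀ [IsDomain (Localization.Away r)], CAlg.IsN2 (Localization.Away r) := by
    intro p
    obtain ⟨S', hfg, r, hr, hbij⟩ :=
      Algebra.QuasiFiniteAt.exists_fg_and_exists_notMem_and_awayMap_bijective (R := R) p.asIdeal
    refine ⟨r.1, hr, fun {hd} => ?_⟩
    have : Module.Finite R S' := Module.Finite.iff_fg.2 hfg
    have hinj' : Function.Injective (algebraMap R S') := fun a b e =>
      hinj (congrArg Subtype.val e)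
    have hS' : CAlg.IsN2 S' := Groth.Agent.NagataLib.isN2_of_finite hinj' hR
    have hne : r ≠ 0 := fun h => hr (by rw [h]; exact zero_mem _)
    have : IsDomain (Localization.Away r) :=
      IsLocalization.isDomain_localization (powers_le_nonZeroDivisors_of_noZeroDivisors hne)
    exact Groth.Agent.NagataLib.isN2_of_ringEquiv
      (RingEquiv.ofBijective (Localization.awayMap S'.val.toRingHom r) hbij)
      (Groth.Agent.NagataLib.isN2_of_isLocalization (Submonoid.powers r) (Localization.Away r) hS')
  choose r hr hN using key
  have hspan : Ideal.span (Set.range r) = ⊤ := by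
    by_contra hne
    obtain ⟨m, hm, hle⟩ := Ideal.exists_le_maximal _ hne
    exact hr ⟨m, hm.isPrime⟩ (hle (Ideal.subset_span ⟨_, rfl⟩))
  obtain ⟨t, ht, ht'⟩ := (Ideal.span_eq_top_iff_finite _).1 hspan
  have hchoose : ∀ x : t, ∃ p, r p = x.1 := fun x => ht x.2
  choose P hP using hchoose
  have hdom : ∀ x : t, IsDomain (Localization.Away (r (P x))) := fun x =>
    IsLocalization.isDomain_localization (powers_le_nonZeroDivisors_of_noZeroDivisors
      fun h => hr (P x) (by rw [h]; exact zero_mem _))
  refine Groth.Agent.NagataLib.isN2_of_span (fun x : t => r (P x)) ?_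
    (fun x => Localization.Away (r (P x))) fun x => hN (P x)
  rw [← ht']
  congr 1
  ext a
  simp [hP]

end Groth.Agent.S2114
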