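import Groth.Statements.S2118
import Mathlib.RingTheory.Flat.EquationalCriterion
import Mathlib.CategoryTheory.Presentable.Directed
import Mathlib.Algebra.Category.ModuleCat.FilteredColimits
import Mathlib.Algebra.Category.ModuleCat.Colimits
import Mathlib.CategoryTheory.Limits.ConcreteCategory.Basic

set_option autoImplicit false
universe u
open CategoryTheory
open CAlg

namespace Groth.Agent.S2118

open Limits

variable {R : Type u} [CommRing R] {M : Type u} [AddCommGroup M] [Module R M]

variable (M) in
/-- Finite free modules over `M`. -/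
structure Obj : Type u where
  n : ℕ
  x : Fin n → M

/-- The category of finite free modules over `M`. -/
def Cat (_R M : Type u) : Type u := Obj M

noncomputable def L (a : Cat R M) : (Fin (Obj.n a) → R) →ₗ[R] M := Fintype.linearCombination R (Obj.x a)

noncomputable instance : SmallCategory (Cat R M) where
  Hom a b := {f : (Fin (Obj.n a) → R) →ₗ[R] (Fin (Obj.n b) → R) // L b ∘ₗ f = L a}
  id a := ⟨LinearMap.id, rfl⟩
  comp f g := ⟨g.1 ∘ₗ f.1, by rw [← LinearMap.comp_assoc, g.2, f.2]⟩
  id_comp _ := rfl
  comp_id _ := rfl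
  assoc _ _ _ := rfl

lemma exists_hom (a b : Cat R M) (v : Fin (Obj.n a) → (Fin (Obj.n b) → R)) (hv : ∀ i, L b (v i) = (Obj.x a) i) :
    Nonempty (a ⟶ b) :=
  ⟨⟨Fintype.linearCombination R v, by
    refine LinearMap.pi_ext' fun i => LinearMap.ext_ring ?_
    simp [L] at hv
    simp [L, Fintype.linearCombination_apply_single, hv]⟩⟩

theorem isFiltered [Module.Flat R M] : IsFiltered (Cat R M) := by
  haveI : Nonempty (Cat R M) := ⟨(⟨0, Fin.elim0⟩ : Obj M)⟩
  haveI : IsFilteredOrEmpty (Cat R M) :=
    { cocone_objs := fun a b => by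
        let c : Cat R M := (⟨(Obj.n a) + (Obj.n b), Fin.append (Obj.x a) (Obj.x b)⟩ : Obj M)
        obtain ⟨f⟩ := exists_hom a c (fun i => Pi.single (Fin.castAdd (Obj.n b) i) 1) (fun i => by
          simp [L, c, Fintype.linearCombination_apply_single])
        obtain ⟨g⟩ := exists_hom b c (fun i => Pi.single (Fin.natAdd (Obj.n a) i) 1) (fun i => by
          simp [L, c, Fintype.linearCombination_apply_single])
        exact ⟨c, f, g, trivial⟩
      cocone_maps := fun {a b} f g => by
        obtain ⟨k, c, y, hy, hc⟩ := Module.Flat.exists_factorization_of_comp_eq_zero_of_free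
          (f := f.1 - g.1) (x := L b) (by rw [LinearMap.comp_sub, f.2, g.2, sub_self])
        let e : (Fin k →₀ R) ≃ₗ[R] (Fin k → R) := Finsupp.linearEquivFunOnFinite R R (Fin k)
        let d : Cat R M := (⟨k, fun i => y (Finsupp.single i 1)⟩ : Obj M)
        have hd : L d ∘ₗ e.toLinearMap = y := by
          refine Finsupp.lhom_ext' fun i => LinearMap.ext_ring ?_
          simp [L, d, e, Finsupp.linearEquivFunOnFinite_single, Fintype.linearCombination_apply_single]
        refine ⟨d, ⟨e.toLinearMap ∘ₗ c, by rw [← LinearMap.comp_assoc, hd]; exact hy.symm⟩, Subtype.ext ?_⟩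
        show (e.toLinearMap ∘ₗ c) ∘ₗ f.1 = (e.toLinearMap ∘ₗ c) ∘ₗ g.1
        rw [← sub_eq_zero, ← LinearMap.comp_sub, LinearMap.comp_assoc, hc, LinearMap.comp_zero] }
  constructor

variable (R M) in
noncomputable def diag : Cat R M ⥤ ModuleCat.{u} R where
  obj a := ModuleCat.of R (Fin (Obj.n a) → R)
  map f := ModuleCat.ofHom f.1

variable (R M) in
noncomputable def cocone : Cocone (diag R M) where
  pt := ModuleCat.of R M
  ι :=
    { app := fun a => ModuleCat.ofHom (L a)
      naturality := fun a b f => ModuleCat.hom_ext f.2 }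

theorem isIso_desc [Module.Flat R M] : IsIso (colimit.desc (diag R M) (cocone R M)) := by
  haveI := isFiltered (R := R) (M := M)
  haveI : PreservesColimit (diag R M) (forget (ModuleCat.{u} R)) := inferInstance
  rw [ConcreteCategory.isIso_iff_bijective]
  refine ⟨fun z z' h => ?_, fun m => ?_⟩
  · obtain ⟨a, v, rfl⟩ := Concrete.colimit_exists_rep (diag R M) z
    obtain ⟨b, w, rfl⟩ := Concrete.colimit_exists_rep (diag R M) z'
    obtain ⟨c, f, g, -⟩ := IsFilteredOrEmpty.cocone_objs a b
    simp only [← ConcreteCategory.comp_apply, colimit.ι_desc] at h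
    change L a v = L b w at h
    have hvw : L c (f.1 v - g.1 w) = 0 := by
      rw [map_sub, ← LinearMap.comp_apply, f.2, ← LinearMap.comp_apply, g.2, h, sub_self]
    obtain ⟨k, d, y, hy, hd⟩ := Module.Flat.exists_factorization_of_apply_eq_zero_of_free hvw
    let e : (Fin k →₀ R) ≃ₗ[R] (Fin k → R) := Finsupp.linearEquivFunOnFinite R R (Fin k)
    let o : Cat R M := (⟨k, fun i => y (Finsupp.single i 1)⟩ : Obj M)
    have ho : L o ∘ₗ e.toLinearMap = y := by
      refine Finsupp.lhom_ext' fun i => LinearMap.ext_ring ?_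
      simp [L, o, e, Finsupp.linearEquivFunOnFinite_single, Fintype.linearCombination_apply_single]
    let φ : c ⟶ o := ⟨e.toLinearMap ∘ₗ d, by rw [← LinearMap.comp_assoc, ho]; exact hy.symm⟩
    apply Concrete.colimit_rep_eq_of_exists (diag R M)
    refine ⟨o, f ≫ φ, g ≫ φ, ?_⟩
    show e (d (f.1 v)) = e (d (g.1 w))
    rw [← sub_eq_zero, ← map_sub e, ← map_sub d, hd, map_zero]
  · let a : Cat R M := (⟨1, fun _ => m⟩ : Obj M)
    refine ⟨colimit.ι (diag R M) a (Pi.single 0 1 : Fin 1 → R), ?_⟩
    rw [← ConcreteCategory.comp_apply, colimit.ι_desc]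
    show L a _ = m
    simp [L, a, Fintype.linearCombination_apply_single]


/-- An `R`-module `M` is flat if and only if it is isomorphic to the colimit of a diagram of finite free
`R`-modules indexed by a nonempty directed preorder (in the same universe). -/
theorem result {R : Type u} [CommRing R] (M : Type u) [AddCommGroup M] [Module R M] :
    Module.Flat R M ↔
      ∃ (J : Type u) (_ : Preorder J) (_ : IsDirected J (fun a b => a ≤ b)) (_ : Nonempty J)
        (F : J ⥤ ModuleCat.{u} R), (∀ j, Module.Finite R (F.obj j) ∧ Module.Free R (F.obj j)) ∧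
        Nonempty (Limits.colimit F ≅ ModuleCat.of R M) := by
  constructor
  · intro hflat
    haveI := isFiltered (R := R) (M := M)
    obtain ⟨α, _, hdir, hne, G, hG⟩ := IsFiltered.exists_directed (Cat R M)
    refine ⟨α, inferInstance, hdir, hne, G ⋙ diag R M, fun j => ?_, ⟨?_⟩⟩
    · exact ⟨inferInstanceAs (Module.Finite R (Fin (Obj.n (G.obj j)) → R)), inferInstanceAs (Module.Free R (Fin (Obj.n (G.obj j)) → R))⟩
    · haveI := isIso_desc (R := R) (M := M)
      exact Functor.Final.colimitIso G (diag R M) ≪≫ @asIso _ _ _ _ (Limits.colimit.desc (diag R M) (cocone R M)) (isIso_desc (R := R) (M := M))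
  · rintro ⟨J, _, hdir, hne, F, hF, ⟨e⟩⟩
    haveI : IsFiltered J := inferInstance
    haveI : ∀ j, Module.Flat R (F.obj j) := fun j => by
      haveI := (hF j).2
      infer_instance
    haveI : Module.Flat R ↥(Limits.colimit F) := by
      refine Module.Flat.of_forall_isTrivialRelation fun {l f x} hx => ?_
      choose j y hy using fun i => Limits.Concrete.colimit_exists_rep F (x i)
      obtain ⟨k, hk⟩ := Finite.exists_le j
      have hy' : ∀ i, Limits.colimit.ι F k (F.map (homOfLE (hk i)) (y i)) = x i := fun i => by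
        rw [← hy i, ← ConcreteCategory.comp_apply, Limits.colimit.w]
      have h0 : Limits.colimit.ι F k (∑ i, f i • F.map (homOfLE (hk i)) (y i)) = Limits.colimit.ι F k 0 := by
        rw [map_sum, map_zero]
        simp only [map_smul, hy', hx]
      obtain ⟨k', g, g', hg⟩ := Limits.Concrete.colimit_exists_of_rep_eq F _ _ h0
      rw [map_zero, map_sum] at hg
      simp only [map_smul] at hg
      obtain ⟨m, a, z, hz, ha⟩ := Module.Flat.isTrivialRelation_of_sum_smul_eq_zero hg
      refine ⟨m, a, fun q => Limits.colimit.ι F k' (z q), fun i => ?_, ha⟩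
      have := congrArg (Limits.colimit.ι F k') (hz i)
      rw [← ConcreteCategory.comp_apply, Limits.colimit.w, hy'] at this
      simp only [this, map_sum, map_smul]
    exact Module.Flat.of_linearEquiv e.toLinearEquiv.symm

end Groth.Agent.S2118
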