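import Groth.Statements.S2119
import Mathlib
-- import your own Groth.Agent.* helpers here

set_option autoImplicit false
universe u
open CAlg

namespace Groth.Agent.S2119

/-- Nagata's criterion for factoriality, final assertion: let `A` be a domain in which every nonzero
nonunit factors into irreducibles, and `S` the multiplicative subset generated by a set of prime
elements. If the localization `S⁻¹A` is a unique factorization domain, then so is `A`. -/
theorem result {A : Type u} [CommRing A] [IsDomain A]
    (hfac : ∀ a : A, a ≠ 0 → ¬ IsUnit a → ∃ f : Multiset A, (∀ b ∈ f, Irreducible b) ∧ Associated f.prod a) (P : Set A)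
    (hP : ∀ p ∈ P, Prime p) [IsDomain (Localization (Submonoid.closure P))]
    (hS : UniqueFactorizationMonoid (Localization (Submonoid.closure P))) : UniqueFactorizationMonoid A := by
  classical
  set S := Submonoid.closure P with hS0
  have hS' : S ≤ nonZeroDivisors A := Submonoid.closure_le.mpr fun p hp =>
    mem_nonZeroDivisors_of_ne_zero (hP p hp).ne_zero
  have hinj : Function.Injective (algebraMap A (Localization S)) :=
    IsLocalization.injective (Localization S) hS'
  have hdvd : ∀ q : A, (∀ p ∈ P, ¬ p ∣ q) → ∀ s ∈ S, ∀ a, q ∣ a * s → q ∣ a := by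
    intro q hq s hs
    induction hs using Submonoid.closure_induction with
    | mem p hp =>
      rintro a ⟨r, hr⟩
      obtain ⟨r', rfl⟩ : p ∣ r := ((hP p hp).dvd_or_dvd ⟨a, by rw [← hr, mul_comm]⟩).resolve_left (hq p hp)
      refine ⟨r', mul_right_cancel₀ (hP p hp).ne_zero (hr.trans (by ring))⟩
    | one => intro a ha; simpa using ha
    | mul s t _ _ ihs iht => intro a ha; exact ihs a (iht (a * s) (by rwa [mul_assoc]))
  have hsplit : ∀ s ∈ S, ∀ q a b : A, q * s = a * b →
      ∃ a' b', ∃ s₁ ∈ S, ∃ s₂ ∈ S, a = a' * s₁ ∧ b = b' * s₂ ∧ q = a' * b' := by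
    intro s hs
    induction hs using Submonoid.closure_induction with
    | mem p hp =>
      intro q a b h
      rcases (hP p hp).dvd_or_dvd ⟨q, by rw [← h, mul_comm]⟩ with ⟨a', rfl⟩ | ⟨b', rfl⟩
      · exact ⟨a', b, p, Submonoid.subset_closure hp, 1, one_mem _, mul_comm _ _, (mul_one _).symm,
          mul_right_cancel₀ (hP p hp).ne_zero (h.trans (by ring))⟩
      · exact ⟨a, b', 1, one_mem _, p, Submonoid.subset_closure hp, (mul_one _).symm, mul_comm _ _,
          mul_right_cancel₀ (hP p hp).ne_zero (h.trans (by ring))⟩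
    | one =>
      intro q a b h
      exact ⟨a, b, 1, one_mem _, 1, one_mem _, (mul_one _).symm, (mul_one _).symm, by simpa using h⟩
    | mul s t _ _ ihs iht =>
      intro q a b h
      obtain ⟨a₁, b₁, t₁, ht₁, t₂, ht₂, rfl, rfl, h₁⟩ := iht (q * s) a b (by rw [mul_assoc]; exact h)
      obtain ⟨a', b', s₁, hs₁, s₂, hs₂, rfl, rfl, hq⟩ := ihs q a₁ b₁ h₁
      exact ⟨a', b', s₁ * t₁, mul_mem hs₁ ht₁, s₂ * t₂, mul_mem hs₂ ht₂, by ring, by ring, hq⟩
  have hprime : ∀ q : A, Irreducible q → Prime q := by
    intro q hq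
    by_cases hp : ∃ p ∈ P, p ∣ q
    · obtain ⟨p, hp, hpq⟩ := hp
      exact ((hP p hp).irreducible.associated_of_dvd hq hpq).prime (hP p hp)
    push Not at hp
    have hunit : ¬ IsUnit (algebraMap A (Localization S) q) := by
      intro hu
      obtain ⟨w, hw⟩ := hu.exists_right_inv
      obtain ⟨⟨a, s⟩, ha⟩ := IsLocalization.surj S w
      have h1 : q * a = s := hinj (by
        rw [map_mul, ← ha, ← mul_assoc, hw, one_mul])
      exact hq.not_isUnit (isUnit_iff_dvd_one.mpr (hdvd q hp s s.2 1 ⟨a, by rw [one_mul, h1]⟩))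
    have hirr : Irreducible (algebraMap A (Localization S) q) := by
      refine ⟨hunit, fun x y hxy => ?_⟩
      obtain ⟨⟨a, s⟩, ha⟩ := IsLocalization.surj S x
      obtain ⟨⟨b, t⟩, hb⟩ := IsLocalization.surj S y
      have h1 : q * (s * t : A) = a * b := hinj (by
        rw [map_mul, map_mul, map_mul, ← ha, ← hb, hxy]; ring)
      obtain ⟨a', b', s₁, hs₁, s₂, hs₂, rfl, rfl, hq'⟩ :=
        hsplit _ (mul_mem s.2 t.2) q a b h1
      rcases hq.isUnit_or_isUnit hq' with hu | hu
      · left
        refine isUnit_of_mul_isUnit_left (y := algebraMap A (Localization S) s) ?_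
        rw [ha, map_mul]
        exact (hu.map _).mul (IsLocalization.map_units _ ⟨s₁, hs₁⟩)
      · right
        refine isUnit_of_mul_isUnit_left (y := algebraMap A (Localization S) t) ?_
        rw [hb, map_mul]
        exact (hu.map _).mul (IsLocalization.map_units _ ⟨s₂, hs₂⟩)
    have hpr : Prime (algebraMap A (Localization S) q) := hirr.prime
    refine ⟨hq.ne_zero, hq.not_isUnit, fun a b hab => ?_⟩
    have hback : ∀ a : A, algebraMap A (Localization S) q ∣ algebraMap A (Localization S) a → q ∣ a := by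
      rintro a ⟨z, hz⟩
      obtain ⟨⟨r, s⟩, hr⟩ := IsLocalization.surj S z
      exact hdvd q hp s s.2 a ⟨r, hinj (by rw [map_mul, map_mul, hz, ← hr]; ring)⟩
    exact (hpr.dvd_or_dvd (by rw [← map_mul]; exact map_dvd _ hab)).imp (hback a) (hback b)
  refine UniqueFactorizationMonoid.of_exists_prime_factors fun a ha => ?_
  by_cases hu : IsUnit a
  · exact ⟨0, by simp, by simpa using (associated_one_iff_isUnit.mpr hu).symm⟩
  · obtain ⟨f, hf, hfa⟩ := hfac a ha hu
    exact ⟨f, fun b hb => hprime b (hf b hb), hfa⟩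

end Groth.Agent.S2119
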