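import Groth.Statements.S2121
import Groth.Agent.S9347
-- import your own Groth.Agent.* helpers here

set_option autoImplicit false
universe u
open CategoryTheory AlgebraicGeometry
open Mor

namespace Groth.Agent.S2121

/-- Let `f : X → Y` be quasi-compact and `z` a point in the closure of `f(X)` (the underlying set of the
scheme theoretic image). Then there are a valuation ring `A` with fraction field `K` and morphisms
`Spec K → X`, `Spec A → Y` forming a commutative square with `f` and `Spec K → Spec A`, such that
the closed point of `Spec A` maps to `z`. -/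
theorem result {X Y : Scheme.{u}} (f : X ⟶ Y) [QuasiCompact f] (z : Y)
    (hz : z ∈ closure (Set.range f.base)) :
    ∃ (A : Type u) (_ : CommRing A) (_ : IsDomain A) (_ : ValuationRing A)
      (x : Spec (CommRingCat.of (FractionRing A)) ⟶ X) (y : Spec (CommRingCat.of A) ⟶ Y),
      x ≫ f = Spec.map (CommRingCat.ofHom (algebraMap A (FractionRing A))) ≫ y ∧
      y.base (IsLocalRing.closedPoint A) = z := by
  obtain ⟨x, hsp⟩ := S9347.exists_specializes_of_mem_closure_range f z hz
  obtain ⟨A, hA, hloc⟩ := IsLocalRing.exists_factor_valuationRing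
    (Y.presheaf.stalkSpecializes hsp ≫ f.stalkMap x ≫ X.residue x).hom
  let ψ : Y.presheaf.stalk z ⟶ CommRingCat.of A :=
    CommRingCat.ofHom ((Y.presheaf.stalkSpecializes hsp ≫ f.stalkMap x ≫ X.residue x).hom.codRestrict A.toSubring hA)
  haveI : IsLocalHom ψ.hom := hloc
  let e := FractionRing.algEquiv A (X.residueField x)
  refine ⟨A, inferInstance, inferInstance, inferInstance,
    Spec.map (CommRingCat.ofHom e.symm.toRingHom) ≫ X.fromSpecResidueField x,
    Spec.map ψ ≫ Y.fromSpecStalk z, ?_, ?_⟩
  · rw [Scheme.fromSpecResidueField, Category.assoc, Category.assoc,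
      ← Scheme.SpecMap_stalkMap_fromSpecStalk, ← Scheme.SpecMap_stalkSpecializes_fromSpecStalk hsp]
    simp only [← Spec.map_comp_assoc]
    refine congrArg (fun g => Spec.map g ≫ Y.fromSpecStalk z) (CommRingCat.hom_ext (RingHom.ext fun a => ?_))
    exact e.symm.commutes (ψ a)
  · change Y.fromSpecStalk z (Spec.map ψ (IsLocalRing.closedPoint A)) = z
    rw [show Spec.map ψ (IsLocalRing.closedPoint A) = IsLocalRing.closedPoint (Y.presheaf.stalk z) from
      IsLocalRing.comap_closedPoint ψ.hom]
    exact Scheme.fromSpecStalk_closedPoint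

end Groth.Agent.S2121
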