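import Mathlib
import Groth.Statements.S2123
-- import your own Groth.Agent.* helpers here

set_option autoImplicit false
universe u
open CategoryTheory AlgebraicGeometry
open Mor

namespace Groth.Agent.S2123

/-- Let `X` be an integral separated scheme and `x, y` points such that the closure of `x` is not
contained in the closure of `y`. Then, inside the function field of `X`, the local ring at `x` is
not contained in the local ring at `y`. -/
theorem result (X : Scheme.{u}) [IsIntegral X] [X.IsSeparated] (x y : X)
    (h : ¬ closure ({x} : Set X) ⊆ closure {y}) :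
    ¬ Set.range (X.presheaf.stalkSpecializes (genericPoint_specializes x)) ⊆
        Set.range (X.presheaf.stalkSpecializes (genericPoint_specializes y)) := by
  intro hsub
  apply h
  let φx := (X.presheaf.stalkSpecializes (genericPoint_specializes x)).hom
  let φy := (X.presheaf.stalkSpecializes (genericPoint_specializes y)).hom
  have hinj : Function.Injective φy := IsFractionRing.injective (X.presheaf.stalk y) X.functionField
  have hex : ∀ a, ∃ b, φy b = φx a := fun a => hsub ⟨a, rfl⟩
  choose g hg using hex
  let ψ : X.presheaf.stalk x →+* X.presheaf.stalk y :=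
    { toFun := g
      map_one' := hinj (by rw [hg, map_one, map_one])
      map_mul' := fun a b => hinj (by rw [hg, map_mul, map_mul, hg, hg])
      map_zero' := hinj (by rw [hg, map_zero, map_zero])
      map_add' := fun a b => hinj (by rw [hg, map_add, map_add, hg, hg]) }
  let g₁ := Spec.map (CommRingCat.ofHom ψ) ≫ X.fromSpecStalk x
  let ι := Spec.map (X.presheaf.stalkSpecializes (genericPoint_specializes y))
  haveI : IsDominant ι := ⟨(PrimeSpectrum.denseRange_comap_iff_ker_le_nilRadical φy).2
    (by rw [(RingHom.injective_iff_ker_eq_bot φy).1 hinj]; exact bot_le)⟩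
  haveI : IsDomain (X.presheaf.stalk y) := Function.Injective.isDomain φy hinj
  have he : g₁ = X.fromSpecStalk y := ext_of_isDominant ι (by
    show Spec.map (X.presheaf.stalkSpecializes (genericPoint_specializes y)) ≫ Spec.map (CommRingCat.ofHom ψ) ≫ X.fromSpecStalk x = _
    rw [← Spec.map_comp_assoc]
    have e : CommRingCat.ofHom ψ ≫ X.presheaf.stalkSpecializes (genericPoint_specializes y) =
        X.presheaf.stalkSpecializes (genericPoint_specializes x) := CommRingCat.hom_ext (RingHom.ext hg)
    refine (congrArg (fun φ => Spec.map φ ≫ X.fromSpecStalk x) e).trans ?_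
    exact (Scheme.SpecMap_stalkSpecializes_fromSpecStalk _).trans (Scheme.SpecMap_stalkSpecializes_fromSpecStalk _).symm)
  have hy : y ∈ Set.range (X.fromSpecStalk x).base := by
    refine ⟨(Spec.map (CommRingCat.ofHom ψ)).base (IsLocalRing.closedPoint _), ?_⟩
    show g₁.base (IsLocalRing.closedPoint _) = y
    rw [he]
    exact Scheme.fromSpecStalk_closedPoint
  rw [Scheme.range_fromSpecStalk] at hy
  exact closure_minimal (Set.singleton_subset_iff.2 hy.mem_closure) isClosed_closure

end Groth.Agent.S2123
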