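import Groth.Statements.S2126
import Groth.Agent.InvPow.Ample
-- import your own Groth.Agent.* helpers here

set_option autoImplicit false
universe u
open CategoryTheory AlgebraicGeometry
open Mor

namespace Groth.Agent.S2126

/-- Let `X` be a quasi-compact scheme and `L` an invertible `O_X`-module. Then `L` is ample if and only
if the opens `X_s`, for `s` a global section of some positive tensor power of `L`, form a basis for
the topology of `X`. -/
theorem result {X : Scheme.{u}} [CompactSpace X] (L : X.Modules) (hL : PicF.IsInvertible L) :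
    CohB1.IsAmple L ↔
      TopologicalSpace.Opens.IsBasis
        {U : X.Opens | ∃ (n : ℕ) (s : Coh.structureModule X ⟶ CohB1.tensorPow L (n + 1)), U = CohB1.genLocus _ s} := by
  refine ⟨fun h => TopologicalSpace.Opens.isBasis_iff_nbhd.mpr ?_, fun h => ?_⟩
  · show ∀ {U : X.Opens} {x : X}, x ∈ U → _
    intro U x hxU
    obtain ⟨n, hn, s, hxs, hle, -⟩ := Groth.Agent.InvPow.exists_locus_le h hxU
    obtain ⟨m, rfl⟩ : ∃ m, n = m + 1 := ⟨n - 1, by omega⟩
    have e := Groth.Agent.InvPow.genLocus_globalHom (Groth.Agent.InvPow.isInvertible_tensorPow hL (m + 1)) s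
    exact ⟨_, ⟨m, _, rfl⟩, e.ge hxs, e.le.trans hle⟩
  · refine Groth.Agent.InvPow.isAmple_of_basis hL fun x U hxU => ?_
    obtain ⟨_, ⟨n, s, rfl⟩, hxs, hle⟩ := TopologicalSpace.Opens.isBasis_iff_nbhd.mp h hxU
    obtain ⟨σ, rfl⟩ := Groth.Agent.InvPow.exists_globalHom_eq s
    rw [Groth.Agent.InvPow.genLocus_globalHom (Groth.Agent.InvPow.isInvertible_tensorPow hL _)] at hxs hle
    exact ⟨n + 1, Nat.succ_pos n, σ, hxs, hle⟩

end Groth.Agent.S2126
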