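import Groth.Statements.S2131
import Mathlib

set_option autoImplicit false
universe u
open CAlg

namespace Groth.Agent.S2131

/-- For an `R`-linear map from a finite module to a finitely presented module, the primes at which its
localization is bijective form an open subset of `Spec R`. -/
theorem result {R M N : Type u} [CommRing R] [AddCommGroup M] [Module R M] [Module.Finite R M]
    [AddCommGroup N] [Module R N] [Module.FinitePresentation R N] (φ : M →ₗ[R] N) :
    IsOpen {p : PrimeSpectrum R | Function.Bijective (LocalizedModule.map p.asIdeal.primeCompl φ)} := by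
  rw [isOpen_iff_forall_mem_open]
  intro p hp
  obtain ⟨g, hg, hbij⟩ := Module.FinitePresentation.exists_notMem_bijective φ p.asIdeal
    (LocalizedModule.mkLinearMap p.asIdeal.primeCompl M)
    (LocalizedModule.mkLinearMap p.asIdeal.primeCompl N) hp
  refine ⟨PrimeSpectrum.basicOpen g, fun q hq => ?_, (PrimeSpectrum.basicOpen g).isOpen, hg⟩
  have hle : Submonoid.powers g ≤ q.asIdeal.primeCompl := Submonoid.powers_le.2 hq
  constructor
  · rw [injective_iff_map_eq_zero]
    intro z hz
    induction z using LocalizedModule.induction_on with
    | h m s =>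
      rw [LocalizedModule.map_mk] at hz
      obtain ⟨u, hu⟩ := LocalizedModule.mk_eq.1 (hz.trans (LocalizedModule.zero_mk 1).symm)
      simp only [one_smul, smul_zero] at hu
      have h0 : LocalizedModule.mk ((u : R) • m) (1 : Submonoid.powers g) = 0 := by
        refine hbij.1 ?_
        rw [LocalizedModule.map_mk, map_smul, ← Submonoid.smul_def, hu, LocalizedModule.zero_mk,
          map_zero]
      obtain ⟨t, ht⟩ := LocalizedModule.mk_eq.1 (h0.trans (LocalizedModule.zero_mk 1).symm)
      simp only [one_smul, smul_zero] at ht
      rw [← LocalizedModule.zero_mk s]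
      refine LocalizedModule.mk_eq.2 ⟨⟨(t : R), hle t.2⟩ * u, ?_⟩
      simp only [Submonoid.smul_def, Submonoid.coe_mul, smul_zero, smul_smul] at ht ⊢
      rw [show (t : R) * (u : R) * (s : R) = (s : R) * ((t : R) * (u : R)) by ring, mul_smul,
        ht, smul_zero]
  · intro z
    induction z using LocalizedModule.induction_on with
    | h n s =>
      obtain ⟨y, hy⟩ := hbij.2 (LocalizedModule.mk n 1)
      induction y using LocalizedModule.induction_on with
      | h m t =>
        rw [LocalizedModule.map_mk] at hy
        obtain ⟨v, hv⟩ := LocalizedModule.mk_eq.1 hy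
        refine ⟨LocalizedModule.mk m (⟨(t : R), hle t.2⟩ * s), ?_⟩
        rw [LocalizedModule.map_mk]
        refine LocalizedModule.mk_eq.2 ⟨⟨(v : R), hle v.2⟩, ?_⟩
        simp only [Submonoid.smul_def, Submonoid.coe_mul, Submonoid.coe_one, smul_smul, mul_one,
          one_smul] at hv ⊢
        rw [mul_comm (v : R) (s : R), mul_smul, hv, smul_smul]
        congr 1
        ring

end Groth.Agent.S2131
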