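import Groth.Statements.S2132
import Mathlib.RingTheory.Henselian
import Mathlib.Algebra.Category.Ring.FilteredColimits
import Mathlib.CategoryTheory.Limits.ConcreteCategory.Basic

set_option autoImplicit false
universe u
open CategoryTheory
open CAlg

namespace Groth.Agent.S2132

open Polynomial in
lemma exists_common {J : Type u} [SmallCategory J] [IsFiltered J] (F : J ⥤ CommRingCat.{u})
    (c : Limits.Cocone F) (hc : Limits.IsColimit c) :
    ∀ (n : ℕ) (x : Fin n → c.pt), ∃ (j : J) (y : Fin n → F.obj j), ∀ i, c.ι.app j (y i) = x i := by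
  intro n
  induction n with
  | zero => exact fun x => haveI : Nonempty J := IsFiltered.nonempty; ⟨Classical.arbitrary J, fun i => i.elim0, fun i => i.elim0⟩
  | succ n ih =>
    intro x
    obtain ⟨j₁, y, hy⟩ := ih (fun i => x i.succ)
    obtain ⟨j₂, z, hz⟩ := Limits.Concrete.isColimit_exists_rep F hc (x 0)
    refine ⟨IsFiltered.max j₁ j₂, Fin.cons (F.map (IsFiltered.rightToMax j₁ j₂) z)
      (fun i => F.map (IsFiltered.leftToMax j₁ j₂) (y i)), fun i => ?_⟩
    have hw : ∀ {a b : J} (f : a ⟶ b) (w : F.obj a), c.ι.app b (F.map f w) = c.ι.app a w :=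
      fun f w => ConcreteCategory.congr_hom (c.w f) w
    refine Fin.cases ?_ (fun i => ?_) i
    · rw [Fin.cons_zero, hw]; exact hz
    · rw [Fin.cons_succ, hw]; exact hy i


/-- Let `F : J ⥤ CommRingCat` be a filtered diagram of henselian local rings with local transition maps
and `c` a colimit cocone. Then the colimit is a henselian local ring. -/
theorem result {J : Type u} [SmallCategory J] [IsFiltered J] (F : J ⥤ CommRingCat.{u})
    (hF : ∀ j, HenselianLocalRing (F.obj j)) (hloc : ∀ (i j : J) (a : i ⟶ j), IsLocalHom (F.map a).hom)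
    (c : Limits.Cocone F) (hc : Limits.IsColimit c) : HenselianLocalRing c.pt := by
  haveI := hF
  have hw : ∀ {a b : J} (f : a ⟶ b) (w : F.obj a), c.ι.app b (F.map f w) = c.ι.app a w :=
    fun f w => ConcreteCategory.congr_hom (c.w f) w
  haveI hlocι : ∀ j, IsLocalHom (c.ι.app j).hom := by
    refine fun j => ⟨fun x hx => ?_⟩
    obtain ⟨y, hy⟩ := isUnit_iff_exists_inv.mp hx
    obtain ⟨j', y', rfl⟩ := Limits.Concrete.isColimit_exists_rep F hc y
    have h1 : c.ι.app (IsFiltered.max j j')
        (F.map (IsFiltered.leftToMax j j') x * F.map (IsFiltered.rightToMax j j') y') =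
        c.ι.app (IsFiltered.max j j') 1 := by
      rw [map_mul, hw, hw, map_one]
      exact hy
    obtain ⟨k, f, g, hfg⟩ := Limits.Concrete.isColimit_exists_of_rep_eq F hc _ _ h1
    rw [map_mul, map_one] at hfg
    haveI := hloc j k (IsFiltered.leftToMax j j' ≫ f)
    refine IsUnit.of_map (F.map (IsFiltered.leftToMax j j' ≫ f)).hom x ?_
    rw [F.map_comp]
    exact isUnit_iff_exists_inv.mpr ⟨_, hfg⟩
  haveI : Nonempty J := IsFiltered.nonempty
  haveI : Nontrivial c.pt := by
    refine nontrivial_of_ne (0 : c.pt) 1 fun h => ?_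
    have h1 : c.ι.app (Classical.arbitrary J) 0 = c.ι.app (Classical.arbitrary J) 1 := by
      rw [map_zero, map_one, h]
    obtain ⟨k, f, g, hfg⟩ := Limits.Concrete.isColimit_exists_of_rep_eq F hc _ _ h1
    rw [map_zero, map_one] at hfg
    exact zero_ne_one hfg
  haveI : IsLocalRing c.pt := IsLocalRing.of_isUnit_or_isUnit_one_sub_self fun a => by
    obtain ⟨j, x, rfl⟩ := Limits.Concrete.isColimit_exists_rep F hc a
    rcases IsLocalRing.isUnit_or_isUnit_one_sub_self x with h | h
    · exact Or.inl (h.map (c.ι.app j).hom)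
    · refine Or.inr ?_
      have := h.map (c.ι.app j).hom
      rwa [map_sub, map_one] at this
  refine ⟨fun f hf a₀ h₁ h₂ => ?_⟩
  open Polynomial in
  obtain ⟨j, y, hy⟩ := exists_common F c hc (f.natDegree + 1) (Fin.cons a₀ (fun i => f.coeff i))
  let φ := (c.ι.app j).hom
  have hy0 : φ (y 0) = a₀ := hy 0
  let g : Polynomial (F.obj j) := Polynomial.X ^ f.natDegree +
    ∑ i : Fin f.natDegree, Polynomial.C (y i.succ) * Polynomial.X ^ (i : ℕ)
  have hg : g.Monic := Polynomial.monic_X_pow_add
    (lt_of_le_of_lt (Polynomial.degree_sum_le _ _) ((Finset.sup_lt_iff (WithBot.bot_lt_coe _)).mpr fun i _ =>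
      lt_of_le_of_lt (Polynomial.degree_C_mul_X_pow_le _ _) (WithBot.coe_lt_coe.mpr i.2)))
  have hgf : g.map φ = f := by
    conv_rhs => rw [hf.as_sum]
    rw [← Fin.sum_univ_eq_sum_range (fun i => Polynomial.C (f.coeff i) * Polynomial.X ^ i) f.natDegree]
    simp only [g, Polynomial.map_add, Polynomial.map_pow, Polynomial.map_X, Polynomial.map_sum,
      Polynomial.map_mul, Polynomial.map_C]
    congr 1
    refine Finset.sum_congr rfl fun i _ => ?_
    rw [show φ (y i.succ) = f.coeff i from hy i.succ]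
  obtain ⟨a, ha, hab⟩ := HenselianLocalRing.is_henselian g hg (y 0) (by
      rw [IsLocalRing.mem_maximalIdeal, mem_nonunits_iff]
      intro hu
      apply h₁
      have := hu.map φ
      rwa [← Polynomial.eval_map_apply, hgf, hy0] at this)
    (by
      refine IsUnit.of_map φ _ ?_
      rwa [← Polynomial.eval_map_apply, ← Polynomial.derivative_map, hgf, hy0])
  refine ⟨φ a, ?_, ?_⟩
  · rw [Polynomial.IsRoot, ← hgf, Polynomial.eval_map_apply, ha, map_zero]
  · rw [← hy0, ← map_sub]
    exact (IsLocalRing.mem_maximalIdeal _).mpr fun hu => (IsLocalRing.mem_maximalIdeal _).mp hab (IsUnit.of_map φ _ hu)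

end Groth.Agent.S2132
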