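import Groth.Statements.S2133
import Groth.Agent.GRing17.Derivation

set_option autoImplicit false
attribute [local instance 10000] Ring.toIntAlgebra
universe u
open CAlg

namespace Groth.Agent.S2133

/-- Let `R → R'` be an injective ring map of finite type and `g ∈ R` a nonzerodivisor on `R'` such that
every element of `R'` lands in `R` after multiplication by a power of `g` (so `R_g = R'_g`). Then
for every derivation `D` of `R` there is `N` such that `g^N D` extends to a derivation of `R'`. -/
theorem result {R R' : Type u} [CommRing R] [CommRing R'] [Algebra R R'] [Algebra.FiniteType R R']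
    (hinj : Function.Injective (algebraMap R R')) (g : R) (hg : IsSMulRegular R' (algebraMap R R' g))
    (hloc : ∀ x : R', ∃ n : ℕ, (algebraMap R R' g) ^ n * x ∈ Set.range (algebraMap R R')) (D : Derivation ℤ R R) :
    ∃ (N : ℕ) (D' : Derivation ℤ R' R'), ∀ r : R, D' (algebraMap R R' r) = algebraMap R R' (g ^ N * D r) := by
  classical
  let g' := algebraMap R R' g
  let L := Localization.Away g'
  have hinjL : Function.Injective (algebraMap R' L) := by
    refine (injective_iff_map_eq_zero _).mpr fun x hx => ?_
    obtain ⟨⟨_, n, rfl⟩, hn⟩ := (IsLocalization.map_eq_zero_iff (Submonoid.powers g') L x).mp hx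
    exact (hg.pow n) (show g' ^ n • x = g' ^ n • (0 : R') by simpa using hn)
  have : IsLocalization (Submonoid.powers g) L := by
    rw [isLocalization_iff]
    refine ⟨?_, ?_, ?_⟩
    · rintro ⟨_, n, rfl⟩
      rw [IsScalarTower.algebraMap_apply R R' L, map_pow, map_pow]
      exact (IsLocalization.Away.algebraMap_isUnit g').pow n
    · intro z
      obtain ⟨⟨x, ⟨_, k, rfl⟩⟩, hz⟩ := IsLocalization.surj (Submonoid.powers g') z
      obtain ⟨n, r, hr⟩ := hloc x
      refine ⟨⟨r, ⟨g ^ (n + k), n + k, rfl⟩⟩, ?_⟩
      show z * algebraMap R L (g ^ (n + k)) = algebraMap R L r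
      rw [IsScalarTower.algebraMap_apply R R' L, IsScalarTower.algebraMap_apply R R' L, hr, map_pow, pow_add,
        map_mul, map_mul, ← hz]
      show z * (algebraMap R' L (g' ^ n) * algebraMap R' L (g' ^ k)) = _
      ring
    · intro x y h
      refine ⟨1, ?_⟩
      rw [IsScalarTower.algebraMap_apply R R' L, IsScalarTower.algebraMap_apply R R' L] at h
      rw [hinj (hinjL h)]
  obtain ⟨d, hd⟩ := GRing17.exists_derivation_localization (Submonoid.powers g) (B := L) D
  obtain ⟨s, hs⟩ := Algebra.FiniteType.out (R := R) (A := R')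
  have hden : ∀ z : L, ∃ (N : ℕ) (x : R'), algebraMap R' L (g' ^ N) * z = algebraMap R' L x := fun z => by
    obtain ⟨⟨x, ⟨_, k, rfl⟩⟩, hz⟩ := IsLocalization.surj (Submonoid.powers g') z
    exact ⟨k, x, by rw [mul_comm]; exact hz⟩
  choose Nz xz hxz using hden
  let N := s.sup fun x => Nz (d (algebraMap R' L x))
  let G := algebraMap R' L (g' ^ N)
  let S : Subalgebra R R' :=
    { carrier := {x | G * d (algebraMap R' L x) ∈ Set.range (algebraMap R' L)}
      mul_mem' := by
        rintro x y ⟨a, ha⟩ ⟨b, hb⟩
        refine ⟨x * b + y * a, ?_⟩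
        rw [map_add, map_mul, map_mul, map_mul, ha, hb, Derivation.leibniz, smul_eq_mul, smul_eq_mul]
        ring
      add_mem' := by
        rintro x y ⟨a, ha⟩ ⟨b, hb⟩
        exact ⟨a + b, by rw [map_add, map_add, map_add, mul_add, ha, hb]⟩
      algebraMap_mem' := fun r => ⟨g' ^ N * algebraMap R R' (D r), by
        rw [← IsScalarTower.algebraMap_apply R R' L, hd, map_mul, ← IsScalarTower.algebraMap_apply]⟩ }
  have hS : ∀ x, x ∈ S := by
    have h1 : Algebra.adjoin R (s : Set R') ≤ S := Algebra.adjoin_le fun x hx => by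
      have hle : Nz (d (algebraMap R' L x)) ≤ N := Finset.le_sup (f := fun x => Nz (d (algebraMap R' L x))) hx
      refine ⟨g' ^ (N - Nz (d (algebraMap R' L x))) * xz (d (algebraMap R' L x)), ?_⟩
      show _ = G * d (algebraMap R' L x)
      rw [map_mul, ← hxz, ← mul_assoc, ← map_mul, ← pow_add, Nat.sub_add_cancel hle]
    exact fun x => h1 (hs ▸ Algebra.mem_top)
  choose δ hδ using hS
  let L' : R' →+ R' :=
    { toFun := δ
      map_zero' := hinjL (by simp [hδ])
      map_add' := fun x y => hinjL (by rw [hδ, map_add, map_add, map_add, mul_add, hδ, hδ]) }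
  refine ⟨N, Derivation.mk' L'.toIntLinearMap fun x y => hinjL ?_, fun r => hinjL ?_⟩
  · show algebraMap R' L (δ (x * y)) = algebraMap R' L (x * δ y + y * δ x)
    rw [hδ, map_add, map_mul (algebraMap R' L), map_mul (algebraMap R' L), map_mul (algebraMap R' L), hδ, hδ,
      Derivation.leibniz, smul_eq_mul, smul_eq_mul]
    ring
  · show algebraMap R' L (δ (algebraMap R R' r)) = _
    rw [hδ, ← IsScalarTower.algebraMap_apply R R' L, hd]
    show algebraMap R' L (g' ^ N) * _ = _
    rw [IsScalarTower.algebraMap_apply R R' L, ← map_mul, map_mul (algebraMap R R'), map_pow (algebraMap R R')]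

end Groth.Agent.S2133
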