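import Groth.Statements.S2134
import Mathlib
-- import your own Groth.Agent.* helpers here

set_option autoImplicit false
universe u
open CAlg

namespace Groth.Agent.S2134

/-- Let `K/k` be a field extension and `(K_α)` a nonempty family of intermediate fields, directed
downwards, with intersection `k`. For a `K`-subspace `V` of `K^n` (`n ≥ 1`), `V` contains a nonzero
vector with all coordinates in `k` if and only if for every `α` it contains a nonzero vector with
all coordinates in `K_α`. -/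
theorem result {k K : Type u} [Field k] [Field K] [Algebra k K] {ι : Type u} [Nonempty ι]
    (F : ι → IntermediateField k K) (hdir : ∀ a b : ι, ∃ c, F c ≤ F a ⊓ F b) (hinf : ⨅ a, F a = ⊥) (n : ℕ) (hn : 1 ≤ n)
    (V : Submodule K (Fin n → K)) :
    (∃ v ∈ V, v ≠ 0 ∧ ∀ i, v i ∈ Set.range (algebraMap k K)) ↔
      ∀ a, ∃ v ∈ V, v ≠ 0 ∧ ∀ i, v i ∈ F a := by
  classical
  constructor
  · rintro ⟨v, hv, hv0, hc⟩ a
    refine ⟨v, hv, hv0, fun i => ?_⟩
    obtain ⟨c, hc⟩ := hc i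
    exact hc ▸ (F a).algebraMap_mem c
  intro H
  let supp : (Fin n → K) → Finset (Fin n) := fun v => Finset.univ.filter fun i => v i ≠ 0
  let S : ι → Set (Finset (Fin n)) := fun a =>
    {s | ∃ v ∈ V, v ≠ 0 ∧ (∀ i, v i ∈ F a) ∧ supp v = s}
  have hmono : ∀ {a b}, F a ≤ F b → S a ⊆ S b := fun hab s ⟨v, hv, hv0, hc, hs⟩ =>
    ⟨v, hv, hv0, fun i => hab (hc i), hs⟩
  obtain ⟨a₀, ha₀⟩ := Nat.sInf_mem (Set.range_nonempty fun a => (S a).ncard)
  have hconst : ∀ c, F c ≤ F a₀ → S c = S a₀ := fun c hc =>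
    Set.eq_of_subset_of_ncard_le (hmono hc)
      (le_trans (le_of_eq ha₀) (Nat.sInf_le ⟨c, rfl⟩))
  obtain ⟨v₀, hv₀, hv₀0, hv₀c⟩ := H a₀
  obtain ⟨s, hs, hmin⟩ := Set.exists_min_image (S a₀) Finset.card (Set.toFinite _)
    ⟨supp v₀, v₀, hv₀, hv₀0, hv₀c, rfl⟩
  obtain ⟨v, hv, hv0, hvc, hsv⟩ := id hs
  obtain ⟨i₀, hi₀⟩ : ∃ i, v i ≠ 0 := Function.ne_iff.mp hv0
  have hi₀s : i₀ ∈ s := by rw [← hsv]; simp [supp, hi₀]
  refine ⟨(v i₀)⁻¹ • v, V.smul_mem _ hv,
    smul_ne_zero (inv_ne_zero hi₀) hv0, fun i => ?_⟩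
  have hmem : (v i₀)⁻¹ * v i ∈ ⨅ a, F a := by
    rw [← SetLike.mem_coe, IntermediateField.coe_iInf, Set.mem_iInter]
    intro a
    obtain ⟨c, hc⟩ := hdir a a₀
    obtain ⟨w, hw, hw0, hwc, hsw⟩ := (hconst c (hc.trans inf_le_right)) ▸ hs
    have hwi₀ : w i₀ ≠ 0 := by
      have : i₀ ∈ supp w := by rw [hsw]; exact hi₀s
      simpa [supp] using this
    set d := (w i₀)⁻¹ • w - (v i₀)⁻¹ • v with hd
    have hd0 : d = 0 := by
      by_contra hne
      have hdmem : supp d ∈ S a₀ := ⟨d, sub_mem (V.smul_mem _ hw) (V.smul_mem _ hv), hne, fun j =>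
        sub_mem (mul_mem (inv_mem ((hc.trans inf_le_right) (hwc i₀)))
          ((hc.trans inf_le_right) (hwc j))) (mul_mem (inv_mem (hvc i₀)) (hvc j)), rfl⟩
      have hlt : (supp d).card < s.card := by
        refine Finset.card_lt_card ((Finset.ssubset_iff_of_subset fun j hj => ?_).mpr
          ⟨i₀, hi₀s, ?_⟩)
        · by_contra hjs
          have h1 : w j = 0 := by
            by_contra hwj
            exact hjs (hsw ▸ by simp [supp, hwj])
          have h2 : v j = 0 := by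
            by_contra hvj
            exact hjs (hsv ▸ by simp [supp, hvj])
          simp [supp, hd, h1, h2] at hj
        · simp [supp, hd, hwi₀, hi₀]
      exact (hmin _ hdmem).not_gt hlt
    have he : (w i₀)⁻¹ * w i = (v i₀)⁻¹ * v i := sub_eq_zero.mp (congrFun hd0 i)
    rw [SetLike.mem_coe, ← he]
    exact (hc.trans inf_le_left) (mul_mem (inv_mem (hwc i₀)) (hwc i))
  rw [hinf, IntermediateField.mem_bot] at hmem
  exact hmem

end Groth.Agent.S2134
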