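import Groth.Statements.S2135
import Groth.Agent.SHensel17.GeomUnib

set_option autoImplicit false
universe u
open CAlg

namespace Groth.Agent.S2135

/-- A local ring `A` is geometrically unibranch if and only if a strict henselization of `A` has a
unique minimal prime ideal. -/
theorem result {A Ash : Type u} [CommRing A] [IsLocalRing A]
    [CommRing Ash] [IsLocalRing Ash] [Algebra A Ash] [IsLocalHom (algebraMap A Ash)]
    [Hensel.IsStrictHenselization A Ash] :
    CAlg2.IsGeomUnibranch A ↔ CAlgX.HasUniqueMinimalPrime Ash := by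
  rw [Groth.Agent.SHensel17.geomUnibranch_iff_red A Ash]
  constructor
  · intro h
    refine ⟨nilradical Ash, ⟨⟨h, bot_le⟩, fun P hP _ => nilradical_le_prime P (H := hP.1)⟩, fun P hP => ?_⟩
    exact le_antisymm (hP.2 ⟨h, bot_le⟩ (nilradical_le_prime P (H := hP.1.1))) (nilradical_le_prime P (H := hP.1.1))
  · rintro ⟨P, hP, huniq⟩
    have : nilradical Ash = P := by
      rw [nilradical, ← Ideal.sInf_minimalPrimes]
      exact le_antisymm (sInf_le hP) (le_sInf fun Q hQ => (huniq Q hQ).ge)
    exact this ▸ hP.1.1

end Groth.Agent.S2135
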