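import Groth.Statements.S2137
import Groth.Agent.LBC.Basic
import Groth.Agent.DRingPC.Basic
import Groth.Agent.PCohLib.Coherent

set_option autoImplicit false
universe u
open CategoryTheory
attribute [local instance] HasDerivedCategory.standard
open CAlg

namespace Groth.Agent.S2137
open CategoryTheory.Limits HomologicalComplex Groth.Agent.PCohLib

attribute [local instance] HasDerivedCategory.standard

variable (A : Type u) [CommRing A]

/-- Projective modules. -/
def Prj : ObjectProperty (ModuleCat.{u} A) := fun M => Module.Projective A M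

instance : (Prj A).IsClosedUnderIsomorphisms where
  of_iso {X Y} e h := haveI : Module.Projective A X := h; Module.Projective.of_equiv e.toLinearEquiv

instance : (Prj A).ContainsZero where
  exists_zero := ⟨ModuleCat.of A PUnit.{u + 1}, ModuleCat.isZero_of_subsingleton _,
    (inferInstance : Module.Projective A PUnit.{u + 1})⟩

lemma Prj.of_free {M : ModuleCat.{u} A} (h : Module.Free A M) : Prj A M :=
  haveI := h
  (inferInstance : Module.Projective A M)

lemma Prj.sum (X Y : ModuleCat.{u} A) (hX : Prj A X) (hY : Prj A Y) : Prj A (X ⨯ Y) := by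
  haveI : Module.Projective A X := hX
  haveI : Module.Projective A Y := hY
  exact (Prj A).prop_of_iso ((ModuleCat.biprodIsoProd X Y).symm ≪≫ biprod.isoProd X Y)
    (inferInstance : Module.Projective A (X × Y))

lemma Prj.lift (E F : ModuleCat.{u} A) (f : E ⟶ F) (hf : Epi f) (hF : Prj A F) : IsSplitEpi f := by
  haveI : Module.Projective A F := hF
  obtain ⟨s, hs⟩ := Module.projective_lifting_property f.hom LinearMap.id
    ((ModuleCat.epi_iff_surjective f).1 hf)
  exact IsSplitEpi.mk' ⟨ModuleCat.ofHom s, ModuleCat.hom_ext hs⟩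

lemma Prj.ft (M : ModuleCat.{u} A) : PCoh.IsOfFiniteType (Prj A) M :=
  ⟨ModuleCat.of A (M →₀ A), ModuleCat.ofHom (Finsupp.linearCombination A (id : M → M)),
    (inferInstance : Module.Projective A (M →₀ A)),
    (ModuleCat.epi_iff_surjective _).2 (Finsupp.linearCombination_id_surjective A M)⟩

lemma Prj.qs : PCoh.IsQuasiStableUnderKernels (Prj A) := fun _ _ _ _ => Prj.ft A _

lemma Prj.ql : PCoh.IsQuasiLiftable (Prj A) := fun E F f hf hF => by
  haveI := Prj.lift A E F f hf hF
  exact ⟨F, section_ f, hF, by rw [IsSplitEpi.id]; infer_instance⟩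

lemma Prj.precoh (M : ModuleCat.{u} A) : Precoh (Prj A) M := fun _ _ _ => Prj.ft A _

lemma mem_mappingCone' {E F : DRing.Cx A} (f : E ⟶ F) (i : ℤ) (hE : Prj A (E.X (i + 1)))
    (hF : Prj A (F.X i)) : Prj A ((CochainComplex.mappingCone f).X i) :=
  (Prj A).prop_of_iso (HomologicalComplex.homotopyCofiber.XIsoBiprod f i (i + 1) rfl).symm
    (mem_biprod (Prj.sum A) hE hF)


/-- Let `A → B` be a ring map and `K` an `m`-pseudo-coherent object of `D(A)`. Then `K ⊗^L_A B` is
`m`-pseudo-coherent in `D(B)`. (Stated assuming the total left derived functor of base change exists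
on `D(A)`, a fact not available as a library result here.) -/
theorem result {A B : Type u} [CommRing A] [CommRing B] (φ : A →+* B) [DRing.HasLBaseChange φ]
    (K : Dual.D A) (m : ℤ) (hK : DRing.IsPseudoCoherent A m K) :
    DRing.IsPseudoCoherent B m ((DRing.LBaseChange φ).obj K) := by
  obtain ⟨E, a, b, α, hEz, hEf, hiso, hepi⟩ := hK
  -- `K` is bounded above
  haveI hLE : K.IsLE (max b m) := (DerivedCategory.isLE_iff _ _).2 fun i hi => by
    haveI := hiso i (by omega)
    refine IsZero.of_iso ?_ (asIso ((DerivedCategory.homologyFunctor (ModuleCat.{u} A) i).map α)).symm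
    exact (exactAt_iff_isZero_homology _ _).1
      ((E.exactAt_iff i).2 (ShortComplex.exact_of_isZero_X₂ (E.sc i) (hEz i (Or.inr (by omega)))))
      |>.of_iso (homologyQIso E i)
  -- a bounded above projective representative
  have hPC : ∀ n, NPC (Prj A) n K := fun n =>
    NPC_of_homology (Prj.sum A) (Prj.qs A) (Prj.ql A) n K (max b m) fun i _ =>
      NPC_single_of_coh (Prj.sum A) (Prj.ql A) (fun X _ => Prj.precoh A X)
        ⟨Prj.ft A _, Prj.precoh A _⟩ _
  obtain ⟨P, hP, hPz, ⟨eP⟩⟩ := exists_strictPCAll_vanishing (Prj.sum A) (Prj.qs A) (Prj.ql A)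
    (m := max b m + 1) (DerivedCategory.Q.objObjPreimageIso K)
    (fun n => (hPC n).of_iso (DerivedCategory.Q.objObjPreimageIso K).symm)
    (fun i hi => K.isZero_of_isLE (max b m) i (by omega))
  haveI : P.IsKProjective :=
    isKProjective_of_mem (Prj.lift A) P hP (max b m) (fun i hi => hPz i (by omega))
  obtain ⟨f, hf⟩ := exists_Q_map_eq (Prj.lift A) E (fun i => Prj.of_free A (hEf i).2) b
    (fun i hi => hEz i (Or.inr hi)) P (α ≫ eP.inv)
  have hNQ : NQ m f := by
    refine ⟨fun i hi => ?_, ?_⟩
    · rw [← isIso_homologyMap_Q_iff, hf, Functor.map_comp]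
      haveI := hiso i hi
      infer_instance
    · rw [← epi_homologyMap_Q_iff, hf, Functor.map_comp]
      infer_instance
  -- base change
  have hNQ' : NQ m ((LBC.ext φ).map f) := by
    rw [NQ_iff_exactFrom]
    have hC : ∀ i, Prj A ((CochainComplex.mappingCone f).X i) := fun i =>
      mem_mappingCone' A f i (Prj.of_free A (hEf _).2) (hP i)
    have hCz : ∀ i, max b m < i → IsZero ((CochainComplex.mappingCone f).X i) := fun i hi => by
      rw [CochainComplex.mappingCone.isZero_X_iff]
      exact ⟨hEz _ (Or.inr (by omega)), hPz _ (by omega)⟩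
    haveI : CochainComplex.IsKProjective (CochainComplex.mappingCone f) :=
      isKProjective_of_mem (Prj.lift A) _ hC (max b m) hCz
    obtain ⟨G, hG, hGz, ⟨eG⟩⟩ := exists_strictPCAll_vanishing (Prj.sum A) (Prj.qs A) (Prj.ql A)
      (m := m) (Iso.refl (DerivedCategory.Q.obj (CochainComplex.mappingCone f)))
      (fun n => NPC.mk ⟨⟨max b m, hCz⟩, fun i _ => hC i⟩ (Iso.refl _))
      (fun i hi => ((exactAt_iff_isZero_homology _ _).1
        ((NQ_iff_exactFrom m f).1 hNQ i hi)).of_iso (homologyQIso _ i))
    haveI : G.IsKProjective :=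
      isKProjective_of_mem (Prj.lift A) G hG m (fun i hi => hGz i hi.le)
    have h : ExactFrom m ((LBC.ext φ).obj (CochainComplex.mappingCone f)) :=
      exactFrom_of_iso ((LBC.valueIso φ G).symm ≪≫ (DRing.LBaseChange φ).mapIso eG ≪≫
        LBC.valueIso φ (CochainComplex.mappingCone f)) fun i hi =>
        (HomologicalComplex.exactAt_iff _ i).2 (ShortComplex.exact_of_isZero_X₂ _
          ((ModuleCat.extendScalars.{u, u, u} φ).map_isZero (hGz i hi)))
    exact fun i hi => (h i hi).of_iso (CochainComplex.mappingCone.mapHomologicalComplexIso f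
      (ModuleCat.extendScalars.{u, u, u} φ))
  refine ⟨(LBC.ext φ).obj E, a, b, DerivedCategory.Q.map ((LBC.ext φ).map f) ≫
    (LBC.valueIso φ P).inv ≫ (DRing.LBaseChange φ).map eP.hom,
    fun i hi => (ModuleCat.extendScalars.{u, u, u} φ).map_isZero (hEz i hi), fun i => ?_,
    fun i hi => ?_, ?_⟩
  · haveI := (hEf i).1
    haveI := (hEf i).2
    letI := φ.toAlgebra
    exact ⟨(inferInstance : Module.Finite B (TensorProduct A B (E.X i))),
      (inferInstance : Module.Free B (TensorProduct A B (E.X i)))⟩
  · rw [Functor.map_comp]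
    haveI := (isIso_homologyMap_Q_iff _ i).2 (hNQ'.1 i hi)
    infer_instance
  · rw [Functor.map_comp]
    haveI := (epi_homologyMap_Q_iff _ m).2 hNQ'.2
    infer_instance

end Groth.Agent.S2137
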