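import Groth.Statements.S2138
import Mathlib

set_option autoImplicit false
universe u
open CAlg

open scoped TensorProduct

namespace Groth.Agent.S2138

/-- Let `R → S` be flat and `𝔭` a prime of `R` whose extension `𝔮 = 𝔭S` is prime. Then for every `n` the
extension to `S` of the symbolic power `𝔭^{(n)}` (the contraction of `𝔭ⁿR_𝔭`) equals the symbolic
power `𝔮^{(n)}`. -/
theorem result {R S : Type u} [CommRing R] [CommRing S] [Algebra R S] [Module.Flat R S]
    (p : Ideal R) [p.IsPrime] [(p.map (algebraMap R S)).IsPrime] (n : ℕ) :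
    (((p ^ n).map (algebraMap R (Localization.AtPrime p))).comap (algebraMap R (Localization.AtPrime p))).map
        (algebraMap R S) =
      (((p.map (algebraMap R S)) ^ n).map (algebraMap S (Localization.AtPrime (p.map (algebraMap R S))))).comap
        (algebraMap S (Localization.AtPrime (p.map (algebraMap R S)))) := by
  classical
  set q := p.map (algebraMap R S) with hq
  let f := algebraMap R S
  let P : ℕ → Ideal R := fun n =>
    ((p ^ n).map (algebraMap R (Localization.AtPrime p))).comap (algebraMap R (Localization.AtPrime p))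
  have hP : ∀ n x, x ∈ P n ↔ ∃ u ∉ p, u * x ∈ p ^ n := fun n x => by
    refine (IsLocalization.algebraMap_mem_map_algebraMap_iff p.primeCompl
      (Localization.AtPrime p) (p ^ n) x).trans ?_
    exact ⟨fun ⟨u, hu, h⟩ => ⟨u, hu, h⟩, fun ⟨u, hu, h⟩ => ⟨u, hu, h⟩⟩
  have hqp : q.comap f = p := by
    refine le_antisymm ?_ Ideal.le_comap_map
    haveI : q.LiesOver (q.comap f) := ⟨rfl⟩
    haveI : (q.comap f).IsPrime := Ideal.IsPrime.comap f
    obtain ⟨Q, hle, hQ, hQp⟩ :=
      Ideal.exists_ideal_le_liesOver_of_le (R := R) (p := p) (q := q.comap f) q Ideal.le_comap_map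
    exact (Ideal.comap_mono (Ideal.map_le_iff_le_comap.2 hQp.over.le)).trans_eq hQp.over.symm
  have hsat : ∀ n u x, u ∉ p → u * x ∈ P n → x ∈ P n := fun n u x hu h => by
    obtain ⟨v, hv, h'⟩ := (hP n _).1 h
    exact (hP n x).2 ⟨v * u, fun hh => (Ideal.IsPrime.mem_or_mem inferInstance hh).elim hv hu,
      by rwa [mul_assoc]⟩
  -- the flatness input
  have hone : ∀ (I : Ideal R) (y : S),
      y ∈ I.map f ↔ y ⊗ₜ[R] (Ideal.Quotient.mk I 1) = (0 : S ⊗[R] (R ⧸ I)) := fun I y => by
    have : TensorProduct.tensorQuotEquivQuotSMul S I (y ⊗ₜ[R] (Ideal.Quotient.mk I 1)) =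
        Submodule.Quotient.mk y := by
      rw [TensorProduct.tensorQuotEquivQuotSMul, LinearEquiv.trans_apply, TensorProduct.comm_tmul,
        TensorProduct.quotTensorEquivQuotSMul_mk_tmul, one_smul]
    rw [← (TensorProduct.tensorQuotEquivQuotSMul S I).map_eq_zero_iff, this,
      Submodule.Quotient.mk_eq_zero, Ideal.smul_top_eq_map, Submodule.restrictScalars_mem]
  suffices key : ∀ n, ∀ t ∉ q, ∀ x, t * x ∈ (P n).map f → x ∈ (P n).map f by
    refine le_antisymm (Ideal.map_le_iff_le_comap.2 fun x hx => ?_) (fun x hx => ?_)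
    · obtain ⟨u, hu, h⟩ := (hP n x).1 hx
      rw [Ideal.mem_comap, Ideal.mem_comap, IsLocalization.algebraMap_mem_map_algebraMap_iff q.primeCompl]
      refine ⟨f u, fun h' => hu (hqp ▸ h'), ?_⟩
      rw [← Ideal.map_pow, ← map_mul]
      exact Ideal.mem_map_of_mem _ h
    · obtain ⟨t, ht, h⟩ := (IsLocalization.algebraMap_mem_map_algebraMap_iff q.primeCompl
        (Localization.AtPrime q) (q ^ n) x).1 hx
      refine key n t ht x (?_ : _ ∈ _)
      refine Ideal.map_mono (fun z hz => (hP n z).2 ⟨1, ?_, by rwa [one_mul]⟩) (by rw [Ideal.map_pow]; exact h)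
      exact fun h1 => ‹p.IsPrime›.ne_top ((Ideal.eq_top_iff_one p).2 h1)
  intro n
  induction n with
  | zero =>
    intro t _ x _
    have : P 0 = ⊤ := Ideal.eq_top_iff_one _ |>.2
      ((hP 0 1).2 ⟨1, fun h1 => ‹p.IsPrime›.ne_top ((Ideal.eq_top_iff_one p).2 h1), by simp⟩)
    rw [this, Ideal.map_top]
    trivial
  | succ n ih =>
    intro t ht x htx
    have hle : P (n + 1) ≤ P n :=
      Ideal.comap_mono (Ideal.map_mono (Ideal.pow_le_pow_right (Nat.le_succ n)))
    have hx : x ∈ Submodule.span S (f '' (P n : Set R)) := ih t ht x (Ideal.map_mono hle htx)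
    obtain ⟨K, s, g, hg⟩ := Submodule.mem_span_set'.1 hx
    choose a ha hga using fun k => (g k).2
    -- a maximal independent subfamily
    let Indep : Finset (Fin K) → Prop := fun J =>
      ∀ c : Fin K → R, ∑ j ∈ J, c j * a j ∈ P (n + 1) → ∀ j ∈ J, c j ∈ p
    obtain ⟨J, hJ⟩ := (Finset.univ.filter Indep).exists_maximal
      ⟨∅, by simp [Indep]⟩
    replace hJ : Maximal Indep J := ⟨by simpa using hJ.1, fun y hy => hJ.2 (by simpa using hy)⟩
    have hpP : ∀ r ∈ p, ∀ y ∈ P n, r * y ∈ P (n + 1) := fun r hr y hy => by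
      obtain ⟨u, hu, h⟩ := (hP n y).1 hy
      refine (hP (n + 1) _).2 ⟨u, hu, ?_⟩
      rw [show u * (r * y) = u * y * r by ring, pow_succ]
      exact Ideal.mul_mem_mul h hr
    have hdep : ∀ i, ∃ u, u ∉ p ∧ ∃ c : Fin K → R, u * a i - ∑ j ∈ J, c j * a j ∈ P (n + 1) := by
      intro i
      by_cases hi : i ∈ J
      · refine ⟨1, fun h1 => ‹p.IsPrime›.ne_top ((Ideal.eq_top_iff_one p).2 h1),
          Pi.single i 1, ?_⟩
        rw [Finset.sum_eq_single i (fun j _ hj => by simp [hj]) (fun h => absurd hi h)]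
        simp
      · have hni : ¬ Indep (insert i J) := fun h =>
          hi (hJ.2 h (Finset.subset_insert i J) (Finset.mem_insert_self i J))
        simp only [Indep, not_forall] at hni
        obtain ⟨c, hc, j, hj, hcj⟩ := hni
        rw [Finset.sum_insert hi] at hc
        by_cases hci : c i ∈ p
        · exfalso
          refine hcj ((Finset.mem_insert.1 hj).elim (fun e => e ▸ hci) fun hjJ => hJ.1 c ?_ j hjJ)
          simpa using Ideal.sub_mem _ hc (hpP _ hci _ (ha i))
        · refine ⟨c i, hci, fun j => - c j, ?_⟩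
          simpa [sub_neg_eq_add] using hc
    choose u hu c hc using hdep
    let U := ∏ i, u i
    have hU : U ∉ p := fun h => by
      obtain ⟨i, -, hi⟩ := (Ideal.IsPrime.prod_mem_iff (p := p)).1 h
      exact hu i hi
    let σ : Fin K → S := fun j => ∑ k, s k * f (∏ i ∈ Finset.univ.erase k, u i) * f (c k j)
    have hσ : f U * x - ∑ j ∈ J, σ j * f (a j) ∈ (P (n + 1)).map f := by
      rw [← hg, Finset.mul_sum]
      simp only [σ, Finset.sum_mul, smul_eq_mul]
      rw [Finset.sum_comm, ← Finset.sum_sub_distrib]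
      refine Ideal.sum_mem _ fun k _ => ?_
      have h1 : f (u k * a k - ∑ j ∈ J, c k j * a j) ∈ (P (n + 1)).map f :=
        Ideal.mem_map_of_mem f (hc k)
      have h2 := Ideal.mul_mem_left _ (s k * f (∏ i ∈ Finset.univ.erase k, u i)) h1
      rw [map_sub, map_sum, mul_sub, Finset.mul_sum] at h2
      convert h2 using 2
      · rw [← hga k, show U = u k * ∏ i ∈ Finset.univ.erase k, u i from
          (Finset.mul_prod_erase _ _ (Finset.mem_univ k)).symm]
        simp only [map_mul]
        ring
      · exact Finset.sum_congr rfl fun j _ => by rw [map_mul]; ring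
    have hσ2 : ∑ j ∈ J, (t * σ j) * f (a j) ∈ (P (n + 1)).map f := by
      have h1 := Ideal.sub_mem _ (Ideal.mul_mem_left _ (f U) htx) (Ideal.mul_mem_left _ t hσ)
      convert h1 using 1
      rw [mul_sub, Finset.mul_sum, sub_sub_eq_add_sub]
      rw [show f U * (t * x) = t * (f U * x) by ring, add_comm, add_sub_cancel_right]
      exact Finset.sum_congr rfl fun j _ => by ring
    have hq' : ∀ j ∈ J, σ j ∈ q := by
      let ψ : (↥J → R ⧸ p) →ₗ[R] R ⧸ P (n + 1) :=
        ∑ j : ↥J, ((Submodule.liftQ p (LinearMap.toSpanSingleton R (R ⧸ P (n + 1))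
          (Ideal.Quotient.mk _ (a j.1))) (fun r hr => by
            rw [LinearMap.mem_ker, LinearMap.toSpanSingleton_apply, Algebra.smul_def,
              Ideal.Quotient.algebraMap_eq, ← map_mul]
            exact Ideal.Quotient.eq_zero_iff_mem.2 (hpP r hr _ (ha j.1)))) ∘ₗ LinearMap.proj j)
      have hψ : Function.Injective ψ := by
        rw [injective_iff_map_eq_zero]
        intro z hz
        have hw : ∀ j, ∃ r, Ideal.Quotient.mk p r = z j := fun j => Ideal.Quotient.mk_surjective _
        choose r hr using hw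
        let r' : Fin K → R := fun j => if h : j ∈ J then r ⟨j, h⟩ else 0
        have : ∑ j ∈ J, r' j * a j ∈ P (n + 1) := by
          rw [← Ideal.Quotient.eq_zero_iff_mem, ← hz, ← Finset.sum_coe_sort, map_sum]
          simp only [ψ, LinearMap.coe_sum, Finset.sum_apply, LinearMap.comp_apply, LinearMap.proj_apply]
          refine Finset.sum_congr rfl fun j _ => ?_
          rw [← hr j, show r' j.1 = r j from dif_pos j.2, map_mul]
          rfl
        funext j
        rw [← hr j, Pi.zero_apply, Ideal.Quotient.eq_zero_iff_mem,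
          ← show r' j.1 = r j from dif_pos j.2]
        exact hJ.1 r' this _ j.2
      intro j hj
      let w : S ⊗[R] (↥J → R ⧸ p) :=
        ∑ i : ↥J, (t * σ i.1) ⊗ₜ[R] Pi.single i (Ideal.Quotient.mk p 1)
      have hw : w = 0 := by
        refine Module.Flat.lTensor_preserves_injective_linearMap (M := S) ψ hψ ?_
        rw [map_zero, ← (hone _ _).1 hσ2, ← Finset.sum_coe_sort, TensorProduct.sum_tmul, map_sum]
        refine Finset.sum_congr rfl fun i _ => ?_
        rw [LinearMap.lTensor_tmul, mul_comm (t * σ i.1) (f (a i.1)), ← Algebra.smul_def,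
          TensorProduct.smul_tmul]
        congr 1
        simp only [ψ, LinearMap.coe_sum, Finset.sum_apply, LinearMap.comp_apply, LinearMap.proj_apply]
        rw [Finset.sum_eq_single i (fun k _ hk => by simp [hk]) (by simp), Pi.single_eq_same]
        simp [← Ideal.Quotient.mk_eq_mk, Algebra.smul_def]
        exact mul_comm _ _
      have h3 := congrArg ((LinearMap.proj (R := R) (φ := fun _ : ↥J => R ⧸ p) ⟨j, hj⟩).lTensor S) hw
      simp only [w, map_sum, LinearMap.lTensor_tmul, LinearMap.proj_apply, map_zero] at h3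
      rw [Finset.sum_eq_single (⟨j, hj⟩ : ↥J) (fun k _ hk => by simp [Pi.single_eq_of_ne (Ne.symm hk)])
        (by simp), Pi.single_eq_same] at h3
      exact (Ideal.IsPrime.mem_or_mem inferInstance ((hone p _).2 h3)).resolve_left ht
    have hUx : f U * x ∈ (P (n + 1)).map f := by
      have h1 : ∑ j ∈ J, σ j * f (a j) ∈ (P (n + 1)).map f := Ideal.sum_mem _ fun j hj => by
        have h2 : σ j * f (a j) ∈ p.map f * (P n).map f :=
          Ideal.mul_mem_mul (hq' j hj) (Ideal.mem_map_of_mem f (ha j))
        rw [← Ideal.map_mul] at h2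
        exact Ideal.map_mono (Ideal.mul_le.2 fun r hr y hy => hpP r hr y hy) h2
      simpa using Ideal.add_mem _ hσ h1
    have hinj : Function.Injective
        (LinearMap.lsmul R (R ⧸ P (n + 1)) U) := by
      rw [injective_iff_map_eq_zero]
      intro z hz
      obtain ⟨r, rfl⟩ := Ideal.Quotient.mk_surjective z
      rw [LinearMap.lsmul_apply, Algebra.smul_def, Ideal.Quotient.algebraMap_eq, ← map_mul,
        Ideal.Quotient.eq_zero_iff_mem] at hz
      exact Ideal.Quotient.eq_zero_iff_mem.2 (hsat _ U r hU hz)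
    refine (hone _ _).2 (Module.Flat.lTensor_preserves_injective_linearMap (M := S) _ hinj ?_)
    rw [map_zero, LinearMap.lTensor_tmul, LinearMap.lsmul_apply, ← TensorProduct.smul_tmul,
      Algebra.smul_def]
    exact (hone _ _).1 hUx

end Groth.Agent.S2138
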