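import Groth.Statements.S2139
import Groth.Agent.S6278

set_option autoImplicit false
universe u
open CAlg

namespace Groth.Agent.S2139

open scoped nonZeroDivisors

lemma mem_nzd {R : Type*} [CommRing R] [IsReduced R] {x : R} (h : ∀ q ∈ minimalPrimes R, x ∉ q) : x ∈ R⁰ := by
  rw [mem_nonZeroDivisors_iff_right]
  intro y hy
  have : y ∈ nilradical R := by
    rw [nilradical, ← Ideal.sInf_minimalPrimes, Ideal.mem_sInf]
    intro q hq
    exact (hq.1.1.mem_or_mem (hy ▸ q.zero_mem)).resolve_right (h q hq)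
  rwa [nilradical_eq_zero, Ideal.zero_eq_bot, Ideal.mem_bot] at this

lemma eq_zero_of_forall_minimal {R : Type*} [CommRing R] [IsReduced R] {x : R}
    (h : ∀ q ∈ minimalPrimes R, x ∈ q) : x = 0 := by
  have : x ∈ nilradical R := by
    rw [nilradical, ← Ideal.sInf_minimalPrimes, Ideal.mem_sInf]
    exact fun q hq => h q hq
  rwa [nilradical_eq_zero, Ideal.zero_eq_bot, Ideal.mem_bot] at this

variable {R : Type u} [CommRing R] [IsReduced R] [IsIntegrallyClosedIn R (FractionRing R)]

lemma exists_idempotent (hfin : (minimalPrimes R).Finite) {P : Ideal R} (hP : P ∈ minimalPrimes R) :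
    ∃ r : R, r * (1 - r) = 0 ∧ r ∈ P ∧ ∀ q ∈ minimalPrimes R, q ≠ P → 1 - r ∈ q := by
  classical
  let T := hfin.toFinset.erase P
  have hT : ∀ q, q ∈ T ↔ q ∈ minimalPrimes R ∧ q ≠ P := fun q => by simp [T, and_comm]
  have ha : ∃ a ∈ P, ∀ q ∈ T, a ∉ q := by
    by_contra hcon
    push Not at hcon
    have hsub : (P : Set R) ⊆ ⋃ q ∈ (T : Set (Ideal R)), (q : Set R) := fun a ha => by
      obtain ⟨q, hq, haq⟩ := hcon a ha
      exact Set.mem_biUnion hq haq
    obtain ⟨q, hq, hle⟩ := (Ideal.subset_union_prime (f := id) P P (fun q hq _ _ => ((hT q).mp hq).1.1.1)).mp hsub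
    exact ((hT q).mp hq).2 (le_antisymm (((hT q).mp hq).1.2 hP.1 hle) hle)
  have hb : ∃ b, (∀ q ∈ T, b ∈ q) ∧ b ∉ P := by
    by_contra hcon
    push Not at hcon
    have hle : T.inf id ≤ P := fun b hb => hcon b fun q hq => Finset.inf_le (f := id) hq hb
    obtain ⟨q, hq, hle⟩ := (Ideal.IsPrime.inf_le' hP.1.1).mp hle
    exact ((hT q).mp hq).2 (le_antisymm hle (hP.2 ((hT q).mp hq).1.1 hle))
  obtain ⟨a, haP, haT⟩ := ha
  obtain ⟨b, hbT, hbP⟩ := hb
  have hab : a * b = 0 := eq_zero_of_forall_minimal fun q hq => by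
    rcases eq_or_ne q P with rfl | hne
    · exact q.mul_mem_right b haP
    · exact q.mul_mem_left a (hbT q ((hT q).mpr ⟨hq, hne⟩))
  have hs : a + b ∈ R⁰ := mem_nzd fun q hq h => by
    rcases eq_or_ne q P with rfl | hne
    · exact hbP ((q.add_mem_iff_right haP).mp h)
    · exact haT q ((hT q).mpr ⟨hq, hne⟩) ((q.add_mem_iff_left (hbT q ((hT q).mpr ⟨hq, hne⟩))).mp h)
  let e := IsLocalization.mk' (FractionRing R) a ⟨a + b, hs⟩
  have he : e * algebraMap R _ (a + b) = algebraMap R _ a := IsLocalization.mk'_spec _ a ⟨a + b, hs⟩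
  have hee : e * e = e := by
    refine (IsLocalization.map_units (FractionRing R) (⟨a + b, hs⟩ * ⟨a + b, hs⟩ : R⁰)).mul_left_inj.mp ?_
    show e * e * algebraMap R _ ((a + b) * (a + b)) = e * algebraMap R _ ((a + b) * (a + b))
    have h1 : algebraMap R (FractionRing R) (a * (a + b)) = algebraMap R _ (a * a) := by
      rw [mul_add, hab, add_zero]
    rw [map_mul] at h1 ⊢
    rw [map_mul] at h1
    linear_combination (e * algebraMap R (FractionRing R) (a + b) + algebraMap R (FractionRing R) a
      - algebraMap R (FractionRing R) (a + b)) * he - h1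
  have hint : IsIntegral R e := ⟨Polynomial.X ^ 2 - Polynomial.X, Polynomial.monic_X_pow_sub
    (Polynomial.degree_X_le.trans_lt (by norm_num)), by simp [sq, hee]⟩
  obtain ⟨r, hr⟩ := IsIntegrallyClosedIn.algebraMap_eq_of_integral hint
  have hinj := IsFractionRing.injective R (FractionRing R)
  have hr1 : r * (a + b) = a := hinj (by rw [map_mul, hr, he])
  refine ⟨r, hinj (by rw [map_mul, map_sub, map_one, map_zero, hr, mul_sub, mul_one, hee, sub_self]), ?_, ?_⟩
  · refine (hP.1.1.mem_or_mem (?_ : r * b ∈ P)).resolve_right hbP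
    rw [show r * b = a - r * a by linear_combination hr1]
    exact P.sub_mem haP (P.mul_mem_left r haP)
  · intro q hq hne
    have hbq := hbT q ((hT q).mpr ⟨hq, hne⟩)
    refine (hq.1.1.mem_or_mem (?_ : (1 - r) * a ∈ q)).resolve_right (haT q ((hT q).mpr ⟨hq, hne⟩))
    rw [show (1 - r) * a = r * b by linear_combination -hr1]
    exact q.mul_mem_left r hbq


/-- Let `R` be a reduced ring with finitely many minimal primes. Then every localization of `R` at a
prime is an integrally closed domain if and only if `R` is integrally closed in its total ring of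
fractions. -/
theorem result {R : Type u} [CommRing R] [IsReduced R] (hfin : (minimalPrimes R).Finite) :
    (∀ (p : Ideal R) [p.IsPrime], IsDomain (Localization.AtPrime p) ∧ IsIntegrallyClosed (Localization.AtPrime p)) ↔
      IsIntegrallyClosedIn R (FractionRing R) := by
  classical
  refine ⟨fun h => S6278.result R h, fun hic p hp => ?_⟩
  obtain ⟨P, hP, hPp⟩ := Ideal.exists_minimalPrimes_le (bot_le : ⊥ ≤ p)
  haveI : P.IsPrime := hP.1.1
  obtain ⟨r, hr, hrP, hrq⟩ := exists_idempotent hfin hP
  have hr1 : 1 - r ∉ p := fun h => hp.ne_top ((Ideal.eq_top_iff_one p).mpr (by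
    simpa using p.add_mem (hPp hrP) h))
  -- the kernel of `R → R_p` is `P`
  have hker : ∀ x : R, algebraMap R (Localization.AtPrime p) x = 0 ↔ x ∈ P := by
    intro x
    rw [IsLocalization.map_eq_zero_iff p.primeCompl]
    constructor
    · rintro ⟨t, ht⟩
      exact (hP.1.1.mem_or_mem (ht ▸ P.zero_mem)).resolve_left fun h => t.2 (hPp h)
    · intro hx
      exact ⟨⟨1 - r, hr1⟩, eq_zero_of_forall_minimal fun q hq => by
        rcases eq_or_ne q P with rfl | hne
        · exact q.mul_mem_left _ hx
        · exact q.mul_mem_right _ (hrq q hq hne)⟩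
  haveI hdom : IsDomain (Localization.AtPrime p) := by
    refine @NoZeroDivisors.to_isDomain _ _ _ ⟨fun {x y} hxy => ?_⟩
    obtain ⟨x, s, rfl⟩ := IsLocalization.exists_mk'_eq p.primeCompl x
    obtain ⟨y, t, rfl⟩ := IsLocalization.exists_mk'_eq p.primeCompl y
    rw [← IsLocalization.mk'_mul, IsLocalization.mk'_eq_zero_iff, ← IsLocalization.map_eq_zero_iff p.primeCompl (Localization.AtPrime p), hker] at hxy
    simp only [IsLocalization.mk'_eq_zero_iff, ← IsLocalization.map_eq_zero_iff p.primeCompl (Localization.AtPrime p), hker]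
    exact hP.1.1.mem_or_mem hxy
  refine ⟨hdom, ?_⟩
  let A := Localization.AtPrime p
  let K := FractionRing A
  let f : R →+* K := algebraMap R K
  have hf : ∀ x : R, f x = 0 ↔ x ∈ P := fun x => by
    show algebraMap R K x = 0 ↔ _
    rw [IsScalarTower.algebraMap_apply R A K, map_eq_zero_iff _ (IsFractionRing.injective A K), hker]
  have hu : ∀ y : R⁰, IsUnit (f y) := fun y => isUnit_iff_ne_zero.mpr fun h0 => by
    have h2 : (1 - r) * (y : R) = 0 := eq_zero_of_forall_minimal fun q hq => by
      rcases eq_or_ne q P with rfl | hne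
      · exact q.mul_mem_left _ ((hf _).mp h0)
      · exact q.mul_mem_right _ (hrq q hq hne)
    exact hr1 (((mem_nonZeroDivisors_iff_right).mp y.2 _ h2).symm ▸ p.zero_mem)
  let ψ : FractionRing R →+* K := IsLocalization.lift hu
  have hψ : ψ.comp (algebraMap R (FractionRing R)) = f := IsLocalization.lift_comp hu
  have hψker : ∀ w, ψ w = 0 → algebraMap R (FractionRing R) (1 - r) * w = 0 := by
    intro w hw
    obtain ⟨u, v, rfl⟩ := IsLocalization.exists_mk'_eq R⁰ w
    rw [IsLocalization.lift_mk'_spec, mul_zero, hf] at hw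
    rw [IsLocalization.mul_mk'_eq_mk'_of_mul, IsLocalization.mk'_eq_zero_iff]
    exact ⟨1, by
      rw [OneMemClass.coe_one, one_mul]
      exact eq_zero_of_forall_minimal fun q hq => by
        rcases eq_or_ne q P with rfl | hne
        · exact q.mul_mem_left _ hw
        · exact q.mul_mem_right _ (hrq q hq hne)⟩
  rw [isIntegrallyClosed_iff K]
  intro x hx
  obtain ⟨⟨s, hs⟩, hsx⟩ := IsIntegral.exists_multiple_integral_of_isLocalization p.primeCompl x hx
  obtain ⟨F, hF, hFx⟩ := hsx
  obtain ⟨y, ⟨z, hz⟩, hyz⟩ : ∃ (y : R) (z : {z : R // z ∉ P}), x * f z = f y := by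
    obtain ⟨u, v, rfl⟩ := IsLocalization.exists_mk'_eq A⁰ x
    obtain ⟨u', t, rfl⟩ := IsLocalization.exists_mk'_eq p.primeCompl u
    obtain ⟨⟨v, hv⟩, hv'⟩ : ∃ v' : A⁰, v' = v := ⟨v, rfl⟩
    obtain ⟨v', t', rfl⟩ := IsLocalization.exists_mk'_eq p.primeCompl v
    refine ⟨u' * t', ⟨v' * t, fun hmem => ?_⟩, ?_⟩
    · rcases hP.1.1.mem_or_mem hmem with h | h
      · refine nonZeroDivisors.ne_zero hv ?_
        rw [IsLocalization.mk'_eq_zero_iff, ← IsLocalization.map_eq_zero_iff p.primeCompl A, hker]
        exact h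
      · exact t.2 (hPp h)
    · subst hv'
      simp only [f]
      rw [IsScalarTower.algebraMap_apply R A K, IsScalarTower.algebraMap_apply R A K (u' * t')]
      have h1 : algebraMap R A (v' * t) = IsLocalization.mk' A v' t' * algebraMap R A (t' * t) := by
        rw [map_mul, map_mul, ← mul_assoc, IsLocalization.mk'_spec]
      have h2 : algebraMap R A (u' * t') = IsLocalization.mk' A u' t * algebraMap R A (t' * t) := by
        rw [map_mul, map_mul, mul_comm (algebraMap R A t'), ← mul_assoc, IsLocalization.mk'_spec]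
      rw [h1, h2, map_mul (algebraMap A K), map_mul (algebraMap A K), ← mul_assoc]
      congr 1
      exact IsLocalization.mk'_spec K _ (⟨IsLocalization.mk' A v' t', hv⟩ : A⁰)
  have hz' : z * (1 - r) + r ∈ R⁰ := mem_nzd fun q hq h => by
    rcases eq_or_ne q P with rfl | hne
    · rcases hP.1.1.mem_or_mem ((q.add_mem_iff_left hrP).mp h) with h' | h'
      · exact hz h'
      · exact hr1 (hPp h')
    · exact hq.1.1.ne_top ((Ideal.eq_top_iff_one q).mpr (by
        simpa using q.add_mem ((q.add_mem_iff_right (q.mul_mem_left z (hrq q hq hne))).mp h) (hrq q hq hne)))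
  let c := IsLocalization.mk' (FractionRing R) (s * y) ⟨z * (1 - r) + r, hz'⟩
  have hfr : f r = 0 := (hf r).mpr hrP
  have hψc : ψ c = s • x := by
    show IsLocalization.lift hu _ = _
    rw [IsLocalization.lift_mk'_spec, Algebra.smul_def]
    show f (s * y) = f (z * (1 - r) + r) * (f s * x)
    rw [map_mul, ← hyz, map_add, map_mul, map_sub, map_one, hfr]
    ring
  have hint : IsIntegral R (algebraMap R (FractionRing R) (1 - r) * c) := by
    refine ⟨Polynomial.X * F, Polynomial.monic_X.mul hF, ?_⟩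
    rw [Polynomial.eval₂_mul, Polynomial.eval₂_X, mul_comm (algebraMap R (FractionRing R) (1 - r)) c, mul_assoc]
    rw [hψker, mul_zero]
    rw [Polynomial.hom_eval₂, hψ, map_mul, hψc,
      show ψ (algebraMap R (FractionRing R) (1 - r)) = f (1 - r) from RingHom.congr_fun hψ _,
      map_sub f, map_one, hfr, sub_zero, mul_one]
    exact hFx
  obtain ⟨d, hd⟩ := IsIntegrallyClosedIn.algebraMap_eq_of_integral hint
  refine ⟨IsLocalization.mk' A d ⟨s, hs⟩, ?_⟩
  have h3 : f d = f s * x := by
    have := congrArg ψ hd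
    rw [map_mul, show ψ (algebraMap R (FractionRing R) d) = f d from RingHom.congr_fun hψ _,
      show ψ (algebraMap R (FractionRing R) (1 - r)) = f (1 - r) from RingHom.congr_fun hψ _,
      map_sub f, map_one, hfr, sub_zero, one_mul, hψc, Algebra.smul_def] at this
    exact this
  have hfs : f s ≠ 0 := fun h => hs (hPp ((hf s).mp h))
  refine mul_left_cancel₀ hfs ?_
  rw [← h3]
  simp only [f]
  rw [IsScalarTower.algebraMap_apply R A K, IsScalarTower.algebraMap_apply R A K d, ← map_mul, mul_comm,
    IsLocalization.mk'_spec]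

end Groth.Agent.S2139
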