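import Groth.Statements.S2140
import Mathlib

set_option autoImplicit false
universe u
open CAlg

namespace Groth.Agent.S2140

section

variable {R T : Type u} [CommRing R] [IsDomain R] [CommRing T] [IsDomain T] [Algebra R T]

open Polynomial in
/-- A domain generated by one element is finitely presented away from some nonzero `a`. -/
theorem exists_fp_single (hinj : Function.Injective (algebraMap R T)) (x : T)
    (hx : Function.Surjective (aeval (R := R) x)) :
    ∃ a : R, a ≠ 0 ∧ Algebra.FinitePresentation R (Localization.Away (algebraMap R T a)) := by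
  classical
  by_cases hker : ∀ P : R[X], aeval x P = 0 → P = 0
  · refine ⟨1, one_ne_zero, ?_⟩
    have : Function.Injective (aeval (R := R) x) := (injective_iff_map_eq_zero _).2 hker
    haveI : Algebra.FinitePresentation R T :=
      Algebra.FinitePresentation.equiv (AlgEquiv.ofBijective (aeval x) ⟨this, hx⟩)
    haveI : Algebra.FinitePresentation T (Localization.Away (algebraMap R T 1)) :=
      IsLocalization.Away.finitePresentation (algebraMap R T 1)
    exact Algebra.FinitePresentation.trans R T _
  · simp only [not_forall, exists_prop] at hker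
    have hex : ∃ d, ∃ P : R[X], P.natDegree = d ∧ aeval x P = 0 ∧ P ≠ 0 := by
      obtain ⟨P, h1, h2⟩ := hker
      exact ⟨_, P, rfl, h1, h2⟩
    obtain ⟨P, hPd, hP, hP0⟩ := Nat.find_spec hex
    set a := P.leadingCoeff with ha
    have hd0 : P.natDegree ≠ 0 := fun h => by
      obtain ⟨c, rfl⟩ := natDegree_eq_zero.1 h
      rw [aeval_C] at hP
      exact hP0 (by rw [(injective_iff_map_eq_zero _).1 hinj c hP, map_zero])
    have hdiv : ∀ d, ∀ Q : R[X], Q.natDegree = d → aeval x Q = 0 →
        ∃ k : ℕ, P ∣ C (a ^ k) * Q := by
      intro d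
      induction d using Nat.strong_induction_on with
      | _ d ih =>
        intro Q hQd hQ
        by_cases hQ0 : Q = 0
        · exact ⟨0, by simp [hQ0]⟩
        have hle : P.natDegree ≤ Q.natDegree := by
          rw [hPd]
          exact Nat.find_min' hex ⟨Q, rfl, hQ, hQ0⟩
        let Q₂ := C a * Q - C Q.leadingCoeff * X ^ (Q.natDegree - P.natDegree) * P
        have hQ₂ : aeval x Q₂ = 0 := by simp [Q₂, hQ, hP]
        by_cases hQ₂0 : Q₂ = 0
        · exact ⟨1, ⟨C Q.leadingCoeff * X ^ (Q.natDegree - P.natDegree), by
            rw [pow_one, sub_eq_zero.1 hQ₂0]; ring⟩⟩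
        have hlt : Q₂.natDegree < d := by
          rw [← hQd]
          have h1 : (C a * Q).natDegree = Q.natDegree :=
            natDegree_C_mul (leadingCoeff_ne_zero.2 hP0)
          have h2 : (C Q.leadingCoeff * X ^ (Q.natDegree - P.natDegree) * P).natDegree ≤
              Q.natDegree := by
            refine natDegree_mul_le.trans ?_
            have := natDegree_C_mul_X_pow_le Q.leadingCoeff (Q.natDegree - P.natDegree)
            omega
          have h3 : Q₂.natDegree ≤ Q.natDegree :=
            (natDegree_sub_le _ _).trans (max_le h1.le h2)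
          refine lt_of_le_of_ne h3 fun h => hQ₂0 (leadingCoeff_eq_zero.1 ?_)
          rw [leadingCoeff, h]
          simp only [Q₂, coeff_sub, coeff_C_mul, mul_assoc, coeff_X_pow_mul', Nat.sub_le, ↓reduceIte]
          rw [Nat.sub_sub_self hle, coeff_natDegree, coeff_natDegree, ← ha]
          ring
        obtain ⟨k, hk⟩ := ih _ hlt Q₂ rfl hQ₂
        refine ⟨k + 1, ?_⟩
        have : C (a ^ (k + 1)) * Q = C (a ^ k) * Q₂ +
            C (a ^ k) * (C Q.leadingCoeff * X ^ (Q.natDegree - P.natDegree)) * P := by
          simp only [Q₂, map_pow, pow_succ, map_mul]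
          ring
        rw [this]
        exact dvd_add hk (dvd_mul_left _ _)
    refine ⟨a, leadingCoeff_ne_zero.2 hP0, ?_⟩
    set B := R[X] ⧸ Ideal.span {P}
    haveI : Algebra.FinitePresentation R B := Algebra.FinitePresentation.quotient
      ⟨{P}, by simp⟩
    let φ : B →ₐ[R] T := Ideal.Quotient.liftₐ _ (aeval x) fun y hy => by
      obtain ⟨c, rfl⟩ := Ideal.mem_span_singleton'.1 hy
      simp [hP]
    haveI : Algebra.FinitePresentation R (Localization.Away (algebraMap R B a)) :=
      letI := IsLocalization.Away.finitePresentation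
        (S := Localization.Away (algebraMap R B a)) (algebraMap R B a)
      Algebra.FinitePresentation.trans R B _
    let ψ : Localization.Away (algebraMap R B a) →ₐ[R] Localization.Away (algebraMap R T a) :=
      IsLocalization.liftAlgHom (M := Submonoid.powers (algebraMap R B a))
        (f := (IsScalarTower.toAlgHom R T _).comp φ) (fun y => by
          obtain ⟨_, k, rfl⟩ := y
          simp only [map_pow, AlgHom.commutes]
          rw [IsScalarTower.algebraMap_apply R T (Localization.Away (algebraMap R T a))]
          exact (IsLocalization.Away.algebraMap_isUnit _).pow k)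
    have hψ : ∀ y, ψ (algebraMap B _ y) = algebraMap T _ (φ y) := fun y =>
      IsLocalization.lift_eq _ y
    refine Algebra.FinitePresentation.equiv (AlgEquiv.ofBijective ψ ⟨?_, fun z => ?_⟩)
    · rw [injective_iff_map_eq_zero]
      intro z hz
      obtain ⟨⟨y, s⟩, hs⟩ := IsLocalization.surj (Submonoid.powers (algebraMap R B a)) z
      have h1 := congrArg ψ hs
      rw [map_mul, hz, zero_mul, hψ] at h1
      obtain ⟨⟨_, k, rfl⟩, hm⟩ :=
        (IsLocalization.map_eq_zero_iff (Submonoid.powers (algebraMap R T a)) _ _).1 h1.symm
      obtain ⟨Q, rfl⟩ := Ideal.Quotient.mk_surjective y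
      obtain ⟨l, hl⟩ := hdiv _ (C (a ^ k) * Q) rfl (by
        rw [map_mul, aeval_C, map_pow]
        exact hm)
      rw [← (IsLocalization.map_units _ s).mul_left_eq_zero, hs]
      refine (IsLocalization.map_eq_zero_iff (Submonoid.powers (algebraMap R B a)) _ _).2
        ⟨⟨_, l + k, rfl⟩, ?_⟩
      show algebraMap R B a ^ (l + k) * Ideal.Quotient.mk _ Q = 0
      rw [← map_pow, IsScalarTower.algebraMap_apply R R[X] B, Ideal.Quotient.algebraMap_eq,
        ← map_mul, Ideal.Quotient.eq_zero_iff_dvd, algebraMap_eq, pow_add, map_mul, mul_assoc]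
      exact hl
    · obtain ⟨⟨y, ⟨_, k, rfl⟩⟩, hs⟩ :=
        IsLocalization.surj (Submonoid.powers (algebraMap R T a)) z
      obtain ⟨Q, rfl⟩ := hx y
      refine ⟨IsLocalization.mk' _ (Ideal.Quotient.mk _ Q : B)
        (⟨_, k, rfl⟩ : Submonoid.powers (algebraMap R B a)), ?_⟩
      rw [← (IsLocalization.map_units (Localization.Away (algebraMap R T a))
        (⟨_, k, rfl⟩ : Submonoid.powers (algebraMap R T a))).mul_left_inj, hs]
      have h1 := congrArg ψ (IsLocalization.mk'_spec (Localization.Away (algebraMap R B a))
        (Ideal.Quotient.mk _ Q : B) (⟨_, k, rfl⟩ : Submonoid.powers (algebraMap R B a)))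
      rw [map_mul, hψ, hψ, map_pow, AlgHom.commutes] at h1
      exact h1

end

/-- Composition of two generically finitely presented steps. -/
theorem exists_fp_compose {R T S : Type u} [CommRing R] [CommRing T] [CommRing S] [Algebra R T]
    [Algebra T S] [Algebra R S] [IsScalarTower R T S] (g : S) (t : T) (s : S)
    (hts : algebraMap T S t = s)
    (hg : Algebra.FinitePresentation T (Localization.Away g))
    (ht : Algebra.FinitePresentation R (Localization.Away t)) :
    Algebra.FinitePresentation R (Localization.Away (g * s)) := by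
  let Sga := Localization.Away (algebraMap S (Localization.Away g) s)
  haveI : IsLocalization.Away (g * s) Sga :=
    IsLocalization.Away.mul' (Localization.Away g) Sga g s
  haveI : Algebra.FinitePresentation (Localization.Away g) Sga :=
    IsLocalization.Away.finitePresentation (algebraMap S (Localization.Away g) s)
  haveI := hg
  haveI := ht
  haveI : Algebra.FinitePresentation T Sga :=
    Algebra.FinitePresentation.trans T (Localization.Away g) Sga
  have hu : ∀ y : Submonoid.powers t, IsUnit (algebraMap T Sga y) := fun ⟨_, k, hk⟩ => by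
    subst hk
    rw [map_pow, IsScalarTower.algebraMap_apply T S Sga, hts]
    exact (isUnit_of_mul_isUnit_right (x := algebraMap S Sga g) (by
      rw [← map_mul]
      exact IsLocalization.Away.algebraMap_isUnit _)).pow k
  letI : Algebra (Localization.Away t) Sga := (IsLocalization.lift hu).toAlgebra
  haveI : IsScalarTower T (Localization.Away t) Sga :=
    IsScalarTower.of_algebraMap_eq' (IsLocalization.lift_comp hu).symm
  haveI : IsScalarTower R (Localization.Away t) Sga := IsScalarTower.of_algebraMap_eq fun y => by
    rw [IsScalarTower.algebraMap_apply R T Sga, IsScalarTower.algebraMap_apply R T (Localization.Away t),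
      ← IsScalarTower.algebraMap_apply T (Localization.Away t) Sga]
  haveI : Algebra.FinitePresentation T (Localization.Away t) :=
    IsLocalization.Away.finitePresentation t
  haveI : Algebra.FiniteType T (Localization.Away t) := inferInstance
  haveI : Algebra.FinitePresentation (Localization.Away t) Sga :=
    Algebra.FinitePresentation.of_restrict_scalars_finitePresentation T (Localization.Away t) Sga
  haveI : Algebra.FinitePresentation R Sga :=
    Algebra.FinitePresentation.trans R (Localization.Away t) Sga
  exact Algebra.FinitePresentation.equiv ((IsLocalization.algEquiv (Submonoid.powers (g * s)) Sga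
    (Localization.Away (g * s))).restrictScalars R)

theorem exists_fp_away : ∀ (n : ℕ) (R S : Type u) [CommRing R] [IsDomain R] [CommRing S]
    [IsDomain S] [Algebra R S] (_ : Function.Injective (algebraMap R S)) (σ : Finset S)
    (_ : σ.card = n) (_ : Algebra.adjoin R (σ : Set S) = ⊤),
    ∃ g : S, g ≠ 0 ∧ Algebra.FinitePresentation R (Localization.Away g) := by
  classical
  intro n
  induction n with
  | zero =>
    intro R S _ _ _ _ _ hinj σ hc hσ
    rw [Finset.card_eq_zero.1 hc, Finset.coe_empty, Algebra.adjoin_empty] at hσ
    refine ⟨1, one_ne_zero, ?_⟩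
    haveI : Algebra.FinitePresentation R S := Algebra.FinitePresentation.equiv
      (AlgEquiv.ofBijective (Algebra.ofId R S) ⟨hinj, fun s => by
        have : s ∈ (⊥ : Subalgebra R S) := hσ ▸ Algebra.mem_top
        exact Algebra.mem_bot.1 this⟩)
    haveI : Algebra.FinitePresentation S (Localization.Away (1 : S)) :=
      IsLocalization.Away.finitePresentation (1 : S)
    exact Algebra.FinitePresentation.trans R S _
  | succ n ih =>
    intro R S _ _ _ _ _ hinj σ hc hσ
    obtain ⟨x, τ, hxτ, rfl, hτc⟩ := Finset.card_eq_succ.1 hc
    obtain ⟨T, hT⟩ : ∃ T : Subalgebra R S, T = Algebra.adjoin R ({x} : Set S) := ⟨_, rfl⟩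
    have hinjT : Function.Injective (algebraMap T S) := Subtype.val_injective
    have hτ : Algebra.adjoin T (τ : Set S) = ⊤ := by
      apply Subalgebra.restrictScalars_injective R
      subst hT
      rw [Subalgebra.restrictScalars_top, ← Algebra.adjoin_union_eq_adjoin_adjoin, eq_top_iff, ← hσ]
      refine Algebra.adjoin_mono ?_
      rw [Finset.coe_insert, ← Set.union_singleton, Set.union_comm]
    obtain ⟨g, hg, hgfp⟩ := ih T S hinjT τ hτc hτ
    obtain ⟨a, ha, hafp⟩ := exists_fp_single (R := R) (T := T)
      (fun u v h => hinj (congrArg Subtype.val h)) ⟨x, hT ▸ Algebra.subset_adjoin rfl⟩ (fun y => by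
        obtain ⟨y, hy⟩ := y
        have hy' : y ∈ Algebra.adjoin R ({x} : Set S) := hT ▸ hy
        rw [Algebra.adjoin_singleton_eq_range_aeval] at hy'
        obtain ⟨Q, hQ⟩ := hy'
        exact ⟨Q, Subtype.ext ((Polynomial.aeval_subalgebra_coe Q _ _).trans hQ)⟩)
    refine ⟨g * algebraMap R S a, mul_ne_zero hg fun h => ha (hinj (by rw [h, map_zero])), ?_⟩
    exact exists_fp_compose (R := R) (T := T) g (algebraMap R T a) (algebraMap R S a)
      (IsScalarTower.algebraMap_apply R T S a).symm hgfp hafp

/-- Let `R → S` be an injective ring map of finite type between domains. Then there are nonzero `f ∈ R`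
and `g ∈ S` such that `S_{fg}` is a finitely presented `R_f`-algebra. -/
theorem result {R S : Type u} [CommRing R] [IsDomain R] [CommRing S] [IsDomain S]
    [Algebra R S] [Algebra.FiniteType R S] (hinj : Function.Injective (algebraMap R S)) :
    ∃ (f : R) (g : S), f ≠ 0 ∧ g ≠ 0 ∧
      ∀ (Rf Sfg : Type u) [CommRing Rf] [CommRing Sfg] [Algebra R Rf] [IsLocalization.Away f Rf]
        [Algebra S Sfg] [IsLocalization.Away (algebraMap R S f * g) Sfg] [Algebra Rf Sfg] [Algebra R Sfg]
        [IsScalarTower R S Sfg] [IsScalarTower R Rf Sfg], Algebra.FinitePresentation Rf Sfg := by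
  classical
  obtain ⟨σ, hσ⟩ := ‹Algebra.FiniteType R S›.out
  suffices key : ∃ g : S, g ≠ 0 ∧ Algebra.FinitePresentation R (Localization.Away g) by
    obtain ⟨g, hg, hfp⟩ := key
    refine ⟨1, g, one_ne_zero, hg, fun Rf Sfg _ _ _ _ _ _ _ _ _ _ => ?_⟩
    have e : algebraMap R S 1 * g = g := by rw [map_one, one_mul]
    haveI : IsLocalization.Away g Sfg := e ▸ ‹IsLocalization.Away (algebraMap R S 1 * g) Sfg›
    haveI : Algebra.FinitePresentation R Sfg := by
      haveI := hfp
      exact Algebra.FinitePresentation.equiv
        ((IsLocalization.algEquiv (Submonoid.powers g) (Localization.Away g) Sfg).restrictScalars R)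
    haveI : Algebra.FinitePresentation R Rf :=
      IsLocalization.Away.finitePresentation (1 : R)
    haveI : Algebra.FiniteType R Rf := inferInstance
    exact Algebra.FinitePresentation.of_restrict_scalars_finitePresentation R Rf Sfg
  exact exists_fp_away σ.card R S hinj σ rfl hσ

end Groth.Agent.S2140
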