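import Groth.Statements.S2142
import Groth.Agent.LocalDim.Affine
import Groth.Agent.FibDim.MaxPoints
-- import your own Groth.Agent.* helpers here

set_option autoImplicit false
universe u
open CAlg AlgebraicGeometry CategoryTheory

namespace Groth.Agent.S2142

open TensorProduct in
/-- Let `S` be of finite type over a field `k`, `K/k` a field extension, `𝔮` a prime of `S` and `𝔮_K` a
prime of `K ⊗_k S` lying over `𝔮`. Then the local dimension of `Spec (K ⊗_k S)` at `𝔮_K` equals the
local dimension of `Spec S` at `𝔮`. -/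
theorem result {k S K : Type u} [Field k] [CommRing S] [Algebra k S] [Algebra.FiniteType k S] [Field K]
    [Algebra k K] (q : Ideal S) [q.IsPrime] (qK : Ideal (K ⊗[k] S)) [qK.IsPrime]
    (hq : qK.comap (Algebra.TensorProduct.includeRight.toRingHom : S →+* K ⊗[k] S) = q) :
    FlatMor.localDim (PrimeSpectrum (K ⊗[k] S)) ⟨qK, inferInstance⟩ = FlatMor.localDim (PrimeSpectrum S) ⟨q, inferInstance⟩ := by
  let f : Spec (CommRingCat.of S) ⟶ Spec (CommRingCat.of k) := Spec.map (CommRingCat.ofHom (algebraMap k S))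
  haveI : LocallyOfFiniteType f :=
    (HasRingHomProperty.Spec_iff (P := @LocallyOfFiniteType)).mpr (RingHom.finiteType_algebraMap.mpr inferInstance)
  let φ : CommRingCat.of k ⟶ CommRingCat.of K := CommRingCat.ofHom (algebraMap k K)
  let g : Spec (CommRingCat.of (K ⊗[k] S)) ⟶ Spec (CommRingCat.of S) :=
    Spec.map (CommRingCat.ofHom (Algebra.TensorProduct.includeRight : S →ₐ[k] K ⊗[k] S).toRingHom)
  let fK : Spec (CommRingCat.of (K ⊗[k] S)) ⟶ Spec (CommRingCat.of K) :=
    Spec.map (CommRingCat.ofHom (algebraMap K (K ⊗[k] S)))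
  haveI : LocallyOfFiniteType fK :=
    (HasRingHomProperty.Spec_iff (P := @LocallyOfFiniteType)).mpr (RingHom.finiteType_algebraMap.mpr inferInstance)
  have h : IsPullback g fK f (Spec.map φ) :=
    (AlgebraicGeometry.isPullback_SpecMap_of_isPushout _ _ _ _ (CommRingCat.isPushout_tensorProduct k K S)).flip
  haveI : Flat (Spec.map φ) := Flat.SpecMap_iff.mpr (RingHom.flat_algebraMap_iff.mpr inferInstance)
  haveI : Flat g := MorphismProperty.of_isPullback (P := @Flat) h.flip inferInstance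
  have hgq : g ⟨qK, inferInstance⟩ = ⟨q, inferInstance⟩ := PrimeSpectrum.ext hq
  obtain ⟨n, hn, ⟨η, hη, hηm, hηn⟩, hall⟩ := Groth.Agent.LocalDim.exists_localDim f ⟨q, inferInstance⟩
  obtain ⟨n', hn', ⟨η', hη', hηm', hηn'⟩, hall'⟩ := Groth.Agent.LocalDim.exists_localDim fK ⟨qK, inferInstance⟩
  refine hn'.trans (Eq.trans ?_ hn.symm)
  refine le_antisymm ?_ ?_
  · rw [← hηn', (Groth.Agent.FibDim.dim_closure_of_isPullback f φ h η' hηm').2]
    exact hall _ (hgq ▸ hη'.map g.continuous)
  · obtain ⟨ξ, hξ, hgξ⟩ := Flat.generalizingMap g (show η ⤳ g ⟨qK, inferInstance⟩ from hgq.symm ▸ hη)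
    obtain ⟨ξ', hξ', hmax⟩ := Groth.Agent.FibDim.exists_isMax'_specializes ξ
    have hge : g ξ' = η := hηm _ (hgξ ▸ hξ'.map g.continuous)
    rw [← hηn, ← hge, ← (Groth.Agent.FibDim.dim_closure_of_isPullback f φ h ξ' hmax).2]
    exact hall' ξ' (hξ'.trans hξ)

end Groth.Agent.S2142
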