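import Groth.Statements.S2143
import Groth.Agent.LocalDim.Affine
-- import your own Groth.Agent.* helpers here

set_option autoImplicit false
universe u
open CAlg

namespace Groth.Agent.S2143

/-- (1) = (3): let `S` be of finite type over a field `k` and `𝔭` a prime of `S`. The local dimension of
`Spec S` at `𝔭` is the infimum of `dim S_𝔪` over the maximal ideals `𝔪 ⊇ 𝔭`. -/
theorem result {k S : Type u} [Field k] [CommRing S] [Algebra k S] [Algebra.FiniteType k S]
    (p : Ideal S) [p.IsPrime] :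
    FlatMor.localDim (PrimeSpectrum S) ⟨p, inferInstance⟩ =
      ⨅ m : {m : Ideal S // m.IsMaximal ∧ p ≤ m}, ringKrullDim (Localization.AtPrime (hp := m.2.1.isPrime') m.1) := by
  have : IsNoetherianRing S := Algebra.FiniteType.isNoetherianRing k S
  have hm : ∀ m : {m : Ideal S // m.IsMaximal ∧ p ≤ m},
      ringKrullDim (Localization.AtPrime (hp := m.2.1.isPrime') m.1) =
        FlatMor.localDim (PrimeSpectrum S) ⟨m.1, m.2.1.isPrime'⟩ := fun m => by
    haveI := m.2.1
    rw [Groth.Agent.LocalDim.localDim_eq k m.1,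
      IsLocalization.AtPrime.ringKrullDim_eq_height m.1 (Localization.AtPrime m.1),
      ringKrullDim_eq_zero_of_isField ((Ideal.Quotient.maximal_ideal_iff_isField_quotient _).mp m.2.1), add_zero]
  simp_rw [hm]
  obtain ⟨n, hn, ⟨P₀, hP₀, -, hPn⟩, hall⟩ := Groth.Agent.LocalDim.exists_localDim_spec k (⟨p, inferInstance⟩ : PrimeSpectrum S)
  rw [hn]
  refine le_antisymm (le_iInf fun m => ?_) ?_
  · obtain ⟨n', hn', -, hall'⟩ := Groth.Agent.LocalDim.exists_localDim_spec k (⟨m.1, m.2.1.isPrime'⟩ : PrimeSpectrum S)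
    rw [hn', ← hPn]
    exact hall' P₀ (le_trans hP₀ m.2.2)
  · classical
    let T := ((minimalPrimes.finite_of_isNoetherianRing S).toFinset.filter fun P => ¬ P ≤ p)
    have hI : ¬ T.inf id ≤ p := fun h => by
      obtain ⟨P, hP, hPp⟩ := (Ideal.IsPrime.inf_le' inferInstance).mp h
      exact (Finset.mem_filter.mp hP).2 hPp
    obtain ⟨g, hg, hgp⟩ := SetLike.not_le_iff_exists.mp hI
    have : IsJacobsonRing S := isJacobsonRing_of_finiteType (A := k)
    have hj : g ∉ p.jacobson := by
      rwa [IsJacobsonRing.out' p (Ideal.IsPrime.isRadical inferInstance)]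
    rw [Ideal.jacobson, Ideal.mem_sInf] at hj
    push_neg at hj
    obtain ⟨m, ⟨hpm, hmax⟩, hgm⟩ := hj
    refine (iInf_le _ ⟨m, hmax, hpm⟩).trans ?_
    obtain ⟨n', hn', ⟨P, hPm, hPmin, hPn'⟩, -⟩ :=
      Groth.Agent.LocalDim.exists_localDim_spec k (⟨m, hmax.isPrime'⟩ : PrimeSpectrum S)
    rw [hn', ← hPn']
    refine hall P ?_
    by_contra hPp
    exact hgm (hPm ((Finset.inf_le (f := id) (Finset.mem_filter.mpr
      ⟨(minimalPrimes.finite_of_isNoetherianRing S).mem_toFinset.mpr hPmin, hPp⟩)) hg))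

end Groth.Agent.S2143
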