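import Groth.Statements.S2145
import Mathlib.Tactic
import Mathlib.RingTheory.Localization.Away.AdjoinRoot
-- import your own Groth.Agent.* helpers here

set_option autoImplicit false
universe u
open CAlg

namespace Groth.Agent.S2145

section helpers
variable {R : Type*} [CommRing R]
variable {S : Type*} [CommRing S] [Algebra R S]

/-- Extend an algebra map along `S → S[1/x]`. -/
noncomputable def aw {T : Type*} [CommRing T] [Algebra R T] (x : S) (φ : S →ₐ[R] T)
    (hx : IsUnit (φ x)) : Localization.Away x →ₐ[R] T :=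
  IsLocalization.Away.liftAlgHom x (S := Localization.Away x) hx

lemma aw_algebraMap {T : Type*} [CommRing T] [Algebra R T] (x : S) (φ : S →ₐ[R] T)
    (hx : IsUnit (φ x)) (s : S) : aw x φ hx (algebraMap S _ s) = φ s :=
  IsLocalization.Away.lift_eq x hx s

lemma aw_ext {T : Type*} [CommRing T] [Algebra R T] (x : S) (a b : Localization.Away x →ₐ[R] T)
    (h : ∀ s, a (algebraMap S _ s) = b (algebraMap S _ s)) : a = b :=
  AlgHom.coe_ringHom_injective (IsLocalization.ringHom_ext (Submonoid.powers x) (RingHom.ext h))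

variable (R) in
noncomputable def inS (x : S) : S →ₐ[R] Localization.Away x :=
  IsScalarTower.toAlgHom R S _

lemma isUnit_inS (x t : S) (h : x ∣ t) : IsUnit (inS R t x) :=
  isUnit_of_dvd_unit (map_dvd (inS R t) h) (IsLocalization.Away.algebraMap_isUnit t)

variable (R) in
noncomputable def res (x t : S) (h : x ∣ t) : Localization.Away x →ₐ[R] Localization.Away t :=
  aw x (inS R t) (isUnit_inS x t h)

lemma res_inS (x t : S) (h : x ∣ t) (s : S) : res R x t h (inS R x s) = inS R t s :=
  aw_algebraMap x _ _ s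

lemma res_res (x t t' : S) (h : x ∣ t) (h' : t ∣ t') (z : Localization.Away x) :
    res R t t' h' (res R x t h z) = res R x t' (h.trans h') z :=
  DFunLike.congr_fun (aw_ext x ((res R t t' h').comp (res R x t h)) (res R x t' (h.trans h'))
    (fun s => (congrArg _ (res_inS x t h s)).trans
      ((res_inS t t' h' s).trans (res_inS x t' _ s).symm))) z

variable (q : Ideal S) [q.IsPrime]

variable (R) in
noncomputable def toLoc (x : S) (hx : x ∉ q) : Localization.Away x →ₐ[R] Localization.AtPrime q :=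
  aw x (IsScalarTower.toAlgHom R S _) (IsLocalization.map_units (M := q.primeCompl) _ ⟨x, hx⟩)

lemma toLoc_inS (x : S) (hx : x ∉ q) (s : S) :
    toLoc R q x hx (inS R x s) = algebraMap S _ s :=
  aw_algebraMap x _ _ s

lemma toLoc_res (x t : S) (hx : x ∉ q) (ht : t ∉ q) (h : x ∣ t) (z : Localization.Away x) :
    toLoc R q t ht (res R x t h z) = toLoc R q x hx z :=
  DFunLike.congr_fun (aw_ext x ((toLoc R q t ht).comp (res R x t h)) (toLoc R q x hx)
    (fun s => (congrArg _ (res_inS x t h s)).trans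
      ((toLoc_inS q t ht s).trans (toLoc_inS q x hx s).symm))) z

lemma mul_notMem {x y : S} (hx : x ∉ q) (hy : y ∉ q) : x * y ∉ q :=
  q.primeCompl.mul_mem hx hy

lemma kill (x : S) (hx : x ∉ q) (z : Localization.Away x) (hz : toLoc R q x hx z = 0) :
    ∃ u, u ∉ q ∧ ∀ t (h : x ∣ t), u ∣ t → res R x t h z = 0 := by
  obtain ⟨n, a, ha⟩ := IsLocalization.Away.surj x z
  have h1 : algebraMap S (Localization.AtPrime q) a = 0 := by
    rw [← toLoc_inS (R := R) q x hx a]
    show toLoc R q x hx (algebraMap S _ a) = 0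
    rw [← ha, map_mul, hz, zero_mul]
  obtain ⟨⟨u, hu⟩, hua⟩ := (IsLocalization.map_eq_zero_iff q.primeCompl _ _).mp h1
  refine ⟨u, hu, fun t h hut => ?_⟩
  have h2 := congrArg (res R x t h) ha
  rw [map_mul, map_pow] at h2
  change _ * res R x t h (inS R x x) ^ n = res R x t h (inS R x a) at h2
  rw [res_inS, res_inS] at h2
  have h3 : inS R t a = 0 := by
    have := congrArg (inS R t) hua
    rw [map_mul, map_zero] at this
    exact (isUnit_inS u t hut).mul_right_eq_zero.mp this
  rw [h3] at h2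
  exact ((isUnit_inS x t h).pow n).mul_left_eq_zero.mp h2

lemma kill_finset (x : S) (hx : x ∉ q) {ι : Type*} (F : Finset ι) (z : ι → Localization.Away x)
    (hz : ∀ i ∈ F, toLoc R q x hx (z i) = 0) :
    ∃ u, u ∉ q ∧ ∀ t (h : x ∣ t), u ∣ t → ∀ i ∈ F, res R x t h (z i) = 0 := by
  classical
  induction F using Finset.induction_on with
  | empty => exact ⟨x, hx, by simp⟩
  | insert i F hi ih =>
    obtain ⟨u, hu, hu'⟩ := ih (fun j hj => hz j (Finset.mem_insert_of_mem hj))
    obtain ⟨v, hv, hv'⟩ := kill q x hx (z i) (hz i (Finset.mem_insert_self i F))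
    refine ⟨u * v, mul_notMem q hu hv, fun t h ht j hj => ?_⟩
    rcases Finset.mem_insert.mp hj with rfl | hj
    · exact hv' t h (dvd_trans (dvd_mul_left v u) ht)
    · exact hu' t h (dvd_trans (dvd_mul_right u v) ht) j hj

/-- Two maps that agree in the local ring agree after shrinking. -/
lemma agree {A : Type*} [CommRing A] [Algebra R A] [Algebra.FiniteType R A] (x : S) (hx : x ∉ q)
    (a b : A →ₐ[R] Localization.Away x) (hab : ∀ i, toLoc R q x hx (a i) = toLoc R q x hx (b i)) :
    ∃ u, u ∉ q ∧ ∀ t (h : x ∣ t), u ∣ t → (res R x t h).comp a = (res R x t h).comp b := by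
  obtain ⟨F, hF⟩ := (Algebra.FiniteType.out : (⊤ : Subalgebra R A).FG)
  obtain ⟨u, hu, hu'⟩ := kill_finset q x hx F (fun i => a i - b i)
    (fun i _ => by rw [map_sub, hab, sub_self])
  refine ⟨u, hu, fun t h ht => AlgHom.ext_of_adjoin_eq_top hF fun i hi => ?_⟩
  have := hu' t h ht i hi
  rw [map_sub, sub_eq_zero] at this
  exact this

/-- A map from a finitely presented algebra to the local ring spreads out. -/
lemma spread {A : Type*} [CommRing A] [Algebra R A] [Algebra.FinitePresentation R A]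
    (f : A →ₐ[R] Localization.AtPrime q) :
    ∃ (t : S) (ht : t ∉ q) (h : A →ₐ[R] Localization.Away t),
      ∀ a, toLoc R q t ht (h a) = f a := by
  obtain ⟨n, π, hπ, F, hF⟩ := (Algebra.FinitePresentation.out : ∃ (n : ℕ)
    (f : MvPolynomial (Fin n) R →ₐ[R] A), Function.Surjective f ∧ (RingHom.ker f.toRingHom).FG)
  obtain ⟨⟨b, hb⟩, hy⟩ := IsLocalization.exist_integer_multiples_of_finite q.primeCompl
    (fun i : Fin n => f (π (MvPolynomial.X i)))
  choose y hy using hy
  have hb' : b ∉ q := hb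
  obtain ⟨c, hc⟩ := (IsLocalization.Away.algebraMap_isUnit b :
    IsUnit (algebraMap S (Localization.Away b) b)).exists_right_inv
  let h0 : MvPolynomial (Fin n) R →ₐ[R] Localization.Away b :=
    MvPolynomial.aeval fun i => inS R b (y i) * c
  have hh0 : ∀ p, toLoc R q b hb' (h0 p) = f (π p) := by
    intro p
    refine DFunLike.congr_fun (?_ : (toLoc R q b hb').comp h0 = f.comp π) p
    refine MvPolynomial.algHom_ext fun i => ?_
    simp only [AlgHom.comp_apply, h0, MvPolynomial.aeval_X, map_mul, toLoc_inS]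
    have hy' := hy i
    simp only [Algebra.smul_def] at hy'
    rw [hy']
    have h1 := congrArg (toLoc R q b hb') hc
    rw [map_mul, map_one] at h1
    change toLoc R q b hb' (inS R b b) * _ = 1 at h1
    rw [toLoc_inS] at h1
    linear_combination (f (π (MvPolynomial.X i))) * h1
  obtain ⟨u, hu, hu'⟩ := kill_finset q b hb' F h0 (fun p hp => by
    rw [hh0]
    have : p ∈ RingHom.ker π.toRingHom := hF ▸ Ideal.subset_span hp
    rw [show π p = 0 from this, map_zero])
  refine ⟨b * u, mul_notMem q hb' hu, ?_⟩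
  let h1 := (res R b (b * u) (dvd_mul_right b u)).comp h0
  have hker : RingHom.ker π.toRingHom ≤ RingHom.ker h1.toRingHom := by
    rw [← hF, Ideal.span_le]
    intro p hp
    exact hu' _ (dvd_mul_right b u) (dvd_mul_left u b) p hp
  let h2 : A →ₐ[R] Localization.Away (b * u) :=
    (Ideal.Quotient.liftₐ (RingHom.ker π.toRingHom) h1 hker).comp
      (Ideal.quotientKerAlgEquivOfSurjective hπ).symm.toAlgHom
  refine ⟨h2, fun a => ?_⟩
  obtain ⟨p, rfl⟩ := hπ a
  have hp : (Ideal.quotientKerAlgEquivOfSurjective hπ).symm (π p) = Ideal.Quotient.mk _ p := by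
    rw [AlgEquiv.symm_apply_eq]
    rfl
  show toLoc R q _ _ (Ideal.Quotient.liftₐ _ h1 hker ((Ideal.quotientKerAlgEquivOfSurjective hπ).symm (π p))) = _
  rw [hp]
  show toLoc R q _ _ (res R b (b * u) (dvd_mul_right b u) (h0 p)) = _
  rw [toLoc_res q b (b * u) hb' (mul_notMem q hb' hu), hh0]

end helpers

/-- Let `S`, `S'` be finitely presented `R`-algebras and `𝔮 ⊆ S`, `𝔮' ⊆ S'` primes with `S_𝔮 ≅ S'_{𝔮'}`
as `R`-algebras. Then `S_g ≅ S'_{g'}` as `R`-algebras for some `g ∉ 𝔮`, `g' ∉ 𝔮'`. -/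
theorem result {R S S' : Type u} [CommRing R] [CommRing S] [CommRing S'] [Algebra R S]
    [Algebra R S'] [Algebra.FinitePresentation R S] [Algebra.FinitePresentation R S'] (q : Ideal S) [q.IsPrime]
    (q' : Ideal S') [q'.IsPrime] (e : Localization.AtPrime q ≃ₐ[R] Localization.AtPrime q') :
    ∃ (g : S) (g' : S'), g ∉ q ∧ g' ∉ q' ∧ Nonempty (Localization.Away g ≃ₐ[R] Localization.Away g') := by
  classical
  -- h : S → S'[1/x'] spreading e
  obtain ⟨x', hx', h, hh⟩ := spread q' ((e : _ →ₐ[R] _).comp (IsScalarTower.toAlgHom R S (Localization.AtPrime q)))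
  haveI : Algebra.FinitePresentation R (Localization.Away x') :=
    Algebra.FinitePresentation.of_isLocalizationAway (S := S') x'
  obtain ⟨x, hx, k, hk⟩ := spread q ((e.symm : _ →ₐ[R] _).comp (toLoc R q' x' hx'))
  have hkh : ∀ s, toLoc R q x hx (k (h s)) = algebraMap S _ s := by
    intro s
    rw [hk]
    show e.symm (toLoc R q' x' hx' (h s)) = _
    rw [hh]
    exact e.symm_apply_apply _
  obtain ⟨u, hu, hu'⟩ := agree q x hx (k.comp h) (inS R x)
    (fun s => (hkh s).trans (toLoc_inS q x hx s).symm)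
  have hg : x * u ∉ q := mul_notMem q hx hu
  obtain ⟨k1, hk1def⟩ : ∃ k1, k1 = (res R x (x * u) (dvd_mul_right x u)).comp k := ⟨_, rfl⟩
  have hk1 : ∀ s, k1 (h s) = inS R (x * u) s := by
    intro s
    rw [hk1def]
    have := DFunLike.congr_fun (hu' (x * u) (dvd_mul_right x u) (dvd_mul_left u x)) s
    simp only [AlgHom.comp_apply] at this ⊢
    rw [this, res_inS]
  have hk1loc : ∀ z, toLoc R q (x * u) hg (k1 z) = e.symm (toLoc R q' x' hx' z) := by
    intro z
    rw [hk1def, AlgHom.comp_apply, toLoc_res q x (x * u) hx hg, hk]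
    rfl
  -- invert h(g)
  obtain ⟨m, a, ha⟩ := IsLocalization.Away.surj x' (h (x * u))
  change h (x * u) * inS R x' x' ^ m = inS R x' a at ha
  have ha' : a ∉ q' := by
    intro hmem
    have h1 : IsUnit (algebraMap S' (Localization.AtPrime q') a) := by
      rw [← toLoc_inS (R := R) q' x' hx', ← ha, map_mul, map_pow, hh, toLoc_inS]
      refine IsUnit.mul ?_ ((IsLocalization.map_units (M := q'.primeCompl) _ ⟨x', hx'⟩).pow m)
      exact (IsLocalization.map_units (M := q.primeCompl) (Localization.AtPrime q) ⟨x * u, hg⟩).map e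
    exact ((IsLocalization.AtPrime.isUnit_to_map_iff (Localization.AtPrime q') q' a).mp h1) hmem
  have hg' : x' * a ∉ q' := mul_notMem q' hx' ha'
  have hh1u : IsUnit (((res R x' (x' * a) (dvd_mul_right x' a)).comp h) (x * u)) := by
    have h1 := congrArg (res R x' (x' * a) (dvd_mul_right x' a)) ha
    rw [map_mul, map_pow, res_inS, res_inS] at h1
    exact isUnit_of_mul_isUnit_left (h1 ▸ isUnit_inS a _ (dvd_mul_left a x'))
  obtain ⟨h1, hh1⟩ : ∃ h1 : Localization.Away (x * u) →ₐ[R] Localization.Away (x' * a),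
      ∀ s, h1 (inS R (x * u) s) = res R x' (x' * a) (dvd_mul_right x' a) (h s) :=
    ⟨aw (x * u) _ hh1u, fun s => aw_algebraMap _ _ _ s⟩
  have hk2u : IsUnit ((k1.comp (inS R x')) (x' * a)) := by
    rw [map_mul]
    refine IsUnit.mul ((isUnit_inS (R := R) x' x' dvd_rfl).map k1) ?_
    show IsUnit (k1 (inS R x' a))
    rw [← ha, map_mul, map_pow, hk1]
    exact (isUnit_inS (R := R) (x * u) (x * u) dvd_rfl).mul (((isUnit_inS (R := R) x' x' dvd_rfl).map k1).pow m)
  obtain ⟨k2, hk2⟩ : ∃ k2 : Localization.Away (x' * a) →ₐ[R] Localization.Away (x * u),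
      ∀ s, k2 (inS R (x' * a) s) = k1 (inS R x' s) :=
    ⟨aw (x' * a) (k1.comp (inS R x')) hk2u, fun s => aw_algebraMap _ _ _ s⟩
  have hk2res : ∀ z, k2 (res R x' (x' * a) (dvd_mul_right x' a) z) = k1 z := fun z =>
    DFunLike.congr_fun (aw_ext x' (k2.comp (res R x' (x' * a) (dvd_mul_right x' a))) k1
      (fun s => (congrArg k2 (res_inS x' (x' * a) (dvd_mul_right x' a) s)).trans (hk2 s))) z
  have hk2h1 : ∀ z, k2 (h1 z) = z := fun z =>
    DFunLike.congr_fun (aw_ext (x * u) (k2.comp h1) (AlgHom.id R _)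
      (fun s => by
        show k2 (h1 (inS R (x * u) s)) = inS R (x * u) s
        rw [hh1, hk2res, hk1])) z
  have hloc1 : ∀ z, toLoc R q' (x' * a) hg' (h1 z) = e (toLoc R q (x * u) hg z) := fun z =>
    DFunLike.congr_fun (aw_ext (x * u) ((toLoc R q' (x' * a) hg').comp h1)
      (e.toAlgHom.comp (toLoc R q (x * u) hg))
      (fun s => by
        show toLoc R q' (x' * a) hg' (h1 (inS R (x * u) s)) = e (toLoc R q (x * u) hg (inS R (x * u) s))
        rw [hh1, toLoc_res q' x' _ hx' hg', hh, toLoc_inS]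
        rfl)) z
  obtain ⟨v, hv, hv'⟩ := agree q' (x' * a) hg' (h1.comp (k2.comp (inS R (x' * a)))) (inS R (x' * a))
    (fun s => by
      simp only [AlgHom.comp_apply]
      rw [hloc1, hk2, hk1loc, AlgEquiv.apply_symm_apply, toLoc_inS, toLoc_inS])
  obtain ⟨j, b, hb⟩ := IsLocalization.Away.surj (x * u) (k2 (inS R (x' * a) v))
  change k2 (inS R (x' * a) v) * inS R (x * u) (x * u) ^ j = inS R (x * u) b at hb
  have hgv : x' * a * v ∉ q' := mul_notMem q' hg' hv
  have hres := DFunLike.congr_fun (hv' (x' * a * v) (dvd_mul_right _ v) (dvd_mul_left v _))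
  simp only [AlgHom.comp_apply, res_inS] at hres
  have hb' : b ∉ q := by
    intro hmem
    have h2 : IsUnit (algebraMap S (Localization.AtPrime q) b) := by
      rw [← toLoc_inS (R := R) q (x * u) hg, ← hb, map_mul, map_pow, hk2, hk1loc, toLoc_inS, toLoc_inS]
      exact ((IsLocalization.map_units (M := q'.primeCompl) (Localization.AtPrime q') ⟨v, hv⟩).map e.symm).mul
        ((IsLocalization.map_units (M := q.primeCompl) (Localization.AtPrime q) ⟨x * u, hg⟩).pow j)
    exact ((IsLocalization.AtPrime.isUnit_to_map_iff (Localization.AtPrime q) q b).mp h2) hmem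
  refine ⟨x * u * b, x' * a * v, mul_notMem q hg hb', hgv, ?_⟩
  set r := res R (x * u) (x * u * b) (dvd_mul_right _ b) with hr
  set r' := res R (x' * a) (x' * a * v) (dvd_mul_right _ v) with hr'
  have hHu : IsUnit (((r'.comp h1).comp (inS R (x * u))) (x * u * b)) := by
    rw [map_mul]
    refine IsUnit.mul ((isUnit_inS (R := R) (x * u) (x * u) dvd_rfl).map (r'.comp h1)) ?_
    show IsUnit (r' (h1 (inS R (x * u) b)))
    rw [← hb, map_mul, map_mul, hres v, map_pow, map_pow]
    exact (isUnit_inS v _ (dvd_mul_left v _)).mul (((isUnit_inS (R := R) (x * u) (x * u) dvd_rfl).map (r'.comp h1)).pow j)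
  have hKu : IsUnit (((r.comp k2).comp (inS R (x' * a))) (x' * a * v)) := by
    rw [map_mul]
    refine IsUnit.mul ((isUnit_inS (R := R) (x' * a) (x' * a) dvd_rfl).map (r.comp k2)) ?_
    show IsUnit (r (k2 (inS R (x' * a) v)))
    have h3 := congrArg r hb
    rw [map_mul, map_pow, hr, res_inS, res_inS] at h3
    exact isUnit_of_mul_isUnit_left (h3 ▸ isUnit_inS b _ (dvd_mul_left b _))
  obtain ⟨H, hH⟩ : ∃ H : Localization.Away (x * u * b) →ₐ[R] Localization.Away (x' * a * v),
      ∀ z, H (r z) = r' (h1 z) :=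
    ⟨aw _ _ hHu, fun z => DFunLike.congr_fun (aw_ext (x * u) ((aw _ _ hHu).comp r) (r'.comp h1)
      (fun s => (congrArg (aw _ _ hHu) (res_inS (x * u) (x * u * b) (dvd_mul_right _ b) s)).trans (aw_algebraMap _ _ _ s))) z⟩
  obtain ⟨K, hK⟩ : ∃ K : Localization.Away (x' * a * v) →ₐ[R] Localization.Away (x * u * b),
      ∀ z, K (r' z) = r (k2 z) :=
    ⟨aw _ _ hKu, fun z => DFunLike.congr_fun (aw_ext (x' * a) ((aw _ _ hKu).comp r') (r.comp k2)
      (fun s => (congrArg (aw _ _ hKu) (res_inS (x' * a) (x' * a * v) (dvd_mul_right _ v) s)).trans (aw_algebraMap _ _ _ s))) z⟩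
  refine ⟨AlgEquiv.ofAlgHom H K ?_ ?_⟩
  · refine aw_ext _ _ _ fun s => ?_
    show H (K (inS R (x' * a * v) s)) = inS R (x' * a * v) s
    rw [← res_inS (x' * a) (x' * a * v) (dvd_mul_right _ v) s, ← hr', hK, hH, hres, hr', res_inS]
  · refine aw_ext _ _ _ fun s => ?_
    show K (H (inS R (x * u * b) s)) = inS R (x * u * b) s
    rw [← res_inS (x * u) (x * u * b) (dvd_mul_right _ b) s, ← hr, hH, hK, hk2h1]

end Groth.Agent.S2145
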