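import Groth.Statements.S2146
import Mathlib

set_option autoImplicit false
universe u
open CAlg

namespace Groth.Agent.S2146

/-- Let `S` be a finitely presented `R`-algebra and `𝔮` a prime of `S` over `𝔭` such that the induced
map `R_𝔭 → S_𝔮` is bijective. Then for some `f ∉ 𝔭` there is an `R_f`-algebra `C` with `S_f ≅ R_f ×
C` as `R_f`-algebras. -/
theorem result {R S : Type u} [CommRing R] [CommRing S] [Algebra R S]
    [Algebra.FinitePresentation R S] (q : Ideal S) [q.IsPrime] (p : Ideal R) [p.IsPrime] [q.LiesOver p]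
    (h : Function.Bijective (Localization.localRingHom p q (algebraMap R S) (q.over_def p))) :
    ∃ f : R, f ∉ p ∧ ∀ (Rf Sf : Type u) [CommRing Rf] [CommRing Sf] [Algebra R Rf] [IsLocalization.Away f Rf]
      [Algebra S Sf] [IsLocalization.Away (algebraMap R S f) Sf] [Algebra Rf Sf] [Algebra R Sf] [IsScalarTower R S Sf]
      [IsScalarTower R Rf Sf],
      ∃ (C : Type u) (_ : CommRing C) (_ : Algebra Rf C), Nonempty (Sf ≃ₐ[Rf] (Rf × C)) := by
  classical
  obtain ⟨n, π, hπ, rels, hrels⟩ := Algebra.FinitePresentation.out (R := R) (A := S)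
  let e := RingEquiv.ofBijective _ h
  let ψ : S →ₐ[R] Localization.AtPrime p :=
    { e.symm.toRingHom.comp (algebraMap S (Localization.AtPrime q)) with
      commutes' := fun r => e.injective (by
        show e (e.symm (algebraMap S (Localization.AtPrime q) (algebraMap R S r))) = e (algebraMap R (Localization.AtPrime p) r)
        rw [RingEquiv.apply_symm_apply]
        exact (Localization.localRingHom_to_map p q (algebraMap R S) (q.over_def p) r).symm) }
  let x : Fin n → S := fun i => π (MvPolynomial.X i)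
  have hπev : ∀ P, π P = MvPolynomial.aeval x P := fun P =>
    DFunLike.congr_fun (MvPolynomial.aeval_unique π) P
  obtain ⟨⟨c, hc⟩, hint⟩ := IsLocalization.exist_integer_multiples_of_finite p.primeCompl (fun i => ψ (x i))
  choose b hb using hint
  have hb' : ∀ i, algebraMap R (Localization.AtPrime p) c * ψ (x i) = algebraMap R (Localization.AtPrime p) (b i) := fun i => by
    rw [hb, Algebra.smul_def]
  have hpoly : ∀ P : MvPolynomial (Fin n) R, ∃ (N : ℕ) (a : R), ∀ (A : Type u) [CommRing A] [Algebra R A] (z : Fin n → A),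
      (∀ i, algebraMap R A c * z i = algebraMap R A (b i)) →
        algebraMap R A c ^ N * MvPolynomial.aeval z P = algebraMap R A a := by
    intro P
    induction P using MvPolynomial.induction_on with
    | C r => exact ⟨0, r, fun A _ _ z _ => by simp⟩
    | add P Q hP hQ =>
      obtain ⟨N, a, hN⟩ := hP
      obtain ⟨M, a', hM⟩ := hQ
      refine ⟨N + M, c ^ M * a + c ^ N * a', fun A _ _ z hz => ?_⟩
      rw [map_add, map_add, map_mul, map_mul, map_pow, map_pow, ← hN A z hz, ← hM A z hz, pow_add]
      ring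
    | mul_X P i hP =>
      obtain ⟨N, a, hN⟩ := hP
      refine ⟨N + 1, a * b i, fun A _ _ z hz => ?_⟩
      rw [map_mul, map_mul, MvPolynomial.aeval_X, ← hN A z hz, ← hz i, pow_succ]
      ring
  choose N a ha using hpoly
  have hψev : ∀ P, MvPolynomial.aeval (fun i => ψ (x i)) P = ψ (π P) := fun P => by
    rw [hπev]
    exact (MvPolynomial.comp_aeval_apply x ψ P).symm
  have hkill : ∀ i, ∃ g : q.primeCompl, g.1 * (algebraMap R S c * x i - algebraMap R S (b i)) = 0 := by
    intro i
    have h0 : ψ (algebraMap R S c * x i - algebraMap R S (b i)) = 0 := by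
      rw [map_sub, map_mul, ψ.commutes, ψ.commutes, hb', sub_self]
    refine (IsLocalization.map_eq_zero_iff q.primeCompl (Localization.AtPrime q) _).mp ?_
    have h1 := congrArg e h0
    rw [map_zero] at h1
    rw [← h1]
    exact (e.apply_symm_apply _).symm
  choose g hg using hkill
  obtain ⟨G, hG⟩ := hπ (∏ i, g i : q.primeCompl).1
  have haG : a G ∉ p := by
    intro hmem
    have h2 := ha G (Localization.AtPrime p) (fun i => ψ (x i)) hb'
    rw [hψev, hG] at h2
    have hu : IsUnit (algebraMap R (Localization.AtPrime p) c ^ N G * ψ (∏ i, g i : q.primeCompl).1) := by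
      refine IsUnit.mul ((IsLocalization.map_units (Localization.AtPrime p) (⟨c, hc⟩ : p.primeCompl)).pow _) ?_
      exact (IsLocalization.map_units (Localization.AtPrime q) (∏ i, g i : q.primeCompl)).map e.symm
    rw [h2, IsLocalization.AtPrime.isUnit_to_map_iff (Localization.AtPrime p) p] at hu
    exact hu hmem
  have hd : ∀ r ∈ rels, ∃ d : p.primeCompl, d.1 * a r = 0 := by
    intro r hr
    refine (IsLocalization.map_eq_zero_iff p.primeCompl (Localization.AtPrime p) _).mp ?_
    rw [← ha r (Localization.AtPrime p) (fun i => ψ (x i)) hb', hψev,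
      show π r = 0 from RingHom.mem_ker.mp (hrels.le (Ideal.subset_span hr)), map_zero, mul_zero]
  choose d hd using hd
  let D : p.primeCompl := ∏ r : rels, d r.1 r.2
  refine ⟨c * D.1 * a G, p.primeCompl.mul_mem (p.primeCompl.mul_mem hc D.2) haG, ?_⟩
  intro Rf Sf _ _ _ _ _ _ _ _ _ _
  have hunit : IsUnit (algebraMap R Rf (c * D.1 * a G)) := IsLocalization.Away.algebraMap_isUnit _
  rw [map_mul, map_mul, IsUnit.mul_iff, IsUnit.mul_iff] at hunit
  obtain ⟨⟨hcu, hDu⟩, haGu⟩ := hunit
  let z : Fin n → Rf := fun i => algebraMap R Rf (b i) * (↑hcu.unit⁻¹ : Rf)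
  have hz : ∀ i, algebraMap R Rf c * z i = algebraMap R Rf (b i) := fun i => by
    rw [mul_comm, mul_assoc, hcu.val_inv_mul, mul_one]
  let σP : MvPolynomial (Fin n) R →ₐ[R] Rf := MvPolynomial.aeval z
  have hker : RingHom.ker π ≤ RingHom.ker σP := by
    show RingHom.ker π.toRingHom ≤ _
    rw [← hrels, Ideal.span_le]
    intro r hr
    rw [SetLike.mem_coe, RingHom.mem_ker]
    refine (hcu.pow (N r)).mul_left_cancel ?_
    rw [mul_zero]
    refine (ha r Rf z hz).trans (hDu.mul_left_cancel ?_)
    rw [mul_zero, ← map_mul]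
    show algebraMap R Rf ((D : R) * a r) = 0
    have : (D : R) * a r = 0 := by
      obtain ⟨w, hw⟩ : (d r hr).1 ∣ (D : R) :=
        map_dvd p.primeCompl.subtype (Finset.dvd_prod_of_mem (fun r : rels => d r.1 r.2) (Finset.mem_univ ⟨r, hr⟩))
      rw [hw, mul_right_comm, hd, zero_mul]
    rw [this, map_zero]
  let σ : S →ₐ[R] Rf := AlgHom.liftOfSurjective π hπ σP hker
  have hσ : ∀ P, σ (π P) = σP P := fun P => AlgHom.liftOfSurjective_apply π hπ σP hker P
  have hσf : IsUnit (σ.toRingHom (algebraMap R S (c * D.1 * a G))) := by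
    show IsUnit (σ (algebraMap R S (c * D.1 * a G)))
    rw [σ.commutes]
    exact IsLocalization.Away.algebraMap_isUnit _
  let σ' : Sf →+* Rf := IsLocalization.Away.lift (algebraMap R S (c * D.1 * a G)) hσf
  have hσ' : ∀ s, σ' (algebraMap S Sf s) = σ s := fun s => IsLocalization.Away.lift_eq _ hσf s
  have hcomm : ∀ r : Rf, σ' (algebraMap Rf Sf r) = r := by
    have : σ'.comp (algebraMap Rf Sf) = RingHom.id Rf := IsLocalization.ringHom_ext (Submonoid.powers (c * D.1 * a G))
      (RingHom.ext fun r => by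
        show σ' (algebraMap Rf Sf (algebraMap R Rf r)) = algebraMap R Rf r
        rw [← IsScalarTower.algebraMap_apply R Rf Sf, IsScalarTower.algebraMap_apply R S Sf, hσ', σ.commutes])
    exact fun r => RingHom.congr_fun this r
  let gS : Sf := algebraMap S Sf (∏ i, g i : q.primeCompl).1
  let ι := algebraMap Rf Sf
  have hkey : ∀ s : S, gS * algebraMap S Sf s = gS * ι (σ s) := by
    intro s
    obtain ⟨P, rfl⟩ := hπ s
    induction P using MvPolynomial.induction_on with
    | C r =>
      congr 1
      rw [hσ, show π (MvPolynomial.C r) = algebraMap R S r from π.commutes r, ← IsScalarTower.algebraMap_apply R S Sf,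
        show σP (MvPolynomial.C r) = algebraMap R Rf r from σP.commutes r, ← IsScalarTower.algebraMap_apply R Rf Sf]
    | add P Q hP hQ => rw [map_add, map_add, mul_add, hP, hQ, map_add σ, map_add ι, mul_add]
    | mul_X P i hP =>
      have hi : gS * algebraMap S Sf (x i) = gS * ι (σ (x i)) := by
        obtain ⟨w, hw⟩ : (g i).1 ∣ (∏ i, g i : q.primeCompl).1 :=
          map_dvd q.primeCompl.subtype (Finset.dvd_prod_of_mem g (Finset.mem_univ i))
        refine (hcu.map ι).mul_left_cancel ?_
        have h3 : gS * (algebraMap S Sf (algebraMap R S c * x i - algebraMap R S (b i))) = 0 := by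
          rw [← map_mul, hw, mul_right_comm, hg, zero_mul, map_zero]
        rw [map_sub, map_mul, ← IsScalarTower.algebraMap_apply R S Sf, ← IsScalarTower.algebraMap_apply R S Sf,
          IsScalarTower.algebraMap_apply R Rf Sf, IsScalarTower.algebraMap_apply R Rf Sf (b i), ← hz i,
          show z i = σ (x i) from ((hσ _).trans (MvPolynomial.aeval_X z i)).symm, map_mul ι] at h3
        linear_combination h3
      calc gS * algebraMap S Sf (π (P * MvPolynomial.X i)) = (gS * algebraMap S Sf (π P)) * algebraMap S Sf (x i) := by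
            rw [map_mul π, map_mul, ← mul_assoc]
        _ = ι (σ (π P)) * (gS * algebraMap S Sf (x i)) := by rw [hP]; ring
        _ = gS * ι (σ (π (P * MvPolynomial.X i))) := by rw [hi, map_mul π, map_mul σ, map_mul ι]; ring
  have hgu : IsUnit (σ' gS) := by
    rw [hσ', ← hG, hσ]
    exact isUnit_of_mul_isUnit_right (by
      rw [ha G Rf z hz]
      exact haGu : IsUnit (algebraMap R Rf c ^ N G * σP G))
  let E : Sf := ι (↑hgu.unit⁻¹ : Rf) * gS
  have hE : ∀ w : Sf, E * w = E * ι (σ' w) := by
    intro w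
    obtain ⟨⟨s, t⟩, hst⟩ := IsLocalization.surj (Submonoid.powers (algebraMap R S (c * D.1 * a G))) w
    refine (IsLocalization.map_units Sf t).mul_left_cancel ?_
    have h4 : ι (σ' (algebraMap S Sf t.1)) = algebraMap S Sf t.1 := by
      obtain ⟨k, hk⟩ := t.2
      rw [← hk]
      simp only [hσ', map_pow, σ.commutes]
      rw [← IsScalarTower.algebraMap_apply R Rf Sf, ← IsScalarTower.algebraMap_apply R S Sf]
    calc algebraMap S Sf t.1 * (E * w) = ι (↑hgu.unit⁻¹ : Rf) * (gS * algebraMap S Sf s) := by rw [← hst]; simp only [E]; ring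
      _ = E * (ι (σ' w) * ι (σ' (algebraMap S Sf t.1))) := by rw [hkey, ← hσ', ← hst, map_mul σ', map_mul ι]; simp only [E]; ring
      _ = _ := by rw [h4]; ring
  have hσE : σ' E = 1 := by rw [map_mul, hcomm, hgu.val_inv_mul]
  have hEE : E * E = E := by rw [hE, hσE, map_one, mul_one]
  let σA : Sf →ₐ[Rf] Rf := { σ' with commutes' := hcomm }
  refine ⟨Sf ⧸ Ideal.span {E}, inferInstance, inferInstance,
    ⟨AlgEquiv.ofBijective (σA.prod (Ideal.Quotient.mkₐ Rf (Ideal.span {E}))) ⟨?_, ?_⟩⟩⟩
  · refine (injective_iff_map_eq_zero _).mpr fun w hw => ?_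
    obtain ⟨h5, h6⟩ := Prod.ext_iff.mp hw
    change σ' w = 0 at h5
    obtain ⟨v, rfl⟩ := Ideal.mem_span_singleton'.mp (Ideal.Quotient.eq_zero_iff_mem.mp h6)
    rw [show v * E = E * (v * E) from (by linear_combination (-v) * hEE), hE, h5, map_zero, mul_zero]
  · rintro ⟨r, w⟩
    obtain ⟨w, rfl⟩ := Ideal.Quotient.mk_surjective w
    refine ⟨E * ι r + (1 - E) * w, Prod.ext ?_ ?_⟩
    · show σ' (E * ι r + (1 - E) * w) = r
      rw [map_add, map_mul σ' E (ι r), map_mul σ' (1 - E) w, map_sub σ' 1 E, map_one, hσE, hcomm, one_mul, sub_self, zero_mul, add_zero]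
    · show Ideal.Quotient.mk (Ideal.span {E}) (E * ι r + (1 - E) * w) = Ideal.Quotient.mk _ w
      rw [Ideal.Quotient.eq]
      exact Ideal.mem_span_singleton'.mpr ⟨ι r - w, by ring⟩

end Groth.Agent.S2146
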