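import Mathlib
import Groth.Statements.S2148
-- import your own Groth.Agent.* helpers here

set_option autoImplicit false
universe u
open CAlg

namespace Groth.Agent.S2148

/-- Let `k` be a perfect field of characteristic `p > 0` and `K` an extension field of `k`. For `a ∈ K`,
the differential `da` vanishes in `Ω_{K/k}` if and only if `a` is a `p`-th power in `K`. -/
theorem result {k K : Type u} [Field k] [Field K] [Algebra k K] (p : ℕ) [Fact p.Prime]
    [CharP k p] [PerfectRing k p] (a : K) :
    KaehlerDifferential.D k K a = 0 ↔ ∃ b : K, b ^ p = a := by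
  classical
  haveI : CharP K p := charP_of_injective_algebraMap (algebraMap k K).injective p
  haveI : ExpChar K p := ExpChar.prime (Fact.out : p.Prime)
  have hp : p.Prime := Fact.out
  constructor
  swap
  · rintro ⟨b, rfl⟩
    rw [Derivation.leibniz_pow, ← Nat.cast_smul_eq_nsmul K, CharP.cast_eq_zero K p, zero_smul]
  intro hD
  by_contra hne
  let F₀ : Subfield K := (frobenius K p).fieldRange
  obtain ⟨L, hL0, ⟨hL1, hL2⟩, hLmax⟩ : ∃ L, F₀ ≤ L ∧ (F₀ ≤ L ∧ a ∉ L) ∧ ∀ M : Subfield K, (F₀ ≤ M ∧ a ∉ M) → L ≤ M → M ≤ L := by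
    obtain ⟨L, hle, hmax⟩ := zorn_le_nonempty₀ {M : Subfield K | F₀ ≤ M ∧ a ∉ M} (fun c hc hcc y hy => by
      refine ⟨sSup c, ⟨(hc hy).1.trans (le_sSup hy), fun h => ?_⟩, fun z hz => le_sSup hz⟩
      obtain ⟨M, hM, haM⟩ := (Subfield.mem_sSup_of_directedOn ⟨y, hy⟩ hcc.directedOn).mp h
      exact (hc hM).2 haM) F₀ ⟨le_rfl, fun h => by
        obtain ⟨b, hb⟩ := h
        exact hne ⟨b, hb⟩⟩
    exact ⟨L, hle, hmax.prop, fun M hM hLM => hmax.le_of_ge hM hLM⟩
  have hpow : ∀ x : K, x ^ p ∈ L := fun x => hL1 ⟨x, rfl⟩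
  have hk : ∀ r : k, algebraMap k K r ∈ L := fun r => by
    obtain ⟨s, hs⟩ := surjective_frobenius k p r
    rw [← hs, frobenius_def, map_pow]; exact hpow _
  have hirr : ∀ x : K, x ∉ L → Irreducible (Polynomial.X ^ p - Polynomial.C (⟨x ^ p, hpow x⟩ : L)) := by
    intro x hx
    refine X_pow_sub_C_irreducible_of_prime hp fun b hb => hx ?_
    have : (b : K) ^ p = x ^ p := by simpa using congrArg Subtype.val hb
    exact frobenius_inj K p this ▸ b.2
  have hdeg : ∀ x : K, x ∉ L → IsIntegral L x ∧ Module.finrank L (IntermediateField.adjoin L ({x} : Set K)) = p := by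
    intro x hx
    have hr : Polynomial.aeval x (Polynomial.X ^ p - Polynomial.C (⟨x ^ p, hpow x⟩ : L)) = 0 := by
      simp [Subfield.algebraMap_ofSubfield]
    have hm : (Polynomial.X ^ p - Polynomial.C (⟨x ^ p, hpow x⟩ : L)).Monic := Polynomial.monic_X_pow_sub_C _ hp.ne_zero
    have hint : IsIntegral L x := ⟨_, hm, by rwa [← Polynomial.aeval_def]⟩
    refine ⟨hint, ?_⟩
    rw [IntermediateField.adjoin.finrank hint, ← minpoly.eq_of_irreducible_of_monic (hirr x hx) hr hm, Polynomial.natDegree_X_pow_sub_C]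
  have htop : IntermediateField.adjoin L ({a} : Set K) = ⊤ := by
    refine eq_top_iff.mpr fun b _ => ?_
    by_cases hb : b ∈ L
    · exact (IntermediateField.adjoin L ({a} : Set K)).algebraMap_mem ⟨b, hb⟩
    · have hle : L ≤ (IntermediateField.adjoin L ({b} : Set K)).toSubfield := fun z hz =>
        (IntermediateField.adjoin L ({b} : Set K)).algebraMap_mem ⟨z, hz⟩
      have hab : a ∈ IntermediateField.adjoin L ({b} : Set K) := by
        by_contra h
        exact hb (hLmax _ ⟨hL1.trans hle, h⟩ hle (IntermediateField.mem_adjoin_simple_self L b))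
      haveI : FiniteDimensional L (IntermediateField.adjoin L ({b} : Set K)) := IntermediateField.adjoin.finiteDimensional (hdeg b hb).1
      have := IntermediateField.eq_of_le_of_finrank_eq
        ((IntermediateField.adjoin_simple_le_iff).mpr hab) ((hdeg a hL2).2.trans (hdeg b hb).2.symm)
      rw [this]; exact IntermediateField.mem_adjoin_simple_self L b
  set P : Polynomial L := Polynomial.X ^ p - Polynomial.C (⟨a ^ p, hpow a⟩ : L) with hP
  haveI : Fact (Irreducible P) := ⟨hirr a hL2⟩
  let e0 : AdjoinRoot P →ₐ[L] K := AdjoinRoot.liftAlgHom P (Algebra.ofId L K) a (by simp [hP, Algebra.ofId_apply, sub_eq_zero]; rfl)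
  have he0 : Function.Bijective e0 := by
    refine ⟨e0.toRingHom.injective, fun x => ?_⟩
    have : IntermediateField.adjoin L ({a} : Set K) ≤ e0.fieldRange :=
      IntermediateField.adjoin_simple_le_iff.mpr ⟨AdjoinRoot.root P, by simp [e0]⟩
    rw [htop] at this
    exact this (IntermediateField.mem_top (x := x))
  let e := AlgEquiv.ofBijective e0 he0
  let φ : AdjoinRoot P →ₐ[L] DualNumber K := AdjoinRoot.liftAlgHom P (Algebra.ofId L _) (TrivSqZeroExt.inl a + TrivSqZeroExt.inr 1) (by
    simp only [hP, Polynomial.eval₂_sub, Polynomial.eval₂_X_pow, Polynomial.eval₂_C, sub_eq_zero]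
    refine TrivSqZeroExt.ext ?_ ?_
    · simp [TrivSqZeroExt.algebraMap_eq_inl']; rfl
    · simp [TrivSqZeroExt.snd_pow, TrivSqZeroExt.algebraMap_eq_inl'])
  let ψ : K →ₐ[L] DualNumber K := φ.comp e.symm.toAlgHom
  have hfst : ∀ x, (ψ x).fst = x := by
    intro x
    have : (TrivSqZeroExt.fstHom L K K).comp φ = e0 := AdjoinRoot.algHom_ext (by simp [φ, e0])
    change (TrivSqZeroExt.fstHom L K K).comp φ (e.symm x) = x
    rw [this]; exact e.apply_symm_apply x
  let D : Derivation k K K := Derivation.mk'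
    { toFun := fun x => (ψ x).snd
      map_add' := fun x y => by simp
      map_smul' := fun r x => by
        have : (ψ (algebraMap k K r)) = TrivSqZeroExt.inl (algebraMap k K r) := by
          exact (ψ.commutes ⟨algebraMap k K r, hk r⟩).trans (by rw [TrivSqZeroExt.algebraMap_eq_inl']; rfl)
        simp only [Algebra.smul_def, map_mul, Algebra.algebraMap_self, RingHom.id_apply, TrivSqZeroExt.snd_mul, this, hfst, TrivSqZeroExt.snd_inl, TrivSqZeroExt.fst_inl, smul_eq_mul, MulOpposite.smul_eq_mul_unop, MulOpposite.unop_op, zero_mul, add_zero] }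
    (fun x y => by
      change (ψ (x * y)).snd = x • (ψ y).snd + y • (ψ x).snd
      simp only [map_mul, TrivSqZeroExt.snd_mul, hfst, smul_eq_mul, MulOpposite.smul_eq_mul_unop, MulOpposite.unop_op]
      ring)
  have hDa : D a = 1 := by
    have : e.symm a = AdjoinRoot.root P := e.injective (by simp [e, e0])
    change (φ (e.symm a)).snd = 1
    rw [this]; simp [φ]
  have := congrArg D.liftKaehlerDifferential hD
  rw [Derivation.liftKaehlerDifferential_comp_D, map_zero, hDa] at this
  exact one_ne_zero this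

end Groth.Agent.S2148
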