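import Groth.Statements.S2159
import Mathlib

set_option autoImplicit false
universe u
open CAlg

namespace Groth.Agent.S2159

/-- Given surjections `p₁ : P₁ → M` and `p₂ : P₂ → M` from projective modules, with kernels `K` and `L`,
there is an isomorphism `K ⊕ P₂ ≅ L ⊕ P₁`. -/
theorem result {R M P₁ P₂ : Type u} [CommRing R] [AddCommGroup M] [Module R M] [AddCommGroup P₁] [Module R P₁]
    [Module.Projective R P₁] [AddCommGroup P₂] [Module R P₂] [Module.Projective R P₂] (p₁ : P₁ →ₗ[R] M) (p₂ : P₂ →ₗ[R] M)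
    (h₁ : Function.Surjective p₁) (h₂ : Function.Surjective p₂) :
    Nonempty ((LinearMap.ker p₁ × P₂) ≃ₗ[R] (LinearMap.ker p₂ × P₁)) := by
  obtain ⟨a, ha⟩ := Module.projective_lifting_property p₁ p₂ h₁
  obtain ⟨b, hb⟩ := Module.projective_lifting_property p₂ p₁ h₂
  have ha' : ∀ y, p₁ (a y) = p₂ y := fun y => LinearMap.congr_fun ha y
  have hb' : ∀ x, p₂ (b x) = p₁ x := fun x => LinearMap.congr_fun hb x
  refine ⟨LinearEquiv.ofLinear
    (LinearMap.prod
      (LinearMap.codRestrict _ (LinearMap.snd R _ _ -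
        b ∘ₗ ((LinearMap.ker p₁).subtype ∘ₗ LinearMap.fst R _ _ + a ∘ₗ LinearMap.snd R _ _))
        fun z => by simp [LinearMap.mem_ker, ha', hb', LinearMap.mem_ker.1 z.1.2])
      ((LinearMap.ker p₁).subtype ∘ₗ LinearMap.fst R _ _ + a ∘ₗ LinearMap.snd R _ _))
    (LinearMap.prod
      (LinearMap.codRestrict _ (LinearMap.snd R _ _ -
        a ∘ₗ ((LinearMap.ker p₂).subtype ∘ₗ LinearMap.fst R _ _ + b ∘ₗ LinearMap.snd R _ _))
        fun z => by simp [LinearMap.mem_ker, ha', hb', LinearMap.mem_ker.1 z.1.2])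
      ((LinearMap.ker p₂).subtype ∘ₗ LinearMap.fst R _ _ + b ∘ₗ LinearMap.snd R _ _)) ?_ ?_⟩
  · refine LinearMap.ext fun z => ?_
    obtain ⟨l, x⟩ := z
    ext <;> simp
  · refine LinearMap.ext fun z => ?_
    obtain ⟨k, y⟩ := z
    ext <;> simp

end Groth.Agent.S2159
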