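import Groth.Statements.S2160
import Mathlib
import Groth.Agent.H4FinPrimes.Basic
-- import your own Groth.Agent.* helpers here

set_option autoImplicit false
universe u
open CAlg

namespace Groth.Agent.S2160

/-- Let `R` be a Noetherian local domain of Krull dimension at least `2`. Then every nonempty open
subset of `Spec R` is infinite. -/
theorem result {R : Type u} [CommRing R] [IsDomain R] [IsLocalRing R] [IsNoetherianRing R]
    (hdim : 2 ≤ ringKrullDim R) (U : Set (PrimeSpectrum R)) (hU : IsOpen U) (hne : U.Nonempty) : U.Infinite := by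
  classical
  intro hfin
  obtain ⟨x, hx⟩ := hne
  obtain ⟨_, ⟨f, rfl⟩, hxf, hfU⟩ :=
    PrimeSpectrum.isTopologicalBasis_basic_opens.exists_subset_of_mem_open hx hU
  have hf : f ≠ 0 := fun e => hxf (e ▸ x.asIdeal.zero_mem)
  have hD : (PrimeSpectrum.basicOpen f : Set (PrimeSpectrum R)).Finite := hfin.subset hfU
  let pick : PrimeSpectrum R → R := fun q =>
    if h0 : q.asIdeal = ⊥ then 1 else (Submodule.exists_mem_ne_zero_of_ne_bot h0).choose
  have hpick : ∀ q, pick q ≠ 0 := fun q => by
    simp only [pick]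
    split_ifs with h0
    · exact one_ne_zero
    · exact (Submodule.exists_mem_ne_zero_of_ne_bot h0).choose_spec.2
  set F := f * ∏ q ∈ hD.toFinset, pick q with hF
  have hF0 : F ≠ 0 := mul_ne_zero hf (Finset.prod_ne_zero_iff.mpr fun q _ => hpick q)
  have hall : ∀ Q : Ideal R, Q.IsPrime → Q ≠ ⊥ → F ∈ Q := by
    intro Q hQ hQ0
    by_cases hfQ : f ∈ Q
    · exact Q.mul_mem_right _ hfQ
    refine Q.mul_mem_left _ (Ideal.prod_mem Q (hD.mem_toFinset.mpr (show (⟨Q, hQ⟩ : PrimeSpectrum R) ∈
      (PrimeSpectrum.basicOpen f : Set (PrimeSpectrum R)) from hfQ)) ?_)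
    simp only [pick, dif_neg hQ0]
    exact (Submodule.exists_mem_ne_zero_of_ne_bot hQ0).choose_spec.1
  have hm0 : IsLocalRing.maximalIdeal R ≠ ⊥ := by
    intro e
    have h0 := IsLocalRing.maximalIdeal_height_eq_ringKrullDim (R := R)
    rw [e, Ideal.height_bot] at h0
    rw [← h0] at hdim
    exact absurd hdim (by decide)
  have h1 := Ideal.height_le_one_of_isPrincipal_of_mem_minimalPrimes _ _
    (H4FinPrimes.mem_minimalPrimes_of_forall_mem hF0 hall _ inferInstance hm0)
  rw [← IsLocalRing.maximalIdeal_height_eq_ringKrullDim] at hdim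
  have h2 : (2 : ℕ∞) ≤ (IsLocalRing.maximalIdeal R).height := WithBot.coe_le_coe.mp hdim
  exact absurd (h2.trans h1) (by decide)

end Groth.Agent.S2160
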