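import Groth.Statements.S2161
import Mathlib.FieldTheory.PurelyInseparable.Basic
import Mathlib.RingTheory.Spectrum.Prime.Topology
import Mathlib.RingTheory.LocalRing.ResidueField.Ideal

set_option autoImplicit false
universe u
open CAlg

namespace Groth.Agent.S2161

open Polynomial

lemma hom_eq {R S K : Type*} [CommRing R] [CommRing S] [Algebra R S] [CommRing K] [IsDomain K]
    {G : Set S} (hG : Algebra.adjoin R G = ⊤)
    (hpow : ∀ x ∈ G, ∃ (n : ℕ) (P : R[X]), 0 < n ∧ P.map (algebraMap R S) = (X - C x) ^ n)
    (f g : S →+* K) (h : f.comp (algebraMap R S) = g.comp (algebraMap R S)) : f = g := by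
  letI := (f.comp (algebraMap R S)).toAlgebra
  let f' : S →ₐ[R] K := { f with commutes' := fun _ => rfl }
  let g' : S →ₐ[R] K := { g with commutes' := fun r => (RingHom.congr_fun h r).symm }
  have he : f' = g' := AlgHom.ext_of_adjoin_eq_top hG fun x hx => by
    obtain ⟨n, P, hn, hP⟩ := hpow x hx
    have h1 := congrArg (Polynomial.map f) hP
    have h2 := congrArg (Polynomial.map g) hP
    rw [Polynomial.map_map] at h1 h2
    rw [h, h2] at h1
    have h3 := congrArg (Polynomial.eval (g x)) h1
    simp only [Polynomial.map_pow, Polynomial.map_sub, map_X, map_C, eval_pow, eval_sub, eval_X, eval_C,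
      sub_self, zero_pow hn.ne'] at h3
    exact (sub_eq_zero.mp ((pow_eq_zero_iff hn.ne').mp h3.symm)).symm
  exact RingHom.ext fun x => DFunLike.congr_fun he x


/-- Let R → S be a ring map whose kernel consists of nilpotent elements, and suppose S is generated as
an R-algebra by elements x for which some power (T − x)ⁿ, n > 0, is the image of a polynomial over
R. Then Spec S → Spec R is a homeomorphism, and for every prime 𝔮 of S over 𝔭 the extension
κ(𝔮)/κ(𝔭) is purely inseparable. -/
theorem result {R S : Type u} [CommRing R] [CommRing S] [Algebra R S]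
    (hker : ∀ r : R, algebraMap R S r = 0 → IsNilpotent r) (G : Set S) (hG : Algebra.adjoin R G = ⊤)
    (hpow : ∀ x ∈ G, ∃ (n : ℕ) (P : Polynomial R), 0 < n ∧
      Polynomial.map (algebraMap R S) P = (Polynomial.X - Polynomial.C x) ^ n) :
    IsHomeomorph (PrimeSpectrum.comap (algebraMap R S)) ∧
      ∀ (q : Ideal S) [q.IsPrime] (p : Ideal R) [p.IsPrime] [q.LiesOver p],
        @IsPurelyInseparable p.ResidueField q.ResidueField _ _
          (Ideal.ResidueField.mapₐ p q (Algebra.ofId R S) (q.over_def p)).toRingHom.toAlgebra := by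
  haveI hint : Algebra.IsIntegral R S := by
    rw [← integralClosure_eq_top_iff, eq_top_iff, ← hG, Algebra.adjoin_le_iff]
    intro x hx
    obtain ⟨n, P, hn, hP⟩ := hpow x hx
    by_cases hS : Subsingleton S
    · exact ⟨1, Polynomial.monic_one, Subsingleton.elim _ _⟩
    haveI := not_subsingleton_iff_nontrivial.mp hS
    obtain ⟨Q, hQ, hQd, hQm⟩ := Polynomial.lifts_and_degree_eq_and_monic
      (f := algebraMap R S) (show (Polynomial.X - Polynomial.C x) ^ n ∈ Polynomial.lifts (algebraMap R S) from ⟨P, hP⟩)
      ((Polynomial.monic_X_sub_C x).pow n)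
    refine ⟨Q, hQm, ?_⟩
    rw [← Polynomial.eval_map, hQ]
    simp [zero_pow hn.ne']
  have key : ∀ (q : Ideal S) [q.IsPrime] (p : Ideal R) [p.IsPrime] [q.LiesOver p],
      letI := (Ideal.ResidueField.mapₐ p q (Algebra.ofId R S) (q.over_def p)).toRingHom.toAlgebra
      Algebra.IsAlgebraic p.ResidueField q.ResidueField := by
    intro q _ p _ _
    letI := (Ideal.ResidueField.mapₐ p q (Algebra.ofId R S) (q.over_def p)).toRingHom.toAlgebra
    haveI : IsScalarTower R p.ResidueField q.ResidueField := IsScalarTower.of_algebraMap_eq fun r =>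
      ((Ideal.ResidueField.mapₐ p q (Algebra.ofId R S) (q.over_def p)).commutes r).symm
    haveI : Algebra.IsIntegral R (S ⧸ q) :=
      Algebra.IsIntegral.of_surjective (Ideal.Quotient.mkₐ R q) Ideal.Quotient.mk_surjective
    refine ⟨fun z => ?_⟩
    obtain ⟨a, b, hb, rfl⟩ := IsFractionRing.div_surjective (A := S ⧸ q) z
    refine IsIntegral.isAlgebraic ?_
    have hint' : ∀ y : S ⧸ q, IsIntegral p.ResidueField (algebraMap (S ⧸ q) q.ResidueField y) := fun y =>
      ((Algebra.IsIntegral.isIntegral (R := R) y).map (IsScalarTower.toAlgHom R (S ⧸ q) q.ResidueField)).tower_top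
    rw [div_eq_mul_inv]
    exact (hint' a).mul (IsIntegral.inv (hint' b))
  refine ⟨?_, fun q _ p _ _ => ?_⟩
  · rw [isHomeomorph_iff_continuous_isClosedMap_bijective]
    have hclosed := PrimeSpectrum.isClosedMap_comap_of_isIntegral (algebraMap R S) hint.isIntegral
    refine ⟨PrimeSpectrum.continuous_comap _, hclosed, ?_, ?_⟩
    · intro x y hxy
      let p : Ideal R := (PrimeSpectrum.comap (algebraMap R S) x).asIdeal
      haveI : x.asIdeal.LiesOver p := ⟨rfl⟩
      haveI : y.asIdeal.LiesOver p := ⟨congrArg PrimeSpectrum.asIdeal hxy⟩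
      have hemb : ∀ (z : Ideal S) [z.IsPrime] [z.LiesOver p], ∃ χ : S →+* AlgebraicClosure p.ResidueField,
          χ.comp (algebraMap R S) = algebraMap R (AlgebraicClosure p.ResidueField) ∧ RingHom.ker χ = z := by
        intro z _ _
        letI := (Ideal.ResidueField.mapₐ p z (Algebra.ofId R S) (z.over_def p)).toRingHom.toAlgebra
        haveI := key z p
        let ι : z.ResidueField →ₐ[p.ResidueField] AlgebraicClosure p.ResidueField := IsAlgClosed.lift
        refine ⟨(ι : z.ResidueField →+* _).comp (algebraMap S z.ResidueField), RingHom.ext fun r => ?_, ?_⟩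
        · show ι (algebraMap S z.ResidueField (algebraMap R S r)) = _
          rw [show algebraMap S z.ResidueField (algebraMap R S r) =
            algebraMap p.ResidueField z.ResidueField (algebraMap R p.ResidueField r) from
              ((Ideal.ResidueField.mapₐ p z (Algebra.ofId R S) (z.over_def p)).commutes r).symm,
            AlgHom.commutes, ← IsScalarTower.algebraMap_apply]
        · refine Eq.trans ?_ (Ideal.ker_algebraMap_residueField z)
          ext s
          exact map_eq_zero_iff _ ι.injective
      obtain ⟨χ, hχ, hχk⟩ := hemb x.asIdeal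
      obtain ⟨χ', hχ', hχk'⟩ := hemb y.asIdeal
      apply PrimeSpectrum.ext
      rw [← hχk, ← hχk', hom_eq hG hpow χ χ' (hχ.trans hχ'.symm)]
    · rw [← Set.range_eq_univ]
      have hd : DenseRange (PrimeSpectrum.comap (algebraMap R S)) := by
        rw [PrimeSpectrum.denseRange_comap_iff_ker_le_nilRadical]
        exact fun r hr => hker r hr
      rw [← hclosed.isClosed_range.closure_eq]
      exact hd.closure_range
  · letI := (Ideal.ResidueField.mapₐ p q (Algebra.ofId R S) (q.over_def p)).toRingHom.toAlgebra
    haveI := key q p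
    refine isPurelyInseparable_of_finSepDegree_eq_one ?_
    rw [Field.finSepDegree, Nat.card_eq_one_iff_unique]
    refine ⟨⟨fun f g => ?_⟩, ⟨IsScalarTower.toAlgHom p.ResidueField q.ResidueField _⟩⟩
    apply AlgHom.coe_ringHom_injective
    refine Ideal.ResidueField.ringHom_ext (hom_eq hG hpow _ _ (RingHom.ext fun r => ?_))
    have e := ((Ideal.ResidueField.mapₐ p q (Algebra.ofId R S) (q.over_def p)).commutes r).symm
    show f (algebraMap S q.ResidueField (algebraMap R S r)) = g (algebraMap S q.ResidueField (algebraMap R S r))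
    rw [show algebraMap S q.ResidueField (algebraMap R S r) =
      algebraMap p.ResidueField q.ResidueField (algebraMap R p.ResidueField r) from e, f.commutes, g.commutes]

end Groth.Agent.S2161
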