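import Groth.Statements.S2163
import Mathlib.RingTheory.Flat.EquationalCriterion
import Mathlib.Algebra.Module.FinitePresentation

set_option autoImplicit false
universe u
open CAlg

namespace Groth.Agent.S2163

/-- A ring `R` is coherent — every finitely generated ideal is a finitely presented module — if and only
if for every index set `A` (in the same universe) the product module `R^A` is flat. -/
theorem result {R : Type u} [CommRing R] :
    (∀ I : Ideal R, I.FG → Module.FinitePresentation R I) ↔ ∀ (A : Type u), Module.Flat R (A → R) := by
  classical
  let π : ∀ {l : ℕ}, (Fin l → R) → ((Fin l → R) →ₗ[R] R) := fun {l} f => Fintype.linearCombination R f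
  have hπ : ∀ {l : ℕ} (f w : Fin l → R), π f w = ∑ i, f i * w i := fun f w => by
    simp [π, Fintype.linearCombination_apply, mul_comm]
  constructor
  · intro h A
    rw [Module.Flat.iff_forall_isTrivialRelation]
    intro l f x hx
    have hI : (LinearMap.range (π f)).FG := by
      rw [Fintype.range_linearCombination]; exact Submodule.fg_span (Set.finite_range f)
    haveI : Module.FinitePresentation R ↥(LinearMap.range (π f)) := h _ hI
    have hK := Module.FinitePresentation.fg_ker (π f).rangeRestrict (LinearMap.surjective_rangeRestrict _)
    rw [LinearMap.ker_rangeRestrict] at hK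
    obtain ⟨k, g, hg⟩ := Submodule.fg_iff_exists_fin_generating_family.mp hK
    have hmem : ∀ a : A, ∃ c : Fin k → R, ∑ j, c j • g j = fun i => x i a := by
      intro a
      refine Submodule.mem_span_range_iff_exists_fun R |>.mp ?_
      rw [hg, LinearMap.mem_ker, hπ]
      simpa using congrFun hx a
    choose c hc using hmem
    refine ⟨k, fun i j => g j i, fun j a => c a j, fun i => funext fun a => ?_, fun j => ?_⟩
    · rw [← congrFun (hc a) i]
      simp [Finset.sum_apply, mul_comm]
    · rw [← hπ]
      exact LinearMap.mem_ker.mp (hg ▸ Submodule.subset_span ⟨j, rfl⟩)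
  · intro h I hI
    obtain ⟨l, f, hf⟩ := Submodule.fg_iff_exists_fin_generating_family.mp hI
    have hr : LinearMap.range (π f) = I := by rw [Fintype.range_linearCombination, hf]
    subst hr
    let K := LinearMap.ker (π f)
    haveI := h K
    have hrel : ∑ i, f i • (fun w : K => (w : Fin l → R) i) = 0 := by
      funext w
      have := LinearMap.mem_ker.mp w.2
      rw [hπ] at this
      simpa [Finset.sum_apply] using this
    obtain ⟨k, a, y, hy, ha⟩ := Module.Flat.iff_forall_isTrivialRelation.mp inferInstance hrel
    refine Module.finitePresentation_of_surjective (π f).rangeRestrict (LinearMap.surjective_rangeRestrict _) ?_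
    rw [LinearMap.ker_rangeRestrict]
    refine Submodule.fg_iff_exists_fin_generating_family.mpr ⟨k, fun j i => a i j, le_antisymm ?_ ?_⟩
    · rw [Submodule.span_le]
      rintro _ ⟨j, rfl⟩
      rw [SetLike.mem_coe, LinearMap.mem_ker, hπ]
      exact ha j
    · intro w hw
      rw [Submodule.mem_span_range_iff_exists_fun]
      refine ⟨fun j => y j ⟨w, hw⟩, funext fun i => ?_⟩
      have := congrFun (hy i) ⟨w, hw⟩
      simp only at this
      rw [this]
      simp [Finset.sum_apply, mul_comm]

end Groth.Agent.S2163
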