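import Groth.Statements.S2165
import Groth.Agent.FlatAscent.QuotientFibre
import Groth.Agent.PP16Lib.RegularCompletion
-- import your own Groth.Agent.* helpers here

set_option autoImplicit false
universe u
open LCI

namespace Groth.Agent.S2165

/-- Let R be a regular ring, p a prime ideal of R and f_1, ..., f_r a regular sequence of R contained in
p. Then the local ring R_p/(f_1, ..., f_r) is a complete intersection: its completion is a regular
local ring modulo a regular sequence. The instance hypothesis that the quotient is local always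
holds. -/
theorem result {R : Type u} [CommRing R] [IsRegularRing R]
    (p : Ideal R) [p.IsPrime] (rs : List R) (hmem : ∀ r ∈ rs, r ∈ p)
    (hreg : RingTheory.Sequence.IsRegular R rs)
    [IsLocalRing (Localization.AtPrime p ⧸
      Ideal.map (algebraMap R (Localization.AtPrime p)) (Ideal.ofList rs))] :
    Pi1.IsCompleteIntersection (Localization.AtPrime p ⧸
      Ideal.map (algebraMap R (Localization.AtPrime p)) (Ideal.ofList rs)) := by
  let Rp := Localization.AtPrime p
  let I := Ideal.map (algebraMap R Rp) (Ideal.ofList rs)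
  have : IsRegularRing Rp := Groth.Agent.PP16Lib.isRegularRing_of_isLocalization p.primeCompl
  have : IsRegularRing (EGA4.Cpl Rp) := Groth.Agent.PP16Lib.isRegularRing_completion _
  have : IsRegularLocalRing (EGA4.Cpl Rp) :=
    IsRegularLocalRing.of_isRegularRing_of_isLocalRing (EGA4.Cpl Rp)
  have : Module.FaithfullyFlat Rp (EGA4.Cpl Rp) := Module.FaithfullyFlat.of_flat_of_isLocalHom
  have h1 := hreg.toIsWeaklyRegular.isRegular_of_isLocalization_of_mem Rp p hmem
  have h2 := h1.of_faithfullyFlat (S := EGA4.Cpl Rp)
  refine ⟨EGA4.Cpl Rp, inferInstance, inferInstance, _, ?_, h2, ?_⟩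
  · intro r hr
    obtain ⟨a, ha, rfl⟩ := List.mem_map.mp hr
    obtain ⟨b, hb, rfl⟩ := List.mem_map.mp ha
    exact map_nonunit _ _ ((IsLocalization.AtPrime.to_map_mem_maximal_iff Rp p b).mpr (hmem b hb))
  · obtain ⟨e⟩ := Groth.Agent.FlatAscent.exists_quotient_cpl_equiv Rp I
    refine ⟨e.symm.toRingEquiv.trans (((Algebra.TensorProduct.comm Rp (Rp ⧸ I) (EGA4.Cpl Rp)).toRingEquiv.trans
      (Algebra.TensorProduct.quotIdealMapEquivTensorQuot (EGA4.Cpl Rp) I).symm.toRingEquiv).trans
      (Ideal.quotEquivOfEq ?_))⟩
    change Ideal.map (algebraMap Rp (EGA4.Cpl Rp)) I = Ideal.ofList _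
    rw [← Ideal.map_ofList, ← Ideal.map_ofList]

end Groth.Agent.S2165
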