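import Groth.Statements.S2170
import Groth.Agent.NumType.QuadForm
import Mathlib.Tactic.Ring


set_option autoImplicit false
open Finset
open Models

namespace Groth.Agent.S2170

/-- Let A be a symmetric real n × n matrix with non-negative off-diagonal entries and m a vector with
positive entries such that for every i, ∑_{j ≠ i} A_{ij} m_j ≤ −A_{ii} m_i. Then the kernel of A is
the span of the vectors equal to m on an index set I and zero off I, for those I such that A_{ij} =
0 whenever i ∈ I and j ∉ I and such that equality holds in the above inequality for every i ∈ I. The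
published statement omits the symmetry of A (without which it fails) and applies it only to
symmetric matrices; stated here with A symmetric. -/
theorem result {n : ℕ} (A : Matrix (Fin n) (Fin n) ℝ) (m : Fin n → ℝ)
    (hsymm : A.IsSymm) (hA : ∀ i j, i ≠ j → 0 ≤ A i j) (hm : ∀ i, 0 < m i)
    (hle : ∀ i, ∑ j ∈ univ.erase i, A i j * m j ≤ -(A i i * m i)) :
    LinearMap.ker (Matrix.mulVecLin A) = Submodule.span ℝ
      {x : Fin n → ℝ | ∃ I : Finset (Fin n), (∀ i ∈ I, ∀ j ∉ I, A i j = 0) ∧
        (∀ i ∈ I, ∑ j ∈ univ.erase i, A i j * m j = -(A i i * m i)) ∧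
        x = fun i => if i ∈ I then m i else 0} := by
  refine le_antisymm (fun x hx => ?_) (Submodule.span_le.2 ?_)
  · rw [LinearMap.mem_ker, Matrix.mulVecLin_apply] at hx
    have hrow : ∀ i, ∑ j, A i j * x j = 0 := fun i => congrFun hx i
    have hR : ∀ i, ∑ j, A i j * m j ≤ 0 := fun i => by
      rw [← Finset.add_sum_erase _ _ (mem_univ i)]
      linarith [hle i]
    have hq : ∑ i, ∑ j, A i j * x i * x j = 0 := by
      refine Finset.sum_eq_zero fun i _ => ?_
      rw [← mul_zero (x i), ← hrow i, Finset.mul_sum]
      exact Finset.sum_congr rfl fun j _ => by ring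
    obtain ⟨hedge, hzero⟩ := (NumType.quad_nonpos_and_zero A hsymm hA m hm hR x).2 hq
    set y : Fin n → ℝ := fun i => x i / m i
    have hxy : x = ∑ c ∈ (univ.image y).filter (· ≠ 0),
        c • (fun i => if i ∈ univ.filter (fun l => y l = c) then m i else 0) := by
      funext i
      simp only [Finset.sum_apply, Pi.smul_apply, smul_eq_mul, mem_filter, mem_univ, true_and,
        mul_ite, mul_zero]
      rw [Finset.sum_ite_eq]
      by_cases h : y i = 0
      · rw [if_neg (by simp [h])]
        simpa [y, (hm i).ne'] using h
      · rw [if_pos (by simp [h])]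
        exact (div_mul_cancel₀ _ (hm i).ne').symm
    rw [hxy]
    refine Submodule.sum_mem _ fun c hc => Submodule.smul_mem _ _ (Submodule.subset_span
      ⟨univ.filter (fun l => y l = c), fun i hi j hj => ?_, fun i hi => ?_, rfl⟩)
    · simp only [mem_filter, mem_univ, true_and] at hi hj
      by_contra hne
      exact hj ((hedge i j (fun e => hj (e ▸ hi)) hne).symm.trans hi)
    · simp only [mem_filter, mem_univ, true_and] at hi hc
      have hxi : x i ≠ 0 := fun h => hc.2 (by rw [← hi]; simp [y, h])
      have := hzero i hxi
      rw [← Finset.add_sum_erase _ _ (mem_univ i)] at this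
      linarith
  · rintro _ ⟨I, hoff, heq, rfl⟩
    rw [SetLike.mem_coe, LinearMap.mem_ker, Matrix.mulVecLin_apply]
    funext i
    show ∑ j, A i j * (if j ∈ I then m j else 0) = 0
    by_cases hi : i ∈ I
    · have : ∀ j, A i j * (if j ∈ I then m j else 0) = A i j * m j := by
        intro j
        by_cases hj : j ∈ I
        · rw [if_pos hj]
        · simp [hoff i hi j hj]
      simp only [this]
      rw [← Finset.add_sum_erase _ _ (mem_univ i), heq i hi]
      ring
    · refine Finset.sum_eq_zero fun j _ => ?_
      by_cases hj : j ∈ I
      · rw [← hsymm.apply i j, hoff j hj i hi]; simp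
      · simp [hj]

end Groth.Agent.S2170
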