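import Groth.Statements.S2171
import Groth.Agent.NumType.QuadForm


set_option autoImplicit false
open Finset
open Models

namespace Groth.Agent.S2171

/-- Let A be a symmetric real n by n matrix with non-negative off-diagonal entries, m a vector with
positive entries such that A m = 0, and assume no proper non-empty index set I has A i j = 0 for all
i in I and j outside I. Then x^t A x is at most 0 for every real vector x, with equality exactly
when x is a real multiple of m. -/
theorem result {n : ℕ} (A : Matrix (Fin n) (Fin n) ℝ)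
    (m : Fin n → ℝ) (hsymm : A.IsSymm) (hA : ∀ i j, i ≠ j → 0 ≤ A i j) (hm : ∀ i, 0 < m i)
    (hAm : A.mulVec m = 0)
    (hconn : ∀ I : Finset (Fin n), I.Nonempty → I ≠ univ → ∃ i ∈ I, ∃ j ∉ I, A i j ≠ 0)
    (x : Fin n → ℝ) :
    dotProduct x (A.mulVec x) ≤ 0 ∧ (dotProduct x (A.mulVec x) = 0 ↔ ∃ q : ℝ, x = q • m) := by
  have hR : ∀ i, ∑ j, A i j * m j = 0 := fun i => congrFun hAm i
  have hq : dotProduct x (A.mulVec x) = ∑ i, ∑ j, A i j * x i * x j := by
    simp only [dotProduct, Matrix.mulVec, Finset.mul_sum]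
    exact Finset.sum_congr rfl fun i _ => Finset.sum_congr rfl fun j _ => by ring
  obtain ⟨hle, hz⟩ := NumType.quad_nonpos_and_zero A hsymm hA m hm (fun i => (hR i).le) x
  rw [hq]
  refine ⟨hle, fun h => ?_, ?_⟩
  · obtain ⟨hedge, -⟩ := hz h
    rcases Nat.eq_zero_or_pos n with rfl | hn
    · exact ⟨0, funext fun i => i.elim0⟩
    let i : Fin n := ⟨0, hn⟩
    let I := univ.filter fun l => x l / m l = x i / m i
    have hI : I = univ := by
      by_contra hne
      obtain ⟨p, hp, q, hq', hpq⟩ := hconn I ⟨i, by simp [I]⟩ hne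
      simp only [I, mem_filter, mem_univ, true_and] at hp hq'
      exact hq' ((hedge p q (fun e => hq' (e ▸ hp)) hpq).symm.trans hp)
    refine ⟨x i / m i, funext fun j => ?_⟩
    have hj : j ∈ I := hI ▸ mem_univ j
    simp only [I, mem_filter, mem_univ, true_and] at hj
    rw [Pi.smul_apply, smul_eq_mul, ← hj, div_mul_cancel₀ _ (hm j).ne']
  · rintro ⟨q, rfl⟩
    refine Finset.sum_eq_zero fun i _ => ?_
    rw [← mul_zero (q ^ 2 * m i), ← hR i, Finset.mul_sum]
    exact Finset.sum_congr rfl fun j _ => by simp only [Pi.smul_apply, smul_eq_mul]; ring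

end Groth.Agent.S2171
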