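import Groth.Statements.S2175
import Mathlib
-- import your own Groth.Agent.* helpers here

set_option autoImplicit false
open Finset
open Models Models.NumericalType

namespace Groth.Agent.S2175

/-- Let T be a numerical type on n + 1 indices whose last index is a (-1)-index. Then the contracted
data (same multiplicities, a i j - a i l a j l / a l l, the halved-or-not w i, and the adjusted g i,
l the last index) is again a numerical type on n indices, and any such contraction has the same
genus as T. -/
theorem result {n : ℕ} (T : Models.NumericalType (n + 1)) (h : T.IsMinusOne (Fin.last n)) :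
    (∃ T' : Models.NumericalType n, T.IsContraction T') ∧
      ∀ T' : Models.NumericalType n, T.IsContraction T' → T'.genus = T.genus := by
  classical
  set l := Fin.last n with hl
  set W := T.w l with hW
  have hWpos : 0 < W := T.w_pos l
  obtain ⟨hgl, hall⟩ := h
  have hsym : ∀ i j, T.a i j = T.a j i := fun i j => (T.symm.apply i j).symm
  have hnl : ∀ i : Fin n, i.castSucc ≠ l := fun i => Fin.castSucc_ne_last i
  choose c hc using fun i : Fin n => (by rw [hsym]; exact T.w_dvd l i.castSucc : W ∣ T.a i.castSucc l)
  choose d hd using fun i : Fin n => T.w_dvd i.castSucc l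
  have hc0 : ∀ i, 0 ≤ c i := fun i => by
    have := T.offDiag_nonneg i.castSucc l (hnl i)
    rw [hc] at this
    exact nonneg_of_mul_nonneg_right this hWpos
  have hd0 : ∀ i, 0 ≤ d i := fun i => by
    have := T.offDiag_nonneg i.castSucc l (hnl i)
    rw [hd] at this
    exact nonneg_of_mul_nonneg_right this (T.w_pos _)
  have hcdiv : ∀ i : Fin n, T.a i.castSucc l / W = c i := fun i => by
    rw [hc, Int.mul_ediv_cancel_left _ hWpos.ne']
  have hddiv : ∀ i : Fin n, T.a i.castSucc l / T.w i.castSucc = d i := fun i => by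
    rw [hd, Int.mul_ediv_cancel_left _ (T.w_pos _).ne']
  have ha' : ∀ i j : Fin n, T.a i.castSucc j.castSucc - T.a i.castSucc l * T.a j.castSucc l / T.a l l
      = T.a i.castSucc j.castSucc + W * c i * c j := by
    intro i j
    rw [hall, hc i, hc j, show W * c i * (W * c j) = -W * -(W * c i * c j) by ring,
      Int.mul_ediv_cancel_left _ (neg_ne_zero.2 hWpos.ne'), sub_neg_eq_add]
  have hrow : ∀ i : Fin n, ∑ j : Fin n, T.a i.castSucc j.castSucc * T.m j.castSucc + W * c i * T.m l = 0 := by
    intro i
    have := congrFun T.mulVec_m i.castSucc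
    rw [Matrix.mulVec, dotProduct, Fin.sum_univ_castSucc, Pi.zero_apply, ← hl, hc] at this
    exact this
  have hlast : ∑ j : Fin n, c j * T.m j.castSucc = T.m l := by
    have := congrFun T.mulVec_m l
    rw [Matrix.mulVec, dotProduct, Fin.sum_univ_castSucc, Pi.zero_apply, ← hl, hall] at this
    simp only [hsym l, hc] at this
    simp only [mul_assoc, ← Finset.mul_sum] at this
    apply mul_left_cancel₀ hWpos.ne'
    linarith
  let w' : Fin n → ℤ := fun i => if 2 ∣ c i ∧ ¬ 2 ∣ d i then T.w i.castSucc / 2 else T.w i.castSucc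
  let g' : Fin n → ℤ := fun i => T.w i.castSucc / w' i * (T.g i.castSucc - 1) + 1 +
      (T.a i.castSucc l ^ 2 - W * T.a i.castSucc l) / (2 * w' i * W)
  have hkey : ∀ i, 0 < w' i ∧ w' i ∣ T.w i.castSucc ∧ 0 ≤ g' i ∧
      2 * (w' i * (g' i - 1)) = 2 * (T.w i.castSucc * (T.g i.castSucc - 1)) + W * c i * (c i - 1) := by
    intro i
    have hw := T.w_pos i.castSucc
    have hg := T.g_nonneg i.castSucc
    have hwd : T.w i.castSucc * d i = W * c i := (hd i).symm.trans (hc i)
    have hnum : T.a i.castSucc l ^ 2 - W * T.a i.castSucc l = W * (T.w i.castSucc * d i * (c i - 1)) := by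
      rw [hwd, hc]; ring
    by_cases hh : 2 ∣ c i ∧ ¬ 2 ∣ d i
    · obtain ⟨u, hu⟩ : 2 ∣ T.w i.castSucc := by
        have h2 : 2 ∣ T.w i.castSucc * d i := by rw [hwd]; exact dvd_mul_of_dvd_right hh.1 _
        exact (Int.prime_two.dvd_mul.1 h2).resolve_right hh.2
      have hu0 : 0 < u := by omega
      have hw' : w' i = u := by simp only [w', if_pos hh, hu]; omega
      have hg' : g' i = 2 * (T.g i.castSucc - 1) + 1 + d i * (c i - 1) := by
        simp only [g', hnum, hw']
        rw [show W * (T.w i.castSucc * d i * (c i - 1)) = 2 * u * W * (d i * (c i - 1)) by rw [hu]; ring,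
          Int.mul_ediv_cancel_left _ (by positivity), hu, Int.mul_ediv_cancel _ hu0.ne']
      have hdpos : 1 ≤ d i := by
        rcases (hd0 i).eq_or_lt with h0 | h0
        · exact absurd (h0 ▸ dvd_zero _) hh.2
        · omega
      have hcpos : 2 ≤ c i := by
        obtain ⟨v, hv⟩ := hh.1
        rcases (hc0 i).eq_or_lt with h0 | h0
        · rw [← h0, mul_zero] at hwd
          exact absurd hwd (mul_ne_zero hw.ne' (by omega))
        · omega
      refine ⟨hw' ▸ hu0, by rw [hw', hu]; exact Dvd.intro_left _ rfl, ?_, ?_⟩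
      · rw [hg']; nlinarith
      · rw [hg', hw', ← hwd, hu]; ring
    · have hw' : w' i = T.w i.castSucc := by simp only [w', if_neg hh]
      obtain ⟨e, he⟩ : 2 ∣ d i * (c i - 1) := by
        by_cases h2 : 2 ∣ c i
        · exact dvd_mul_of_dvd_left (not_not.1 fun hd2 => hh ⟨h2, hd2⟩) _
        · exact dvd_mul_of_dvd_right (by omega) _
      have hg' : g' i = T.g i.castSucc + e := by
        simp only [g', hnum, hw']
        rw [show W * (T.w i.castSucc * d i * (c i - 1)) = 2 * T.w i.castSucc * W * e by rw [mul_assoc (T.w _), he]; ring,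
          Int.mul_ediv_cancel_left _ (by positivity), Int.ediv_self hw.ne']
        ring
      have he0 : 0 ≤ e := by
        rcases (hc0 i).eq_or_lt with h0 | h0
        · rw [← h0, mul_zero] at hwd
          rw [(mul_eq_zero.1 hwd).resolve_left hw.ne', zero_mul] at he
          omega
        · have : 0 ≤ d i * (c i - 1) := mul_nonneg (hd0 i) (by omega)
          omega
      refine ⟨hw' ▸ hw, hw' ▸ dvd_rfl, by rw [hg']; omega, ?_⟩
      rw [hg', hw', ← hwd, mul_assoc (T.w _) (d i), he]; ring
  have hn : 0 < n := by
    rcases Nat.eq_zero_or_pos n with rfl | hn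
    · exfalso
      simp only [Finset.univ_eq_empty, Finset.sum_empty] at hlast
      exact (T.m_pos l).ne hlast
    · exact hn
  let T' : Models.NumericalType n :=
    { m := fun i => T.m i.castSucc
      a := fun i j => T.a i.castSucc j.castSucc + W * c i * c j
      w := w'
      g := g'
      pos := hn
      m_pos := fun i => T.m_pos _
      w_pos := fun i => (hkey i).1
      g_nonneg := fun i => (hkey i).2.2.1
      symm := Matrix.IsSymm.ext fun i j => by rw [hsym i.castSucc j.castSucc]; ring
      offDiag_nonneg := fun i j hij => add_nonneg (T.offDiag_nonneg _ _ (fun e => hij (Fin.castSucc_injective _ e))) (mul_nonneg (mul_nonneg hWpos.le (hc0 i)) (hc0 j))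
      connected := fun I hI hI' => by
        by_contra! hno
        have hzero : ∀ i ∈ I, ∀ j ∉ I, T.a i.castSucc j.castSucc = 0 ∧ W * c i * c j = 0 := fun i hi j hj => by
          have h1 := T.offDiag_nonneg i.castSucc j.castSucc (fun e => hj (Fin.castSucc_injective _ e ▸ hi))
          have h2 := mul_nonneg (mul_nonneg hWpos.le (hc0 i)) (hc0 j)
          have := hno i hi j hj
          omega
        have hside : ∀ J : Finset (Fin n), J.Nonempty → (∀ i ∈ J, ∀ j ∉ J, T.a i.castSucc j.castSucc = 0) → ∃ i ∈ J, c i ≠ 0 := by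
          intro J hJ hJ0
          obtain ⟨i, hi, j, hj, hne⟩ := T.connected (J.image Fin.castSucc) (hJ.image _) (fun e => by
            have : l ∈ J.image Fin.castSucc := by rw [e]; exact Finset.mem_univ _
            obtain ⟨x, -, hx⟩ := Finset.mem_image.1 this
            exact hnl x hx)
          obtain ⟨i, hiJ, rfl⟩ := Finset.mem_image.1 hi
          refine ⟨i, hiJ, fun h0 => ?_⟩
          rcases Fin.eq_castSucc_or_eq_last j with ⟨j, rfl⟩ | rfl
          · exact hne (hJ0 i hiJ j (fun hjJ => hj (Finset.mem_image_of_mem _ hjJ)))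
          · exact hne (by rw [← hl, hc, h0, mul_zero])
        obtain ⟨i, hi, hci⟩ := hside I hI fun i hi j hj => (hzero i hi j hj).1
        obtain ⟨j, hj, hcj⟩ := hside Iᶜ (by
          rw [Finset.nonempty_iff_ne_empty, ne_eq, Finset.compl_eq_empty_iff]; exact hI') fun i hi j hj => by
            rw [hsym]
            exact (hzero j (by simpa using hj) i (by simpa using hi)).1
        exact mul_ne_zero (mul_ne_zero hWpos.ne' hci) hcj (hzero i hi j (by simpa using hj)).2
      mulVec_m := by
        funext i
        simp only [Matrix.mulVec, dotProduct, Pi.zero_apply, add_mul, Finset.sum_add_distrib]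
        rw [← hrow i, ← hlast, Finset.mul_sum]
        simp only [mul_assoc]
      w_dvd := fun i j => dvd_add ((hkey i).2.1.trans (T.w_dvd _ _)) (by
        rw [← hc i, hd i, mul_assoc]
        exact dvd_mul_of_dvd_left (hkey i).2.1 _) }
  have hcontr : T.IsContraction T' := by
    refine ⟨fun i => rfl, fun i j => (ha' i j).symm, fun i => ?_, fun i => rfl⟩
    rw [← hl, ← hW, hcdiv, hddiv]
  refine ⟨⟨T', hcontr⟩, fun S hS => ?_⟩
  obtain ⟨hm, ha, hw, hg⟩ := hS
  have hSw : ∀ i, S.w i = w' i := fun i => by rw [hw i, ← hl, ← hW, hcdiv, hddiv]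
  have hSg : ∀ i, S.g i = g' i := fun i => by rw [hg i, hSw]
  simp only [Models.NumericalType.genus, hm, hSw, hSg, Fin.sum_univ_castSucc, ← hl, hgl, hall, ← hW]
  simp only [ha, ← hl, ha', mul_add, Finset.sum_add_distrib]
  have hE : ∑ i : Fin n, T.m i.castSucc * (W * c i * c i) =
      2 * (∑ i : Fin n, T.m i.castSucc * w' i * (g' i - 1)) - 2 * (∑ i : Fin n, T.m i.castSucc * T.w i.castSucc * (T.g i.castSucc - 1)) + W * T.m l := by
    rw [← hlast, Finset.mul_sum, Finset.mul_sum, Finset.mul_sum, ← Finset.sum_sub_distrib, ← Finset.sum_add_distrib]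
    exact Finset.sum_congr rfl fun i _ => by linear_combination (-(T.m i.castSucc)) * (hkey i).2.2.2
  rw [hE, show T.m l * W * (0 - 1) = -(W * T.m l) by ring, show T.m l * -W = -(W * T.m l) by ring]
  omega

end Groth.Agent.S2175
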