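import Groth.Statements.S2178
import Groth.Agent.NumType.QuadForm
import Mathlib.LinearAlgebra.FreeModule.Finite.Quotient

set_option autoImplicit false
open Finset
open Models Models.NumericalType

namespace Groth.Agent.S2178

/-- The Picard group of a numerical type (the cokernel of the matrix (a i j / w i) acting on Z^n) has
free rank one: its rank as a Z-module is 1. -/
theorem result {n : ℕ} (T : Models.NumericalType n) : Module.finrank ℤ T.Pic = 1 := by
  let L := Matrix.mulVecLin T.picMatrix
  have hw : ∀ z i, T.w i * T.picMatrix.mulVec z i = T.a.mulVec z i := fun z i => by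
    show T.w i * ∑ j, T.picMatrix i j * z j = ∑ j, T.a i j * z j
    rw [Finset.mul_sum]
    exact Finset.sum_congr rfl fun j _ => by
      rw [← mul_assoc, Models.NumericalType.picMatrix, Int.mul_ediv_cancel' (T.w_dvd i j)]
  let i0 : Fin n := ⟨0, T.pos⟩
  let ev : LinearMap.ker L →ₗ[ℤ] ℤ := (LinearMap.proj i0).comp (LinearMap.ker L).subtype
  have hinj : Function.Injective ev := by
    rw [← LinearMap.ker_eq_bot, LinearMap.ker_eq_bot']
    intro x hx
    have hx0 : x.1 i0 = 0 := hx
    have hax : T.a.mulVec x.1 = 0 := by
      funext i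
      rw [← hw, show T.picMatrix.mulVec x.1 = 0 from x.2]; simp
    have hq : ∑ i, ∑ j, T.a i j * x.1 i * x.1 j = 0 := by
      refine Finset.sum_eq_zero fun i _ => ?_
      have : ∑ j, T.a i j * x.1 i * x.1 j = x.1 i * T.a.mulVec x.1 i := by
        show _ = x.1 i * ∑ j, T.a i j * x.1 j
        rw [Finset.mul_sum]; exact Finset.sum_congr rfl fun j _ => by ring
      rw [this, hax]; simp
    refine Subtype.ext (funext fun i => ?_)
    have := (NumType.form_nonpos T x.1).2 hq i i0
    rw [hx0, zero_mul] at this
    exact (mul_eq_zero.1 this).resolve_right (T.m_pos i0).ne'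
  have hker : Module.finrank ℤ (LinearMap.ker L) = 1 := by
    refine le_antisymm ((LinearMap.finrank_le_finrank_of_injective hinj).trans (Module.finrank_self ℤ).le) ?_
    have hm : T.m ∈ LinearMap.ker L := by
      rw [LinearMap.mem_ker]
      funext i
      apply mul_left_cancel₀ (T.w_pos i).ne'
      show T.w i * T.picMatrix.mulVec T.m i = T.w i * 0
      rw [hw, T.mulVec_m, mul_zero]; rfl
    haveI : Nontrivial (LinearMap.ker L) := ⟨⟨T.m, hm⟩, 0, fun h => (T.m_pos i0).ne'
      (congrFun (congrArg Subtype.val h) i0)⟩
    exact Module.finrank_pos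
  have h1 := Submodule.finrank_quotient_add_finrank (LinearMap.ker L)
  rw [L.quotKerEquivRange.finrank_eq] at h1
  have h2 := Submodule.finrank_quotient_add_finrank (LinearMap.range L)
  have h3 : Module.finrank ℤ (Fin n → ℤ) = n := by simp
  rw [hker] at h1
  show Module.finrank ℤ ((Fin n → ℤ) ⧸ LinearMap.range L) = 1
  omega

end Groth.Agent.S2178
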