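import Groth.Statements.S2179
import Groth.Agent.NumType.QuadForm

set_option autoImplicit false
open Finset
open Models Models.NumericalType

namespace Groth.Agent.S2179

/-- For a numerical type T, the map Z^n -> Z^n multiplying the i-th coordinate by w i induces a
well-defined injective homomorphism from Pic(T), the cokernel of (a i j / w i), to the cokernel of
the matrix a. -/
theorem result {n : ℕ} (T : Models.NumericalType n) :
    ∃ f : T.Pic →+ T.CokerA, Function.Injective f ∧
      ∀ x : Fin n → ℤ, f (Submodule.Quotient.mk x) = Submodule.Quotient.mk (fun i => T.w i * x i) := by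
  let D : (Fin n → ℤ) →ₗ[ℤ] (Fin n → ℤ) :=
    { toFun := fun x i => T.w i * x i
      map_add' := fun x y => by funext i; simp [mul_add]
      map_smul' := fun c x => by funext i; simp; ring }
  have hD : ∀ z, D (T.picMatrix.mulVec z) = T.a.mulVec z := fun z => by
    funext i
    show T.w i * ∑ j, T.picMatrix i j * z j = ∑ j, T.a i j * z j
    rw [Finset.mul_sum]
    refine Finset.sum_congr rfl fun j _ => ?_
    rw [← mul_assoc, Models.NumericalType.picMatrix, Int.mul_ediv_cancel' (T.w_dvd i j)]
  let φ := Submodule.mapQ (LinearMap.range (Matrix.mulVecLin T.picMatrix))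
    (LinearMap.range (Matrix.mulVecLin T.a)) D (by
      rintro _ ⟨z, rfl⟩; exact ⟨z, (hD z).symm⟩)
  refine ⟨φ.toAddMonoidHom, ?_, fun x => rfl⟩
  rw [injective_iff_map_eq_zero]
  intro q hq
  induction q using Submodule.Quotient.induction_on with
  | _ x =>
    have hq' : φ (Submodule.Quotient.mk x) = 0 := hq
    rw [Submodule.mapQ_apply, Submodule.Quotient.mk_eq_zero] at hq'
    obtain ⟨z, hz⟩ := hq'
    rw [Submodule.Quotient.mk_eq_zero]
    refine ⟨z, funext fun i => mul_left_cancel₀ (T.w_pos i).ne' ?_⟩
    have h1 := congrFun (hD z) i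
    have h2 := congrFun hz i
    exact h1.trans h2

end Groth.Agent.S2179
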