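import Groth.Statements.S2180
import Mathlib
-- import your own Groth.Agent.* helpers here

set_option autoImplicit false
open Finset
open Models Models.NumericalType

namespace Groth.Agent.S2180

/-- Let T be a numerical type on n + 1 indices whose last index is a (-1)-index and T' a contraction of
it. Then there is an injective homomorphism Pic(T) -> Pic(T') whose cokernel is annihilated by 2. -/
theorem result {n : ℕ} (T : Models.NumericalType (n + 1)) (h : T.IsMinusOne (Fin.last n))
    (T' : Models.NumericalType n) (hT' : T.IsContraction T') :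
    ∃ f : T.Pic →+ T'.Pic, Function.Injective f ∧ ∀ y : T'.Pic, ∃ x : T.Pic, 2 • y = f x := by
  classical
  obtain ⟨-, hl⟩ := h
  obtain ⟨-, ha, hw, -⟩ := hT'
  set l := Fin.last n
  set e := T.w l with he
  have he0 : e ≠ 0 := (T.w_pos l).ne'
  let c : Fin n → ℤ := fun i => T.a i.castSucc l
  have hce : ∀ i, e ∣ c i := fun i => by
    show T.w l ∣ T.a i.castSucc l
    rw [T.symm.apply]; exact T.w_dvd _ _
  have hcw : ∀ i, T.w i.castSucc ∣ c i := fun i => T.w_dvd _ _
  have hε : ∀ i, ∃ ε : ℤ, (ε = 1 ∨ ε = 2) ∧ T.w i.castSucc = ε * T'.w i := by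
    intro i
    rw [hw i]
    split_ifs with hh
    · refine ⟨2, Or.inr rfl, ?_⟩
      obtain ⟨q, hq⟩ := hh.1
      have hc1 : c i = e * (2 * q) := by rw [← hq]; exact (Int.mul_ediv_cancel' (hce i)).symm
      have hc2 : c i = T.w i.castSucc * (c i / T.w i.castSucc) := (Int.mul_ediv_cancel' (hcw i)).symm
      have h2 : (2 : ℤ) ∣ T.w i.castSucc * (c i / T.w i.castSucc) := by
        rw [← hc2, hc1]; exact ⟨e * q, by ring⟩
      have := (Int.prime_two.dvd_or_dvd h2).resolve_right hh.2
      exact (Int.mul_ediv_cancel' this).symm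
    · exact ⟨1, Or.inl rfl, (one_mul _).symm⟩
  choose ε hε1 hε2 using hε
  have hε0 : ∀ i, ε i ≠ 0 := fun i => by rcases hε1 i with h | h <;> omega
  have hd0 : ∀ i, T'.w i ≠ 0 := fun i => (T'.w_pos i).ne'
  let k : Fin n → ℤ := fun i => ε i * (c i / T.w i.castSucc)
  let F : (Fin (n + 1) → ℤ) →ₗ[ℤ] (Fin n → ℤ) :=
    { toFun := fun x i => ε i * x i.castSucc + k i * x l
      map_add' := fun x y => by ext i; simp; ring
      map_smul' := fun r x => by ext i; simp; ring }
  have hFP : ∀ x, F (T.picMatrix.mulVec x) = T'.picMatrix.mulVec (fun j => x j.castSucc) := by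
    intro x
    funext i
    show ε i * (T.picMatrix.mulVec x) i.castSucc + k i * (T.picMatrix.mulVec x) l = _
    simp only [Matrix.mulVec, dotProduct, Models.NumericalType.picMatrix, Fin.sum_univ_castSucc]
    have hlast : T.a l l / T.w l = -1 := by
      rw [hl, Int.neg_ediv_of_dvd dvd_rfl, Int.ediv_self he0]
    have hl0 : ε i * (T.a i.castSucc (Fin.last n) / T.w i.castSucc * x (Fin.last n)) + k i * (-1 * x (Fin.last n)) = 0 := by
      show ε i * (T.a i.castSucc (Fin.last n) / T.w i.castSucc * x (Fin.last n)) + ε i * (T.a i.castSucc (Fin.last n) / T.w i.castSucc) * (-1 * x (Fin.last n)) = 0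
      ring
    rw [hlast, mul_add, mul_add, add_add_add_comm, hl0, add_zero, Finset.mul_sum, Finset.mul_sum, ← Finset.sum_add_distrib]
    refine Finset.sum_congr rfl fun j _ => ?_
    obtain ⟨q, hq⟩ := hce j
    obtain ⟨α, hα⟩ := T.w_dvd i.castSucc j.castSucc
    obtain ⟨β, hβ⟩ := hcw i
    have hwi : T.w i.castSucc ≠ 0 := (T.w_pos _).ne'
    have e1 : T.a l j.castSucc / T.w l = q := by
      rw [T.symm.apply j.castSucc l, show T.a j.castSucc l = e * q from hq]; exact Int.mul_ediv_cancel_left _ he0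
    have e2 : T.a i.castSucc j.castSucc / T.w i.castSucc = α := by rw [hα, Int.mul_ediv_cancel_left _ hwi]
    have e3 : k i = ε i * β := by simp only [k]; rw [hβ, Int.mul_ediv_cancel_left _ hwi]
    have e4 : T'.a i j = T'.w i * (ε i * α + ε i * β * q) := by
      rw [ha, hl, show T.a i.castSucc l * T.a j.castSucc l = -e * (-(c i * q)) by rw [show T.a j.castSucc l = e * q from hq]; ring,
        Int.mul_ediv_cancel_left _ (neg_ne_zero.2 he0), hα, hβ, hε2]
      ring
    rw [e1, e2, e3, e4, Int.mul_ediv_cancel_left _ (hd0 i)]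
    ring
  have hle : LinearMap.range T.picMatrix.mulVecLin ≤ LinearMap.ker ((LinearMap.range T'.picMatrix.mulVecLin).mkQ ∘ₗ F) := by
    rintro _ ⟨x, rfl⟩
    rw [LinearMap.mem_ker, LinearMap.comp_apply, Submodule.mkQ_apply, Submodule.Quotient.mk_eq_zero]
    exact ⟨_, (hFP x).symm⟩
  let f : T.Pic →ₗ[ℤ] T'.Pic := (LinearMap.range T.picMatrix.mulVecLin).liftQ _ hle
  refine ⟨f.toAddMonoidHom, ?_, fun y => ?_⟩
  · refine (injective_iff_map_eq_zero f.toAddMonoidHom).2 fun x hx => ?_
    obtain ⟨x, rfl⟩ := Submodule.mkQ_surjective _ x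
    obtain ⟨y, hy⟩ := (Submodule.Quotient.mk_eq_zero _).1 hx
    rw [Submodule.mkQ_apply, Submodule.Quotient.mk_eq_zero]
    let y' : Fin (n + 1) → ℤ := Fin.snoc y 0
    set z := x - T.picMatrix.mulVec y' with hz
    have hFz : F z = 0 := by
      rw [hz, map_sub, hFP, show (fun j : Fin n => y' j.castSucc) = y from funext fun j => Fin.snoc_castSucc (α := fun _ => ℤ) _ _ j, sub_eq_zero]
      exact hy.symm
    refine ⟨y' + (-(z l)) • Pi.single l 1, ?_⟩
    rw [Matrix.mulVecLin_apply, Matrix.mulVec_add, Matrix.mulVec_smul, Matrix.mulVec_single_one]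
    have : (-(z l)) • T.picMatrix.col l = z := by
      funext i
      induction i using Fin.lastCases with
      | last =>
        show -(z l) * (T.a l l / T.w l) = z l
        rw [hl, Int.neg_ediv_of_dvd dvd_rfl, Int.ediv_self he0]; ring
      | cast i =>
        show -(z l) * (c i / T.w i.castSucc) = z i.castSucc
        have h1 : ε i * z i.castSucc + k i * z l = 0 := congrFun hFz i
        refine mul_left_cancel₀ (hε0 i) ?_
        simp only [k] at h1
        linear_combination -h1
    rw [this, hz, add_sub_cancel]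
  · obtain ⟨y, rfl⟩ := Submodule.mkQ_surjective _ y
    refine ⟨(LinearMap.range T.picMatrix.mulVecLin).mkQ (Fin.snoc (fun i => 2 / ε i * y i) 0), ?_⟩
    show 2 • (LinearMap.range T'.picMatrix.mulVecLin).mkQ y = (LinearMap.range T'.picMatrix.mulVecLin).mkQ (F _)
    rw [← map_nsmul]
    congr 1
    funext i
    show 2 • y i = ε i * Fin.snoc (α := fun _ => ℤ) _ _ i.castSucc + k i * Fin.snoc (α := fun _ => ℤ) _ _ l
    rw [Fin.snoc_castSucc, Fin.snoc_last, mul_zero, add_zero, nsmul_eq_mul]
    rcases hε1 i with h | h <;> simp [h]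

end Groth.Agent.S2180
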