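import Groth.Statements.S2182
import Groth.Agent.NumType.QuadForm


set_option autoImplicit false
open Finset
open Models Models.NumericalType

namespace Groth.Agent.S2182

/-- In a numerical type, whenever a i j > 0 one has m i * a i j at most m j * |a j j| and m i * w i at
most m j * |a j j|. -/
theorem result {n : ℕ} (T : Models.NumericalType n) (i j : Fin n) (hij : 0 < T.a i j) :
    T.m i * T.a i j ≤ T.m j * |T.a j j| ∧ T.m i * T.w i ≤ T.m j * |T.a j j| := by
  have hne : i ≠ j := NumType.ne_of_pos T (NumType.diag_nonpos T i) hij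
  have hji : T.a j i = T.a i j := NumType.a_symm T j i
  have h1 : T.m i * T.a i j ≤ T.m j * |T.a j j| := by
    rw [abs_of_nonpos (NumType.diag_nonpos T j)]
    have h := NumType.row_eq T j
    rw [← Finset.add_sum_erase _ _ (mem_univ j)] at h
    have : T.a j i * T.m i ≤ ∑ l ∈ univ.erase j, T.a j l * T.m l :=
      Finset.single_le_sum (f := fun l => T.a j l * T.m l) (fun l hl => mul_nonneg
        (T.offDiag_nonneg j l (Finset.ne_of_mem_erase hl).symm) (T.m_pos l).le)
        (Finset.mem_erase.2 ⟨hne, mem_univ i⟩)
    rw [hji] at this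
    linarith
  refine ⟨h1, le_trans ?_ h1⟩
  exact mul_le_mul_of_nonneg_left (NumType.w_le_a T hne hij.ne') (T.m_pos i).le

end Groth.Agent.S2182
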