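import Groth.Statements.S2183
import Groth.Agent.NumType.Genus
import Groth.Agent.S2182

set_option autoImplicit false
open Finset
open Models Models.NumericalType

namespace Groth.Agent.S2183

open Classical in
/-- Let T be a minimal numerical type with n > 1 indices and genus g at least 2, and let J be the set of
indices which are not (-2)-indices. Then J has at most 2g - 2 elements, and for j in J one has g j <
g, m j * |a j j| at most 6g - 6, and m i * a i j at most 6g - 6 for every index i. -/
theorem result {n : ℕ} (T : Models.NumericalType n) (hmin : T.IsMinimal) (hn : 1 < n) (hg : 2 ≤ T.genus) :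
    ((univ.filter fun j => ¬T.IsMinusTwo j).card : ℤ) ≤ 2 * T.genus - 2 ∧
      ∀ j, ¬T.IsMinusTwo j →
        T.g j < T.genus ∧ T.m j * |T.a j j| ≤ 6 * T.genus - 6 ∧
          ∀ i, T.m i * T.a i j ≤ 6 * T.genus - 6 := by
  have hpos : ∀ j, ¬T.IsMinusTwo j → 1 ≤ NumType.contrib T j := fun j hj => by
    have h0 := NumType.contrib_nonneg T hmin hn j
    by_contra h
    exact hj (NumType.minusTwo_of_contrib_zero T hn j (by omega))
  refine ⟨?_, fun j hj => ?_⟩
  · have h := NumType.two_genus T
    have : ∑ j ∈ univ.filter (fun j => ¬T.IsMinusTwo j), (1 : ℤ) ≤ ∑ j, NumType.contrib T j :=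
      le_trans (Finset.sum_le_sum fun j hj => hpos j (Finset.mem_filter.1 hj).2)
        (Finset.sum_le_sum_of_subset_of_nonneg (Finset.filter_subset _ _) fun j _ _ =>
          NumType.contrib_nonneg T hmin hn j)
    rw [Finset.sum_const, nsmul_one] at this
    linarith
  have hc := NumType.contrib_le T hmin hn j
  have hp := hpos j hj
  have ha := NumType.diag_neg T hn j
  have hm := T.m_pos j
  have hw := T.w_pos j
  have hg0 := T.g_nonneg j
  obtain ⟨k, hk⟩ := T.w_dvd j j
  have hk1 : k ≤ -1 := by
    by_contra h; push Not at h; rw [hk] at ha; nlinarith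
  have he : NumType.contrib T j = T.m j * T.w j * (2 * (T.g j - 1) - k) := by
    unfold NumType.contrib; rw [hk]; ring
  have hmw : 1 ≤ T.m j * T.w j := mul_pos hm hw
  have hfac : 1 ≤ 2 * (T.g j - 1) - k := by
    by_contra h; push Not at h; rw [he] at hp; nlinarith
  have hbound : T.m j * |T.a j j| ≤ 6 * T.genus - 6 := by
    have h3 : -k ≤ 3 * (2 * (T.g j - 1) - k) := by omega
    have := mul_le_mul_of_nonneg_left h3 (show 0 ≤ T.m j * T.w j by omega)
    rw [abs_of_neg ha, hk]
    linarith
  refine ⟨?_, hbound, fun i => ?_⟩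
  · have : 2 * (T.g j - 1) - k ≤ 2 * (T.genus - 1) := by
      rw [he] at hc
      have := mul_le_mul_of_nonneg_right hmw (show 0 ≤ 2 * (T.g j - 1) - k by omega)
      linarith
    omega
  · by_cases h : 0 < T.a i j
    · exact le_trans (S2182.result T i j h).1 hbound
    · push Not at h
      have := mul_nonpos_of_nonneg_of_nonpos (T.m_pos i).le h
      omega

end Groth.Agent.S2183
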