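import Groth.Statements.S2197
import Mathlib.RingTheory.Kaehler.Basic
import Mathlib.RingTheory.Flat.Basic
import Mathlib.RingTheory.IsTensorProduct
import Mathlib.LinearAlgebra.TensorProduct.Pi

set_option autoImplicit false
universe u
open Disc

namespace Groth.Agent.S2197

open scoped TensorProduct

variable {A B A' B' : Type u} [CommRing A] [CommRing B]
    [CommRing A'] [CommRing B'] [Algebra A B] [Algebra A A'] [Algebra A B'] [Algebra B B']
    [Algebra A' B'] [IsScalarTower A B B'] [IsScalarTower A A' B']

variable (A B A' B') in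
/-- The comparison map between the two self tensor products. -/
noncomputable def φ : B ⊗[A] B →ₐ[A] B' ⊗[A'] B' :=
  Algebra.TensorProduct.lift
    (((Algebra.TensorProduct.includeLeft : B' →ₐ[A'] B' ⊗[A'] B').restrictScalars A).comp
      (IsScalarTower.toAlgHom A B B'))
    (((Algebra.TensorProduct.includeRight : B' →ₐ[A'] B' ⊗[A'] B').restrictScalars A).comp
      (IsScalarTower.toAlgHom A B B'))
    (fun _ _ => Commute.all _ _)

theorem φ_tmul (x y : B) : φ A B A' B' (x ⊗ₜ y) = algebraMap B B' x ⊗ₜ algebraMap B B' y := by
  simp [φ]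

theorem lmul'_φ (z : B ⊗[A] B) :
    Algebra.TensorProduct.lmul' (S := B') A' (φ A B A' B' z) =
      algebraMap B B' (Algebra.TensorProduct.lmul' (S := B) A z) := by
  induction z with
  | zero => simp
  | add a b ha hb => simp [ha, hb]
  | tmul x y => simp [φ_tmul]

variable [Algebra.IsPushout A B A' B']

theorem ker_eq_map :
    RingHom.ker (Algebra.TensorProduct.lmul' (S := B') A') =
      (RingHom.ker (Algebra.TensorProduct.lmul' (S := B) A)).map (φ A B A' B') := by
  apply le_antisymm
  · change KaehlerDifferential.ideal A' B' ≤ _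
    rw [← KaehlerDifferential.span_range_eq_ideal, Ideal.span_le]
    rintro _ ⟨b', rfl⟩
    have : Algebra.IsPushout A A' B B' := Algebra.IsPushout.symm inferInstance
    obtain ⟨t, rfl⟩ := (Algebra.IsPushout.equiv A A' B B').surjective b'
    dsimp only
    induction t with
    | zero => simp
    | add a b ha hb =>
      rw [map_add, TensorProduct.tmul_add, TensorProduct.add_tmul, ← sub_add_sub_comm]
      exact Ideal.add_mem _ ha hb
    | tmul a b =>
      rw [Algebra.IsPushout.equiv_tmul, ← Algebra.smul_def, TensorProduct.tmul_smul,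
        ← TensorProduct.smul_tmul', ← smul_sub]
      refine Submodule.smul_of_tower_mem _ a ?_
      have h1 : φ A B A' B' ((1 : B) ⊗ₜ[A] b - b ⊗ₜ[A] (1 : B)) =
          (1 : B') ⊗ₜ[A'] algebraMap B B' b - algebraMap B B' b ⊗ₜ[A'] (1 : B') := by
        simp [φ_tmul]
      rw [← h1]
      exact Ideal.mem_map_of_mem _ (KaehlerDifferential.one_smul_sub_smul_one_mem_ideal A b)
  · rw [Ideal.map_le_iff_le_comap]
    intro z (hz : Algebra.TensorProduct.lmul' (S := B) A z = 0)
    show Algebra.TensorProduct.lmul' (S := B') A' (φ A B A' B' z) = 0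
    rw [lmul'_φ, hz, map_zero]

theorem annihilator_eq_map [Algebra.FiniteType A B] [Module.Flat A A'] :
    Submodule.annihilator (RingHom.ker (Algebra.TensorProduct.lmul' (S := B') A')) =
      (Submodule.annihilator (RingHom.ker (Algebra.TensorProduct.lmul' (S := B) A))).map
        (φ A B A' B') := by
  classical
  rw [ker_eq_map (A := A) (B := B)]
  set I : Ideal (B ⊗[A] B) := RingHom.ker (Algebra.TensorProduct.lmul' (S := B) A)
  apply le_antisymm
  · intro x hx
    have : Algebra.IsPushout A A' B B' := Algebra.IsPushout.symm inferInstance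
    let eB : A' ⊗[A] B ≃ₗ[A'] B' := (Algebra.IsPushout.equiv A A' B B').toLinearEquiv
    let e : A' ⊗[A] (B ⊗[A] B) ≃ₗ[A'] B' ⊗[A'] B' :=
      (TensorProduct.AlgebraTensorModule.distribBaseChange A A' B B).trans (TensorProduct.congr eB eB)
    have heB : ∀ a b, eB (a ⊗ₜ b) = a • algebraMap B B' b := fun a b => by
      show Algebra.IsPushout.equiv A A' B B' (a ⊗ₜ b) = _
      rw [Algebra.IsPushout.equiv_tmul, Algebra.smul_def]
    have he : ∀ a c, e (a ⊗ₜ c) = a • φ A B A' B' c := by
      intro a c
      induction c with
      | zero => simp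
      | add p q hp hq => rw [TensorProduct.tmul_add, map_add, hp, hq, map_add, smul_add]
      | tmul p q =>
        simp [e, heB, φ_tmul, TensorProduct.smul_tmul']
    have hmul : ∀ g t, e (LinearMap.lTensor A' (LinearMap.mulLeft A g) t) =
        φ A B A' B' g * e t := by
      intro g t
      induction t with
      | zero => simp
      | add p q hp hq => simp only [map_add, hp, hq, mul_add]
      | tmul a c => rw [LinearMap.lTensor_tmul, LinearMap.mulLeft_apply, he, he, map_mul, mul_smul_comm]
    obtain ⟨s, hs⟩ : I.FG := KaehlerDifferential.ideal_fg A B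
    let Ψ : B ⊗[A] B →ₗ[A] (s → B ⊗[A] B) := LinearMap.pi fun g => LinearMap.mulLeft A (g : B ⊗[A] B)
    obtain ⟨t, rfl⟩ := e.surjective x
    have hpi : ∀ (g : s) (t : A' ⊗[A] (B ⊗[A] B)),
        TensorProduct.piRight A A A' (fun _ : s => B ⊗[A] B) (LinearMap.lTensor A' Ψ t) g =
          LinearMap.lTensor A' (LinearMap.mulLeft A (g : B ⊗[A] B)) t := by
      intro g t
      induction t with
      | zero => simp
      | add p q hp hq => simp only [map_add, Pi.add_apply, hp, hq]
      | tmul a c => simp [Ψ]
    have h0 : LinearMap.lTensor A' Ψ t = 0 := by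
      apply (TensorProduct.piRight A A A' (fun _ : s => B ⊗[A] B)).injective
      rw [map_zero]
      funext g
      rw [hpi, Pi.zero_apply]
      apply e.injective
      rw [hmul, map_zero, mul_comm]
      exact Submodule.mem_annihilator.mp hx _
        (Ideal.mem_map_of_mem _ (hs ▸ Submodule.subset_span g.2))
    obtain ⟨u, rfl⟩ := (Module.Flat.lTensor_exact A' (LinearMap.exact_subtype_ker_map Ψ) t).mp h0
    clear h0 hx
    induction u with
    | zero => simp
    | add p q hp hq => simp only [map_add]; exact Ideal.add_mem _ hp hq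
    | tmul a k =>
      rw [LinearMap.lTensor_tmul, he]
      refine Submodule.smul_of_tower_mem _ a (Ideal.mem_map_of_mem _ ?_)
      rw [← hs, Submodule.mem_annihilator_span]
      intro g
      rw [smul_eq_mul, mul_comm]
      exact congrFun (LinearMap.mem_ker.mp k.2) g
  · rw [Submodule.le_annihilator_iff, smul_eq_mul, ← Ideal.map_mul, ← smul_eq_mul,
      Submodule.annihilator_smul, Ideal.map_bot]

/-- Part (2): let A -> B be a ring map of finite type and A -> A' a flat ring map, and let B' = B
tensor_A A'. Then the Noether different of B' over A' is the extension to B' of the Noether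
different of B over A. -/
theorem result {A B A' B' : Type u} [CommRing A] [CommRing B]
    [CommRing A'] [CommRing B'] [Algebra A B] [Algebra A A'] [Algebra A B'] [Algebra B B']
    [Algebra A' B'] [IsScalarTower A B B'] [IsScalarTower A A' B']
    [Algebra.IsPushout A B A' B'] [Algebra.FiniteType A B] [Module.Flat A A'] :
    Disc.noetherDifferent A' B' = (Disc.noetherDifferent A B).map (algebraMap B B') := by
  unfold Disc.noetherDifferent
  rw [annihilator_eq_map (A := A) (B := B)]
  change Ideal.map (Algebra.TensorProduct.lmul' (S := B') A').toRingHom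
      (Ideal.map (φ A B A' B').toRingHom _) =
    Ideal.map (algebraMap B B') (Ideal.map (Algebra.TensorProduct.lmul' (S := B) A).toRingHom _)
  rw [Ideal.map_map, Ideal.map_map]
  congr 1
  exact RingHom.ext fun z => lmul'_φ z

end Groth.Agent.S2197
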