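import Mathlib
import Groth.Statements.S2203
-- import your own Groth.Agent.* helpers here

set_option autoImplicit false
universe u
open CategoryTheory
open QCohCat

namespace Groth.Agent.S2203

/-- Ring-isomorphism part of the statement: let A and B be commutative rings whose categories of modules
are equivalent. Then A and B are isomorphic as rings. (The source moreover describes the equivalence
as base change followed by tensoring with an invertible module.) -/
theorem result (A B : Type u) [CommRing A] [CommRing B]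
    (F : ModuleCat.{u} A ≌ ModuleCat.{u} B) : Nonempty (A ≃+* B) := by
  haveI : F.functor.Additive := Functor.additive_of_preserves_binary_products _
  let M₀ := F.inverse.obj (ModuleCat.of B B)
  -- an endomorphism of the functor comes from a scalar of the target
  have key : ∀ a : A, ∃ b : B, ∀ M : ModuleCat.{u} A, F.functor.map (a • 𝟙 M) = b • 𝟙 (F.functor.obj M) := fun a => by
    let ε := F.counitIso.app (ModuleCat.of B B)
    refine ⟨(ε.inv ≫ F.functor.map (a • 𝟙 M₀) ≫ ε.hom).hom (1 : B), fun M => ?_⟩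
    ext y
    let g : ModuleCat.of B B ⟶ F.functor.obj M := ModuleCat.ofHom (LinearMap.toSpanSingleton B _ y)
    obtain ⟨h, hh⟩ := F.functor.map_surjective (ε.hom ≫ g)
    have hg : g = ε.inv ≫ F.functor.map h := by rw [hh]; simp
    have h2 : g ≫ F.functor.map (a • 𝟙 M) = (ε.inv ≫ F.functor.map (a • 𝟙 M₀) ≫ ε.hom) ≫ g := by
      rw [hg, Category.assoc, ← F.functor.map_comp]
      rw [show h ≫ (a • 𝟙 M) = (a • 𝟙 M₀) ≫ h by simp, F.functor.map_comp]
      simp
    have h3 := congrArg (fun q => q.hom (1 : B)) h2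
    simpa [g] using h3
  have key' : ∀ b : B, ∃ a : A, ∀ M : ModuleCat.{u} A, F.functor.map (a • 𝟙 M) = b • 𝟙 (F.functor.obj M) := fun b => by
    let θ : ∀ M : ModuleCat.{u} A, M ⟶ M := fun M => F.functor.preimage (b • 𝟙 (F.functor.obj M))
    have hθ : ∀ M, F.functor.map (θ M) = b • 𝟙 (F.functor.obj M) := fun M => F.functor.map_preimage _
    refine ⟨(θ (ModuleCat.of A A)).hom (1 : A), fun M => ?_⟩
    rw [← hθ]
    congr 1
    ext x
    let g : ModuleCat.of A A ⟶ M := ModuleCat.ofHom (LinearMap.toSpanSingleton A _ x)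
    have h2 : g ≫ θ M = θ _ ≫ g := F.functor.map_injective (by
      rw [F.functor.map_comp, F.functor.map_comp, hθ, hθ]; simp)
    have h3 := congrArg (fun q => q.hom (1 : A)) h2
    simpa [g] using h3.symm
  choose φ hφ using key
  have injA : ∀ a a' : A, (∀ M : ModuleCat.{u} A, a • 𝟙 M = a' • 𝟙 M) → a = a' := fun a a' h => by
    simpa using congrArg (fun q => q.hom (1 : A)) (h (ModuleCat.of A A))
  have injB : ∀ b b' : B, (∀ M : ModuleCat.{u} A, b • 𝟙 (F.functor.obj M) = b' • 𝟙 (F.functor.obj M)) → b = b' := fun b b' h => by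
    let ε := F.counitIso.app (ModuleCat.of B B)
    have h4 : ε.hom.hom (b • ε.inv.hom (1 : B)) = ε.hom.hom (b' • ε.inv.hom (1 : B)) :=
      congrArg (fun q => ε.hom.hom (q.hom (ε.inv.hom (1 : B)))) (h M₀)
    have e1 : ε.hom.hom (ε.inv.hom (1 : B)) = (1 : B) := ConcreteCategory.congr_hom ε.inv_hom_id (1 : B)
    rw [map_smul, map_smul, e1] at h4
    exact (mul_one b).symm.trans (h4.trans (mul_one b'))
  let ρ : A →+* B :=
    { toFun := φ
      map_one' := injB _ _ fun M => by rw [← hφ, one_smul, one_smul, F.functor.map_id]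
      map_mul' := fun a a' => injB _ _ fun M => by
        rw [← hφ]
        calc F.functor.map ((a * a') • 𝟙 M) = F.functor.map ((a • 𝟙 M) ≫ (a' • 𝟙 M)) := by simp [smul_smul, mul_comm]
          _ = (φ a • 𝟙 _) ≫ (φ a' • 𝟙 _) := by rw [F.functor.map_comp, hφ, hφ]
          _ = _ := by simp [smul_smul, mul_comm]
      map_zero' := injB _ _ fun M => by rw [← hφ, zero_smul, zero_smul, F.functor.map_zero]
      map_add' := fun a a' => injB _ _ fun M => by rw [← hφ, add_smul, add_smul, F.functor.map_add, hφ, hφ] }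
  refine ⟨RingEquiv.ofBijective ρ ⟨fun a a' haa => injA _ _ fun M => F.functor.map_injective ?_, fun b => ?_⟩⟩
  · rw [hφ, hφ]; exact congrArg (· • 𝟙 _) haa
  · obtain ⟨a, ha⟩ := key' b
    exact ⟨a, injB _ _ fun M => (hφ a M).symm.trans (ha M)⟩

end Groth.Agent.S2203
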