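import Groth.Statements.S2205
import Groth.Agent.OmegaCI.Unramified
import Groth.Agent.OmegaCI.Finite

set_option autoImplicit false
universe u v
open Disc

open TensorProduct

namespace Groth.Agent.S2205

/-- Special case: affine, with B finite free over the Noetherian ring A (the source allows flat
quasi-finite morphisms of Noetherian schemes); then the relative dualizing module is Hom_A(B, A) and
the trace element is the usual trace. A prime q of B contains the different (the set of b with b
Hom_A(B, A) inside B Trace) if and only if A -> B is not unramified at q; for such maps unramified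
and etale at q agree. -/
theorem result {A : Type u} {B : Type v} [CommRing A]
    [CommRing B] [Algebra A B] [IsNoetherianRing A] [Module.Finite A B] [Module.Free A B]
    (q : Ideal B) [q.IsPrime] :
    Disc.differentSet A B ⊆ q ↔ ¬Algebra.IsUnramifiedAt A q := by
  haveI : Algebra.FiniteType A B := inferInstance
  rw [← OmegaCI.noetherDifferent_le_iff q]
  constructor
  · intro hdiff
    by_contra hD
    obtain ⟨d, hd, hdq⟩ := SetLike.not_le_iff_exists.1 hD
    have hsurj : Function.Surjective (Algebra.TensorProduct.lmul' (S := B) A) := fun b => ⟨b ⊗ₜ[A] 1, by simp⟩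
    obtain ⟨ξ, hξ, rfl⟩ := (Ideal.mem_map_iff_of_surjective _ hsurj).1 hd
    let σ := Algebra.TensorProduct.comm A B B
    have hσσ : ∀ z, σ (σ z) = z := fun z => by
      induction z using TensorProduct.induction_on with
      | zero => simp
      | tmul x y => simp [σ]
      | add x y hx hy => simp [hx, hy]
    have hμσ : ∀ z, Algebra.TensorProduct.lmul' (S := B) A (σ z) = Algebra.TensorProduct.lmul' (S := B) A z :=
      fun z => by
        induction z using TensorProduct.induction_on with
        | zero => simp
        | tmul x y => simp [σ, mul_comm]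
        | add x y hx hy => simp [hx, hy]
    have hσξ : σ ξ ∈ OmegaCI.diagAnn A B := (OmegaCI.mem_diagAnn_iff _).2 fun b => by
      have h := congrArg σ ((OmegaCI.mem_diagAnn_iff ξ).1 hξ b)
      rw [map_mul, map_sub, map_zero, sub_mul] at h
      simp only [σ, Algebra.TensorProduct.comm_tmul] at h
      rw [sub_mul, ← neg_sub, h, neg_zero]
    let η := ξ * σ ξ
    have hη : η ∈ OmegaCI.diagAnn A B := Ideal.mul_mem_right _ _ hξ
    have hηs : σ η = η := by
      show σ (ξ * σ ξ) = ξ * σ ξ
      rw [map_mul, hσσ, mul_comm]
    have hμη : Algebra.TensorProduct.lmul' (S := B) A η =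
        Algebra.TensorProduct.lmul' (S := B) A ξ * Algebra.TensorProduct.lmul' (S := B) A ξ := by
      show Algebra.TensorProduct.lmul' (S := B) A (ξ * σ ξ) = _
      rw [map_mul, hμσ]
    have key : ∀ (φ ψ : Disc.Omega A B) (z : B ⊗[A] B),
        φ.toLinearMap (OmegaCI.pair ψ z) = ψ.toLinearMap (OmegaCI.pair φ (σ z)) := fun φ ψ z => by
      induction z using TensorProduct.induction_on with
      | zero => simp
      | tmul x y => simp [σ, OmegaCI.pair_tmul, mul_comm]
      | add x y hx hy => simp [hx, hy]
    have hmem : Algebra.TensorProduct.lmul' (S := B) A η ∈ Disc.differentSet A B := fun f => by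
      refine ⟨OmegaCI.pair ⟨f⟩ η, fun x => ?_⟩
      have h1 : Algebra.TensorProduct.lmul' (S := B) A η * x = OmegaCI.pair (x • Disc.Omega.trace A B) η := by
        rw [OmegaCI.lmul'_eq_pair η hη, mul_comm, ← smul_eq_mul, ← map_smul]
        rfl
      rw [h1, show f (OmegaCI.pair (x • Disc.Omega.trace A B) η) = _ from key ⟨f⟩ (x • Disc.Omega.trace A B) η, hηs]
      show Algebra.trace A B (x * _) = _
      rw [mul_comm]
    exact hdq ((Ideal.IsPrime.mem_or_mem ‹q.IsPrime› (hμη ▸ hdiff hmem)).elim id id)
  · intro hD b hb
    by_contra hbq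
    have hb' : ∀ φ : Disc.Omega A B, ∃ c : B, b • φ = c • Disc.Omega.trace A B := fun φ =>
      (hb φ.toLinearMap).imp fun c hc => Disc.Omega.ext (LinearMap.ext hc)
    choose c hc using hb'
    have hker : ∀ r : B, r • Disc.Omega.trace A B = 0 → b * r = 0 := fun r hr =>
      OmegaCI.omega_faithful (A := A) _ fun φ => by
        rw [mul_comm, mul_smul (α := B) (β := Disc.Omega A B), hc, smul_comm, hr, smul_zero]
    let Φ : Disc.Omega A B →ₗ[B] B :=
      { toFun := fun φ => b * c φ
        map_add' := fun x y => by
          rw [← sub_eq_zero, ← mul_add, ← mul_sub]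
          refine hker _ ?_
          rw [sub_smul, add_smul, ← hc, ← hc, ← hc, smul_add, sub_self]
        map_smul' := fun r x => by
          rw [RingHom.id_apply, smul_eq_mul, ← sub_eq_zero, mul_left_comm r b, ← mul_sub]
          refine hker _ ?_
          rw [sub_smul, mul_smul, ← hc, ← hc, smul_comm, sub_self] }
    have hΦ : Φ (Disc.Omega.trace A B) = b * b := by
      show b * c _ = _
      rw [← sub_eq_zero, ← mul_sub]
      refine hker _ ?_
      rw [sub_smul, ← hc, sub_self]
    have h2 : b * b ∈ (Disc.noetherDifferent A B : Set B) := by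
      rw [OmegaCI.noetherDifferent_eq_range]
      exact ⟨Φ, hΦ⟩
    exact hbq ((Ideal.IsPrime.mem_or_mem ‹q.IsPrime› (hD h2)).elim id id)

end Groth.Agent.S2205
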