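import Groth.Statements.S2207
import Mathlib
-- import your own Groth.Agent.* helpers here

set_option autoImplicit false
universe u v
open DPow

namespace Groth.Agent.S2207

/-- Existence in case (2): let I = (x) be a principal ideal of A with a divided power structure and B
any A-algebra. Then there is a divided power structure on I B for which A -> B is a homomorphism of
divided power rings. -/
theorem result {A : Type u} {B : Type v} [CommRing A] [CommRing B] [Algebra A B]
    (x : A) (γ : DividedPowers (Ideal.span {x})) :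
    ∃ δ : DividedPowers ((Ideal.span {x}).map (algebraMap A B)), γ.IsDPMorphism δ (algebraMap A B) := by
  classical
  let f := algebraMap A B
  have hJ : (Ideal.span {x}).map f = Ideal.span {f x} := by rw [Ideal.map_span, Set.image_singleton]
  have hxI : x ∈ Ideal.span {x} := Ideal.mem_span_singleton_self x
  have hc : ∀ n : ℕ, n ≠ 0 → ∃ c, c * x = γ.dpow n x := fun n hn =>
    Ideal.mem_span_singleton'.1 (γ.dpow_mem hn hxI)
  have hmem : ∀ z, z ∈ (Ideal.span {x}).map f ↔ ∃ b, b * f x = z := fun z => by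
    rw [hJ, Ideal.mem_span_singleton']
  choose β hβ using fun (z : B) (hz : z ∈ (Ideal.span {x}).map f) => (hmem z).1 hz
  let δ : ℕ → B → B := fun n z =>
    if hz : z ∈ (Ideal.span {x}).map f then β z hz ^ n * f (γ.dpow n x) else 0
  have hδ : ∀ n b, δ n (b * f x) = b ^ n * f (γ.dpow n x) := by
    intro n b
    have hz : b * f x ∈ (Ideal.span {x}).map f := (hmem _).2 ⟨b, rfl⟩
    simp only [δ, dif_pos hz]
    rcases Nat.eq_zero_or_pos n with rfl | hn
    · simp
    · obtain ⟨c, hc⟩ := hc n hn.ne'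
      obtain ⟨k, hk⟩ := sub_dvd_pow_sub_pow (β _ hz) b n
      rw [← hc, map_mul]
      linear_combination (f c * f x) * hk + (k * f c) * hβ _ hz
  have hmor : ∀ {n : ℕ}, ∀ a ∈ Ideal.span {x}, δ n (f a) = f (γ.dpow n a) := fun {n} a ha => by
    obtain ⟨r, rfl⟩ := Ideal.mem_span_singleton'.1 ha
    rw [map_mul, hδ, γ.dpow_mul hxI, map_mul, map_pow]
  refine ⟨DividedPowers.mk δ ?_ ?_ ?_ ?_ ?_ ?_ ?_ ?_, ⟨le_rfl, fun a ha => hmor a ha⟩⟩
  · intro n z hz; exact dif_neg hz
  · intro z hz; obtain ⟨b, rfl⟩ := (hmem z).1 hz; simp [hδ, γ.dpow_zero hxI]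
  · intro z hz; obtain ⟨b, rfl⟩ := (hmem z).1 hz; simp [hδ, γ.dpow_one hxI]
  · intro n z hn hz
    obtain ⟨b, rfl⟩ := (hmem z).1 hz
    obtain ⟨c, hc⟩ := hc n hn
    exact (hmem _).2 ⟨b ^ n * f c, by rw [hδ, ← hc, map_mul, mul_assoc]⟩
  · intro n u v hu hv
    obtain ⟨b, rfl⟩ := (hmem u).1 hu
    obtain ⟨b', rfl⟩ := (hmem v).1 hv
    rw [← add_mul, hδ, (Commute.all b b').add_pow', Finset.sum_mul]
    refine Finset.sum_congr rfl fun k hk => ?_
    rw [Finset.HasAntidiagonal.mem_antidiagonal] at hk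
    rw [hδ, hδ, nsmul_eq_mul]
    have h := congrArg f (γ.mul_dpow (m := k.1) (n := k.2) hxI)
    simp only [hk, map_mul, map_natCast] at h
    linear_combination -(b ^ k.1 * b' ^ k.2) * h
  · intro n a z hz
    obtain ⟨b, rfl⟩ := (hmem z).1 hz
    rw [← mul_assoc, hδ, hδ, mul_pow, mul_assoc]
  · intro m n z hz
    obtain ⟨b, rfl⟩ := (hmem z).1 hz
    have h := congrArg f (γ.mul_dpow (m := m) (n := n) hxI)
    simp only [map_mul, map_natCast] at h
    rw [hδ, hδ, hδ, pow_add]
    linear_combination (b ^ m * b ^ n) * h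
  · intro m n z hn hz
    obtain ⟨b, rfl⟩ := (hmem z).1 hz
    obtain ⟨c, hc⟩ := hc n hn
    rw [hδ n b, ← hc, map_mul, ← mul_assoc, hδ, hδ]
    have h := congrArg f (γ.dpow_comp (m := m) hn hxI)
    rw [← hc, γ.dpow_mul hxI] at h
    simp only [map_mul, map_pow, map_natCast] at h
    rw [mul_pow, ← pow_mul, mul_comm n m]
    linear_combination (b ^ (m * n)) * h

end Groth.Agent.S2207
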