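import Groth.Statements.S2209
import Groth.Agent.ZarConn.Stein

set_option autoImplicit false
universe u
open CategoryTheory AlgebraicGeometry
open Models Groth.Agent.ZarConn

namespace Groth.Agent.S2209

/-- Let R be a discrete valuation ring with fraction field K, C a smooth proper curve over K whose ring
of global functions is K (the map K -> H^0(C, O_C) is an isomorphism), and X a regular proper model
of C over R. Then the special fibre of X is connected. -/
theorem result (R : Type u) [CommRing R] [IsDomain R]
    [IsDiscreteValuationRing R] (C X : Scheme.{u})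
    (f : C ⟶ Spec (CommRingCat.of (FractionRing R))) (p : X ⟶ Spec (CommRingCat.of R))
    (hC : Curve.IsSmoothProperCurve (FractionRing R) C f) (hH0 : IsIso f.appTop)
    (hX : Models.IsRegularProperModel R X p C f) :
    ConnectedSpace ↥(Models.specialFibre R X p) := by
  obtain ⟨⟨hflat, hft, hqc, g, hg⟩, hprop, -⟩ := hX
  haveI := hprop
  haveI : Flat p := hflat
  let a := Spec.map (CommRingCat.ofHom (algebraMap R (FractionRing R)))
  haveI : IsDominant a := by
    refine ⟨?_⟩
    have := PrimeSpectrum.denseRange_comap_iff_ker_le_nilRadical (algebraMap R (FractionRing R))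
    exact this.mpr (by
      rw [(RingHom.injective_iff_ker_eq_bot _).mp (IsFractionRing.injective R (FractionRing R))]
      exact bot_le)
  haveI : IsSchemeTheoreticallyDominant a := .of_isDominant a
  haveI : IsSchemeTheoreticallyDominant g := .of_isPullback hg.flip
  haveI : QuasiCompact g := MorphismProperty.of_isPullback (P := @QuasiCompact) hg.flip inferInstance
  have hinj : Function.Injective g.appTop.hom := g.app_injective ⊤
  have hb : Function.Bijective p.appTop.hom := by
    have hwit := congrArg Scheme.Hom.appTop hg.w
    rw [Scheme.Hom.comp_appTop, Scheme.Hom.comp_appTop] at hwit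
    have hw : ∀ t, g.appTop.hom (p.appTop.hom t) = f.appTop.hom (a.appTop.hom t) :=
      fun t => congr($(hwit).hom t)
    have hf : Function.Bijective f.appTop.hom := ConcreteCategory.bijective_of_isIso f.appTop
    have ha : Function.Injective a.appTop.hom := a.app_injective ⊤
    refine ⟨fun t t' h => ha (hf.1 ?_), fun s => ?_⟩
    · rw [← hw, ← hw, h]
    · obtain ⟨c, hc⟩ := hf.2 (g.appTop.hom s)
      let eR := Scheme.ΓSpecIso (CommRingCat.of R)
      let eK := Scheme.ΓSpecIso (CommRingCat.of (FractionRing R))
      have hsq : ∀ r : R, a.appTop.hom (eR.inv.hom r) = eK.inv.hom (algebraMap R (FractionRing R) r) :=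
        fun r => congr($((Scheme.ΓSpecIso_inv_naturality (CommRingCat.ofHom (algebraMap R (FractionRing R)))).symm).hom r)
      have hint : IsIntegral R (eK.hom.hom c) := by
        obtain ⟨q, hqm, hq⟩ := isIntegral_app p (isAffineOpen_top _) s
        refine ⟨q.map eR.hom.hom, hqm.map _, ?_⟩
        rw [Polynomial.eval₂_map]
        apply eK.symm.commRingCatIsoToRingEquiv.injective
        apply hf.1
        rw [map_zero, map_zero]
        change (f.appTop.hom.comp eK.inv.hom) _ = 0
        rw [Polynomial.hom_eval₂]
        have h1 : (f.appTop.hom.comp eK.inv.hom).comp ((algebraMap R (FractionRing R)).comp eR.hom.hom) =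
            g.appTop.hom.comp p.appTop.hom := RingHom.ext fun t => by
          change f.appTop.hom (eK.inv.hom (algebraMap R (FractionRing R) (eR.hom.hom t))) = g.appTop.hom (p.appTop.hom t)
          rw [← hsq, hw]
          exact congrArg _ (congrArg _ (congr($(eR.hom_inv_id).hom t)))
        have h2 : (f.appTop.hom.comp eK.inv.hom) (eK.hom.hom c) = g.appTop.hom s := by
          rw [← hc]
          exact congrArg _ (congr($(eK.hom_inv_id).hom c))
        rw [h1, h2, ← Polynomial.hom_eval₂]
        exact (congrArg g.appTop.hom hq).trans (map_zero _)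
      obtain ⟨r, hr⟩ := IsIntegrallyClosed.isIntegral_iff.mp hint
      refine ⟨eR.inv.hom r, hinj ?_⟩
      rw [hw, hsq, hr, ← hc]
      exact congrArg _ (congr($(eK.hom_inv_id).hom c))
  have hbi := bijective_app_of_cover p (fun _ : Unit => (⊤ : (Spec (CommRingCat.of R)).Opens))
    (fun _ => isAffineOpen_top _) (TopologicalSpace.IsOpenCover.mk (iSup_const)) (fun _ => hb)
  let q := Limits.pullback.snd p (Spec.map (CommRingCat.ofHom (algebraMap R (IsLocalRing.ResidueField R))))
  have hq : GeometricallyConnected q :=
    MorphismProperty.pullback_snd p _ (geometricallyConnected_of_bijective p hbi)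
  haveI : Subsingleton ↥(Spec (CommRingCat.of (IsLocalRing.ResidueField R))) :=
    inferInstanceAs (Subsingleton (PrimeSpectrum (IsLocalRing.ResidueField R)))
  exact @GeometricallyConnected.connectedSpace_of_subsingleton _ _ q hq inferInstance inferInstance

end Groth.Agent.S2209
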