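import Mathlib
import Groth.Statements.S2211
-- import your own Groth.Agent.* helpers here

set_option autoImplicit false
universe u
open DPow

namespace Groth.Agent.S2211

/-- First part: let p be a prime and A a ring in which every integer prime to p is invertible, I an
ideal of A. Two divided power structures on I coincide exactly when their p-th divided power maps
agree on I. -/
theorem result {A : Type u} [CommRing A] (p : ℕ) (hp : p.Prime)
    (hA : ∀ n : ℕ, ¬ p ∣ n → IsUnit (n : A)) {I : Ideal A} (γ γ' : DividedPowers I) :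
    γ = γ' ↔ ∀ x ∈ I, γ.dpow p x = γ'.dpow p x := by
  refine ⟨fun h x _ => h ▸ rfl, fun h => ?_⟩
  haveI := Fact.mk hp
  refine DividedPowers.ext γ γ' ?_
  intro n
  induction n using Nat.strong_induction_on with
  | _ n ih =>
  intro x hx
  rcases Nat.eq_zero_or_pos n with rfl | hn
  · rw [γ.dpow_zero hx, γ'.dpow_zero hx]
  obtain ⟨v, m, hm, rfl⟩ := Nat.exists_eq_pow_mul_and_not_dvd hn.ne' p hp.ne_one
  have hpv : 0 < p ^ v := pow_pos hp.pos v
  by_cases hm1 : m = 1
  · subst hm1
    rcases v with _ | v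
    · rw [pow_zero, one_mul, γ.dpow_one hx, γ'.dpow_one hx]
    have hlt : p ^ v < p ^ (v + 1) * 1 := by
      rw [mul_one]
      exact pow_lt_pow_right₀ hp.one_lt (Nat.lt_succ_self v)
    have hb : Nat.uniformBell p (p ^ v) ≡ 1 [MOD p] := by
      rw [Nat.uniformBell_eq]
      refine Finset.prod_induction _ (fun t => t ≡ 1 [MOD p]) (fun a b ha hb => ?_) Nat.ModEq.rfl (fun i _ => ?_)
      · simpa using ha.mul hb
      have hq : 0 < p ^ v := pow_pos hp.pos v
      have e := Choose.choose_modEq_choose_mul_prod_range_choose (n := i * p ^ v + p ^ v - 1) (k := p ^ v - 1) (p := p) v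
      rw [← Int.natCast_modEq_iff]
      refine e.trans ?_
      have e0 : (p ^ v - 1) / p ^ v = 0 := Nat.div_eq_of_lt (Nat.sub_lt hq one_pos)
      rw [e0, Nat.choose_zero_right]
      have e1 : ∀ j ∈ Finset.range v, ((i * p ^ v + p ^ v - 1) / p ^ j % p).choose ((p ^ v - 1) / p ^ j % p) = 1 := by
        intro j hj
        rw [Finset.mem_range] at hj
        have hjv : p ^ v = p ^ j * p ^ (v - j) := by rw [← pow_add, Nat.add_sub_cancel' hj.le]
        have hd : p ∣ i * p ^ (v - j) := Dvd.dvd.mul_left (dvd_pow_self p (by omega)) i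
        rw [Nat.add_sub_assoc hq]
        have : i * p ^ v + (p ^ v - 1) = (p ^ v - 1) + (i * p ^ (v - j)) * p ^ j := by rw [hjv]; ring
        rw [this, Nat.add_mul_div_right _ _ (pow_pos hp.pos j), Nat.add_mod, Nat.mod_eq_zero_of_dvd hd, add_zero, Nat.mod_mod, Nat.choose_self]
      rw [Finset.prod_eq_one (fun j hj => e1 j hj)]
      simp
    have hu : IsUnit ((Nat.uniformBell p (p ^ v) : ℕ) : A) := hA _ fun hd => hp.not_dvd_one ((Nat.ModEq.dvd_iff hb dvd_rfl).1 hd)
    have e1 := γ.dpow_comp (m := p) (pow_ne_zero v hp.ne_zero) hx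
    have e2 := γ'.dpow_comp (m := p) (pow_ne_zero v hp.ne_zero) hx
    rw [ih _ hlt hx, h _ (γ'.dpow_mem (pow_ne_zero v hp.ne_zero) hx), e2] at e1
    rw [mul_one, pow_succ']
    exact (hu.mul_left_cancel e1).symm
  · have hm0 : m ≠ 0 := fun h0 => hm (h0 ▸ dvd_zero p)
    have hlt : p ^ v < p ^ v * m := (Nat.lt_mul_iff_one_lt_right hpv).2 (by omega)
    have hlt' : p ^ v * m - p ^ v < p ^ v * m := by omega
    have e1 := γ.mul_dpow (m := p ^ v) (n := p ^ v * m - p ^ v) hx
    have e2 := γ'.mul_dpow (m := p ^ v) (n := p ^ v * m - p ^ v) hx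
    rw [ih _ hlt hx, ih _ hlt' hx, e2, Nat.add_sub_cancel' hlt.le] at e1
    have hc : Nat.choose (p ^ v * m) (p ^ v) ≡ m [MOD p] := by
      have := Choose.choose_pow_mul_pow_mul_modEq_choose_nat (p := p) (k := v) (a := m) (b := 1)
      rwa [mul_one, Nat.choose_one_right] at this
    exact ((hA _ fun hd => hm ((Nat.ModEq.dvd_iff hc dvd_rfl).1 hd)).mul_left_cancel e1).symm

end Groth.Agent.S2211
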