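import Groth.Statements.S2217
import Groth.Agent.OmegaCI.Fibre

set_option autoImplicit false
universe u
open Disc

namespace Groth.Agent.S2217

/-- Equivalence of (2) and (4) in the affine finite free case: let A be a Noetherian ring and B an
A-algebra which is finite free as an A-module (so A -> B is flat and quasi-finite). Then all fibre
rings kappa(p) tensor_A B are Gorenstein if and only if omega_{B/A} = Hom_A(B, A), with its B-module
structure through the argument, is an invertible B-module. -/
theorem result {A B : Type u} [CommRing A] [CommRing B]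
    [Algebra A B] [IsNoetherianRing A] [Module.Finite A B] [Module.Free A B] :
    (∀ (p : Ideal A) [p.IsPrime], LocCoh.IsGorensteinRing (p.Fiber B)) ↔
      Module.Invertible B (Disc.Omega A B) := by
  refine ⟨fun h => ?_, fun h p _ => OmegaCI.isGorensteinRing_fibre_of_invertible h p.ResidueField⟩
  haveI : IsNoetherianRing B := IsNoetherianRing.of_finite A B
  refine OmegaCI.invertible_omega_of_socle fun n _ => ?_
  let p := n.comap (algebraMap A B)
  haveI : p.IsMaximal := Ideal.isMaximal_comap_of_isIntegral_of_isMaximal n
  letI : Field (A ⧸ p) := Ideal.Quotient.field p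
  haveI : Module.Finite (A ⧸ p) (B ⧸ p.map (algebraMap A B)) := Module.Finite.of_restrictScalars_finite A _ _
  haveI : IsArtinianRing (B ⧸ p.map (algebraMap A B)) := IsArtinianRing.of_finite (A ⧸ p) _
  let σ : (A ⧸ p) ≃ₐ[A] p.ResidueField :=
    AlgEquiv.ofBijective (IsScalarTower.toAlgHom A (A ⧸ p) p.ResidueField)
      p.bijective_algebraMap_quotient_residueField
  let e : p.Fiber B ≃+* B ⧸ p.map (algebraMap A B) :=
    ((Algebra.TensorProduct.congr σ.symm (AlgEquiv.refl : B ≃ₐ[A] B)).toRingEquiv.trans
      (Algebra.TensorProduct.comm A (A ⧸ p) B).toRingEquiv).trans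
      (Algebra.TensorProduct.quotIdealMapEquivTensorQuot B p).symm.toRingEquiv
  haveI := h p
  haveI : LocCoh.IsGorensteinRing (B ⧸ p.map (algebraMap A B)) := SegreOne.isGorensteinRing_of_ringEquiv e
  haveI := Ideal.IsMaximal.map_of_surjective_of_ker_le (Ideal.Quotient.mk_surjective
    (I := p.map (algebraMap A B))) (m := n) (by rw [Ideal.mk_ker]; exact Ideal.map_comap_le)
  haveI := LocCoh.IsGorensteinRing.isGorensteinLocalRing_localization (n.map (Ideal.Quotient.mk (p.map (algebraMap A B))))
  exact OmegaCI.socPrincipal_of_gorenstein _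

end Groth.Agent.S2217
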