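import Mathlib
import Groth.Agent.TraceLocal.Basic
import Groth.Statements.S2219
-- import your own Groth.Agent.* helpers here

set_option autoImplicit false
universe u
open Disc

namespace Groth.Agent.S2219

/-- Equivalence of (1) and (3): let k be a field and A a finite-dimensional local k-algebra with residue
field k'. Then the trace map Tr_{A/k} is not identically zero if and only if k' is separable over k
and the length of A as a module over itself is not divisible by the characteristic of k (no
condition in characteristic zero). -/
theorem result (k A : Type u) [Field k] [CommRing A]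
    [Algebra k A] [FiniteDimensional k A] [IsLocalRing A] :
    Algebra.trace k A ≠ 0 ↔
      (Algebra.IsSeparable k (IsLocalRing.ResidueField A) ∧
        ∀ p : ℕ, p.Prime → CharP k p → ¬ p ∣ (Module.length A A).toNat) := by
  have hlen : (Module.length A A).toNat ≠ 0 := by
    have : IsArtinian A A := isArtinian_of_tower k inferInstance
    have : IsNoetherian A A := isNoetherian_of_tower k inferInstance
    intro h
    rcases ENat.toNat_eq_zero.mp h with h | h
    · exact not_subsingleton A (Module.length_eq_zero_iff.mp h)
    · exact Module.length_ne_top h
  have h1 : Algebra.trace k A ≠ 0 ↔ Function.Surjective (Algebra.trace k A) := by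
    refine ⟨LinearMap.surjective, fun h h0 => ?_⟩
    obtain ⟨a, ha⟩ := h 1
    rw [h0, LinearMap.zero_apply] at ha
    exact zero_ne_one ha
  rw [h1, Groth.TraceLocal.trace_surjective_iff]
  refine and_congr_right fun _ => ⟨fun h p _ hp => fun hd => h ((CharP.cast_eq_zero_iff k p _).mpr hd), fun h h0 => ?_⟩
  obtain ⟨p, hp⟩ := CharP.exists k
  rcases CharP.char_is_prime_or_zero k p with hprime | rfl
  · exact h p hprime hp ((CharP.cast_eq_zero_iff k p _).mp h0)
  · haveI := CharP.charP_to_charZero k
    exact hlen (Nat.cast_eq_zero.mp h0)

end Groth.Agent.S2219
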