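import Groth.Statements.S2220
import Groth.Agent.OmegaCI.Localize
import Groth.Agent.OmegaCI.OpenImm
import Mathlib.AlgebraicGeometry.Morphisms.FiniteType

set_option autoImplicit false
universe u
open AlgebraicGeometry
open Disc

namespace Groth.Agent.S2220

/-- Part (2): for ring maps A -> B' -> B with B' of finite type over A and Spec B -> Spec B' an open
immersion, the Noether different of B over A is the ideal generated by the image of that of B'. -/
theorem result {A B' B : Type u} [CommRing A] [CommRing B']
    [CommRing B] [Algebra A B'] [Algebra A B] [Algebra B' B] [IsScalarTower A B' B]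
    [Algebra.FiniteType A B']
    (h : IsOpenImmersion (Spec.map (CommRingCat.ofHom (algebraMap B' B)))) :
    Disc.noetherDifferent A B = (Disc.noetherDifferent A B').map (algebraMap B' B) := by
  haveI hft' : Algebra.FiniteType B' B := by
    haveI := h
    haveI : LocallyOfFiniteType (Spec.map (CommRingCat.ofHom (algebraMap B' B))) := inferInstance
    exact RingHom.finiteType_algebraMap.1 ((HasRingHomProperty.Spec_iff (P := @LocallyOfFiniteType)).1 this)
  haveI : Algebra.FiniteType A B := Algebra.FiniteType.trans (R := A) (S := B') (A := B) inferInstance hft'
  refine Ideal.eq_of_localization_maximal fun q hq => ?_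
  haveI : q.IsPrime := hq.isPrime
  obtain ⟨g, hg, hbij⟩ := OmegaCI.exists_awayMap_bijective (algebraMap B' B) h q
  let C := Localization.Away (algebraMap B' B g)
  have hcomp : ∀ x, Localization.awayMap (algebraMap B' B) g (algebraMap B' (Localization.Away g) x) =
      algebraMap B' C x := fun x => by
    rw [Localization.awayMap, IsLocalization.Away.map, IsLocalization.map_eq, ← IsScalarTower.algebraMap_apply]
  let eB : Localization.Away g ≃ₐ[B'] C :=
    AlgEquiv.ofBijective
      { Localization.awayMap (algebraMap B' B) g with commutes' := hcomp } hbij
  haveI : IsLocalization.Away g C := IsLocalization.isLocalization_of_algEquiv (Submonoid.powers g) eB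
  have hN : (Disc.noetherDifferent A B).map (algebraMap B C) =
      ((Disc.noetherDifferent A B').map (algebraMap B' B)).map (algebraMap B C) := by
    rw [Ideal.map_map, ← IsScalarTower.algebraMap_eq,
      ← OmegaCI.noetherDifferent_localization (Submonoid.powers (algebraMap B' B g)) C,
      ← OmegaCI.noetherDifferent_localization (Submonoid.powers g) C]
  have hu : IsUnit (algebraMap B (Localization.AtPrime q) (algebraMap B' B g)) :=
    IsLocalization.map_units (Localization.AtPrime q) (⟨algebraMap B' B g, hg⟩ : q.primeCompl)
  let ψ : C →+* Localization.AtPrime q := IsLocalization.Away.lift (algebraMap B' B g) hu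
  have hψ : ψ.comp (algebraMap B C) = algebraMap B (Localization.AtPrime q) :=
    IsLocalization.Away.lift_comp _ hu
  rw [← hψ, ← Ideal.map_map, hN, Ideal.map_map]

end Groth.Agent.S2220
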