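import Groth.Statements.S2225
import Groth.Agent.GorLib.SchemeFibre
-- import your own Groth.Agent.* helpers here

set_option autoImplicit false
universe u
open CategoryTheory AlgebraicGeometry
open Models

namespace Groth.Agent.S2225

/-- Part (1), for the closed fibre: let R be a discrete valuation ring with fraction field K, C a smooth
proper curve over K and X a regular model of C over R (flat, of finite type, all local rings
regular). Then every local ring of the special fibre X_k is a Gorenstein local ring; together with
flatness and regularity of the generic fibre this says X -> Spec R is a Gorenstein morphism. -/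
theorem result (R : Type u) [CommRing R] [IsDomain R]
    [IsDiscreteValuationRing R] (C X : Scheme.{u})
    (f : C ⟶ Spec (CommRingCat.of (FractionRing R))) (p : X ⟶ Spec (CommRingCat.of R))
    (hC : Curve.IsSmoothProperCurve (FractionRing R) C f) (hX : Models.IsModel R X p C f)
    (hreg : Models.IsRegularScheme X) (x : ↥(Models.specialFibre R X p)) :
    LocCoh.IsGorensteinLocalRing ((Models.specialFibre R X p).presheaf.stalk x) := by
  obtain ⟨hflat, hlft, -, -⟩ := hX
  haveI := hflat
  haveI := hlft
  haveI : IsLocallyNoetherian X := LocallyOfFiniteType.isLocallyNoetherian p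
  have hgor : ∀ y : X, LocCoh.IsGorensteinLocalRing (X.presheaf.stalk y) := fun y =>
    haveI := hreg y
    SemiGor.isGorensteinLocalRing_of_isRegularLocalRing _
  let m : PrimeSpectrum R := IsLocalRing.closedPoint R
  haveI : m.asIdeal.IsMaximal := IsLocalRing.maximalIdeal.isMaximal R
  let e : IsLocalRing.ResidueField R ≃+* m.asIdeal.ResidueField :=
    RingEquiv.ofBijective _ (Ideal.bijective_algebraMap_quotient_residueField m.asIdeal)
  let ψ : CommRingCat.of (IsLocalRing.ResidueField R) ≅ (Spec (CommRingCat.of R)).residueField m :=
    e.toCommRingCatIso ≪≫ (Scheme.Spec.residueFieldIso (CommRingCat.of R) m).symm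
  let σ := Spec.map (CommRingCat.ofHom (algebraMap R (IsLocalRing.ResidueField R)))
  have hψ : Spec.map ψ.hom ≫ σ = (Spec (CommRingCat.of R)).fromSpecResidueField m := by
    rw [← Scheme.Spec.map_residueFieldIso_inv_eq_fromSpecResidueField]
    simp only [ψ, Iso.trans_hom, Iso.symm_hom, Spec.map_comp, Category.assoc, σ]
    rw [← Spec.map_comp]
    rfl
  haveI : IsIso (Spec.map ψ.hom) := inferInstance
  haveI : IsLocallyNoetherian (Spec (CommRingCat.of R)) := inferInstance
  let E : p.fiber m ≅ Models.specialFibre R X p :=
    @asIso _ _ _ _ (Limits.pullback.map p ((Spec (CommRingCat.of R)).fromSpecResidueField m) p σ (𝟙 X) (Spec.map ψ.hom) (𝟙 _)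
      (by simp) (by simp [hψ])) (Limits.pullback.map_isIso _ _ _ _ _ _ _ _ _)
  exact GorLib.gorenstein_stalk_of_iso E.symm x (GorLib.gorenstein_fibre_stalk p hgor m _)

end Groth.Agent.S2225
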