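import Groth.Statements.S2232
import Groth.Agent.DQC.PerfTensorCoh
import Groth.Agent.DCohPerf.CohPC
import Groth.Agent.ModGroth.PerfLocal
import Groth.Agent.ProperOver.Basic
import Groth.Agent.DQCPush.CohBound
-- import your own Groth.Agent.* helpers here

set_option autoImplicit false
universe u
open CategoryTheory AlgebraicGeometry
attribute [local instance] HasDerivedCategory.standard
open QCohCat

namespace Groth.Agent.S2232

/-- Case (3): let S be Noetherian, X -> S and Y -> S of finite type with all local rings of X regular,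
and K a bounded complex of modules on X x_S Y with coherent cohomology sheaves whose supports are
proper over Y. Assuming the derived functors L pr_1^*, - tensor^L K and R pr_2,* exist (unproved
hypotheses carried as binders), the Fourier-Mukai transform of a bounded object of D(O_X) with
coherent cohomology sheaves is a bounded object of D(O_Y) with coherent cohomology sheaves. -/
theorem result {S X Y : Scheme.{u}} [IsNoetherian S]
    (a : X ⟶ S) (b : Y ⟶ S) [LocallyOfFiniteType a] [QuasiCompact a] [LocallyOfFiniteType b]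
    [QuasiCompact b] (hreg : Models.IsRegularScheme X)
    (K : CochainComplex (Limits.pullback a b).Modules ℤ)
    (hKcoh : DCoh.IsCohD (DCoh.toD (Limits.pullback a b) K)) (kₗ kᵤ : ℤ)
    (hKge : DerivedCategory.IsGE (DCoh.toD (Limits.pullback a b) K) kₗ)
    (hKle : DerivedCategory.IsLE (DCoh.toD (Limits.pullback a b) K) kᵤ)
    (hsupp : ∀ i : ℤ, ClSub.IsProperOver (Limits.pullback.snd a b)
      (CohB1.support (DCoh.HD (DCoh.toD (Limits.pullback a b) K) i)))
    [DCoh.HasLpull (Limits.pullback.fst a b)] [DCoh.HasLTensorCx K]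
    [DCoh.HasRpush (Limits.pullback.snd a b)]
    (M : DCoh.D X) (hM : DCoh.IsCohD M) (m n : ℤ) (hMge : DerivedCategory.IsGE M m)
    (hMle : DerivedCategory.IsLE M n) :
    DCoh.IsCohD ((DCoh.Rpush (Limits.pullback.snd a b)).obj
        ((DCoh.LTensorCx K).obj ((DCoh.Lpull (Limits.pullback.fst a b)).obj M))) ∧
      ∃ m' n' : ℤ, DerivedCategory.IsGE ((DCoh.Rpush (Limits.pullback.snd a b)).obj
        ((DCoh.LTensorCx K).obj ((DCoh.Lpull (Limits.pullback.fst a b)).obj M))) m' ∧
        DerivedCategory.IsLE ((DCoh.Rpush (Limits.pullback.snd a b)).obj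
        ((DCoh.LTensorCx K).obj ((DCoh.Lpull (Limits.pullback.fst a b)).obj M))) n' := by
  classical
  let p := Limits.pullback.fst a b
  let g := Limits.pullback.snd a b
  haveI : IsLocallyNoetherian Y := LocallyOfFiniteType.isLocallyNoetherian b
  haveI : CompactSpace Y := QuasiCompact.compactSpace_of_compactSpace b
  haveI : IsNoetherian Y := ⟨⟩
  haveI : IsLocallyNoetherian X := LocallyOfFiniteType.isLocallyNoetherian a
  haveI : IsLocallyNoetherian (Limits.pullback a b) := LocallyOfFiniteType.isLocallyNoetherian g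
  haveI : CompactSpace ↥(Limits.pullback a b) := QuasiCompact.compactSpace_of_compactSpace g
  haveI := hKge
  haveI := hKle
  haveI := hMge
  haveI := hMle
  have hP : DCoh.IsPerfect ((DCoh.Lpull p).obj M) :=
    ModGroth.Perf.isPerfect_lpull p M (DCohPerf.isPerfect_of_dbCoh_regular hreg ⟨hM, m, n, hMge, hMle⟩)
  let Z : Set ↥(Limits.pullback a b) :=
    ⋃ i : ↥(Finset.Icc kₗ kᵤ), CohB1.support (DCoh.HD (DCoh.toD (Limits.pullback a b) K) i)
  have hZp : ClSub.IsProperOver g Z := ProperOver.iUnion _ fun i => hsupp i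
  have hZ : ∀ i, CohB1.support (DCoh.HD (DCoh.toD (Limits.pullback a b) K) i) ⊆ Z := fun i z hz => by
    by_cases hi : i ∈ Finset.Icc kₗ kᵤ
    · exact Set.mem_iUnion.2 ⟨⟨i, hi⟩, hz⟩
    · refine absurd (QCohLib.subsingleton_stalk_of_isZero ?_ z) hz
      rw [Finset.mem_Icc, not_and_or, not_le, not_le] at hi
      rcases hi with hi | hi
      · exact DerivedCategory.isZero_of_isGE (DCoh.toD _ K) kₗ i hi
      · exact DerivedCategory.isZero_of_isLE (DCoh.toD _ K) kᵤ i hi
  obtain ⟨h1, m', n', h2, h3, h4⟩ := DQC.PerfTensorCoh.main K hKcoh kₗ kᵤ Z hZ ((DCoh.Lpull p).obj M) hP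
  have hp : ∀ i, ClSub.IsProperOver g (CohB1.support (DCoh.HD ((DCoh.LTensorCx K).obj ((DCoh.Lpull p).obj M)) i)) :=
    fun i => ProperOver.mono hZp (QCohLib.isClosed_support (h1 i).2) (h4 i)
  haveI := h2
  haveI := h3
  obtain ⟨b', hb'⟩ := DQCPush.exists_isLE_Rpush g _ m' n' h1 hp
  exact ⟨DQCPush.isCohD_Rpush_of_isGE g _ m' h1 hp, m', b', DQCPush.isGE_Rpush g _ m', hb'⟩

end Groth.Agent.S2232
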