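import Groth.Statements.S2235
import Groth.Agent.KoszulLib.Kappa
import Mathlib.LinearAlgebra.Matrix.Adjugate

set_option autoImplicit false
universe u
open TensorProduct
open Disc

namespace Groth.Agent.S2235

theorem core {R S : Type u} [CommRing R] [CommRing S] {n : ℕ} (q : R →+* S) (hq : Function.Surjective q)
    (f g : Fin n → R) (c : Matrix (Fin n) (Fin n) R) (hc : ∀ i, f i = ∑ j, c i j * g j)
    (hkerq : RingHom.ker q = Ideal.span (Set.range f)) (hex : KoszulLib.Ex (List.ofFn f))
    (K : Ideal S) (hK : K = Ideal.span (Set.range (q ∘ g))) :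
    Submodule.annihilator K = Ideal.span {q c.det} := by
  classical
  subst hK
  ext y
  obtain ⟨a, rfl⟩ := hq y
  rw [Submodule.mem_annihilator, Ideal.mem_span_singleton]
  constructor
  · intro h
    have ha : ∀ j, a * g j ∈ Ideal.span (Set.range f) := fun j => by
      rw [← hkerq, RingHom.mem_ker, map_mul]
      exact h _ (Ideal.subset_span ⟨j, rfl⟩)
    obtain ⟨u, hu, v, hv, rfl⟩ := Submodule.mem_sup.1
      (KoszulLib.mem_sup_det_of_smul_mem f g c hc hex a ha)
    obtain ⟨w, rfl⟩ := Ideal.mem_span_singleton'.1 hv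
    rw [← hkerq, RingHom.mem_ker] at hu
    exact ⟨q w, by rw [map_add, hu, zero_add, map_mul, mul_comm]⟩
  · rintro ⟨w, hw⟩ z hz
    rw [smul_eq_mul, hw]
    refine Submodule.span_induction ?_ (mul_zero _) (fun a b _ _ ha hb => by rw [mul_add, ha, hb, add_zero])
      (fun r a _ ha => by rw [smul_eq_mul, mul_left_comm, ha, mul_zero]) hz
    rintro _ ⟨j, rfl⟩
    have hdet : c.det * g j ∈ Ideal.span (Set.range f) := by
      have hf' : f = c.mulVec g := funext hc
      have h1 : c.det • g = c.adjugate.mulVec f := by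
        rw [hf', Matrix.mulVec_mulVec, Matrix.adjugate_mul,
          Matrix.smul_mulVec, Matrix.one_mulVec]
      rw [show c.det * g j = c.adjugate.mulVec f j from congrFun h1 j]
      simp only [Matrix.mulVec, dotProduct]; exact Ideal.sum_mem _ fun k _ => Ideal.mul_mem_left _ _ (Ideal.subset_span (Set.mem_range_self k))
    rw [← hkerq, RingHom.mem_ker, map_mul] at hdet
    rw [Function.comp_apply, mul_right_comm, hdet, zero_mul]

/-- Let A -> P be a ring map, f_1, ..., f_n a Koszul-regular sequence in P with B = P/(f_1, ..., f_n)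
flat over A, and g_1, ..., g_n a Koszul-regular sequence in P tensor_A B generating the kernel of
the multiplication map P tensor_A B -> B. Write f_i tensor 1 = sum_j c_ij g_j. Then the annihilator
of the kernel of B tensor_A B -> B is the principal ideal generated by the image of det(c_ij). -/
theorem result {A P : Type u} [CommRing A] [CommRing P] [Algebra A P]
    {n : ℕ} (f : Fin n → P) (hf : LCI.IsKoszulRegularSeq P (List.ofFn f))
    [Module.Flat A (P ⧸ Ideal.span (Set.range f))]
    (g : Fin n → P ⊗[A] (P ⧸ Ideal.span (Set.range f)))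
    (hg : LCI.IsKoszulRegularSeq (P ⊗[A] (P ⧸ Ideal.span (Set.range f))) (List.ofFn g))
    (hgker : Ideal.span (Set.range g) = RingHom.ker (Algebra.TensorProduct.productMap
      (Ideal.Quotient.mkₐ A (Ideal.span (Set.range f))) (AlgHom.id A (P ⧸ Ideal.span (Set.range f)))))
    (c : Matrix (Fin n) (Fin n) (P ⊗[A] (P ⧸ Ideal.span (Set.range f))))
    (hc : ∀ i, f i ⊗ₜ[A] (1 : P ⧸ Ideal.span (Set.range f)) = ∑ j, c i j * g j) :
    Submodule.annihilator (RingHom.ker
        (Algebra.TensorProduct.lmul' (S := P ⧸ Ideal.span (Set.range f)) A)) =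
      Ideal.span {Algebra.TensorProduct.map (Ideal.Quotient.mkₐ A (Ideal.span (Set.range f)))
        (AlgHom.id A (P ⧸ Ideal.span (Set.range f))) (Matrix.det c)} := by
  classical
  let I : Ideal P := Ideal.span (Set.range f)
  let q : P ⊗[A] (P ⧸ I) →ₐ[A] (P ⧸ I) ⊗[A] (P ⧸ I) :=
    Algebra.TensorProduct.map (Ideal.Quotient.mkₐ A I) (AlgHom.id A (P ⧸ I))
  let f' : Fin n → P ⊗[A] (P ⧸ I) := fun i => f i ⊗ₜ[A] (1 : P ⧸ I)
  have hq : Function.Surjective q :=
    TensorProduct.map_surjective (Ideal.Quotient.mkₐ_surjective A I) Function.surjective_id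
  have hkerq : RingHom.ker q = Ideal.span (Set.range f') := by
    have h1 : RingHom.ker q = (RingHom.ker (Ideal.Quotient.mkₐ A I)).map
        (Algebra.TensorProduct.includeLeft : P →ₐ[A] P ⊗[A] (P ⧸ I)) :=
      Algebra.TensorProduct.rTensor_ker (C := P ⧸ I) _ (Ideal.Quotient.mkₐ_surjective A I)
    rw [h1, show RingHom.ker (Ideal.Quotient.mkₐ A I) = I from Ideal.Quotient.mkₐ_ker A I,
      Ideal.map_span, ← Set.range_comp]
    rfl
  have hex : KoszulLib.Ex (List.ofFn f') := by
    have h := ((KoszulLib.ex_iff _).2 hf).baseChange (S := P ⊗[A] (P ⧸ I))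
    rwa [List.map_ofFn] at h
  have hcomp : ∀ x : P ⊗[A] (P ⧸ I), Algebra.TensorProduct.lmul' (S := P ⧸ I) A (q x) =
      Algebra.TensorProduct.productMap (Ideal.Quotient.mkₐ A I) (AlgHom.id A (P ⧸ I)) x := by
    intro x
    induction x using TensorProduct.induction_on with
    | zero => simp only [map_zero]
    | tmul y b => exact rfl
    | add a b ha hb => simp only [map_add, ha, hb]
  refine core (q : P ⊗[A] (P ⧸ I) →+* (P ⧸ I) ⊗[A] (P ⧸ I)) hq f' g c hc hkerq hex _ ?_
  ext y
  obtain ⟨x, rfl⟩ := hq y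
  rw [RingHom.mem_ker, hcomp, Set.range_comp, ← Ideal.map_span, hgker,
    Ideal.mem_map_iff_of_surjective (q : P ⊗[A] (P ⧸ I) →+* (P ⧸ I) ⊗[A] (P ⧸ I)) hq]
  refine ⟨fun h => ⟨x, h, rfl⟩, fun ⟨x', hx', hxx⟩ => ?_⟩
  rw [RingHom.mem_ker] at hx'
  rw [← hcomp, ← show q x' = q x from hxx, hcomp]
  exact hx'

end Groth.Agent.S2235
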