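import Groth.Statements.S8255
-- import your own Groth.Agent.* helpers here

set_option autoImplicit false
universe u
open CategoryTheory CategoryTheory.Limits AlgebraicGeometry Opposite TopologicalSpace
open EGA2

namespace Groth.Agent.S8255

/-- Let S be a scheme and A a quasi-coherent O_S-algebra, and let π : Spec(A) → S be its relative
spectrum (glued from the affine schemes Spec A(U), U an affine open of S). Then the canonical
comparison map π_* O_{Spec(A)} → A (which over an affine open U is restriction to the chart Spec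
A(U) followed by Γ(Spec R) = R) is an isomorphism; in other words the direct-image algebra of
Spec(A) is A. -/
theorem result {S : Scheme.{u}} (A : RelSpec.QCAlg S) : IsIso A.gammaMap := by
  let F : TopCat.Sheaf CommRingCat.{u} S.carrier :=
    ⟨A.π.base _* A.spec.presheaf, TopCat.Sheaf.pushforward_sheaf_of_sheaf _ A.spec.sheaf.property⟩
  let G : TopCat.Sheaf CommRingCat.{u} S.carrier := ⟨A.presheaf, A.isSheaf⟩
  have hiso : IsIso (Functor.whiskerLeft (Scheme.AffineZariskiSite.toOpensFunctor S).op A.gammaMap) := by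
    rw [A.gammaMap_restrict]
    refine (NatTrans.isIso_iff_isIso_app _).mpr fun V => ?_
    change IsIso (A.gammaAff V.unop.1 V.unop.2)
    have hpre : A.π ⁻¹ᵁ V.unop.1 ≤ (A.ι V.unop.1 V.unop.2).opensRange := (A.π_preimage _ _).le
    have := Scheme.Hom.isIso_app (A.ι V.unop.1 V.unop.2) (A.π ⁻¹ᵁ V.unop.1) hpre
    have e : (A.ι V.unop.1 V.unop.2) ⁻¹ᵁ (A.π ⁻¹ᵁ V.unop.1) = ⊤ := top_le_iff.mp (A.top_le_preimage _ V.unop.2)
    unfold RelSpec.QCAlg.gammaAff Scheme.Hom.appLE
    have : IsIso ((Spec (A.presheaf.obj (op V.unop.1))).presheaf.map (homOfLE (A.top_le_preimage _ V.unop.2)).op) := by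
      rw [show (homOfLE (A.top_le_preimage _ V.unop.2)) = eqToHom e.symm from Subsingleton.elim _ _]
      infer_instance
    infer_instance
  have h := CategoryTheory.Functor.IsCoverDense.iso_of_restrict_iso
    (G := Scheme.AffineZariskiSite.toOpensFunctor S) (K := Opens.grothendieckTopology S)
    (ℱ := F) (ℱ' := G) ⟨A.gammaMap⟩ hiso
  exact (sheafToPresheaf _ _).map_isIso (⟨A.gammaMap⟩ : F ⟶ G)

end Groth.Agent.S8255
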