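import Groth.Statements.S3571
import Groth.Agent.RelSpecExist.Basic
import Groth.Agent.S8255

set_option autoImplicit false
set_option linter.style.haveILetI false
universe u
open CategoryTheory AlgebraicGeometry TopologicalSpace
open EGA2

namespace Groth.Agent.S3571

/-- Let S be a scheme and B a sheaf of commutative rings on S with a morphism O_S → B making B a
quasi-coherent O_S-module (a quasi-coherent O_S-algebra). Then there are a scheme X and an affine
morphism f : X → S together with an isomorphism of sheaves of rings B ≅ f_*O_X compatible with the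
two structure maps from O_S (X is the relative spectrum of B; it is in fact unique up to unique
S-isomorphism, but only existence is asserted here). -/
theorem result {S : Scheme.{u}}
    (B : Sheaf (Opens.grothendieckTopology S) CommRingCat.{u}) (φ : S.sheaf ⟶ B)
    (hB : Coh.IsQCoh ((SheafOfModules.restrictScalars
      ((sheafCompose (Opens.grothendieckTopology S) (forget₂ CommRingCat.{u} RingCat.{u})).map φ)).obj
      (SheafOfModules.unit ((sheafCompose (Opens.grothendieckTopology S) (forget₂ CommRingCat.{u} RingCat.{u})).obj B)))) :
    ∃ (X : Scheme.{u}) (f : X ⟶ S) (_ : IsAffineHom f)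
      (e : B ≅ (TopCat.Sheaf.pushforward CommRingCat.{u} f.base).obj X.sheaf),
      (φ ≫ e.hom).hom = f.c := by
  let A := Groth.Agent.RelSpecExist.qcAlg B φ hB
  haveI : IsIso A.gammaMap := Groth.Agent.S8255.result A
  let i : A.π.base _* A.spec.presheaf ≅ A.presheaf := @asIso _ _ _ _ A.gammaMap this
  let e : B ≅ (TopCat.Sheaf.pushforward CommRingCat.{u} A.π.base).obj A.spec.sheaf :=
    (sheafToPresheaf _ _).preimageIso i.symm
  refine ⟨A.spec, A.π, inferInstance, e, ?_⟩
  have he : e.hom.hom = i.inv :=
    Functor.map_preimage (X := B) (Y := (TopCat.Sheaf.pushforward CommRingCat.{u} A.π.base).obj A.spec.sheaf)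
      (sheafToPresheaf _ _) i.symm.hom
  change φ.hom ≫ e.hom.hom = A.π.c
  rw [he]
  exact (Iso.comp_inv_eq i).mpr A.π_c_gammaMap.symm

end Groth.Agent.S3571
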