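import Groth.Statements.S2328
import Groth.Agent.InvPow.Ample
-- import your own Groth.Agent.* helpers here

set_option autoImplicit false
universe u
open CategoryTheory CategoryTheory.Limits AlgebraicGeometry
open EGA2

namespace Groth.Agent.S2328

/-- Let X be a quasi-compact separated scheme, L an ample invertible module and L' an invertible module
such that every point of X lies in the generating locus X_{s'} of some global section s' of some
positive power of L'. Then L ⊗ L' is ample. -/
theorem result (X : Scheme.{u}) [CompactSpace X] [X.IsSeparated] (L L' : X.Modules) (hL : CohB1.IsAmple L) (hL' : PicF.IsInvertible L')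
    (h : ∀ x : X, ∃ (n : ℕ) (s' : Coh.structureModule X ⟶ CohB1.tensorPow L' (n + 1)), x ∈ CohB1.genLocus _ s') :
    CohB1.IsAmple (CohB1.tensorMod L L') := by
  refine Groth.Agent.InvPow.isAmple_tensor hL hL' fun x => ?_
  obtain ⟨n, s, hx⟩ := h x
  obtain ⟨σ, rfl⟩ := Groth.Agent.InvPow.exists_globalHom_eq s
  rw [Groth.Agent.InvPow.genLocus_globalHom (Groth.Agent.InvPow.isInvertible_tensorPow hL' _)] at hx
  exact ⟨n + 1, Nat.succ_pos n, σ, hx⟩

end Groth.Agent.S2328
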