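import Groth.Statements.S4380
import Groth.Agent.InvPow.RelAmple
-- import your own Groth.Agent.* helpers here

set_option autoImplicit false
universe u
open CategoryTheory CategoryTheory.Limits AlgebraicGeometry
open EGA2

namespace Groth.Agent.S4380

/-- Let f : X → Y be a quasi-compact morphism, L an O_X-module and (U_i) a cover of Y by open subsets.
Then L is ample relative to f if and only if, for every i, the restriction of L to f⁻¹(U_i) is ample
relative to the restriction f⁻¹(U_i) → U_i of f. -/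
theorem result {X Y : Scheme.{u}} (f : X ⟶ Y) [QuasiCompact f] (L : X.Modules)
    {ι : Type u} (U : ι → Y.Opens) (hU : ⨆ i, U i = ⊤) :
    RelAmple.IsRelAmple f L ↔ ∀ i, RelAmple.IsRelAmple (f ∣_ (U i)) (L.restrict (f ⁻¹ᵁ (U i)).ι) := by
  constructor
  · intro h i
    obtain ⟨_, hV⟩ := (InvPow.isRelAmple_iff f).mp h
    refine InvPow.isRelAmple_of_local _ fun y => ?_
    obtain ⟨V, hVaff, hyV, hVU⟩ := exists_isAffineOpen_mem_and_subset (x := y.1) (U := U i) y.2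
    refine ⟨(U i).ι ⁻¹ᵁ V, hyV, ?_⟩
    have : CompactSpace ((f ∣_ U i) ⁻¹ᵁ ((U i).ι ⁻¹ᵁ V)) := by
      refine isCompact_iff_compactSpace.mp ((f ∣_ U i).isCompact_preimage (IsAffineOpen.isCompact ?_))
      exact hVaff.preimage_of_isOpenImmersion (U i).ι (by rwa [Scheme.Opens.opensRange_ι])
    refine InvPow.isAmple_of_iso ((Scheme.Modules.pullbackComp _ _).app L).symm ?_ |> fun h' =>
      InvPow.isAmple_of_iso ((Scheme.Modules.pullback _).mapIso
        ((Scheme.Modules.restrictFunctorIsoPullback (f ⁻¹ᵁ U i).ι).app L).symm) h'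
    refine InvPow.isAmple_pullback_of_le (hV ⟨V, hVaff⟩) _ ?_
    rintro _ ⟨z, rfl⟩
    have hz := z.2
    change (U i).ι ((f ∣_ U i) z.1) ∈ V at hz
    rwa [← Scheme.Hom.comp_apply, morphismRestrict_ι] at hz
  · intro h
    refine InvPow.isRelAmple_of_local f fun y => ?_
    have hy : y ∈ ⨆ i, U i := hU ▸ trivial
    obtain ⟨i, hi⟩ := TopologicalSpace.Opens.mem_iSup.mp hy
    obtain ⟨V, hVaff, hyV, hVU⟩ := exists_isAffineOpen_mem_and_subset (x := y) (U := U i) hi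
    refine ⟨V, hyV, ?_⟩
    let V' : (U i : Scheme.{u}).Opens := (U i).ι ⁻¹ᵁ V
    have hV' : IsAffineOpen V' := hVaff.preimage_of_isOpenImmersion (U i).ι (by rwa [Scheme.Opens.opensRange_ι])
    let W' : (f ⁻¹ᵁ U i : Scheme.{u}).Opens := (f ∣_ U i) ⁻¹ᵁ V'
    have h' : InvPow.AmpOn (L.restrict (f ⁻¹ᵁ U i).ι) W' := ((InvPow.isRelAmple_iff _).mp (h i)).2 ⟨V', hV'⟩
    have h'' := InvPow.isAmple_of_iso ((Scheme.Modules.pullback W'.ι).mapIso
        ((Scheme.Modules.restrictFunctorIsoPullback (f ⁻¹ᵁ U i).ι).app L) ≪≫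
      (Scheme.Modules.pullbackComp W'.ι (f ⁻¹ᵁ U i).ι).app L) h'
    have hle : f ⁻¹ᵁ V ≤ f ⁻¹ᵁ U i := fun x hx => hVU hx
    have hr : Set.range (f ⁻¹ᵁ V).ι ⊆ Set.range (W'.ι ≫ (f ⁻¹ᵁ U i).ι) := by
      rintro _ ⟨x, rfl⟩
      refine ⟨⟨⟨x.1, hle x.2⟩, ?_⟩, rfl⟩
      show (U i).ι ((f ∣_ U i) ⟨x.1, hle x.2⟩) ∈ V
      rw [← Scheme.Hom.comp_apply, morphismRestrict_ι]
      exact x.2
    let j := IsOpenImmersion.lift (W'.ι ≫ (f ⁻¹ᵁ U i).ι) (f ⁻¹ᵁ V).ι hr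
    have hj : j ≫ W'.ι ≫ (f ⁻¹ᵁ U i).ι = (f ⁻¹ᵁ V).ι := IsOpenImmersion.lift_fac _ _ _
    have : IsOpenImmersion (j ≫ W'.ι ≫ (f ⁻¹ᵁ U i).ι) := hj ▸ inferInstance
    have : IsOpenImmersion j := IsOpenImmersion.of_comp j (W'.ι ≫ (f ⁻¹ᵁ U i).ι)
    have : CompactSpace (f ⁻¹ᵁ V) := isCompact_iff_compactSpace.mp (f.isCompact_preimage hVaff.isCompact)
    exact InvPow.isAmple_of_iso ((Scheme.Modules.pullbackComp j _).app L ≪≫ (Scheme.Modules.pullbackCongr hj).app L)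
      (InvPow.isAmple_pullback_openImm h'' j)

end Groth.Agent.S4380
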