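import Groth.Statements.S2331
import Groth.Agent.InvPow.Compose
import Groth.Agent.S4380
-- import your own Groth.Agent.* helpers here

set_option autoImplicit false
universe u
open CategoryTheory CategoryTheory.Limits AlgebraicGeometry
open EGA2

namespace Groth.Agent.S2331

/-- Let Z be quasi-compact, f : X → Y and g : Y → Z quasi-compact morphisms, L an O_X-module ample
relative to f and K an O_Y-module ample relative to g. Then there is n₀ > 0 such that L ⊗
f^*(K^{⊗n}) is ample relative to g ∘ f for every n ≥ n₀. -/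
theorem result {X Y Z : Scheme.{u}} [CompactSpace Z] (f : X ⟶ Y) (g : Y ⟶ Z)
    [QuasiCompact f] [QuasiCompact g] (L : X.Modules) (K : Y.Modules)
    (hL : RelAmple.IsRelAmple f L) (hK : RelAmple.IsRelAmple g K) :
    ∃ n₀ : ℕ, 0 < n₀ ∧ ∀ n, n₀ ≤ n →
      RelAmple.IsRelAmple (f ≫ g) (CohB1.tensorMod L ((Scheme.Modules.pullback f).obj (CohB1.tensorPow K n))) := by
  classical
  have hLi := InvPow.isInvertible_of_isRelAmple hL
  have hKi := InvPow.isInvertible_of_isRelAmple hK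
  choose V hV hzV _ using fun z : Z =>
    exists_isAffineOpen_mem_and_subset (x := z) (U := ⊤) (TopologicalSpace.Opens.mem_top z)
  obtain ⟨S, hS⟩ := isCompact_univ.elim_finite_subcover (fun z => (V z : Set Z)) (fun z => (V z).2)
    (fun z _ => Set.mem_iUnion.mpr ⟨z, hzV z⟩)
  have key : ∀ z, ∃ n₀, 0 < n₀ ∧ ∀ n, n₀ ≤ n →
      InvPow.AmpOn (CohB1.tensorMod L ((Scheme.Modules.pullback f).obj (CohB1.tensorPow K n))) (f ⁻¹ᵁ (g ⁻¹ᵁ V z)) := by
    intro z
    let W := g ⁻¹ᵁ V z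
    have hKW : InvPow.AmpOn K W := ((InvPow.isRelAmple_iff g).mp hK).2 ⟨V z, hV z⟩
    let U : ULift.{u} Bool → Y.Opens := fun b => if b.down then W else ⊤
    have hres : RelAmple.IsRelAmple (f ∣_ U ⟨true⟩) (L.restrict (f ⁻¹ᵁ U ⟨true⟩).ι) :=
      (Groth.Agent.S4380.result f L U (top_le_iff.mp fun y _ =>
        TopologicalSpace.Opens.mem_iSup.mpr ⟨⟨false⟩, by simp [U]⟩)).mp hL ⟨true⟩
    have hres' : RelAmple.IsRelAmple (f ∣_ W) (L.restrict (f ⁻¹ᵁ W).ι) := by simpa [U] using hres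
    obtain ⟨n₀, hn₀, h⟩ := InvPow.exists_isAmple_tensor_pullback (f ∣_ W) hKW hres'
    refine ⟨n₀, hn₀, fun n hn => ?_⟩
    have hKn := InvPow.isInvertible_tensorPow hKi n
    obtain ⟨e1⟩ := InvPow.nonempty_pullback_tensor_iso (f ⁻¹ᵁ W).ι hLi (ProjUniv.isInvertible_pullback f hKn)
    obtain ⟨e2⟩ := InvPow.nonempty_pullback_pow_iso W.ι hKi n
    refine InvPow.isAmple_of_iso ((e1 ≪≫ PicGrp.tensorModIso
      ((Scheme.Modules.restrictFunctorIsoPullback (f ⁻¹ᵁ W).ι).app L).symm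
      ((Scheme.Modules.pullbackComp (f ⁻¹ᵁ W).ι f).app _ ≪≫
        (Scheme.Modules.pullbackCongr (morphismRestrict_ι f W).symm).app _ ≪≫
        ((Scheme.Modules.pullbackComp (f ∣_ W) W.ι).app _).symm ≪≫
        (Scheme.Modules.pullback (f ∣_ W)).mapIso e2)).symm) (h n hn)
  choose n₀ hn₀ h using key
  refine ⟨S.sup n₀ + 1, Nat.succ_pos _, fun n hn => InvPow.isRelAmple_of_local (f ≫ g) fun z => ?_⟩
  obtain ⟨z₀, hz₀, hz⟩ := Set.mem_iUnion₂.mp (hS (Set.mem_univ z))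
  exact ⟨V z₀, hz, h z₀ n ((Finset.le_sup hz₀).trans (by omega))⟩

end Groth.Agent.S2331
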