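import Groth.Statements.S2332
import Groth.Agent.InvPow.RelAmple
-- import your own Groth.Agent.* helpers here

set_option autoImplicit false
universe u
open CategoryTheory CategoryTheory.Limits AlgebraicGeometry
open EGA2

namespace Groth.Agent.S2332

/-- Let f : X → Y be quasi-compact, g : Y' → Y any morphism, and L an O_X-module ample relative to f.
Then the pullback of L to X ×_Y Y' is ample relative to the base-changed morphism X ×_Y Y' → Y'. -/
theorem result {X Y Y' : Scheme.{u}} (f : X ⟶ Y) [QuasiCompact f] (g : Y' ⟶ Y) (L : X.Modules)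
    (hL : RelAmple.IsRelAmple f L) :
    RelAmple.IsRelAmple (pullback.snd f g) ((Scheme.Modules.pullback (pullback.fst f g)).obj L) := by
  obtain ⟨_, hW⟩ := (InvPow.isRelAmple_iff f).mp hL
  refine InvPow.isRelAmple_of_local _ fun y => ?_
  obtain ⟨U, hU, hyU, -⟩ := exists_isAffineOpen_mem_and_subset (x := g y) (U := ⊤) (TopologicalSpace.Opens.mem_top _)
  obtain ⟨B, hB, hyB, hBU⟩ := exists_isAffineOpen_mem_and_subset (x := y) (U := g ⁻¹ᵁ U) hyU
  refine ⟨B, hyB, ?_⟩
  let W := pullback.snd f g ⁻¹ᵁ B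
  have : CompactSpace W := isCompact_iff_compactSpace.mp ((pullback.snd f g).isCompact_preimage hB.isCompact)
  have hrange : Set.range (W.ι ≫ pullback.fst f g) ⊆ Set.range (f ⁻¹ᵁ U).ι := by
    rintro _ ⟨w, rfl⟩
    rw [Scheme.Opens.range_ι]
    show f (pullback.fst f g w.1) ∈ U
    rw [← Scheme.Hom.comp_apply, pullback.condition]
    exact hBU w.2
  let k := IsOpenImmersion.lift (f ⁻¹ᵁ U).ι (W.ι ≫ pullback.fst f g) hrange
  have hk : k ≫ (f ⁻¹ᵁ U).ι = W.ι ≫ pullback.fst f g := IsOpenImmersion.lift_fac _ _ _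
  refine InvPow.isAmple_of_iso ((Scheme.Modules.pullbackComp k _).app L ≪≫
    (Scheme.Modules.pullbackCongr hk).app L ≪≫ ((Scheme.Modules.pullbackComp _ _).app L).symm)
    (InvPow.isAmple_pullback (hW ⟨U, hU⟩) k fun w => ?_)
  obtain ⟨A, hA, hwA, hAU⟩ := exists_isAffineOpen_mem_and_subset (x := (k w).1) (U := f ⁻¹ᵁ U) (k w).2
  refine ⟨(f ⁻¹ᵁ U).ι ⁻¹ᵁ A, hwA, ?_⟩
  rw [← Scheme.Hom.comp_preimage, hk, Scheme.Hom.comp_preimage,
    ← Scheme.Hom.isAffineOpen_iff_of_isOpenImmersion W.ι, Scheme.Hom.image_preimage_eq_opensRange_inf,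
    Scheme.Opens.opensRange_ι, inf_comm]
  exact InvPow.isAffineOpen_pullback_inf f g hA hU hB hAU hBU

end Groth.Agent.S2332
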