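import Groth.Statements.S2333
import Groth.Agent.InvPow.RelAmple
-- import your own Groth.Agent.* helpers here

set_option autoImplicit false
universe u
open CategoryTheory CategoryTheory.Limits AlgebraicGeometry
open EGA2

namespace Groth.Agent.S2333

/-- Let f : X → Y and g : Y → Z be morphisms of schemes with f quasi-compact, and L an O_X-module which
is ample relative to the composite g ∘ f. Then L is ample relative to f. (No separatedness
hypothesis on g is imposed.) -/
theorem result {X Y Z : Scheme.{u}} (f : X ⟶ Y) (g : Y ⟶ Z) [QuasiCompact f]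
    (L : X.Modules) (hL : RelAmple.IsRelAmple (f ≫ g) L) : RelAmple.IsRelAmple f L := by
  obtain ⟨_, hW⟩ := (InvPow.isRelAmple_iff (f ≫ g)).mp hL
  refine InvPow.isRelAmple_of_local f fun y => ?_
  obtain ⟨W, hWaff, hyW, -⟩ := exists_isAffineOpen_mem_and_subset (x := g y) (U := ⊤) (TopologicalSpace.Opens.mem_top _)
  obtain ⟨U, hU, hyU, hUW⟩ := exists_isAffineOpen_mem_and_subset (x := y) (U := g ⁻¹ᵁ W) hyW
  have : CompactSpace (f ⁻¹ᵁ U) := isCompact_iff_compactSpace.mp (f.isCompact_preimage hU.isCompact)
  exact ⟨U, hyU, InvPow.ampOn_mono (hW ⟨W, hWaff⟩) fun x hx => hUW hx⟩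

end Groth.Agent.S2333
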