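import Groth.Statements.S2334
import Groth.Agent.UnivClosed.Dvr
-- import your own Groth.Agent.* helpers here

set_option autoImplicit false
universe u
open CategoryTheory CategoryTheory.Limits AlgebraicGeometry
open EGA2

namespace Groth.Agent.S2334

/-- Locally Noetherian case of the valuative criterion of separatedness: let Y be a locally Noetherian
scheme and f : X → Y locally of finite type. Then f is separated if and only if for every discrete
valuation ring A with fraction field K, any two morphisms Spec A → X with the same composite to Y
which agree on Spec K are equal. (In the general criterion the diagonal must be assumed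
quasi-compact; that is automatic here.) -/
theorem result {X Y : Scheme.{u}} [IsLocallyNoetherian Y] (f : X ⟶ Y) [LocallyOfFiniteType f] :
    IsSeparated f ↔ ∀ (A : Type u) [CommRing A] [IsDomain A] [IsDiscreteValuationRing A] (g₁ g₂ : (Spec (CommRingCat.of A)) ⟶ X),
      g₁ ≫ f = g₂ ≫ f → (Spec.map (CommRingCat.ofHom (algebraMap A (FractionRing A)))) ≫ g₁ = (Spec.map (CommRingCat.ofHom (algebraMap A (FractionRing A)))) ≫ g₂ → g₁ = g₂ := by
  refine ⟨fun _ A _ _ _ g₁ g₂ h hK => ?_, fun H => UnivClosed.isSeparated_of_dvr f fun A _ _ _ K _ _ _ l l' hll hK => H A l l' hll ?_⟩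
  · haveI : IsDominant (Spec.map (CommRingCat.ofHom (algebraMap A (FractionRing A)))) := ⟨by
      change DenseRange (PrimeSpectrum.comap (algebraMap A (FractionRing A)))
      rw [PrimeSpectrum.denseRange_comap_iff_ker_le_nilRadical, (RingHom.injective_iff_ker_eq_bot _).1 (IsFractionRing.injective A (FractionRing A))]
      exact bot_le⟩
    exact ext_of_isDominant_of_isSeparated f h _ hK
  · let e := FractionRing.algEquiv A K
    have he' : CommRingCat.ofHom (algebraMap A K) ≫ CommRingCat.ofHom e.symm.toRingHom =
        CommRingCat.ofHom (algebraMap A (FractionRing A)) := by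
      ext a; exact e.symm.commutes a
    rw [← he', Spec.map_comp_assoc, Spec.map_comp_assoc, hK]

end Groth.Agent.S2334
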