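import Groth.Statements.S2335
import Groth.Agent.UnivClosed.Dvr
-- import your own Groth.Agent.* helpers here

set_option autoImplicit false
universe u
open CategoryTheory CategoryTheory.Limits AlgebraicGeometry
open EGA2

namespace Groth.Agent.S2335

/-- Let Y be locally Noetherian and f : X → Y of finite type. Then f is proper if and only if for every
discrete valuation ring A with fraction field K and every commutative square Spec K → X, Spec A → Y,
there is exactly one morphism Spec A → X making both triangles commute. -/
theorem result {X Y : Scheme.{u}} [IsLocallyNoetherian Y] (f : X ⟶ Y) [LocallyOfFiniteType f] [QuasiCompact f] :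
    IsProper f ↔ ∀ (A : Type u) [CommRing A] [IsDomain A] [IsDiscreteValuationRing A] (x : (Spec (CommRingCat.of (FractionRing A))) ⟶ X) (y : (Spec (CommRingCat.of A)) ⟶ Y),
      x ≫ f = (Spec.map (CommRingCat.ofHom (algebraMap A (FractionRing A)))) ≫ y → ∃! l : (Spec (CommRingCat.of A)) ⟶ X, l ≫ f = y ∧ (Spec.map (CommRingCat.ofHom (algebraMap A (FractionRing A)))) ≫ l = x := by
  refine ⟨fun hf A _ _ _ x y h => ?_, fun H => ?_⟩
  · have hv : ValuativeCriterion f := by
      rw [IsProper.eq_valuativeCriterion] at hf
      exact hf.1.1.1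
    obtain ⟨hu⟩ := hv { R := A, K := FractionRing A, i₁ := x, i₂ := y, commSq := ⟨h⟩ }
    refine ⟨hu.default.l, ⟨hu.default.fac_right, hu.default.fac_left⟩, fun l hl => ?_⟩
    exact congrArg CommSq.LiftStruct.l (hu.uniq ⟨l, hl.2, hl.1⟩)
  · haveI : IsSeparated f := UnivClosed.isSeparated_of_dvr f fun A _ _ _ K _ _ _ l l' hll hK => by
      let e := FractionRing.algEquiv A K
      have he' : CommRingCat.ofHom (algebraMap A K) ≫ CommRingCat.ofHom e.symm.toRingHom =
          CommRingCat.ofHom (algebraMap A (FractionRing A)) := by
        ext a; exact e.symm.commutes a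
      obtain ⟨l₀, -, huniq⟩ := H A
        (Spec.map (CommRingCat.ofHom (algebraMap A (FractionRing A))) ≫ l) (l ≫ f) (Category.assoc _ _ _)
      refine (huniq l ⟨rfl, rfl⟩).trans (huniq l' ⟨hll.symm, ?_⟩).symm
      rw [← he', Spec.map_comp_assoc, Spec.map_comp_assoc, hK]
    haveI := UnivClosed.universallyClosed_of_hasDvrLift f (UnivClosed.hasDvrLift_of_fractionRing f
      fun A _ _ _ x y h => (H A x y h).exists)
    exact { }

end Groth.Agent.S2335
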