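import Groth.Statements.S2336
import Groth.Agent.InvPow.Ample
-- import your own Groth.Agent.* helpers here

set_option autoImplicit false
universe u
open CategoryTheory CategoryTheory.Limits AlgebraicGeometry
open EGA2

namespace Groth.Agent.S2336

/-- Let X be a quasi-compact separated scheme (the source also allows a prescheme with Noetherian
underlying space). Then X is quasi-affine if and only if O_X is an ample invertible module. -/
theorem result (X : Scheme.{u}) [CompactSpace X] [X.IsSeparated] :
    X.IsQuasiAffine ↔ CohB1.IsAmple (Coh.structureModule X) := by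
  have hb : InvBasic.IsBasis (Coh.structureModule X) (U := ⊤) (1 : Γ(X, ⊤)) := fun W hW => by
    have e : (fun r : Γ(X, W) => r • ((Coh.structureModule X).presheaf.map (homOfLE hW).op (1 : Γ(X, ⊤)) :
        Γ(Coh.structureModule X, W))) = fun r : Γ(X, W) => r := funext fun r => by
      show r * (X.presheaf.map (homOfLE hW).op (1 : Γ(X, ⊤)) : Γ(X, W)) = r
      rw [map_one, mul_one]
    rw [e]
    exact Function.bijective_id
  have hO : PicF.IsInvertible (Coh.structureModule X) :=
    InvBasic.isInvertible_of_isBasis fun x => ⟨⊤, trivial, _, hb⟩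
  have key : ∀ (n : ℕ) (c : Γ(X, ⊤)) (s : Γ(CohB1.tensorPow (Coh.structureModule X) n, ⊤)),
      ProjUniv.gres (CohB1.tensorPow (Coh.structureModule X) n) s ⊤ = c • InvPow.pw (Coh.structureModule X) (U := ⊤) (1 : Γ(X, ⊤)) n →
      ProjUniv.genOpen (InvPow.isInvertible_tensorPow hO n) s = X.basicOpen c := fun n c s hc => by
    have := InvPow.genOpen_inf_eq_basicOpen (InvPow.isInvertible_tensorPow hO n) (InvPow.isBasis_pw hb n) hc
    rwa [inf_top_eq] at this
  constructor
  · intro h
    refine InvPow.isAmple_of_affLoci hO fun x => ?_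
    obtain ⟨_, ⟨_, ⟨r, hr, rfl⟩, rfl⟩, hxr, -⟩ := (Scheme.IsQuasiAffine.isBasis_basicOpen
      X).exists_subset_of_mem_open (Set.mem_univ x) isOpen_univ
    have hg := key 1 r (r • InvPow.pw (Coh.structureModule X) (U := ⊤) (1 : Γ(X, ⊤)) 1) (QCohLib.map_self _ _ _)
    exact ⟨1, Nat.one_pos, _, hg.ge hxr, hg ▸ hr⟩
  · intro h
    refine Scheme.IsQuasiAffine.of_forall_exists_mem_basicOpen X fun x => ?_
    obtain ⟨n, -, s, hxs, hs⟩ := InvPow.affLoci_of_isAmple h x
    obtain ⟨c, hc⟩ := InvPow.exists_coef (InvPow.isBasis_pw hb n)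
      (ProjUniv.gres (CohB1.tensorPow (Coh.structureModule X) n) s ⊤)
    exact ⟨c, key n c s hc ▸ hs, (key n c s hc).le hxs⟩

end Groth.Agent.S2336
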