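import Groth.Statements.S2337
import Groth.Agent.InvPow.QuasiAffine
import Groth.Agent.InvPow.RelAmple
import Groth.Agent.QCohLib.Pullback
import Groth.Agent.S2336
-- import your own Groth.Agent.* helpers here

set_option autoImplicit false
universe u
open CategoryTheory CategoryTheory.Limits AlgebraicGeometry
open EGA2

namespace Groth.Agent.S2337

/-- Let f : X → Y be quasi-compact. Then f is quasi-affine (preimages of affine opens are quasi-affine)
if and only if O_X is ample relative to f. -/
theorem result {X Y : Scheme.{u}} (f : X ⟶ Y) [QuasiCompact f] :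
    Mor2.IsQuasiAffine f ↔ RelAmple.IsRelAmple f (Coh.structureModule X) := by
  rw [InvPow.isRelAmple_iff]
  constructor
  · rintro ⟨hq, h⟩
    refine ⟨hq, fun V => ?_⟩
    have := h V.1 V.2
    exact InvPow.isAmple_of_iso (QCohLib.pullbackUnitIso _).symm ((Groth.Agent.S2336.result _).mp this)
  · rintro ⟨hq, h⟩
    refine ⟨hq, fun V hV => ?_⟩
    have hA := InvPow.isAmple_of_iso (QCohLib.pullbackUnitIso _) (h ⟨V, hV⟩)
    have := hA.2.1
    have := InvPow.isSeparated_of_isAmple hA
    exact (Groth.Agent.S2336.result _).mpr hA

end Groth.Agent.S2337
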