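import Groth.Statements.S2342
import Mathlib
-- import your own Groth.Agent.* helpers here

set_option autoImplicit false
universe u
open CategoryTheory CategoryTheory.Limits AlgebraicGeometry
open EGA2

namespace Groth.Agent.S2342

/-- Let A be a valuation ring with Y = Spec A, X an integral separated scheme and f : X → Y a morphism
which is closed as a map of topological spaces, such that the fibre over the generic point of Y
consists of exactly one point x and the induced map from the residue field of the generic point of Y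
to that of x is bijective. Then f is an isomorphism. -/
theorem result (A : Type u) [CommRing A] [IsDomain A] [ValuationRing A]
    (X : Scheme.{u}) [IsIntegral X] [X.IsSeparated] (f : X ⟶ Spec (CommRingCat.of A)) (hf : IsClosedMap f.base)
    (x : X) (hx : f.base ⁻¹' {genericPoint (Spec (CommRingCat.of A))} = {x})
    (hres : Function.Bijective (f.residueFieldMap x).hom) : IsIso f := by
  haveI : IsIntegral (Spec (CommRingCat.of A)) := inferInstance
  set ξ := genericPoint X
  have hηle : f.base ξ = genericPoint (Spec (CommRingCat.of A)) := by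
    obtain ⟨hc, hx'⟩ : IsClosed (Set.range f.base) ∧ genericPoint (Spec (CommRingCat.of A)) ∈ Set.range f.base :=
      ⟨hf.isClosed_range, ⟨x, (hx.ge (Set.mem_singleton x) :)⟩⟩
    obtain ⟨w, hw⟩ := hx'
    refine ((genericPoint_spec (Spec (CommRingCat.of A))).eq ?_).symm
    rw [isGenericPoint_def]
    refine Set.eq_univ_of_univ_subset ?_
    rw [← (genericPoint_spec (Spec (CommRingCat.of A))).def, ← hw]
    exact closure_minimal (Set.singleton_subset_iff.mpr
      (((genericPoint_spec X).specializes trivial).map f.continuous).mem_closure) isClosed_closure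
  obtain rfl : ξ = x := by
    have : ξ ∈ f.base ⁻¹' {genericPoint (Spec (CommRingCat.of A))} := hηle
    rw [hx] at this
    exact this
  have hsurj : Function.Surjective f.base := fun p => by
    have h1 : closure {genericPoint (Spec (CommRingCat.of A))} ⊆ Set.range f.base :=
      hf.isClosed_range.closure_subset_iff.mpr (Set.singleton_subset_iff.mpr ⟨ξ, hηle⟩)
    rw [(genericPoint_spec (Spec (CommRingCat.of A))).def] at h1
    exact h1 trivial
  have hdvd : ∀ a b : Γ((Spec (CommRingCat.of A)), ⊤), a ∣ b ∨ b ∣ a := by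
    intro a b
    let e := (Scheme.ΓSpecIso (CommRingCat.of A)).commRingCatIsoToRingEquiv
    rcases ValuationRing.dvd_total (e a) (e b) with h | h
    · left; obtain ⟨c, hc⟩ := h
      exact ⟨e.symm c, e.injective (by rw [map_mul, e.apply_symm_apply, hc])⟩
    · right; obtain ⟨c, hc⟩ := h
      exact ⟨e.symm c, e.injective (by rw [map_mul, e.apply_symm_apply, hc])⟩
  let ψ : Γ((Spec (CommRingCat.of A)), ⊤) →+* X.presheaf.stalk ξ :=
    (f.stalkMap ξ).hom.comp ((Spec (CommRingCat.of A)).presheaf.germ ⊤ (f.base ξ) trivial).hom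
  have hnat : ∀ (y : X) (a : Γ((Spec (CommRingCat.of A)), ⊤)), X.presheaf.stalkSpecializes ((genericPoint_spec X).specializes trivial : ξ ⤳ y)
      (f.stalkMap y ((Spec (CommRingCat.of A)).presheaf.germ ⊤ (f.base y) trivial a)) = ψ a := by
    intro y a
    rw [← Scheme.Hom.stalkSpecializes_stalkMap_apply]
    show f.stalkMap ξ _ = f.stalkMap ξ _
    congr 1
    exact TopCat.Presheaf.germ_stalkSpecializes_apply _ _ _ _
  have hψ0 : ∀ a, ψ a = 0 → a = 0 := by
    intro a ha
    by_contra hne
    have hmem : f.base ξ ∈ (Spec (CommRingCat.of A)).basicOpen a := by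
      rw [hηle]
      exact ((genericPoint_spec (Spec (CommRingCat.of A))).mem_open_set_iff ((Spec (CommRingCat.of A)).basicOpen a).2).mpr (by
        rw [Set.univ_inter]
        exact (TopologicalSpace.Opens.ne_bot_iff_nonempty _).mp (fun h => hne ((basicOpen_eq_bot_iff a).mp h)))
    have h1 := (((Spec (CommRingCat.of A)).mem_basicOpen a (f.base ξ) trivial).mp hmem).map (f.stalkMap ξ).hom
    change IsUnit (ψ a) at h1
    rw [ha] at h1
    exact not_isUnit_zero h1
  have hmk : ∀ (p : (Spec (CommRingCat.of A))) (w : (Spec (CommRingCat.of A)).presheaf.stalk p), ∃ a b : Γ((Spec (CommRingCat.of A)), ⊤),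
      IsUnit ((Spec (CommRingCat.of A)).presheaf.germ ⊤ p trivial b) ∧ w * (Spec (CommRingCat.of A)).presheaf.germ ⊤ p trivial b = (Spec (CommRingCat.of A)).presheaf.germ ⊤ p trivial a := by
    intro p w
    letI : Algebra Γ((Spec (CommRingCat.of A)), ⊤) ((Spec (CommRingCat.of A)).presheaf.stalk p) :=
      TopCat.Presheaf.algebra_section_stalk (Spec (CommRingCat.of A)).presheaf (⟨p, trivial⟩ : (⊤ : (Spec (CommRingCat.of A)).Opens))
    haveI : IsLocalization.AtPrime ((Spec (CommRingCat.of A)).presheaf.stalk p) ((isAffineOpen_top (Spec (CommRingCat.of A))).primeIdealOf ⟨p, trivial⟩).asIdeal :=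
      (isAffineOpen_top (Spec (CommRingCat.of A))).isLocalization_stalk ⟨p, trivial⟩
    obtain ⟨⟨a, b⟩, hab⟩ := IsLocalization.surj ((isAffineOpen_top (Spec (CommRingCat.of A))).primeIdealOf ⟨p, trivial⟩).asIdeal.primeCompl w
    exact ⟨a, b.1, IsLocalization.map_units _ b, hab⟩
  have hgen : ∀ z : X.presheaf.stalk ξ, ∃ a b : Γ((Spec (CommRingCat.of A)), ⊤), b ≠ 0 ∧ z * ψ b = ψ a := by
    intro z
    obtain ⟨w, hw⟩ := hres.2 (X.residue ξ z)
    obtain ⟨w', rfl⟩ := (Spec (CommRingCat.of A)).residue_surjective _ w
    have hz : f.stalkMap ξ w' = z := by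
      have h1 : X.residue ξ (f.stalkMap ξ w') = X.residue ξ z :=
        (ConcreteCategory.congr_hom (Scheme.residue_residueFieldMap f ξ) w').symm.trans hw
      exact (RingHom.injective (show X.functionField →+* X.residueField ξ from (X.residue ξ).hom)) h1
    obtain ⟨a, b, hb, hab⟩ := hmk _ w'
    refine ⟨a, b, fun h => ?_, ?_⟩
    · rw [h, map_zero] at hb; exact not_isUnit_zero hb
    · rw [← hz]
      show f.stalkMap ξ w' * f.stalkMap ξ _ = f.stalkMap ξ _
      rw [← map_mul, hab]
  have hinjι : ∀ y : X, Function.Injective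
      (X.presheaf.stalkSpecializes ((genericPoint_spec X).specializes trivial : ξ ⤳ y)) := fun y =>
    IsFractionRing.injective (X.presheaf.stalk y) X.functionField
  have hbij : ∀ y : X, Function.Bijective (f.stalkMap y) := by
    intro y
    constructor
    · rw [injective_iff_map_eq_zero]
      intro w hw
      obtain ⟨a, b, hb, hab⟩ := hmk _ w
      have h1 : ψ a = 0 := by
        rw [← hnat y a, ← hab, map_mul, hw, zero_mul, map_zero]
      rw [hψ0 a h1, map_zero] at hab
      exact hb.mul_left_eq_zero.mp hab
    · intro z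
      obtain ⟨a, b, hb0, hab⟩ := hgen (X.presheaf.stalkSpecializes ((genericPoint_spec X).specializes trivial : ξ ⤳ y) z)
      have hψb : ψ b ≠ 0 := fun h => hb0 (hψ0 b h)
      rcases hdvd b a with ⟨c, rfl⟩ | ⟨c, rfl⟩
      · refine ⟨(Spec (CommRingCat.of A)).presheaf.germ ⊤ (f.base y) trivial c, hinjι y ?_⟩
        rw [hnat]
        rw [map_mul, mul_comm (ψ b)] at hab
        exact (mul_right_cancel₀ (M₀ := X.functionField) hψb hab).symm
      · have ha0 : ψ a ≠ 0 := fun h => hψb (by rw [map_mul, h, zero_mul])
        have h1 : f.stalkMap y ((Spec (CommRingCat.of A)).presheaf.germ ⊤ (f.base y) trivial c) * z = 1 := by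
          apply hinjι y
          rw [map_mul, map_one, hnat]
          refine mul_left_cancel₀ (M₀ := X.functionField) ha0 ?_
          show ψ a * (ψ c * _) = ψ a * 1
          rw [mul_one, ← mul_assoc, ← map_mul, mul_comm]
          exact hab
        have h2 : IsUnit ((Spec (CommRingCat.of A)).presheaf.germ ⊤ (f.base y) trivial c) :=
          isUnit_of_map_unit (f.stalkMap y).hom _ (IsUnit.of_mul_eq_one _ h1)
        refine ⟨↑h2.unit⁻¹, ?_⟩
        have h3 : f.stalkMap y ↑h2.unit⁻¹ * f.stalkMap y ((Spec (CommRingCat.of A)).presheaf.germ ⊤ (f.base y) trivial c) = 1 := by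
          rw [← map_mul, h2.val_inv_mul, map_one]
        rw [← mul_one (f.stalkMap y ↑h2.unit⁻¹), ← h1, ← mul_assoc, h3, one_mul]
  have hiso : ∀ y : X, IsIso (f.stalkMap y) := fun y => (ConcreteCategory.isIso_iff_bijective _).mpr (hbij y)
  have hinj : Function.Injective f.base := by
    intro y y' hyy
    have hloc : ∀ (y : X) (p : (Spec (CommRingCat.of A))) (h : f.base y = p), ∃ a : Spec ((Spec (CommRingCat.of A)).presheaf.stalk p) ⟶ X,
        a (IsLocalRing.closedPoint _) = y ∧ a ≫ f = (Spec (CommRingCat.of A)).fromSpecStalk p ∧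
          Spec.map ((Spec (CommRingCat.of A)).presheaf.stalkSpecializes ((genericPoint_spec (Spec (CommRingCat.of A))).specializes trivial : genericPoint (Spec (CommRingCat.of A)) ⤳ p)) ≫ a =
            Spec.map ((Spec (CommRingCat.of A)).presheaf.stalkSpecializes ((specializes_of_eq hηle.symm) : genericPoint (Spec (CommRingCat.of A)) ⤳ f.base ξ)) ≫
              Spec.map (inv (f.stalkMap ξ)) ≫ X.fromSpecStalk ξ := by
      rintro y p rfl
      haveI := hiso y
      haveI := hiso ξ
      refine ⟨Spec.map (inv (f.stalkMap y)) ≫ X.fromSpecStalk y, ?_, ?_, ?_⟩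
      · show X.fromSpecStalk y ((Spec.map (inv (f.stalkMap y))) (IsLocalRing.closedPoint _)) = y
        rw [Spec_closedPoint, Scheme.fromSpecStalk_closedPoint]
      · rw [Category.assoc, ← Scheme.SpecMap_stalkMap_fromSpecStalk, ← Spec.map_comp_assoc,
          IsIso.hom_inv_id, Spec.map_id, Category.id_comp]
      · rw [← Spec.map_comp_assoc, ← Spec.map_comp_assoc,
          ← Scheme.SpecMap_stalkSpecializes_fromSpecStalk ((genericPoint_spec X).specializes trivial : ξ ⤳ y),
          ← Spec.map_comp_assoc]
        congr 2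
        rw [IsIso.inv_comp_eq, ← Category.assoc, ← Category.assoc, ← Scheme.Hom.stalkSpecializes_stalkMap,
          Category.assoc, Category.assoc, IsIso.hom_inv_id_assoc, TopCat.Presheaf.stalkSpecializes_comp]
    obtain ⟨a, ha1, ha2, ha3⟩ := hloc y _ rfl
    obtain ⟨b, hb1, hb2, hb3⟩ := hloc y' _ hyy.symm
    haveI : IsDomain ((Spec (CommRingCat.of A)).presheaf.stalk (f.base y)) := inferInstance
    have hab : a = b := by
      haveI : IsDominant (Spec.map ((Spec (CommRingCat.of A)).presheaf.stalkSpecializes
          ((genericPoint_spec (Spec (CommRingCat.of A))).specializes trivial : genericPoint (Spec (CommRingCat.of A)) ⤳ f.base y))) := ⟨by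
        show DenseRange (PrimeSpectrum.comap _)
        rw [PrimeSpectrum.denseRange_comap_iff_ker_le_nilRadical]
        exact (le_of_eq ((RingHom.injective_iff_ker_eq_bot _).mp
          (IsFractionRing.injective ((Spec (CommRingCat.of A)).presheaf.stalk (f.base y))
            (Spec (CommRingCat.of A)).functionField))).trans bot_le⟩
      haveI : IsSeparated f := .of_comp f (terminal.from _)
      exact ext_of_isDominant_of_isSeparated f (ha2.trans hb2.symm) _ (ha3.trans hb3.symm)
    rw [← ha1, ← hb1, hab]
  have hhomeo : IsHomeomorph f.base :=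
    isHomeomorph_iff_continuous_isClosedMap_bijective.mpr ⟨f.continuous, hf, hinj, hsurj⟩
  haveI : IsOpenImmersion f := IsOpenImmersion.of_isIso_stalkMap f hhomeo.isOpenEmbedding
  exact isIso_of_isOpenImmersion_of_opensRange_eq_top f (TopologicalSpace.Opens.ext hsurj.range_eq)

end Groth.Agent.S2342
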