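import Groth.Statements.S2343
import Groth.Agent.HenselLib.Split
import Mathlib.AlgebraicGeometry.Morphisms.Finite
import Mathlib.RingTheory.Idempotents

set_option linter.style.haveILetI false
set_option backward.isDefEq.respectTransparency false
set_option backward.isDefEq.respectTransparency.types false

set_option autoImplicit false
universe u
open CategoryTheory CategoryTheory.Limits AlgebraicGeometry
open EGA2

namespace Groth.Agent.S2343

open AlgebraicGeometry CategoryTheory in
/-- An isolated point of the closed fibre has a local affine neighbourhood finite over the base. -/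
theorem exists_local_finite_nhd (A : Type u) [CommRing A] [IsLocalRing A] [IsNoetherianRing A]
    [IsAdicComplete (IsLocalRing.maximalIdeal A) A] {X : Scheme.{u}} (f : X ⟶ Spec (CommRingCat.of A))
    [LocallyOfFiniteType f] (x : X) (hx : f.base x = IsLocalRing.closedPoint A)
    (hisol : IsOpen ((Subtype.val : (f.base ⁻¹' {IsLocalRing.closedPoint A}) → X) ⁻¹' {x})) :
    ∃ (C : CommRingCat.{u}) (_ : IsLocalRing C) (j : Spec C ⟶ X),
      IsOpenImmersion j ∧ j (IsLocalRing.closedPoint C) = x ∧ IsFinite (j ≫ f) := by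
  obtain ⟨U, hU, hsU, -⟩ := exists_isAffineOpen_mem_and_subset (X := X) (x := x) (U := ⊤) trivial
  obtain ⟨φ, hφ⟩ := Spec.map_surjective (hU.fromSpec ≫ f)
  haveI hft : LocallyOfFiniteType (Spec.map φ) := hφ ▸ inferInstance
  rw [HasRingHomProperty.Spec_iff (P := @LocallyOfFiniteType)] at hft
  algebraize [φ.hom]
  let q : PrimeSpectrum Γ(X, U) := hU.primeIdealOf ⟨x, hsU⟩
  have hq : hU.fromSpec q = x := hU.fromSpec_primeIdealOf ⟨x, hsU⟩
  have hbase : ∀ p : Spec Γ(X, U), f (hU.fromSpec p) = PrimeSpectrum.comap (algebraMap A Γ(X, U)) p := by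
    intro p
    rw [← Scheme.Hom.comp_apply, ← hφ]
    rfl
  have hqm : q.comap (algebraMap A Γ(X, U)) = IsLocalRing.closedPoint A := by
    rw [← hbase, hq]; exact hx
  haveI : Algebra.QuasiFiniteAt A q.asIdeal := by
    refine Algebra.QuasiFiniteAt.of_isOpen_singleton_fiber q ?_
    let k : (PrimeSpectrum.comap (algebraMap A Γ(X, U)) ⁻¹' {q.comap (algebraMap A Γ(X, U))}) →
        (f.base ⁻¹' {IsLocalRing.closedPoint A}) :=
      fun p => ⟨hU.fromSpec p.1, by
        show f (hU.fromSpec p.1) = _
        rw [hbase, ← hqm]; exact p.2⟩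
    have hk : Continuous k := (hU.fromSpec.continuous.comp continuous_subtype_val).subtype_mk _
    convert hisol.preimage hk
    ext p
    simp only [Set.mem_singleton_iff, Set.mem_preimage, k]
    refine ⟨fun h => by rw [h]; exact hq, fun h => Subtype.ext ?_⟩
    exact hU.fromSpec.isOpenEmbedding.injective (h.trans hq.symm)
  have hle : (IsLocalRing.maximalIdeal A).map (algebraMap A Γ(X, U)) ≤ q.asIdeal := by
    rw [Ideal.map_le_iff_le_comap]
    exact (congrArg PrimeSpectrum.asIdeal hqm).ge
  obtain ⟨ε, hε, hεq, hfg⟩ := Groth.Agent.HenselLib.exists_idem_at (R := A) q.asIdeal hle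
  set B := Γ(X, U) ⧸ Ideal.span ({1 - ε} : Set Γ(X, U))
  haveI hfinB : Module.Finite A B := by
    refine ⟨?_⟩
    have htop : (⊤ : Submodule A B) =
        (LinearMap.range (LinearMap.mulLeft A ε)).map
          (Ideal.Quotient.mkₐ A (Ideal.span ({1 - ε} : Set Γ(X, U)))).toLinearMap := by
      refine (top_unique fun y _ => ?_).symm
      obtain ⟨y, rfl⟩ := Ideal.Quotient.mk_surjective y
      refine ⟨ε * y, ⟨y, rfl⟩, Ideal.Quotient.eq.mpr (Ideal.mem_span_singleton'.mpr ⟨-y, ?_⟩)⟩
      ring
    rw [htop]
    exact hfg.map _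
  let π : Γ(X, U) →+* B := Ideal.Quotient.mk _
  haveI : IsLocalization.Away ε B :=
    IsLocalization.away_of_isIdempotentElem hε (Ideal.mk_ker) Ideal.Quotient.mk_surjective
  obtain ⟨w, hw⟩ : q ∈ Set.range (PrimeSpectrum.comap π) := by
    rw [show π = algebraMap _ _ from rfl, PrimeSpectrum.localization_away_comap_range _ ε]
    exact hεq
  haveI : w.asIdeal.IsMaximal := by
    refine Ideal.isMaximal_of_isIntegral_of_isMaximal_comap (R := A) w.asIdeal ?_
    have h1 : w.asIdeal.comap (algebraMap A B) = IsLocalRing.maximalIdeal A := by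
      rw [show algebraMap A B = π.comp (algebraMap A Γ(X, U)) from rfl, ← Ideal.comap_comap]
      rw [show w.asIdeal.comap π = q.asIdeal from congrArg PrimeSpectrum.asIdeal hw]
      exact congrArg PrimeSpectrum.asIdeal hqm
    rw [h1]; infer_instance
  obtain ⟨e, he, hew, hother⟩ := Groth.Agent.HenselLib.exists_separating_idem
    (Groth.Agent.HenselLib.bijOn_idem (IsLocalRing.maximalIdeal A) B).surjOn w.asIdeal
  set C := B ⧸ Ideal.span ({1 - e} : Set B)
  let π' : B →+* C := Ideal.Quotient.mk _
  haveI : IsLocalization.Away e C :=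
    IsLocalization.away_of_isIdempotentElem he (Ideal.mk_ker) Ideal.Quotient.mk_surjective
  have hwC : Ideal.span ({1 - e} : Set B) ≤ w.asIdeal := by
    rw [Ideal.span_singleton_le_iff_mem]
    refine (w.isPrime.mem_or_mem (x := e) ?_).resolve_left hew
    rw [mul_sub, mul_one, he.eq, sub_self]; exact zero_mem _
  haveI hM : (w.asIdeal.map π').IsMaximal :=
    Ideal.IsMaximal.map_of_surjective_of_ker_le Ideal.Quotient.mk_surjective (Ideal.mk_ker.trans_le hwC)
  have huniq : ∀ M : Ideal C, M.IsMaximal → M = w.asIdeal.map π' := by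
    intro M hM'
    have h1 : (M.comap π').IsMaximal := Ideal.comap_isMaximal_of_surjective π' Ideal.Quotient.mk_surjective
    have h2 : M.comap π' = w.asIdeal := by
      by_contra hne
      refine h1.ne_top ((Ideal.eq_top_iff_one _).2 ?_)
      have h3 : 1 - e ∈ M.comap π' := by
        show π' (1 - e) ∈ M
        rw [Ideal.Quotient.eq_zero_iff_mem.2 (Ideal.mem_span_singleton_self _)]
        exact zero_mem _
      simpa using (M.comap π').add_mem h3 (hother _ h1 hne)
    rw [← h2, Ideal.map_comap_of_surjective π' Ideal.Quotient.mk_surjective]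
  haveI : IsLocalRing C := IsLocalRing.of_unique_max_ideal ⟨_, hM, fun M hM' => huniq M hM'⟩
  have hpt : PrimeSpectrum.comap π' (IsLocalRing.closedPoint C) = w := by
    refine PrimeSpectrum.ext ?_
    show (IsLocalRing.maximalIdeal C).comap π' = w.asIdeal
    rw [← IsLocalRing.eq_maximalIdeal hM, Ideal.comap_map_of_surjective π' Ideal.Quotient.mk_surjective,
      ← RingHom.ker_eq_comap_bot, Ideal.mk_ker, sup_eq_left.2 hwC]
  refine ⟨CommRingCat.of C, ‹_›,
    Spec.map (CommRingCat.ofHom π') ≫ Spec.map (CommRingCat.ofHom π) ≫ hU.fromSpec, ?_, ?_, ?_⟩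
  · haveI : IsOpenImmersion (Spec.map (CommRingCat.ofHom π)) :=
      IsOpenImmersion.of_isLocalization ε
    haveI : IsOpenImmersion (Spec.map (CommRingCat.ofHom π')) :=
      IsOpenImmersion.of_isLocalization e
    infer_instance
  · rw [Scheme.Hom.comp_apply, Scheme.Hom.comp_apply, ← hq, ← hw, ← hpt]
    rfl
  · rw [Category.assoc, Category.assoc, ← hφ, ← Spec.map_comp, ← Spec.map_comp, IsFinite.SpecMap_iff]
    exact (RingHom.Finite.of_surjective π' Ideal.Quotient.mk_surjective).comp (RingHom.finite_algebraMap.2 hfinB)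

/-- Let A be a complete Noetherian local ring, X a separated scheme locally of finite type over Spec A,
and x a point of X over the closed point which is isolated in its fibre. Then the local ring of X at
x is a finite A-module and the canonical morphism Spec O_{X,x} → X is both an open and a closed
immersion (X is the disjoint sum of Spec O_{X,x} and another open subscheme). -/
theorem result (A : Type u) [CommRing A] [IsLocalRing A] [IsNoetherianRing A]
    [IsAdicComplete (IsLocalRing.maximalIdeal A) A] (X : Scheme.{u}) (f : X ⟶ Spec (CommRingCat.of A)) [LocallyOfFiniteType f] [IsSeparated f]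
    (x : X) (hx : f.base x = IsLocalRing.closedPoint A)
    (hisol : IsOpen ((Subtype.val : (f.base ⁻¹' {IsLocalRing.closedPoint A}) → X) ⁻¹' {x})) :
    ((Scheme.ΓSpecIso (CommRingCat.of A)).inv ≫ f.appTop ≫ X.presheaf.germ ⊤ x trivial).hom.Finite ∧ IsOpenImmersion (X.fromSpecStalk x) ∧ IsClosedImmersion (X.fromSpecStalk x) := by
  obtain ⟨C, _, j, hj, hjx, hfin⟩ := exists_local_finite_nhd A f x hx hisol
  subst hjx
  haveI : IsFinite j := IsFinite.of_comp j f
  haveI : IsClosedImmersion j :=
    .of_isPreimmersion _ (j.isClosedMap.isClosed_range)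
  have key : X.fromSpecStalk (j (IsLocalRing.closedPoint C)) =
      Spec.map (inv (j.stalkMap (IsLocalRing.closedPoint C))) ≫
        Spec.map (stalkClosedPointIso C).inv ≫ j := by
    rw [Spec_stalkClosedPointIso, ← Scheme.SpecMap_stalkMap_fromSpecStalk j, ← Spec.map_comp_assoc,
      IsIso.hom_inv_id, Spec.map_id, Category.id_comp]
  refine ⟨?_, key ▸ inferInstance, key ▸ inferInstance⟩
  have hbase : Spec.map ((Scheme.ΓSpecIso (CommRingCat.of A)).inv ≫ f.appTop ≫
      X.presheaf.germ ⊤ (j (IsLocalRing.closedPoint C)) trivial) =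
      X.fromSpecStalk (j (IsLocalRing.closedPoint C)) ≫ f := by
    rw [Spec.map_comp, Spec.map_comp, Category.assoc, ← Scheme.fromSpecStalk_toSpecΓ, Category.assoc,
      ← Scheme.toSpecΓ_naturality_assoc]
    congr 1
    rw [toSpecΓ_SpecMap_ΓSpecIso_inv, Category.comp_id]
  rw [← IsFinite.SpecMap_iff, hbase, key, Category.assoc, Category.assoc]
  infer_instance

end Groth.Agent.S2343
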