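import Groth.Statements.S2344
import Groth.Agent.CodimOneExt.Basic
import Groth.Agent.CodimOneExt.Dim
import Groth.Agent.BirQF.CodimOne
-- import your own Groth.Agent.* helpers here

set_option autoImplicit false
universe u
open CategoryTheory CategoryTheory.Limits AlgebraicGeometry
open EGA2

namespace Groth.Agent.S2344

/-- Let X be a normal algebraic curve over k (separated, of finite type, nonempty, local rings at closed
points of dimension one, all local rings integrally closed domains), Y proper over k, U a dense open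
of X and g : U → Y a k-morphism. Then g extends uniquely to a k-morphism X → Y. -/
theorem result (k : Type u) [Field k] (X Y : Scheme.{u}) [X.Over (Spec (CommRingCat.of k))] [Y.Over (Spec (CommRingCat.of k))]
    [LocallyOfFiniteType (X ↘ (Spec (CommRingCat.of k)))] [QuasiCompact (X ↘ (Spec (CommRingCat.of k)))] [IsSeparated (X ↘ (Spec (CommRingCat.of k)))] [Nonempty X] (hcurve : (∀ x : X, IsClosed ({x} : Set X) → ringKrullDim (X.presheaf.stalk x) = 1)) (hnorm : Pi1.IsNormalScheme X)
    [IsProper (Y ↘ (Spec (CommRingCat.of k)))] (U : X.Opens) (hU : Dense (U : Set X)) (g : (U : Scheme.{u}) ⟶ Y)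
    (hg : g ≫ (Y ↘ (Spec (CommRingCat.of k))) = U.ι ≫ (X ↘ (Spec (CommRingCat.of k)))) :
    ∃! g' : X ⟶ Y, U.ι ≫ g' = g ∧ g' ≫ (Y ↘ (Spec (CommRingCat.of k))) = X ↘ (Spec (CommRingCat.of k)) := by
  set sX := X ↘ (Spec (CommRingCat.of k))
  set sY := Y ↘ (Spec (CommRingCat.of k))
  haveI : IsLocallyNoetherian X := LocallyOfFiniteType.isLocallyNoetherian sX
  haveI : JacobsonSpace X := LocallyOfFiniteType.jacobsonSpace sX
  haveI : ∀ x : X, _root_.IsReduced (X.presheaf.stalk x) := fun x => by
    haveI := (hnorm x).1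
    infer_instance
  haveI : IsReduced X := isReduced_of_isReduced_stalk X
  have hdim : ∀ y : X, ringKrullDim (X.presheaf.stalk y) ≤ 1 := fun y => by
    obtain ⟨q, hq, hqc⟩ := nonempty_inter_closedPoints (Z := closure ({y} : Set X))
      ⟨y, subset_closure rfl⟩ isClosed_closure.isLocallyClosed
    have hyq : y ⤳ q := specializes_iff_mem_closure.2 hq
    refine le_trans ?_ (hcurve q hqc).le
    exact CodimOneExt.ringKrullDim_stalk_le_of_specializes hyq
  obtain ⟨W, hUW, g', h1, h2, h3⟩ := CodimOneExt.exists_glue_extensions sY sX U hU g hg (fun _ => True) fun y _ => by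
    haveI := (hnorm y).1
    haveI := (hnorm y).2
    haveI := BirQF.valuationRing_of_dim_le_one (X.presheaf.stalk y) (hdim y)
    exact CodimOneExt.exists_local_extension_proper sY sX U g hg y
      (CodimOneExt.mem_of_dense_of_mem_gens hU (CodimOneExt.gen_mem_gens y))
  obtain rfl : W = ⊤ := eq_top_iff.2 fun y _ => h3 y trivial
  refine ⟨X.topIso.inv ≫ g', ⟨?_, ?_⟩, fun g₂ hg₂ => ?_⟩
  · show U.ι ≫ X.topIso.inv ≫ g' = g
    rw [← Category.assoc, show U.ι ≫ X.topIso.inv = X.homOfLE hUW by
      rw [← cancel_mono (⊤ : X.Opens).ι]; simp, h2]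
  · rw [Category.assoc, h1, ← Category.assoc, show X.topIso.inv ≫ (⊤ : X.Opens).ι = 𝟙 X by simp, Category.id_comp]
  · haveI : IsDominant U.ι := ⟨by rw [DenseRange, Scheme.Opens.range_ι]; exact hU⟩
    refine ext_of_isDominant_of_isSeparated sY ?_ U.ι ?_
    · rw [hg₂.2, Category.assoc, h1, ← Category.assoc, show X.topIso.inv ≫ (⊤ : X.Opens).ι = 𝟙 X by simp, Category.id_comp]
    · rw [hg₂.1, ← Category.assoc, show U.ι ≫ X.topIso.inv = X.homOfLE hUW by
        rw [← cancel_mono (⊤ : X.Opens).ι]; simp, h2]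

end Groth.Agent.S2344
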