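import Groth.Statements.S2345
import Groth.Agent.CurveModel.P1
import Groth.Agent.CurveModel.Point
import Groth.Agent.S4454
import Groth.Agent.ProjUniv.Chart
import Groth.Agent.NagataLib.Scheme

set_option autoImplicit false
universe u
open CategoryTheory CategoryTheory.Limits AlgebraicGeometry
attribute [local instance] Curv2.stalkAlgebra
open EGA2

namespace Groth.Agent.CurveModel

attribute [-instance] Curv2.stalkAlgebra

instance isProper_toSpec (k : Type u) [Field k] : IsProper (CohB1.ProjSpace.toSpec 1 k) := by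
  have h0 : (algebraMap (CohB1.polyGrading 1 k 0) (MvPolynomial (Fin (1 + 1)) k)).comp
      (algebraMap k (CohB1.polyGrading 1 k 0)) = algebraMap k (MvPolynomial (Fin (1 + 1)) k) := rfl
  have : Algebra.FiniteType (CohB1.polyGrading 1 k 0) (MvPolynomial (Fin (1 + 1)) k) :=
    RingHom.finiteType_algebraMap.mp (RingHom.FiniteType.of_comp_finiteType
      (f := algebraMap k (CohB1.polyGrading 1 k 0))
      (by rw [h0]; exact RingHom.finiteType_algebraMap.mpr inferInstance))
  have hs : Function.Surjective (algebraMap k (CohB1.polyGrading 1 k 0)) := by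
    rintro ⟨f, hf⟩
    refine ⟨MvPolynomial.coeff 0 f, Subtype.ext ?_⟩
    exact (MvPolynomial.totalDegree_eq_zero_iff_eq_C.mp
      (Nat.le_zero.mp (MvPolynomial.IsHomogeneous.totalDegree_le hf))).symm
  have : IsClosedImmersion (Spec.map (CommRingCat.ofHom (algebraMap k (CohB1.polyGrading 1 k 0)))) :=
    IsClosedImmersion.spec_of_surjective _ hs
  unfold CohB1.ProjSpace.toSpec
  exact MorphismProperty.comp_mem @IsProper _ _ (inferInstanceAs (IsProper (Proj.toSpecZero (CohB1.polyGrading 1 k)))) inferInstance

/-- Elements of `K` integral over an affine open of the base come from the normalization. -/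
lemma exists_ev_toNormalization {X : Scheme.{u}} [IsIntegral X] {K : Type u} [Field K]
    (φ : X.functionField →+* K) (g : Spec (CommRingCat.of K) ⟶ X)
    (hg : g = Spec.map (CommRingCat.ofHom φ) ≫ X.fromSpecStalk (genericPoint X))
    [QuasiCompact g] [QuasiSeparated g] {U : X.Opens} (hU : IsAffineOpen U) [Nonempty U] (z : K)
    (hz : (φ.comp (X.germToFunctionField U).hom).IsIntegralElem z) :
    ∃ (b : Γ(g.normalization, g.fromNormalization ⁻¹ᵁ U))
      (h : g.toNormalization (IsLocalRing.closedPoint K) ∈ g.fromNormalization ⁻¹ᵁ U),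
      ev g.toNormalization _ h b = z := by
  let i1 := (g.app U).hom.toAlgebra
  let i2 := (φ.comp (X.germToFunctionField U).hom).toAlgebra
  have hle := NagataLib.top_le_preimage φ g hg U
  have hh : g ⁻¹ᵁ U = ⊤ := top_le_iff.1 hle
  have : IsIso (homOfLE hle) := ⟨homOfLE hh.le, Subsingleton.elim _ _, Subsingleton.elim _ _⟩
  let e := asIso ((Spec (CommRingCat.of K)).presheaf.map (homOfLE hle).op) ≪≫
    Scheme.ΓSpecIso (CommRingCat.of K)
  let ea : Γ(Spec (CommRingCat.of K), g ⁻¹ᵁ U) ≃ₐ[Γ(X, U)] K :=
    AlgEquiv.ofRingEquiv (f := e.commRingCatIsoToRingEquiv) fun a =>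
      ConcreteCategory.congr_hom (NagataLib.appLE_eq φ g hg U) a
  have hw : ea.symm z ∈ integralClosure Γ(X, U) Γ(Spec (CommRingCat.of K), g ⁻¹ᵁ U) :=
    IsIntegral.map ea.symm.toAlgHom hz
  have hmem : g.toNormalization (IsLocalRing.closedPoint K) ∈ g.fromNormalization ⁻¹ᵁ U := by
    change (g.toNormalization ≫ g.fromNormalization) (IsLocalRing.closedPoint K) ∈ U
    rw [g.toNormalization_fromNormalization]
    exact hle trivial
  refine ⟨(g.normalizationObjIso hU).inv ⟨ea.symm z, hw⟩, hmem, ?_⟩
  rw [ev_eq_app]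
  have h1 := ConcreteCategory.congr_hom (g.normalizationObjIso_hom_val hU)
    ((g.normalizationObjIso hU).inv ⟨ea.symm z, hw⟩)
  have h2 : (g.toNormalization.app (g.fromNormalization ⁻¹ᵁ U) ≫
      ((Spec (CommRingCat.of K)).presheaf.mapIso (eqToIso
        (Scheme.preimage_eq_top_of_closedPoint_mem g.toNormalization hmem).symm).op ≪≫
        Scheme.ΓSpecIso (CommRingCat.of K)).hom) =
      g.toNormalization.appLE (g.fromNormalization ⁻¹ᵁ U) (g ⁻¹ᵁ U)
        (by simp [← Scheme.Hom.comp_preimage]) ≫ e.hom := by
    simp only [Scheme.Hom.appLE, e, Iso.trans_hom, asIso_hom, Functor.mapIso_hom, Category.assoc,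
      ← Functor.map_comp_assoc]
    rfl
  rw [h2]
  refine (congrArg e.hom h1.symm).trans ?_
  show ea (((g.normalizationObjIso hU).hom ((g.normalizationObjIso hU).inv ⟨ea.symm z, hw⟩)).1) = z
  rw [show (g.normalizationObjIso hU).hom ((g.normalizationObjIso hU).inv ⟨ea.symm z, hw⟩) =
    ⟨ea.symm z, hw⟩ from ConcreteCategory.congr_hom (g.normalizationObjIso hU).inv_hom_id _]
  exact ea.apply_symm_apply z

/-- The function field of the normalization in `K` is `K`. -/
lemma theta_toNormalization_bijective {X : Scheme.{u}} [IsIntegral X] {K : Type u} [Field K]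
    (φ : X.functionField →+* K) (hφ : φ.Finite) (g : Spec (CommRingCat.of K) ⟶ X)
    (hg : g = Spec.map (CommRingCat.ofHom φ) ≫ X.fromSpecStalk (genericPoint X))
    [QuasiCompact g] [QuasiSeparated g] [IsIntegral g.normalization]
    {U : X.Opens} (hU : IsAffineOpen U) [Nonempty U]
    (hj : g.toNormalization (IsLocalRing.closedPoint K) = genericPoint g.normalization) :
    Function.Bijective (theta g.toNormalization hj) := by
  refine ⟨(theta g.toNormalization hj).injective, fun z => ?_⟩
  let i2 := (φ.comp (X.germToFunctionField U).hom).toAlgebra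
  let i3 := φ.toAlgebra
  let i4 := (X.germToFunctionField U).hom.toAlgebra
  have : IsScalarTower Γ(X, U) X.functionField K := .of_algebraMap_eq fun _ => rfl
  have : Module.Finite X.functionField K := hφ
  have : IsFractionRing Γ(X, U) X.functionField := functionField_isFractionRing_of_isAffineOpen X U hU
  have halg : IsAlgebraic Γ(X, U) z :=
    (IsFractionRing.isAlgebraic_iff Γ(X, U) X.functionField K).mpr (IsAlgebraic.of_finite _ z)
  obtain ⟨a, ha, hint⟩ := halg.exists_integral_multiple
  obtain ⟨b, hb, hbz⟩ := exists_ev_toNormalization φ g hg hU (a • z) hint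
  obtain ⟨c, hc, hcz⟩ := exists_ev_toNormalization φ g hg hU (algebraMap Γ(X, U) K a) isIntegral_algebraMap
  have hgen : genericPoint g.normalization ∈ g.fromNormalization ⁻¹ᵁ U := hj ▸ hb
  refine ⟨g.normalization.presheaf.germ _ _ hgen b / g.normalization.presheaf.germ _ _ hgen c, ?_⟩
  rw [map_div₀, theta_germ, theta_germ, hbz, hcz, Algebra.smul_def, mul_div_cancel_left₀]
  intro h0
  refine ha ?_
  have h1 : X.germToFunctionField U a = 0 := φ.injective (by rw [map_zero]; exact h0)
  exact Scheme.germToFunctionField_injective X U (by rw [map_zero]; exact h1)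

/-- The transcendental generator and finiteness. -/
lemma exists_generator (k K : Type u) [Field k] [Field K] [Algebra k K]
    (hfg : (⊤ : IntermediateField k K).FG) (htr : Algebra.trdeg k K = 1) :
    ∃ x : K, Transcendental k x ∧ Module.Finite (IntermediateField.adjoin k {x}) K := by
  obtain ⟨s, hs⟩ := exists_isTranscendenceBasis k K
  have hcard : Cardinal.mk s = 1 := hs.cardinalMk_eq_trdeg.trans htr
  obtain ⟨x, rfl⟩ : ∃ x, s = {x} := Cardinal.mk_set_eq_one_iff.mp hcard
  refine ⟨x, hs.1.transcendental ⟨x, rfl⟩, ?_⟩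
  have halg : Algebra.IsAlgebraic (IntermediateField.adjoin k {x}) K := by
    have := hs.isAlgebraic_field
    rwa [Subtype.range_coe] at this
  obtain ⟨S, hS⟩ := hfg
  have : FiniteDimensional (IntermediateField.adjoin k {x})
      (IntermediateField.adjoin (IntermediateField.adjoin k {x}) (S : Set K)) :=
    IntermediateField.finiteDimensional_adjoin fun y _ => Algebra.IsIntegral.isIntegral y
  have htop : IntermediateField.adjoin (IntermediateField.adjoin k {x}) (S : Set K) = ⊤ := by
    refine IntermediateField.restrictScalars_injective k (top_le_iff.mp ?_)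
    rw [← hS]
    exact IntermediateField.adjoin_le_iff.mpr (IntermediateField.subset_adjoin _ _)
  rw [htop] at this
  exact Module.Finite.equiv (IntermediateField.topEquiv (F := IntermediateField.adjoin k {x}) (E := K)).toLinearEquiv

end Groth.Agent.CurveModel

namespace Groth.Agent.S2345

/-- Let K be a finitely generated field extension of k of transcendence degree one. Then there is an
integral normal algebraic curve X, proper over k, whose function field is isomorphic to K compatibly
with the maps from k. -/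
theorem result (k : Type u) [Field k] (K : Type u) [Field K] [Algebra k K]
    (hfg : (⊤ : IntermediateField k K).FG) (htr : Algebra.trdeg k K = 1) :
    ∃ (X : Scheme.{u}) (_ : X.Over (Spec (CommRingCat.of k))) (_ : IsIntegral X), IsProper (X ↘ (Spec (CommRingCat.of k))) ∧ Pi1.IsNormalScheme X ∧
      (∀ x : X, IsClosed ({x} : Set X) → ringKrullDim (X.presheaf.stalk x) = 1) ∧
      ∃ e : X.presheaf.stalk (genericPoint X) ≃+* K, ∀ c : k, e (algebraMap k (X.presheaf.stalk (genericPoint X)) c) = algebraMap k K c := by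
  obtain ⟨x, hx, hfin⟩ := CurveModel.exists_generator k K hfg htr
  let v : Fin 2 → K := ![1, x]
  let g : Spec (CommRingCat.of K) ⟶ CohB1.ProjSpace 1 k :=
    ProjPoint.point (algebraMap k K) v 0 isUnit_one
  have : IsIntegral (CohB1.ProjSpace 1 k) := CurveModel.isIntegral_projLine k
  let ψ0 := CurveModel.evalChart k v 0 isUnit_one
  have hψ : Function.Injective ψ0 := CurveModel.evalChart_injective k 0 1 (by decide) v rfl hx
  let ι : Spec (CommRingCat.of (HomogeneousLocalization.Away (CohB1.polyGrading 1 k) (MvPolynomial.X 0))) ⟶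
      CohB1.ProjSpace 1 k := Proj.awayι (CohB1.polyGrading 1 k) (MvPolynomial.X 0) (ProjPoint.X_mem 0) one_pos
  have : IsOpenImmersion ι := inferInstanceAs (IsOpenImmersion
    (Proj.awayι (CohB1.polyGrading 1 k) (MvPolynomial.X 0) (ProjPoint.X_mem 0) one_pos))
  let s := Spec.map (CommRingCat.ofHom ψ0)
  have hgeq : g = s ≫ ι := rfl
  have : IsDomain (CommRingCat.of (HomogeneousLocalization.Away (CohB1.polyGrading 1 k) (MvPolynomial.X 0))) :=
    hψ.isDomain
  have hj : g (IsLocalRing.closedPoint K) = genericPoint (CohB1.ProjSpace 1 k) := by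
    have : Nonempty (Spec (CommRingCat.of (HomogeneousLocalization.Away (CohB1.polyGrading 1 k) (MvPolynomial.X 0)))) :=
      ⟨s (IsLocalRing.closedPoint K)⟩
    rw [← genericPoint_eq_of_isOpenImmersion ι, genericPoint_eq_bot_of_affine]
    refine congrArg ι (PrimeSpectrum.ext ?_)
    show Ideal.comap ψ0 (IsLocalRing.maximalIdeal K) = ⊥
    rw [(IsLocalRing.isField_iff_maximalIdeal_eq).mp (Field.toIsField K)]
    exact Ideal.comap_bot_of_injective ψ0 hψ
  let φ := CurveModel.theta g hj
  have hπ : g ≫ CohB1.ProjSpace.toSpec 1 k = Spec.map (CommRingCat.ofHom (algebraMap k K)) :=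
    ProjUniv.point_toSpec _ _ _ _
  have hk : ∀ c : k, ∃ a, φ a = algebraMap k K c := fun c =>
    ⟨_, CurveModel.theta_base g hj _ _ hπ c⟩
  have hxr : ∃ a, φ a = x := by
    obtain ⟨a, ha⟩ := CurveModel.ev_openImmersion_surj s ι
      ((Scheme.ΓSpecIso _).inv (ProjPoint.coord (n := 1) (R := k) 0 1))
    have hgen : genericPoint (CohB1.ProjSpace 1 k) ∈ ι.opensRange := hj ▸ ⟨_, rfl⟩
    refine ⟨(CohB1.ProjSpace 1 k).presheaf.germ _ _ hgen a, ?_⟩
    rw [CurveModel.theta_germ g hj]
    refine (ha _).trans ((CurveModel.ev_specMap _ _).trans ?_)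
    exact ProjUniv.evalAway_coord (algebraMap k K) v 0 1 (ProjPoint.isUnit_eval_X isUnit_one) rfl
  have hφ : φ.Finite := by
    have hle : IntermediateField.adjoin k {x} ≤
        ({ φ.fieldRange with algebraMap_mem' := fun c => hk c } : IntermediateField k K) :=
      IntermediateField.adjoin_le_iff.mpr (by simpa using hxr)
    let eφ := RingEquiv.ofBijective φ.rangeRestrictField
      ⟨fun a b h => φ.injective (congrArg Subtype.val h), by rintro ⟨_, a, rfl⟩; exact ⟨a, rfl⟩⟩
    let χ : IntermediateField.adjoin k {x} →+* (CohB1.ProjSpace 1 k).functionField :=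
      eφ.symm.toRingHom.comp
        { toFun := fun y => (⟨y.1, hle y.2⟩ : φ.fieldRange)
          map_one' := rfl
          map_mul' := fun _ _ => rfl
          map_zero' := rfl
          map_add' := fun _ _ => rfl }
    have hχ : φ.comp χ = algebraMap (IntermediateField.adjoin k {x}) K :=
      RingHom.ext fun y => congrArg Subtype.val (eφ.apply_symm_apply ⟨y.1, hle y.2⟩)
    exact RingHom.Finite.of_comp_finite (f := χ) (hχ ▸ RingHom.finite_algebraMap.mpr hfin)
  have hg := CurveModel.specMap_theta g hj
  have : IsProper (CohB1.ProjSpace 1 k ↘ Spec (CommRingCat.of k)) := CurveModel.isProper_toSpec k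
  have hdim : ∀ p : CohB1.ProjSpace 1 k, IsClosed ({p} : Set (CohB1.ProjSpace 1 k)) →
      ringKrullDim ((CohB1.ProjSpace 1 k).presheaf.stalk p) = 1 :=
    CurveModel.ringKrullDim_stalk_eq_one k x hx
  obtain ⟨hfinN, hnormal, hdimN⟩ :=
    Groth.Agent.S4454.result k (CohB1.ProjSpace 1 k) hdim K φ hφ g hg
  let π : g.normalization ⟶ Spec (CommRingCat.of k) := g.fromNormalization ≫ CohB1.ProjSpace.toSpec 1 k
  have hjN : g.toNormalization (IsLocalRing.closedPoint K) = genericPoint g.normalization := by
    refine IsGenericPoint.eq ?_ (genericPoint_spec _)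
    have hd := g.toNormalization.denseRange.closure_range
    have hr : Set.range g.toNormalization = {g.toNormalization (IsLocalRing.closedPoint K)} :=
      Set.eq_singleton_iff_unique_mem.2 ⟨⟨_, rfl⟩, by
        rintro _ ⟨w, rfl⟩; rw [Subsingleton.elim w (IsLocalRing.closedPoint K)]⟩
    rwa [hr] at hd
  have : Nonempty ι.opensRange := ⟨⟨_, ⟨s (IsLocalRing.closedPoint K), rfl⟩⟩⟩
  let e := RingEquiv.ofBijective _ (CurveModel.theta_toNormalization_bijective φ hφ g hg
    (isAffineOpen_opensRange ι) hjN)
  refine ⟨g.normalization, ⟨π⟩, inferInstance, inferInstanceAs (IsProper (g.fromNormalization ≫ _)),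
    hnormal, hdimN, e, fun c => ?_⟩
  exact CurveModel.theta_base g.toNormalization hjN π (algebraMap k K)
    (by rw [← hπ, ← Category.assoc, g.toNormalization_fromNormalization]) c

end Groth.Agent.S2345
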