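import Groth.Statements.S2346
import Groth.Agent.BirQF.DimLE
-- import your own Groth.Agent.* helpers here

set_option autoImplicit false
universe u
open CategoryTheory CategoryTheory.Limits AlgebraicGeometry
open EGA2

namespace Groth.Agent.S2346

/-- Let X and Y be irreducible algebraic curves over k (separated, of finite type, local rings at closed
points one-dimensional) and f : X → Y a k-morphism. Then f is dominant if and only if every fibre
f⁻¹(y) is a finite set. -/
theorem result (k : Type u) [Field k] (X Y : Scheme.{u}) [X.Over (Spec (CommRingCat.of k))] [Y.Over (Spec (CommRingCat.of k))]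
    [LocallyOfFiniteType (X ↘ (Spec (CommRingCat.of k)))] [QuasiCompact (X ↘ (Spec (CommRingCat.of k)))] [IsSeparated (X ↘ (Spec (CommRingCat.of k)))] [LocallyOfFiniteType (Y ↘ (Spec (CommRingCat.of k)))] [QuasiCompact (Y ↘ (Spec (CommRingCat.of k)))] [IsSeparated (Y ↘ (Spec (CommRingCat.of k)))] [IrreducibleSpace X] [IrreducibleSpace Y]
    (hX : (∀ x : X, IsClosed ({x} : Set X) → ringKrullDim (X.presheaf.stalk x) = 1)) (hY : (∀ x : Y, IsClosed ({x} : Set Y) → ringKrullDim (Y.presheaf.stalk x) = 1))
    (f : X ⟶ Y) (hf : f ≫ (Y ↘ (Spec (CommRingCat.of k))) = X ↘ (Spec (CommRingCat.of k))) :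
    IsDominant f ↔ ∀ y : Y, (f.base ⁻¹' {y}).Finite := by
  set sX := X ↘ (Spec (CommRingCat.of k))
  set sY := Y ↘ (Spec (CommRingCat.of k))
  haveI : LocallyOfFiniteType (f ≫ sY) := hf ▸ inferInstance
  haveI : LocallyOfFiniteType f := locallyOfFiniteType_of_comp f sY
  haveI : JacobsonSpace X := LocallyOfFiniteType.jacobsonSpace sX
  haveI : JacobsonSpace Y := LocallyOfFiniteType.jacobsonSpace sY
  haveI : IsLocallyNoetherian X := LocallyOfFiniteType.isLocallyNoetherian sX
  haveI : CompactSpace X := QuasiCompact.compactSpace_of_compactSpace sX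
  haveI : IsNoetherian X := { }
  have hclosed : ∀ {Z : Scheme.{u}} [IrreducibleSpace Z] [JacobsonSpace Z],
      (∀ x : Z, IsClosed ({x} : Set Z) → ringKrullDim (Z.presheaf.stalk x) = 1) →
      ¬ IsClosed ({genericPoint Z} : Set Z) ∧ ∀ p : Z, p ≠ genericPoint Z → IsClosed ({p} : Set Z) := by
    intro Z _ _ hZ
    refine ⟨fun hc => ?_, fun p hp => ?_⟩
    · have h1 := hZ _ hc
      have hu : ∀ z : Z, z = genericPoint Z := fun z => by
        have := (genericPoint_spec Z).mem_closed_set_iff hc
        exact Set.mem_singleton_iff.1 ((this.1 rfl) (Set.mem_univ z))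
      haveI : Subsingleton (Spec (Z.presheaf.stalk (genericPoint Z))) :=
        ⟨fun a b => (Z.fromSpecStalk _).isEmbedding.injective ((hu _).trans (hu _).symm)⟩
      haveI : Subsingleton (PrimeSpectrum (Z.presheaf.stalk (genericPoint Z))) :=
        inferInstanceAs (Subsingleton (Spec (Z.presheaf.stalk (genericPoint Z))))
      have h0 : ringKrullDim (Z.presheaf.stalk (genericPoint Z)) ≤ 0 :=
        Order.krullDim_nonpos_iff_forall_isMax.2 fun a b _ => (Subsingleton.elim b a).le
      rw [h1] at h0
      exact absurd h0 (by decide)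
    · obtain ⟨q, hq, hqc⟩ := nonempty_inter_closedPoints (Z := closure ({p} : Set Z))
        ⟨p, subset_closure rfl⟩ isClosed_closure.isLocallyClosed
      have hpq : p = q := BirQF.eq_of_specializes_of_stalk_dim_le_one (hZ q hqc).le hp
        (specializes_iff_mem_closure.2 hq)
      exact hpq ▸ hqc
  obtain ⟨hηX, hclX⟩ := hclosed hX
  obtain ⟨hηY, hclY⟩ := hclosed hY
  constructor
  · intro hdom y
    have hξ : f (genericPoint X) = genericPoint Y := by
      have h : closure (Set.range f) ⊆ closure {f (genericPoint X)} := by
        refine closure_minimal ?_ isClosed_closure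
        rintro _ ⟨a, rfl⟩
        exact specializes_iff_mem_closure.1 ((genericPoint_specializes a).map f.continuous)
      rw [f.denseRange.closure_range] at h
      exact ((specializes_iff_mem_closure.2 (h (Set.mem_univ (genericPoint Y)))).antisymm (genericPoint_specializes _)).eq
    by_cases hy : y = genericPoint Y
    · refine (Set.finite_singleton (genericPoint X)).subset fun a ha => ?_
      by_contra hne
      have := f.closePoints_subset_preimage_closedPoints (hclX a hne)
      refine hηY ?_
      have h2 : f a = genericPoint Y := (Set.mem_singleton_iff.1 ha).trans hy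
      exact h2 ▸ this
    · obtain ⟨T, hTfin, hTc, hTi, hT⟩ :=
        TopologicalSpace.NoetherianSpace.exists_finite_set_isClosed_irreducible ((hclY y hy).preimage f.continuous)
      rw [show (f.base ⁻¹' {y}) = ⋃₀ T from hT]
      refine hTfin.sUnion fun t ht => ?_
      obtain ⟨g, hg⟩ := QuasiSober.sober (hTi t ht) (hTc t ht)
      refine (Set.finite_singleton g).subset fun a ha => ?_
      have hga : g ⤳ a := specializes_iff_mem_closure.2 (hg.def.symm ▸ ha)
      have hgt : g ∈ t := hg.def ▸ subset_closure rfl
      have hgc : IsClosed ({g} : Set X) := hclX g fun h => hy (by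
        have : f g = y := (hT.symm ▸ ⟨t, ht, hgt⟩ : g ∈ f ⁻¹' {y})
        rw [h, hξ] at this
        exact this.symm)
      have := specializes_iff_mem_closure.1 hga
      rwa [hgc.closure_eq] at this
  · intro hfin
    by_contra hdom
    have hne : f (genericPoint X) ≠ genericPoint Y := by
      intro h
      apply hdom
      refine ⟨?_⟩
      rw [denseRange_iff_closure_range, ← Set.univ_subset_iff]
      exact ((genericPoint_spec Y).def).symm.subset.trans (closure_mono (Set.singleton_subset_iff.2 ⟨_, h⟩))
    have hyc := hclY _ hne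
    have hfull : (f.base ⁻¹' {f (genericPoint X)}) = Set.univ := by
      refine Set.eq_univ_of_forall fun a => ?_
      have := specializes_iff_mem_closure.1 ((genericPoint_specializes a).map f.continuous)
      rwa [hyc.closure_eq] at this
    haveI : Finite X := Set.finite_univ_iff.1 (hfull ▸ hfin (f (genericPoint X)))
    exact hηX (isClosed_discrete _)

end Groth.Agent.S2346
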