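import Groth.Statements.S2348
import Groth.Agent.BlowUpLib.Props
import Groth.Agent.SpreadFP.Gen
-- import your own Groth.Agent.* helpers here

set_option autoImplicit false
universe u
open CategoryTheory CategoryTheory.Limits AlgebraicGeometry
open EGA2

namespace Groth.Agent.S2348

/-- For an ideal of O_Y: let Y be an integral scheme, I a nonzero quasi-coherent ideal sheaf and b : X →
Y a blowing up of Y in I (characterised by its universal property). Then X is integral, b sends the
generic point of X to that of Y and induces a bijection on their residue fields (b is birational).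
The printed statement also asserts that b is surjective; the proof does not show this and it fails
when I is not of finite type, so it is left out. -/
theorem result {X Y : Scheme.{u}} [IsIntegral Y] (I : Y.IdealSheafData) (hI : I ≠ ⊥)
    (b : X ⟶ Y) (hb : BlowUp.IsBlowUp b I) :
    ∃ (_ : IsIntegral X), ∃ hgen : b.base (genericPoint X) = genericPoint Y,
      Function.Bijective (b.residueFieldMap (genericPoint X)).hom := by
  haveI : IsReduced X := BlowUpLib.isReduced_blowUp hb
  let U : Y.Opens := I.support.compl
  obtain ⟨y₀, hy₀⟩ : ∃ y, y ∈ U := by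
    by_contra h
    push_neg at h
    apply hI
    rw [← Scheme.IdealSheafData.support_eq_top_iff]
    exact SetLike.coe_injective (Set.eq_univ_of_forall fun y => by_contra fun hy => h y hy)
  have hηU : genericPoint Y ∈ U := (genericPoint_specializes y₀).mem_open U.2 hy₀
  haveI : IsIso (b ∣_ U) := BlowUpLib.isIso_restrict hb U fun y hy => hy
  let W : X.Opens := b ⁻¹ᵁ U
  haveI : Nonempty U.toScheme := ⟨⟨y₀, hy₀⟩⟩
  haveI : IsIntegral U.toScheme := isIntegral_of_isOpenImmersion U.ι
  haveI : IrreducibleSpace W.toScheme := by
    let e := Scheme.homeoOfIso (asIso (b ∣_ U))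
    haveI : Nonempty W.toScheme := ⟨e.symm ⟨y₀, hy₀⟩⟩
    haveI : PreirreducibleSpace W.toScheme := by
      refine ⟨?_⟩
      have h1 : IsPreirreducible (Set.univ : Set U.toScheme) := PreirreducibleSpace.isPreirreducible_univ
      have h2 := h1.image e.symm e.symm.continuous.continuousOn
      rwa [Set.image_univ_of_surjective e.symm.surjective] at h2
    exact { toNonempty := inferInstance }
  have hgens : ∀ x ∈ SpreadFP.Gens X, x ∈ W := fun x hx => by
    have h := BlowUpLib.not_mem_support_of_maximal hb.1 (fun z hz => SpreadFP.eq_of_gens_specializes hx hz)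
    intro h'
    apply h
    rw [← SetLike.mem_coe, Scheme.IdealSheafData.support_comap]
    exact h'
  let ξ : X := W.ι (genericPoint W.toScheme)
  haveI : IrreducibleSpace X := by
    haveI : Nonempty X := ⟨ξ⟩
    haveI : PreirreducibleSpace X := by
      refine ⟨?_⟩
      have hu : closure ({ξ} : Set X) = Set.univ := Set.eq_univ_of_forall fun z => by
        obtain ⟨g, hg, hgz⟩ := SpreadFP.exists_gen_specializes z
        have : ξ ⤳ g := (genericPoint_specializes (α := W.toScheme) ⟨g, hgens g hg⟩).map W.ι.continuous
        exact specializes_iff_mem_closure.1 (this.trans hgz)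
      rw [← hu]
      exact isIrreducible_singleton.closure.isPreirreducible
    exact { toNonempty := inferInstance }
  haveI : IsIntegral X := isIntegral_of_irreducibleSpace_of_isReduced X
  refine ⟨inferInstance, ?_⟩
  haveI : IsOpenImmersion (W.ι ≫ b) := by rw [← morphismRestrict_ι]; infer_instance
  have hgen : b (genericPoint X) = genericPoint Y := by
    have h1 := genericPoint_eq_of_isOpenImmersion (W.ι ≫ b)
    rw [← genericPoint_eq_of_isOpenImmersion W.ι, ← Scheme.Hom.comp_apply]
    exact h1
  refine ⟨hgen, RingHom.injective _, fun z => ?_⟩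
  haveI : IsIso (b.stalkMap (genericPoint X)) := by
    have h := SpreadFP.isIso_stalkMap_of_comp b W.ι (genericPoint W.toScheme)
    rwa [genericPoint_eq_of_isOpenImmersion W.ι] at h
  obtain ⟨a, rfl⟩ := X.residue_surjective _ z
  obtain ⟨c, rfl⟩ := (ConcreteCategory.bijective_of_isIso (b.stalkMap (genericPoint X))).2 a
  exact ⟨Y.residue _ c, ConcreteCategory.congr_hom (Scheme.residue_residueFieldMap b (genericPoint X)) c⟩

end Groth.Agent.S2348
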