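import Groth.Statements.S2350
import Groth.Agent.ProjUniv.Basis
import Groth.Agent.ProjTwist.Ample
-- import your own Groth.Agent.* helpers here

set_option autoImplicit false
universe u
open CategoryTheory CategoryTheory.Limits AlgebraicGeometry
open EGA2

namespace Groth.Agent.S2350

open Groth.Agent
set_option synthInstance.maxHeartbeats 400000

/-- Let X be a scheme, L an invertible O_X-module and s a global section of L. Then the inclusion of the
open X_s (where s generates L) into X is an affine morphism. -/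
theorem result (X : Scheme.{u}) (L : X.Modules) (hL : PicF.IsInvertible L) (s : Coh.structureModule X ⟶ L) :
    IsAffineHom (CohB1.genLocus L s).ι := by
  obtain ⟨σ, rfl⟩ : ∃ σ : Γ(L, ⊤), ProjTwist.globalHom L σ = s := ⟨s.app ⊤ (1 : Γ(X, ⊤)), by
    refine Scheme.Modules.hom_ext _ _ (fun V => AddCommGrpCat.ext ?_)
    intro (r : Γ(X, V))
    rw [ProjTwist.globalHom_app]
    refine Eq.trans ?_ (congrArg (s.app V) (mul_one r))
    refine Eq.trans ?_ (Scheme.Modules.Hom.app_smul s r (1 : Γ(X, V))).symm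
    congr 1
    refine (Groth.Agent.QCohLib.app_map s (le_top : V ≤ ⊤) (1 : Γ(X, ⊤))).symm.trans ?_
    exact congrArg (s.app V) (map_one (X.presheaf.map (homOfLE (le_top : V ≤ ⊤)).op).hom)⟩
  have heq : CohB1.genLocus L (ProjTwist.globalHom L σ) = ProjUniv.genOpen hL σ := by
    refine le_antisymm (sSup_le fun U hU x hx => ?_) (le_sSup ?_)
    · refine ProjUniv.gen_of_isBasis (L := L) (s := σ) (U := U) (fun W hW => ?_) hx
      obtain ⟨W', rfl⟩ : ∃ W' : (U : Scheme).Opens, U.ι ''ᵁ W' = W := ⟨U.ι ⁻¹ᵁ W, by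
        rw [Scheme.Hom.image_preimage_eq_opensRange_inf, Scheme.Opens.opensRange_ι, inf_eq_right]
        exact hW⟩
      have h1 := (ProjTwist.isIso_restrict_globalHom_iff L σ U).mp hU W'
      simp only [Groth.Agent.QCohLib.map_map]
      exact h1
    · show IsIso _
      rw [ProjTwist.isIso_restrict_globalHom_iff]
      intro V
      have hle : (ProjUniv.genOpen hL σ).ι ''ᵁ V ≤ ProjUniv.genOpen hL σ := by
        rintro _ ⟨z, -, rfl⟩
        exact z.2
      have h1 := ProjUniv.isBasis_genOpen hL σ _ hle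
      simp only [Groth.Agent.QCohLib.map_map] at h1
      exact h1
  rw [heq]
  choose V hVaff hxV ℓ hℓ using fun x : X => show ∃ (V : X.Opens) (_ : IsAffineOpen V) (_ : x ∈ V)
      (ℓ : Γ(L, V)), InvBasic.IsBasis L ℓ by
    obtain ⟨U, hxU, ℓ, hℓ⟩ := InvBasic.exists_isBasis hL x
    obtain ⟨V, hV, hxV, hVU⟩ := exists_isAffineOpen_mem_and_subset hxU
    exact ⟨V, hV, hxV, _, hℓ.restrict (V := V) hVU⟩
  refine isAffineHom_of_forall_exists_isAffineOpen _ fun x => ⟨V x, hxV x, hVaff x, ?_⟩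
  obtain ⟨c, hc⟩ := (hℓ x (V x) le_rfl).2 (ProjUniv.gres L σ (V x))
  dsimp only at hc
  rw [Groth.Agent.QCohLib.map_self] at hc
  have hkey : ProjUniv.genOpen hL σ ⊓ V x = X.basicOpen c := by
    refine le_antisymm (fun y hy => (X.mem_basicOpen c y hy.2).mpr ?_) (fun y hy => ?_)
    · obtain ⟨d, hd⟩ := (hy.1 : ProjUniv.Gen L σ y) (L.presheaf.germ (V x) y hy.2 (ℓ x))
      refine isUnit_iff_exists_inv.mpr ⟨d, ((hℓ x).stalk_bijective hy.2).1 ?_⟩
      have e1 : L.presheaf.germ (V x) y hy.2 (ProjUniv.gres L σ (V x)) = L.presheaf.germ ⊤ y trivial σ :=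
        TopCat.Presheaf.germ_res_apply _ _ _ _ _
      rw [← hc, InvBasic.germ_smul] at e1
      dsimp only
      rw [mul_comm, mul_smul, e1, hd, one_smul]
    · have hyV : y ∈ V x := X.basicOpen_le c hy
      refine ⟨?_, hyV⟩
      obtain ⟨u, hu⟩ := (X.mem_basicOpen c y hyV).mp hy
      intro z
      obtain ⟨b, hb⟩ := ((hℓ x).stalk_bijective hyV).2 z
      refine ⟨b * ↑u⁻¹, ?_⟩
      have e1 : L.presheaf.germ (V x) y hyV (ProjUniv.gres L σ (V x)) = L.presheaf.germ ⊤ y trivial σ :=
        TopCat.Presheaf.germ_res_apply _ _ _ _ _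
      rw [← hc, InvBasic.germ_smul, ← hu] at e1
      rw [← e1, smul_smul, Units.inv_mul_cancel_right]
      exact hb
  have hpre : IsAffineOpen ((ProjUniv.genOpen hL σ).ι ⁻¹ᵁ V x) := by
    rw [← Scheme.Hom.isAffineOpen_iff_of_isOpenImmersion (ProjUniv.genOpen hL σ).ι,
      Scheme.Hom.image_preimage_eq_opensRange_inf, Scheme.Opens.opensRange_ι, hkey]
    exact (hVaff x).basicOpen c
  exact hpre

end Groth.Agent.S2350
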