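import Groth.Statements.S2351
import Groth.Agent.NagataLib.Scheme

set_option autoImplicit false
universe u
open CategoryTheory CategoryTheory.Limits AlgebraicGeometry
open EGA2

namespace Groth.Agent.S2351

/-- Let X be an integral scheme and X' → X its normalization (integral closure of X in its function
field). Then X' is integral with integrally closed local rings, the morphism X' → X is surjective,
maps the generic point to the generic point and induces a bijection between the residue fields of
the generic points. (The quasi-compactness/quasi-separatedness binders on Spec K(X) → X always hold;
they are only needed to form Mathlib's relative normalization.) -/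
theorem result (X : Scheme.{u}) [IsIntegral X]
    [QuasiCompact (X.fromSpecStalk (genericPoint X))] [QuasiSeparated (X.fromSpecStalk (genericPoint X))] :
    ∃ (_ : IsIntegral (Curv2.normalization X)), Pi1.IsNormalScheme (Curv2.normalization X) ∧ Surjective (Curv2.normalizationι X) ∧
      ∃ hgen : (Curv2.normalizationι X).base (genericPoint (Curv2.normalization X)) = genericPoint X,
        Function.Bijective ((Curv2.normalizationι X).residueFieldMap (genericPoint (Curv2.normalization X))).hom := by
  have hg : X.fromSpecStalk (genericPoint X) =
      Spec.map (CommRingCat.ofHom (RingHom.id X.functionField)) ≫ X.fromSpecStalk (genericPoint X) := by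
    rw [CommRingCat.ofHom_id, Spec.map_id, Category.id_comp]
  have hint : IsIntegral (Curv2.normalization X) :=
    (inferInstance : IsIntegral (X.fromSpecStalk (genericPoint X)).normalization)
  refine ⟨hint, Groth.Agent.NagataLib.isNormalScheme_normalization _ _ hg,
    Groth.Agent.NagataLib.surjective_fromNormalization _ _ hg,
    Groth.Agent.NagataLib.map_genericPoint _ _ hg, ?_⟩
  let g := X.fromSpecStalk (genericPoint X)
  let z : Spec X.functionField := genericPoint (Spec X.functionField)
  have hint' : IsIntegral g.normalization := hint
  have hz : g.toNormalization z = genericPoint g.normalization := by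
    refine IsGenericPoint.eq ?_ (genericPoint_spec _)
    have hd := g.toNormalization.denseRange.closure_range
    have hr : Set.range g.toNormalization = {g.toNormalization z} :=
      Set.eq_singleton_iff_unique_mem.2 ⟨⟨z, rfl⟩, by
        rintro _ ⟨w, rfl⟩
        have : Subsingleton (Spec (CommRingCat.of X.functionField)) := inferInstance
        exact congrArg _ (this.elim w z)⟩
    rwa [hr] at hd
  have key : Function.Bijective
      (g.fromNormalization.residueFieldMap (g.toNormalization z)).hom := by
    have hpre : IsPreimmersion (g.toNormalization ≫ g.fromNormalization) := by
      rw [g.toNormalization_fromNormalization]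
      infer_instance
    have hcomp : Function.Surjective ((g.toNormalization ≫ g.fromNormalization).stalkMap z) :=
      (g.toNormalization ≫ g.fromNormalization).stalkMap_surjective z
    have hr : Function.Surjective ((g.toNormalization ≫ g.fromNormalization).residueFieldMap z).hom := by
      intro y
      obtain ⟨t, rfl⟩ := ((Spec X.functionField).residue_surjective z) y
      obtain ⟨t', rfl⟩ := hcomp t
      exact ⟨X.residue _ t', ConcreteCategory.congr_hom
        (Scheme.residue_residueFieldMap (g.toNormalization ≫ g.fromNormalization) z) t'⟩
    refine ⟨RingHom.injective _, fun y => ?_⟩
    obtain ⟨w, hw⟩ := hr ((g.toNormalization.residueFieldMap z).hom y)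
    exact ⟨w, (g.toNormalization.residueFieldMap z).hom.injective ((ConcreteCategory.congr_hom
      (Scheme.residueFieldMap_comp g.toNormalization g.fromNormalization z) w).symm.trans hw)⟩
  rw [hz] at key
  exact key

end Groth.Agent.S2351
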