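import Groth.Statements.S2355
import Groth.Agent.InvPow.AmplePullback
-- import your own Groth.Agent.* helpers here

set_option autoImplicit false
universe u
open CategoryTheory CategoryTheory.Limits AlgebraicGeometry
open EGA2

namespace Groth.Agent.S2355

/-- Let f : X → Y be quasi-compact, g : X' → X quasi-affine and L an O_X-module ample relative to f.
Then g^* L is ample relative to g ≫ f. -/
theorem result {X X' Y : Scheme.{u}} (f : X ⟶ Y) [QuasiCompact f] (g : X' ⟶ X) (hg : Mor2.IsQuasiAffine g)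
    (L : X.Modules) (hL : RelAmple.IsRelAmple f L) :
    RelAmple.IsRelAmple (g ≫ f) ((Scheme.Modules.pullback g).obj L) := by
  obtain ⟨hgq, hgA⟩ := hg
  have hsep : IsSeparated g := IsZariskiLocalAtTarget.of_forall_exists_morphismRestrict fun x => by
    obtain ⟨U, hU, hxU, -⟩ := exists_isAffineOpen_mem_and_subset (x := x) (U := ⊤) (TopologicalSpace.Opens.mem_top x)
    have := hgA U hU
    exact ⟨U, hxU, IsSeparated.of_comp (g ∣_ U) (terminal.from _)⟩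
  obtain ⟨_, hV⟩ := (InvPow.isRelAmple_iff f).mp hL
  refine (InvPow.isRelAmple_iff _).mpr ⟨inferInstance, fun V => ?_⟩
  let W := f ⁻¹ᵁ V.1
  have hA := hV V
  have := InvPow.isSeparated_of_isAmple hA
  have := hA.2.1
  have : IsSeparated (g ∣_ W) := IsZariskiLocalAtTarget.restrict hsep W
  have : QuasiCompact (g ∣_ W) := IsZariskiLocalAtTarget.restrict hgq W
  have : (g ⁻¹ᵁ W : Scheme.{u}).IsSeparated := ⟨by rw [← terminal.comp_from (g ∣_ W)]; infer_instance⟩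
  have : CompactSpace (g ⁻¹ᵁ W) := QuasiCompact.compactSpace_of_compactSpace (g ∣_ W)
  refine InvPow.isAmple_of_iso (InvPow.restrictPullbackIso g W L)
    (InvPow.isAmple_pullback_quasiAffine hA (g ∣_ W) fun y => ?_)
  obtain ⟨U, hU, hyU, -⟩ := exists_isAffineOpen_mem_and_subset (x := (g ∣_ W) y) (U := ⊤) (TopologicalSpace.Opens.mem_top _)
  refine ⟨U, hyU, ?_⟩
  have := hgA (W.ι ''ᵁ U) (hU.image_of_isOpenImmersion W.ι)
  have hr : Set.range (((g ∣_ W) ⁻¹ᵁ U).ι ≫ (g ⁻¹ᵁ W).ι) ⊆ Set.range (g ⁻¹ᵁ (W.ι ''ᵁ U)).ι := by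
    rintro _ ⟨z, rfl⟩
    rw [Scheme.Opens.range_ι, ← image_morphismRestrict_preimage]
    exact ⟨z.1, z.2, rfl⟩
  let j := IsOpenImmersion.lift _ _ hr
  have hj : j ≫ (g ⁻¹ᵁ (W.ι ''ᵁ U)).ι = ((g ∣_ W) ⁻¹ᵁ U).ι ≫ (g ⁻¹ᵁ W).ι := IsOpenImmersion.lift_fac _ _ _
  have : IsOpenImmersion (j ≫ (g ⁻¹ᵁ (W.ι ''ᵁ U)).ι) := hj ▸ inferInstance
  have : IsOpenImmersion j := IsOpenImmersion.of_comp j (g ⁻¹ᵁ (W.ι ''ᵁ U)).ι
  have : CompactSpace ((g ∣_ W) ⁻¹ᵁ U) :=
    isCompact_iff_compactSpace.mp ((g ∣_ W).isCompact_preimage hU.isCompact)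
  exact Scheme.IsQuasiAffine.of_isImmersion j

end Groth.Agent.S2355
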