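import Groth.Statements.S2356
import Groth.Agent.LocFreeAnn.Free
import Groth.Agent.QCohLib.Criterion
import Groth.Agent.DCohPerf.Coherent
import Mathlib
-- import your own Groth.Agent.* helpers here

set_option autoImplicit false
universe u
open CategoryTheory CategoryTheory.Limits AlgebraicGeometry
open EGA2

namespace Groth.Agent.S2356

section Aux
open CategoryTheory CategoryTheory.Limits AlgebraicGeometry TopologicalSpace Opposite
open Groth.Agent

variable {X : Scheme.{u}}

set_option backward.isDefEq.respectTransparency false in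
theorem iso_free_of_bases (E : X.Modules) (r : ℕ) (U : X.Opens) (s : Fin r → Γ(E, U))
    (h : ∀ x ∈ U, ∃ W : X.Opens, x ∈ W ∧ ∀ (O : X.Opens) (_ : O ≤ W) (hO : O ≤ U),
      Function.Bijective fun c : Fin r → Γ(X, O) => ∑ i, c i • E.presheaf.map (homOfLE hO).op (s i)) :
    Nonempty (E.restrict U.ι ≅ FlatMod.freeMod (U : Scheme.{u}) r) := by
  let E' := E.restrict U.ι
  let t : Fin r → Γ(E', ⊤) := fun i =>
    (E.presheaf.map (homOfLE U.ι_image_top.le).op (s i) : Γ(E, U.ι ''ᵁ ⊤))
  let φ : FlatMod.freeMod (U : Scheme.{u}) r ⟶ E' :=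
    Sigma.desc fun i => CohVanish.homOfSection E' (t i)
  have hgen : ∀ i, φ.app ⊤ (LocFreeAnn.gen _ r i) = t i := fun i => by
    have e : (Sigma.ι (fun _ : Fin r => Coh.structureModule (U : Scheme.{u})) i ≫ φ).app ⊤
        (1 : Γ((U : Scheme.{u}), ⊤)) = t i := by
      rw [show Sigma.ι (fun _ : Fin r => Coh.structureModule (U : Scheme.{u})) i ≫ φ =
        CohVanish.homOfSection E' (t i) from Sigma.ι_desc _ _]
      refine (CohVanish.homOfSection_app E' (t i) ⊤ 1).trans ?_
      rw [one_smul]; exact QCohLib.map_self E' _ _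
    exact e
  have key : ∀ x : (U : Scheme.{u}), ∃ W : (U : Scheme.{u}).Opens, x ∈ W ∧ ∀ V, V ≤ W →
      Function.Bijective (φ.app V) := fun x => by
    obtain ⟨W, hxW, hW⟩ := h x.1 x.2
    refine ⟨U.ι ⁻¹ᵁ W, hxW, fun V hV => ?_⟩
    rw [LocFreeAnn.free_app_bijective_iff]
    have hVW : U.ι ''ᵁ V ≤ W := by
      refine (Scheme.Hom.image_mono _ hV).trans ?_
      rw [Scheme.Hom.image_preimage_eq_opensRange_inf]
      exact inf_le_right
    have hVU : U.ι ''ᵁ V ≤ U := (Scheme.Hom.image_mono _ le_top).trans U.ι_image_top.le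
    have hb := hW _ hVW hVU
    let ρ := (U.ι.appIso V).inv
    let σ := (E.restrictAppIso U.ι V).inv
    have hρ : Function.Bijective ρ := ConcreteCategory.bijective_of_isIso ρ
    have hσ : Function.Bijective σ := ConcreteCategory.bijective_of_isIso σ
    convert hσ.comp (hb.comp (Function.Bijective.piMap fun _ : Fin r => hρ)) using 2 with c
    refine Eq.trans ?_ (map_sum σ.hom _ Finset.univ).symm
    refine Finset.sum_congr rfl fun i _ => ?_
    refine Eq.trans ?_ (Scheme.Modules.smul_restrictAppIso_inv_apply U.ι E V (ρ (c i)) _).symm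
    refine congrArg₂ (· • ·) ((U.ι.appIso V).inv_hom_id_apply (c i)).symm ?_
    rw [hgen]
    exact QCohLib.map_map E (Scheme.Hom.image_mono _ le_top) U.ι_image_top.le (s i)
  have : IsIso φ := by
    rw [QCohLib.isIso_iff_stalk_bijective]
    intro x
    obtain ⟨W, hxW, hW⟩ := key x
    refine ⟨fun a b hab => ?_, fun b => ?_⟩
    · obtain ⟨V₁, hx₁, a, rfl⟩ := TopCat.Presheaf.exists_germ_eq _ a
      obtain ⟨V₂, hx₂, b, rfl⟩ := TopCat.Presheaf.exists_germ_eq _ b
      rw [QCohLib.stalkHom_germ, QCohLib.stalkHom_germ] at hab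
      obtain ⟨V, hxV, i₁, i₂, e⟩ := E'.presheaf.germ_eq x hx₁ hx₂ _ _ hab
      rw [show i₁ = homOfLE i₁.le from Subsingleton.elim _ _,
        show i₂ = homOfLE i₂.le from Subsingleton.elim _ _] at e
      let V' := V ⊓ W
      have h₁ : V' ≤ V₁ := inf_le_left.trans i₁.le
      have h₂ : V' ≤ V₂ := inf_le_left.trans i₂.le
      have e' := congrArg (E'.presheaf.map (homOfLE (inf_le_left : V' ≤ V)).op) e
      rw [QCohLib.map_map, QCohLib.map_map, ← QCohLib.app_map φ h₁, ← QCohLib.app_map φ h₂] at e'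
      have e2 := (hW V' inf_le_right).1 e'
      rw [← TopCat.Presheaf.germ_res_apply _ (homOfLE h₁) x ⟨hxV, hxW⟩ a,
        ← TopCat.Presheaf.germ_res_apply _ (homOfLE h₂) x ⟨hxV, hxW⟩ b, e2]
    · obtain ⟨V, hxV, b, rfl⟩ := TopCat.Presheaf.exists_germ_eq _ b
      obtain ⟨a, ha⟩ := (hW (V ⊓ W) inf_le_right).2 (E'.presheaf.map (homOfLE inf_le_left).op b)
      refine ⟨(FlatMod.freeMod (U : Scheme.{u}) r).presheaf.germ (V ⊓ W) x ⟨hxV, hxW⟩ a, ?_⟩
      rw [QCohLib.stalkHom_germ, ha, TopCat.Presheaf.germ_res_apply]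
  exact ⟨(asIso φ).symm⟩

theorem exists_separator {V : X.Opens} (hV : IsAffineOpen V) (T : Finset X) (w : X) (hw : w ∈ V)
    (hT : ∀ w' ∈ T, w' ∈ V ∧ w' ≠ w ∧ ∀ y ∈ V, y ∈ closure {w'} → y = w') :
    ∃ c : Γ(X, V), w ∈ X.basicOpen c ∧ ∀ w' ∈ T, w' ∉ X.basicOpen c := by
  classical
  induction T using Finset.induction with
  | empty => exact ⟨1, by rw [Scheme.basicOpen_of_isUnit _ isUnit_one]; exact hw, by simp⟩
  | insert a T ha ih =>
    obtain ⟨c, hc, hcT⟩ := ih fun w' hw' => hT w' (Finset.mem_insert_of_mem hw')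
    obtain ⟨haV, haw, hacl⟩ := hT a (Finset.mem_insert_self a T)
    let O : X.Opens := V ⊓ ⟨(closure {a})ᶜ, isClosed_closure.isOpen_compl⟩
    obtain ⟨d, hd, hwd⟩ := hV.exists_basicOpen_le (V := O)
      ⟨w, hw, fun h => haw (hacl w hw h).symm⟩ hw
    refine ⟨c * d, by rw [Scheme.basicOpen_mul]; exact ⟨hc, hwd⟩, fun w' hw' => ?_⟩
    rw [Scheme.basicOpen_mul]
    rintro ⟨h1, h2⟩
    rcases Finset.mem_insert.mp hw' with rfl | h
    · exact (hd h2).2 (subset_closure rfl)
    · exact hcT w' h h1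

set_option backward.isDefEq.respectTransparency false in
theorem main_thm (E : X.Modules) (r : ℕ) (hE : FlatMod.IsFinLocFreeOfRank r E)
    (Z : Set X) (hZ : Z.Finite) (V : X.Opens) (hV : IsAffineOpen V) (hZV : Z ⊆ V) :
    ∃ U : X.Opens, Z ⊆ U ∧ U ≤ V ∧ Nonempty (E.restrict U.ι ≅ FlatMod.freeMod (U : Scheme.{u}) r) := by
  classical
  have : E.IsQuasicoherent := (DCohPerf.isCoh_finLocFree fun x => by
    obtain ⟨U, hx, he⟩ := hE x; exact ⟨U, r, hx, he⟩).1
  have hq : IsQuasiSeparated (V : Set X) := hV.isQuasiSeparated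
  have hcl : ∀ z ∈ Z, ∃ w, w ∈ V ∧ z ⤳ w ∧ ∀ y ∈ V, y ∈ closure {w} → y = w := fun z hz => by
    have : CompactSpace ↥V := (isCompact_iff_compactSpace.mp hV.isCompact : CompactSpace (V : Set X))
    obtain ⟨w, hw, hwc⟩ := (isClosed_closure (s := {(⟨z, hZV hz⟩ : V)})).exists_closed_singleton
      (Set.singleton_nonempty _).closure
    refine ⟨w, w.2, (specializes_iff_mem_closure.mpr hw).map continuous_subtype_val, fun y hy hyw => ?_⟩
    have h1 : (⟨y, hy⟩ : V) ∈ closure {w} := by
      rw [closure_subtype, Set.image_singleton]; exact hyw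
    rw [hwc.closure_eq] at h1
    exact congrArg Subtype.val h1
  choose w hwV hzw hwcl using hcl
  have := hZ.fintype
  let T : Finset X := Finset.univ.image fun z : Z => w z z.2
  have hTV : ∀ a ∈ T, a ∈ V ∧ ∀ y ∈ V, y ∈ closure {a} → y = a := fun a ha => by
    obtain ⟨z, -, rfl⟩ := Finset.mem_image.mp ha
    exact ⟨hwV z z.2, hwcl z z.2⟩
  have hloc : ∀ a : T, ∃ (h : Γ(X, V)) (b : Fin r → Γ(E, X.basicOpen h)), (a : X) ∈ X.basicOpen h ∧
      ∀ (O : X.Opens) (hO : O ≤ X.basicOpen h), Function.Bijective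
        fun c : Fin r → Γ(X, O) => ∑ i, c i • E.presheaf.map (homOfLE hO).op (b i) := fun a => by
    obtain ⟨W, haW, ⟨e⟩⟩ := hE a
    obtain ⟨b, hb⟩ := LocFreeAnn.exists_basis e
    obtain ⟨h, hh, hah⟩ := hV.exists_basicOpen_le (V := W) ⟨a, haW⟩ (hTV a a.2).1
    refine ⟨h, fun i => E.presheaf.map (homOfLE hh).op (b i), hah, fun O hO => ?_⟩
    simpa only [QCohLib.map_map] using hb O (hO.trans hh)
  choose h b hah hb using hloc
  have hext : ∀ (a : T) (i : Fin r), ∃ (n : ℕ) (x : Γ(E, V)),
      E.presheaf.map (homOfLE (X.basicOpen_le (h a))).op x =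
        (X.presheaf.map (homOfLE (X.basicOpen_le (h a))).op (h a)) ^ n • b a i := fun a i =>
    QCohLib.exists_res_eq_pow_smul_of_isCompact hV.isCompact hq (h a) _ (X.basicOpen_le (h a)) rfl (b a i)
  choose n x hx using hext
  have hsep : ∀ a : T, ∃ c : Γ(X, V), (a : X) ∈ X.basicOpen c ∧
      ∀ a' : T, a' ≠ a → (a' : X) ∉ X.basicOpen c := fun a => by
    obtain ⟨c, hc, hcT⟩ := exists_separator hV (T.erase a) a (hTV a a.2).1 fun w' hw' =>
      ⟨(hTV w' (Finset.mem_of_mem_erase hw')).1, Finset.ne_of_mem_erase hw',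
        (hTV w' (Finset.mem_of_mem_erase hw')).2⟩
    exact ⟨c, hc, fun a' ha' => hcT a' (Finset.mem_erase.mpr ⟨fun h => ha' (Subtype.ext h), a'.2⟩)⟩
  choose c hc hc0 using hsep
  let s : Fin r → Γ(E, V) := fun i => ∑ a : T, c a • x a i
  have hgood : ∀ a : T, ∃ W : X.Opens, (a : X) ∈ W ∧ W ≤ V ∧ ∀ (O : X.Opens) (_ : O ≤ W) (hO : O ≤ V),
      Function.Bijective fun d : Fin r → Γ(X, O) => ∑ i, d i • E.presheaf.map (homOfLE hO).op (s i) := by
    intro a
    let D := X.basicOpen (h a)
    let res := X.presheaf.map (homOfLE (X.basicOpen_le (h a))).op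
    have hco : ∀ (a' : T) (i : Fin r), ∃ d : Fin r → Γ(X, D),
        E.presheaf.map (homOfLE (X.basicOpen_le (h a))).op (x a' i) = ∑ j, d j • b a j := fun a' i => by
      obtain ⟨d, hd⟩ := (hb a D le_rfl).2 (E.presheaf.map (homOfLE (X.basicOpen_le (h a))).op (x a' i))
      exact ⟨d, hd.symm.trans (Finset.sum_congr rfl fun j _ => congrArg (d j • ·) (QCohLib.map_self E le_rfl _))⟩
    choose d hd using hco
    let A : Matrix (Fin r) (Fin r) Γ(X, D) :=
      Matrix.of fun i j => ∑ a' ∈ Finset.univ.erase a, res (c a') * d a' i j +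
        if i = j then res (c a) * res (h a) ^ n a i else 0
    let ev := X.evaluation D a (hah a)
    have hev : ∀ g : Γ(X, V), ev (res g) = X.evaluation V a ((X.basicOpen_le (h a)) (hah a)) g :=
      fun g => congrArg (X.residue (a : X)) (TopCat.Presheaf.germ_res_apply X.presheaf _ (a : X) _ g)
    have hdet : (a : X) ∈ X.basicOpen A.det := by
      by_contra hnot
      rw [← Scheme.evaluation_eq_zero_iff_notMem_basicOpen X (a : X) (hah a)] at hnot
      change ev.hom A.det = 0 at hnot
      rw [RingHom.map_det] at hnot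
      have hA : ev.hom.mapMatrix A = Matrix.diagonal fun i => ev (res (c a) * res (h a) ^ n a i) := by
        ext i j
        rw [RingHom.mapMatrix_apply, Matrix.map_apply, Matrix.diagonal_apply]
        simp only [A, Matrix.of_apply]
        rw [map_add, map_sum, Finset.sum_eq_zero, zero_add]
        · split_ifs <;> simp
        · intro a' ha'
          have : ev (res (c a')) = 0 := by
            rw [hev, Scheme.evaluation_eq_zero_iff_notMem_basicOpen]
            exact hc0 a' a (Finset.ne_of_mem_erase ha').symm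
          rw [map_mul, this, zero_mul]
      rw [hA, Matrix.det_diagonal, Finset.prod_eq_zero_iff] at hnot
      obtain ⟨i, -, hi⟩ := hnot
      rw [map_mul, map_pow, hev, hev, mul_eq_zero] at hi
      rcases hi with hi | hi
      · exact (Scheme.evaluation_eq_zero_iff_notMem_basicOpen X _ _ _).mp hi (hc a)
      · exact (Scheme.evaluation_eq_zero_iff_notMem_basicOpen X _ _ _).mp (pow_eq_zero_iff'.mp hi).1 (hah a)
    refine ⟨X.basicOpen A.det, hdet, (X.basicOpen_le _).trans (X.basicOpen_le (h a)), fun O hO hOV => ?_⟩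
    have hOD : O ≤ D := hO.trans (X.basicOpen_le _)
    let π := X.presheaf.map (homOfLE hOD).op
    let B : Matrix (Fin r) (Fin r) Γ(X, O) := A.map π
    have hB : IsUnit B := by
      rw [Matrix.isUnit_iff_isUnit_det, show B = π.hom.mapMatrix A from rfl, ← RingHom.map_det]
      have := (X.toRingedSpace.isUnit_res_basicOpen A.det).map (X.presheaf.map (homOfLE hO).op).hom
      exact (congrArg IsUnit (QCohLib.ring_map_map hO (X.basicOpen_le A.det) A.det)).mp this
    have hs : ∀ i, E.presheaf.map (homOfLE hOV).op (s i) =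
        ∑ j, B i j • E.presheaf.map (homOfLE hOD).op (b a j) := fun i => by
      rw [← QCohLib.map_map E hOD (X.basicOpen_le (h a))]
      simp only [s, map_sum, Scheme.Modules.map_smul]
      rw [← Finset.add_sum_erase _ _ (Finset.mem_univ a), hx a i]
      have hx' : ∀ a', E.presheaf.map (homOfLE hOD).op
          (E.presheaf.map (homOfLE (X.basicOpen_le (h a))).op (x a' i)) =
            ∑ j, π (d a' i j) • E.presheaf.map (homOfLE hOD).op (b a j) := fun a' => by
        rw [hd a' i, map_sum]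
        exact Finset.sum_congr rfl fun j _ => Scheme.Modules.map_smul _ _ _ _
      simp only [hx', map_sum, Scheme.Modules.map_smul, Finset.smul_sum, smul_smul, B, Matrix.map_apply,
        A, Matrix.of_apply, map_add, map_mul, add_smul, Finset.sum_add_distrib]
      rw [add_comm]
      congr 1
      · simp only [Finset.sum_smul]
        conv_rhs => rw [Finset.sum_comm]
        refine Finset.sum_congr rfl fun a' _ => ?_
        refine (congrArg _ (hx' a')).trans (Finset.smul_sum.trans ?_)
        exact Finset.sum_congr rfl fun j _ => smul_smul _ _ _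
      · rw [Finset.sum_eq_single i]
        · rw [if_pos rfl, map_mul]
        · intro j _ hj; rw [if_neg (Ne.symm hj), map_zero, zero_smul]
        · simp
    have hcomb : ∀ e : Fin r → Γ(X, O), ∑ i, e i • E.presheaf.map (homOfLE hOV).op (s i) =
        ∑ j, (Matrix.vecMul e B) j • E.presheaf.map (homOfLE hOD).op (b a j) := fun e => by
      simp only [hs, Finset.smul_sum, smul_smul, Matrix.vecMul, dotProduct, Finset.sum_smul]
      exact Finset.sum_comm
    simp only [hcomb]
    have := hB.invertible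
    exact (hb a O hOD).comp (Function.bijective_iff_has_inverse.mpr ⟨fun e => Matrix.vecMul e ⅟B,
      fun e => by simp only; rw [Matrix.vecMul_vecMul, mul_invOf_self, Matrix.vecMul_one],
      fun e => by simp only; rw [Matrix.vecMul_vecMul, invOf_mul_self, Matrix.vecMul_one]⟩)
  choose W haW hWV hW using hgood
  refine ⟨⨆ a, W a, fun z hz => ?_, iSup_le hWV, iso_free_of_bases E r _
    (fun i => E.presheaf.map (homOfLE (iSup_le hWV)).op (s i)) fun y hy => ?_⟩
  · refine Opens.mem_iSup.mpr ⟨⟨w z hz, Finset.mem_image.mpr ⟨⟨z, hz⟩, Finset.mem_univ _, rfl⟩⟩, ?_⟩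
    exact (hzw z hz).mem_open (W _).isOpen (haW _)
  · obtain ⟨a, ha⟩ := Opens.mem_iSup.mp hy
    refine ⟨W a, ha, fun O hO hOU => ?_⟩
    simpa only [QCohLib.map_map] using hW a O hO (hOU.trans (iSup_le hWV))

end Aux

/-- Let Y be a scheme, E a locally free O_Y-module of rank r, and Z a finite set of points of Y
contained in an affine open V. Then there is an open neighbourhood U ⊆ V of Z on which E is free of
rank r. -/
theorem result (Y : Scheme.{u}) (r : ℕ) (E : Y.Modules) (hE : FlatMod.IsFinLocFreeOfRank r E)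
    (Z : Set Y) (hZ : Z.Finite) (V : Y.Opens) (hV : IsAffineOpen V) (hZV : Z ⊆ V) :
    ∃ U : Y.Opens, Z ⊆ U ∧ U ≤ V ∧ Nonempty (E.restrict U.ι ≅ FlatMod.freeMod (U : Scheme.{u}) r) := by
  exact main_thm E r hE Z hZ V hV hZV

end Groth.Agent.S2356
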