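import Groth.Statements.S2359
import Groth.Agent.InvPow.AmplePullback
-- import your own Groth.Agent.* helpers here

set_option autoImplicit false
universe u
open CategoryTheory CategoryTheory.Limits AlgebraicGeometry
open EGA2

namespace Groth.Agent.S2359

/-- Let f : X → Y be quasi-compact, j : X' → X a quasi-compact morphism whose underlying map is a
homeomorphism onto a subspace of X, and L an O_X-module ample relative to f. Then j^* L is ample
relative to j ≫ f. -/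
theorem result {X X' Y : Scheme.{u}} (f : X ⟶ Y) [QuasiCompact f] (j : X' ⟶ X) [QuasiCompact j]
    (hj : Topology.IsEmbedding j.base) (L : X.Modules) (hL : RelAmple.IsRelAmple f L) :
    RelAmple.IsRelAmple (j ≫ f) ((Scheme.Modules.pullback j).obj L) := by
  obtain ⟨_, hV⟩ := (InvPow.isRelAmple_iff f).mp hL
  refine (InvPow.isRelAmple_iff _).mpr ⟨inferInstance, fun V => ?_⟩
  let W := f ⁻¹ᵁ V.1
  have := (hV V).2.1
  have : QuasiCompact (j ∣_ W) := IsZariskiLocalAtTarget.restrict ‹QuasiCompact j› W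
  have : CompactSpace (j ⁻¹ᵁ W) := QuasiCompact.compactSpace_of_compactSpace (j ∣_ W)
  refine InvPow.isAmple_of_iso (InvPow.restrictPullbackIso j W L)
    (InvPow.isAmple_pullback (hV V) (j ∣_ W) fun y => ?_)
  obtain ⟨A, hA, hyA, hAW⟩ := exists_isAffineOpen_mem_and_subset (x := y.1) (U := j ⁻¹ᵁ W) y.2
  obtain ⟨O, hO, hOA⟩ := hj.isInducing.isOpen_iff.mp A.2
  let U : X.Opens := ⟨O, hO⟩
  have hU : j ⁻¹ᵁ U = A := TopologicalSpace.Opens.ext hOA
  have e : (j ∣_ W) ⁻¹ᵁ (W.ι ⁻¹ᵁ U) = (j ⁻¹ᵁ W).ι ⁻¹ᵁ A :=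
    (Scheme.Hom.comp_preimage (j ∣_ W) W.ι U).symm.trans ((congrArg (fun h => h ⁻¹ᵁ U) (morphismRestrict_ι j W)).trans
      ((Scheme.Hom.comp_preimage (j ⁻¹ᵁ W).ι j U).trans (congrArg ((j ⁻¹ᵁ W).ι ⁻¹ᵁ ·) hU)))
  refine ⟨W.ι ⁻¹ᵁ U, e.ge hyA, ?_⟩
  rw [e]
  exact hA.preimage_of_isOpenImmersion _ (by rw [Scheme.Opens.opensRange_ι]; exact hAW)

end Groth.Agent.S2359
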