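import Groth.Statements.S2455
import Groth.Agent.GRing17.FlatLift
import Groth.Agent.S2454
import Groth.Agent.EGA41Lib.Separable

set_option autoImplicit false
universe u
open EGA41

namespace Groth.Agent.S2455

open IsLocalRing in
/-- Let A be a Noetherian local ring with residue field k and K a separable extension field of k. Then
there is a Cohen A-algebra B whose residue field is k-isomorphic to K; and two Cohen A-algebras
whose residue fields are k-isomorphic to K are isomorphic as A-algebras. -/
theorem result {A : Type u} [CommRing A] [IsLocalRing A] [IsNoetherianRing A]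
    (K : Type u) [Field K] [Algebra (ResidueField A) K] [Algebra.IsGeometricallyReduced (ResidueField A) K] :
    (∃ (B : Type u) (_ : CommRing B) (_ : IsLocalRing B) (_ : Algebra A B) (_ : IsLocalHom (algebraMap A B)),
      EGA41.IsCohenAlgebra A B ∧ Nonempty (ResidueField B ≃ₐ[ResidueField A] K)) ∧
    ∀ (B B' : Type u) [CommRing B] [IsLocalRing B] [Algebra A B] [IsLocalHom (algebraMap A B)]
      [CommRing B'] [IsLocalRing B'] [Algebra A B'] [IsLocalHom (algebraMap A B')],
      EGA41.IsCohenAlgebra A B → EGA41.IsCohenAlgebra A B' →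
      Nonempty (ResidueField B ≃ₐ[ResidueField A] K) → Nonempty (ResidueField B' ≃ₐ[ResidueField A] K) →
      Nonempty (B ≃ₐ[A] B') := by
  classical
  let k := ResidueField A
  let _ : Algebra A K := ((algebraMap k K).comp (residue A)).toAlgebra
  have : IsScalarTower A k K := .of_algebraMap_eq fun _ => rfl
  have hK : Algebra.FormallySmooth k K := EGA41Lib.formallySmooth_iff_isGeometricallyReduced.mpr inferInstance
  refine ⟨?_, fun B B' _ _ _ _ _ _ _ _ hB hB' ⟨r⟩ ⟨r'⟩ => ?_⟩
  · have : IsAdicComplete (maximalIdeal K) K := by rw [IsLocalRing.isField_iff_maximalIdeal_eq.mp (Field.toIsField K)]; infer_instance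
    have hKfs : CAlgX.IsAdicFormallySmooth k K (maximalIdeal K) :=
      fun E _ _ N hN ψ _ => Algebra.FormallySmooth.comp_surjective k K N hN ψ
    obtain ⟨B, _, _, hN, _, _, π, hc, hfl, hfs, hπ, hk⟩ := GRing17.exists_adicSmooth_lift A hKfs
    have hm : RingHom.ker π = maximalIdeal B :=
      IsLocalRing.eq_maximalIdeal (RingHom.ker_isMaximal_of_surjective π.toRingHom hπ)
    have hmap : (maximalIdeal A).map (algebraMap A B) = maximalIdeal B :=
      le_antisymm (GRing17.map_maximalIdeal_le' _) (hm.ge.trans hk)
    let g : ResidueField B →+* K := Ideal.Quotient.lift (maximalIdeal B) π.toRingHom fun x hx => hm.ge hx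
    have hg : Function.Bijective g := by
      refine ⟨g.injective, fun y => ?_⟩
      obtain ⟨b, rfl⟩ := hπ y
      exact ⟨residue B b, rfl⟩
    let e : ResidueField B ≃ₐ[k] K := AlgEquiv.ofRingEquiv (f := RingEquiv.ofBijective g hg) fun c => by
      obtain ⟨a, rfl⟩ := residue_surjective c
      show π (algebraMap A B a) = _
      rw [π.commutes]
      rfl
    have hres : Algebra.FormallySmooth k (ResidueField B) := Algebra.FormallySmooth.of_equiv e.symm
    exact ⟨B, inferInstance, inferInstance, inferInstance, inferInstance,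
      ⟨inferInstance, hN, hc, hfl, hmap, EGA41Lib.formallySmooth_iff_isGeometricallyReduced.mp hres⟩, ⟨e⟩⟩
  · obtain ⟨-, hN, hc, -, hm, -⟩ := id hB
    obtain ⟨-, hN', hc', -, hm', -⟩ := id hB'
    have hfs := PP16Lib.adicSmooth_of_formallySmoothAdic (S2454.result hB)
      ⟨1, by rw [pow_one]; exact hm.le⟩
    have hfs' := PP16Lib.adicSmooth_of_formallySmoothAdic (S2454.result hB')
      ⟨1, by rw [pow_one]; exact hm'.le⟩
    have key : ∀ (S : Type u) [CommRing S] [IsLocalRing S] [Algebra A S] [IsLocalHom (algebraMap A S)],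
        (maximalIdeal A).map (algebraMap A S) = maximalIdeal S → (ResidueField S ≃ₐ[k] K) →
        ∃ π : S →ₐ[A] K, Function.Surjective π ∧ RingHom.ker π ≤ (maximalIdeal A).map (algebraMap A S) := by
      intro S _ _ _ _ hS s
      refine ⟨{ s.toRingEquiv.toRingHom.comp (residue S) with
        commutes' := fun a => s.commutes (residue A a) }, s.surjective.comp residue_surjective, fun x hx => ?_⟩
      rw [hS, ← residue_eq_zero_iff]
      exact (map_eq_zero_iff _ s.injective).mp hx
    obtain ⟨π, hπ, hk⟩ := key B hm r
    obtain ⟨π', hπ', hk'⟩ := key B' hm' r'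
    obtain ⟨e, -⟩ := GRing17.exists_algEquiv_over hfs hfs' π hπ hk π' hπ' hk'
    exact ⟨e⟩

end Groth.Agent.S2455
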