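import Groth.Statements.S2457
import Groth.Agent.CohenStruct.EGA

set_option autoImplicit false
universe u
open EGA41

namespace Groth.Agent.S2457

open IsLocalRing in
/-- Let W and W' be Cohen rings with residue fields K and K' and u : K ≅ K' an isomorphism. Then u is
induced by some isomorphism v : W ≅ W'. -/
theorem result {W W' : Type u} [CommRing W] [IsLocalRing W] [CommRing W'] [IsLocalRing W']
    (hW : EGA41.IsCohenRingEGA W) (hW' : EGA41.IsCohenRingEGA W') (u : ResidueField W ≃+* ResidueField W') :
    ∃ v : W ≃+* W', ∀ x : W, residue W' (v x) = u (residue W x) := by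
  classical
  have hnoeth : IsNoetherianRing W' ∧ IsAdicComplete (maximalIdeal W') W' := by
    rcases hW' with ⟨hF, -⟩ | hC
    · let := hF.toField
      refine ⟨inferInstance, ?_⟩
      have hb : maximalIdeal W' = ⊥ := isField_iff_maximalIdeal_eq.mp hF
      rw [hb]; exact IsAdicComplete.bot W'
    · obtain ⟨_, p, -, -, -, -, hc, hdvr⟩ := CohenStruct.cohen_props hC
      exact ⟨inferInstance, hc⟩
  obtain ⟨_, _⟩ := hnoeth
  have : IsLocalRing (W' ⧸ maximalIdeal W') := inferInstanceAs (IsLocalRing (ResidueField W'))
  let u' : W →+* W' ⧸ maximalIdeal W' := u.toRingHom.comp (residue W)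
  have : IsLocalHom u' := ⟨fun a ha => (residue_ne_zero_iff_isUnit a).mp fun h => by
    have : u' a = 0 := by change u (residue W a) = 0; rw [h, map_zero]
    rw [this] at ha; exact not_isUnit_zero ha⟩
  obtain ⟨v, hvl, hv⟩ := CohenStruct.exists_lift_quotient hW (maximalIdeal W')
    (maximalIdeal.isMaximal W').ne_top u'
  have hres : ∀ x, residue W' (v x) = u (residue W x) := fun x => RingHom.congr_fun hv x
  suffices hb : Function.Bijective v from ⟨RingEquiv.ofBijective v hb, hres⟩
  rcases hW with ⟨hF, hc⟩ | hC
  · let := hF.toField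
    rcases hW' with ⟨hF', -⟩ | hC'
    · refine ⟨v.injective, fun y => ?_⟩
      obtain ⟨x, hx⟩ := residue_surjective (u.symm (residue W' y))
      refine ⟨x, ?_⟩
      have h1 : residue W' (v x - y) = 0 := by rw [map_sub, hres, hx, u.apply_symm_apply, sub_self]
      rw [residue_eq_zero_iff, isField_iff_maximalIdeal_eq.mp hF', Ideal.mem_bot, sub_eq_zero] at h1
      exact h1
    · exfalso
      obtain ⟨_, p, hp, hmax, -, -, -, -⟩ := CohenStruct.cohen_props hC'
      have h0 : residue W' (v (p : W)) = 0 := by
        rw [map_natCast, residue_eq_zero_iff, hmax]; exact Ideal.subset_span rfl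
      rw [hres, map_eq_zero_iff _ u.injective, residue_eq_zero_iff,
        isField_iff_maximalIdeal_eq.mp hF, Ideal.mem_bot, Nat.cast_eq_zero] at h0
      exact hp.ne_zero h0
  · obtain ⟨_, p, hp, hmax, hp0, hc0, hcW, hdvr⟩ := CohenStruct.cohen_props hC
    have hpW : residue W (p : W) = 0 := by
      rw [residue_eq_zero_iff, hmax]; exact Ideal.subset_span rfl
    rcases hW' with ⟨hF', hc'⟩ | hC'
    · exfalso
      have h0 := hres (p : W)
      rw [hpW, map_zero, map_natCast, residue_eq_zero_iff, isField_iff_maximalIdeal_eq.mp hF',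
        Ideal.mem_bot, Nat.cast_eq_zero] at h0
      exact hp.ne_zero h0
    · obtain ⟨_, p', hp', hmax', -, hc', -, -⟩ := CohenStruct.cohen_props hC'
      have hpp : p = p' := by
        by_contra hne
        have h1 : (p : W') ∈ maximalIdeal W' := by
          have h0 := hres (p : W)
          rwa [hpW, map_zero, map_natCast, residue_eq_zero_iff] at h0
        have h2 : (p' : W') ∈ maximalIdeal W' := hmax' ▸ Ideal.subset_span rfl
        obtain ⟨a, b, hab⟩ : ∃ a b : ℤ, a * p + b * p' = 1 :=
          Int.isCoprime_iff_nat_coprime.mpr (by simpa using (Nat.coprime_primes hp hp').mpr hne)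
        have h3 : ((a * p + b * p' : ℤ) : W') ∈ maximalIdeal W' := by
          push_cast
          exact add_mem (Ideal.mul_mem_left _ _ h1) (Ideal.mul_mem_left _ _ h2)
        rw [hab, Int.cast_one] at h3
        exact (maximalIdeal.isMaximal W').ne_top ((Ideal.eq_top_iff_one _).mpr h3)
      subst hpp
      have hmap : (maximalIdeal W).map v = maximalIdeal W' := by
        rw [hmax, Ideal.map_span, Set.image_singleton, map_natCast, ← hmax']
      constructor
      · rw [RingHom.injective_iff_ker_eq_bot]
        by_contra hne
        have : (RingHom.ker v).IsPrime := RingHom.ker_isPrime v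
        have hk : (p : W) ∈ RingHom.ker v := by
          have hm : (RingHom.ker v).IsMaximal := IsPrime.to_maximal_ideal hne
          rw [eq_maximalIdeal hm, hmax]; exact Ideal.subset_span rfl
        rw [RingHom.mem_ker, map_natCast, Nat.cast_eq_zero] at hk
        exact hp.ne_zero hk
      · have : IsHausdorff ((maximalIdeal W).map v) W' := by rw [hmap]; infer_instance
        refine surjective_of_mk_map_comp_surjective v (I := maximalIdeal W) fun y => ?_
        obtain ⟨y, rfl⟩ := Ideal.Quotient.mk_surjective y
        obtain ⟨x, hx⟩ := residue_surjective (u.symm (residue W' y))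
        refine ⟨x, ?_⟩
        rw [RingHom.comp_apply, Ideal.Quotient.mk_eq_mk_iff_sub_mem, hmap, ← residue_eq_zero_iff,
          map_sub, hres, hx, u.apply_symm_apply, sub_self]

end Groth.Agent.S2457
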