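import Groth.Statements.S2459
import Groth.Agent.CohenStruct.EGA

set_option autoImplicit false
universe u
open EGA41

namespace Groth.Agent.S2459

open IsLocalRing in
/-- Let A be an Artinian local ring with maximal ideal 𝔪 and residue field of characteristic p (p = 0
allowed). Then A is isomorphic to a quotient of a Cohen ring if and only if 𝔪 is generated by p·1. -/
theorem result {A : Type u} [CommRing A] [IsLocalRing A] [IsArtinianRing A]
    (p : ℕ) [CharP (ResidueField A) p] :
    (∃ (W : Type u) (_ : CommRing W) (I : Ideal W), EGA41.IsCohenRingEGA W ∧ Nonempty (A ≃+* W ⧸ I)) ↔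
      maximalIdeal A = Ideal.span {(p : A)} := by
  classical
  constructor
  · rintro ⟨W, _, I, hW, ⟨e⟩⟩
    have hWl : IsLocalRing W := by
      rcases hW with ⟨hF, -⟩ | hC
      · let := hF.toField; infer_instance
      · obtain ⟨hd, hdvr, -⟩ := hC; exact hdvr.toIsLocalRing
    let f : W →+* A := e.symm.toRingHom.comp (Ideal.Quotient.mk I)
    have hf : Function.Surjective f := e.symm.surjective.comp Ideal.Quotient.mk_surjective
    have hmap : (maximalIdeal W).map f = maximalIdeal A := by
      rcases (Ideal.map_eq_top_or_isMaximal_of_surjective f hf (maximalIdeal.isMaximal W)) with h | h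
      · exfalso
        have := Ideal.comap_map_of_surjective' f hf (maximalIdeal W)
        rw [h, Ideal.comap_top] at this
        refine (maximalIdeal.isMaximal W).ne_top ?_
        rw [this, sup_eq_left.mpr (le_maximalIdeal (RingHom.ker_ne_top f))]
      · exact eq_maximalIdeal h
    rcases hW with ⟨hF, hc⟩ | hC
    · rw [← hmap, isField_iff_maximalIdeal_eq.mp hF, Ideal.map_bot]
      have : p = 0 := by
        have : CharP (ResidueField A) 0 := by
          let := hF.toField
          have := charZero_of_injective_ringHom ((residue A).comp f).injective
          exact CharP.ofCharZero _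
        exact CharP.eq (ResidueField A) ‹_› this
      simp [this]
    · obtain ⟨_, q, hq, hmax, -⟩ := CohenStruct.cohen_props hC
      have h1 : maximalIdeal A = Ideal.span {(q : A)} := by
        rw [← hmap, hmax, Ideal.map_span, Set.image_singleton, map_natCast]
      have h2 : p ∣ q := by
        rw [← CharP.cast_eq_zero_iff (ResidueField A) p, ← map_natCast (residue A),
          residue_eq_zero_iff, h1]
        exact Ideal.subset_span rfl
      rcases (Nat.dvd_prime hq).mp h2 with rfl | rfl
      · exact absurd rfl (CharP.char_ne_one (ResidueField A) 1)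
      · exact h1
  · intro hm
    obtain ⟨N, hN⟩ := IsArtinianRing.isNilpotent_jacobson_bot (R := A)
    rw [jacobson_eq_maximalIdeal ⊥ bot_ne_top] at hN
    have hpow : maximalIdeal A ^ N • (⊤ : Submodule A A) = ⊥ := by rw [hN]; simp
    have : IsAdicComplete (maximalIdeal A) A :=
      { haus' := fun x hx => by
          have := hx N
          rw [hpow, SModEq.bot] at this
          exact this
        prec' := fun f hf => ⟨f N, fun n => by
          rcases le_total n N with h | h
          · exact hf h
          · have := hf h
            rw [hpow, SModEq.bot] at this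
            rw [this]⟩ }
    have : IsLocalRing (A ⧸ maximalIdeal A) := inferInstanceAs (IsLocalRing (ResidueField A))
    rcases CharP.char_is_prime_or_zero (ResidueField A) p with hp | rfl
    · have : Fact p.Prime := ⟨hp⟩
      obtain ⟨W, _, _, _, hW, hmax, ⟨e⟩⟩ := CohenStruct.exists_cohenRing p (ResidueField A)
      let u : W →+* A ⧸ maximalIdeal A := e.toRingHom.comp (residue W)
      have : IsLocalHom u := ⟨fun a ha => (residue_ne_zero_iff_isUnit a).mp fun h => by
        have : u a = 0 := by change e (residue W a) = 0; rw [h, map_zero]
        rw [this] at ha; exact not_isUnit_zero ha⟩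
      obtain ⟨v, -, hv⟩ := CohenStruct.exists_lift_quotient (Or.inr hW) (maximalIdeal A)
        (maximalIdeal.isMaximal A).ne_top u
      have hsurj : Function.Surjective v := by
        suffices h : ∀ k y, ∃ x, y - v x ∈ maximalIdeal A ^ k by
          intro y
          obtain ⟨x, hx⟩ := h N y
          rw [hN] at hx
          exact ⟨x, (sub_eq_zero.mp ((Submodule.mem_bot A).mp hx)).symm⟩
        intro k
        induction k with
        | zero => exact fun y => ⟨0, by simp⟩
        | succ k ih =>
          intro y
          obtain ⟨x, hx⟩ := ih y
          rw [hm, Ideal.span_singleton_pow, Ideal.mem_span_singleton'] at hx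
          obtain ⟨a, ha⟩ := hx
          obtain ⟨w, hw⟩ := residue_surjective (e.symm (residue A a))
          refine ⟨x + (p : W) ^ k * w, ?_⟩
          have h1 : a - v w ∈ maximalIdeal A := by
            rw [← Ideal.Quotient.eq, ← RingHom.comp_apply (Ideal.Quotient.mk _) v, hv]
            change residue A a = e (residue W w)
            rw [hw, e.apply_symm_apply]
          rw [map_add, map_mul, map_pow, map_natCast, ← sub_sub, ← ha,
            show a * (p : A) ^ k - (p : A) ^ k * v w = (p : A) ^ k * (a - v w) by ring, pow_succ]
          exact Ideal.mul_mem_mul (Ideal.pow_mem_pow (hm ▸ Ideal.subset_span rfl) k) h1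
      exact ⟨W, inferInstance, RingHom.ker v, Or.inr hW,
        ⟨(RingHom.quotientKerEquivOfSurjective hsurj).symm⟩⟩
    · have hb : maximalIdeal A = ⊥ := by simp [hm]
      have hF : IsField A := isField_iff_maximalIdeal_eq.mpr hb
      have : CharZero (ResidueField A) := CharP.charP_to_charZero _
      exact ⟨A, inferInstance, ⊥, Or.inl ⟨hF, RingHom.charZero (residue A)⟩,
        ⟨(RingEquiv.quotientBot A).symm⟩⟩

end Groth.Agent.S2459
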