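import Groth.Statements.S2465
import Groth.Agent.EGA41Lib.Kaehler
-- import your own Groth.Agent.* helpers here

set_option autoImplicit false
universe u
open EGA41

namespace Groth.Agent.S2465

/-- Let p be a prime, B a ring of characteristic p, A → B injective with image containing all p-th
powers, (x_α) a p-basis of B over A, and L a B-module. (i) An additive derivation D : A → L extends
to a derivation of B if and only if D vanishes on the elements of A mapping to p-th powers. (ii) In
that case, for every family (y_α) in L there is a unique derivation D' of B into L extending D with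
D'(x_α) = y_α for all α. -/
theorem result (p : ℕ) [Fact p.Prime] {A B : Type u} [CommRing A] [CommRing B] [Algebra A B] [CharP B p]
    (hinj : Function.Injective (algebraMap A B)) (hpow : ∀ b : B, b ^ p ∈ Set.range (algebraMap A B))
    {ι : Type u} (x : ι → B) (hx : EGA41.IsPBasis p A x)
    (L : Type u) [AddCommGroup L] [Module B L] [Module A L] [IsScalarTower A B L] (D : Derivation ℤ A L) :
    ((∃ D' : Derivation ℤ B L, ∀ a : A, D' (algebraMap A B a) = D a) ↔ ∀ (a : A) (b : B), algebraMap A B a = b ^ p → D a = 0) ∧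
    ((∀ (a : A) (b : B), algebraMap A B a = b ^ p → D a = 0) →
      ∀ y : ι → L, ∃! D' : Derivation ℤ B L, (∀ a : A, D' (algebraMap A B a) = D a) ∧ ∀ i, D' (x i) = y i) := by
  obtain ⟨b, hb⟩ := Groth.Agent.EGA41Lib.exists_basis_of_isPBasis p A x hinj hpow hx
  have hgen : Groth.Agent.EGA41Lib.Gen p (algebraMap A B).range x := by
    rw [← Groth.Agent.EGA41Lib.pSub_eq_range p A hpow]
    exact hx.2
  have hex := fun (h : ∀ (a : A) (b : B), algebraMap A B a = b ^ p → D a = 0) (y : ι → L) =>
    Groth.Agent.EGA41Lib.exists_derivation b hb (fun i => hpow (x i)) D (fun i a => h a (x i)) y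
  refine ⟨⟨fun ⟨D', hD'⟩ a c hac => ?_, fun h => ?_⟩, fun h y => ?_⟩
  · rw [← hD', hac]
    exact Groth.Agent.EGA41Lib.derivation_pow_eq_zero D' c
  · obtain ⟨D', h1, -⟩ := hex h 0
    exact ⟨D', h1⟩
  · obtain ⟨D', h1, h2⟩ := hex h y
    refine ⟨D', ⟨h1, h2⟩, fun E hE => sub_eq_zero.1 ?_⟩
    refine Groth.Agent.EGA41Lib.derivation_eq_zero_of_gen (fun i => hpow (x i)) hgen _ ?_ ?_
    · rintro _ ⟨a, rfl⟩
      simp [h1, hE.1]
    · intro i
      simp [h2, hE.2]

end Groth.Agent.S2465
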