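import Groth.Statements.S2476
import Groth.Agent.ComplDeriv.SmoothFree

set_option autoImplicit false
universe u
open EGA41

namespace Groth.Agent.S2476

open IsLocalRing in
/-- Let k₀ be a field and A a complete Noetherian local k₀-algebra, formally smooth over k₀ for the adic
topology, whose residue field K is a finitely generated extension of k₀. Then the 𝔪-adic completion
Ω̂_{A/k₀} of Ω_{A/k₀} is a free A-module of rank dim A + trdeg_{k₀} K. -/
theorem result {k₀ A : Type u} [Field k₀] [CommRing A] [IsLocalRing A] [IsNoetherianRing A] [Algebra k₀ A]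
    [IsAdicComplete (maximalIdeal A) A] (hfs : CAlgX.IsAdicFormallySmooth k₀ A (maximalIdeal A))
    [Algebra.EssFiniteType k₀ (ResidueField A)] :
    Module.Finite A (AdicCompletion (maximalIdeal A) (Ω[A⁄k₀])) ∧ Module.Free A (AdicCompletion (maximalIdeal A) (Ω[A⁄k₀])) ∧
      (Module.finrank A (AdicCompletion (maximalIdeal A) (Ω[A⁄k₀])) : WithBot ℕ∞) =
        ringKrullDim A + (Cardinal.toNat (Algebra.trdeg k₀ (ResidueField A)) : WithBot ℕ∞) := by
  classical
  obtain ⟨hreg, hinj⟩ := ComplDeriv.kInj_of_isAdicFormallySmooth hfs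
  let K := ResidueField A
  obtain ⟨hkerfin, hΩfin, hidx⟩ := EGA41Lib.fieldIdx_trdeg (K := k₀) (L := K)
  have hZ : Module.Finite K (TensorProduct A K Ω[A⁄k₀]) := by
    refine ⟨Submodule.fg_of_fg_map_of_fg_inf_ker (KaehlerDifferential.mapBaseChange k₀ A K) (IsNoetherian.noetherian _) ?_⟩
    rw [top_inf_eq]
    have hr := KaehlerDifferential.range_kerCotangentToTensor k₀ A K residue_surjective
    refine Submodule.FG.of_restrictScalars A ?_
    rw [← hr, LinearMap.range_eq_map]
    have hN : Module.Finite A (RingHom.ker (algebraMap A K)).Cotangent :=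
      Module.Finite.of_surjective _ (Ideal.toCotangent_surjective _)
    exact hN.fg_top.map _
  obtain ⟨h1, h2, h3⟩ := ComplDeriv.free_of_adicSmooth k₀ A hfs
  refine ⟨h1, h2, ?_⟩
  rw [h3]
  have hnat : Module.finrank K (TensorProduct A K Ω[A⁄k₀]) =
      Module.finrank K (CotangentSpace A) + Cardinal.toNat (Algebra.trdeg k₀ K) := by
    obtain hc | ⟨p, hp, hpk⟩ := CharP.exists' k₀
    · have : Algebra.FormallySmooth k₀ K := EGA41Lib.formallySmooth_of_charZero
      rw [ComplDeriv.finrank_residue_kaehler_of_formallySmooth k₀ A]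
      obtain ⟨-, -, h'⟩ := EGA41Lib.fieldIdx_of_formallySmooth (K := k₀) (L := K)
      have hidx' : (Module.finrank K Ω[K⁄k₀] : ℤ) = Cardinal.toNat (Algebra.trdeg k₀ K) := by linarith
      simp only [K] at hidx' ⊢
      omega
    · have : CharP A p := charP_of_injective_algebraMap (algebraMap k₀ A).injective p
      exact_mod_cast ComplDeriv.finrank_residue_kaehler_index k₀ A p hinj _ ⟨hkerfin, hΩfin, hidx⟩
  rw [hnat, ← (IsRegularLocalRing.iff_finrank_cotangentSpace A).mp hreg]
  norm_cast
end Groth.Agent.S2476
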