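import Groth.Statements.S2477
import Groth.Agent.S2476
import Groth.Agent.S2471
import Groth.Agent.ComplDeriv.RegUnram
import Mathlib.RingTheory.AdicCompletion.Completeness

set_option autoImplicit false
universe u
open EGA41

namespace Groth.Agent.S2477

open IsLocalRing in
/-- Let k be a field and A = k[[T_1, …, T_r]] with its usual k-algebra structure. Then the adic
completion Ω̂_{A/k} of Ω_{A/k} is a free A-module of rank r. -/
theorem result (k : Type u) [Field k] (r : ℕ) :
    Module.Finite (MvPowerSeries (Fin r) k) (AdicCompletion (maximalIdeal (MvPowerSeries (Fin r) k)) (Ω[MvPowerSeries (Fin r) k⁄k])) ∧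
    Module.Free (MvPowerSeries (Fin r) k) (AdicCompletion (maximalIdeal (MvPowerSeries (Fin r) k)) (Ω[MvPowerSeries (Fin r) k⁄k])) ∧
      Module.finrank (MvPowerSeries (Fin r) k) (AdicCompletion (maximalIdeal (MvPowerSeries (Fin r) k)) (Ω[MvPowerSeries (Fin r) k⁄k])) = r := by
  classical
  let S := MvPowerSeries (Fin r) k
  let K := ResidueField S
  have hspan : Ideal.span (Set.range (MvPowerSeries.X : Fin r → S)) = maximalIdeal S := by
    refine le_antisymm (Ideal.span_le.mpr ?_) fun x hx => PP16Lib.ker_constantCoeff r k x ?_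
    · rintro _ ⟨i, rfl⟩
      rw [SetLike.mem_coe, IsLocalRing.mem_maximalIdeal, mem_nonunits_iff, MvPowerSeries.isUnit_iff_constantCoeff]
      simp
    · by_contra h
      exact hx (MvPowerSeries.isUnit_iff_constantCoeff.mpr (isUnit_iff_ne_zero.mpr h))
  have : IsAdicComplete (maximalIdeal S) S := hspan ▸ inferInstance
  have hreg : IsRegularLocalRing S := PP16Lib.isRegularLocalRing_mvPowerSeries r k
  have hsurj : Function.Surjective (algebraMap k K) := fun y => by
    obtain ⟨x, rfl⟩ := residue_surjective (R := S) y
    refine ⟨MvPowerSeries.constantCoeff x, ?_⟩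
    rw [IsScalarTower.algebraMap_apply k S K]
    refine (Ideal.Quotient.mk_eq_mk_iff_sub_mem _ _).mpr ?_
    rw [IsLocalRing.mem_maximalIdeal, mem_nonunits_iff, MvPowerSeries.isUnit_iff_constantCoeff]
    rw [map_sub, MvPowerSeries.c_eq_algebraMap.symm, MvPowerSeries.constantCoeff_C, sub_self]
    simp
  let e : k ≃ₐ[k] K := AlgEquiv.ofBijective (Algebra.ofId k K) ⟨(algebraMap k K).injective, hsurj⟩
  have : Module.Finite k K := Module.Finite.equiv e.toLinearEquiv
  have : Algebra.IsAlgebraic k K := Algebra.IsAlgebraic.of_finite k K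
  have hfs : CAlgX.IsAdicFormallySmooth k S (maximalIdeal S) := by
    rw [S2471.result]
    refine ⟨hreg, PP16Lib.injective_lTensor_of_injective ?_⟩
    have : Algebra.FormallySmooth k K := Algebra.FormallySmooth.of_equiv e
    exact EGA41Lib.isGeometricallyReduced_iff_injective.mp (EGA41Lib.formallySmooth_iff_isGeometricallyReduced.mp inferInstance)
  have htr : Algebra.trdeg k K = 0 := trdeg_eq_zero
  obtain ⟨h1, h2, h3⟩ := S2476.result (k₀ := k) (A := S) hfs
  refine ⟨h1, h2, ?_⟩
  have hdim : ringKrullDim S = (r : WithBot ℕ∞) := by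
    have hlow : ∀ y ∈ maximalIdeal S ^ 2, ∀ i, MvPowerSeries.coeff (Finsupp.single i 1) y = 0 := by
      intro y hy i
      rw [pow_two] at hy
      refine Submodule.mul_induction_on hy (fun a ha b hb => ?_) fun a b ha hb => by rw [map_add, ha, hb, add_zero]
      rw [MvPowerSeries.coeff_mul, Finset.sum_eq_zero]
      rintro ⟨u, v⟩ huv
      rw [IsLocalRing.mem_maximalIdeal, mem_nonunits_iff, MvPowerSeries.isUnit_iff_constantCoeff,
        isUnit_iff_ne_zero, not_not] at ha hb
      rw [Finset.HasAntidiagonal.mem_antidiagonal] at huv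
      by_cases hu : u = 0
      · simp [hu, MvPowerSeries.coeff_zero_eq_constantCoeff_apply, ha]
      · have hv : v = 0 := by
          ext j
          have h := DFunLike.congr_fun huv j
          have hj := DFunLike.congr_fun huv i
          simp only [Finsupp.add_apply] at h hj
          obtain ⟨l, hl⟩ := Finsupp.ne_iff.mp hu
          have hl' := DFunLike.congr_fun huv l
          simp only [Finsupp.add_apply, Finsupp.coe_zero, Pi.zero_apply] at hl hl' ⊢
          rcases eq_or_ne l i with rfl | hli
          · rcases eq_or_ne j l with rfl | hjl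
            · rw [Finsupp.single_eq_same] at h; omega
            · rw [Finsupp.single_eq_of_ne hjl] at h; omega
          · rw [Finsupp.single_eq_of_ne hli] at hl'; omega
        simp [hv, MvPowerSeries.coeff_zero_eq_constantCoeff_apply, hb]
    let c : Fin r → CotangentSpace S := fun i =>
      (maximalIdeal S).toCotangent ⟨MvPowerSeries.X i, hspan ▸ Ideal.subset_span ⟨i, rfl⟩⟩
    have hli : LinearIndependent K c := by
      rw [Fintype.linearIndependent_iff]
      intro g hg j
      choose a ha using fun i => residue_surjective (R := S) (g i)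
      have h : (maximalIdeal S).toCotangent (∑ i, a i • ⟨MvPowerSeries.X i, hspan ▸ Ideal.subset_span ⟨i, rfl⟩⟩) = 0 := by
        rw [map_sum, ← hg]
        refine Finset.sum_congr rfl fun i _ => ?_
        rw [map_smul, ← ha i]
        exact (algebraMap_smul K (a i) _).symm
      rw [Ideal.toCotangent_eq_zero] at h
      have h' := hlow _ h j
      simp only [AddSubmonoidClass.coe_finsetSum, SetLike.val_smul, smul_eq_mul, map_sum] at h'
      rw [Finset.sum_eq_single j] at h'
      · rw [← ha j, residue_eq_zero_iff, IsLocalRing.mem_maximalIdeal, mem_nonunits_iff,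
          MvPowerSeries.isUnit_iff_constantCoeff, isUnit_iff_ne_zero, not_not]
        rw [MvPowerSeries.X, MvPowerSeries.coeff_mul_monomial] at h'
        simpa [MvPowerSeries.coeff_zero_eq_constantCoeff_apply] using h'
      · intro i _ hij
        rw [MvPowerSeries.X, MvPowerSeries.coeff_mul_monomial, if_neg]
        intro hle
        have := hle i
        simp [Finsupp.single_eq_of_ne hij] at this
      · simp
    rw [← (IsRegularLocalRing.iff_finrank_cotangentSpace S).mp hreg]
    norm_cast
    refine le_antisymm ?_ (by simpa using hli.fintype_card_le_finrank)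
    have htop : Submodule.span K (Set.range c) = ⊤ := by
      rw [eq_top_iff]
      intro z _
      obtain ⟨⟨y, hy⟩, rfl⟩ := Ideal.toCotangent_surjective _ z
      have hy' : y ∈ Ideal.span (Set.range (MvPowerSeries.X : Fin r → S)) := hspan.symm ▸ hy
      obtain ⟨a, ha⟩ := Ideal.mem_span_range_iff_exists_fun.mp hy'
      have : (⟨y, hy⟩ : maximalIdeal S) = ∑ i, a i • ⟨MvPowerSeries.X i, hspan ▸ Ideal.subset_span ⟨i, rfl⟩⟩ :=
        Subtype.ext (by simp [ha.symm])
      rw [this, map_sum]
      refine Submodule.sum_mem _ fun i _ => ?_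
      rw [map_smul, ← algebraMap_smul K (a i)]
      exact Submodule.smul_mem _ _ (Submodule.subset_span ⟨i, rfl⟩)
    calc Module.finrank K (CotangentSpace S) = Module.finrank K (⊤ : Submodule K (CotangentSpace S)) := (finrank_top (R := K) (M := CotangentSpace S)).symm
      _ ≤ r := by rw [← htop]; exact (finrank_range_le_card (R := K) c).trans_eq (Fintype.card_fin r)
  rw [hdim, htr, map_zero, Nat.cast_zero, add_zero] at h3
  exact_mod_cast h3

end Groth.Agent.S2477
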