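import Groth.Statements.S2481
import Groth.Agent.PP16Lib.SmallLift
import Groth.Agent.PP16Lib.AdicTopLift

set_option autoImplicit false
universe u
open EGA41

namespace Groth.Agent.S2481

open IsLocalRing in
/-- Let A → B be a local homomorphism of Noetherian local rings with the adic topologies, K the residue
field of B. Then B is formally smooth over A if and only if: for every Artinian local ring C with a
local homomorphism A → C, every nilpotent ideal J of C and every local A-algebra homomorphism u : B
→ C/J inducing a bijection of residue fields (so that C has residue field K and u induces the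
identity on it), u is induced by a local A-algebra homomorphism B → C. -/
theorem result {A B : Type u} [CommRing A] [IsLocalRing A] [IsNoetherianRing A] [CommRing B] [IsLocalRing B] [IsNoetherianRing B]
    [Algebra A B] [IsLocalHom (algebraMap A B)] :
    EGA41.IsFormallySmoothAdic A (maximalIdeal A) B (maximalIdeal B) ↔
      ∀ (C : Type u) [CommRing C] [IsLocalRing C] [IsArtinianRing C] [Algebra A C] [IsLocalHom (algebraMap A C)]
        (J : Ideal C), IsNilpotent J → ∀ [IsLocalRing (C ⧸ J)] (u : B →ₐ[A] C ⧸ J) [IsLocalHom u.toRingHom],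
        Function.Bijective (ResidueField.map u.toRingHom) →
        ∃ f : B →ₐ[A] C, IsLocalHom f.toRingHom ∧ (Ideal.Quotient.mkₐ A J).comp f = u := by
  constructor
  · intro h C _ _ _ _ _ J hJ _ u _ _
    have hloc : ∀ {S T : Type u} [CommRing S] [IsLocalRing S] [CommRing T] [IsLocalRing T] [IsArtinianRing T]
        (g : S →+* T) [IsLocalHom g], ∃ n, ∀ x ∈ maximalIdeal S ^ n, g x = 0 := fun {S T} _ _ _ _ _ g _ => by
      obtain ⟨n, hn⟩ := IsArtinianRing.isNilpotent_jacobson_bot (R := T)
      rw [jacobson_eq_maximalIdeal ⊥ bot_ne_top] at hn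
      refine ⟨n, fun x hx => ?_⟩
      have h1 := Ideal.mem_map_of_mem g hx
      rw [Ideal.map_pow] at h1
      have h2 := Ideal.pow_right_mono (((IsLocalRing.local_hom_TFAE g).out 0 2).mp ‹_›) n h1
      rw [hn] at h2
      exact h2
    obtain ⟨n, hn⟩ := hloc (algebraMap A C)
    obtain ⟨k, hk⟩ := hloc u.toRingHom
    obtain ⟨f, hf⟩ := h C J hJ ⟨n, by rw [Ideal.map_eq_bot_iff_le_ker]; exact hn⟩ u ⟨k, hk⟩
    refine ⟨f, ⟨fun x hx => ?_⟩, hf⟩
    refine IsUnit.of_map u.toRingHom x ?_
    show IsUnit (u x)
    rw [← hf]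
    exact hx.map (Ideal.Quotient.mk J)
  · intro h
    refine PP16Lib.formallySmoothAdic_of_adicSmooth (PP16Lib.adicSmooth_of_hasSmallLifts ?_)
    intro C _ _ _ _ _ J hJ _ _ u _ hu
    obtain ⟨f, -, hf⟩ := h C J ⟨2, hJ⟩ u hu
    exact ⟨f, hf⟩

end Groth.Agent.S2481
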