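import Groth.Statements.S2482
import Groth.Agent.CohenAlgFS.Basic
import Groth.Agent.PP16Lib.AdicTopLift
-- import your own Groth.Agent.* helpers here

set_option autoImplicit false
universe u
open EGA41

namespace Groth.Agent.S2482

open IsLocalRing in
/-- (a) ⟹ (b): let A, B be complete discrete valuation rings and u : A → B a ring homomorphism with
u(𝔪_A)B = 𝔪_B, such that the residue field L of B is separable over the residue field K of A. Then
for every complete discrete valuation ring B', every homomorphism u' : A → B' with u'(𝔪_A)B' =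
𝔪_{B'} and every isomorphism σ of residue fields L ≅ L' compatible with the maps from K, there is an
isomorphism w : B ≅ B' with u' = w ∘ u inducing σ on residue fields. -/
theorem result {A B B' : Type u} [CommRing A] [IsDomain A] [IsDiscreteValuationRing A] [IsAdicComplete (maximalIdeal A) A]
    [CommRing B] [IsDomain B] [IsDiscreteValuationRing B] [IsAdicComplete (maximalIdeal B) B]
    [CommRing B'] [IsDomain B'] [IsDiscreteValuationRing B'] [IsAdicComplete (maximalIdeal B') B']
    (u : A →+* B) [IsLocalHom u] (hu : (maximalIdeal A).map u = maximalIdeal B)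
    (hsep : letI := (ResidueField.map u).toAlgebra; Algebra.IsGeometricallyReduced (ResidueField A) (ResidueField B))
    (u' : A →+* B') [IsLocalHom u'] (hu' : (maximalIdeal A).map u' = maximalIdeal B')
    (σ : ResidueField B ≃+* ResidueField B') (hσ : (σ : ResidueField B →+* ResidueField B').comp (ResidueField.map u) = ResidueField.map u') :
    ∃ w : B ≃+* B', (w : B →+* B').comp u = u' ∧ ∀ b : B, residue B' (w b) = σ (residue B b) := by
  letI : Algebra A B := u.toAlgebra
  letI : Algebra A B' := u'.toAlgebra
  haveI : IsLocalHom (algebraMap A B) := ‹IsLocalHom u›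
  have huinj : Function.Injective u := by
    rw [injective_iff_map_eq_zero]
    intro a ha
    by_contra ha0
    obtain ⟨ϖ, hϖ⟩ := IsDiscreteValuationRing.exists_irreducible A
    obtain ⟨n, w, rfl⟩ := IsDiscreteValuationRing.eq_unit_mul_pow_irreducible ha0 hϖ
    rw [map_mul, map_pow, mul_eq_zero] at ha
    rcases ha with ha | ha
    · exact ((w.isUnit.map u).ne_zero) ha
    · have h0 : (maximalIdeal A).map u = ⊥ := by
        rw [hϖ.maximalIdeal_eq, Ideal.map_span, Set.image_singleton, eq_zero_of_pow_eq_zero ha,
          Ideal.span_singleton_zero]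
      exact IsDiscreteValuationRing.not_a_field B (hu.symm.trans h0)
  have hflat : Module.Flat A B := by
    rw [Module.Flat.flat_iff_torsion_eq_bot_of_isBezout, eq_bot_iff]
    rintro x ⟨⟨a, ha⟩, hx⟩
    change u a * x = 0 at hx
    rcases mul_eq_zero.1 hx with h | h
    · exact absurd (huinj (h.trans (map_zero u).symm)) (nonZeroDivisors.ne_zero ha)
    · exact h
  have hfs := Groth.Agent.CohenAlgFS.isFormallySmoothAdic_of_isCohenAlgebra (A := A) (B := B)
    ⟨inferInstance, inferInstance, inferInstance, hflat, hu, by
      convert hsep using 1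
      exact Algebra.algebra_ext _ _ fun r => by obtain ⟨a, rfl⟩ := residue_surjective r; rfl⟩
  let φ₀ : B →ₐ[A] B' ⧸ maximalIdeal B' :=
    { toRingHom := (σ : ResidueField B →+* ResidueField B').comp (residue B)
      commutes' := fun a => RingHom.congr_fun hσ (residue A a) }
  haveI : IsHausdorff ((maximalIdeal B').map (Ideal.Quotient.mk (maximalIdeal B')))
      (B' ⧸ maximalIdeal B') := by
    rw [Ideal.map_quotient_self]; infer_instance
  obtain ⟨v, -, hv⟩ := Groth.Agent.PP16Lib.exists_lift_complete hfs (maximalIdeal B')
    ⟨1, by rw [pow_one]; exact hu'.le⟩ (maximalIdeal B') ⟨1, by rw [pow_one]⟩ φ₀ ⟨1, by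
      rw [pow_one, Ideal.map_le_iff_le_comap]
      intro x hx
      rw [Ideal.mem_comap]
      change σ (residue B x) ∈ _
      rw [(residue_eq_zero_iff x).2 hx, map_zero]
      exact zero_mem _⟩
  have hres : ∀ b, residue B' (v b) = σ (residue B b) := fun b => AlgHom.congr_fun hv b
  have hmap : (maximalIdeal B).map v.toRingHom = maximalIdeal B' := by
    refine le_antisymm (Ideal.map_le_iff_le_comap.2 fun x hx => ?_) ?_
    · rw [Ideal.mem_comap, ← residue_eq_zero_iff]
      change residue B' (v x) = 0
      rw [hres, (residue_eq_zero_iff x).2 hx, map_zero]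
    · rw [← hu', ← hu, Ideal.map_map]
      exact le_of_eq (congrArg (fun f => Ideal.map f (maximalIdeal A)) v.comp_algebraMap.symm)
  have hinj : Function.Injective v := by
    rw [injective_iff_map_eq_zero]
    intro b hb
    by_contra hb0
    obtain ⟨ϖ, hϖ⟩ := IsDiscreteValuationRing.exists_irreducible B
    obtain ⟨n, w, rfl⟩ := IsDiscreteValuationRing.eq_unit_mul_pow_irreducible hb0 hϖ
    rw [map_mul, map_pow, mul_eq_zero] at hb
    rcases hb with hb | hb
    · exact ((w.isUnit.map v).ne_zero) hb
    · refine IsDiscreteValuationRing.not_a_field B' ?_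
      rw [← hmap, hϖ.maximalIdeal_eq, Ideal.map_span, Set.image_singleton]
      change Ideal.span {v ϖ} = ⊥
      rw [eq_zero_of_pow_eq_zero hb, Ideal.span_singleton_zero]
  have hsurj : Function.Surjective v.toRingHom := by
    haveI : IsHausdorff ((maximalIdeal B).map v.toRingHom) B' := by rw [hmap]; infer_instance
    refine surjective_of_mk_map_comp_surjective v.toRingHom (I := maximalIdeal B) fun y => ?_
    obtain ⟨y, rfl⟩ := Ideal.Quotient.mk_surjective y
    obtain ⟨x, hx⟩ := residue_surjective (σ.symm (residue B' y))
    refine ⟨x, Ideal.Quotient.eq.2 ?_⟩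
    rw [hmap, ← residue_eq_zero_iff, map_sub]
    change residue B' (v x) - _ = 0
    rw [hres, hx, RingEquiv.apply_symm_apply, sub_self]
  exact ⟨RingEquiv.ofBijective v.toRingHom ⟨hinj, hsurj⟩, v.comp_algebraMap, hres⟩

end Groth.Agent.S2482
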