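import Groth.Statements.S2484
import Groth.Agent.EGA41Lib.Separable
-- import your own Groth.Agent.* helpers here

set_option autoImplicit false
universe u
open EGA41

namespace Groth.Agent.S2484

/-- Let K ⊆ E ⊆ F be fields. (i) If F is a separable extension of E, then Υ_{F/E/K} = 0, i.e. the
canonical map Ω_{E/K} ⊗_E F → Ω_{F/K} is injective. (ii) Conversely, if F is separable over K and
this map is injective, then F is separable over E. (Separable means geometrically reduced.) -/
theorem result {K E F : Type u} [Field K] [Field E] [Field F] [Algebra K E] [Algebra E F] [Algebra K F] [IsScalarTower K E F] :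
    (Algebra.IsGeometricallyReduced E F → Function.Injective (KaehlerDifferential.mapBaseChange K E F)) ∧
    (Algebra.IsGeometricallyReduced K F → Function.Injective (KaehlerDifferential.mapBaseChange K E F) → Algebra.IsGeometricallyReduced E F) := by
  simp only [← Groth.Agent.EGA41Lib.formallySmooth_iff_isGeometricallyReduced]
  refine ⟨fun h => Groth.Agent.EGA41Lib.injective_of_formallySmooth, fun h hinj => ?_⟩
  have h1 : Subsingleton (Algebra.H1Cotangent K F) :=
    Algebra.FormallySmooth.subsingleton_h1Cotangent
  refine ⟨inferInstance, ⟨fun a b => ?_⟩⟩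
  have key : ∀ z : Algebra.H1Cotangent E F, z = 0 := by
    intro z
    have h2 : Algebra.H1Cotangent.δ K E F z = 0 := by
      apply hinj
      rw [map_zero]
      exact (Algebra.H1Cotangent.exact_δ_mapBaseChange K E F _).2 ⟨z, rfl⟩
    obtain ⟨y, rfl⟩ := (Algebra.H1Cotangent.exact_map_δ K E F z).1 h2
    rw [Subsingleton.elim y 0, map_zero]
  rw [key a, key b]

end Groth.Agent.S2484
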