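import Groth.Statements.S2486
import Groth.Agent.EGA41Lib.Kaehler
import Groth.Agent.EGA41Lib.Unram
-- import your own Groth.Agent.* helpers here

set_option autoImplicit false
universe u
open EGA41

namespace Groth.Agent.S2486

/-- Let p be a prime, B an A-algebra of characteristic p and (x_α) a family of elements of B. Then (a) B
is generated as an A[B^p]-algebra by the x_α if and only if (b) (x_α) is a system of p-generators of
B over A; these imply (c) Ω_{B/A} is generated by the d x_α; and if B is an A[B^p]-algebra of finite
type, (c) implies (a). -/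
theorem result (p : ℕ) [Fact p.Prime] {A B : Type u} [CommRing A] [CommRing B] [Algebra A B] [CharP B p]
    {ι : Type u} (x : ι → B) :
    (Algebra.adjoin (EGA41.pPowerSubalgebra p A B) (Set.range x) = ⊤ ↔ EGA41.IsPGenerating p A x) ∧
    (EGA41.IsPGenerating p A x → Submodule.span B (Set.range fun i => KaehlerDifferential.D A B (x i)) = ⊤) ∧
    (Algebra.FiniteType (EGA41.pPowerSubalgebra p A B) B →
      Submodule.span B (Set.range fun i => KaehlerDifferential.D A B (x i)) = ⊤ → EGA41.IsPGenerating p A x) := by
  open Groth.Agent.EGA41Lib in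
  refine ⟨?_, fun h => span_D_eq_top h, fun hft hspan => ?_⟩
  · rw [isPGenerating_iff_closure, ← Algebra.toSubring_eq_top, Algebra.adjoin_eq_ring_closure]
    have e : Set.range (algebraMap (EGA41.pPowerSubalgebra p A B) B) = (pSub p A B : Set B) := by
      ext b
      exact ⟨fun ⟨c, hc⟩ => hc ▸ c.2, fun hb => ⟨⟨b, hb⟩, rfl⟩⟩
    rw [e]
  · open Groth.Agent.EGA41Lib in
    rw [isPGenerating_iff_closure]
    set T := Subring.closure ((pSub p A B : Set B) ∪ Set.range x)
    have hT : ∀ s ∈ pSub p A B, s ∈ T := fun s hs => Subring.subset_closure (Or.inl hs)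
    let C : Subalgebra A B :=
      { T with algebraMap_mem' := fun a => hT _ (algebraMap_mem_pSub p A a) }
    have hft' : Algebra.FiniteType C B := by
      let : Algebra (EGA41.pPowerSubalgebra p A B) C :=
        (Subalgebra.inclusion (show EGA41.pPowerSubalgebra p A B ≤ C from fun s hs => hT s hs)).toRingHom.toAlgebra
      have : IsScalarTower (EGA41.pPowerSubalgebra p A B) C B := IsScalarTower.of_algebraMap_eq' rfl
      exact Algebra.FiniteType.of_restrictScalars_finiteType (EGA41.pPowerSubalgebra p A B) C B
    have hun : Algebra.FormallyUnramified C B := by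
      refine ⟨?_⟩
      have h2 : (⊤ : Submodule B (Ω[B⁄C])) ≤ ⊥ := by
        rw [← KaehlerDifferential.span_range_derivation C B, Submodule.span_le]
        rintro _ ⟨b, rfl⟩
        let δ : Derivation A B (Ω[B⁄C]) := (KaehlerDifferential.D C B).restrictScalars A
        have h3 : ∀ y ∈ Set.range fun i => KaehlerDifferential.D A B (x i),
            δ.liftKaehlerDifferential y = 0 := by
          rintro _ ⟨i, rfl⟩
          rw [Derivation.liftKaehlerDifferential_comp_D]
          exact (KaehlerDifferential.D C B).map_algebraMap (⟨x i, Subring.subset_closure (Or.inr ⟨i, rfl⟩)⟩ : C)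
        have h4 : δ.liftKaehlerDifferential = 0 := LinearMap.ext_on hspan h3
        have h5 := Derivation.liftKaehlerDifferential_comp_D δ b
        rw [h4, LinearMap.zero_apply] at h5
        exact h5.symm
      exact ⟨fun a b => (h2 (x := a) trivial : a = 0).trans (h2 (x := b) trivial : b = 0).symm⟩
    have hsurj := surjective_of_unramified_of_pow (p := p) (A := C) (B := B) 1 fun b =>
      ⟨⟨b ^ p ^ 1, by rw [pow_one]; exact hT _ (pow_mem_pSub p A b)⟩, rfl⟩
    refine eq_top_iff.2 fun b _ => ?_
    obtain ⟨c, hc⟩ := hsurj b
    exact hc ▸ c.2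

end Groth.Agent.S2486
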