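import Groth.Statements.S2487
import Groth.Agent.GRing17.FlatLift
import Groth.Agent.S2454
import Groth.Agent.EGA41Lib.Separable

set_option autoImplicit false
universe u
open EGA41

namespace Groth.Agent.S2487

open IsLocalRing TensorProduct in
/-- Let A be a Noetherian local ring, J an ideal contained in the maximal ideal, A₀ = A/J, and B₀ a
complete Noetherian local ring with a local homomorphism A₀ → B₀ making B₀ formally smooth over A₀
(adic topologies). Then (existence) there are a complete Noetherian local ring B, a local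
homomorphism A → B making B a flat A-module, and an A₀-algebra isomorphism u : A₀ ⊗_A B ≅ B₀;
(uniqueness) if (B', u') is another such pair, there is an A-algebra isomorphism v : B ≅ B' with u'
∘ (1 ⊗ v) = u. -/
theorem result {A : Type u} [CommRing A] [IsLocalRing A] [IsNoetherianRing A]
    (J : Ideal A) (hJ : J ≤ maximalIdeal A) [IsLocalRing (A ⧸ J)]
    (B₀ : Type u) [CommRing B₀] [IsLocalRing B₀] [IsNoetherianRing B₀] [IsAdicComplete (maximalIdeal B₀) B₀]
    [Algebra (A ⧸ J) B₀] [IsLocalHom (algebraMap (A ⧸ J) B₀)]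
    (hfs : EGA41.IsFormallySmoothAdic (A ⧸ J) (maximalIdeal (A ⧸ J)) B₀ (maximalIdeal B₀)) :
    (∃ (B : Type u) (_ : CommRing B) (_ : IsLocalRing B) (_ : IsNoetherianRing B) (_ : Algebra A B) (_ : IsLocalHom (algebraMap A B)),
      IsAdicComplete (maximalIdeal B) B ∧ Module.Flat A B ∧ Nonempty ((A ⧸ J) ⊗[A] B ≃ₐ[A ⧸ J] B₀)) ∧
    ∀ (B B' : Type u) [CommRing B] [IsLocalRing B] [IsNoetherianRing B] [Algebra A B] [IsLocalHom (algebraMap A B)]
      [CommRing B'] [IsLocalRing B'] [IsNoetherianRing B'] [Algebra A B'] [IsLocalHom (algebraMap A B')],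
      IsAdicComplete (maximalIdeal B) B → Module.Flat A B → IsAdicComplete (maximalIdeal B') B' → Module.Flat A B' →
      ∀ (u : (A ⧸ J) ⊗[A] B ≃ₐ[A ⧸ J] B₀) (u' : (A ⧸ J) ⊗[A] B' ≃ₐ[A ⧸ J] B₀),
      ∃ v : B ≃ₐ[A] B', (u' : (A ⧸ J) ⊗[A] B' →ₐ[A ⧸ J] B₀).comp
          (Algebra.TensorProduct.map (AlgHom.id (A ⧸ J) (A ⧸ J)) (v : B →ₐ[A] B')) = (u : (A ⧸ J) ⊗[A] B →ₐ[A ⧸ J] B₀) := by
  classical
  let A₀ := A ⧸ J
  let k := ResidueField A
  let _ : Algebra A B₀ := ((algebraMap A₀ B₀).comp (algebraMap A A₀)).toAlgebra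
  have : IsScalarTower A A₀ B₀ := .of_algebraMap_eq fun _ => rfl
  let M : Ideal B₀ := (maximalIdeal A).map (algebraMap A B₀)
  have hA0 : IsLocalHom (algebraMap A A₀) := .of_surjective _ Ideal.Quotient.mk_surjective
  have hAB0 : IsLocalHom (algebraMap A B₀) := ⟨fun x hx =>
    isUnit_of_map_unit (algebraMap A A₀) x (isUnit_of_map_unit (algebraMap A₀ B₀) _ hx)⟩
  have hM : M ≠ ⊤ :=
    ne_top_of_le_ne_top (maximalIdeal.isMaximal B₀).ne_top (GRing17.map_maximalIdeal_le' (algebraMap A B₀))
  let Q := B₀ ⧸ M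
  have : Nontrivial Q := Ideal.Quotient.nontrivial_iff.mpr hM
  have : IsLocalRing Q := IsLocalRing.of_surjective' _ Ideal.Quotient.mk_surjective
  have : IsAdicComplete (maximalIdeal Q) Q := by
    rw [← map_maximalIdeal_of_surjective (Ideal.Quotient.mk M) Ideal.Quotient.mk_surjective]
    exact AdicLim.isAdicComplete_quotient M
  have hQ0 : ∀ a ∈ maximalIdeal A, algebraMap A Q a = 0 := fun a ha =>
    Ideal.Quotient.eq_zero_iff_mem.mpr (Ideal.mem_map_of_mem _ ha)
  let _ : Algebra k Q := (Ideal.Quotient.lift (maximalIdeal A) (algebraMap A Q) hQ0).toAlgebra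
  have : IsScalarTower A k Q := by
    exact IsScalarTower.of_algebraMap_eq (R := A) (S := k) (A := Q) fun _ => rfl
  have hmA0 : maximalIdeal A₀ = (maximalIdeal A).map (algebraMap A A₀) :=
    (map_maximalIdeal_of_surjective _ Ideal.Quotient.mk_surjective).symm
  have hfs0 : CAlgX.IsAdicFormallySmooth A₀ B₀ (maximalIdeal B₀) :=
    PP16Lib.adicSmooth_of_formallySmoothAdic hfs ⟨1, by rw [pow_one]; exact GRing17.map_maximalIdeal_le' _⟩
  have hQ : CAlgX.IsAdicFormallySmooth k Q (maximalIdeal Q) := by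
    let σ : A₀ →+* k := Ideal.Quotient.factor hJ
    refine GRing17.adicSmooth_quotient σ (Ideal.Quotient.factor_surjective hJ) (Ideal.Quotient.mk M)
      Ideal.Quotient.mk_surjective (fun a => ?_) ?_ hfs0
    · obtain ⟨a, rfl⟩ := Ideal.Quotient.mk_surjective a
      rfl
    · rw [Ideal.mk_ker, show RingHom.ker σ = (maximalIdeal A).map (Ideal.Quotient.mk J) from Ideal.Quotient.factor_ker hJ, Ideal.map_map]
      exact le_of_eq rfl
  refine ⟨?_, fun B B' _ _ _ _ _ _ _ _ _ _ hc hfl hc' hfl' u u' => ?_⟩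
  · obtain ⟨C, _, _, _, _, _, π, hc, hfl, hfsC, hπ, hk⟩ := GRing17.exists_adicSmooth_lift A hQ
    obtain ⟨_, _, _, hl, hb, π₁, hπ₁, hk₁⟩ := GRing17.baseChange_props (P := A) (A := A₀) (B := C) (Q := Q)
      (residue_surjective.comp Ideal.Quotient.mk_surjective) (fun a ha => by
        obtain ⟨a, rfl⟩ := Ideal.Quotient.mk_surjective a
        exact hQ0 a (fun hu => ha (hu.map (algebraMap A A₀)))) π hπ hk
    obtain ⟨e⟩ := GRing17.exists_algEquiv_of_fibre (GRing17.adicSmooth_baseChange hb hfsC) hfs0 π₁ hπ₁ hk₁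
      (Ideal.Quotient.mkₐ A₀ M) Ideal.Quotient.mk_surjective (by
        show RingHom.ker (Ideal.Quotient.mk M) ≤ _
        rw [Ideal.mk_ker, hmA0, Ideal.map_map, ← IsScalarTower.algebraMap_eq])
    exact ⟨C, inferInstance, inferInstance, inferInstance, inferInstance, inferInstance, hc, hfl, ⟨e⟩⟩
  · have key : ∀ (S : Type u) [CommRing S] [IsLocalRing S] [IsNoetherianRing S] [Algebra A S]
        [IsLocalHom (algebraMap A S)] [Module.Flat A S] (s : A₀ ⊗[A] S ≃ₐ[A₀] B₀),
        CAlgX.IsAdicFormallySmooth A S (maximalIdeal S) ∧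
          RingHom.ker ((s.toAlgHom.restrictScalars A).comp
            (Algebra.TensorProduct.includeRight : S →ₐ[A] A₀ ⊗[A] S)) ≤ (maximalIdeal A).map (algebraMap A S) := by
      intro S _ _ _ _ _ _ s
      obtain ⟨hs, hker⟩ := GRing17.baseChange_of_surjective (A := A) (B := S) (K := A₀) Ideal.Quotient.mk_surjective
      let ι : S →ₐ[A] A₀ ⊗[A] S := Algebra.TensorProduct.includeRight
      let π : S →ₐ[A] B₀ := (s.toAlgHom.restrictScalars A).comp ι
      have hπs : Function.Surjective π := s.surjective.comp hs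
      have hJm : (RingHom.ker (algebraMap A A₀)).map (algebraMap A S) ≤ (maximalIdeal A).map (algebraMap A S) :=
        Ideal.map_mono ((Ideal.mk_ker (I := J)).le.trans hJ)
      have hkπ : RingHom.ker π ≤ (maximalIdeal A).map (algebraMap A S) := fun x hx =>
        hJm (hker ((map_eq_zero_iff _ s.injective).mp hx))
      refine ⟨?_, hkπ⟩
      refine GRing17.adicSmooth_of_fibre (residue A) residue_surjective Ideal.mk_ker
        ((Ideal.Quotient.mk M).comp π.toRingHom) (Ideal.Quotient.mk_surjective.comp hπs) (fun a => ?_) ?_ hQ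
      · show Ideal.Quotient.mk M (π (algebraMap A S a)) = _
        rw [π.commutes]
        rfl
      · intro x hx
        have h1 : π x ∈ ((maximalIdeal A).map (algebraMap A S)).map π.toRingHom := by
          rw [Ideal.map_map, AlgHom.toRingHom_eq_coe, AlgHom.comp_algebraMap]
          exact Ideal.Quotient.eq_zero_iff_mem.mp hx
        have h2 := (Ideal.comap_map_of_surjective π.toRingHom hπs _).le h1
        rw [← RingHom.ker_eq_comap_bot] at h2
        exact (sup_le le_rfl hkπ :) h2
    have := hc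
    have := hc'
    obtain ⟨hfsB, hkB⟩ := key B u
    obtain ⟨hfsB', hkB'⟩ := key B' u'
    obtain ⟨v, hv⟩ := GRing17.exists_algEquiv_over hfsB hfsB'
      ((u.toAlgHom.restrictScalars A).comp Algebra.TensorProduct.includeRight)
      (u.surjective.comp (GRing17.baseChange_of_surjective Ideal.Quotient.mk_surjective).1) hkB
      ((u'.toAlgHom.restrictScalars A).comp Algebra.TensorProduct.includeRight)
      (u'.surjective.comp (GRing17.baseChange_of_surjective Ideal.Quotient.mk_surjective).1) hkB'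
    refine ⟨v, Algebra.TensorProduct.ext (by exact Algebra.ext_id_iff.mpr trivial) (AlgHom.ext fun b => ?_)⟩
    exact hv b

end Groth.Agent.S2487
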