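import Groth.Statements.S5133
import Groth.Agent.ImmDescent.Basic
import Mathlib.AlgebraicGeometry.Morphisms.UniversallyOpen
-- import your own Groth.Agent.* helpers here

set_option autoImplicit false
open CategoryTheory CategoryTheory.Limits AlgebraicGeometry
universe u
open SGA1

namespace Groth.Agent.S5133

/-- For a quasi-compact morphism f : X ⟶ Y and a flat surjective base change g : Y' ⟶ Y, with no
quasi-compactness asked of g, if the base change of f along g is a homeomorphism onto its image then
f is a homeomorphism onto its image. -/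
theorem result {X Y Y' : Scheme.{u}} (f : X ⟶ Y)
    (g : Y' ⟶ Y) [QuasiCompact f] [Flat g] [Surjective g]
    (h : Topology.IsEmbedding (pullback.snd f g).base) : Topology.IsEmbedding f.base := by
  have hX : ∀ (c : X) (y' : Y'), f c = g y' → ∃ z : ↑(pullback f g), pullback.fst f g z = c ∧ pullback.snd f g z = y' :=
    fun c y' e => Scheme.Pullback.exists_preimage_pullback c y' e
  refine ⟨⟨le_antisymm f.continuous.le_induced fun W hW => ?_⟩, fun a b hab => ?_⟩
  · let C : TopologicalSpace.Closeds X := ⟨(W : Set X)ᶜ, hW.isClosed_compl⟩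
    let j := (Scheme.IdealSheafData.vanishingIdeal C).subschemeι
    have hj : Set.range j = (C : Set X) := by
      rw [Scheme.IdealSheafData.range_subschemeι]; simp
    refine isOpen_induced_iff.mpr ⟨(closure (f '' (C : Set X)))ᶜ, isClosed_closure.isOpen_compl, ?_⟩
    ext x
    refine ⟨fun hx => by_contra fun hxW => hx (subset_closure ⟨x, hxW, rfl⟩), fun hxW hx => ?_⟩
    have hx' : f x ∈ closure (Set.range (j ≫ f)) := by
      rw [Scheme.Hom.comp_base, TopCat.coe_comp, Set.range_comp, hj]; exact hx
    obtain ⟨t, ht⟩ := Groth.Agent.ImmDescent.exists_specializes_of_mem_closure_range (j ≫ f) hx'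
    rw [Scheme.Hom.comp_apply] at ht
    obtain ⟨y', hy'⟩ := g.surjective (f x)
    rw [← hy'] at ht
    obtain ⟨y'', hy'', he⟩ := Flat.generalizingMap g ht
    obtain ⟨z, hz1, hz2⟩ := hX x y' hy'.symm
    obtain ⟨w, hw1, hw2⟩ := hX (j t) y'' he.symm
    have hwz : w ⤳ z := h.isInducing.specializes_iff.mp (show pullback.snd f g w ⤳ pullback.snd f g z by rw [hz2, hw2]; exact hy'')
    have hjx : j t ⤳ x := by rw [← hw1, ← hz1]; exact hwz.map (pullback.fst f g).continuous
    have hxC : x ∈ (C : Set X) := hjx.mem_closed C.isClosed (hj ▸ ⟨t, rfl⟩)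
    exact hxC hxW
  · obtain ⟨y', hy'⟩ := g.surjective (f a)
    obtain ⟨z, hz1, hz2⟩ := hX a y' hy'.symm
    obtain ⟨w, hw1, hw2⟩ := hX b y' (hab.symm.trans hy'.symm)
    have : z = w := h.injective (hz2.trans hw2.symm)
    rw [← hz1, ← hw1, this]

end Groth.Agent.S5133
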