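import Groth.Statements.S4938
import Groth.Agent.GeomUnib.Crit
-- import your own Groth.Agent.* helpers here

set_option autoImplicit false
open CategoryTheory AlgebraicGeometry
universe u v w
open EGA43

namespace Groth.Agent.S4938

/-- Let Y be a locally Noetherian scheme, f : X ⟶ Y a morphism locally of finite type, and y a
geometrically unibranch point of Y, lying on the unique irreducible component Y₀ of Y with generic
point η. The following are equivalent: a) f is universally open at every point of X_y; b) every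
point x of X_y lies on an irreducible component Z of X dominating Y₀ with dim_x(Z ∩ X_y) = dim(Z ∩
X_η); b'') for every open subset U of X, dim(U ∩ X_η) ≥ dim(U ∩ X_y); c) f is open at every point of
X_y. (The published statement assumes Y locally Noetherian only for c) and also lists b′), the
pointwise form of b″) (for every x in X_y and every open U ∋ x, dim(U ∩ X_η) ≥ dim_x(U ∩ X_y)); over
the spectrum of an infinite product of copies of a field, the inclusion of a non-open closed point
satisfies b) and b″) but not a), so this row takes Y locally Noetherian throughout, and b′) is not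
listed.) -/
theorem result {X Y : Scheme.{u}} [IsLocallyNoetherian Y] (f : X ⟶ Y)
    [LocallyOfFiniteType f] (y : Y) (hy : CAlg2.IsGeomUnibranch (Y.presheaf.stalk y)) :
    List.TFAE [∀ x : X, f.base x = y → EGA43.IsUnivOpenAt f x,
      ∀ x : X, f.base x = y → ∀ Y₀ ∈ irreducibleComponents (Y : Type u), y ∈ Y₀ →
        ∃ Z ∈ irreducibleComponents (X : Type u), ∃ hx : x ∈ Z, closure (f.base '' Z) = Y₀ ∧
          ∀ η : Y, closure ({η} : Set Y) = Y₀ →
            FlatMor.localDim ↥(Z ∩ f.base ⁻¹' {f.base x}) ⟨x, ⟨hx, rfl⟩⟩ = topologicalKrullDim ↥(Z ∩ f.base ⁻¹' {η}),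
      ∀ U : X.Opens, ∀ Y₀ ∈ irreducibleComponents (Y : Type u), y ∈ Y₀ → ∀ η : Y, closure ({η} : Set Y) = Y₀ →
        topologicalKrullDim ↥((U : Set X) ∩ f.base ⁻¹' {y}) ≤ topologicalKrullDim ↥((U : Set X) ∩ f.base ⁻¹' {η}),
      ∀ x : X, f.base x = y → EGA43.IsOpenAt f.base x] := by
  tfae_have 1 → 4 := fun h x hx => Groth.Agent.GeomUnib.isOpenAt_of_isUnivOpenAt f (h x hx)
  tfae_have 4 → 3 := by
    intro h U Y₀ hY₀ hyY η hη
    have hsp : η ⤳ y := specializes_iff_mem_closure.2 (hη.ge hyY)
    rw [Set.inter_comm, ← Set.univ_inter (f.base ⁻¹' {y})]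
    refine Groth.Agent.FibreDim.dim_inter_le f isClosed_univ U.2 y fun w _ hwU hwy => ?_
    obtain ⟨m, hm, hmw, hd, hmax⟩ := Groth.Agent.GeomUnib.exists_maximal_gen f w
    obtain ⟨v, hvm, hv, hd'⟩ := Groth.Agent.GeomUnib.exists_gen_of_isOpenAt f m hmax
      (h m (hm.trans hwy)) η (by rw [hm, hwy]; exact hsp)
    refine (hd.trans hd').trans ?_
    have := Groth.Agent.FibreDim.fdim_le_dim_inter f (Z := Set.univ) isClosed_univ U.2 η v trivial
      ((hvm.trans hmw).mem_open U.2 hwU) hv
    rwa [Set.univ_inter, Set.inter_comm] at this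
  tfae_have 3 → 2 := by
    intro h x hx Y₀ hY₀ hyY
    obtain ⟨η, hη⟩ := QuasiSober.sober hY₀.1 (isClosed_of_mem_irreducibleComponents _ hY₀)
    obtain ⟨n, hn, ⟨w, hw, hwx, hwn⟩, -⟩ := Groth.Agent.FibreDim.exists_fibreDimAt_eq f x
    obtain ⟨v, hvx, hv, hd⟩ := Groth.Agent.GeomUnib.exists_gen_of_forall_nhds f x η
      (hη.specializes (hx ▸ hyY)) (n : WithBot ℕ∞) fun O hxO =>
      Groth.Agent.GeomUnib.exists_point_of_le_dim f O η n (by
        refine le_trans ?_ (h O Y₀ hY₀ hyY η hη.def)
        rw [← hwn]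
        have := Groth.Agent.FibreDim.fdim_le_dim_inter f (Z := Set.univ) isClosed_univ O.2 y w trivial
          (hwx.mem_open O.2 hxO) (hw.trans hx)
        rwa [Set.univ_inter, Set.inter_comm] at this)
    obtain ⟨Z, hZ, hx', hcl, hdim⟩ := Groth.Agent.GeomUnib.exists_component_of_gen f x
      (fun η' h => Groth.Agent.GeomUnib.maximal_of_component η Y₀ hY₀ hη η' h) hvx hv (hn.le.trans hd)
    exact ⟨Z, hZ, hx', hcl.trans hη.def, fun η' hη' => hdim η' (hη'.trans hη.def.symm)⟩
  tfae_have 2 → 1 := by
    intro h x hx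
    obtain ⟨Z, hZ, hx', hcl, hdim⟩ := h x hx _ (irreducibleComponent_mem_irreducibleComponents y)
      mem_irreducibleComponent
    exact Groth.Agent.GeomUnib.isUnivOpenAt_of_component_data f x (hx ▸ hy)
      (irreducibleComponent_mem_irreducibleComponents y) (hx ▸ mem_irreducibleComponent) hZ hx' hcl hdim
  tfae_finish

end Groth.Agent.S4938
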