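import Groth.Statements.S2563
import Mathlib
-- import your own Groth.Agent.* helpers here

set_option autoImplicit false
open TensorProduct
universe u
open EGA43

namespace Groth.Agent.S2563

/-- Let A be a commutative ring, J a nilpotent ideal of A, and (B_i) a family of commutative A-algebras
such that an element of A vanishing in every B_i is zero. Let M be an A-module such that each B_i
⊗_A M is a free B_i-module and (A/J) ⊗_A M is a free (A/J)-module. Then M is a free A-module. -/
theorem result {A : Type u} [CommRing A] (J : Ideal A) (hJ : IsNilpotent J)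
    {ι : Type u} (B : ι → Type u) [∀ i, CommRing (B i)] [∀ i, Algebra A (B i)]
    (hB : ∀ a : A, (∀ i, algebraMap A (B i) a = 0) → a = 0)
    (M : Type u) [AddCommGroup M] [Module A M]
    (hfree : ∀ i, Module.Free (B i) (B i ⊗[A] M)) (hfreeJ : Module.Free (A ⧸ J) ((A ⧸ J) ⊗[A] M)) :
    Module.Free A M := by
  classical
  let b := Module.Free.chooseBasis (A ⧸ J) ((A ⧸ J) ⊗[A] M)
  let κ := Module.Free.ChooseBasisIndex (A ⧸ J) ((A ⧸ J) ⊗[A] M)
  let mk : M →ₗ[A] (A ⧸ J) ⊗[A] M := (TensorProduct.mk A (A ⧸ J) M) 1
  have hmk : Function.Surjective mk := TensorProduct.mk_surjective A M (A ⧸ J) Ideal.Quotient.mk_surjective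
  choose v hv using fun k : κ => hmk (b k)
  let φ : (κ →₀ A) →ₗ[A] M := Finsupp.linearCombination A v
  have hkermk : LinearMap.ker mk = J • (⊤ : Submodule A M) := LinearMap.ker_tensorProductMk ..
  have hφ : Function.Surjective φ := by
    obtain ⟨n, hn⟩ := hJ
    have h1 : (⊤ : Submodule A M) ≤ LinearMap.range φ ⊔ J • ⊤ := by
      intro m _
      have h2 : mk m ∈ Submodule.span A (Set.range b) := by
        suffices ∀ w ∈ Submodule.span (A ⧸ J) (Set.range b), w ∈ Submodule.span A (Set.range b) from
          this _ (by rw [b.span_eq]; trivial)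
        intro w h3
        induction h3 using Submodule.span_induction with
        | mem a ha => exact Submodule.subset_span ha
        | zero => exact zero_mem _
        | add a c _ _ ha hc => exact add_mem ha hc
        | smul a c _ hc =>
          obtain ⟨a, rfl⟩ := Ideal.Quotient.mk_surjective a
          exact Submodule.smul_mem _ a hc
      rw [← hkermk, ← Submodule.comap_map_eq, Submodule.mem_comap]
      refine Submodule.span_le.mpr ?_ h2
      rintro _ ⟨k, rfl⟩
      exact ⟨v k, ⟨Finsupp.single k 1, by simp [φ]⟩, hv k⟩
    have h4 : ∀ i : ℕ, (⊤ : Submodule A M) ≤ LinearMap.range φ ⊔ J ^ i • ⊤ := by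
      intro i
      induction i with
      | zero => simp
      | succ i ih =>
        refine h1.trans (sup_le le_sup_left ?_)
        refine (Submodule.smul_mono le_rfl ih).trans ?_
        rw [Submodule.smul_sup, ← smul_assoc, pow_succ']
        exact sup_le (le_sup_of_le_left Submodule.smul_le_right) le_sup_right
    have := h4 n
    rw [hn, Ideal.zero_eq_bot, Submodule.bot_smul, sup_bot_eq] at this
    exact LinearMap.range_eq_top.mp (top_le_iff.mp this)
  have hinj : Function.Injective φ := by
    rw [← LinearMap.ker_eq_bot, eq_bot_iff]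
    intro x hx
    rw [LinearMap.mem_ker] at hx
    rw [Submodule.mem_bot]
    ext k
    refine hB _ fun i => ?_
    haveI := hfree i
    let I := J.map (algebraMap A (B i))
    let ψ : (κ →₀ B i) →ₗ[B i] B i ⊗[A] M := Finsupp.linearCombination (B i) fun k => (1 : B i) ⊗ₜ[A] v k
    have hψ : Function.Surjective ψ := by
      rw [← LinearMap.range_eq_top, eq_top_iff]
      intro z hz0
      clear hz0
      induction z using TensorProduct.induction_on with
      | zero => exact zero_mem _
      | add z w hz hw => exact add_mem hz hw
      | tmul c m =>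
        obtain ⟨y, rfl⟩ := hφ m
        induction y using Finsupp.induction_linear with
        | zero => simp
        | add y y' hy hy' => rw [map_add, TensorProduct.tmul_add]; exact add_mem hy hy'
        | single k a =>
          refine ⟨Finsupp.single k (a • c), ?_⟩
          simp only [ψ, φ, Finsupp.linearCombination_single]
          rw [TensorProduct.tmul_smul, TensorProduct.smul_tmul', TensorProduct.smul_tmul']
          congr 1
          simp
    obtain ⟨s, hs⟩ := Module.projective_lifting_property ψ (LinearMap.id : B i ⊗[A] M →ₗ[B i] _) hψ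
    have hker : ∀ z : κ →₀ B i, ψ z = 0 → ∀ k, z k ∈ I := by
      intro z hz k
      let ρ : (A ⧸ J) →ₗ[A] (B i ⧸ I) :=
        (Ideal.quotientMapₐ I (Algebra.ofId A (B i)) Ideal.le_comap_map).toLinearMap
      let g : M →ₗ[A] (B i ⧸ I) := ρ ∘ₗ (b.coord k).restrictScalars A ∘ₗ mk
      have hg : ∀ k', g (v k') = if k = k' then 1 else 0 := by
        intro k'
        change ρ (b.repr (mk (v k')) k) = _
        rw [hv, b.repr_self, Finsupp.single_apply]
        by_cases h : k = k'
        · subst h; simp [ρ]
        · simp [ρ, h, Ne.symm h]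
      have h2 := congrArg (g.liftBaseChange (B i)) hz
      rw [map_zero] at h2
      rw [← Ideal.Quotient.eq_zero_iff_mem, ← h2]
      simp only [ψ, Finsupp.linearCombination_apply, Finsupp.sum, map_sum, map_smul,
        LinearMap.liftBaseChange_tmul, one_smul, hg]
      rw [Finset.sum_eq_single k]
      · simp [Algebra.smul_def]
      · intro k' _ hk'
        simp [Ne.symm hk']
      · intro hk'
        simp [Finsupp.notMem_support_iff.mp hk']
    let π : (κ →₀ B i) →ₗ[B i] (κ →₀ B i) := LinearMap.id - s ∘ₗ ψ
    have hπ : LinearMap.range π ≤ I • (⊤ : Submodule (B i) (κ →₀ B i)) := by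
      rintro _ ⟨z, rfl⟩
      have h0 : ψ (π z) = 0 := by
        have := LinearMap.congr_fun hs (ψ z)
        simp only [LinearMap.coe_comp, Function.comp_apply, LinearMap.id_coe, id_eq] at this
        simp [π, this]
      rw [← (π z).sum_single]
      refine Submodule.sum_mem _ fun k _ => ?_
      rw [show Finsupp.single k (π z k) = (π z k) • Finsupp.single k (1 : B i) by simp]
      exact Submodule.smul_mem_smul (hker _ h0 k) trivial
    let y : κ →₀ B i := x.mapRange (algebraMap A (B i)) (map_zero _)
    have hy : ψ y = 0 := by
      have h2 := congrArg ((TensorProduct.mk A (B i) M) 1) hx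
      rw [map_zero] at h2
      rw [← h2]
      simp only [ψ, φ, y, Finsupp.linearCombination_apply, map_finsuppSum, map_smul,
        TensorProduct.mk_apply]
      rw [Finsupp.sum_mapRange_index (by simp)]
      refine Finsupp.sum_congr fun k' _ => ?_
      rw [algebraMap_smul]
    have hyπ : π y = y := by simp [π, hy]
    have hn' : ∀ n : ℕ, y ∈ I ^ n • (⊤ : Submodule (B i) (κ →₀ B i)) := by
      intro n
      induction n with
      | zero => simp
      | succ n ih =>
        have h2 := Submodule.mem_map_of_mem (f := π) ih
        rw [hyπ, Submodule.map_smul'', Submodule.map_top] at h2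
        have h3 := Submodule.smul_mono le_rfl hπ h2
        rwa [← smul_assoc, smul_eq_mul, ← pow_succ] at h3
    obtain ⟨n, hn⟩ := hJ
    have h3 := hn' n
    rw [← Ideal.map_pow, hn, Ideal.zero_eq_bot, Ideal.map_bot, Submodule.bot_smul, Submodule.mem_bot] at h3
    have := DFunLike.congr_fun h3 k
    simpa [y] using this
  exact Module.Free.of_equiv (LinearEquiv.ofBijective φ ⟨hinj, hφ⟩)

end Groth.Agent.S2563
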