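import Groth.Statements.S2568
import Groth.Agent.GeomUnib.Affine
-- import your own Groth.Agent.* helpers here

set_option autoImplicit false
open CategoryTheory AlgebraicGeometry
universe u
open EGA43

namespace Groth.Agent.S2568

/-- Chevalley's criterion in the case of irreducible source and base: let X and Y be irreducible
schemes, all local rings of Y geometrically unibranch, and f : X ⟶ Y a dominant morphism locally of
finite type such that for every point x the local dimension at x of the fibre through x equals the
dimension of the generic fibre (the fibre over the image of the generic point of X). Then f is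
universally open. -/
theorem result {X Y : Scheme.{u}} [IrreducibleSpace X] [IrreducibleSpace Y]
    (hY : ∀ y : Y, CAlg2.IsGeomUnibranch (Y.presheaf.stalk y)) (f : X ⟶ Y) [LocallyOfFiniteType f] [IsDominant f]
    (h : ∀ x : X, FlatMor.fibreDimAt f x = topologicalKrullDim ↥(f.fiber (f.base (genericPoint X)))) :
    UniversallyOpen f := by
  refine Groth.Agent.GeomUnib.universallyOpen_of_forall f fun x => ?_
  refine Groth.Agent.GeomUnib.isUnivOpenAt_of_fdim f x (genericPoint X) (genericPoint_specializes x) ⊤
    trivial ?_ ?_ (hY _)
  · intro y _
    have hsub : Set.range f.base ⊆ closure {f.base (genericPoint X)} := by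
      rintro _ ⟨z, rfl⟩
      exact specializes_iff_mem_closure.1 ((genericPoint_specializes z).map f.continuous)
    exact closure_minimal hsub isClosed_closure (f.denseRange y)
  · rw [h x]
    show topologicalKrullDim _ = _
    rw [genericPoint_closure, Set.univ_inter]
    exact (Groth.Agent.FibreDim.dim_homeo (f.fiberHomeo _)).symm

end Groth.Agent.S2568
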