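import Groth.Statements.S2572
import Groth.Agent.GeomUnib.DominantComp
-- import your own Groth.Agent.* helpers here

set_option autoImplicit false
open CategoryTheory AlgebraicGeometry
universe u
open EGA43

namespace Groth.Agent.S2572

/-- Let Y be an irreducible locally Noetherian scheme whose local rings are regular of dimension at most
one, f : X ⟶ Y locally of finite type, and y a point of Y. If every irreducible component of X
meeting the fibre over y has dense image in Y, then there is an open subset U of X containing that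
fibre such that the restriction of f to U is universally open. -/
theorem result {X Y : Scheme.{u}} [IsLocallyNoetherian Y]
    [IrreducibleSpace Y]
    (hY : ∀ y : Y, IsRegularLocalRing (Y.presheaf.stalk y) ∧ ringKrullDim (Y.presheaf.stalk y) ≤ 1)
    (f : X ⟶ Y) [LocallyOfFiniteType f] (y : Y)
    (h : ∀ Z ∈ irreducibleComponents (X : Type u), (Z ∩ f.base ⁻¹' {y}).Nonempty → Dense (f.base '' Z)) :
    ∃ U : X.Opens, f.base ⁻¹' {y} ⊆ (U : Set X) ∧ UniversallyOpen (U.ι ≫ f) := by
  haveI : IsLocallyNoetherian X := LocallyOfFiniteType.isLocallyNoetherian f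
  choose O hxO hO using fun x : ↥(f.base ⁻¹' {y}) => Groth.Agent.GeomUnib.DominantComp.exists_nhds_maximal_gen x.1
  refine ⟨⨆ x, O x, fun x hx => TopologicalSpace.Opens.mem_iSup.2 ⟨⟨x, hx⟩, hxO ⟨x, hx⟩⟩,
    Groth.Agent.GeomUnib.universallyOpen_of_forall _ fun w => ?_⟩
  refine Groth.Agent.OpenAt.isUnivOpenAt_comp (Groth.Agent.GeomCount.isUnivOpenAt _ w) ?_
  obtain ⟨x, hw⟩ := TopologicalSpace.Opens.mem_iSup.1 w.2
  obtain ⟨ξ, hξw, hξx, hξc⟩ := hO x _ hw
  refine Groth.Agent.GeomUnib.DominantComp.isUnivOpenAt_of_gen f hY hξw ?_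
  have hd := h _ hξc ⟨x.1, hξx.mem_closure, x.2⟩
  have h1 : genericPoint ↥Y ∈ closure {f.base ξ} := by
    refine closure_minimal ?_ isClosed_closure (hd (genericPoint ↥Y))
    rintro _ ⟨b, hb, rfl⟩
    exact ((specializes_iff_mem_closure.2 hb).map f.continuous).mem_closure
  exact ((specializes_iff_mem_closure.2 h1).antisymm (genericPoint_specializes _)).eq

end Groth.Agent.S2572
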