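import Groth.Statements.S2573
import Groth.Agent.FlatDescent.FreeStrat.Basic

set_option autoImplicit false
universe u
open EGA43

namespace Groth.Agent.S2573

/-- Let A be a commutative ring whose spectrum is irreducible, with unique minimal prime p, let B be a
finitely presented A-algebra and M a finitely presented B-module. If the localization M_p is flat
over A_p, then there is t ∉ p such that M_t is a free A_t-module. -/
theorem result {A B : Type u} [CommRing A] [CommRing B] [Algebra A B]
    [Algebra.FinitePresentation A B] (p : Ideal A) [p.IsPrime] (hp : minimalPrimes A = {p})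
    (M : Type u) [AddCommGroup M] [Module B M] [Module A M] [IsScalarTower A B M] [Module.FinitePresentation B M]
    (hflat : Module.Flat (Localization.AtPrime p) (LocalizedModule p.primeCompl M)) :
    ∃ t : A, t ∉ p ∧ Module.Free (Localization.Away t) (LocalizedModule (Submonoid.powers t) M) := by

  have hnil : nilradical A = p := by
    rw [nilradical_eq_sInf]
    refine le_antisymm (sInf_le ‹p.IsPrime›) (le_sInf fun q hq => ?_)
    obtain ⟨r, hr, hrq⟩ := @Ideal.exists_minimalPrimes_le _ _ ⊥ q hq bot_le
    rw [show r = p from by rw [← Set.mem_singleton_iff, ← hp]; exact hr] at hrq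
    exact hrq
  haveI : IrreducibleSpace (PrimeSpectrum A) :=
    PrimeSpectrum.irreducibleSpace_iff_isPrime_nilradical.mpr (hnil ▸ ‹p.IsPrime›)
  obtain ⟨t, ht, hfree⟩ := Groth.FlatDescent.exists_free_away_of_flat_generic (B := B) M p hnil
    (Module.Flat.of_linearEquiv ((IsLocalizedModule.isBaseChange p.primeCompl (Localization.AtPrime p)
      (LocalizedModule.mkLinearMap p.primeCompl M)).equiv))
  haveI := hfree (Localization.Away t) (IsLocalization.Away.algebraMap_isUnit t)
  exact ⟨t, ht, Module.Free.of_equiv (IsLocalizedModule.isBaseChange (Submonoid.powers t) (Localization.Away t)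
    (LocalizedModule.mkLinearMap (Submonoid.powers t) M)).equiv⟩

end Groth.Agent.S2573
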