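import Groth.Statements.S2574
import Groth.Agent.MLMod.NilFlat
import Mathlib

set_option autoImplicit false
open TensorProduct
universe u
open EGA43

namespace Groth.Agent.S2574

/-- Let A be a Noetherian ring, J a nilpotent ideal of A and M an A-module. Then M is flat over A if and
only if (A/J) ⊗_A M is flat over A/J and, for every associated prime p of A, the localization M_p is
flat over A_p. -/
theorem result {A : Type u} [CommRing A] [IsNoetherianRing A]
    (J : Ideal A) (hJ : IsNilpotent J) (M : Type u) [AddCommGroup M] [Module A M] :
    Module.Flat A M ↔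
      Module.Flat (A ⧸ J) ((A ⧸ J) ⊗[A] M) ∧
        ∀ p : associatedPrimes A A,
          haveI : p.1.IsPrime := IsAssociatedPrime.isPrime p.2
          Module.Flat (Localization.AtPrime p.1) (LocalizedModule p.1.primeCompl M) := by
  classical
  constructor
  · intro _
    exact ⟨inferInstance, fun p =>
      haveI : p.1.IsPrime := IsAssociatedPrime.isPrime p.2
      Module.Flat.of_isLocalizedModule _ p.1.primeCompl (LocalizedModule.mkLinearMap p.1.primeCompl M)⟩
  rintro ⟨hflat, hloc⟩
  obtain ⟨n, hn⟩ := hJ
  haveI : Finite (associatedPrimes A A) := (associatedPrimes.finite A A).to_subtype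
  haveI : Fintype (associatedPrimes A A) := Fintype.ofFinite _
  rw [Module.Flat.iff_rTensor_injective']
  intro I
  refine (injective_iff_map_eq_zero _).mpr fun x hx => ?_
  -- every localisation kills the kernel
  have hloc0 : ∀ (L : Ideal A) (y : L ⊗[A] M), L.subtype.rTensor M y = 0 → ∀ p : associatedPrimes A A,
      ∃ s ∉ p.1, s • y = 0 := by
    intro L y hy p
    haveI : p.1.IsPrime := IsAssociatedPrime.isPrime p.2
    let F := LocalizedModule.mkLinearMap p.1.primeCompl M
    haveI := hloc p
    haveI : Module.Flat A (Localization.AtPrime p.1) := IsLocalization.flat _ p.1.primeCompl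
    haveI : Module.Flat A (LocalizedModule p.1.primeCompl M) := Module.Flat.trans A (Localization.AtPrime p.1) _
    let G := AlgebraTensorModule.rTensor A L F
    have h1 : G (TensorProduct.comm A L M y) = 0 := by
      refine Module.Flat.lTensor_preserves_injective_linearMap (M := LocalizedModule p.1.primeCompl M)
        L.subtype Subtype.val_injective ?_
      have h3 : ∀ y, L.subtype.lTensor (LocalizedModule p.1.primeCompl M) (G (TensorProduct.comm A L M y)) =
          F.rTensor A (TensorProduct.comm A A M (L.subtype.rTensor M y)) := by
        intro y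
        induction y using TensorProduct.induction_on with
        | zero => simp
        | add a b ha hb => simp only [map_add, ha, hb]
        | tmul a b => rfl
      rw [h3, hy, map_zero, map_zero, map_zero]
    obtain ⟨⟨s, hs⟩, hs0⟩ := (IsLocalizedModule.eq_zero_iff p.1.primeCompl G).mp h1
    refine ⟨s, hs, (TensorProduct.comm A L M).injective ?_⟩
    rw [map_zero, map_smul]
    exact hs0
  -- the filtration by annihilators
  let C : ℕ → Ideal A := fun i => Submodule.annihilator (J ^ i : Ideal A) ⊓ I
  have hC : ∀ i a, a ∈ C i ↔ (∀ j ∈ J ^ i, a * j = 0) ∧ a ∈ I := fun i a => by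
    simp [C, Submodule.mem_inf, Submodule.mem_annihilator]
  have hmain : ∀ i, Function.Injective ((C i).subtype.rTensor M) := by
    intro i
    induction i with
    | zero =>
      have h0 : C 0 = ⊥ := (Submodule.eq_bot_iff _).mpr fun a ha => by
        simpa using ((hC 0 a).mp ha).1 1 (by simp)
      haveI : Subsingleton (C 0) := by rw [h0]; infer_instance
      exact fun a b _ => Subsingleton.elim a b
    | succ i ih =>
      refine (injective_iff_map_eq_zero _).mpr fun y hy => ?_
      have hle : C i ≤ C (i + 1) := fun a ha => by
        rw [hC] at ha ⊢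
        exact ⟨fun j hj => ha.1 j (Ideal.pow_le_pow_right (Nat.le_succ i) hj), ha.2⟩
      let ι : C i →ₗ[A] C (i + 1) := Submodule.inclusion hle
      let Q := C (i + 1) ⧸ LinearMap.range ι
      let q : C (i + 1) →ₗ[A] Q := (LinearMap.range ι).mkQ
      choose s hs hs0 using hloc0 _ y hy
      have hkill : ∀ r ∈ J, ∀ z : Q, r • z = 0 := by
        intro r hr z
        obtain ⟨a, rfl⟩ := Submodule.Quotient.mk_surjective _ z
        rw [← Submodule.Quotient.mk_smul, Submodule.Quotient.mk_eq_zero]
        refine ⟨⟨r * a, (hC i _).mpr ⟨fun j hj => ?_, I.mul_mem_left r ((hC _ _).mp a.2).2⟩⟩, rfl⟩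
        have h1 := ((hC (i + 1) _).mp a.2).1 (r * j) (by rw [pow_succ']; exact Ideal.mul_mem_mul hr hj)
        linear_combination h1
      let Φ : Q →ₗ[A] (associatedPrimes A A → Q) := LinearMap.pi fun p => s p • LinearMap.id
      have hΦ : Function.Injective Φ := by
        refine (injective_iff_map_eq_zero _).mpr fun z hz => ?_
        obtain ⟨a, rfl⟩ := Submodule.Quotient.mk_surjective _ z
        rw [Submodule.Quotient.mk_eq_zero]
        refine ⟨⟨a, (hC i _).mpr ⟨fun j hj => ?_, ((hC _ _).mp a.2).2⟩⟩, rfl⟩
        by_contra hne
        obtain ⟨P, hP, hle'⟩ := exists_le_isAssociatedPrime_of_isNoetherianRing A ((a : A) * j) hne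
        refine hs ⟨P, hP⟩ (hle' ?_)
        rw [Submodule.mem_colon_singleton, Submodule.mem_bot, smul_eq_mul]
        have h1 := congrFun hz ⟨P, hP⟩
        obtain ⟨b, hb⟩ := (Submodule.Quotient.mk_eq_zero _).mp
          (show Submodule.Quotient.mk (s ⟨P, hP⟩ • a) = (0 : Q) from h1)
        have h2 : s ⟨P, hP⟩ * (a : A) = (b : A) := (congrArg Subtype.val hb).symm
        rw [← mul_assoc, h2]
        exact ((hC i _).mp b.2).1 j hj
      have hT : Module.IsTorsionBySet A Q (J : Set A) := fun z r => hkill r.1 r.2 z
      letI : Module (A ⧸ J) Q := hT.module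
      haveI : IsScalarTower A (A ⧸ J) Q := hT.isScalarTower
      let Φ' : Q →ₗ[A ⧸ J] (associatedPrimes A A → Q) :=
        { toFun := Φ
          map_add' := Φ.map_add
          map_smul' := fun r z => by
            obtain ⟨r, rfl⟩ := Ideal.Quotient.mk_surjective r
            show Φ (r • z) = _
            rw [map_smul]
            rfl }
      have hinj := MLMod.rTensor_injective_of_flat_quotient (M := M) J Φ' hΦ
      have hqy : q.rTensor M y = 0 := by
        refine hinj ?_
        rw [map_zero]
        refine (TensorProduct.piLeft A M (fun _ : associatedPrimes A A => Q)).injective ?_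
        rw [map_zero]
        funext p
        have h4 : ∀ y, TensorProduct.piLeft A M (fun _ : associatedPrimes A A => Q)
            ((Φ'.restrictScalars A).rTensor M (q.rTensor M y)) p = s p • q.rTensor M y := by
          intro y
          induction y using TensorProduct.induction_on with
          | zero => simp
          | add a b ha hb => simp only [map_add, Pi.add_apply, ha, hb, smul_add]
          | tmul a b => simp [Φ', Φ, TensorProduct.smul_tmul']
        rw [h4, ← map_smul, hs0, map_zero]
        rfl
      obtain ⟨w, rfl⟩ := (rTensor_exact (M := C i) M (LinearMap.exact_map_mkQ_range ι)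
        (Submodule.mkQ_surjective _) y).mp hqy
      have hw : w = 0 := ih (by
        rw [map_zero, ← hy, ← LinearMap.rTensor_comp_apply]
        rfl)
      rw [hw, map_zero]
  have hI : C n = I := by
    refine le_antisymm inf_le_right fun a ha => (hC n a).mpr ⟨fun j hj => ?_, ha⟩
    rw [hn, Submodule.zero_eq_bot, Submodule.mem_bot] at hj
    rw [hj, mul_zero]
  have hfin := hmain n
  rw [hI] at hfin
  exact hfin (hx.trans (map_zero _).symm)

end Groth.Agent.S2574
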