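import Groth.Statements.S2579
import Groth.Agent.FibConstr.Eventual
-- import your own Groth.Agent.* helpers here

set_option autoImplicit false
universe u
open CategoryTheory AlgebraicGeometry
open EGA43

namespace Groth.Agent.S2579

/-- Let S = lim S_i be a cofiltered limit of schemes with affine transition morphisms, S_{i₀} a
quasi-compact quasi-separated stage (the source needs S_{i₀} only quasi-compact; quasi-separatedness
is assumed here), f₀ : X₀ ⟶ Y₀ an S_{i₀}-morphism between schemes of finite presentation over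
S_{i₀}, and f : X ⟶ Y its base change to S (base changes expressed by pullback squares). If f is a
monomorphism, then the base change f_i : X_i ⟶ Y_i of f₀ to some stage S_i is a monomorphism. -/
theorem result {I : Type u} [SmallCategory I] [IsCofiltered I]
    (D : I ⥤ Scheme.{u}) (c : Limits.Cone D) (hc : Limits.IsLimit c)
    [∀ (i j : I) (f : i ⟶ j), IsAffineHom (D.map f)] (i₀ : I) [CompactSpace (D.obj i₀)]
    [QuasiSeparatedSpace (D.obj i₀)] {X₀ Y₀ : Scheme.{u}} (f₀ : X₀ ⟶ Y₀) (g₀ : Y₀ ⟶ D.obj i₀)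
    [LocallyOfFinitePresentation g₀] [QuasiCompact g₀] [QuasiSeparated g₀]
    [LocallyOfFinitePresentation (f₀ ≫ g₀)] [QuasiCompact (f₀ ≫ g₀)] [QuasiSeparated (f₀ ≫ g₀)]
    {X Y : Scheme.{u}} (f : X ⟶ Y) (g : Y ⟶ c.pt) (qY : Y ⟶ Y₀) (qX : X ⟶ X₀)
    (hY : IsPullback qY g g₀ (c.π.app i₀)) (hX : IsPullback qX f f₀ qY) [Mono f] :
    ∃ (i : I) (φ : i ⟶ i₀) (Xi Yi : Scheme.{u}) (fi : Xi ⟶ Yi) (gi : Yi ⟶ D.obj i) (pY : Yi ⟶ Y₀)
      (pX : Xi ⟶ X₀), IsPullback pY gi g₀ (D.map φ) ∧ IsPullback pX fi f₀ pY ∧ Mono fi := by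
  obtain ⟨hcs, hlc⟩ := FibConstr.lcClosed_compl_range_diagonal f₀ g₀
  haveI : LocallyOfFiniteType f₀ := locallyOfFiniteType_of_comp f₀ g₀
  haveI : LocallyOfFiniteType f := MorphismProperty.of_isPullback hX inferInstance
  obtain ⟨hUI, hFU⟩ := (FibConstr.mono_iff_universallyInjective_formallyUnramified f).1 inferInstance
  have hopen := Groth.FibrewiseCrit.isOpen_fuLocus f₀
  have hlc' : Groth.Agent.LimLib.LCClosed
      ((Set.range (Limits.pullback.diagonal f₀))ᶜ ∪ Limits.pullback.fst f₀ f₀ ⁻¹' (Groth.FibrewiseCrit.fuLocus f₀)ᶜ) := by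
    haveI : QuasiSeparated f₀ := QuasiSeparated.of_comp f₀ g₀
    haveI : QuasiCompact f₀ := QuasiCompact.of_comp f₀ g₀
    haveI : QuasiSeparatedSpace (Limits.pullback f₀ f₀ : Scheme.{u}) :=
      quasiSeparatedSpace_of_quasiSeparated (Limits.pullback.fst f₀ f₀ ≫ f₀ ≫ g₀)
    haveI : LocallyOfFinitePresentation f₀ :=
      Groth.FibrewiseCrit.locallyOfFinitePresentation_of_comp f₀ g₀ inferInstance inferInstance
    haveI : LocallyOfFinitePresentation (Limits.pullback.diagonal f₀) :=
      Groth.FibrewiseCrit.locallyOfFinitePresentation_of_comp _ (Limits.pullback.fst f₀ f₀)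
        (by rw [Limits.pullback.diagonal_fst]; infer_instance) inferInstance
    haveI : QuasiSeparatedSpace X₀ := quasiSeparatedSpace_of_quasiSeparated (f₀ ≫ g₀)
    refine fun U hU => ?_
    rw [Set.preimage_union]
    exact @IsClosed.union _ _ _ (constructibleTopology _) (hlc U hU) (Groth.Agent.LimLib.lcClosed_of_isClosed (hopen.isClosed_compl.preimage
      (Limits.pullback.fst f₀ f₀).continuous) U hU)
  obtain ⟨i, φ, hi⟩ := FibConstr.exists_stage_diagonal hc hY hX hlc' (fun w hw => by
    rcases hw with hw | hw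
    · exact hw ((FibConstr.universallyInjective_iff_forall hX).1 hUI w)
    · refine hw ?_
      rw [← Scheme.Hom.comp_apply, Limits.pullback.lift_fst, Scheme.Hom.comp_apply]
      exact (Groth.FibrewiseCrit.mem_fuLocus_of_isPullback hX _).1
        ((Groth.FibrewiseCrit.formallyUnramified_iff_forall_mem_fuLocus f).1 hFU _))
  refine ⟨i, φ, _, _, _, _, _, _, IsPullback.of_hasPullback g₀ (D.map φ), IsPullback.of_hasPullback f₀ _,
    (FibConstr.mono_iff_universallyInjective_formallyUnramified _).2 ⟨?_, ?_⟩⟩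
  · exact (FibConstr.universallyInjective_iff_forall (IsPullback.of_hasPullback f₀ _)).2
      fun w => by_contra fun hw => hi w (Or.inl hw)
  · refine (Groth.FibrewiseCrit.formallyUnramified_iff_forall_mem_fuLocus _).2 fun x => ?_
    refine (Groth.FibrewiseCrit.mem_fuLocus_of_isPullback (IsPullback.of_hasPullback f₀ _) x).2 (by_contra fun hx => ?_)
    refine hi ((Limits.pullback.diagonal (Limits.pullback.snd f₀ (Limits.pullback.fst g₀ (D.map φ)))) x) (Or.inr ?_)
    rw [Set.mem_preimage, ← Scheme.Hom.comp_apply, Limits.pullback.lift_fst, ← Scheme.Hom.comp_apply,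
      Limits.pullback.diagonal_fst_assoc]
    exact hx

end Groth.Agent.S2579
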