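import Groth.Statements.S2581
import Groth.Agent.FibConstr.Eventual
-- import your own Groth.Agent.* helpers here

set_option autoImplicit false
universe u
open CategoryTheory AlgebraicGeometry
open EGA43

namespace Groth.Agent.S2581

/-- Let S = lim S_i be a cofiltered limit of schemes with affine transition morphisms, S_{i₀} a
quasi-compact quasi-separated stage (the source needs S_{i₀} only quasi-compact; quasi-separatedness
is assumed here), f₀ : X₀ ⟶ Y₀ an S_{i₀}-morphism between schemes of finite presentation over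
S_{i₀}, and f : X ⟶ Y its base change to S (base changes expressed by pullback squares). If f is
surjective, then the base change f_i : X_i ⟶ Y_i of f₀ to some stage S_i is surjective. -/
theorem result {I : Type u} [SmallCategory I] [IsCofiltered I]
    (D : I ⥤ Scheme.{u}) (c : Limits.Cone D) (hc : Limits.IsLimit c)
    [∀ (i j : I) (f : i ⟶ j), IsAffineHom (D.map f)] (i₀ : I) [CompactSpace (D.obj i₀)]
    [QuasiSeparatedSpace (D.obj i₀)] {X₀ Y₀ : Scheme.{u}} (f₀ : X₀ ⟶ Y₀) (g₀ : Y₀ ⟶ D.obj i₀)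
    [LocallyOfFinitePresentation g₀] [QuasiCompact g₀] [QuasiSeparated g₀]
    [LocallyOfFinitePresentation (f₀ ≫ g₀)] [QuasiCompact (f₀ ≫ g₀)] [QuasiSeparated (f₀ ≫ g₀)]
    {X Y : Scheme.{u}} (f : X ⟶ Y) (g : Y ⟶ c.pt) (qY : Y ⟶ Y₀) (qX : X ⟶ X₀)
    (hY : IsPullback qY g g₀ (c.π.app i₀)) (hX : IsPullback qX f f₀ qY) [Surjective f] :
    ∃ (i : I) (φ : i ⟶ i₀) (Xi Yi : Scheme.{u}) (fi : Xi ⟶ Yi) (gi : Yi ⟶ D.obj i) (pY : Yi ⟶ Y₀)
      (pX : Xi ⟶ X₀), IsPullback pY gi g₀ (D.map φ) ∧ IsPullback pX fi f₀ pY ∧ Surjective fi := by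
  haveI : LocallyOfFinitePresentation f₀ :=
    Groth.FibrewiseCrit.locallyOfFinitePresentation_of_comp f₀ g₀ inferInstance inferInstance
  haveI : QuasiCompact f₀ := QuasiCompact.of_comp f₀ g₀
  haveI : CompactSpace Y₀ := QuasiCompact.compactSpace_of_compactSpace g₀
  haveI : QuasiSeparatedSpace Y₀ := quasiSeparatedSpace_of_quasiSeparated g₀
  have hC : Groth.Agent.LimLib.LCClosed (Set.range f₀)ᶜ := by
    refine Groth.Agent.LimLib.lcClosed_of_isConstructible (Topology.IsConstructible.compl ?_)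
    rw [← Set.image_univ]
    exact (f₀.isLocallyConstructible_image Topology.IsLocallyConstructible.univ).isConstructible
  obtain ⟨i, φ, hi⟩ := FibConstr.exists_stage_forall_notMem hc g₀ hC (fun t ht => by
    obtain ⟨y, hy, -⟩ := Scheme.exists_preimage_of_isPullback hY (Limits.pullback.snd _ g₀ t)
      (Limits.pullback.fst _ g₀ t) (by rw [← Scheme.Hom.comp_apply, ← Scheme.Hom.comp_apply, Limits.pullback.condition])
    obtain ⟨x, rfl⟩ := f.surjective y
    refine ht ⟨qX x, ?_⟩
    rw [← hy, ← Scheme.Hom.comp_apply, ← Scheme.Hom.comp_apply, hX.w])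
  refine ⟨i, φ, _, _, _, _, _, _, (IsPullback.of_hasPullback (D.map φ) g₀).flip, IsPullback.of_hasPullback f₀ _,
    ⟨fun y => ?_⟩⟩
  obtain ⟨x, hx⟩ := not_not.1 (hi y)
  obtain ⟨p, -, hp⟩ := Scheme.Pullback.exists_preimage_pullback (f := f₀) (g := Limits.pullback.snd (D.map φ) g₀) x y hx
  exact ⟨p, hp⟩

end Groth.Agent.S2581
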