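import Groth.Statements.S2593
import Groth.Agent.GeomUnib.Affine
import Groth.Agent.GeomUnib.Equidim
-- import your own Groth.Agent.* helpers here

set_option autoImplicit false
open CategoryTheory AlgebraicGeometry
universe u
open EGA43

namespace Groth.Agent.S2593

/-- Chevalley's criterion for universal openness: let Y be a locally Noetherian scheme all of whose
local rings are geometrically unibranch and f : X ⟶ Y a morphism locally of finite type which is
equidimensional at every point of X. Then f is universally open. (The published statement has an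
arbitrary base; a locally Noetherian base is assumed here, and without it the statement fails, e.g.
for the inclusion of a non-open closed point of the spectrum of an infinite product of copies of
𝔽₂.) -/
theorem result {X Y : Scheme.{u}} [IsLocallyNoetherian Y]
    (hY : ∀ y : Y, CAlg2.IsGeomUnibranch (Y.presheaf.stalk y)) (f : X ⟶ Y) [LocallyOfFiniteType f]
    (h : ∀ x : X, EGA43.IsEquidimAt f x) : UniversallyOpen f := by
  refine Groth.Agent.GeomUnib.universallyOpen_of_forall f fun x => ?_
  obtain ⟨e, U, hxU, hcomp, hdim⟩ := h x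
  let x' : ↥U.toScheme := ⟨x, hxU⟩
  refine Groth.Agent.OpenAt.isUnivOpenAt_of_comp (f := U.ι) (x := x') ?_
  obtain ⟨W, hW, hxW, hWeq⟩ := hcomp _ (irreducibleComponent_mem_irreducibleComponents x')
  obtain ⟨x₀, hx₀⟩ := QuasiSober.sober (isIrreducible_irreducibleComponent (x := x'))
    isClosed_irreducibleComponent
  have hgen : IsGenericPoint ((U.ι ≫ f).base x₀) W := by
    have := hx₀.image (U.ι ≫ f).continuous
    rwa [hWeq] at this
  obtain ⟨U₀, hU₀, hU₀'⟩ := Groth.Agent.GeomUnib.exists_opens_subset_closure ((U.ι ≫ f).base x')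
    ((U.ι ≫ f).base x₀) (hgen.specializes hxW)
    (fun η' h => Groth.Agent.GeomUnib.maximal_of_component _ W hW hgen η' h) (hY _).1.1
  refine Groth.Agent.GeomUnib.isUnivOpenAt_of_fdim (U.ι ≫ f) x' x₀
    (hx₀.specializes mem_irreducibleComponent) U₀ hU₀ hU₀' ?_ (hY _)
  rw [← Groth.Agent.FibreDim.fibreDimAt_of_maximal (U.ι ≫ f) x₀ ?_,
    Groth.Agent.FibreDim.fibreDimAt_eq_of_components (U.ι ≫ f) (e : WithBot ℕ∞) x₀ (hdim x₀),
    Groth.Agent.FibreDim.fibreDimAt_eq_of_components (U.ι ≫ f) (e : WithBot ℕ∞) x' (hdim x')]
  intro z hz hzx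
  have hsub : irreducibleComponent x' ⊆ closure {z} := hx₀.def.symm.le.trans
    (closure_minimal (Set.singleton_subset_iff.2 hzx) isClosed_closure)
  have := (irreducibleComponent_mem_irreducibleComponents x').2 isIrreducible_singleton.closure hsub
  exact ((hx₀.specializes (this (subset_closure rfl))).antisymm
    (specializes_iff_mem_closure.2 hzx)).eq.symm

end Groth.Agent.S2593
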