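import Groth.Statements.S2594
import Groth.Agent.GeomUnib.FlatBC
-- import your own Groth.Agent.* helpers here

set_option autoImplicit false
open CategoryTheory AlgebraicGeometry
universe u
open EGA43

namespace Groth.Agent.S2594

open CategoryTheory.Limits in
/-- Let f : X ⟶ Y be locally of finite type and equidimensional at a point x, and g : Y' ⟶ Y a flat
morphism with Y' locally Noetherian (the source states this for arbitrary Y', but its proof reduces
to the case where every irreducible component passes through the point, which needs the irreducible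
components to be locally finite). Then the base change X ×_Y Y' ⟶ Y' is equidimensional at every
point lying over x. -/
theorem result {X Y Y' : Scheme.{u}} (f : X ⟶ Y) [LocallyOfFiniteType f] (g : Y' ⟶ Y) [Flat g] [IsLocallyNoetherian Y']
    (x : X) (h : EGA43.IsEquidimAt f x) (x' : ↥(pullback f g)) (hx' : (pullback.fst f g).base x' = x) :
    EGA43.IsEquidimAt (pullback.snd f g) x' := by
  obtain ⟨e, U, hxU, hcomp, hdim⟩ := h
  obtain ⟨V, hyV, -, hV⟩ := GeomUnib.exists_nhds_fdim_le (𝟙 Y') ((pullback.snd f g).base x')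
  have hxy : g.base ((pullback.snd f g).base x') = f.base x := by
    rw [← hx', ← Scheme.Hom.comp_apply, ← Scheme.Hom.comp_apply, pullback.condition]
  let U' : (pullback f g).Opens := pullback.fst f g ⁻¹ᵁ U ⊓ pullback.snd f g ⁻¹ᵁ V
  haveI : QuasiSober ↥(U' : Set ↥(pullback f g)) := U'.2.isOpenEmbedding_subtypeVal.quasiSober
  refine ⟨e, U', ⟨show (pullback.fst f g).base x' ∈ U from hx'.symm ▸ hxU, hyV⟩, fun Z hZ => ?_,
    fun a C hC => ?_⟩
  · obtain ⟨z₀, hz₀⟩ := QuasiSober.sober hZ.1 (isClosed_of_mem_irreducibleComponents _ hZ)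
    have hmax : ∀ b : ↥(pullback f g), b ⤳ U'.ι.base z₀ → b = U'.ι.base z₀ := fun b hb => by
      refine (hb.antisymm ?_).eq
      exact (GeomUnib.maximal_of_component (Y := U'.toScheme) z₀ Z hZ hz₀ ⟨b, hb.mem_open U'.2 z₀.2⟩
        (U'.ι.isOpenEmbedding.toIsInducing.specializes_iff.1 hb)).map U'.ι.continuous
    have hzmax := GeomUnib.maximal_map (pullback.fst f g) hmax
    obtain ⟨hzU, hzV⟩ : (pullback.fst f g).base (U'.ι.base z₀) ∈ U ∧
        (pullback.snd f g).base (U'.ι.base z₀) ∈ V := z₀.2
    let z₁ : ↥U.toScheme := ⟨_, hzU⟩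
    haveI : QuasiSober ↥(U : Set X) := U.2.isOpenEmbedding_subtypeVal.quasiSober
    obtain ⟨c, hc⟩ := QuasiSober.sober (isIrreducible_irreducibleComponent (x := z₁))
      isClosed_irreducibleComponent
    obtain rfl : c = z₁ := U.ι.isOpenEmbedding.injective
      (hzmax _ ((hc.specializes mem_irreducibleComponent).map U.ι.continuous))
    obtain ⟨W, hW, -, hWeq⟩ := hcomp _ (irreducibleComponent_mem_irreducibleComponents z₁)
    have hgen : IsGenericPoint (f.base ((pullback.fst f g).base (U'.ι.base z₀))) W := by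
      have := hc.image (U.ι ≫ f).continuous
      rw [hWeq] at this
      exact this
    have hymax := GeomUnib.maximal_snd f g _ hmax fun b hb =>
      (hb.antisymm (GeomUnib.maximal_of_component _ W hW hgen b hb)).eq
    have hy'' : (pullback.snd f g).base (U'.ι.base z₀) ⤳ (pullback.snd f g).base x' :=
      hV _ hzV fun b hb => by rw [hymax b hb]
    refine ⟨closure {(pullback.snd f g).base (U'.ι.base z₀)}, ⟨isIrreducible_singleton.closure,
      fun S hS hle => ?_⟩, hy''.mem_closure, (hz₀.image (U'.ι ≫ pullback.snd f g).continuous).def.symm⟩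
    obtain ⟨s, hs⟩ := QuasiSober.sober hS.closure isClosed_closure
    have := hymax s (hs.specializes (subset_closure (hle (subset_closure rfl))))
    rw [← this, hs.def]
    exact subset_closure
  · obtain ⟨c, hc⟩ := QuasiSober.sober hC.1 (isClosed_of_mem_irreducibleComponents _ hC)
    rw [← hc.def, FibreDim.dim_closure_fibre, GeomUnib.fdim_opens]
    have hcy : (pullback.snd f g).base (U'.ι.base (((U'.ι ≫ pullback.snd f g).fiberι _).base c)) =
        (U'.ι ≫ pullback.snd f g).base a := by
      have : ((U'.ι ≫ pullback.snd f g).fiberι _).base c ∈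
        Set.range ((U'.ι ≫ pullback.snd f g).fiberι ((U'.ι ≫ pullback.snd f g).base a)) := ⟨c, rfl⟩
      rwa [(U'.ι ≫ pullback.snd f g).range_fiberι] at this
    obtain ⟨hm, hd⟩ := GeomUnib.fdim_fst_of_maximal f g
      (U'.ι.base (((U'.ι ≫ pullback.snd f g).fiberι _).base c)) fun b hb hbm => by
        let b₀ : ↥U'.toScheme := ⟨b, hbm.mem_open U'.2 (((U'.ι ≫ pullback.snd f g).fiberι _).base c).2⟩
        obtain ⟨d, hd⟩ : b₀ ∈ Set.range ((U'.ι ≫ pullback.snd f g).fiberι ((U'.ι ≫ pullback.snd f g).base a)) := by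
          rw [(U'.ι ≫ pullback.snd f g).range_fiberι]; exact hb.trans hcy
        have hdc : d ⤳ c := by
          refine ((U'.ι ≫ pullback.snd f g).fiberι _).isEmbedding.toIsInducing.specializes_iff.1 ?_
          rw [hd]
          exact U'.ι.isOpenEmbedding.toIsInducing.specializes_iff.1 hbm
        have hsub : C ⊆ closure {d} := hc.def.symm.le.trans
          (closure_minimal (Set.singleton_subset_iff.2 hdc.mem_closure) isClosed_closure)
        have hcd : c ⤳ d := hc.specializes (hC.2 isIrreducible_singleton.closure hsub (subset_closure rfl))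
        rw [(hcd.antisymm hdc).eq, hd]
        rfl
    rw [hd]
    obtain ⟨hmU, -⟩ : (pullback.fst f g).base (U'.ι.base (((U'.ι ≫ pullback.snd f g).fiberι _).base c)) ∈ U ∧
        _ := (((U'.ι ≫ pullback.snd f g).fiberι _).base c).2
    let u : ↥U.toScheme := ⟨_, hmU⟩
    obtain ⟨C', hC', m₀, hm₀, hm₀u, hdC⟩ := FibreDim.exists_component_gen (U.ι ≫ f) u
    obtain rfl : m₀ = u := U.ι.isOpenEmbedding.injective (hm _ hm₀ (hm₀u.map U.ι.continuous))
    rw [GeomUnib.fdim_opens, hdim _ C' hC'] at hdC
    exact hdC

end Groth.Agent.S2594
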