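import Groth.Statements.S3386
import Groth.Agent.GeomUnib.AffineSpaceChart
-- import your own Groth.Agent.* helpers here

set_option autoImplicit false
open CategoryTheory AlgebraicGeometry
universe u
open EGA43

namespace Groth.Agent.S3386

open CategoryTheory.Limits in
/-- Conditions a) and b): let f : X ⟶ Y be locally of finite type and fix a point x of X. Condition a)
is equidimensionality of f at x (the definition used here); condition b): there are a natural number
e, an open neighbourhood U of x and a Y-morphism g from U to the affine space of dimension e over Y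
which is locally quasi-finite and sends the generic point of every irreducible component of U to the
generic point of an irreducible component of the affine space. Then a) implies b); and b) implies a)
when Y is locally Noetherian. (The source states the equivalence over an arbitrary base; the
implication b) ⟹ a) uses that irreducible components are locally finite and fails without some such
hypothesis.) -/
theorem result {X Y : Scheme.{u}}
    (f : X ⟶ Y) [LocallyOfFiniteType f] (x : X) :
    (EGA43.IsEquidimAt f x → (∃ (e : ℕ) (U : X.Opens) (g : (U : Scheme.{u}) ⟶ 𝔸(ULift.{u} (Fin e); Y)),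
        x ∈ U ∧ g ≫ (𝔸(ULift.{u} (Fin e); Y) ↘ Y) = U.ι ≫ f ∧ LocallyQuasiFinite g ∧
        ∀ Z ∈ irreducibleComponents (↥U : Type u),
          closure (g.base '' Z) ∈ irreducibleComponents (↥𝔸(ULift.{u} (Fin e); Y) : Type u))) ∧
    (IsLocallyNoetherian Y → (∃ (e : ℕ) (U : X.Opens) (g : (U : Scheme.{u}) ⟶ 𝔸(ULift.{u} (Fin e); Y)),
        x ∈ U ∧ g ≫ (𝔸(ULift.{u} (Fin e); Y) ↘ Y) = U.ι ≫ f ∧ LocallyQuasiFinite g ∧
        ∀ Z ∈ irreducibleComponents (↥U : Type u),
          closure (g.base '' Z) ∈ irreducibleComponents (↥𝔸(ULift.{u} (Fin e); Y) : Type u)) → EGA43.IsEquidimAt f x) := by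
  classical
  have closure_mem : ∀ {T : Scheme.{u}} (t : T), (∀ b : T, b ⤳ t → t ⤳ b) →
      closure ({t} : Set T) ∈ irreducibleComponents (T : Type u) := fun {T} t ht => by
    refine ⟨isIrreducible_singleton.closure, fun S hS hle => ?_⟩
    obtain ⟨s, hs⟩ := QuasiSober.sober hS.closure isClosed_closure
    have := ht s (hs.specializes (subset_closure (hle (subset_closure rfl))))
    exact subset_closure.trans (hs.def.symm.le.trans
      (closure_minimal (Set.singleton_subset_iff.2 this.mem_closure) isClosed_closure))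
  constructor
  · intro hf
    obtain ⟨e, Ue, hxUe, he, hcomp, -⟩ := GeomUnib.exists_equidim_data' f hf
    obtain ⟨W, hW, V, hV, hVW, hxV, -, n, φ, hn, hqf⟩ := FibreDim.exists_chart f x ⊤ trivial
    obtain rfl : n = e := by exact_mod_cast hn.symm.trans he
    letI := (f.appLE W V hVW).hom.toAlgebra
    let ψ := CommRingCat.ofHom φ.toRingHom
    let h := Spec.map ψ ≫ GeomUnib.jA n hW
    have hover : h ≫ (𝔸(ULift.{u} (Fin n); Y) ↘ Y) = hV.fromSpec ≫ f := by
      rw [Category.assoc, GeomUnib.jA_over, ← Category.assoc, ← Spec.map_comp,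
        ← IsAffineOpen.SpecMap_appLE_fromSpec f hW hV hVW]
      congr 2
      ext a
      exact φ.commutes a
    haveI : LocallyOfFiniteType (h ≫ (𝔸(ULift.{u} (Fin n); Y) ↘ Y)) := by rw [hover]; infer_instance
    haveI : LocallyOfFiniteType h := locallyOfFiniteType_of_comp h (𝔸(ULift.{u} (Fin n); Y) ↘ Y)
    let O := h.quasiFiniteLocus ⊓ hV.fromSpec ⁻¹ᵁ Ue
    let U := hV.fromSpec ''ᵁ O
    let g := (hV.fromSpec.isoImage O).inv ≫ O.ι ≫ h
    haveI : LocallyQuasiFinite (O.ι ≫ h) := by
      rw [show O.ι = Scheme.homOfLE _ (inf_le_left : O ≤ h.quasiFiniteLocus) ≫ h.quasiFiniteLocus.ι from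
        (Scheme.homOfLE_ι _ _).symm, Category.assoc]
      infer_instance
    refine ⟨n, U, g, ?_, ?_, inferInstance, fun Z hZ => ?_⟩
    · refine ⟨hV.primeIdealOf ⟨x, hxV⟩, ⟨?_, ?_⟩, hV.fromSpec_primeIdealOf ⟨x, hxV⟩⟩
      · show h.QuasiFiniteAt _
        rw [Scheme.Hom.quasiFiniteAt_comp_iff]
        exact (GeomUnib.quasiFiniteAt_Spec_iff ψ _).2 hqf
      · show hV.fromSpec (hV.primeIdealOf ⟨x, hxV⟩) ∈ Ue
        rw [hV.fromSpec_primeIdealOf]; exact hxUe
    · simp only [g, Category.assoc, hover]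
      rw [Scheme.Hom.isoImage_inv_ι_assoc]
    · haveI : QuasiSober ↥(U : Set X) := U.2.isOpenEmbedding_subtypeVal.quasiSober
      obtain ⟨c, hc⟩ := QuasiSober.sober hZ.1 (isClosed_of_mem_irreducibleComponents _ hZ)
      obtain ⟨q, hq⟩ : ∃ q, O.ι ((hV.fromSpec.isoImage O).inv c) = q := ⟨_, rfl⟩
      have hqc : hV.fromSpec q = U.ι c := by
        rw [← hq, ← Scheme.Hom.comp_apply, ← Scheme.Hom.comp_apply, Scheme.Hom.isoImage_inv_ι]
      have hqO : q ∈ O := by rw [← hq]; exact ((hV.fromSpec.isoImage O).inv c).2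
      have hmax : ∀ b : X, b ⤳ U.ι c → U.ι c ⤳ b := fun b hb =>
        (GeomUnib.maximal_of_component (Y := U.toScheme) c Z hZ hc ⟨b, hb.mem_open U.2 c.2⟩
          (U.ι.isOpenEmbedding.toIsInducing.specializes_iff.1 hb)).map U.ι.continuous
      obtain ⟨hd, hy, -⟩ := hcomp _ (hqc ▸ hqO.2) hmax
      have hqfq : FibreDim.IsQFAt φ (q : PrimeSpectrum Γ(X, V)).asIdeal :=
        (GeomUnib.quasiFiniteAt_Spec_iff ψ q).1 (Scheme.Hom.quasiFiniteAt_comp_iff.1 hqO.1)
      have hm := (GeomUnib.maximal_chart_iff f hW hV hVW φ q hqfq).2 (by rw [hqc]; exact ⟨hd, hy⟩)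
      have hgc : g.base c = (GeomUnib.jA n hW).base (PrimeSpectrum.comap φ.toRingHom q) := by
        simp only [g, h, Scheme.Hom.comp_apply]
        rw [hq]
        rfl
      have hd' := (hc.image g.continuous).def
      rw [hgc] at hd'
      exact hd' ▸ closure_mem _ hm
  · intro hY
    rintro ⟨n, U, g, hxU, hg, hlqf, hcomp⟩
    obtain ⟨N, hxN, -, hN⟩ := GeomUnib.exists_nhds_fdim_le (U.ι ≫ f) ⟨x, hxU⟩
    let U' := U.ι ''ᵁ N
    have hz : ∀ z ∈ U', (∀ b : X, b ⤳ z → z ⤳ b) →
        FibreDim.fdim f z = n ∧ (∀ b : Y, b ⤳ f.base z → f.base z ⤳ b) ∧ z ⤳ x := by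
      rintro _ ⟨z, hzN, rfl⟩ hmax
      have hmax' : ∀ b : U.toScheme, b ⤳ z → z ⤳ b := fun b hb =>
        U.ι.isOpenEmbedding.toIsInducing.specializes_iff.1 (hmax _ (hb.map U.ι.continuous))
      haveI : QuasiSober ↥(U : Set X) := U.2.isOpenEmbedding_subtypeVal.quasiSober
      obtain ⟨c, hc⟩ := QuasiSober.sober (isIrreducible_irreducibleComponent (x := z))
        isClosed_irreducibleComponent
      obtain rfl : c = z := ((hc.specializes mem_irreducibleComponent).antisymm
        (hmax' c (hc.specializes mem_irreducibleComponent))).eq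
      have hga := hcomp _ (irreducibleComponent_mem_irreducibleComponents c)
      have hgmax := fun b hb => GeomUnib.maximal_of_component (g.base c) _ hga (hc.image g.continuous) b hb
      obtain ⟨W, hW, V, hV, hVW, hcV, φ, hφ, hqf⟩ := GeomUnib.exists_chart_toAffineSpace (U.ι ≫ f) g hg c
      letI := ((U.ι ≫ f).appLE W V hVW).hom.toAlgebra
      have he : g.base c = (GeomUnib.jA n hW).base (PrimeSpectrum.comap φ.toRingHom (hV.primeIdealOf ⟨c, hcV⟩)) := by
        have := congrArg (fun k => k.base (hV.primeIdealOf ⟨c, hcV⟩)) hφ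
        simp only [Scheme.Hom.comp_apply] at this
        rw [hV.fromSpec_primeIdealOf] at this
        exact this
      obtain ⟨h1, h2⟩ := (GeomUnib.maximal_chart_iff (U.ι ≫ f) hW hV hVW φ _ (hqf _)).1 (by rw [← he]; exact hgmax)
      rw [hV.fromSpec_primeIdealOf] at h1 h2
      rw [GeomUnib.fdim_opens] at h1
      exact ⟨h1, h2, (hN c hzN hmax').map U.ι.continuous⟩
    haveI : QuasiSober ↥(U' : Set X) := U'.2.isOpenEmbedding_subtypeVal.quasiSober
    refine ⟨n, U', ⟨⟨x, hxU⟩, hxN, rfl⟩, fun Z hZ => ?_, fun x' C hC => ?_⟩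
    · obtain ⟨c, hc⟩ := QuasiSober.sober hZ.1 (isClosed_of_mem_irreducibleComponents _ hZ)
      obtain ⟨-, h2, h3⟩ := hz (U'.ι c) c.2 fun b hb =>
        (GeomUnib.maximal_of_component (Y := U'.toScheme) c Z hZ hc ⟨b, hb.mem_open U'.2 c.2⟩
          (U'.ι.isOpenEmbedding.toIsInducing.specializes_iff.1 hb)).map U'.ι.continuous
      exact ⟨_, closure_mem _ h2, (h3.map f.continuous).mem_closure,
        (hc.image (U'.ι ≫ f).continuous).def.symm⟩
    · obtain ⟨m, hmU, -, hmC, hmax⟩ := GeomUnib.exists_maximal_of_component f U' _ hC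
      rw [hmC]
      obtain ⟨m₀, hm₀, rfl⟩ := hmU
      refine le_antisymm ?_ ?_
      · obtain ⟨W, hW, V, hV, hVW, hmV, φ, -, hqf⟩ := GeomUnib.exists_chart_toAffineSpace (U.ι ≫ f) g hg m₀
        exact (GeomUnib.fdim_opens f U m₀).symm.trans_le (FibreDim.fdim_chart (U.ι ≫ f) hW hV hVW m₀ hmV φ (hqf _)).1
      · obtain ⟨z, hz'⟩ := QuasiSober.sober (isIrreducible_irreducibleComponent (x := U.ι m₀))
          isClosed_irreducibleComponent
        have hzm := hz'.specializes mem_irreducibleComponent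
        obtain ⟨h1, -, -⟩ := hz z (hzm.mem_open U'.2 ⟨m₀, hm₀, rfl⟩) fun b hb =>
          GeomUnib.maximal_of_component z _ (irreducibleComponent_mem_irreducibleComponents _) hz' b hb
        rw [← h1, ← FibreDim.fibreDimAt_of_maximal f _ hmax]
        exact FibreDim.fdim_le_fibreDimAt f hzm

end Groth.Agent.S3386
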