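import Groth.Statements.S2595
import Groth.Agent.S3386
import Groth.Agent.FlatDescent.CM.Main
import Groth.Agent.FibDim.MaxPoints
-- import your own Groth.Agent.* helpers here

set_option autoImplicit false
open CategoryTheory AlgebraicGeometry
universe u
open EGA43

namespace Groth.Agent.S2595

/-- Let Y be locally Noetherian, f : X ⟶ Y locally of finite type and x a point of X. If O_{Y,f x} ⟶
O_{X,x} is flat and the local ring at x of the fibre through x is Cohen–Macaulay, then f is
equidimensional at x. -/
theorem result {X Y : Scheme.{u}} [IsLocallyNoetherian Y] (f : X ⟶ Y)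
    [LocallyOfFiniteType f] (x : X) (hflat : (f.stalkMap x).hom.Flat)
    (hCM : LocCoh.IsCohenMacaulayLocalRing ((f.fiber (f.base x)).presheaf.stalk (f.asFiber x))) :
    EGA43.IsEquidimAt f x := by
  obtain ⟨n, U, hxU, g, hg, hgf, hgq⟩ :=
    Groth.FlatDescent.CM.exists_toAffineSpace_of_isCMAt f x ⟨hflat, hCM⟩
  refine (Groth.Agent.S3386.result f x).2 inferInstance ⟨n, U, g, hxU, hg, hgq, fun Z hZ => ?_⟩
  obtain ⟨η, hη, hmax⟩ := Groth.Agent.FibDim.exists_isMax'_component (Z := (U : Scheme.{u})) hZ
  have h : closure (g.base '' Z) = closure {g η} := by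
    rw [← hη, closure_image_closure g.continuous, Set.image_singleton]
  rw [h]
  exact Groth.Agent.FibDim.closure_mem_components (Groth.Agent.FibDim.isMax'_map g hmax)

end Groth.Agent.S2595
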