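import Groth.Statements.S2910
import Mathlib
import Groth.Agent.SGA1QuotLib.Galois
-- import your own Groth.Agent.* helpers here

set_option autoImplicit false
open CategoryTheory CategoryTheory.Limits AlgebraicGeometry
universe u
open SGA1

namespace Groth.Agent.S2910

/-- Let a finite group G act faithfully on a connected scheme X, let p : X ⟶ Y be a quotient of X by G
with Y locally Noetherian and p finite, and suppose p is etale. Then G acts freely on the geometric
points of X (all inertia groups are trivial), and every automorphism of X over Y is the action of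
exactly one element of G. -/
theorem result {X Y : Scheme.{u}} {G : Type u} [Group G] [Finite G] (ρ : G →* Aut X)
    (p : X ⟶ Y) (hp : SGA1.IsQuot ρ p) [IsLocallyNoetherian Y] [IsFinite p] [ConnectedSpace X]
    (hfaith : Function.Injective ρ) [Etale p] :
    (∀ (K : Type u) [Field K] [IsAlgClosed K] (ξ : Spec (CommRingCat.of K) ⟶ X) (g : G), ξ ≫ (ρ g).hom = ξ → g = 1) ∧
    ∀ u : Aut X, u.hom ≫ p = p → ∃! g : G, ρ g = u := by
  have hfree : ∀ (K : Type u) [Field K] [IsAlgClosed K] (ξ : Spec (CommRingCat.of K) ⟶ X) (g : G),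
      ξ ≫ (ρ g).hom = ξ → g = 1 := by
    intro K _ _ ξ g hg
    refine hfaith ?_
    rw [map_one]
    apply Iso.ext
    exact Groth.Agent.SGA1QuotLib.eq_of_agree p (ρ g).hom (𝟙 X)
      (by rw [hp.inv, Category.id_comp]) ξ (by rw [hg, Category.comp_id])
  refine ⟨hfree, fun u hu => ?_⟩
  obtain ⟨x⟩ := (inferInstance : Nonempty X)
  let K := AlgebraicClosure (X.residueField x)
  let ξ : Spec (CommRingCat.of K) ⟶ X :=
    Spec.map (CommRingCat.ofHom (algebraMap (X.residueField x) K)) ≫ X.fromSpecResidueField x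
  obtain ⟨g, hg⟩ := Groth.Agent.SGA1QuotLib.exists_geom hp hfree ξ (ξ ≫ u.hom)
    ((congrArg (ξ ≫ ·) hu).symm.trans (Category.assoc _ _ _).symm)
  refine ⟨g, ?_, fun g' hg' => ?_⟩
  · apply Iso.ext
    exact Groth.Agent.SGA1QuotLib.eq_of_agree p (ρ g).hom u.hom (by rw [hp.inv, hu]) ξ hg
  · refine hfaith (hg'.trans ?_)
    apply Iso.ext
    exact (Groth.Agent.SGA1QuotLib.eq_of_agree p (ρ g).hom u.hom (by rw [hp.inv, hu]) ξ hg).symm

end Groth.Agent.S2910
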