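import Groth.Statements.S2911
import Mathlib
import Groth.Agent.SGA1QuotLib.Basic
import Groth.Agent.SGA1QuotLib.Finite
import Groth.Agent.SGA1QuotLib.GaloisInertia
import Groth.Agent.SourceDescent.Basic
-- import your own Groth.Agent.* helpers here

set_option autoImplicit false
open CategoryTheory CategoryTheory.Limits AlgebraicGeometry
universe u
open SGA1

namespace Groth.Agent.S2911

section Aux
open Groth.Agent.SGA1QuotLib

/-- The affine-local statement. -/
theorem ring_data {X X' Y : Scheme.{u}} {G : Type u} [Group G] [Finite G] {ρ : G →* Aut X}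
    (f : X ⟶ Y) [Etale f] {p : X ⟶ X'} (hp : SGA1.IsQuot ρ p) (q : X' ⟶ Y) (hq : p ≫ q = f)
    {W : Y.Opens} (hW : IsAffineOpen W) {U : X'.Opens} (hU : IsAffineOpen U) (e : U ≤ q ⁻¹ᵁ W) :
    (p.app U).hom.Etale := by
  haveI := hp.affine
  letI := action hp U
  have e' : p ⁻¹ᵁ U ≤ f ⁻¹ᵁ W := fun z hz => by
    rw [← hq]; exact e hz
  letI : Algebra Γ(X', U) Γ(X, p ⁻¹ᵁ U) := (p.app U).hom.toAlgebra
  letI : Algebra Γ(Y, W) Γ(X', U) := (q.appLE W U e).hom.toAlgebra
  letI : Algebra Γ(Y, W) Γ(X, p ⁻¹ᵁ U) := (f.appLE W (p ⁻¹ᵁ U) e').hom.toAlgebra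
  haveI : IsScalarTower Γ(Y, W) Γ(X', U) Γ(X, p ⁻¹ᵁ U) := IsScalarTower.of_algebraMap_eq' (by
    change (f.appLE W (p ⁻¹ᵁ U) e').hom = (p.app U).hom.comp (q.appLE W U e).hom
    rw [← CommRingCat.hom_comp, Scheme.Hom.app_eq_appLE, Scheme.Hom.appLE_comp_appLE]
    simp only [hq])
  haveI het : Algebra.Etale Γ(Y, W) Γ(X, p ⁻¹ᵁ U) := f.etale_appLE hW (hU.preimage p) e'
  haveI : Algebra.IsInvariant Γ(X', U) Γ(X, p ⁻¹ᵁ U) G :=
    ⟨fun a ha => (hp.range_iff U a).2 fun g => by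
      have := ha g⁻¹
      change act hp U (g⁻¹)⁻¹ a = a at this
      rwa [inv_inv] at this⟩
  haveI : SMulCommClass G Γ(X', U) Γ(X, p ⁻¹ᵁ U) := ⟨fun g b a => by
    rw [Algebra.smul_def, Algebra.smul_def, smul_mul']
    exact congrArg (· * g • a) (act_app hp U g⁻¹ b)⟩
  exact (GaloisInertia.etale (A := Γ(X', U)) (G := G) Γ(Y, W) (hp.injective U)).2.1

end Aux

/-- With the existence of the quotient taken as a hypothesis: Let Y be locally Noetherian, f : X ⟶ Y
etale, separated and quasi-compact, G a finite group acting on X by Y-automorphisms, p : X ⟶ X' a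
quotient of X by G and q : X' ⟶ Y the induced morphism. Then p and q are etale, and if f is finite
then q is finite. -/
theorem result {X X' Y : Scheme.{u}} {G : Type u} [Group G] [Finite G] (ρ : G →* Aut X)
    [IsLocallyNoetherian Y] (f : X ⟶ Y) [Etale f] [IsSeparated f] [QuasiCompact f] (hρ : ∀ g : G, (ρ g).hom ≫ f = f)
    (p : X ⟶ X') (hp : SGA1.IsQuot ρ p) (q : X' ⟶ Y) (hq : p ≫ q = f) :
    Etale p ∧ Etale q ∧ (IsFinite f → IsFinite q) := by
  haveI := hp.affine
  haveI : Etale p := by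
    choose W hW hyW _ using fun y : X' => exists_isAffineOpen_mem_and_subset
      (TopologicalSpace.Opens.mem_top (q.base y))
    choose U hU hyU hUW using fun y : X' => exists_isAffineOpen_mem_and_subset
      (x := y) (U := q ⁻¹ᵁ W y) (hyW y)
    refine (IsZariskiLocalAtTarget.iff_of_iSup_eq_top U
      (eq_top_iff.2 fun y _ => TopologicalSpace.Opens.mem_iSup.2 ⟨y, hyU y⟩)).2 fun y => ?_
    haveI : IsAffine (U y).toScheme := hU y
    haveI : IsAffine (p ⁻¹ᵁ U y).toScheme := (hU y).preimage p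
    rw [HasRingHomProperty.iff_of_isAffine (P := @Etale), Scheme.Hom.appTop, morphismRestrict_app']
    have key : ∀ (U' : X'.Opens) (V : X.Opens) (e : V ≤ p ⁻¹ᵁ U'), IsAffineOpen U' →
        IsAffineOpen V → U' ≤ q ⁻¹ᵁ W y → (p.appLE U' V e).hom.Etale := by
      intro U' V e hU' hV hle
      have hid := (𝟙 X : X ⟶ X).etale_appLE (hU'.preimage p) hV e
      have h := RingHom.Etale.stableUnderComposition _ _ (ring_data f hp q hq (hW y) hU' hle) hid
      rw [← CommRingCat.hom_comp, Scheme.Hom.app_eq_appLE, Scheme.Hom.appLE_comp_appLE] at h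
      simpa using h
    refine key _ _ _ ?_ ?_ ?_
    · rw [Scheme.Opens.ι_image_top]; exact hU y
    · rw [Scheme.Hom.preimage_top, Scheme.Opens.ι_image_top]; exact (hU y).preimage p
    · rw [Scheme.Opens.ι_image_top]; exact hUW y
  haveI : Surjective p := ⟨Groth.Agent.SGA1QuotLib.surjective hp⟩
  haveI : Etale (p ≫ q) := by rw [hq]; infer_instance
  haveI hqe : Etale q := Groth.Agent.SourceDescent.etale_of_comp (f := p) (g := q)
  refine ⟨inferInstance, hqe, fun hf => ?_⟩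
  haveI := hf
  haveI : IsAffineHom q := Groth.Agent.SGA1QuotLib.isAffineHom_of_comp hp f q hq
  haveI : LocallyOfFiniteType q := Groth.Agent.SGA1QuotLib.locallyOfFiniteType_of_quot hp f q hq
  rw [IsFinite.iff_isIntegralHom_and_locallyOfFiniteType]
  refine ⟨⟨fun U hU => ?_⟩, inferInstance⟩
  haveI : IsIntegralHom (p ≫ q) := by rw [hq]; infer_instance
  have h1 := (p ≫ q).isIntegral_app U hU
  letI : Algebra Γ(Y, U) Γ(X', q ⁻¹ᵁ U) := (q.app U).hom.toAlgebra
  letI : Algebra Γ(Y, U) Γ(X, (p ≫ q) ⁻¹ᵁ U) := ((p ≫ q).app U).hom.toAlgebra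
  intro w
  let φ : Γ(X', q ⁻¹ᵁ U) →ₐ[Γ(Y, U)] Γ(X, (p ≫ q) ⁻¹ᵁ U) :=
    { (p.app (q ⁻¹ᵁ U)).hom with
      commutes' := fun c => (congrArg (fun f => f.hom c) (Scheme.Hom.comp_app p q U)).symm }
  exact (isIntegral_algHom_iff φ (hp.injective (q ⁻¹ᵁ U))).1 (h1 (φ w))

end Groth.Agent.S2911
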