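import Groth.Statements.S2914
import Mathlib
import Groth.Agent.SGA1QuotLib.Basic
-- import your own Groth.Agent.* helpers here

set_option autoImplicit false
open CategoryTheory CategoryTheory.Limits AlgebraicGeometry Opposite
universe u
open SGA1

namespace Groth.Agent.S2914

section Aux
open TopologicalSpace

theorem injective_restrict' {X Y : Scheme.{u}} (p : X ⟶ Y) (hi : ∀ U : Y.Opens, Function.Injective (p.app U).hom)
    (V : Y.Opens) (W : V.toScheme.Opens) : Function.Injective ((p ∣_ V).app W).hom := by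
  rw [morphismRestrict_app]
  exact ((ConcreteCategory.bijective_of_isIso
    (X.presheaf.map (eqToHom (image_morphismRestrict_preimage p V W)).op)).1).comp (hi _)

theorem hom_ext_openImmersion' {X Y V Z : Scheme.{u}} (p : X ⟶ Y) (hs : Function.Surjective p.base)
    (hi : ∀ U : Y.Opens, Function.Injective (p.app U).hom) (j : V ⟶ Y)
    [IsOpenImmersion j] (a b : V ⟶ Z) (h : pullback.snd p j ≫ a = pullback.snd p j ≫ b) : a = b := by
  rw [← cancel_epi j.isoOpensRange.inv]
  refine Groth.Agent.SGA1QuotLib.hom_ext_of_injective (p ∣_ j.opensRange) (fun y => ?_)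
    (injective_restrict' p hi _) _ _ ?_
  · obtain ⟨x, hx⟩ := hs y.1
    have hxV : x ∈ p ⁻¹ᵁ j.opensRange := by
      show p.base x ∈ j.opensRange
      rw [hx]; exact y.2
    refine ⟨⟨x, hxV⟩, Subtype.ext ?_⟩
    simp [hx]
  · let L : (p ⁻¹ᵁ j.opensRange).toScheme ⟶ pullback p j :=
      pullback.lift (p ⁻¹ᵁ j.opensRange).ι (p ∣_ j.opensRange ≫ j.isoOpensRange.inv)
        (by rw [Category.assoc, Scheme.Hom.isoOpensRange_inv_comp, morphismRestrict_ι])
    have hL : L ≫ pullback.snd p j = p ∣_ j.opensRange ≫ j.isoOpensRange.inv := pullback.lift_snd _ _ _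
    rw [← Category.assoc, ← Category.assoc, ← hL, Category.assoc, Category.assoc, h]

theorem exists_desc' {X Y Z : Scheme.{u}} (p : X ⟶ Y) (hq : Topology.IsQuotientMap p.base)
    (hi : ∀ U : Y.Opens, Function.Injective (p.app U).hom)
    (heq : ∀ (U : Y.Opens) (s' : Γ(X, p ⁻¹ᵁ U)),
      (SGA1.overlapFstApp p U).hom s' = (SGA1.overlapSndApp p U).hom s' →
      s' ∈ Set.range (p.app U).hom)
    (h : X ⟶ Z) (hh : pullback.fst p p ≫ h = pullback.snd p p ≫ h) : ∃ h' : Y ⟶ Z, p ≫ h' = h := by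
  classical
  choose x hx using hq.surjective
  have hconst : ∀ a b : X, p.base a = p.base b → h.base a = h.base b := fun a b e => by
    obtain ⟨t, rfl, rfl⟩ := Scheme.Pullback.exists_preimage_pullback a b e
    rw [← Scheme.Hom.comp_apply, hh, Scheme.Hom.comp_apply]
  choose W hW hyW _ using fun y : Y => exists_isAffineOpen_mem_and_subset
    (TopologicalSpace.Opens.mem_top (h.base (x y)))
  let V : Y → Y.Opens := fun y => ⟨{y' | h.base (x y') ∈ W y}, by
    refine hq.isOpen_preimage.1 ?_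
    have : p.base ⁻¹' {y' | h.base (x y') ∈ W y} = h.base ⁻¹' (W y : Set Z) := Set.ext fun a => by
      simp only [Set.mem_preimage, Set.mem_ofPred_eq, hconst (x (p.base a)) a (hx _), SetLike.mem_coe]
    rw [this]
    exact (W y).isOpen.preimage h.continuous⟩
  choose U hU hyU hUV using fun y : Y => exists_isAffineOpen_mem_and_subset (x := y) (U := V y) (hyW y)
  have hPW : ∀ y, p ⁻¹ᵁ U y ≤ h ⁻¹ᵁ W y := fun y z hz => by
    have h1 : h.base (x (p.base z)) ∈ W y := hUV y hz
    rwa [hconst (x (p.base z)) z (hx _)] at h1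
  have hinv : ∀ y (s : Γ(Z, W y)), (h.appLE (W y) (p ⁻¹ᵁ U y) (hPW y)).hom s ∈ (p.app (U y)).hom.range := by
    intro y s
    refine heq (U y) _ ?_
    simp only [SGA1.overlapFstApp, SGA1.overlapSndApp, Scheme.Hom.app_eq_appLE]
    rw [← RingHom.comp_apply, ← RingHom.comp_apply, ← CommRingCat.hom_comp, ← CommRingCat.hom_comp,
      Scheme.Hom.appLE_comp_appLE, Scheme.Hom.appLE_comp_appLE]
    simp only [hh]
  let e : ∀ y, Γ(Y, U y) ≃+* (p.app (U y)).hom.range := fun y =>
    RingEquiv.ofBijective (p.app (U y)).hom.rangeRestrict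
      ⟨fun a b hab => hi _ (congrArg Subtype.val hab), (p.app (U y)).hom.rangeRestrict_surjective⟩
  let φ : ∀ y, Γ(Z, W y) ⟶ Γ(Y, U y) := fun y => CommRingCat.ofHom
    ((e y).symm.toRingHom.comp ((h.appLE (W y) (p ⁻¹ᵁ U y) (hPW y)).hom.codRestrict _ (hinv y)))
  have hφ : ∀ y, φ y ≫ p.app (U y) = h.appLE (W y) (p ⁻¹ᵁ U y) (hPW y) := fun y => by
    ext s
    exact congrArg Subtype.val ((e y).apply_symm_apply _)
  let 𝒰 : Y.OpenCover := Y.openCoverOfIsOpenCover U
    (.mk (eq_top_iff.2 fun y _ => TopologicalSpace.Opens.mem_iSup.2 ⟨y, hyU y⟩))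
  let F : ∀ y, (U y).toScheme ⟶ Z := fun y =>
    (hU y).isoSpec.hom ≫ Spec.map (φ y) ≫ (hW y).fromSpec
  have hF : ∀ y, (p ∣_ U y) ≫ F y = (p ⁻¹ᵁ U y).ι ≫ h := fun y => by
    simp only [F, IsAffineOpen.isoSpec_hom]
    rw [← Scheme.Opens.toSpecΓ_naturality_assoc, ← Spec.map_comp_assoc, hφ,
      Scheme.Opens.toSpecΓ_SpecMap_appLE_assoc, ← (hW y).isoSpec_hom, (hW y).isoSpec_hom_fromSpec,
      Scheme.Hom.resLE_comp_ι]
  have hcompat : ∀ i j, pullback.fst (𝒰.f i) (𝒰.f j) ≫ F i = pullback.snd (𝒰.f i) (𝒰.f j) ≫ F j := by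
    intro i j
    let k : pullback (U i).ι (U j).ι ⟶ Y := pullback.fst (U i).ι (U j).ι ≫ (U i).ι
    have key : ∀ (y : Y) (c : pullback (U i).ι (U j).ι ⟶ (U y).toScheme), c ≫ (U y).ι = k →
        pullback.snd p k ≫ c ≫ F y = pullback.fst p k ≫ h := fun y c hc => by
      have hr : Set.range (pullback.fst p k) ⊆ Set.range (p ⁻¹ᵁ U y).ι := by
        rw [Scheme.Opens.range_ι]
        rintro _ ⟨z, rfl⟩
        change p.base (pullback.fst p k z) ∈ U y
        have e : pullback.fst p k ≫ p = (pullback.snd p k ≫ c) ≫ (U y).ι :=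
          pullback.condition.trans ((congrArg (pullback.snd p k ≫ ·) hc.symm).trans
            (Category.assoc _ _ _).symm)
        rw [← Scheme.Hom.comp_apply, e, Scheme.Hom.comp_apply]
        exact ((pullback.snd p k ≫ c) z).2
      let L := IsOpenImmersion.lift (p ⁻¹ᵁ U y).ι _ hr
      have e1 : L ≫ (p ⁻¹ᵁ U y).ι = pullback.fst p k := IsOpenImmersion.lift_fac _ _ hr
      have e2 : L ≫ (p ∣_ U y) = pullback.snd p k ≫ c := by
        rw [← cancel_mono (U y).ι, Category.assoc, morphismRestrict_ι, reassoc_of% e1,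
          Category.assoc, hc, pullback.condition]
      rw [← reassoc_of% e2, hF, reassoc_of% e1]
    exact hom_ext_openImmersion' p hq.surjective hi k _ _
      ((key i _ rfl).trans (key j _ pullback.condition.symm).symm)
  refine ⟨𝒰.glueMorphisms F hcompat, ?_⟩
  let 𝒱 : X.OpenCover := X.openCoverOfIsOpenCover (fun y => p ⁻¹ᵁ U y)
    (.mk (eq_top_iff.2 fun z _ => TopologicalSpace.Opens.mem_iSup.2 ⟨p.base z, hyU _⟩))
  refine 𝒱.hom_ext _ _ fun y => ?_
  change (p ⁻¹ᵁ U y).ι ≫ p ≫ 𝒰.glueMorphisms F hcompat = (p ⁻¹ᵁ U y).ι ≫ h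
  rw [← morphismRestrict_ι_assoc, ← hF]
  exact congrArg ((p ∣_ U y) ≫ ·) (𝒰.ι_glueMorphisms F hcompat y)

end Aux

/-- Let g : S' ⟶ S be a morphism of schemes whose underlying map is a quotient map, and such that for
every open U of S the sequence O_S(U) → O_{S'}(g⁻¹U) ⇉ O_{S''}(h⁻¹U) is an equalizer, where S'' = S'
×_S S' with structure map h and the two arrows are restriction along the projections. Then g is an
effective epimorphism in the category of schemes. -/
theorem result {S' S : Scheme.{u}} (g : S' ⟶ S) (hq : Topology.IsQuotientMap g.base)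
    (hinj : ∀ U : S.Opens, Function.Injective (g.app U).hom)
    (heq : ∀ (U : S.Opens) (s' : Γ(S', g ⁻¹ᵁ U)), (SGA1.overlapFstApp g U).hom s' = (SGA1.overlapSndApp g U).hom s' →
      s' ∈ Set.range (g.app U).hom) :
    EffectiveEpi g := by
  haveI : Epi g := ⟨fun a b h =>
    Groth.Agent.SGA1QuotLib.hom_ext_of_injective g hq.surjective hinj a b h⟩
  haveI : IsRegularEpi g := .of_epi_of_exists fun Z h hh => exists_desc' g hq hinj heq h hh
  infer_instance

end Groth.Agent.S2914
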