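import Groth.Statements.S2916
import Groth.Agent.FullyFaithBC.Submersive

set_option autoImplicit false
open CategoryTheory CategoryTheory.Limits AlgebraicGeometry Opposite
universe u
open SGA1

namespace Groth.Agent.S2916

/-- Let g : S' ⟶ S be universally submersive with geometrically connected fibres (the base change of S'
to any algebraically closed field valued point of S is connected). Then S' is connected whenever S
is, and for schemes X, Y etale over S every S'-morphism between their base changes comes from
exactly one S-morphism X ⟶ Y. -/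
theorem result {S' S : Scheme.{u}} (g : S' ⟶ S)
    (hg : SGA1.UnivSubmersive g)
    (hconn : ∀ (K : Type u) [Field K] [IsAlgClosed K] (ξ : Spec (CommRingCat.of K) ⟶ S), ConnectedSpace ↑(pullback g ξ)) :
    (ConnectedSpace S → ConnectedSpace S') ∧
    ∀ (X Y : Over S) [Etale X.hom] [Etale Y.hom], Function.Bijective ((Over.pullback g).map : (X ⟶ Y) → _) := by
  have key : ∀ (E : Type u) [Field E] (y : Spec (CommRingCat.of E) ⟶ S), ConnectedSpace ↥(pullback g y) := by
    intro E _ y
    let Ω := AlgebraicClosure E
    let c : Spec (CommRingCat.of Ω) ⟶ Spec (CommRingCat.of E) :=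
      Spec.map (CommRingCat.ofHom (algebraMap E Ω))
    haveI : Surjective c := ⟨fun p => ⟨IsLocalRing.closedPoint Ω, Subsingleton.elim _ _⟩⟩
    have hc := hconn Ω (c ≫ y)
    let v : pullback g (c ≫ y) ⟶ pullback g y :=
      pullback.lift (pullback.fst g (c ≫ y)) (pullback.snd g (c ≫ y) ≫ c) (by rw [pullback.condition, Category.assoc])
    have hv : IsPullback v (pullback.snd g (c ≫ y)) (pullback.snd g y) c := by
      refine IsPullback.of_right (h₁₂ := pullback.fst g y) (h₂₂ := y) (v₁₃ := g) ?_ (pullback.lift_snd _ _ _)
        (IsPullback.of_hasPullback g y)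
      rw [show v ≫ pullback.fst g y = pullback.fst g (c ≫ y) from pullback.lift_fst _ _ _]
      exact IsPullback.of_hasPullback g (c ≫ y)
    haveI : Surjective v := MorphismProperty.of_isPullback (P := @Surjective) hv.flip inferInstance
    exact v.surjective.connectedSpace v.continuous
  haveI : GeometricallyConnected g :=
    ⟨geometrically_iff_of_isClosedUnderIsomorphisms.mpr fun E _ y => key E y⟩
  refine ⟨fun hS => ?_, fun X Y _ _ => ⟨fun φ ψ h => ?_, fun φ => ?_⟩⟩
  · have hq : Topology.IsQuotientMap g :=
      Groth.Agent.FullyFaithBC.isQuotientMap_of_isPullback hg (IsPullback.of_id_fst (f := g))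
    have h1 := Topology.IsCoinducing.isConnected_preimage_of_isClosed g.isConnected_preimage_singleton
      hq.isCoinducing isClosed_univ (connectedSpace_iff_univ.mp hS)
    exact connectedSpace_iff_univ.mpr h1
  · have h1 : pullback.fst X.hom g ≫ φ.left = pullback.fst X.hom g ≫ ψ.left := by
      have := congrArg (fun z => z.left ≫ pullback.fst Y.hom g) h
      exact (pullback.lift_fst _ _ _).symm.trans (this.trans (pullback.lift_fst _ _ _))
    haveI : Surjective (pullback.fst X.hom g) :=
      ⟨fun x => ((pullback.fst X.hom g).isConnected_preimage_singleton x).nonempty⟩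
    exact Over.OverMorphism.ext (Groth.Agent.FullyFaithBC.eq_of_surjective_comp (pullback.fst X.hom g) Y.hom
      φ.left ψ.left ((Over.w φ).trans (Over.w ψ).symm) h1)
  · let q : pullback X.hom g ⟶ Y.left := φ.left ≫ pullback.fst Y.hom g
    have hsnd : φ.left ≫ pullback.snd Y.hom g = pullback.snd X.hom g := Over.w φ
    have hq : q ≫ Y.hom = pullback.fst X.hom g ≫ X.hom := by
      show (φ.left ≫ pullback.fst Y.hom g) ≫ Y.hom = _
      refine (Category.assoc _ _ _).trans ?_
      exact ((congrArg (φ.left ≫ ·) pullback.condition).trans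
        ((Category.assoc _ _ _).symm.trans (congrArg (· ≫ g) hsnd))).trans pullback.condition.symm
    obtain ⟨k, hk₁, hk₂⟩ := Groth.Agent.FullyFaithBC.exists_desc_of_univSubmersive g hg X.hom Y.hom q hq
    refine ⟨Over.homMk k hk₁, Over.OverMorphism.ext (pullback.hom_ext ?_ ?_)⟩
    · exact (pullback.lift_fst _ _ _).trans hk₂
    · exact (pullback.lift_snd _ _ _).trans hsnd.symm

end Groth.Agent.S2916
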