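import Groth.Statements.S2917
import Groth.Agent.FpqcDescent.Basic
import Mathlib

set_option autoImplicit false
open CategoryTheory CategoryTheory.Limits AlgebraicGeometry Opposite
universe u
open SGA1

namespace Groth.Agent.S2917

instance : SGA1.UnivSubmersive.{u}.IsStableUnderBaseChange :=
  MorphismProperty.universally_isStableUnderBaseChange _

theorem isQuotientMap_of_univSubmersive {X Y : Scheme.{u}} {b : X ⟶ Y} (h : SGA1.UnivSubmersive b) :
    Topology.IsQuotientMap b.base := MorphismProperty.universally_le _ _ h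

variable {A Y' X Y : Scheme.{u}} {f' : A ⟶ Y'} {a : A ⟶ X} {b : Y' ⟶ Y} {f : X ⟶ Y}

theorem preimage_image (sq : IsPullback f' a b f) (U : Set X) : b ⁻¹' (f '' U) = f' '' (a ⁻¹' U) := by
  ext y
  constructor
  · rintro ⟨x, hx, hxy⟩
    obtain ⟨z, hz1, hz2⟩ := Scheme.Pullback.exists_preimage_pullback (f := b) (g := f) y x hxy.symm
    refine ⟨sq.isoPullback.inv z, ?_, ?_⟩
    · show a (sq.isoPullback.inv z) ∈ U
      rw [← Scheme.Hom.comp_apply, IsPullback.isoPullback_inv_snd, hz2]; exact hx
    · rw [← Scheme.Hom.comp_apply, IsPullback.isoPullback_inv_fst, hz1]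
  · rintro ⟨z, hz, rfl⟩
    exact ⟨a z, hz, by rw [← Scheme.Hom.comp_apply, ← sq.w]; rfl⟩

theorem isOpenMap_of (sq : IsPullback f' a b f) (hb : Topology.IsQuotientMap b.base) (h : IsOpenMap f'.base) :
    IsOpenMap f.base := fun U hU => by
  rw [← hb.isOpen_preimage, preimage_image sq]
  exact h _ (hU.preimage a.continuous)

theorem isClosedMap_of (sq : IsPullback f' a b f) (hb : Topology.IsQuotientMap b.base) (h : IsClosedMap f'.base) :
    IsClosedMap f.base := fun U hU => by
  rw [← hb.isClosed_preimage, preimage_image sq]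
  exact h _ (hU.preimage a.continuous)

theorem descends_universally (P : MorphismProperty Scheme.{u})
    (h : ∀ {A Y' X Y : Scheme.{u}} {f' : A ⟶ Y'} {a : A ⟶ X} {b : Y' ⟶ Y} {f : X ⟶ Y},
      IsPullback f' a b f → Topology.IsQuotientMap b.base → P f' → P f) :
    P.universally.DescendsAlong SGA1.UnivSubmersive.{u} := by
  constructor
  intro A Y' X Y f' a b f sq hb hf'
  intro X₂ Z i₁ i₂ f₂ sq₂
  let b₂ := pullback.snd b i₂
  have hb₂ : SGA1.UnivSubmersive b₂ := MorphismProperty.pullback_snd _ _ hb
  let g₁ := pullback.fst b₂ f₂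
  have sq₃ : IsPullback g₁ (pullback.snd b₂ f₂) b₂ f₂ := IsPullback.of_hasPullback _ _
  have hout : IsPullback g₁ (pullback.snd b₂ f₂ ≫ i₁) (pullback.fst b i₂ ≫ b) f := by
    have := sq₃.paste_vert sq₂
    rwa [← pullback.condition] at this
  let l : pullback b₂ f₂ ⟶ A := sq.lift (g₁ ≫ pullback.fst b i₂) (pullback.snd b₂ f₂ ≫ i₁)
    (by rw [Category.assoc, hout.w, Category.assoc])
  have hl : l ≫ a = pullback.snd b₂ f₂ ≫ i₁ := sq.lift_snd _ _ _
  have hl' : g₁ ≫ pullback.fst b i₂ = l ≫ f' := (sq.lift_fst _ _ _).symm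
  have hsq : IsPullback g₁ l (pullback.fst b i₂) f' := IsPullback.of_bot (hl.symm ▸ hout) hl' sq
  exact h sq₃ (isQuotientMap_of_univSubmersive hb₂) (hf' l (pullback.fst b i₂) g₁ hsq)

instance : MorphismProperty.DescendsAlong @UniversallyOpen SGA1.UnivSubmersive.{u} := by
  rw [UniversallyOpen.eq]; exact descends_universally _ isOpenMap_of

instance : MorphismProperty.DescendsAlong @UniversallyClosed SGA1.UnivSubmersive.{u} := by
  rw [universallyClosed_eq]; exact descends_universally _ isClosedMap_of

theorem isSeparated_of_diagonal {X Y : Scheme.{u}} (f : X ⟶ Y) [UniversallyClosed (pullback.diagonal f)] :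
    IsSeparated f :=
  ⟨IsClosedImmersion.of_isPreimmersion _ (pullback.diagonal f).isClosedMap.isClosed_range⟩

/-- Let g : S' ⟶ S be universally submersive, f : X ⟶ Y a morphism of S-schemes (Y ⟶ S the structure
map) and f' its base change along S' ⟶ S, realised as X ×_S S' ⟶ Y ×_S S'. If f' is open (resp.
closed) then so is f; if f' is universally open (resp. universally closed, resp. separated) then so
is f; and if moreover g is quasi-compact and f locally of finite type, then f is proper as soon as
f' is. -/
theorem result {S' S X Y : Scheme.{u}} (g : S' ⟶ S) (hg : SGA1.UnivSubmersive g)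
    (f : X ⟶ Y) (q : Y ⟶ S) :
    (IsOpenMap (pullback.map (f ≫ q) g q g f (𝟙 S') (𝟙 S) (Category.comp_id _) ((Category.comp_id _).trans (Category.id_comp _).symm)).base → IsOpenMap f.base) ∧
    (IsClosedMap (pullback.map (f ≫ q) g q g f (𝟙 S') (𝟙 S) (Category.comp_id _) ((Category.comp_id _).trans (Category.id_comp _).symm)).base → IsClosedMap f.base) ∧
    (UniversallyOpen (pullback.map (f ≫ q) g q g f (𝟙 S') (𝟙 S) (Category.comp_id _) ((Category.comp_id _).trans (Category.id_comp _).symm)) → UniversallyOpen f) ∧
    (UniversallyClosed (pullback.map (f ≫ q) g q g f (𝟙 S') (𝟙 S) (Category.comp_id _) ((Category.comp_id _).trans (Category.id_comp _).symm)) → UniversallyClosed f) ∧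
    (IsSeparated (pullback.map (f ≫ q) g q g f (𝟙 S') (𝟙 S) (Category.comp_id _) ((Category.comp_id _).trans (Category.id_comp _).symm)) → IsSeparated f) ∧
    (QuasiCompact g → LocallyOfFiniteType f →
      IsProper (pullback.map (f ≫ q) g q g f (𝟙 S') (𝟙 S) (Category.comp_id _) ((Category.comp_id _).trans (Category.id_comp _).symm)) → IsProper f) := by
  let f' := pullback.map (f ≫ q) g q g f (𝟙 S') (𝟙 S) (Category.comp_id _) ((Category.comp_id _).trans (Category.id_comp _).symm)
  have hw : f' ≫ pullback.fst q g = pullback.fst (f ≫ q) g ≫ f := pullback.lift_fst _ _ _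
  have hw2 : f' ≫ pullback.snd q g = pullback.snd (f ≫ q) g :=
    (pullback.lift_snd _ _ _).trans (Category.comp_id _)
  have sq : IsPullback f' (pullback.fst (f ≫ q) g) (pullback.fst q g) f := by
    refine (IsPullback.of_bot (v₂₁ := pullback.snd q g) (v₂₂ := q) (h₃₁ := g) ?_ hw.symm
      (IsPullback.of_hasPullback q g)).flip
    rw [hw2]
    exact IsPullback.of_hasPullback (f ≫ q) g
  have hb : SGA1.UnivSubmersive (pullback.fst q g) := MorphismProperty.pullback_fst _ _ hg
  have hsep : IsSeparated f' → IsSeparated f := fun h => by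
    have : MorphismProperty.DescendsAlong (MorphismProperty.diagonal @UniversallyClosed)
        SGA1.UnivSubmersive.{u} := inferInstance
    have h1 : MorphismProperty.diagonal @UniversallyClosed f' :=
      (inferInstance : UniversallyClosed (pullback.diagonal f'))
    have : UniversallyClosed (pullback.diagonal f) :=
      MorphismProperty.of_isPullback_of_descendsAlong (P := MorphismProperty.diagonal @UniversallyClosed)
        (Q := SGA1.UnivSubmersive) sq hb h1
    exact isSeparated_of_diagonal f
  refine ⟨isOpenMap_of sq (isQuotientMap_of_univSubmersive hb),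
    isClosedMap_of sq (isQuotientMap_of_univSubmersive hb),
    MorphismProperty.of_isPullback_of_descendsAlong (P := @UniversallyOpen) (Q := SGA1.UnivSubmersive) sq hb,
    MorphismProperty.of_isPullback_of_descendsAlong (P := @UniversallyClosed) (Q := SGA1.UnivSubmersive) sq hb,
    hsep, fun hgc hlft hp => ?_⟩
  have hp' : IsProper f' := hp
  have : IsSeparated f := hsep inferInstance
  have : UniversallyClosed f :=
    MorphismProperty.of_isPullback_of_descendsAlong (P := @UniversallyClosed) (Q := SGA1.UnivSubmersive) sq hb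
      inferInstance
  exact ⟨⟩

end Groth.Agent.S2917
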