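import Groth.Statements.S2933
import Groth.Agent.S1717

set_option autoImplicit false
universe u
open LocCoh

namespace Groth.Agent.S2933

/-- Let A be a Noetherian ring with connected spectrum and d ≥ 1 an integer such that every prime p with
dim A_p ≥ d has depth A_p ≥ 2. Then for any two minimal primes p', p'' of A there is a finite
sequence of minimal primes starting at p' and ending at p'' such that any two consecutive members
are both contained in some prime of height at most d − 1 (Spec A is connected in codimension d − 1). -/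
theorem result (A : Type u) [CommRing A] [IsNoetherianRing A] [ConnectedSpace (PrimeSpectrum A)] (d : ℕ) (hd : 1 ≤ d) (h : ∀ p : PrimeSpectrum A, (d : ℕ∞) ≤ p.asIdeal.height → (2 : ℕ∞) ≤ LocCoh.depth (Localization.AtPrime p.asIdeal) (Localization.AtPrime p.asIdeal)) (p' p'' : PrimeSpectrum A) (hp' : p'.asIdeal ∈ minimalPrimes A) (hp'' : p''.asIdeal ∈ minimalPrimes A) : ∃ l : List (PrimeSpectrum A), l.head? = some p' ∧ l.getLast? = some p'' ∧ (∀ p ∈ l, p.asIdeal ∈ minimalPrimes A) ∧ List.IsChain (fun p q => ∃ r : PrimeSpectrum A, p ≤ r ∧ q ≤ r ∧ r.asIdeal.height ≤ (d - 1 : ℕ)) l := by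
  classical
  let Adj : {x : PrimeSpectrum A // x.asIdeal ∈ minimalPrimes A} →
      {x : PrimeSpectrum A // x.asIdeal ∈ minimalPrimes A} → Prop :=
    fun p q => ∃ r : PrimeSpectrum A, p.1 ≤ r ∧ q.1 ≤ r ∧ r.asIdeal.height ≤ (d - 1 : ℕ)
  suffices key : Relation.ReflTransGen Adj ⟨p', hp'⟩ ⟨p'', hp''⟩ by
    obtain ⟨l, hl, hlast⟩ := List.exists_isChain_cons_of_relationReflTransGen key
    refine ⟨((⟨p', hp'⟩ : {x : PrimeSpectrum A // x.asIdeal ∈ minimalPrimes A}) :: l).map Subtype.val,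
      rfl, ?_, fun p hp => ?_, (List.isChain_map _).2 hl⟩
    · rw [List.getLast?_map, List.getLast?_eq_some_getLast (List.cons_ne_nil _ _), hlast]; rfl
    · obtain ⟨x, -, rfl⟩ := List.mem_map.1 hp
      exact x.2
  by_contra hne
  have hfin : Finite {x : PrimeSpectrum A // x.asIdeal ∈ minimalPrimes A} := by
    haveI := (minimalPrimes.finite_of_isNoetherianRing A).to_subtype
    exact Finite.of_injective (β := minimalPrimes A) (fun x => ⟨x.1.asIdeal, x.2⟩)
      fun x y h => Subtype.ext (PrimeSpectrum.ext (congrArg Subtype.val h))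
  haveI := Fintype.ofFinite {x : PrimeSpectrum A // x.asIdeal ∈ minimalPrimes A}
  let I : Ideal A := (Finset.univ.filter fun x => Relation.ReflTransGen Adj ⟨p', hp'⟩ x).inf fun x => x.1.asIdeal
  let J : Ideal A := (Finset.univ.filter fun x => ¬ Relation.ReflTransGen Adj ⟨p', hp'⟩ x).inf fun x => x.1.asIdeal
  have hIle : ∀ x, Relation.ReflTransGen Adj ⟨p', hp'⟩ x → I ≤ x.1.asIdeal := fun x hx =>
    Finset.inf_le (Finset.mem_filter.2 ⟨Finset.mem_univ _, hx⟩)
  have hJle : ∀ x, ¬ Relation.ReflTransGen Adj ⟨p', hp'⟩ x → J ≤ x.1.asIdeal := fun x hx =>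
    Finset.inf_le (Finset.mem_filter.2 ⟨Finset.mem_univ _, hx⟩)
  have hcov : ∀ r : PrimeSpectrum A, I ≤ r.asIdeal ∨ J ≤ r.asIdeal := fun r => by
    obtain ⟨m, hm, hmr⟩ := Ideal.exists_minimalPrimes_le (I := ⊥) (J := r.asIdeal) bot_le
    by_cases hx : Relation.ReflTransGen Adj ⟨p', hp'⟩ ⟨⟨m, hm.isPrime⟩, hm⟩
    · exact Or.inl ((hIle _ hx).trans hmr)
    · exact Or.inr ((hJle _ hx).trans hmr)
  -- connectedness gives a common prime
  obtain ⟨r₀, -, hr₀⟩ : (Set.univ ∩ (PrimeSpectrum.zeroLocus (I : Set A) ∩ PrimeSpectrum.zeroLocus (J : Set A))).Nonempty :=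
    isPreconnected_closed_iff.1 isPreconnected_univ _ _ (PrimeSpectrum.isClosed_zeroLocus _)
      (PrimeSpectrum.isClosed_zeroLocus _) (fun r _ => hcov r)
      ⟨p', trivial, hIle ⟨p', hp'⟩ Relation.ReflTransGen.refl⟩ ⟨p'', trivial, hJle ⟨p'', hp''⟩ hne⟩
  obtain ⟨P, hP, -⟩ := Ideal.exists_minimalPrimes_le (I := I ⊔ J) (J := r₀.asIdeal) (sup_le hr₀.1 hr₀.2)
  have hPp : P.IsPrime := hP.isPrime
  obtain ⟨s, hs, hsP⟩ := (Ideal.IsPrime.inf_le' hPp).mp (le_sup_left.trans hP.1.2 : I ≤ P)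
  obtain ⟨t, ht, htP⟩ := (Ideal.IsPrime.inf_le' hPp).mp (le_sup_right.trans hP.1.2 : J ≤ P)
  replace hs := (Finset.mem_filter.1 hs).2
  replace ht := (Finset.mem_filter.1 ht).2
  by_cases hht : (d : ℕ∞) ≤ P.height
  swap
  · refine ht (hs.tail ⟨⟨P, hPp⟩, hsP, htP, ?_⟩)
    obtain ⟨m, hm⟩ := ENat.ne_top_iff_exists.mp (Ideal.height_ne_top (I := P) hPp.ne_top)
    show P.height ≤ _
    rw [← hm] at hht ⊢
    rw [Nat.cast_le] at hht ⊢
    omega
  let f := algebraMap A (Localization.AtPrime P)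
  have hnot : ∀ (K : Ideal A) (r : Ideal A), r.IsPrime → r ≤ P → ¬ K ≤ r →
      ¬ K.map f ≤ nilradical (Localization.AtPrime P) := by
    intro K r hr hrP hKr hK
    have hdisj : Disjoint (P.primeCompl : Set A) (r : Set A) :=
      Set.disjoint_left.mpr fun z hz hz' => hz (hrP hz')
    have := IsLocalization.isPrime_of_isPrime_disjoint P.primeCompl (Localization.AtPrime P) r hr hdisj
    have h1 := Ideal.map_le_iff_le_comap.mp (hK.trans (nilradical_le_prime (r.map f)))
    exact hKr (h1.trans (le_of_eq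
      (IsLocalization.under_map_of_isPrime_disjoint P.primeCompl (Localization.AtPrime P) hr hdisj)))
  have hIt : ¬ I ≤ t.1.asIdeal := fun hle => by
    obtain ⟨x, hx, hxt⟩ := (Ideal.IsPrime.inf_le' t.1.2).mp hle
    have : x = t := Subtype.ext (PrimeSpectrum.ext (le_antisymm hxt (t.2.2 ⟨x.1.2, bot_le⟩ hxt)))
    exact ht (this ▸ (Finset.mem_filter.1 hx).2)
  have hJs : ¬ J ≤ s.1.asIdeal := fun hle => by
    obtain ⟨x, hx, hxs⟩ := (Ideal.IsPrime.inf_le' s.1.2).mp hle
    have : x = s := Subtype.ext (PrimeSpectrum.ext (le_antisymm hxs (s.2.2 ⟨x.1.2, bot_le⟩ hxs)))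
    exact (Finset.mem_filter.1 hx).2 (this ▸ hs)
  refine S1717.Aux1717.false_of_disconnected (h ⟨P, hPp⟩ hht) (I := I.map f) (J := J.map f) ?_
    (hnot I t.1.asIdeal t.1.2 htP hIt) (hnot J s.1.asIdeal s.1.2 hsP hJs) ?_
  · rw [← Ideal.map_mul]
    refine Ideal.map_le_iff_le_comap.mpr fun z hz => IsNilpotent.map ?_ f
    rw [← mem_nilradical, nilradical, Ideal.radical_eq_sInf, Submodule.mem_sInf]
    intro r hr
    rcases hcov ⟨r, hr.2⟩ with h' | h'
    · exact ((Ideal.mul_le_inf.trans inf_le_left).trans h') hz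
    · exact ((Ideal.mul_le_inf.trans inf_le_right).trans h') hz
  · rw [← Ideal.map_sup, Ideal.radical_eq_sInf]
    refine le_sInf fun r hr => ?_
    have := hr.2
    have h1 : r.comap f ≤ P := (Ideal.comap_mono (IsLocalRing.le_maximalIdeal hr.2.ne_top)).trans
      (le_of_eq Localization.AtPrime.under_maximalIdeal)
    have h2 : P ≤ r.comap f := hP.2 ⟨inferInstance, Ideal.map_le_iff_le_comap.mp hr.1⟩ h1
    rw [← Localization.AtPrime.map_eq_maximalIdeal]
    exact Ideal.map_le_iff_le_comap.mpr h2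


end Groth.Agent.S2933
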