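import Groth.Statements.S2936
import Groth.Agent.DualCx.TopAss
import Groth.Agent.DualCx.Complete
-- import your own Groth.Agent.* helpers here

set_option autoImplicit false
universe u
open LocCoh

namespace Groth.Agent.S2936

/-- (iii), for a complete local ring. Let A be a complete Noetherian local ring with maximal ideal m, κ
→ E an injective hull of the residue field, and M a nonzero finite A-module whose support has
dimension n. Then for every i the A-module Hom_A(H^i_m(M), E) is finite with support of dimension at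
most i; for i = n its support has dimension exactly n and its associated primes are exactly the
associated primes p of M with dim A/p = n. -/
theorem result (A : Type u) [CommRing A] [IsLocalRing A] [IsNoetherianRing A] [IsAdicComplete (IsLocalRing.maximalIdeal A) A] (E : Type u) [AddCommGroup E] [Module A E] (f : IsLocalRing.ResidueField A →ₗ[A] E) (hf : InjHull.IsInjectiveHull f) (M : Type u) [AddCommGroup M] [Module A M] [Module.Finite A M] [Nontrivial M] (n : ℕ) (hn : Module.supportDim A M = n) : (∀ i : ℕ, Module.Finite A (LocCoh.H (IsLocalRing.maximalIdeal A) i M →ₗ[A] E) ∧ Module.supportDim A (LocCoh.H (IsLocalRing.maximalIdeal A) i M →ₗ[A] E) ≤ (i : WithBot ℕ∞)) ∧ Module.supportDim A (LocCoh.H (IsLocalRing.maximalIdeal A) n M →ₗ[A] E) = n ∧ associatedPrimes A (LocCoh.H (IsLocalRing.maximalIdeal A) n M →ₗ[A] E) = {p | p ∈ associatedPrimes A M ∧ ringKrullDim (A ⧸ p) = n} := by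
  obtain ⟨R, _, _, π, hπ⟩ := Groth.Agent.DualCx.exists_regular_surjection A
  haveI : IsLocalHom π := IsLocalHom.of_surjective π hπ
  obtain ⟨ω, hω, hn'⟩ := Groth.Agent.DualCx.exists_dualizing_of_gorenstein π (RingHom.Finite.of_surjective π hπ)
    (Groth.Agent.DualCx.gorenstein_of_regular R)
  obtain ⟨W, a, b, hK, hW, hzero, ⟨e⟩, -⟩ := Groth.Agent.DualCx.exists_residual' hω hn'
  haveI := hK
  have key : ∀ i : ℕ, ∃ _ : Module.Finite A (Groth.Agent.DualCx.EH W M (-(i : ℤ))),
      Nonempty ((LocCoh.H (IsLocalRing.maximalIdeal A) i M →ₗ[A] E) ≃ₗ[A] Groth.Agent.DualCx.EH W M (-(i : ℤ))) := fun i => by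
    obtain ⟨hfin, ⟨g⟩⟩ := Groth.Agent.DualCx.nonempty_H_dual hω hn'
      ((CategoryTheory.shiftFunctorZero (Dual.D A) ℤ).app ω).symm e E f hf M i
    rw [zero_add] at hfin g
    haveI := hfin
    obtain ⟨b⟩ := Groth.Agent.DualCx.nonempty_bidual hf (Groth.Agent.DualCx.EH W M (-(i : ℤ)))
    exact ⟨hfin, ⟨LinearEquiv.congrLeft E A g ≪≫ₗ b.symm⟩⟩
  obtain ⟨_, ⟨g⟩⟩ := key n
  obtain ⟨h1, h2⟩ := Groth.Agent.DualCx.associatedPrimes_top hω a b hzero e hW M n hn
  refine ⟨fun i => ?_, (Module.supportDim_eq_of_equiv g).trans h1, (LinearEquiv.AssociatedPrimes.eq g).trans h2⟩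
  obtain ⟨_, ⟨gi⟩⟩ := key i
  refine ⟨Module.Finite.equiv gi.symm, (Module.supportDim_eq_of_equiv gi).trans_le ((hW.supportDim_le M _).trans ?_)⟩
  rw [zero_sub, neg_neg, Int.toNat_natCast]

end Groth.Agent.S2936
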