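import Groth.Statements.S2938
import Groth.Agent.DepthLib.Sequence
import Mathlib.RingTheory.Flat.FaithfullyFlat.Algebra
open TensorProduct

set_option autoImplicit false
universe u
open scoped TensorProduct
open LocCoh

namespace Groth.Agent.S2938

/-- Suppose A and B are Noetherian rings with a ring map A → B, I is an ideal of A and M is a finitely
generated A-module. When B is A-flat, depth_{IB}(B ⊗_A M) ≥ depth_I(M); when B is faithfully flat
over A, the two depths are equal. -/
theorem result (A B : Type u) [CommRing A] [CommRing B] [Algebra A B] [IsNoetherianRing A] [IsNoetherianRing B] (I : Ideal A) (M : Type u) [AddCommGroup M] [Module A M] [Module.Finite A M] : (Module.Flat A B → LocCoh.idealDepth I M ≤ LocCoh.idealDepth (I.map (algebraMap A B)) (B ⊗[A] M)) ∧ (Module.FaithfullyFlat A B → LocCoh.idealDepth (I.map (algebraMap A B)) (B ⊗[A] M) = LocCoh.idealDepth I M) := by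
  have hle : Module.Flat A B → LocCoh.idealDepth I M ≤ LocCoh.idealDepth (I.map (algebraMap A B)) (B ⊗[A] M) := by
    intro _
    refine ENat.forall_natCast_le_iff_le.mp fun n hn => ?_
    obtain ⟨rs, rfl, hrs, hI⟩ := DepthLib.natCast_le_idealDepth_iff.mp hn
    refine DepthLib.natCast_le_idealDepth_iff.mpr ⟨rs.map (algebraMap A B), List.length_map _,
      hrs.of_flat_of_isBaseChange (TensorProduct.isBaseChange A M B), fun r hr => ?_⟩
    obtain ⟨a, ha, rfl⟩ := List.mem_map.mp hr
    exact Ideal.mem_map_of_mem _ (hI a ha)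
  refine ⟨hle, fun hff => le_antisymm ?_ (hle inferInstance)⟩
  by_cases hIM : I • (⊤ : Submodule A M) = ⊤
  · rw [DepthLib.idealDepth_of_smul_top_eq hIM]; exact le_top
  obtain ⟨d, hd⟩ := WithTop.ne_top_iff_exists.mp
    (fun ht => hIM (DepthLib.idealDepth_eq_top_iff.mp ht) : LocCoh.idealDepth I M ≠ ⊤)
  obtain ⟨rs, hlen, hrs, hI⟩ := DepthLib.natCast_le_idealDepth_iff.mp hd.le
  set J := Ideal.ofList rs
  have h0 : LocCoh.idealDepth I (M ⧸ (J • ⊤ : Submodule A M)) = 0 := by
    have := DepthLib.idealDepth_quot_ofList_add_length rs M hrs hI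
    rw [← hd, hlen] at this
    exact (ENat.add_left_injective_of_ne_top (ENat.coe_ne_top d)) (this.trans (zero_add _).symm)
  obtain ⟨p, hp, hIp⟩ := DepthLib.idealDepth_eq_zero_iff.mp h0
  obtain ⟨hprime, z, hz⟩ := isAssociatedPrime_iff.mp hp
  obtain ⟨x, rfl⟩ := Submodule.Quotient.mk_surjective _ z
  have hzx : (Submodule.Quotient.mk x : M ⧸ (J • ⊤ : Submodule A M)) ≠ 0 := fun h => hprime.ne_top (by
    rw [hz, h]; ext a; simp [Submodule.mem_colon_singleton])
  have hIx : ∀ a ∈ I, a • x ∈ (J • ⊤ : Submodule A M) := fun a ha => by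
    have := hIp ha
    rw [hz, Submodule.mem_colon_singleton, Submodule.mem_bot, ← Submodule.Quotient.mk_smul,
      Submodule.Quotient.mk_eq_zero] at this
    exact this
  let W : Submodule B (B ⊗[A] M) := Ideal.ofList (rs.map (algebraMap A B)) • ⊤
  have hW : ∀ m ∈ (J • ⊤ : Submodule A M), (1 : B) ⊗ₜ[A] m ∈ W := by
    intro m hm
    refine Submodule.smul_induction_on hm (fun j hj n _ => ?_) (fun a b ha hb => ?_)
    · rw [TensorProduct.tmul_smul, ← algebraMap_smul B j ((1 : B) ⊗ₜ[A] n)]
      refine Submodule.smul_mem_smul ?_ trivial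
      rw [← Ideal.map_ofList]
      exact Ideal.mem_map_of_mem _ hj
    · rw [TensorProduct.tmul_add]; exact add_mem ha hb
  have hker : W ≤ LinearMap.ker ((J • ⊤ : Submodule A M).mkQ.baseChange B) := by
    refine Submodule.smul_le.mpr fun j hj w _ => ?_
    rw [← Ideal.map_ofList] at hj
    rw [LinearMap.mem_ker, map_smul]
    generalize (J • ⊤ : Submodule A M).mkQ.baseChange B w = v
    refine Submodule.span_induction (fun y hy => ?_) (zero_smul _ _) (fun a b _ _ ha hb => by
      rw [add_smul, ha, hb, add_zero]) (fun c a _ ha => by rw [smul_eq_mul, mul_smul, ha, smul_zero]) hj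
    obtain ⟨a, ha, rfl⟩ := hy
    induction v using TensorProduct.induction_on with
    | zero => exact smul_zero _
    | tmul b q =>
      rw [algebraMap_smul, ← TensorProduct.tmul_smul]
      obtain ⟨m, rfl⟩ := Submodule.Quotient.mk_surjective _ q
      rw [← Submodule.Quotient.mk_smul, (Submodule.Quotient.mk_eq_zero _).mpr (Submodule.smul_mem_smul ha Submodule.mem_top),
        TensorProduct.tmul_zero]
    | add v w hv hw => rw [smul_add, hv, hw, add_zero]
  have hne : (Submodule.Quotient.mk ((1 : B) ⊗ₜ[A] x) : (B ⊗[A] M) ⧸ W) ≠ 0 := by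
    rw [ne_eq, Submodule.Quotient.mk_eq_zero]
    intro hmem
    have := LinearMap.mem_ker.mp (hker hmem)
    rw [LinearMap.baseChange_tmul, Submodule.mkQ_apply] at this
    exact hzx ((Module.FaithfullyFlat.one_tmul_eq_zero_iff A (M ⧸ (J • ⊤ : Submodule A M)) (A := B) _).mp this)
  haveI : Module.Finite B ((B ⊗[A] M) ⧸ W) := inferInstance
  have h0' : LocCoh.idealDepth (I.map (algebraMap A B)) ((B ⊗[A] M) ⧸ W) = 0 := by
    by_contra hne0
    obtain ⟨y, hy, hyreg⟩ := DepthLib.one_le_idealDepth_iff.mp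
      (Order.one_le_iff_pos.mpr (pos_iff_ne_zero.mpr hne0))
    refine hne (hyreg.right_eq_zero_of_smul ?_)
    refine Submodule.span_induction (fun y hy => ?_) (zero_smul _ _) (fun a b _ _ ha hb => by
      rw [add_smul, ha, hb, add_zero]) (fun c a _ ha => by rw [smul_eq_mul, mul_smul, ha, smul_zero]) hy
    obtain ⟨a, ha, rfl⟩ := hy
    rw [← Submodule.Quotient.mk_smul, Submodule.Quotient.mk_eq_zero, algebraMap_smul,
      ← TensorProduct.tmul_smul]
    exact hW _ (hIx a ha)
  have hdrop := DepthLib.idealDepth_quot_ofList_add_length (I := I.map (algebraMap A B))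
    (rs.map (algebraMap A B)) (B ⊗[A] M) (hrs.of_flat_of_isBaseChange (TensorProduct.isBaseChange A M B))
    (fun r hr => by obtain ⟨a, ha, rfl⟩ := List.mem_map.mp hr; exact Ideal.mem_map_of_mem _ (hI a ha))
  rw [h0', zero_add, List.length_map, hlen] at hdrop
  rw [← hdrop, ← hd]
  exact le_rfl

end Groth.Agent.S2938
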