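import Groth.Statements.S2957
import Groth.Agent.RootBase.Weyl
import Mathlib.Tactic

set_option autoImplicit false
open RootPairing
open scoped Pointwise
universe u
open RootD

namespace Groth.Agent.S2957

section
open Groth.Agent.RootBase
open scoped Classical
variable {ι R M N : Type*} [CommRing R] [CharZero R] [IsDomain R] [AddCommGroup M] [Module R M]
    [AddCommGroup N] [Module R N] {P : RootPairing ι R M N} [Finite ι] [P.IsCrystallographic] [P.IsReduced]
    (b : P.Base)

/-- Inversion count. -/
noncomputable def inv' (g : P.Aut) : ℕ := Set.ncard {i | b.IsPos i ∧ ¬ b.IsPos (g • i)}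

lemma inv'_lt {g : P.Aut} {j : ι} (hj : j ∈ b.support) (hjn : ¬ b.IsPos (g • j)) :
    inv' b (g * RootPairing.Equiv.reflection P j) < inv' b g := by
  have hjp := RootPairing.Base.isPos_of_mem_support hj
  unfold inv'
  rw [← Set.ncard_image_of_injective _ (P.reflectionPerm j).injective]
  refine Set.ncard_lt_ncard (ssubset_of_subset_of_ne ?_ ?_) (Set.toFinite _)
  · rintro _ ⟨i, ⟨hi, hi'⟩, rfl⟩
    rw [mul_smul, reflection_smul_idx] at hi'
    have hne : i ≠ j := by
      rintro rfl
      rw [neg_perm, isPos_neg_iff, not_not] at hi'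
      exact hjn hi'
    exact ⟨hi.reflectionPerm hj hne, hi'⟩
  · intro e
    have hjm : j ∈ {i | b.IsPos i ∧ ¬ b.IsPos (g • i)} := ⟨hjp, hjn⟩
    rw [← e] at hjm
    obtain ⟨i, ⟨hi, -⟩, hij⟩ := hjm
    have : i = P.reflectionPerm j j := by rw [← P.reflectionPerm_self j i, hij]
    exact (isPos_neg_iff b j).mp (this ▸ hi) hjp

lemma span_invariant (α γ : ι) {v : P.Aut}
    (hv : v ∈ Subgroup.closure {RootPairing.Equiv.reflection P α, RootPairing.Equiv.reflection P γ}) :
    ∀ x ∈ Submodule.span ℤ ({P.root α, P.root γ} : Set M), v • x ∈ Submodule.span ℤ ({P.root α, P.root γ} : Set M) := by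
  have hgen : ∀ i ∈ ({α, γ} : Set ι), ∀ x ∈ Submodule.span ℤ ({P.root α, P.root γ} : Set M),
      RootPairing.Equiv.reflection P i • x ∈ Submodule.span ℤ ({P.root α, P.root γ} : Set M) := by
    intro i hi x hx
    have hroot : P.root i ∈ Submodule.span ℤ ({P.root α, P.root γ} : Set M) := by
      rcases hi with rfl | rfl <;> exact Submodule.subset_span (by simp)
    induction hx using Submodule.span_induction with
    | mem y hy =>
      have hk : ∀ k, RootPairing.Equiv.reflection P i • P.root k = P.root k - P.pairingIn ℤ k i • P.root i := by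
        intro k
        rw [← root_smul, reflection_smul_idx, P.root_reflectionPerm, P.reflection_apply_root,
          ← P.algebraMap_pairingIn ℤ, algebraMap_int_eq, eq_intCast, Int.cast_smul_eq_zsmul]
      rcases hy with rfl | rfl <;> rw [hk] <;>
        exact sub_mem (Submodule.subset_span (by simp)) (Submodule.smul_mem _ _ hroot)
    | zero => rw [smul_zero]; exact zero_mem _
    | add y z _ _ hy hz => rw [smul_add]; exact add_mem hy hz
    | smul c y _ hy => rw [smul_comm]; exact Submodule.smul_mem _ c hy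
  induction hv using Subgroup.closure_induction'' with
  | one => simp
  | mem g hg => rcases hg with rfl | rfl; exacts [hgen α (by simp), hgen γ (by simp)]
  | inv_mem g hg =>
    rcases hg with rfl | rfl <;> rw [RootPairing.Equiv.reflection_inv]
    exacts [hgen α (by simp), hgen γ (by simp)]
  | mul g h _ _ hg hh => intro x hx; rw [mul_smul]; exact hg _ (hh x hx)

lemma height_comb {i j k : ι} {a c : ℤ} (hk : P.root k = a • P.root i + c • P.root j) :
    b.height k = a * b.height i + c * b.height j := by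
  obtain ⟨f, -, -, hf⟩ := b.exists_root_eq_sum_int i
  obtain ⟨g, -, -, hg⟩ := b.exists_root_eq_sum_int j
  have hfg : P.root k = ∑ l ∈ b.support, (a • f + c • g) l • P.root l := by
    simp_rw [Pi.add_apply, Pi.smul_apply, add_smul, smul_assoc, Finset.sum_add_distrib,
      ← Finset.smul_sum, ← hf, ← hg, hk]
  simp only [RootPairing.Base.height_eq_sum hf, RootPairing.Base.height_eq_sum hg,
    RootPairing.Base.height_eq_sum hfg, Finset.mul_sum, ← Finset.sum_add_distrib, Pi.add_apply,
    Pi.smul_apply, smul_eq_mul]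

lemma step {α β : ι} (hα : α ∈ b.support) (hβ : β ∈ b.support) {w : P.Aut} (hw : w ∈ P.weylGroup)
    (hwα : w • α = β) (hne : w ≠ 1) :
    ∃ γ ∈ b.support, ∃ u ∈ Subgroup.closure {RootPairing.Equiv.reflection P α, RootPairing.Equiv.reflection P γ},
      (u • α = α ∨ u • α = γ) ∧ inv' b (w * u⁻¹) < inv' b w := by
  obtain ⟨γ, hγ, hγn⟩ : ∃ γ ∈ b.support, ¬ b.IsPos (w • γ) := by
    by_contra h
    push Not at h
    exact hne (eq_one_of_pos b hw fun i hi => pos_of_pos_simple b h hi)
  have hαγ : α ≠ γ := fun e => hγn (by rw [← e, hwα]; exact RootPairing.Base.isPos_of_mem_support hβ)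
  let J := Subgroup.closure {RootPairing.Equiv.reflection P α, RootPairing.Equiv.reflection P γ}
  have hsα : RootPairing.Equiv.reflection P α ∈ J := Subgroup.subset_closure (Set.mem_insert _ _)
  have hsγ : RootPairing.Equiv.reflection P γ ∈ J :=
    Subgroup.subset_closure (Set.mem_insert_of_mem _ rfl)
  have hex : ∃ n, ∃ v ∈ J, inv' b (w * v) = n := ⟨_, 1, one_mem _, rfl⟩
  obtain ⟨v, hv, hvn⟩ := Nat.find_spec hex
  have hmin : ∀ v' ∈ J, inv' b (w * v) ≤ inv' b (w * v') := fun v' hv' =>
    hvn ▸ Nat.find_min' hex ⟨v', hv', rfl⟩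
  have hlt : inv' b (w * v) < inv' b w := (hmin _ hsγ).trans_lt (inv'_lt b hγ hγn)
  have hpα : b.IsPos ((w * v) • α) := by
    by_contra h
    have h1 := inv'_lt b hα h
    rw [mul_assoc] at h1
    exact absurd (hmin _ (mul_mem hv hsα)) (not_le.mpr h1)
  have hpγ : b.IsPos ((w * v) • γ) := by
    by_contra h
    have h1 := inv'_lt b hγ h
    rw [mul_assoc] at h1
    exact absurd (hmin _ (mul_mem hv hsγ)) (not_le.mpr h1)
  refine ⟨γ, hγ, v⁻¹, inv_mem hv, ?_, by rwa [inv_inv]⟩
  have hmem := span_invariant α γ (inv_mem hv) (P.root α) (Submodule.subset_span (by simp))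
  obtain ⟨a, c, hac⟩ := Submodule.mem_span_pair.mp hmem
  rw [← root_smul] at hac
  have hsum : ∑ l ∈ b.support, (Pi.single α a + Pi.single γ c : ι → ℤ) l • P.root l =
      a • P.root α + c • P.root γ := by
    simp [add_smul, Finset.sum_add_distrib, Pi.single_apply, ite_smul, hα, hγ]
  have hsign := b.pos_or_neg_of_sum_smul_root_mem (Pi.single α a + Pi.single γ c)
    (by rw [hsum, hac]; exact Set.mem_range_self _) (by
      intro l hl
      by_contra hl'
      exact hl (by simp [show l ≠ α from fun e => hl' (e ▸ hα), show l ≠ γ from fun e => hl' (e ▸ hγ)]))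
  have hk : P.root ((w * v) • (v⁻¹ • α)) = a • P.root ((w * v) • α) + c • P.root ((w * v) • γ) := by
    rw [root_smul, ← hac, smul_add, smul_comm (w * v) a, smul_comm (w * v) c, root_smul, root_smul]
  have hh := height_comb b hk
  rw [← mul_smul, mul_assoc, mul_inv_cancel, mul_one, hwα, RootPairing.Base.height_one_of_mem_support hβ] at hh
  rw [RootPairing.Base.isPos_iff] at hpα hpγ
  have hnn : 0 ≤ a ∧ 0 ≤ c := by
    rcases hsign with h | h
    · exact ⟨by simpa [hαγ] using h.le α, by simpa [hαγ.symm] using h.le γ⟩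
    · exfalso
      have ha : a ≤ 0 := by simpa [hαγ] using h.le α
      have hc : c ≤ 0 := by simpa [hαγ.symm] using h.le γ
      nlinarith [mul_nonpos_of_nonpos_of_nonneg ha hpα.le, mul_nonpos_of_nonpos_of_nonneg hc hpγ.le]
  have ha1 : a + c ≤ 1 := by nlinarith [hnn.1, hnn.2]
  rcases (show a = 0 ∨ a = 1 by omega) with rfl | rfl
  · have hc : c = 1 := by
      rcases (show c = 0 ∨ c = 1 by omega) with rfl | rfl
      · simp at hh
      · rfl
    exact Or.inr (P.root.injective (by simpa [hc] using hac.symm))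
  · have hc : c = 0 := by omega
    exact Or.inl (P.root.injective (by simpa [hc] using hac.symm))

end

/-- For a finite crystallographic reduced root pairing with a base b: let α, β be simple roots and w an
element of the Weyl group with w(α) = β. Then there are simple roots α = α_0, ..., α_m = β and Weyl
group elements w_0, ..., w_{m-1} with w = w_{m-1} ... w_0, w_i(α_i) = α_{i+1}, and each w_i lying in
the subgroup generated by the reflections in α_i and in a simple root γ_i, where γ_i = α_{i+1}
whenever α_i ≠ α_{i+1}. -/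
theorem result {ι R M N : Type*} [CommRing R] [CharZero R] [IsDomain R] [AddCommGroup M] [Module R M]
    [AddCommGroup N] [Module R N] (P : RootPairing ι R M N) [Finite ι] [P.IsCrystallographic] [P.IsReduced]
    (b : P.Base) (α β : ι) (hα : α ∈ b.support) (hβ : β ∈ b.support) (w : P.Aut) (hw : w ∈ P.weylGroup)
    (hwα : w • α = β) :
    ∃ (m : ℕ) (a : Fin (m + 1) → ι) (ws : Fin m → P.Aut),
      (∀ i, a i ∈ b.support) ∧ a 0 = α ∧ a (Fin.last m) = β ∧
      (∀ i, ws i ∈ P.weylGroup) ∧
      w = (List.ofFn fun i : Fin m => ws (Fin.rev i)).prod ∧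
      (∀ i : Fin m, ws i • a (Fin.castSucc i) = a (Fin.succ i)) ∧
      ∀ i : Fin m, ∃ γ ∈ b.support,
        ws i ∈ Subgroup.closure {Equiv.reflection P (a (Fin.castSucc i)), Equiv.reflection P γ} ∧
        (a (Fin.castSucc i) ≠ a (Fin.succ i) → γ = a (Fin.succ i)) := by
  suffices H : ∀ n, ∀ α ∈ b.support, ∀ w ∈ P.weylGroup, w • α = β → inv' b w = n →
      ∃ (m : ℕ) (a : Fin (m + 1) → ι) (ws : Fin m → P.Aut),
      (∀ i, a i ∈ b.support) ∧ a 0 = α ∧ a (Fin.last m) = β ∧
      (∀ i, ws i ∈ P.weylGroup) ∧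
      w = (List.ofFn ws).reverse.prod ∧
      (∀ i : Fin m, ws i • a (Fin.castSucc i) = a (Fin.succ i)) ∧
      ∀ i : Fin m, ∃ γ ∈ b.support,
        ws i ∈ Subgroup.closure {Equiv.reflection P (a (Fin.castSucc i)), Equiv.reflection P γ} ∧
        (a (Fin.castSucc i) ≠ a (Fin.succ i) → γ = a (Fin.succ i)) by
    obtain ⟨m, a, ws, h1, h2, h3, h4, h5, h6, h7⟩ := H _ α hα w hw hwα rfl
    refine ⟨m, a, ws, h1, h2, h3, h4, ?_, h6, h7⟩
    rw [h5]
    congr 1
    apply List.ext_getElem (by simp)
    intro i h1 h2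
    simp only [List.getElem_reverse, List.getElem_ofFn]
    congr 1
    ext
    simp [Fin.rev]
    omega
  intro n
  induction n using Nat.strongRecOn with
  | ind n ih =>
    intro α hα w hw hwα hn
    by_cases hne : w = 1
    · subst hne
      refine ⟨0, fun _ => α, Fin.elim0, fun _ => hα, rfl, by simpa using hwα, fun i => i.elim0, by simp,
        fun i => i.elim0, fun i => i.elim0⟩
    obtain ⟨γ, hγ, u, hu, huα, hlt⟩ := step b hα hβ hw hwα hne
    have hle : Subgroup.closure {Equiv.reflection P α, Equiv.reflection P γ} ≤ P.weylGroup :=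
      (Subgroup.closure_le _).mpr (by
        rintro _ (rfl | rfl) <;> exact P.reflection_mem_weylGroup _)
    have huW := hle hu
    have hαs : u • α ∈ b.support := by rcases huα with h | h <;> rw [h] <;> assumption
    obtain ⟨m, a, ws, h1, h2, h3, h4, h5, h6, h7⟩ := ih _ (hn ▸ hlt) (u • α) hαs (w * u⁻¹)
      (mul_mem hw (inv_mem huW)) (by rw [mul_smul, inv_smul_smul, hwα]) rfl
    refine ⟨m + 1, Fin.cons α a, Fin.cons u ws, Fin.cases hα h1, rfl, ?_, Fin.cases huW h4, ?_,
      Fin.cases (by simp [h2]) (fun i => ?_), Fin.cases ⟨γ, hγ, ?_, ?_⟩ (fun i => ?_)⟩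
    · rw [← Fin.succ_last, Fin.cons_succ, h3]
    · rw [List.ofFn_succ]
      simp only [Fin.cons_zero, Fin.cons_succ, List.reverse_cons, List.prod_append, List.prod_singleton]
      rw [← h5, inv_mul_cancel_right]
    · simp [← Fin.succ_castSucc, h6]
    · simpa using hu
    · intro hd
      simp only [Fin.castSucc_zero, Fin.cons_zero, Fin.cons_succ, h2] at hd ⊢
      exact (huα.resolve_left fun h => hd h.symm).symm
    · simpa [← Fin.succ_castSucc] using h7 i

end Groth.Agent.S2957
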