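import Groth.Statements.S2965
import Mathlib
-- import your own Groth.Agent.* helpers here

set_option autoImplicit false
universe u
open SGA3t2b

namespace Groth.Agent.S2965

open Polynomial in
/-- Implication (iv) ⇒ (i) (global form, finite free module): let u be an endomorphism of a finite free
module M over a commutative ring A whose characteristic polynomial is X^r · Q with Q(0) invertible.
Then M is the direct sum of two u-stable submodules M', M'' such that u is nilpotent on M' and
bijective on M''. -/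
theorem result {A : Type u} [CommRing A] {M : Type u} [AddCommGroup M] [Module A M]
    [Module.Free A M] [Module.Finite A M] (u : M →ₗ[A] M) (r : ℕ) (Q : A[X]) (hQ : IsUnit (Q.coeff 0))
    (h : u.charpoly = X ^ r * Q) :
    ∃ M' M'' : Submodule A M, IsCompl M' M'' ∧ (∀ x ∈ M', u x ∈ M') ∧ (∀ x ∈ M'', u x ∈ M'') ∧
      (∃ n : ℕ, ∀ x ∈ M', (u ^ n) x = 0) ∧ Set.BijOn u M'' M'' := by
  classical
  set P := Polynomial.aeval u Q with hP
  have hcop : IsCoprime (X : A[X]) Q := by
    obtain ⟨c, hc⟩ := hQ.exists_left_inv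
    refine ⟨-(C c * Q.divX), C c, ?_⟩
    calc -(C c * Q.divX) * X + C c * Q
        = -(C c * Q.divX) * X + C c * (Q.divX * X + C (Q.coeff 0)) := by rw [Q.divX_mul_X_add]
      _ = C c * C (Q.coeff 0) := by ring
      _ = 1 := by rw [← C_mul, hc, C_1]
  obtain ⟨α, β, hab⟩ := hcop
  have hcr : IsCoprime ((X : A[X]) ^ r) Q := IsCoprime.pow_left ⟨α, β, hab⟩
  have hXr : Polynomial.aeval u ((X : A[X]) ^ r) = u ^ r := by simp
  have hcomm : ∀ x, P (u x) = u (P x) := fun x => by
    have e : Polynomial.aeval u (Q * X) = Polynomial.aeval u (X * Q) := by rw [mul_comm]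
    simpa [hP] using congrArg (fun f : M →ₗ[A] M => f x) e
  refine ⟨LinearMap.ker (u ^ r), LinearMap.ker P, ⟨?_, ?_⟩, ?_, ?_, ⟨r, fun x hx => hx⟩, ?_⟩
  · rw [← hXr]
    exact Polynomial.disjoint_ker_aeval_of_isCoprime u hcr
  · rw [codisjoint_iff, ← hXr, hP, Polynomial.sup_ker_aeval_eq_ker_aeval_mul_of_coprime u hcr, ← h,
      LinearMap.aeval_self_charpoly, LinearMap.ker_zero]
  · intro x hx
    rw [LinearMap.mem_ker] at hx ⊢
    rw [← Module.End.mul_apply, ← pow_succ, pow_succ', Module.End.mul_apply, hx, map_zero]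
  · intro x hx
    rw [LinearMap.mem_ker] at hx ⊢
    rw [hcomm, hx, map_zero]
  · have key : ∀ x ∈ LinearMap.ker P, (Polynomial.aeval u α) (u x) = x := fun x hx => by
      have := congrArg (fun f : M →ₗ[A] M => f x) (congrArg (Polynomial.aeval u) hab)
      simpa [← hP, LinearMap.mem_ker.mp hx] using this
    refine ⟨fun x hx => ?_, fun x hx y hy hxy => ?_, fun x hx => ?_⟩
    · rw [SetLike.mem_coe, LinearMap.mem_ker] at hx ⊢
      rw [hcomm, hx, map_zero]
    · rw [← key x hx, ← key y hy, hxy]
    · refine ⟨Polynomial.aeval u α x, ?_, ?_⟩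
      · rw [SetLike.mem_coe, LinearMap.mem_ker] at hx ⊢
        rw [hP, ← Module.End.mul_apply, ← map_mul, mul_comm, map_mul, Module.End.mul_apply, ← hP,
          hx, map_zero]
      · have e : Polynomial.aeval u (α * X) = Polynomial.aeval u (X * α) := by rw [mul_comm]
        have e' := congrArg (fun f : M →ₗ[A] M => f x) e
        simp at e'
        rw [← e']
        exact key x hx

end Groth.Agent.S2965
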