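import Groth.Statements.S2967
import Mathlib
-- import your own Groth.Agent.* helpers here

set_option autoImplicit false
universe u
open SGA3t2b

namespace Groth.Agent.S2967

/-- A commutative p-Lie algebra over a field k of characteristic p is recorded as a k-vector space g
together with its p-th power map φ, which is additive and Frobenius-semilinear. Let g be
finite-dimensional and non-zero, and assume every element of g is killed by some iterate of φ (g is
unipotent). Then the k-subspace of g spanned by the image φ(g) is a proper subspace. -/
theorem result {k : Type u} [Field k] (p : ℕ) [Fact p.Prime] [CharP k p]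
    {V : Type u} [AddCommGroup V] [Module k V] [FiniteDimensional k V] [Nontrivial V]
    (φ : V →ₛₗ[frobenius k p] V) (hφ : ∀ x : V, ∃ n : ℕ, φ^[n] x = 0) :
    Submodule.span k (Set.range φ) ≠ ⊤ := by
  intro htop
  have hspan : ∀ n : ℕ, Submodule.span k (Set.range (φ^[n])) = ⊤ := by
    intro n
    induction n with
    | zero => simp
    | succ n ih =>
      rw [eq_top_iff, ← htop, Submodule.span_le]
      rintro _ ⟨x, rfl⟩
      have hx : x ∈ Submodule.span k (Set.range (φ^[n])) := by rw [ih]; trivial
      induction hx using Submodule.span_induction with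
      | mem y hy =>
        obtain ⟨z, rfl⟩ := hy
        exact Submodule.subset_span ⟨z, Function.iterate_succ_apply' φ n z⟩
      | zero => simp
      | add y y' _ _ hy hy' => simpa using Submodule.add_mem _ hy hy'
      | smul c y _ hy => simpa using Submodule.smul_mem _ _ hy
  let b := Module.finBasis k V
  choose N hN using fun i => hφ (b i)
  obtain ⟨M, hM⟩ : ∃ M, ∀ x : V, φ^[M] x = 0 := by
    refine ⟨Finset.univ.sup N, fun x => ?_⟩
    have h0 : ∀ i, φ^[Finset.univ.sup N] (b i) = 0 := fun i => by
      obtain ⟨j, hj⟩ := Nat.exists_eq_add_of_le (Finset.le_sup (f := N) (Finset.mem_univ i))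
      rw [hj, Nat.add_comm, Function.iterate_add_apply, hN i]
      exact iterate_map_zero φ j
    have hsm : ∀ (m : ℕ) (c : k) (y : V), φ^[m] y = 0 → φ^[m] (c • y) = 0 := by
      intro m
      induction m with
      | zero => intro c y hy; simp_all
      | succ m ih =>
        intro c y hy
        rw [Function.iterate_succ_apply] at hy ⊢
        rw [φ.map_smulₛₗ]
        exact ih _ _ hy
    have hxm : x ∈ Submodule.span k (Set.range b) := b.mem_span x
    induction hxm using Submodule.span_induction with
    | mem y hy => obtain ⟨i, rfl⟩ := hy; exact h0 i
    | zero => exact iterate_map_zero φ _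
    | add y y' _ _ hy hy' => rw [iterate_map_add, hy, hy', add_zero]
    | smul c y _ hy => exact hsm _ c y hy
  have h := hspan M
  rw [show Set.range (φ^[M]) = {0} from Set.eq_singleton_iff_unique_mem.2
    ⟨⟨0, hM 0⟩, by rintro _ ⟨x, rfl⟩; exact hM x⟩, Submodule.span_zero_singleton] at h
  exact bot_ne_top h

end Groth.Agent.S2967
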