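import Groth.Statements.S2969
import Groth.Agent.CommGrpDecomp.SepSplit
import Groth.Agent.MultType.Quot


set_option autoImplicit false
universe u
open TensorProduct SGA3b
open SGA3b

namespace Groth.Agent.S2969

open Groth.Agent.CommGrpDecomp
open scoped TensorProduct

theorem isDiagFT_of_diag {k L : Type u} [Field k] [Field L] [Algebra k L] {A : Type u} [CommRing A] [HopfAlgebra k A]
    [Algebra.FiniteType k A] (hL : HopfRep.IsDiagonalizable L (L ⊗[k] A)) : SGA3b.IsDiagFT L (L ⊗[k] A) := by
  obtain ⟨M, _, ⟨e⟩⟩ := Groth.Agent.MultType.isDiag_of_groupLike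
    (G := GroupLike L (L ⊗[k] A))
    { toFun := fun g => (g : L ⊗[k] A)
      map_one' := rfl
      map_mul' := fun _ _ => rfl } (fun g => g.2) (by
      rw [eq_top_iff, ← hL]
      exact Submodule.span_mono fun x hx => ⟨⟨x, hx⟩, rfl⟩)
  have hFT : Algebra.FiniteType L (L ⊗[k] A) := inferInstance
  have ef : L ⊗[k] A ≃ₐ[L] MonoidAlgebra L M := e
  exact ⟨M, inferInstance, MonoidAlgebra.finiteType_iff_group_fg.1 (hFT.equiv ef), ⟨e⟩⟩


/-- Let k be a field and H = Spec A a k-group of multiplicative type and of finite type. Then H is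
isotrivial: there is a finite separable extension k' of k over which H becomes diagonalisable (of
finite type). (Affine group schemes over an affine base are taken in Hopf-algebra form; base change
is the tensor product.) -/
theorem result (k : Type u) [Field k] (A : Type u) [CommRing A] [HopfAlgebra k A]
    (hft : Algebra.FiniteType k A) (h : IsMultType k A) :
    ∃ (k' : Type u) (_ : Field k') (_ : Algebra k k'), Module.Finite k k' ∧ Algebra.IsSeparable k k' ∧ IsDiagFT k' (k' ⊗[k] A) := by
  haveI := hft
  obtain ⟨K, _, _, hD⟩ := exists_field_diag_of_isMultType h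
  obtain ⟨L, hfin, hsep, hL⟩ := exists_finite_separable_diag hD
  refine ⟨L, inferInstance, inferInstance, hfin, hsep, ?_⟩
  exact isDiagFT_of_diag hL

end Groth.Agent.S2969
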