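import Groth.Statements.S2978
import Mathlib.RingTheory.Noetherian.Basic
import Mathlib.Algebra.BigOperators.Pi
import Mathlib.Data.Fintype.BigOperators
-- import your own Groth.Agent.* helpers here

set_option autoImplicit false
universe u
open SGA3b

namespace Groth.Agent.S2978

/-- Let A be a Noetherian ring, M a set and a : M × M → A a family vanishing off the diagonal which is a
finite sum of decomposable families: a(m, m') = Σ_i b_i(m) c_i(m') for finitely many b_i, c_i : M →
A. Then a has finite support. -/
theorem result (A : Type u) [CommRing A] [IsNoetherianRing A] (M : Type u)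
    (a : M × M → A) (hdiag : ∀ m m', m ≠ m' → a (m, m') = 0)
    (ι : Type u) [Fintype ι] (b c : ι → M → A) (hdec : ∀ m m', a (m, m') = ∑ i, b i m * c i m') :
    Set.Finite {p : M × M | a p ≠ 0} := by
  classical
  obtain ⟨t, ht, ht'⟩ := (Submodule.fg_span_iff_fg_span_finset_subset (R := A) (Set.range fun m => fun i => c i m)).1
    (IsNoetherian.noetherian (R := A) _)
  choose g hg using fun x : t => ht x.2
  refine ((Set.finite_range g).prod (Set.finite_range g)).subset fun p hp => ?_
  obtain ⟨m, m'⟩ := p
  have hmm : m = m' := by_contra fun h => hp (hdiag m m' h)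
  subst hmm
  suffices m ∈ Set.range g from ⟨this, this⟩
  by_contra hm
  have hc : (fun i => c i m) ∈ Submodule.span A (t : Set (ι → A)) :=
    ht' ▸ Submodule.subset_span ⟨m, rfl⟩
  have key : ∀ v ∈ Submodule.span A (t : Set (ι → A)), ∑ i, b i m * v i = 0 := by
    intro v hv
    induction hv using Submodule.span_induction with
    | mem x hx =>
      rw [show x = fun i => c i (g ⟨x, hx⟩) from (hg ⟨x, hx⟩).symm]
      exact (hdec m _).symm.trans (hdiag _ _ fun h => hm ⟨⟨x, hx⟩, h.symm⟩)
    | zero => simp
    | add x y _ _ hx hy => simp [mul_add, Finset.sum_add_distrib, hx, hy]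
    | smul r x _ hx => simp [mul_left_comm, ← Finset.mul_sum, hx]
  exact hp ((hdec m m).trans (key _ hc))

end Groth.Agent.S2978
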