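import Groth.Statements.S2983
import Groth.Agent.MultType.Connected
-- import your own Groth.Agent.* helpers here

set_option autoImplicit false
universe u
open TensorProduct SGA3b
open SGA3b

namespace Groth.Agent.S2983

/-- Let R be a ring with connected spectrum (no idempotents other than 0 and 1), G = Spec A a
diagonalisable R-group of finite type, and H = Spec (A/J) a closed subgroup (J a Hopf ideal) which
is of multiplicative type. Then H is diagonalisable. (Affine group schemes over an affine base are
taken in Hopf-algebra form; base change is the tensor product.) -/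
theorem result (R : Type u) [CommRing R] (A : Type u) [CommRing A] [HopfAlgebra R A] [Nontrivial R] (hconn : ∀ e : R, IsIdempotentElem e → e = 0 ∨ e = 1)
    (hG : IsDiagFT R A) (J : Ideal A) [J.IsHopfIdeal R] (hH : IsMultType R (A ⧸ J)) : IsDiag R (A ⧸ J) := by
  obtain ⟨M, _, -, ⟨e⟩⟩ := hG
  let π : MonoidAlgebra R M →ₐc[R] A ⧸ J := (Bialgebra.Quotient.mkBialgHom J).comp e.symm.toBialgHom
  let ζ : M →* A ⧸ J := (π : MonoidAlgebra R M →* A ⧸ J).comp (MonoidAlgebra.of R M)
  refine MultType.isDiag_of_groupLike_of_connected hH hconn ζ
    (fun g => (MonoidAlgebra.isGroupLikeElem_of g).map π) (top_unique fun q _ => ?_)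
  obtain ⟨a, rfl⟩ := Ideal.Quotient.mk_surjective q
  have h : ∀ y : MonoidAlgebra R M, π y ∈ Submodule.span R (Set.range ζ) := by
    intro y
    induction y using MonoidAlgebra.induction_linear with
    | zero => simp
    | single m r =>
      rw [show MonoidAlgebra.single m r = r • MonoidAlgebra.of R M m by simp, map_smul]
      exact Submodule.smul_mem _ _ (Submodule.subset_span ⟨m, rfl⟩)
    | add x y hx hy => rw [map_add]; exact add_mem hx hy
  have h1 := h (e a)
  rwa [show π (e a) = Ideal.Quotient.mk J (e.symm (e a)) from rfl, e.symm_apply_apply] at h1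

end Groth.Agent.S2983
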