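import Groth.Statements.S2986
import Groth.Agent.SmoothWeil.Main

set_option autoImplicit false
universe u
open TensorProduct
open SGA3b

namespace Groth.Agent.S2986
open AlgebraicGeometry CategoryTheory

/-- Let R be a ring, B a smooth R-algebra whose geometric fibres are connected (for every algebraically
closed field K under R, Spec (K ⊗_R B) is connected), e : B → R an R-algebra section with kernel 𝔪,
and J a finitely generated ideal of B (a finitely presented closed subscheme Y of X = Spec B). Then
there is n ≥ 0 such that for every R-algebra R': the base change of X to R' lies in Y (every element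
of J becomes zero in R' ⊗_R B) if and only if the base change of the n-th infinitesimal
neighbourhood Spec (B/𝔪^(n+1)) of the section lies in Y. (The published statement is for a general
base and X; this is the affine case.) -/
theorem result (R B : Type u) [CommRing R] [CommRing B] [Algebra R B]
    [Algebra.Smooth R B]
    (hconn : ∀ (K : Type u) [Field K] [IsAlgClosed K] [Algebra R K], ConnectedSpace (PrimeSpectrum (K ⊗[R] B)))
    (e : B →ₐ[R] R) (J : Ideal B) (hJ : J.FG) :
    ∃ n : ℕ, ∀ (R' : Type u) [CommRing R'] [Algebra R R'],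
      (∀ x ∈ J, (1 : R') ⊗ₜ[R] x = (0 : R' ⊗[R] B)) ↔
        (∀ x ∈ J, (1 : R') ⊗ₜ[R] (Ideal.Quotient.mk (RingHom.ker e ^ (n + 1)) x) = (0 : R' ⊗[R] (B ⧸ RingHom.ker e ^ (n + 1)))) := by
  have hdom : ∀ (C : Type u) [CommRing C] [Algebra R C], SmoothWeil.DomFibres C (C ⊗[R] B) := by
    intro C _ _
    let f := Spec.map (CommRingCat.ofHom (algebraMap R B))
    haveI : Smooth f := by
      rw [HasRingHomProperty.Spec_iff (P := @Smooth)]
      exact RingHom.smooth_algebraMap.mpr inferInstance
    haveI : GeometricallyConnected f := by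
      refine SmoothWeil.geometricallyConnected_of_algClosed fun K _ _ y => ?_
      obtain ⟨ψ, rfl⟩ := Spec.map_surjective y
      letI := ψ.hom.toAlgebra
      haveI : ConnectedSpace ↥(Spec (CommRingCat.of (K ⊗[R] B))) := hconn K
      let e := (CategoryTheory.Limits.pullbackSymmetry f (Spec.map ψ)).inv
      let e' := (pullbackSpecIso R K B).inv ≫ e
      exact (Scheme.Hom.homeomorph e').surjective.connectedSpace (Scheme.Hom.homeomorph e').continuous
    let v := 𝟙 (Spec (CommRingCat.of R))
    let ρ : Spec (CommRingCat.of B) ⟶ CategoryTheory.Limits.pullback f v :=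
      inv (CategoryTheory.Limits.pullback.fst f v)
    have hρ : ρ ≫ CategoryTheory.Limits.pullback.snd f v = Spec.map (CommRingCat.ofHom (algebraMap R B)) := by
      rw [IsIso.inv_comp_eq, CategoryTheory.Limits.pullback.condition, Category.comp_id]
    obtain ⟨ρ', hρ', hs, -⟩ := SmoothWeil.exists_bcChart (K := C) v ρ hρ
    haveI := hρ'
    exact SmoothWeil.domFibres_of_openImmersion _ ρ' hs
  obtain ⟨L, hL, hLfg⟩ := SmoothWeil.exists_inf_ideal e J
  obtain ⟨-, n, hn⟩ := hLfg hJ
  refine ⟨n, fun R' _ _ => ⟨fun h x hx => ?_, fun h x hx => ?_⟩⟩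
  · rw [← SmoothWeil.mem_pow_iff, h x hx]
    exact zero_mem _
  · exact SmoothWeil.eq_zero_of_forall_mem_pow (SmoothWeil.eC e R') (hdom R') _
      ((hL R').mpr (hn R' fun b hb => (SmoothWeil.mem_pow_iff e (n + 1) b).mpr (h b hb)) x hx)

end Groth.Agent.S2986
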