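import Groth.Statements.S3006
import Groth.Agent.Transporter.Normalizer
import Groth.Agent.GrpSchField.Shear
import Groth.Agent.FactLocus.AffineHom

set_option autoImplicit false
universe u
open CategoryTheory MonoidalCategory CartesianMonoidalCategory MonObj GrpObj AlgebraicGeometry
open Red
open Groth.Agent.Transporter

set_option backward.isDefEq.respectTransparency false

namespace Groth.Agent.S3006

/-- Let S be a scheme, G an S-group scheme smooth and of finite presentation over S, and q : Q → G a
closed subgroup scheme which is a torus. Then the centralizer and the normalizer of Q in G exist as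
closed subgroup schemes of G (characterized on points as in `Red.IsCentralizerOf` /
`Red.IsNormalizerOf`) and are smooth over S. -/
theorem result (S : Scheme.{u}) (G Q : Over S) [GrpObj G] [GrpObj Q] [Smooth G.hom] [LocallyOfFinitePresentation G.hom] [QuasiCompact G.hom] [QuasiSeparated G.hom] (q : Q ⟶ G) [IsMonHom q] (hq : IsClosedImmersion q.left) (hQ : Red.IsTorus Q) : (∃ (Z : Over S) (_ : GrpObj Z) (z : Z ⟶ G), Red.IsCentralizerOf q z ∧ IsClosedImmersion z.left ∧ Smooth Z.hom) ∧ ∃ (N : Over S) (_ : GrpObj N) (n : N ⟶ G), Red.IsNormalizerOf q n ∧ IsClosedImmersion n.left ∧ Smooth N.hom := by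
  have hFT : SGA3x.IsMultTypeFT Q := by
    obtain ⟨S', f, hflat, hsurj, hcov, hloc⟩ := hQ
    exact ⟨S', f, hflat, hsurj, hcov, fun x =>
      let ⟨U, hU, r, h⟩ := hloc x; ⟨U, hU, Fin r → ℤ, inferInstance, inferInstance, h⟩⟩
  have h := isMT_of_isMultTypeFT Q hFT
  haveI := hq
  haveI : IsAffineHom Q.hom := FactLocus.isAffineHom_of_isMultTypeFT Q hFT
  haveI : IsClosedImmersion (η[Q]).left := by
    haveI : IsClosedImmersion ((η[Q]).left ≫ Q.hom) := by
      rw [show (η[Q]).left ≫ Q.hom = 𝟙 S from Over.w η[Q]]
      exact inferInstanceAs (IsClosedImmersion (𝟙 S))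
    exact IsClosedImmersion.of_comp _ Q.hom
  haveI : IsClosedImmersion (η[G]).left := by
    rw [← IsMonHom.one_hom q]
    exact inferInstanceAs (IsClosedImmersion ((η[Q]).left ≫ q.left))
  haveI : IsSeparated G.hom := ⟨GrpSchField.diagonal_of_unit @IsClosedImmersion ‹_›⟩
  haveI : LocallyOfFinitePresentation q.left :=
    FibrewiseCrit.locallyOfFinitePresentation_of_comp q.left G.hom
      (by rw [Over.w q]; exact FactLocus.locallyOfFinitePresentation_of_isMultTypeFT Q hFT) inferInstance
  obtain ⟨Z, iZ, z, hz, hzc, hzs⟩ := exists_centralizer h q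
  exact ⟨⟨Z, iZ, z, hz, hzc, hzs inferInstance⟩, exists_normalizer h q⟩

end Groth.Agent.S3006
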