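import Groth.Statements.S3015
import Mathlib
import Groth.Agent.GrpSchField.Subgroup
-- import your own Groth.Agent.* helpers here

set_option autoImplicit false
universe u
open CategoryTheory MonoidalCategory CartesianMonoidalCategory MonObj GrpObj AlgebraicGeometry TensorProduct
open SGA3

namespace Groth.Agent.S3015

/-- Let A be a local artinian ring, G a group scheme over A, and U, V dense open subsets of G. Then U ·
V, the image of U ×_A V under the multiplication, is the whole underlying space of G: every point of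
G is the product of a point of G ×_A G whose two projections lie in U and V. -/
theorem result (A : Type u) [CommRing A] [IsArtinianRing A] [IsLocalRing A]
    (G : Over (Spec (CommRingCat.of A))) [GrpObj G] (U V : G.left.Opens)
    (hU : Dense (U : Set G.left)) (hV : Dense (V : Set G.left)) (g : G.left) :
    ∃ z : ↥(G ⊗ G).left, (fst G G).left.base z ∈ U ∧ (snd G G).left.base z ∈ V ∧ μ[G].left.base z = g := by
  let k : Type u := IsLocalRing.ResidueField A
  let g₀ : Spec (CommRingCat.of k) ⟶ Spec (CommRingCat.of A) :=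
    Spec.map (CommRingCat.ofHom (IsLocalRing.residue A))
  let F := Over.pullback g₀
  let G₀ : Over (Spec (CommRingCat.of k)) := F.obj G
  let : GrpObj G₀ := Functor.grpObjObj (F := F) (G := G)
  have : Subsingleton (Spec (CommRingCat.of A)) :=
    ⟨fun p q => PrimeSpectrum.ext ((IsLocalRing.eq_maximalIdeal (IsArtinianRing.isMaximal_of_isPrime p.asIdeal)).trans
      (IsLocalRing.eq_maximalIdeal (IsArtinianRing.isMaximal_of_isPrime q.asIdeal)).symm)⟩
  have : IsClosedImmersion g₀ := IsClosedImmersion.spec_of_surjective _ IsLocalRing.residue_surjective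
  let p : G₀.left ⟶ G.left := Limits.pullback.fst G.hom g₀
  have : IsClosedImmersion p := MorphismProperty.pullback_fst _ _ inferInstance
  have : Surjective g₀ := ⟨fun x => ⟨IsLocalRing.closedPoint k, Subsingleton.elim _ _⟩⟩
  have : Surjective p := MorphismProperty.pullback_fst _ _ inferInstance
  have hp : IsHomeomorph p := isHomeomorph_iff_isEmbedding_surjective.mpr ⟨p.isEmbedding, p.surjective⟩
  have hU' : Dense ((p ⁻¹ᵁ U : G₀.left.Opens) : Set G₀.left) := hU.preimage hp.isOpenMap
  have hV' : Dense ((p ⁻¹ᵁ V : G₀.left.Opens) : Set G₀.left) := hV.preimage hp.isOpenMap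
  obtain ⟨g', hg'⟩ := p.surjective g
  obtain ⟨z, ⟨hz1, hz2⟩, hz3⟩ :=
    (Groth.Agent.GrpSchField.mulSet_dense (p ⁻¹ᵁ U) (p ⁻¹ᵁ V) hU' hV').ge (Set.mem_univ g')
  let q : (G₀ ⊗ G₀).left ⟶ (G ⊗ G).left := (Functor.LaxMonoidal.μ F G G).left ≫ Limits.pullback.fst (G ⊗ G).hom g₀
  have hfst : q ≫ (fst G G).left = (fst G₀ G₀).left ≫ p := by
    rw [← show Functor.LaxMonoidal.μ F G G ≫ F.map (fst G G) = fst G₀ G₀ from Functor.Monoidal.μ_fst F G G]
    rw [Category.assoc, Over.comp_left, Category.assoc]
    congr 1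
    exact (Limits.pullback.lift_fst _ _ _).symm
  have hsnd : q ≫ (snd G G).left = (snd G₀ G₀).left ≫ p := by
    rw [← show Functor.LaxMonoidal.μ F G G ≫ F.map (snd G G) = snd G₀ G₀ from Functor.Monoidal.μ_snd F G G]
    rw [Category.assoc, Over.comp_left, Category.assoc]
    congr 1
    exact (Limits.pullback.lift_fst _ _ _).symm
  have hmul : q ≫ μ[G].left = μ[G₀].left ≫ p := by
    show q ≫ μ[G].left = (Functor.LaxMonoidal.μ F G G ≫ F.map μ[G]).left ≫ p
    rw [Category.assoc, Over.comp_left, Category.assoc]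
    congr 1
    exact (Limits.pullback.lift_fst _ _ _).symm
  refine ⟨q z, ?_, ?_, ?_⟩
  · rw [← Scheme.Hom.comp_apply, hfst]; exact hz1
  · rw [← Scheme.Hom.comp_apply, hsnd]; exact hz2
  · rw [← Scheme.Hom.comp_apply, hmul, Scheme.Hom.comp_apply, hz3, hg']

end Groth.Agent.S3015
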