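import Groth.Statements.S3021
import Mathlib.LinearAlgebra.DirectSum.Finsupp
import Mathlib.Algebra.Module.Projective
-- import your own Groth.Agent.* helpers here

set_option autoImplicit false
universe u
open CategoryTheory MonoidalCategory CartesianMonoidalCategory MonObj GrpObj AlgebraicGeometry TensorProduct
open SGA3

namespace Groth.Agent.S3021

/-- Let A be a commutative ring, C an A-coalgebra which is projective as an A-module, V a C-comodule and
M an A-submodule of V. Then there is a smallest subcomodule of V containing M, and it is finitely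
generated over A when M is. -/
theorem result (A : Type u) [CommRing A] (C : Type u) [AddCommGroup C] [Module A C]
    [Coalgebra A C] [Module.Projective A C] (V : Type u) [AddCommGroup V] [Module A V] [HopfRep.Comod A C V]
    (M : Submodule A V) :
    ∃ W : Submodule A V, HopfRep.IsSubcomod (k := A) (A := C) W ∧ M ≤ W ∧
      (∀ W' : Submodule A V, HopfRep.IsSubcomod (k := A) (A := C) W' → M ≤ W' → W ≤ W') ∧
      (M.FG → W.FG) := by
  classical
  obtain ⟨s, hs⟩ := Module.projective_def'.1 (inferInstance : Module.Projective A C)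
  let ρ : V →ₗ[A] V ⊗[A] C := HopfRep.Comod.coact (k := A) (A := C)
  let e := TensorProduct.finsuppScalarRight A A V C
  let co : V ⊗[A] C →ₗ[A] (C →₀ V) := e.toLinearMap ∘ₗ s.lTensor V
  let L : (C →₀ V) →ₗ[A] V ⊗[A] C := Finsupp.lsum A fun c => (TensorProduct.mk A V C).flip c
  have hL : ∀ z, L (co z) = z := by
    intro z
    have : L ∘ₗ e.toLinearMap = (Finsupp.linearCombination A (id : C → C)).lTensor V := by
      ext v c
      simp [L, e, TensorProduct.finsuppScalarRight_apply_tmul]
    calc L (co z) = (L ∘ₗ e.toLinearMap) (s.lTensor V z) := rfl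
      _ = ((Finsupp.linearCombination A (id : C → C)).lTensor V ∘ₗ s.lTensor V) z := by rw [this]; rfl
      _ = z := by rw [← LinearMap.lTensor_comp, hs, LinearMap.lTensor_id]; rfl
  let cf : (C →ₗ[A] A) → (V ⊗[A] C →ₗ[A] V) := fun f => (TensorProduct.rid A V).toLinearMap ∘ₗ f.lTensor V
  let S : Submodule A V := Submodule.span A {v | ∃ m ∈ M, ∃ c, co (ρ m) c = v}
  have hcf : ∀ (f : C →ₗ[A] A) z (W : Submodule A V), (∀ c, co z c ∈ W) → cf f z ∈ W := by
    intro f z W h
    rw [← hL z]
    simp only [L, Finsupp.lsum_apply, Finsupp.sum, map_sum]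
    refine Submodule.sum_mem _ fun c _ => ?_
    simp only [cf, LinearMap.flip_apply, TensorProduct.mk_apply, LinearMap.comp_apply,
      LinearMap.lTensor_tmul, LinearEquiv.coe_coe, TensorProduct.rid_tmul]
    exact W.smul_mem _ (h c)
  have hco : ∀ z c, co z c = cf (Finsupp.lapply c ∘ₗ s) z := by
    intro z c
    have : Finsupp.lapply c ∘ₗ co = cf (Finsupp.lapply c ∘ₗ s) := by
      ext v x
      simp [co, cf, e]
    exact LinearMap.congr_fun this z
  have hmem : ∀ m ∈ M, ∀ f, cf f (ρ m) ∈ S := fun m hm f =>
    hcf f _ S fun c => Submodule.subset_span ⟨m, hm, c, rfl⟩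
  refine ⟨S, ?_, ?_, ?_, ?_⟩
  · intro w hw
    induction hw using Submodule.span_induction with
    | mem x hx =>
      obtain ⟨m, hm, c, rfl⟩ := hx
      show ρ _ ∈ _
      rw [hco]
      set f := Finsupp.lapply c ∘ₗ s
      let gg : C →ₗ[A] C := (TensorProduct.rid A C).toLinearMap ∘ₗ f.lTensor C ∘ₗ
        CoalgebraStruct.comul (R := A) (A := C)
      have h1 : ∀ z, ρ (cf f z) = ((TensorProduct.rid A C).toLinearMap ∘ₗ f.lTensor C).lTensor V
          ((TensorProduct.assoc A V C C) (ρ.rTensor C z)) := by
        intro z
        induction z with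
        | zero => simp
        | tmul v x =>
          simp only [cf, LinearMap.comp_apply, LinearMap.lTensor_tmul, LinearEquiv.coe_coe,
            TensorProduct.rid_tmul, map_smul, LinearMap.rTensor_tmul]
          generalize ρ v = y
          induction y with
          | zero => simp
          | tmul a b => simp [TensorProduct.tmul_smul]
          | add a b ha hb => simp only [TensorProduct.add_tmul, map_add, smul_add, ha, hb]
        | add a b ha hb => simp only [map_add, ha, hb]
      have h2 := LinearMap.congr_fun (HopfRep.Comod.coassoc (k := A) (A := C) (V := V)) m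
      simp only [LinearMap.comp_apply, LinearEquiv.coe_coe] at h2
      rw [h1, h2, ← LinearMap.comp_apply, ← LinearMap.lTensor_comp, ← hL (ρ m)]
      simp only [L, Finsupp.lsum_apply, Finsupp.sum, map_sum]
      refine Submodule.sum_mem _ fun d _ => ?_
      simp only [LinearMap.flip_apply, TensorProduct.mk_apply, LinearMap.lTensor_tmul]
      exact ⟨(⟨co (ρ m) d, Submodule.subset_span ⟨m, hm, d, rfl⟩⟩ : S) ⊗ₜ[A] _, rfl⟩
    | zero => simp
    | add x y _ _ hx hy => simpa only [map_add] using add_mem hx hy
    | smul a x _ hx => simpa only [map_smul] using Submodule.smul_mem _ a hx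
  · intro m hm
    have h := hmem m hm (CoalgebraStruct.counit (R := A) (A := C))
    have h2 := LinearMap.congr_fun (HopfRep.Comod.counit_comp (k := A) (A := C) (V := V)) m
    simp only [LinearMap.comp_apply, LinearMap.flip_apply, TensorProduct.mk_apply] at h2
    simpa only [cf, LinearMap.comp_apply, ρ, h2, LinearEquiv.coe_coe, TensorProduct.rid_tmul, one_smul] using h
  · intro W' hW' hMW'
    refine Submodule.span_le.2 ?_
    rintro v ⟨m, hm, c, rfl⟩
    obtain ⟨y, hy⟩ := hW' m (hMW' hm)
    show co (ρ m) c ∈ W'
    rw [hco]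
    show cf _ (HopfRep.Comod.coact (k := A) (A := C) m) ∈ W'
    rw [← hy]
    generalize Finsupp.lapply c ∘ₗ s = f
    clear hy
    induction y with
    | zero => simp
    | tmul v x => simpa [cf] using W'.smul_mem (f x) v.2
    | add a b ha hb => simpa only [map_add] using add_mem ha hb
  · rintro ⟨T, hT⟩
    refine ⟨T.biUnion fun m => (co (ρ m)).support.image fun c => co (ρ m) c, le_antisymm ?_ ?_⟩
    · rw [Submodule.span_le]
      intro v hv
      simp only [Finset.coe_biUnion, Set.mem_iUnion, Finset.coe_image, Set.mem_image] at hv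
      obtain ⟨m, hm, c, -, rfl⟩ := hv
      exact Submodule.subset_span ⟨m, hT ▸ Submodule.subset_span hm, c, rfl⟩
    · refine Submodule.span_le.2 ?_
      rintro v ⟨m, hm, c, rfl⟩
      rw [← hT] at hm
      rw [SetLike.mem_coe]
      induction hm using Submodule.span_induction with
      | mem x hx =>
        by_cases hc : co (ρ x) c = 0
        · simp [hc]
        · exact Submodule.subset_span (Finset.mem_biUnion.2 ⟨x, hx, Finset.mem_image.2 ⟨c, Finsupp.mem_support_iff.2 hc, rfl⟩⟩)
      | zero => simp
      | add x y _ _ hx hy => simpa only [map_add, Finsupp.add_apply] using add_mem hx hy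
      | smul a x _ hx => simpa only [map_smul, Finsupp.smul_apply] using Submodule.smul_mem _ a hx

end Groth.Agent.S3021
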