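import Groth.Statements.S3022
import Groth.Agent.GrpFibreDim.Basic
import Groth.Agent.FibreSemi.Basic
import Groth.Agent.S9355
import Groth.Agent.S9739
import Groth.Agent.SpecSp.Constr
import Groth.Agent.GrpdDim.Equidim
-- import your own Groth.Agent.* helpers here

set_option autoImplicit false
universe u
open CategoryTheory MonoidalCategory CartesianMonoidalCategory MonObj GrpObj AlgebraicGeometry TensorProduct
open SGA3

namespace Groth.Agent.S3022

open AlgebraicGeometry CategoryTheory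

/-- Let S be a scheme and G a group scheme over S which is flat and locally of finite presentation. Then
s ↦ dim G_s (the dimension of the fibre, i.e. of the subspace of G lying over s) is a locally
constant function on S. -/
theorem result (S : Scheme.{u}) (G : Over S) [GrpObj G] [Flat G.hom]
    [LocallyOfFinitePresentation G.hom] :
    IsLocallyConstant (fun s : S => topologicalKrullDim ↥(G.hom.base ⁻¹' {s})) := by
  rw [IsLocallyConstant.iff_exists_open]
  intro s
  obtain ⟨m, hm, -, hmax⟩ := GeomUnib.FibreDimNhds.exists_maximal G.hom (NeutralSet.e1 G s)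
  have hms : G.hom.base m = s := by
    rw [hm]
    show G.hom (NeutralSet.e1 G s) = s
    rw [← Scheme.Hom.comp_apply, NeutralSet.e1_w]
    rfl
  have hdim : ∀ x : G.left, topologicalKrullDim ↥(G.hom.base ⁻¹' {G.hom.base x}) = FlatMor.fibreDimAt G.hom x :=
    fun x => (GrpFibreDim.fibreDimAt_eq G x).symm
  have hgen : ∃ Z ∈ irreducibleComponents ↥(G.hom.fiber (G.hom m)), IsGenericPoint (G.hom.asFiber m) Z := by
    refine ⟨_, (GrpdDim.maximal_iff _).1 fun t ht => ?_, isGenericPoint_closure⟩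
    apply (G.hom.fiberι (G.hom m)).isEmbedding.injective
    rw [G.hom.fiberι_asFiber]
    refine hmax _ ((G.hom.range_fiberι (G.hom m)).le ⟨t, rfl⟩) (specializes_iff_mem_closure.1 ?_)
    have := ht.map (G.hom.fiberι (G.hom m)).continuous
    exact (G.hom.fiberι_asFiber m).subst (motive := fun z => G.hom.fiberι (G.hom m) t ⤳ z) this
  obtain ⟨O, hmO, hO⟩ := GeomUnib.exists_nhds_fibreDimAt_le G.hom m
  obtain ⟨W, hW, hmW, hWO⟩ := exists_isAffineOpen_mem_and_subset (U := O) hmO
  obtain ⟨n, hn, -⟩ := FibreDim.exists_fibreDimAt_eq G.hom m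
  suffices h : ∃ O' : Set G.left, IsOpen O' ∧ m ∈ O' ∧ ∀ x ∈ O', FlatMor.fibreDimAt G.hom x = n by
    obtain ⟨O', hO', hmO', hn'⟩ := h
    refine ⟨G.hom.base '' O', G.hom.isOpenMap O' hO', ⟨m, hmO', hms⟩, ?_⟩
    rintro _ ⟨x, hx, rfl⟩
    rw [← hms, hdim, hdim, hn, hn' x hx]
  rcases n with _ | k
  · refine ⟨W, W.2, hmW, fun x hx => ?_⟩
    obtain ⟨j, hj, -⟩ := FibreDim.exists_fibreDimAt_eq G.hom x
    have h1 := hO x (hWO hx)
    rw [hn, hj] at h1
    rw [hj]
    exact_mod_cast Nat.le_zero.mp (by exact_mod_cast h1 : j ≤ 0)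
  haveI : IsAffine W.toScheme := hW
  haveI : SpectralSpace W.toScheme := {}
  let C : Set W.toScheme := W.ι ⁻¹' {x : G.left | FlatMor.fibreDimAt G.hom x ≤ (k : WithBot ℕ∞)}
  have hCo : IsOpen C := (FibreSemi.isOpen_le G.hom _).preimage W.ι.continuous
  have hCc : IsCompact C := by
    rw [W.ι.isOpenEmbedding.isInducing.isCompact_iff]
    have := S9355.result G.hom k hW.isCompact W.2
    convert this using 1
    rw [Set.image_preimage_eq_inter_range, Scheme.Opens.range_ι]
  refine ⟨W.ι '' (closure C)ᶜ, W.ι.isOpenEmbedding.isOpenMap _ isClosed_closure.isOpen_compl,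
    ⟨⟨m, hmW⟩, fun hcl => ?_, rfl⟩, ?_⟩
  · obtain ⟨e, heC, he⟩ := SpecSp.exists_specializes_of_mem_closure (SpecSp.isClopen_cons hCo hCc).1 hcl
    have hsp : W.ι e ⤳ m := he.map W.ι.continuous
    have h1 := S9739.result G.hom m (W.ι e) hsp hgen
    rw [hn] at h1
    have h2 : FlatMor.fibreDimAt G.hom (W.ι e) ≤ (k : WithBot ℕ∞) := heC
    rw [h1] at h2
    have : k + 1 ≤ k := by exact_mod_cast h2
    omega
  · rintro _ ⟨x, hx, rfl⟩
    obtain ⟨j, hj, -⟩ := FibreDim.exists_fibreDimAt_eq G.hom (W.ι x)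
    have h1 := hO (W.ι x) (hWO x.2)
    rw [hn, hj] at h1
    have h2 : ¬ FlatMor.fibreDimAt G.hom (W.ι x) ≤ (k : WithBot ℕ∞) := fun h => hx (subset_closure h)
    rw [hj] at h2 ⊢
    have h3 : j ≤ k + 1 := by exact_mod_cast h1
    have h4 : ¬ j ≤ k := fun h => h2 (by exact_mod_cast h)
    exact_mod_cast (by omega : j = k + 1)

end Groth.Agent.S3022
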