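import Groth.Statements.S3033
import Groth.Agent.NeutralSet.HomogDim
-- import your own Groth.Agent.* helpers here

set_option autoImplicit false
set_option linter.style.haveILetI false
set_option backward.isDefEq.respectTransparency false
universe u
open CategoryTheory CategoryTheory.Limits MonoidalCategory CartesianMonoidalCategory MonObj GrpObj AlgebraicGeometry TensorProduct
open SGA3

namespace Groth.Agent.S3033

/-- Let A be a local artinian ring and G a group scheme locally of finite type over A acting on a
nonempty A-scheme X locally of finite type, such that the morphism G ×_A X → X ×_A X, (g, x) ↦ (g·x,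
x), is surjective. Then all connected components of X have the same dimension. The published
statement also asserts that the connected components are irreducible; that is not asserted here (it
is stated separately). -/
theorem result (A : Type u) [CommRing A] [IsArtinianRing A] [IsLocalRing A]
    (G X : Over (Spec (CommRingCat.of A))) [GrpObj G] [LocallyOfFiniteType G.hom] [LocallyOfFiniteType X.hom] [Nonempty X.left]
    (a : AlgGrp.Action G X) (hΦ : Surjective (lift a.act (snd G X)).left) (x y : X.left) :
    topologicalKrullDim ↥(connectedComponent x) = topologicalKrullDim ↥(connectedComponent y) := by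
  let t : Spec (CommRingCat.of (IsLocalRing.ResidueField A)) ⟶ Spec (CommRingCat.of A) :=
    Spec.map (CommRingCat.ofHom (IsLocalRing.residue A))
  haveI : IsClosedImmersion t := IsClosedImmersion.spec_of_surjective _ IsLocalRing.residue_surjective
  haveI : Subsingleton ↥(Spec (CommRingCat.of A)) := inferInstanceAs (Subsingleton (PrimeSpectrum A))
  haveI : Surjective t := ⟨fun s => ⟨IsLocalRing.closedPoint _, Subsingleton.elim _ _⟩⟩
  let X' := Red.bc t X
  haveI : LocallyOfFiniteType (Red.bc t G).hom := inferInstanceAs (LocallyOfFiniteType (pullback.snd G.hom t))
  haveI : LocallyOfFiniteType X'.hom := inferInstanceAs (LocallyOfFiniteType (pullback.snd X.hom t))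
  let π := pullback.fst X.hom t
  let e := π.isClosedEmbedding.isEmbedding.toHomeomorphOfSurjective π.surjective
  have key : ∀ z : ↥X.left, ∃ w : ↥X'.left,
      topologicalKrullDim ↥(connectedComponent w) = topologicalKrullDim ↥(connectedComponent z) := fun z => by
    refine ⟨e.symm z, ?_⟩
    have h := e.isHomeomorph.continuous
    have him : e '' connectedComponent (e.symm z) = connectedComponent z := by
      refine subset_antisymm ?_ ?_
      · exact (e.continuous.image_connectedComponent_subset _).trans (by rw [e.apply_symm_apply])
      · intro u hu
        exact ⟨e.symm u, e.symm.continuous.image_connectedComponent_subset _ ⟨u, hu, rfl⟩, e.apply_symm_apply u⟩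
    exact IsHomeomorph.topologicalKrullDim_eq _ ((e.image _).trans (Homeomorph.setCongr him)).isHomeomorph
  obtain ⟨p, hp⟩ := key x
  obtain ⟨q, hq⟩ := key y
  rw [← hp, ← hq]
  exact Homog.dim_connectedComponent_eq (a.bc t) (HomogSep.surjective_bc a hΦ t) p q

end Groth.Agent.S3033
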