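import Groth.Statements.S3042
import Mathlib.AlgebraicGeometry.Morphisms.FormallyUnramified
import Mathlib.AlgebraicGeometry.Fiber
import Mathlib.RingTheory.LocalRing.Module
import Mathlib.AlgebraicGeometry.PullbackCarrier
-- import your own Groth.Agent.* helpers here

set_option autoImplicit false
universe u
open CategoryTheory MonoidalCategory CartesianMonoidalCategory MonObj GrpObj AlgebraicGeometry TensorProduct
open SGA3

namespace Groth.Agent.S3042

open CategoryTheory Limits AlgebraicGeometry TensorProduct

/-- Finite type algebras with formally unramified fibres are formally unramified. -/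
theorem formallyUnramified_of_fibres {A B : Type u} [CommRing A] [CommRing B] [Algebra A B]
    [Algebra.FiniteType A B]
    (h : ∀ (p : Ideal A) [p.IsPrime], Algebra.FormallyUnramified p.ResidueField (p.ResidueField ⊗[A] B)) :
    Algebra.FormallyUnramified A B := by
  constructor
  rw [← Module.support_eq_empty_iff (R := B), Set.eq_empty_iff_forall_notMem]
  intro q
  rw [Module.mem_support_iff_nontrivial_residueField_tensorProduct, not_nontrivial_iff_subsingleton]
  let p := q.asIdeal.under A
  haveI := h p
  let _ : Algebra B (p.ResidueField ⊗[A] B) := Algebra.TensorProduct.rightAlgebra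
  haveI hzero : Subsingleton (p.ResidueField ⊗[A] Ω[B⁄A]) :=
    (KaehlerDifferential.tensorKaehlerEquivBase A p.ResidueField B (p.ResidueField ⊗[A] B)).subsingleton
  let inc : p.ResidueField →ₐ[A] q.asIdeal.ResidueField :=
    Ideal.ResidueField.mapₐ p q.asIdeal (Algebra.ofId A B) rfl
  let T : p.ResidueField ⊗[A] Ω[B⁄A] →ₗ[A] q.asIdeal.ResidueField ⊗[B] Ω[B⁄A] :=
    (TensorProduct.mapOfCompatibleSMul B A A q.asIdeal.ResidueField Ω[B⁄A]) ∘ₗ
      TensorProduct.map inc.toLinearMap LinearMap.id
  have h1 : ∀ y : Ω[B⁄A], (1 : q.asIdeal.ResidueField) ⊗ₜ[B] y = 0 := fun y => by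
    have h2 : T ((1 : p.ResidueField) ⊗ₜ y) = (1 : q.asIdeal.ResidueField) ⊗ₜ[B] y := by simp [T]
    rw [← h2, Subsingleton.elim ((1 : p.ResidueField) ⊗ₜ[A] y) 0, map_zero]
  refine subsingleton_of_forall_eq 0 fun z => ?_
  induction z using TensorProduct.induction_on with
  | zero => rfl
  | add a b ha hb => rw [ha, hb, add_zero]
  | tmul c y =>
    rw [← mul_one c, ← smul_eq_mul, ← TensorProduct.smul_tmul', h1, smul_zero]

theorem eq_of_mono_fibres {X Y : Scheme.{u}} (f : X ⟶ Y)
    (h : ∀ y : Y, Mono (f.fiberToSpecResidueField y)) {T : Scheme.{u}} {K : Type u} [Field K]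
    (t : Spec (CommRingCat.of K) ⟶ Y) (a b : T ⟶ X) (s : T ⟶ Spec (CommRingCat.of K))
    (ha : a ≫ f = s ≫ t) (hb : b ≫ f = s ≫ t) : a = b := by
  set y := t (IsLocalRing.closedPoint K)
  have ht : Spec.map (Y.descResidueField (Scheme.stalkClosedPointTo t)) ≫ Y.fromSpecResidueField y = t :=
    Scheme.descResidueField_stalkClosedPointTo_fromSpecResidueField K Y t
  set ψ := Spec.map (Y.descResidueField (Scheme.stalkClosedPointTo t))
  haveI : Mono (pullback.snd f (Y.fromSpecResidueField y)) := h y
  have key : pullback.lift (f := f) (g := Y.fromSpecResidueField y) a (s ≫ ψ) (by rw [ha, Category.assoc, ht]) =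
      pullback.lift b (s ≫ ψ) (by rw [hb, Category.assoc, ht]) := by
    rw [← cancel_mono (pullback.snd f (Y.fromSpecResidueField y)), pullback.lift_snd, pullback.lift_snd]
  exact (pullback.lift_fst _ _ _).symm.trans
    ((congrArg (fun z => z ≫ pullback.fst f (Y.fromSpecResidueField y)) key).trans (pullback.lift_fst _ _ _))

/-- Let f : X → Y be a morphism of schemes locally of finite type. Then f is a monomorphism if and only
if, for every point y of Y, the fibre X_y → Spec κ(y) is a monomorphism. -/
theorem result (X Y : Scheme.{u}) (f : X ⟶ Y) [LocallyOfFiniteType f] :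
    Mono f ↔ ∀ y : Y, Mono (f.fiberToSpecResidueField y) := by
  refine ⟨fun hf y => (pullback.snd_of_mono : Mono (pullback.snd f (Y.fromSpecResidueField y))), fun h => ?_⟩
  haveI hunr : FormallyUnramified f := by
    rw [HasRingHomProperty.iff_appLE (P := @FormallyUnramified)]
    rintro ⟨V, hV⟩ ⟨U, hU⟩ e
    letI := (f.appLE V U e).hom.toAlgebra
    haveI : Algebra.FiniteType Γ(Y, V) Γ(X, U) := f.finiteType_appLE hV hU e
    show RingHom.FormallyUnramified (algebraMap Γ(Y, V) Γ(X, U))
    rw [RingHom.formallyUnramified_algebraMap]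
    refine formallyUnramified_of_fibres fun p _ => ?_
    let F := p.ResidueField ⊗[Γ(Y, V)] Γ(X, U)
    let π : Spec (CommRingCat.of F) ⟶ Spec (CommRingCat.of p.ResidueField) :=
      Spec.map (CommRingCat.ofHom (algebraMap p.ResidueField F))
    let e0 := pullbackSpecIso (R := Γ(Y, V)) (S := p.ResidueField) (T := Γ(X, U))
    haveI : Mono π := by
      refine ⟨fun {T} a b hab => ?_⟩
      rw [← cancel_mono e0.inv]
      have hfst : ∀ c : T ⟶ Spec (CommRingCat.of F), c ≫ π = (c ≫ e0.inv) ≫ pullback.fst _ _ := fun c => by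
        rw [Category.assoc, pullbackSpecIso_inv_fst]
      refine pullback.hom_ext (by rw [← hfst, ← hfst, hab]) ?_
      rw [← cancel_mono hU.fromSpec]
      have hcompat : ∀ c : T ⟶ Spec (CommRingCat.of F),
          (((c ≫ e0.inv) ≫ pullback.snd _ _) ≫ hU.fromSpec) ≫ f =
          (c ≫ π) ≫ (Spec.map (CommRingCat.ofHom (algebraMap Γ(Y, V) p.ResidueField)) ≫ hV.fromSpec) := fun c => by
        rw [hfst, Category.assoc _ hU.fromSpec f, ← hV.SpecMap_appLE_fromSpec f hU e,
          show Spec.map (f.appLE V U e) = Spec.map (CommRingCat.ofHom (algebraMap Γ(Y, V) Γ(X, U))) from rfl,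
          Category.assoc _ (pullback.fst _ _), pullback.condition_assoc, Category.assoc]
      refine eq_of_mono_fibres f h _ _ _ _ (hcompat a) ?_
      rw [hcompat b, hab]
    haveI : FormallyUnramified π := inferInstance
    rw [← RingHom.formallyUnramified_algebraMap]
    exact (HasRingHomProperty.Spec_iff (P := @FormallyUnramified) (φ := CommRingCat.ofHom (algebraMap p.ResidueField F))).mp ‹_›
  haveI : Surjective (pullback.diagonal f) := ⟨fun z => by
    let zz := (pullback f f).fromSpecResidueField z
    let t := zz ≫ pullback.fst f f ≫ f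
    have hz : zz ≫ pullback.fst f f = zz ≫ pullback.snd f f :=
      eq_of_mono_fibres f h t _ _ (𝟙 _) ((Category.assoc _ _ _).trans (Category.id_comp t).symm)
        ((Category.assoc _ _ _).trans ((congrArg (fun w => zz ≫ w) pullback.condition.symm).trans (Category.id_comp t).symm))
    have hd : (zz ≫ pullback.fst f f) ≫ pullback.diagonal f = zz := by
      refine pullback.hom_ext ?_ ?_
      · simp
      · simpa using hz
    refine ⟨(zz ≫ pullback.fst f f) (IsLocalRing.closedPoint _), ?_⟩
    rw [← Scheme.Hom.comp_apply, hd]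
    exact (pullback f f).fromSpecResidueField_apply z _⟩
  haveI : IsOpenImmersion (pullback.diagonal f) := FormallyUnramified.isOpenImmersion_diagonal f
  haveI : Epi (pullback.diagonal f).base := (TopCat.epi_iff_surjective _).mpr (pullback.diagonal f).surjective
  haveI : IsIso (pullback.diagonal f) := IsOpenImmersion.isIso _
  exact (pullback.isIso_diagonal_iff f).mp inferInstance

end Groth.Agent.S3042
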