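import Groth.Statements.S3043
import Mathlib
-- import your own Groth.Agent.* helpers here

set_option autoImplicit false
universe u
open CategoryTheory MonoidalCategory CartesianMonoidalCategory MonObj GrpObj AlgebraicGeometry TensorProduct
open SGA3

namespace Groth.Agent.S3043

/-- Let π : X → S be a morphism of schemes admitting a section ε (ε followed by π is the identity). If π
is injective on underlying points, then π is an integral morphism. -/
theorem result (X S : Scheme.{u}) (π : X ⟶ S) (ε : S ⟶ X) (hε : ε ≫ π = 𝟙 S)
    (hinj : Function.Injective π.base) : IsIntegralHom π := by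
  have hsec : ∀ s, π (ε s) = s := fun s => congrArg (fun m : S ⟶ S => m s) hε
  have hes : ∀ x, ε (π x) = x := fun x => hinj (hsec (π x))
  haveI : Surjective ε := ⟨fun x => ⟨π x, hes x⟩⟩
  haveI : IsSeparated π := isSeparated_of_injective π hinj
  haveI : UniversallyClosed (ε ≫ π) := by rw [hε]; infer_instance
  haveI : UniversallyClosed π := UniversallyClosed.of_comp_surjective ε π
  have hemb : Topology.IsClosedEmbedding π :=
    Topology.IsClosedEmbedding.of_continuous_injective_isClosedMap π.continuous hinj π.isClosedMap
  haveI : IsAffineHom π := isAffineHom_of_isInducing _ hemb.isInducing hemb.isClosed_range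
  exact IsIntegralHom.iff_universallyClosed_and_isAffineHom.mpr ⟨inferInstance, inferInstance⟩

end Groth.Agent.S3043
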