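import Groth.Statements.S3045
import Mathlib.RingTheory.TensorProduct.Maps
-- import your own Groth.Agent.* helpers here

set_option autoImplicit false
universe u
open TensorProduct
open SGA3

namespace Groth.Agent.S3045

theorem fst_mul_map (k : Type u) [CommRing k] (A : Type u) [CommRing A] [HopfAlgebra k A]
    (f g : LieHopf.LiePts k A) (x : A ⊗[k] A) :
    TrivSqZeroExt.fst (Algebra.TensorProduct.lmul' (S := DualNumber k) k (Algebra.TensorProduct.map f.1 g.1 x)) =
      Coalgebra.counit (R := k) (TensorProduct.lid k A (LinearMap.rTensor A Coalgebra.counit x)) := by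
  induction x using TensorProduct.induction_on with
  | zero => simp
  | tmul a b => simp [f.2 a, g.2 b]
  | add a b ha hb => simp [map_add, ha, hb]

theorem snd_mul_map (k : Type u) [CommRing k] (A : Type u) [CommRing A] [HopfAlgebra k A]
    (f g : LieHopf.LiePts k A) (x : A ⊗[k] A) :
    TrivSqZeroExt.snd (Algebra.TensorProduct.lmul' (S := DualNumber k) k (Algebra.TensorProduct.map f.1 g.1 x)) =
      TrivSqZeroExt.snd (g.1 (TensorProduct.lid k A (LinearMap.rTensor A Coalgebra.counit x))) +
      TrivSqZeroExt.snd (f.1 (TensorProduct.rid k A (LinearMap.lTensor A Coalgebra.counit x))) := by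
  induction x using TensorProduct.induction_on with
  | zero => simp
  | tmul a b => simp [f.2 a, g.2 b, mul_comm]
  | add a b ha hb =>
    simp only [map_add, TrivSqZeroExt.snd_add, ha, hb]
    ring

/-- The product of two tangent points. -/
noncomputable def mulPt (k : Type u) [CommRing k] (A : Type u) [CommRing A] [HopfAlgebra k A]
    (f g : LieHopf.LiePts k A) : LieHopf.LiePts k A :=
  ⟨((Algebra.TensorProduct.lmul' (S := DualNumber k) k).comp (Algebra.TensorProduct.map f.1 g.1)).comp
    (Bialgebra.comulAlgHom k A), fun a => by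
      show TrivSqZeroExt.fst (Algebra.TensorProduct.lmul' (S := DualNumber k) k
        (Algebra.TensorProduct.map f.1 g.1 (Coalgebra.comul a))) = _
      rw [fst_mul_map, Coalgebra.rTensor_counit_comul]
      simp⟩

theorem tangent_mulPt (k : Type u) [CommRing k] (A : Type u) [CommRing A] [HopfAlgebra k A]
    (f g : LieHopf.LiePts k A) (a : A) :
    TrivSqZeroExt.snd ((mulPt k A f g).1 a) = TrivSqZeroExt.snd (f.1 a) + TrivSqZeroExt.snd (g.1 a) := by
  show TrivSqZeroExt.snd (Algebra.TensorProduct.lmul' (S := DualNumber k) k
        (Algebra.TensorProduct.map f.1 g.1 (Coalgebra.comul a))) = _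
  rw [snd_mul_map, Coalgebra.rTensor_counit_comul, Coalgebra.lTensor_counit_comul]
  simp [add_comm]


/-- Let A be a commutative Hopf algebra over a commutative ring k (the coordinate ring of an affine
group G = Spec A) and φ, ψ two k[ε]-valued points of G reducing to the unit point modulo ε (tangent
vectors at the identity). Then for every a ∈ A the ε-component of the product point φ · ψ at a — the
product of points being convolution, formed here as the triple convolution of φ, ψ and the unit
point — is the sum of the ε-components of φ(a) and ψ(a): on tangent vectors at the identity the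
group law of G induces addition. -/
theorem result (k : Type u) [CommRing k] (A : Type u) [CommRing A] [HopfAlgebra k A]
    (φ ψ : LieHopf.LiePts k A) (a : A) :
    TrivSqZeroExt.snd (Dyn.conv3 k A φ.1 ψ.1 ((Algebra.ofId k (DualNumber k)).comp (Bialgebra.counitAlgHom k A)) a) =
      LieHopf.LiePts.tangent k A φ a + LieHopf.LiePts.tangent k A ψ a := by
  let η : LieHopf.LiePts k A := ⟨(Algebra.ofId k (DualNumber k)).comp (Bialgebra.counitAlgHom k A),
    fun b => by simp [Algebra.ofId_apply, TrivSqZeroExt.algebraMap_eq_inl]⟩
  have h : Dyn.conv3 k A φ.1 ψ.1 η.1 = (mulPt k A (mulPt k A φ ψ) η).1 := by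
    show _ = ((Algebra.TensorProduct.lmul' (S := DualNumber k) k).comp
      (Algebra.TensorProduct.map (mulPt k A φ ψ).1 η.1)).comp (Bialgebra.comulAlgHom k A)
    rw [Dyn.conv3, ← AlgHom.comp_assoc, ← AlgHom.comp_assoc]
    congr 1
    rw [AlgHom.comp_assoc]
    congr 1
    rw [← Algebra.TensorProduct.map_comp, AlgHom.comp_id]
    rfl
  show TrivSqZeroExt.snd (Dyn.conv3 k A φ.1 ψ.1 η.1 a) = _
  rw [h, tangent_mulPt, tangent_mulPt]
  simp [η, LieHopf.LiePts.tangent, Algebra.ofId_apply, TrivSqZeroExt.algebraMap_eq_inl]

end Groth.Agent.S3045
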