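import Groth.Statements.S3046
import Mathlib.RingTheory.Bialgebra.Convolution
import Mathlib.Tactic.NoncommRing
import Mathlib.Tactic.Abel
-- import your own Groth.Agent.* helpers here

set_option autoImplicit false
universe u
open TensorProduct
open SGA3

namespace Groth.Agent.S3046

/-- Let A be a commutative Hopf algebra over a commutative ring k, D and E two ε-derivations A → k
(tangent vectors at the identity of G = Spec A), R a commutative k-algebra and t, t' ∈ R with t² = 0
= t'². Let x = e + tD and y = e + t'E be the corresponding R-points of G. Then the commutator x y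
x⁻¹ y⁻¹ (product of points; the inverse of a point is its composite with the antipode) is the point
a ↦ ε(a) + [D, E](a) · t t', where [D, E] = D ⋆ E − E ⋆ D is the convolution commutator. -/
theorem result (k : Type u) [CommRing k] (A : Type u) [CommRing A] [HopfAlgebra k A]
    (D E : LieHopf.Lie k A) (R : Type u) [CommRing R] [Algebra k R] (t t' : R) (ht : t * t = 0) (ht' : t' * t' = 0)
    (a : A) :
    Dyn.conv3 k A
        (Dyn.conv3 k A (LieHopf.ptOfLie D R t ht) (LieHopf.ptOfLie E R t' ht')
          ((LieHopf.ptOfLie D R t ht).comp (HopfAlgebra.antipodeAlgHom k A)))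
        ((LieHopf.ptOfLie E R t' ht').comp (HopfAlgebra.antipodeAlgHom k A))
        ((Algebra.ofId k R).comp (Bialgebra.counitAlgHom k A)) a =
      algebraMap k R (Bialgebra.counitAlgHom k A a) + algebraMap k R (LieHopf.bracketLin D E a) * (t * t') := by
  let emb : (A →ₗ[k] k) → R → (WithConv (A →ₗ[k] R)) := fun φ s => WithConv.toConv ((LinearMap.toSpanSingleton k R s) ∘ₗ φ)
  have emb_apply : ∀ φ s (b : A), (emb φ s) b = algebraMap k R (φ b) * s := fun φ s b => Algebra.smul_def _ _
  have emb_mul : ∀ φ ψ s s', emb φ s * emb ψ s' = emb (LieHopf.conv φ ψ) (s * s') := fun φ ψ s s' => by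
    ext b
    show LinearMap.mul' k R (TensorProduct.map _ _ (CoalgebraStruct.comul b)) =
      (LinearMap.mul' k k (TensorProduct.map φ ψ (CoalgebraStruct.comul b))) • (s * s')
    generalize (CoalgebraStruct.comul b : A ⊗[k] A) = z
    induction z using TensorProduct.induction_on with
    | zero => simp
    | add x y hx hy => simp only [map_add, hx, hy, add_smul]
    | tmul x y =>
      simp only [TensorProduct.map_tmul, LinearMap.mul'_apply, emb, WithConv.ofConv_toConv, LinearMap.comp_apply,
        LinearMap.toSpanSingleton_apply]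
      rw [smul_mul_smul_comm]
  have emb_zero : ∀ φ, emb φ 0 = 0 := fun φ => by ext b; simp [emb]
  let d := emb (LieHopf.dlin D) t
  let e := emb (LieHopf.dlin E) t'
  let P := LieHopf.ptOfLie D R t ht
  let Q := LieHopf.ptOfLie E R t' ht'
  have hP : WithConv.toConv P.toLinearMap = 1 + d := by ext b; exact congrArg (_ + ·) (emb_apply _ _ b).symm
  have hQ : WithConv.toConv Q.toLinearMap = 1 + e := by ext b; exact congrArg (_ + ·) (emb_apply _ _ b).symm
  have hdd : d * d = 0 := by simp only [d]; rw [emb_mul, ht, emb_zero]
  have hee : e * e = 0 := by simp only [e]; rw [emb_mul, ht', emb_zero]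
  have hded : d * e * d = 0 := by
    simp only [d, e]; rw [emb_mul, emb_mul, mul_right_comm, ht, zero_mul, emb_zero]
  have hede : e * d * e = 0 := by
    simp only [d, e]; rw [emb_mul, emb_mul, mul_right_comm, ht', zero_mul, emb_zero]
  have hdede : d * e * e = 0 := by rw [mul_assoc, hee, mul_zero]
  have hS : (WithConv.toConv (LinearMap.id : A →ₗ[k] A)) *
      WithConv.toConv (HopfAlgebraStruct.antipode (R := k) (A := A)) = 1 := by
    ext b
    simp
  have hinv : ∀ (x : A →ₐ[k] R) (u : (WithConv (A →ₗ[k] R))), WithConv.toConv x.toLinearMap = 1 + u → u * u = 0 →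
      WithConv.toConv (x.comp (HopfAlgebra.antipodeAlgHom k A)).toLinearMap = 1 - u := fun x u hx hu => by
    have h1 : (1 + u) * WithConv.toConv (x.comp (HopfAlgebra.antipodeAlgHom k A)).toLinearMap = 1 := by
      rw [← hx]
      have h := LinearMap.algHom_comp_convMul_distrib x (WithConv.toConv (LinearMap.id : A →ₗ[k] A))
        (WithConv.toConv (HopfAlgebraStruct.antipode (R := k) (A := A)))
      rw [hS] at h
      refine WithConv.ofConv_injective (h.symm.trans ?_)
      ext b
      simp
    have h2 : (1 - u) * (1 + u) = 1 := by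
      have : (1 - u) * (1 + u) = 1 - u * u := by noncomm_ring
      rw [this, hu, sub_zero]
    calc _ = (1 - u) * (1 + u) * WithConv.toConv (x.comp (HopfAlgebra.antipodeAlgHom k A)).toLinearMap := by
          rw [h2, one_mul]
      _ = 1 - u := by rw [mul_assoc, h1, mul_one]
  have hc3 : ∀ f g h : A →ₐ[k] R, WithConv.toConv (Dyn.conv3 k A f g h).toLinearMap =
      WithConv.toConv f.toLinearMap * WithConv.toConv g.toLinearMap * WithConv.toConv h.toLinearMap := fun f g h => by
    ext b
    show Algebra.TensorProduct.lmul' k (Algebra.TensorProduct.map _ h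
      (Algebra.TensorProduct.map (Bialgebra.comulAlgHom k A) (AlgHom.id k A) (Bialgebra.comulAlgHom k A b))) =
      LinearMap.mul' k R (TensorProduct.map _ h.toLinearMap (CoalgebraStruct.comul b))
    show _ = LinearMap.mul' k R (TensorProduct.map _ h.toLinearMap (Bialgebra.comulAlgHom k A b))
    generalize (Bialgebra.comulAlgHom k A b : A ⊗[k] A) = z
    induction z using TensorProduct.induction_on with
    | zero => simp
    | add x y hx hy => simp only [map_add, hx, hy]
    | tmul x y => rfl
  have main : WithConv.toConv (Dyn.conv3 k A (Dyn.conv3 k A P Q (P.comp (HopfAlgebra.antipodeAlgHom k A)))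
      (Q.comp (HopfAlgebra.antipodeAlgHom k A)) ((Algebra.ofId k R).comp (Bialgebra.counitAlgHom k A))).toLinearMap =
      1 + d * e - e * d := by
    rw [hc3, hc3, hinv P d hP hdd, hinv Q e hQ hee, hP, hQ,
      show WithConv.toConv ((Algebra.ofId k R).comp (Bialgebra.counitAlgHom k A)).toLinearMap = (1 : (WithConv (A →ₗ[k] R))) from rfl, mul_one]
    have : (1 + d) * (1 + e) * (1 - d) * (1 - e) = 1 + d * e - e * d - d * d + d * d * e - e * e + e * d * e - d * e * e
        - d * e * d + d * e * d * e := by noncomm_ring
    rw [this, hdd, hee, hdede, hded, hede, zero_mul]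
    abel
  have := congrArg (fun f : (WithConv (A →ₗ[k] R)) => f a) main
  refine this.trans ?_
  simp only [d, e]
  rw [emb_mul, emb_mul, mul_comm t' t]
  show algebraMap k R _ + emb _ _ a - emb _ _ a = _
  rw [emb_apply, emb_apply, LieHopf.bracketLin, LinearMap.sub_apply, map_sub]
  ring!

end Groth.Agent.S3046
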