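import Groth.Prelude.Def_SGA4b
import Mathlib.AlgebraicGeometry.Morphisms.Integral
import Mathlib.AlgebraicGeometry.Morphisms.Proper
import Mathlib.AlgebraicGeometry.Morphisms.Flat
import Mathlib.AlgebraicGeometry.Morphisms.FinitePresentation
import Mathlib.AlgebraicGeometry.Morphisms.UnderlyingMap
import Groth.Agent.EtSite.PullStalk
-- import your own Groth.Agent.* helpers here

set_option autoImplicit false
open CategoryTheory CategoryTheory.Limits AlgebraicGeometry Opposite
universe u

namespace Groth.Agent.S3047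

/-- For a surjective morphism of schemes f : X' -> X, the inverse image functor f^* on sheaves of sets
for the small etale sites is faithful and reflects isomorphisms. -/
theorem result {X' X : Scheme.{u}} (f : X' ⟶ X) [Surjective f] :
    (EtDesc.pullSh f).Faithful ∧ (EtDesc.pullSh f).ReflectsIsomorphisms := by
  have key : ∀ y : X, ∃ (Ω : Type u) (_ : Field Ω) (_ : IsSepClosed Ω)
      (ξ : Spec (CommRingCat.of Ω) ⟶ X), ξ default = y ∧
        ∃ η : Spec (CommRingCat.of Ω) ⟶ X', ξ = η ≫ f := fun y => by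
    obtain ⟨x, rfl⟩ := f.surjective y
    refine ⟨_, inferInstance, inferInstance, EtSite.gpt x ≫ f, ?_, EtSite.gpt x, rfl⟩
    exact (Scheme.Hom.comp_apply _ _ _).trans (congrArg f.base (EtSite.gpt_apply x _))
  have iso : ∀ {Ω : Type u} [Field Ω] [IsSepClosed Ω] (η : Spec (CommRingCat.of Ω) ⟶ X'),
      Nonempty ((Scheme.pointSmallEtale (η ≫ f)).sheafFiber (A := Type (u + 1)) ≅
        EtDesc.pullSh f ⋙ (Scheme.pointSmallEtale η).sheafFiber (A := Type (u + 1))) := by
    intro Ω _ _ η
    let a := (Scheme.pointSmallEtale η).sheafFiberComapIso (EtCoh.bc f) (EtCoh.coverPreserving_bc f)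
      (Type (u + 1))
    let b : (Scheme.pointSmallEtale (η ≫ f)).sheafFiber (A := Type (u + 1)) ≅
        (EtSite.comapPt f η).sheafFiber (A := Type (u + 1)) :=
      { hom := (EtSite.comapPtIso f η).inv.sheafFiber
        inv := (EtSite.comapPtIso f η).hom.sheafFiber
        hom_inv_id := by rw [← GrothendieckTopology.Point.Hom.sheafFiber_comp, Iso.hom_inv_id,
          GrothendieckTopology.Point.Hom.sheafFiber_id]
        inv_hom_id := by rw [← GrothendieckTopology.Point.Hom.sheafFiber_comp, Iso.inv_hom_id,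
          GrothendieckTopology.Point.Hom.sheafFiber_id] }
    exact ⟨b ≪≫ a⟩
  refine ⟨⟨fun {F G} a b hab => ?_⟩, ⟨fun {F G} a _ => ?_⟩⟩
  · apply ObjectProperty.hom_ext
    ext U s
    obtain ⟨U⟩ := U
    refine ((isSheaf_iff_isSheaf_of_type _ _).1 G.property).isSeparated
      (Presheaf.equalizerSieve (F := G.obj) (a.hom.app (op U) s) (b.hom.app (op U) s))
      (EtSite.mem_smallEtaleTopology_of_points U _ fun x => ?_) |>.ext fun V g hg => hg
    obtain ⟨Ω, _, _, ξ, hξ, η, rfl⟩ := key (U.hom x)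
    have : AlgebraicGeometry.Etale U.hom := U.prop
    obtain ⟨l, hl, hlx⟩ := Scheme.exists_fac_of_etale_of_isSepClosed U.hom (η ≫ f) x hξ.symm
    let Φ := Scheme.pointSmallEtale (η ≫ f)
    let τ : Φ.fiber.obj U := Over.homMk l hl
    obtain ⟨e⟩ := iso η
    have hf : Φ.sheafFiber.map a = Φ.sheafFiber.map b := by
      rw [← cancel_mono (e.hom.app G), e.hom.naturality a, e.hom.naturality b]
      simp only [Functor.comp_map, hab]
    have heq : Φ.toPresheafFiber U τ G.obj (a.hom.app _ s) = Φ.toPresheafFiber U τ G.obj (b.hom.app _ s) :=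
      (Φ.toPresheafFiber_naturality_apply a.hom U τ s).symm.trans
        ((ConcreteCategory.congr_hom hf _).trans (Φ.toPresheafFiber_naturality_apply b.hom U τ s))
    obtain ⟨V, g, v, hv, hg⟩ := (Φ.toPresheafFiber_eq_iff' _ _ _ _).1 heq
    refine ⟨V, g, v.left (default : Spec (CommRingCat.of Ω)), hg, ?_⟩
    have hl' : v.left ≫ g.left = l := congrArg CommaMorphism.left hv
    exact (Scheme.Hom.comp_apply _ _ _).symm.trans
      ((congrArg (fun m : _ ⟶ U.left => m.base _) hl').trans hlx)
  · have hb : ∀ y : X, ∃ (Ω : Type u) (_ : Field Ω) (_ : IsSepClosed Ω)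
        (ξ : Spec (CommRingCat.of Ω) ⟶ X), ξ default = y ∧
          Function.Bijective ((Scheme.pointSmallEtale ξ).presheafFiber.map a.hom) := fun y => by
      obtain ⟨Ω, _, _, ξ, hξ, η, rfl⟩ := key y
      obtain ⟨e⟩ := iso η
      have h : IsIso ((Scheme.pointSmallEtale (η ≫ f)).sheafFiber.map a) :=
        (NatIso.isIso_map_iff e a).2 (Functor.map_isIso (Scheme.pointSmallEtale η).sheafFiber _)
      exact ⟨Ω, _, _, η ≫ f, hξ, (ConcreteCategory.isIso_iff_bijective _).1 h⟩
    have h1 : Sheaf.IsLocallyInjective a := EtSite.isLocallyInjective_of_exists_stalk a.hom fun y => by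
      obtain ⟨Ω, i1, i2, ξ, hξ, h⟩ := hb y
      exact ⟨Ω, i1, i2, ξ, hξ, h.1⟩
    have h2 : Sheaf.IsLocallySurjective a := EtSite.isLocallySurjective_of_exists_stalk a.hom fun y => by
      obtain ⟨Ω, i1, i2, ξ, hξ, h⟩ := hb y
      exact ⟨Ω, i1, i2, ξ, hξ, h.2⟩
    exact (Sheaf.isLocallyBijective_iff_isIso a).1 ⟨h1, h2⟩

end Groth.Agent.S3047
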