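import Groth.Statements.S3076
import Groth.Agent.ToposFinLib.Basic

set_option autoImplicit false
open CategoryTheory CategoryTheory.Limits Opposite
universe u
open ToposFin

namespace Groth.Agent.S3076

/-- For a topos of sheaves of sets on a small site admitting a generating family of quasi-compact
objects: let g : Y -> Z and let (f_i : X_i -> Y) be a jointly epimorphic family of quasi-compact
morphisms. If every g o f_i is quasi-separated then g is quasi-separated; if moreover the family is
finite and every g o f_i is coherent, then g is coherent. -/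
theorem result {C : Type u} [SmallCategory C] {J : GrothendieckTopology C} (hE : ToposFin.HasQCGenerators J) {Y Z : ToposFin.Sh J}
    (g : Y ⟶ Z) :
    (∀ {ι : Type u} (X : ι → ToposFin.Sh J) (f : ∀ i, X i ⟶ Y), Epi (Sigma.desc f) →
      (∀ i, ToposFin.IsQCHom (f i)) → (∀ i, ToposFin.IsQSHom (f i ≫ g)) → ToposFin.IsQSHom g) ∧
    (∀ {n : ℕ} (X : Fin n → ToposFin.Sh J) (f : ∀ k, X k ⟶ Y), Epi (Sigma.desc f) →
      (∀ k, ToposFin.IsQCHom (f k)) → (∀ k, ToposFin.IsCohHom (f k ≫ g)) → ToposFin.IsCohHom g) := by
  refine ⟨fun X f hf hqc hqs => Groth.Agent.ToposFinLib.isQSHom_of_source_cover g f hqc hqs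
      (Groth.Agent.ToposFinLib.exists_lift_of_generators hE f ((Groth.Agent.ToposFinLib.epi_desc_iff f).1 hf)),
    fun {n} X f hf hqc h => ⟨Groth.Agent.ToposFinLib.isQCHom_of_source_cover g f
      ((Groth.Agent.ToposFinLib.epi_desc_iff f).1 hf) fun k => (h k).1, ?_⟩⟩
  have hf' : SGA4.IsEpiFamily fun k : ULift.{u} (Fin n) => f k.down := fun Z a b hab =>
    (Groth.Agent.ToposFinLib.epi_desc_iff f).1 hf Z a b fun k => hab ⟨k⟩
  exact Groth.Agent.ToposFinLib.isQSHom_of_source_cover g _ (fun k => hqc k.down) (fun k => (h k.down).2)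
    (Groth.Agent.ToposFinLib.exists_lift_of_generators hE _ hf')

end Groth.Agent.S3076
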