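import Groth.Statements.S3082
import Mathlib


set_option autoImplicit false
universe u
open CategoryTheory
open SGA4

namespace Groth.Agent.S3082

/-- Let (C, J) be a small site and G a set of objects of C such that each object of C has a covering
family whose members all lie in G. Then the sheafifications of the presheaves represented by the
members of G form a detecting family in the category Sh(C, J) of set-valued sheaves on (C, J): any
morphism of sheaves that is bijective on sections over each member of G is an isomorphism. -/
theorem result {C : Type u} [SmallCategory C] (J : GrothendieckTopology C) (G : Set C)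
    (hG : ∀ X : C, ∃ (ι : Type u) (Y : ι → C) (f : ∀ i, Y i ⟶ X), Sieve.ofArrows Y f ∈ J X ∧ ∀ i, Y i ∈ G) :
    (ObjectProperty.ofObj fun X : G => (presheafToSheaf J (Type u)).obj (yoneda.obj (X : C))).IsDetecting := by
  intro F F' f hf
  let e : ∀ (X : C) (H : Sheaf J (Type u)),
      ((presheafToSheaf J (Type u)).obj (yoneda.obj X) ⟶ H) ≃ H.obj.obj (Opposite.op X) := fun X H =>
    ((sheafificationAdjunction J (Type u)).homEquiv _ _).trans yonedaEquiv
  have he : ∀ X (h : (presheafToSheaf J (Type u)).obj (yoneda.obj X) ⟶ F),
      e X F' (h ≫ f) = f.hom.app (Opposite.op X) (e X F h) := fun X h => by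
    simp only [e, Equiv.trans_apply]
    rw [Adjunction.homEquiv_naturality_right]
    exact yonedaEquiv_comp _ _
  have hbij : ∀ X ∈ G, Function.Bijective (f.hom.app (Opposite.op X)) := fun X hX => by
    have h := hf _ (ObjectProperty.ofObj_apply _ ⟨X, hX⟩)
    refine ⟨fun a b hab => ?_, fun y => ?_⟩
    · obtain ⟨g, -, hu⟩ := h ((e X F).symm a ≫ f)
      have ha := hu _ rfl
      have hb := hu ((e X F).symm b) ((e X F').injective (by rw [he, he, Equiv.apply_symm_apply, Equiv.apply_symm_apply]; exact hab.symm))
      exact (e X F).symm.injective (ha.trans hb.symm)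
    · obtain ⟨g, hg, -⟩ := h ((e X F').symm y)
      exact ⟨e X F g, by rw [← he, hg, Equiv.apply_symm_apply]⟩
  haveI : Sheaf.IsLocallyInjective f := ⟨fun {X} x y hxy => by
    obtain ⟨ι, Y, g, hg, hY⟩ := hG X.unop
    refine J.superset_covering ?_ hg
    rw [Sieve.generate_le_iff]
    rintro Z _ ⟨i⟩
    apply (hbij _ (hY i)).1
    rw [NatTrans.naturality_apply, NatTrans.naturality_apply, hxy]⟩
  haveI : Sheaf.IsLocallySurjective f := ⟨fun {X} s => by
    obtain ⟨ι, Y, g, hg, hY⟩ := hG X
    refine J.superset_covering ?_ hg
    rw [Sieve.generate_le_iff]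
    rintro Z _ ⟨i⟩
    exact (hbij _ (hY i)).2 _⟩
  exact (Sheaf.isLocallyBijective_iff_isIso f).1 ⟨inferInstance, inferInstance⟩

end Groth.Agent.S3082
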