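import Groth.Statements.S3085
import Groth.Agent.ArtinGlue.Closed
import Groth.Agent.ArtinGlue.Glue
-- import your own Groth.Agent.* helpers here

set_option autoImplicit false
universe u
open CategoryTheory
open SGA4

namespace Groth.Agent.S3085

open CategoryTheory.Limits in
/-- Gluing a topos from an open subtopos and its closed complement, for sheaves of sets on a small site:
let E be the category of sheaves of sets on a small site, U an open of E (a subobject of the final
object) with restriction functor j^* : E → E/U, X ↦ U × X; assume j^* has a right adjoint j_* (true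
in any topos; taken as an instance hypothesis), and let i^* be a left adjoint of the inclusion of
the closed complement F of U. With ρ = i^* ∘ j_* : E/U → F, the category E is equivalent to the
glued category of triples (Y in F, X in E/U, Y → ρX). (Only the existence of an equivalence is
asserted; the published statement gives it explicitly as X ↦ (i^*X, j^*X, i^*(X → j_*j^*X)).) -/
theorem result {C : Type u} [SmallCategory C] (J : GrothendieckTopology C)
    (U : Sheaf J (Type u)) (hU : SGA4.IsOpen U) [(Over.star U).IsLeftAdjoint]
    (L : Sheaf J (Type u) ⥤ (SGA4.closedCompl U).FullSubcategory) (adj : L ⊣ (SGA4.closedCompl U).ι) :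
    Nonempty (Sheaf J (Type u) ≌
      Comma (𝟭 (SGA4.closedCompl U).FullSubcategory) ((Over.star U).rightAdjoint ⋙ L)) := by
  haveI : Mono (terminal.from U) := hU
  have hsub : ∀ W : Sheaf J (Type u), Subsingleton (W ⟶ U) := fun W =>
    ⟨fun a b => (cancel_mono (terminal.from U)).1 (terminalIsTerminal.hom_ext _ _)⟩
  have hff : (Over.forget U).FullyFaithful :=
    { preimage := fun {X Y} g => Over.homMk g (by exact (hsub _).elim _ _)
      map_preimage := fun g => rfl
      preimage_map := fun f => Over.OverMorphism.ext rfl }
  let t : Adjunction.Triple (Over.forget U) (Over.star U) (Over.star U).rightAdjoint :=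
    ⟨Over.forgetAdjStar U, Adjunction.ofIsLeftAdjoint _⟩
  haveI := (t.fullyFaithfulEquiv hff).full
  haveI := (t.fullyFaithfulEquiv hff).faithful
  haveI : PreservesFiniteLimits L := by
    haveI := Groth.Agent.ArtinGlue.refl_preservesFiniteLimits hU
    exact preservesFiniteLimits_of_natIso ((Groth.Agent.ArtinGlue.reflAdj hU).leftAdjointUniq adj)
  refine Groth.Agent.ArtinGlue.nonempty_equiv_comma (Over.star U) _ (Adjunction.ofIsLeftAdjoint _) L _ adj
    (fun f h₁ h₂ => Groth.Agent.ArtinGlue.isIso_of_star_of_leftAdjoint hU adj f h₁ h₂) ?_
  intro b b' f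
  haveI : IsIso (prod.fst : U ⨯ b.obj ⟶ U) := b.property
  haveI : IsIso (prod.fst : U ⨯ b'.obj ⟶ U) := b'.property
  haveI : IsIso ((Over.forget U).map ((Over.star U).map f)) := by
    have e : ((Over.star U).map f).left = prod.map (𝟙 U) f := by
      apply Limits.prod.hom_ext <;> simp [Over.star]
    show IsIso ((Over.star U).map f).left
    rw [e]
    haveI : IsIso (prod.map (𝟙 U) f ≫ (prod.fst : U ⨯ _ ⟶ U)) := by
      rw [prod.map_fst, Category.comp_id]
      exact ‹IsIso (prod.fst : U ⨯ b.obj ⟶ U)›
    exact @IsIso.of_isIso_comp_right _ _ _ _ _ (prod.map (𝟙 U) f) (prod.fst : U ⨯ b'.obj ⟶ U) _ ‹_›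
  exact isIso_of_reflects_iso _ (Over.forget U)

end Groth.Agent.S3085
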