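import Mathlib
import Groth.Statements.S3093
-- import your own Groth.Agent.* helpers here

set_option autoImplicit false
universe u
open CohTop

namespace Groth.Agent.S3093

/-- Let X be a topological space and K ⊆ X a compact subset such that any two distinct points of K have
disjoint open neighbourhoods in X. If A and B are subsets of K that are closed in K and W is an open
subset of X containing A ∩ B, then there are open subsets U ⊇ A and V ⊇ B of X with U ∩ V ⊆ W. -/
theorem result {X : Type u} [TopologicalSpace X] {K : Set X} (hK : IsCompact K)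
    (hsep : ∀ x ∈ K, ∀ y ∈ K, x ≠ y → ∃ U V : Set X, IsOpen U ∧ IsOpen V ∧ x ∈ U ∧ y ∈ V ∧ Disjoint U V)
    {A B W : Set X} (hA : A ⊆ K) (hB : B ⊆ K) (hAc : IsClosed (Subtype.val ⁻¹' A : Set K))
    (hBc : IsClosed (Subtype.val ⁻¹' B : Set K)) (hW : IsOpen W) (hABW : A ∩ B ⊆ W) :
    ∃ U V : Set X, IsOpen U ∧ IsOpen V ∧ A ⊆ U ∧ B ⊆ V ∧ U ∩ V ⊆ W := by
  classical
  haveI : CompactSpace K := isCompact_iff_compactSpace.1 hK
  have hcpt : ∀ C : Set X, C ⊆ K → IsClosed (Subtype.val ⁻¹' C : Set K) → IsCompact C := by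
    intro C hC hcl
    have := hcl.isCompact.image continuous_subtype_val
    rwa [Subtype.image_preimage_coe, Set.inter_eq_right.2 hC] at this
  have hA' : IsCompact (A \ W) := (hcpt A hA hAc).diff hW
  have hB' : IsCompact (B \ W) := (hcpt B hB hBc).diff hW
  have hs : SeparatedNhds (A \ W) (B \ W) := by
    refine hA'.induction_on (p := fun s => SeparatedNhds s (B \ W)) (SeparatedNhds.empty_left _)
      (fun s t hst h => h.mono hst le_rfl) (fun s t hs ht => hs.union_left ht) fun x hx => ?_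
    have h2 : SeparatedNhds ({x} : Set X) (B \ W) := by
      refine SeparatedNhds.symm ?_
      refine hB'.induction_on (p := fun s => SeparatedNhds s ({x} : Set X)) (SeparatedNhds.empty_left _)
        (fun s t hst h => h.mono hst le_rfl) (fun s t hs ht => hs.union_left ht) fun y hy => ?_
      have hne : y ≠ x := fun e => hx.2 (hABW ⟨hx.1, e ▸ hy.1⟩)
      obtain ⟨U, V, hU, hV, hyU, hxV, hd⟩ := hsep y (hB hy.1) x (hA hx.1) hne
      exact ⟨U, mem_nhdsWithin_of_mem_nhds (hU.mem_nhds hyU),
        U, V, hU, hV, le_rfl, Set.singleton_subset_iff.2 hxV, hd⟩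
    obtain ⟨U, V, hU, hV, hxU, hBV, hd⟩ := h2
    exact ⟨U, mem_nhdsWithin_of_mem_nhds (hU.mem_nhds (Set.singleton_subset_iff.1 hxU)),
      U, V, hU, hV, le_rfl, hBV, hd⟩
  obtain ⟨U, V, hU, hV, hAU, hBV, hd⟩ := hs
  refine ⟨W ∪ U, W ∪ V, hW.union hU, hW.union hV, fun x hx => ?_, fun x hx => ?_, fun x hx => ?_⟩
  · by_cases h : x ∈ W
    exacts [Or.inl h, Or.inr (hAU ⟨hx, h⟩)]
  · by_cases h : x ∈ W
    exacts [Or.inl h, Or.inr (hBV ⟨hx, h⟩)]
  · rcases hx.1 with h | h
    · exact h
    · rcases hx.2 with h' | h'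
      · exact h'
      · exact absurd h' (Set.disjoint_left.1 hd h)

end Groth.Agent.S3093
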