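import Groth.Prelude.Def_EtBase
import Groth.Prelude.Def_Pi1
import Mathlib.AlgebraicGeometry.Morphisms.OpenImmersion
import Mathlib.AlgebraicGeometry.Morphisms.QuasiCompact
import Groth.Agent.EtSite.NormalConst
import Groth.Agent.ImmDescent.Basic
-- import your own Groth.Agent.* helpers here

set_option autoImplicit false
universe u
open CategoryTheory CategoryTheory.Limits AlgebraicGeometry Opposite

namespace Groth.Agent.S3104

open Groth.Agent.EtSite Groth.Agent.EtSite.AllPoints Groth.Agent.EtSite.LocIso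
  Groth.Agent.EtSite.NormalConst

/-- The generalisations of a point of an étale scheme over a normal scheme have a least element. -/
theorem exists_least_generization {X : Scheme.{u}} (hX : Pi1.IsNormalScheme X) (U : X.Etale)
    (a : U.left) : ∃ η : U.left, η ⤳ a ∧ ∀ q, q ⤳ a → η ⤳ q := by
  let x : X := U.hom a
  have := (hX x).1
  let T := Spec (X.presheaf.stalk x)
  let j : T ⟶ X := X.fromSpecStalk x
  have : AlgebraicGeometry.IsIntegral T := inferInstance
  have hT : ∀ t : T, IsIntegrallyClosed (T.presheaf.stalk t) := fun t => by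
    have := (hX x).2
    have h : IsIntegrallyClosed (Localization.AtPrime t.asIdeal) :=
      isIntegrallyClosed_of_isLocalization _ t.asIdeal.primeCompl t.asIdeal.primeCompl_le_nonZeroDivisors
    exact IsIntegrallyClosed.of_equiv (Spec.stalkIso (X.presheaf.stalk x) t).commRingCatIsoToRingEquiv.symm
  let U' : T.Etale := (EtCoh.bc j).obj U
  let pr : U'.left ⟶ U.left := pullback.fst U.hom j
  have : IsPreimmersion pr := MorphismProperty.pullback_fst _ _ (inferInstance : IsPreimmersion j)
  have hlift : ∀ q : U.left, q ⤳ a → ∃ q' : U'.left, pr q' = q := fun q hq => by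
    have h : U.hom q ∈ Set.range j.base := by
      rw [Scheme.range_fromSpecStalk]
      exact hq.map U.hom.continuous
    obtain ⟨t, ht⟩ := h
    obtain ⟨z, hz, -⟩ := Scheme.Pullback.exists_preimage_pullback (f := U.hom) (g := j) q t ht.symm
    exact ⟨z, hz⟩
  obtain ⟨a', ha'⟩ := hlift a specializes_rfl
  obtain ⟨O, haO, hO⟩ := uniBase_of_normal hT U' a'
  obtain ⟨η', hη', hg⟩ := exists_generic_mem U' O ⟨a', haO⟩
  have key : ∀ q' ∈ O, η' ⤳ q' := fun q' hq' => by
    refine specializes_iff_forall_open.2 fun W hW hqW => ?_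
    obtain ⟨η'', ⟨h1, h2⟩, h3⟩ := exists_generic_mem U' (O ⊓ ⟨W, hW⟩) ⟨q', hq', hqW⟩
    rw [hO η' η'' hη' h1 hg h3]
    exact h2
  refine ⟨pr η', ?_, fun q hq => ?_⟩
  · rw [← ha']
    exact (key a' haO).map pr.continuous
  · obtain ⟨q', rfl⟩ := hlift q hq
    rw [← ha'] at hq
    exact (key q' ((pr.isEmbedding.isInducing.specializes_iff.1 hq).mem_open O.isOpen haO)).map
      pr.continuous

theorem unit_bijective {X X' : Scheme.{u}} (hX : Pi1.IsNormalScheme X) {F : EtCoh.Ab X}
    {A : AddCommGrpCat.{u + 1}} (c : LC F A) (j : X' ⟶ X) [IsOpenImmersion j] [QuasiCompact j]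
    (hj : Dense (Set.range j)) (U : X.Etale) :
    Function.Bijective (((EtCoh.pullPushAdj j).unit.app F).hom.app (op U)) := by
  classical
  let η := (EtCoh.pullPushAdj j).unit.app F
  let G' := (EtCoh.pull j).obj F
  let c' := pullLC c j
  have hnat : ∀ {W W' : X.Etale} (k : W' ⟶ W) (s : F.obj.obj (op W)),
      η.hom.app (op W') (F.obj.map k.op s) =
        G'.obj.map ((EtCoh.bc j).map k).op (η.hom.app (op W) s) :=
    fun k s => NatTrans.naturality_apply η.hom k.op s
  have hne : ∀ W : X.Etale, Nonempty W.left → Nonempty ((EtCoh.bc j).obj W).left := by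
    intro W hW
    obtain ⟨w⟩ := hW
    have : Etale W.hom := W.prop
    obtain ⟨y, ⟨w', rfl⟩, z, hz⟩ :=
      hj.inter_open_nonempty _ W.hom.isOpenMap.isOpen_range ⟨_, w, rfl⟩
    obtain ⟨q, -, -⟩ := Scheme.Pullback.exists_preimage_pullback (f := W.hom) (g := j) w' z hz.symm
    exact ⟨q⟩
  have hinj : ∀ W : X.Etale, Function.Injective (η.hom.app (op W)) := by
    intro W
    refine (injective_iff_map_eq_zero _).2 fun s hs => ?_
    choose P m hxP hPm using fun x => c.loc W s x
    refine ext_of_cover F W P (fun x => ⟨x, hxP x⟩) _ _ fun x => ?_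
    have h0 : m x = 0 := by
      obtain ⟨v, -⟩ := (range_resι W (P x)).ge (hxP x)
      refine c'.inj _ (hne _ ⟨v⟩) _ _ ?_
      rw [← unit_app_app c j, ← hPm x, map_zero, hnat]
      exact (congrArg _ hs).trans (map_zero _)
    rw [hPm x, h0, map_zero, map_zero]
  refine ⟨hinj U, fun s' => ?_⟩
  have key : ∀ x : U.left, ∃ (P : U.left.Opens) (m : A), x ∈ P ∧
      G'.obj.map ((EtCoh.bc j).map (resι U P)).op s' = c'.app _ m := by
    intro x
    obtain ⟨V, hV, hxV, -⟩ := exists_isAffineOpen_mem_and_subset (U := (⊤ : U.left.Opens)) (x := x) trivial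
    let U₁ := res U V
    have : IsAffine U₁.left := hV
    let U₁' := (EtCoh.bc j).obj U₁
    let pr : U₁'.left ⟶ U₁.left := pullback.fst U₁.hom j
    have : QuasiCompact pr := inferInstanceAs (QuasiCompact (pullback.fst U₁.hom j))
    have : IsOpenImmersion pr := inferInstanceAs (IsOpenImmersion (pullback.fst U₁.hom j))
    let σ := G'.obj.map ((EtCoh.bc j).map (resι U V)).op s'
    obtain ⟨a, ha⟩ := (range_resι U V).ge hxV
    obtain ⟨η₀, hηa, hleast⟩ := exists_least_generization hX U₁ a
    -- the least generisation lies in the open subscheme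
    have hdense : a ∈ closure (Set.range pr.base) := by
      refine mem_closure_iff.2 fun W hW haW => ?_
      have : Etale U₁.hom := U₁.prop
      obtain ⟨y, ⟨w, hw, rfl⟩, z, hz⟩ :=
        hj.inter_open_nonempty _ (U₁.hom.isOpenMap _ hW) ⟨_, a, haW, rfl⟩
      obtain ⟨q, hq, -⟩ := Scheme.Pullback.exists_preimage_pullback (f := U₁.hom) (g := j) w z hz.symm
      exact ⟨w, hw, q, hq⟩
    obtain ⟨w, hw⟩ := Groth.Agent.ImmDescent.exists_specializes_of_mem_closure_range pr hdense
    obtain ⟨z₀, hz₀⟩ := (hleast _ hw).mem_open pr.isOpenEmbedding.isOpen_range ⟨w, rfl⟩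
    -- finitely many affine pieces with constants
    have hpiece : ∀ q : U₁'.left, ∃ (Q : U₁'.left.Opens) (m : A), IsAffineOpen Q ∧ q ∈ Q ∧
        G'.obj.map (resι U₁' Q).op σ = c'.app _ m := fun q => by
      obtain ⟨P, m, hqP, hPm⟩ := c'.loc U₁' σ q
      obtain ⟨Q, hQ, hqQ, hQP⟩ := exists_isAffineOpen_mem_and_subset (U := P) hqP
      refine ⟨Q, m, hQ, hqQ, ?_⟩
      rw [← map_incl_resι G' U₁' (hQP : Q ≤ P), hPm, c'.nat]
    choose Q m hQ hqQ hQm using hpiece
    have hcpt : CompactSpace U₁'.left := QuasiCompact.compactSpace_of_compactSpace pr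
    obtain ⟨T, hT⟩ := isCompact_univ.elim_finite_subcover (fun q => (Q q : Set U₁'.left))
      (fun q => (Q q).isOpen) (fun q _ => Set.mem_iUnion.2 ⟨q, hqQ q⟩)
    let Bad : Set U₁.left := ⋃ q : {q : U₁'.left // q ∈ T ∧ m q ≠ m z₀},
      closure (Set.range ((Q q.1).ι ≫ pr).base)
    have hfin : Finite {q : U₁'.left // q ∈ T ∧ m q ≠ m z₀} :=
      Set.finite_coe_iff.2 (T.finite_toSet.subset fun q hq => hq.1)
    have hBad : IsClosed Bad := isClosed_iUnion_of_finite fun _ => isClosed_closure
    have haBad : a ∉ Bad := by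
      intro h
      obtain ⟨⟨q, hqT, hne'⟩, hq⟩ := Set.mem_iUnion.1 h
      have : IsAffine (Q q : Scheme.{u}) := hQ q
      have : IsAffineHom ((Q q).ι ≫ pr) := isAffineHom_of_isAffine _
      obtain ⟨v, hv⟩ := Groth.Agent.ImmDescent.exists_specializes_of_mem_closure_range _ hq
      obtain ⟨v', hv'⟩ := (hleast _ hv).mem_open ((Q q).ι ≫ pr).isOpenEmbedding.isOpen_range ⟨v, rfl⟩
      have hz : (Q q).ι v' = z₀ := pr.isOpenEmbedding.injective (by
        rw [← Scheme.Hom.comp_apply, hv', hz₀])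
      refine hne' ?_
      obtain ⟨z, -⟩ := (range_resι U₁' (Q q ⊓ Q z₀)).ge
        (show z₀ ∈ Q q ⊓ Q z₀ from ⟨hz ▸ v'.2, hqQ z₀⟩)
      refine c'.inj (res U₁' (Q q ⊓ Q z₀)) ⟨z⟩ _ _ ?_
      rw [← c'.nat (incl U₁' inf_le_left) (m q), ← c'.nat (incl U₁' inf_le_right) (m z₀),
        ← hQm, ← hQm, map_incl_resι, map_incl_resι]
    let Good : U₁.left.Opens := ⟨Badᶜ, hBad.isOpen_compl⟩
    let P : U.left.Opens := ⟨(resι U V).left.base '' (Good : Set U₁.left),
      V.ι.isOpenEmbedding.isOpenMap _ Good.2⟩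
    refine ⟨P, m z₀, ⟨a, haBad, ha⟩, ?_⟩
    have hPV : P ≤ V := by
      rintro _ ⟨b, -, rfl⟩
      exact (range_resι U V).le ⟨b, rfl⟩
    let lB := (EtCoh.bc j).map (incl U hPV)
    have e : G'.obj.map ((EtCoh.bc j).map (resι U P)).op s' = G'.obj.map lB.op σ := by
      rw [← incl_ι U hPV, Functor.map_comp, op_comp, Functor.map_comp_apply]
    rw [e]
    let prP : ((EtCoh.bc j).obj (res U P)).left ⟶ (res U P).left :=
      pullback.fst (res U P).hom j
    let C : {q // q ∈ T} → ((EtCoh.bc j).obj (res U P)).left.Opens := fun q => lB.left ⁻¹ᵁ Q q.1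
    refine ext_of_cover G' _ C (fun b => ?_) _ _ fun q => ?_
    · obtain ⟨q, hq, hb⟩ := Set.mem_iUnion₂.1 (hT (Set.mem_univ (lB.left.base b)))
      exact ⟨⟨q, hq⟩, hb⟩
    · have hr : Set.range (resι _ (C q) ≫ lB).left.base ⊆ (Q q.1 : Set U₁'.left) := by
        rintro _ ⟨b, rfl⟩
        rw [show (resι _ (C q) ≫ lB).left.base b = lB.left.base ((resι _ (C q)).left.base b) from
          Scheme.Hom.comp_apply _ _ b]
        exact (range_resι _ (C q)).le ⟨b, rfl⟩
      have e2 : G'.obj.map (resι _ (C q)).op (G'.obj.map lB.op σ) = c'.app _ (m q.1) := by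
        rw [← Functor.map_comp_apply, ← op_comp, ← resLift_ι (resι _ (C q) ≫ lB) (Q q.1) hr,
          op_comp, Functor.map_comp_apply, hQm, c'.nat]
      rw [e2, c'.nat]
      by_cases hmq : m q.1 = m z₀
      · rw [hmq]
      · have hempty : ∀ b : ((EtCoh.bc j).obj (res U P)).left, b ∉ C q := by
          intro b hb
          have h1 : pr (lB.left.base b) = (incl U hPV).left.base (prP b) :=
            (Scheme.Hom.comp_apply lB.left pr b).symm.trans
              ((congrArg (fun k => k.base b) (bc_map_left_fst j (incl U hPV))).trans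
                (Scheme.Hom.comp_apply prP (incl U hPV).left b))
          have h2 : pr (lB.left.base b) ∈ Bad := Set.mem_iUnion.2
            ⟨⟨q.1, q.2, hmq⟩, subset_closure ⟨⟨_, hb⟩, Scheme.Hom.comp_apply (Q q.1).ι pr ⟨_, hb⟩⟩⟩
          obtain ⟨g₀, hg₀, hg₀e⟩ := (range_resι U P).le ⟨prP b, rfl⟩
          have h3 : (incl U hPV).left.base (prP b) = g₀ := V.ι.isOpenEmbedding.injective
            ((Scheme.Hom.comp_apply _ _ _).symm.trans
              ((congrArg (fun k : res U P ⟶ U => k.left.base (prP b)) (incl_ι U hPV)).trans hg₀e.symm))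
          exact hg₀ (h3 ▸ h1 ▸ h2)
        exact ext_of_cover G' _ (ι := PEmpty.{u + 1}) (fun e => e.elim)
          (fun b => (hempty _ ((range_resι _ (C q)).le ⟨b, rfl⟩)).elim) _ _ fun e => e.elim
  choose P m hxP hPm using key
  obtain ⟨t, ht⟩ := exists_glue F U P (fun x => ⟨x, hxP x⟩) (fun x => c.app _ (m x)) (fun x y => by
    refine hinj _ ?_
    rw [c.nat, c.nat, unit_app_app c j, unit_app_app c j]
    rw [← c'.nat ((EtCoh.bc j).map (incl U (inf_le_left (b := P y)))) (m x),
      ← c'.nat ((EtCoh.bc j).map (incl U (inf_le_right (a := P x)))) (m y), ← hPm, ← hPm,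
      ← Functor.map_comp_apply, ← Functor.map_comp_apply, ← op_comp, ← op_comp,
      ← Functor.map_comp, ← Functor.map_comp, incl_ι, incl_ι])
  refine ⟨t, ?_⟩
  let U' := (EtCoh.bc j).obj U
  let pr : U'.left ⟶ U.left := pullback.fst U.hom j
  refine ext_of_cover G' U' (fun x => pr ⁻¹ᵁ P x) (fun q => ⟨pr q, hxP (pr q)⟩) _ _ fun x => ?_
  have hr : Set.range ((resι U' (pr ⁻¹ᵁ P x)).left ≫ pr).base ⊆ (P x : Set U.left) := by
    rintro _ ⟨w, rfl⟩
    rw [Scheme.Hom.comp_apply]
    exact (range_resι U' (pr ⁻¹ᵁ P x)).le ⟨w, rfl⟩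
  let l₁ := openLift (P x) ((resι U' (pr ⁻¹ᵁ P x)).left ≫ pr) hr
  have hl₁ : l₁ ≫ (P x).ι = (resι U' (pr ⁻¹ᵁ P x)).left ≫ pr := openLift_ι _ _ _
  let L : (res U' (pr ⁻¹ᵁ P x)).left ⟶ ((EtCoh.bc j).obj (res U (P x))).left :=
    pullback.lift l₁ ((resι U' (pr ⁻¹ᵁ P x)).left ≫ pullback.snd U.hom j) (by
      change l₁ ≫ (P x).ι ≫ U.hom = _
      rw [← Category.assoc, hl₁, Category.assoc, Category.assoc]
      exact congrArg (_ ≫ ·) pullback.condition)
  let l : res U' (pr ⁻¹ᵁ P x) ⟶ (EtCoh.bc j).obj (res U (P x)) :=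
    MorphismProperty.Over.homMk L (pullback.lift_snd _ _ _) trivial
  have el : l ≫ (EtCoh.bc j).map (resι U (P x)) = resι U' (pr ⁻¹ᵁ P x) := by
    refine MorphismProperty.Over.Hom.ext (pullback.hom_ext ?_ ?_)
    · refine (Category.assoc _ _ _).trans
        ((congrArg (L ≫ ·) (bc_map_left_fst j (resι U (P x)))).trans ?_)
      exact (Category.assoc _ _ _).symm.trans
        ((congrArg (· ≫ (P x).ι) (pullback.lift_fst _ _ _)).trans hl₁)
    · exact (Category.assoc _ _ _).trans
        ((congrArg (L ≫ ·) (bc_map_left_snd j (resι U (P x)))).trans (pullback.lift_snd _ _ _))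
  rw [← el, op_comp, Functor.map_comp_apply, Functor.map_comp_apply, ← hnat, ht x,
    unit_app_app c j, hPm x]

/-- Let X be a normal scheme, j : U → X a quasi-compact open immersion with dense image, and M an
abelian group. Then the natural map from the constant sheaf M_X on X_ét to j_* j^* M_X (the unit of
the adjunction) is an isomorphism. The published statement is more general, allowing X geometrically
unibranch and sheaves of sets; stated here for X normal, j an open immersion and constant abelian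
sheaves. -/
theorem result (X U : Scheme.{u}) (hX : Pi1.IsNormalScheme X)
    (j : U ⟶ X) [IsOpenImmersion j] [QuasiCompact j] (hj : Dense (Set.range j)) [EtCoh.BCCont j]
    (M : Type) [AddCommGroup M] :
    IsIso ((EtCoh.pullPushAdj j).unit.app (EtCoh.const X M)) := by
  have : ∀ V, IsIso (((EtCoh.pullPushAdj j).unit.app (EtCoh.const X M)).hom.app V) := fun V =>
    (ConcreteCategory.isIso_iff_bijective _).2 (unit_bijective hX (constLC _) j hj V.unop)
  have h : IsIso ((EtCoh.pullPushAdj j).unit.app (EtCoh.const X M)).hom :=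
    NatIso.isIso_of_isIso_app _
  have : IsIso ((sheafToPresheaf _ _).map
    ((EtCoh.pullPushAdj j).unit.app (EtCoh.const X M))) := h
  exact isIso_of_reflects_iso _ (sheafToPresheaf X.smallEtaleTopology AddCommGrpCat.{u + 1})

end Groth.Agent.S3104
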