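import Groth.Prelude.Def_EtBase
import Groth.Prelude.Def_Pi1
import Mathlib.AlgebraicGeometry.FunctionField
import Groth.Agent.EtSite.FlasqueH
-- import your own Groth.Agent.* helpers here

set_option autoImplicit false
universe u
open CategoryTheory CategoryTheory.Limits AlgebraicGeometry Opposite

namespace Groth.Agent.S3105

/-- Let X be a normal integral scheme with generic point η, g : Spec κ(η) → X the canonical morphism and
M an abelian group. Then the unit map from the constant sheaf M_X on X_ét to g_*g^*M_X is an
isomorphism. (The published statement is more general, allowing X geometrically unibranch and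
sheaves of sets. Continuity of the functor of étale sites along g is carried as an instance binder.) -/
theorem result (X : Scheme.{u}) [IsIntegral X] (hX : Pi1.IsNormalScheme X)
    [EtCoh.BCCont (X.fromSpecResidueField (genericPoint X))] (M : Type) [AddCommGroup M] :
    IsIso ((EtCoh.pullPushAdj (X.fromSpecResidueField (genericPoint X))).unit.app (EtCoh.const X M)) := by
  have hmap : ∀ y, X.fromSpecResidueField (genericPoint X) y = genericPoint X :=
    fun y => Scheme.fromSpecResidueField_apply _ y
  exact Groth.Agent.EtSite.NormalConst.isIso_unit
    (Groth.Agent.EtSite.NormalConst.constLC _)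
    (Groth.Agent.EtSite.uniBase_of_normal fun x => (hX x).2)
    (X.fromSpecResidueField (genericPoint X)) (fun P ⟨y, hy⟩ => ⟨y, hy, hmap y⟩)
    ⟨_, hmap (IsLocalRing.closedPoint _)⟩

end Groth.Agent.S3105
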