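import Groth.Prelude.Def_PBC
import Mathlib.AlgebraicGeometry.Noetherian
import Mathlib.FieldTheory.IsSepClosed
import Mathlib.Topology.Constructible
import Mathlib.SetTheory.Cardinal.Finite
import Groth.Agent.EtSite.StrataLocus
import Groth.Agent.EtSite.StrataAb
import Groth.Agent.EtSite.SamePoint
-- import your own Groth.Agent.* helpers here

set_option autoImplicit false
universe u
open CategoryTheory CategoryTheory.Limits AlgebraicGeometry Opposite

namespace Groth.Agent.S3116

/-- For abelian sheaves: let X be locally noetherian and F an abelian sheaf on the small etale site of X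
whose geometric stalks (at all geometric points with separably closed residue field) are finite.
Then F is constructible if and only if for every natural number n the set of points x of X such that
the stalk of F at some geometric point over x has exactly n elements is locally constructible. -/
theorem result (X : Scheme.{u}) [IsLocallyNoetherian X] (F : EtCoh.Ab X)
    (hfin : ∀ (Ω : Type u) [Field Ω] [IsSepClosed Ω] (ξ : Spec (CommRingCat.of Ω) ⟶ X),
      Finite ((EtCoh.stalk ξ).obj F)) :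
    EtPBC.IsConstructible F ↔ ∀ n : ℕ, Topology.IsLocallyConstructible
      {x : X | ∃ (Ω : Type u) (_ : Field Ω) (_ : IsSepClosed Ω) (ξ : Spec (CommRingCat.of Ω) ⟶ X),
        Set.range ξ = {x} ∧ Nat.card ((EtCoh.stalk ξ).obj F) = n} := by
  classical
  open Groth.Agent.EtSite in
  let S : ℕ → Set X := fun n => StrataLocus.locus (fun A => Nat.card A ≠ n) F
  have hP : ∀ n : ℕ, ∀ {A B : AddCommGrpCat.{u + 1}}, (A ≅ B) → Nat.card A ≠ n → Nat.card B ≠ n :=
    fun n {A B} e hA => by rwa [← Nat.card_congr (Iso.addCommGroupIsoToAddEquiv e).toEquiv]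
  have hS : ∀ n : ℕ, {x : X | ∃ (Ω : Type u) (_ : Field Ω) (_ : IsSepClosed Ω)
      (ξ : Spec (CommRingCat.of Ω) ⟶ X),
        Set.range ξ = {x} ∧ Nat.card ((EtCoh.stalk ξ).obj F) = n} = (S n)ᶜ := fun n => by
    ext x
    simp only [S, Groth.Agent.EtSite.StrataLocus.locus,
      Groth.Agent.EtSite.StrataLocus.range_eq_singleton_iff, Set.mem_compl_iff, Set.mem_setOf_eq,
      not_forall, not_not, exists_prop]
  simp only [hS]
  constructor
  · intro hF n x
    obtain ⟨U, hU, hxU, -⟩ := exists_isAffineOpen_mem_and_subset (x := x) (U := ⊤) trivial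
    have : IsAffine U.toScheme := hU
    refine ⟨U, U.2.mem_nhds hxU, U.2, ?_⟩
    have h := (Groth.Agent.EtSite.StrataLocus.isConstructible_locus (hP n)
      (Groth.Agent.EtSite.StrataLocal.isConstructible_pull U.ι hF)).compl
    rw [← Groth.Agent.EtSite.StrataLocus.preimage_locus (hP n) U.ι F] at h
    exact h
  · intro hn
    refine Groth.Agent.EtSite.StrataNoeth.isConstructible_of_generic fun x => ?_
    let n := Nat.card ((EtCoh.stalk (Groth.Agent.EtSite.gpt x)).obj F)
    have hxn : x ∈ (S n)ᶜ := fun h => h _ _ (Groth.Agent.EtSite.gpt_apply x _) rfl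
    obtain ⟨U, hUx, hUo, hUc⟩ := hn n x
    have hxU : x ∈ U := mem_of_mem_nhds hUx
    obtain ⟨A, hA, hxA, hAU⟩ := exists_isAffineOpen_mem_and_subset (x := x) (U := ⟨U, hUo⟩) hxU
    have : IsAffine A.toScheme := hA
    have : IsNoetherian A.toScheme := {}
    have hc : Topology.IsConstructible (Subtype.val ⁻¹' (S n)ᶜ : Set A.toScheme) := by
      have h := hUc.preimage_of_isOpenEmbedding
        (Topology.IsOpenEmbedding.inclusion hAU (A.2.preimage continuous_subtype_val))
      exact h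
    let x' : A.toScheme := ⟨x, hxA⟩
    obtain ⟨O, hO, ⟨y, hyY, hyO⟩, hOE⟩ := Groth.Agent.ConstrBasics.exists_open_of_subset_closure
      (isIrreducible_singleton (x := x')).closure hc
      (closure_mono (by rintro _ rfl; exact ⟨hxn, subset_closure rfl⟩))
    have hxO : x' ∈ O := by
      obtain ⟨z, hzO, rfl⟩ := mem_closure_iff.1 hyY O hO hyO
      exact hzO
    let V : X.Opens := A.ι ''ᵁ ⟨O, hO⟩
    have hsub : (V : Set X) ∩ closure {x} ⊆ (S n)ᶜ := by
      rintro _ ⟨⟨z, hz, rfl⟩, hzc⟩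
      refine hOE ⟨?_, hz⟩
      rw [A.ι.isEmbedding.closure_eq_preimage_closure_image {x'}, Set.image_singleton]
      exact hzc
    obtain ⟨T, g, hg, hr⟩ := Groth.Agent.EtSite.Strata.exists_immersion
      (L := (V : Set X) ∩ closure {x}) ⟨V, _, V.2, isClosed_closure, rfl⟩
    obtain ⟨τ, hτx⟩ : x ∈ Set.range g := hr.ge ⟨⟨x', hxO, rfl⟩, subset_closure rfl⟩
    have hτ : ∀ O : T.Opens, (O : Set T).Nonempty → τ ∈ O := fun O ⟨y, hy⟩ => by
      obtain ⟨O', hO', e⟩ := g.isEmbedding.isInducing.isOpen_iff.1 O.2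
      obtain ⟨z, hz, rfl⟩ := mem_closure_iff.1 (hr.le ⟨y, rfl⟩).2 O' hO' (e.ge hy)
      exact e.le (show g τ ∈ O' from hτx ▸ hz)
    have hcard : ∀ (Ω : Type u) [Field Ω] [IsSepClosed Ω] (ξ : Spec (CommRingCat.of Ω) ⟶ X),
        ξ default ∈ (S n)ᶜ → Nat.card ((EtCoh.stalk ξ).obj F) = n := by
      intro Ω _ _ ξ hξ
      by_contra hne
      refine hξ fun Ω' _ _ ξ' hξ' => ?_
      -- both geometric points lie over one point, so their stalks have the same cardinality
      exact fun e => hne ((Groth.Agent.EtSite.SamePoint.natCard_stalk_eq F ξ' ξ hξ').symm.trans e)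
    obtain ⟨O₁, hτO, hG⟩ := Groth.Agent.EtSite.StrataLocus.exists_open_isFLC_of_card τ hτ
      (F := (EtCoh.pull g).obj F) (fun Ω _ _ ξ => Finite.of_equiv _
        (Iso.addCommGroupIsoToAddEquiv ((Groth.Agent.EtSite.stalkPullIso g ξ).app F)).toEquiv) n
      (fun Ω _ _ ξ => (Nat.card_congr
        (Iso.addCommGroupIsoToAddEquiv ((Groth.Agent.EtSite.stalkPullIso g ξ).app F)).toEquiv).symm.trans
        (hcard Ω (ξ ≫ g) (hsub (hr.le ⟨ξ default, (Scheme.Hom.comp_apply _ _ _).symm⟩))))
    obtain ⟨O', hO', e⟩ := g.isEmbedding.isInducing.isOpen_iff.1 O₁.2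
    refine ⟨V ⊓ ⟨O', hO'⟩, ⟨⟨x', hxO, rfl⟩, show x ∈ O' from hτx ▸ e.ge hτO⟩, O₁.toScheme, O₁.ι ≫ g,
      inferInstance, ?_, Groth.Agent.EtSite.FLCBasic.isFLC_of_iso
        ((EtCore.pullComp O₁.ι g).app F).symm hG⟩
    rintro z ⟨⟨hzV, hzO⟩, hzc⟩
    obtain ⟨y, rfl⟩ := hr.ge ⟨hzV, hzc⟩
    exact ⟨⟨y, e.le hzO⟩, rfl⟩

end Groth.Agent.S3116
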