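import Groth.Statements.S3120
-- import your own Groth.Agent.* helpers here

set_option autoImplicit false
universe u
open CategoryTheory CategoryTheory.Limits AlgebraicGeometry Opposite
open EtDual

namespace Groth.Agent.S3120

open EtShriek in
/-- Composing with an open immersion commutes with base change. -/
noncomputable def bcCompIso {X Y V : Scheme.{u}} (f : X ⟶ Y) (j : V ⟶ Y) [IsOpenImmersion j] :
    compEtale j ⋙ EtCoh.bc f ≅ EtCoh.bc (pullback.snd f j) ⋙ compEtale (pullback.fst f j) :=
  have h (A : V.Etale) : IsPullback (pullback.fst A.hom (pullback.snd f j))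
      (pullback.snd A.hom (pullback.snd f j) ≫ pullback.fst f j) (A.hom ≫ j) f :=
    (IsPullback.of_hasPullback A.hom (pullback.snd f j)).paste_vert
      (IsPullback.of_hasPullback f j).flip
  Iso.symm (NatIso.ofComponents
    (fun A => MorphismProperty.Over.isoMk (h A).isoPullback (h A).isoPullback_hom_snd)
    (fun {A B} a => by
      refine MorphismProperty.Over.Hom.ext (pullback.hom_ext ?_ ?_)
      · refine (Category.assoc _ _ _).trans ((congrArg (_ ≫ ·) (h B).isoPullback_hom_fst).trans ?_)
        refine ((EtCoh.isPullback_bc_map (pullback.snd f j) a).w).trans ?_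
        refine Eq.trans ?_ (Category.assoc _ _ _).symm
        refine Eq.trans ?_ (congrArg (_ ≫ ·) (EtCoh.isPullback_bc_map f ((compEtale j).map a)).w).symm
        exact (congrArg (· ≫ a.left) (h A).isoPullback_hom_fst.symm).trans (Category.assoc _ _ _)
      · have h1 : ((EtCoh.bc (pullback.snd f j)).map a).left ≫
            pullback.snd B.hom (pullback.snd f j) = pullback.snd A.hom (pullback.snd f j) :=
          Over.w ((EtCoh.bc (pullback.snd f j)).map a).hom
        have h2 : ((EtCoh.bc f).map ((compEtale j).map a)).left ≫ pullback.snd (B.hom ≫ j) f =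
            pullback.snd (A.hom ≫ j) f :=
          Over.w ((EtCoh.bc f).map ((compEtale j).map a)).hom
        refine (Category.assoc _ _ _).trans ((congrArg (_ ≫ ·) (h B).isoPullback_hom_snd).trans ?_)
        refine (Category.assoc _ _ _).symm.trans ((congrArg (· ≫ pullback.fst f j) h1).trans ?_)
        refine Eq.trans ?_ (Category.assoc _ _ _).symm
        exact (h A).isoPullback_hom_snd.symm.trans (congrArg (_ ≫ ·) h2.symm)))

/-- Let f : X → Y be a morphism of schemes, j : V → Y an open immersion, and U = X ×_Y V with
projections f' : U → V and j' : U → X (an open immersion). Then for every abelian sheaf G on the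
small étale site of V, the sheaves f^*(j_!G) and j'_!(f'^*G) on X are isomorphic. (The published
statement gives a unique isomorphism compatible with the base change map for j_*; only the existence
of an isomorphism is stated here. The prelude's instances for the inverse image functors along f and
f' are carried as binders.) -/
theorem result {X Y V : Scheme.{u}} (f : X ⟶ Y) (j : V ⟶ Y) [IsOpenImmersion j]
    [EtCoh.BCCont f] [EtCoh.BCCont (pullback.snd f j)] (G : EtCoh.Ab V) :
    Nonempty ((EtCoh.pull f).obj ((EtShriek.extZero j).obj G) ≅
      (EtShriek.extZero (pullback.fst f j)).obj ((EtCoh.pull (pullback.snd f j)).obj G)) := by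
  let ψ := bcCompIso f j
  let e : EtCoh.push f ⋙ EtShriek.restrAlong j ≅
      EtShriek.restrAlong (pullback.fst f j) ⋙ EtCoh.push (pullback.snd f j) :=
    NatIso.ofComponents
      (fun F => (fullyFaithfulSheafToPresheaf _ _).preimageIso
        (Functor.isoWhiskerRight (NatIso.op ψ).symm F.obj))
      (fun a => by
        ext W z
        exact (NatTrans.naturality_apply a.hom (ψ.inv.app W.unop).op z).symm)
  exact ⟨(((EtShriek.extZeroAdj j).comp (EtCoh.pullPushAdj f)).leftAdjointUniq
    (((EtCoh.pullPushAdj (pullback.snd f j)).comp
      (EtShriek.extZeroAdj (pullback.fst f j))).ofNatIsoRight e.symm)).app G⟩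

end Groth.Agent.S3120
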