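import Mathlib
import Groth.Statements.S3133
-- import your own Groth.Agent.* helpers here

set_option autoImplicit false
open Polynomial
open SGA4h

namespace Groth.Agent.S3133

section
open Matrix Polynomial

lemma key (R : Type) [CommRing R] (m : Type) [Fintype m] [DecidableEq m] (A : Matrix m m R) (n : ℕ) :
    (Matrix.of fun (p q : Fin (n+1) × m) =>
        if p.1.val = 0 then (if q.1.val = (n+1) - 1 then A p.2 q.2 else 0)
        else (if q.1.val + 1 = p.1.val ∧ p.2 = q.2 then 1 else 0)).charpolyRev =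
      Polynomial.expand R (n+1) A.charpolyRev := by
  set B : Matrix (Fin (n+1) × m) (Fin (n+1) × m) R := Matrix.of fun (p q : Fin (n+1) × m) =>
        if p.1.val = 0 then (if q.1.val = (n+1) - 1 then A p.2 q.2 else 0)
        else (if q.1.val + 1 = p.1.val ∧ p.2 = q.2 then 1 else 0) with hB
  set M : Matrix (Fin (n+1) × m) (Fin (n+1) × m) R[X] := 1 - (X : R[X]) • B.map C with hM
  let L : Matrix (Fin (n+1) × m) (Fin (n+1) × m) R[X] := Matrix.of fun p q =>
    if (q.1 : ℕ) ≤ p.1 ∧ p.2 = q.2 then X ^ ((p.1 : ℕ) - q.1) else 0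
  have hent : ∀ p q, (M * L) p q = L p q - X * ∑ r, C (B p r) * L r q := by
    intro p q
    rw [hM, Matrix.sub_mul, Matrix.one_mul, Matrix.smul_mul, Matrix.sub_apply, Matrix.smul_apply, Matrix.mul_apply, smul_eq_mul]
    rfl
  have h0 : ∀ p q : Fin (n+1) × m, (p.1 : ℕ) = 0 → ∑ r, C (B p r) * L r q = C (A p.2 q.2) * X ^ (n - (q.1 : ℕ)) := by
    intro p q hp
    rw [Finset.sum_eq_single (Fin.last n, q.2)]
    · simp [hB, L, hp, show p.1 = 0 from Fin.ext hp, Fin.le_last, Nat.le_of_lt_succ q.1.isLt]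
    · intro r _ hr
      by_cases h1 : (r.1 : ℕ) = n
      · have h2 : r.2 ≠ q.2 := fun h => hr (Prod.ext (Fin.ext h1) h)
        simp [L, h2]
      · simp [hB, hp, show p.1 = 0 from Fin.ext hp, h1]
    · simp
  have h1 : ∀ p q : Fin (n+1) × m, (p.1 : ℕ) ≠ 0 → X * ∑ r, C (B p r) * L r q =
      if (q.1 : ℕ) < p.1 ∧ p.2 = q.2 then X ^ ((p.1 : ℕ) - q.1) else 0 := by
    intro p q hp
    have hlt : (p.1 : ℕ) - 1 < n + 1 := by omega
    rw [Finset.sum_eq_single (⟨(p.1 : ℕ) - 1, hlt⟩, p.2)]
    · have e : ((p.1 : ℕ) - 1) + 1 = p.1 := by omega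
      simp only [hB, L, Matrix.of_apply, hp, if_false, e, and_self, if_true, map_one, one_mul]
      by_cases hc : (q.1 : ℕ) < p.1 ∧ p.2 = q.2
      · rw [if_pos hc, if_pos ⟨by omega, hc.2⟩, ← pow_succ']
        congr 1; omega
      · rw [if_neg hc, if_neg (fun h => hc ⟨by omega, h.2⟩), mul_zero]
    · intro r _ hr
      have : ¬ ((r.1 : ℕ) + 1 = p.1 ∧ p.2 = r.2) := fun h => hr (Prod.ext (Fin.ext (by simp; omega)) h.2.symm)
      simp [hB, hp, show p.1 ≠ 0 from fun h => hp (by simp [h]), this]
    · simp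
  have hL : L.det = 1 := by
    have hT : L.BlockTriangular (fun p => OrderDual.toDual p.1) := fun p q hpq => by
      have : p.1 < q.1 := hpq
      simp [L, this.not_ge]
    rw [hT.det_fintype]
    refine Finset.prod_eq_one fun k _ => ?_
    rw [show L.toSquareBlock _ k = 1 from ?_, Matrix.det_one]
    ext ⟨p, hp⟩ ⟨q, hq⟩
    have e : p.1 = q.1 := OrderDual.toDual.injective (hp.trans hq.symm)
    simp only [Matrix.toSquareBlock_def, Matrix.of_apply, L, Matrix.one_apply, Subtype.mk.injEq, Prod.ext_iff, e, le_refl, true_and, Nat.sub_self, pow_zero]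
  have hT2 : (M * L).BlockTriangular Prod.fst := fun p q hpq => by
    have hp : (p.1 : ℕ) ≠ 0 := by
      have : (q.1 : ℕ) < p.1 := hpq
      omega
    have hlt : (q.1 : ℕ) < p.1 := hpq
    rw [hent, h1 p q hp]
    simp only [L, Matrix.of_apply, hlt, hlt.le, true_and, sub_self]
  have hk : ∀ k : Fin (n+1), ((M * L).toSquareBlock Prod.fst k).det =
      if k = 0 then Polynomial.expand R (n+1) A.charpolyRev else 1 := by
    intro k
    let e : m ≃ {p : Fin (n+1) × m // p.1 = k} :=
      { toFun := fun i => ⟨(k, i), rfl⟩, invFun := fun p => p.1.2, left_inv := fun i => rfl,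
        right_inv := fun ⟨⟨a, b⟩, h⟩ => by subst h; rfl }
    rw [← Matrix.det_submatrix_equiv_self e]
    split_ifs with hk
    · subst hk
      rw [Matrix.charpolyRev, AlgHom.map_det]
      congr 1
      ext i j : 1
      simp only [Matrix.submatrix_apply, Matrix.toSquareBlock_def, Matrix.of_apply, AlgHom.mapMatrix_apply, Matrix.map_apply]
      show (M * L) ((0 : Fin (n+1)), i) ((0 : Fin (n+1)), j) = _
      rw [hent, h0 _ _ rfl]
      by_cases hij : i = j
      · simp [L, hij, pow_succ]; ring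
      · simp [L, hij, pow_succ]; ring
    · rw [show ((M * L).toSquareBlock Prod.fst k).submatrix e e = 1 from ?_, Matrix.det_one]
      ext i j : 1
      simp only [Matrix.submatrix_apply, Matrix.toSquareBlock_def, Matrix.of_apply]
      show (M * L) (k, i) (k, j) = _
      have hk' : ((k : Fin (n+1)) : ℕ) ≠ 0 := fun h => hk (Fin.ext h)
      rw [hent, h1 (k, i) (k, j) hk']
      simp [L, Matrix.one_apply]
  calc B.charpolyRev = (M * L).det := by rw [Matrix.det_mul, hL, mul_one]; rfl
    _ = _ := by rw [hT2.det_fintype, Finset.prod_congr rfl (fun k _ => hk k), Finset.prod_ite_eq']; simp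

end


/-- Let A be a square matrix over a commutative ring and n ≥ 1, and let B be the matrix on n blocks of
the endomorphism (x_1, …, x_n) ↦ (A x_n, x_1, …, x_{n-1}). Then det(1 − B·T) = det(1 − A·Tⁿ), i.e.
the reverse characteristic polynomial of B is that of A expanded by n. -/
theorem result (R : Type) [CommRing R] (m : Type) [Fintype m] [DecidableEq m]
    (A : Matrix m m R) (n : ℕ) (hn : 1 ≤ n) :
    (Matrix.of fun (p q : Fin n × m) =>
        if p.1.val = 0 then (if q.1.val = n - 1 then A p.2 q.2 else 0)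
        else (if q.1.val + 1 = p.1.val ∧ p.2 = q.2 then 1 else 0)).charpolyRev =
      Polynomial.expand R n A.charpolyRev := by
  obtain ⟨n, rfl⟩ : ∃ k, n = k + 1 := ⟨n - 1, by omega⟩
  exact key R m A n

end Groth.Agent.S3133
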