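import Mathlib
import Groth.Statements.S3134
-- import your own Groth.Agent.* helpers here

set_option autoImplicit false
open Polynomial
open SGA4h

namespace Groth.Agent.S3134

/-- For a square matrix A over a commutative ring, with P(T) = det(1 − A·T), one has −T·P′(T) = P(T) ·
Σ_{n ≥ 1} Tr(Aⁿ) Tⁿ as formal power series (equivalently T d/dT log P(T)⁻¹ = Σ_{n≥1} Tr(Aⁿ) Tⁿ). -/
theorem result (R : Type) [CommRing R] (m : Type) [Fintype m] [DecidableEq m]
    (A : Matrix m m R) :
    ((-(X * Polynomial.derivative A.charpolyRev) : R[X]) : PowerSeries R) =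
      (A.charpolyRev : PowerSeries R) * PowerSeries.mk (fun n => if n = 0 then 0 else (A ^ n).trace) := by
  classical
  set Bp : Matrix m m R[X] := 1 - (X : R[X]) • A.map Polynomial.C with hBp
  have hder : Polynomial.derivative Bp.det = (Bp.adjugate * Bp.map Polynomial.derivative).trace := by
    rw [Matrix.det_apply']
    simp only [Matrix.trace, Matrix.diag_apply]
    have h1 : ∀ j, (Bp.adjugate * Bp.map Polynomial.derivative) j j =
        (Bp.updateCol j (fun i => Polynomial.derivative (Bp i j))).det := by
      intro j
      rw [← Matrix.cramer_apply, Matrix.cramer_eq_adjugate_mulVec]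
      rfl
    simp only [h1, Matrix.det_apply']
    rw [Finset.sum_comm, Polynomial.derivative_sum]
    refine Finset.sum_congr rfl fun σ _ => ?_
    rw [Polynomial.derivative_mul, Polynomial.derivative_intCast, zero_mul, zero_add,
      Polynomial.derivative_prod_finset, Finset.mul_sum]
    refine Finset.sum_congr rfl fun j _ => ?_
    congr 1
    rw [← Finset.mul_prod_erase Finset.univ _ (Finset.mem_univ j), mul_comm]
    congr 1
    · simp
    · exact Finset.prod_congr rfl fun i hi => by simp [Matrix.updateCol_ne (Finset.ne_of_mem_erase hi)]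
  have hB' : Bp.map Polynomial.derivative = -(A.map Polynomial.C) := by
    ext i j
    by_cases h : i = j <;> simp [hBp, Matrix.one_apply, h, Polynomial.derivative_mul]
  let φ : R[X] →+* PowerSeries R := Polynomial.coeToPowerSeries.ringHom
  let G : Matrix m m (PowerSeries R) := Matrix.of fun i j => PowerSeries.mk fun n => (A ^ n) i j
  have hG : φ.mapMatrix Bp * G = 1 := by
    have : φ.mapMatrix Bp = 1 - (PowerSeries.X : PowerSeries R) • A.map PowerSeries.C := by
      ext i j : 1
      by_cases h : i = j <;> simp [φ, hBp, Matrix.one_apply, h] <;> exact (PowerSeries.commute_X _).eq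
    rw [this, Matrix.sub_mul, Matrix.one_mul, Matrix.smul_mul]
    ext i j : 1
    refine PowerSeries.ext fun n => ?_
    cases n with
    | zero => by_cases h : i = j <;> simp [G, Matrix.mul_apply, Matrix.one_apply, h]
    | succ n =>
      simp [G, Matrix.mul_apply, pow_succ', Matrix.one_apply, apply_ite, PowerSeries.coeff_one, PowerSeries.coeff_succ_X_mul]
  have hadj : φ.mapMatrix Bp.adjugate = φ Bp.det • G := by
    rw [RingHom.map_adjugate, RingHom.map_det, ← Matrix.mul_one (Matrix.adjugate _), ← hG, ← Matrix.mul_assoc,
      Matrix.adjugate_mul, Matrix.smul_mul, Matrix.one_mul]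
  have hP : A.charpolyRev = Bp.det := rfl
  rw [hP, hder, hB', Matrix.mul_neg, Matrix.trace_neg, mul_neg, neg_neg]
  suffices key : φ (X * (Bp.adjugate * A.map Polynomial.C).trace) = φ Bp.det * PowerSeries.mk (fun n => if n = 0 then 0 else (A ^ n).trace) by
    exact key
  rw [map_mul, show φ (Bp.adjugate * A.map Polynomial.C).trace = (φ.mapMatrix (Bp.adjugate * A.map Polynomial.C)).trace from
    AddMonoidHom.map_trace φ.toAddMonoidHom _, map_mul φ.mapMatrix, hadj, Matrix.smul_mul, Matrix.trace_smul, smul_eq_mul,
    mul_left_comm]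
  congr 1
  rw [show φ X = PowerSeries.X by simp [φ]]
  refine PowerSeries.ext fun n => ?_
  cases n with
  | zero => simp
  | succ n =>
    simp [G, φ, Matrix.trace, Matrix.mul_apply, pow_succ, PowerSeries.coeff_succ_X_mul]

end Groth.Agent.S3134
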