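import Groth.Statements.S3194
import Groth.Agent.KGrp.Sub
import Mathlib.LinearAlgebra.FreeModule.PID
import Mathlib.Algebra.Homology.ShortComplex.ModuleCat
import Mathlib.LinearAlgebra.Dimension.RankNullity
import Mathlib.LinearAlgebra.Dimension.Localization

set_option autoImplicit false
universe u
open CategoryTheory
open SGA6

namespace Groth.Agent.S3194

variable {A : Type u} [CommRing A]

variable (A) in
abbrev fin : ObjectProperty (ModuleCat.{u} A) := fun M => Module.Finite A M

lemma cl_of_linearEquiv {M N : Type u} [AddCommGroup M] [Module A M] [AddCommGroup N] [Module A N]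
    [Module.Finite A M] [Module.Finite A N] (e : M ≃ₗ[A] N) :
    KZero.clSub (fin A) (ModuleCat.of A M) = KZero.clSub (fin A) (ModuleCat.of A N) :=
  KGrp.clSub_congr (P := (fin A)) (Z := ModuleCat.of A PUnit.{u + 1}) ‹Module.Finite A M› ‹Module.Finite A N›
    (inferInstanceAs (Module.Finite A PUnit.{u + 1})) (ModuleCat.isZero_of_subsingleton _) e.toModuleIso

lemma cl_pi (n : ℕ) : KZero.clSub (fin A) (ModuleCat.of A (Fin n → A)) = (n : ℤ) • KZero.clSub (fin A) (ModuleCat.of A A) := by
  induction n with
  | zero =>
    rw [KGrp.clSub_eq_zero (P := (fin A)) (inferInstanceAs (Module.Finite A (Fin 0 → A)))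
      (ModuleCat.isZero_of_subsingleton _)]
    simp
  | succ n ih =>
    let f : A →ₗ[A] (Fin (n + 1) → A) := LinearMap.single A (fun _ => A) 0
    let g : (Fin (n + 1) → A) →ₗ[A] (Fin n → A) := LinearMap.funLeft A A Fin.succ
    have h0 : g.comp f = 0 := by ext j; simp [f, g, LinearMap.funLeft, Fin.succ_ne_zero]
    have hS : (ModuleCat.shortComplexOfCompEqZero f g h0).ShortExact := by
      refine ModuleCat.shortComplex_shortExact _ (fun (v : Fin (n + 1) → A) => ⟨fun hv => ⟨v 0, ?_⟩, ?_⟩)
        (Pi.single_injective (M := fun _ : Fin (n + 1) => A) 0) (fun w => ⟨Fin.cons 0 w, funext fun i => by simp [g, LinearMap.funLeft]⟩)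
      · refine funext (Fin.cases ?_ fun i => ?_)
        · simp [f]
        · exact (Pi.single_eq_of_ne (M := fun _ : Fin (n + 1) => A) (Fin.succ_ne_zero i) (v 0)).trans (congrFun hv i).symm
      · rintro ⟨a, rfl⟩
        exact LinearMap.congr_fun h0 a
    have h := KGrp.clSub_add (P := (fin A)) (S := ModuleCat.shortComplexOfCompEqZero f g h0)
      (inferInstanceAs (Module.Finite A A)) (inferInstanceAs (Module.Finite A (Fin (n + 1) → A)))
      (inferInstanceAs (Module.Finite A (Fin n → A))) hS
    refine h.trans ?_
    refine (congrArg (fun t => KZero.clSub (fin A) (ModuleCat.of A A) + t) ih).trans ?_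
    rw [Nat.cast_succ, add_comm, add_zsmul, one_zsmul]

lemma cl_free [StrongRankCondition A] (M : Type u) [AddCommGroup M] [Module A M] [Module.Free A M] [Module.Finite A M] :
    KZero.clSub (fin A) (ModuleCat.of A M) = (Module.finrank A M : ℤ) • KZero.clSub (fin A) (ModuleCat.of A A) :=
  (cl_of_linearEquiv (Module.finBasis A M).equivFun).trans (cl_pi _)

lemma cl_eq [IsDomain A] [IsPrincipalIdealRing A] (X : ModuleCat.{u} A) (hX : Module.Finite A X) :
    ∃ k : ℤ, k • KZero.clSub (fin A) (ModuleCat.of A A) = KZero.clSub (fin A) X := by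
  obtain ⟨n, π, hπ⟩ := Module.Finite.exists_fin' A X
  have h := KGrp.clSub_add (P := (fin A)) (S := π.shortComplexKer) (inferInstanceAs (Module.Finite A (LinearMap.ker π)))
    (inferInstanceAs (Module.Finite A (Fin n → A))) hX (LinearMap.shortExact_shortComplexKer hπ)
  refine ⟨(n : ℤ) - Module.finrank A (LinearMap.ker π), ?_⟩
  have h' : (n : ℤ) • KZero.clSub (fin A) (ModuleCat.of A A) =
      (Module.finrank A (LinearMap.ker π) : ℤ) • KZero.clSub (fin A) (ModuleCat.of A A) + KZero.clSub (fin A) X :=
    ((cl_pi n).symm.trans h).trans (congrArg (fun t => t + KZero.clSub (fin A) X) (cl_free (LinearMap.ker π)))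
  rw [sub_zsmul, h']; abel


/-- Let A be a principal ideal domain and K_•(Spec A) = K₀ of the category of finitely generated
A-modules (free abelian group on finitely generated modules modulo short exact sequences). The
homomorphism ℤ ⟶ K_•(Spec A) sending k to k·[A] is bijective. -/
theorem result (A : Type u) [CommRing A] [IsDomain A] [IsPrincipalIdealRing A] :
    Function.Bijective (fun k : ℤ => k • KZero.clSub (fun M : ModuleCat.{u} A => Module.Finite A M) (ModuleCat.of A A)) := by
  constructor
  · let r := KGrp.liftSub (fun M : ModuleCat.{u} A => Module.Finite A M) (fun M => (Module.finrank A M : ℤ)) (by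
      intro S hS h₁ h₂ h₃
      have hf := (ModuleCat.mono_iff_injective _).1 hS.mono_f
      have hg := (ModuleCat.epi_iff_surjective _).1 hS.epi_g
      have he := (CategoryTheory.ShortComplex.ShortExact.moduleCat_exact_iff_function_exact _).1 hS.exact
      have : Module.Finite A S.X₂ := h₂
      have e1 := (LinearEquiv.ofInjective S.f.hom hf).finrank_eq
      have e2 := ((LinearMap.range S.f.hom).quotEquivOfEq _ (LinearMap.exact_iff.1 he).symm).finrank_eq
      have e3 := (S.g.hom.quotKerEquivOfSurjective hg).finrank_eq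
      have e4 := Submodule.finrank_quotient_add_finrank (LinearMap.range S.f.hom)
      have e23 := e2.trans e3
      omega)
    intro k l hkl
    have := congrArg r hkl
    simpa [r, map_zsmul, KGrp.liftSub_clSub _ _ (show fin A (ModuleCat.of A A) from inferInstanceAs (Module.Finite A A))] using this
  · intro x
    induction x using KGrp.induction_sub with
    | h0 => exact ⟨0, zero_zsmul _⟩
    | hcl X hX => exact cl_eq X hX
    | hneg x hx => obtain ⟨k, rfl⟩ := hx; exact ⟨-k, neg_zsmul _ _⟩
    | hadd x y hx hy => obtain ⟨k, rfl⟩ := hx; obtain ⟨l, rfl⟩ := hy; exact ⟨k + l, add_zsmul _ _ _⟩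

end Groth.Agent.S3194
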