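import Groth.Statements.S3200
import Groth.Agent.KGrp.Resolution

set_option autoImplicit false
universe v u
open CategoryTheory CategoryTheory.Limits
open SGA6

namespace Groth.Agent.S3200

open Groth.Agent.KGrp

/-- If every resolution of `A` has its syzygy of order `d + 2` in `P₀`, then `A` has dimension `≤ d + 2`. -/
lemma exists_dim {C : Type u} [Category.{v} C] [Abelian C] {P₀ P₁ : ObjectProperty C} (D : ResData P₀ P₁)
    (h3 : ∀ A : C, P₁ A → ∃ d : ℕ, ∀ L : ChainComplex C ℕ, (∀ i, P₀ (L.X i)) → (∀ i, 1 ≤ i → L.ExactAt i) →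
      Nonempty (L.homology 0 ≅ A) → P₀ (L.cycles (d + 1)))
    (A : C) (hA : P₁ A) : ∃ n, Dim P₀ P₁ n A := by
  classical
  obtain ⟨d, hd⟩ := h3 A hA
  refine ⟨d + 2, ?_⟩
  by_contra hdim
  have step : ∀ (k : ℕ) (B : Subtype P₁), ∃ (L : C) (p : L ⟶ B.1), P₀ L ∧ Epi p ∧
      (¬ Dim P₀ P₁ (k + 1) B.1 → ¬ Dim P₀ P₁ k (kernel p)) := by
    intro k B
    by_cases hB : Dim P₀ P₁ (k + 1) B.1
    · obtain ⟨L, p, hL, hp⟩ := D.cover B.1 B.2
      exact ⟨L, p, hL, hp, fun h => absurd hB h⟩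
    · by_contra hc
      exact hB ⟨B.2, fun L p hL hp => by
        by_contra hk
        exact hc ⟨L, p, hL, hp, fun _ => hk⟩⟩
  choose Lf pf hLf hpf hkf using step
  let K : ℕ → Subtype P₁ := fun j => Nat.rec ⟨A, hA⟩ (fun j B => ⟨kernel (pf (d + 1 - j) B),
    have := hpf (d + 1 - j) B
    D.kernel₁ _ (D.le _ (hLf _ B)) B.2⟩) j
  let X : ℕ → C := fun j => Lf (d + 1 - j) (K j)
  let p : ∀ j, X j ⟶ (K j).1 := fun j => pf (d + 1 - j) (K j)
  have hp : ∀ j, Epi (p j) := fun j => hpf _ _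
  let ι : ∀ j, (K (j + 1)).1 ⟶ X j := fun j => kernel.ι (p j)
  have hι : ∀ j, ι j ≫ p j = 0 := fun j => kernel.condition (p j)
  have hιm : ∀ j, Mono (ι j) := fun j => inferInstanceAs (Mono (kernel.ι (p j)))
  let dd : ∀ j, X (j + 1) ⟶ X j := fun j => p (j + 1) ≫ ι j
  have sq : ∀ j, dd (j + 1) ≫ dd j = 0 := fun j => by simp [dd, reassoc_of% (hι (j + 1))]
  let L : ChainComplex C ℕ := ChainComplex.of X dd sq
  have hLd : ∀ j, L.d (j + 1) j = dd j := fun j => ChainComplex.of_d _ _ _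
  have ex : ∀ j (T : C) (x : T ⟶ X j), x ≫ p j = 0 →
      ∃ (T' : C) (π : T' ⟶ T) (_ : Epi π) (y : T' ⟶ X (j + 1)), π ≫ x = y ≫ dd j := by
    intro j T x hx
    have := hp (j + 1)
    obtain ⟨T', π, hπ, y, hy⟩ := surjective_up_to_refinements_of_epi (p (j + 1)) (kernel.lift (p j) x hx)
    refine ⟨T', π, hπ, y, ?_⟩
    have h' := congrArg (· ≫ kernel.ι (p j)) hy
    simp only [Category.assoc, kernel.lift_ι] at h'
    exact h'
  have hex : ∀ i, 1 ≤ i → L.ExactAt i := by
    intro i hi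
    obtain ⟨j, rfl⟩ : ∃ j, i = j + 1 := ⟨i - 1, by omega⟩
    rw [L.exactAt_iff' (j + 1 + 1) (j + 1) j (ChainComplex.prev _ _) (ChainComplex.next_nat_succ _),
      ShortComplex.exact_iff_exact_up_to_refinements]
    intro T x hx
    change T ⟶ X (j + 1) at x
    have hx' : x ≫ p (j + 1) = 0 := by
      have := hιm j
      change x ≫ L.d (j + 1) j = 0 at hx
      rw [hLd] at hx
      rw [← cancel_mono (ι j)]
      simpa [dd] using hx
    obtain ⟨T', π, hπ, y, hy⟩ := ex (j + 1) T x hx'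
    refine ⟨T', π, hπ, y, ?_⟩
    change π ≫ x = y ≫ L.d (j + 1 + 1) (j + 1)
    rw [hLd]
    exact hy
  have e₀ : L.homology 0 ≅ A := by
    have w : dd 0 ≫ p 0 = 0 := by simp [dd, hι 0]
    have hexact : (ShortComplex.mk (dd 0) (p 0) w).Exact := by
      rw [ShortComplex.exact_iff_exact_up_to_refinements]
      exact fun T x hx => ex 0 T x hx
    have : Epi (ShortComplex.mk (dd 0) (p 0) w).g := hp 0
    have := hp 0
    have hc := L.opcyclesIsCokernel 1 0 (ChainComplex.prev _ _)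
    have hc' : IsColimit (CokernelCofork.ofπ (f := L.d 1 0) (p 0) (by rw [hLd 0]; exact w)) :=
      CokernelCofork.IsColimit.ofπ' _ _ fun {W} g hg => ⟨hexact.desc g (by rw [hLd 0] at hg; exact hg), hexact.g_desc _ _⟩
    exact L.isoHomologyι₀ ≪≫ hc.coconePointUniqueUpToIso hc'
  have hcyc : P₀ (K (d + 2)).1 := by
    have h := hd L (fun i => hLf _ _) hex ⟨e₀⟩
    have hk := L.cyclesIsKernel (d + 1) d (ChainComplex.next_nat_succ _)
    have := hιm d
    have hk' : IsLimit (KernelFork.ofι (f := L.d (d + 1) d) (ι (d + 1)) (by rw [hLd]; simp [dd, reassoc_of% (hι (d + 1))])) :=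
      KernelFork.IsLimit.ofι' _ _ fun {W} g hg => ⟨kernel.lift (p (d + 1)) g (by
        rw [hLd] at hg
        rw [← cancel_mono (ι d)]
        simpa [dd] using hg), kernel.lift_ι _ _ _⟩
    exact D.iso₀ (hk.conePointUniqueUpToIso hk') h
  have inv : ∀ j, j ≤ d + 2 → ¬ Dim P₀ P₁ (d + 2 - j) (K j).1 := by
    intro j
    induction j with
    | zero => exact fun _ => hdim
    | succ j ih =>
      intro hj
      have h := ih (by omega)
      rw [show d + 2 - j = (d + 1 - j) + 1 by omega] at h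
      rw [show d + 2 - (j + 1) = d + 1 - j by omega]
      exact hkf _ _ h
  exact inv (d + 2) le_rfl (Dim.of_mem D hcyc _)

/-- Let C be an abelian category and P₀ ≤ P₁ two isomorphism-closed classes of objects, both stable
under extensions, such that: (i) for every short exact sequence 0 → A' → A → A'' → 0 with A, A'' in
P₀ (resp. P₁), A' is in P₀ (resp. P₁); (ii) for u : A ⟶ B an epimorphism and v : D ⟶ B with A, B, D
in P₁ there are L in P₀, an epimorphism u' : L ⟶ D and v' : L ⟶ A with u' ≫ v = v' ≫ u; (iii) for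
every A in P₁ there is d such that for every resolution L of A by objects of P₀ (a chain complex of
objects of P₀, exact in positive degrees, with H₀(L) ≅ A) the object of cycles Z_{d+1}(L) =
ker(L_{d+1} → L_d) is in P₀. Then the homomorphism K₀(P₀) ⟶ K₀(P₁) induced by the inclusion is
bijective. (Two deviations from the published statement. Stability of P₀ and P₁ under extensions is
assumed here in addition to (i)–(iii); without it the conclusion can fail. In (iii) the published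
statement asks that Z_d(L) be in P₀; asking it of Z_{d+1}(L) is equivalent given (i), and avoids
degree 0, where the cycles of the complex L in Mathlib's sense are L₀ itself rather than the kernel
of the augmentation L₀ → A.) -/
theorem result {C : Type u} [Category.{v} C] [Abelian C]
    (P₀ P₁ : ObjectProperty C) [P₀.IsClosedUnderIsomorphisms] [P₁.IsClosedUnderIsomorphisms] (hle : ∀ X, P₀ X → P₁ X)
    (hext₀ : ∀ S : ShortComplex C, S.ShortExact → P₀ S.X₁ → P₀ S.X₃ → P₀ S.X₂)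
    (hext₁ : ∀ S : ShortComplex C, S.ShortExact → P₁ S.X₁ → P₁ S.X₃ → P₁ S.X₂)
    (h1₀ : ∀ S : ShortComplex C, S.ShortExact → P₀ S.X₂ → P₀ S.X₃ → P₀ S.X₁)
    (h1₁ : ∀ S : ShortComplex C, S.ShortExact → P₁ S.X₂ → P₁ S.X₃ → P₁ S.X₁)
    (h2 : ∀ (A B D : C) (u : A ⟶ B) (v : D ⟶ B), Epi u → P₁ A → P₁ B → P₁ D →
      ∃ (L : C) (u' : L ⟶ D) (v' : L ⟶ A), P₀ L ∧ Epi u' ∧ u' ≫ v = v' ≫ u)
    (h3 : ∀ A : C, P₁ A → ∃ d : ℕ, ∀ L : ChainComplex C ℕ, (∀ i, P₀ (L.X i)) → (∀ i, 1 ≤ i → L.ExactAt i) →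
      Nonempty (L.homology 0 ≅ A) → P₀ (L.cycles (d + 1))) :
    Function.Bijective (SGA6.mapSub (𝟭 C) P₀ P₁ hle) := by
  have D : ResData P₀ P₁ :=
    { le := hle
      iso₀ := fun e h => P₀.prop_of_iso e h
      ext₀ := hext₀
      ker₀ := h1₀
      ker₁ := h1₁
      cover := fun A hA => by
        obtain ⟨L, u', v', hL, hu, -⟩ := h2 A A A (𝟙 A) (𝟙 A) inferInstance hA hA hA
        exact ⟨L, u', hL, hu⟩ }
  refine resolution_theorem D (exists_dim D h3) _ fun X hX => ?_
  rw [clSub_of hX, clSub_of (hle X hX)]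
  rfl

end Groth.Agent.S3200
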