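import Groth.Statements.S3206
import Mathlib
-- import your own Groth.Agent.* helpers here

set_option autoImplicit false
open SGA7

namespace Groth.Agent.S3206

open MvPowerSeries in
/-- Vanishing of all coefficients of degree `< d`. -/
def V {k : Type} [Field k] {n : ℕ} (d : ℕ) (g : MvPowerSeries (Fin n) k) : Prop :=
  ∀ m : Fin n →₀ ℕ, m.degree < d → MvPowerSeries.coeff m g = 0

section
variable {k : Type} [Field k] {n : ℕ}

lemma V_iff {d : ℕ} {g : MvPowerSeries (Fin n) k} : V d g ↔ (d : ℕ∞) ≤ g.order :=
  ⟨fun h => MvPowerSeries.nat_le_order h,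
    fun h m hm => MvPowerSeries.coeff_of_lt_order (lt_of_lt_of_le (by exact_mod_cast hm) h)⟩

lemma V.mono {d e : ℕ} {g : MvPowerSeries (Fin n) k} (h : e ≤ d) (hg : V d g) : V e g :=
  fun m hm => hg m (hm.trans_le h)

lemma V.sub {d : ℕ} {g g' : MvPowerSeries (Fin n) k} (hg : V d g) (hg' : V d g') : V d (g - g') :=
  fun m hm => by rw [map_sub, hg m hm, hg' m hm, sub_self]

lemma V.add {d : ℕ} {g g' : MvPowerSeries (Fin n) k} (hg : V d g) (hg' : V d g') : V d (g + g') :=
  fun m hm => by rw [map_add, hg m hm, hg' m hm, add_zero]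

lemma V_sum {ι : Type*} {d : ℕ} {s : Finset ι} {g : ι → MvPowerSeries (Fin n) k}
    (hg : ∀ i ∈ s, V d (g i)) : V d (∑ i ∈ s, g i) :=
  fun m hm => by rw [map_sum]; exact Finset.sum_eq_zero fun i hi => hg i hi m hm

lemma V.mul {d e : ℕ} {g g' : MvPowerSeries (Fin n) k} (hg : V d g) (hg' : V e g') :
    V (d + e) (g * g') := by
  rw [V_iff] at *
  push_cast
  exact le_trans (add_le_add hg hg') MvPowerSeries.le_order_mul

lemma V.left {d : ℕ} {g : MvPowerSeries (Fin n) k} (g' : MvPowerSeries (Fin n) k) (hg : V d g) :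
    V d (g' * g) := by
  simpa using (show V 0 g' from fun m hm => absurd hm (by simp)).mul hg

lemma V_X (i : Fin n) : V 1 (MvPowerSeries.X i : MvPowerSeries (Fin n) k) := by
  intro m hm
  rw [show m = 0 from (Finsupp.degree_eq_zero_iff m).mp (by omega)]
  simp

/-- The coefficient shift splitting off the first variable. -/
noncomputable def tau (l : Fin n) (g : MvPowerSeries (Fin n) k) : MvPowerSeries (Fin n) k :=
  fun m => if ∀ j, j < l → m j = 0 then MvPowerSeries.coeff (m + Finsupp.single l 1) g else 0

lemma coeff_tau (l : Fin n) (g : MvPowerSeries (Fin n) k) (m : Fin n →₀ ℕ) :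
    MvPowerSeries.coeff m (tau l g) =
      if ∀ j, j < l → m j = 0 then MvPowerSeries.coeff (m + Finsupp.single l 1) g else 0 := rfl

lemma tau_sub (l : Fin n) (g g' : MvPowerSeries (Fin n) k) :
    tau l (g - g') = tau l g - tau l g' := by
  ext m
  simp only [map_sub, coeff_tau]
  split <;> simp

lemma V.tau {d : ℕ} (l : Fin n) {g : MvPowerSeries (Fin n) k} (hg : V (d + 1) g) :
    V d (tau l g) := by
  intro m hm
  rw [coeff_tau]
  split
  · refine hg _ ?_
    rw [map_add, Finsupp.degree_single]; omega
  · rfl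

lemma sum_tau {g : MvPowerSeries (Fin n) k} (hg : V 1 g) :
    ∑ l, MvPowerSeries.X l * tau l g = g := by
  classical
  ext m
  rw [map_sum]
  by_cases hm : m = 0
  · subst hm
    rw [hg 0 (by simp)]
    refine Finset.sum_eq_zero fun l _ => ?_
    simp
  · have hne : m.support.Nonempty := Finsupp.support_nonempty_iff.mpr hm
    set a := m.support.min' hne with ha
    have hma : m a ≠ 0 := Finsupp.mem_support_iff.mp (Finset.min'_mem _ hne)
    have hlt : ∀ j, j < a → m j = 0 := fun j hj => by
      by_contra h
      exact absurd (Finset.min'_le _ j (Finsupp.mem_support_iff.mpr h)) (not_le.mpr hj)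
    rw [Finset.sum_eq_single a]
    · rw [MvPowerSeries.X, MvPowerSeries.coeff_monomial_mul, if_pos (by
        intro j; simp only [Finsupp.single_apply]; split <;> [(subst_vars; omega); simp])]
      rw [coeff_tau, if_pos, one_mul, tsub_add_cancel_of_le]
      · intro j; simp only [Finsupp.single_apply]; split <;> [(subst_vars; omega); simp]
      · intro j hj
        simp [Finsupp.tsub_apply, hlt j hj]
    · intro l _ hla
      rw [MvPowerSeries.X, MvPowerSeries.coeff_monomial_mul]
      split
      · next hl =>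
        rw [coeff_tau, if_neg, mul_zero]
        intro h
        have hl1 : 1 ≤ m l := by simpa using hl l
        rcases lt_or_gt_of_ne hla with h' | h'
        · have := hlt l h'; omega
        · have := h a h'
          simp [Finsupp.tsub_apply, Finsupp.single_apply, hla] at this
          exact hma this
      · rfl
    · simp

/-- A quadratic form evaluated on a tuple of series. -/
noncomputable def Q (c : Fin n → Fin n → k) (u : Fin n → MvPowerSeries (Fin n) k) :
    MvPowerSeries (Fin n) k :=
  ∑ a, ∑ b, MvPowerSeries.C (c a b) * (u a * u b)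

lemma V_Q_sub (c : Fin n → Fin n → k) {d : ℕ} {u v : Fin n → MvPowerSeries (Fin n) k}
    (hu : ∀ i, V 2 (u i)) (hv : ∀ i, V 2 (v i)) (h : ∀ i, V d (u i - v i)) :
    V (d + 2) (Q c u - Q c v) := by
  simp only [Q, ← Finset.sum_sub_distrib, ← mul_sub]
  refine V_sum fun a _ => V_sum fun b _ => V.left _ ?_
  rw [show u a * u b - v a * v b = (u a - v a) * u b + (u b - v b) * v a by ring]
  exact ((h a).mul (hu b)).add ((h b).mul (hv a))

/-- The successive approximations. -/
noncomputable def approx (c : Fin n → Fin n → k)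
    (S : Fin n → MvPowerSeries (Fin n) k → MvPowerSeries (Fin n) k)
    (h : MvPowerSeries (Fin n) k) : ℕ → Fin n → MvPowerSeries (Fin n) k
  | 0 => 0
  | N + 1 => fun i => S i (h - Q c (approx c S h N))

lemma exists_fixedPoint (c : Fin n → Fin n → k)
    (S : Fin n → MvPowerSeries (Fin n) k → MvPowerSeries (Fin n) k)
    (hsub : ∀ i g g', S i (g - g') = S i g - S i g')
    (hS : ∀ i d g, V (d + 1) g → V d (S i g))
    (h : MvPowerSeries (Fin n) k) (hh : V 3 h) :
    ∃ ε : Fin n → MvPowerSeries (Fin n) k, (∀ i, V 2 (ε i)) ∧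
      ∀ i, ε i = S i (h - Q c ε) := by
  set e := approx c S h with he
  have e2 : ∀ N i, V 2 (e N i) := by
    intro N
    induction N with
    | zero => intro i m _; simp [e, approx]
    | succ N ih =>
      intro i
      refine hS i 2 _ (hh.sub ?_)
      exact V_sum fun a _ => V_sum fun b _ => V.left _ (((ih a).mul (ih b)).mono (by omega))
  have hd : ∀ N i, V (N + 2) (e (N + 1) i - e N i) := by
    intro N
    induction N with
    | zero => intro i; exact (e2 1 i).sub (e2 0 i)
    | succ N ih =>
      intro i
      show V _ (S i (h - Q c (e (N + 1))) - S i (h - Q c (e N)))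
      rw [← hsub, sub_sub_sub_cancel_left]
      refine hS i _ _ ((V_Q_sub c (e2 N) (e2 (N + 1)) (d := N + 2) fun j => ?_).mono (by omega))
      have := ih j
      intro m hm
      rw [map_sub, sub_eq_zero]
      exact (sub_eq_zero.mp (by rw [← map_sub]; exact this m hm)).symm
  have hst : ∀ (m : Fin n →₀ ℕ) N, m.degree ≤ N → ∀ i,
      MvPowerSeries.coeff m (e N i) = MvPowerSeries.coeff m (e m.degree i) := by
    intro m N hN i
    induction N, hN using Nat.le_induction with
    | base => rfl
    | succ N hN ih =>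
      rw [← ih, ← sub_eq_zero, ← map_sub]
      exact hd N i m (by omega)
  let ε : Fin n → MvPowerSeries (Fin n) k := fun i m => MvPowerSeries.coeff m (e m.degree i)
  have hε : ∀ N i, V (N + 1) (ε i - e N i) := by
    intro N i m hm
    rw [map_sub, hst m N (by omega) i]
    exact sub_self _
  have hε2 : ∀ i, V 2 (ε i) := fun i => by
    have := ((hε 1 i).add (e2 1 i)); simpa using this
  refine ⟨ε, hε2, fun i => ?_⟩
  ext m
  have h1 : V (m.degree + 1) (ε i - S i (h - Q c ε)) := by
    rw [show ε i - S i (h - Q c ε) =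
      (ε i - e (m.degree + 1) i) + (S i (h - Q c (e m.degree)) - S i (h - Q c ε)) by
        simp [e, approx]]
    refine ((hε _ i).mono (by omega)).add ?_
    rw [← hsub, sub_sub_sub_cancel_left]
    exact hS i _ _ ((V_Q_sub c hε2 (e2 _) (hε m.degree)).mono (by omega))
  have := h1 m (by omega)
  rwa [map_sub, sub_eq_zero] at this

end


/-- Let k be a field and f a formal power series in n variables over k without constant term whose
partial derivatives ∂f/∂x_1, …, ∂f/∂x_n generate the maximal ideal of k[[x_1, …, x_n]]. Then there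
are power series ε_1, …, ε_n with no terms of degree < 2 and a quadratic form q such that f = q(x_1
+ ε_1, …, x_n + ε_n). -/
theorem result (k : Type) [Field k] (n : ℕ) (f : MvPowerSeries (Fin n) k)
    (hf0 : MvPowerSeries.constantCoeff f = 0)
    (hJ : Ideal.span (Set.range fun i : Fin n => MvPowerSeries.pderiv k i f) = IsLocalRing.maximalIdeal (MvPowerSeries (Fin n) k)) :
    ∃ (ε : Fin n → MvPowerSeries (Fin n) k) (_ : ∀ i (m : Fin n →₀ ℕ), m.degree < 2 → MvPowerSeries.coeff m (ε i) = 0)
      (q : MvPolynomial (Fin n) k) (_ : q.IsHomogeneous 2)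
      (_ : MvPowerSeries.HasSubst (fun i : Fin n => MvPowerSeries.X i + ε i)),
      f = MvPowerSeries.subst (fun i : Fin n => MvPowerSeries.X i + ε i) (q : MvPowerSeries (Fin n) k) := by
  classical
  set m := IsLocalRing.maximalIdeal (MvPowerSeries (Fin n) k) with hm
  have hmem : ∀ g, g ∈ m ↔ MvPowerSeries.constantCoeff g = 0 := by
    intro g
    rw [hm, IsLocalRing.mem_maximalIdeal, mem_nonunits_iff, MvPowerSeries.isUnit_iff_constantCoeff,
      isUnit_iff_ne_zero, not_not]
  have hder : ∀ i, MvPowerSeries.constantCoeff (MvPowerSeries.pderiv k i f) = 0 := fun i =>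
    (hmem _).mp (hJ ▸ Ideal.subset_span ⟨i, rfl⟩)
  have hf2 : V 2 f := by
    intro d hd
    rcases Nat.eq_zero_or_pos d.degree with h0 | h0
    · rw [(Finsupp.degree_eq_zero_iff d).mp h0]; exact hf0
    · obtain ⟨i, rfl⟩ : ∃ i, d = Finsupp.single i 1 :=
        Finsupp.range_single_one.symm.subset (show d.degree = 1 by omega) |>.imp fun i h => h.symm
      have := hder i
      rw [← MvPowerSeries.coeff_zero_eq_constantCoeff_apply, MvPowerSeries.coeff_pderiv] at this
      simpa using this
  set c : Fin n → Fin n → k := fun a b => MvPowerSeries.constantCoeff (tau b (tau a f)) with hc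
  set q : MvPolynomial (Fin n) k :=
    ∑ a, ∑ b, MvPolynomial.C (c a b) * (MvPolynomial.X a * MvPolynomial.X b) with hq
  have hqh : q.IsHomogeneous 2 := by
    refine MvPolynomial.IsHomogeneous.sum _ _ _ fun a _ =>
      MvPolynomial.IsHomogeneous.sum _ _ _ fun b _ => ?_
    simpa using ((MvPolynomial.isHomogeneous_C _ (c a b)).mul
      ((MvPolynomial.isHomogeneous_X k a).mul (MvPolynomial.isHomogeneous_X k b)))
  have haev : ∀ u, MvPolynomial.aeval u q = Q c u := fun u => by
    simp [hq, Q, map_sum, MvPowerSeries.algebraMap_apply]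
  set h := f - Q c MvPowerSeries.X with hh
  have hh3 : V 3 h := by
    have h2 : f = ∑ a, ∑ b, (MvPowerSeries.X a * MvPowerSeries.X b) * tau b (tau a f) := by
      conv_lhs => rw [← sum_tau (hf2.mono one_le_two)]
      refine Finset.sum_congr rfl fun a _ => ?_
      conv_lhs => rw [← sum_tau (V.tau a hf2)]
      rw [Finset.mul_sum]
      simp only [mul_assoc]
    rw [hh]
    nth_rw 1 [h2]
    simp only [Q, ← Finset.sum_sub_distrib]
    refine V_sum fun a _ => V_sum fun b _ => ?_
    rw [mul_comm (MvPowerSeries.C _), ← mul_sub]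
    refine ((V_X a).mul (V_X b)).mul (e := 1) ?_
    intro d hd
    rw [(Finsupp.degree_eq_zero_iff d).mp (by omega)]
    simp [hc]
  set H : Fin n → Fin n → k := fun i j => c i j + c j i with hH
  set L : Fin n → MvPowerSeries (Fin n) k :=
    fun i => ∑ j, MvPowerSeries.C (H i j) * MvPowerSeries.X j with hL
  have hlin : ∀ i j, MvPowerSeries.coeff (Finsupp.single j 1) (MvPowerSeries.pderiv k i f) = H i j := by
    intro i j
    have hdQ : MvPowerSeries.pderiv k i (Q c MvPowerSeries.X) = L i := by
      simp only [Q, map_sum, Derivation.leibniz, MvPowerSeries.pderiv_C, MvPowerSeries.pderiv_X,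
        Pi.single_apply, smul_eq_mul, hL, hH, map_add, add_mul, Finset.sum_add_distrib]
      simp [mul_add, Finset.sum_add_distrib, mul_ite, ite_mul, add_comm]
    rw [show f = Q c MvPowerSeries.X + h by rw [hh]; ring, map_add, map_add, hdQ,
      MvPowerSeries.coeff_pderiv, hh3 _ (by simp [map_add, Finsupp.degree_single]), zero_mul,
      add_zero, hL, map_sum]
    simp [MvPowerSeries.coeff_C_mul, MvPowerSeries.coeff_X, Finsupp.single_left_inj]
  have hgen : ∀ l, ∃ A : Fin n → k, MvPowerSeries.X l = ∑ i, MvPowerSeries.C (A i) * L i := by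
    intro l
    have : (MvPowerSeries.X l : MvPowerSeries (Fin n) k) ∈
        Ideal.span (Set.range fun i : Fin n => MvPowerSeries.pderiv k i f) := by
      rw [hJ, hmem]; simp
    obtain ⟨a, ha⟩ := Ideal.mem_span_range_iff_exists_fun.mp this
    refine ⟨fun i => MvPowerSeries.constantCoeff (a i), ?_⟩
    have hcm : ∀ j, (if j = l then (1 : k) else 0) =
        ∑ i, MvPowerSeries.constantCoeff (a i) * H i j := by
      intro j
      have h1 := congr_arg (MvPowerSeries.coeff (Finsupp.single j 1)) ha
      rw [map_sum, MvPowerSeries.coeff_X] at h1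
      simp only [Finsupp.single_left_inj one_ne_zero] at h1
      rw [← h1]
      refine Finset.sum_congr rfl fun i _ => ?_
      rw [MvPowerSeries.coeff_mul, Finsupp.antidiagonal_single]
      simp [Finset.sum_map, Finset.Nat.sum_antidiagonal_succ, hlin, hder]
    rw [hL]
    simp only [Finset.mul_sum]
    rw [Finset.sum_comm]
    simp only [← mul_assoc, ← map_mul, ← Finset.sum_mul, ← map_sum, ← hcm]
    simp [apply_ite, ite_mul]
  choose A hA using hgen
  let S : Fin n → MvPowerSeries (Fin n) k → MvPowerSeries (Fin n) k :=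
    fun i g => ∑ l, MvPowerSeries.C (A l i) * tau l g
  have hsplit : ∀ g, V 1 g → ∑ i, L i * S i g = g := by
    intro g hg
    conv_rhs => rw [← sum_tau hg]
    simp only [S, Finset.mul_sum]
    rw [Finset.sum_comm]
    refine Finset.sum_congr rfl fun l _ => ?_
    rw [hA l, Finset.sum_mul]
    exact Finset.sum_congr rfl fun i _ => by ring
  obtain ⟨ε, hε2, hε⟩ := exists_fixedPoint c S
    (fun i g g' => by simp only [S, tau_sub, mul_sub, Finset.sum_sub_distrib])
    (fun i d g hg => V_sum fun l _ => V.left _ (V.tau l hg)) h hh3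
  have hsub : MvPowerSeries.HasSubst (fun i : Fin n => MvPowerSeries.X i + ε i) :=
    MvPowerSeries.hasSubst_of_constantCoeff_zero fun i => by
      rw [map_add, MvPowerSeries.constantCoeff_X, zero_add,
        ← MvPowerSeries.coeff_zero_eq_constantCoeff_apply]
      exact hε2 i 0 (by simp)
  refine ⟨ε, hε2, q, hqh, hsub, ?_⟩
  rw [MvPowerSeries.subst_coe, haev]
  have hT : Q c (fun i => MvPowerSeries.X i + ε i) =
      Q c MvPowerSeries.X + ∑ i, L i * ε i + Q c ε := by
    have : ∑ i, L i * ε i = (∑ a, ∑ b, MvPowerSeries.C (c a b) * (ε a * MvPowerSeries.X b)) +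
        ∑ a, ∑ b, MvPowerSeries.C (c a b) * (MvPowerSeries.X a * ε b) := by
      rw [Finset.sum_comm (f := fun a b => MvPowerSeries.C (c a b) * (MvPowerSeries.X a * ε b)),
        ← Finset.sum_add_distrib]
      refine Finset.sum_congr rfl fun i _ => ?_
      rw [hL, Finset.sum_mul, ← Finset.sum_add_distrib]
      exact Finset.sum_congr rfl fun j _ => by rw [hH, map_add]; ring
    rw [this]
    simp only [Q, ← Finset.sum_add_distrib]
    exact Finset.sum_congr rfl fun a _ => Finset.sum_congr rfl fun b _ => by ring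
  rw [hT]
  have hQε : V 3 (Q c ε) :=
    V_sum fun a _ => V_sum fun b _ => V.left _ (((hε2 a).mul (hε2 b)).mono (by omega))
  have hfinal : ∑ i, L i * ε i = h - Q c ε := by
    conv_rhs => rw [← hsplit (h - Q c ε) ((hh3.sub hQε).mono (by omega))]
    exact Finset.sum_congr rfl fun i _ => by rw [← hε i]
  rw [hfinal, hh]; ring

end Groth.Agent.S3206
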