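import Mathlib
import Groth.Statements.S3208
-- import your own Groth.Agent.* helpers here

set_option autoImplicit false
open SGA7

namespace Groth.Agent.S3208

/-- Let E be a commutative ring which is finitely generated and torsion-free as an additive group, u an
element of E of finite multiplicative order (u^m = 1 for some m > 0), and n ≥ 2 an integer with u ≡
1 modulo nE (i.e. 1 - u = n·v for some v ∈ E). Then u² = 1, and if n ≥ 3 then u = 1. -/
theorem result (E : Type) [CommRing E] [NoZeroSMulDivisors ℤ E] [Module.Finite ℤ E] (u : E) (m : ℕ) (hm : 0 < m)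
    (hu : u ^ m = 1) (n : ℕ) (hn : 2 ≤ n) (hcong : ∃ v : E, 1 - u = (n : E) * v) :
    u ^ 2 = 1 ∧ (3 ≤ n → u = 1) := by
  haveI : Module.Free ℤ E := Module.free_of_finite_type_torsion_free'
  let b := Module.Free.chooseBasis ℤ E
  have hcancel : ∀ (c : ℕ) (x : E), c ≠ 0 → (c : E) * x = 0 → x = 0 := by
    intro c x hc hx
    have : (c : ℤ) • x = 0 := by rwa [zsmul_eq_mul, Int.cast_natCast]
    exact (smul_eq_zero.1 this).resolve_left (by exact_mod_cast hc)
  have hkrull : ∀ (p : ℕ) (v : E), 1 < p → (∀ j : ℕ, ∃ w, v = (p : E) ^ j * w) → v = 0 := by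
    intro p v hp hv
    refine b.repr.injective (Finsupp.ext fun l => ?_)
    rw [map_zero, Finsupp.zero_apply]
    by_contra hne
    obtain ⟨w, hw⟩ := hv (b.repr v l).natAbs
    have hdiv : ((p ^ (b.repr v l).natAbs : ℕ) : ℤ) ∣ b.repr v l := by
      refine ⟨b.repr w l, ?_⟩
      conv_lhs => rw [hw, ← Nat.cast_pow, ← nsmul_eq_mul, map_nsmul]
      simp
    have h1 := Nat.le_of_dvd (Int.natAbs_pos.2 hne) (Int.natCast_dvd.1 hdiv)
    have h2 := Nat.lt_pow_self (n := (b.repr v l).natAbs) hp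
    omega
  have hexp : ∀ (x : E) (i : ℕ), ∃ T, (1 + x) ^ i = 1 + (i : E) * x + x ^ 2 * T := by
    intro x i
    induction i with
    | zero => exact ⟨0, by simp⟩
    | succ i ih =>
      obtain ⟨T, hT⟩ := ih
      exact ⟨(i : E) + T + x * T, by rw [pow_succ, hT]; push_cast; ring⟩
  have step : ∀ (p q ℓ : ℕ), p.Prime → ℓ.Prime → ((p ≠ 2 ∧ q = p) ∨ (p = 2 ∧ q = 4)) →
      ∀ v : E, (1 + (q : E) * v) ^ ℓ = 1 → v = 0 := by
    intro p q ℓ hp hℓ hq v hv
    have hq0 : q ≠ 0 := by
      have := hp.two_le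
      omega
    obtain ⟨c, hc⟩ : p ∣ q := by
      rcases hq with ⟨-, rfl⟩ | ⟨rfl, rfl⟩
      · exact dvd_rfl
      · exact ⟨2, rfl⟩
    choose T hT using hexp ((q : E) * v)
    have hS : v * ∑ i ∈ Finset.range ℓ, (1 + (q : E) * v) ^ i = 0 := hcancel q _ hq0 (by
      have := mul_geom_sum (1 + (q : E) * v) ℓ
      rw [hv, sub_self, add_sub_cancel_left] at this
      rw [← mul_assoc]
      exact this)
    have hS2 : (∑ i ∈ Finset.range ℓ, (1 + (q : E) * v) ^ i) =
        (ℓ : E) + ((∑ i ∈ Finset.range ℓ, i : ℕ) : E) * ((q : E) * v) + ((q : E) * v) ^ 2 * ∑ i ∈ Finset.range ℓ, T i := by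
      simp only [hT, Finset.sum_add_distrib, Nat.cast_sum, Finset.sum_mul, Finset.mul_sum, Finset.sum_const, Finset.card_range, nsmul_eq_mul, mul_one]
    rw [hS2] at hS
    have hcE : (q : E) = (p : E) * (c : E) := by rw [hc, Nat.cast_mul]
    by_cases hlp : ℓ = p
    · subst hlp
      have hM : ∃ M : E, v = (ℓ : E) * v * (v * M) := by
        rcases hq with ⟨hp2, rfl⟩ | ⟨rfl, rfl⟩
        · obtain ⟨c', hc'⟩ : 2 ∣ q - 1 := by
            have := hp.eq_two_or_odd.resolve_left hp2
            omega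
          have hsum : ∑ i ∈ Finset.range q, i = q * c' := by
            rw [Finset.sum_range_id, hc', show q * (2 * c') = 2 * (q * c') by ring, Nat.mul_div_cancel_left _ two_pos]
          rw [hsum] at hS
          push_cast at hS
          refine ⟨-((c' : E) + v * ∑ i ∈ Finset.range q, T i), ?_⟩
          refine sub_eq_zero.1 (hcancel q _ hp.ne_zero ?_)
          linear_combination hS
        · simp only [Finset.sum_range_succ, Finset.sum_range_zero, zero_add] at hS
          push_cast at hS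
          refine ⟨-(1 + 4 * v * (T 0 + T 1)), ?_⟩
          refine sub_eq_zero.1 (hcancel 2 _ two_ne_zero ?_)
          push_cast
          linear_combination hS
      obtain ⟨M, hM⟩ := hM
      refine hkrull ℓ v hℓ.one_lt fun j => ?_
      induction j with
      | zero => exact ⟨v, by simp⟩
      | succ j ih =>
        obtain ⟨w, hw⟩ := ih
        refine ⟨w * (v * M), ?_⟩
        calc v = (ℓ : E) * v * (v * M) := hM
          _ = _ := by conv_lhs => arg 1; rw [hw]
                      ring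
    · refine hkrull p v hp.one_lt fun j => ?_
      induction j with
      | zero => exact ⟨v, by simp⟩
      | succ j ih =>
        obtain ⟨w, hw⟩ := ih
        have hg : Nat.gcd ℓ p = 1 := (Nat.coprime_primes hℓ hp).2 hlp
        have hbz := congrArg (Int.cast : ℤ → E) (Nat.gcd_eq_gcd_ab ℓ p)
        rw [hg] at hbz
        push_cast at hbz
        refine ⟨w * ((Nat.gcdB ℓ p : E) - (Nat.gcdA ℓ p : E) * (c : E) * v * (((∑ i ∈ Finset.range ℓ, i : ℕ) : E) + (q : E) * v * ∑ i ∈ Finset.range ℓ, T i)), ?_⟩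
        set A := ((∑ i ∈ Finset.range ℓ, i : ℕ) : E) + (q : E) * v * ∑ i ∈ Finset.range ℓ, T i
        have h2 : (ℓ : E) * v = -((p : E) * (c : E) * v * v * A) := by
          rw [← hcE]; linear_combination hS
        calc v = (Nat.gcdA ℓ p : E) * ((ℓ : E) * v) + (Nat.gcdB ℓ p : E) * ((p : E) * v) := by
              linear_combination v * hbz
          _ = (p : E) * v * ((Nat.gcdB ℓ p : E) - (Nat.gcdA ℓ p : E) * (c : E) * v * A) := by rw [h2]; ring
          _ = _ := by
              conv_lhs => arg 1; rw [hw]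
              ring
  have main : ∀ n : ℕ, 3 ≤ n → ∀ m : ℕ, 0 < m → ∀ u : E, u ^ m = 1 → (∃ v : E, u - 1 = (n : E) * v) → u = 1 := by
    intro n hn m
    induction m using Nat.strong_induction_on with
    | _ m ih =>
    intro hm u hu huv
    rcases eq_or_ne m 1 with rfl | hm1
    · simpa using hu
    obtain ⟨ℓ, hℓ, a, rfl⟩ := Nat.exists_prime_and_dvd hm1
    have ha : 0 < a := pos_of_mul_pos_right hm (Nat.zero_le _)
    obtain ⟨v, hv⟩ := huv
    have hva : u ^ a - 1 = (n : E) * (v * ∑ i ∈ Finset.range a, u ^ i) := by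
      rw [← mul_geom_sum u a, hv, mul_assoc]
    obtain ⟨p, q, hp, hq, hqn⟩ : ∃ p q : ℕ, p.Prime ∧ ((p ≠ 2 ∧ q = p) ∨ (p = 2 ∧ q = 4)) ∧ q ∣ n := by
      by_cases h4 : 4 ∣ n
      · exact ⟨2, 4, Nat.prime_two, Or.inr ⟨rfl, rfl⟩, h4⟩
      · rcases Nat.four_dvd_or_exists_odd_prime_and_dvd_of_two_lt (show 2 < n by omega) with h | ⟨p, hp, hpn, hodd⟩
        · exact absurd h h4
        · exact ⟨p, p, hp, Or.inl ⟨fun h2 => by subst h2; exact absurd hodd (by decide), rfl⟩, hpn⟩
    obtain ⟨c, rfl⟩ := hqn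
    have h1 : u ^ a = 1 := by
      have := step p q ℓ hp hℓ hq ((c : E) * (v * ∑ i ∈ Finset.range a, u ^ i)) (by
        rw [← mul_assoc, ← Nat.cast_mul, ← hva, add_sub_cancel, ← pow_mul, mul_comm, hu])
      rw [← sub_eq_zero, hva, Nat.cast_mul, mul_assoc, this, mul_zero]
    exact ih a (lt_mul_of_one_lt_left ha hℓ.one_lt) ha u h1 ⟨v, hv⟩
  obtain ⟨v, hv⟩ := hcong
  refine ⟨?_, fun h3 => main n h3 m hm u hu ⟨-v, by rw [mul_neg, ← hv, neg_sub]⟩⟩
  rcases Nat.lt_or_ge 2 n with h3 | h2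
  · rw [main n h3 m hm u hu ⟨-v, by rw [mul_neg, ← hv, neg_sub]⟩, one_pow]
  · obtain rfl : n = 2 := by omega
    refine main 4 (by norm_num) m hm (u ^ 2) (by rw [← pow_mul, mul_comm, pow_mul, hu, one_pow]) ⟨v * v - v, ?_⟩
    push_cast at hv ⊢
    linear_combination (-(u + 1) + 2 * v) * hv

end Groth.Agent.S3208
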