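import Mathlib
import Groth.Statements.S3209
-- import your own Groth.Agent.* helpers here

set_option autoImplicit false
universe u
open TensorProduct
open SGA7

namespace Groth.Agent.S3209

section

open TensorProduct

variable {R B' B C S : Type*} [CommRing R] [CommRing B'] [CommRing B] [CommRing C]
  [CommRing S] [Algebra R B'] [Algebra R B] [Algebra R C] [Algebra R S]

theorem main (f : B' →ₐ[R] B) (hf : Function.Surjective f) (g : C →ₐ[R] B)
    (hJ : Function.Injective (LinearMap.lTensor S (LinearMap.ker f.toLinearMap).subtype)) :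
    letI P := AlgHom.equalizer (f.comp (AlgHom.fst R B' C)) (g.comp (AlgHom.snd R B' C))
    letI φ₁ := Algebra.TensorProduct.map (AlgHom.id R S) ((AlgHom.fst R B' C).comp P.val)
    letI φ₂ := Algebra.TensorProduct.map (AlgHom.id R S) ((AlgHom.snd R B' C).comp P.val)
    Function.Injective (fun z : S ⊗[R] ↥P => (φ₁ z, φ₂ z)) ∧
    ∀ (x : S ⊗[R] B') (y : S ⊗[R] C),
      Algebra.TensorProduct.map (AlgHom.id R S) f x = Algebra.TensorProduct.map (AlgHom.id R S) g y →
        ∃ z : S ⊗[R] ↥P, φ₁ z = x ∧ φ₂ z = y := by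
  set P := AlgHom.equalizer (f.comp (AlgHom.fst R B' C)) (g.comp (AlgHom.snd R B' C))
  set φ₁ := Algebra.TensorProduct.map (AlgHom.id R S) ((AlgHom.fst R B' C).comp P.val)
  set φ₂ := Algebra.TensorProduct.map (AlgHom.id R S) ((AlgHom.snd R B' C).comp P.val)
  let p₁ : ↥P →ₗ[R] B' := ((AlgHom.fst R B' C).comp P.val).toLinearMap
  let p₂ : ↥P →ₗ[R] C := ((AlgHom.snd R B' C).comp P.val).toLinearMap
  have h₁ : ∀ z, φ₁ z = LinearMap.lTensor S p₁ z := fun z => rfl
  have h₂ : ∀ z, φ₂ z = LinearMap.lTensor S p₂ z := fun z => rfl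
  let J := LinearMap.ker f.toLinearMap
  let ι : ↥J →ₗ[R] ↥P :=
    { toFun := fun j => ⟨(j.1, 0), show f j.1 = g 0 by rw [map_zero]; exact j.2⟩
      map_add' := fun a b => Subtype.ext (Prod.ext rfl (by simp))
      map_smul' := fun a b => Subtype.ext (Prod.ext rfl (by simp)) }
  have hι₁ : p₁ ∘ₗ ι = J.subtype := rfl
  have hι₂ : p₂ ∘ₗ ι = 0 := rfl
  have hsurj : Function.Surjective p₂ := fun c => by
    obtain ⟨b, hb⟩ := hf (g c)
    exact ⟨⟨(b, c), hb⟩, rfl⟩
  have hex : Function.Exact ι p₂ := fun z => by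
    constructor
    · intro hz
      obtain ⟨⟨b, c⟩, hbc⟩ := z
      change c = 0 at hz
      subst hz
      exact ⟨⟨b, show f b = 0 by rw [← map_zero g]; exact hbc⟩, rfl⟩
    · rintro ⟨j, rfl⟩; rfl
  have key := lTensor_exact S hex hsurj
  refine ⟨fun z z' e => ?_, fun x y hxy => ?_⟩
  · rw [← sub_eq_zero]
    simp only [Prod.mk.injEq, h₁, h₂] at e
    obtain ⟨w, hw⟩ := (key (z - z')).1 (by rw [map_sub, e.2, sub_self])
    have : LinearMap.lTensor S J.subtype w = 0 := by
      rw [← hι₁, LinearMap.lTensor_comp, LinearMap.comp_apply, hw, map_sub, e.1, sub_self]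
    rw [← hw, (injective_iff_map_eq_zero _).1 hJ w this, map_zero]
  · obtain ⟨z₀, hz₀⟩ := LinearMap.lTensor_surjective S hsurj y
    have hcomm : f.toLinearMap ∘ₗ p₁ = g.toLinearMap ∘ₗ p₂ := LinearMap.ext fun z => z.2
    have hk : LinearMap.lTensor S f.toLinearMap (x - LinearMap.lTensor S p₁ z₀) = 0 := by
      rw [map_sub, ← LinearMap.comp_apply, ← LinearMap.lTensor_comp, hcomm, LinearMap.lTensor_comp,
        LinearMap.comp_apply, hz₀, sub_eq_zero]
      exact hxy
    obtain ⟨w, hw⟩ := (lTensor_exact S (LinearMap.exact_subtype_ker_map f.toLinearMap) hf _).1 hk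
    refine ⟨z₀ + LinearMap.lTensor S ι w, ?_, ?_⟩
    · rw [h₁, map_add, ← LinearMap.comp_apply, ← LinearMap.lTensor_comp, hι₁, hw, add_sub_cancel]
    · rw [h₂, map_add, hz₀, ← LinearMap.comp_apply, ← LinearMap.lTensor_comp, hι₂, LinearMap.lTensor_zero,
        LinearMap.zero_apply, add_zero]

end

/-- Let f : B' → B be a surjective map of R-algebras with kernel J, g : C → B a map of R-algebras, P =
B' ×_B C their fibre product (the equalizer of f ∘ pr₁ and g ∘ pr₂ in B' × C) and S an R-algebra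
such that S ⊗_R J → S ⊗_R B' is injective (this holds when Tor_1^R(B, S) = 0, the published
hypothesis, and in particular when S is flat). Then the canonical map S ⊗_R P → (S ⊗_R B') ×_{S ⊗_R
B} (S ⊗_R C) is bijective: it is injective, and every pair with the same image in S ⊗_R B comes from
S ⊗_R P. -/
theorem result (R B' B C S : Type u) [CommRing R] [CommRing B'] [CommRing B] [CommRing C]
    [CommRing S] [Algebra R B'] [Algebra R B] [Algebra R C] [Algebra R S]
    (f : B' →ₐ[R] B) (hf : Function.Surjective f) (g : C →ₐ[R] B)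
    (hJ : Function.Injective (LinearMap.lTensor S (LinearMap.ker f.toLinearMap).subtype)) :
    letI P := AlgHom.equalizer (f.comp (AlgHom.fst R B' C)) (g.comp (AlgHom.snd R B' C))
    letI φ₁ := Algebra.TensorProduct.map (AlgHom.id R S) ((AlgHom.fst R B' C).comp P.val)
    letI φ₂ := Algebra.TensorProduct.map (AlgHom.id R S) ((AlgHom.snd R B' C).comp P.val)
    Function.Injective (fun z : S ⊗[R] ↥P => (φ₁ z, φ₂ z)) ∧
    ∀ (x : S ⊗[R] B') (y : S ⊗[R] C),
      Algebra.TensorProduct.map (AlgHom.id R S) f x = Algebra.TensorProduct.map (AlgHom.id R S) g y →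
        ∃ z : S ⊗[R] ↥P, φ₁ z = x ∧ φ₂ z = y := by
  exact main f hf g hJ

end Groth.Agent.S3209
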