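import Groth.Statements.S3212
import Groth.Agent.SigmaLang.Basic

set_option autoImplicit false
universe u v
open SGA7II

namespace Groth.Agent.S3212

/-- Let k be a separably closed field of characteristic p > 0, q = p^r (r >= 1), V a finite-dimensional
k-vector space and phi : V -> V an additive map with phi(c v) = c^q phi(v) (a q-linear
endomorphism). If phi is semisimple, i.e. its image spans V over k, then V has a k-basis consisting
of fixed vectors of phi, and the coordinates of every fixed vector in such a basis satisfy c^q = c
(so V is obtained from the F_q-space of fixed vectors by extension of scalars). -/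
theorem result (k : Type u) [Field k] [IsSepClosed k] (p : ℕ)
    [Fact p.Prime] [CharP k p] (r : ℕ) (hr : 0 < r) (V : Type v) [AddCommGroup V] [Module k V]
    [FiniteDimensional k V] (φ : V →+ V) (hφ : ∀ (c : k) (v : V), φ (c • v) = c ^ (p ^ r) • φ v)
    (hss : Submodule.span k (Set.range φ) = ⊤) :
    ∃ b : Module.Basis (Fin (Module.finrank k V)) k V, (∀ i, φ (b i) = b i) ∧
      ∀ v : V, φ v = v → ∀ i, (b.repr v i) ^ (p ^ r) = b.repr v i := by
  let T : V →ₛₗ[iterateFrobenius k p r] V :=
    { toFun := φ, map_add' := map_add φ, map_smul' := fun c v => by rw [hφ, iterateFrobenius_def] }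
  have hσ : ∀ x, iterateFrobenius k p r x = x ^ p ^ r := fun x => iterateFrobenius_def ..
  obtain ⟨b, hb⟩ := Groth.Agent.SigmaLang.exists_basis_fixed (Groth.Agent.SigmaLang.twistRoots_powq p hr hσ) (Groth.Agent.SigmaLang.subSurj_powq p hr hσ) T hss
  refine ⟨b, hb, fun v hv i => ?_⟩
  rw [← hσ]
  exact (Groth.Agent.SigmaLang.repr_fixed T b hb).1 hv i

end Groth.Agent.S3212
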