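import Groth.Statements.S3214
import Mathlib
-- import your own Groth.Agent.* helpers here

set_option autoImplicit false
open Polynomial
universe u
open SGA7II

namespace Groth.Agent.S3214

/-- In the recursive form established in its proof: let A = Z[X_1, ..., X_a] (a >= 1), P = prod_i (T -
X_i) in A[T] and S_i the i-th elementary symmetric function. Writing a_j for the coefficient of
T^{a-1} in the remainder of T^{a-1+j} modulo P, one has a_0 = 1 and sum_{i=0}^{a} (-1)^i S_i a_{j-i}
= 0 for every j > 0 (with a_m = 0 for m < 0); equivalently sum_j (-1)^j a_j is the inverse of sum_i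
S_i. (The source works in formal power series; the identity involves only polynomials.) -/
theorem result (a : ℕ) (ha : 0 < a) :
    let P : (MvPolynomial (Fin a) ℤ)[X] := ∏ i : Fin a, (X - C (MvPolynomial.X i))
    let coef : ℤ → MvPolynomial (Fin a) ℤ := fun j =>
      if j < 0 then 0 else ((X : (MvPolynomial (Fin a) ℤ)[X]) ^ (a - 1 + j.toNat) %ₘ P).coeff (a - 1)
    coef 0 = 1 ∧ ∀ j : ℕ, 0 < j →
      (∑ i ∈ Finset.range (a + 1), (-1 : MvPolynomial (Fin a) ℤ) ^ i * MvPolynomial.esymm (Fin a) ℤ i *
        coef ((j : ℤ) - i)) = 0 := by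
  classical
  intro P coef
  have hP : P = ∑ i ∈ Finset.range (a + 1), (-1 : (MvPolynomial (Fin a) ℤ)[X]) ^ i * (C (MvPolynomial.esymm (Fin a) ℤ i) * X ^ (a - i)) := by
    have h := Multiset.prod_X_sub_X_eq_sum_esymm ((Finset.univ : Finset (Fin a)).val.map (MvPolynomial.X (R := ℤ)))
    simp only [Multiset.map_map, Multiset.card_map, Finset.card_val, Finset.card_univ, Fintype.card_fin, Function.comp_def] at h
    show ∏ i : Fin a, (X - C (MvPolynomial.X i)) = _
    rw [Finset.prod_eq_multiset_prod, h]
    exact Finset.sum_congr rfl fun i _ => by rw [MvPolynomial.esymm_eq_multiset_esymm]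
  have hmon : P.Monic := monic_prod_of_monic _ _ fun i _ => monic_X_sub_C _
  have hdeg : P.degree = a := by
    rw [degree_eq_natDegree hmon.ne_zero, natDegree_finsetProd_X_sub_C_eq_card, Finset.card_univ, Fintype.card_fin]
  have hlow : ∀ e, e < a → (X : (MvPolynomial (Fin a) ℤ)[X]) ^ e %ₘ P = X ^ e := fun e he => by
    rw [modByMonic_eq_self_iff hmon, hdeg, degree_X_pow]
    exact_mod_cast he
  refine ⟨?_, fun j hj => ?_⟩
  · simp [coef, hlow (a - 1) (by omega)]
  · have hc : ∀ i ∈ Finset.range (a + 1), coef ((j : ℤ) - i) = ((X : (MvPolynomial (Fin a) ℤ)[X]) ^ (a - i + (j - 1)) %ₘ P).coeff (a - 1) := by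
      intro i hi
      have hia : i ≤ a := Nat.lt_succ_iff.1 (Finset.mem_range.1 hi)
      by_cases hji : (j : ℤ) - i < 0
      · simp only [coef, if_pos hji]
        rw [hlow _ (by omega), coeff_X_pow, if_neg (by omega)]
      · simp only [coef, if_neg hji]
        congr 3
        omega
    have h0 : (P * X ^ (j - 1)) %ₘ P = 0 := (modByMonic_eq_zero_iff_dvd hmon).2 (dvd_mul_right _ _)
    have h1 := congrArg (fun q => Polynomial.coeff q (a - 1)) h0
    nth_rw 1 [hP] at h1
    simp only [Finset.sum_mul] at h1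
    rw [← modByMonicHom_apply, map_sum, finsetSum_coeff, coeff_zero] at h1
    rw [← h1]
    refine Finset.sum_congr rfl fun i hi => ?_
    rw [hc i hi, show (-1 : (MvPolynomial (Fin a) ℤ)[X]) ^ i * (C (MvPolynomial.esymm (Fin a) ℤ i) * X ^ (a - i)) * X ^ (j - 1) =
      ((-1 : MvPolynomial (Fin a) ℤ) ^ i * MvPolynomial.esymm (Fin a) ℤ i) • X ^ (a - i + (j - 1)) by
        rw [smul_eq_C_mul, map_mul, map_pow, map_neg, map_one, pow_add]; ring,
      map_smul, coeff_smul, smul_eq_mul, modByMonicHom_apply]

end Groth.Agent.S3214
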