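import Groth.Statements.S3215
import Groth.Agent.CliffSmooth.EtSplit
import Groth.Agent.CliffSmooth.FrameAlg
import Mathlib.LinearAlgebra.Matrix.SesquilinearForm

set_option autoImplicit false
universe u
open SGA7II

namespace Groth.Agent.S3215

open CliffordAlgebra TensorProduct QuadGrp Groth.Agent.CliffSmooth

theorem regular_of_det {A : Type u} [CommRing A] {M : Type u} [AddCommGroup M] [Module A M] {n : ℕ}
    (b : Module.Basis (Fin n) A M) (Q : QuadraticForm A M) (h : IsUnit (polMat Q b).det) : IsRegular Q := by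
  classical
  have h' : IsUnit (LinearMap.toMatrix b b.dualBasis (QuadraticMap.polarBilin Q)).det := by
    rw [show LinearMap.toMatrix b b.dualBasis (QuadraticMap.polarBilin Q) = (polMat Q b).transpose from ?_,
      Matrix.det_transpose]
    · exact h
    · ext i j
      rw [LinearMap.toMatrix_apply, b.dualBasis_repr]
      rfl
  exact (LinearEquiv.ofIsUnitDet h').bijective

theorem form_apply {B : Type u} [CommRing B] {V : Type u} [AddCommGroup V] [Module B V] {n : ℕ}
    (bV : Module.Basis (Fin n) B V) (q : QuadraticForm B V) (c : Fin n → B) :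
    q (∑ k, c k • bV k) = ∑ k, ∑ l, c k * c l *
      (if k = l then q (bV k) else if k < l then QuadraticMap.polar q (bV k) (bV l) else 0) := by
  conv_lhs => rw [← q.toQuadraticMap_toBilin bV, LinearMap.BilinMap.toQuadraticMap_apply]
  simp only [map_sum, map_smul, LinearMap.sum_apply, LinearMap.smul_apply, smul_eq_mul, QuadraticMap.toBilin_apply,
    Finset.mul_sum]
  rw [Finset.sum_comm]
  exact Finset.sum_congr rfl fun k _ => Finset.sum_congr rfl fun l _ => by ring

theorem hyp_value {B : Type u} [CommRing B] {V : Type u} [AddCommGroup V] [Module B V] {q : QuadraticForm B V}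
    {m : ℕ} (F : Frame q m) (c d : Fin m → B) :
    q (∑ i, c i • F.e i + ∑ i, d i • F.f i) = ∑ i, c i * d i := by
  classical
  rw [QuadraticMap.map_add q,
    sum_zero q _ _ (fun i => by rw [QuadraticMap.map_smul, F.qe, smul_zero]) (fun i j => by
      simp [QuadraticMap.polar_smul_left, QuadraticMap.polar_smul_right, F.ee]),
    sum_zero q _ _ (fun i => by rw [QuadraticMap.map_smul, F.qf, smul_zero]) (fun i j => by
      simp [QuadraticMap.polar_smul_left, QuadraticMap.polar_smul_right, F.ff])]
  simp only [← QuadraticMap.polarBilin_apply_apply]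
  simp only [map_sum, map_smul, LinearMap.sum_apply, LinearMap.smul_apply]
  simp [QuadraticMap.polarBilin_apply_apply, F.ef, mul_comm]


/-- Let A be a commutative ring and Q(x) = sum over pairs i <= j of a_{ij} x_i x_j a quadratic form in
2m variables on the free module A^{2m} (the source allows a locally free module, which is free
Zariski-locally; the variables indexed by two copies of Fin m, ordered first copy then second),
whose polar bilinear form (matrix entries 2a_{ii} on the diagonal, a_{ij} for i < j) has invertible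
determinant (Q is ordinary). Then there are finitely many etale A-algebras B_t whose spectra jointly
cover Spec A and, over each B_t, an invertible matrix g with Q(g x) = sum_j x_j x_{m+j}, the split
form. -/
theorem result (A : Type u) [CommRing A] (m : ℕ)
    (a : (Fin m ⊕ Fin m) → (Fin m ⊕ Fin m) → A) :
    let rk : Fin m ⊕ Fin m → ℕ := Sum.elim Fin.val (fun k => m + k.val)
    let QB : ∀ (B : Type u) [CommRing B] [Algebra A B], ((Fin m ⊕ Fin m) → B) → B :=
      fun B _ _ x => ∑ i, ∑ j, if rk i ≤ rk j then algebraMap A B (a i j) * x i * x j else 0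
    IsUnit (Matrix.det (Matrix.of fun i j : Fin m ⊕ Fin m =>
      if i = j then a i i + a i i else if rk i ≤ rk j then a i j else a j i)) →
    ∃ (n : ℕ) (B : Fin n → Type u) (_ : ∀ t, CommRing (B t)) (_ : ∀ t, Algebra A (B t)),
      (∀ t, Algebra.Etale A (B t)) ∧
      (∀ p : PrimeSpectrum A, ∃ (t : Fin n) (q : PrimeSpectrum (B t)),
        q.asIdeal.comap (algebraMap A (B t)) = p.asIdeal) ∧
      ∀ t, ∃ g : Matrix (Fin m ⊕ Fin m) (Fin m ⊕ Fin m) (B t), IsUnit g.det ∧
        ∀ x : Fin m ⊕ Fin m → B t, QB (B t) (g.mulVec x) = ∑ j : Fin m, x (Sum.inl j) * x (Sum.inr j) := by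
  intro rk QB hdet
  classical
  let σ : (Fin m ⊕ Fin m) ≃ Fin (2 * m) := finSumFinEquiv.trans (finCongr (two_mul m).symm)
  have hrk : ∀ i, rk i = (σ i).val := by
    rintro (i | i) <;> simp [rk, σ, Nat.add_comm]
  have hle : ∀ i j, rk i ≤ rk j ↔ σ i ≤ σ j := fun i j => by rw [hrk, hrk]; exact Iff.rfl
  let U : Matrix (Fin (2 * m)) (Fin (2 * m)) A :=
    Matrix.of fun k l => if k ≤ l then a (σ.symm k) (σ.symm l) else 0
  let Q : QuadraticForm A (Fin (2 * m) → A) := LinearMap.BilinMap.toQuadraticMap (Matrix.toLinearMap₂' A U)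
  let b := Pi.basisFun A (Fin (2 * m))
  have hQb : ∀ k, Q (b k) = U k k := fun k => by
    simp [Q, b, LinearMap.BilinMap.toQuadraticMap_apply, Matrix.toLinearMap₂'_apply, Pi.single_apply]
  have hPb : ∀ k l, QuadraticMap.polar Q (b k) (b l) = U k l + U l k := fun k l => by
    simp [Q, b, LinearMap.BilinMap.polar_toQuadraticMap, Matrix.toLinearMap₂'_apply, Pi.single_apply]
  have hreg : IsRegular Q := by
    refine regular_of_det b Q ?_
    rw [← Matrix.det_submatrix_equiv_self σ]
    convert hdet using 2
    ext i j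
    simp only [Matrix.submatrix_apply, polMat, Matrix.of_apply, QuadraticMap.polarBilin_apply_apply, hPb, U,
      Equiv.symm_apply_apply, hle]
    by_cases hij : i = j
    · subst hij; simp
    · rw [if_neg hij]
      rcases lt_or_gt_of_ne (fun h => hij (σ.injective h)) with h | h
      · rw [if_pos h.le, if_neg h.not_ge, if_pos h.le, add_zero]
      · rw [if_neg h.not_ge, if_pos h.le, if_neg h.not_ge, zero_add]
  obtain ⟨B, iB, iAB, ⟨hff, het⟩, ⟨F⟩⟩ := exists_evenFrame_et b hreg
  refine ⟨1, fun _ => B, fun _ => iB, fun _ => iAB, fun _ => het, fun p => ?_, fun _ => ?_⟩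
  · obtain ⟨q, hq⟩ := PrimeSpectrum.comap_surjective_of_faithfullyFlat (A := A) (B := B) p
    exact ⟨0, q, congrArg PrimeSpectrum.asIdeal hq⟩
  set bB := Algebra.TensorProduct.basis B b with hbB
  let vec : Fin m ⊕ Fin m → B ⊗[A] (Fin (2 * m) → A) := Sum.elim F.e F.f
  let dual : Fin m ⊕ Fin m → B ⊗[A] (Fin (2 * m) → A) := Sum.elim F.f F.e
  let g : Matrix (Fin m ⊕ Fin m) (Fin m ⊕ Fin m) B := Matrix.of fun i s => bB.repr (vec s) (σ i)
  let g' : Matrix (Fin m ⊕ Fin m) (Fin m ⊕ Fin m) B :=
    Matrix.of fun s i => QuadraticMap.polar (baseChangeForm B Q) (dual s) (bB (σ i))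
  refine ⟨g, ?_, fun x => ?_⟩
  · have hgg : g' * g = 1 := by
      ext s t
      have hexp : (g' * g) s t = QuadraticMap.polar (baseChangeForm B Q) (dual s) (vec t) := by
        conv_rhs => rw [← bB.sum_repr (vec t), ← QuadraticMap.polarBilin_apply_apply, map_sum]
        rw [Matrix.mul_apply, ← σ.sum_comp]
        refine Finset.sum_congr rfl fun i _ => ?_
        simp [g, g', mul_comm]
      rw [hexp]
      rcases s with s | s <;> rcases t with t | t <;>
        simp [dual, vec, F.fe, F.ff, F.ee, F.ef, Matrix.one_apply, eq_comm]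
    exact (Matrix.isUnit_det_of_left_inverse hgg)
  · have hz : ∑ k, (g.mulVec x) (σ.symm k) • bB k = ∑ j, x (Sum.inl j) • F.e j + ∑ j, x (Sum.inr j) • F.f j := by
      apply bB.repr.injective
      refine Finsupp.ext fun k => ?_
      rw [Module.Basis.repr_sum_self, map_add, map_sum, map_sum, Finsupp.add_apply, Finsupp.finsetSum_apply,
        Finsupp.finsetSum_apply, Matrix.mulVec, dotProduct, Fintype.sum_sum_type]
      simp [g, vec, mul_comm]
    rw [← hyp_value F (fun j => x (Sum.inl j)) (fun j => x (Sum.inr j)), ← hz, form_apply, ← σ.sum_comp]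
    change (∑ i, ∑ j, if rk i ≤ rk j then algebraMap A B (a i j) * (g.mulVec x) i * (g.mulVec x) j else 0) = _
    refine Finset.sum_congr rfl fun i _ => ?_
    rw [← σ.sum_comp]
    refine Finset.sum_congr rfl fun j _ => ?_
    simp only [Equiv.symm_apply_apply, hle, hbB, Algebra.TensorProduct.basis_apply, polar_baseChangeForm,
      baseChangeForm_one_tmul, hQb, hPb, U, Matrix.of_apply]
    rcases lt_trichotomy (σ i) (σ j) with h | h | h
    · rw [if_pos h.le, if_neg h.ne, if_pos h, if_neg h.not_ge, add_zero, if_pos h.le]; ring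
    · obtain rfl := σ.injective h
      simp; ring
    · rw [if_neg h.not_ge, if_neg h.ne', if_neg h.not_gt, mul_zero]

end Groth.Agent.S3215
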