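import Groth.Statements.S3248
import Groth.Agent.CSA.AzumayaFibre

set_option autoImplicit false
universe u
open TensorProduct
open Dix

namespace Groth.Agent.S3248

/-- Stated for a commutative subalgebra: let A be a central simple algebra of dimension r² over a field
k and L a commutative k-algebra embedded in A by an injective k-algebra homomorphism ι, such that A
is free of rank r for the right L-module structure a · l = a ι(l) (given here as a module structure
together with that compatibility). Then L ⊗_k A is isomorphic as an L-algebra to the matrix algebra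
M_r(L). (Only the existence of an isomorphism is stated; the text names the map a ⊗ l ↦ (y ↦ a y
l).) -/
theorem result (k : Type u) [Field k] (A : Type u) [Ring A] [Algebra k A] [Algebra.IsCentral k A] [IsSimpleRing A] [FiniteDimensional k A] (L : Type u) [CommRing L] [Algebra k L] (ι : L →ₐ[k] A) (hι : Function.Injective ι) [Module L A] (hmod : ∀ (l : L) (a : A), l • a = a * ι l) [Module.Free L A] (r : ℕ) (hr : 0 < r) (hA : Module.finrank k A = r ^ 2) (hrank : Module.finrank L A = r) : Nonempty ((L ⊗[k] A) ≃ₐ[L] Matrix (Fin r) (Fin r) L) := by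

  haveI : IsScalarTower k L A := ⟨fun c l a => by
    rw [hmod, hmod, map_smul, mul_smul_comm]⟩
  haveI : SMulCommClass k L A := ⟨fun c l a => by
    rw [hmod, hmod, smul_mul_assoc]⟩
  haveI : SMulCommClass L k A := SMulCommClass.symm _ _ _
  haveI : Nontrivial L := ⟨⟨0, 1, fun h => by
    have := congrArg ι h; simp at this⟩⟩
  haveI : FiniteDimensional k L := FiniteDimensional.of_injective ι.toLinearMap hι
  haveI : Module.Finite L A := Module.Finite.of_restrictScalars_finite k L A
  haveI : IsAzumaya k A :=
    (Groth.Agent.CSA.Azu.isAzumaya_iff_central_simple k A).2 ⟨inferInstance, inferInstance⟩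
  let f : A →ₐ[k] Module.End L A :=
    { toFun := fun a =>
        { toFun := fun y => a * y
          map_add' := fun y z => mul_add a y z
          map_smul' := fun l y => by simp only [RingHom.id_apply, hmod, mul_assoc] }
      map_one' := LinearMap.ext fun y => one_mul y
      map_mul' := fun a b => LinearMap.ext fun y => mul_assoc a b y
      map_zero' := LinearMap.ext fun y => zero_mul y
      map_add' := fun a b => LinearMap.ext fun y => add_mul a b y
      commutes' := fun c => LinearMap.ext fun y => (Algebra.smul_def c y).symm }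
  let Φ : L ⊗[k] A →ₐ[L] Module.End L A :=
    Algebra.TensorProduct.lift (Algebra.ofId L (Module.End L A)) f
      (fun l a => Algebra.commutes l (f a))
  have hΦ : ∀ l a y, Φ (l ⊗ₜ[k] a) y = a * y * ι l := by
    intro l a y
    simp only [Φ, Algebra.TensorProduct.lift_tmul, Algebra.ofId_apply, Module.End.mul_apply,
      Module.algebraMap_end_apply]
    exact hmod l (a * y)
  let g : L ⊗[k] A →ₗ[k] A ⊗[k] Aᵐᵒᵖ :=
    (TensorProduct.map (LinearMap.id : A →ₗ[k] A)
      ((MulOpposite.opLinearEquiv k : A ≃ₗ[k] Aᵐᵒᵖ).toLinearMap ∘ₗ ι.toLinearMap)) ∘ₗ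
      (TensorProduct.comm k L A).toLinearMap
  have hg : Function.Injective g := by
    have h1 : Function.Injective ((MulOpposite.opLinearEquiv k : A ≃ₗ[k] Aᵐᵒᵖ).toLinearMap ∘ₗ ι.toLinearMap) :=
      (MulOpposite.opLinearEquiv k : A ≃ₗ[k] Aᵐᵒᵖ).injective.comp hι
    exact (Module.Flat.lTensor_preserves_injective_linearMap _ h1).comp
      (TensorProduct.comm k L A).injective
  have key : ∀ x y, Φ x y = AlgHom.mulLeftRight k A (g x) y := by
    intro x y
    induction x using TensorProduct.induction_on with
    | zero => simp
    | add u v hu hv => simp only [map_add, LinearMap.add_apply, hu, hv]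
    | tmul l a =>
      rw [hΦ]
      simp [g, AlgHom.mulLeftRight_apply]
  have hinj : Function.Injective Φ := fun x y hxy => hg (IsAzumaya.bij.1 (LinearMap.ext fun z => by
    rw [← key, ← key, hxy]))
  let b : Module.Basis (Fin r) L A := Module.finBasisOfFinrankEq L A hrank
  let e : Module.End L A ≃ₐ[L] Matrix (Fin r) (Fin r) L := algEquivMatrix b
  let Ψ := e.toAlgHom.comp Φ
  have hΨ : Function.Injective Ψ := e.injective.comp hinj
  refine ⟨AlgEquiv.ofBijective Ψ ⟨hΨ, ?_⟩⟩
  have hd : Module.finrank k (L ⊗[k] A) = Module.finrank k (Matrix (Fin r) (Fin r) L) := by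
    rw [Module.finrank_tensorProduct, hA, Module.finrank_matrix]
    simp only [Fintype.card_fin]
    ring
  exact (LinearMap.injective_iff_surjective_of_finrank_eq_finrank hd
    (f := (Ψ.restrictScalars k).toLinearMap)).1 hΨ

end Groth.Agent.S3248
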