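import Groth.Statements.S3290
import Groth.Agent.Lambda.Positive

set_option autoImplicit false
universe u
open Finset
open LambdaRing

namespace Groth.Agent.S3290

/-- For a positive element e of augmentation m in a λ-ring with positive structure, the polynomials
Σ_{i=0}^{m} γ^i(e − m) t^(m−i) and Σ_{i=0}^{m} λ^i(e) (t − 1)^(m−i) are equal. -/
theorem result (K : Type u) [CommRing K] [LambdaRing.LambdaOps K] (P : LambdaRing.PosStructure K) (e : K) (he : e ∈ P.pos) :
    (∑ i ∈ range ((P.aug e).toNat + 1),
        Polynomial.C (LambdaRing.gamma i (e - ((P.aug e).toNat : K))) * Polynomial.X ^ ((P.aug e).toNat - i)) =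
      ∑ i ∈ range ((P.aug e).toNat + 1),
        Polynomial.C (LambdaRing.LambdaOps.lam i e) * (Polynomial.X - 1) ^ ((P.aug e).toNat - i) := by
  have h1 := Lambda.lam_one_of_pos P
  set m := (P.aug e).toNat
  have hv : ∀ i : ℕ, m < i → LambdaRing.LambdaOps.lam i e = 0 := fun i hi =>
    Lambda.lam_eq_zero_of_toNat_lt he hi
  ext d
  simp only [Polynomial.finsetSum_coeff, Polynomial.coeff_C_mul, Polynomial.coeff_X_pow]
  rw [show (Polynomial.X - 1 : Polynomial K) = Polynomial.X + Polynomial.C (-1 : K) by simp [sub_eq_add_neg]]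
  simp only [Polynomial.coeff_X_add_C_pow, mul_ite, mul_one, mul_zero]
  by_cases hd : d ≤ m
  · rw [Finset.sum_eq_single (m - d) (fun k hk hne => if_neg (by rw [Finset.mem_range] at hk; omega))
      (fun h => absurd (Finset.mem_range.2 (by omega)) h), if_pos (by omega),
      Lambda.gamma_sub_natCast h1 e m hv]
    refine Finset.sum_congr rfl fun i hi => ?_
    rw [Finset.mem_range] at hi
    split_ifs with h
    · rw [show m - i - d = m - d - i by omega, ← Nat.choose_symm (show m - d - i ≤ m - i by omega),
        show m - i - (m - d - i) = d by omega]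
    · rw [Nat.choose_eq_zero_of_lt (by omega)]
      simp
  · rw [Finset.sum_eq_zero fun k hk => if_neg (by omega)]
    refine (Finset.sum_eq_zero fun i hi => ?_).symm
    rw [Nat.choose_eq_zero_of_lt (by omega)]
    simp

end Groth.Agent.S3290
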