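import Groth.Statements.S3350
import Groth.Agent.NumType.QuadForm
import Mathlib.Tactic.IntervalCases


set_option autoImplicit false
open Finset
open Models Models.NumericalType

namespace Groth.Agent.S3350

/-- Classification of proper subgraphs with two vertices: Let T be a numerical type on n > 2 indices and
i ≠ j two (-2)-indices (g = 0 and a_ii = -2 w_i, a_jj = -2 w_j) with a_ij > 0. Then, after possibly
exchanging i and j, one of the following holds with w = w_i: (A2) w_j = w, a_ij = w, 2 m_i ≥ m_j and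
2 m_j ≥ m_i; (B2) w_j = 2w, a_ij = 2w, m_i ≥ m_j and 2 m_j ≥ m_i; (G2) w_j = 3w, a_ij = 3w, 2 m_i ≥
3 m_j and 2 m_j ≥ m_i. -/
theorem result {n : ℕ} (T : Models.NumericalType n) (hn : 2 < n) (i j : Fin n)
    (hij : i ≠ j) (hi : T.IsMinusTwo i) (hj : T.IsMinusTwo j) (hpos : 0 < T.a i j) :
    ∃ i' j' : Fin n, ((i' = i ∧ j' = j) ∨ (i' = j ∧ j' = i)) ∧
      ((T.w j' = T.w i' ∧ T.a i' j' = T.w i' ∧ T.m j' ≤ 2 * T.m i' ∧ T.m i' ≤ 2 * T.m j') ∨
        (T.w j' = 2 * T.w i' ∧ T.a i' j' = 2 * T.w i' ∧ T.m j' ≤ T.m i' ∧ T.m i' ≤ 2 * T.m j') ∨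
        (T.w j' = 3 * T.w i' ∧ T.a i' j' = 3 * T.w i' ∧ 3 * T.m j' ≤ 2 * T.m i' ∧ T.m i' ≤ 2 * T.m j')) := by
  obtain ⟨p, hp⟩ := T.w_dvd i j
  obtain ⟨q, hq⟩ := (NumType.a_symm T j i) ▸ T.w_dvd j i
  have hwi := T.w_pos i
  have hwj := T.w_pos j
  have hp0 : 0 < p := by rw [hp] at hpos; exact (mul_pos_iff_of_pos_left hwi).1 hpos
  have hq0 : 0 < q := by rw [hq] at hpos; exact (mul_pos_iff_of_pos_left hwj).1 hpos
  have hji : T.a j i = T.a i j := NumType.a_symm T j i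
  let v : Fin 2 ↪ Fin n := ⟨![i, j], by
    intro a b h; rcases Fin.exists_fin_two.1 ⟨a, rfl⟩ with ha | ha <;>
      rcases Fin.exists_fin_two.1 ⟨b, rfl⟩ with hb | hb <;> subst ha hb <;> simp_all⟩
  have v0 : v 0 = i := rfl
  have v1 : v 1 = j := rfl
  have hneg := NumType.sub_form_neg T v hn ![p, 2] (by
    intro h; have := congrFun h 1; simp at this)
  simp [Fin.sum_univ_two, v0, v1, hji, hi.2, hj.2] at hneg
  have hpq : p * q < 4 := by
    rw [hp] at hneg
    have e : T.w i * p * q = T.w j * q * q := by rw [← hp, hq]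
    nlinarith [hp.symm.trans hq]
  have ri := NumType.sub_row_nonpos T v 0
  have rj := NumType.sub_row_nonpos T v 1
  simp [Fin.sum_univ_two, v0, v1, hji, hi.2, hj.2] at ri rj
  have hp3 : p ≤ 3 := by nlinarith
  have hq3 : q ≤ 3 := by nlinarith
  rw [hp] at ri
  rw [hq] at rj
  have si : p * T.m j ≤ 2 * T.m i := le_of_mul_le_mul_left (a := T.w i) (by linarith) hwi
  have sj : q * T.m i ≤ 2 * T.m j := le_of_mul_le_mul_left (a := T.w j) (by linarith) hwj
  have e := hp.symm.trans hq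
  interval_cases p <;> interval_cases q <;> first | (exfalso; omega) | skip
  · exact ⟨i, j, Or.inl ⟨rfl, rfl⟩, Or.inl ⟨by linarith, by linarith, by linarith, by linarith⟩⟩
  · exact ⟨j, i, Or.inr ⟨rfl, rfl⟩, Or.inr (Or.inl ⟨by linarith, by linarith, by linarith, by linarith⟩)⟩
  · exact ⟨j, i, Or.inr ⟨rfl, rfl⟩, Or.inr (Or.inr ⟨by linarith, by linarith, by linarith, by linarith⟩)⟩
  · exact ⟨i, j, Or.inl ⟨rfl, rfl⟩, Or.inr (Or.inl ⟨by linarith, by linarith, by linarith, by linarith⟩)⟩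
  · exact ⟨i, j, Or.inl ⟨rfl, rfl⟩, Or.inr (Or.inr ⟨by linarith, by linarith, by linarith, by linarith⟩)⟩

end Groth.Agent.S3350
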