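import Groth.Statements.S3352
import Groth.Agent.LatticeDual.Basic

set_option autoImplicit false
open Models

namespace Groth.Agent.S3352

/-- Let L₀, L₁ be finite free ℤ-modules with positive definite symmetric integral bilinear forms, the
form on L₀ unimodular (x ↦ ⟨x, −⟩ is a bijection L₀ → Hom(L₀, ℤ)), and let d : L₀ → L₁ and d* : L₁ →
L₀ be adjoint. Identify Im(d)^# (the dual lattice of Im(d)) with Hom(Im(d), ℤ) through the form on
L₁. Then there is an isomorphism Φ from the torsion subgroup of Coker(d* d) onto Im(d)^#/Im(d),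
determined by: for x ∈ L₀ whose class is torsion, Φ[x] is the class of the functional d(y') ↦ ⟨x,
y'⟩ (equivalently the class of (1/a)·d(y) when a·x = d* d(y)). -/
theorem result {L₀ L₁ : Type} [AddCommGroup L₀] [AddCommGroup L₁]
    [Module.Finite ℤ L₀] [Module.Free ℤ L₀] [Module.Finite ℤ L₁] [Module.Free ℤ L₁]
    (B₀ : LinearMap.BilinForm ℤ L₀) (B₁ : LinearMap.BilinForm ℤ L₁) (h₀s : B₀.IsSymm) (h₁s : B₁.IsSymm)
    (h₀p : ∀ x, x ≠ 0 → 0 < B₀ x x) (h₁p : ∀ x, x ≠ 0 → 0 < B₁ x x) (huni : Function.Bijective B₀)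
    (d : L₀ →ₗ[ℤ] L₁) (ds : L₁ →ₗ[ℤ] L₀) (hadj : ∀ x y, B₁ (d x) y = B₀ x (ds y)) :
    ∃ Φ : ↥(Submodule.torsion ℤ (L₀ ⧸ LinearMap.range (ds ∘ₗ d))) ≃ₗ[ℤ]
        (Module.Dual ℤ ↥(LinearMap.range d) ⧸
          LinearMap.range ((B₁.compl₂ (LinearMap.range d).subtype) ∘ₗ (LinearMap.range d).subtype)),
      ∀ (x : L₀) (hx : Submodule.Quotient.mk x ∈ Submodule.torsion ℤ (L₀ ⧸ LinearMap.range (ds ∘ₗ d)))
        (ψ : Module.Dual ℤ ↥(LinearMap.range d)),
        (∀ y' : L₀, ψ ⟨d y', LinearMap.mem_range_self d y'⟩ = B₀ x y') →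
          Φ ⟨Submodule.Quotient.mk x, hx⟩ = Submodule.Quotient.mk ψ := by
  let K := LinearMap.range d
  let N := LinearMap.range (ds ∘ₗ d)
  let D : L₀ →ₗ[ℤ] K := d.rangeRestrict
  let e := LinearEquiv.ofBijective B₀ huni
  let X : Module.Dual ℤ K →ₗ[ℤ] L₀ := e.symm.toLinearMap ∘ₗ D.dualMap
  have hX : ∀ (ψ : Module.Dual ℤ K) (y' : L₀), B₀ (X ψ) y' = ψ (D y') := fun ψ y' =>
    LinearMap.congr_fun (e.apply_symm_apply (D.dualMap ψ)) y'
  have hXu : ∀ (ψ : Module.Dual ℤ K) (x : L₀), (∀ y', B₀ x y' = ψ (D y')) → X ψ = x := fun ψ x h =>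
    huni.1 (LinearMap.ext fun y' => (hX ψ y').trans (h y').symm)
  have hdd : ∀ y y', B₁ (d y) (d y') = B₀ (ds (d y)) y' := fun y y' => by
    rw [h₁s.eq, hadj, h₀s.eq]
  have htors : ∀ ψ, (N.mkQ ∘ₗ X) ψ ∈ Submodule.torsion ℤ (L₀ ⧸ N) := by
    intro ψ
    obtain ⟨c, hc, ⟨_, y, rfl⟩, ha⟩ := LatticeDual.exists_smul_repr B₁ h₁p K ψ
    refine (Submodule.mem_torsion_iff _).2 ⟨⟨c, mem_nonZeroDivisors_of_ne_zero hc⟩, ?_⟩
    show c • N.mkQ (X ψ) = 0
    rw [← map_smul, Submodule.mkQ_apply, Submodule.Quotient.mk_eq_zero]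
    refine ⟨y, huni.1 (LinearMap.ext fun y' => ?_)⟩
    rw [LinearMap.map_smul₂, hX, smul_eq_mul, ha (D y'), LinearMap.comp_apply, ← hdd]
    rfl
  let g : Module.Dual ℤ K →ₗ[ℤ] Submodule.torsion ℤ (L₀ ⧸ N) := LinearMap.codRestrict _ (N.mkQ ∘ₗ X) htors
  have hker : LinearMap.ker g = LinearMap.range ((B₁.compl₂ K.subtype) ∘ₗ K.subtype) := by
    ext ψ
    rw [LinearMap.mem_ker, Subtype.ext_iff]
    show N.mkQ (X ψ) = 0 ↔ _
    rw [Submodule.mkQ_apply, Submodule.Quotient.mk_eq_zero]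
    constructor
    · rintro ⟨y, hy⟩
      refine ⟨D y, LinearMap.ext fun k => ?_⟩
      obtain ⟨_, y', rfl⟩ := k
      show B₁ (d y) (d y') = ψ (D y')
      rw [hdd, ← hX, ← hy]
      rfl
    · rintro ⟨⟨_, y, rfl⟩, rfl⟩
      exact ⟨y, (hXu _ _ fun y' => (hdd y y').symm).symm⟩
  have hsurj : Function.Surjective g := by
    rintro ⟨q, hq⟩
    induction q using Submodule.Quotient.induction_on with
    | _ x =>
      obtain ⟨⟨c, hc⟩, hcx⟩ := (Submodule.mem_torsion_iff _).1 hq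
      have hcx' : c • x ∈ N := by
        rw [← Submodule.Quotient.mk_eq_zero]; exact hcx
      obtain ⟨y, hy⟩ := hcx'
      have hxk : LinearMap.ker d ≤ LinearMap.ker (B₀ x) := by
        intro v hv
        rw [LinearMap.mem_ker] at hv ⊢
        have h1 : c * B₀ x v = 0 := by
          rw [← smul_eq_mul, ← LinearMap.map_smul₂, ← hy, LinearMap.comp_apply, ← hdd, hv, map_zero]
        exact (mul_eq_zero.1 h1).resolve_left (nonZeroDivisors.ne_zero hc)
      let ψ : Module.Dual ℤ K := ((LinearMap.ker d).liftQ (B₀ x) hxk) ∘ₗ d.quotKerEquivRange.symm.toLinearMap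
      refine ⟨ψ, Subtype.ext ?_⟩
      show N.mkQ (X ψ) = _
      rw [hXu ψ x fun y' => ?_]
      · rfl
      · show B₀ x y' = (LinearMap.ker d).liftQ (B₀ x) hxk (d.quotKerEquivRange.symm (D y'))
        rw [show d.quotKerEquivRange.symm (D y') = Submodule.Quotient.mk y' from
          d.quotKerEquivRange_symm_apply_image y' _]
        rfl
  refine ⟨((Submodule.quotEquivOfEq _ _ hker.symm).trans (g.quotKerEquivOfSurjective hsurj)).symm,
    fun x hx ψ hψ => ?_⟩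
  rw [LinearEquiv.symm_apply_eq, LinearEquiv.trans_apply, Submodule.quotEquivOfEq_mk,
    LinearMap.quotKerEquivOfSurjective_apply_mk]
  refine Subtype.ext ?_
  show Submodule.Quotient.mk x = N.mkQ (X ψ)
  rw [hXu ψ x fun y' => (hψ y').symm]
  rfl

end Groth.Agent.S3352
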