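import Groth.Statements.S3364
import Groth.Agent.EtSite.SuppExt
import Groth.Agent.EtMV.EtaleRestr
import Groth.Agent.EtMV.Flasque
import Groth.Agent.S5189

set_option autoImplicit false
universe u
open CategoryTheory CategoryTheory.Limits AlgebraicGeometry Opposite
open EtDepth

namespace Groth.Agent.S3364

/-- Local cohomology sheaves vanish if all local cohomology groups over étale schemes do. -/
theorem isZero_locCoh {X U : Scheme.{u}} (j : U ⟶ X) [IsOpenImmersion j] (F : EtCoh.Ab X) (p : ℕ)
    (h : ∀ W : X.Etale, IsZero (((EtDual.gammaSupp (pullback.snd j W.hom)).rightDerived p).obj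
      ((EtCoh.pull W.hom).obj F))) :
    IsZero ((EtDual.locCoh j p).obj F) := by
  let R := injectiveResolution F
  let K := ((EtDual.secSupp j).mapHomologicalComplex (ComplexShape.up ℕ)).obj R.cocomplex
  refine IsZero.of_iso ?_ (R.isoRightDerivedObj (EtDual.secSupp j) p)
  refine (ShortComplex.exact_iff_isZero_homology (K.sc p)).1 ?_
  have hpre : ((K.sc p).map (sheafToPresheaf X.smallEtaleTopology AddCommGrpCat.{u + 1})).Exact := by
    rw [ShortComplex.exact_iff_isZero_homology]
    refine Functor.isZero _ ?_
    rintro ⟨W⟩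
    refine IsZero.of_iso ?_ (((K.sc p).map (sheafToPresheaf X.smallEtaleTopology AddCommGrpCat.{u + 1})).mapHomologyIso
      ((evaluation X.Etaleᵒᵖ AddCommGrpCat.{u + 1}).obj (op W))).symm
    refine (ShortComplex.exact_iff_isZero_homology _).1 ?_
    let g : W.left ⟶ X := W.hom
    have : Etale g := W.prop
    have hJ : EtShriek.JCont g := Groth.Agent.EtMV.jCont g
    have hinj := Groth.Agent.EtMV.pull_preservesInjectiveObjects g
    obtain ⟨eP⟩ := Groth.Agent.EtSite.SuppPull.nonempty_secSupp_pull j g (pullback.snd j g)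
      (pullback.fst j g) (IsPullback.of_hasPullback j g)
    let ΓW := sheafToPresheaf X.smallEtaleTopology AddCommGrpCat.{u + 1} ⋙
      (evaluation X.Etaleᵒᵖ AddCommGrpCat.{u + 1}).obj (op W)
    let e1 : ΓW ≅ EtShriek.restrAlong g ⋙ (sheafToPresheaf W.left.smallEtaleTopology AddCommGrpCat.{u + 1} ⋙
        (evaluation W.left.Etaleᵒᵖ AddCommGrpCat.{u + 1}).obj (op (EtCoh.top W.left))) :=
      NatIso.ofComponents (fun G => G.obj.mapIso (Groth.Agent.EtMV.topMapIso W).op)
        fun {G H} a => (a.hom.naturality (Groth.Agent.EtMV.topMapIso W).op.hom).symm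
    let e : EtDual.secSupp j ⋙ ΓW ≅ EtCoh.pull g ⋙ EtDual.gammaSupp (pullback.snd j g) :=
      Functor.isoWhiskerLeft (EtDual.secSupp j) e1 ≪≫
        Functor.isoWhiskerRight (Functor.isoWhiskerLeft (EtDual.secSupp j) (Groth.Agent.EtMV.σEt g).symm ≪≫ eP)
          (sheafToPresheaf W.left.smallEtaleTopology AddCommGrpCat.{u + 1} ⋙
            (evaluation W.left.Etaleᵒᵖ AddCommGrpCat.{u + 1}).obj (op (EtCoh.top W.left)))
    let R' := Groth.Agent.EtSite.SuppPull.mapResolution (EtCoh.pull g) R
    let C' := ((EtDual.gammaSupp (pullback.snd j g)).mapHomologicalComplex (ComplexShape.up ℕ)).obj R'.cocomplex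
    have h1 : C'.ExactAt p := by
      rw [HomologicalComplex.exactAt_iff_isZero_homology]
      exact (h W).of_iso (R'.isoRightDerivedObj (EtDual.gammaSupp (pullback.snd j g)) p).symm
    exact ShortComplex.exact_of_iso ((HomologicalComplex.shortComplexFunctor _ _ p).mapIso
      ((NatIso.mapHomologicalComplex e (ComplexShape.up ℕ)).app R.cocomplex)).symm h1
  exact ShortComplex.exact_of_iso
    ((K.sc p).mapNatIso (sheafificationNatIso X.smallEtaleTopology AddCommGrpCat.{u + 1})).symm
    (hpre.map (presheafToSheaf X.smallEtaleTopology AddCommGrpCat.{u + 1}))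

/-- Let X be a scheme, j : U → X an open immersion with closed complement Y, F an abelian sheaf on the
small étale site of X and n ≥ 0. Then the local cohomology sheaves H^p_Y(X, F) vanish for p < n if
and only if for every scheme X' étale over X, with U' = X' ×_X U, the restriction maps H^p(X', F) →
H^p(U', F) are bijective for p < n − 1 and injective for p = n − 1. (The restriction maps are the
prelude's pull-back maps on étale cohomology, whose exactness instance is carried as a binder. The
published statement has further equivalent conditions and is not limited to a single sheaf; only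
this equivalence, for one abelian sheaf, is stated here.) -/
theorem result {X U : Scheme.{u}} (j : U ⟶ X) [IsOpenImmersion j] [EtCoh.BCCont j] (F : EtCoh.Ab X) (n : ℕ) : EtDepth.DepthGE j F n ↔ ∀ (X' : Scheme.{u}) (g : X' ⟶ X) [Etale g] [PreservesFiniteLimits (EtCoh.pull (pullback.snd j g))], (∀ p : ℕ, p + 1 < n → Function.Bijective (EtCore.Hpull (pullback.snd j g) ((EtCoh.pull g).obj F) p)) ∧ (∀ p : ℕ, p + 1 = n → Function.Injective (EtCore.Hpull (pullback.snd j g) ((EtCoh.pull g).obj F) p)) := by
  constructor
  · intro h X' g _ _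
    refine (Groth.Agent.EtSite.SuppExt.isZero_HY_iff (pullback.snd j g) ((EtCoh.pull g).obj F) n).1
      fun p hp => ?_
    have hinj := Groth.Agent.EtMV.pull_preservesInjectiveObjects g
    have hd : ∀ q, q < n → IsZero ((EtDual.locCoh (pullback.snd j g) q).obj ((EtCoh.pull g).obj F)) :=
      fun q hq => Groth.Agent.EtSite.SuppPull.isZero_locCoh_pull j g _ (pullback.fst j g)
        (IsPullback.of_hasPullback j g) F q (h q hq) hinj
    have hi := Groth.Agent.S5189.result (pullback.snd j g) ((EtCoh.pull g).obj F) p
      fun q hq => hd q (by omega)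
    exact IsZero.of_iso ((sheafToPresheaf X'.smallEtaleTopology AddCommGrpCat.{u + 1} ⋙
      (evaluation X'.Etaleᵒᵖ AddCommGrpCat.{u + 1}).obj (op (EtCoh.top X'))).map_isZero (hd p hp))
      (@asIso _ _ _ _ _ hi)
  · intro h p hp
    refine isZero_locCoh j F p fun W => ?_
    have : Etale W.hom := W.prop
    exact (Groth.Agent.EtSite.SuppExt.isZero_HY_iff (pullback.snd j W.hom) ((EtCoh.pull W.hom).obj F) n).2
      (h W.left W.hom) p hp

end Groth.Agent.S3364
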