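import Groth.Statements.S3387
import Groth.Agent.GeomUnib.FibreDimSemi
-- import your own Groth.Agent.* helpers here

set_option autoImplicit false
open CategoryTheory AlgebraicGeometry
universe u
open EGA43

namespace Groth.Agent.S3387

/-- Let f : X ⟶ Y be locally of finite type and closed (as a map of underlying spaces). Then for every
natural number n the set of points y of Y whose fibre has dimension at least n is closed; that is,
the dimension of the fibre is upper semicontinuous on Y. -/
theorem result {X Y : Scheme.{u}} (f : X ⟶ Y) [LocallyOfFiniteType f]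
    (hf : IsClosedMap f.base) (n : ℕ) :
    IsClosed {y : Y | (n : WithBot ℕ∞) ≤ topologicalKrullDim ↥(f.fiber y)} := by
  have hset : {y : Y | (n : WithBot ℕ∞) ≤ topologicalKrullDim ↥(f.fiber y)} =
      f.base '' {x | (n : WithBot ℕ∞) ≤ FlatMor.fibreDimAt f x} := by
    ext y
    refine ⟨fun h => ?_, ?_⟩
    · obtain ⟨t, ht⟩ : ∃ t : ↥(f.fiber y), (n : WithBot ℕ∞) ≤ FlatMor.localDim (f.fiber y) t := by
        rcases n with _ | m
        · rcases isEmpty_or_nonempty ↥(f.fiber y) with he | hne
          · haveI : IsEmpty (TopologicalSpace.IrreducibleCloseds ↥(f.fiber y)) :=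
              ⟨fun Z => he.false Z.isIrreducible.nonempty.some⟩
            rw [Set.mem_setOf, topologicalKrullDim, Order.krullDim_eq_bot] at h
            simp at h
          · refine ⟨hne.some, FibreDim.le_localDim fun O _ hx => ?_⟩
            haveI : Nonempty (TopologicalSpace.IrreducibleCloseds ↥O) :=
              ⟨⟨closure {⟨_, hx⟩}, isIrreducible_singleton.closure, isClosed_closure⟩⟩
            exact Order.krullDim_nonneg
        · by_contra hc
          push Not at hc
          have hlt : ∀ a : WithBot ℕ∞, a < ((m + 1 : ℕ) : WithBot ℕ∞) → a ≤ (m : WithBot ℕ∞) := by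
            intro a ha
            induction a with
            | bot => exact bot_le
            | coe e =>
              refine WithBot.coe_le_coe.2 ?_
              rcases e with _ | k
              · exact absurd (WithBot.coe_lt_coe.1 ha) (not_lt.2 le_top)
              · exact WithTop.coe_le_coe.2 (Nat.lt_succ_iff.1 (WithTop.coe_lt_coe.1 (WithBot.coe_lt_coe.1 ha)))
          refine absurd h (not_le.2 (lt_of_le_of_lt (FibreDim.dim_le_of_cover (c := (m : WithBot ℕ∞))
            fun t => ?_) (by exact_mod_cast Nat.lt_succ_self m)))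
          obtain ⟨O, hO, htO, hdim⟩ := FibreDim.exists_localDim t
          exact ⟨O, hO, htO, hlt _ (hdim ▸ hc t)⟩
      obtain ⟨x, hx, hxt⟩ : ∃ x : X, f.base x = y ∧ (f.fiberι y).base t = x :=
        ⟨_, (f.range_fiberι y).le ⟨t, rfl⟩, rfl⟩
      refine ⟨x, ?_, hx⟩
      subst hx
      rw [Set.mem_setOf, FlatMor.fibreDimAt]
      rwa [show f.asFiber x = t from (f.fiberι _).isEmbedding.injective (by rw [hxt]; exact f.fiberι_asFiber x)]
    · rintro ⟨x, hx, rfl⟩
      refine hx.trans ((FibreDim.localDim_le isOpen_univ trivial).trans_eq ?_)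
      exact FibreDim.dim_homeo (Homeomorph.Set.univ _)
  rw [hset]
  refine hf _ (isClosed_iff_nhds.2 fun x hx => ?_)
  obtain ⟨O, hxO, hO⟩ := GeomUnib.exists_nhds_fibreDimAt_le f x
  obtain ⟨z, hzO, hz⟩ := hx _ (O.2.mem_nhds hxO)
  exact le_trans hz (hO z hzO)

end Groth.Agent.S3387
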