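import Groth.Statements.S3390
import Groth.Agent.DimFormulaIrr.Dominant
import Groth.Agent.LocalDim.Closure
import Groth.Agent.S3388
-- import your own Groth.Agent.* helpers here

set_option autoImplicit false
open CategoryTheory AlgebraicGeometry
universe u
open EGA43

namespace Groth.Agent.S3390

theorem ringKrullDim_ne_bot_top (R : Type u) [CommRing R] [IsNoetherianRing R] [IsLocalRing R] :
    ∃ m : ℕ, ringKrullDim R = m := by
  haveI : FiniteRingKrullDim R := inferInstance
  obtain ⟨m, hm⟩ : ∃ m : ℕ, (IsLocalRing.maximalIdeal R).height = m :=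
    ⟨_, (ENat.natCast_toNat Ideal.height_ne_top_of_isPrime).symm⟩
  exact ⟨m, by rw [← IsLocalRing.maximalIdeal_height_eq_ringKrullDim, hm]; rfl⟩

theorem cancel_left {a b c : WithBot ℕ∞} (ha : ∃ m : ℕ, a = m) (h : b + a ≤ c + a) : b ≤ c := by
  obtain ⟨m, rfl⟩ := ha
  cases b with
  | bot => exact bot_le
  | coe b => cases c with
    | bot =>
      rw [WithBot.bot_add] at h
      exact absurd h (not_le_of_gt (WithBot.bot_lt_coe (b + (m : ℕ∞))))
    | coe c =>
      have h' : b + (m : ℕ∞) ≤ c + (m : ℕ∞) := by exact_mod_cast h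
      exact WithBot.coe_le_coe.mpr ((ENat.addLECancellable_of_ne_top (ENat.natCast_ne_top m)).add_le_add_iff_right.mp h')

/-- Let Y be an irreducible locally Noetherian scheme with generic point η and X an irreducible scheme,
and let f : X ⟶ Y be dominant and locally of finite type. Take a point x of X and write y = f x.
Suppose dim O_{X,x} = dim O_{Y,y} + dim O_{X_y,x}. Then the local dimension of the fibre X_y at x
(FlatMor.fibreDimAt f x) equals the dimension of the generic fibre X_η (i.e. f is equidimensional at
x). -/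
theorem result {X Y : Scheme.{u}} [IrreducibleSpace X] [IrreducibleSpace Y]
    [IsLocallyNoetherian Y] (f : X ⟶ Y) [LocallyOfFiniteType f] [IsDominant f] (x : X)
    (h : ringKrullDim (X.presheaf.stalk x) =
        ringKrullDim (Y.presheaf.stalk (f.base x)) + ringKrullDim ((f.fiber (f.base x)).presheaf.stalk (f.asFiber x))) :
    FlatMor.fibreDimAt f x = topologicalKrullDim ↥(f.fiber (genericPoint Y)) := by
  refine le_antisymm ?_ (Groth.Agent.S3388.result f x)
  have hdom := Groth.Agent.DimFormulaIrr.map_genericPoint f f.denseRange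
  obtain ⟨E, hE, hE'⟩ := Groth.Agent.DimFormulaIrr.exists_trdeg_generic f
  rw [hdom] at hE'
  haveI : LocallyOfFiniteType (f.fiberToSpecResidueField (f x)) :=
    MorphismProperty.of_isPullback (P := @LocallyOfFiniteType) (IsPullback.of_hasPullback f (Y.fromSpecResidueField (f x))) inferInstance
  obtain ⟨n, hn, hn'⟩ := Groth.Agent.DimFormulaIrr.exists_trdeg_fibre f (f x) (f.asFiber x) x (f.fiberι_asFiber x)
  have hloc := Groth.Agent.LocalDim.localDim_eq_stalk_add_closure (k := Y.residueField (f x)) (f.fiberToSpecResidueField (f x)) (f.asFiber x)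
  have hineq := Groth.Agent.DimInequality.stalk_dimension_inequality f x n E hn fun ξ hξ _ => by
    obtain rfl := Groth.Agent.DimFormulaIrr.eq_of_component hξ
    exact hE.le
  rw [h, add_assoc, add_comm, add_comm (ringKrullDim (Y.presheaf.stalk (f x)))] at hineq
  rw [hE', FlatMor.fibreDimAt]
  refine hloc.le.trans ?_
  rw [hn']
  exact cancel_left (ringKrullDim_ne_bot_top (Y.presheaf.stalk (f x))) hineq

end Groth.Agent.S3390
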