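import Groth.Statements.S3391
import Groth.Agent.DimFormulaIrr.Dominant
import Groth.Agent.LocalDim.Closure
-- import your own Groth.Agent.* helpers here

set_option autoImplicit false
open CategoryTheory AlgebraicGeometry
universe u
open EGA43

namespace Groth.Agent.S3391

/-- With X, Y, f, x, y as in the first assertion, suppose O_{Y,y} is universally catenary and the local
dimension at x of the fibre through x equals the dimension of the generic fibre. Then dim O_{X,x} =
dim O_{Y,y} + dim O_{X_y,x}. -/
theorem result {X Y : Scheme.{u}} [IrreducibleSpace X] [IrreducibleSpace Y]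
    [IsLocallyNoetherian Y] (f : X ⟶ Y) [LocallyOfFiniteType f] [IsDominant f] (x : X)
    (hcat : CAlg.IsUniversallyCatenary (Y.presheaf.stalk (f.base x)))
    (h : FlatMor.fibreDimAt f x = topologicalKrullDim ↥(f.fiber (genericPoint Y))) :
    ringKrullDim (X.presheaf.stalk x) =
        ringKrullDim (Y.presheaf.stalk (f.base x)) + ringKrullDim ((f.fiber (f.base x)).presheaf.stalk (f.asFiber x)) := by
  have hdom := Groth.Agent.DimFormulaIrr.map_genericPoint f f.denseRange
  obtain ⟨E, hE, hE'⟩ := Groth.Agent.DimFormulaIrr.exists_trdeg_generic f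
  rw [hdom] at hE'
  haveI : LocallyOfFiniteType (f.fiberToSpecResidueField (f x)) :=
    MorphismProperty.of_isPullback (P := @LocallyOfFiniteType) (IsPullback.of_hasPullback f (Y.fromSpecResidueField (f x))) inferInstance
  obtain ⟨n, hn, hn'⟩ := Groth.Agent.DimFormulaIrr.exists_trdeg_fibre f (f x) (f.asFiber x) x (f.fiberι_asFiber x)
  have hloc := Groth.Agent.LocalDim.localDim_eq_stalk_add_closure (k := Y.residueField (f x)) (f.fiberToSpecResidueField (f x)) (f.asFiber x)
  have heq := Groth.Agent.DimFormulaIrr.stalk_dimension_equality f hdom x n E hcat hn hE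
  rw [FlatMor.fibreDimAt, hE'] at h
  have hl : FlatMor.localDim ↑(f.fiber (f x)) (f.asFiber x) = (E : WithBot ℕ∞) := h
  rw [← hl, hloc, hn', ← add_assoc] at heq
  exact Groth.Agent.DimFormulaIrr.add_natCast_cancel heq

end Groth.Agent.S3391
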