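import Groth.Statements.S3393
import Groth.Agent.GeomUnib.DimFormulaPoints
import Groth.Agent.GeomUnib.Equidim
-- import your own Groth.Agent.* helpers here

set_option autoImplicit false
open CategoryTheory AlgebraicGeometry
universe u
open EGA43

namespace Groth.Agent.S3393

/-- Let Y be an irreducible locally Noetherian scheme with generic point η, f : X ⟶ Y a morphism of
finite type and y a point of Y. Condition (b): for every point z of the fibre over y at which the
local ring of the fibre has dimension 0, dim O_{X,z} = dim O_{Y,y}. Condition (c): for every such z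
there is an irreducible component X' of X containing z such that the dimension of X' ∩ f⁻¹(η)
(topology induced from X) equals the local dimension at z of the fibre over y (the dimension of the
irreducible component of the fibre with generic point z). Then (b) implies (c), and (c) implies (b)
if O_{Y,y} is universally catenary. -/
theorem result {X Y : Scheme.{u}} [IrreducibleSpace Y] [IsLocallyNoetherian Y]
    (f : X ⟶ Y) [LocallyOfFiniteType f] [QuasiCompact f] (y : Y) :
    ((∀ z : X, f.base z = y → ringKrullDim ((f.fiber (f.base z)).presheaf.stalk (f.asFiber z)) = 0 →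
        ringKrullDim (X.presheaf.stalk z) = ringKrullDim (Y.presheaf.stalk (f.base z))) →
      (∀ z : X, f.base z = y → ringKrullDim ((f.fiber (f.base z)).presheaf.stalk (f.asFiber z)) = 0 →
        ∃ X' ∈ irreducibleComponents (X : Type u), z ∈ X' ∧
          topologicalKrullDim ↥(X' ∩ f.base ⁻¹' {genericPoint Y}) = FlatMor.fibreDimAt f z)) ∧
    (CAlg.IsUniversallyCatenary (Y.presheaf.stalk y) →
      (∀ z : X, f.base z = y → ringKrullDim ((f.fiber (f.base z)).presheaf.stalk (f.asFiber z)) = 0 →
        ∃ X' ∈ irreducibleComponents (X : Type u), z ∈ X' ∧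
          topologicalKrullDim ↥(X' ∩ f.base ⁻¹' {genericPoint Y}) = FlatMor.fibreDimAt f z) →
      (∀ z : X, f.base z = y → ringKrullDim ((f.fiber (f.base z)).presheaf.stalk (f.asFiber z)) = 0 →
        ringKrullDim (X.presheaf.stalk z) = ringKrullDim (Y.presheaf.stalk (f.base z)))) := by
  haveI := LocallyOfFiniteType.isLocallyNoetherian f
  have hmax : ∀ z : X, ringKrullDim ((f.fiber (f.base z)).presheaf.stalk (f.asFiber z)) = 0 →
      ∀ z' : X, f.base z' = f.base z → z ∈ closure {z'} → z' = z := fun z h0 z' hz' hm => by
    obtain ⟨n, m, a, b, -, hn, hm', hnm, -, -, hF, -⟩ := GeomUnib.DimFormulaPoints.exists_numbers f z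
    rw [hF] at h0
    have : n = m := by
      have : m - n = 0 := by exact_mod_cast h0
      omega
    refine GeomUnib.DimFormulaPoints.maximal_of_fdim f (by rw [hn, hm', this]) z' hz'
      (specializes_iff_mem_closure.2 hm)
  refine ⟨fun hb z hz h0 => ?_, fun hcat hc z hz h0 => ?_⟩
  · obtain ⟨ξ, hξ, hξz, hξη, hd⟩ := GeomUnib.DimFormulaPoints.exists_dominating_component f (hmax z h0) (hb z hz h0)
    refine ⟨closure {ξ}, FibDim.closure_mem_components hξ, hξz.mem_closure, ?_⟩
    rw [← hξη]
    exact hd
  · subst hz
    obtain ⟨X', hX', hzX, hd⟩ := hc z rfl h0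
    obtain ⟨ξ, rfl, -⟩ := FibDim.exists_isMax'_component hX'
    have hξz : ξ ⤳ z := specializes_iff_mem_closure.2 hzX
    have hne : (closure {ξ} ∩ f.base ⁻¹' {genericPoint Y} : Set X).Nonempty := by
      by_contra he
      obtain ⟨m, hm, -, -⟩ := FibreDim.exists_fibreDimAt_eq f z
      rw [Set.not_nonempty_iff_eq_empty.1 he, hm] at hd
      haveI : IsEmpty (TopologicalSpace.IrreducibleCloseds ↥(∅ : Set X)) :=
        ⟨fun t => let ⟨a, _⟩ := t.isIrreducible.nonempty; a.2.elim⟩
      rw [topologicalKrullDim, Order.krullDim_eq_bot] at hd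
      exact absurd hd.symm (by simp)
    obtain ⟨w, hw, hwη⟩ := hne
    have hξη : f.base ξ = genericPoint Y := by
      have h1 : f.base ξ ⤳ genericPoint Y := (Set.mem_singleton_iff.1 hwη) ▸ (specializes_iff_mem_closure.2 hw).map f.continuous
      exact (h1.antisymm (genericPoint_specializes _)).eq
    obtain ⟨P, hP⟩ := Scheme.range_fromSpecStalk.ge hξz
    have h := GeomUnib.DimFormulaPoints.eq_of_component f z hcat P ?_ (by
      rw [hP, FibreDim.fdim, hξη, hd])
    · rw [h0, add_zero] at h
      exact h
    · obtain ⟨Q, hQmin, hQ⟩ := GeomUnib.DimFormulaPoints.exists_minimal_full (Y.presheaf.stalk (f.base z))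
      have he : PrimeSpectrum.comap (f.stalkMap z).hom P = Q := by
        refine (Y.fromSpecStalk (f.base z)).isEmbedding.injective ?_
        refine (GeomUnib.DimFormulaPoints.apply_fromSpecStalk f z P).symm.trans ((congrArg f.base hP).trans (hξη.trans ?_))
        exact GeomUnib.DimFormulaPoints.maximal_of_minimal _ hQmin _ (genericPoint_specializes _)
      have e := congrArg PrimeSpectrum.asIdeal he
      exact (congrArg (fun I => ringKrullDim (_ ⧸ I)) e).trans hQ

end Groth.Agent.S3393
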