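import Groth.Statements.S3394
import Groth.Agent.AffFibre.Norm
-- import your own Groth.Agent.* helpers here

set_option autoImplicit false
open CategoryTheory AlgebraicGeometry
universe u
open EGA43

namespace Groth.Agent.S3394

open CategoryTheory.Limits in
/-- Let X and Y be affine schemes, f : X ⟶ Y a morphism of finite type, y a point of f(X) and e the
dimension of the fibre of f over y. Then there is a Y-morphism g from X to the affine space of
dimension e over Y such that the morphism induced by g on the fibres over y is finite (here written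
as the base change of g along the inclusion of the fibre of the affine space over y). -/
theorem result {X Y : Scheme.{u}} [IsAffine X] [IsAffine Y] (f : X ⟶ Y)
    [LocallyOfFiniteType f] (y : Y) (hy : y ∈ Set.range f.base) (e : ℕ)
    (he : topologicalKrullDim ↥(f.fiber y) = e) :
    ∃ g : X ⟶ 𝔸(ULift.{u} (Fin e); Y), g ≫ (𝔸(ULift.{u} (Fin e); Y) ↘ Y) = f ∧
      IsFinite (pullback.snd g ((𝔸(ULift.{u} (Fin e); Y) ↘ Y).fiberι y)) := by
  set W := f.fiber y
  set r := Y.fromSpecResidueField y
  set toK := f.fiberToSpecResidueField y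
  have hsq : IsPullback (f.fiberι y) toK f r := IsPullback.of_hasPullback f r
  haveI : IsAffine W := IsAffine.of_isPullback hsq
  haveI : Nonempty ↥W := by
    obtain ⟨x, hx⟩ := hy
    exact ⟨(f.fiberHomeo y).symm ⟨x, hx⟩⟩
  haveI : Nontrivial Γ(W, ⊤) :=
    PrimeSpectrum.nonempty_iff_nontrivial.mp ⟨W.isoSpec.hom (Classical.arbitrary ↥W)⟩
  let φ : Y.residueField y ⟶ Γ(W, ⊤) := (Scheme.ΓSpecIso (Y.residueField y)).inv ≫ toK.appTop
  have hpo := isPushout_appTop_of_isPullback hsq
  have hgen : Subring.closure (Set.range (f.fiberι y).appTop.hom ∪ Set.range φ.hom) = ⊤ := by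
    rw [← Groth.Agent.AffFibre.subring_eq_top_of_isPushout hpo]
    congr 2
    refine subset_antisymm ?_ ?_
    · rintro _ ⟨c, rfl⟩; exact ⟨_, rfl⟩
    · rintro _ ⟨c, rfl⟩
      exact ⟨(Scheme.ΓSpecIso (Y.residueField y)).hom c, by simp [φ]⟩
  have hw : (f.fiberι y).appTop.hom.comp f.appTop.hom =
      φ.hom.comp (Y.evaluation ⊤ y trivial).hom := by
    rw [← CommRingCat.hom_comp, hpo.w, Groth.Agent.AffFibre.fromSpecResidueField_appTop,
      Category.assoc]
    rfl
  have htoK : W.isoSpec.inv ≫ toK = Spec.map φ := by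
    rw [Iso.inv_comp_eq, Spec.map_comp,
      Scheme.isoSpec_hom_naturality_assoc, Scheme.isoSpec_Spec_hom, ← Spec.map_comp]
    simp
  haveI : LocallyOfFiniteType toK := MorphismProperty.of_isPullback hsq inferInstance
  have hft : φ.hom.FiniteType := by
    have h1 : LocallyOfFiniteType (Spec.map φ) := htoK ▸ inferInstance
    exact (HasRingHomProperty.Spec_iff (P := @LocallyOfFiniteType)).1 h1
  obtain ⟨m, v, hfin, hinj⟩ := Groth.Agent.AffFibre.exists_vector (Y.evaluation ⊤ y trivial).hom f.appTop.hom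
    (f.fiberι y).appTop.hom φ.hom hw (Groth.Agent.AffFibre.residueField_fraction y) hgen hft
  let n := ULift.{u} (Fin m)
  let t : n → Γ(W, ⊤) := fun i => (f.fiberι y).appTop (v i.down)
  have hfin' : (MvPolynomial.eval₂Hom φ.hom t).Finite ∧ Function.Injective (MvPolynomial.eval₂Hom φ.hom t) := by
    let re := (MvPolynomial.renameEquiv (Y.residueField y) (Equiv.ulift.{u, 0} : n ≃ Fin m))
    have h : MvPolynomial.eval₂Hom φ.hom t =
        (MvPolynomial.eval₂Hom φ.hom fun l => (f.fiberι y).appTop.hom (v l)).comp re.toRingEquiv.toRingHom := by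
      apply MvPolynomial.ringHom_ext
      · intro c; simp [re]
      · intro i; simp [re, t]
    rw [h]
    exact ⟨hfin.comp (RingHom.Finite.of_surjective _ re.surjective), hinj.comp re.injective⟩
  let g : X ⟶ 𝔸(n; Y) := AffineSpace.homOfVector f fun i => v i.down
  have hg : g ≫ (𝔸(n; Y) ↘ Y) = f := AffineSpace.homOfVector_over _ _
  have hA := AffineSpace.isPullback_map (n := n) r
  let h : W ⟶ 𝔸(n; Spec (Y.residueField y)) := hA.lift (f.fiberι y ≫ g) toK (by
    rw [Category.assoc, hg]; exact f.fiber_fac y)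
  have hh1 : h ≫ AffineSpace.map n r = f.fiberι y ≫ g := hA.lift_fst _ _ _
  have hh2 : h ≫ (𝔸(n; Spec (Y.residueField y)) ↘ Spec (Y.residueField y)) = toK := hA.lift_snd _ _ _
  have hh : W.isoSpec.inv ≫ h =
      AffineSpace.homOfVector (Spec.map φ) (fun i => (Scheme.ΓSpecIso Γ(W, ⊤)).inv (t i)) := by
    apply AffineSpace.hom_ext
    · rw [AffineSpace.homOfVector_over, Category.assoc, hh2, htoK]
    · intro i
      rw [AffineSpace.homOfVector_appTop_coord, ← AffineSpace.map_appTop_coord r i,
        ← CommRingCat.comp_apply, ← Scheme.Hom.comp_appTop, Category.assoc, hh1]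
      simp only [Scheme.Hom.comp_appTop, CommRingCat.comp_apply, g, AffineSpace.homOfVector_appTop_coord]
      have hinv : W.isoSpec.inv.appTop = (Scheme.ΓSpecIso Γ(W, ⊤)).inv := by
        have h1 : W.isoSpec.inv.appTop ≫ W.toSpecΓ.appTop = 𝟙 _ := by
          rw [← Scheme.Hom.comp_appTop, Scheme.toSpecΓ_isoSpec_inv, Scheme.Hom.id_appTop]
        rw [Scheme.toSpecΓ_appTop] at h1
        exact ((Iso.comp_hom_eq_id (Scheme.ΓSpecIso Γ(W, ⊤))).1 h1)
      rw [hinv]
  haveI : IsFinite h := by
    have := Groth.Agent.AffFibre.isFinite_homOfVector φ t hfin'.1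
    rw [← hh] at this
    rw [show h = W.isoSpec.hom ≫ (W.isoSpec.inv ≫ h) by simp]
    infer_instance
  have hsur : Function.Surjective h.base := by
    have hs : Function.Surjective
        (Spec.map (CommRingCat.ofHom (MvPolynomial.eval₂Hom φ.hom t))).base := by
      letI := (MvPolynomial.eval₂Hom φ.hom t).toAlgebra
      haveI : Module.Finite (MvPolynomial n (Y.residueField y)) Γ(W, ⊤) := hfin'.1
      haveI : FaithfulSMul (MvPolynomial n (Y.residueField y)) Γ(W, ⊤) :=
        (faithfulSMul_iff_algebraMap_injective _ _).2 hfin'.2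
      exact Algebra.IsIntegral.comap_surjective _ _
    have e1 : h = W.isoSpec.hom ≫ Spec.map (CommRingCat.ofHom (MvPolynomial.eval₂Hom φ.hom t)) ≫
        (AffineSpace.SpecIso n (Y.residueField y)).inv := by
      rw [← Iso.inv_comp_eq, hh]
      exact Groth.Agent.AffFibre.homOfVector_eq φ t
    rw [e1]
    exact (AffineSpace.SpecIso n (Y.residueField y)).inv.homeomorph.surjective.comp
      (hs.comp W.isoSpec.hom.homeomorph.surjective)
  obtain rfl : m = e := by
    have h1 := (Groth.Agent.DimMaps.dim_finite h).2 hsur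
    have h2 := Groth.Agent.AffFibre.dim_affineSpace (Y.residueField y) m
    have h3 := (he.symm.trans h1).trans h2
    exact_mod_cast h3.symm
  refine ⟨g, hg, ?_⟩
  have hpb : IsPullback (f.fiberι y) h g (AffineSpace.map n r) := by
    refine IsPullback.of_bot ?_ hh1.symm hA
    rw [hh2, hg]; exact hsq
  let F := Groth.Agent.AffFibre.fibreIso n y
  have hpb' : IsPullback (f.fiberι y) (h ≫ F.hom) g ((𝔸(n; Y) ↘ Y).fiberι y) :=
    hpb.of_iso (Iso.refl _) (Iso.refl _) F (Iso.refl _) (by simp) (by simp) (by simp)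
      (by simp [F, r, Groth.Agent.AffFibre.fibreIso_fiberι])
  show IsFinite (pullback.snd g ((𝔸(n; Y) ↘ Y).fiberι y))
  rw [← hpb'.isoPullback_inv_snd]
  infer_instance

end Groth.Agent.S3394
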