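import Groth.Statements.S3395
import Groth.Agent.AffFibre.Basic
-- import your own Groth.Agent.* helpers here

set_option autoImplicit false
open CategoryTheory AlgebraicGeometry
universe u
open EGA43

namespace Groth.Agent.S3395

open CategoryTheory.Limits in
/-- Let X and Y be affine schemes, f : X ⟶ Y of finite type, y a point of f(X), e the dimension of the
fibre over y, and g a Y-morphism from X to the affine space of dimension e over Y whose base change
to the fibre of the affine space over y is finite. Then that base change is surjective, and g is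
locally quasi-finite on some open U ⊆ X that contains the fibre f⁻¹(y). -/
theorem result {X Y : Scheme.{u}} [IsAffine X] [IsAffine Y]
    (f : X ⟶ Y) [LocallyOfFiniteType f] (y : Y) (hy : y ∈ Set.range f.base) (e : ℕ)
    (he : topologicalKrullDim ↥(f.fiber y) = e) (g : X ⟶ 𝔸(ULift.{u} (Fin e); Y)) (hg : g ≫ (𝔸(ULift.{u} (Fin e); Y) ↘ Y) = f)
    (hfin : IsFinite (pullback.snd g ((𝔸(ULift.{u} (Fin e); Y) ↘ Y).fiberι y))) :
    Function.Surjective (pullback.snd g ((𝔸(ULift.{u} (Fin e); Y) ↘ Y).fiberι y)).base ∧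
      ∃ U : X.Opens, f.base ⁻¹' {y} ⊆ (U : Set X) ∧ LocallyQuasiFinite (U.ι ≫ g) := by
  haveI : LocallyOfFiniteType g := by
    haveI : LocallyOfFiniteType (g ≫ (𝔸(ULift.{u} (Fin e); Y) ↘ Y)) := hg ▸ inferInstance
    exact locallyOfFiniteType_of_comp g (𝔸(ULift.{u} (Fin e); Y) ↘ Y)
  refine ⟨?_, Groth.Agent.AffFibre.exists_nhd y g hfin hg⟩
  haveI := hfin
  haveI := Groth.Agent.AffFibre.irreducibleSpace_affineSpace (ULift.{u} (Fin e)) (Y.residueField y)
  let F := Groth.Agent.AffFibre.fibreIso (ULift.{u} (Fin e)) y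
  haveI : IrreducibleSpace ↥((𝔸(ULift.{u} (Fin e); Y) ↘ Y).fiber y) :=
    F.hom.homeomorph.surjective.irreducibleSpace F.hom.continuous
  refine Groth.Agent.AffFibre.surjective_of_finite _ e ?_ ?_
  · rw [IsHomeomorph.topologicalKrullDim_eq _
      (Groth.Agent.AffFibre.sourceIso y g hg).hom.homeomorph.isHomeomorph]
    exact he
  · rw [← IsHomeomorph.topologicalKrullDim_eq _ F.hom.homeomorph.isHomeomorph]
    exact Groth.Agent.AffFibre.dim_affineSpace (Y.residueField y) e

end Groth.Agent.S3395
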