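import Groth.Statements.S3405
import Groth.Agent.HilbSamuel.Bounds

set_option autoImplicit false
universe u
open EGA41

namespace Groth.Agent.S3405

/-- The degree of the Hilbert–Samuel polynomial equals the dimension: let A be a Noetherian ring with
finitely many maximal ideals, r its Jacobson radical and M a nonzero finitely generated A-module.
Then there is a polynomial P with rational coefficients such that the length of M/rⁿM is finite and
equals P(n) for all large n, and the degree of P is the dimension of M (the Krull dimension of its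
support). -/
theorem result (A : Type u) [CommRing A] [IsNoetherianRing A]
    [Finite (MaximalSpectrum A)] (M : Type u) [AddCommGroup M] [Module A M] [Module.Finite A M] [Nontrivial M] :
    ∃ P : Polynomial ℚ,
      (∃ N : ℕ, ∀ n : ℕ, N ≤ n →
        ∃ ℓ : ℕ, Module.length A (M ⧸ (Ring.jacobson A ^ n • (⊤ : Submodule A M))) = ℓ ∧ (ℓ : ℚ) = P.eval (n : ℚ)) ∧
      (P.natDegree : WithBot ℕ∞) = Module.supportDim A M := by
  obtain ⟨P, N, hP⟩ := HilbSamuel.evPoly_cl_pow_smul (A := A) (M := M) (Ring.jacobson A)
    HilbSamuel.isFiniteLength_quotient_jacobson_pow_smul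
  obtain ⟨d, hd⟩ := HilbSamuel.exists_supportDim_eq_nat (A := A) (M := M)
  obtain ⟨C, hC⟩ := HilbSamuel.exists_chi_le d M hd.le
  obtain ⟨K, c, hK⟩ := HilbSamuel.exists_pow_le_chi (A := A) (M := M) d hd.ge
  refine ⟨P, ⟨N, fun n hn => ⟨HilbSamuel.chi A M n, (HilbSamuel.coe_chi n).symm, hP n hn⟩⟩, ?_⟩
  rw [HilbSamuel.natDegree_eq_of_bounds P d K C c (HilbSamuel.chi A M)
    (Filter.eventually_atTop.2 ⟨N, hP⟩) hK hC, hd]

end Groth.Agent.S3405
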