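import Groth.Statements.S3406
import Groth.Agent.HilbSamuel.Bounds

set_option autoImplicit false
universe u
open EGA41

namespace Groth.Agent.S3406

open Pointwise

variable {A : Type u} [CommRing A] [IsNoetherianRing A] [Finite (MaximalSpectrum A)]

theorem supportDim_le_zero (M : Type u) [AddCommGroup M] [Module A M] [Module.Finite A M]
    (h : IsFiniteLength A M) : Module.supportDim A M ≤ 0 := by
  haveI := (isFiniteLength_iff_isNoetherian_isArtinian.1 h).2
  obtain ⟨k, hk⟩ := IsArtinian.monotone_stabilizes
    (⟨fun n => OrderDual.toDual (Ring.jacobson A ^ n • (⊤ : Submodule A M)),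
      fun a b hab => Submodule.smul_mono_left (Ideal.pow_le_pow_right hab)⟩ :
      ℕ →o (Submodule A M)ᵒᵈ)
  have h0 : Ring.jacobson A ^ k • (⊤ : Submodule A M) = ⊥ := by
    refine Submodule.eq_bot_of_le_smul_of_le_jacobson_bot (Ring.jacobson A) _
      (IsNoetherian.noetherian _) ?_ (by rw [Ideal.jacobson_bot])
    rw [← mul_smul, ← pow_succ']
    exact (OrderDual.toDual.injective (hk (k + 1) (by omega))).le
  have hJ : Ring.jacobson A ^ k ≤ Module.annihilator A M := fun a ha =>
    Module.mem_annihilator.2 fun y =>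
      (Submodule.mem_bot A).1 (h0 ▸ Submodule.smul_mem_smul ha Submodule.mem_top)
  haveI := HilbSamuel.isArtinianRing_quotient_jacobson_pow (A := A) k
  rw [Module.supportDim_eq_ringKrullDim_quotient_annihilator]
  exact (ringKrullDim_le_of_surjective (Ideal.Quotient.factor hJ)
    (Ideal.Quotient.factor_surjective hJ)).trans
    (Ring.krullDimLE_iff.1 (inferInstance : Ring.KrullDimLE 0 (A ⧸ Ring.jacobson A ^ k)))

theorem exists_elements : ∀ (d : ℕ) (M : Type u) [AddCommGroup M] [Module A M] [Module.Finite A M],
    Module.supportDim A M ≤ (d : WithBot ℕ∞) →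
    ∃ x : Fin d → A, (∀ i, x i ∈ Ring.jacobson A) ∧
      IsFiniteLength A (M ⧸ Ideal.span (Set.range x) • (⊤ : Submodule A M)) := by
  intro d
  induction d with
  | zero =>
    intro M _ _ _ h
    refine ⟨Fin.elim0, fun i => i.elim0, ?_⟩
    exact (HilbSamuel.supportDim_le_zero_of_isFiniteLength (A := A) (M := M)
      (by simpa using h)).of_surjective (Submodule.mkQ_surjective _)
  | succ d ih =>
    intro M _ _ _ h
    obtain ⟨t, ht, hdim⟩ := HilbSamuel.exists_mem_jacobson_supportDim_le d h
    obtain ⟨x, hx, hfl⟩ := ih (QuotSMulTop t M) hdim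
    refine ⟨Fin.snoc x t, Fin.lastCases (by simpa using ht) (fun i => by simpa using hx i), ?_⟩
    set Y := Ideal.span (Set.range (Fin.snoc x t : Fin (d + 1) → A)) • (⊤ : Submodule A M)
    have ht' : t • (⊤ : Submodule A M) ≤ LinearMap.ker Y.mkQ := by
      rw [Submodule.ker_mkQ, ← Submodule.ideal_span_singleton_smul]
      exact Submodule.smul_mono_left (Ideal.span_mono
        (Set.singleton_subset_iff.2 ⟨Fin.last d, by simp⟩))
    refine hfl.of_surjective (f := (Ideal.span (Set.range x) • ⊤ : Submodule A _).liftQ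
      ((t • (⊤ : Submodule A M)).liftQ Y.mkQ ht') ?_) ?_
    · refine Submodule.smul_le.2 fun a ha m _ => ?_
      obtain ⟨m, rfl⟩ := Submodule.Quotient.mk_surjective _ m
      rw [← Submodule.Quotient.mk_smul, LinearMap.mem_ker]
      refine (Submodule.Quotient.mk_eq_zero Y).2 (Submodule.smul_mem_smul ?_ Submodule.mem_top)
      refine Ideal.span_mono ?_ ha
      rintro _ ⟨i, rfl⟩
      exact ⟨i.castSucc, by simp⟩
    · intro y
      obtain ⟨y, rfl⟩ := Submodule.Quotient.mk_surjective _ y
      exact ⟨Submodule.Quotient.mk (Submodule.Quotient.mk y), rfl⟩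

/-- The equality s(M) = dim(M): let A be a Noetherian ring with finitely many maximal ideals, r its
Jacobson radical and M a nonzero finitely generated A-module. Then the dimension of M (the Krull
dimension of its support) is the least n for which there are elements x_1, …, x_n of r such that
M/(x_1 M + ⋯ + x_n M) has finite length. -/
theorem result (A : Type u) [CommRing A] [IsNoetherianRing A]
    [Finite (MaximalSpectrum A)] (M : Type u) [AddCommGroup M] [Module A M] [Module.Finite A M] [Nontrivial M] :
    Module.supportDim A M =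
      sInf {k : WithBot ℕ∞ | ∃ (n : ℕ) (x : Fin n → A), k = n ∧ (∀ i, x i ∈ Ring.jacobson A) ∧
        IsFiniteLength A (M ⧸ (Ideal.span (Set.range x) • (⊤ : Submodule A M)))} := by
  obtain ⟨d, hd⟩ := HilbSamuel.exists_supportDim_eq_nat (A := A) (M := M)
  refine le_antisymm (le_sInf ?_) (sInf_le ?_)
  · rintro k ⟨n, x, rfl, hx, hfl⟩
    exact HilbSamuel.exists_supportDim_le_nat_of_mem_jacobson n x M hx (supportDim_le_zero _ hfl)
  · obtain ⟨x, hx, hfl⟩ := exists_elements d M hd.le
    exact ⟨d, x, hd, hx, hfl⟩

end Groth.Agent.S3406
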