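import Groth.Statements.S3408
import Groth.Agent.GeomUnib.GeomRedScheme
import Groth.Agent.S2561
import Groth.Agent.FlatDescent.Scheme
-- import your own Groth.Agent.* helpers here

set_option autoImplicit false
open CategoryTheory AlgebraicGeometry
universe u
open EGA43

namespace Groth.Agent.S3408

/-- Let Y be locally Noetherian, f : X ⟶ Y locally of finite type, x a point of X and y = f x. Suppose f
is universally open at the generic point of every irreducible component of X_y passing through x,
X_y is geometrically reduced at x, and the local ring O_{Y,y} is reduced. Then there is an open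
neighbourhood U of x such that the restriction of f to U is flat and U is a reduced scheme. -/
theorem result {X Y : Scheme.{u}} [IsLocallyNoetherian Y] (f : X ⟶ Y)
    [LocallyOfFiniteType f] (x : X)
    (hopen : ∀ z : ↥(f.fiber (f.base x)), f.asFiber x ∈ closure {z} →
      (∀ z' : ↥(f.fiber (f.base x)), z ∈ closure {z'} → z' = z) →
      EGA43.IsUnivOpenAt f ((f.fiberι (f.base x)).base z))
    (hred : FBase.IsGeomReducedAt (f.fiberToSpecResidueField (f.base x)) (f.asFiber x))
    (hy : _root_.IsReduced (Y.presheaf.stalk (f.base x))) :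
    ∃ U : X.Opens, x ∈ U ∧ Flat (U.ι ≫ f) ∧ IsReduced (U : Scheme.{u}) := by
  have hflat : (f.stalkMap x).hom.Flat := S2561.result f x hopen hred hy
  haveI : LocallyOfFinitePresentation f := inferInstance
  haveI : IsLocallyNoetherian X := LocallyOfFiniteType.isLocallyNoetherian f
  have hopen' : ∀ z : X, f.base z = f.base x → z ⤳ x →
      (∀ z' : X, f.base z' = f.base x → z' ⤳ z → z' = z) → EGA43.IsUnivOpenAt f z := by
    intro z hz hzx hmax
    obtain ⟨ζ, rfl⟩ : z ∈ Set.range (f.fiberι (f.base x)) := by rw [f.range_fiberι]; exact hz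
    refine hopen ζ ?_ fun z' hz' => (f.fiberι (f.base x)).isEmbedding.injective (hmax _ ?_ ?_)
    · refine ((f.fiberι (f.base x)).isEmbedding.toIsInducing.specializes_iff.1 ?_).mem_closure
      rwa [f.fiberι_asFiber]
    · have : (f.fiberι (f.base x)).base z' ∈ Set.range (f.fiberι (f.base x)) := ⟨z', rfl⟩
      rwa [f.range_fiberι] at this
    · exact (specializes_iff_mem_closure.2 hz').map (f.fiberι (f.base x)).continuous
  let U : X.Opens := ⟨{z : X | (f.stalkMap z).hom.Flat} ∩ {z : X | _root_.IsReduced (X.presheaf.stalk z)},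
    (FlatDescent.isOpen_flatLocus_hom f).inter GeomUnib.isOpen_isReduced_stalk⟩
  refine ⟨U, ⟨hflat, GeomUnib.isReduced_stalk_of_isGeomReducedAt f x hopen' hred hy hflat⟩, ?_, ?_⟩
  · rw [Flat.iff_flat_stalkMap]
    intro z
    rw [Scheme.Hom.stalkMap_comp]
    refine RingHom.Flat.comp z.2.1 ?_
    exact RingHom.Flat.of_bijective ((ConcreteCategory.isIso_iff_bijective (U.ι.stalkMap z)).1 inferInstance)
  · haveI : ∀ z : (U : Scheme.{u}), _root_.IsReduced ((U : Scheme.{u}).presheaf.stalk z) := fun z => by
      haveI : _root_.IsReduced (X.presheaf.stalk (U.ι z)) := z.2.2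
      exact isReduced_of_injective (asIso (U.ι.stalkMap z)).commRingCatIsoToRingEquiv.symm
        (asIso (U.ι.stalkMap z)).commRingCatIsoToRingEquiv.symm.injective
    exact isReduced_of_isReduced_stalk _

end Groth.Agent.S3408
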