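import Groth.Statements.S3410
import Groth.Agent.GeomUnib.FibreDomain
import Groth.Agent.GeomUnib.LocalEquidim
import Groth.Agent.GeomUnib.Scheme
import Groth.Agent.S2561
-- import your own Groth.Agent.* helpers here

set_option autoImplicit false
set_option backward.isDefEq.respectTransparency false
set_option maxHeartbeats 2000000
open CategoryTheory AlgebraicGeometry
universe u
open EGA43

namespace Groth.Agent.S3410

/-- Let Y be locally Noetherian, f : X ⟶ Y locally of finite type, x a point of X and y = f x. Suppose f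
is universally open at the generic point of every irreducible component of X_y through x, X_y is
geometrically pointwise integral at x, and O_{Y,y} is geometrically unibranch. Then x lies on
exactly one irreducible component of X. If moreover O_{Y,y} is a domain, then O_{X,x} is a domain
and O_{Y,y} ⟶ O_{X,x} is flat. -/
theorem result {X Y : Scheme.{u}} [IsLocallyNoetherian Y]
    (f : X ⟶ Y) [LocallyOfFiniteType f] (x : X)
    (hopen : ∀ z : ↥(f.fiber (f.base x)), f.asFiber x ∈ closure {z} →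
      (∀ z' : ↥(f.fiber (f.base x)), z ∈ closure {z'} → z' = z) →
      EGA43.IsUnivOpenAt f ((f.fiberι (f.base x)).base z))
    (hint : FBase.IsGeomPtIntegralAt (f.fiberToSpecResidueField (f.base x)) (f.asFiber x))
    (hY : CAlg2.IsGeomUnibranch (Y.presheaf.stalk (f.base x))) :
    (∃! Z : Set X, Z ∈ irreducibleComponents (X : Type u) ∧ x ∈ Z) ∧
      (IsDomain (Y.presheaf.stalk (f.base x)) → IsDomain (X.presheaf.stalk x) ∧ (f.stalkMap x).hom.Flat) := by
  classical
  let y := f.base x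
  have hred : FBase.IsGeomReducedAt (f.fiberToSpecResidueField (f.base x)) (f.asFiber x) := fun K _ _ w hw => by
    haveI := hint K w hw
    infer_instance
  -- a chart with irreducible base
  obtain ⟨η₀, hη₀⟩ := QuasiSober.sober (isIrreducible_irreducibleComponent (x := y)) isClosed_irreducibleComponent
  obtain ⟨U₀, hyU₀, hU₀⟩ := GeomUnib.exists_nhds_of_component hY (irreducibleComponent_mem_irreducibleComponents y)
    mem_irreducibleComponent hη₀.def
  obtain ⟨U, hU, hxU, hUU₀⟩ := exists_isAffineOpen_mem_and_subset (U := U₀) (x := f.base x) hyU₀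
  haveI : IsNoetherianRing Γ(Y, U) := IsLocallyNoetherian.component_noetherian ⟨U, hU⟩
  obtain ⟨V, hV, hxV, hVU⟩ := exists_isAffineOpen_mem_and_subset (U := f ⁻¹ᵁ U) (x := x) hxU
  letI := (f.appLE U V hVU).hom.toAlgebra
  haveI : Algebra.FiniteType Γ(Y, U) Γ(X, V) := f.finiteType_appLE hU hV hVU
  obtain ⟨η', hη'⟩ : η₀ ∈ Set.range hU.fromSpec := by
    rw [hU.range_fromSpec]
    exact (specializes_iff_mem_closure.2 (hU₀ (hUU₀ hxU))).mem_open U.isOpen hxU
  let η := η'.asIdeal
  have hmin : ∀ z : PrimeSpectrum Γ(Y, U), η ≤ z.asIdeal := fun z => by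
    refine (PrimeSpectrum.le_iff_specializes η' z).2 (hU.fromSpec.isOpenEmbedding.isInducing.specializes_iff.1 ?_)
    rw [hη']
    exact specializes_iff_mem_closure.2 (hU₀ (hUU₀ (hU.range_fromSpec.le ⟨z, rfl⟩)))
  have hnil : ∀ a ∈ η, IsNilpotent a := fun a ha => nilpotent_iff_mem_prime.2 fun J hJ => hmin ⟨J, hJ⟩ ha
  let p := (hU.primeIdealOf ⟨f.base x, hVU hxV⟩).asIdeal
  let qx := (hV.primeIdealOf ⟨x, hxV⟩).asIdeal
  have hqp : p = qx.comap (algebraMap Γ(Y, U) Γ(X, V)) :=
    congr($(IsAffineOpen.comap_primeIdealOf_appLE U hU V hV hVU hxV).1).symm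
  let A₁ := Γ(Y, U) ⧸ η
  let π : Γ(X, V) →+* (TensorProduct Γ(Y, U) A₁ Γ(X, V)) := (Algebra.TensorProduct.includeRight (R := Γ(Y, U)) (A := A₁)).toRingHom
  have hπs : Function.Surjective π := fun t => by
    induction t using TensorProduct.induction_on with
    | zero => exact ⟨0, map_zero π⟩
    | add a b ha hb =>
      obtain ⟨a, rfl⟩ := ha
      obtain ⟨b, rfl⟩ := hb
      exact ⟨a + b, map_add π _ _⟩
    | tmul a c =>
      obtain ⟨a, rfl⟩ := Ideal.Quotient.mk_surjective a
      refine ⟨a • c, ?_⟩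
      show (1 : A₁) ⊗ₜ[Γ(Y, U)] (a • c) = _
      rw [← TensorProduct.smul_tmul, Algebra.smul_def, mul_one]
      rfl
  have hπk : RingHom.ker π = η.map (algebraMap Γ(Y, U) Γ(X, V)) :=
    le_antisymm (fun c hc => by
      have h := congrArg (Algebra.TensorProduct.lift
        (Ideal.Quotient.liftₐ η (IsScalarTower.toAlgHom Γ(Y, U) Γ(Y, U) (Γ(X, V) ⧸ η.map (algebraMap Γ(Y, U) Γ(X, V))))
          fun a ha => Ideal.Quotient.eq_zero_iff_mem.2 (Ideal.mem_map_of_mem _ ha))
        (IsScalarTower.toAlgHom Γ(Y, U) Γ(X, V) (Γ(X, V) ⧸ η.map (algebraMap Γ(Y, U) Γ(X, V)))) fun _ _ => .all _ _)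
        (show (1 : A₁) ⊗ₜ[Γ(Y, U)] c = 0 from hc)
      rw [Algebra.TensorProduct.lift_tmul, map_one, one_mul, map_zero] at h
      exact Ideal.Quotient.eq_zero_iff_mem.1 h)
    (Ideal.map_le_iff_le_comap.2 fun a ha => by
      show (1 : A₁) ⊗ₜ[Γ(Y, U)] algebraMap Γ(Y, U) Γ(X, V) a = 0
      rw [Algebra.algebraMap_eq_smul_one a, ← TensorProduct.smul_tmul, Algebra.smul_def, mul_one,
        show algebraMap Γ(Y, U) A₁ a = 0 from Ideal.Quotient.eq_zero_iff_mem.2 ha, TensorProduct.zero_tmul])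
  have hkle : ∀ (M : Ideal Γ(X, V)) [M.IsPrime], RingHom.ker π ≤ M := fun M _ => by
    rw [hπk, Ideal.map_le_iff_le_comap]
    intro a ha
    obtain ⟨n, hn⟩ := (hnil a ha).map (algebraMap Γ(Y, U) Γ(X, V))
    exact Ideal.IsPrime.mem_of_pow_mem (I := M) inferInstance n (hn ▸ M.zero_mem)
  let qx₁ : Ideal (TensorProduct Γ(Y, U) A₁ Γ(X, V)) := qx.map π
  haveI : qx₁.IsPrime := Ideal.map_isPrime_of_surjective hπs (hkle qx)
  have hqx₁ : qx₁.comap π = qx := by
    rw [Ideal.comap_map_of_surjective' _ hπs, sup_eq_left]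
    exact hkle qx
  let p₁ : Ideal A₁ := qx₁.comap (algebraMap A₁ (TensorProduct Γ(Y, U) A₁ Γ(X, V)))
  have hp₁ : p₁.comap (Ideal.Quotient.mk η) = p := by
    rw [hqp, ← hqx₁, Ideal.comap_comap, Ideal.comap_comap]
    congr 1
    exact (Algebra.TensorProduct.includeRight (R := Γ(Y, U)) (A := A₁) (B := Γ(X, V))).comp_algebraMap.symm
  haveI : qx₁.LiesOver p₁ := ⟨rfl⟩
  -- transport of the hypotheses
  have hpt : ∀ (K : Type u) [Field K] [Algebra A₁ K] [Algebra Γ(Y, U) K] [IsScalarTower Γ(Y, U) A₁ K]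
      (_ : RingHom.ker (algebraMap A₁ K) = p₁) (P : Ideal (TensorProduct A₁ K (TensorProduct Γ(Y, U) A₁ Γ(X, V)))) [P.IsPrime],
      P.comap (UnivOpenAt.inr A₁ (TensorProduct Γ(Y, U) A₁ Γ(X, V)) K) = qx₁ → IsDomain (Localization.AtPrime (R := TensorProduct A₁ K (TensorProduct Γ(Y, U) A₁ Γ(X, V))) P) := by
    intro K _ _ _ _ hK P _ hP
    let e : TensorProduct A₁ K (TensorProduct Γ(Y, U) A₁ Γ(X, V)) ≃ₐ[K] TensorProduct Γ(Y, U) K Γ(X, V) :=
      Algebra.TensorProduct.cancelBaseChange Γ(Y, U) A₁ K K Γ(X, V)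
    let P' := P.comap e.symm.toRingEquiv.toRingHom
    obtain ⟨alg, w, hw, ⟨σ⟩⟩ := GeomUnib.exists_bc_point f hU hV hVU hxV K (by
      rw [IsScalarTower.algebraMap_eq Γ(Y, U) A₁ K, ← RingHom.comap_ker, hK]
      exact hp₁) P' (by
      refine Eq.trans ?_ hqx₁
      rw [← hP, Ideal.comap_comap, Ideal.comap_comap]
      congr 1)
    haveI := @hint K _ alg w hw
    haveI : IsDomain (Localization.AtPrime P') := σ.symm.toMulEquiv.isDomain ((@FBase.bc _ _ _ (f.fiberToSpecResidueField (f.base x)) K _ alg).presheaf.stalk w)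
    exact (Localization.localRingEquiv (P := TensorProduct A₁ K (TensorProduct Γ(Y, U) A₁ Γ(X, V))) P' P e.symm.toRingEquiv rfl).symm.toMulEquiv.isDomain (Localization.AtPrime P')
  have htor : ∀ (q₁ : Ideal (TensorProduct Γ(Y, U) A₁ Γ(X, V))) [q₁.IsPrime], q₁ ≤ qx₁ → q₁ ∈ (p₁.map (algebraMap A₁ (TensorProduct Γ(Y, U) A₁ Γ(X, V)))).minimalPrimes →
      ∀ (W : Type u) [CommRing W] [IsDomain W] [Algebra A₁ W], UnivOpenAt.TorAt (A := A₁) q₁ W := by
    intro q₁ _ hq₁ hq₁min W _ _ _
    let q := q₁.comap π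
    have hq : q ≤ qx := (Ideal.comap_mono hq₁).trans hqx₁.le
    have hpq₁ : p₁ ≤ q₁.comap (algebraMap A₁ (TensorProduct Γ(Y, U) A₁ Γ(X, V))) := Ideal.map_le_iff_le_comap.1 hq₁min.1.2
    have hcomm : π.comp (algebraMap Γ(Y, U) Γ(X, V)) = (algebraMap A₁ (TensorProduct Γ(Y, U) A₁ Γ(X, V))).comp (Ideal.Quotient.mk η) :=
      (Algebra.TensorProduct.includeRight (R := Γ(Y, U)) (A := A₁) (B := Γ(X, V))).comp_algebraMap
    have hpq : p ≤ q.comap (algebraMap Γ(Y, U) Γ(X, V)) := by
      rw [Ideal.comap_comap, hcomm, ← Ideal.comap_comap, ← hp₁]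
      exact Ideal.comap_mono hpq₁
    let ζ : X := hV.fromSpec ⟨q, inferInstance⟩
    have hζV : ζ ∈ V := hV.range_fromSpec.le ⟨_, rfl⟩
    have hζq : (hV.primeIdealOf ⟨ζ, hζV⟩).asIdeal = q :=
      ((UnivOpenAt.fromSpec_eq_iff hV hζV ⟨q, inferInstance⟩).1 rfl).symm
    have hqA : q.comap (algebraMap Γ(Y, U) Γ(X, V)) = p :=
      le_antisymm ((Ideal.comap_mono hq).trans hqp.ge) hpq
    have e₂ := IsAffineOpen.SpecMap_appLE_fromSpec f hU hV hVU
    have hζy : f.base ζ = f.base x := ((congr($e₂ ⟨q, inferInstance⟩) : _).symm.trans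
      (congrArg hU.fromSpec (PrimeSpectrum.ext hqA))).trans (hU.fromSpec_primeIdealOf ⟨f.base x, hVU hxV⟩)
    obtain ⟨z, hz⟩ : ζ ∈ Set.range (f.fiberι (f.base x)) := by
      rw [Scheme.Hom.range_fiberι]; exact hζy
    have hio := (f.fiberι (f.base x)).isEmbedding.isInducing
    have h := hopen z ?_ fun z' hz' => ?_
    · rw [show (f.fiberι (f.base x)).base z = ζ from hz] at h
      letI : Algebra Γ(Y, U) W := ((algebraMap A₁ W).comp (Ideal.Quotient.mk η)).toAlgebra
      haveI : IsScalarTower Γ(Y, U) A₁ W := .of_algebraMap_eq fun _ => rfl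
      have h' := UnivOpenAt.torAt_of_isUnivOpenAt f hU hV hVU hζV h W
      rw [hζq] at h'
      intro s u hs hsu P hP hPp
      let e : TensorProduct A₁ W (TensorProduct Γ(Y, U) A₁ Γ(X, V)) ≃ₐ[W] TensorProduct Γ(Y, U) W Γ(X, V) :=
        Algebra.TensorProduct.cancelBaseChange Γ(Y, U) A₁ W W Γ(X, V)
      have h1 := h' s (e u) hs (by
        have := congrArg e hsu
        rw [map_mul, map_zero] at this
        rw [← this]
        congr 1
        show (s ⊗ₜ[Γ(Y, U)] (1 : Γ(X, V))) = e (s ⊗ₜ[A₁] ((1 : A₁) ⊗ₜ[Γ(Y, U)] (1 : Γ(X, V))))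
        simp [e]) (P.comap e.symm.toRingEquiv.toRingHom) inferInstance (by
        show (P.comap e.symm.toRingEquiv.toRingHom).comap (UnivOpenAt.inr Γ(Y, U) Γ(X, V) W) = q₁.comap π
        rw [← hPp, Ideal.comap_comap, Ideal.comap_comap]
        congr 1)
      have h2 : e.symm (e u) ∈ P := h1
      rwa [e.symm_apply_apply] at h2
    · rw [← specializes_iff_mem_closure, ← hio.specializes_iff, Scheme.Hom.fiberι_asFiber]
      have h := ((PrimeSpectrum.le_iff_specializes (⟨q, inferInstance⟩ : PrimeSpectrum Γ(X, V))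
        (hV.primeIdealOf ⟨x, hxV⟩)).1 hq).map hV.fromSpec.continuous
      rw [hV.fromSpec_primeIdealOf ⟨x, hxV⟩] at h
      exact hz.symm ▸ h
    · rw [← specializes_iff_mem_closure, ← hio.specializes_iff] at hz'
      refine (f.fiberι (f.base x)).isEmbedding.injective ?_
      rw [hz]
      change (f.fiberι (f.base x)).base z' ⤳ (f.fiberι (f.base x)).base z at hz'
      rw [show (f.fiberι (f.base x)).base z = ζ from hz] at hz'
      obtain ⟨⟨M, hM⟩, hMeq⟩ : (f.fiberι (f.base x)).base z' ∈ Set.range hV.fromSpec := by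
        rw [hV.range_fromSpec]; exact hz'.mem_open V.isOpen hζV
      rw [← hMeq] at hz'
      have hMq : M ≤ q := (PrimeSpectrum.le_iff_specializes (⟨M, hM⟩ : PrimeSpectrum Γ(X, V)) ⟨q, inferInstance⟩).2
        (hV.fromSpec.isOpenEmbedding.isInducing.specializes_iff.1 hz')
      have hMy : f.base (hV.fromSpec ⟨M, hM⟩) = f.base x := by
        rw [hMeq]
        exact (f.range_fiberι (f.base x)).le ⟨z', rfl⟩
      have h3 : hU.fromSpec (PrimeSpectrum.comap (f.appLE U V hVU).hom ⟨M, hM⟩) =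
          hU.fromSpec (hU.primeIdealOf ⟨f.base x, hVU hxV⟩) :=
        ((congr($e₂ ⟨M, hM⟩) : _).trans hMy).trans (hU.fromSpec_primeIdealOf ⟨f.base x, hVU hxV⟩).symm
      have hMA : M.comap (algebraMap Γ(Y, U) Γ(X, V)) = p :=
        congrArg PrimeSpectrum.asIdeal (hU.fromSpec.isOpenEmbedding.injective h3)
      let M₁ := M.map π
      haveI : M₁.IsPrime := Ideal.map_isPrime_of_surjective hπs (hkle M)
      have hM₁c : M₁.comap π = M := by
        rw [Ideal.comap_map_of_surjective' _ hπs, sup_eq_left]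
        exact hkle M
      have hle : q₁ ≤ M₁ := by
        refine hq₁min.2 ⟨inferInstance, Ideal.map_le_iff_le_comap.2 fun b hb => ?_⟩ (Ideal.map_le_iff_le_comap.2 hMq)
        obtain ⟨a, rfl⟩ := Ideal.Quotient.mk_surjective b
        show ((algebraMap A₁ (TensorProduct Γ(Y, U) A₁ Γ(X, V))).comp (Ideal.Quotient.mk η)) a ∈ M₁
        rw [← hcomm]
        exact Ideal.mem_map_of_mem π (hMA.ge (hp₁.le hb))
      have hMq' : M = q := le_antisymm hMq ((Ideal.comap_mono hle).trans hM₁c.le)
      subst hMq'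
      exact hMeq.symm
  obtain ⟨hic, hfs⟩ := GeomUnib.exists_normalisation A₁
  haveI := hic
  haveI : Algebra.IsIntegral A₁ (integralClosure A₁ (FractionRing A₁)) := inferInstance
  haveI hD : IsDomain (Localization.AtPrime qx₁) := by
    refine GeomUnib.isDomain_of_geomIntegral qx₁ p₁ (fun P _ hP => ?_) (fun P _ hP => ?_) htor
      (A' := integralClosure A₁ (FractionRing A₁)) ((faithfulSMul_iff_algebraMap_injective _ _).1 hfs) ?_
    · haveI := hpt (AlgebraicClosure p₁.ResidueField) (by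
        ext a
        rw [RingHom.mem_ker, IsScalarTower.algebraMap_apply A₁ p₁.ResidueField (AlgebraicClosure p₁.ResidueField),
          map_eq_zero]
        exact Ideal.algebraMap_residueField_eq_zero) P hP
      infer_instance
    · exact hpt p₁.ResidueField (Ideal.ker_algebraMap_residueField _) P hP
    · exact GeomUnib.radicialAt_chart hU (hVU hxV) hY η hmin _ p₁ hp₁
  -- back to `X`
  let g : Localization.AtPrime qx →+* Localization.AtPrime qx₁ := Localization.localRingHom qx qx₁ π hqx₁.symm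
  let N : Ideal Γ(X, V) := RingHom.ker (g.comp (algebraMap Γ(X, V) (Localization.AtPrime qx)))
  haveI : N.IsPrime := RingHom.ker_isPrime _
  have hgk : ∀ c : Γ(X, V), g (algebraMap _ _ c) = 0 → ∃ t, t ∉ qx ∧ t * c ∈ RingHom.ker π := fun c hc => by
    rw [Localization.localRingHom_to_map] at hc
    obtain ⟨⟨t, ht⟩, htc⟩ := (IsLocalization.map_eq_zero_iff qx₁.primeCompl _ _).1 hc
    obtain ⟨t, rfl⟩ := hπs t
    exact ⟨t, fun h => ht (Ideal.mem_map_of_mem π h), by rw [RingHom.mem_ker, map_mul]; exact htc⟩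
  constructor
  · have hNle : ∀ (M : Ideal Γ(X, V)) [M.IsPrime], M ≤ qx → N ≤ M := fun M _ hM c hc => by
      obtain ⟨t, ht, htc⟩ := hgk c hc
      exact ((inferInstance : M.IsPrime).mem_or_mem (hkle M htc)).resolve_left fun h => ht (hM h)
    have hNx : N ≤ qx := hNle qx le_rfl
    let z₀ : X := hV.fromSpec ⟨N, inferInstance⟩
    have hz₀ : ∀ Z, Z ∈ irreducibleComponents (X : Type u) → x ∈ Z → Z = closure {z₀} := by
      intro Z hZ hxZ
      obtain ⟨z, hz⟩ := QuasiSober.sober hZ.1 (isClosed_of_mem_irreducibleComponents _ hZ)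
      have hzx : z ⤳ x := hz.specializes hxZ
      obtain ⟨⟨M, hM⟩, rfl⟩ : z ∈ Set.range hV.fromSpec := by
        rw [hV.range_fromSpec]; exact hzx.mem_open V.isOpen hxV
      have hMq : M ≤ qx := (PrimeSpectrum.le_iff_specializes (⟨M, hM⟩ : PrimeSpectrum Γ(X, V)) _).2
        (hV.fromSpec.isOpenEmbedding.isInducing.specializes_iff.1 (by
          rw [hV.fromSpec_primeIdealOf ⟨x, hxV⟩]; exact hzx))
      have hsp : z₀ ⤳ hV.fromSpec ⟨M, hM⟩ :=
        ((PrimeSpectrum.le_iff_specializes (⟨N, inferInstance⟩ : PrimeSpectrum Γ(X, V)) ⟨M, hM⟩).1 (hNle M hMq)).map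
          hV.fromSpec.continuous
      rw [← hz.def]
      refine le_antisymm (closure_minimal (Set.singleton_subset_iff.2 hsp.mem_closure) isClosed_closure) ?_
      have := hZ.2 (isIrreducible_singleton.closure : IsIrreducible (closure ({z₀} : Set X))) (by
        rw [← hz.def]
        exact closure_minimal (Set.singleton_subset_iff.2 hsp.mem_closure) isClosed_closure)
      exact this.trans hz.def.ge
    refine ⟨irreducibleComponent x, ⟨irreducibleComponent_mem_irreducibleComponents x, mem_irreducibleComponent⟩,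
      fun Z hZ => ?_⟩
    rw [hz₀ Z hZ.1 hZ.2, hz₀ _ (irreducibleComponent_mem_irreducibleComponents x) mem_irreducibleComponent]
  · intro hdom
    refine ⟨?_, S2561.result f x hopen hred inferInstance⟩
    letI := X.presheaf.algebra_section_stalk ⟨x, hxV⟩
    haveI := hV.isLocalization_stalk ⟨x, hxV⟩
    haveI : IsDomain (Localization.AtPrime qx) := by
      refine Function.Injective.isDomain g ((injective_iff_map_eq_zero g).2 fun z hz => ?_)
      obtain ⟨⟨c, s⟩, rfl⟩ := IsLocalization.mk'_surjective qx.primeCompl z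
      show IsLocalization.mk' (Localization.AtPrime qx) c s = 0
      change g (IsLocalization.mk' _ c s) = 0 at hz
      have hc : g (algebraMap _ _ c) = 0 := by
        rw [← IsLocalization.mk'_spec (Localization.AtPrime qx) c s, map_mul, hz, zero_mul]
      obtain ⟨t, ht, htc⟩ := hgk c hc
      have h0 : algebraMap Γ(X, V) (Localization.AtPrime qx) (t * c) = 0 := by
        rw [hπk] at htc
        have h1 := Ideal.mem_map_of_mem (algebraMap Γ(X, V) (Localization.AtPrime qx)) htc
        rw [Ideal.map_map, ← IsScalarTower.algebraMap_eq] at h1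
        have h2 : η.map (algebraMap Γ(Y, U) (Localization.AtPrime qx)) = ⊥ := by
          rw [eq_bot_iff, Ideal.map_le_iff_le_comap]
          intro a ha
          letI := Y.presheaf.algebra_section_stalk ⟨f.base x, hVU hxV⟩
          haveI := hU.isLocalization_stalk ⟨f.base x, hVU hxV⟩
          obtain ⟨⟨u, hu⟩, hua⟩ := (IsLocalization.map_eq_zero_iff p.primeCompl
            (Y.presheaf.stalk (f.base x)) a).1 (((hnil a ha).map _).eq_zero)
          show algebraMap Γ(Y, U) (Localization.AtPrime qx) a ∈ (⊥ : Ideal _)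
          rw [Ideal.mem_bot]
          have h3 := congrArg (algebraMap Γ(Y, U) (Localization.AtPrime qx)) (show u * a = 0 from hua)
          rw [map_mul, map_zero] at h3
          refine (IsUnit.mul_right_eq_zero ?_).1 h3
          rw [IsScalarTower.algebraMap_apply Γ(Y, U) Γ(X, V) (Localization.AtPrime qx)]
          exact IsLocalization.map_units (Localization.AtPrime qx)
            (⟨algebraMap Γ(Y, U) Γ(X, V) u, fun h => hu (hqp.ge h)⟩ : qx.primeCompl)
        rw [h2, Ideal.mem_bot] at h1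
        exact h1
      rw [map_mul] at h0
      rw [IsLocalization.mk'_eq_mul_mk'_one, (IsLocalization.map_units (Localization.AtPrime qx)
        (⟨t, ht⟩ : qx.primeCompl)).mul_right_eq_zero.1 h0, zero_mul]
    exact (IsLocalization.algEquiv qx.primeCompl (X.presheaf.stalk x) (Localization.AtPrime qx)).toMulEquiv.isDomain
      (Localization.AtPrime qx)

end Groth.Agent.S3410
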