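import Groth.Statements.S3414
import Groth.Agent.GeomCount.Compose
import Groth.Agent.GeomUnib.Scheme

set_option autoImplicit false
open CategoryTheory AlgebraicGeometry
universe u
open EGA43

namespace Groth.Agent.S3414

/-- Let Y be an irreducible locally Noetherian scheme, f : X ⟶ Y proper, n(y) the geometric number of
connected components of the fibre over y, and suppose every irreducible component of X dominates Y.
If y₀ is a point of Y whose local ring is geometrically unibranch, then n is lower semicontinuous at
y₀. -/
theorem result {X Y : Scheme.{u}} [IrreducibleSpace Y]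
    [IsLocallyNoetherian Y] (f : X ⟶ Y) [IsProper f]
    (hdom : ∀ Z ∈ irreducibleComponents (X : Type u), closure (f.base '' Z) = Set.univ) (y₀ : Y)
    (hy : CAlg2.IsGeomUnibranch (Y.presheaf.stalk y₀)) :
    ∃ V ∈ nhds y₀, ∀ z ∈ V, MoreMor.nGeomConnComp f y₀ ≤ MoreMor.nGeomConnComp f z := by
  let g := f.fromNormalization
  let π := f.toNormalization
  haveI : IsFinite g := Groth.Agent.ZarConn.isFinite_fromNormalization f
  haveI : GeometricallyConnected π := Groth.Agent.ZarConn.geometricallyConnected_toNormalization f
  obtain ⟨V, hV, hle⟩ := Groth.Agent.GeomCount.eventually_le g y₀ (fun x' hx' => by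
    obtain ⟨x, rfl⟩ := π.surjective x'
    let Z := irreducibleComponent x
    obtain ⟨z, hz⟩ := QuasiSober.sober (isIrreducible_irreducibleComponent (x := x)) isClosed_irreducibleComponent
    have hzx : z ⤳ x := hz.specializes mem_irreducibleComponent
    have hd : closure ({f z} : Set Y) = Set.univ := by
      refine Set.eq_univ_of_univ_subset ?_
      rw [← hdom Z (irreducibleComponent_mem_irreducibleComponents x)]
      refine closure_minimal ?_ isClosed_closure
      rintro _ ⟨w, hw, rfl⟩
      exact (specializes_iff_mem_closure.mp ((hz.specializes hw).map f.continuous))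
    refine Groth.Agent.GeomUnib.isUnivOpenAt_of_quasiFinite g (π x) (g.quasiFiniteAt _) (π z)
      (hzx.map π.continuous) ⊤ trivial ?_ ?_
    · rw [← Scheme.Hom.comp_apply, show π ≫ g = f from f.toNormalization_fromNormalization, hd]
      exact Set.subset_univ _
    · rw [show g (π x) = y₀ from hx']
      exact hy)
  refine ⟨V, hV, fun z hz => ?_⟩
  rw [Groth.Agent.GeomCount.nGeomConnComp_fromNormalization f,
    Groth.Agent.GeomCount.nGeomConnComp_fromNormalization f]
  exact hle z hz

end Groth.Agent.S3414
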