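import Groth.Statements.S3417
import Groth.Agent.GeomUnib.SectionConnDvr
-- import your own Groth.Agent.* helpers here

set_option autoImplicit false
open CategoryTheory AlgebraicGeometry
universe u
open EGA43

namespace Groth.Agent.S3417

/-- Let A be a discrete valuation ring, Y = Spec A with closed point a and generic point b, and f : X ⟶
Y a morphism locally of finite type which is open (as a map of spaces). If X is connected and the
fibre over a is a reduced scheme, then the fibre over b is connected. (Stated with 'preconnected',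
which also covers the empty case; a is the closed point and b the point specialising to every
point.) -/
theorem result (A : Type u) [CommRing A] [IsDomain A]
    [IsDiscreteValuationRing A] {X : Scheme.{u}} (f : X ⟶ Spec (CommRingCat.of A)) [LocallyOfFiniteType f]
    (hopen : IsOpenMap f.base) [PreconnectedSpace X]
    (a b : ↥(Spec (CommRingCat.of A))) (ha : IsClosed ({a} : Set ↥(Spec (CommRingCat.of A))))
    (hb : ∀ z : ↥(Spec (CommRingCat.of A)), b ⤳ z)
    (hred : AlgebraicGeometry.IsReduced (f.fiber a)) :
    PreconnectedSpace ↥(f.fiber b) := by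
  have hb' : b = Groth.Agent.GeomUnib.SectionComp.genPt A :=
    ((hb _).antisymm (Groth.Agent.GeomUnib.SectionComp.genPt_specializes b)).eq
  have ha' : a = IsLocalRing.closedPoint A :=
    (Set.mem_singleton_iff.1 ((Groth.Agent.GeomUnib.SectionComp.eq_genPt_or a).elim (fun h => by
      have h1 : IsLocalRing.closedPoint A ∈ closure ({a} : Set (Spec (CommRingCat.of A))) :=
        (h ▸ (Groth.Agent.GeomUnib.SectionComp.genPt_specializes (A := A) (IsLocalRing.closedPoint A))).mem_closure
      rwa [ha.closure_eq] at h1) fun h => h ▸ rfl)).symm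
  subst hb' ha'
  haveI : IsLocallyNoetherian X := LocallyOfFiniteType.isLocallyNoetherian f
  haveI : LocallyConnectedSpace ↥X := Groth.Agent.S2277.result _ fun x => by
    obtain ⟨U, hU, hxU, -⟩ := exists_isAffineOpen_mem_and_subset (U := (⊤ : X.Opens)) (x := x) trivial
    haveI : IsNoetherianRing Γ(X, U) := IsLocallyNoetherian.component_noetherian (X := X) ⟨U, hU⟩
    refine ⟨(U : Set X), U.2.mem_nhds hxU, ?_⟩
    rw [← hU.range_fromSpec]
    exact TopologicalSpace.NoetherianSpace.range _ hU.fromSpec.continuous
  let η := Groth.Agent.GeomUnib.SectionComp.genPt A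
  let c := IsLocalRing.closedPoint A
  let Pη : Set X := f.base ⁻¹' {η}
  have hη : IsOpen Pη := by
    have : ({η} : Set (Spec (CommRingCat.of A))) = {c}ᶜ := Set.ext fun z =>
      ⟨fun h => by rw [Set.mem_singleton_iff] at h; subst h; exact Groth.Agent.GeomUnib.SectionComp.genPt_ne_closedPoint,
        fun h => (Groth.Agent.GeomUnib.SectionComp.eq_genPt_or z).resolve_right h⟩
    show IsOpen (f.base ⁻¹' {η})
    rw [this]
    exact ((IsLocalRing.isClosed_singleton_closedPoint A).isOpen_compl).preimage f.continuous
  refine ⟨?_⟩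
  rw [← (f.fiberι η).isEmbedding.isInducing.isPreconnected_image, Set.image_univ, Scheme.Hom.range_fiberι]
  rcases Pη.eq_empty_or_nonempty with h0 | ⟨b₀, hb₀⟩
  · show _root_.IsPreconnected Pη
    rw [h0]; exact isPreconnected_empty
  let K : Set X := connectedComponentIn Pη b₀
  let D : Set X := ⋃ z ∈ Pη \ K, connectedComponentIn Pη z
  have hdisj : Disjoint K D := by
    refine Set.disjoint_left.2 fun z hzK hzD => ?_
    obtain ⟨w, ⟨hw, hwK⟩, hzw⟩ := Set.mem_iUnion₂.1 hzD
    refine hwK ?_
    show w ∈ connectedComponentIn Pη b₀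
    rw [connectedComponentIn_eq hzK, ← connectedComponentIn_eq hzw]
    exact mem_connectedComponentIn hw
  have hKD : K ∪ D = f.base ⁻¹' {Groth.Agent.GeomUnib.SectionComp.genPt A} := by
    refine Set.Subset.antisymm (Set.union_subset (connectedComponentIn_subset _ _)
      (Set.iUnion₂_subset fun z _ => connectedComponentIn_subset _ _)) fun z hz => ?_
    by_cases hzK : z ∈ K
    · exact Or.inl hzK
    · exact Or.inr (Set.mem_iUnion₂.2 ⟨z, ⟨hz, hzK⟩, mem_connectedComponentIn hz⟩)
  have hKo : IsOpen K := hη.connectedComponentIn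
  have hDo : IsOpen D := isOpen_biUnion fun z _ => hη.connectedComponentIn
  have hred' : ∀ z, f.base z = c → _root_.IsReduced ((f.fiber (f.base z)).presheaf.stalk (f.asFiber z)) := fun z hz => by
    haveI : AlgebraicGeometry.IsReduced (f.fiber (f.base z)) := hz.symm ▸ hred
    infer_instance
  have hflat : ∀ z, f.base z = c → (f.stalkMap z).hom.Flat := fun z hz =>
    Groth.Agent.S4948.result f z hz (fun w _ _ U hU => hopen.image_mem_nhds hU) (hred' z hz)
  have hcov : (Set.univ : Set X) ⊆ closure K ∪ closure D := fun z _ => by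
    rcases Groth.Agent.GeomUnib.SectionComp.eq_genPt_or (f.base z) with h | h
    · exact (hKD.ge h).imp (fun h' => subset_closure h') fun h' => subset_closure h'
    · obtain ⟨w, hw, hwη⟩ := Groth.Agent.GeomUnib.SectionConnDvr.exists_gen_of_flat f (hflat z h) (η := η)
        (by rw [h]; exact Groth.Agent.GeomUnib.SectionComp.genPt_specializes _)
      exact (hKD.ge hwη).imp (fun h' => closure_mono (Set.singleton_subset_iff.2 h') hw.mem_closure)
        fun h' => closure_mono (Set.singleton_subset_iff.2 h') hw.mem_closure
  by_cases hD : D.Nonempty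
  · exfalso
    obtain ⟨z, -, hzK, hzD⟩ := isPreconnected_closed_iff.1 (isPreconnected_univ (α := ↥X)) (closure K) (closure D)
      isClosed_closure isClosed_closure hcov ⟨b₀, trivial, subset_closure (mem_connectedComponentIn hb₀)⟩
      (hD.imp fun w hw => ⟨trivial, subset_closure hw⟩)
    rcases Groth.Agent.GeomUnib.SectionComp.eq_genPt_or (f.base z) with h | h
    · rcases hKD.ge h with h' | h'
      · exact (hdisj.closure_right hKo).le_bot ⟨h', hzD⟩
      · exact (hdisj.closure_left hDo).le_bot ⟨hzK, h'⟩
    · exact Groth.Agent.GeomUnib.SectionConnDvr.eq_of_open_disjoint f h (hflat z h) (hred' z h) hKo hDo hdisj hKD hzK hzD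
  · show _root_.IsPreconnected Pη
    rw [Set.not_nonempty_iff_eq_empty] at hD
    have hK : Pη = K := by rw [show Pη = K ∪ D from hKD.symm, hD, Set.union_empty]
    rw [hK]
    exact isPreconnected_connectedComponentIn

end Groth.Agent.S3417
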