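import Groth.Statements.S3419
import Groth.Agent.GeomUnib.SectionDimSemi
import Groth.Agent.GeomUnib.FibreDimSemi
-- import your own Groth.Agent.* helpers here

set_option autoImplicit false
open CategoryTheory AlgebraicGeometry
universe u
open EGA43

namespace Groth.Agent.S3419

/-- Let Y be locally Noetherian, f : X ⟶ Y locally of finite type and g a section of f; for y in Y let
X⁰_y be the connected component of the fibre f⁻¹(y) containing g(y). Suppose every X⁰_y is
irreducible. Then y ↦ dim X⁰_y is upper semicontinuous on Y; and if this function is constant on a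
neighbourhood of a point y, then X⁰_y is contained in the closure of X⁰_{y'} for every generization
y' of y. -/
theorem result {X Y : Scheme.{u}} [IsLocallyNoetherian Y] (f : X ⟶ Y)
    [LocallyOfFiniteType f] (g : Y ⟶ X) (hg : g ≫ f = 𝟙 Y)
    (hirr : ∀ y : Y, IsIrreducible (connectedComponentIn (f.base ⁻¹' {y}) (g.base y))) :
    UpperSemicontinuous (fun y : Y => topologicalKrullDim ↥(connectedComponentIn (f.base ⁻¹' {y}) (g.base y))) ∧
      ∀ y : Y, (∃ V ∈ nhds y, ∀ z ∈ V, topologicalKrullDim ↥(connectedComponentIn (f.base ⁻¹' {z}) (g.base z)) = topologicalKrullDim ↥(connectedComponentIn (f.base ⁻¹' {y}) (g.base y))) →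
        ∀ y' : Y, y' ⤳ y → connectedComponentIn (f.base ⁻¹' {y}) (g.base y) ⊆ closure (connectedComponentIn (f.base ⁻¹' {y'}) (g.base y')) := by
  have hd : ∀ z, topologicalKrullDim ↥(connectedComponentIn (f.base ⁻¹' {z}) (g.base z)) =
      FlatMor.fibreDimAt f (g.base z) := fun z =>
    Groth.Agent.GeomUnib.dim_component_eq f z (g.base z) (Groth.Agent.GeomUnib.SectionComp.section_apply hg z) (hirr z)
  refine ⟨fun z c hc => ?_, fun y ⟨V, hV, hconst⟩ y' hy' => ?_⟩
  · obtain ⟨O, hO, hle⟩ := Groth.Agent.GeomUnib.exists_nhds_fibreDimAt_le f (g.base z)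
    refine Filter.eventually_of_mem ((g ⁻¹ᵁ O).2.mem_nhds hO) fun z' hz' => ?_
    simp only [hd] at hc ⊢
    exact (hle _ hz').trans_lt hc
  · obtain ⟨W, hWV, hW, hyW⟩ := mem_nhds_iff.1 hV
    refine (Groth.Agent.GeomUnib.SectionDimSemi.d0_le_and_subset f hg hy'
      ⟨_, connectedComponentIn_subset _ _, hirr y', fun Z' h1 h2 h3 => ?_,
        Groth.Agent.GeomUnib.SectionComp.mem_X0 hg y', rfl⟩).2 (hirr y)
      (hconst y' (hWV (hy'.mem_open hW hyW))).symm
    exact (h1.isConnected.isPreconnected.subset_connectedComponentIn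
      (h3 (Groth.Agent.GeomUnib.SectionComp.mem_X0 hg y')) h2).antisymm h3

end Groth.Agent.S3419
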