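import Groth.Statements.S3420
import Groth.Agent.GeomUnib.SectionConnNhd
import Groth.Agent.GeomUnib.SectionConnDvr
import Groth.Agent.GeomCount.Basic
-- import your own Groth.Agent.* helpers here

set_option autoImplicit false
open CategoryTheory AlgebraicGeometry
universe u
open EGA43

namespace Groth.Agent.S3420

/-- Let Y be locally Noetherian, f : X ⟶ Y locally of finite type, g a section of f, X⁰_y the connected
component of f⁻¹(y) containing g(y) and X⁰ the union of the X⁰_y. If y is a point such that the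
fibre over y is geometrically reduced at every point of X⁰_y and f is universally open at every
point of X⁰_y, then X⁰ is a neighbourhood of X⁰_y in X. In particular, if f is universally open and
every fibre is geometrically reduced at the points of X⁰, then X⁰ is open in X. -/
theorem result {X Y : Scheme.{u}} [IsLocallyNoetherian Y] (f : X ⟶ Y)
    [LocallyOfFiniteType f] (g : Y ⟶ X) (hg : g ≫ f = 𝟙 Y) :
    (∀ y : Y, (∀ x ∈ connectedComponentIn (f.base ⁻¹' {y}) (g.base y), EGA43.IsUnivOpenAt f x ∧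
        FBase.IsGeomReducedAt (f.fiberToSpecResidueField (f.base x)) (f.asFiber x)) →
      connectedComponentIn (f.base ⁻¹' {y}) (g.base y) ⊆ interior (MoreMor.sectionComponents f g)) ∧
    (UniversallyOpen f → (∀ x ∈ MoreMor.sectionComponents f g,
        FBase.IsGeomReducedAt (f.fiberToSpecResidueField (f.base x)) (f.asFiber x)) →
      IsOpen (MoreMor.sectionComponents f g)) := by
  haveI : IsLocallyNoetherian X := LocallyOfFiniteType.isLocallyNoetherian f
  have key : ∀ y : Y, (∀ x ∈ connectedComponentIn (f.base ⁻¹' {y}) (g.base y), EGA43.IsUnivOpenAt f x ∧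
      FBase.IsGeomReducedAt (f.fiberToSpecResidueField (f.base x)) (f.asFiber x)) →
      connectedComponentIn (f.base ⁻¹' {y}) (g.base y) ⊆ interior (MoreMor.sectionComponents f g) := by
    intro y hyp x hx
    let E := MoreMor.sectionComponents f g
    obtain ⟨U, hU, hxU, -⟩ := exists_isAffineOpen_mem_and_subset (U := (⊤ : X.Opens)) (x := x) trivial
    haveI : IsNoetherianRing Γ(X, U) := IsLocallyNoetherian.component_noetherian (X := X) ⟨U, hU⟩
    let E' : Set (PrimeSpectrum Γ(X, U)) := hU.fromSpec ⁻¹' E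
    let P := hU.primeIdealOf ⟨x, hxU⟩
    have hP : hU.fromSpec P = x := hU.fromSpec_primeIdealOf _
    suffices h : P ∈ interior E' by
      obtain ⟨O, hOE, hO, hPO⟩ := mem_interior.1 h
      exact mem_interior.2 ⟨hU.fromSpec '' O, Set.image_subset_iff.2 hOE,
        hU.fromSpec.isOpenEmbedding.isOpenMap _ hO, P, hPO, hP⟩
    rw [interior_eq_compl_closure_compl, Set.mem_compl_iff]
    intro hPc
    let F : TopologicalSpace.Closeds (PrimeSpectrum Γ(X, U)) := ⟨closure E'ᶜ, isClosed_closure⟩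
    obtain ⟨S, hS, hScl, hSirr, hSeq⟩ :=
      TopologicalSpace.NoetherianSpace.exists_finite_set_isClosed_irreducible (isClosed_closure (s := E'ᶜ))
    -- a component through the point whose generic point is not on the others
    obtain ⟨S', hS'sub, hS'min⟩ : ∃ S' : Set (Set (PrimeSpectrum Γ(X, U))), (S' ⊆ S ∧ closure E'ᶜ = ⋃₀ S') ∧
        ∀ S'' : Set (Set (PrimeSpectrum Γ(X, U))), (S'' ⊆ S ∧ closure E'ᶜ = ⋃₀ S'') → S'' ⊆ S' → S' ⊆ S'' := by
      obtain ⟨S', -, hS'⟩ := exists_minimal_le_of_wellFoundedLT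
        (fun T : Finset (Set (PrimeSpectrum Γ(X, U))) => T ⊆ hS.toFinset ∧ closure E'ᶜ = ⋃₀ (T : Set (Set _)))
        hS.toFinset ⟨subset_rfl, by rw [Set.Finite.coe_toFinset]; exact hSeq⟩
      refine ⟨(S' : Set (Set _)), ⟨fun T hT => hS.mem_toFinset.1 (hS'.1.1 hT), hS'.1.2⟩, fun S'' h1 h2 => ?_⟩
      have hfin : S''.Finite := S'.finite_toSet.subset h2
      have := hS'.2 (y := hfin.toFinset) ⟨fun T hT => hS.mem_toFinset.2 (h1.1 (hfin.mem_toFinset.1 hT)),
        by rw [Set.Finite.coe_toFinset]; exact h1.2⟩ (fun T hT => h2 (hfin.mem_toFinset.1 hT))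
      exact fun T hT => hfin.mem_toFinset.1 (this hT)
    obtain ⟨C, hC, hPC⟩ : P ∈ ⋃₀ S' := hS'sub.2 ▸ hPc
    obtain ⟨γ, hγ⟩ := QuasiSober.sober (hSirr C (hS'sub.1 hC)) (hScl C (hS'sub.1 hC))
    have hγE : hU.fromSpec γ ∈ E := by
      refine Groth.Agent.GeomUnib.SectionConnDvr.mem_sectionComponents_of_gen hg hx hyp ?_
      exact hP ▸ (hγ.specializes hPC).map hU.fromSpec.continuous
    obtain ⟨O, hO, hγO, hOE⟩ := Groth.Agent.GeomUnib.SectionConnNhd.exists_nhds_inter_closure hg hγE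
    let R : Set (PrimeSpectrum Γ(X, U)) := ⋃₀ (S' \ {C})
    have hR : IsClosed R := by
      show IsClosed (⋃₀ (S' \ {C}))
      rw [Set.sUnion_eq_biUnion]
      exact ((hS.subset hS'sub.1).sdiff).isClosed_biUnion fun T hT => hScl T (hS'sub.1 hT.1)
    have hγR : γ ∉ R := by
      rintro ⟨T, hT, hγT⟩
      have hCT : C ⊆ T := by
        rw [← hγ.def]
        exact closure_minimal (Set.singleton_subset_iff.2 hγT) (hScl T (hS'sub.1 hT.1))
      have h1 := hS'min (S' \ {C}) ⟨Set.sdiff_subset.trans hS'sub.1, ?_⟩ Set.sdiff_subset hC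
      · exact h1.2 rfl
      · rw [hS'sub.2]
        refine Set.Subset.antisymm ?_ (Set.sUnion_subset_sUnion Set.sdiff_subset)
        rintro z ⟨T', hT', hz⟩
        by_cases hTC : T' = C
        · exact ⟨T, hT, hCT (hTC ▸ hz)⟩
        · exact ⟨T', ⟨hT', hTC⟩, hz⟩
    have hγF : γ ∈ closure E'ᶜ := hS'sub.2 ▸ Set.mem_sUnion.2 ⟨C, hC, hγ.mem⟩
    obtain ⟨b, ⟨hbO, hbR⟩, hbE⟩ := mem_closure_iff.1 hγF (hU.fromSpec ⁻¹' O ∩ Rᶜ)
      ((hO.preimage hU.fromSpec.continuous).inter hR.isOpen_compl) ⟨hγO, hγR⟩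
    obtain ⟨T, hT, hbT⟩ : b ∈ ⋃₀ S' := hS'sub.2 ▸ subset_closure hbE
    have hTC : T = C := by
      by_contra hne
      exact hbR ⟨T, ⟨hT, hne⟩, hbT⟩
    exact hbE (hOE ⟨hbO, ((hγ.specializes (hTC ▸ hbT)).map hU.fromSpec.continuous).mem_closure⟩)
  refine ⟨key, fun hu hred => ?_⟩
  rw [isOpen_iff_mem_nhds]
  intro x hx
  rw [mem_nhds_iff, ← mem_interior]
  refine key (f.base x) (fun a ha => ⟨?_, hred a ?_⟩) hx
  · exact Groth.Agent.GeomCount.isUnivOpenAt f a
  · have h := Groth.Agent.GeomUnib.SectionComp.apply_of_mem_X0 ha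
    show a ∈ connectedComponentIn (f.base ⁻¹' {f.base a}) (g.base (f.base a))
    rw [h]
    exact ha

end Groth.Agent.S3420
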