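import Groth.Statements.S3426
import Groth.Agent.FibConstr.Eventual
-- import your own Groth.Agent.* helpers here

set_option autoImplicit false
open CategoryTheory AlgebraicGeometry
universe u
open EGA43

namespace Groth.Agent.S3426

open CategoryTheory.Limits in
/-- Let g : Y ⟶ S and f : X ⟶ Y be such that X and Y are of finite presentation over S (locally of
finite presentation, quasi-compact and quasi-separated). For each point s of S let f_s be the
induced morphism from the fibre of f ≫ g over s to the fibre of g over s. Then the set of s for
which f_s is a monomorphism is locally constructible in S. -/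
theorem result {X Y S : Scheme.{u}} (f : X ⟶ Y) (g : Y ⟶ S)
    [LocallyOfFinitePresentation g] [QuasiCompact g] [QuasiSeparated g]
    [LocallyOfFinitePresentation (f ≫ g)] [QuasiCompact (f ≫ g)] [QuasiSeparated (f ≫ g)] :
    Topology.IsLocallyConstructible {s : S |
      Mono (pullback.lift (pullback.fst (f ≫ g) (S.fromSpecResidueField s) ≫ f) (pullback.snd (f ≫ g) (S.fromSpecResidueField s))
          ((Category.assoc _ _ _).trans pullback.condition) :
        pullback (f ≫ g) (S.fromSpecResidueField s) ⟶ pullback g (S.fromSpecResidueField s))} := by
  haveI : LocallyOfFinitePresentation f :=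
    Groth.FibrewiseCrit.locallyOfFinitePresentation_of_comp f g inferInstance inferInstance
  have hsq := fun s : S => FibConstr.isPullback_lift_fibre f g (S.fromSpecResidueField s) ((Category.assoc _ _ _).trans pullback.condition)
  have h1 := FibConstr.isLocallyConstructible_setOf_universallyInjective f g _ hsq
  have h2 := FibConstr.isLocallyConstructible_forall (f ≫ g) (FibConstr.goodLocus_fuLocus.isLocallyConstructible f g)
  convert h1.inter h2 using 1
  ext s
  haveI := MorphismProperty.of_isPullback (P := @LocallyOfFiniteType) (hsq s) inferInstance
  refine (FibConstr.mono_iff_universallyInjective_formallyUnramified _).trans (and_congr Iff.rfl ?_)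
  rw [Groth.FibrewiseCrit.formallyUnramified_iff_forall_mem_fuLocus]
  refine ⟨fun h x hx => ?_, fun h p => (Groth.FibrewiseCrit.mem_fuLocus_of_isPullback (hsq s) p).2 (h _ ?_)⟩
  · obtain ⟨p, rfl⟩ : x ∈ Set.range ((f ≫ g).fiberι s) := by rw [Scheme.Hom.range_fiberι]; exact hx
    exact (Groth.FibrewiseCrit.mem_fuLocus_of_isPullback (hsq s) p).1 (h p)
  · exact (Scheme.Hom.range_fiberι (f ≫ g) s).le ⟨p, rfl⟩

end Groth.Agent.S3426
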