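import Groth.Statements.S3430
import Groth.Agent.DimAffSpace.Basic
-- import your own Groth.Agent.* helpers here

set_option autoImplicit false
open CategoryTheory AlgebraicGeometry
universe u
open EGA42

namespace Groth.Agent.S3430

/-- Let X be a scheme of finite type over a field k and n a natural number. Then: dim X ≥ n if and only
if there are a dense open subscheme U of X and a surjective k-morphism from U to affine n-space over
k; dim X ≤ n if and only if there are such U and g with g finite; dim X = n if and only if there are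
such U and g with g finite and surjective. -/
theorem result (k : Type u) [Field k] {X : Scheme.{u}}
    (f : X ⟶ Spec (CommRingCat.of k)) [LocallyOfFiniteType f] [QuasiCompact f] (n : ℕ) :
    ((n : WithBot ℕ∞) ≤ topologicalKrullDim (X : Type u) ↔
      ∃ (U : X.Opens) (g : (U : Scheme.{u}) ⟶ 𝔸(ULift.{u} (Fin n); Spec (CommRingCat.of k))),
        Dense (U : Set X) ∧ g ≫ (𝔸(ULift.{u} (Fin n); Spec (CommRingCat.of k)) ↘ Spec (CommRingCat.of k)) = U.ι ≫ f ∧ Function.Surjective g.base) ∧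
    (topologicalKrullDim (X : Type u) ≤ n ↔
      ∃ (U : X.Opens) (g : (U : Scheme.{u}) ⟶ 𝔸(ULift.{u} (Fin n); Spec (CommRingCat.of k))),
        Dense (U : Set X) ∧ g ≫ (𝔸(ULift.{u} (Fin n); Spec (CommRingCat.of k)) ↘ Spec (CommRingCat.of k)) = U.ι ≫ f ∧ IsFinite g) ∧
    (topologicalKrullDim (X : Type u) = n ↔
      ∃ (U : X.Opens) (g : (U : Scheme.{u}) ⟶ 𝔸(ULift.{u} (Fin n); Spec (CommRingCat.of k))),
        Dense (U : Set X) ∧ g ≫ (𝔸(ULift.{u} (Fin n); Spec (CommRingCat.of k)) ↘ Spec (CommRingCat.of k)) = U.ι ≫ f ∧ IsFinite g ∧ Function.Surjective g.base) := by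
  haveI : CompactSpace X := QuasiCompact.compactSpace_of_compactSpace f
  haveI : IsLocallyNoetherian X := LocallyOfFiniteType.isLocallyNoetherian f
  haveI : IsNoetherian X := ⟨⟩
  have hA := Groth.Agent.DimAffSpace.dim_dense_open k f
  have hAn := Groth.Agent.AffFibre.dim_affineSpace k n
  haveI := Groth.Agent.AffFibre.irreducibleSpace_affineSpace (ULift.{u} (Fin n)) k
  have hge : ∀ (U : X.Opens) (g : (U : Scheme.{u}) ⟶ 𝔸(ULift.{u} (Fin n); Spec (CommRingCat.of k))),
      Dense (U : Set X) → g ≫ (𝔸(ULift.{u} (Fin n); Spec (CommRingCat.of k)) ↘ Spec (CommRingCat.of k)) = U.ι ≫ f →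
      Function.Surjective g.base → (n : WithBot ℕ∞) ≤ topologicalKrullDim (X : Type u) := by
    intro U g hU hg hs
    haveI : LocallyOfFiniteType g := by
      haveI : LocallyOfFiniteType (g ≫ (𝔸(ULift.{u} (Fin n); Spec (CommRingCat.of k)) ↘ Spec (CommRingCat.of k))) := by
        rw [hg]; infer_instance
      exact locallyOfFiniteType_of_comp g (𝔸(ULift.{u} (Fin n); Spec (CommRingCat.of k)) ↘ Spec (CommRingCat.of k))
    haveI : LocallyOfFiniteType (𝔸(ULift.{u} (Fin n); Spec (CommRingCat.of k)) ↘ Spec (CommRingCat.of k)) := inferInstance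
    rw [← hA U hU, ← hAn]
    exact Groth.Agent.DimMaps.dim_le_of_genericPoint_mem
      (𝔸(ULift.{u} (Fin n); Spec (CommRingCat.of k)) ↘ Spec (CommRingCat.of k)) g (hs _)
  have hle : ∀ (U : X.Opens) (g : (U : Scheme.{u}) ⟶ 𝔸(ULift.{u} (Fin n); Spec (CommRingCat.of k))),
      Dense (U : Set X) → IsFinite g → topologicalKrullDim (X : Type u) ≤ (n : WithBot ℕ∞) := by
    intro U g hU hg
    haveI := hg
    rw [← hA U hU, (Groth.Agent.DimMaps.dim_finite g).1, ← hAn]
    exact Topology.IsInducing.subtypeVal.topologicalKrullDim_le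
  rcases isEmpty_or_nonempty ↥X with hX | hX
  · have hbot : topologicalKrullDim (X : Type u) = ⊥ := by
      haveI : IsEmpty (TopologicalSpace.IrreducibleCloseds ↥X) := ⟨fun Z => isEmptyElim Z.2.nonempty.some⟩
      exact Order.krullDim_eq_bot
    have h1 : ¬ (n : WithBot ℕ∞) ≤ topologicalKrullDim (X : Type u) := by rw [hbot]; simp
    haveI : IsEmpty ↥((⊤ : X.Opens) : Scheme.{u}) := (⊤ : X.Opens).ι.base.hom.1.isEmpty
    let g0 : ((⊤ : X.Opens) : Scheme.{u}) ⟶ 𝔸(ULift.{u} (Fin n); Spec (CommRingCat.of k)) :=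
      AffineSpace.homOfVector ((⊤ : X.Opens).ι ≫ f) 0
    have hg0 : IsFinite g0 := inferInstance
    refine ⟨⟨fun h => absurd h h1, fun ⟨U, g, a, b, c⟩ => hge U g a b c⟩,
      ⟨fun _ => ⟨⊤, g0, by simp, AffineSpace.homOfVector_over _ _, hg0⟩, fun ⟨U, g, a, _, c⟩ => hle U g a c⟩,
      ⟨fun h => absurd h.ge h1, fun ⟨U, g, a, b, c, d⟩ => absurd (hge U g a b d) h1⟩⟩
  · obtain ⟨U, hU, hUa⟩ := Groth.Agent.DimAffSpace.exists_dense_affine (X := X)
    haveI : IsAffine (U : Scheme.{u}) := hUa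
    haveI : Nonempty ↥(U : Scheme.{u}) := by
      obtain ⟨z, hz⟩ := hU.nonempty
      exact ⟨⟨z, hz⟩⟩
    obtain ⟨d, hd, hmap⟩ := Groth.Agent.DimAffSpace.exists_map k (U.ι ≫ f)
    obtain ⟨g, hg, hgf, hgs⟩ := hmap n
    have hXd : topologicalKrullDim (X : Type u) = (d : WithBot ℕ∞) := (hA U hU).symm.trans hd
    refine ⟨⟨fun h => ⟨U, g, hU, hg, hgs ?_⟩, fun ⟨U, g, a, b, c⟩ => hge U g a b c⟩,
      ⟨fun h => ⟨U, g, hU, hg, hgf ?_⟩, fun ⟨U, g, a, _, c⟩ => hle U g a c⟩,
      ⟨fun h => ⟨U, g, hU, hg, hgf ?_, hgs ?_⟩,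
        fun ⟨U, g, a, b, c, d⟩ => le_antisymm (hle U g a c) (hge U g a b d)⟩⟩
    all_goals (rw [hXd] at h)
    · exact_mod_cast h
    · exact_mod_cast h
    · exact_mod_cast h.le
    · exact_mod_cast h.ge

end Groth.Agent.S3430
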