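import Groth.Statements.S5913
import Groth.Agent.S3432
import Mathlib

set_option autoImplicit false
universe u
open CategoryTheory AlgebraicGeometry
open EGA43

namespace Groth.Agent.S5913

theorem finite_maximalSpectrum {R : Type u} [CommRing R] [IsDomain R] [IsNoetherianRing R] {g : R} (hg : g ≠ 0)
    (hgp : ∀ P : Ideal R, P.IsPrime → P ≠ ⊥ → g ∈ P) (hnf : ¬ IsField R) :
    Finite (MaximalSpectrum R) ∧ ringKrullDim R = 1 := by
  have hmin : ∀ P : Ideal R, P.IsPrime → P ≠ ⊥ → P ∈ (Ideal.span {g}).minimalPrimes := fun P hP hP0 => by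
    obtain ⟨Q, hQ, hQP⟩ := Ideal.exists_minimalPrimes_le (I := Ideal.span {g}) (J := P)
      ((Ideal.span_singleton_le_iff_mem P).mpr (hgp P hP hP0))
    have := hQ.1.1
    have hQ0 : Q ≠ ⊥ := fun h => hg (by
      have hgQ : g ∈ Q := hQ.1.2 (Ideal.mem_span_singleton_self g)
      rw [h] at hgQ; simpa using hgQ)
    rcases eq_or_lt_of_le hQP with h | h
    · exact h ▸ hQ
    · exact (S3432.no_chain hg hgp hQ0 h).elim
  have hmax : ∀ P : Ideal R, P ≠ ⊥ → P.IsPrime → P.IsMaximal := fun P hP0 hP => by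
    obtain ⟨m, hm, hle⟩ := Ideal.exists_le_maximal P hP.ne_top
    rcases eq_or_lt_of_le hle with h | h
    · exact h ▸ hm
    · have := hm.isPrime
      exact (S3432.no_chain hg hgp hP0 h).elim
  have hmax0 : ∀ m : MaximalSpectrum R, m.asIdeal ≠ ⊥ := fun m h =>
    hnf ((Ring.isField_iff_maximal_bot (R := R)).mpr (h ▸ m.isMaximal))
  refine ⟨?_, ?_⟩
  · have := (Ideal.finite_minimalPrimes_of_isNoetherianRing R (Ideal.span {g})).to_subtype
    exact Finite.of_injective (fun m : MaximalSpectrum R =>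
      (⟨m.asIdeal, hmin _ m.isMaximal.isPrime (hmax0 m)⟩ : (Ideal.span {g} : Ideal R).minimalPrimes))
      (fun a b h => MaximalSpectrum.ext (congrArg Subtype.val h :))
  · have : Ring.KrullDimLE 1 R := Ring.krullDimLE_one_iff_of_noZeroDivisors.mpr hmax
    refine le_antisymm (Ring.krullDimLE_iff.mp this) ?_
    obtain ⟨m, hm⟩ := Ideal.exists_maximal R
    have h0 : m ≠ ⊥ := hmax0 ⟨m, hm⟩
    refine le_trans ?_ (Ideal.height_le_ringKrullDim_of_ne_top hm.ne_top)
    have h1 : m.height ≠ 0 := fun h => h0 (Ideal.height_eq_zero_iff_eq_bot.mp h)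
    exact_mod_cast Order.one_le_iff_ne_zero.mpr h1

/-- In the locally Noetherian form: a locally Noetherian scheme X is Jacobson if and only if it has no
subscheme isomorphic to the spectrum of a semi-local integral domain of dimension 1, i.e. there is
no immersion Spec R ⟶ X with R an integral domain having finitely many maximal ideals and Krull
dimension 1. -/
theorem result (X : Scheme.{u}) [IsLocallyNoetherian X] :
    JacobsonSpace X ↔
      ∀ (R : CommRingCat.{u}) [IsDomain R] (i : Spec R ⟶ X) [IsImmersion i],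
        ¬ (Finite (MaximalSpectrum R) ∧ ringKrullDim R = 1) := by
  constructor
  · rintro hJ R _ i hi ⟨hfin, hdim⟩
    let η : Spec R := ⟨⊥, Ideal.isPrime_bot⟩
    have hle : Ring.KrullDimLE 1 R := Ring.krullDimLE_iff.mpr hdim.le
    have hnf : ¬ IsField R := fun h => by
      have := ringKrullDim_eq_zero_of_isField h
      rw [hdim] at this; norm_num at this
    have hopen : IsOpen ({η} : Set (Spec R)) := by
      rw [← isClosed_compl_iff]
      have h1 : ({η} : Set (Spec R))ᶜ = ⋃ m : MaximalSpectrum R, ({(⟨m.asIdeal, m.isMaximal.isPrime⟩ : PrimeSpectrum R)} : Set (Spec R)) := by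
        ext q
        simp only [Set.mem_compl_iff, Set.mem_singleton_iff, Set.mem_iUnion]
        constructor
        · intro hq
          exact ⟨⟨q.asIdeal, Ring.krullDimLE_one_iff_of_noZeroDivisors.mp hle _
            (fun h => hq (PrimeSpectrum.ext h)) q.isPrime⟩, rfl⟩
        · rintro ⟨m, rfl⟩ h
          have hm : m.asIdeal = ⊥ := congrArg PrimeSpectrum.asIdeal h
          exact hnf ((Ring.isField_iff_maximal_bot (R := R)).mpr (hm ▸ m.isMaximal))
      rw [h1]
      exact isClosed_iUnion_of_finite fun m =>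
        (PrimeSpectrum.isClosed_singleton_iff_isMaximal _).mpr m.isMaximal
    have hemb := i.isEmbedding
    have hlc : IsLocallyClosed ({i η} : Set X) := by
      rw [← Set.image_singleton]
      exact hopen.isLocallyClosed.image hemb.isInducing i.isLocallyClosed_range
    have hcl := (isClosed_singleton_of_isLocallyClosed_singleton hlc).preimage i.continuous
    rw [← Set.image_singleton, hemb.injective.preimage_image] at hcl
    exact hnf ((Ring.isField_iff_maximal_bot (R := R)).mpr ((PrimeSpectrum.isClosed_singleton_iff_isMaximal _).mp hcl))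
  · intro H
    rw [jacobsonSpace_iff_locallyClosed]
    intro Z hne hZ
    obtain ⟨z₀, hz₀⟩ := hne
    obtain ⟨_, ⟨W, hW, rfl⟩, hz₀W, -⟩ := X.isBasis_affineOpens.exists_subset_of_mem_open
      (Set.mem_univ z₀) isOpen_univ
    have : IsNoetherianRing Γ(X, W) := IsLocallyNoetherian.component_noetherian ⟨W, hW⟩
    let Z' : Set X := Z ∩ W
    have hZ' : IsLocallyClosed Z' := hZ.inter W.2.isLocallyClosed
    have : TopologicalSpace.NoetherianSpace (W : Set X) := noetherianSpace_of_isAffineOpen W hW
    have hcomp : IsCompact Z' :=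
      (TopologicalSpace.noetherianSpace_set_iff (W : Set X)).mp inferInstance Z' Set.inter_subset_right
    have : CompactSpace ↥Z' := isCompact_iff_compactSpace.mp hcomp
    obtain ⟨⟨z, hz⟩, -, hzc⟩ := IsClosed.exists_closed_singleton (X := ↥Z') isClosed_univ
      ⟨⟨z₀, hz₀, hz₀W⟩, trivial⟩
    refine ⟨z, hz.1, ?_⟩
    obtain ⟨o, c, ho, hc, hoc⟩ := hZ'
    have hzo : z ∈ o ∧ z ∈ c := hoc.le hz
    have hiso : ∀ y, z ⤳ y → y ∈ o → y = z := by
      intro y hy hyo
      have hyZ : y ∈ Z' := hoc.ge ⟨hyo, hy.mem_closed hc hzo.2⟩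
      have h1 : (⟨y, hyZ⟩ : ↥Z') ∈ closure {(⟨z, hz⟩ : ↥Z')} := by
        rw [closure_subtype, Set.image_singleton]; exact hy.mem_closure
      rw [hzc.closure_eq] at h1
      exact congrArg Subtype.val h1
    rw [mem_closedPoints_iff, ← closure_subset_iff_isClosed]
    intro w hw
    by_contra hwz
    have h1 : z ⤳ w := specializes_iff_mem_closure.mpr hw
    obtain ⟨_, ⟨V, hV, rfl⟩, hwV, -⟩ := X.isBasis_affineOpens.exists_subset_of_mem_open
      (Set.mem_univ w) isOpen_univ
    have : IsNoetherianRing Γ(X, V) := IsLocallyNoetherian.component_noetherian ⟨V, hV⟩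
    have hzV : z ∈ V := h1.mem_open V.2 hwV
    rw [← SetLike.mem_coe, ← IsAffineOpen.range_fromSpec hV] at hzV
    rw [← IsAffineOpen.range_fromSpec hV] at hwV
    obtain ⟨⟨q, rfl⟩, ⟨p, rfl⟩⟩ := hwV, hzV
    let π := Ideal.Quotient.mk p.asIdeal
    have hle : p.asIdeal ≤ q.asIdeal :=
      (PrimeSpectrum.le_iff_specializes p q).mpr (hV.fromSpec.isOpenEmbedding.isInducing.specializes_iff.mp h1)
    obtain ⟨_, ⟨g, rfl⟩, hpg, hgo⟩ := PrimeSpectrum.isTopologicalBasis_basic_opens.exists_subset_of_mem_open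
      (show p ∈ hV.fromSpec ⁻¹' o from hzo.1) (ho.preimage hV.fromSpec.continuous)
    have hnf : ¬ IsField (Γ(X, V) ⧸ p.asIdeal) := fun h => by
      have := Ideal.Quotient.maximal_of_isField _ h
      exact hwz (congrArg hV.fromSpec (PrimeSpectrum.ext (this.eq_of_le q.isPrime.ne_top hle)).symm)
    have key : ∀ P : Ideal (Γ(X, V) ⧸ p.asIdeal), P.IsPrime → P ≠ ⊥ → π g ∈ P := by
      intro P hP hP0
      by_contra hg
      apply hP0
      have h2 : p.asIdeal ≤ P.comap π := fun x hx => by
        rw [Ideal.mem_comap, Ideal.Quotient.eq_zero_iff_mem.mpr hx]; exact P.zero_mem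
      have h3 := hiso (hV.fromSpec ⟨P.comap π, inferInstance⟩)
        (((PrimeSpectrum.le_iff_specializes p ⟨P.comap π, inferInstance⟩).mp h2).map hV.fromSpec.continuous)
        (hgo (show g ∉ P.comap π from hg))
      have h4 : P.comap π = p.asIdeal := congrArg PrimeSpectrum.asIdeal (hV.fromSpec.isOpenEmbedding.injective h3)
      rw [← Ideal.map_comap_of_surjective π Ideal.Quotient.mk_surjective P, h4, Ideal.map_quotient_self]
    have : IsClosedImmersion (Spec.map (CommRingCat.ofHom π)) :=
      IsClosedImmersion.spec_of_surjective _ Ideal.Quotient.mk_surjective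
    exact H (CommRingCat.of (Γ(X, V) ⧸ p.asIdeal)) (Spec.map (CommRingCat.ofHom π) ≫ hV.fromSpec)
      (finite_maximalSpectrum (g := π g) (fun h => hpg (Ideal.Quotient.eq_zero_iff_mem.mp h)) key hnf)

end Groth.Agent.S5913
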