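import Groth.Statements.S3431
import Groth.Agent.S5913
-- import your own Groth.Agent.* helpers here

set_option autoImplicit false
universe u
open EGA43

namespace Groth.Agent.S3431

/-- Let A be a Noetherian ring. Then A is a Jacobson ring if and only if there is no prime ideal p of A
such that A/p is semi-local (finitely many maximal ideals) of Krull dimension 1. -/
theorem result (A : Type u) [CommRing A] [IsNoetherianRing A] :
    IsJacobsonRing A ↔
      ∀ (p : Ideal A) [p.IsPrime], ¬ (Finite (MaximalSpectrum (A ⧸ p)) ∧ ringKrullDim (A ⧸ p) = 1) := by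
  constructor
  · intro hJ p _ h
    obtain ⟨hfin, hdim⟩ := h
    have hnf : ¬ IsField (A ⧸ p) := fun h => by
      rw [ringKrullDim_eq_zero_of_isField h] at hdim
      norm_num at hdim
    haveI : IsJacobsonRing (A ⧸ p) := inferInstance
    have hjac : (⊥ : Ideal (A ⧸ p)).jacobson = ⊥ :=
      (isJacobsonRing_iff (R := A ⧸ p)).1 inferInstance ⊥ Ideal.bot_prime.isRadical
    have hmax0 : ∀ m : MaximalSpectrum (A ⧸ p), m.asIdeal ≠ ⊥ := fun m h =>
      hnf ((Ring.isField_iff_maximal_bot (R := A ⧸ p)).mpr (h ▸ m.isMaximal))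
    have hex : ∀ m : MaximalSpectrum (A ⧸ p), ∃ a ∈ m.asIdeal, a ≠ 0 := fun m =>
      Submodule.exists_mem_ne_zero_of_ne_bot (hmax0 m)
    choose a ha ha0 using hex
    haveI := Fintype.ofFinite (MaximalSpectrum (A ⧸ p))
    have hprod : (∏ m, a m) ∈ (⊥ : Ideal (A ⧸ p)).jacobson := Ideal.mem_sInf.2 fun {J} hJ => by
      obtain ⟨c, hc⟩ := Finset.dvd_prod_of_mem a (Finset.mem_univ (⟨J, hJ.2⟩ : MaximalSpectrum (A ⧸ p)))
      rw [hc]
      exact Ideal.mul_mem_right _ _ (ha ⟨J, hJ.2⟩)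
    rw [hjac, Ideal.mem_bot] at hprod
    exact Finset.prod_ne_zero_iff.2 (fun m _ => ha0 m) hprod
  · intro H
    rw [isJacobsonRing_iff_prime_eq]
    intro P hP
    refine le_antisymm (fun f hf => ?_) Ideal.le_jacobson
    by_contra hfP
    obtain ⟨q, hq⟩ : ∃ q, Maximal (fun q : Ideal A => q.IsPrime ∧ P ≤ q ∧ f ∉ q) q :=
      exists_maximal_of_wellFoundedGT _ ⟨P, hP, le_rfl, hfP⟩
    obtain ⟨⟨hqp, hPq, hfq⟩, hmax⟩ := hq
    haveI := hqp
    let π := Ideal.Quotient.mk q
    have hnf : ¬ IsField (A ⧸ q) := fun h => by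
      have hm := Ideal.Quotient.maximal_of_isField _ h
      exact hfq (Ideal.mem_sInf.1 hf ⟨hPq, hm⟩)
    refine H q (Groth.Agent.S5913.finite_maximalSpectrum (g := π f)
      (fun h => hfq (Ideal.Quotient.eq_zero_iff_mem.1 h)) (fun Q hQ hQ0 => ?_) hnf)
    by_contra hfQ
    refine hQ0 ?_
    have h2 : q ≤ Q.comap π := fun x hx => by
      rw [Ideal.mem_comap, Ideal.Quotient.eq_zero_iff_mem.2 hx]; exact Q.zero_mem
    have h4 : Q.comap π = q :=
      le_antisymm (hmax ⟨inferInstance, hPq.trans h2, hfQ⟩ h2) h2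
    rw [← Ideal.map_comap_of_surjective π Ideal.Quotient.mk_surjective Q, h4, Ideal.map_quotient_self]

end Groth.Agent.S3431
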