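import Groth.Statements.S3433
import Mathlib
import Groth.Agent.S2011
-- import your own Groth.Agent.* helpers here

set_option autoImplicit false
universe u
open EGA43

namespace Groth.Agent.S3433

/-- Let A be a Noetherian local ring with maximal ideal m and let Y be the punctured spectrum Spec A ∖
{m}. Then Y is a Jacobson space, and a point p of Y is closed in Y if and only if dim A/p = 1. -/
theorem result (A : Type u) [CommRing A] [IsNoetherianRing A] [IsLocalRing A] :
    JacobsonSpace ↥({IsLocalRing.closedPoint A}ᶜ : Set (PrimeSpectrum A)) ∧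
      ∀ p : ↥({IsLocalRing.closedPoint A}ᶜ : Set (PrimeSpectrum A)),
        IsClosed ({p} : Set ↥({IsLocalRing.closedPoint A}ᶜ : Set (PrimeSpectrum A))) ↔
          ringKrullDim (A ⧸ p.1.asIdeal) = 1 := by
  classical
  set Y : Set (PrimeSpectrum A) := {IsLocalRing.closedPoint A}ᶜ
  refine ⟨?_, fun p => ?_⟩
  · let U : IsLocalRing.maximalIdeal A → TopologicalSpace.Opens Y := fun f =>
      ⟨Subtype.val ⁻¹' (PrimeSpectrum.basicOpen (f : A) : Set (PrimeSpectrum A)),
        (PrimeSpectrum.basicOpen (f : A)).2.preimage continuous_subtype_val⟩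
    have hU : TopologicalSpace.IsOpenCover U := by
      refine TopologicalSpace.IsOpenCover.mk (eq_top_iff.2 fun q _ => ?_)
      rw [TopologicalSpace.Opens.mem_iSup]
      by_contra hall
      push Not at hall
      refine q.2 (PrimeSpectrum.ext (le_antisymm (IsLocalRing.le_maximalIdeal q.1.2.ne_top) fun f hf => ?_))
      by_contra hfq
      exact hall ⟨f, hf⟩ hfq
    rw [hU.jacobsonSpace_iff]
    intro f
    haveI : IsJacobsonRing (Localization.Away (f : A)) :=
      S2011.result A (IsLocalRing.maximalIdeal A) (IsLocalRing.maximalIdeal_le_jacobson ⊥) f f.2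
    have hmem : ∀ x : PrimeSpectrum (Localization.Away (f : A)),
        PrimeSpectrum.comap (algebraMap A (Localization.Away (f : A))) x ∈
          (PrimeSpectrum.basicOpen (f : A) : Set (PrimeSpectrum A)) := fun x => by
      rw [← PrimeSpectrum.localization_away_comap_range (Localization.Away (f : A)) (f : A)]
      exact ⟨x, rfl⟩
    let h₁ : PrimeSpectrum (Localization.Away (f : A)) ≃ₜ
        (PrimeSpectrum.basicOpen (f : A) : Set (PrimeSpectrum A)) :=
      (PrimeSpectrum.localization_away_isOpenEmbedding (Localization.Away (f : A)) (f : A)).isEmbedding.toHomeomorph.trans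
        (Homeomorph.setCongr (PrimeSpectrum.localization_away_comap_range _ (f : A)))
    let g : U f → (PrimeSpectrum.basicOpen (f : A) : Set (PrimeSpectrum A)) := fun x => ⟨x.1.1, x.2⟩
    have hg : Topology.IsOpenEmbedding g := by
      have hgc : Continuous g :=
        Continuous.subtype_mk (continuous_subtype_val.comp continuous_subtype_val) _
      have hgv : Topology.IsEmbedding (Subtype.val ∘ g) :=
        show Topology.IsEmbedding (fun x : U f => (x.1.1 : PrimeSpectrum A)) from
          Topology.IsEmbedding.comp (g := fun y : Y => (y : PrimeSpectrum A))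
            Topology.IsEmbedding.subtypeVal Topology.IsEmbedding.subtypeVal
      refine ⟨Topology.IsEmbedding.of_comp hgc continuous_subtype_val hgv, ?_⟩
      have hr : Set.range g = Set.univ := by
        refine Set.eq_univ_of_forall fun ⟨x, hx⟩ => ?_
        have hxY : x ∈ Y := fun h => by
          rw [Set.mem_singleton_iff] at h
          subst h
          exact hx f.2
        exact ⟨⟨⟨x, hxY⟩, hx⟩, rfl⟩
      rw [hr]
      exact isOpen_univ
    exact JacobsonSpace.of_isOpenEmbedding (h₁.symm.isOpenEmbedding.comp hg)
  · obtain ⟨⟨q, hq⟩, hqY⟩ := p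
    have hqm : q ≠ IsLocalRing.maximalIdeal A := fun h => hqY (PrimeSpectrum.ext h)
    have hqlt : q < IsLocalRing.maximalIdeal A :=
      lt_of_le_of_ne (IsLocalRing.le_maximalIdeal hq.ne_top) hqm
    have hiff : ringKrullDim (A ⧸ q) = 1 ↔ Ring.KrullDimLE 1 (A ⧸ q) := by
      rw [Ring.krullDimLE_iff]
      refine ⟨fun h => h.le.trans (by simp), fun h => ?_⟩
      have hge : (1 : WithBot ℕ∞) ≤ ringKrullDim (A ⧸ q) := by
        by_contra hlt
        rw [not_le] at hlt
        have h0 : Ring.KrullDimLE 0 (A ⧸ q) := by
          rw [Ring.krullDimLE_iff]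
          exact_mod_cast (WithBot.lt_coe_iff.1 hlt |> fun h => show ringKrullDim (A ⧸ q) ≤ (0 : WithBot ℕ∞) from by
            cases hd : ringKrullDim (A ⧸ q) with
            | bot => exact bot_le
            | coe d =>
              rw [hd] at hlt
              have : d < 1 := by exact_mod_cast hlt
              rw [ENat.lt_one_iff_eq_zero] at this
              simp [this])
        have hb : (⊥ : Ideal (A ⧸ q)).IsMaximal := Ideal.IsPrime.isMaximal' Ideal.isPrime_bot
        have hqmax : ((⊥ : Ideal (A ⧸ q)).comap (Ideal.Quotient.mk q)).IsMaximal :=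
          Ideal.comap_isMaximal_of_surjective _ Ideal.Quotient.mk_surjective
        rw [← RingHom.ker_eq_comap_bot, Ideal.mk_ker] at hqmax
        exact hqm (IsLocalRing.eq_maximalIdeal hqmax)
      exact le_antisymm (by simpa using h) hge
    rw [hiff, Ring.krullDimLE_one_iff_of_noZeroDivisors]
    constructor
    · intro hcl I hI0 hI
      have hle : q ≤ I.comap (Ideal.Quotient.mk q) := fun a ha => by
        rw [Ideal.mem_comap, Ideal.Quotient.eq_zero_iff_mem.2 ha]; exact I.zero_mem
      have hne : I.comap (Ideal.Quotient.mk q) ≠ q := fun h => hI0 (by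
        rw [← Ideal.map_comap_of_surjective _ Ideal.Quotient.mk_surjective I, h, Ideal.map_quotient_self])
      by_contra hmax
      have hY' : (⟨I.comap (Ideal.Quotient.mk q), Ideal.IsPrime.comap _⟩ : PrimeSpectrum A) ∈ Y := by
        intro h
        rw [Set.mem_singleton_iff] at h
        have h' : I.comap (Ideal.Quotient.mk q) = IsLocalRing.maximalIdeal A := congrArg PrimeSpectrum.asIdeal h
        refine hmax ?_
        rw [← Ideal.map_comap_of_surjective _ Ideal.Quotient.mk_surjective I, h']
        exact (Ideal.map_eq_top_or_isMaximal_of_surjective _ Ideal.Quotient.mk_surjective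
          (IsLocalRing.maximalIdeal.isMaximal A)).resolve_left (by
            rw [← h', Ideal.map_comap_of_surjective _ Ideal.Quotient.mk_surjective]; exact hI.ne_top)
      have hspec : (⟨⟨q, hq⟩, hqY⟩ : Y) ⤳ ⟨_, hY'⟩ :=
        Topology.IsInducing.subtypeVal.specializes_iff.1 ((PrimeSpectrum.le_iff_specializes _ _).1 hle)
      have := hspec.mem_closed hcl rfl
      rw [Set.mem_singleton_iff] at this
      exact hne (congrArg (fun z : Y => z.1.asIdeal) this)
    · intro hdim
      have heq : ({⟨⟨q, hq⟩, hqY⟩} : Set Y) = Subtype.val ⁻¹' PrimeSpectrum.zeroLocus (q : Set A) := by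
        ext ⟨⟨P, hP⟩, hPY⟩
        simp only [Set.mem_singleton_iff, Set.mem_preimage, PrimeSpectrum.mem_zeroLocus, SetLike.coe_subset_coe]
        refine ⟨fun h => ?_, fun h => ?_⟩
        · have := congrArg (fun z : Y => z.1.asIdeal) h
          exact this.ge
        · by_contra hne
          have hPq : P ≠ q := fun e => hne (Subtype.ext (PrimeSpectrum.ext e))
          haveI := hP
          have hmp : (P.map (Ideal.Quotient.mk q)).IsPrime :=
            Ideal.map_isPrime_of_surjective Ideal.Quotient.mk_surjective (by rwa [Ideal.mk_ker])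
          have hcm : (P.map (Ideal.Quotient.mk q)).comap (Ideal.Quotient.mk q) = P := by
            rw [Ideal.comap_map_of_surjective _ Ideal.Quotient.mk_surjective, ← RingHom.ker_eq_comap_bot,
              Ideal.mk_ker, sup_eq_left.2 h]
          have hmax := hdim _ (fun e => hPq (by
            rw [← hcm, e, ← RingHom.ker_eq_comap_bot, Ideal.mk_ker])) hmp
          have hPmax : P.IsMaximal := hcm ▸ Ideal.comap_isMaximal_of_surjective _ Ideal.Quotient.mk_surjective
          exact hPY (PrimeSpectrum.ext (IsLocalRing.eq_maximalIdeal hPmax))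
      rw [heq]
      exact (PrimeSpectrum.isClosed_zeroLocus _).preimage continuous_subtype_val

end Groth.Agent.S3433
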