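import Groth.Statements.S3434
import Groth.Agent.UnivClosed.ProperNhd
-- import your own Groth.Agent.* helpers here

set_option autoImplicit false
open CategoryTheory AlgebraicGeometry
universe u
open EGA43

namespace Groth.Agent.S3434

/-- Let Y be an integral locally Noetherian scheme, X an integral scheme, f : X ⟶ Y separated, dominant
and of finite type, and y a point of Y; write K for the function field of X (the local ring at its
generic point ξ), into which O_{Y,y} maps through O_{Y,f ξ}. Then f is proper over some open
neighbourhood of y if and only if every discrete valuation ring of K which dominates (the image of)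
O_{Y,y} dominates (the image of) O_{X,x} for some point x of X; such an x lies over y. -/
theorem result {X Y : Scheme.{u}} [IsIntegral X] [IsIntegral Y] [IsLocallyNoetherian Y]
    (f : X ⟶ Y) [IsSeparated f] [IsDominant f] [LocallyOfFiniteType f] [QuasiCompact f] (y : Y)
    (hξ : f.base (genericPoint X) ⤳ y) :
    (∃ U : Y.Opens, y ∈ U ∧ IsProper (f ∣_ U)) ↔
      ∀ A : ValuationSubring X.functionField, IsDiscreteValuationRing A →
        (∀ r : Y.presheaf.stalk y, A.valuation ((Y.presheaf.stalkSpecializes hξ ≫ f.stalkMap (genericPoint X)) r) ≤ 1) →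
        (∀ r ∈ IsLocalRing.maximalIdeal (Y.presheaf.stalk y),
            A.valuation ((Y.presheaf.stalkSpecializes hξ ≫ f.stalkMap (genericPoint X)) r) < 1) →
        ∃ x : X, f.base x = y ∧
          (∀ r : X.presheaf.stalk x, A.valuation (X.presheaf.stalkSpecializes (genericPoint_specializes x) r) ≤ 1) ∧
          (∀ r ∈ IsLocalRing.maximalIdeal (X.presheaf.stalk x),
            A.valuation (X.presheaf.stalkSpecializes (genericPoint_specializes x) r) < 1) := by
  let res := (X.residue (genericPoint X)).hom
  have hres : Function.Bijective res := ⟨RingHom.injective _, Ideal.Quotient.mk_surjective⟩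
  let inv : X.residueField (genericPoint X) →+* X.functionField := (RingEquiv.ofBijective res hres).symm.toRingHom
  have hinv : ∀ a, inv (res a) = a := fun a => (RingEquiv.ofBijective res hres).symm_apply_apply a
  constructor
  · rintro ⟨U, hyU, hU⟩ A hA hmem hdom
    let A' : ValuationSubring (X.residueField (genericPoint X)) := A.comap inv
    have hmem' : ∀ a, (Y.presheaf.stalkSpecializes hξ ≫ f.stalkMap (genericPoint X) ≫ X.residue _) a ∈ A' :=
      fun a => by
        change inv (res _) ∈ A
        rw [hinv]
        exact (A.valuation_le_one_iff _).mp (hmem a)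
    let ψ : Y.presheaf.stalk y ⟶ CommRingCat.of A' :=
      CommRingCat.ofHom ((Y.presheaf.stalkSpecializes hξ ≫ f.stalkMap (genericPoint X) ≫ X.residue _).hom.codRestrict A'.toSubring hmem')
    let eA : A' →+* A := (inv.comp A'.subtype).codRestrict A.toSubring fun a => a.2
    haveI : IsLocalHom ψ.hom := ⟨fun a ha => by
      by_contra h
      have h1 : eA (ψ a) = (⟨_, (A.valuation_le_one_iff _).mp (hmem a)⟩ : A) := Subtype.ext (hinv _)
      have h2 := ha.map eA
      rw [h1, ValuationSubring.valuation_eq_one_iff] at h2
      exact (hdom a h).ne h2⟩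
    have hξU : genericPoint X ∈ f ⁻¹ᵁ U := hξ.mem_open U.isOpen hyU
    let y' := Spec.map ψ ≫ Y.fromSpecStalk y
    have hy'c : y' (IsLocalRing.closedPoint A') = y := by
      rw [Scheme.Hom.comp_apply, show Spec.map ψ (IsLocalRing.closedPoint A') = IsLocalRing.closedPoint (Y.presheaf.stalk y)
        from IsLocalRing.comap_closedPoint ψ.hom]
      exact Scheme.fromSpecStalk_closedPoint
    let yU := IsOpenImmersion.lift U.ι y' (by
      rintro _ ⟨a, rfl⟩
      rw [Scheme.Opens.range_ι]
      exact ((IsLocalRing.specializes_closedPoint a).map y'.continuous).mem_open U.isOpen (hy'c.symm ▸ hyU))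
    have hyU' : yU ≫ U.ι = y' := IsOpenImmersion.lift_fac _ _ _
    let i₁ := IsOpenImmersion.lift (f ⁻¹ᵁ U).ι (X.fromSpecResidueField (genericPoint X)) (by
      rintro _ ⟨a, rfl⟩
      rw [Scheme.Opens.range_ι, Scheme.fromSpecResidueField_apply]
      exact hξU)
    have hi₁ : i₁ ≫ (f ⁻¹ᵁ U).ι = X.fromSpecResidueField (genericPoint X) := IsOpenImmersion.lift_fac _ _ _
    have hsq : i₁ ≫ (f ∣_ U) = Spec.map (CommRingCat.ofHom A'.subtype) ≫ yU := by
      rw [← cancel_mono U.ι, Category.assoc, morphismRestrict_ι, reassoc_of% hi₁, Category.assoc, hyU',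
        ← Spec.map_comp_assoc, show ψ ≫ CommRingCat.ofHom A'.subtype =
          Y.presheaf.stalkSpecializes hξ ≫ f.stalkMap (genericPoint X) ≫ X.residue _ from rfl]
      simp only [Spec.map_comp, Category.assoc]
      rw [Scheme.SpecMap_stalkSpecializes_fromSpecStalk, Scheme.SpecMap_stalkMap_fromSpecStalk]
      simp [Scheme.fromSpecResidueField]
    have hv : ValuativeCriterion (f ∣_ U) := by
      have := hU
      rw [IsProper.eq_valuativeCriterion] at this
      exact this.1.1.1
    obtain ⟨hu⟩ := hv { R := A', K := X.residueField (genericPoint X), i₁ := i₁, i₂ := yU, commSq := ⟨hsq⟩ }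
    let l := hu.default.l ≫ (f ⁻¹ᵁ U).ι
    have hl1 : Spec.map (CommRingCat.ofHom A'.subtype) ≫ l = X.fromSpecResidueField (genericPoint X) := by
      change Spec.map _ ≫ hu.default.l ≫ _ = _
      exact (Category.assoc _ _ _).symm.trans ((congrArg (· ≫ (f ⁻¹ᵁ U).ι) hu.default.fac_left).trans hi₁)
    have hl2 : l ≫ f = y' := by
      rw [← hyU', Category.assoc, ← morphismRestrict_ι]
      exact (Category.assoc _ _ _).symm.trans (congrArg (· ≫ U.ι) hu.default.fac_right)
    let x := l (IsLocalRing.closedPoint A')
    let θ : X.presheaf.stalk x ⟶ CommRingCat.of A' := Scheme.stalkClosedPointTo l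
    have hθl : Spec.map θ ≫ X.fromSpecStalk x = l :=
      Scheme.Spec_stalkClosedPointTo_fromSpecStalk (R := CommRingCat.of A') l
    have hθ : θ ≫ CommRingCat.ofHom A'.subtype =
        X.presheaf.stalkSpecializes (genericPoint_specializes x) ≫ X.residue _ := by
      apply Spec.map_injective
      rw [← cancel_mono (X.fromSpecStalk x), Spec.map_comp, Category.assoc, hθl, hl1, Spec.map_comp,
        Category.assoc, Scheme.SpecMap_stalkSpecializes_fromSpecStalk]
      rfl
    have hθ' : ∀ b, (eA (θ b) : X.functionField) = X.presheaf.stalkSpecializes (genericPoint_specializes x) b := by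
      intro b
      change inv ((θ b : A') : X.residueField (genericPoint X)) = _
      rw [show ((θ b : A') : X.residueField (genericPoint X)) =
        res (X.presheaf.stalkSpecializes (genericPoint_specializes x) b) from
          congrArg (fun g : X.presheaf.stalk x ⟶ X.residueField (genericPoint X) => g b) hθ, hinv]
    refine ⟨x, ?_, fun b => (hθ' b) ▸ (A.valuation_le_one_iff _).mpr (eA (θ b)).2, fun b hb => ?_⟩
    · rw [← Scheme.Hom.comp_apply, hl2, hy'c]
    · rw [← hθ' b, ← A.valuation_lt_one_iff]
      haveI : IsLocalHom θ.hom := Scheme.isLocalHom_stalkClosedPointTo' l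
      have h1 : θ b ∈ IsLocalRing.maximalIdeal A' := map_nonunit θ.hom b hb
      rw [IsLocalRing.mem_maximalIdeal, mem_nonunits_iff] at h1 ⊢
      intro h2
      apply h1
      have h3 := h2.map ((res.comp A.subtype).codRestrict A'.toSubring fun a => by
        change inv (res _) ∈ A
        rw [hinv]; exact a.2)
      rwa [show ((res.comp A.subtype).codRestrict A'.toSubring _) (eA (θ b)) = θ b from
        Subtype.ext ((RingEquiv.ofBijective res hres).apply_symm_apply _)] at h3
  · intro H
    refine UnivClosed.exists_proper_nhd f y hξ fun A' hA' hmem hdom => ?_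
    let A : ValuationSubring X.functionField := A'.comap res
    let e : A ≃+* A' := RingEquiv.ofBijective ((res.comp A.subtype).codRestrict A'.toSubring fun a => a.2)
      ⟨fun a b hab => Subtype.ext (hres.1 (congrArg Subtype.val hab)), fun a => by
        obtain ⟨b, hb⟩ := hres.2 a
        exact ⟨⟨b, show res b ∈ A' from hb ▸ a.2⟩, Subtype.ext hb⟩⟩
    haveI := hA'
    have hA : IsDiscreteValuationRing A :=
      IsDiscreteValuationRing.RingEquivClass.isDiscreteValuationRing e.symm
    obtain ⟨x, hxy, hx, -⟩ := H A hA (fun r => (A.valuation_le_one_iff _).mpr (hmem r)) (fun r hr => by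
      have hr' : (Y.presheaf.stalkSpecializes hξ ≫ f.stalkMap (genericPoint X)) r ∈ A := hmem r
      rw [show (Y.presheaf.stalkSpecializes hξ ≫ f.stalkMap (genericPoint X)) r = ((⟨_, hr'⟩ : A) : X.functionField) from rfl,
        ← A.valuation_lt_one_iff, IsLocalRing.mem_maximalIdeal, mem_nonunits_iff]
      intro hu
      have h1 := hu.map e
      rw [ValuationSubring.valuation_eq_one_iff] at h1
      exact (hdom r hr).ne h1)
    exact ⟨x, hxy, fun b => (A.valuation_le_one_iff _).mp (hx b)⟩

end Groth.Agent.S3434
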