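import Groth.Statements.S3435
-- import your own Groth.Agent.* helpers here

set_option autoImplicit false
universe u
open EGA41

namespace Groth.Agent.S3435

open TensorProduct in
/-- Let Λ → A → B → C be ring homomorphisms. The homomorphism Ω_{B/Λ} ⊗_B C → Ω_{B/A} ⊗_B C maps the
imperfection module Υ_{C/B/Λ} (the kernel of Ω_{B/Λ} ⊗_B C → Ω_{C/Λ}) onto the imperfection module
Υ_{C/B/A} (the kernel of Ω_{B/A} ⊗_B C → Ω_{C/A}): every element of Υ_{C/B/A} is the image of some
element of Υ_{C/B/Λ}. -/
theorem result (Λ A B C : Type u) [CommRing Λ] [CommRing A] [CommRing B] [CommRing C]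
    [Algebra Λ A] [Algebra Λ B] [Algebra Λ C] [Algebra A B] [Algebra A C] [Algebra B C]
    [IsScalarTower Λ A B] [IsScalarTower Λ A C] [IsScalarTower Λ B C] [IsScalarTower A B C] :
    ∀ ω ∈ EGA41.imperfection A B C, ∃ η ∈ EGA41.imperfection Λ B C,
      (KaehlerDifferential.map Λ A B B).baseChange C η = ω := by
  intro ω hω
  have hsurjC : Function.Surjective ((KaehlerDifferential.map Λ A B B).baseChange C) := by
    rw [LinearMap.baseChange_eq_ltensor]
    exact LinearMap.lTensor_surjective C (KaehlerDifferential.map_surjective Λ A B)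
  obtain ⟨η0, rfl⟩ := hsurjC ω
  have hsq : ∀ η, KaehlerDifferential.mapBaseChange A B C
      ((KaehlerDifferential.map Λ A B B).baseChange C η) =
        KaehlerDifferential.map Λ A C C (KaehlerDifferential.mapBaseChange Λ B C η) := by
    intro η
    induction η using TensorProduct.induction_on with
    | zero => simp
    | tmul c u =>
      rw [LinearMap.baseChange_tmul, KaehlerDifferential.mapBaseChange_tmul,
        KaehlerDifferential.mapBaseChange_tmul, map_smul]
      congr 1
      have hu : u ∈ Submodule.span B (Set.range (KaehlerDifferential.D Λ B)) := by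
        rw [KaehlerDifferential.span_range_derivation]; trivial
      induction hu using Submodule.span_induction with
      | mem z hz => obtain ⟨b, rfl⟩ := hz; simp
      | zero => simp
      | add _ _ _ _ h1 h2 => simp only [map_add, h1, h2]
      | smul b z _ h => rw [map_smul, map_smul, map_smul, h, LinearMap.map_smul_of_tower]
    | add a b ha hb => simp only [map_add, ha, hb]
  have h0 : KaehlerDifferential.map Λ A C C (KaehlerDifferential.mapBaseChange Λ B C η0) = 0 := by
    rw [← hsq]
    exact hω
  obtain ⟨θ, hθ⟩ := (KaehlerDifferential.exact_mapBaseChange_map Λ A C _).1 h0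
  have key : ∀ θ : C ⊗[A] Ω[A⁄Λ], ∃ η : C ⊗[B] Ω[B⁄Λ],
      (KaehlerDifferential.map Λ A B B).baseChange C η = 0 ∧
        KaehlerDifferential.mapBaseChange Λ B C η = KaehlerDifferential.mapBaseChange Λ A C θ := by
    intro θ
    induction θ using TensorProduct.induction_on with
    | zero => exact ⟨0, by simp, by simp⟩
    | tmul c u =>
      refine ⟨c ⊗ₜ KaehlerDifferential.map Λ Λ A B u, ?_, ?_⟩
      · rw [LinearMap.baseChange_tmul]
        have h2 : KaehlerDifferential.map Λ A B B (KaehlerDifferential.map Λ Λ A B u) = 0 :=
          (KaehlerDifferential.exact_mapBaseChange_map Λ A B _).2 ⟨1 ⊗ₜ u, by simp⟩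
        rw [h2, TensorProduct.tmul_zero]
      · rw [KaehlerDifferential.mapBaseChange_tmul, KaehlerDifferential.mapBaseChange_tmul]
        congr 1
        have hu : u ∈ Submodule.span A (Set.range (KaehlerDifferential.D Λ A)) := by
          rw [KaehlerDifferential.span_range_derivation]; trivial
        induction hu using Submodule.span_induction with
        | mem z hz =>
          obtain ⟨a, rfl⟩ := hz
          simp [← IsScalarTower.algebraMap_apply]
        | zero => simp
        | add _ _ _ _ h1 h2 => simp only [map_add, h1, h2]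
        | smul a z _ h => rw [map_smul, LinearMap.map_smul_of_tower, h, map_smul]
    | add a b ha hb =>
      obtain ⟨x, hx, hx'⟩ := ha
      obtain ⟨y, hy, hy'⟩ := hb
      exact ⟨x + y, by rw [map_add, hx, hy, add_zero], by rw [map_add, map_add, hx', hy']⟩
  obtain ⟨η1, h1, h2⟩ := key θ
  refine ⟨η0 - η1, ?_, by rw [map_sub, h1, sub_zero]⟩
  rw [EGA41.imperfection, LinearMap.mem_ker, map_sub, h2, hθ, sub_self]

end Groth.Agent.S3435
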