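import Groth.Statements.S3437
import Groth.Agent.FlatDescent.CMFibre.Main

set_option autoImplicit false
open CategoryTheory AlgebraicGeometry
universe u
open EGA43

namespace Groth.Agent.S3437

/-- Let f : X ⟶ S be of finite presentation (locally of finite presentation, quasi-compact and
quasi-separated). Then the set of points s of S such that every local ring of the fibre X_s is
Cohen–Macaulay is locally constructible in S. -/
theorem result {X S : Scheme.{u}} (f : X ⟶ S)
    [LocallyOfFinitePresentation f] [QuasiCompact f] [QuasiSeparated f] :
    Topology.IsLocallyConstructible {s : S |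
      ∀ z : ↥(f.fiber s), LocCoh.IsCohenMacaulayLocalRing ((f.fiber s).presheaf.stalk z)} := by
  have compl : ∀ {T : Scheme.{u}} {s : Set T}, Topology.IsLocallyConstructible s → Topology.IsLocallyConstructible sᶜ :=
    fun hs x => let ⟨U, h1, h2, h3⟩ := hs x; ⟨U, h1, h2, h3.compl⟩
  have h := compl (f.isLocallyConstructible_image
    (compl (Groth.FlatDescent.CMFibre.isLocallyConstructible_locus f)))
  convert h using 1
  ext s
  constructor
  · rintro hs ⟨x, hx, rfl⟩
    exact hx (hs (f.asFiber x))
  · intro hs z
    rw [← Groth.FlatDescent.CMFibre.mem_locus_fiberι]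
    by_contra hz
    refine hs ⟨f.fiberι s z, hz, ?_⟩
    have : f.fiberι s z ∈ Set.range (f.fiberι s) := ⟨z, rfl⟩
    rwa [Scheme.Hom.range_fiberι] at this

end Groth.Agent.S3437
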