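import Groth.Statements.S3440
import Groth.Agent.GeomUnib.OpenDim
import Groth.Agent.GeomUnib.CMFibre
import Groth.Agent.S3447
-- import your own Groth.Agent.* helpers here

set_option autoImplicit false
open CategoryTheory AlgebraicGeometry
universe u
open EGA43

namespace Groth.Agent.S3440

/-- Let Y be locally Noetherian, f : X ⟶ Y locally of finite type, x a point of X and y = f x; suppose
O_{Y,y} is regular and O_{X,x} is Cohen–Macaulay. The following are equivalent: a) O_{Y,y} ⟶ O_{X,x}
is flat and the local ring of X_y at x is Cohen–Macaulay; b) O_{Y,y} ⟶ O_{X,x} is flat; c) the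
restriction of f to some open neighbourhood of x is universally open; d) f is open at the generic
point of every irreducible component of X_y through x; e') dim O_{X,x} = dim O_{Y,y} + dim
O_{X_y,x}. -/
theorem result {X Y : Scheme.{u}} [IsLocallyNoetherian Y] (f : X ⟶ Y)
    [LocallyOfFiniteType f] (x : X) (hreg : IsRegularLocalRing (Y.presheaf.stalk (f.base x)))
    (hCM : LocCoh.IsCohenMacaulayLocalRing (X.presheaf.stalk x)) :
    List.TFAE [
      (f.stalkMap x).hom.Flat ∧ LocCoh.IsCohenMacaulayLocalRing ((f.fiber (f.base x)).presheaf.stalk (f.asFiber x)),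
      (f.stalkMap x).hom.Flat,
      ∃ U : X.Opens, x ∈ U ∧ UniversallyOpen (U.ι ≫ f),
      (∀ z : ↥(f.fiber (f.base x)), f.asFiber x ∈ closure {z} →
          (∀ z' : ↥(f.fiber (f.base x)), z ∈ closure {z'} → z' = z) →
          EGA43.IsOpenAt f.base ((f.fiberι (f.base x)).base z)),
      ringKrullDim (X.presheaf.stalk x) =
        ringKrullDim (Y.presheaf.stalk (f.base x)) + ringKrullDim ((f.fiber (f.base x)).presheaf.stalk (f.asFiber x)) ] := by
  haveI := LocallyOfFiniteType.isLocallyNoetherian f
  haveI : LocallyOfFinitePresentation f := LocallyOfFinitePresentation.iff_locallyOfFiniteType.2 inferInstance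
  tfae_have 1 → 2 := fun h => h.1
  tfae_have 2 → 3 := by
    intro h
    let U : X.Opens := ⟨{z : X | (f.stalkMap z).hom.Flat}, Groth.FlatDescent.isOpen_flatLocus_hom f⟩
    haveI : Flat (U.ι ≫ f) := (Flat.iff_flat_stalkMap _).2 fun z => by
      rw [Scheme.Hom.stalkMap_comp]
      exact RingHom.Flat.comp (z.2 : (f.stalkMap z.1).hom.Flat) (Flat.stalkMap U.ι z)
    exact ⟨U, h, inferInstance⟩
  tfae_have 3 → 4 := by
    rintro ⟨U, hxU, _⟩ z hz - N hN
    have hzx : (f.fiberι (f.base x)).base z ⤳ x := by
      have h1 := (specializes_iff_mem_closure.2 hz).map (f.fiberι (f.base x)).continuous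
      rwa [f.fiberι_asFiber] at h1
    let z' : ↥U.toScheme := ⟨_, hzx.mem_open U.2 hxU⟩
    refine Filter.mem_of_superset ((U.ι ≫ f).isOpenMap.image_mem_nhds
      (U.ι.continuous.continuousAt.preimage_mem_nhds hN : U.ι ⁻¹' N ∈ nhds z')) ?_
    rintro _ ⟨w, hw, rfl⟩
    exact ⟨_, hw, rfl⟩
  tfae_have 4 → 5 := by
    intro h
    refine le_antisymm ?_ (GeomUnib.OpenDim.add_le_ringKrullDim_stalk f x h)
    have h1 := S3447.aux f (f.base x) (f.asFiber x)
    have hx : f.fiberι (f.base x) (f.asFiber x) = x := f.fiberι_asFiber x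
    rw [congrArg (fun p => ringKrullDim (X.presheaf.stalk p)) hx,
      congrArg (fun p => ringKrullDim (Y.presheaf.stalk (f p))) hx] at h1
    exact h1
  tfae_have 5 → 1 := GeomUnib.CMFibre.flat_and_cm_of_eq f (f.base x) (f.asFiber x) x (f.fiberι_asFiber x) hreg hCM
  tfae_finish

end Groth.Agent.S3440
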