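import Groth.Statements.S3456
import Groth.Agent.GeomUnib.EquidimComponents
import Groth.Agent.GeomUnib.AffineSpaceChart
-- import your own Groth.Agent.* helpers here

set_option autoImplicit false
open CategoryTheory AlgebraicGeometry
universe u
open EGA43

namespace Groth.Agent.S3456

/-- Let Y be locally Noetherian, f : X ⟶ Y locally of finite type and x a point of X; let X_j run over
the (finitely many) irreducible components of X containing x. Then f is equidimensional at x if and
only if there is a natural number e such that for every X_j: the closure Y_j of f(X_j) is an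
irreducible component of Y; for every point η of Y whose closure equals Y_j (i.e. the generic point
of Y_j), the fibre X_j ∩ f⁻¹(η) has topological Krull dimension e; and the local dimension at x of
X_j ∩ f⁻¹(f x) is e. All subsets of X carry the induced topology. -/
theorem result {X Y : Scheme.{u}} [IsLocallyNoetherian Y] (f : X ⟶ Y)
    [LocallyOfFiniteType f] (x : X) :
    EGA43.IsEquidimAt f x ↔
      ∃ e : ℕ, ∀ Xj ∈ irreducibleComponents (X : Type u), ∀ hx : x ∈ Xj,
        closure (f.base '' Xj) ∈ irreducibleComponents (Y : Type u) ∧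
        (∀ η : Y, closure ({η} : Set Y) = closure (f.base '' Xj) →
          topologicalKrullDim ↥(Xj ∩ f.base ⁻¹' {η}) = e) ∧
        FlatMor.localDim ↥(Xj ∩ f.base ⁻¹' {f.base x}) ⟨x, ⟨hx, Set.mem_singleton (f.base x)⟩⟩ = e := by
  haveI := LocallyOfFiniteType.isLocallyNoetherian f
  constructor
  · intro hf
    obtain ⟨e, U, hxU, he, hz, -⟩ := GeomUnib.exists_equidim_data' f hf
    refine ⟨e, fun Xj hXj hx => ?_⟩
    obtain ⟨ξ, hξc, hξ⟩ := FibDim.exists_isMax'_component hXj
    subst hξc
    have hξx : ξ ⤳ x := specializes_iff_mem_closure.2 hx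
    obtain ⟨hd, hfξ, -⟩ := hz ξ (hξx.mem_open U.2 hxU) fun b hb => (hξ b hb).symm ▸ specializes_rfl
    have hcl : closure (f.base '' closure {ξ}) = closure {f.base ξ} :=
      ((show IsGenericPoint ξ (closure {ξ}) from rfl).image f.continuous).def.symm
    refine ⟨hcl ▸ FibDim.closure_mem_components fun z hz' => (hz'.antisymm (hfξ z hz')).eq, fun η hη => ?_, ?_⟩
    · obtain rfl : η = f.base ξ := IsGenericPoint.eq (show IsGenericPoint η _ from rfl) (hη.trans hcl).symm
      exact hd
    · obtain ⟨m, hm, -, hall⟩ := FibreDim.exists_localDim_eq f isClosed_closure (f.base x) x ⟨hx, rfl⟩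
      rw [hm]
      obtain ⟨k, hk, -, hallk⟩ := FibreDim.exists_fibreDimAt_eq f x
      obtain ⟨m', hm', ⟨w', hw'Z, hw', hw'x, hwm⟩, -⟩ := FibreDim.exists_localDim_eq f isClosed_closure (f.base x) x
        (Z := closure {ξ}) ⟨hx, rfl⟩
      obtain rfl : m' = m := by exact_mod_cast hm'.symm.trans hm
      obtain ⟨w, hw, hξw, hwx, hle⟩ := GeomUnib.DimFormulaPoints.exists_fibre_point f hξx
      have h1 := hall w hξw.mem_closure hw hwx
      have h2 := hallk w' hw' hw'x
      rw [hwm, ← hk, he] at h2
      rw [hd] at hle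
      exact le_antisymm h2 (hle.trans h1)
  · rintro ⟨e, h⟩
    have hcomp : ∀ ξ : X, FibDim.IsMax' ξ → ξ ⤳ x →
        FibDim.IsMax' (f.base ξ) ∧ FibreDim.fdim f ξ = (e : WithBot ℕ∞) := fun ξ hξ hξx => by
      obtain ⟨h1, h2, -⟩ := h (closure {ξ}) (FibDim.closure_mem_components hξ) hξx.mem_closure
      have hg := (show IsGenericPoint ξ (closure {ξ}) from rfl).image f.continuous
      exact ⟨fun z hz => (hz.antisymm (GeomUnib.maximal_of_component _ _ h1 hg z hz)).eq, h2 _ hg.def⟩
    obtain ⟨k, hk, ⟨w, hw, hwx, hwk⟩, hallk⟩ := FibreDim.exists_fibreDimAt_eq f x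
    obtain ⟨ξ, hξw, hξ⟩ := FibDim.exists_isMax'_specializes w
    obtain ⟨-, -, h3⟩ := h (closure {ξ}) (FibDim.closure_mem_components hξ) (hξw.trans hwx).mem_closure
    obtain ⟨m, hm, ⟨v, -, hv, hvx, hvm⟩, hall⟩ := FibreDim.exists_localDim_eq f isClosed_closure (f.base x) x
      (Z := closure {ξ}) ⟨(hξw.trans hwx).mem_closure, rfl⟩
    obtain rfl : m = e := by exact_mod_cast hm.symm.trans h3
    have h1 := hall w hξw.mem_closure hw hwx
    have h2 := hallk v hv hvx
    rw [hwk] at h1
    rw [hvm] at h2
    refine GeomUnib.EquidimComponents.isEquidimAt_of_components f x fun ζ hζ hζx => ?_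
    obtain ⟨a, b⟩ := hcomp ζ hζ hζx
    exact ⟨a, b.trans ((le_antisymm h2 h1).trans hk.symm)⟩

end Groth.Agent.S3456
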