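import Groth.Statements.S3459
import Groth.Agent.GeomUnib.BranchKernel
import Groth.Agent.GeomUnib.GeomRedScheme
import Groth.Agent.GeomUnib.HyperplaneFibre
import Groth.Agent.BMCoh.Basic
import Groth.Agent.OpenAt.Basic
import Groth.Agent.FlatDescent.FibreDepth.Points
-- import your own Groth.Agent.* helpers here

set_option autoImplicit false
open CategoryTheory AlgebraicGeometry
universe u
open EGA43

namespace Groth.Agent.S3459

set_option backward.isDefEq.respectTransparency false

theorem mem_of_specializes {X Y : Scheme.{u}} [IrreducibleSpace Y] [IsLocallyNoetherian Y] (f : X ⟶ Y)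
    [LocallyOfFiniteType f] {zX : X} (X' : TopologicalSpace.Closeds X) (hX' : IsIrreducible (X' : Set X))
    (w : ↥(Scheme.IdealSheafData.vanishingIdeal X').subscheme)
    (hw : (Scheme.IdealSheafData.vanishingIdeal X').subschemeι.base w = zX)
    (hmax : ∀ z' : X, f.base z' = f.base zX → z' ⤳ zX → z' = zX)
    (hred : FBase.IsGeomReducedAt (f.fiberToSpecResidueField (f.base zX)) (f.asFiber zX))
    (hu : EGA43.IsUnivOpenAt ((Scheme.IdealSheafData.vanishingIdeal X').subschemeι ≫ f) w)
    {x' : X} (hx' : x' ⤳ zX) : x' ∈ (X' : Set X) := by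
  let T := (Scheme.IdealSheafData.vanishingIdeal X').subscheme
  let ι : T ⟶ X := (Scheme.IdealSheafData.vanishingIdeal X').subschemeι
  haveI : AlgebraicGeometry.IsReduced T := Groth.Agent.BMCoh.isReduced_vanishingIdeal_subscheme _
  have hrange : Set.range ι.base = (X' : Set X) := by
    rw [Scheme.IdealSheafData.range_subschemeι]
    exact Scheme.IdealSheafData.coe_support_vanishingIdeal X' ▸ rfl
  haveI : IrreducibleSpace ↥T := by
    haveI : Nonempty ↥T := ⟨w⟩
    haveI : PreirreducibleSpace ↥T := ⟨by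
      have h := hX'.isPreirreducible
      rw [← hrange, ← Set.image_univ] at h
      intro O₁ O₂ hO₁ hO₂ h₁ h₂
      obtain ⟨U₁, hU₁, rfl⟩ := ι.isEmbedding.isInducing.isOpen_iff.1 hO₁
      obtain ⟨U₂, hU₂, rfl⟩ := ι.isEmbedding.isInducing.isOpen_iff.1 hO₂
      obtain ⟨a₁, -, ha₁⟩ := h₁
      obtain ⟨a₂, -, ha₂⟩ := h₂
      obtain ⟨_, ⟨a, -, rfl⟩, ha⟩ := h U₁ U₂ hU₁ hU₂ ⟨_, ⟨a₁, trivial, rfl⟩, ha₁⟩ ⟨_, ⟨a₂, trivial, rfl⟩, ha₂⟩
      exact ⟨a, trivial, ha⟩⟩
    exact ⟨inferInstance⟩
  haveI : IsIntegral T := isIntegral_of_irreducibleSpace_of_isReduced _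
  obtain ⟨U, hU, hyU, -⟩ := exists_isAffineOpen_mem_and_subset (U := (⊤ : Y.Opens)) (x := f.base zX) trivial
  obtain ⟨V, hV, hzV, hVU⟩ := exists_isAffineOpen_mem_and_subset (U := f ⁻¹ᵁ U) (x := zX) hyU
  let W : T.Opens := ι ⁻¹ᵁ V
  have hW : IsAffineOpen W := hV.preimage ι
  have hwW : w ∈ W := show ι.base w ∈ V from hw.symm ▸ hzV
  haveI : Nonempty W := ⟨⟨w, hwW⟩⟩
  have hWU : W ≤ (ι ≫ f) ⁻¹ᵁ U := fun t ht => hVU ht
  letI := (f.appLE U V hVU).hom.toAlgebra
  letI := ((ι ≫ f).appLE U W hWU).hom.toAlgebra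
  haveI : IsNoetherianRing Γ(Y, U) := IsLocallyNoetherian.component_noetherian ⟨U, hU⟩
  haveI : Algebra.FiniteType Γ(Y, U) Γ(X, V) := f.finiteType_appLE hU hV hVU
  let φ : Γ(X, V) →ₐ[Γ(Y, U)] Γ(T, W) :=
    { (ι.appLE V W le_rfl).hom with
      commutes' := fun a => congr(($(Scheme.Hom.appLE_comp_appLE ι f U V W hVU le_rfl)).hom a) }
  have hφ : Function.Surjective φ := by
    show Function.Surjective (ι.appLE V W le_rfl).hom
    rw [← Scheme.Hom.app_eq_appLE]
    exact ι.app_surjective V hV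
  let q' := (hW.primeIdealOf ⟨w, hwW⟩).asIdeal
  let P := hV.primeIdealOf ⟨zX, hzV⟩
  have hq : q'.comap φ = P.asIdeal := by
    show q'.comap (ι.appLE V W le_rfl).hom = _
    subst hw
    exact congrArg PrimeSpectrum.asIdeal (IsAffineOpen.comap_primeIdealOf_appLE V hV W hW le_rfl hwW)
  have hPz : hV.fromSpec P = zX := hV.fromSpec_primeIdealOf _
  have hkey : ∀ Q : PrimeSpectrum Γ(X, V),
      f.base (hV.fromSpec Q) = hU.fromSpec (PrimeSpectrum.comap (f.appLE U V hVU).hom Q) := fun Q =>
    (congr($(IsAffineOpen.SpecMap_appLE_fromSpec f hU hV hVU) Q) : _).symm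
  have hsp : ∀ Q : PrimeSpectrum Γ(X, V), hV.fromSpec Q ⤳ zX ↔ Q.asIdeal ≤ P.asIdeal := fun Q => by
    rw [← hPz, hV.fromSpec.isOpenEmbedding.toIsInducing.specializes_iff, ← PrimeSpectrum.le_iff_specializes]
    rfl
  obtain ⟨R, hR⟩ : x' ∈ Set.range hV.fromSpec := by rw [hV.range_fromSpec]; exact hx'.mem_open V.2 hzV
  -- the point over the generic point of the base
  obtain ⟨a, -, ha⟩ : ∃ a ∈ (Set.univ : Set ↥T), (ι ≫ f).base a = genericPoint ↥Y := by
    have hopen : EGA43.IsOpenAt (ι ≫ f).base w :=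
      Groth.Agent.OpenAt.isOpenAt_of_isPullback (IsPullback.of_horiz_isIso (fst := 𝟙 T) (snd := ι ≫ f)
        (f := ι ≫ f) (g := 𝟙 Y) ⟨by simp⟩) hu w rfl
    obtain ⟨O, hOS, hO, hwO⟩ := mem_nhds_iff.1 (hopen Set.univ Filter.univ_mem)
    exact hOS ((genericPoint_specializes _).mem_open hO hwO)
  have hker : RingHom.ker (algebraMap Γ(Y, U) Γ(T, W)) = nilradical Γ(Y, U) := by
    refine le_antisymm ?_ fun s hs => RingHom.mem_ker.2 ((mem_nilradical.1 hs).map (algebraMap Γ(Y, U) Γ(T, W))).eq_zero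
    rw [nilradical_eq_sInf]
    refine le_sInf fun p hp => ?_
    haveI : p.IsPrime := hp
    let τ : PrimeSpectrum Γ(T, W) := ⟨⊥, Ideal.isPrime_bot⟩
    have h1 : hW.fromSpec τ ⤳ genericPoint ↥T := by
      have hg : genericPoint ↥T ∈ W := (genericPoint_specializes w).mem_open W.2 hwW
      have h := ((PrimeSpectrum.le_iff_specializes τ (hW.primeIdealOf ⟨_, hg⟩)).1 bot_le).map hW.fromSpec.continuous
      rwa [hW.fromSpec_primeIdealOf] at h
    have h2 : (ι ≫ f).base (hW.fromSpec τ) ⤳ hU.fromSpec ⟨p, hp⟩ := by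
      refine Specializes.trans ?_ (ha ▸ genericPoint_specializes _ : (ι ≫ f).base a ⤳ hU.fromSpec ⟨p, hp⟩)
      exact (h1.trans (genericPoint_specializes a)).map (ι ≫ f).continuous
    have e : (ι ≫ f).base (hW.fromSpec τ) = hU.fromSpec (PrimeSpectrum.comap ((ι ≫ f).appLE U W hWU).hom τ) :=
      (congr($(IsAffineOpen.SpecMap_appLE_fromSpec (ι ≫ f) hU hW hWU) τ) : _).symm
    have h3 := hU.fromSpec.isOpenEmbedding.toIsInducing.specializes_iff.1 (Eq.subst (motive := fun b => b ⤳ hU.fromSpec ⟨p, hp⟩) e h2)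
    exact (PrimeSpectrum.le_iff_specializes _ _).2 h3
  have hmin : ∀ r : Ideal Γ(X, V), r.IsPrime → r ≤ q'.comap φ →
      r.comap (algebraMap Γ(Y, U) Γ(X, V)) = (q'.comap φ).comap (algebraMap Γ(Y, U) Γ(X, V)) → r = q'.comap φ := by
    intro r hr hle he
    simp only [hq] at hle he ⊢
    have h1 := hmax (hV.fromSpec ⟨r, hr⟩) (by
      rw [← hPz, hkey, hkey]
      exact congrArg hU.fromSpec (PrimeSpectrum.ext he)) ((hsp _).2 hle)
    exact congrArg PrimeSpectrum.asIdeal (hV.fromSpec.isOpenEmbedding.injective (h1.trans hPz.symm))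
  have hle := Groth.Agent.GeomUnib.BranchKernel.ker_le_of_le φ hφ hker hmin
    (hq.symm ▸ Groth.Agent.GeomUnib.grAt_of_isGeomReducedAt f hU hV hVU hzV hred)
    (fun D _ _ _ => Groth.Agent.UnivOpenAt.torAt_of_isUnivOpenAt (ι ≫ f) hU hW hWU hwW hu D)
    (r := R.asIdeal) (hq.symm ▸ (hsp R).1 (hR.symm ▸ hx'))
  let R' : PrimeSpectrum Γ(T, W) := ⟨R.asIdeal.map φ.toRingHom, Ideal.map_isPrime_of_surjective hφ hle⟩
  have hR' : PrimeSpectrum.comap (ι.appLE V W le_rfl).hom R' = R := PrimeSpectrum.ext (by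
    show (R.asIdeal.map φ.toRingHom).comap φ.toRingHom = _
    rw [Ideal.comap_map_of_surjective φ.toRingHom hφ, ← RingHom.ker_eq_comap_bot, sup_eq_left.2 hle])
  rw [← hR, ← hrange]
  exact ⟨hW.fromSpec R', (congr($(IsAffineOpen.SpecMap_appLE_fromSpec ι hV hW le_rfl) R') : _).symm.trans
    (congrArg hV.fromSpec hR')⟩


/-- Let Y be an irreducible locally Noetherian scheme with generic point η, f : X ⟶ Y locally of finite
type, x a point of X and y = f x. Suppose (1) x lies on exactly one irreducible component Z of the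
fibre X_y, and (2) X_y is geometrically reduced at the generic point of Z. Call an irreducible
component X' of X containing x admissible when the local dimension at x of X' ∩ f⁻¹(y) equals that
of f⁻¹(y) and the restriction of f to X' (with its reduced structure) is universally open at the
generic points of the irreducible components of X' ∩ f⁻¹(y) containing x. Then there is at most one
admissible X'; and if X' is admissible, the fibre X_η is geometrically reduced at the generic point
of X'. -/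
theorem result {X Y : Scheme.{u}} [IrreducibleSpace Y]
    [IsLocallyNoetherian Y] (f : X ⟶ Y) [LocallyOfFiniteType f] (x : X)
    (h1 : ∃! Zc : Set ↥(f.fiber (f.base x)), Zc ∈ irreducibleComponents (↥(f.fiber (f.base x)) : Type u) ∧ f.asFiber x ∈ Zc)
    (h2 : ∀ z : ↥(f.fiber (f.base x)), f.asFiber x ∈ closure {z} →
      (∀ z' : ↥(f.fiber (f.base x)), z ∈ closure {z'} → z' = z) →
      FBase.IsGeomReducedAt (f.fiberToSpecResidueField (f.base x)) z) :
    letI adm : TopologicalSpace.Closeds X → Prop := fun X' =>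
      (X' : Set X) ∈ irreducibleComponents (X : Type u) ∧ ∃ hx : x ∈ X',
        FlatMor.localDim ↥((X' : Set X) ∩ f.base ⁻¹' {f.base x}) ⟨x, ⟨hx, Set.mem_singleton (f.base x)⟩⟩ =
          FlatMor.fibreDimAt f x ∧
        ∀ w : ↥(Scheme.IdealSheafData.vanishingIdeal X').subscheme,
          f.base ((Scheme.IdealSheafData.vanishingIdeal X').subschemeι.base w) = f.base x →
          x ∈ closure {(Scheme.IdealSheafData.vanishingIdeal X').subschemeι.base w} →
          (∀ t : X, t ∈ (X' : Set X) → f.base t = f.base x →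
              (Scheme.IdealSheafData.vanishingIdeal X').subschemeι.base w ∈ closure {t} →
              t = (Scheme.IdealSheafData.vanishingIdeal X').subschemeι.base w) →
          EGA43.IsUnivOpenAt ((Scheme.IdealSheafData.vanishingIdeal X').subschemeι ≫ f) w
    {X' : TopologicalSpace.Closeds X | adm X'}.Subsingleton ∧
      ∀ X' : TopologicalSpace.Closeds X, adm X' →
        ∀ ζ : ↥(f.fiber (genericPoint Y)), closure {(f.fiberι (genericPoint Y)).base ζ} = (X' : Set X) →
          FBase.IsGeomReducedAt (f.fiberToSpecResidueField (genericPoint Y)) ζ := by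
  classical
  obtain ⟨Zc, ⟨hZc, hxZ⟩, huniq⟩ := h1
  obtain ⟨z, hz⟩ := QuasiSober.sober hZc.1 (isClosed_of_mem_irreducibleComponents _ hZc)
  have hio := (f.fiberι (f.base x)).isEmbedding.isInducing
  let zX : X := (f.fiberι (f.base x)).base z
  have hfz : f.base zX = f.base x := (f.range_fiberι (f.base x)).le ⟨z, rfl⟩
  have hzx : zX ⤳ x := by
    have h := (hz.specializes hxZ).map (f.fiberι (f.base x)).continuous
    rwa [f.fiberι_asFiber] at h
  have hgen : ∀ w : X, f.base w = f.base x → w ⤳ x → zX ⤳ w := by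
    intro w hw hwx
    obtain ⟨t, rfl⟩ : w ∈ Set.range (f.fiberι (f.base x)) := (f.range_fiberι (f.base x)).ge hw
    have htx : t ⤳ f.asFiber x := by
      rw [← hio.specializes_iff, f.fiberι_asFiber]
      exact hwx
    obtain ⟨C, hC, htC, hCmax⟩ := exists_preirreducible (closure {t}) isIrreducible_singleton.closure.isPreirreducible
    have hCc : C ∈ irreducibleComponents ↥(f.fiber (f.base x)) :=
      ⟨⟨⟨t, htC (subset_closure rfl)⟩, hC⟩, fun D hD hCD => (hCmax D hD.isPreirreducible hCD).le⟩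
    rw [huniq C ⟨hCc, htC htx.mem_closure⟩] at htC
    exact (hz.specializes (htC (subset_closure rfl))).map (f.fiberι (f.base x)).continuous
  have hmax : ∀ z' : X, f.base z' = f.base zX → z' ⤳ zX → z' = zX := fun z' h1 h2 =>
    (h2.antisymm (hgen z' (h1.trans hfz) (h2.trans hzx))).eq
  have hred : FBase.IsGeomReducedAt (f.fiberToSpecResidueField (f.base zX)) (f.asFiber zX) := by
    refine Groth.FlatDescent.FibreDepth.fiber_cases f z
      (motive := fun y v => FBase.IsGeomReducedAt (f.fiberToSpecResidueField y) v →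
        FBase.IsGeomReducedAt (f.fiberToSpecResidueField (f.base zX)) (f.asFiber zX)) (fun h => h) ?_
    refine h2 z ?_ fun z' hz' => ?_
    · rw [hz.def]; exact hxZ
    · rw [← specializes_iff_mem_closure, ← hio.specializes_iff] at hz'
      exact (f.fiberι (f.base x)).isEmbedding.injective
        (hmax _ (((f.range_fiberι (f.base x)).le ⟨z', rfl⟩ : f.base _ = f.base x).trans hfz.symm) hz')
  have hadm : ∀ (X' : TopologicalSpace.Closeds X), ((X' : Set X) ∈ irreducibleComponents (X : Type u) ∧ ∃ hx : x ∈ X',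
        FlatMor.localDim ↥((X' : Set X) ∩ f.base ⁻¹' {f.base x}) ⟨x, ⟨hx, Set.mem_singleton (f.base x)⟩⟩ =
          FlatMor.fibreDimAt f x ∧
        ∀ w : ↥(Scheme.IdealSheafData.vanishingIdeal X').subscheme,
          f.base ((Scheme.IdealSheafData.vanishingIdeal X').subschemeι.base w) = f.base x →
          x ∈ closure {(Scheme.IdealSheafData.vanishingIdeal X').subschemeι.base w} →
          (∀ t : X, t ∈ (X' : Set X) → f.base t = f.base x →
              (Scheme.IdealSheafData.vanishingIdeal X').subschemeι.base w ∈ closure {t} →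
              t = (Scheme.IdealSheafData.vanishingIdeal X').subschemeι.base w) →
          EGA43.IsUnivOpenAt ((Scheme.IdealSheafData.vanishingIdeal X').subschemeι ≫ f) w) → ∃ w : ↥(Scheme.IdealSheafData.vanishingIdeal X').subscheme,
      (Scheme.IdealSheafData.vanishingIdeal X').subschemeι.base w = zX ∧
      EGA43.IsUnivOpenAt ((Scheme.IdealSheafData.vanishingIdeal X').subschemeι ≫ f) w := by
    rintro X' ⟨-, hxX, hdim, huo⟩
    obtain ⟨n, hn, ⟨w, hwX, hwy, hwx, hwn⟩, -⟩ :=
      Groth.Agent.FibreDim.exists_localDim_eq f X'.isClosed (f.base x) x ⟨hxX, rfl⟩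
    obtain ⟨m, hm, -, hall⟩ := Groth.Agent.FibreDim.exists_fibreDimAt_eq f x
    obtain ⟨d, hd, -⟩ := Groth.Agent.FibreDim.exists_fdim f zX
    have hmn : m = n := by
      have := hdim.symm.trans hn
      rw [hm] at this
      exact_mod_cast this
    have hdn : d ≤ n := by
      have := hall zX hfz hzx
      rw [hd, hmn] at this
      exact_mod_cast this
    have hwz : w = zX := by
      by_contra hne
      have := Groth.Agent.GeomUnib.fdim_add_one_le f (hgen w hwy hwx) (hfz.trans hwy.symm) hne hwn hd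
      omega
    subst hwz
    obtain ⟨w', hw'⟩ : zX ∈ Set.range (Scheme.IdealSheafData.vanishingIdeal X').subschemeι.base := by
      rw [Scheme.IdealSheafData.range_subschemeι, Scheme.IdealSheafData.coe_support_vanishingIdeal]
      exact hwX
    refine ⟨w', hw', huo w' (hw'.symm ▸ hfz) (hw'.symm ▸ hzx.mem_closure) fun t _ ht htc => ?_⟩
    rw [hw'] at htc ⊢
    exact hmax t (ht.trans hfz.symm) (specializes_iff_mem_closure.2 htc)
  refine ⟨fun X₁ h₁ X₂ h₂ => ?_, fun X' hX' ζ hζ => ?_⟩
  · obtain ⟨w, hw, hu⟩ := hadm X₁ h₁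
    obtain ⟨w₂, hw₂, -⟩ := hadm X₂ h₂
    obtain ⟨ξ, hξ⟩ := QuasiSober.sober h₂.1.1 X₂.isClosed
    have hzX₂ : zX ∈ (X₂ : Set X) := by
      rw [← hw₂]
      exact (Scheme.IdealSheafData.range_subschemeι _).le.trans
        (Scheme.IdealSheafData.coe_support_vanishingIdeal X₂).le ⟨w₂, rfl⟩
    have hξ₁ := Groth.Agent.S3459.mem_of_specializes f X₁ h₁.1.1 w hw hmax hred hu (hξ.specializes hzX₂)
    have hsub : (X₂ : Set X) ⊆ X₁ := hξ.def ▸ closure_minimal (Set.singleton_subset_iff.2 hξ₁) X₁.isClosed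
    exact SetLike.coe_injective (le_antisymm (h₂.1.2 h₁.1.1 hsub) hsub)
  · obtain ⟨w, hw, hu⟩ := hadm X' hX'
    have hzX' : zX ∈ (X' : Set X) := by
      rw [← hw]
      exact (Scheme.IdealSheafData.range_subschemeι _).le.trans
        (Scheme.IdealSheafData.coe_support_vanishingIdeal X').le ⟨w, rfl⟩
    have hsp : (f.fiberι (genericPoint ↥Y)).base ζ ⤳ zX := specializes_iff_mem_closure.2 (hζ.symm ▸ hzX')
    have hfu : EGA43.IsUnivOpenAt f zX := hw ▸ Groth.Agent.OpenAt.isUnivOpenAt_of_comp hu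
    have h := Groth.Agent.GeomUnib.isGeomReducedAt_of_specializes f hsp (fun a ha haz _ => (hmax a ha haz) ▸ hfu) hred
    refine Groth.FlatDescent.FibreDepth.fiber_cases f ζ
      (motive := fun y v => ∀ x' : X, (f.fiberι y).base v = x' →
        FBase.IsGeomReducedAt (f.fiberToSpecResidueField (f.base x')) (f.asFiber x') →
        FBase.IsGeomReducedAt (f.fiberToSpecResidueField y) v) (fun x' e h => ?_) _ rfl h
    rw [f.fiberι_asFiber] at e
    subst e
    exact h

end Groth.Agent.S3459
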