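import Groth.Statements.S3460
-- import your own Groth.Agent.* helpers here

set_option autoImplicit false
open CategoryTheory AlgebraicGeometry
universe u
open EGA43

namespace Groth.Agent.S3460

/-- Let Y be locally Noetherian and f : X ⟶ Y of finite type. Then there exist a scheme Z, a proper
morphism g : X ⟶ Z and an immersion h : Z ⟶ Y with f = g ≫ h if and only if f is proper at every
point of f(X), i.e. every point of f(X) has an open neighbourhood U in Y over which the restriction
of f is proper. -/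
theorem result {X Y : Scheme.{u}} [IsLocallyNoetherian Y]
    (f : X ⟶ Y) [LocallyOfFiniteType f] [QuasiCompact f] :
    (∃ (Z : Scheme.{u}) (g : X ⟶ Z) (h : Z ⟶ Y), IsProper g ∧ IsImmersion h ∧ g ≫ h = f) ↔
      ∀ x : X, ∃ U : Y.Opens, f.base x ∈ U ∧ IsProper (f ∣_ U) := by
  constructor
  · rintro ⟨Z, g, h, hg, hh, rfl⟩ x
    haveI := hg; haveI := hh
    obtain ⟨U, hU, hcl⟩ : ∃ U : Y.Opens, Set.range h.base ⊆ U ∧ IsClosedImmersion (h ∣_ U) := by
      refine ⟨h.coborderRange, fun y hy => subset_coborder hy, ?_⟩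
      haveI : IsClosedImmersion (h.liftCoborder) := inferInstance
      have he : h ∣_ h.coborderRange = (h ⁻¹ᵁ h.coborderRange).ι ≫ h.liftCoborder := by
        rw [← cancel_mono h.coborderRange.ι, morphismRestrict_ι, Category.assoc, Scheme.Hom.liftCoborder_ι]
      have htop : h ⁻¹ᵁ h.coborderRange = ⊤ := eq_top_iff.2 fun z _ => subset_coborder ⟨z, rfl⟩
      haveI : IsIso (h ⁻¹ᵁ h.coborderRange).ι := by rw [htop]; exact (inferInstance : IsIso Z.topIso.hom)
      rw [he]
      infer_instance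
    refine ⟨U, hU ⟨g.base x, rfl⟩, ?_⟩
    haveI := hcl
    have hp₁ : IsProper (g ∣_ h ⁻¹ᵁ U) := IsZariskiLocalAtTarget.restrict ‹IsProper g› _
    have hp₂ : IsProper (h ∣_ U) := inferInstance
    have hc := MorphismProperty.comp_mem @IsProper (g ∣_ h ⁻¹ᵁ U) (h ∣_ U) hp₁ hp₂
    rw [← morphismRestrict_comp] at hc
    exact hc
  · intro hf
    choose U hxU hU using hf
    let V : Y.Opens := ⨆ x, U x
    have hV : ∀ x, f.base x ∈ V := fun x => TopologicalSpace.Opens.mem_iSup.2 ⟨x, hxU x⟩
    let g : X ⟶ (V : Scheme.{u}) := IsOpenImmersion.lift V.ι f (by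
      rw [Scheme.Opens.range_ι]; rintro _ ⟨x, rfl⟩; exact hV x)
    have hg : g ≫ V.ι = f := IsOpenImmersion.lift_fac _ _ _
    refine ⟨V, g, V.ι, ?_, inferInstance, hg⟩
    refine IsZariskiLocalAtTarget.of_iSup_eq_top (P := @IsProper) (fun x : X => V.ι ⁻¹ᵁ U x)
      (eq_top_iff.2 fun v _ => ?_) fun x => ?_
    · obtain ⟨x, hx⟩ := TopologicalSpace.Opens.mem_iSup.1 (show V.ι.base v ∈ V from v.2)
      exact TopologicalSpace.Opens.mem_iSup.2 ⟨x, hx⟩
    · have h' : IsProper ((g ≫ V.ι) ∣_ U x) :=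
        (congrArg (fun t : X ⟶ Y => IsProper (t ∣_ U x)) hg).mpr (hU x)
      rw [morphismRestrict_comp] at h'
      haveI := h'
      exact MorphismProperty.of_postcomp (W := @IsProper) (W' := @IsSeparated) _ _ inferInstance h'

end Groth.Agent.S3460
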