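import Groth.Prelude.Def_EtAcyc
import Groth.Agent.EtSite.MinusOneAcyclic
-- import your own Groth.Agent.* helpers here

set_option autoImplicit false
universe u
open CategoryTheory CategoryTheory.Limits AlgebraicGeometry Opposite
open EtAcyc

namespace Groth.Agent.S3473

/-- Let g : X → Y be a morphism of schemes. If g is surjective then g is (-1)-acyclic (for every etale V
→ Y and every sheaf of sets F on V, F → g'_* g'^* F is a monomorphism, g' the projection X ×_Y V →
V); conversely, if g is quasi-compact, quasi-separated and (-1)-acyclic then g is surjective. -/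
theorem result {X Y : Scheme.{u}} (g : X ⟶ Y) :
    (Function.Surjective g.base → EtAcyc.IsMinusOneAcyclic g) ∧
      (∀ [QuasiCompact g] [QuasiSeparated g], EtAcyc.IsMinusOneAcyclic g → Function.Surjective g.base) := by
  refine ⟨fun hg V F => ?_, ?_⟩
  · have : Surjective g := ⟨hg⟩
    have : Surjective (prj g V) := MorphismProperty.pullback_fst _ _ ‹Surjective g›
    have := (S3047.result (prj g V)).1
    exact EtSite.MinusOneAcyclic.mono_unit (EtDesc.adjSh (prj g V)) F
  · intro _ _ h y
    have hF := EtSite.MinusOneAcyclic.mono_unit_faithful (EtDesc.adjSh (prj g (EtCoh.top Y)))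
      (h (EtCoh.top Y))
    have hs := EtSite.MinusOneAcyclic.surjective_of_faithful _ hF
    obtain ⟨w, rfl⟩ := hs y
    exact ⟨(pullback.snd (EtCoh.top Y).hom g).base w, (Scheme.Hom.comp_apply _ _ _).symm.trans
      ((congrArg (fun m : _ ⟶ Y => m.base w) pullback.condition.symm).trans
        (Scheme.Hom.comp_apply _ _ _))⟩

end Groth.Agent.S3473
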