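import Groth.Prelude.Def_SGA4b
import Mathlib.FieldTheory.IsSepClosed
import Groth.Agent.EtSite.Points
-- import your own Groth.Agent.* helpers here

set_option autoImplicit false
open CategoryTheory CategoryTheory.Limits AlgebraicGeometry Opposite
universe u
open EtDesc

namespace Groth.Agent.S5596

/-- A morphism v : F -> G of etale sheaves of sets on a scheme X is a monomorphism (resp. an
epimorphism) if and only if for every geometric point ξ of X (a morphism from the spectrum of a
separably closed field) the map of stalks F_ξ -> G_ξ is injective (resp. surjective). -/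
theorem result {X : Scheme.{u}} {F G : EtDesc.Sh X} (v : F ⟶ G) :
    (Mono v ↔ ∀ (Ω : Type u) [Field Ω] [IsSepClosed Ω] (ξ : Spec (CommRingCat.of Ω) ⟶ X),
      Function.Injective (((Scheme.pointSmallEtale ξ).sheafFiber (A := Type (u + 1))).map v)) ∧
    (Epi v ↔ ∀ (Ω : Type u) [Field Ω] [IsSepClosed Ω] (ξ : Spec (CommRingCat.of Ω) ⟶ X),
      Function.Surjective (((Scheme.pointSmallEtale ξ).sheafFiber (A := Type (u + 1))).map v)) := by
  have hf : PreservesFilteredColimitsOfSize.{u, u} (CategoryTheory.forget (Type (u + 1))) :=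
    preservesFilteredColimitsOfSize_shrink.{u, u + 1, u, u + 1} _
  refine ⟨⟨fun _ Ω _ _ ξ => ?_, fun h => ?_⟩, ⟨fun _ Ω _ _ ξ => ?_, fun h => ?_⟩⟩
  · have : PreservesFiniteLimits ((Scheme.pointSmallEtale ξ).sheafFiber (A := Type (u + 1))) :=
      have : AB5OfSize.{u, u} (Type (u + 1)) := AB5OfSize_shrink.{u, u, u + 1, u + 1} _
      inferInstance
    exact (mono_iff_injective _).1
      (inferInstanceAs (Mono ((Scheme.pointSmallEtale ξ).sheafFiber.map v)))
  · have : Sheaf.IsLocallyInjective v :=
      Groth.Agent.EtSite.isLocallyInjective_of_stalks v.hom h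
    exact Sheaf.mono_of_isLocallyInjective v
  · have : PreservesColimitsOfSize.{u + 1, u + 1} ((Scheme.pointSmallEtale ξ).sheafFiber (A := Type (u + 1))) :=
      (Scheme.pointSmallEtale ξ).skyscraperSheafAdjunction.leftAdjoint_preservesColimits
    exact (epi_iff_surjective _).1
      (inferInstanceAs (Epi ((Scheme.pointSmallEtale ξ).sheafFiber.map v)))
  · have : Sheaf.IsLocallySurjective v :=
      Groth.Agent.EtSite.isLocallySurjective_of_stalks v.hom h
    infer_instance

end Groth.Agent.S5596
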