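import Groth.Statements.S3517
import Groth.Agent.S3047
import Groth.Agent.S5596
import Groth.Agent.EtSite.MinusOneAcyclic
import Mathlib.CategoryTheory.Sites.LeftExact
import Mathlib.CategoryTheory.Adhesive.Basic

set_option autoImplicit false
universe u
open CategoryTheory CategoryTheory.Limits AlgebraicGeometry Opposite
open EtBC

namespace Groth.Agent.S3517

open Groth.Agent.EtSite

/-- Inverse image of sheaves of sets preserves monomorphisms. -/
theorem mono_map {X Y : Scheme.{u}} (f : X ⟶ Y) {F G : EtDesc.Sh Y} (v : F ⟶ G) [Mono v] :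
    Mono ((EtDesc.pullSh f).map v) := by
  refine (Groth.Agent.S5596.result _).1.2 fun Ω _ _ η => ?_
  have h0 := (Groth.Agent.S5596.result v).1.1 inferInstance Ω (η ≫ f)
  let a := (Scheme.pointSmallEtale η).sheafFiberComapIso (EtCoh.bc f) (EtCoh.coverPreserving_bc f)
    (Type (u + 1))
  let b : (Scheme.pointSmallEtale (η ≫ f)).sheafFiber (A := Type (u + 1)) ≅
      (comapPt f η).sheafFiber (A := Type (u + 1)) :=
    { hom := (comapPtIso f η).inv.sheafFiber
      inv := (comapPtIso f η).hom.sheafFiber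
      hom_inv_id := by rw [← GrothendieckTopology.Point.Hom.sheafFiber_comp, Iso.hom_inv_id,
        GrothendieckTopology.Point.Hom.sheafFiber_id]
      inv_hom_id := by rw [← GrothendieckTopology.Point.Hom.sheafFiber_comp, Iso.inv_hom_id,
        GrothendieckTopology.Point.Hom.sheafFiber_id] }
  have h1 : Mono ((Scheme.pointSmallEtale (η ≫ f)).sheafFiber.map v) := (mono_iff_injective _).2 h0
  exact (mono_iff_injective _).1
    (((MorphismProperty.monomorphisms (Type (u + 1))).arrow_mk_iso_iff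
      (((Functor.mapArrowFunctor _ _).mapIso (b ≪≫ a)).app (Arrow.mk v))).1 h1)

variable {X Y Xb Yb : Scheme.{u}}

/-- Pullback of sections is natural. -/
theorem secPull_naturality (h : Y ⟶ X) {F G : EtDesc.Sh X} (v : F ⟶ G)
    (s : EtDesc.sect F (EtCoh.top X)) :
    ((EtDesc.pullSh h).map v).hom.app (op (EtCoh.top Y)) (EtDesc.secPull h F s) =
      EtDesc.secPull h G (v.hom.app _ s) := by
  refine (NatTrans.naturality_apply ((EtDesc.pullSh h).map v).hom (EtCore.bcTopIso h).inv.op _).trans ?_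
  exact congrArg (((EtDesc.pullSh h).obj G).obj.map (EtCore.bcTopIso h).inv.op)
    (congrArg (fun a => a.hom.app (op (EtCoh.top X)) s) ((EtDesc.adjSh h).unit.naturality v)).symm

/-- The two ways of pulling back a section of `p_* F̄` agree. -/
theorem secPull_push (h : Y ⟶ X) (p : Xb ⟶ X) (hb : Yb ⟶ Xb) (pY : Yb ⟶ Y) (w : hb ≫ p = pY ≫ h)
    (Fb : EtDesc.Sh Xb) (s : EtDesc.sect ((EtDesc.pushSh p).obj Fb) (EtCoh.top X)) :
    ((EtDesc.pullSh hb).obj Fb).obj.map (EtCore.bcTopIso pY).inv.op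
      ((EtBC.baseChange0Sh p h pY hb w Fb).hom.app (op (EtCoh.top Y)) (EtDesc.secPull h _ s)) =
      EtDesc.secPull hb Fb (Fb.obj.map (EtCore.bcTopIso p).inv.op s) := by
  let G := (EtDesc.pullSh hb).obj Fb
  let t := (EtDesc.pushSh p).map ((EtDesc.adjSh hb).unit.app Fb) ≫ (EtDesc.pushCompSh p hb).hom.app _ ≫
      (EtBC.pushCongrSh w).hom.app _ ≫ (EtDesc.pushCompSh h pY).inv.app _
  have ht : (EtDesc.adjSh h).unit.app _ ≫ (EtDesc.pushSh h).map (EtBC.baseChange0Sh p h pY hb w Fb) = t := by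
    exact (Adjunction.homEquiv_unit _ _ _ _).symm.trans (Equiv.apply_symm_apply _ t)
  let v := ((EtDesc.adjSh hb).unit.app Fb).hom.app (op ((EtCoh.bc p).obj (EtCoh.top X))) s
  have hm : ∀ {W : Yb.Etale} (a b : EtCoh.top Yb ⟶ W) (_ : IsTerminal W), a = b :=
    fun a b hW => hW.hom_ext a b
  have hL : ∃ m : EtCoh.top Yb ⟶ (EtCoh.bc hb).obj ((EtCoh.bc p).obj (EtCoh.top X)),
      G.obj.map (EtCore.bcTopIso pY).inv.op
        ((EtBC.baseChange0Sh p h pY hb w Fb).hom.app (op (EtCoh.top Y)) (EtDesc.secPull h _ s)) =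
      G.obj.map m.op v := by
    let n : (EtCoh.bc pY).obj ((EtCoh.bc h).obj (EtCoh.top X)) ⟶
        (EtCoh.bc hb).obj ((EtCoh.bc p).obj (EtCoh.top X)) :=
      ((MorphismProperty.Over.pullbackComp (P := EtCoh.etaleMP) (Q := ⊤) pY h).inv).app (EtCoh.top X) ≫
      ((MorphismProperty.Over.pullbackCongr (P := EtCoh.etaleMP) (Q := ⊤) w).inv).app (EtCoh.top X) ≫
      ((MorphismProperty.Over.pullbackComp (P := EtCoh.etaleMP) (Q := ⊤) hb p).hom).app (EtCoh.top X)
    refine ⟨(EtCore.bcTopIso pY).inv ≫ (EtCoh.bc pY).map (EtCore.bcTopIso h).inv ≫ n, ?_⟩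
    refine (congrArg (G.obj.map (EtCore.bcTopIso pY).inv.op)
      ((NatTrans.naturality_apply (EtBC.baseChange0Sh p h pY hb w Fb).hom (EtCore.bcTopIso h).inv.op _).trans
        (congrArg (((EtDesc.pushSh pY).obj G).obj.map (EtCore.bcTopIso h).inv.op)
          (congrArg (fun a => a.hom.app (op (EtCoh.top X)) s) ht)))).trans ?_
    have hn : ((t.hom.app (op (EtCoh.top X))) s) = G.obj.map n.op v :=
      ((Functor.map_comp_apply G.obj _ _ v).trans
        (congrArg _ (Functor.map_comp_apply G.obj _ _ v))).symm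
    refine (congrArg (fun x => G.obj.map (EtCore.bcTopIso pY).inv.op
      (((EtDesc.pushSh pY).obj G).obj.map (EtCore.bcTopIso h).inv.op x)) hn).trans ?_
    exact ((Functor.map_comp_apply G.obj _ _ _).trans (congrArg _ (Functor.map_comp_apply G.obj _ _ _))).symm
  have hR : ∃ m : EtCoh.top Yb ⟶ (EtCoh.bc hb).obj ((EtCoh.bc p).obj (EtCoh.top X)),
      EtDesc.secPull hb Fb (Fb.obj.map (EtCore.bcTopIso p).inv.op s) = G.obj.map m.op v := by
    refine ⟨(EtCore.bcTopIso hb).inv ≫ (EtCoh.bc hb).map (EtCore.bcTopIso p).inv, ?_⟩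
    refine (congrArg (G.obj.map (EtCore.bcTopIso hb).inv.op)
      (NatTrans.naturality_apply ((EtDesc.adjSh hb).unit.app Fb).hom (EtCore.bcTopIso p).inv.op s)).trans ?_
    exact (Functor.map_comp_apply G.obj _ _ _).symm
  obtain ⟨m, hm'⟩ := hL
  obtain ⟨m', hm''⟩ := hR
  have e : m = m' := hm m m' (((EtCore.topIsTerminal Xb).ofIso (EtCore.bcTopIso p).symm |> fun hT =>
    (EtCore.topIsTerminal Yb).ofIso ((EtCore.bcTopIso hb).symm ≪≫
      (EtCoh.bc hb).mapIso (IsTerminal.uniqueUpToIso (EtCore.topIsTerminal Xb) hT))))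
  exact hm'.trans ((congrArg (fun a => G.obj.map a.op v) e).trans hm''.symm)

/-- Let h : Y → X and p : X̄ → X be morphisms of schemes with p surjective, Ȳ = Y ×_X X̄ with
projections h̄ : Ȳ → X̄ and p_Y : Ȳ → Y. If for every sheaf of sets F̄ on X̄ the pullback map on
global sections Γ(X̄, F̄) → Γ(Ȳ, h̄^* F̄) is injective, then for every sheaf of sets F on X the map
Γ(X, F) → Γ(Y, h^* F) is injective. If those maps for h̄ are bijective and moreover the base change
morphism h^* p_* F̄ → p_{Y*} h̄^* F̄ is a monomorphism for every sheaf of sets F̄ on X̄, then the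
maps Γ(X, F) → Γ(Y, h^* F) are bijective. -/
theorem result {X Y Xb Yb : Scheme.{u}} (h : Y ⟶ X) (p : Xb ⟶ X)
    (hb : Yb ⟶ Xb) (pY : Yb ⟶ Y) (sq : IsPullback hb pY p h) (hp : Function.Surjective p.base) :
    ((∀ Fb : EtDesc.Sh Xb, Function.Injective (EtDesc.secPull hb Fb)) →
      ∀ F : EtDesc.Sh X, Function.Injective (EtDesc.secPull h F)) ∧
    ((∀ Fb : EtDesc.Sh Xb, Function.Bijective (EtDesc.secPull hb Fb)) →
      (∀ Fb : EtDesc.Sh Xb, Mono (EtBC.baseChange0Sh p h pY hb sq.w Fb)) →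
      ∀ F : EtDesc.Sh X, Function.Bijective (EtDesc.secPull h F)) := by
  have : Surjective p := ⟨hp⟩
  have hfaith := (Groth.Agent.S3047.result p).1
  have hη : ∀ F : EtDesc.Sh X, Mono ((EtDesc.adjSh p).unit.app F) := fun F =>
    MinusOneAcyclic.mono_unit (EtDesc.adjSh p) F
  have happ : ∀ {Z : Scheme.{u}} {F G : EtDesc.Sh Z} (v : F ⟶ G) [Mono v],
      Function.Injective (v.hom.app (op (EtCoh.top Z))) := fun {Z F G} v _ =>
    (mono_iff_injective _).1 ((sheafToPresheaf _ _ ⋙ (evaluation _ _).obj (op (EtCoh.top Z))).map_mono v)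
  have e1 : ∀ Fb : EtDesc.Sh Xb, Function.Bijective (Fb.obj.map (EtCore.bcTopIso p).inv.op) := fun Fb =>
    (isIso_iff_bijective _).1 inferInstance
  have nat : ∀ {F G : EtDesc.Sh X} (v : F ⟶ G) (s : EtDesc.sect F (EtCoh.top X)), _ :=
    fun {F G} v s => secPull_naturality h v s
  have inj : (∀ Fb : EtDesc.Sh Xb, Function.Injective (EtDesc.secPull hb Fb)) →
      ∀ F : EtDesc.Sh X, Function.Injective (EtDesc.secPull h F) := fun hI F a b hab => by
    have := hη F
    refine happ ((EtDesc.adjSh p).unit.app F) ((e1 _).1 (hI _ ?_))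
    exact (secPull_push h p hb pY sq.w _ _).symm.trans ((congrArg (fun z =>
      ((EtDesc.pullSh hb).obj ((EtDesc.pullSh p).obj F)).obj.map (EtCore.bcTopIso pY).inv.op
        ((EtBC.baseChange0Sh p h pY hb sq.w _).hom.app (op (EtCoh.top Y)) z))
      ((nat _ a).symm.trans ((congrArg _ hab).trans (nat _ b)))).trans (secPull_push h p hb pY sq.w _ _))
  refine ⟨inj, fun hB hbc F => ⟨inj (fun Fb => (hB Fb).1) F, fun y => ?_⟩⟩
  have := hη F
  let v := (EtDesc.adjSh p).unit.app F
  let Fb := (EtDesc.pullSh p).obj F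
  let y' := ((EtDesc.pullSh h).map v).hom.app (op (EtCoh.top Y)) y
  obtain ⟨s', hs'⟩ := (hB Fb).2 (((EtDesc.pullSh hb).obj Fb).obj.map (EtCore.bcTopIso pY).inv.op
      ((EtBC.baseChange0Sh p h pY hb sq.w Fb).hom.app (op (EtCoh.top Y)) y'))
  obtain ⟨s, rfl⟩ := (e1 Fb).2 s'
  rw [← secPull_push h p hb pY sq.w] at hs'
  have := hbc Fb
  have hs : EtDesc.secPull h _ s = y' :=
    happ (EtBC.baseChange0Sh p h pY hb sq.w Fb)
      (((isIso_iff_bijective _).1 (Functor.map_isIso ((EtDesc.pullSh hb).obj Fb).obj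
        (EtCore.bcTopIso pY).inv.op)).1 hs')
  let R := regularMonoOfMono v
  have hR : R.left.hom.app (op (EtCoh.top X)) s = R.right.hom.app (op (EtCoh.top X)) s := by
    refine inj (fun Fb => (hB Fb).1) R.Z ?_
    refine (nat R.left s).symm.trans (Eq.trans ?_ (nat R.right s))
    refine Eq.trans (congrArg (((EtDesc.pullSh h).map R.left).hom.app (op (EtCoh.top Y))) hs)
      (Eq.trans ?_ (congrArg (((EtDesc.pullSh h).map R.right).hom.app (op (EtCoh.top Y))) hs).symm)
    have hw : (EtDesc.pullSh h).map v ≫ (EtDesc.pullSh h).map R.left =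
        (EtDesc.pullSh h).map v ≫ (EtDesc.pullSh h).map R.right := by
      rw [← Functor.map_comp, ← Functor.map_comp, R.w]
    exact congrArg
      (fun (q : (EtDesc.pullSh h).obj F ⟶ (EtDesc.pullSh h).obj R.Z) => q.hom.app (op (EtCoh.top Y)) y) hw
  let E := sheafToPresheaf X.smallEtaleTopology (Type (u + 1)) ⋙ (evaluation _ _).obj (op (EtCoh.top X))
  obtain ⟨x, hx, -⟩ := Types.unique_of_type_equalizer _ _
    (isLimitForkMapOfIsLimit E R.w R.isLimit) s hR
  refine ⟨x, ?_⟩
  have := mono_map h v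
  refine happ ((EtDesc.pullSh h).map v) ?_
  exact (nat v x).trans ((congrArg (EtDesc.secPull h _) hx).trans hs)

end Groth.Agent.S3517
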