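import Groth.Statements.S3532
import Mathlib
-- import your own Groth.Agent.* helpers here

set_option autoImplicit false
universe u
open HomAlg3

namespace Groth.Agent.S3532

open CategoryTheory in
/-- Category of abelian groups, system indexed by the natural numbers: Let (A_k)_{k ≥ 0} be an inverse
system of abelian groups. For p ≤ k write Im_k(A_p) for the image of A_k → A_p, and K_p for the
kernel of A_p → A_{p-1} (K_0 = A_0). Then (A_k) satisfies the Mittag-Leffler condition (for each p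
the subgroups Im_k(A_p) are eventually constant in k) if and only if for each p the subgroups
Im_k(A_p) ∩ K_p are eventually constant in k. -/
theorem result (F : ℕᵒᵖ ⥤ AddCommGrpCat.{u}) :
    (F ⋙ forget AddCommGrpCat).IsMittagLeffler ↔
      ((∃ k₀ : ℕ, ∀ (k : ℕ) (hk : k₀ ≤ k),
          (F.map (homOfLE (Nat.zero_le k)).op).hom.range = (F.map (homOfLE (Nat.zero_le k₀)).op).hom.range) ∧
        ∀ p : ℕ, ∃ k₀ : ℕ, ∃ h₀ : p + 1 ≤ k₀, ∀ (k : ℕ) (hk : k₀ ≤ k),
          (F.map (homOfLE (h₀.trans hk)).op).hom.range ⊓ (F.map (homOfLE (Nat.le_succ p)).op).hom.ker =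
            (F.map (homOfLE h₀).op).hom.range ⊓ (F.map (homOfLE (Nat.le_succ p)).op).hom.ker) := by
  let f : ∀ {p k : ℕ}, p ≤ k → (F.obj (Opposite.op k) →+ F.obj (Opposite.op p)) :=
    fun h => (F.map (homOfLE h).op).hom
  have fcomp : ∀ {a b c : ℕ} (hab : a ≤ b) (hbc : b ≤ c) (x : F.obj (Opposite.op c)),
      f hab (f hbc x) = f (hab.trans hbc) x := fun hab hbc x => by
    show (F.map (homOfLE hbc).op ≫ F.map (homOfLE hab).op).hom x = _
    rw [← F.map_comp]
    rfl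
  have fmono : ∀ {a b c : ℕ} (hab : a ≤ b) (hbc : b ≤ c),
      (f (hab.trans hbc)).range ≤ (f hab).range := by
    rintro a b c hab hbc _ ⟨x, rfl⟩
    exact ⟨f hbc x, fcomp hab hbc x⟩
  have hML : (F ⋙ forget AddCommGrpCat).IsMittagLeffler ↔ ∀ p : ℕ, ∃ k₀, ∃ h₀ : p ≤ k₀,
      ∀ k (hk : k₀ ≤ k), (f h₀).range ≤ (f (h₀.trans hk)).range := by
    constructor
    · intro h p
      obtain ⟨i, g, hg⟩ := h (Opposite.op p)
      obtain ⟨i⟩ := i
      refine ⟨i, leOfHom g.unop, fun k hk x hx => ?_⟩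
      exact hg (k := Opposite.op k) (homOfLE ((leOfHom g.unop).trans hk)).op hx
    · intro h j
      obtain ⟨p⟩ := j
      obtain ⟨k₀, h₀, hk⟩ := h p
      refine ⟨Opposite.op k₀, (homOfLE h₀).op, fun k g x hx => ?_⟩
      obtain ⟨k⟩ := k
      have hpk : p ≤ k := leOfHom g.unop
      show x ∈ (f hpk).range
      exact fmono hpk (le_max_right k₀ k) (hk _ (le_max_left k₀ k) hx)
  rw [hML]
  constructor
  · intro h
    have h' : ∀ p, ∃ k₀, ∃ h₀ : p ≤ k₀, ∀ k (hk : k₀ ≤ k), (f (h₀.trans hk)).range = (f h₀).range :=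
      fun p => by
        obtain ⟨k₀, h₀, hk⟩ := h p
        exact ⟨k₀, h₀, fun k hk' => le_antisymm (fmono h₀ hk') (hk k hk')⟩
    refine ⟨?_, fun p => ?_⟩
    · obtain ⟨k₀, h₀, hk⟩ := h' 0
      exact ⟨k₀, fun k hk' => hk k hk'⟩
    · obtain ⟨k₀, h₀, hk⟩ := h' (p + 1)
      exact ⟨k₀, h₀, fun k hk' => congrArg (fun X => X ⊓ (f (Nat.le_succ p)).ker) (hk k hk')⟩
  · rintro ⟨⟨c, hc⟩, hs⟩ p
    induction p with
    | zero => exact ⟨c, Nat.zero_le c, fun k hk => (hc k hk).ge⟩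
    | succ p ih =>
      obtain ⟨k₁, hp₁, h₁⟩ := ih
      obtain ⟨k₂, hp₂, h₂⟩ := hs p
      refine ⟨max k₁ k₂, hp₂.trans (le_max_right _ _), fun k hk => ?_⟩
      rintro x ⟨w, rfl⟩
      set h₀ : p + 1 ≤ max k₁ k₂ := hp₂.trans (le_max_right _ _)
      have hpx : f (Nat.le_succ p) (f h₀ w) ∈ (f hp₁).range := by
        rw [fcomp]
        exact fmono hp₁ (le_max_left k₁ k₂) ⟨w, rfl⟩
      obtain ⟨z, hz⟩ := h₁ k ((le_max_left _ _).trans hk) hpx
      have hz' : f (Nat.le_succ p) (f (h₀.trans hk) z) = f (Nat.le_succ p) (f h₀ w) :=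
        (fcomp _ _ z).trans hz
      have hd : f h₀ w - f (h₀.trans hk) z ∈
          (f hp₂).range ⊓ (f (Nat.le_succ p)).ker := by
        refine ⟨?_, ?_⟩
        · exact AddSubgroup.sub_mem _ (fmono hp₂ (le_max_right k₁ k₂) ⟨w, rfl⟩)
            (fmono hp₂ ((le_max_right k₁ k₂).trans hk) ⟨z, rfl⟩)
        · show f (Nat.le_succ p) _ = 0
          rw [map_sub, hz', sub_self]
      have hd' := ((h₂ k ((le_max_right _ _).trans hk)).ge hd).1
      have := AddSubgroup.add_mem _ hd' (⟨z, rfl⟩ : f (h₀.trans hk) z ∈ (f (h₀.trans hk)).range)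
      rwa [sub_add_cancel] at this

end Groth.Agent.S3532
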