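import Groth.Statements.S3544
import Mathlib.Algebra.Homology.ShortComplex.ModuleCat
import Mathlib.Algebra.Homology.ShortComplex.HomologicalComplex
set_option linter.unusedVariables false
set_option backward.isDefEq.respectTransparency false

set_option autoImplicit false
universe u
open HomAlg3

namespace Groth.Agent.S3544

open CategoryTheory CategoryTheory.Limits in
/-- Let E be a cohomological spectral sequence of modules over a ring A, starting at page 2, such that
the E₂ terms have finite length and only finitely many of them (all inside the finite set s of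
bidegrees) are nonzero. Then for every r ≥ 2 the Euler–Poincaré characteristic of page r, the
alternating sum over s of (-1)^{p+q} times the length of E_r^{pq}, equals that of page 2. -/
theorem result {A : Type u} [Ring A]
    (E : E₂CohomologicalSpectralSequence (ModuleCat.{u} A)) (s : Finset (ℤ × ℤ))
    (hs : ∀ pq : ℤ × ℤ, pq ∉ s → IsZero ((E.page 2).X pq))
    (hfl : ∀ pq : ℤ × ℤ, IsFiniteLength A ((E.page 2).X pq)) (r : ℤ) (hr : 2 ≤ r) :
    (s.sum fun pq => (((pq.1 + pq.2).negOnePow : ℤˣ) : ℤ) * ((Module.length A ((E.page r hr).X pq)).toNat : ℤ)) =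
      s.sum fun pq => (((pq.1 + pq.2).negOnePow : ℤˣ) : ℤ) * ((Module.length A ((E.page 2).X pq)).toNat : ℤ) := by
  classical
  let sgn : ℤ × ℤ → ℤ := fun pq => (((pq.1 + pq.2).negOnePow : ℤˣ) : ℤ)
  have key : ∀ (n : ℕ) (r : ℤ) (hr : 2 ≤ r), r = 2 + n →
      (∀ pq, pq ∉ s → IsZero ((E.page r hr).X pq)) ∧ (∀ pq, Module.length A ((E.page r hr).X pq) ≠ ⊤) ∧
      (s.sum fun pq => sgn pq * ((Module.length A ((E.page r hr).X pq)).toNat : ℤ)) =
        s.sum fun pq => sgn pq * ((Module.length A ((E.page 2).X pq)).toNat : ℤ) := by
    intro n
    induction n with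
    | zero =>
      intro r hr h
      obtain rfl : r = 2 := by omega
      exact ⟨hs, fun pq => Module.length_ne_top_iff.2 (hfl pq), rfl⟩
    | succ n ih =>
      intro r' hr' h
      obtain ⟨r, rfl⟩ : ∃ r, r' = r + 1 := ⟨r' - 1, by omega⟩
      have hr : 2 ≤ r := by omega
      obtain ⟨hz, hfin, hsum⟩ := ih r hr (by omega)
      let D : ℤ × ℤ → ℤ := fun pq => ((Module.length A (LinearMap.range ((E.page r hr).d pq (pq + (r, 1 - r))).hom)).toNat : ℤ)
      have hH : ∀ pq, Module.length A ((E.page (r+1) hr').X pq) ≠ ⊤ ∧
          ((Module.length A ((E.page r hr).X pq)).toNat : ℤ) =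
            ((Module.length A ((E.page (r+1) hr').X pq)).toNat : ℤ) + D pq + D (pq - (r, 1 - r)) := by
        intro pq
        set K := E.page r hr with hK
        let S := K.sc' (pq - (r, 1 - r)) pq (pq + (r, 1 - r))
        have hprev : (ComplexShape.up' (⟨r, 1 - r⟩ : ℤ × ℤ)).prev pq = pq - (r, 1 - r) :=
          ComplexShape.prev_eq' _ (show pq - (r, 1 - r) + (r, 1 - r) = pq from sub_add_cancel _ _)
        have hnext : (ComplexShape.up' (⟨r, 1 - r⟩ : ℤ × ℤ)).next pq = pq + (r, 1 - r) :=
          ComplexShape.next_eq' _ rfl
        let e : (E.page (r+1) hr').X pq ≅ S.moduleCatLeftHomologyData.H :=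
          (E.iso r (r+1) pq rfl hr).symm ≪≫ ShortComplex.homologyMapIso (K.isoSc' _ pq _ hprev hnext) ≪≫ S.moduleCatHomologyIso
        have e1 : Module.length A ((E.page (r+1) hr').X pq) =
            Module.length A (LinearMap.ker S.g.hom ⧸ LinearMap.range S.moduleCatToCycles) := e.toLinearEquiv.length_eq
        have hx : Module.length A S.X₂ = Module.length A (LinearMap.ker S.g.hom) + Module.length A (LinearMap.range S.g.hom) :=
          Module.length_eq_add_of_exact (LinearMap.ker S.g.hom).subtype S.g.hom.rangeRestrict
            Subtype.val_injective S.g.hom.surjective_rangeRestrict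
            (LinearMap.exact_iff.2 (by rw [Submodule.range_subtype, LinearMap.ker_rangeRestrict]))
        have hker : Module.length A (LinearMap.ker S.g.hom) = Module.length A (LinearMap.range S.moduleCatToCycles) +
            Module.length A (LinearMap.ker S.g.hom ⧸ LinearMap.range S.moduleCatToCycles) :=
          Module.length_eq_add_of_exact (LinearMap.range S.moduleCatToCycles).subtype (LinearMap.range S.moduleCatToCycles).mkQ
            Subtype.val_injective (Submodule.mkQ_surjective _)
            (LinearMap.exact_iff.2 (by rw [Submodule.range_subtype, Submodule.ker_mkQ]))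
        have hf : Module.length A (LinearMap.range S.moduleCatToCycles) = Module.length A (LinearMap.range S.f.hom) := by
          have : (LinearMap.range S.moduleCatToCycles).map (LinearMap.ker S.g.hom).subtype = LinearMap.range S.f.hom := by
            rw [← LinearMap.range_comp]; rfl
          rw [← this]
          exact (Submodule.equivMapOfInjective _ Subtype.val_injective _).length_eq
        have hX : Module.length A S.X₂ ≠ ⊤ := hfin pq
        rw [hx, hker] at hX
        have h1 := WithTop.add_ne_top.1 hX
        have h2 := WithTop.add_ne_top.1 h1.1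
        refine ⟨by rw [e1]; exact h2.2, ?_⟩
        have hD1 : D pq = ((Module.length A (LinearMap.range S.g.hom)).toNat : ℤ) := rfl
        have hD2 : D (pq - (r, 1 - r)) = ((Module.length A (LinearMap.range S.f.hom)).toNat : ℤ) := by
          simp only [D, S]
          rw [sub_add_cancel]
          rfl
        rw [show Module.length A ((E.page r hr).X pq) = Module.length A S.X₂ from rfl, hx, hker,
          ENat.toNat_add h1.1 h1.2, ENat.toNat_add h2.1 h2.2, e1, hD1, hD2, hf]
        push_cast
        ring
      have hzero : ∀ pq, pq ∉ s → IsZero ((E.page (r+1) hr').X pq) := fun pq hpq => by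
        refine IsZero.of_iso ?_ (E.iso r (r+1) pq rfl hr).symm
        exact (HomologicalComplex.exactAt_iff_isZero_homology _ _).1
          (ShortComplex.exact_of_isZero_X₂ _ (hz pq hpq))
      refine ⟨hzero, fun pq => (hH pq).1, ?_⟩
      rw [← hsum]
      have hcancel : (s.sum fun pq => sgn pq * D (pq - (r, 1 - r))) = - s.sum fun pq => sgn pq * D pq := by
        have hDz : ∀ pq, pq ∉ s ∨ pq + (r, 1 - r) ∉ s → D pq = 0 := by
          intro pq h
          have : (E.page r hr).d pq (pq + (r, 1 - r)) = 0 := by
            rcases h with h | h
            · exact (hz _ h).eq_of_src _ _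
            · exact (hz _ h).eq_of_tgt _ _
          simp only [D]
          rw [this, ModuleCat.hom_zero, LinearMap.range_zero, Module.length_bot]
          rfl
        rw [← Finset.sum_neg_distrib]
        refine Finset.sum_bij_ne_zero (fun pq _ _ => pq - (r, 1 - r)) ?_ ?_ ?_ ?_
        · intro pq _ hne
          by_contra hn
          exact hne (by rw [hDz _ (Or.inl hn), mul_zero])
        · intro a _ _ b _ _ h
          exact sub_left_injective h
        · intro b hb hne
          have hb' : b + (r, 1 - r) ∈ s := by
            by_contra hn
            exact hne (by rw [hDz _ (Or.inr hn), mul_zero, neg_zero])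
          refine ⟨b + (r, 1 - r), hb', ?_, add_sub_cancel_right _ _⟩
          rw [add_sub_cancel_right]
          intro h0
          exact hne (by
            have : D b = 0 := (mul_eq_zero.1 h0).resolve_left (Units.ne_zero _)
            rw [this, mul_zero, neg_zero])
        · intro pq _ _
          rw [← neg_mul]
          congr 1
          simp only [sgn, Prod.fst_sub, Prod.snd_sub]
          rw [show pq.1 - r + (pq.2 - (1 - r)) = (pq.1 + pq.2) - 1 by ring, Int.negOnePow_sub, Int.negOnePow_one]
          simp
      have : (s.sum fun pq => sgn pq * ((Module.length A ((E.page r hr).X pq)).toNat : ℤ)) =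
          (s.sum fun pq => sgn pq * ((Module.length A ((E.page (r+1) hr').X pq)).toNat : ℤ)) +
          ((s.sum fun pq => sgn pq * D pq) + (s.sum fun pq => sgn pq * D (pq - (r, 1 - r)))) := by
        rw [← Finset.sum_add_distrib, ← Finset.sum_add_distrib]
        exact Finset.sum_congr rfl fun pq _ => by rw [(hH pq).2]; ring
      rw [this, hcancel, add_neg_cancel, add_zero]
  exact (key (r - 2).toNat r hr (by omega)).2.2

end Groth.Agent.S3544
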