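import Groth.Statements.S3550
import Groth.Agent.ProjGamma.Model

set_option autoImplicit false
universe u
open CategoryTheory CategoryTheory.Limits AlgebraicGeometry
open EGA2

namespace Groth.Agent.S3550

open Groth.Agent.ProjGamma

/-- Let S be a graded ring whose irrelevant ideal S_+ is generated by finitely many elements of degree
one, and X = Proj S. Then every quasi-coherent O_X-module F is isomorphic to M~ for some graded
S-module M (graded in nonnegative degrees). -/
theorem result {R A : Type u} [CommRing R] [CommRing A] [Algebra R A] (𝒜 : ℕ → Submodule R A) [GradedAlgebra 𝒜]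
    (s : Finset A) (hs1 : ∀ f ∈ s, f ∈ 𝒜 1)
    (hs : (HomogeneousIdeal.irrelevant 𝒜).toIdeal = Ideal.span (s : Set A))
    (F : (Proj 𝒜).Modules) (hF : Coh.IsQCoh F) :
    ∃ (M : Type u) (_ : AddCommGroup M) (_ : Module R M) (_ : Module A M) (_ : IsScalarTower R A M)
      (ℳ : ℕ → Submodule R M) (_ : DirectSum.Decomposition ℳ) (_ : SetLike.GradedSMul 𝒜 ℳ),
      Nonempty (GrTilde.tilde 𝒜 ℳ 0 ≅ F) := by
  have : F.IsQuasicoherent := hF
  let C : Cover 𝒜 := Cover.ofSpan 𝒜 s hs1 hs
  let M : Model C F :=
    { N := compatSubmodule C F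
      le := le_rfl
      homog := isHomog_compat
      gen := fun g x₀ => by
        obtain ⟨K, t, ht, htg⟩ := exists_compat g x₀
        refine ⟨K, ⟨⟨mkAt K t, mkAt_mem K ht⟩, fun k g' hk => ?_⟩, ?_⟩
        · rw [coef_mkAt, if_neg (Ne.symm hk)]
        · show coef (mkAt K t) K g = x₀
          rw [coef_mkAt, if_pos rfl, htg] }
  exact ⟨M.N, inferInstance, inferInstance, inferInstance, inferInstance, piece M.N, decomposition M.homog,
    gradedSMul_piece M.N, nonempty_iso M⟩

end Groth.Agent.S3550
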