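import Groth.Statements.S3553
import Groth.Agent.ProjQuot.Range
import Groth.Agent.ProjTwist.Frac

set_option autoImplicit false
universe u
open CategoryTheory CategoryTheory.Limits AlgebraicGeometry
open EGA2

namespace Groth.Agent.S3553

/-- In the case where the induced morphism is defined on all of Proj S: let φ : S' → S be a homomorphism
of graded rings such that S_+ is contained in the ideal generated by φ(S'_+), and suppose every
element of the kernel of φ is nilpotent. Then the induced morphism from Proj S to Proj S' has dense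
image. -/
theorem result {R A : Type u} [CommRing R] [CommRing A] [Algebra R A] (𝒜 : ℕ → Submodule R A) [GradedAlgebra 𝒜]
    {B : Type u} [CommRing B] [Algebra R B] (ℬ : ℕ → Submodule R B) [GradedAlgebra ℬ]
    (φ : 𝒜 →+*ᵍ ℬ) (hφ : HomogeneousIdeal.irrelevant ℬ ≤ (HomogeneousIdeal.irrelevant 𝒜).map φ)
    (hker : ∀ a : A, φ a = 0 → IsNilpotent a) :
    DenseRange (Proj.map φ hφ).base := by
  refine dense_iff_inter_open.mpr fun W hW ⟨x, hx⟩ => ?_
  obtain ⟨e, a, ha, hxa, haW⟩ := Groth.Agent.ProjTwist.exists_homogeneous_nhd 𝒜 (x := x) ⟨W, hW⟩ hx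
  obtain ⟨d, f, hd, hf, hfx⟩ := Groth.Agent.ProjTwist.exists_pos_notMem 𝒜 x
  have hnil : ¬IsNilpotent (φ (a * f)) := fun ⟨k, hk⟩ => by
    rw [← map_pow] at hk
    obtain ⟨N, hN⟩ := hker _ hk
    rw [← pow_mul] at hN
    have h := Groth.Agent.ProjGamma.notMem_pow (Groth.Agent.ProjGamma.notMem_mul hxa hfx) (k * N)
    rw [hN] at h
    exact h (zero_mem _)
  obtain ⟨y, hy⟩ := Groth.Agent.ProjQuot.exists_point_of_not_isNilpotent (d := e + d) (by omega)
    (Graded.map_mem φ (SetLike.mul_mem_graded ha hf)) hnil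
  exact ⟨(Proj.map φ hφ).base y, haW (fun h => hy (Ideal.mul_mem_right f _ h : a * f ∈ _)), y, rfl⟩

end Groth.Agent.S3553
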