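import Groth.Statements.S3555
import Groth.Agent.ProjTwist.Generated
-- import your own Groth.Agent.* helpers here

set_option autoImplicit false
universe u
open CategoryTheory CategoryTheory.Limits AlgebraicGeometry
open EGA2

namespace Groth.Agent.S3555

/-- Let S be a graded ring whose irrelevant ideal S_+ is generated by the degree-one elements, X = Proj
S, and f homogeneous of degree d > 0. Then D_+(f) is the set of points p of X at which the global
section f/1 of O_X(d) does not vanish, i.e. at which its value generates the module of degree-d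
fractions at p. -/
theorem result {R A : Type u} [CommRing R] [CommRing A] [Algebra R A] (𝒜 : ℕ → Submodule R A) [GradedAlgebra 𝒜]
    (hgen : (HomogeneousIdeal.irrelevant 𝒜).toIdeal = Ideal.span (𝒜 1 : Set A))
    {d : ℕ} (hd : 0 < d) (f : 𝒜 d) (p : ProjectiveSpectrum 𝒜) :
    p ∈ ProjectiveSpectrum.basicOpen 𝒜 (f : A) ↔
      Submodule.span (Twist.A0 𝒜 p) {(Twist.globalOf 𝒜 f).1 ⟨p, trivial⟩} = ⊤ := by
  rw [ProjectiveSpectrum.mem_basicOpen, eq_top_iff]
  constructor
  · intro hfp
    rintro ⟨v, hv⟩ -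
    have hinv : (Localization.mk (1 : A) ⟨f.1, hfp⟩ : Twist.Loc 𝒜 p) ∈ Twist.twistAt 𝒜 (-(d : ℤ)) p :=
      ProjTwist.mk_mem_twistAt SetLike.GradedOne.one_mem f.2 hfp (i := 0) (by simp)
    have h0 : v * Localization.mk (1 : A) ⟨f.1, hfp⟩ ∈ Twist.twistAt 𝒜 0 p :=
      ProjTwist.smul_mem_tildeAt (ℳ := 𝒜) (show -(d : ℤ) + d = 0 by omega) hv hinv
    obtain ⟨c, hc⟩ := ProjTwist.exists_val_of_mem_twistAt_zero 𝒜 h0
    refine Submodule.mem_span_singleton.mpr ⟨c, Subtype.ext ?_⟩
    rw [Twist.coe_smul_val, hc]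
    show v * Localization.mk (1 : A) ⟨f.1, hfp⟩ * Localization.mk f.1 ⟨1, ProjTwist.notMem_one 𝒜 p⟩ = v
    exact (mul_assoc _ _ _).trans ((congrArg (v * ·)
      (ProjTwist.mk_mul_mk_swap (ProjTwist.notMem_one 𝒜 p) hfp)).trans (mul_one v))
  · intro hspan hfp
    obtain ⟨g, hg, hgp⟩ := ProjTwist.exists_degree_one_notMem hgen.le p
    have hgd : g ^ d ∈ 𝒜 d := by simpa using SetLike.pow_mem_graded d hg
    let v : Twist.twistAt 𝒜 (d : ℤ) p := ⟨Localization.mk (g ^ d) ⟨1, ProjTwist.notMem_one 𝒜 p⟩,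
      ProjTwist.mk_mem_twistAt hgd SetLike.GradedOne.one_mem (ProjTwist.notMem_one 𝒜 p) (by simp)⟩
    obtain ⟨c, hc⟩ := Submodule.mem_span_singleton.mp (hspan (Submodule.mem_top (x := v)))
    have hc' := congrArg Subtype.val hc
    rw [Twist.coe_smul_val] at hc'
    obtain ⟨⟨a, t⟩, hct⟩ : ∃ at' : A × p.asHomogeneousIdeal.toIdeal.primeCompl,
        Localization.mk at'.1 at'.2 = c.val := by
      induction c.val using Localization.induction_on with | _ y => exact ⟨y, rfl⟩
    rw [← hct] at hc'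
    change Localization.mk a t * Localization.mk f.1 ⟨1, _⟩ = Localization.mk (g ^ d) ⟨1, _⟩ at hc'
    rw [Localization.mk_mul, Localization.mk_eq_mk_iff, Localization.r_iff_exists] at hc'
    obtain ⟨w, hw⟩ := hc'
    have : (w : A) * ((t : A) * (g ^ d)) ∈ p.asHomogeneousIdeal.toIdeal := by
      simp only [Submonoid.coe_mul, one_mul, mul_one] at hw
      rw [← hw]
      exact Ideal.mul_mem_left _ _ (Ideal.mul_mem_left _ _ hfp)
    rcases p.isPrime.mem_or_mem this with h | h
    · exact w.2 h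
    rcases p.isPrime.mem_or_mem h with h | h
    · exact t.2 h
    · exact hgp (p.isPrime.mem_of_pow_mem d h)

end Groth.Agent.S3555
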