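import Groth.Statements.S3556
import Mathlib.AlgebraicGeometry.Properties

set_option autoImplicit false
universe u
open CategoryTheory CategoryTheory.Limits AlgebraicGeometry
open EGA2

namespace Groth.Agent.S3556

/-- Let S be a graded ring which is essentially reduced, i.e. its irrelevant ideal S_+ contains no
nonzero nilpotent element. Then Proj S is a reduced scheme. -/
theorem result {R A : Type u} [CommRing R] [CommRing A] [Algebra R A] (𝒜 : ℕ → Submodule R A) [GradedAlgebra 𝒜]
    (hred : ∀ f ∈ (HomogeneousIdeal.irrelevant 𝒜).toIdeal, IsNilpotent f → f = 0) :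
    AlgebraicGeometry.IsReduced (Proj 𝒜) := by
  classical
  have key : ∀ (d : ℕ) (f : A), 0 < d → f ∈ 𝒜 d → _root_.IsReduced (HomogeneousLocalization.Away 𝒜 f) := by
    intro d f hd hf
    refine ⟨fun z hz => ?_⟩
    obtain ⟨k, a, ha, rfl⟩ := HomogeneousLocalization.Away.mk_surjective 𝒜 hf z
    obtain ⟨n, hn⟩ := hz
    have hn' := congr_arg HomogeneousLocalization.val hn
    rw [HomogeneousLocalization.val_pow, HomogeneousLocalization.Away.val_mk, HomogeneousLocalization.val_zero,
      Localization.mk_pow, Localization.mk_eq_mk', IsLocalization.mk'_eq_zero_iff] at hn'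
    obtain ⟨⟨_, N, rfl⟩, hN⟩ := hn'
    have h0 : f * a = 0 := by
      refine hred _ (Ideal.mul_mem_right _ _ (HomogeneousIdeal.mem_irrelevant_of_mem 𝒜 hd hf)) ⟨N + n, ?_⟩
      calc (f * a) ^ (N + n) = (f ^ n * a ^ N) * (f ^ N * a ^ n) := by ring
        _ = 0 := by rw [hN, mul_zero]
    apply HomogeneousLocalization.val_injective
    rw [HomogeneousLocalization.Away.val_mk, HomogeneousLocalization.val_zero, Localization.mk_eq_mk',
      IsLocalization.mk'_eq_zero_iff]
    exact ⟨⟨f, Submonoid.mem_powers f⟩, h0⟩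
  have : ∀ i, IsReduced ((Proj.affineOpenCover 𝒜).openCover.X i) := fun i => by
    have := key i.1 i.2 i.1.2 i.2.2
    exact inferInstanceAs (IsReduced (Spec (CommRingCat.of (HomogeneousLocalization.Away 𝒜 (i.2 : A)))))
  exact IsReduced.of_openCover _ (Proj.affineOpenCover 𝒜).openCover

end Groth.Agent.S3556
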