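import Groth.Statements.S3559
import Groth.Agent.GrBasics.Core

set_option autoImplicit false
universe u
open CategoryTheory CategoryTheory.Limits AlgebraicGeometry
open EGA2

namespace Groth.Agent.S3559

/-- Let S be a graded ring and (f_i) a family of homogeneous elements of positive degree. The opens
D_+(f_i) cover Proj S if and only if every element of S_+ has a power in the ideal generated by the
f_i. -/
theorem result {R A : Type u} [CommRing R] [CommRing A] [Algebra R A] (𝒜 : ℕ → Submodule R A) [GradedAlgebra 𝒜]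
    {ι : Type u} (f : ι → A) (hf : ∀ i, ∃ d : ℕ, 0 < d ∧ f i ∈ 𝒜 d) :
    (⨆ i, Proj.basicOpen 𝒜 (f i)) = ⊤ ↔
      (HomogeneousIdeal.irrelevant 𝒜).toIdeal ≤ (Ideal.span (Set.range f)).radical := by
  constructor
  · intro h a ha
    refine GrBasics.mem_radical_of_forall_point 𝒜
      (Ideal.homogeneous_span 𝒜 _ ?_) ha fun x hx => ?_
    · rintro _ ⟨i, rfl⟩
      obtain ⟨d, _, hd⟩ := hf i
      exact ⟨d, hd⟩
    · exfalso
      have hxT : x ∈ (⨆ i, Proj.basicOpen 𝒜 (f i)) := by rw [h]; trivial
      obtain ⟨i, hi⟩ := TopologicalSpace.Opens.mem_iSup.mp hxT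
      exact hi (hx (Ideal.subset_span ⟨i, rfl⟩))
  · intro h
    rw [eq_top_iff]
    intro x _
    refine TopologicalSpace.Opens.mem_iSup.mpr ?_
    by_contra hc
    refine x.not_irrelevant_le fun a ha => ?_
    refine (x.isPrime.radical_le_iff.mpr (Ideal.span_le.mpr ?_)) (h ha)
    rintro _ ⟨i, rfl⟩
    by_contra hi
    exact hc ⟨i, hi⟩

end Groth.Agent.S3559
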