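import Groth.Statements.S3560
import Groth.Agent.GrBasics.Core
import Mathlib.RingTheory.Noetherian.Nilpotent

set_option autoImplicit false
universe u
open CategoryTheory CategoryTheory.Limits AlgebraicGeometry
open EGA2

namespace Groth.Agent.S3560

/-- Let S be a graded ring whose irrelevant ideal S_+ is finitely generated. Then Proj S is empty if and
only if there is n such that S_k = 0 for all k ≥ n. -/
theorem result {R A : Type u} [CommRing R] [CommRing A] [Algebra R A] (𝒜 : ℕ → Submodule R A) [GradedAlgebra 𝒜]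
    (hfg : (HomogeneousIdeal.irrelevant 𝒜).toIdeal.FG) :
    IsEmpty (Proj 𝒜) ↔ ∃ n : ℕ, ∀ k : ℕ, n ≤ k → 𝒜 k = ⊥ := by
  constructor
  · intro h
    have hnil : (HomogeneousIdeal.irrelevant 𝒜).toIdeal ≤ nilradical A := fun a ha =>
      GrBasics.isNilpotent_of_forall_point 𝒜 ha fun x => (h.false x).elim
    obtain ⟨n, hn⟩ := (Ideal.FG.isNilpotent_iff_le_nilradical hfg).mpr hnil
    obtain ⟨m₀, hm⟩ := GrBasics.exists_degree_bound 𝒜 hfg n
    refine ⟨m₀, fun k hk => (Submodule.eq_bot_iff _).mpr fun a ha => ?_⟩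
    have := hm k hk a ha
    rw [hn] at this
    exact this
  · rintro ⟨n, hn⟩
    refine ⟨fun x => x.not_irrelevant_le ?_⟩
    refine (HomogeneousIdeal.irrelevant_le 𝒜).mpr fun i hi a ha => ?_
    have h1 : a ^ n ∈ 𝒜 (n • i) := SetLike.pow_mem_graded n ha
    rw [hn (n • i) (by simpa using Nat.le_mul_of_pos_right n hi), Submodule.mem_bot] at h1
    exact x.isPrime.mem_of_pow_mem n (h1 ▸ Submodule.zero_mem _)

end Groth.Agent.S3560
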