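import Groth.Statements.S3562
import Groth.Agent.ProjTwist.Stalk
-- import your own Groth.Agent.* helpers here

set_option autoImplicit false
universe u
open CategoryTheory CategoryTheory.Limits AlgebraicGeometry
open EGA2

namespace Groth.Agent.S3562

/-- Let S be a graded ring whose irrelevant ideal S_+ is finitely generated and generated by the
degree-one elements, and M a graded S-module satisfying (TF) (some tail of M generates a finitely
generated submodule). Then M~ = 0 on Proj S if and only if M satisfies (TN): M_k = 0 for all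
sufficiently large k. (The published statement assumes only that S_+ is finitely generated; the
statement then fails when S_+ has no system of degree-one generators, e.g. S = k[t] with t of degree
2 and M = S shifted into odd degrees, whose M~ vanishes although no M_k does. Stated here with S_+
generated by degree-one elements, where the published proof applies.) -/
theorem result {R A : Type u} [CommRing R] [CommRing A] [Algebra R A] (𝒜 : ℕ → Submodule R A) [GradedAlgebra 𝒜]
    (hfg : (HomogeneousIdeal.irrelevant 𝒜).toIdeal.FG)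
    (hgen : (HomogeneousIdeal.irrelevant 𝒜).toIdeal = Ideal.span (𝒜 1 : Set A))
    {M : Type u} [AddCommGroup M] [Module R M] [Module A M] [IsScalarTower R A M] (ℳ : ℕ → Submodule R M) [DirectSum.Decomposition ℳ] [SetLike.GradedSMul 𝒜 ℳ]
    (hTF : ∃ n : ℕ, (Submodule.span A (⋃ k ∈ Set.Ici n, (ℳ k : Set M))).FG) :
    IsZero (GrTilde.tilde 𝒜 ℳ 0) ↔ ∃ n : ℕ, ∀ k : ℕ, n ≤ k → ℳ k = ⊥ := by
  classical
  constructor
  · intro h
    obtain ⟨n, hn⟩ := hTF
    obtain ⟨T, hT, hspan⟩ := Submodule.fg_span_iff_fg_span_finset_subset _ |>.mp hn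
    set I := (HomogeneousIdeal.irrelevant 𝒜).toIdeal with hI
    have hann : ∀ z ∈ T, ∃ K : ℕ, ∀ r ∈ I ^ K, r • z = 0 := by
      intro z hz
      obtain ⟨i, -, hzi⟩ := Set.mem_iUnion₂.mp (hT hz)
      let J : Ideal A := LinearMap.ker (LinearMap.toSpanSingleton A M z)
      have hrad : I ≤ J.radical := by
        rw [hgen, Ideal.span_le]
        intro g hg
        obtain ⟨k, hk⟩ := ProjTwist.pow_smul_eq_zero_of_isZero 𝒜 ℳ hgen.le h hzi one_pos hg
        exact ⟨k, hk⟩
      obtain ⟨K, hK⟩ := Ideal.exists_pow_le_of_le_radical_of_fg hrad hfg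
      exact ⟨K, fun r hr => hK hr⟩
    choose! K hK using hann
    refine ⟨n + T.sup K + (T.sup fun z =>
      if hz : ∃ i, z ∈ ℳ i then Nat.find hz else 0) + 1, fun k hk => ?_⟩
    rw [eq_bot_iff]
    intro x hx
    rw [Submodule.mem_bot]
    have hxs : x ∈ Submodule.span A (T : Set M) := hspan ▸ Submodule.subset_span
      (Set.mem_iUnion₂.mpr ⟨k, by simp only [Set.mem_Ici]; omega, hx⟩)
    obtain ⟨c, T', hT', -, hc⟩ := Submodule.mem_span_iff_exists_finset_subset.mp hxs
    rw [← DirectSum.decompose_of_mem_same ℳ hx, ← hc, DirectSum.decompose_sum, DFinsupp.finsetSum_apply,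
      AddSubmonoidClass.coe_finsetSum]
    refine Finset.sum_eq_zero fun z hz => ?_
    have hzT : z ∈ T := hT' hz
    obtain ⟨i₀, -, hzi₀⟩ := Set.mem_iUnion₂.mp (hT hzT)
    have hex : ∃ i, z ∈ ℳ i := ⟨i₀, hzi₀⟩
    have hzi := Nat.find_spec hex
    have hile : Nat.find hex ≤ T.sup fun z => if hz : ∃ i, z ∈ ℳ i then Nat.find hz else 0 := by
      have h1 := Finset.le_sup (f := fun z => if hz : ∃ i, z ∈ ℳ i then Nat.find hz else 0) hzT
      simp only [dif_pos hex] at h1
      exact h1
    have hKle : K z ≤ T.sup K := Finset.le_sup hzT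
    rw [← DirectSum.sum_support_decompose 𝒜 (c z), Finset.sum_smul, DirectSum.decompose_sum,
      DFinsupp.finsetSum_apply, AddSubmonoidClass.coe_finsetSum]
    refine Finset.sum_eq_zero fun j _ => ?_
    have hmem := SetLike.GradedSMul.smul_mem (DirectSum.decompose 𝒜 (c z) j).2 hzi
    by_cases hj : j + Nat.find hex = k
    · rw [← hj]
      refine (DirectSum.decompose_of_mem_same ℳ hmem).trans (hK z hzT _ ?_)
      exact Ideal.pow_le_pow_right (by omega) (ProjTwist.mem_irrelevant_pow 𝒜 hgen.le
        (DirectSum.decompose 𝒜 (c z) j).2)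
    · exact DirectSum.decompose_of_mem_ne ℳ hmem hj
  · rintro ⟨n, hn⟩
    refine ProjTwist.isZero_tilde_of_torsion 𝒜 ℳ 0 fun z d f hd hf => ⟨n, ?_⟩
    rw [← DirectSum.sum_support_decompose ℳ z, Finset.smul_sum]
    refine Finset.sum_eq_zero fun i _ => ?_
    have hfn : f ^ n ∈ 𝒜 (n * d) := by simpa [smul_eq_mul] using SetLike.pow_mem_graded n hf
    have hmem := SetLike.GradedSMul.smul_mem hfn (DirectSum.decompose ℳ z i).2
    have hle : n ≤ n * d + i := le_trans (Nat.le_mul_of_pos_right n hd) (Nat.le_add_right _ _)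
    simpa [hn _ hle] using hmem

end Groth.Agent.S3562
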