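import Groth.Statements.S3563

set_option autoImplicit false
universe u
open CategoryTheory CategoryTheory.Limits AlgebraicGeometry
open EGA2

namespace Groth.Agent.S3563

/-- Let φ : S → S' be a surjective homomorphism of graded rings (graded algebras over a base ring R).
Then the induced morphism Proj S' → Proj S is defined everywhere and is a closed immersion. The
hypothesis that the irrelevant ideal of S' is contained in the extension of the irrelevant ideal of
S, needed to define the morphism on all of Proj S', is carried explicitly; it follows from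
surjectivity. This is the case of a surjective φ; the published statement is more general. -/
theorem result {R A : Type u} [CommRing R] [CommRing A] [Algebra R A] (𝒜 : ℕ → Submodule R A) [GradedAlgebra 𝒜]
    {B : Type u} [CommRing B] [Algebra R B] (ℬ : ℕ → Submodule R B) [GradedAlgebra ℬ]
    (φ : 𝒜 →+*ᵍ ℬ) (hsurj : Function.Surjective φ)
    (hφ : HomogeneousIdeal.irrelevant ℬ ≤ (HomogeneousIdeal.irrelevant 𝒜).map φ) :
    IsClosedImmersion (Proj.map φ hφ) := by
  classical
  have hsur' := hsurj
  have hdec : ∀ (a : A) (n : ℕ), φ a ∈ ℬ n → φ (DirectSum.decompose 𝒜 a n : A) = φ a := fun a n h => by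
    conv_rhs => rw [← DirectSum.decompose_of_mem_same ℬ h]
    exact map_directSumDecompose 𝒜 ℬ φ
  refine (IsZariskiLocalAtTarget.iff_of_openCover (P := @IsClosedImmersion) (Proj.affineOpenCover 𝒜).openCover).mpr fun (s : (i : ℕ+) × 𝒜 (i : ℕ)) => ?_
  have hoi : IsOpenImmersion (Proj.awayι ℬ (φ (s.2 : A)) (φ.2 s.2.2) s.1.pos) := by
    unfold Proj.awayι; infer_instance
  have hoi' : IsOpenImmersion (Proj.awayι 𝒜 (s.2 : A) s.2.2 s.1.pos) := by
    unfold Proj.awayι; infer_instance
  have hpb : IsPullback (Spec.map (CommRingCat.ofHom (HomogeneousLocalization.Away.map φ (s.2 : A))))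
      (Proj.awayι ℬ (φ (s.2 : A)) (φ.2 s.2.2) s.1.pos) (Proj.awayι 𝒜 (s.2 : A) s.2.2 s.1.pos) (Proj.map φ hφ) := by
    refine IsOpenImmersion.isPullback _ _ _ _ (Proj.awayι_comp_map φ hφ s.1.pos _ s.2.2) ?_
    rw [Proj.opensRange_awayι, Proj.opensRange_awayι]
    exact Proj.map_preimage_basicOpen φ hφ _
  have hsur : Function.Surjective (HomogeneousLocalization.Away.map φ (s.2 : A)) := by
    intro y
    obtain ⟨k, b, hb, rfl⟩ := HomogeneousLocalization.Away.mk_surjective ℬ (φ.2 s.2.2) y
    obtain ⟨a, rfl⟩ := hsur' b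
    refine ⟨HomogeneousLocalization.Away.mk 𝒜 s.2.2 k (DirectSum.decompose 𝒜 a (k • (s.1 : ℕ)) : A)
      (DirectSum.decompose 𝒜 a _).2, ?_⟩
    rw [HomogeneousLocalization.Away.map_mk]
    congr 1
    exact hdec a _ hb
  show IsClosedImmersion (pullback.snd (Proj.map φ hφ) _)
  refine (MorphismProperty.cancel_left_of_respectsIso (P := @IsClosedImmersion) hpb.flip.isoPullback.hom _).mp ?_
  show IsClosedImmersion (hpb.flip.isoPullback.hom ≫ pullback.snd (Proj.map φ hφ) (Proj.awayι 𝒜 (s.2 : A) s.2.2 s.1.pos))
  rw [IsPullback.isoPullback_hom_snd]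
  exact IsClosedImmersion.spec_of_surjective _ hsur

end Groth.Agent.S3563
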