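import Groth.Statements.S3565
import Groth.Agent.AmpleDescent.Norm
import Groth.Agent.AmpleDescent.Components

set_option autoImplicit false
set_option backward.isDefEq.respectTransparency false
universe u
open CategoryTheory CategoryTheory.Limits AlgebraicGeometry
open EGA2

namespace Groth.Agent.S3565

/-- Let f : X → Y be a quasi-compact morphism, g : X' → X a finite surjective morphism such that the
direct image of the structure sheaf of X' is a finite locally free O_X-module, and L an invertible
O_X-module. Then L is ample relative to f if and only if its inverse image on X' is ample relative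
to f ∘ g. -/
theorem result {X X' Y : Scheme.{u}} (f : X ⟶ Y) [QuasiCompact f]
    (g : X' ⟶ X) [IsFinite g] [Surjective g]
    (hfree : FlatMod.IsFinLocFree ((Coh.push g).obj (Coh.structureModule X')))
    (L : X.Modules) (hL : PicF.IsInvertible L) :
    RelAmple.IsRelAmple f L ↔ RelAmple.IsRelAmple (g ≫ f) ((Scheme.Modules.pullback g).obj L) := by
  constructor
  · intro h
    refine (InvPow.isRelAmple_iff _).mpr ⟨inferInstance, fun V => ?_⟩
    have hA := ((InvPow.isRelAmple_iff f).mp h).2 V
    let W := f ⁻¹ᵁ V.1
    exact InvPow.isAmple_of_iso ((Scheme.Modules.pullbackComp (g ⁻¹ᵁ W).ι g).app L).symm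
      (InvPow.isAmple_of_iso ((Scheme.Modules.pullbackCongr (morphismRestrict_ι g W)).app L)
        (AmpleDescent.isAmple_pullback_comp (g ∣_ W) W.ι hA))
  · intro h
    refine (InvPow.isRelAmple_iff f).mpr ⟨inferInstance, fun V => ?_⟩
    let W := f ⁻¹ᵁ V.1
    have hA := ((InvPow.isRelAmple_iff (g ≫ f)).mp h).2 V
    haveI : Surjective (g ∣_ W) :=
      IsZariskiLocalAtTarget.restrict (P := @Surjective) (inferInstanceAs (Surjective g)) W
    refine AmpleDescent.isAmple_of_hasBases (g ∣_ W) ((AmpleDescent.hasBases_of_isFinLocFree g hfree).restrict g W)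
      (ProjUniv.isInvertible_pullback W.ι hL) ?_
    exact InvPow.isAmple_of_iso ((Scheme.Modules.pullbackComp (g ∣_ W) W.ι).app L).symm
      (InvPow.isAmple_of_iso ((Scheme.Modules.pullbackCongr (morphismRestrict_ι g W)).app L).symm
        (InvPow.isAmple_of_iso ((Scheme.Modules.pullbackComp (g ⁻¹ᵁ W).ι g).app L) hA))
end Groth.Agent.S3565
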