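import Groth.Statements.S3566
import Groth.Agent.InvPow.Ample
-- import your own Groth.Agent.* helpers here

set_option autoImplicit false
universe u
open CategoryTheory CategoryTheory.Limits AlgebraicGeometry
open EGA2

namespace Groth.Agent.S3566

/-- Let X be a quasi-compact separated scheme (the published statement also allows a prescheme with
Noetherian underlying space) and L an invertible O_X-module. Then L is ample, i.e. the affine ones
among the opens X_s (s a global section of a positive tensor power of L, X_s the locus where s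
generates) cover X, if and only if all the opens X_s form a base of the topology of X. -/
theorem result (X : Scheme.{u}) [CompactSpace X] [X.IsSeparated]
    (L : X.Modules) (hL : PicF.IsInvertible L) :
    CohB1.IsAmple L ↔
      TopologicalSpace.IsTopologicalBasis
        {U : Set X | ∃ (n : ℕ) (s : Coh.structureModule X ⟶ CohB1.tensorPow L (n + 1)),
          U = (CohB1.genLocus (CohB1.tensorPow L (n + 1)) s : Set X)} := by
  refine ⟨fun h => TopologicalSpace.isTopologicalBasis_of_isOpen_of_nhds ?_ ?_, fun h => ?_⟩
  · rintro _ ⟨n, s, rfl⟩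
    exact (CohB1.genLocus _ s).2
  · intro x V hxV hV
    obtain ⟨U, rfl⟩ : ∃ U : X.Opens, (U : Set X) = V := ⟨⟨V, hV⟩, rfl⟩
    obtain ⟨n, hn, s, hxs, hle, -⟩ := Groth.Agent.InvPow.exists_locus_le h (U := U) hxV
    obtain ⟨m, rfl⟩ : ∃ m, n = m + 1 := ⟨n - 1, by omega⟩
    have e := Groth.Agent.InvPow.genLocus_globalHom (Groth.Agent.InvPow.isInvertible_tensorPow hL (m + 1)) s
    exact ⟨_, ⟨m, _, rfl⟩, e.ge hxs, e.le.trans hle⟩
  · refine Groth.Agent.InvPow.isAmple_of_basis hL fun x U hxU => ?_
    obtain ⟨_, ⟨n, s, rfl⟩, hxs, hle⟩ := h.exists_subset_of_mem_open (a := x) (u := (U : Set X)) hxU U.2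
    obtain ⟨σ, rfl⟩ := Groth.Agent.InvPow.exists_globalHom_eq s
    rw [Groth.Agent.InvPow.genLocus_globalHom (Groth.Agent.InvPow.isInvertible_tensorPow hL _)] at hxs hle
    exact ⟨n + 1, Nat.succ_pos n, σ, hxs, hle⟩

end Groth.Agent.S3566
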