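import Groth.Statements.S3567
import Mathlib
-- import your own Groth.Agent.* helpers here

set_option autoImplicit false
universe u
open CategoryTheory CategoryTheory.Limits AlgebraicGeometry
open EGA2

namespace Groth.Agent.S3567

section Aux
open TopCat

theorem psh_ext_of_epi {U V W : PresheafedSpace.{_, _, u} CommRingCat.{u}} (h : U ⟶ V) [IsIso h.c]
    (hs : Function.Surjective h.base) {v₁ v₂ : V ⟶ W} (hv : h ≫ v₁ = h ≫ v₂) : v₁ = v₂ := by
  obtain ⟨b₁, c₁⟩ := v₁
  obtain ⟨b₂, c₂⟩ := v₂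
  obtain rfl : b₁ = b₂ := by
    have hb : h.base ≫ b₁ = h.base ≫ b₂ := congrArg PresheafedSpace.Hom.base hv
    ext y
    obtain ⟨x, rfl⟩ := hs y
    exact ConcreteCategory.congr_hom hb x
  have hc : c₁ ≫ (Presheaf.pushforward CommRingCat.{u} b₁).map h.c = c₂ ≫ (Presheaf.pushforward CommRingCat.{u} b₁).map h.c := by
    have h2 := PresheafedSpace.congr_app hv
    apply NatTrans.ext
    funext O
    have h3 := h2 O
    simpa using h3
  rw [cancel_mono] at hc
  rw [hc]

theorem psh_exists {U V W : PresheafedSpace.{_, _, u} CommRingCat.{u}} (h : U ⟶ V) [IsIso h.c]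
    (u : U ⟶ W) (b : (V : TopCat.{u}) ⟶ (W : TopCat.{u})) (hb : h.base ≫ b = u.base) :
    ∃ v : V ⟶ W, v.base = b ∧ h ≫ v = u := by
  obtain ⟨ub, uc⟩ := u
  obtain rfl : h.base ≫ b = ub := hb
  refine ⟨⟨b, uc ≫ (Presheaf.pushforward CommRingCat.{u} b).map (inv h.c)⟩, rfl, ?_⟩
  refine PresheafedSpace.ext _ _ rfl ?_
  show ((uc ≫ (Presheaf.pushforward CommRingCat.{u} b).map (inv h.c)) ≫ (Presheaf.pushforward CommRingCat.{u} b).map h.c) ≫ _ = uc
  have key : (Presheaf.pushforward CommRingCat.{u} b).map (inv h.c) ≫ (Presheaf.pushforward CommRingCat.{u} b).map h.c = 𝟙 _ := by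
    rw [← Functor.map_comp, IsIso.inv_hom_id, CategoryTheory.Functor.map_id]
  erw [Category.assoc uc, key, Category.comp_id]
  simp
  exact Category.comp_id uc

end Aux

/-- Let h : U → V be a surjective morphism of schemes such that the map of sheaves of rings O_V → h_*O_U
is an isomorphism and the underlying space of V carries the quotient topology of that of U. Then for
every scheme W, composition with h is a bijection from the morphisms V → W onto the morphisms U → W
whose underlying map is constant on each fibre of h. -/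
theorem result {U V : Scheme.{u}} (h : U ⟶ V) [Surjective h]
    [IsIso h.c] (hq : Topology.IsQuotientMap h.base) (W : Scheme.{u}) :
    (∀ v₁ v₂ : V ⟶ W, h ≫ v₁ = h ≫ v₂ → v₁ = v₂) ∧
      ∀ u : U ⟶ W, (∀ x y : U, h.base x = h.base y → u.base x = u.base y) → ∃ v : V ⟶ W, h ≫ v = u := by
  haveI : IsIso h.toPshHom.c := ‹IsIso h.c›
  refine ⟨fun v₁ v₂ hv => ?_, fun u hu => ?_⟩
  · have h1 : h.toPshHom ≫ v₁.toPshHom = h.toPshHom ≫ v₂.toPshHom := congrArg (fun t => t.toPshHom) hv
    exact Scheme.Hom.ext' (LocallyRingedSpace.Hom.ext' (psh_ext_of_epi h.toPshHom h.surjective h1))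
  · let b₀ : C(V, W) := hq.lift ⟨u.base, u.continuous⟩ hu
    have hb : h.base ≫ TopCat.ofHom b₀ = u.base := by
      ext x
      exact ContinuousMap.congr_fun (hq.lift_comp ⟨u.base, u.continuous⟩ hu) x
    obtain ⟨v, hvb, hv⟩ := psh_exists h.toPshHom u.toPshHom (TopCat.ofHom b₀) hb
    have hloc : ∀ y : V, IsLocalHom (v.stalkMap y).hom := fun y => by
      obtain ⟨x, rfl⟩ := h.surjective y
      have hc := PresheafedSpace.stalkMap.comp h.toPshHom v x
      have h2 : IsLocalHom ((h.toPshHom ≫ v).stalkMap x).hom := by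
        rw [hv]; exact u.toLRSHom.prop x
      rw [hc] at h2
      exact ⟨fun a ha => h2.map_nonunit a (ha.map (PresheafedSpace.Hom.stalkMap h.toPshHom x).hom)⟩
    refine ⟨⟨⟨v, hloc⟩⟩, ?_⟩
    exact Scheme.Hom.ext' (LocallyRingedSpace.Hom.ext' hv)

end Groth.Agent.S3567
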