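import Groth.Statements.S3568
import Mathlib
import Groth.Agent.NormalSect.Basic

set_option autoImplicit false
universe u
open CategoryTheory CategoryTheory.Limits AlgebraicGeometry
open EGA2

namespace Groth.Agent.S3568

open Groth.Agent.NormalSect

theorem sigma_of_residueField {U V : Scheme.{u}} [IsIntegral U] [IsIntegral V] (h : U ⟶ V)
    (hgen : h.base (genericPoint U) = genericPoint V)
    (hbir : Function.Bijective (h.residueFieldMap (genericPoint U)).hom) :
    ∃ σ : Spec V.functionField ⟶ U, σ ≫ h = V.fromSpecStalk (genericPoint V) := by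
  suffices H : ∀ η : V, h.base (genericPoint U) = η → IsField (V.presheaf.stalk η) →
      ∃ σ : Spec (V.presheaf.stalk η) ⟶ U, σ ≫ h = V.fromSpecStalk η from
    H _ hgen (Field.toIsField V.functionField)
  intro η hη hF
  subst hη
  have hres : ∀ {R : CommRingCat.{u}} [IsLocalRing R], IsField R → Function.Bijective (IsLocalRing.residue R) := by
    intro R _ hR
    refine ⟨(injective_iff_map_eq_zero _).mpr fun r hr => ?_, IsLocalRing.residue_surjective⟩
    have : r ∈ IsLocalRing.maximalIdeal R := by rwa [← IsLocalRing.residue_eq_zero_iff]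
    rw [IsLocalRing.isField_iff_maximalIdeal_eq.mp hR] at this
    exact this
  have h1 := hres hF
  have h2 := hres (R := U.presheaf.stalk (genericPoint U)) (Field.toIsField U.functionField)
  have hbij : Function.Bijective (h.stalkMap (genericPoint U)).hom := by
    refine (Function.Bijective.of_comp_iff' h2 _).mp ?_
    have e := Scheme.residue_residueFieldMap h (genericPoint U)
    have : ⇑(IsLocalRing.residue (U.presheaf.stalk (genericPoint U))) ∘ ⇑(h.stalkMap (genericPoint U)).hom =
        ⇑(h.residueFieldMap (genericPoint U)).hom ∘ ⇑(IsLocalRing.residue (V.presheaf.stalk (h.base (genericPoint U)))) := by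
      funext r
      exact congrArg (fun q => q.hom r) e.symm
    rw [this]
    exact hbir.comp h1
  haveI : IsIso (h.stalkMap (genericPoint U)) := (ConcreteCategory.isIso_iff_bijective _).mpr hbij
  refine ⟨Spec.map (inv (h.stalkMap (genericPoint U))) ≫ U.fromSpecStalk _, ?_⟩
  rw [Category.assoc, ← Scheme.SpecMap_stalkMap_fromSpecStalk, ← Spec.map_comp_assoc, IsIso.hom_inv_id,
    Spec.map_id, Category.id_comp]


/-- Let U be an integral scheme, V a normal integral scheme (all local rings integrally closed domains)
and h : U → V a morphism which is universally closed, radicial (universally injective) and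
birational (it sends the generic point of U to that of V and induces an isomorphism of the residue
fields there). Then h is an isomorphism. (The source assumes only V normal; integrality of V, needed
here to speak of its generic point, follows from the other hypotheses.) -/
theorem result {U V : Scheme.{u}} [AlgebraicGeometry.IsIntegral U] [AlgebraicGeometry.IsIntegral V]
    (hN : Pi1.IsNormalScheme V) (h : U ⟶ V) [UniversallyClosed h]
    [UniversallyInjective h] (hgen : h.base (genericPoint U) = genericPoint V)
    (hbir : Function.Bijective (h.residueFieldMap (genericPoint U)).hom) :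
    IsIso h := by
  have hsurj : Function.Surjective h.base := by
    intro v
    have hcl : IsClosed (Set.range h.base) := h.isClosedMap.isClosed_range
    have : closure {genericPoint V} ⊆ Set.range h.base :=
      closure_minimal (Set.singleton_subset_iff.mpr ⟨_, hgen⟩) hcl
    exact this ((genericPoint_spec V).specializes trivial).mem_closure
  have hinj : Function.Injective h.base := h.injective
  haveI : IsAffineHom h := isAffineHom_of_isInducing h
    (Topology.IsClosedEmbedding.of_continuous_injective_isClosedMap h.continuous hinj h.isClosedMap).isInducing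
    h.isClosedMap.isClosed_range
  haveI : IsIntegralHom h := IsIntegralHom.iff_universallyClosed_and_isAffineHom.mpr ⟨inferInstance, inferInstance⟩
  obtain ⟨σ, hσ⟩ := sigma_of_residueField h hgen hbir
  choose W hW hxW _ using fun x : V =>
    exists_isAffineOpen_mem_and_subset (U := (⊤ : V.Opens)) (x := x) trivial
  haveI hWne : ∀ x, Nonempty (W x) := fun x => ⟨⟨x, hxW x⟩⟩
  choose t ht1 ht2 using fun x : V => exists_section_affine hN h σ hσ (hW x)
  let 𝒰 : V.OpenCover := V.openCoverOfIsOpenCover W
    (eq_top_iff.mpr fun x _ => TopologicalSpace.Opens.mem_iSup.mpr ⟨x, hxW x⟩)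
  have hcompat : ∀ x y : V, pullback.fst (W x).ι (W y).ι ≫ t x = pullback.snd (W x).ι (W y).ι ≫ t y := by
    intro x y
    haveI : Nonempty ↥(pullback (W x).ι (W y).ι) := by
      obtain ⟨z, hz1, hz2⟩ := nonempty_preirreducible_inter (W x).2 (W y).2 ⟨x, hxW x⟩ ⟨y, hxW y⟩
      obtain ⟨w, -, -⟩ := Scheme.Pullback.exists_preimage_pullback (f := (W x).ι) (g := (W y).ι)
        ⟨z, hz1⟩ ⟨z, hz2⟩ rfl
      exact ⟨w⟩
    refine ext_genLift h (pullback.fst (W x).ι (W y).ι ≫ (W x).ι) _ _ (by rw [Category.assoc, ht1])
      (by rw [Category.assoc, ht1]; exact pullback.condition.symm) ?_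
    have h1 : genLift (pullback.fst (W x).ι (W y).ι ≫ (W x).ι) ≫ pullback.fst (W x).ι (W y).ι = genLift (W x).ι := by
      rw [← cancel_mono (W x).ι, Category.assoc, genLift_fac, genLift_fac]
    have h2 : genLift (pullback.fst (W x).ι (W y).ι ≫ (W x).ι) ≫ pullback.snd (W x).ι (W y).ι = genLift (W y).ι := by
      rw [← cancel_mono (W y).ι, Category.assoc, ← pullback.condition, genLift_fac, genLift_fac]
    rw [reassoc_of% h1, reassoc_of% h2, ht2, ht2]
  let s : V ⟶ U := 𝒰.glueMorphisms t hcompat
  have hι : ∀ x, (W x).ι ≫ s = t x := fun x => 𝒰.ι_glueMorphisms t hcompat x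
  refine isIso_of_section h s (𝒰.hom_ext _ _ fun x => ?_)
  show (W x).ι ≫ s ≫ h = (W x).ι ≫ 𝟙 V
  rw [← Category.assoc, hι x, Category.comp_id]
  exact ht1 x

end Groth.Agent.S3568
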