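import Groth.Statements.S3573
import Groth.Agent.ProjUniv.Chart
import Groth.Agent.ProjUniv.Glue

set_option autoImplicit false
set_option synthInstance.maxHeartbeats 400000
universe u
open CategoryTheory CategoryTheory.Limits AlgebraicGeometry
open EGA2

namespace Groth.Agent.S3573

open Groth.Agent.ProjUniv

theorem result {R : Type u} [CommRing R] (n : ℕ) {X : Scheme.{u}}
    (r r' : X ⟶ CohB1.ProjSpace n R) (hrr' : r ≫ CohB1.ProjSpace.toSpec n R = r' ≫ CohB1.ProjSpace.toSpec n R)
    (τ : (Scheme.Modules.pullback r).obj (Twist.twistProjSpace n R 1) ≅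
      (Scheme.Modules.pullback r').obj (Twist.twistProjSpace n R 1))
    (hτ : ∀ i, τ.hom.app ⊤ (ProjUP.pullSec r (Twist.twistProjSpace n R 1) (ProjUP.coord n R i)) =
      ProjUP.pullSec r' (Twist.twistProjSpace n R 1) (ProjUP.coord n R i)) :
    r = r' := by
  have key : ∀ (r r' : X ⟶ Proj (CohB1.polyGrading n R)),
      r ≫ CohB1.ProjSpace.toSpec n R = r' ≫ CohB1.ProjSpace.toSpec n R →
      ∀ τ : P1 r ≅ P1 r', (∀ i, τ.hom.app ⊤ (pco r i) = pco r' i) → r = r' := by
    intro r r' hrr' τ hτ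
    have hpre : ∀ i, r ⁻¹ᵁ D n R i = r' ⁻¹ᵁ D n R i := fun i => by
      refine TopologicalSpace.Opens.ext (Set.ext fun x => ?_)
      refine (gen_pco_iff r i x).symm.trans (Iff.trans ⟨fun h => ?_, fun h => ?_⟩ (gen_pco_iff r' i x))
      · exact hτ i ▸ gen_map τ.hom h
      · have e : τ.inv.app ⊤ (pco r' i) = pco r i := by
          rw [← hτ i]
          exact ConcreteCategory.congr_hom (congrArg (fun f => Scheme.Modules.Hom.app f ⊤) τ.hom_inv_id) (pco r i)
        exact e ▸ gen_map τ.inv h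
    refine hom_ext_of_opens (fun i => r ⁻¹ᵁ D n R i) (fun x => exists_mem_D (r x)) fun i => ?_
    have h' : r ⁻¹ᵁ D n R i ≤ r' ⁻¹ᵁ D n R i := (hpre i).le
    rw [ι_comp_chart r (le_refl (r ⁻¹ᵁ D n R i)), ι_comp_chart r' h', ProjPoint.SpecMap_awayι_eq_point,
      ProjPoint.SpecMap_awayι_eq_point]
    refine congrArg _ (ProjPoint.point_congr ?_ (funext fun k => ?_))
    · rw [chartMap_chartBase r hrr' le_rfl, chartMap_chartBase r' rfl h']
    · refine (isBasis_pco r' h' _ le_rfl).1 ?_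
      have e := congrArg (τ.hom.app (r ⁻¹ᵁ D n R i)) (gres_pco r le_rfl k)
      rw [Scheme.Modules.Hom.app_smul, gres_app, gres_app, hτ, hτ, gres_pco r' h' k] at e
      simp only [QCohLib.map_self]
      exact e.symm
  exact key r r' hrr' τ hτ

end Groth.Agent.S3573
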