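import Groth.Statements.S3578
import Groth.Agent.GrBasics.Core

set_option autoImplicit false
universe u
open EGA2

namespace Groth.Agent.S3578

/-- Via the correspondence between closed subsets of Proj S and radical graded ideals of S_+: let S be a
graded ring and Z a closed subset of Proj S, with J = S_+ ∩ (vanishing ideal of Z). Then Z is
irreducible if and only if J is a prime ideal of the ring-without-unit S_+: J ≠ S_+ and a product of
two elements of S_+ lies in J only if one factor does. -/
theorem result {R A : Type u} [CommRing R] [CommRing A] [Algebra R A] (𝒜 : ℕ → Submodule R A) [GradedAlgebra 𝒜]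
    (Z : Set (ProjectiveSpectrum 𝒜)) (hZ : IsClosed Z) :
    IsIrreducible Z ↔
      (¬ (HomogeneousIdeal.irrelevant 𝒜).toIdeal ≤ (ProjectiveSpectrum.vanishingIdeal Z).toIdeal ∧
        ∀ f ∈ (HomogeneousIdeal.irrelevant 𝒜).toIdeal, ∀ g ∈ (HomogeneousIdeal.irrelevant 𝒜).toIdeal,
          f * g ∈ (ProjectiveSpectrum.vanishingIdeal Z).toIdeal →
            f ∈ (ProjectiveSpectrum.vanishingIdeal Z).toIdeal ∨ g ∈ (ProjectiveSpectrum.vanishingIdeal Z).toIdeal) := by
  obtain ⟨s, hs⟩ := (ProjectiveSpectrum.isClosed_iff_zeroLocus 𝒜 Z).mp hZ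
  constructor
  · intro hirr
    refine ⟨fun hle => ?_, fun f _ g _ hfg => ?_⟩
    · obtain ⟨x, hx⟩ := hirr.nonempty
      exact x.not_irrelevant_le fun a ha => (ProjectiveSpectrum.mem_vanishingIdeal _ a).mp (hle ha) x hx
    · have hsub : Z ⊆ ProjectiveSpectrum.zeroLocus 𝒜 {f} ∪ ProjectiveSpectrum.zeroLocus 𝒜 {g} := by
        intro x hx
        rcases x.isPrime.mem_or_mem ((ProjectiveSpectrum.mem_vanishingIdeal _ _).mp hfg x hx) with h | h
        · exact Or.inl (by simpa [ProjectiveSpectrum.mem_zeroLocus] using h)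
        · exact Or.inr (by simpa [ProjectiveSpectrum.mem_zeroLocus] using h)
      rcases (isPreirreducible_iff_isClosed_union_isClosed.mp hirr.isPreirreducible) _ _
          (ProjectiveSpectrum.isClosed_zeroLocus 𝒜 _) (ProjectiveSpectrum.isClosed_zeroLocus 𝒜 _) hsub with h | h
      · left
        exact (ProjectiveSpectrum.mem_vanishingIdeal _ _).mpr fun x hx => by
          simpa [ProjectiveSpectrum.mem_zeroLocus] using h hx
      · right
        exact (ProjectiveSpectrum.mem_vanishingIdeal _ _).mpr fun x hx => by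
          simpa [ProjectiveSpectrum.mem_zeroLocus] using h hx
  · rintro ⟨hne, hprime⟩
    refine ⟨?_, isPreirreducible_iff_isClosed_union_isClosed.mpr fun Z₁ Z₂ h₁ h₂ hsub => ?_⟩
    · by_contra hem
      exact hne fun a _ => (ProjectiveSpectrum.mem_vanishingIdeal _ a).mpr fun x hx => (hem ⟨x, hx⟩).elim
    · obtain ⟨s₁, rfl⟩ := (ProjectiveSpectrum.isClosed_iff_zeroLocus 𝒜 Z₁).mp h₁
      obtain ⟨s₂, rfl⟩ := (ProjectiveSpectrum.isClosed_iff_zeroLocus 𝒜 Z₂).mp h₂
      by_contra hc
      push Not at hc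
      have key : ∀ t : Set A, ¬ Z ⊆ ProjectiveSpectrum.zeroLocus 𝒜 t →
          ∃ f ∈ (HomogeneousIdeal.irrelevant 𝒜).toIdeal,
            f ∉ (ProjectiveSpectrum.vanishingIdeal Z).toIdeal ∧
            ∀ x ∈ ProjectiveSpectrum.zeroLocus 𝒜 t, f ∈ x.asHomogeneousIdeal.toIdeal := by
        intro t ht
        obtain ⟨x, hxZ, hxt⟩ := Set.not_subset.mp ht
        obtain ⟨a, hat, hax⟩ := Set.not_subset.mp hxt
        obtain ⟨b, hb, hbx⟩ := Set.not_subset.mp x.not_irrelevant_le
        refine ⟨a * b, Ideal.mul_mem_left _ a hb, fun h => ?_, fun y hy => Ideal.mul_mem_right b _ (hy hat)⟩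
        rcases x.isPrime.mem_or_mem ((ProjectiveSpectrum.mem_vanishingIdeal _ _).mp h x hxZ) with h' | h'
        · exact hax h'
        · exact hbx h'
      obtain ⟨f, hfI, hf, hf'⟩ := key s₁ hc.1
      obtain ⟨g, hgI, hg, hg'⟩ := key s₂ hc.2
      have hfg : f * g ∈ (ProjectiveSpectrum.vanishingIdeal Z).toIdeal := by
        refine (ProjectiveSpectrum.mem_vanishingIdeal _ _).mpr fun x hx => ?_
        rcases hsub hx with h | h
        · exact Ideal.mul_mem_right _ _ (hf' x h)
        · exact Ideal.mul_mem_left _ _ (hg' x h)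
      rcases hprime f hfI g hgI hfg with h | h
      · exact hf h
      · exact hg h

end Groth.Agent.S3578
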