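import Groth.Statements.S3579
import Groth.Agent.ProjGamma.Finite
import Groth.Agent.ProjTwist.GenTilde

set_option autoImplicit false
universe u
open CategoryTheory CategoryTheory.Limits AlgebraicGeometry
open EGA2

namespace Groth.Agent.S3579

/-- Let S be a graded ring whose irrelevant ideal S_+ is generated by finitely many elements of degree
one, X = Proj S, and let F be an O_X-module that is quasi-coherent and of finite type. Then for some
n₀ and all n ≥ n₀, the twist F(n) = F ⊗ O_X(n) is a quotient of a finite free module O_X^k (k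
depending on n); in particular F(n) is generated by finitely many global sections. -/
theorem result {R A : Type u} [CommRing R] [CommRing A] [Algebra R A] (𝒜 : ℕ → Submodule R A) [GradedAlgebra 𝒜]
    (s : Finset A) (hs1 : ∀ f ∈ s, f ∈ 𝒜 1)
    (hs : (HomogeneousIdeal.irrelevant 𝒜).toIdeal = Ideal.span (s : Set A))
    (F : (Proj 𝒜).Modules) (hF : Coh.IsQCoh F) (hFT : CohB1.IsFT F) :
    ∃ n₀ : ℕ, ∀ n : ℕ, n₀ ≤ n →
      ∃ (k : ℕ) (p : FlatMod.freeMod (Proj 𝒜) k ⟶ Twist.twistBy 𝒜 F (n : ℤ)), Epi p := by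
  have : F.IsQuasicoherent := hF
  let C := Groth.Agent.ProjGamma.Cover.ofSpan 𝒜 s hs1 hs
  obtain ⟨M, hfin⟩ := Groth.Agent.ProjGamma.exists_finite_model (C := C) hFT
  let _ := Groth.Agent.ProjGamma.decomposition M.homog
  have := hfin
  obtain ⟨n₀, hn₀⟩ := Groth.Agent.ProjTwist.exists_epi_free_tilde (ℳ := Groth.Agent.ProjGamma.piece M.N) C
  refine ⟨n₀, fun n hn => ?_⟩
  obtain ⟨k, p, hp⟩ := hn₀ n hn
  obtain ⟨e₁⟩ := Groth.Agent.ProjTwist.nonempty_tensor_tilde_iso 𝒜 (Groth.Agent.ProjGamma.piece M.N)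
    (zero_add (n : ℤ)) (fun x => by
      obtain ⟨g, hg, hgx⟩ := C.exists_notMem x
      simpa using Groth.Agent.ProjTwist.exists_unit_frac (C.deg_one g hg) hgx (n : ℤ))
  obtain ⟨e₀⟩ := Groth.Agent.ProjGamma.nonempty_iso M
  obtain ⟨e₂⟩ := Groth.Agent.ProjTwist.nonempty_tensorMod_iso e₀ (Iso.refl (Twist.twist 𝒜 (n : ℤ)))
  exact ⟨k, p ≫ (e₁.symm ≪≫ e₂).hom, epi_comp _ _⟩

end Groth.Agent.S3579
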