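import Groth.Statements.S3581
import Mathlib
import Groth.Agent.ProjUniv.Chart
-- import your own Groth.Agent.* helpers here

set_option autoImplicit false
universe u
open CategoryTheory CategoryTheory.Limits AlgebraicGeometry
open EGA2

namespace Groth.Agent.S3581

/-- Over an affine base Spec A, Proj of the graded polynomial algebra A[T] (T of degree one) is
identified with Spec A by its structure morphism: the structure morphism from projective 0-space
over A to Spec A is an isomorphism. -/
theorem result (A : Type u) [CommRing A] :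
    IsIso (CohB1.ProjSpace.toSpec 0 A) := by
  let p : Spec (CommRingCat.of A) ⟶ CohB1.ProjSpace 0 A :=
    ProjPoint.point (R := A) (n := 0) (RingHom.id A) (fun _ => (1 : A)) 0 isUnit_one
  let c := Proj.awayι (CohB1.polyGrading 0 A) (MvPolynomial.X 0) (ProjPoint.X_mem 0) one_pos
  have hrange : c.opensRange = ⊤ := by
    rw [Proj.opensRange_awayι, ← ProjPoint.iSup_basicOpen_X (R := A) (n := 0)]
    exact le_antisymm (le_iSup (fun i => Proj.basicOpen (CohB1.polyGrading 0 A) (MvPolynomial.X i)) 0)
      (iSup_le fun i => le_of_eq (by rw [Fin.fin_one_eq_zero i]))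
  have : Surjective c := ⟨fun x => (hrange.ge (Set.mem_univ x) : x ∈ c.opensRange)⟩
  have : IsIso c := (isIso_iff_isOpenImmersion_and_epi_base c).mpr
    ⟨inferInstance, (TopCat.epi_iff_surjective _).mpr c.surjective⟩
  have hc1 : c = ProjPoint.point (R := A) (n := 0) (ProjPoint.chartBase 0) (fun _ => 1) 0 isUnit_one := by
    have h := ProjPoint.SpecMap_awayι_eq_point (R := A) (n := 0) 0 (RingHom.id _)
    rw [CommRingCat.ofHom_id, Spec.map_id, Category.id_comp] at h
    refine h.trans (ProjPoint.point_congr (RingHom.id_comp _) (funext fun k => ?_))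
    rw [RingHom.id_apply, Fin.fin_one_eq_zero k, ProjPoint.coord_self]
  have hp : p ≫ CohB1.ProjSpace.toSpec 0 A = 𝟙 _ := by
    show ProjPoint.point _ _ _ _ ≫ _ = _
    rw [ProjUniv.point_toSpec, CommRingCat.ofHom_id, Spec.map_id]
  have h2 : (c : _ ⟶ CohB1.ProjSpace 0 A) ≫ CohB1.ProjSpace.toSpec 0 A ≫ p = c ≫ 𝟙 _ := by
    have h3 : (c : _ ⟶ CohB1.ProjSpace 0 A) ≫ CohB1.ProjSpace.toSpec 0 A =
        Spec.map (CommRingCat.ofHom (ProjPoint.chartBase 0)) := by
      rw [hc1]; exact ProjUniv.point_toSpec _ _ _ _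
    rw [← Category.assoc, h3, Category.comp_id]
    show Spec.map (CommRingCat.ofHom (ProjPoint.chartBase 0)) ≫ ProjPoint.point _ _ _ _ = _
    rw [ProjPoint.SpecMap_point, hc1]
    exact ProjPoint.point_congr (RingHom.comp_id _) (funext fun k => map_one _)
  exact ⟨p, (cancel_epi c).mp h2, hp⟩

end Groth.Agent.S3581
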