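import Groth.Statements.S3582
import Mathlib
import Groth.Agent.ProjUniv.Chart
-- import your own Groth.Agent.* helpers here

set_option autoImplicit false
universe u
open CategoryTheory CategoryTheory.Limits AlgebraicGeometry
open EGA2

namespace Groth.Agent.S3582

/-- For every scheme Y and every r ≥ 0 the structure morphism from projective r-space over Y to Y is
surjective. -/
theorem result (r : ℕ) (Y : Scheme.{u}) :
    Surjective (CohB1.ProjSpaceOver.toBase r Y) := by
  have hP : Surjective (CohB1.ProjSpace.toSpec r (ULift.{u} ℤ)) := by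
    have h := ProjUniv.point_toSpec (R := ULift.{u} ℤ) (n := r) (RingHom.id (ULift.{u} ℤ)) (fun _ => (1 : ULift.{u} ℤ)) 0 isUnit_one
    have : Surjective (ProjPoint.point (R := ULift.{u} ℤ) (n := r) (RingHom.id (ULift.{u} ℤ)) (fun _ => (1 : ULift.{u} ℤ)) 0 isUnit_one ≫
        CohB1.ProjSpace.toSpec r (ULift.{u} ℤ)) := by
      rw [h]; simp only [CommRingCat.ofHom_id, Spec.map_id]; infer_instance
    exact Surjective.of_comp (ProjPoint.point (R := ULift.{u} ℤ) (n := r) (RingHom.id (ULift.{u} ℤ)) (fun _ => (1 : ULift.{u} ℤ)) 0 isUnit_one) _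
  exact MorphismProperty.pullback_snd _ _ hP

end Groth.Agent.S3582
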