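import Groth.Statements.S3584
import Groth.Agent.ProjTwist.Ample
-- import your own Groth.Agent.* helpers here

set_option autoImplicit false
universe u
open CategoryTheory CategoryTheory.Limits AlgebraicGeometry
open EGA2

namespace Groth.Agent.S3584

/-- Let S be a graded ring whose irrelevant ideal S_+ is generated by finitely many elements of degree
one. Then the twisting sheaf O_X(1) on X = Proj S is ample (X is quasi-compact and covered by the
affine non-vanishing loci of sections of the positive powers of O_X(1)). -/
theorem result {R A : Type u} [CommRing R] [CommRing A] [Algebra R A] (𝒜 : ℕ → Submodule R A) [GradedAlgebra 𝒜]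
    (s : Finset A) (hs1 : ∀ f ∈ s, f ∈ 𝒜 1)
    (hs : (HomogeneousIdeal.irrelevant 𝒜).toIdeal = Ideal.span (s : Set A)) :
    CohB1.IsAmple (Twist.twist 𝒜 1) := by
  have hcov : ∀ x : ProjectiveSpectrum 𝒜, ∃ i : s, (i : A) ∉ x.asHomogeneousIdeal := by
    intro x
    by_contra hc
    push Not at hc
    refine x.not_irrelevant_le ?_
    show (HomogeneousIdeal.irrelevant 𝒜).toIdeal ≤ x.asHomogeneousIdeal.toIdeal
    rw [hs, Ideal.span_le]
    exact fun f hf => hc ⟨f, hf⟩
  have := ProjTwist.compactSpace_of_finite_cover 𝒜 (fun i : s => (i : A)) (fun _ => 1)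
    (fun _ => one_pos) (fun i => hs1 i i.2) hcov
  exact ProjTwist.isAmple_twist 𝒜 (m := 1) one_pos fun x =>
    (hcov x).elim fun i hi => ⟨i, hs1 i i.2, hi⟩

end Groth.Agent.S3584
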