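import Groth.Statements.S3588
import Groth.Agent.ProjQuot.Range
import Groth.Agent.ProjTwist.Frac

set_option autoImplicit false
universe u
open CategoryTheory CategoryTheory.Limits AlgebraicGeometry
open EGA2

namespace Groth.Agent.S3588

/-- Let S be a graded ring, N_+ the set of nilpotent elements of S_+ (an ideal of S), and S → S/N_+ the
quotient (here: any surjective homomorphism of graded rings φ : S → S' whose kernel is N_+). Then
the induced morphism Proj S' → Proj S is a closed immersion which is a homeomorphism of the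
underlying spaces, and Proj S' is reduced; thus Proj S' is the reduced closed subscheme (Proj
S)_red. -/
theorem result {R A : Type u} [CommRing R] [CommRing A] [Algebra R A] (𝒜 : ℕ → Submodule R A) [GradedAlgebra 𝒜]
    {B : Type u} [CommRing B] [Algebra R B] (ℬ : ℕ → Submodule R B) [GradedAlgebra ℬ]
    (φ : 𝒜 →+*ᵍ ℬ) (hsurj : Function.Surjective φ)
    (hker : ∀ a : A, φ a = 0 ↔ a ∈ (HomogeneousIdeal.irrelevant 𝒜).toIdeal ∧ IsNilpotent a)
    (hφ : HomogeneousIdeal.irrelevant ℬ ≤ (HomogeneousIdeal.irrelevant 𝒜).map φ) :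
    IsClosedImmersion (Proj.map φ hφ) ∧ IsHomeomorph (Proj.map φ hφ).base ∧
      AlgebraicGeometry.IsReduced (Proj ℬ) := by
  have hci : IsClosedImmersion (Proj.map φ hφ) := Groth.Agent.ProjQuot.isClosedImmersion_map φ hφ hsurj
  refine ⟨hci, ?_, ?_⟩
  · rw [isHomeomorph_iff_isEmbedding_surjective]
    refine ⟨(Proj.map φ hφ).isClosedEmbedding.isEmbedding, fun x => ?_⟩
    exact Groth.Agent.ProjQuot.exists_map_eq φ hsurj hφ x fun a ha => by
      obtain ⟨-, n, hn⟩ := (hker a).mp ha
      exact x.isPrime.mem_of_pow_mem n (hn ▸ zero_mem _)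
  · refine Groth.Agent.ProjQuot.isReduced_proj fun b hb hnil => ?_
    obtain ⟨k, hk⟩ := hnil
    obtain ⟨a, rfl⟩ := hsurj b
    classical
    have h0 : φ (DirectSum.decompose 𝒜 a 0 : A) = 0 := by
      have h1 := (HomogeneousIdeal.mem_irrelevant_iff ℬ _).mp hb
      rw [GradedRing.proj_apply] at h1
      rwa [← map_directSumDecompose 𝒜 ℬ φ] at h1
    let a' := a - (DirectSum.decompose 𝒜 a 0 : A)
    have ha' : a' ∈ (HomogeneousIdeal.irrelevant 𝒜).toIdeal := by
      refine (HomogeneousIdeal.mem_irrelevant_iff 𝒜 _).mpr ?_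
      show GradedRing.proj 𝒜 0 a' = 0
      rw [map_sub, GradedRing.proj_apply, GradedRing.proj_apply,
        DirectSum.decompose_of_mem_same 𝒜 (SetLike.coe_mem _), sub_self]
    have hφa : φ a' = φ a := by rw [map_sub, h0, sub_zero]
    obtain ⟨-, N, hN⟩ := (hker (a' ^ (k + 1))).mp (by rw [map_pow, hφa, pow_succ, hk, zero_mul])
    rw [← hφa]
    exact (hker a').mpr ⟨ha', (k + 1) * N, by rw [pow_mul, hN]⟩

end Groth.Agent.S3588
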