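import Groth.Statements.S3589
import Groth.Agent.ProjUniv.Kernel
import Groth.Agent.S3573

set_option autoImplicit false
universe u
open CategoryTheory CategoryTheory.Limits AlgebraicGeometry
open EGA2

namespace Groth.Agent.S3589

theorem result {R : Type u} [CommRing R] (n : ℕ)
    (s₁ s₂ : Spec (CommRingCat.of R) ⟶ CohB1.ProjSpace n R)
    (h₁ : s₁ ≫ CohB1.ProjSpace.toSpec n R = 𝟙 _) (h₂ : s₂ ≫ CohB1.ProjSpace.toSpec n R = 𝟙 _)
    (h : ProjUP.secKernel n R s₁ = ProjUP.secKernel n R s₂) :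
    s₁ = s₂ := by
  obtain ⟨τ, hτ⟩ := Groth.Agent.ProjUniv.exists_iso_of_secKernel_eq s₁ s₂ h
  exact Groth.Agent.S3573.result n s₁ s₂ (h₁.trans h₂.symm) τ hτ

end Groth.Agent.S3589
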