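import Groth.Statements.S3593
import Mathlib
-- import your own Groth.Agent.* helpers here

set_option autoImplicit false
universe u
open CategoryTheory CategoryTheory.Limits AlgebraicGeometry
open EGA2

namespace Groth.Agent.S3593

/-- Let S be a graded R-algebra, Ŝ a graded R-algebra with a graded homomorphism φ : S → Ŝ making Ŝ an
S-algebra, and z an element of Ŝ of degree one such that the S-algebra map S[X] → Ŝ, X ↦ z, is
bijective (so Ŝ = S[z] with z in degree one, the graded ring of the projective cone of S). Then
there is a ring isomorphism S ≅ Ŝ_(z) onto the degree-zero localization at z, sending a homogeneous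
a of degree n to φ(a)/z^n. (This is the isomorphism that identifies the affine cone Spec S with the
open D_+(z) of the projective cone Proj Ŝ; that identification itself is not asserted here.) -/
theorem result {R A : Type u} [CommRing R] [CommRing A] [Algebra R A] (𝒜 : ℕ → Submodule R A) [GradedAlgebra 𝒜]
    {B : Type u} [CommRing B] [Algebra R B] (ℬ : ℕ → Submodule R B) [GradedAlgebra ℬ]
    [Algebra A B] [IsScalarTower R A B] (φ : 𝒜 →+*ᵍ ℬ) (hφ : ∀ a : A, φ a = algebraMap A B a)
    (z : B) (hz : z ∈ ℬ 1) (hhat : Function.Bijective (Polynomial.aeval (R := A) z)) :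
    ∃ θ : A ≃+* HomogeneousLocalization.Away ℬ z,
      ∀ (n : ℕ) (a : A), a ∈ 𝒜 n → (θ a).val = Localization.mk (φ a) ⟨z ^ n, pow_mem (Submonoid.mem_powers z) n⟩ := by
  classical
  have hmem : ∀ (n : ℕ) (a : 𝒜 n), φ (a : A) ∈ ℬ (n • 1) := fun n a => by
    rw [smul_eq_mul, mul_one]; exact φ.map_mem a.2
  let f : ∀ n, 𝒜 n →+ HomogeneousLocalization.Away ℬ z := fun n =>
    AddMonoidHom.mk' (fun a => HomogeneousLocalization.Away.mk ℬ hz n (φ (a : A)) (hmem n a))
      (fun a b => HomogeneousLocalization.val_injective _ (by
        simp only [HomogeneousLocalization.val_add, HomogeneousLocalization.Away.val_mk,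
          Submodule.coe_add, map_add]
        exact (Localization.add_mk_self _ _ _).symm))
  let θ₀ : (DirectSum ℕ fun n => 𝒜 n) →+* HomogeneousLocalization.Away ℬ z :=
    DirectSum.toSemiring f
      (HomogeneousLocalization.val_injective _ (by
        simp [f]))
      (fun {i j} a b => HomogeneousLocalization.val_injective _ (by
        simp [f, Localization.mk_mul, pow_add]))
  let θ : A →+* HomogeneousLocalization.Away ℬ z := θ₀.comp (DirectSum.decomposeRingEquiv 𝒜).toRingHom
  have hθ : ∀ (n : ℕ) (a : A), a ∈ 𝒜 n →
      (θ a).val = Localization.mk (φ a) ⟨z ^ n, pow_mem (Submonoid.mem_powers z) n⟩ := by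
    intro n a ha
    have : DirectSum.decomposeRingEquiv 𝒜 a = DirectSum.of (fun n => 𝒜 n) n ⟨a, ha⟩ :=
      DirectSum.decompose_of_mem 𝒜 ha
    show (θ₀ (DirectSum.decomposeRingEquiv 𝒜 a)).val = _
    rw [this, DirectSum.toSemiring_of]
    simp [f]
  let e : Polynomial A ≃+* B := RingEquiv.ofBijective (Polynomial.aeval (R := A) z).toRingHom hhat
  let ev : B →+* A := (Polynomial.evalRingHom 1).comp e.symm.toRingHom
  have hevz : ev z = 1 := by
    have : e.symm z = Polynomial.X := by
      apply e.injective; rw [RingEquiv.apply_symm_apply]; simp [e]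
    simp [ev, this]
  have heva : ∀ a : A, ev (φ a) = a := by
    intro a
    have : e.symm (φ a) = Polynomial.C a := by
      apply e.injective; rw [RingEquiv.apply_symm_apply]; simp [e, hφ]
    simp [ev, this]
  let L : Localization (Submonoid.powers z) →+* A :=
    IsLocalization.lift (g := ev) (M := Submonoid.powers z) (fun y => by
      obtain ⟨k, hk⟩ := y.2
      rw [← hk, map_pow, hevz, one_pow]
      exact isUnit_one)
  have hL : ∀ a : A, L (θ a).val = a := by
    intro a
    induction a using DirectSum.Decomposition.inductionOn 𝒜 with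
    | zero => simp
    | homogeneous a =>
      rw [hθ _ _ a.2, Localization.mk_eq_mk']
      refine (IsLocalization.lift_mk'_spec _ _ _ _).mpr ?_
      simp [map_pow, hevz, heva]
    | add x y hx hy => rw [map_add, HomogeneousLocalization.val_add, map_add, hx, hy]
  have hsurj : Function.Surjective θ := by
    intro x
    obtain ⟨n, b, hb, rfl⟩ := HomogeneousLocalization.Away.mk_surjective ℬ hz x
    have hb' : b ∈ ℬ n := by simpa using hb
    obtain ⟨p, hp⟩ := hhat.2 b
    refine ⟨∑ j ∈ p.support, if j ≤ n then (DirectSum.decompose 𝒜 (p.coeff j) (n - j) : A) else 0,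
      HomogeneousLocalization.val_injective _ ?_⟩
    have hbn : b = ∑ j ∈ p.support,
        if j ≤ n then φ (DirectSum.decompose 𝒜 (p.coeff j) (n - j) : A) * z ^ j else 0 := by
      conv_lhs => rw [← DirectSum.decompose_of_mem_same ℬ hb', ← hp, Polynomial.aeval_def,
        Polynomial.eval₂_eq_sum, Polynomial.sum_def]
      rw [DirectSum.decompose_sum, DFinsupp.finset_sum_apply, AddSubmonoidClass.coe_finsetSum]
      refine Finset.sum_congr rfl fun j _ => ?_
      have hzj : z ^ j ∈ ℬ j := by simpa using SetLike.pow_mem_graded j hz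
      rw [DirectSum.coe_decompose_mul_of_right_mem ℬ n hzj, ← hφ]
      congr 1
      rw [φ.map_directSumDecompose]
    rw [HomogeneousLocalization.Away.val_mk, map_sum]
    rw [← HomogeneousLocalization.algebraMap_apply]
    rw [map_sum, hbn, Localization.mk_sum]
    refine Finset.sum_congr rfl fun j _ => ?_
    show (θ _).val = _
    split_ifs with hj
    · rw [hθ (n - j) _ (SetLike.coe_mem _), Localization.mk_eq_mk_iff, Localization.r_iff_exists]
      refine ⟨1, ?_⟩
      simp only [OneMemClass.coe_one, one_mul]
      obtain ⟨m, rfl⟩ := Nat.exists_eq_add_of_le hj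
      rw [Nat.add_sub_cancel_left, pow_add]
      ring
    · rw [map_zero, HomogeneousLocalization.val_zero, Localization.mk_zero]
  have hinj : Function.Injective θ := fun a b h => by rw [← hL a, ← hL b, h]
  exact ⟨RingEquiv.ofBijective θ ⟨hinj, hsurj⟩, hθ⟩

end Groth.Agent.S3593
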