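import Groth.Statements.S3622
import Groth.Agent.DualCx.GorenRing
import Groth.Agent.DualCx.SchemeLocus

set_option autoImplicit false
universe u
open CategoryTheory CategoryTheory.Limits AlgebraicGeometry
attribute [local instance] HasDerivedCategory.standard
open Dual3

namespace Groth.Agent.S3622

/-- Let X be a Gorenstein scheme (exactness instances as in the definition of dualizing complexes on
schemes). Then X has a dualizing complex if and only if the structure sheaf placed in degree 0 is a
dualizing complex on X. -/
theorem result (X : Scheme.{u}) (hX : Dual3.IsGorenstein X) [∀ (U V : Scheme.{u}) (j : U ⟶ V) [IsOpenImmersion j], PreservesFiniteLimits (Scheme.Modules.restrictFunctor j)] [∀ (R : CommRingCat.{u}), PreservesFiniteLimits (tilde.functor R)] : (∃ K : DCoh.D X, Dual2.IsDualizingSch X K) ↔ Dual2.IsDualizingSch X (DCoh.inD X (Coh.structureModule X)) := by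
  refine ⟨fun ⟨K, hK⟩ => ?_, fun h => ⟨_, h⟩⟩
  haveI := hX.1
  intro A _ j _
  obtain ⟨ω, hω, -⟩ := hK A j
  haveI := hω.isNoetherianRing
  have hG : LocCoh.IsGorensteinRing A :=
    { isGorensteinLocalRing_localization := fun p _ => by
        obtain ⟨e⟩ := DualCx.nonempty_stalk_equiv j ⟨p, inferInstance⟩
        haveI := hX.2 (j.base ⟨p, inferInstance⟩)
        exact SegreOne.isGorensteinLocalRing_of_ringEquiv e }
  haveI : PreservesFiniteColimits (tilde.functor (CommRingCat.of A)) := by
    have : PreservesColimitsOfSize.{u, u} (tilde.functor (CommRingCat.of A)) :=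
      (tilde.adjunction).leftAdjoint_preservesColimits
    exact PreservesColimitsOfSize.preservesFiniteColimits _
  haveI : (tilde.functor (CommRingCat.of A)).Additive := Functor.additive_of_preserves_binary_products _
  refine ⟨Dual.inD A A, DualCx.isDualizing_self_of_hasDC ⟨ω, hω⟩ hG, ⟨?_⟩⟩
  exact ((Scheme.Modules.restrictFunctor j).mapDerivedCategorySingleFunctor 0).app (Coh.structureModule X) ≪≫
    (DerivedCategory.singleFunctor (Spec (CommRingCat.of A)).Modules 0).mapIso
      (Scheme.Modules.restrictUnitIso j ≪≫ (tildeSelf (R := CommRingCat.of A)).symm) ≪≫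
    (((tilde.functor (CommRingCat.of A)).mapDerivedCategorySingleFunctor 0).app (ModuleCat.of A A)).symm


end Groth.Agent.S3622
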