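import Groth.Statements.S3623
import Groth.Agent.GorLib.RingLevel
import Mathlib
-- import your own Groth.Agent.* helpers here

set_option autoImplicit false
universe u
open CategoryTheory CategoryTheory.Limits AlgebraicGeometry
attribute [local instance] HasDerivedCategory.standard
open Dual3

namespace Groth.Agent.S3623

/-- Let f : Y → X be a local complete intersection morphism (affine-locally given by local complete
intersection ring maps) with X a Gorenstein scheme. Then Y is a Gorenstein scheme. -/
theorem result (Y X : Scheme.{u}) (f : Y ⟶ X) (hf : Dual3.IsLCIMor f) (hX : Dual3.IsGorenstein X) : Dual3.IsGorenstein Y := by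
  haveI := hX.1
  have hV : ∀ V : X.affineOpens, LocCoh.IsGorensteinRing Γ(X, V.1) := by
    intro V
    haveI := IsLocallyNoetherian.component_noetherian V
    refine { isGorensteinLocalRing_localization := fun p _ => ?_ }
    let x := V.2.fromSpec ⟨p, inferInstance⟩
    have hx : x ∈ V.1 := by
      rw [← SetLike.mem_coe, ← V.2.range_fromSpec]
      exact Set.mem_range_self _
    letI := TopCat.Presheaf.algebra_section_stalk X.presheaf ⟨x, hx⟩
    haveI : IsLocalization.AtPrime (X.presheaf.stalk x) p := V.2.isLocalization_stalk' ⟨p, inferInstance⟩ hx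
    haveI := hX.2 x
    exact SegreOne.isGorensteinLocalRing_of_ringEquiv
      (IsLocalization.algEquiv p.primeCompl (X.presheaf.stalk x) (Localization.AtPrime p)).toRingEquiv
  choose U V e hx hl using hf
  have hU : ∀ y, LocCoh.IsGorensteinRing Γ(Y, (U y).1) := by
    intro y
    letI := (f.appLE (V y).1 (U y).1 (e y)).hom.toAlgebra
    haveI := hV (V y)
    exact GorLib.isGorensteinRing_of_isLCI (hl y)
  refine ⟨isLocallyNoetherian_of_affine_cover (S := fun y : Y => U y) ?_ fun y => ?_, fun y => ?_⟩
  · exact eq_top_iff.2 fun y _ => TopologicalSpace.Opens.mem_iSup.2 ⟨y, hx y⟩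
  · haveI := hU y
    infer_instance
  · haveI := hU y
    letI := TopCat.Presheaf.algebra_section_stalk Y.presheaf ⟨y, hx y⟩
    haveI := (U y).2.isLocalization_stalk ⟨y, hx y⟩
    haveI := LocCoh.IsGorensteinRing.isGorensteinLocalRing_localization (A := Γ(Y, (U y).1)) ((U y).2.primeIdealOf ⟨y, hx y⟩).asIdeal
    exact SegreOne.isGorensteinLocalRing_of_ringEquiv
      (IsLocalization.algEquiv ((U y).2.primeIdealOf ⟨y, hx y⟩).asIdeal.primeCompl
        (Localization.AtPrime ((U y).2.primeIdealOf ⟨y, hx y⟩).asIdeal) (Y.presheaf.stalk y)).toRingEquiv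

end Groth.Agent.S3623
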