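import Groth.Statements.S3627
import Groth.Agent.GorLib.FlatLocal
import Groth.Agent.FlatDescent.CM.Scheme
import Groth.Agent.S4656
-- import your own Groth.Agent.* helpers here

set_option autoImplicit false
universe u
open CategoryTheory CategoryTheory.Limits AlgebraicGeometry
attribute [local instance] HasDerivedCategory.standard
open Dual3

namespace Groth.Agent.S3627

section Lem

open CategoryTheory AlgebraicGeometry IsLocalRing LocCoh Groth.FlatDescent Groth.FlatDescent.CM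

theorem gor_congr {A B : Type u} [CommRing A] [CommRing B] (e : A ≃+* B) (h : IsGorensteinLocalRing A) :
    IsGorensteinLocalRing B := (Groth.Agent.GorLib.gorenstein_iff_of_ringEquiv e).1 h

theorem gor_comp_iff {A B C : Type u} [CommRing A] [CommRing B] [CommRing C] [IsLocalRing A] [IsLocalRing B]
    [IsLocalRing C] (φ : A →+* B) [IsLocalHom φ] (ψ : B →+* C) [IsLocalHom ψ] (hψ : ψ.Flat)
    (hB : IsNoetherianRing (B ⧸ (maximalIdeal A).map φ))
    (hC : IsNoetherianRing (C ⧸ ((maximalIdeal A).map φ).map ψ)) :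
    IsGorensteinLocalRing (C ⧸ ((maximalIdeal A).map φ).map ψ) ↔
      IsGorensteinLocalRing (B ⧸ (maximalIdeal A).map φ) ∧
        IsGorensteinLocalRing (C ⧸ (maximalIdeal B).map ψ) := by
  let I := (maximalIdeal A).map φ
  let J := I.map ψ
  have hI : I ≤ maximalIdeal B := ((local_hom_TFAE φ).out 0 2 rfl rfl).mp ‹_›
  have hJ : J ≤ maximalIdeal C := (Ideal.map_mono hI).trans (((local_hom_TFAE ψ).out 0 2 rfl rfl).mp ‹_›)
  haveI : Nontrivial (B ⧸ I) :=
    Ideal.Quotient.nontrivial_iff.mpr (ne_top_of_le_ne_top (maximalIdeal.isMaximal B).ne_top hI)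
  haveI : Nontrivial (C ⧸ J) :=
    Ideal.Quotient.nontrivial_iff.mpr (ne_top_of_le_ne_top (maximalIdeal.isMaximal C).ne_top hJ)
  haveI : IsLocalRing (B ⧸ I) := IsLocalRing.of_surjective' (Ideal.Quotient.mk I) Ideal.Quotient.mk_surjective
  haveI : IsLocalRing (C ⧸ J) := IsLocalRing.of_surjective' (Ideal.Quotient.mk J) Ideal.Quotient.mk_surjective
  let θ : B ⧸ I →+* C ⧸ J := Ideal.quotientMap J ψ Ideal.le_comap_map
  have hθ : θ.Flat := flat_of_surjective_of_ker ψ hψ (Ideal.Quotient.mk I) Ideal.Quotient.mk_surjective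
    (Ideal.Quotient.mk J) Ideal.Quotient.mk_surjective (by rw [Ideal.mk_ker, Ideal.mk_ker]) θ (RingHom.ext fun _ => rfl)
  letI := θ.toAlgebra
  haveI : Module.Flat (B ⧸ I) (C ⧸ J) := hθ
  haveI : IsLocalHom (algebraMap (B ⧸ I) (C ⧸ J)) := ⟨fun a ha => by
    obtain ⟨b, rfl⟩ := Ideal.Quotient.mk_surjective a
    haveI : IsLocalHom (Ideal.Quotient.mk J) := IsLocalHom.of_surjective _ Ideal.Quotient.mk_surjective
    exact (isUnit_of_map_unit ψ b (isUnit_of_map_unit (Ideal.Quotient.mk J) (ψ b) ha)).map _⟩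
  haveI := hB
  haveI := hC
  rw [Groth.Agent.GorLib.gorenstein_iff_of_flat (B ⧸ I) (C ⧸ J)]
  have hm : (maximalIdeal (B ⧸ I)).map (algebraMap (B ⧸ I) (C ⧸ J)) = ((maximalIdeal B).map ψ).map (Ideal.Quotient.mk J) := by
    rw [← IsLocalRing.map_maximalIdeal_of_surjective (Ideal.Quotient.mk I) Ideal.Quotient.mk_surjective, Ideal.map_map,
      Ideal.map_map]
    rfl
  have e : ((C ⧸ J) ⧸ (maximalIdeal (B ⧸ I)).map (algebraMap (B ⧸ I) (C ⧸ J))) ≃+* C ⧸ (maximalIdeal B).map ψ :=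
    (Ideal.quotEquivOfEq hm).trans (DoubleQuot.quotQuotEquivQuotOfLE (Ideal.map_mono hI))
  exact and_congr_right' ⟨fun h => gor_congr e h, fun h => gor_congr e.symm h⟩

theorem isGorensteinAt_iff {X Y : Scheme.{u}} (f : X ⟶ Y) (x : X) :
    Dual3.IsGorensteinAt f x ↔ (f.stalkMap x).hom.Flat ∧ IsGorensteinLocalRing (X.presheaf.stalk x ⧸ maxExt f x) := by
  obtain ⟨e⟩ := exists_fibreStalkEquiv f x
  exact and_congr_right' ⟨fun h => gor_congr e.symm h, fun h => gor_congr e h⟩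

theorem gor_fibre_comp_iff {X Y Z : Scheme.{u}} (f : X ⟶ Y) (g : Y ⟶ Z) (x : X) (hf : (f.stalkMap x).hom.Flat)
    (hg : IsNoetherianRing (Y.presheaf.stalk (f x) ⧸ maxExt g (f x)))
    (hfg : IsNoetherianRing (X.presheaf.stalk x ⧸ maxExt (f ≫ g) x)) :
    IsGorensteinLocalRing (X.presheaf.stalk x ⧸ maxExt (f ≫ g) x) ↔
      IsGorensteinLocalRing (Y.presheaf.stalk (f x) ⧸ maxExt g (f x)) ∧
        IsGorensteinLocalRing (X.presheaf.stalk x ⧸ maxExt f x) := by
  rw [maxExt_comp] at hfg ⊢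
  exact gor_comp_iff (g.stalkMap (f x)).hom (f.stalkMap x).hom hf hg hfg

end Lem


/-- Let f : X → Y and g : Y → Z be morphisms such that the fibres of f, g and g ∘ f are locally
Noetherian, and let x be a point of X. (1) The composite g ∘ f is Gorenstein at x provided f is so
at x and g is so at f(x). (3) Conversely, if f is flat at x and the composite is Gorenstein there,
then both factors are Gorenstein: f at x, and g at f(x). -/
theorem result (X Y Z : Scheme.{u}) (f : X ⟶ Y) (g : Y ⟶ Z) (hfibf : ∀ y, IsLocallyNoetherian (f.fiber y)) (hfibg : ∀ y, IsLocallyNoetherian (g.fiber y)) (hfibfg : ∀ z, IsLocallyNoetherian ((f ≫ g).fiber z)) (x : X) : (Dual3.IsGorensteinAt f x → Dual3.IsGorensteinAt g (f x) → Dual3.IsGorensteinAt (f ≫ g) x) ∧ (Dual3.IsGorensteinAt (f ≫ g) x → (f.stalkMap x).hom.Flat → Dual3.IsGorensteinAt f x ∧ Dual3.IsGorensteinAt g (f x)) := by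
  have hN1 := Groth.FlatDescent.CM.isNoetherianRing_fibre g (f x) (hfibg _)
  have hN2 := Groth.FlatDescent.CM.isNoetherianRing_fibre (f ≫ g) x (hfibfg _)
  simp only [isGorensteinAt_iff]
  refine ⟨fun ⟨hf, hfG⟩ ⟨hg, hgG⟩ => ⟨(Groth.Agent.S4656.result f g x hf).2 hg,
    (gor_fibre_comp_iff f g x hf hN1 hN2).2 ⟨hgG, hfG⟩⟩, fun ⟨hc, hcG⟩ hf => ?_⟩
  obtain ⟨hgG, hfG⟩ := (gor_fibre_comp_iff f g x hf hN1 hN2).1 hcG
  exact ⟨⟨hf, hfG⟩, (Groth.Agent.S4656.result f g x hf).1 hc, hgG⟩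

end Groth.Agent.S3627
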