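import Groth.Statements.S3630
import Groth.Agent.ModGroth.PushStalk
import Groth.Agent.ModGroth.LSums
-- import your own Groth.Agent.* helpers here

set_option autoImplicit false
universe u
open CategoryTheory CategoryTheory.Limits AlgebraicGeometry
attribute [local instance] HasDerivedCategory.standard
open Dual3

namespace Groth.Agent.S3630

/-- For a closed immersion of schemes i : Z → X. The direct image functor i_* from O_Z-modules to
O_X-modules is a left adjoint: it has a right adjoint, the functor sending F to the O_Z-module of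
sections of F annihilated by the ideal of Z. -/
theorem result (Z X : Scheme.{u}) (i : Z ⟶ X) [IsClosedImmersion i] : Dual3.HasHomO i := by
  haveI hI : IsGrothendieckAbelian.{u} Z.Modules :=
    Groth.Agent.ModGroth.sheaf_isGrothendieckAbelian (ModSite.ringSh Z.sheaf)
  haveI hJ : IsGrothendieckAbelian.{u} X.Modules :=
    Groth.Agent.ModGroth.sheaf_isGrothendieckAbelian (ModSite.ringSh X.sheaf)
  haveI : HasColimitsOfSize.{u, u} Z.Modules :=
    inferInstanceAs (HasColimitsOfSize.{u, u} (SheafOfModules.{u} Z.ringCatSheaf))
  haveI : HasColimitsOfSize.{u, u} X.Modules :=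
    inferInstanceAs (HasColimitsOfSize.{u, u} (SheafOfModules.{u} X.ringCatSheaf))
  haveI hst : ∀ (T : Scheme.{u}) (t : T), PreservesColimitsOfSize.{u, u} (DerSch.stalkFunctor T t) := fun T t =>
    (Groth.Agent.ModGroth.Stalk.stalkAdj t).leftAdjoint_preservesColimits
  haveI hres : ∀ z : Z, PreservesColimitsOfSize.{u, u}
      (ModuleCat.restrictScalars.{u} (i.stalkMap z).hom) := fun z => inferInstance
  haveI : PreservesColimitsOfSize.{u, u} (Scheme.Modules.pushforward i) := ⟨fun {J} _ => by
    haveI : ∀ y : X, PreservesColimitsOfShape J (Scheme.Modules.pushforward i ⋙ DerSch.stalkFunctor X y) := fun y => by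
      by_cases hy : y ∈ Set.range i.base
      · obtain ⟨z, rfl⟩ := hy
        exact preservesColimitsOfShape_of_natIso
          (Groth.Agent.ModGroth.PushStalk.pushStalkIso i i.isClosedEmbedding.isInducing z).symm
      · refine ⟨fun {K} => ⟨fun {c} _ => ⟨⟨fun s => 0, fun s j => ?_, fun s m _ => ?_⟩⟩⟩⟩
        · exact (Groth.Agent.ModGroth.PushStalk.isZero_stalk_push i i.isClosedEmbedding.isClosed_range hy _).eq_of_src _ _
        · exact (Groth.Agent.ModGroth.PushStalk.isZero_stalk_push i i.isClosedEmbedding.isClosed_range hy _).eq_of_src _ _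
    exact Groth.Agent.ModGroth.PushStalk.preservesColimitsOfShape_of_jointly _ (fun y => DerSch.stalkFunctor X y)
      fun φ h => Groth.Agent.ModGroth.PushStalk.isIso_of_stalks φ h⟩
  exact Groth.Agent.ModGroth.isLeftAdjoint_of_preservesColimits _

end Groth.Agent.S3630
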