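import Groth.Statements.S3709
import Groth.Agent.SubmDescent.Basic

set_option autoImplicit false
universe u
open SGA1

namespace Groth.Agent.S3709

open AlgebraicGeometry CategoryTheory CategoryTheory.Limits in
/-- A universally submersive morphism is a descent morphism for etale schemes (exactness of Hom_S(X, Y)
-> Hom_S'(X', Y') => Hom_S''(X'', Y'')): let g : S' -> S be universally submersive, X and Y schemes
over S with Y etale over S, X' and Y' their base changes along g, and f' : X' -> Y' an S'-morphism
whose two pullbacks to S'' = S' x_S S' coincide (equivalently: the two composites X'' -> X' -> Y' ->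
Y along the two projections agree). Then there is exactly one S-morphism u : X -> Y whose base
change is f'. -/
theorem result {S S' X Y : Scheme.{u}} (g : S' ⟶ S) (hg : SGA1.UnivSubmersive g)
    (p : X ⟶ S) (q : Y ⟶ S) [Etale q]
    (f' : pullback p g ⟶ pullback q g) (hf' : f' ≫ pullback.snd q g = pullback.snd p g)
    (hcoc : pullback.map p (pullback.fst g g ≫ g) p g (𝟙 X) (pullback.fst g g) (𝟙 S)
        ((Category.comp_id _).trans (Category.id_comp _).symm) (Category.comp_id _) ≫ f' ≫ pullback.fst q g =
      pullback.map p (pullback.fst g g ≫ g) p g (𝟙 X) (pullback.snd g g) (𝟙 S)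
        ((Category.comp_id _).trans (Category.id_comp _).symm) ((Category.comp_id _).trans pullback.condition) ≫
        f' ≫ pullback.fst q g) :
    ∃! u : X ⟶ Y, u ≫ q = p ∧ f' ≫ pullback.fst q g = pullback.fst p g ≫ u := by
  let gX := pullback.fst p g
  let π : pullback p q ⟶ X := pullback.fst _ _
  have : Etale π := MorphismProperty.pullback_fst _ _ inferInstance
  have hst : SGA1.UnivSubmersive.{u}.IsStableUnderBaseChange :=
    MorphismProperty.universally_isStableUnderBaseChange _
  have hgX : SGA1.UnivSubmersive gX := MorphismProperty.pullback_fst _ _ hg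
  have : Surjective gX := ⟨(MorphismProperty.universally_le _ _ hgX : Topology.IsQuotientMap gX.base).surjective⟩
  have hq : Topology.IsQuotientMap (pullback.fst π gX).base :=
    MorphismProperty.universally_le _ _ (MorphismProperty.pullback_fst (P := SGA1.UnivSubmersive) _ _ hgX)
  have hfw : (f' ≫ pullback.fst q g) ≫ q = gX ≫ p := by
    rw [Category.assoc, pullback.condition, ← Category.assoc, hf', pullback.condition]
  let s : pullback p g ⟶ pullback p q := pullback.lift gX (f' ≫ pullback.fst q g) hfw.symm
  have hs : s ≫ π = gX := pullback.lift_fst _ _ _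
  have hc : pullback.fst gX gX ≫ s = pullback.snd gX gX ≫ s := by
    apply pullback.hom_ext
    · rw [Category.assoc, Category.assoc]
      show pullback.fst gX gX ≫ s ≫ π = pullback.snd gX gX ≫ s ≫ π
      rw [hs, pullback.condition]
    · simp only [Category.assoc, s, pullback.lift_snd]
      let l : pullback gX gX ⟶ pullback p (pullback.fst g g ≫ g) := pullback.lift (pullback.fst gX gX ≫ gX)
        (pullback.lift (pullback.fst gX gX ≫ pullback.snd p g) (pullback.snd gX gX ≫ pullback.snd p g) (by
          simp only [Category.assoc, ← pullback.condition]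
          exact pullback.condition_assoc p))
        (by simp only [pullback.lift_fst_assoc, Category.assoc]; simp [gX, pullback.condition])
      let m₀ := pullback.map p (pullback.fst g g ≫ g) p g (𝟙 X) (pullback.fst g g) (𝟙 S)
        ((Category.comp_id _).trans (Category.id_comp _).symm) (Category.comp_id _)
      let m₁ := pullback.map p (pullback.fst g g ≫ g) p g (𝟙 X) (pullback.snd g g) (𝟙 S)
        ((Category.comp_id _).trans (Category.id_comp _).symm) ((Category.comp_id _).trans pullback.condition)
      have ha : l ≫ pullback.fst p (pullback.fst g g ≫ g) = pullback.fst gX gX ≫ gX := pullback.lift_fst _ _ _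
      have hb0 : (l ≫ pullback.snd p (pullback.fst g g ≫ g)) ≫ pullback.fst g g =
          pullback.fst gX gX ≫ pullback.snd p g :=
        (congrArg (· ≫ pullback.fst g g) (pullback.lift_snd _ _ _)).trans (pullback.lift_fst _ _ _)
      have hb1 : (l ≫ pullback.snd p (pullback.fst g g ≫ g)) ≫ pullback.snd g g =
          pullback.snd gX gX ≫ pullback.snd p g :=
        (congrArg (· ≫ pullback.snd g g) (pullback.lift_snd _ _ _)).trans (pullback.lift_snd _ _ _)
      have hm0 : l ≫ m₀ = pullback.fst gX gX := by
        apply pullback.hom_ext
        · exact (Category.assoc _ _ _).trans ((congrArg (l ≫ ·) ((pullback.lift_fst _ _ _).trans (Category.comp_id _))).trans ha)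
        · exact (Category.assoc _ _ _).trans ((congrArg (l ≫ ·) (pullback.lift_snd _ _ _)).trans ((Category.assoc _ _ _).symm.trans hb0))
      have hm1 : l ≫ m₁ = pullback.snd gX gX := by
        apply pullback.hom_ext
        · exact (Category.assoc _ _ _).trans ((congrArg (l ≫ ·) ((pullback.lift_fst _ _ _).trans (Category.comp_id _))).trans
            (ha.trans pullback.condition))
        · exact (Category.assoc _ _ _).trans ((congrArg (l ≫ ·) (pullback.lift_snd _ _ _)).trans ((Category.assoc _ _ _).symm.trans hb1))
      have h3 : (l ≫ m₀) ≫ f' ≫ pullback.fst q g = (l ≫ m₁) ≫ f' ≫ pullback.fst q g := by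
        rw [Category.assoc, Category.assoc]; exact l ≫= hcoc
      rwa [hm0, hm1] at h3
  obtain ⟨t, ⟨ht1, ht2⟩, huniq⟩ := Groth.Agent.SubmDescent.existsUnique_descent gX π hq s hs hc
  refine ⟨t ≫ pullback.snd p q, ⟨?_, ?_⟩, ?_⟩
  · rw [Category.assoc, ← pullback.condition, ← Category.assoc]
    show (t ≫ π) ≫ p = p
    rw [ht1, Category.id_comp]
  · show _ = gX ≫ t ≫ pullback.snd p q
    rw [reassoc_of% ht2]
    exact (pullback.lift_snd _ _ _).symm
  · rintro u ⟨hu1, hu2⟩
    have := huniq (pullback.lift (𝟙 X) u (by rw [Category.id_comp, hu1])) ⟨pullback.lift_fst _ _ _, by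
      apply pullback.hom_ext
      · exact (Category.assoc _ _ _).trans ((congrArg (gX ≫ ·) (pullback.lift_fst _ _ _)).trans
          ((Category.comp_id _).trans (pullback.lift_fst _ _ _).symm))
      · exact (Category.assoc _ _ _).trans ((congrArg (gX ≫ ·) (pullback.lift_snd _ _ _)).trans
          (hu2.symm.trans (pullback.lift_snd _ _ _).symm))⟩
    rw [← this, pullback.lift_snd]

end Groth.Agent.S3709
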