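import Groth.Statements.S3713
import Groth.Agent.EtaleChart.Basic
-- import your own Groth.Agent.* helpers here

set_option autoImplicit false
set_option linter.style.haveILetI false
universe u
open SGA1

namespace Groth.Agent.S3713

open AlgebraicGeometry CategoryTheory CategoryTheory.Limits in
/-- Let Y be locally Noetherian, f : X -> Y locally of finite type, i a section of f and y a point of Y.
Then X is smooth over Y at i(y) (i(y) lies in the smooth locus of f) if and only if there are an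
open neighbourhood U of y, an open V of X with i(U) ⊆ V ⊆ f^{-1}(U), and finitely many sections of
O_X over V, all vanishing along i(U), which define an etale U-morphism from V to an affine space
over U (so that this etale chart carries the section to the zero section). -/
theorem result {X Y : Scheme.{u}} [IsLocallyNoetherian Y] (f : X ⟶ Y)
    [LocallyOfFiniteType f] [LocallyOfFinitePresentation f] (i : Y ⟶ X) (hi : i ≫ f = 𝟙 Y) (y : Y) :
    i.base y ∈ f.smoothLocus ↔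
      ∃ (U : Y.Opens) (V : X.Opens) (_ : y ∈ U) (hUV : U ≤ i ⁻¹ᵁ V) (hVU : V ≤ f ⁻¹ᵁ U) (m : ℕ)
        (v : ULift.{u} (Fin m) → Γ(V, ⊤)),
        Etale (AffineSpace.homOfVector (f.resLE U V hVU) v) ∧ ∀ j, (i.resLE V U hUV).appTop (v j) = 0 := by
  constructor
  swap
  · rintro ⟨U, V, hy, hUV, hVU, m, v, het, -⟩
    have hsm : Smooth (V.ι ≫ f) := by
      rw [← Scheme.Hom.resLE_comp_ι f hVU,
        ← AffineSpace.homOfVector_over (f.resLE U V hVU) v, Category.assoc]
      haveI := het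
      haveI := EtaleChart.smooth_over (ULift.{u} (Fin m)) U.toScheme
      infer_instance
    have h1 : (⟨i.base y, hUV hy⟩ : V.toScheme) ∈ (V.ι ≫ f).smoothLocus := by
      haveI := hsm
      rw [Scheme.Hom.smoothLocus_eq_top]; trivial
    rw [← Scheme.Hom.preimage_smoothLocus_eq] at h1
    exact h1
  intro hsm
  obtain ⟨_, ⟨U₀, hU₀, rfl⟩, hyU₀, -⟩ :=
    Y.isBasis_affineOpens.exists_subset_of_mem_open (Set.mem_univ y) isOpen_univ
  have hfy : f (i.base y) = y := congrArg (fun g : Y ⟶ Y => g.base y) hi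
  obtain ⟨_, ⟨V, hV, rfl⟩, hxV, hVs⟩ :=
    X.isBasis_affineOpens.exists_subset_of_mem_open
      (show i.base y ∈ f ⁻¹ᵁ U₀ by show f (i.base y) ∈ U₀; rw [hfy]; exact hyU₀) (f ⁻¹ᵁ U₀).2
  have hVU₀ : V ≤ f ⁻¹ᵁ U₀ := hVs
  have hfp := f.finitePresentation_appLE hU₀ hV hVU₀
  letI : Algebra Γ(Y, U₀) Γ(X, V) := (f.appLE U₀ V hVU₀).hom.toAlgebra
  haveI : Algebra.FinitePresentation Γ(Y, U₀) Γ(X, V) := hfp
  haveI : Algebra.IsSmoothAt Γ(Y, U₀) (hV.primeIdealOf ⟨i.base y, hxV⟩).asIdeal :=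
    (formallySmooth_stalkMap_iff U₀ hU₀ V hV hVU₀ hxV).1 hsm
  obtain ⟨g, hg, m, b, het⟩ := SmoothCartier.exists_etale_coordinates (A := Γ(Y, U₀))
    (hV.primeIdealOf ⟨i.base y, hxV⟩).asIdeal (Localization.AtPrime (hV.primeIdealOf ⟨i.base y, hxV⟩).asIdeal)
    (r := 0) Fin.elim0 linearIndependent_empty_type
  have hxg : i.base y ∈ X.basicOpen g := by
    rw [X.mem_basicOpen _ _ hxV]
    letI : Algebra Γ(X, V) (X.presheaf.stalk (i.base y)) := X.presheaf.algebra_section_stalk ⟨i.base y, hxV⟩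
    haveI := hV.isLocalization_stalk ⟨i.base y, hxV⟩
    exact IsLocalization.map_units (M := (hV.primeIdealOf ⟨i.base y, hxV⟩).asIdeal.primeCompl)
      (X.presheaf.stalk (i.base y)) ⟨g, hg⟩
  obtain ⟨a, haU, hya⟩ := hU₀.exists_basicOpen_le (V := i ⁻¹ᵁ X.basicOpen g) ⟨y, hxg⟩ hyU₀
  set U := Y.basicOpen a with hUdef
  let g₂ : Γ(X, V) := g * (f.appLE U₀ V hVU₀).hom a
  have hg₂ : X.basicOpen g₂ = X.basicOpen g ⊓ f ⁻¹ᵁ U := by
    rw [X.basicOpen_mul, Scheme.basicOpen_appLE, hUdef, ← inf_assoc,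
      inf_eq_left.2 (X.basicOpen_le g)]
  let V₂ := X.basicOpen g₂
  have hV₂ : IsAffineOpen V₂ := hV.basicOpen g₂
  have hV₂U : V₂ ≤ f ⁻¹ᵁ U := hg₂.le.trans inf_le_right
  have hUV₂ : U ≤ i ⁻¹ᵁ V₂ := fun z hz => by
    show i.base z ∈ X.basicOpen g₂
    rw [hg₂]
    refine ⟨haU hz, ?_⟩
    show f (i.base z) ∈ U
    rw [show f (i.base z) = z from congrArg (fun h : Y ⟶ Y => h.base z) hi]
    exact hz
  let φ : Γ(Y, U) →+* Γ(X, V₂) := (f.appLE U V₂ hV₂U).hom
  let ρ : Γ(X, V₂) →+* Γ(Y, U) := (i.appLE V₂ U hUV₂).hom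
  have hρφ : ∀ s, ρ (φ s) = s := by
    intro s
    show (f.appLE U V₂ hV₂U ≫ i.appLE V₂ U hUV₂).hom s = s
    rw [Scheme.Hom.appLE_comp_appLE]
    have key : ∀ (h : Y ⟶ Y) (e : U ≤ h ⁻¹ᵁ U), h = 𝟙 Y → (h.appLE U U e).hom s = s := by
      rintro _ e rfl
      show ((𝟙 Y : Y ⟶ Y).app U ≫ Y.presheaf.map (homOfLE e).op).hom s = s
      refine Eq.trans (b := ((Y.presheaf.map (𝟙 (Opposite.op U))).hom s)) rfl ?_
      erw [CategoryTheory.Functor.map_id]
      rfl
    exact key _ _ hi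
  let res : Γ(X, V) →+* Γ(X, V₂) := (X.presheaf.map (homOfLE (X.basicOpen_le g₂)).op).hom
  let w : ULift.{u} (Fin m) → Γ(X, V₂) := fun j => res (b j.down)
  have hw : (MvPolynomial.eval₂Hom φ w).Etale := by
    letI : Algebra Γ(Y, U) Γ(X, V₂) := φ.toAlgebra
    letI : Algebra Γ(Y, U₀) Γ(X, V₂) := (res.comp (f.appLE U₀ V hVU₀).hom).toAlgebra
    haveI : IsScalarTower Γ(Y, U₀) Γ(X, V) Γ(X, V₂) := .of_algebraMap_eq' rfl
    haveI := hU₀.isLocalization_basicOpen a
    haveI := hV.isLocalization_basicOpen g₂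
    haveI : IsScalarTower Γ(Y, U₀) Γ(Y, U) Γ(X, V₂) := .of_algebraMap_eq' (by
      show (f.appLE U₀ V hVU₀ ≫ X.presheaf.map (homOfLE (X.basicOpen_le g₂)).op).hom =
        (Y.presheaf.map (homOfLE (Y.basicOpen_le a)).op ≫ f.appLE U V₂ hV₂U).hom
      rw [Scheme.Hom.appLE_map, Scheme.Hom.map_appLE])
    haveI : Algebra.FinitePresentation Γ(X, V) Γ(X, V₂) := IsLocalization.Away.finitePresentation g₂
    haveI : Algebra.FinitePresentation Γ(Y, U₀) Γ(X, V₂) := Algebra.FinitePresentation.trans _ Γ(X, V) _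
    refine EtaleChart.etale_eval₂_comp_of_away (A₀ := Γ(Y, U₀)) a w ?_
    let P := MvPolynomial (Fin 0 ⊕ Fin m) Γ(Y, U₀)
    letI : Algebra P Γ(X, V) :=
      (MvPolynomial.aeval (Sum.elim Fin.elim0 b) : P →ₐ[Γ(Y, U₀)] Γ(X, V)).toRingHom.toAlgebra
    letI : Algebra P Γ(X, V₂) := (res.comp (algebraMap P Γ(X, V))).toAlgebra
    haveI : IsScalarTower P Γ(X, V) Γ(X, V₂) := .of_algebraMap_eq' rfl
    haveI : Algebra.Etale P (Localization.Away g) := het
    have hopen : Algebra.Etale P (Localization.Away g₂) := by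
      haveI : Algebra.FinitePresentation P Γ(X, V) :=
        haveI : IsScalarTower Γ(Y, U₀) P Γ(X, V) := .of_algebraMap_eq fun r =>
          ((MvPolynomial.aeval (Sum.elim Fin.elim0 b) : P →ₐ[Γ(Y, U₀)] Γ(X, V)).commutes r).symm
        Algebra.FinitePresentation.of_restrict_scalars_finitePresentation Γ(Y, U₀) P Γ(X, V)
      rw [← Algebra.basicOpen_subset_etaleLocus_iff_etale]
      refine Set.Subset.trans ?_ (Algebra.basicOpen_subset_etaleLocus_iff_etale.2 het)
      rw [PrimeSpectrum.basicOpen_mul]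
      exact SetLike.coe_subset_coe.2 inf_le_left
    have hP : Algebra.Etale P Γ(X, V₂) :=
      Algebra.Etale.of_equiv ((IsLocalization.algEquiv (Submonoid.powers g₂) (Localization.Away g₂) Γ(X, V₂)).restrictScalars P)
    let σ : ULift.{u} (Fin m) ≃ Fin 0 ⊕ Fin m := Equiv.ulift.trans (Equiv.emptySum (Fin 0) (Fin m)).symm
    let er : MvPolynomial (ULift.{u} (Fin m)) Γ(Y, U₀) ≃ₐ[Γ(Y, U₀)] P := MvPolynomial.renameEquiv _ σ
    have heq : MvPolynomial.eval₂Hom (algebraMap Γ(Y, U₀) Γ(X, V₂)) w =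
        (algebraMap P Γ(X, V₂)).comp er.toRingEquiv.toRingHom := by
      refine MvPolynomial.ringHom_ext (fun r => ?_) fun j => ?_
      · simp only [MvPolynomial.eval₂Hom_C, RingHom.comp_apply]
        show res ((f.appLE U₀ V hVU₀).hom r) = res (MvPolynomial.aeval (Sum.elim Fin.elim0 b) (MvPolynomial.rename σ (MvPolynomial.C r)))
        rw [MvPolynomial.rename_C, MvPolynomial.aeval_C]
        rfl
      · simp only [MvPolynomial.eval₂Hom_X', RingHom.comp_apply]
        show res (b j.down) = res (MvPolynomial.aeval (Sum.elim Fin.elim0 b) (MvPolynomial.rename σ (MvPolynomial.X j)))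
        rw [MvPolynomial.rename_X, MvPolynomial.aeval_X]
        rfl
    rw [heq]
    exact RingHom.Etale.respectsIso.2 _ er.toRingEquiv (RingHom.etale_algebraMap.2 hP)
  let w' : ULift.{u} (Fin m) → Γ(X, V₂) := fun j => w j - φ (ρ (w j))
  have hw' : (MvPolynomial.eval₂Hom φ w').Etale := EtaleChart.etale_eval₂_translate φ w (fun j => ρ (w j)) hw
  refine ⟨U, V₂, hya, hUV₂, hV₂U, m, fun j => V₂.topIso.inv.hom (w' j), ?_, fun j => ?_⟩
  · haveI : IsAffine U.toScheme := hU₀.basicOpen a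
    haveI : IsAffine V₂.toScheme := hV₂
    rw [EtaleChart.etale_homOfVector_iff]
    let eU : Γ(U.toScheme, ⊤) ≃+* Γ(Y, U) := U.topIso.commRingCatIsoToRingEquiv
    let eV : Γ(X, V₂) ≃+* Γ(V₂.toScheme, ⊤) := V₂.topIso.symm.commRingCatIsoToRingEquiv
    have heq : MvPolynomial.eval₂Hom (f.resLE U V₂ hV₂U).appTop.hom (fun j => V₂.topIso.inv.hom (w' j)) =
        eV.toRingHom.comp ((MvPolynomial.eval₂Hom φ w').comp (MvPolynomial.mapEquiv _ eU).toRingHom) := by
      refine MvPolynomial.ringHom_ext (fun r => ?_) fun j => ?_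
      · rw [MvPolynomial.eval₂Hom_C, Scheme.Hom.appTop, Scheme.Hom.resLE_app_top]
        simp [eU, eV, φ]
      · simp [eU, eV]
    rw [heq]
    exact RingHom.Etale.respectsIso.1 _ eV (RingHom.Etale.respectsIso.2 _ (MvPolynomial.mapEquiv _ eU) hw')
  · show ((i.resLE V₂ U hUV₂).app ⊤).hom _ = 0
    rw [Scheme.Hom.resLE_app_top]
    show U.topIso.inv.hom (ρ (V₂.topIso.hom.hom (V₂.topIso.inv.hom (w' j)))) = 0
    rw [show V₂.topIso.hom.hom (V₂.topIso.inv.hom (w' j)) = w' j from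
      congrArg (fun h => h.hom (w' j)) V₂.topIso.inv_hom_id, map_sub, hρφ, sub_self, map_zero]

end Groth.Agent.S3713
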