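import Groth.Statements.S3719
import Groth.Agent.ConnDiv.Covers
import Groth.Agent.InvPow.Projective

set_option autoImplicit false
set_option backward.isDefEq.respectTransparency false
universe u
open Pi1

namespace Groth.Agent.S3719

open AlgebraicGeometry CategoryTheory CategoryTheory.Limits in
/-- Let k be algebraically closed, X a proper, irreducible, normal k-scheme, g : X -> P^r_k a k-morphism
whose image has closure of dimension at least 2, H the hyperplane where a nonzero linear form ℓ
vanishes, and X' a connected finite etale cover of X. Then the inverse image of H in X' is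
connected. (For X' = X this is the connectedness of the hyperplane section Y = g⁻¹(H), and the
general case is the surjectivity of the fundamental group of Y onto that of X.) -/
theorem result (k : Type u) [Field k] [IsAlgClosed k] (X : Scheme.{u})
    [X.Over (Spec (CommRingCat.of k))] [IsProper (X ↘ Spec (CommRingCat.of k))] [IrreducibleSpace X]
    (hN : Pi1.IsNormalScheme X) (r : ℕ) (g : X ⟶ CohB1.ProjSpace r k)
    (hg : g ≫ CohB1.ProjSpace.toSpec r k = X ↘ Spec (CommRingCat.of k))
    (hdim : 2 ≤ topologicalKrullDim ↥(closure (Set.range g.base)))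
    (ℓ : MvPolynomial (Fin (r + 1)) k) (hℓ : ℓ ∈ CohB1.polyGrading r k 1) (hℓ0 : ℓ ≠ 0)
    (X' : FEt.Cat X) [ConnectedSpace X'.left] :
    IsConnected (((X'.hom ≫ g).base ⁻¹' (Proj.basicOpen (CohB1.polyGrading r k) ℓ).carrier)ᶜ) := by
  let f := X ↘ Spec (CommRingCat.of k)
  obtain ⟨hfin, hp, hint, -, hsur, -⟩ := Groth.Agent.ConnDiv.cover_facts f hN X'
  haveI : IsProper (CohB1.ProjSpace.toSpec r k) := Groth.Agent.InvPow.isProper_toSpec r k
  haveI : IsLocallyNoetherian (CohB1.ProjSpace r k) :=
    LocallyOfFiniteType.isLocallyNoetherian (CohB1.ProjSpace.toSpec r k)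
  let q : X'.left ⟶ X := X'.hom
  haveI : IsIntegral X'.left := hint
  let h : X'.left ⟶ CohB1.ProjSpace r k := q ≫ g
  haveI : IsProper (h ≫ CohB1.ProjSpace.toSpec r k) := by show IsProper ((q ≫ g) ≫ _); rw [Category.assoc, hg]; exact hp
  haveI : IsProper h := IsProper.of_comp h (CohB1.ProjSpace.toSpec r k)
  haveI : IsIntegral h.normalization := inferInstance
  haveI : IsFinite h.fromNormalization := Groth.Agent.ZarConn.isFinite_fromNormalization h
  haveI := Groth.Agent.ZarConn.isLocallyNoetherian_normalization h
  haveI : IsProper (h.fromNormalization ≫ CohB1.ProjSpace.toSpec r k) := inferInstance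
  have hτ : ∀ v, _root_.IsConnected (h.toNormalization ⁻¹' {v}) := fun v => by
    haveI := Groth.Agent.ZarConn.connectedSpace_fiber h.toNormalization
      (Groth.Agent.ZarConn.bijective_app_toNormalization h) v
    haveI : ConnectedSpace ↥(h.toNormalization ⁻¹' {v}) :=
      (h.toNormalization.fiberHomeo v).surjective.connectedSpace (h.toNormalization.fiberHomeo v).continuous
    exact isConnected_iff_connectedSpace.mpr inferInstance
  have hτs : Function.Surjective h.toNormalization := fun v => by
    obtain ⟨z, hz⟩ := (hτ v).nonempty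
    exact ⟨z, hz⟩
  -- the dimension of the Stein factorisation
  haveI : IsProper (g ≫ CohB1.ProjSpace.toSpec r k) := by rw [hg]; infer_instance
  haveI : IsProper g := IsProper.of_comp g (CohB1.ProjSpace.toSpec r k)
  have hmem : ∀ v, h.fromNormalization v ∈ closure (Set.range g.base) := fun v => by
    obtain ⟨z, rfl⟩ := hτs v
    refine subset_closure ⟨q z, ?_⟩
    exact (congrArg (fun t : X'.left ⟶ CohB1.ProjSpace r k => t z) h.toNormalization_fromNormalization).symm
  let ν' : h.normalization → ↥(closure (Set.range g.base)) := fun v => ⟨h.fromNormalization v, hmem v⟩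
  have hν's : Function.Surjective ν' := by
    rintro ⟨w, hw⟩
    have hw' : w ∈ closure (Set.range ⇑g) := hw
    rw [g.isClosedMap.isClosed_range.closure_eq] at hw'
    obtain ⟨x, rfl⟩ := hw'
    obtain ⟨z, rfl⟩ := hsur x
    refine ⟨h.toNormalization z, Subtype.ext ?_⟩
    show h.fromNormalization (h.toNormalization z) = g (q z)
    rw [← Scheme.Hom.comp_apply, Scheme.Hom.toNormalization_fromNormalization]
    rfl
  have hν'c : IsClosedMap ν' := fun C hC => by
    refine Topology.IsInducing.subtypeVal.isClosed_iff.mpr ⟨h.fromNormalization '' C, h.fromNormalization.isClosedMap C hC, ?_⟩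
    ext w
    constructor
    · rintro ⟨c, hc, hcw⟩
      exact ⟨c, hc, Subtype.ext hcw⟩
    · rintro ⟨c, hc, rfl⟩
      exact ⟨c, hc, rfl⟩
  haveI : QuasiSober ↥(closure (Set.range g.base)) :=
    (isClosed_closure.isClosedEmbedding_subtypeVal).quasiSober
  have hdN : (2 : WithBot ℕ∞) ≤ topologicalKrullDim h.normalization :=
    hdim.trans (Groth.Agent.S7552.result (X := h.normalization) (Y := ↥(closure (Set.range g.base))) ν'
      (h.fromNormalization.continuous.subtype_mk hmem) hν's (Or.inl hν'c.specializingMap))
  let W : (CohB1.ProjSpace r k).Opens := Proj.basicOpen (CohB1.polyGrading r k) ℓ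
  have hW : IsAffineOpen W := Proj.isAffineOpen_basicOpen (CohB1.polyGrading r k) ℓ hℓ one_pos
  have hc : _root_.IsConnected ((h.fromNormalization ⁻¹ᵁ W : Set h.normalization)ᶜ) := by
    by_cases hne : (h.fromNormalization ⁻¹ᵁ W : Set h.normalization).Nonempty
    · exact Groth.Agent.ConnDiv.isConnected_compl_affineOpen (h.fromNormalization ≫ CohB1.ProjSpace.toSpec r k)
        hdN (hW.preimage h.fromNormalization) hne
    · rw [Set.not_nonempty_iff_eq_empty.mp hne, Set.compl_empty]
      exact isConnected_univ
  have heq : ((X'.hom ≫ g).base ⁻¹' (Proj.basicOpen (CohB1.polyGrading r k) ℓ).carrier)ᶜ =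
      h.toNormalization ⁻¹' ((h.fromNormalization ⁻¹ᵁ W : Set h.normalization)ᶜ) := by
    ext z
    show ¬ (h z ∈ W) ↔ ¬ (h.fromNormalization (h.toNormalization z) ∈ W)
    rw [← Scheme.Hom.comp_apply, Scheme.Hom.toNormalization_fromNormalization]
  rw [heq]
  exact Groth.Agent.ConnDiv.isConnected_preimage h.toNormalization h.toNormalization.isClosedMap hτ hc
end Groth.Agent.S3719
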