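import Groth.Statements.S3731
import Groth.Agent.Ghost.Basic

set_option autoImplicit false
universe u v
open CategoryTheory CategoryTheory.Limits
attribute [local instance] HasDerivedCategory.standard
open EtDl

namespace Groth.Agent.S3731

/-- Let A be an abelian category, k ≥ 0, and K_0 -> K_1 -> ... -> K_{2k} a chain of 2k morphisms in the
derived category of A such that every K_i has H^p(K_i) = 0 for p outside [0, k] and every morphism
K_i -> K_{i+1} induces the zero map on H^p for all p < k. Let π : K_0 -> H^k(K_0)[-k] be the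
morphism to the top cohomology object placed in degree k that induces the identity on H^k. Then the
composite K_0 -> K_{2k} factors through π. -/
theorem result {A : Type u} [Category.{v} A] [Abelian A] (k : ℕ)
    (K : ComposableArrows (DerivedCategory A) (2 * k))
    (hK : ∀ (i : ℕ) (hi : i ≤ 2 * k) (p : ℤ), p < 0 ∨ (k : ℤ) < p →
      IsZero ((DerivedCategory.homologyFunctor A p).obj (K.obj' i)))
    (hf : ∀ (i : ℕ) (hi : i < 2 * k) (p : ℤ), p < (k : ℤ) →
      (DerivedCategory.homologyFunctor A p).map (K.map' i (i + 1)) = 0)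
    (π : K.obj' 0 ⟶ (DerivedCategory.singleFunctor A (k : ℤ)).obj
      ((DerivedCategory.homologyFunctor A (k : ℤ)).obj (K.obj' 0)))
    (hπ : (DerivedCategory.homologyFunctor A (k : ℤ)).map π ≫
      (DerivedCategory.singleFunctorCompHomologyFunctorIso A (k : ℤ)).hom.app
        ((DerivedCategory.homologyFunctor A (k : ℤ)).obj (K.obj' 0)) = 𝟙 _) :
    ∃ φ : (DerivedCategory.singleFunctor A (k : ℤ)).obj
        ((DerivedCategory.homologyFunctor A (k : ℤ)).obj (K.obj' 0)) ⟶ K.obj' (2 * k),
      K.map' 0 (2 * k) = π ≫ φ := by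

  let H := fun p => DerivedCategory.homologyFunctor A p
  let S := (DerivedCategory.singleFunctor A (k : ℤ)).obj
    ((DerivedCategory.homologyFunctor A (k : ℤ)).obj (K.obj' 0))
  obtain ⟨F, ι, δ, hT⟩ := Pretriangulated.distinguished_cocone_triangle₁ π
  have hisoK : IsIso ((H k).map π) := by
    change IsIso ((DerivedCategory.homologyFunctor A (k : ℤ)).map π)
    rw [← IsIso.eq_comp_inv] at hπ
    rw [hπ]; infer_instance
  have hSz : ∀ p : ℤ, p ≠ k → IsZero ((H p).obj S) := fun p hp => by
    rcases lt_or_gt_of_ne hp with h | h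
    · exact DerivedCategory.isZero_of_isGE _ (k : ℤ) p h
    · exact DerivedCategory.isZero_of_isLE _ (k : ℤ) p h
  have hK0 : ∀ p : ℤ, p < 0 ∨ (k : ℤ) < p → IsZero ((H p).obj (K.obj' 0)) := hK 0 (Nat.zero_le _)
  have hepi : ∀ p : ℤ, (k : ℤ) - 1 ≤ p → Epi ((H p).map π) := fun p hp => by
    rcases eq_or_ne p (k : ℤ) with rfl | hne
    · infer_instance
    · exact ⟨fun _ _ _ => (hSz p hne).eq_of_src _ _⟩
  have hmono : ∀ p : ℤ, (k : ℤ) ≤ p → Mono ((H p).map π) := fun p hp => by
    rcases eq_or_ne p (k : ℤ) with rfl | hne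
    · infer_instance
    · exact ⟨fun _ _ _ => (hK0 p (Or.inr (by omega))).eq_of_tgt _ _⟩
  haveI hF : F.IsLE ((k : ℤ) - 1) := (F.isLE_iff _).2 fun i hi => by
    haveI : Mono ((H i).map ι) := (DerivedCategory.HomologySequence.mono_homologyMap_mor₁_iff _ hT (i - 1) i (by omega)).2
      ((DerivedCategory.HomologySequence.epi_homologyMap_mor₂_iff _ hT (i - 1) i (by omega)).1 (hepi (i - 1) (by omega)))
    refine IsZero.of_mono_eq_zero ((H i).map ι) ?_
    haveI := hmono i (by omega)
    have h0 := congrArg (H i).map (Pretriangulated.comp_distTriang_mor_zero₁₂ _ hT)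
    simp only [Functor.map_comp, Functor.map_zero] at h0
    exact (cancel_mono ((H i).map π)).1 (h0.trans zero_comp.symm)
  let fin : ℕ → Fin (2 * k + 1) := fun j => ⟨min j (2 * k), by omega⟩
  have hfin : Monotone fin := fun i j hij => Fin.mk_le_mk.2 (by omega)
  let E : ℕ ⥤ DerivedCategory A := hfin.functor ⋙ K
  have zeroStep : ∀ (x y : Fin (2 * k + 1)) (h : x ≤ y), y.val = x.val + 1 → ∀ q : ℤ, q < (k : ℤ) →
      (H q).map (K.map (homOfLE h)) = 0 := by
    rintro ⟨x, hx⟩ ⟨y, hy⟩ h rfl q hq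
    exact hf x (Nat.lt_of_succ_lt_succ hy) q hq
  have hcomp : ι ≫ E.map (homOfLE (Nat.zero_le k)) = 0 := by
    rcases Nat.eq_zero_or_pos k with hk0 | hkpos
    · haveI : (K.obj' 0).IsGE 0 := (DerivedCategory.isGE_iff _ 0).2 fun i hi => hK0 i (Or.inl hi)
      rw [show ι = 0 from DerivedCategory.TStructure.t.zero ι ((k : ℤ) - 1) 0 (by omega)]
      exact zero_comp
    · haveI : F.IsLE (0 + ((k - 1 : ℕ) : ℤ)) := by
        rw [show (0 : ℤ) + ((k - 1 : ℕ) : ℤ) = (k : ℤ) - 1 by omega]; exact hF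
      have h := Groth.Agent.Ghost.comp_eq_zero (fun j => E.obj j) (fun j => E.map (homOfLE (Nat.le_succ j)))
        (fun j => E.map (homOfLE (Nat.zero_le j))) (E.map_id 0) (fun j => E.map_comp _ _)
        (ι : F ⟶ E.obj 0) 0 (k - 1)
        (fun j hj q hq => zeroStep (fin j) (fin (j + 1)) (hfin (Nat.le_succ j))
          (by simp only [fin]; omega) q (by omega))
        ((DerivedCategory.isGE_iff _ 0).2 fun i hi =>
          hK (fin (k - 1 + 1)).val (Nat.lt_succ_iff.1 (fin (k - 1 + 1)).isLt) i (Or.inl hi))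
      have e : k - 1 + 1 = k := by omega
      rwa [e] at h
  have hfull : ι ≫ K.map' 0 (2 * k) = 0 := by
    have : K.map' 0 (2 * k) = (E.map (homOfLE (Nat.zero_le k)) : K.obj' 0 ⟶ K.obj (fin k)) ≫
        K.map (homOfLE (Fin.mk_le_mk.2 (by omega) : fin k ≤ ⟨2 * k, by omega⟩)) := by
      exact (congrArg K.map (Subsingleton.elim _ _)).trans (K.map_comp _ _)
    exact (congrArg (ι ≫ ·) this).trans ((Category.assoc _ _ _).symm.trans ((congrArg (· ≫ _) hcomp).trans zero_comp))
  exact Pretriangulated.Triangle.yoneda_exact₂ _ hT _ hfull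

end Groth.Agent.S3731
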