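import Groth.Statements.S3781
import Groth.Agent.Lambda.Det
-- import your own Groth.Agent.* helpers here

set_option autoImplicit false
universe v u
open Groth.Agent.Lambda LambdaRing
open CategoryTheory CategoryTheory.Limits AlgebraicGeometry
attribute [local instance] HasDerivedCategory.standard
open KRR

namespace Groth.Agent.S3781

/-- Let K be a λ-ring with positive structure having the splitting property, L its group of line
elements and F^n the γ-filtration. Assume moreover that the inverse of a line element is a line
element and that for a positive e with ε(e) = r the element det e = λ^r(e) is positive (hence a line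
element); these are part of the published setting but are not implied by the axioms used here, so
they are hypotheses. Then u ↦ u − 1 induces an isomorphism L ≅ Gr^1 K = F^1/F^2: every x ∈ F^1 is
congruent modulo F^2 to u − 1 for some line element u, and line elements u, v with u − v ∈ F^2 are
equal. -/
theorem result (K : Type v) [CommRing K] [LambdaRing.LambdaOps K] (P : LambdaRing.PosStructure K) (hK : LambdaRing.HasSplitting K P)
    (hLinv : ∀ w : K, P.IsLine w → ∃ w' : K, P.IsLine w' ∧ w * w' = 1)
    (hdet : ∀ e : K, e ∈ P.pos → LambdaRing.LambdaOps.lam (P.aug e).toNat e ∈ P.pos) :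
    (∀ x : K, x ∈ LambdaRing.gammaFiltration P 1 → ∃ u : K, P.IsLine u ∧ x - (u - 1) ∈ LambdaRing.gammaFiltration P 2) ∧
    ∀ u v : K, P.IsLine u → P.IsLine v → u - v ∈ LambdaRing.gammaFiltration P 2 → u = v := by
  have hdl : ∀ e ∈ P.pos, P.IsLine (det P e) := fun e he => ⟨hdet e he, by
    rw [det, aug_lam hK he, Nat.choose_self]; rfl⟩
  refine ⟨fun x hx => ?_, fun u v hu hv h => ?_⟩
  · obtain ⟨e, f, he, hf, rfl⟩ := P.exists_sub x
    obtain ⟨w, hw, hfw⟩ := hLinv _ (hdl f hf)
    have haug : P.aug e = P.aug f := by
      have := aug_eq_zero_of_mem hK (n := 0) hx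
      rwa [map_sub, sub_eq_zero] at this
    refine ⟨det P e * w, isLine_mul (hdl e he) hw, ?_⟩
    have h1 : (det P e - det P f) * (w - 1) ∈ gammaFiltration P 2 :=
      mul_mem_filtration P (m := 1) (n := 1)
        (mem_filtration_one P (by rw [map_sub, (hdl e he).2, (hdl f hf).2, sub_self]))
        (mem_filtration_one P (by rw [map_sub, hw.2, map_one, sub_self]))
    have h2 := sub_mem (neg_mem (det_sub_one_sub_mem hK he)) (neg_mem (det_sub_one_sub_mem hK hf))
    rw [haug] at h2
    convert sub_mem h2 h1 using 1
    linear_combination -hfw
  · have := det_eq_of_mem hu.1 hv.1 (detKer_of_mem_filtration hK h)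
    rwa [det_line hu, det_line hv] at this

end Groth.Agent.S3781
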