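import Groth.Statements.S3782
import Groth.Agent.Lambda.ExtFil
-- import your own Groth.Agent.* helpers here

set_option autoImplicit false
universe v u
open Groth.Agent.Lambda Groth.Agent.Lambda.Ext LambdaRing
open CategoryTheory CategoryTheory.Limits AlgebraicGeometry
attribute [local instance] HasDerivedCategory.standard
open KRR

namespace Groth.Agent.S3782

/-- Let K be a λ-ring with positive structure having the splitting property, e positive with ε(e) = r +
1, and K_e = K[T]/(p_e) with generator ℓ, equipped with a λ-structure extending that of K with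
λ^i(ℓ) = 0 for i ≥ 2 and a positive structure making K ⟶ K_e an extension with ℓ a line element and
again having the splitting property. Then for every k ≥ 0 the γ-filtration of K_e is F^k K_e =
Σ_{i=0}^{r} F^{k-i}K · (ℓ - 1)^i (F^j K = K for j ≤ 0). In particular F^k K_e ∩ K = F^k K. -/
theorem result (K : Type v) [CommRing K] [LambdaRing.LambdaOps K] (P : LambdaRing.PosStructure K) (hK : LambdaRing.HasSplitting K P) (e : K) (he : e ∈ P.pos) (r : ℕ) (hr : P.aug e = r + 1)
    (inst : LambdaRing.LambdaOps (AdjoinRoot (KRR.extPoly P e))) (Pe : @LambdaRing.PosStructure _ _ inst)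
    (hext : @LambdaRing.IsExtension K _ _ _ _ inst P Pe (AdjoinRoot.of (KRR.extPoly P e)))
    (hroot : ∀ i : ℕ, 2 ≤ i → @LambdaRing.LambdaOps.lam _ _ inst i (AdjoinRoot.root (KRR.extPoly P e)) = 0)
    (hline : @LambdaRing.PosStructure.IsLine _ _ inst Pe (AdjoinRoot.root (KRR.extPoly P e)))
    (hsplit : @LambdaRing.HasSplitting _ _ inst Pe) (k : ℕ) :
    @LambdaRing.gammaFiltration _ _ inst Pe k =
      ⨆ i ∈ Finset.range (r + 1), AddSubgroup.map
        ((AddMonoidHom.mulRight ((AdjoinRoot.root (KRR.extPoly P e) - 1) ^ i)).comp
          (AdjoinRoot.of (KRR.extPoly P e)).toAddMonoidHom)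
        (LambdaRing.gammaFiltration P (k - i)) := by
  apply le_antisymm
  · intro z hz
    refine mem_sup_of_mem_M hK he hr ?_
    rcases k with _ | k
    · exact (MFil P e).mem_zero z
    rw [gammaFiltration, if_neg (Nat.succ_ne_zero k)] at hz
    induction hz using AddSubgroup.closure_induction with
    | zero => exact zero_mem _
    | add a b _ _ ha hb => exact add_mem ha hb
    | neg a _ ha => exact neg_mem ha
    | mem y hy =>
      obtain ⟨l, hl, hn, rfl⟩ := hy
      refine (MFil P e).anti hn ?_
      clear hn
      induction l with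
      | nil => exact (MFil P e).mem_zero _
      | cons a l ih =>
        simp only [List.map_cons, List.prod_cons, List.sum_cons]
        exact (MFil P e).mul (gamma_mem_M hext hline hsplit (hl a List.mem_cons_self) a.1)
          (ih fun p hp => hl p (List.mem_cons_of_mem _ hp))
  · refine iSup₂_le fun i _ => ?_
    rintro _ ⟨a, ha, rfl⟩
    exact M_le hext hline k (Ideal.subset_span ⟨i, a, ha, rfl⟩)

end Groth.Agent.S3782
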