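import Groth.Statements.S3791
-- import your own Groth.Agent.* helpers here

set_option autoImplicit false
universe v u
open CategoryTheory CategoryTheory.Limits AlgebraicGeometry
attribute [local instance] HasDerivedCategory.standard
open KRR

namespace Groth.Agent.S3791

section Aux

open Finset LambdaRing

variable {K : Type v} [CommRing K] [LambdaRing.LambdaOps K] (P : LambdaRing.PosStructure K)

theorem lam_line {w : K} (hw : P.IsLine w) {i : ℕ} (hi : 2 ≤ i) : LambdaOps.lam i w = 0 :=
  P.lam_eq_zero w hw.1 i (by rw [hw.2]; omega)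

theorem isUnit_line {w : K} (hw : P.IsLine w) : IsUnit w := by
  have h := P.isUnit_lam w hw.1
  rw [hw.2] at h
  simpa [LambdaOps.lam_one] using h

theorem lam_add_line {w : K} (hw : P.IsLine w) (k : ℕ) (x : K) :
    LambdaOps.lam (k + 1) (x + w) = LambdaOps.lam (k + 1) x + LambdaOps.lam k x * w := by
  rw [LambdaOps.lam_add, sum_range_succ, sum_range_succ,
    sum_eq_zero fun i hi => by rw [lam_line P hw (by have := mem_range.mp hi; omega), mul_zero]]
  simp [LambdaOps.lam_zero, LambdaOps.lam_one, add_comm]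

theorem one_isLine : P.IsLine (1 : K) :=
  ⟨by simpa using P.natCast_mem 1 one_pos, map_one _⟩

include P in
theorem lam_natCast_gt {m i : ℕ} (hm : 0 < m) (hi : m < i) : LambdaOps.lam i (m : K) = 0 :=
  P.lam_eq_zero _ (P.natCast_mem m hm) i (by simpa using hi)

include P in
theorem lam_natCast_self : ∀ (m : ℕ), 0 < m → LambdaOps.lam m (m : K) = 1
  | 1, _ => by simp [LambdaOps.lam_one]
  | m + 2, _ => by
    rw [Nat.cast_succ, lam_add_line P (one_isLine P), lam_natCast_self (m + 1) (Nat.succ_pos _),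
      lam_natCast_gt P (Nat.succ_pos _) (Nat.lt_succ_self _)]
    simp

include P in
theorem lam_natCast_pred (m : ℕ) (hm : 0 < m) (v : K) :
    ∀ e : K, e + v = (m : K) → P.IsLine v → e ∈ P.pos →
      ∀ k, k ≤ m → LambdaOps.lam k e = ∑ i ∈ range (k + 1), (-v) ^ i * LambdaOps.lam (k - i) (m : K) := by
  intro e he hv _ k hk
  induction k with
  | zero => simp [LambdaOps.lam_zero]
  | succ k ih =>
    have h := lam_add_line P hv k e
    rw [he] at h
    rw [sum_range_succ', pow_zero, one_mul, Nat.sub_zero, h, ih (by omega)]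
    rw [sum_mul, add_left_comm, ← sum_add_distrib, sum_eq_zero, add_zero]
    intro i _
    rw [Nat.succ_sub_succ]
    ring

include P in
theorem sum_lam_natCast (v : K) : ∀ m : ℕ, 0 < m →
    ∑ i ∈ range (m + 1), (-v) ^ i * LambdaOps.lam (m - i) (m : K) = (1 - v) ^ m
  | 1, _ => by simp [sum_range_succ, LambdaOps.lam_one, LambdaOps.lam_zero]; ring
  | m + 2, _ => by
    have ih := sum_lam_natCast v (m + 1) (Nat.succ_pos _)
    have key : ∀ i ∈ range (m + 2),
        LambdaOps.lam (m + 2 - i) ((m + 2 : ℕ) : K) = LambdaOps.lam (m + 2 - i) ((m + 1 : ℕ) : K) +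
          LambdaOps.lam (m + 1 - i) ((m + 1 : ℕ) : K) := by
      intro i hi
      have : m + 2 - i = (m + 1 - i) + 1 := by have := mem_range.mp hi; omega
      rw [this, Nat.cast_succ (m + 1), lam_add_line P (one_isLine P), mul_one]
    rw [sum_range_succ, sum_congr rfl fun i hi => by rw [key i hi]]
    simp only [mul_add, sum_add_distrib]
    rw [ih, sum_range_succ', pow_zero, one_mul, Nat.sub_zero,
      lam_natCast_gt P (Nat.succ_pos _) (Nat.lt_succ_self _), add_zero, Nat.sub_self,
      LambdaOps.lam_zero, mul_one]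
    have hsum : ∑ i ∈ range (m + 1), (-v) ^ (i + 1) * LambdaOps.lam (m + 2 - (i + 1)) ((m + 1 : ℕ) : K)
        = (-v) * ((1 - v) ^ (m + 1) - (-v) ^ (m + 1)) := by
      rw [← ih, sum_range_succ _ (m + 1), Nat.sub_self, LambdaOps.lam_zero, mul_one,
        add_sub_cancel_right, mul_sum]
      refine sum_congr rfl fun i _ => ?_
      rw [Nat.succ_sub_succ]
      ring
    rw [hsum]
    ring

theorem pow_sub_one_nilpotent {v e : K} {m : ℕ} (hv : P.IsLine v) (he : e ∈ P.pos)
    (h : e + v = (m : K)) : IsNilpotent (1 - v) := by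
  have haug : P.aug e + 1 = m := by
    have := congrArg P.aug h
    rwa [map_add, hv.2, map_natCast] at this
  have hm : 0 < m := by have := P.aug_pos e he; omega
  have h0 : LambdaOps.lam m e = 0 := P.lam_eq_zero e he m (by omega)
  rw [lam_natCast_pred P m hm v e h hv he m le_rfl, sum_lam_natCast P v m hm] at h0
  exact ⟨m, h0⟩

theorem line_mul {v w : K} (hv : P.IsLine v) (hw : P.IsLine w) : P.IsLine (v * w) :=
  ⟨P.mul_mem _ _ hv.1 hw.1, by rw [map_mul, hv.2, hw.2, one_mul]⟩

theorem line_pow_mul {u w : K} (hu : P.IsLine u) (hw : P.IsLine w) : ∀ n : ℕ, P.IsLine (u ^ n * w)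
  | 0 => by simpa using hw
  | n + 1 => by rw [pow_succ', mul_assoc]; exact line_mul P hu (line_pow_mul hu hw n)

theorem nilpotent_of_ample {u : K} (hu : KRR.IsAmpleElt P u) {w : K} (hw : P.IsLine w) :
    IsNilpotent (w - 1) := by
  obtain ⟨n₁, h₁⟩ := hu.2 (-1)
  obtain ⟨n₂, h₂⟩ := hu.2 (-w)
  have h : ∀ (n : ℕ) (v : K), P.IsLine v → (∀ n, n₁ + n₂ ≤ n → ∃ (e : K) (m : ℕ),
      e ∈ P.pos ∧ u ^ n * -v = e - m) → n₁ + n₂ ≤ n → IsNilpotent (u ^ n * v - 1) := by
    intro n v hv hx hn
    obtain ⟨e, m, he, heq⟩ := hx n hn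
    rw [← neg_sub, isNilpotent_neg_iff]
    exact pow_sub_one_nilpotent P (line_pow_mul P hu.1 hv n) he (by linear_combination -heq)
  set n := n₁ + n₂
  have e1 := h n 1 (one_isLine P) (fun k hk => h₁ k (by omega)) le_rfl
  have e2 := h n w hw (fun k hk => h₂ k (by omega)) le_rfl
  obtain ⟨c, hc⟩ := (isUnit_line P hu.1).pow n
  have e3 : IsNilpotent ((u ^ n * w - 1) - (u ^ n * 1 - 1)) := Commute.isNilpotent_sub (mul_comm _ _) e2 e1
  rw [show (u ^ n * w - 1) - (u ^ n * 1 - 1) = u ^ n * (w - 1) by ring] at e3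
  obtain ⟨k, hk⟩ := e3
  refine ⟨k, ?_⟩
  rw [mul_pow, ← hc, ← Units.val_pow_eq_pow_val] at hk
  exact (Units.mul_right_eq_zero _).mp hk

end Aux

/-- Let K be a λ-ring with positive structure P and u an ample line element (for every x, u^n x is a
positive element minus a natural number for all large n). Then for every line element v, the element
v - 1 is nilpotent. -/
theorem result (K : Type v) [CommRing K] [LambdaRing.LambdaOps K] (P : LambdaRing.PosStructure K)
    (u : K) (hu : KRR.IsAmpleElt P u) (w : K) (hw : P.IsLine w) : IsNilpotent (w - 1) := by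
  exact nilpotent_of_ample P hu hw

end Groth.Agent.S3791
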