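import Groth.Statements.S3792
import Groth.Agent.Lambda.Alt
import Mathlib.RingTheory.Polynomial.Vieta

set_option autoImplicit false
universe v u
open CategoryTheory CategoryTheory.Limits AlgebraicGeometry
attribute [local instance] HasDerivedCategory.standard
open KRR

namespace Groth.Agent.S3792

/-- Let K be a λ-ring with positive structure having the splitting property, e a positive element and j
≥ 1. Then ψ^j(λ_{-1}(e)) = λ_{-1}(e) · θ^j(e), where λ_{-1}(e) = Σ_{i ≤ ε(e)} (-1)^i λ^i(e), ψ^j is
the Adams operation and θ^j(e) is Bott's cannibalistic class (the universal polynomial in the λ^i(e)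
which is Π (1 + u_i + ⋯ + u_i^{j-1}) on a splitting e = Σ u_i). -/
theorem result (K : Type v) [CommRing K] [LambdaRing.LambdaOps K] (P : LambdaRing.PosStructure K) (hK : LambdaRing.HasSplitting K P) (e : K) (he : e ∈ P.pos) (j : ℕ) (hj : 1 ≤ j) :
    LambdaRing.adams P j (KRR.lamAlt P e) = KRR.lamAlt P e * KRR.bott P j e := by
  obtain ⟨L, f, hL, hf, s, hs, hse⟩ := Lambda.exists_split_pos hK he
  have hcard := Lambda.card_split hf hs hse
  refine hf.injective ?_
  have hA : f (KRR.lamAlt P e) = (s.map fun u => 1 - u).prod := by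
    rw [← Lambda.sum_neg_one_pow_esymm, KRR.lamAlt, hcard, map_sum]
    simp [Lambda.map_lam_split hf hs hse]
  rw [map_mul, Lambda.map_adams hf, hA, ← Lambda.adamsRing_apply hL, map_multiset_prod, Multiset.map_map]
  have hB : f (KRR.bott P j e) = (s.map fun u => ∑ k ∈ Finset.range j, u ^ k).prod := by
    obtain ⟨w, hw⟩ := Lambda.exists_fin_map s hcard.symm
    have hval : MvPolynomial.aeval (fun i : Fin (P.aug e).toNat =>
        MvPolynomial.esymm (Fin (P.aug e).toNat) ℤ ((i : ℕ) + 1)) (KRR.bottPoly j (P.aug e).toNat) =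
        KRR.bottSym j (P.aug e).toNat := by
      rw [← MvPolynomial.esymmAlgHom_apply]
      exact congrArg Subtype.val ((MvPolynomial.esymmAlgEquiv (Fin (P.aug e).toNat) ℤ
        (Fintype.card_fin _)).apply_symm_apply ⟨KRR.bottSym j _, KRR.bottSym_isSymmetric j _⟩)
    have := congrArg (MvPolynomial.aeval w) hval
    rw [MvPolynomial.comp_aeval_apply] at this
    rw [KRR.bott, ← f.toIntAlgHom_apply, MvPolynomial.comp_aeval_apply]
    simp only [RingHom.toIntAlgHom_apply, Lambda.map_lam_split hf hs hse]
    simp only [MvPolynomial.aeval_esymm_eq_multiset_esymm, hw] at this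
    rw [this, ← hw, Multiset.map_map]
    simp [KRR.bottSym, Finset.prod_eq_multiset_prod, map_list_prod, List.map_ofFn, Function.comp_def]
  rw [hB, ← Multiset.prod_map_mul]
  refine congrArg Multiset.prod (Multiset.map_congr rfl fun u hu => ?_)
  rw [Function.comp_apply, map_sub, map_one, Lambda.adamsRing_apply, Lambda.adams_line (hs u hu),
    mul_neg_geom_sum]

end Groth.Agent.S3792
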