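import Groth.Statements.S3795
import Groth.Agent.Lambda.Alt
import Mathlib.RingTheory.Polynomial.Vieta

set_option autoImplicit false
universe v u
open CategoryTheory CategoryTheory.Limits AlgebraicGeometry
attribute [local instance] HasDerivedCategory.standard
open KRR

namespace Groth.Agent.S3795

/-- Let K be a λ-ring with positive structure having the splitting property, j ≥ 2, n ≥ 0 and x ∈ K. If
ψ^j(x) - j^n x lies in ℚF^{n+1} (some positive multiple lies in F^{n+1}, γ-filtration), then x lies
in ℚF^n (some positive multiple of x lies in F^n). -/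
theorem result (K : Type v) [CommRing K] [LambdaRing.LambdaOps K] (P : LambdaRing.PosStructure K) (hK : LambdaRing.HasSplitting K P) (j : ℕ) (hj : 2 ≤ j) (n : ℕ) (x : K)
    (hx : ∃ N : ℕ, 1 ≤ N ∧ (N : K) * (LambdaRing.adams P j x - (j : K) ^ n * x) ∈ LambdaRing.gammaFiltration P (n + 1)) :
    ∃ N : ℕ, 1 ≤ N ∧ (N : K) * x ∈ LambdaRing.gammaFiltration P n := by
  suffices h : ∀ k ≤ n, ∃ N : ℕ, 1 ≤ N ∧ (N : K) * x ∈ LambdaRing.gammaFiltration P k from h n le_rfl
  intro k
  induction k with
  | zero => exact fun _ => ⟨1, le_rfl, by rw [Lambda.gammaFiltration_zero]; exact AddSubgroup.mem_top _⟩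
  | succ k ih =>
    intro hk
    obtain ⟨N, hN, hNx⟩ := ih (by omega)
    obtain ⟨M, hM, hMx⟩ := hx
    have h1 := Lambda.mul_mem_filtration_right P (M : K) (Lambda.adams_sub_mem hK j k hNx)
    have hnat : LambdaRing.adams P j ((N : K) * x) = (N : K) * LambdaRing.adams P j x := by
      rw [← nsmul_eq_mul, ← nsmul_eq_mul]; exact map_nsmul (Lambda.adamsAdd P j) N x
    have h2 := Lambda.mul_mem_filtration_right P (N : K)
      (Lambda.filtration_antitone P (by omega : k + 1 ≤ n + 1) hMx)
    refine ⟨M * N * (j ^ n - j ^ k), ?_, ?_⟩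
    · refine Nat.one_le_iff_ne_zero.2 (Nat.mul_ne_zero (Nat.mul_ne_zero (by omega) (by omega)) ?_)
      have : j ^ k < j ^ n := Nat.pow_lt_pow_right (by omega) (by omega)
      omega
    · have := sub_mem h1 h2
      convert this using 1
      rw [hnat]
      push_cast [Nat.cast_sub (Nat.pow_le_pow_right (by omega : 1 ≤ j) (by omega : k ≤ n))]
      ring

end Groth.Agent.S3795
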