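import Groth.Statements.S3797
import Groth.Agent.ModGroth.FinLocFree
import Groth.Agent.KGrp.Sub
import Groth.Agent.QCohLib.Cover

set_option autoImplicit false
universe v u
open CategoryTheory CategoryTheory.Limits AlgebraicGeometry
attribute [local instance] HasDerivedCategory.standard
open KRR

namespace Groth.Agent.S3797
open Groth.Agent

lemma stalk_map_eq {Z : Scheme.{u}} {A B : Z.Modules} (φ : A ⟶ B) (z : Z) (m : A.presheaf.stalk z) :
    ((DerSch.stalkFunctor Z z).map φ).hom m = QCohLib.stalkHom φ z m := rfl

lemma shortExact_pullback {X Y : Scheme.{u}} (f : X ⟶ Y) (S : ShortComplex Y.Modules) (hS : S.ShortExact)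
    (h₃ : FlatMod.IsFlat S.X₃) :
    haveI := (Scheme.Modules.pullbackPushforwardAdjunction f).leftAdjoint_preservesColimits.{0, 0}
    haveI := Functor.preservesZeroMorphisms_of_preserves_initial_object (F := Scheme.Modules.pullback f)
    (S.map (Scheme.Modules.pullback f)).ShortExact := by
  haveI := (Scheme.Modules.pullbackPushforwardAdjunction f).leftAdjoint_preservesColimits.{0, 0}
  haveI := Functor.preservesZeroMorphisms_of_preserves_initial_object (F := Scheme.Modules.pullback f)
  haveI := hS.mono_f
  haveI := hS.epi_g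
  haveI : Mono (S.map (Scheme.Modules.pullback f)).f := by
    rw [QCohLib.mono_iff_stalk_injective]
    intro x
    let φ := (f.stalkMap x).hom
    let g := ((DerSch.stalkFunctor Y (f.base x)).map S.f).hom
    let g' := ((DerSch.stalkFunctor Y (f.base x)).map S.g).hom
    have hg : Function.Injective g := (QCohLib.mono_iff_stalk_injective S.f).1 hS.mono_f (f.base x)
    have hg' : Function.Surjective g' := (QCohLib.epi_iff_stalk_surjective S.g).1 hS.epi_g (f.base x)
    have hex : Function.Exact g g' := fun m => QCohLib.stalk_exact_of_shortExact hS (f.base x) m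
    haveI : Module.Flat (Y.presheaf.stalk (f.base x)) ((DerSch.stalkFunctor Y (f.base x)).obj S.X₃) := h₃ (f.base x)
    have hinj : Function.Injective
        ((ModuleCat.extendScalars.{u, u, u} φ).map ((DerSch.stalkFunctor Y (f.base x)).map S.f)).hom := by
      letI := φ.toAlgebra
      exact LinearMap.lTensor_injective_of_exact_of_flat g' hg' g hg hex (X.presheaf.stalk x)
    have hnat := (ModGroth.Stalk.pullStalkIso f x).hom.naturality S.f
    intro a b hab
    have hab' : ((DerSch.stalkFunctor X x).map ((Scheme.Modules.pullback f).map S.f)).hom a =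
        ((DerSch.stalkFunctor X x).map ((Scheme.Modules.pullback f).map S.f)).hom b := hab
    have e : ∀ c, ((ModuleCat.extendScalars.{u, u, u} φ).map ((DerSch.stalkFunctor Y (f.base x)).map S.f)).hom
        (((ModGroth.Stalk.pullStalkIso f x).hom.app S.X₁).hom c) =
        ((ModGroth.Stalk.pullStalkIso f x).hom.app S.X₂).hom
          (((DerSch.stalkFunctor X x).map ((Scheme.Modules.pullback f).map S.f)).hom c) := fun c =>
      (congrArg (fun ψ => ψ.hom c) hnat).symm
    have h2 := hinj ((e a).trans ((congrArg _ hab').trans (e b).symm))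
    exact (((ModGroth.Stalk.pullStalkIso f x).app S.X₁).toLinearEquiv).injective h2
  haveI : Epi (S.map (Scheme.Modules.pullback f)).g :=
    inferInstanceAs (Epi ((Scheme.Modules.pullback f).map S.g))
  exact { exact := ShortComplex.exact_of_g_is_cokernel _
            (CokernelCofork.mapIsColimit _ hS.gIsCokernel (Scheme.Modules.pullback f)) }


/-- For a morphism f : X ⟶ Y of connected Noetherian schemes and models (KX, PX, φX), (KY, PY, φY) of
K(X) and K(Y), there is a unique additive map g : K(Y) ⟶ K(X) with g[E] = [f^*E] for every finite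
locally free O_Y-module E (the pull-back f^K). (The published treatment adds that f^K is a
homomorphism of λ-rings; that is not asserted here.) -/
theorem result {X Y : Scheme.{u}} (f : X ⟶ Y) [IsNoetherian X] [ConnectedSpace ↥X] [IsNoetherian Y] [ConnectedSpace ↥Y]
    (KX : Type v) [CommRing KX] [LambdaRing.LambdaOps KX] (PX : LambdaRing.PosStructure KX) (φX : SGA6.Kvb X →+ KX) (hKX : KRR.IsModel X KX PX φX)
    (KY : Type v) [CommRing KY] [LambdaRing.LambdaOps KY] (PY : LambdaRing.PosStructure KY) (φY : SGA6.Kvb Y →+ KY) (hKY : KRR.IsModel Y KY PY φY) :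
    ∃! g : KY →+ KX, KRR.IsPull f φY φX g := by
  classical
  let P : ObjectProperty X.Modules := fun M => FlatMod.IsFinLocFree M
  let Q : ObjectProperty Y.Modules := fun M => FlatMod.IsFinLocFree M
  let pf : SGA6.Kvb Y →+ SGA6.Kvb X :=
    KGrp.liftSub Q (fun E => KZero.clSub P ((Scheme.Modules.pullback f).obj E)) fun S hS h₁ h₂ h₃ => by
      haveI := (Scheme.Modules.pullbackPushforwardAdjunction f).leftAdjoint_preservesColimits.{0, 0}
      haveI := Functor.preservesZeroMorphisms_of_preserves_initial_object (F := Scheme.Modules.pullback f)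
      exact KGrp.clSub_add (P := P) (S := S.map (Scheme.Modules.pullback f))
        (ModGroth.Perf.isFinLocFree_pullback f h₁) (ModGroth.Perf.isFinLocFree_pullback f h₂)
        (ModGroth.Perf.isFinLocFree_pullback f h₃)
        (shortExact_pullback f S hS (ModGroth.Perf.isFlat_of_isFinLocFree h₃))
  let e : SGA6.Kvb Y ≃+ KY := AddEquiv.ofBijective φY hKY.bijective
  refine ⟨(φX.comp pf).comp e.symm.toAddMonoidHom, fun E hE => ?_, fun g hg => ?_⟩
  · change φX (pf (e.symm (e (cl Y E)))) = _
    rw [e.symm_apply_apply]
    exact congrArg φX (KGrp.liftSub_clSub (P := Q) _ _ hE)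
  · have h : g.comp φY = φX.comp pf := KGrp.hom_ext (P := Q) fun E hE => by
      rw [AddMonoidHom.comp_apply, AddMonoidHom.comp_apply]
      refine (hg E hE).trans (congrArg φX ?_)
      dsimp only [pf]
      rw [KGrp.liftSub_clSub (P := Q) _ _ hE]
    refine AddMonoidHom.ext fun y => ?_
    obtain ⟨z, rfl⟩ := e.surjective y
    exact (DFunLike.congr_fun h z).trans (congrArg (fun w => φX (pf w)) (e.symm_apply_apply z).symm)
end Groth.Agent.S3797
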