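import Groth.Statements.S3802
import Groth.Agent.Lambda.Ext
-- import your own Groth.Agent.* helpers here

set_option autoImplicit false
universe v u
open Groth.Agent.Lambda.Ext
open CategoryTheory CategoryTheory.Limits AlgebraicGeometry
attribute [local instance] HasDerivedCategory.standard
open KRR

namespace Groth.Agent.S3802

/-- Let K be a λ-ring with positive structure having the splitting property, c positive with ε(c) = r +
1, and K_c = K[T]/(p_c) with generator ℓ, equipped with a λ-structure extending that of K with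
λ^i(ℓ) = 0 for i ≥ 2 and a positive structure making K ⟶ K_c an extension with ℓ a line element and
c - ℓ positive (when r ≥ 1), having the splitting property; let f : K_c ⟶ K be the associated
K-linear functional (f(ℓ^i) = σ^i(c) for i ≤ r). If z ∈ K_c satisfies z (1 - ℓ) = 0, then z = f(z) ·
λ_{-1}(c - ℓ), where λ_{-1}(c - ℓ) = Σ_{i ≤ r} (-1)^i λ^i(c - ℓ). -/
theorem result (K : Type v) [CommRing K] [LambdaRing.LambdaOps K] (P : LambdaRing.PosStructure K) (hK : LambdaRing.HasSplitting K P) (c : K) (hc : c ∈ P.pos) (r : ℕ) (hr : P.aug c = r + 1)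
    (inst : LambdaRing.LambdaOps (AdjoinRoot (KRR.extPoly P c))) (Pc : @LambdaRing.PosStructure _ _ inst)
    (hext : @LambdaRing.IsExtension K _ _ _ _ inst P Pc (AdjoinRoot.of (KRR.extPoly P c)))
    (hroot : ∀ i : ℕ, 2 ≤ i → @LambdaRing.LambdaOps.lam _ _ inst i (AdjoinRoot.root (KRR.extPoly P c)) = 0)
    (hline : @LambdaRing.PosStructure.IsLine _ _ inst Pc (AdjoinRoot.root (KRR.extPoly P c)))
    (hpos : 1 ≤ r → AdjoinRoot.of (KRR.extPoly P c) c - AdjoinRoot.root (KRR.extPoly P c) ∈ (@LambdaRing.PosStructure.pos _ _ inst Pc))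
    (hsplit : @LambdaRing.HasSplitting _ _ inst Pc)
    (f : AdjoinRoot (KRR.extPoly P c) →ₗ[K] K)
    (hf : ∀ i : ℕ, i ≤ r → f (AdjoinRoot.root (KRR.extPoly P c) ^ i) = KRR.sigma i c)
    (z : AdjoinRoot (KRR.extPoly P c)) (hz : z * (1 - AdjoinRoot.root (KRR.extPoly P c)) = 0) :
    z = AdjoinRoot.of (KRR.extPoly P c) (f z) *
      @KRR.lamAlt _ _ inst Pc (AdjoinRoot.of (KRR.extPoly P c) c - AdjoinRoot.root (KRR.extPoly P c)) := by
  obtain ⟨q₀, rfl⟩ := AdjoinRoot.mk_surjective z
  have : Nontrivial K := P.aug.domain_nontrivial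
  have hp : KRR.extPoly P c = Sp c (r + 1) := extPoly_eq hr
  have hm : (KRR.extPoly P c).Monic := hp ▸ monic_Sp c (r + 1)
  have hdeg : (KRR.extPoly P c).natDegree = r + 1 := hp ▸ natDegree_Sp c (r + 1)
  set q := q₀ %ₘ KRR.extPoly P c with hq
  have hmk : AdjoinRoot.mk (KRR.extPoly P c) q₀ = AdjoinRoot.mk (KRR.extPoly P c) q := by
    conv_lhs => rw [← Polynomial.modByMonic_add_div q₀ (KRR.extPoly P c)]
    rw [map_add, map_mul, AdjoinRoot.mk_self, zero_mul, add_zero]
  have hqd : q.natDegree ≤ r := by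
    have := Polynomial.natDegree_modByMonic_lt q₀ hm (fun h => by rw [h, Polynomial.natDegree_one] at hdeg; omega)
    rw [hdeg] at this
    change q.natDegree < _ at this
    omega
  rw [hmk] at hz ⊢
  have hdvd : KRR.extPoly P c ∣ (Polynomial.X - 1) * q := by
    rw [← AdjoinRoot.mk_eq_zero, map_mul, map_sub, AdjoinRoot.mk_X, map_one, ← neg_sub, neg_mul, mul_comm, hz,
      neg_zero]
  obtain ⟨A, hA⟩ := hdvd
  have hAd : A.natDegree = 0 := by
    rcases eq_or_ne A 0 with h | h
    · rw [h, Polynomial.natDegree_zero]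
    have h1 := hm.natDegree_mul' h
    rw [← hA, hdeg] at h1
    have h2 : ((Polynomial.X - 1) * q : Polynomial K).natDegree ≤ 1 + r := by
      refine Polynomial.natDegree_mul_le.trans (Nat.add_le_add ?_ hqd)
      rw [← Polynomial.C_1]; exact le_of_eq (Polynomial.natDegree_X_sub_C _)
    omega
  obtain ⟨a, rfl⟩ : ∃ a, A = Polynomial.C a := ⟨_, Polynomial.eq_C_of_natDegree_eq_zero hAd⟩
  have hid := sub_one_mul_sum_Sp c (r + 1)
  have h1 : Polynomial.eval 1 (Sp c (r + 1)) = ∑ k ∈ Finset.range (r + 1 + 1), cc c k := by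
    simp [Sp, Polynomial.eval_finsetSum]
  have ha : (∑ k ∈ Finset.range (r + 1 + 1), cc c k) * a = 0 := by
    have h := congrArg (Polynomial.eval 1) hA
    rw [Polynomial.eval_mul, Polynomial.eval_sub, Polynomial.eval_X, Polynomial.eval_one, sub_self, zero_mul,
      Polynomial.eval_mul, Polynomial.eval_C, hp, h1] at h
    exact h.symm
  have hqW : q = (∑ i ∈ Finset.range (r + 1), Sp c i) * Polynomial.C a := by
    refine (Polynomial.monic_X_sub_C (1 : K)).isRegular.left ?_
    change (Polynomial.X - Polynomial.C 1) * q = (Polynomial.X - Polynomial.C 1) * (_ * _)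
    rw [Polynomial.C_1, hA, ← mul_assoc, hid, sub_mul, ← map_mul, ha, map_zero, sub_zero, hp]
  have hfW : f (AdjoinRoot.mk (KRR.extPoly P c) (∑ i ∈ Finset.range (r + 1), Sp c i)) = 1 := by
    rw [map_sum, map_sum]
    simp only [apply_mk_Sp hc hr f hf]
    rw [Finset.sum_ite_eq' (Finset.range (r + 1)) 0 fun _ => (1 : K)]
    simp
  have haug : (Pc.aug (AdjoinRoot.of (KRR.extPoly P c) c - AdjoinRoot.root (KRR.extPoly P c))).toNat = r := by
    rw [map_sub, hext.aug_comp, hline.2, hr]; omega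
  have halt : KRR.lamAlt Pc (AdjoinRoot.of (KRR.extPoly P c) c - AdjoinRoot.root (KRR.extPoly P c)) =
      AdjoinRoot.mk (KRR.extPoly P c) (∑ i ∈ Finset.range (r + 1), Sp c i) := by
    rw [KRR.lamAlt, haug, map_sum]
    refine Finset.sum_congr rfl fun i _ => ?_
    rw [lam_sub_root (fun i x => (hext.isLambdaHom i x).symm) hroot, map_pow, map_neg, map_one, ← mul_assoc,
      ← pow_add, ← two_mul, pow_mul, neg_one_sq, one_pow, one_mul]
  rw [halt, hqW, map_mul, AdjoinRoot.mk_C, mul_comm, apply_of_mul, hfW, mul_one]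

end Groth.Agent.S3802
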