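import Mathlib
import Groth.Statements.S3804
import Groth.Agent.Lambda.Ext
import Groth.Agent.Lambda.ExtLam
import Groth.Agent.Lambda.Filtration
-- import your own Groth.Agent.* helpers here

set_option autoImplicit false
universe v u
open CategoryTheory CategoryTheory.Limits AlgebraicGeometry
attribute [local instance] HasDerivedCategory.standard
open scoped TensorProduct
open KRR

namespace Groth.Agent.S3804

open Finset LambdaRing Groth.Agent.Lambda
open Polynomial (C X)

noncomputable section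

section Universal

variable {M N : Type*} [CommRing M] [CommRing N]

/-- The coefficient of `T^r` of the remainder modulo `p`. -/
def eC (r : ℕ) (p g : Polynomial M) : M := (g %ₘ p).coeff r

lemma eC_add (r : ℕ) (p g h : Polynomial M) : eC r p (g + h) = eC r p g + eC r p h := by
  rw [eC, Polynomial.add_modByMonic, Polynomial.coeff_add]
  rfl

lemma eC_C_mul (r : ℕ) (p : Polynomial M) (c : M) (g : Polynomial M) : eC r p (C c * g) = c * eC r p g := by
  rw [eC, ← Polynomial.smul_eq_C_mul, Polynomial.smul_modByMonic, Polynomial.coeff_smul, smul_eq_mul]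
  rfl

lemma eC_congr (r : ℕ) {p g h : Polynomial M} (hp : p.Monic) (hd : p ∣ g - h) : eC r p g = eC r p h := by
  rw [eC, eC, Polynomial.modByMonic_eq_of_dvd_sub hp hd]

lemma map_eC (r : ℕ) {p : Polynomial M} (hp : p.Monic) (g : Polynomial M) (f : M →+* N) :
    f (eC r p g) = eC r (p.map f) (g.map f) := by
  rw [eC, eC, ← Polynomial.map_modByMonic f hp, Polynomial.coeff_map]

variable {n : ℕ}

/-- `Π (T - u_a)`. -/
def pP (u : Fin n → M) : Polynomial M := ∏ a, (X - C (u a))

/-- `Π_b Σ_(i < j) T^i u_b^(j-1-i)`. -/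
def gP (j : ℕ) (u : Fin n → M) : Polynomial M := ∏ b, ∑ i ∈ range j, X ^ i * C (u b) ^ (j - 1 - i)

/-- `Π_a (-G(u_a))`. -/
def dP (j : ℕ) (u : Fin n → M) : M := ∏ a, -((gP j u).eval (u a))

lemma monic_pP (u : Fin n → M) : (pP u).Monic :=
  Polynomial.monic_prod_of_monic _ _ fun a _ => Polynomial.monic_X_sub_C (u a)

lemma map_pP (f : M →+* N) (u : Fin n → M) : (pP u).map f = pP (fun a => f (u a)) := by
  simp [pP, Polynomial.map_prod]

lemma map_gP (f : M →+* N) (j : ℕ) (u : Fin n → M) : (gP j u).map f = gP j (fun a => f (u a)) := by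
  simp [gP, Polynomial.map_prod, Polynomial.map_sum]

lemma map_dP (f : M →+* N) (j : ℕ) (u : Fin n → M) : f (dP j u) = dP j (fun a => f (u a)) := by
  simp only [dP, map_prod, map_neg]
  refine prod_congr rfl fun a _ => ?_
  rw [← map_gP, Polynomial.eval_map, Polynomial.eval₂_at_apply]

lemma exists_Q (j : ℕ) (u : Fin n → M) : ∃ Q : Polynomial M, pP u ∣ gP j u * Q - C (dP j u) := by
  let H : Polynomial M := ∏ a, (X - C ((gP j u).eval (u a)))
  have h1 : pP u ∣ Polynomial.aeval (gP j u) H := by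
    simp only [H, map_prod, map_sub, Polynomial.aeval_X, Polynomial.aeval_C]
    refine prod_dvd_prod_of_dvd _ _ fun a _ => ?_
    exact Polynomial.X_sub_C_dvd_sub_C_eval
  have h2 : H.coeff 0 = dP j u := by
    simp [H, dP, Polynomial.coeff_zero_prod]
  refine ⟨-Polynomial.aeval (gP j u) H.divX, ?_⟩
  have h3 : Polynomial.aeval (gP j u) H = gP j u * Polynomial.aeval (gP j u) H.divX + C (dP j u) := by
    conv_lhs => rw [← Polynomial.X_mul_divX_add H]
    rw [map_add, map_mul, Polynomial.aeval_X, Polynomial.aeval_C, h2, Polynomial.algebraMap_eq]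
  have h4 := dvd_neg.2 h1
  rw [h3] at h4
  convert h4 using 1
  ring

lemma eC_eq_sum {F : Type*} [Field F] {r : ℕ} (u : Fin (r + 1) → F) (hu : Function.Injective u)
    (A : Polynomial F) :
    eC r (pP u) A = ∑ a, A.eval (u a) / ∏ b ∈ univ.erase a, (u a - u b) := by
  have hdeg : (pP u).degree = ((r + 1 : ℕ) : WithBot ℕ) := by
    simp [pP, Polynomial.degree_prod]
  have h := Lagrange.coeff_eq_sum (s := (univ : Finset (Fin (r + 1)))) (v := u) hu.injOn
    (P := A %ₘ pP u) (by
      rw [card_univ, Fintype.card_fin, ← hdeg]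
      exact Polynomial.degree_modByMonic_lt _ (monic_pP u))
  rw [card_univ, Fintype.card_fin, Nat.add_sub_cancel] at h
  rw [eC, h]
  refine sum_congr rfl fun a _ => ?_
  congr 1
  have he : (pP u).eval (u a) = 0 := by
    rw [pP, Polynomial.eval_prod]
    exact prod_eq_zero (mem_univ a) (by simp)
  conv_rhs => rw [← Polynomial.modByMonic_add_div A (pP u)]
  rw [Polynomial.eval_add, Polynomial.eval_mul, he, zero_mul, add_zero]

lemma universal_field {F : Type*} [Field F] {r j : ℕ} (u : Fin (r + 1) → F) (hu : Function.Injective u)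
    (hv : Function.Injective fun a => u a ^ j) (Q : Polynomial F)
    (hQ : pP u ∣ gP j u * Q - C (dP j u)) (k : ℕ) :
    (j : F) * eC r (pP u) (Q * X ^ (j - 1 + j * k)) =
      dP j u * eC r (pP fun a => u a ^ j) (X ^ k) := by
  rw [eC_eq_sum u hu, eC_eq_sum _ hv, mul_sum, mul_sum]
  refine sum_congr rfl fun a _ => ?_
  have hQa : (gP j u).eval (u a) * Q.eval (u a) = dP j u := by
    obtain ⟨c, hc⟩ := hQ
    have := congrArg (Polynomial.eval (u a)) hc
    rw [Polynomial.eval_sub, Polynomial.eval_mul, Polynomial.eval_C, Polynomial.eval_mul, pP,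
      Polynomial.eval_prod, prod_eq_zero (mem_univ a) (by simp), zero_mul, sub_eq_zero] at this
    exact this
  have hd : ∏ b ∈ univ.erase a, (u a - u b) ≠ 0 := prod_ne_zero_iff.2 fun b hb =>
    sub_ne_zero.2 fun h => (mem_erase.1 hb).1 (hu h).symm
  have hd' : ∏ b ∈ univ.erase a, (u a ^ j - u b ^ j) ≠ 0 := prod_ne_zero_iff.2 fun b hb =>
    sub_ne_zero.2 fun h => (mem_erase.1 hb).1 (hv h).symm
  have hG : (gP j u).eval (u a) * ∏ b ∈ univ.erase a, (u a - u b) =
      (j : F) * u a ^ (j - 1) * ∏ b ∈ univ.erase a, (u a ^ j - u b ^ j) := by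
    simp only [gP, Polynomial.eval_prod, Polynomial.eval_finsetSum, Polynomial.eval_mul, Polynomial.eval_pow,
      Polynomial.eval_X, Polynomial.eval_C]
    rw [← mul_prod_erase univ _ (mem_univ a), geom_sum₂_self, mul_assoc, ← prod_mul_distrib]
    congr 1
    exact prod_congr rfl fun b _ => (Commute.all (u a) (u b)).geom_sum₂_mul j
  simp only [Polynomial.eval_mul, Polynomial.eval_pow, Polynomial.eval_X]
  rw [← pow_mul, pow_add]
  rw [← mul_div_assoc, ← mul_div_assoc, div_eq_div_iff hd hd']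
  linear_combination -(Q.eval (u a) * u a ^ (j * k)) * hG + u a ^ (j * k) *
    (∏ b ∈ univ.erase a, (u a - u b)) * hQa

lemma universal (r j : ℕ) (hj : 1 ≤ j) (u : Fin (r + 1) → M) :
    ∃ Q : Polynomial M, pP u ∣ gP j u * Q - C (dP j u) ∧
      ∀ k, (j : M) * eC r (pP u) (Q * X ^ (j - 1 + j * k)) = dP j u * eC r (pP fun a => u a ^ j) (X ^ k) := by
  let U : Fin (r + 1) → MvPolynomial (Fin (r + 1)) ℤ := MvPolynomial.X
  obtain ⟨Q, hQ⟩ := exists_Q j U
  have hU : ∀ k, (j : MvPolynomial (Fin (r + 1)) ℤ) * eC r (pP U) (Q * X ^ (j - 1 + j * k)) =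
      dP j U * eC r (pP fun a => U a ^ j) (X ^ k) := by
    intro k
    let ι : MvPolynomial (Fin (r + 1)) ℤ →+* FractionRing (MvPolynomial (Fin (r + 1)) ℤ) := algebraMap _ _
    have hι : Function.Injective ι := IsFractionRing.injective _ _
    have hv : Function.Injective fun a => ι (U a) ^ j := by
      intro a b hab
      by_contra hne
      simp only [← map_pow] at hab
      have h := congrArg (MvPolynomial.eval fun i => if i = a then (2 : ℤ) else 1) (hι hab)
      simp only [U, map_pow, MvPolynomial.eval_X, if_true, eq_self_iff_true] at h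
      rw [if_neg (Ne.symm hne), one_pow] at h
      have h2 : (2 : ℤ) ≤ 2 ^ j := le_self_pow₀ (by norm_num) (by omega)
      omega
    refine hι ?_
    simp only [map_mul, map_natCast, map_eC r (monic_pP _), map_pP, Polynomial.map_mul, Polynomial.map_pow,
      Polynomial.map_X, map_pow, map_dP]
    refine universal_field (fun a => ι (U a)) (fun a b h => MvPolynomial.X_injective (hι h)) hv _ ?_ k
    have := Polynomial.map_dvd ι hQ
    simpa only [Polynomial.map_sub, Polynomial.map_mul, Polynomial.map_C, map_pP, map_gP, map_dP ι] using this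
  let φ : MvPolynomial (Fin (r + 1)) ℤ →+* M := (MvPolynomial.aeval u).toRingHom
  have hφ : ∀ a, φ (U a) = u a := fun a => MvPolynomial.aeval_X u a
  refine ⟨Q.map φ, ?_, fun k => ?_⟩
  · have := Polynomial.map_dvd φ hQ
    simpa only [Polynomial.map_sub, Polynomial.map_mul, Polynomial.map_C, map_pP, map_gP, map_dP φ, hφ] using this
  · have := congrArg φ (hU k)
    simpa only [map_mul, map_natCast, map_eC r (monic_pP _), map_pP, Polynomial.map_mul, Polynomial.map_pow,
      Polynomial.map_X, map_pow, map_dP, hφ] using this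

lemma key (r j : ℕ) (hj : 1 ≤ j) (u : Fin (r + 1) → M) (Z g : Polynomial M) (c : M)
    (hZ : pP u ∣ gP j u * Z - C c * X ^ (j * r + (j - 1))) :
    dP j u * ((j : M) * eC r (pP u) (Z * g.comp (X ^ j)) -
      c * eC r (pP fun a => u a ^ j) (X ^ r * g)) = 0 := by
  obtain ⟨Q, hQ, hk⟩ := universal r j hj u
  have hg : ∀ g' : Polynomial M, (j : M) * eC r (pP u) (Q * X ^ (j - 1) * g'.comp (X ^ j)) =
      dP j u * eC r (pP fun a => u a ^ j) g' := by
    intro g'
    induction g' using Polynomial.induction_on' with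
    | add p q hp hq => rw [Polynomial.add_comp, mul_add, eC_add, eC_add, mul_add, hp, hq, mul_add]
    | monomial k a =>
      rw [← Polynomial.C_mul_X_pow_eq_monomial, Polynomial.mul_comp, Polynomial.C_comp, Polynomial.X_pow_comp,
        mul_left_comm, ← pow_mul, mul_assoc Q, ← pow_add, eC_C_mul, eC_C_mul, mul_left_comm, hk k, mul_left_comm]
  have h1 : dP j u * eC r (pP u) (Z * g.comp (X ^ j)) =
      c * eC r (pP u) (Q * X ^ (j - 1) * (X ^ r * g).comp (X ^ j)) := by
    rw [← eC_C_mul, ← eC_C_mul]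
    refine eC_congr r (monic_pP u) ?_
    rw [Polynomial.mul_comp, Polynomial.X_pow_comp, ← pow_mul]
    obtain ⟨c1, hc1⟩ := hQ
    obtain ⟨c2, hc2⟩ := hZ
    refine ⟨(c2 * Q - c1 * Z) * g.comp (X ^ j), ?_⟩
    rw [pow_add] at hc2
    linear_combination (Q * g.comp (X ^ j)) * hc2 - (Z * g.comp (X ^ j)) * hc1
  rw [mul_sub, mul_left_comm, h1, mul_left_comm, hg, mul_left_comm, sub_self]

end Universal

variable {K : Type v} [CommRing K] [LambdaRing.LambdaOps K] {P : LambdaRing.PosStructure K}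

lemma lamSeries_mul_line (hK : LambdaRing.HasSplitting K P) {u : K} (hu : P.IsLine u) (x : K) :
    lamSeries (x * u) = PowerSeries.rescale u (lamSeries x) := by
  obtain ⟨L, f, -, hf, hl⟩ := exists_split hK [x]
  refine PowerSeries.map_injective f hf.injective ?_
  rw [← PowerSeries.rescale_map, lamSeries_map hf.isLambdaHom, lamSeries_map hf.isLambdaHom, map_mul]
  generalize f x = y, hl x (by simp) = hy
  have hu' : L.posStr.IsLine (f u) := isLine_map hf hu
  generalize f u = v at hu' ⊢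
  induction hy using AddSubgroup.closure_induction with
  | mem a ha =>
    rw [lamSeries_eq_lin (isLine_lam (isLine_mul ha hu')), lamSeries_eq_lin (isLine_lam ha), Ext.rescale_lin,
      mul_comm]
  | zero => rw [zero_mul, lamSeries_zero, map_one]
  | add a b _ _ ha hb => rw [add_mul, lamSeries_add, lamSeries_add, map_mul, ha, hb]
  | neg a _ ha =>
    refine (isUnit_lamSeries (a * v)).mul_right_cancel ?_
    conv_rhs => rw [ha]
    rw [neg_mul, lamSeries_neg_mul, ← map_mul, lamSeries_neg_mul, map_one]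

lemma map_bott {A : Type*} [CommRing A] (χ : K →+* A) (j : ℕ) (q : K) {n : ℕ} (hq : (P.aug q).toNat = n)
    (v : Fin n → A) (hv : ∀ k, χ (LambdaOps.lam k q) = ((univ : Finset (Fin n)).val.map v).esymm k) :
    χ (KRR.bott P j q) = ∏ a, ∑ k ∈ range j, v a ^ k := by
  subst hq
  have hval : MvPolynomial.aeval (fun i : Fin (P.aug q).toNat =>
      MvPolynomial.esymm (Fin (P.aug q).toNat) ℤ ((i : ℕ) + 1)) (KRR.bottPoly j (P.aug q).toNat) =
      KRR.bottSym j (P.aug q).toNat := by
    rw [← MvPolynomial.esymmAlgHom_apply]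
    exact congrArg Subtype.val ((MvPolynomial.esymmAlgEquiv (Fin (P.aug q).toNat) ℤ
      (Fintype.card_fin _)).apply_symm_apply ⟨KRR.bottSym j _, KRR.bottSym_isSymmetric j _⟩)
  have := congrArg (MvPolynomial.aeval v) hval
  rw [MvPolynomial.comp_aeval_apply] at this
  rw [KRR.bott, ← χ.toIntAlgHom_apply, MvPolynomial.comp_aeval_apply]
  simp only [RingHom.toIntAlgHom_apply, hv]
  simp only [MvPolynomial.aeval_esymm_eq_multiset_esymm] at this
  rw [this]
  simp [KRR.bottSym]

lemma esymm_mul_const {A : Type*} [CommRing A] {n : ℕ} (l : A) (v : Fin n → A) (k : ℕ) :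
    ((univ : Finset (Fin n)).val.map fun a => l * v a).esymm k =
      l ^ k * ((univ : Finset (Fin n)).val.map v).esymm k := by
  rw [Finset.esymm_map_val, Finset.esymm_map_val, mul_sum]
  refine sum_congr rfl fun t ht => ?_
  rw [prod_mul_distrib, prod_const, (mem_powersetCard.1 ht).2]

variable {e : K} {r : ℕ}

local notation "φ" => AdjoinRoot.of (KRR.extPoly P e)
local notation "ℓ" => AdjoinRoot.root (KRR.extPoly P e)

lemma functional_eq (he : e ∈ P.pos) (hr : P.aug e = r + 1) (f : AdjoinRoot (KRR.extPoly P e) →ₗ[K] K)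
    (hf : ∀ i : ℕ, i ≤ r → f (ℓ ^ i) = KRR.sigma i e)
    (linv : AdjoinRoot (KRR.extPoly P e)) (hlinv : linv * ℓ = 1) (g : Polynomial K) :
    f (AdjoinRoot.mk (KRR.extPoly P e) g) = eC r (KRR.extPoly P e) (X ^ r * g) := by
  have : Nontrivial K := P.aug.domain_nontrivial
  have hm : (KRR.extPoly P e).Monic := Ext.extPoly_eq hr ▸ Ext.monic_Sp e (r + 1)
  have hdeg : (KRR.extPoly P e).natDegree = r + 1 := Ext.extPoly_eq hr ▸ Ext.natDegree_Sp e (r + 1)
  have hdeg' : (KRR.extPoly P e).degree = ((r + 1 : ℕ) : WithBot ℕ) := by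
    rw [Polynomial.degree_eq_natDegree hm.ne_zero, hdeg]
  let f' : AdjoinRoot (KRR.extPoly P e) →ₗ[K] K :=
    (Polynomial.lcoeff K r).comp ((AdjoinRoot.modByMonicHom hm).comp (LinearMap.mulLeft K (ℓ ^ r)))
  have hf' : ∀ g, f' (AdjoinRoot.mk _ g) = eC r (KRR.extPoly P e) (X ^ r * g) := by
    intro g
    simp [f', eC, ← AdjoinRoot.mk_X, ← map_pow, ← map_mul]
  rw [← hf']
  have hunit : ∀ k, linv ^ k * ℓ ^ k = 1 := fun k => by rw [← mul_pow, hlinv, one_pow]
  have hbasic : ∀ k ≤ r, f (linv ^ k) = f' (linv ^ k) := by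
    intro k hk
    have h1 : ℓ ^ r * linv ^ k = AdjoinRoot.mk (KRR.extPoly P e) (X ^ (r - k)) := by
      rw [map_pow, AdjoinRoot.mk_X]
      calc ℓ ^ r * linv ^ k = ℓ ^ (r - k) * (linv ^ k * ℓ ^ k) := by
            rw [← Nat.sub_add_cancel hk, pow_add, Nat.add_sub_cancel]; ring
        _ = ℓ ^ (r - k) := by rw [hunit, mul_one]
    have h2 : f' (linv ^ k) = if r = r - k then 1 else 0 := by
      simp only [f', LinearMap.comp_apply, LinearMap.mulLeft_apply, h1, AdjoinRoot.modByMonicHom_mk,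
        Polynomial.lcoeff_apply]
      rw [(Polynomial.modByMonic_eq_self_iff hm).2 ?_, Polynomial.coeff_X_pow]
      rw [hdeg']
      exact (Polynomial.degree_X_pow_le _).trans_lt (by exact_mod_cast (by omega : r - k < r + 1))
    rcases Nat.eq_zero_or_pos k with rfl | hk1
    · rw [h2, if_pos (by omega), pow_zero]
      have := hf 0 (Nat.zero_le r)
      rw [pow_zero] at this
      rw [this]
      simp [KRR.sigma, KRR.sigmaSeries]
    · rw [h2, if_neg (by omega), Ext.apply_inv_pow he hr f hf linv hlinv k hk1 hk]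
  have hspan : ∀ x, x ∈ Submodule.span K (Set.range fun k : Fin (r + 1) => linv ^ (k : ℕ)) := by
    intro x
    obtain ⟨q, hq⟩ := AdjoinRoot.mk_surjective (ℓ ^ r * x)
    let q' := q %ₘ KRR.extPoly P e
    have hq' : AdjoinRoot.mk (KRR.extPoly P e) q' = ℓ ^ r * x := by
      rw [← hq, AdjoinRoot.mk_eq_mk]
      refine ⟨-(q /ₘ KRR.extPoly P e), ?_⟩
      linear_combination Polynomial.modByMonic_add_div q (KRR.extPoly P e)
    have hlt : q'.natDegree < r + 1 := by
      have := Polynomial.natDegree_modByMonic_lt q hm (fun h => by rw [h, Polynomial.natDegree_one] at hdeg; omega)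
      rwa [hdeg] at this
    have hx : x = ∑ i ∈ range (r + 1), q'.coeff i • linv ^ (r - i) := by
      calc x = linv ^ r * (ℓ ^ r * x) := by rw [← mul_assoc, hunit, one_mul]
        _ = linv ^ r * AdjoinRoot.mk (KRR.extPoly P e) q' := by rw [hq']
        _ = _ := by
          conv_lhs => rw [q'.as_sum_range' (r + 1) hlt]
          rw [map_sum, mul_sum]
          refine sum_congr rfl fun i hi => ?_
          rw [← Polynomial.C_mul_X_pow_eq_monomial, map_mul, AdjoinRoot.mk_C, map_pow, AdjoinRoot.mk_X,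
            Algebra.smul_def, AdjoinRoot.algebraMap_eq, mul_left_comm]
          congr 1
          calc linv ^ r * ℓ ^ i = linv ^ (r - i) * (linv ^ i * ℓ ^ i) := by
                rw [← mul_assoc, ← pow_add, Nat.sub_add_cancel (Nat.lt_succ_iff.1 (mem_range.1 hi))]
            _ = linv ^ (r - i) := by rw [hunit, mul_one]
    rw [hx]
    refine Submodule.sum_mem _ fun i _ => Submodule.smul_mem _ _ (Submodule.subset_span ?_)
    exact ⟨⟨r - i, by omega⟩, rfl⟩
  refine LinearMap.congr_fun ?_ _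
  refine LinearMap.ext_on (s := Set.range fun k : Fin (r + 1) => linv ^ (k : ℕ))
    (Submodule.eq_top_iff'.2 hspan) ?_
  rintro _ ⟨k, rfl⟩
  exact hbasic k (Nat.lt_succ_iff.1 k.2)

section Ext

variable [LambdaRing.LambdaOps (AdjoinRoot (KRR.extPoly P e))]
  {Pe : LambdaRing.PosStructure (AdjoinRoot (KRR.extPoly P e))}

lemma lam_q (hsplit : LambdaRing.HasSplitting (AdjoinRoot (KRR.extPoly P e)) Pe)
    (hext : LambdaRing.IsExtension P Pe φ) (hline : Pe.IsLine ℓ)
    (linv : AdjoinRoot (KRR.extPoly P e)) (hlinv : linv * ℓ = 1) (k : ℕ) :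
    LambdaOps.lam k (φ e * linv) = linv ^ k * φ (LambdaOps.lam k e) := by
  have h := congrArg (PowerSeries.coeff k) (lamSeries_mul_line hsplit hline (φ e * linv))
  rw [mul_assoc, hlinv, mul_one, coeff_lamSeries, PowerSeries.coeff_rescale, coeff_lamSeries,
    ← hext.isLambdaHom] at h
  rw [h, ← mul_assoc, ← mul_pow, hlinv, one_pow, one_mul]

lemma exists_inverse (hK : LambdaRing.HasSplitting K P) (he : e ∈ P.pos) (hr : P.aug e = r + 1)
    (hsplit : LambdaRing.HasSplitting (AdjoinRoot (KRR.extPoly P e)) Pe)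
    (hext : LambdaRing.IsExtension P Pe φ) (hline : Pe.IsLine ℓ) (N : ℕ)
    (hN : LambdaRing.gammaFiltration Pe N = ⊥)
    (linv : AdjoinRoot (KRR.extPoly P e)) (hlinv : linv * ℓ = 1) (j : ℕ) :
    ∃ (z : AdjoinRoot (KRR.extPoly P e)) (m : ℕ),
      KRR.bott Pe j (φ e * linv) * z = (j : AdjoinRoot (KRR.extPoly P e)) ^ m := by
  have hn : (P.aug e).toNat = r + 1 := Ext.toNat_aug hr
  have hl : Pe.aug linv = 1 := by
    have := congrArg Pe.aug hlinv
    rwa [map_mul, hline.2, mul_one, map_one] at this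
  have hq : (Pe.aug (φ e * linv)).toNat = r + 1 := by rw [map_mul, hl, mul_one, hext.aug_comp, hn]
  have hv : ∀ k, Pe.aug (LambdaOps.lam k (φ e * linv)) =
      ((univ : Finset (Fin (r + 1))).val.map fun _ => (1 : ℤ)).esymm k := by
    intro k
    rw [lam_q hsplit hext hline linv hlinv, map_mul, map_pow, hl, one_pow, one_mul, hext.aug_comp,
      aug_lam hK he, hn, Finset.esymm_map_val]
    simp
  have haug := map_bott Pe.aug j _ hq _ hv
  simp only [one_pow, sum_const, card_range, nsmul_eq_mul, mul_one, prod_const, card_univ,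
    Fintype.card_fin] at haug
  let a : AdjoinRoot (KRR.extPoly P e) := (j : AdjoinRoot (KRR.extPoly P e)) ^ (r + 1)
  let t := a - KRR.bott Pe j (φ e * linv)
  have ht1 : t ∈ gammaFiltration Pe 1 := by
    rw [gammaFiltration, if_neg one_ne_zero]
    refine AddSubgroup.subset_closure ⟨[(1, t)], ?_, by simp, ?_⟩
    · simp [t, a, haug]
    · simp [LambdaRing.gamma, Finset.sum_range_succ, LambdaOps.lam_one]
  have htk : ∀ k, t ^ k ∈ gammaFiltration Pe k := by
    intro k
    induction k with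
    | zero => rw [pow_zero]; exact one_mem_filtration_zero Pe
    | succ k ih => rw [pow_succ]; exact mul_mem_filtration Pe ih ht1
  have htN : t ^ N = 0 := by
    have := htk N
    rwa [hN, AddSubgroup.mem_bot] at this
  refine ⟨∑ i ∈ range N, a ^ i * t ^ (N - 1 - i), (r + 1) * N, ?_⟩
  have h := (Commute.all a t).geom_sum₂_mul N
  rw [htN, sub_zero, show a - t = KRR.bott Pe j (φ e * linv) by simp only [t]; ring] at h
  rw [mul_comm, h, pow_mul]

lemma main_id (hK : LambdaRing.HasSplitting K P) (he : e ∈ P.pos) (hr : P.aug e = r + 1)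
    (hsplit : LambdaRing.HasSplitting (AdjoinRoot (KRR.extPoly P e)) Pe)
    (hext : LambdaRing.IsExtension P Pe φ) (hline : Pe.IsLine ℓ)
    (f : AdjoinRoot (KRR.extPoly P e) →ₗ[K] K) (hf : ∀ i : ℕ, i ≤ r → f (ℓ ^ i) = KRR.sigma i e)
    (linv : AdjoinRoot (KRR.extPoly P e)) (hlinv : linv * ℓ = 1) (j : ℕ) (hj : 1 ≤ j)
    (z : AdjoinRoot (KRR.extPoly P e)) (m : ℕ)
    (hz : KRR.bott Pe j (φ e * linv) * z = (j : AdjoinRoot (KRR.extPoly P e)) ^ m)
    (x : AdjoinRoot (KRR.extPoly P e)) :
    (j : K) ^ (m * (r + 1)) *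
      ((j : K) * f (z * LambdaRing.adams Pe j x) - (j : K) ^ m * LambdaRing.adams P j (f x)) = 0 := by
  have hn : (P.aug e).toNat = r + 1 := Ext.toNat_aug hr
  have hm : (KRR.extPoly P e).Monic := Ext.extPoly_eq hr ▸ Ext.monic_Sp e (r + 1)
  obtain ⟨g0, rfl⟩ := AdjoinRoot.mk_surjective x
  obtain ⟨q, rfl⟩ := AdjoinRoot.mk_surjective z
  let ψ : K →+* K := adamsRing hK j
  -- `ψ^j` on the extension
  have hψ : ∀ g : Polynomial K, LambdaRing.adams Pe j (AdjoinRoot.mk (KRR.extPoly P e) g) =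
      AdjoinRoot.mk (KRR.extPoly P e) ((g.map ψ).comp (X ^ j)) := by
    intro g
    rw [← adamsRing_apply hsplit]
    refine RingHom.congr_fun (f := (adamsRing hsplit j).comp (AdjoinRoot.mk (KRR.extPoly P e)))
      (g := (AdjoinRoot.mk (KRR.extPoly P e)).comp
        ((Polynomial.compRingHom (X ^ j)).comp (Polynomial.mapRingHom ψ))) ?_ g
    refine Polynomial.ringHom_ext (fun a => ?_) ?_
    · simp [ψ, adamsRing_apply, ← map_adams hext]
    · simp [adamsRing_apply, adams_line hline]
  obtain ⟨L, g, hL, hg, s, hs, hse⟩ := exists_split_pos hK he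
  obtain ⟨u, hu⟩ := exists_fin_map s (m := r + 1) (by rw [← hn, card_split hg hs hse])
  have hul : ∀ a, L.posStr.IsLine (u a) := fun a => hs _ (hu ▸ Multiset.mem_map_of_mem u (mem_univ_val a))
  have hp : (KRR.extPoly P e).map g = pP u := by
    rw [pP, show (∏ a, (Polynomial.X - Polynomial.C (u a))) =
        ((univ.val.map u).map fun w => Polynomial.X - Polynomial.C w).prod by rw [Multiset.map_map]; rfl,
      Multiset.prod_X_sub_X_eq_sum_esymm, KRR.extPoly, Polynomial.map_sum]
    simp only [Multiset.card_map, card_val, card_univ, Fintype.card_fin, hn]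
    refine sum_congr rfl fun k _ => ?_
    simp only [Polynomial.map_mul, Polynomial.map_C, Polynomial.map_pow, Polynomial.map_X, map_mul, map_pow,
      map_neg, map_one, Polynomial.map_neg, Polynomial.map_one, map_lam_split hg hs hse, ← hu]
    ring
  have hp' : ((KRR.extPoly P e).map ψ).map g = pP fun a => u a ^ j := by
    have hc : g.comp ψ = (adamsRing hL j).comp g := RingHom.ext fun a => by
      simp [ψ, adamsRing_apply, map_adams hg]
    rw [Polynomial.map_map, hc, ← Polynomial.map_map, hp, map_pP]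
    simp only [adamsRing_apply, adams_line (hul _)]
  let χ : AdjoinRoot (KRR.extPoly P e) →+* AdjoinRoot (pP u) :=
    AdjoinRoot.map g (KRR.extPoly P e) (pP u) (hp ▸ dvd_rfl)
  have hχ : ∀ p : Polynomial K, χ (AdjoinRoot.mk (KRR.extPoly P e) p) = AdjoinRoot.mk (pP u) (p.map g) := by
    intro p
    refine RingHom.congr_fun (f := χ.comp (AdjoinRoot.mk (KRR.extPoly P e)))
      (g := (AdjoinRoot.mk (pP u)).comp (Polynomial.mapRingHom g)) ?_ p
    refine Polynomial.ringHom_ext (fun a => ?_) ?_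
    · simp [χ, AdjoinRoot.map]
    · simp [χ, AdjoinRoot.map]
  have hχof : ∀ a, χ (φ a) = AdjoinRoot.of (pP u) (g a) := fun a => by simp [χ, AdjoinRoot.map]
  have hχroot : χ linv * AdjoinRoot.root (pP u) = 1 := by
    have := congrArg χ hlinv
    rw [map_mul, map_one] at this
    simpa [χ, AdjoinRoot.map] using this
  have hq : (Pe.aug (φ e * linv)).toNat = r + 1 := by
    have hl : Pe.aug linv = 1 := by
      have := congrArg Pe.aug hlinv
      rwa [map_mul, hline.2, mul_one, map_one] at this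
    rw [map_mul, hl, mul_one, hext.aug_comp, hn]
  have hθ := map_bott χ j _ hq (fun a => χ linv * AdjoinRoot.of (pP u) (u a)) (fun k => by
    rw [lam_q hsplit hext hline linv hlinv, map_mul, map_pow, hχof, map_lam_split hg hs hse, esymm_mul_const,
      map_multiset_esymm, ← hu, Multiset.map_map]
    rfl)
  have hG : χ (KRR.bott Pe j (φ e * linv)) * AdjoinRoot.root (pP u) ^ ((j - 1) * (r + 1)) =
      AdjoinRoot.mk (pP u) (gP j u) := by
    rw [hθ, pow_mul, show (AdjoinRoot.root (pP u) ^ (j - 1)) ^ (r + 1) =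
        ∏ _a : Fin (r + 1), AdjoinRoot.root (pP u) ^ (j - 1) by simp, ← prod_mul_distrib]
    simp only [gP, map_prod, map_sum, map_mul, map_pow, AdjoinRoot.mk_X, AdjoinRoot.mk_C]
    refine prod_congr rfl fun a _ => ?_
    rw [sum_mul, ← sum_range_reflect]
    refine sum_congr rfl fun i hi => ?_
    have hi' : i ≤ j - 1 := by have := mem_range.1 hi; omega
    calc (χ linv * AdjoinRoot.of (pP u) (u a)) ^ (j - 1 - i) * AdjoinRoot.root (pP u) ^ (j - 1)
        = AdjoinRoot.of (pP u) (u a) ^ (j - 1 - i) *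
            (χ linv * AdjoinRoot.root (pP u)) ^ (j - 1 - i) * AdjoinRoot.root (pP u) ^ i := by
          conv_lhs => arg 2; rw [← Nat.sub_add_cancel hi', pow_add]
          ring
      _ = _ := by rw [hχroot, one_pow]; ring
  have hexp : j * r + (j - 1) = r + (j - 1) * (r + 1) := by
    obtain ⟨i, rfl⟩ : ∃ i, j = i + 1 := ⟨j - 1, by omega⟩
    simp only [Nat.add_sub_cancel]; ring
  have hdiv : pP u ∣ gP j u * (X ^ r * q.map g) - C ((j : L.carrier) ^ m) * X ^ (j * r + (j - 1)) := by
    rw [← AdjoinRoot.mk_eq_mk, map_mul, map_mul, ← hG, ← hχ]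
    simp only [map_mul, map_pow, map_natCast, AdjoinRoot.mk_X, hexp, pow_add]
    have h := congrArg χ hz
    rw [map_mul, map_pow, map_natCast] at h
    linear_combination AdjoinRoot.root (pP u) ^ ((j - 1) * (r + 1)) * AdjoinRoot.root (pP u) ^ r * h
  have hkey := key r j hj u (X ^ r * q.map g) ((g0.map ψ).map g) ((j : L.carrier) ^ m) hdiv
  have he1 : g ((j : K) * f (AdjoinRoot.mk (KRR.extPoly P e) q *
        LambdaRing.adams Pe j (AdjoinRoot.mk (KRR.extPoly P e) g0)) -
      (j : K) ^ m * LambdaRing.adams P j (f (AdjoinRoot.mk (KRR.extPoly P e) g0))) =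
      (j : L.carrier) * eC r (pP u) (X ^ r * q.map g * ((g0.map ψ).map g).comp (X ^ j)) -
        (j : L.carrier) ^ m * eC r (pP fun a => u a ^ j) (X ^ r * (g0.map ψ).map g) := by
    rw [hψ, ← map_mul, functional_eq he hr f hf linv hlinv, functional_eq he hr f hf linv hlinv,
      ← adamsRing_apply hK, map_eC r hm _ (adamsRing hK j), map_sub, map_mul, map_mul, map_natCast, map_pow,
      map_natCast, map_eC r hm _ g, map_eC r (hm.map _) _ g, hp, hp', mul_assoc]
    simp only [Polynomial.map_mul, Polynomial.map_pow, Polynomial.map_X, Polynomial.map_comp]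
    rfl
  have heval : ∀ a, (gP j u).eval (u a) * (u a ^ r * (q.map g).eval (u a)) =
      (j : L.carrier) ^ m * u a ^ (j * r + (j - 1)) := by
    intro a
    obtain ⟨c, hc⟩ := hdiv
    have := congrArg (Polynomial.eval (u a)) hc
    rw [Polynomial.eval_sub, Polynomial.eval_mul (p := pP u), pP, Polynomial.eval_prod,
      prod_eq_zero (mem_univ a) (by simp), zero_mul, sub_eq_zero] at this
    simpa using this
  refine hg.injective ?_
  rw [map_mul, map_pow, map_natCast, map_zero, he1]
  have h2 : (∏ a, -(u a ^ r * (q.map g).eval (u a))) * dP j u =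
      (j : L.carrier) ^ (m * (r + 1)) * ∏ a, u a ^ (j * r + (j - 1)) := by
    rw [dP, ← prod_mul_distrib, show ((j : L.carrier) ^ (m * (r + 1))) = ∏ _a : Fin (r + 1), (j : L.carrier) ^ m by
      simp [pow_mul], ← prod_mul_distrib]
    exact prod_congr rfl fun a _ => by rw [← heval]; ring
  have hunit : IsUnit (∏ a, u a ^ (j * r + (j - 1))) :=
    IsUnit.prod_univ_iff.2 fun a => (isUnit_line (hul a)).pow _
  refine hunit.mul_left_cancel ?_
  rw [mul_zero, ← mul_assoc, mul_comm _ ((j : L.carrier) ^ (m * (r + 1))), ← h2, mul_assoc, hkey, mul_zero]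

end Ext

section Tensor

open scoped TensorProduct

lemma tensor_step {R A B : Type*} [CommRing R] [CommRing A] [CommRing B] [Algebra B A] (j : ℕ) (θ z : A) (m r : ℕ)
    (hz : θ * z = (j : A) ^ m) (hju : IsUnit (j : R)) (f : A →ₗ[B] B) (a : A → B) (b : A → A)
    (hmain : ∀ x, (j : B) ^ (m * (r + 1)) * ((j : B) * f (z * b x) - (j : B) ^ m * a x) = 0) :
    (∃ w : R ⊗[ℤ] A, w * ((1 : R) ⊗ₜ[ℤ] θ) = 1) ∧
    ∀ w : R ⊗[ℤ] A, w * ((1 : R) ⊗ₜ[ℤ] θ) = 1 → ∀ x : A,
      (1 : R) ⊗ₜ[ℤ] a x = LinearMap.lTensor R f.toAddMonoidHom.toIntLinearMap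
        ((j : R ⊗[ℤ] A) * w * ((1 : R) ⊗ₜ[ℤ] b x)) := by
  have hjT : IsUnit (j : R ⊗[ℤ] A) := by
    have := hju.map (Algebra.TensorProduct.includeLeftRingHom : R →+* R ⊗[ℤ] A)
    rwa [map_natCast] at this
  have hzθ : ((1 : R) ⊗ₜ[ℤ] z) * ((1 : R) ⊗ₜ[ℤ] θ) = (j : R ⊗[ℤ] A) ^ m := by
    rw [Algebra.TensorProduct.tmul_mul_tmul, one_mul, mul_comm z, hz,
      ← Algebra.TensorProduct.includeRight_apply (R := ℤ), map_pow, map_natCast]
  refine ⟨?_, ?_⟩
  · obtain ⟨y, hy⟩ := (hjT.pow m).exists_left_inv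
    exact ⟨y * ((1 : R) ⊗ₜ[ℤ] z), by rw [mul_assoc, hzθ, hy]⟩
  intro w hw x
  have hwz : (j : R ⊗[ℤ] A) ^ m * w = (1 : R) ⊗ₜ[ℤ] z := by
    rw [← hzθ]
    linear_combination ((1 : R) ⊗ₜ[ℤ] z) * hw
  have hcancel : ∀ (k : ℕ) (p q : R ⊗[ℤ] B), (j ^ k) • p = (j ^ k) • q → p = q := by
    intro k p q h
    rw [← Nat.cast_smul_eq_nsmul R, ← Nat.cast_smul_eq_nsmul R (j ^ k) q, Nat.cast_pow] at h
    exact (hju.pow k).smul_left_cancel.1 h
  refine hcancel (m * (r + 1) + m) _ _ ?_
  rw [pow_add, mul_smul, mul_smul, ← map_nsmul (LinearMap.lTensor _ _)]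
  have hL : (j ^ m) • ((j : R ⊗[ℤ] A) * w * ((1 : R) ⊗ₜ[ℤ] b x)) = (1 : R) ⊗ₜ[ℤ] (j • (z * b x)) := by
    rw [nsmul_eq_mul, Nat.cast_pow]
    calc _ = (j : R ⊗[ℤ] A) * (((j : R ⊗[ℤ] A) ^ m * w) * ((1 : R) ⊗ₜ[ℤ] b x)) := by ring
      _ = _ := by
        rw [hwz, Algebra.TensorProduct.tmul_mul_tmul, one_mul, ← nsmul_eq_mul, TensorProduct.tmul_smul]
  rw [hL, LinearMap.lTensor_tmul, ← TensorProduct.tmul_smul, ← TensorProduct.tmul_smul,
    ← TensorProduct.tmul_smul]
  congr 1
  rw [map_nsmul]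
  simp only [LinearMap.toAddMonoidHom_coe, AddMonoidHom.coe_toIntLinearMap, nsmul_eq_mul, Nat.cast_pow]
  linear_combination -(hmain x)

end Tensor

end

/-- For the model elementary projection: let K be a λ-ring with positive structure having the splitting
property, e positive with ε(e) = r + 1, K_e = K[T]/(p_e) with generator ℓ (a unit, inverse linv),
carrying a λ-structure extending that of K with λ^i(ℓ) = 0 for i ≥ 2 and a positive structure making
K ⟶ K_e an extension with ℓ a line element and e - ℓ positive (when r ≥ 1), having the splitting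
property, and with F^N K_e = 0 for some N (the published statement assumes instead that 1 - u is
nilpotent for all line elements u of the rings in play). Let f : K_e ⟶ K be the associated K-linear
functional (f(ℓ^i) = σ^i(e), i ≤ r) and j ≥ 1. The published statement's hypothesis 'j invertible in
K' is read here after tensoring with R = ℤ[1/j] (no λ-ring with an augmentation onto ℤ has j
invertible for j ≥ 2). Then 1 ⊗ θ^j(e ℓ⁻¹) is invertible in R ⊗ K_e, and for every inverse w of it
and every x ∈ K_e: 1 ⊗ ψ^j(f(x)) = (R ⊗ f)(j · w · (1 ⊗ ψ^j(x))) in R ⊗ K. -/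
theorem result (K : Type v) [CommRing K] [LambdaRing.LambdaOps K] (P : LambdaRing.PosStructure K) (hK : LambdaRing.HasSplitting K P) (e : K) (he : e ∈ P.pos) (r : ℕ) (hr : P.aug e = r + 1)
    (inst : LambdaRing.LambdaOps (AdjoinRoot (KRR.extPoly P e))) (Pe : @LambdaRing.PosStructure _ _ inst)
    (hext : @LambdaRing.IsExtension K _ _ _ _ inst P Pe (AdjoinRoot.of (KRR.extPoly P e)))
    (hroot : ∀ i : ℕ, 2 ≤ i → @LambdaRing.LambdaOps.lam _ _ inst i (AdjoinRoot.root (KRR.extPoly P e)) = 0)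
    (hline : @LambdaRing.PosStructure.IsLine _ _ inst Pe (AdjoinRoot.root (KRR.extPoly P e)))
    (hpos : 1 ≤ r → AdjoinRoot.of (KRR.extPoly P e) e - AdjoinRoot.root (KRR.extPoly P e) ∈ (@LambdaRing.PosStructure.pos _ _ inst Pe))
    (hsplit : @LambdaRing.HasSplitting _ _ inst Pe) (N : ℕ) (hN : @LambdaRing.gammaFiltration _ _ inst Pe N = ⊥)
    (f : AdjoinRoot (KRR.extPoly P e) →ₗ[K] K)
    (hf : ∀ i : ℕ, i ≤ r → f (AdjoinRoot.root (KRR.extPoly P e) ^ i) = KRR.sigma i e)
    (linv : AdjoinRoot (KRR.extPoly P e)) (hlinv : linv * AdjoinRoot.root (KRR.extPoly P e) = 1)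
    (j : ℕ) (hj : 1 ≤ j) :
    (∃ w : TensorProduct ℤ (Localization.Away (j : ℤ)) (AdjoinRoot (KRR.extPoly P e)), w * ((1 : Localization.Away (j : ℤ)) ⊗ₜ[ℤ] @KRR.bott _ _ inst Pe j (AdjoinRoot.of (KRR.extPoly P e) e * linv)) = 1) ∧
    ∀ w : TensorProduct ℤ (Localization.Away (j : ℤ)) (AdjoinRoot (KRR.extPoly P e)), w * ((1 : Localization.Away (j : ℤ)) ⊗ₜ[ℤ] @KRR.bott _ _ inst Pe j (AdjoinRoot.of (KRR.extPoly P e) e * linv)) = 1 →
      ∀ x : AdjoinRoot (KRR.extPoly P e),
        (1 : Localization.Away (j : ℤ)) ⊗ₜ[ℤ] LambdaRing.adams P j (f x) =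
          LinearMap.lTensor (Localization.Away (j : ℤ)) f.toAddMonoidHom.toIntLinearMap
            ((j : TensorProduct ℤ (Localization.Away (j : ℤ)) (AdjoinRoot (KRR.extPoly P e))) * w * ((1 : Localization.Away (j : ℤ)) ⊗ₜ[ℤ] @LambdaRing.adams _ _ inst Pe j x)) := by
  letI : LambdaRing.LambdaOps (AdjoinRoot (KRR.extPoly P e)) := inst
  obtain ⟨z, m, hz⟩ := exists_inverse hK he hr hsplit hext hline N hN linv hlinv j
  set θ := KRR.bott Pe j (AdjoinRoot.of (KRR.extPoly P e) e * linv)
  have hju : IsUnit (j : Localization.Away (j : ℤ)) := by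
    have := IsLocalization.Away.algebraMap_isUnit (S := Localization.Away (j : ℤ)) (j : ℤ)
    simpa using this
  exact tensor_step j θ z m r hz hju f (fun x => LambdaRing.adams P j (f x)) (LambdaRing.adams Pe j)
    (main_id hK he hr hsplit hext hline f hf linv hlinv j hj z m hz)

end Groth.Agent.S3804
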