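import Groth.Statements.S3806
import Groth.Agent.PP16Lib.Basic
import Mathlib.RingTheory.IsTensorProduct

set_option autoImplicit false
universe u
open scoped TensorProduct
attribute [local instance] PP16.mapAlgebra PP16.isScalarTower_mapAlgebra
open PP16

namespace Groth.Agent.S3806

theorem aux (n : ℕ) (A B A' B' : Type u) [CommRing A] [CommRing B] [Algebra A B]
    [CommRing A'] [CommRing B'] [Algebra A' B'] [Algebra A A'] [Algebra B B'] [Algebra A B']
    [IsScalarTower A A' B'] [IsScalarTower A B B'] [Algebra.IsPushout A B A' B']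
    (Q : Type u) [CommRing Q] [Algebra A Q] [Algebra B Q] [Algebra A' Q] [Algebra B' Q]
    [IsScalarTower A B Q] [IsScalarTower A A' Q] [IsScalarTower A' B' Q] [IsScalarTower B B' Q]
    [IsScalarTower A B' Q]
    (i : PP16.P n A B →ₐ[B] Q) (G : Q →ₐ[B'] PP16.P n A' B')
    (hG1 : ∀ p, G (i p) = PP16.map n A B A' B' p)
    (hext : ∀ φ : Q →ₐ[B'] Q, (∀ p, φ (i p) = i p) → φ = AlgHom.id B' Q) :
    Function.Bijective G := by
  let fB : B →ₐ[A] Q := (i.restrictScalars A).comp (PP16.dn n A B)
  let fA : A' →ₐ[A] Q := IsScalarTower.toAlgHom A A' Q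
  let f : B' →ₐ[A'] Q :=
    { Algebra.pushoutDesc B' fB fA (fun _ _ => mul_comm _ _) with
      commutes' := fun a => Algebra.pushoutDesc_right B' fB fA (fun _ _ => mul_comm _ _) a }
  have hfB : ∀ b, f (algebraMap B B' b) = i (PP16.dn n A B b) := fun b =>
    Algebra.pushoutDesc_left B' fB fA (fun _ _ => mul_comm _ _) b
  have hpow : PP16.augIdeal n A B ^ (n + 1) = ⊥ := PP16Lib.augIdeal_pow
  let K : Ideal Q := (PP16.augIdeal n A B).map i
  have hK : K ^ (n + 1) = ⊥ :=
    (Ideal.map_pow _ _ _).symm.trans ((congrArg _ hpow).trans Ideal.map_bot)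
  have hf : ∀ b, f b - algebraMap B' Q b ∈ K := by
    refine PP16Lib.algHom_congr_mod (f.restrictScalars A) (IsScalarTower.toAlgHom A B' Q) K ?_
    refine Algebra.IsPushout.algHom_ext (R := A) (S := B) (R' := A') B'
      (AlgHom.ext fun a => ?_) (AlgHom.ext fun b => ?_)
    · show Ideal.Quotient.mk K (f (algebraMap A' B' a)) = Ideal.Quotient.mk K _
      rw [f.commutes]
      exact congrArg _ (IsScalarTower.algebraMap_apply A' B' Q a)
    · show Ideal.Quotient.mk K (f (algebraMap B B' b)) = Ideal.Quotient.mk K (algebraMap B' Q (algebraMap B B' b))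
      rw [hfB, ← IsScalarTower.algebraMap_apply, Ideal.Quotient.eq, ← i.commutes, ← map_sub]
      exact Ideal.mem_map_of_mem _ (PP16Lib.dn_sub_mem_augIdeal b)
  let ψ : PP16.P n A' B' →ₐ[B'] Q := PP16Lib.lift f K hK hf
  have hG : G.comp ψ = AlgHom.id B' _ := PP16Lib.algHom_ext fun b' => by
    show G (ψ (PP16.dn n A' B' b')) = _
    rw [PP16Lib.lift_dn]
    refine DFunLike.congr_fun (F := B' →ₐ[A] PP16.P n A' B')
      (f := (G.restrictScalars A).comp (f.restrictScalars A))
      (g := (PP16.dn n A' B').restrictScalars A) ?_ b'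
    refine Algebra.IsPushout.algHom_ext (R := A) (S := B) (R' := A') B'
      (AlgHom.ext fun a => ?_) (AlgHom.ext fun b => ?_)
    · show G (f (algebraMap A' B' a)) = PP16.dn n A' B' (algebraMap A' B' a)
      rw [f.commutes, IsScalarTower.algebraMap_apply A' B' Q, AlgHom.commutes, AlgHom.commutes,
        ← IsScalarTower.algebraMap_apply]
    · show G (f (algebraMap B B' b)) = PP16.dn n A' B' (algebraMap B B' b)
      rw [hfB, hG1, PP16.map_dn]
  have h : ∀ p, ψ (PP16.map n A B A' B' p) = i p := fun p =>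
    RingHom.congr_fun (f := ψ.toRingHom.comp (PP16.map n A B A' B').toRingHom) (g := i.toRingHom)
      (PP16Lib.ringHom_ext (fun b => by
        show ψ (PP16.map n A B A' B' (algebraMap B _ b)) = i (algebraMap B _ b)
        rw [PP16.map_algebraMap, AlgHom.commutes, AlgHom.commutes, ← IsScalarTower.algebraMap_apply]
      ) fun b => by
        show ψ (PP16.map n A B A' B' (PP16.dn n A B b)) = i (PP16.dn n A B b)
        rw [PP16.map_dn, PP16Lib.lift_dn, hfB]) p
  have hψ : ψ.comp G = AlgHom.id B' Q := hext _ fun p => by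
    rw [AlgHom.comp_apply, hG1, h]
  exact (AlgEquiv.ofAlgHom G ψ hG hψ).bijective

/-- Let A → A' be a ring map, B an A-algebra and B' = B ⊗_A A'. Then the canonical map P^n_{B/A} ⊗_B B'
→ P^n_{B'/A'} induced by functoriality of principal parts is an isomorphism; that is, the square B →
P^n_{B/A}, B → B', with P^n_{B'/A'} in the corner, is a pushout of rings. -/
theorem result (n : ℕ) (A B A' B' : Type u) [CommRing A] [CommRing B] [Algebra A B]
    [CommRing A'] [CommRing B'] [Algebra A' B'] [Algebra A A'] [Algebra B B'] [Algebra A B']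
    [IsScalarTower A A' B'] [IsScalarTower A B B'] [Algebra.IsPushout A B A' B'] :
    Algebra.IsPushout B (PP16.P n A B) B' (PP16.P n A' B') := by
  let μ : PP16.P n A B →ₐ[B] PP16.P n A' B' :=
    { (PP16.map n A B A' B').toRingHom with
      commutes' := fun b => (PP16.map_algebraMap n A B A' B' b).trans
        (IsScalarTower.algebraMap_apply B B' _ b).symm }
  let G : B' ⊗[B] PP16.P n A B →ₐ[B'] PP16.P n A' B' :=
    Algebra.TensorProduct.lift (Algebra.ofId B' _) μ fun _ _ => Commute.all _ _
  have hG1 : ∀ p, G (1 ⊗ₜ[B] p) = PP16.map n A B A' B' p := fun p => by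
    show G (1 ⊗ₜ[B] p) = μ p
    simp only [G, Algebra.TensorProduct.lift_tmul, map_one, one_mul]
  have hb := aux n A B A' B' (B' ⊗[B] PP16.P n A B) Algebra.TensorProduct.includeRight G hG1
    fun φ hφ => Algebra.TensorProduct.ext (Subsingleton.elim _ _) (AlgHom.ext hφ)
  letI : Algebra (PP16.P n A B) (B' ⊗[B] PP16.P n A B) := Algebra.TensorProduct.rightAlgebra
  let e : (B' ⊗[B] PP16.P n A B) ≃ₐ[B'] PP16.P n A' B' := AlgEquiv.ofBijective G hb
  have he : e.toRingHom.comp (algebraMap (PP16.P n A B) (B' ⊗[B] PP16.P n A B)) =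
      algebraMap (PP16.P n A B) (PP16.P n A' B') := RingHom.ext hG1
  exact (Algebra.IsPushout.of_equiv (R := B) (R' := B') (S := PP16.P n A B) (S' := B' ⊗[B] PP16.P n A B) (h := TensorProduct.isPushout) e he).symm

end Groth.Agent.S3806
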