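import Groth.Statements.S3807
import Groth.Agent.PP16Lib.Basic
import Mathlib.RingTheory.Localization.Basic

set_option autoImplicit false
universe u
open scoped TensorProduct
attribute [local instance] PP16.mapAlgebra PP16.isScalarTower_mapAlgebra
open PP16

namespace Groth.Agent.S3807

theorem aux (n : ℕ) (A B B' : Type u) [CommRing A] [CommRing B] [Algebra A B]
    [CommRing B'] [Algebra B B'] [Algebra A B'] [IsScalarTower A B B'] (S : Submonoid B) [IsLocalization S B']
    (L : Type u) [CommRing L] [Algebra (PP16.P n A B) L]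
    [IsLocalization (S.map (algebraMap B (PP16.P n A B))) L] :
    Nonempty (L ≃ₐ[PP16.P n A B] PP16.P n A B') := by
  let M := S.map (algebraMap B (PP16.P n A B))
  letI : Algebra A L := ((algebraMap (PP16.P n A B) L).comp (algebraMap A (PP16.P n A B))).toAlgebra
  let ι : PP16.P n A B →+* L := algebraMap _ L
  let gB : B →+* L := ι.comp (algebraMap B (PP16.P n A B))
  let fB : B →+* L := ι.comp (PP16.dn n A B).toRingHom
  have hg : ∀ s : S, IsUnit (gB s) := fun s =>
    IsLocalization.map_units L (⟨_, Submonoid.mem_map_of_mem _ s.2⟩ : M)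
  let K : Ideal L := (PP16.augIdeal n A B).map ι
  have hK : K ^ (n + 1) = ⊥ := PP16Lib.map_pow_eq_bot ι PP16Lib.augIdeal_pow
  have hdiff : ∀ b : B, fB b - gB b ∈ K := fun b => by
    have := Ideal.mem_map_of_mem ι (PP16Lib.dn_sub_mem_augIdeal (n := n) (A := A) b)
    rwa [map_sub] at this
  have hnil : ∀ b : B, IsNilpotent (fB b - gB b) := fun b =>
    ⟨n + 1, by simpa [hK] using Ideal.pow_mem_pow (hdiff b) (n + 1)⟩
  have hf : ∀ s : S, IsUnit (fB s) := fun s => by
    have h := (hnil s).isUnit_add_left_of_commute (hg s) (Commute.all _ _)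
    rwa [add_sub_cancel] at h
  let g' : B' →+* L := IsLocalization.lift hg
  letI : Algebra B' L := g'.toAlgebra
  haveI : IsScalarTower A B' L := IsScalarTower.of_algebraMap_eq fun a => by
    show algebraMap A L a = g' (algebraMap A B' a)
    rw [IsScalarTower.algebraMap_apply A B B' a, IsLocalization.lift_eq]
    show ι (algebraMap A (PP16.P n A B) a) = ι (algebraMap B (PP16.P n A B) (algebraMap A B a))
    exact congrArg ι (IsScalarTower.algebraMap_apply A B (PP16.P n A B) a)
  let f : B' →ₐ[A] L :=
    { IsLocalization.lift hf with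
      commutes' := fun a => by
        show IsLocalization.lift hf (algebraMap A B' a) = algebraMap A L a
        rw [IsScalarTower.algebraMap_apply A B B' a, IsLocalization.lift_eq]
        show ι (PP16.dn n A B (algebraMap A B a)) = ι (algebraMap A (PP16.P n A B) a)
        rw [AlgHom.commutes] }
  have hf' : ∀ b, f b - algebraMap B' L b ∈ K := by
    have h : (Ideal.Quotient.mk K).comp f.toRingHom = (Ideal.Quotient.mk K).comp g' := by
      refine IsLocalization.ringHom_ext S (RingHom.ext fun b => ?_)
      show Ideal.Quotient.mk K (IsLocalization.lift hf (algebraMap B B' b)) =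
        Ideal.Quotient.mk K (IsLocalization.lift hg (algebraMap B B' b))
      rw [IsLocalization.lift_eq, IsLocalization.lift_eq, Ideal.Quotient.eq]
      exact hdiff b
    exact fun b => Ideal.Quotient.eq.mp (RingHom.congr_fun h b)
  let ψ : PP16.P n A B' →ₐ[B'] L := PP16Lib.lift f K hK hf'
  let μ : PP16.P n A B →+* PP16.P n A B' := (PP16.map n A B A B').toRingHom
  have hμ : ∀ m : M, IsUnit (μ m) := by
    rintro ⟨_, s, hs, rfl⟩
    show IsUnit (PP16.map n A B A B' (algebraMap B _ s))
    rw [PP16.map_algebraMap]
    exact (IsLocalization.map_units B' (⟨s, hs⟩ : S)).map _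
  let θ : L →+* PP16.P n A B' := IsLocalization.lift hμ
  have hθ : ∀ x, θ (ι x) = PP16.map n A B A B' x := fun x => IsLocalization.lift_eq hμ x
  have h1 : θ.comp ψ.toRingHom = RingHom.id _ := by
    refine PP16Lib.ringHom_ext (fun b' => ?_) fun b' => ?_
    · show θ (ψ (algebraMap B' _ b')) = _
      rw [AlgHom.commutes]
      refine RingHom.congr_fun (f := θ.comp g') (g := algebraMap B' _) ?_ b'
      refine IsLocalization.ringHom_ext S (RingHom.ext fun b => ?_)
      show θ (IsLocalization.lift hg (algebraMap B B' b)) = _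
      rw [IsLocalization.lift_eq]
      exact (hθ _).trans (PP16.map_algebraMap n A B A B' b)
    · show θ (ψ (PP16.dn n A B' b')) = _
      rw [PP16Lib.lift_dn]
      refine RingHom.congr_fun (f := θ.comp f.toRingHom) (g := (PP16.dn n A B').toRingHom) ?_ b'
      refine IsLocalization.ringHom_ext S (RingHom.ext fun b => ?_)
      show θ (IsLocalization.lift hf (algebraMap B B' b)) = _
      rw [IsLocalization.lift_eq]
      exact (hθ _).trans (PP16.map_dn n A B A B' b)
  have h2 : ψ.toRingHom.comp θ = RingHom.id _ := by
    refine IsLocalization.ringHom_ext M (PP16Lib.ringHom_ext (fun b => ?_) fun b => ?_)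
    · show ψ (θ (ι (algebraMap B _ b))) = ι (algebraMap B _ b)
      rw [hθ, PP16.map_algebraMap, AlgHom.commutes]
      exact IsLocalization.lift_eq hg b
    · show ψ (θ (ι (PP16.dn n A B b))) = ι (PP16.dn n A B b)
      rw [hθ, PP16.map_dn, PP16Lib.lift_dn]
      exact IsLocalization.lift_eq hf b
  let e : L ≃ₐ[PP16.P n A B] PP16.P n A B' :=
    { RingEquiv.ofRingHom θ ψ.toRingHom h1 h2 with commutes' := hθ }
  exact ⟨e⟩


/-- Let B be an A-algebra, S a multiplicative subset of B and B' = S⁻¹B. Then the canonical map
S⁻¹P^n_{B/A} → P^n_{B'/A} induced by functoriality is an isomorphism: P^n_{B'/A} is the localization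
of P^n_{B/A} at the image of S. -/
theorem result (n : ℕ) (A B B' : Type u) [CommRing A] [CommRing B] [Algebra A B]
    [CommRing B'] [Algebra B B'] [Algebra A B'] [IsScalarTower A B B'] (S : Submonoid B) [IsLocalization S B'] :
    IsLocalization (S.map (algebraMap B (PP16.P n A B))) (PP16.P n A B') := by
  obtain ⟨e⟩ := aux n A B B' S (Localization (S.map (algebraMap B (PP16.P n A B))))
  exact IsLocalization.isLocalization_of_algEquiv _ e

end Groth.Agent.S3807
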