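import Groth.Statements.S3809
import Groth.Agent.PP16Lib.Basic

set_option autoImplicit false
universe u
open scoped TensorProduct
open PP16

namespace Groth.Agent.S3809

/-- Let A → B → C be ring maps. Then the canonical map P^n_{C/A} → P^n_{C/B} is surjective, and its
kernel is the ideal generated by the image, under the canonical map P^n_{B/A} → P^n_{C/A}, of the
augmentation ideal of P^n_{B/A}. -/
theorem result (n : ℕ) (A B C : Type u) [CommRing A] [CommRing B] [CommRing C]
    [Algebra A B] [Algebra B C] [Algebra A C] [IsScalarTower A B C] :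
    Function.Surjective (PP16.map n A C B C) ∧
      RingHom.ker (PP16.map n A C B C) = (PP16.augIdeal n A B).map (PP16.map n A B A C) := by
  obtain ⟨hs, hk⟩ := PP16Lib.map_surjective_and_ker n A C B C Function.surjective_id
  refine ⟨hs, hk.trans ?_⟩
  rw [PP16Lib.ker_tensorMap_tower, PP16.augIdeal]
  show Ideal.map (PP16Lib.mkP n A C) (Ideal.map (PP16.tensorMap A B A C).toRingHom _) =
    Ideal.map (PP16.map n A B A C).toRingHom _
  rw [Ideal.map_map, Ideal.map_map]
  rfl

end Groth.Agent.S3809
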