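import Groth.Statements.S3808
import Groth.Agent.PP16Lib.Basic
import Groth.Agent.S3809

set_option autoImplicit false
universe u
open scoped TensorProduct
open PP16

namespace Groth.Agent.S3808

/-- Let A → B be a ring map, R a multiplicative subset of A, S one of B containing the image of R, and
A' = R⁻¹A, B' = S⁻¹B with the induced map A' → B'. Then the canonical map P^n_{B'/A} → P^n_{B'/A'}
is bijective. -/
theorem result (n : ℕ) (A B A' B' : Type u) [CommRing A] [CommRing B] [Algebra A B]
    [CommRing A'] [CommRing B'] [Algebra A A'] [Algebra B B'] [Algebra A' B'] [Algebra A B']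
    [IsScalarTower A A' B'] [IsScalarTower A B B'] (R : Submonoid A) (S : Submonoid B) [IsLocalization R A']
    [IsLocalization S B'] (hRS : ∀ r ∈ R, algebraMap A B r ∈ S) :
    Function.Bijective (PP16.map n A B' A' B') := by
  obtain ⟨hs, hk⟩ := Groth.Agent.S3809.result n A A' B'
  refine ⟨(RingHom.injective_iff_ker_eq_bot _).mpr ?_, hs⟩
  rw [hk, PP16.augIdeal]
  have : KaehlerDifferential.ideal A A' = ⊥ := by
    refine le_antisymm (PP16Lib.ideal_le_iff.mpr fun x => ?_) bot_le
    obtain ⟨⟨a, r⟩, rfl⟩ := IsLocalization.mk'_surjective R x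
    have hu : IsUnit (algebraMap A (A' ⊗[A] A') r) := by
      rw [IsScalarTower.algebraMap_apply A A' (A' ⊗[A] A')]
      exact (IsLocalization.map_units A' r).map _
    rw [Ideal.mem_bot, ← hu.mul_right_eq_zero, ← Algebra.smul_def, PP16Lib.dlt, smul_sub,
      ← TensorProduct.tmul_smul, TensorProduct.smul_tmul']
    rw [show (r : A) • IsLocalization.mk' A' a r = algebraMap A A' a from
        (Algebra.smul_def _ _).trans (IsLocalization.mk'_spec' _ _ _),
      Algebra.algebraMap_eq_smul_one, TensorProduct.tmul_smul, TensorProduct.smul_tmul', sub_self]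
  exact le_bot_iff.mp (Ideal.map_le_iff_le_comap.mpr
    (Ideal.map_le_iff_le_comap.mpr (this.le.trans bot_le)))

end Groth.Agent.S3808
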