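import Groth.Statements.S3810
import Groth.Agent.PP16Lib.Basic

set_option autoImplicit false
universe u
open scoped TensorProduct
open PP16

namespace Groth.Agent.S3810

/-- Let B be an A-algebra, K an ideal of B and C = B/K. Then the canonical map P^n_{B/A} → P^n_{C/A} is
surjective and its kernel is the ideal generated by the image of K under the structure map B →
P^n_{B/A} together with the image of K under the principal-part map d^n (the latter is an additive
subgroup, not a B-submodule, in general). -/
theorem result (n : ℕ) (A B : Type u) [CommRing A] [CommRing B] [Algebra A B]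
    (K : Ideal B) :
    Function.Surjective (PP16.map n A B A (B ⧸ K)) ∧
      RingHom.ker (PP16.map n A B A (B ⧸ K)) =
        K.map (algebraMap B (PP16.P n A B)) ⊔ K.map (PP16.dn n A B) := by
  obtain ⟨hs, hk⟩ := PP16Lib.map_surjective_and_ker n A B A (B ⧸ K) Ideal.Quotient.mk_surjective
  refine ⟨hs, hk.trans ?_⟩
  have ht : PP16.tensorMap A B A (B ⧸ K) =
      Algebra.TensorProduct.map (Ideal.Quotient.mkₐ A K) (Ideal.Quotient.mkₐ A K) :=
    Algebra.TensorProduct.ext' fun b c => PP16.tensorMap_tmul A B A (B ⧸ K) b c
  have hK : RingHom.ker (Ideal.Quotient.mkₐ A K) = K := Ideal.Quotient.mkₐ_ker A K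
  rw [ht, Algebra.TensorProduct.map_ker _ _ Ideal.Quotient.mk_surjective Ideal.Quotient.mk_surjective,
    hK, Ideal.map_sup]
  show Ideal.map (PP16Lib.mkP n A B) (Ideal.map (Algebra.TensorProduct.includeLeft :
      B →ₐ[A] B ⊗[A] B).toRingHom K) ⊔ Ideal.map (PP16Lib.mkP n A B)
        (Ideal.map (Algebra.TensorProduct.includeRight : B →ₐ[A] B ⊗[A] B).toRingHom K) = _
  rw [Ideal.map_map, Ideal.map_map]
  rfl

end Groth.Agent.S3810
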