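import Groth.Statements.S3811
import Groth.Agent.PP16Lib.Basic

set_option autoImplicit false
universe u
open scoped TensorProduct
open PP16

namespace Groth.Agent.S3811

/-- Let B be an A-algebra with an A-algebra retraction g : B → A, and K the kernel of g. The composite
of d^n : B → P^n_{B/A} with the projection P^n_{B/A} → P^n_{B/A} / K P^n_{B/A} (base change of
P^n_{B/A} along g) is surjective with kernel K^(n+1); thus P^n_{B/A} ⊗_B A is identified with
B/K^(n+1), the class of d^n t corresponding to the class of t. -/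
theorem result (n : ℕ) (A B : Type u) [CommRing A] [CommRing B] [Algebra A B]
    (g : B →ₐ[A] A) :
    Function.Surjective ((Ideal.Quotient.mk ((RingHom.ker g).map (algebraMap B (PP16.P n A B)))).comp
        (PP16.dn n A B).toRingHom) ∧
      RingHom.ker ((Ideal.Quotient.mk ((RingHom.ker g).map (algebraMap B (PP16.P n A B)))).comp
        (PP16.dn n A B).toRingHom) = RingHom.ker g ^ (n + 1) := by
  let K := RingHom.ker g
  let J := K.map (algebraMap B (PP16.P n A B))
  have hred : ∀ b, algebraMap B (PP16.P n A B) b - algebraMap A (PP16.P n A B) (g b) ∈ J := fun b => by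
    rw [IsScalarTower.algebraMap_apply A B (PP16.P n A B), ← map_sub]
    exact Ideal.mem_map_of_mem _ (by simp [K])
  have hφ : ∀ a : A, algebraMap A (PP16.P n A B) a = PP16.dn n A B (algebraMap A B a) := fun a =>
    ((PP16.dn n A B).commutes a).symm
  refine ⟨?_, le_antisymm ?_ ?_⟩
  · intro y
    obtain ⟨x, rfl⟩ := Ideal.Quotient.mk_surjective y
    have hx : x ∈ Submodule.span B (Set.range (PP16.dn n A B)) := by
      rw [PP16Lib.span_range_dn]; trivial
    induction hx using Submodule.span_induction with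
    | mem x hx => obtain ⟨b, rfl⟩ := hx; exact ⟨b, rfl⟩
    | zero => exact ⟨0, map_zero _⟩
    | add x y _ _ hx hy =>
      obtain ⟨a, ha⟩ := hx
      obtain ⟨b, hb⟩ := hy
      exact ⟨a + b, by rw [map_add, ha, hb, ← map_add]⟩
    | smul c x _ hx =>
      obtain ⟨b, hb⟩ := hx
      refine ⟨algebraMap A B (g c) * b, ?_⟩
      rw [map_mul, hb, Algebra.smul_def, map_mul]
      congr 1
      show Ideal.Quotient.mk J (PP16.dn n A B (algebraMap A B (g c))) = Ideal.Quotient.mk J _
      rw [← hφ, eq_comm, Ideal.Quotient.eq]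
      exact hred c
  · let Q := B ⧸ K ^ (n + 1)
    let ψT : B ⊗[A] B →ₐ[A] Q := Algebra.TensorProduct.lift ((Algebra.ofId A Q).comp g)
      (Ideal.Quotient.mkₐ A (K ^ (n + 1))) fun _ _ => Commute.all _ _
    have hI : KaehlerDifferential.ideal A B ≤ (K.map (Ideal.Quotient.mk (K ^ (n + 1)))).comap ψT :=
      PP16Lib.ideal_le_iff.mpr fun b => by
        show ψT (PP16Lib.dlt A B b) ∈ K.map (Ideal.Quotient.mk (K ^ (n + 1)))
        simp only [PP16Lib.dlt, map_sub, ψT, Algebra.TensorProduct.lift_tmul, AlgHom.comp_apply,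
          map_one, one_mul, mul_one]
        show Ideal.Quotient.mk _ b - Ideal.Quotient.mk _ (algebraMap A B (g b)) ∈ _
        rw [← map_sub]
        exact Ideal.mem_map_of_mem _ (by simp [K])
    let ψ : PP16.P n A B →ₐ[A] Q := Ideal.Quotient.liftₐ _ ψT fun x hx => by
      have := Ideal.le_comap_pow ψT (n + 1) (Ideal.pow_right_mono hI (n + 1) hx)
      rw [Ideal.mem_comap, ← Ideal.map_pow, Ideal.map_quotient_self, Ideal.mem_bot] at this
      exact this
    intro b hb
    have hb' : PP16.dn n A B b ∈ J := Ideal.Quotient.eq_zero_iff_mem.mp hb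
    have hJ : J ≤ RingHom.ker ψ := by
      refine Ideal.map_le_iff_le_comap.mpr fun k hk => ?_
      show ψT (k ⊗ₜ 1) = 0
      simp [ψT, RingHom.mem_ker.mp hk]
    have := hJ hb'
    rw [RingHom.mem_ker] at this
    change ψT (1 ⊗ₜ b) = 0 at this
    simp only [ψT, Algebra.TensorProduct.lift_tmul, map_one, one_mul] at this
    exact Ideal.Quotient.eq_zero_iff_mem.mp this
  · have hK : K.map (PP16.dn n A B) ≤ PP16.augIdeal n A B ⊔ J := by
      refine Ideal.map_le_iff_le_comap.mpr fun k hk => ?_
      show PP16.dn n A B k ∈ PP16.augIdeal n A B ⊔ J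
      rw [← sub_add_cancel (PP16.dn n A B k) (algebraMap B _ k)]
      exact Submodule.add_mem_sup (PP16Lib.dn_sub_mem_augIdeal k) (Ideal.mem_map_of_mem _ hk)
    intro x hx
    refine Ideal.Quotient.eq_zero_iff_mem.mpr ?_
    have h1 : PP16.dn n A B x ∈ (PP16.augIdeal n A B ⊔ J) ^ (n + 1) :=
      Ideal.pow_right_mono hK (n + 1) (Ideal.map_pow (PP16.dn n A B) K (n + 1) ▸ Ideal.mem_map_of_mem _ hx)
    have h2 : (PP16.augIdeal n A B ⊔ J) ^ (n + 1) ≤ J := PP16Lib.sup_pow_le PP16Lib.augIdeal_pow
    exact h2 h1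

end Groth.Agent.S3811
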