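import Groth.Statements.S3812
import Groth.Agent.PP16Lib.Basic

set_option autoImplicit false
universe u
open scoped TensorProduct
open PP16

namespace Groth.Agent.S3812

theorem core {n : ℕ} {A B σ : Type u} [CommRing A] [CommRing B] [Algebra A B] (T : σ → B)
    (hext : ∀ {R : Type u} [CommRing R] [Algebra A R] {φ ψ : B →ₐ[A] R},
      (∀ i, φ (T i) = ψ (T i)) → φ = ψ)
    (f : B →ₐ[A] MvPolynomial σ B ⧸
      Ideal.span (Set.range (MvPolynomial.X : σ → MvPolynomial σ B)) ^ (n + 1))
    (hfT : ∀ i, f (T i) = Ideal.Quotient.mk _ (MvPolynomial.C (T i) + MvPolynomial.X i)) :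
    ∃ e : PP16.P n A B ≃ₐ[B] MvPolynomial σ B ⧸
        Ideal.span (Set.range (MvPolynomial.X : σ → MvPolynomial σ B)) ^ (n + 1),
      ∀ i, e (PP16.dn n A B (T i)) = Ideal.Quotient.mk _ (MvPolynomial.C (T i) + MvPolynomial.X i) := by
  let U := Ideal.span (Set.range (MvPolynomial.X : σ → MvPolynomial σ B))
  let K := U.map (Ideal.Quotient.mk (U ^ (n + 1)))
  have hK : K ^ (n + 1) = ⊥ := PP16Lib.map_mk_pow_eq_bot U (n + 1)
  have hC : ∀ b, algebraMap B (MvPolynomial σ B ⧸ U ^ (n + 1)) b =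
      Ideal.Quotient.mk (U ^ (n + 1)) (MvPolynomial.C b) := fun b => rfl
  have hf : ∀ b, f b - algebraMap B (MvPolynomial σ B ⧸ U ^ (n + 1)) b ∈ K := fun b =>
    Ideal.Quotient.eq.mp (DFunLike.congr_fun (show (Ideal.Quotient.mkₐ A K).comp f =
      (Ideal.Quotient.mkₐ A K).comp (IsScalarTower.toAlgHom A B _) from
        hext (R := (MvPolynomial σ B ⧸ U ^ (n + 1)) ⧸ K) fun i => by
          refine Ideal.Quotient.eq.mpr ?_
          show f (T i) - algebraMap B (MvPolynomial σ B ⧸ U ^ (n + 1)) (T i) ∈ K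
          rw [hfT, hC, ← map_sub, add_sub_cancel_left]
          exact Ideal.mem_map_of_mem _ (Ideal.subset_span ⟨i, rfl⟩)) b)
  let g₀ : MvPolynomial σ B →ₐ[B] PP16.P n A B := MvPolynomial.aeval fun i =>
    PP16.dn n A B (T i) - algebraMap B _ (T i)
  have hg : U ≤ (PP16.augIdeal n A B).comap g₀ := by
    rw [Ideal.span_le]
    rintro _ ⟨i, rfl⟩
    show g₀ (MvPolynomial.X i) ∈ PP16.augIdeal n A B
    rw [MvPolynomial.aeval_X]
    exact PP16Lib.dn_sub_mem_augIdeal _
  let G : MvPolynomial σ B ⧸ U ^ (n + 1) →ₐ[B] PP16.P n A B := Ideal.Quotient.liftₐ _ g₀ fun x hx => by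
    have := Ideal.le_comap_pow g₀ (n + 1) (Ideal.pow_right_mono hg (n + 1) hx)
    rw [Ideal.mem_comap, PP16Lib.augIdeal_pow, Ideal.mem_bot] at this
    exact this
  have hGmk : ∀ x, G (Ideal.Quotient.mk (U ^ (n + 1)) x) = g₀ x := fun x => rfl
  obtain ⟨e, he⟩ := PP16Lib.exists_algEquiv f K hK hf G
    (fun b => DFunLike.congr_fun (show (G.restrictScalars A).comp f = PP16.dn n A B from
      hext (R := PP16.P n A B) fun i => by
        rw [AlgHom.comp_apply, AlgHom.restrictScalars_apply, hfT, hGmk, map_add, MvPolynomial.aeval_C,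
          MvPolynomial.aeval_X, add_sub_cancel]) b)
    (Ideal.Quotient.algHom_ext B (MvPolynomial.algHom_ext fun i => by
      simp only [AlgHom.comp_apply, AlgHom.id_apply, Ideal.Quotient.mkₐ_eq_mk]
      rw [hGmk, MvPolynomial.aeval_X, map_sub, PP16Lib.lift_dn, AlgHom.commutes, hfT, hC, ← map_sub,
        add_sub_cancel_left]))
  exact ⟨e, fun i => (he _).trans (hfT i)⟩

/-- Let B = A[T_i] be a polynomial algebra. There is an isomorphism of B-algebras from P^n_{B/A} onto
B[U_i]/(U)^(n+1), where (U) is the ideal generated by the new indeterminates, sending the principal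
part d^n T_i to the class of T_i + U_i for every i (so d^n F(T) goes to the class of F(T + U)). -/
theorem result (n : ℕ) (A : Type u) [CommRing A] (σ : Type u) :
    ∃ e : PP16.P n A (MvPolynomial σ A) ≃ₐ[MvPolynomial σ A]
        (MvPolynomial σ (MvPolynomial σ A) ⧸
          Ideal.span (Set.range (MvPolynomial.X : σ → MvPolynomial σ (MvPolynomial σ A))) ^ (n + 1)),
      ∀ i : σ, e (PP16.dn n A (MvPolynomial σ A) (MvPolynomial.X i)) =
        Ideal.Quotient.mk _ (MvPolynomial.C (MvPolynomial.X i : MvPolynomial σ A) +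
          (MvPolynomial.X i : MvPolynomial σ (MvPolynomial σ A))) := by
  exact core (fun i => (MvPolynomial.X i : MvPolynomial σ A))
    (fun h => MvPolynomial.algHom_ext h)
    (MvPolynomial.aeval fun i => Ideal.Quotient.mk _
      (MvPolynomial.C (MvPolynomial.X i : MvPolynomial σ A) + MvPolynomial.X i))
    (fun i => MvPolynomial.aeval_X _ i)

end Groth.Agent.S3812
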