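import Groth.Statements.S3813
import Groth.Agent.PP16Lib.Basic

set_option autoImplicit false
universe u
open scoped TensorProduct
open PP16

namespace Groth.Agent.S3813

theorem core {n : ℕ} {A B E : Type u} [CommRing A] [CommRing B] [Algebra A B] (ι : E → B)
    (hext : ∀ {R : Type u} [CommRing R] [Algebra A R] {φ ψ : B →ₐ[A] R},
      (∀ t, φ (ι t) = ψ (ι t)) → φ = ψ)
    (g : B →ₐ[A] A) (K : Ideal B) (hK : K = RingHom.ker g) (hι : ∀ t, g (ι t) = 0)
    (f : B →ₐ[A] B ⊗[A] (B ⧸ K ^ (n + 1)))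
    (hfι : ∀ t, f (ι t) = ι t ⊗ₜ 1 + 1 ⊗ₜ Ideal.Quotient.mk _ (ι t))
    (h : B →ₐ[A] PP16.P n A B)
    (hhι : ∀ t, h (ι t) = PP16.dn n A B (ι t) - algebraMap B _ (ι t)) :
    ∃ e : PP16.P n A B ≃ₐ[B] B ⊗[A] (B ⧸ K ^ (n + 1)),
      ∀ t, e (PP16.dn n A B (ι t)) = ι t ⊗ₜ 1 + 1 ⊗ₜ Ideal.Quotient.mk _ (ι t) := by
  let ν : B ⧸ K ^ (n + 1) →ₐ[A] B ⊗[A] (B ⧸ K ^ (n + 1)) := Algebra.TensorProduct.includeRight
  let J := (K.map (Ideal.Quotient.mk (K ^ (n + 1)))).map ν
  have hJ : J ^ (n + 1) = ⊥ := PP16Lib.map_pow_eq_bot ν (PP16Lib.map_mk_pow_eq_bot K (n + 1))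
  have hf : ∀ b, f b - algebraMap B _ b ∈ J := fun b =>
    Ideal.Quotient.eq.mp (DFunLike.congr_fun (show (Ideal.Quotient.mkₐ A J).comp f =
      (Ideal.Quotient.mkₐ A J).comp (IsScalarTower.toAlgHom A B _) from hext (R := (B ⊗[A] (B ⧸ K ^ (n + 1))) ⧸ J) fun t => by
        refine Ideal.Quotient.eq.mpr ?_
        show f (ι t) - ι t ⊗ₜ 1 ∈ J
        rw [hfι, add_sub_cancel_left]
        exact Ideal.mem_map_of_mem ν (Ideal.mem_map_of_mem _ (hK ▸ hι t))) b)
  have hKA : K ≤ (PP16.augIdeal n A B).comap h := fun k hk => by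
    have := Ideal.Quotient.eq.mp (DFunLike.congr_fun
      (show (Ideal.Quotient.mkₐ A (PP16.augIdeal n A B)).comp h =
        (Ideal.Quotient.mkₐ A (PP16.augIdeal n A B)).comp ((Algebra.ofId A (PP16.P n A B)).comp g) from
      hext (R := PP16.P n A B ⧸ PP16.augIdeal n A B) fun t => by
        refine Ideal.Quotient.eq.mpr ?_
        show h (ι t) - Algebra.ofId A (PP16.P n A B) (g (ι t)) ∈ _
        rw [hι, map_zero, sub_zero, hhι]
        exact PP16Lib.dn_sub_mem_augIdeal _) k)
    subst hK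
    have hk0 : g k = 0 := hk
    change h k - Algebra.ofId A _ (g k) ∈ _ at this
    rwa [hk0, map_zero, sub_zero] at this
  let hq : B ⧸ K ^ (n + 1) →ₐ[A] PP16.P n A B := Ideal.Quotient.liftₐ _ h fun x hx => by
    have := Ideal.le_comap_pow h (n + 1) (Ideal.pow_right_mono hKA (n + 1) hx)
    rw [Ideal.mem_comap, PP16Lib.augIdeal_pow, Ideal.mem_bot] at this
    exact this
  let G : B ⊗[A] (B ⧸ K ^ (n + 1)) →ₐ[B] PP16.P n A B :=
    Algebra.TensorProduct.lift (Algebra.ofId B _) hq fun _ _ => Commute.all _ _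
  obtain ⟨e, he⟩ := PP16Lib.exists_algEquiv f J hJ hf G
    (fun b => DFunLike.congr_fun (show (G.restrictScalars A).comp f = PP16.dn n A B from
      hext (R := PP16.P n A B) fun t => by
        simp only [AlgHom.comp_apply, AlgHom.restrictScalars_apply, hfι, map_add, G,
          Algebra.TensorProduct.lift_tmul, map_one, mul_one, one_mul]
        show algebraMap B _ _ + h _ = _
        rw [hhι, add_sub_cancel]) b)
    (Algebra.TensorProduct.ext (Subsingleton.elim _ _) (Ideal.Quotient.algHom_ext A (hext (R := B ⊗[A] (B ⧸ K ^ (n + 1))) fun t => by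
      simp only [AlgHom.comp_apply, AlgHom.restrictScalars_apply,
        Algebra.TensorProduct.includeRight_apply, Ideal.Quotient.mkₐ_eq_mk, AlgHom.id_apply, G,
        Algebra.TensorProduct.lift_tmul, map_one, one_mul]
      show PP16Lib.lift f J hJ hf (h _) = _
      rw [hhι, map_sub, PP16Lib.lift_dn, AlgHom.commutes, hfι,
        Algebra.TensorProduct.algebraMap_apply, Algebra.algebraMap_self_apply, add_sub_cancel_left])))
  exact ⟨e, fun t => (he _).trans (hfι t)⟩

/-- Let E be an A-module, B = Sym_A(E) its symmetric algebra and K the augmentation ideal of B (the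
kernel of the A-algebra map B → A killing E). For every n there is an isomorphism of B-algebras from
P^n_{B/A} onto B ⊗_A (B/K^(n+1)) sending the principal part d^n t of an element t of E to t ⊗ 1 + 1
⊗ (class of t). -/
theorem result (n : ℕ) (A : Type u) [CommRing A] (E : Type u) [AddCommGroup E]
    [Module A E] :
    ∃ e : PP16.P n A (SymmetricAlgebra A E) ≃ₐ[SymmetricAlgebra A E]
        (SymmetricAlgebra A E ⊗[A] (SymmetricAlgebra A E ⧸
          RingHom.ker (SymmetricAlgebra.lift (0 : E →ₗ[A] A)) ^ (n + 1))),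
      ∀ t : E, e (PP16.dn n A (SymmetricAlgebra A E) (SymmetricAlgebra.ι A E t)) =
        SymmetricAlgebra.ι A E t ⊗ₜ 1 + 1 ⊗ₜ Ideal.Quotient.mk _ (SymmetricAlgebra.ι A E t) := by
  exact core (fun t => SymmetricAlgebra.ι A E t)
    (fun h => SymmetricAlgebra.algHom_ext (LinearMap.ext h))
    (SymmetricAlgebra.lift (0 : E →ₗ[A] A)) _ rfl (fun t => SymmetricAlgebra.lift_ι_apply _ t)
    (SymmetricAlgebra.lift
      ((Algebra.TensorProduct.includeLeft (R := A) (S := A) (A := SymmetricAlgebra A E)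
        (B := SymmetricAlgebra A E ⧸ RingHom.ker (SymmetricAlgebra.lift (0 : E →ₗ[A] A)) ^ (n + 1))).toLinearMap.comp
          (SymmetricAlgebra.ι A E) +
        ((Algebra.TensorProduct.includeRight (R := A) (A := SymmetricAlgebra A E)).comp
          (Ideal.Quotient.mkₐ A _)).toLinearMap.comp (SymmetricAlgebra.ι A E)))
    (fun t => SymmetricAlgebra.lift_ι_apply _ t)
    (SymmetricAlgebra.lift
      ((PP16.dn n A (SymmetricAlgebra A E)).toLinearMap.comp (SymmetricAlgebra.ι A E) -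
        (IsScalarTower.toAlgHom A (SymmetricAlgebra A E) _).toLinearMap.comp (SymmetricAlgebra.ι A E)))
    (fun t => SymmetricAlgebra.lift_ι_apply _ t)

end Groth.Agent.S3813
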