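import Groth.Statements.S5002
import Groth.Agent.PP16Lib.Basic
import Mathlib.RingTheory.IntegralClosure.IsIntegralClosure.Basic
import Mathlib.RingTheory.RingHom.FiniteType

set_option autoImplicit false
universe u
open PP16

namespace Groth.Agent.S5002

/-- Suppose A is a commutative ring and B is a finite-type A-algebra. For each n, the ring of principal
parts of order n of B over A is then finitely generated as a B-module, where B acts via the first
factor. -/
theorem result (n : ℕ) (A B : Type u) [CommRing A] [CommRing B] [Algebra A B]
    [Algebra.FiniteType A B] : Module.Finite B (PP16.P n A B) := by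
  have : Algebra.IsIntegral B (PP16.P n A B) := ⟨fun x => by
    have hx : x ∈ Submodule.span B (Set.range (PP16.dn n A B)) := by
      rw [PP16Lib.span_range_dn]; trivial
    induction hx using Submodule.span_induction with
    | mem x hx =>
      obtain ⟨b, rfl⟩ := hx
      obtain ⟨m, hm⟩ := PP16Lib.isNilpotent_of_mem_augIdeal
        (PP16Lib.dn_sub_mem_augIdeal (n := n) (A := A) b)
      refine ⟨(Polynomial.X - Polynomial.C b) ^ m, (Polynomial.monic_X_sub_C b).pow m, ?_⟩
      rw [Polynomial.eval₂_pow, Polynomial.eval₂_sub, Polynomial.eval₂_X, Polynomial.eval₂_C, hm]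
    | zero => exact isIntegral_zero
    | add x y _ _ hx hy => exact hx.add hy
    | smul c x _ hx => exact hx.smul c⟩
  exact Algebra.IsIntegral.finite

end Groth.Agent.S5002
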