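import Groth.Statements.S3815
import Groth.Agent.PP16Lib.Basic
import Groth.Agent.DiffOp.Basic

set_option autoImplicit false
set_option linter.unusedSectionVars false
universe u
open scoped TensorProduct
open scoped BigOperators
open PP16

namespace Groth.Agent.S3815

variable (n : ℕ) {A B : Type u} [CommRing A] [CommRing B] [Algebra A B]
  {M N : Type u} [AddCommGroup M] [Module A M] [Module B M] [IsScalarTower A B M]
  [AddCommGroup N] [Module A N] [Module B N] [IsScalarTower A B N]

/-- The class of an element of `B ⊗ B` in the synonym `Pr`. -/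
noncomputable def mkr (y : B ⊗[A] B) : Pr n A B := PP16Lib.mkP n A B y

theorem tmul_eq (b c : B) (m : M) :
    mkr n (b ⊗ₜ[A] c) ⊗ₜ[B] m = algebraMap B (P n A B) b • dM n A B M (c • m) := by
  show _ = algebraMap B (P n A B) b • ((1 : Pr n A B) ⊗ₜ[B] (c • m))
  rw [← TensorProduct.smul_tmul, TensorProduct.smul_tmul']
  congr 1
  show PP16Lib.mkP n A B (b ⊗ₜ[A] c) =
    algebraMap B (P n A B) b * (dn n A B c * (1 : P n A B))
  rw [mul_one, PP16Lib.mkP_tmul]

theorem eq_phi (D : M →ₗ[A] N) (u : PM n A B M →+ N)
    (h1 : ∀ (b : B) (t : PM n A B M), u (algebraMap B (P n A B) b • t) = b • u t)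
    (h2 : ∀ m : M, u (dM n A B M m) = D m) (y : B ⊗[A] B) (m : M) :
    u (mkr n y ⊗ₜ[B] m) = DiffOp.phi D m y := by
  induction y using TensorProduct.induction_on with
  | zero => simp [mkr, show ((0 : P n A B) : Pr n A B) = (0 : Pr n A B) from rfl]
  | tmul b c => rw [tmul_eq, h1, h2, DiffOp.phi_tmul]
  | add x y hx hy =>
    rw [show mkr n (x + y) = mkr n x + mkr n y from map_add (PP16Lib.mkP n A B) x y,
      TensorProduct.add_tmul, map_add, map_add, hx, hy]

theorem phi_add (D : M →ₗ[A] N) (m m' : M) (y : B ⊗[A] B) :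
    DiffOp.phi D (m + m') y = DiffOp.phi D m y + DiffOp.phi D m' y := by
  induction y using TensorProduct.induction_on with
  | zero => simp
  | tmul b c => simp [smul_add]
  | add x y hx hy => simp only [map_add, hx, hy]; abel

/-- Let B be an A-algebra, M and N two B-modules and D : M → N an A-linear map. Let P^n(M) = P^n_{B/A}
⊗_B M, the tensor product formed with the B-module structure of P^n_{B/A} through d^n, regarded as a
B-module through the first factor of P^n_{B/A}, with d^n_M : M → P^n(M), m ↦ 1 ⊗ m. Then D is a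
differential operator of order at most n relative to A (order defined through iterated commutators
with multiplication by elements of B) if and only if there is exactly one additive map u : P^n(M) →
N which is B-linear for the first-factor structure and satisfies u(1 ⊗ m) = D(m) for all m ∈ M. -/
theorem result (n : ℕ) (A B : Type u) [CommRing A] [CommRing B] [Algebra A B]
    (M N : Type u) [AddCommGroup M] [Module A M] [Module B M] [IsScalarTower A B M]
    [AddCommGroup N] [Module A N] [Module B N] [IsScalarTower A B N] (D : M →ₗ[A] N) :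
    Diff16.IsDiffOpLE A B M N n D ↔
      ∃! u : PP16.PM n A B M →+ N,
        (∀ (b : B) (t : PP16.PM n A B M), u (algebraMap B (PP16.P n A B) b • t) = b • u t) ∧
          ∀ m : M, u (PP16.dM n A B M m) = D m := by
  rw [DiffOp.le_iff_pow]
  constructor
  · intro h
    let φ : M → (P n A B →+ N) := fun m =>
      QuotientAddGroup.lift _ (DiffOp.phi D m).toAddMonoidHom fun y hy => DiffOp.mem_annIdeal.mp (h hy) m
    have hφ : ∀ m y, φ m (PP16Lib.mkP n A B y) = DiffOp.phi D m y := fun m y => rfl
    let f : Pr n A B →+ M →+ N :=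
      AddMonoidHom.mk' (fun x => AddMonoidHom.mk' (fun m => φ m x) fun m m' => by
        obtain ⟨y, rfl⟩ : ∃ y, PP16Lib.mkP n A B y = x := Ideal.Quotient.mk_surjective x
        simp only [hφ, phi_add]) fun x x' => AddMonoidHom.ext fun m => map_add (φ m) x x'
    let u : PM n A B M →+ N := TensorProduct.liftAddHom f fun r x m => by
      obtain ⟨y, rfl⟩ : ∃ y, PP16Lib.mkP n A B y = x := Ideal.Quotient.mk_surjective x
      show φ m (dn n A B r * PP16Lib.mkP n A B y) = φ (r • m) (PP16Lib.mkP n A B y)
      rw [PP16Lib.dn_apply, ← map_mul, hφ, hφ, DiffOp.phi_mul_tmul, one_smul]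
    have hu1 : ∀ (b : B) (t : PM n A B M), u (algebraMap B (P n A B) b • t) = b • u t := fun b t => by
      induction t using TensorProduct.induction_on with
      | zero => rw [smul_zero, map_zero, smul_zero]
      | add x y hx hy => rw [smul_add, map_add, map_add, hx, hy, smul_add]
      | tmul x m =>
        obtain ⟨y, rfl⟩ : ∃ y, PP16Lib.mkP n A B y = x := Ideal.Quotient.mk_surjective x
        rw [TensorProduct.smul_tmul']
        show φ m (algebraMap B (P n A B) b * PP16Lib.mkP n A B y) = b • φ m (PP16Lib.mkP n A B y)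
        rw [PP16Lib.algebraMap_apply, ← map_mul, hφ, hφ, DiffOp.phi_mul_tmul, one_smul]
    have hu2 : ∀ m, u (dM n A B M m) = D m := fun m => by
      show φ m (PP16Lib.mkP n A B (1 ⊗ₜ[A] 1)) = D m
      rw [hφ, DiffOp.phi_tmul, one_smul, one_smul]
    refine ⟨u, ⟨hu1, hu2⟩, fun u' hu' => AddMonoidHom.ext fun t => ?_⟩
    induction t using TensorProduct.induction_on with
    | zero => rw [map_zero, map_zero]
    | add x y hx hy => rw [map_add, map_add, hx, hy]
    | tmul x m =>
      obtain ⟨y, rfl⟩ : ∃ y, mkr n y = x := Ideal.Quotient.mk_surjective x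
      rw [eq_phi n D u hu1 hu2, eq_phi n D u' hu'.1 hu'.2]
  · rintro ⟨u, ⟨h1, h2⟩, -⟩ y hy
    refine DiffOp.mem_annIdeal.mpr fun m => ?_
    rw [← eq_phi n D u h1 h2, show mkr n y = 0 from Ideal.Quotient.eq_zero_iff_mem.mpr hy,
      TensorProduct.zero_tmul, map_zero]

end Groth.Agent.S3815
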