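import Groth.Statements.S3818
import Groth.Agent.PP16Lib.Graded

set_option autoImplicit false
universe u
open scoped TensorProduct
open scoped BigOperators
open PP16

namespace Groth.Agent.S3818

/-- Last assertion (affine form, finite family): let B be an A-algebra, z_1, …, z_r elements of B whose
differentials generate the module of differentials, and (D_p) a family of differential operators B →
B (each of some finite order) with D_p(z^q) = (∏ binom(q_i, p_i)) z^(q-p). Then D_p has order at
most |p|, and every differential operator B → B of order at most m relative to A can be written in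
exactly one way as a B-linear combination ∑_{|p| ≤ m} a_p D_p. -/
theorem result (A B : Type u) [CommRing A] [CommRing B] [Algebra A B]
    (ι : Type) [Fintype ι] [DecidableEq ι] (z : ι → B)
    (hz : Submodule.span B (Set.range fun i => KaehlerDifferential.D A B (z i)) = ⊤)
    (Dp : (ι → ℕ) → (B →ₗ[A] B)) (hD : ∀ p, ∃ k : ℕ, Diff16.IsDiffOpLE A B B B k (Dp p))
    (hDz : ∀ p q : ι → ℕ, Dp p (∏ i, z i ^ q i) =
        ((∏ i, Nat.choose (q i) (p i) : ℕ) : B) * ∏ i, z i ^ (q i - p i)) :
    (∀ p, Diff16.IsDiffOpLE A B B B (∑ i, p i) (Dp p)) ∧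
      ∀ (m : ℕ) (D : B →ₗ[A] B), Diff16.IsDiffOpLE A B B B m D →
        ∃! a : {p : ι → ℕ // ∑ i, p i ≤ m} →₀ B, D = a.sum fun p c => c • Dp p.1 := by
  have hB : ∀ p, PP16Lib.IsBinom z p 1 (Dp p) := fun p q => by rw [hDz p q, one_mul]
  refine ⟨PP16Lib.isDiffOpLE_ops z hz Dp hD hB, fun m D hDm => ?_⟩
  haveI := PP16Lib.finite_le (ι := ι) m
  haveI := Fintype.ofFinite {p : ι → ℕ // ∑ i, p i ≤ m}
  have happ : ∀ (a : {p : ι → ℕ // ∑ i, p i ≤ m} →₀ B) (t : B),
      (a.sum fun p c => c • Dp p.1) t = a.sum fun p c => c * Dp p.1 t := fun a t => by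
    simp [Finsupp.sum]
  have hphi : ∀ (a : {p : ι → ℕ // ∑ i, p i ≤ m} →₀ B) (x : B ⊗[A] B) (t : B),
      DiffOp.phi (a.sum fun p c => c • Dp p.1) t x = a.sum fun p c => c * DiffOp.phi (Dp p.1) t x := by
    intro a x t
    induction x using TensorProduct.induction_on with
    | zero => simp
    | tmul u v =>
      simp only [DiffOp.phi_tmul, happ, smul_eq_mul]
      rw [Finsupp.mul_sum]
      exact Finset.sum_congr rfl fun p _ => mul_left_comm _ _ _
    | add x y hx hy => simp only [map_add, hx, hy, mul_add, Finsupp.sum_add]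
  have hval : ∀ (a : {p : ι → ℕ // ∑ i, p i ≤ m} →₀ B) (q : {p : ι → ℕ // ∑ i, p i ≤ m}),
      DiffOp.phi (a.sum fun p c => c • Dp p.1) (1 : B) (PP16Lib.mon z q.1) = a q := by
    intro a q
    rw [hphi, Finsupp.sum_fintype _ _ (fun _ => zero_mul _)]
    simp only [(hB _).phi_mon, mul_ite, mul_one, mul_zero, Subtype.coe_inj]
    rw [Finset.sum_ite_eq' Finset.univ q, if_pos (Finset.mem_univ q)]
  let a : {p : ι → ℕ // ∑ i, p i ≤ m} →₀ B :=
    Finsupp.equivFunOnFinite.symm fun p => DiffOp.phi D (1 : B) (PP16Lib.mon z p.1)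
  refine ⟨a, ?_, fun a' ha' => Finsupp.ext fun q => ?_⟩
  · set E := a.sum fun p c => c • Dp p.1 with hE
    have hker : ∀ x : B ⊗[A] B, DiffOp.phi D (1 : B) x = DiffOp.phi E (1 : B) x := by
      intro x
      have key := PP16Lib.pow_le_of_mon_mem z hz
        (W := LinearMap.ker (PP16Lib.phiB D (1 : B) - PP16Lib.phiB E (1 : B))) (m := 0) (N := m) (by omega)
        (fun q _ hq => by
          rw [LinearMap.mem_ker, LinearMap.sub_apply, PP16Lib.phiB_apply, PP16Lib.phiB_apply, hE,
            hval a ⟨q, hq⟩, sub_eq_zero]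
          rfl)
        (fun y hy => by
          rw [LinearMap.mem_ker, LinearMap.sub_apply, LinearMap.mem_ker.mp (PP16Lib.pow_le_ker_phiB hDm le_rfl 1 hy),
            PP16Lib.phiB_apply, hE, hphi, Finsupp.sum, Finset.sum_eq_zero, sub_zero]
          intro p _
          rw [← PP16Lib.phiB_apply, PP16Lib.phiB_ops_eq_zero z hz Dp hD hB p.1 (Nat.lt_succ_of_le p.2) hy,
            mul_zero])
        (show x ∈ KaehlerDifferential.ideal A B ^ 0 by simp)
      exact sub_eq_zero.mp key
    refine LinearMap.ext fun t => ?_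
    have := hker (1 ⊗ₜ[A] t)
    simpa only [DiffOp.phi_tmul, smul_eq_mul, mul_one, one_mul] using this
  · show a' q = DiffOp.phi D (1 : B) (PP16Lib.mon z q.1)
    rw [ha', hval]

end Groth.Agent.S3818
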