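import Groth.Statements.S3819
import Groth.Agent.PP16Lib.Criterion
import Mathlib.RingTheory.Nilpotent.Exp
import Mathlib.RingTheory.Derivation.Basic

set_option autoImplicit false
universe u
open scoped TensorProduct
open PP16

namespace Groth.Agent.S3819

open MvPolynomial

variable {A B : Type u} [CommRing A] [CommRing B] [Algebra A B] {Λ : Type u}
  (i : KaehlerDifferential A B →ₗ[B] Λ →₀ B)

/-- The linear part. -/
noncomputable def L : B →ₗ[A] MvPolynomial Λ B :=
  ((PP16Lib.linForm B Λ).comp i).restrictScalars A ∘ₗ (KaehlerDifferential.D A B).toLinearMap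

theorem L_apply (b : B) : L i b = PP16Lib.linForm B Λ (i (KaehlerDifferential.D A B b)) := rfl

theorem L_mul (a b : B) : L i (a * b) = C a * L i b + C b * L i a := by
  simp only [L_apply, Derivation.leibniz, map_add, map_smul, smul_eq_C_mul]

theorem L_mem (b : B) : L i b ∈ idealOfVars Λ B := by
  rw [L_apply]
  induction i (KaehlerDifferential.D A B b) using Finsupp.induction_linear with
  | zero => simp
  | add x y hx hy => rw [map_add]; exact add_mem hx hy
  | single a c =>
    rw [PP16Lib.linForm, Finsupp.linearCombination_single, Algebra.smul_def]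
    exact Ideal.mul_mem_left _ _ (Ideal.subset_span ⟨a, rfl⟩)

/-- The derivation `b X^m ↦ X^m d b`. -/
noncomputable def Δ : MvPolynomial Λ B →ₗ[A] MvPolynomial Λ B :=
  (Finsupp.lsum A fun m => (LinearMap.mulLeft A (monomial m (1 : B))).comp (L i)).comp
    ((basisMonomials Λ B).repr.toLinearMap.restrictScalars A)

theorem Δ_monomial (m : Λ →₀ ℕ) (b : B) : Δ i (monomial m b) = monomial m 1 * L i b := by
  have e : (basisMonomials Λ B).repr (monomial m b) = Finsupp.single m b := by
    rw [show monomial m b = b • basisMonomials Λ B m by simp [smul_monomial], map_smul,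
      Module.Basis.repr_self, Finsupp.smul_single, smul_eq_mul, mul_one]
  simp only [Δ, LinearMap.comp_apply, LinearMap.coe_restrictScalars, LinearEquiv.coe_coe, e,
    Finsupp.lsum_single, LinearMap.mulLeft_apply]

theorem Δ_mul (x y : MvPolynomial Λ B) : Δ i (x * y) = x * Δ i y + Δ i x * y := by
  induction x using MvPolynomial.induction_on' with
  | monomial m a =>
    induction y using MvPolynomial.induction_on' with
    | monomial k b =>
      rw [monomial_mul, Δ_monomial, Δ_monomial, Δ_monomial, L_mul,
        show monomial (m + k) (1 : B) = monomial m 1 * monomial k 1 by rw [monomial_mul, one_mul],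
        show monomial m a = C a * monomial m 1 by rw [C_mul_monomial, mul_one],
        show monomial k b = C b * monomial k 1 by rw [C_mul_monomial, mul_one]]
      ring
    | add p q hp hq => rw [mul_add, map_add, hp, hq, map_add]; ring
  | add p q hp hq => rw [add_mul, map_add, hp, hq, map_add]; ring

theorem Δ_C (b : B) : Δ i (C b) = L i b := by
  rw [C_apply, Δ_monomial, show monomial (0 : Λ →₀ ℕ) (1 : B) = 1 from rfl, one_mul]

theorem Δ_mem_ideal (x : MvPolynomial Λ B) : Δ i x ∈ idealOfVars Λ B := by
  induction x using MvPolynomial.induction_on' with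
  | monomial m b => rw [Δ_monomial]; exact Ideal.mul_mem_left _ _ (L_mem i b)
  | add p q hp hq => rw [map_add]; exact add_mem hp hq

theorem Δ_mem (k : ℕ) : ∀ x ∈ idealOfVars Λ B ^ k, Δ i x ∈ idealOfVars Λ B ^ (k + 1) := by
  induction k with
  | zero =>
    intro x _
    rw [zero_add, pow_one]
    exact Δ_mem_ideal i x
  | succ k ih =>
    intro x hx
    rw [pow_succ] at hx
    refine Submodule.mul_induction_on hx (fun r hr s hs => ?_) fun x y hx hy => by
      rw [map_add]; exact add_mem hx hy
    rw [Δ_mul, pow_succ _ (k + 1)]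
    refine add_mem ?_ (Ideal.mul_mem_mul (ih r hr) hs)
    have h2 : Δ i s ∈ idealOfVars Λ B ^ 2 := by
      refine Submodule.span_induction ?_ ?_ ?_ ?_ hs
      · rintro _ ⟨a, rfl⟩
        rw [X, Δ_monomial, show L i (1 : B) = 0 by rw [L_apply]; simp, mul_zero]
        exact zero_mem _
      · simp
      · intro a b _ _ ha hb; rw [map_add]; exact add_mem ha hb
      · intro c a ha' ha
        rw [smul_eq_mul, Δ_mul]
        refine add_mem (Ideal.mul_mem_left _ _ ha) ?_
        rw [pow_two]
        exact Ideal.mul_mem_mul (Δ_mem_ideal i c) ha'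
    have := Ideal.mul_mem_mul hr h2
    rwa [← pow_add, pow_add _ k 2, pow_two, ← mul_assoc, ← pow_succ, ← pow_succ] at this

theorem exists_taylor [Algebra ℚ B] (n : ℕ) :
    ∃ f : B →ₐ[A] MvPolynomial Λ B ⧸ idealOfVars Λ B ^ (n + 1), ∀ b,
      f b - algebraMap B _ b - Ideal.Quotient.mk _ (L i b) ∈
        ((idealOfVars Λ B).map (Ideal.Quotient.mk (idealOfVars Λ B ^ (n + 1)))) ^ 2 := by
  set J := idealOfVars Λ B with hJ
  set W := (J ^ (n + 1)).restrictScalars A with hW
  have hker : W ≤ W.comap (Δ i) := fun x hx =>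
    (Ideal.pow_le_pow_right (Nat.le_succ _) (Δ_mem i _ x hx) : Δ i x ∈ J ^ (n + 1))
  let D : Module.End A (MvPolynomial Λ B ⧸ J ^ (n + 1)) := W.mapQ W (Δ i) hker
  have hD : ∀ x, D (Ideal.Quotient.mk _ x) = Ideal.Quotient.mk _ (Δ i x) := fun x => rfl
  have hder : ∀ x y, D (x * y) = x * D y + D x * y := fun x y => by
    obtain ⟨x, rfl⟩ := Ideal.Quotient.mk_surjective x
    obtain ⟨y, rfl⟩ := Ideal.Quotient.mk_surjective y
    rw [← map_mul, hD, hD, hD, Δ_mul, map_add, map_mul, map_mul]
  have hpow : ∀ k x, (D ^ k) x ∈ (J.map (Ideal.Quotient.mk (J ^ (n + 1)))) ^ k := fun k => by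
    induction k with
    | zero => simp
    | succ k ih =>
      intro x
      rw [pow_succ' D, Module.End.mul_apply]
      have := ih x
      rw [← Ideal.map_pow, Ideal.mem_map_iff_of_surjective _ Ideal.Quotient.mk_surjective] at this
      obtain ⟨y, hy, e⟩ := this
      rw [← e, hD, ← Ideal.map_pow]
      exact Ideal.mem_map_of_mem _ (Δ_mem i k y hy)
  have hnilk : D ^ (n + 2) = 0 := LinearMap.ext fun x => by
    have := Ideal.pow_le_pow_right (Nat.le_succ (n + 1)) (hpow (n + 2) x)
    rwa [PP16Lib.map_mk_pow_eq_bot, Ideal.mem_bot] at this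
  haveI : SMulCommClass ℚ A (MvPolynomial Λ B ⧸ J ^ (n + 1)) :=
    ⟨fun r a x => (map_rat_smul (DistribSMul.toAddMonoidHom _ a) r x).symm⟩
  haveI : SMulCommClass A ℚ (MvPolynomial Λ B ⧸ J ^ (n + 1)) := SMulCommClass.symm _ _ _
  have hexp : ∀ x, IsNilpotent.exp D x =
      ∑ k ∈ Finset.range (n + 2), (k.factorial : ℚ)⁻¹ • (D ^ k) x := fun x => by
    rw [IsNilpotent.exp_eq_sum hnilk, LinearMap.sum_apply]
    rfl
  let φ : B →ₗ[A] MvPolynomial Λ B ⧸ J ^ (n + 1) :=
    (IsNilpotent.exp D) ∘ₗ (IsScalarTower.toAlgHom A B _).toLinearMap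
  have h1 : φ 1 = 1 := by
    show IsNilpotent.exp D (algebraMap B _ 1) = 1
    rw [map_one, hexp, Finset.sum_range_succ', Finset.sum_eq_zero, zero_add]
    · simp
    · intro k _
      rw [pow_succ D, Module.End.mul_apply, show (1 : MvPolynomial Λ B ⧸ J ^ (n + 1)) = Ideal.Quotient.mk _ (C 1) by
        rw [map_one, map_one], hD, Δ_C, L_apply, Derivation.map_one_eq_zero, map_zero, map_zero, map_zero,
        map_zero, smul_zero]
  refine ⟨AlgHom.ofLinearMap φ h1 fun a b => ?_, fun b => ?_⟩
  · show IsNilpotent.exp D (algebraMap B _ (a * b)) = _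
    rw [map_mul, Module.End.exp_mul_of_derivation A _ D hder ⟨n + 2, hnilk⟩]
    rfl
  · show IsNilpotent.exp D (algebraMap B _ b) - _ - _ ∈ _
    rw [hexp, Finset.sum_range_succ', Finset.sum_range_succ']
    have e0 : (algebraMap B (MvPolynomial Λ B ⧸ J ^ (n + 1)) b) = Ideal.Quotient.mk _ (C b) := rfl
    simp only [zero_add, pow_zero, pow_one, Nat.factorial_zero, Nat.factorial_one, Nat.cast_one, inv_one,
      one_smul, Module.End.one_apply]
    rw [e0, hD, Δ_C]
    rw [add_sub_cancel_right, add_sub_cancel_right]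
    refine sum_mem fun k _ => ?_
    exact Submodule.smul_of_tower_mem _ _ (Ideal.pow_le_pow_right (by omega) (hpow _ _))

/-- Let B be an A-algebra containing the rational numbers (a scheme of characteristic 0) whose module of
differentials over A is a free B-module, of any rank. Then B is differentially smooth over A. -/
theorem result (A B : Type u) [CommRing A] [CommRing B] [Algebra A B] [Algebra ℚ B]
    (hΩ : Module.Free B (KaehlerDifferential A B)) : PP16.IsDiffSmooth A B := by
  refine (PP16Lib.isDiffSmooth_iff A B).mpr ⟨Module.Projective.of_free, fun κ _ => ?_⟩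
  haveI : Module.Projective B (KaehlerDifferential A B) := Module.Projective.of_free
  obtain ⟨Λ, i, r, hr⟩ := PP16Lib.exists_split B (KaehlerDifferential A B)
  obtain ⟨f, hf⟩ := exists_taylor i (Fintype.card κ)
  exact PP16Lib.injective_canon_of_taylor κ i r hr f hf

end Groth.Agent.S3819
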