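import Groth.Statements.S3820
import Groth.Agent.PP16Lib.Criterion
import Mathlib.RingTheory.Smooth.Basic

set_option autoImplicit false
universe u
open scoped TensorProduct
open PP16

namespace Groth.Agent.S3820

/-- Let B be an A-algebra which is formally smooth (for the discrete topologies). Then Spec B is
differentially smooth over Spec A: the module of differentials is projective and the canonical
surjections Sym^n(Ω_{B/A}) → I^n/I^(n+1) are bijective for all n. -/
theorem result (A B : Type u) [CommRing A] [CommRing B] [Algebra A B]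
    [Algebra.FormallySmooth A B] : PP16.IsDiffSmooth A B := by
  refine (PP16Lib.isDiffSmooth_iff A B).mpr ⟨inferInstance, fun κ _ => ?_⟩
  obtain ⟨Λ, i, r, hr⟩ := PP16Lib.exists_split B (KaehlerDifferential A B)
  set J := MvPolynomial.idealOfVars Λ B with hJ
  set n := Fintype.card κ with hn
  set L : B → MvPolynomial Λ B := fun b => PP16Lib.linForm B Λ (i (KaehlerDifferential.D A B b)) with hL
  have hLJ : ∀ b, L b ∈ J := fun b => by
    show PP16Lib.linForm B Λ _ ∈ J
    induction i (KaehlerDifferential.D A B b) using Finsupp.induction_linear with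
    | zero => simp
    | add x y hx hy => rw [map_add]; exact add_mem hx hy
    | single a c =>
      rw [PP16Lib.linForm, Finsupp.linearCombination_single, Algebra.smul_def]
      exact Ideal.mul_mem_left _ _ (Ideal.subset_span ⟨a, rfl⟩)
  let J' : Ideal (MvPolynomial Λ B) := J ^ 2 ⊔ J ^ (n + 1)
  let q : MvPolynomial Λ B →ₐ[A] MvPolynomial Λ B ⧸ J' := Ideal.Quotient.mkₐ A J'
  let f1 : B →ₐ[A] MvPolynomial Λ B ⧸ J' :=
    AlgHom.ofLinearMap
      { toFun := fun b => q (MvPolynomial.C b + L b)
        map_add' := fun a b => by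
          simp only [hL, map_add]
          abel
        map_smul' := fun a b => by
          have e : L (a • b) = a • L b := by
            simp only [hL]
            rw [Derivation.map_smul, ← algebraMap_smul B a (KaehlerDifferential.D A B b), map_smul, map_smul,
              algebraMap_smul]
          show q (MvPolynomial.C (a • b) + L (a • b)) = a • q (MvPolynomial.C b + L b)
          rw [e, ← map_smul q, smul_add, ← MvPolynomial.algebraMap_eq,
            Algebra.smul_def a b, map_mul, ← IsScalarTower.algebraMap_apply, ← Algebra.smul_def] }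
      (by simp [hL, q]) fun a b => by
        simp only [LinearMap.coe_mk, AddHom.coe_mk, ← map_mul]
        refine Ideal.Quotient.eq.mpr (Ideal.mem_sup_left ?_)
        simp only [hL, Derivation.leibniz, map_add, map_smul, MvPolynomial.smul_eq_C_mul, map_mul]
        convert (J ^ 2).neg_mem (Ideal.mul_mem_mul (hLJ a) (hLJ b) |> fun h => (pow_two J).symm ▸ h) using 1
        simp only [hL]
        ring
  let π : (MvPolynomial Λ B ⧸ J ^ (n + 1)) →ₐ[A] MvPolynomial Λ B ⧸ J' :=
    Ideal.Quotient.liftₐ _ q fun x hx => Ideal.Quotient.eq_zero_iff_mem.mpr (Ideal.mem_sup_right hx)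
  have hπs : Function.Surjective π := fun y => by
    obtain ⟨x, rfl⟩ := Ideal.Quotient.mk_surjective y
    exact ⟨Ideal.Quotient.mk _ x, rfl⟩
  have hπk : ∀ x, π x = 0 → x ∈ (J ^ 2 ⊔ J ^ (n + 1)).map (Ideal.Quotient.mk (J ^ (n + 1))) := fun x hx => by
    obtain ⟨x, rfl⟩ := Ideal.Quotient.mk_surjective x
    exact Ideal.mem_map_of_mem _ (Ideal.Quotient.eq_zero_iff_mem.mp hx)
  have hnil : IsNilpotent (RingHom.ker π.toRingHom) := by
    refine ⟨n + 1, ?_⟩
    rw [Ideal.zero_eq_bot, eq_bot_iff]
    refine (Ideal.pow_right_mono (fun x hx => Ideal.map_mono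
      (sup_le (Ideal.pow_le_self two_ne_zero) (Ideal.pow_le_self (Nat.succ_ne_zero n))) (hπk x hx)) _).trans ?_
    rw [PP16Lib.map_mk_pow_eq_bot]
  let f := Algebra.FormallySmooth.liftOfSurjective f1 π hπs hnil
  refine PP16Lib.injective_canon_of_taylor κ i r hr f fun b => ?_
  have h := Algebra.FormallySmooth.liftOfSurjective_apply f1 π hπs hnil b
  have h0 : π (f b - algebraMap B _ b - Ideal.Quotient.mk _ (L b)) = 0 := by
    rw [map_sub, map_sub, h]
    show q (MvPolynomial.C b + L b) - q (MvPolynomial.C b) - q (L b) = 0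
    rw [map_add]
    abel
  refine (Ideal.map_sup (f := Ideal.Quotient.mk (J ^ (n + 1))) (J ^ 2) (J ^ (n + 1)) ▸ hπk _ h0 :) |> fun h2 => ?_
  rwa [Ideal.map_quotient_self, sup_bot_eq, Ideal.map_pow] at h2

end Groth.Agent.S3820
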