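import Groth.Statements.S3821
import Groth.Agent.PP16Lib.Split
import Groth.Agent.PP16Lib.Criterion
import Groth.Agent.S3806
import Mathlib.RingTheory.Kaehler.TensorProduct
import Mathlib.LinearAlgebra.DirectSum.Finsupp
import Mathlib.RingTheory.TensorProduct.Free

set_option autoImplicit false
universe u
open scoped TensorProduct
open PP16

namespace Groth.Agent.S3821

theorem linForm_mapRange {B B' : Type u} [CommRing B] [CommRing B'] [Algebra B B'] {Λ : Type u} (x : Λ →₀ B) :
    PP16Lib.linForm B' Λ (x.mapRange (algebraMap B B') (map_zero _)) =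
      MvPolynomial.map (algebraMap B B') (PP16Lib.linForm B Λ x) := by
  induction x using Finsupp.induction_linear with
  | zero => simp
  | add x y hx hy => rw [Finsupp.mapRange_add (fun a b => map_add _ a b), map_add, map_add, map_add, hx, hy]
  | single a c =>
    rw [Finsupp.mapRange_single, PP16Lib.linForm, PP16Lib.linForm, Finsupp.linearCombination_single,
      Finsupp.linearCombination_single, MvPolynomial.smul_eq_C_mul, MvPolynomial.smul_eq_C_mul, map_mul,
      MvPolynomial.map_C, MvPolynomial.map_X]

theorem injective_baseChange (A B A' B' : Type u) [CommRing A] [CommRing B] [Algebra A B]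
    [CommRing A'] [CommRing B'] [Algebra A' B'] [Algebra A A'] [Algebra B B'] [Algebra A B']
    [IsScalarTower A A' B'] [IsScalarTower A B B'] [Algebra.IsPushout A B A' B']
    (h : PP16.IsDiffSmooth A B) (κ : Type u) [Fintype κ] :
    Function.Injective (PP16Lib.canon A' B' κ) := by
  classical
  obtain ⟨hP, hinj⟩ := (PP16Lib.isDiffSmooth_iff A B).mp h
  haveI : Algebra.IsPushout A A' B B' := Algebra.IsPushout.symm inferInstance
  obtain ⟨Λ, i, r, hr⟩ := PP16Lib.exists_split B (KaehlerDifferential A B)
  let e := KaehlerDifferential.tensorKaehlerEquiv A A' B B'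
  let φ := TensorProduct.finsuppScalarRight B B' B' Λ
  let i' : KaehlerDifferential A' B' →ₗ[B'] Λ →₀ B' :=
    φ.toLinearMap.comp ((i.baseChange B').comp e.symm.toLinearMap)
  let r' : (Λ →₀ B') →ₗ[B'] KaehlerDifferential A' B' :=
    e.toLinearMap.comp ((r.baseChange B').comp φ.symm.toLinearMap)
  have hr' : r'.comp i' = LinearMap.id := LinearMap.ext fun x => by
    simp only [i', r', LinearMap.comp_apply, LinearEquiv.coe_coe, LinearEquiv.symm_apply_apply,
      LinearMap.id_apply]
    rw [← LinearMap.comp_apply (r.baseChange B'), ← LinearMap.baseChange_comp, hr, LinearMap.baseChange_id,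
      LinearMap.id_apply, LinearEquiv.apply_symm_apply]
  have hi' : ∀ b : B, i' (KaehlerDifferential.D A' B' (algebraMap B B' b)) =
      (i (KaehlerDifferential.D A B b)).mapRange (algebraMap B B') (map_zero _) := fun b => by
    have h1 : e ((1 : B') ⊗ₜ[B] KaehlerDifferential.D A B b) =
        KaehlerDifferential.D A' B' (algebraMap B B' b) := by
      rw [KaehlerDifferential.tensorKaehlerEquiv_tmul_D, one_smul]
    rw [← h1]
    simp only [i', φ, LinearMap.comp_apply, LinearEquiv.coe_coe, LinearEquiv.symm_apply_apply,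
      LinearMap.baseChange_tmul]
    ext l
    rw [Finsupp.mapRange_apply, TensorProduct.finsuppScalarRight_apply_tmul_apply, Algebra.smul_def, mul_one]
  obtain ⟨ρ, hρ⟩ := PP16Lib.exists_retraction h (Fintype.card κ)
  let c := LinearEquiv.ofBijective (PP16Lib.canon A B κ) ⟨hinj κ, PP16Lib.canon_surjective A B κ⟩
  let J := MvPolynomial.idealOfVars Λ B' ^ (Fintype.card κ + 1)
  let mapL : MvPolynomial Λ B →ₗ[B] MvPolynomial Λ B' ⧸ J :=
    { toFun := fun p => Ideal.Quotient.mk J (MvPolynomial.map (algebraMap B B') p)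
      map_add' := fun p q => by rw [map_add, map_add]
      map_smul' := fun b p => by
        rw [RingHom.id_apply, MvPolynomial.smul_eq_C_mul, map_mul, MvPolynomial.map_C,
          ← MvPolynomial.smul_eq_C_mul, ← algebraMap_smul B' b (Ideal.Quotient.mk J _)]
        rfl }
  let R : PP16.P (Fintype.card κ) A B →ₗ[B] MvPolynomial Λ B' ⧸ J :=
    mapL.comp ((PP16Lib.toPoly B κ Λ).comp ((PP16Lib.symMap κ i).comp (c.symm.toLinearMap.comp ρ)))
  letI := PP16.mapAlgebra (Fintype.card κ) A B A' B'
  haveI := PP16.isScalarTower_mapAlgebra (Fintype.card κ) A B A' B'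
  have hbc := (Algebra.IsPushout.symm (S3806.result (Fintype.card κ) A B A' B')).out
  let R' : PP16.P (Fintype.card κ) A' B' →ₗ[B'] MvPolynomial Λ B' ⧸ J := hbc.lift R
  let Γ := R'.comp (PP16Lib.incl A' B' (Fintype.card κ))
  rw [← LinearMap.ker_eq_bot, LinearMap.ker_eq_bot']
  intro s hs
  have hspan : Submodule.span B' (Set.range fun b : B => KaehlerDifferential.D A' B' (algebraMap B B' b)) = ⊤ := by
    rw [eq_top_iff]
    rintro x -
    obtain ⟨y, rfl⟩ := e.surjective x
    induction y using TensorProduct.induction_on with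
    | zero => simp
    | add u v hu hv => rw [map_add]; exact add_mem hu hv
    | tmul b' w =>
      induction (KaehlerDifferential.span_range_derivation A B).ge (Submodule.mem_top (x := w)) using
        Submodule.span_induction with
      | mem w hw =>
        obtain ⟨b, rfl⟩ := hw
        rw [KaehlerDifferential.tensorKaehlerEquiv_tmul_D]
        exact Submodule.smul_mem _ _ (Submodule.subset_span ⟨b, rfl⟩)
      | zero => simp
      | add u v _ _ hu hv => rw [TensorProduct.tmul_add, map_add]; exact add_mem hu hv
      | smul a u _ hu =>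
        rw [← TensorProduct.smul_tmul, ← algebraMap_smul B' a b', smul_eq_mul, ← smul_eq_mul,
          ← TensorProduct.smul_tmul', map_smul]
        exact Submodule.smul_mem _ _ hu
  have key : Γ.comp (PP16Lib.canon A' B' κ) =
      (Ideal.Quotient.mkₐ B' J).toLinearMap.comp ((PP16Lib.toPoly B' κ Λ).comp (PP16Lib.symMap κ i')) := by
    refine LinearMap.ext_on (PP16Lib.span_tprod_of_span hspan) ?_
    rintro _ ⟨v, hv, rfl⟩
    choose b hb using hv
    rw [← funext hb]
    simp only [Γ, LinearMap.comp_apply]
    rw [PP16Lib.canon_tprod_D, PP16Lib.symMap_tprod, PP16Lib.toPoly_tprod]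
    have h2 : PP16Lib.incl A' B' (Fintype.card κ) (PP16.zetaProd A' B' fun j => algebraMap B B' (b j)) =
        PP16.map (Fintype.card κ) A B A' B' (PP16Lib.incl A B (Fintype.card κ) (PP16.zetaProd A B b)) := by
      show PP16Lib.mkP _ A' B' (∏ j, PP16Lib.dlt A' B' (algebraMap B B' (b j))) =
        PP16.map _ A B A' B' (Ideal.Quotient.mk _ (∏ j, PP16Lib.dlt A B (b j)))
      rw [PP16.map_mk, map_prod (PP16.tensorMap A B A' B')]
      simp only [PP16Lib.tensorMap_dlt]
    have h3 : R' (PP16.map (Fintype.card κ) A B A' B' (PP16Lib.incl A B _ (PP16.zetaProd A B b))) =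
        R (PP16Lib.incl A B _ (PP16.zetaProd A B b)) :=
      hbc.lift_eq R (PP16Lib.incl A B _ (PP16.zetaProd A B b))
    rw [h2, h3]
    have h4 : c.symm (ρ (PP16Lib.incl A B _ (PP16.zetaProd A B b))) =
        SymmetricPower.tprod B fun j => KaehlerDifferential.D A B (b j) := by
      rw [← LinearMap.comp_apply ρ, hρ, LinearMap.id_apply, LinearEquiv.symm_apply_eq]
      exact (PP16Lib.canon_tprod_D A B κ b).symm
    show mapL (PP16Lib.toPoly B κ Λ (PP16Lib.symMap κ i (c.symm (ρ _)))) = _
    rw [h4, PP16Lib.symMap_tprod, PP16Lib.toPoly_tprod]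
    show Ideal.Quotient.mk J (MvPolynomial.map (algebraMap B B') (∏ j, _)) = Ideal.Quotient.mk J _
    rw [map_prod (MvPolynomial.map (algebraMap B B'))]
    exact congrArg _ (Finset.prod_congr rfl fun j _ => by rw [hi', linForm_mapRange])
  have h' := LinearMap.congr_fun key s
  simp only [LinearMap.comp_apply, hs, map_zero] at h'
  have h0 := PP16Lib.toPoly_eq_zero_of_mem B' κ Λ (Ideal.Quotient.eq_zero_iff_mem.mp h'.symm)
  rw [← PP16Lib.symMap_symMap κ r' i' hr' s, h0, map_zero]

/-- Let B be an A-algebra, A → A' a ring map and B' = B ⊗_A A'. If B is differentially smooth over A,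
then B' is differentially smooth over A'. -/
theorem result (A B A' B' : Type u) [CommRing A] [CommRing B] [Algebra A B]
    [CommRing A'] [CommRing B'] [Algebra A' B'] [Algebra A A'] [Algebra B B'] [Algebra A B']
    [IsScalarTower A A' B'] [IsScalarTower A B B'] [Algebra.IsPushout A B A' B']
    (h : PP16.IsDiffSmooth A B) : PP16.IsDiffSmooth A' B' := by
  haveI : Algebra.IsPushout A A' B B' := Algebra.IsPushout.symm inferInstance
  obtain ⟨hP, hinj⟩ := (PP16Lib.isDiffSmooth_iff A B).mp h
  let e := KaehlerDifferential.tensorKaehlerEquiv A A' B B'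
  haveI : Module.Projective B' (KaehlerDifferential A' B') := Module.Projective.of_equiv e
  refine (PP16Lib.isDiffSmooth_iff A' B').mpr ⟨inferInstance, fun κ _ => ?_⟩
  exact injective_baseChange A B A' B' h κ

end Groth.Agent.S3821
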