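import Groth.Statements.S3823
import Groth.Agent.S3826
import Groth.Agent.PP16Lib.Sym
import Groth.Agent.PP16Lib.AdicSmooth
-- import your own Groth.Agent.* helpers here

set_option autoImplicit false
universe u
open scoped TensorProduct
open PP16

namespace Groth.Agent.S3823

open Groth.Agent.PP16Lib

section diag

variable (A B : Type u) [CommRing A] [CommRing B] [Algebra A B]

local notation "T" => B ⊗[A] B
local notation "II" => KaehlerDifferential.ideal A B

theorem sub_lmul_mem (t : T) : t - (Algebra.TensorProduct.lmul' A t : B) ⊗ₜ[A] (1 : B) ∈ II := by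
  rw [KaehlerDifferential.ideal, RingHom.mem_ker, map_sub]
  simp

theorem smul_cotangent (t : T) (w : (II).Cotangent) :
    t • w = (Algebra.TensorProduct.lmul' A t : B) • w := by
  rw [quotient_smul_cotangent_eq II (sub_lmul_mem A B t) w]
  exact algebraMap_smul T (Algebra.TensorProduct.lmul' A t : B) w

/-- `B = (B ⊗ B)/I`. -/
noncomputable def diagEquiv : B ≃+* T ⧸ II :=
  RingEquiv.ofRingHom ((Ideal.Quotient.mk II).comp Algebra.TensorProduct.includeLeftRingHom)
    (Ideal.Quotient.lift II (Algebra.TensorProduct.lmul' A : T →ₐ[A] B).toRingHom fun _ h => h)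
    (Ideal.Quotient.ringHom_ext (RingHom.ext fun t => (Ideal.Quotient.eq.mpr
      (neg_sub t ((Algebra.TensorProduct.lmul' A t : B) ⊗ₜ[A] (1 : B)) ▸ (II).neg_mem (sub_lmul_mem A B t)))))
    (RingHom.ext fun b => by simp)

theorem projective_iff : Module.Projective B (KaehlerDifferential A B) ↔ Module.Projective (T ⧸ II) (II).Cotangent := by
  haveI := RingHomInvPair.of_ringEquiv (diagEquiv A B)
  haveI := RingHomInvPair.of_ringEquiv_symm (diagEquiv A B)
  let e : KaehlerDifferential A B ≃ₛₗ[(diagEquiv A B : B →+* T ⧸ II)] (II).Cotangent :=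
    { toFun := fun w => w
      invFun := fun w => w
      left_inv := fun _ => rfl
      right_inv := fun _ => rfl
      map_add' := fun _ _ => rfl
      map_smul' := fun b w => by
        have h1 := algebraMap_smul (T ⧸ II) ((b : B) ⊗ₜ[A] (1 : B)) (@id (II).Cotangent w)
        have h2 := algebraMap_smul T b w
        exact h2.symm.trans h1.symm }
  exact ⟨fun _ => Module.Projective.of_equiv e, fun _ => Module.Projective.of_equiv e.symm⟩

variable (κ : Type u) [Fintype κ]

/-- Classes given by a common element. -/
def SameClass (a : PP16.grI A B (Fintype.card κ)) (c : PP16.grJ T II (Fintype.card κ)) : Prop :=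
  ∃ (y : T) (h : y ∈ II ^ Fintype.card κ), a = Submodule.Quotient.mk ⟨y, h⟩ ∧ c = Submodule.Quotient.mk ⟨y, h⟩

theorem SameClass.zero_iff {a : PP16.grI A B (Fintype.card κ)} {c : PP16.grJ T II (Fintype.card κ)}
    (h : SameClass A B κ a c) : a = 0 ↔ c = 0 := by
  obtain ⟨y, hy, rfl, rfl⟩ := h
  rw [Submodule.Quotient.mk_eq_zero, Submodule.Quotient.mk_eq_zero]
  rfl

theorem injective_canon_of_isEmpty [IsEmpty κ] : Function.Injective (canon A B κ) := by
  rw [injective_iff_map_eq_zero]
  intro s hs
  have key : ∀ s : SymmetricPower B κ (KaehlerDifferential A B),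
      ∃ c : B, s = c • SymmetricPower.tprod B (isEmptyElim : κ → KaehlerDifferential A B) := fun s => by
    have hs : s ∈ Submodule.span B (Set.range (SymmetricPower.tprod B (ι := κ) (M := KaehlerDifferential A B))) :=
      (SymmetricPower.span_tprod_eq_top (R := B) (ι := κ) (M := KaehlerDifferential A B)) ▸ Submodule.mem_top
    induction hs using Submodule.span_induction with
    | mem z hz =>
      obtain ⟨v, rfl⟩ := hz
      exact ⟨1, by rw [one_smul, Subsingleton.elim v isEmptyElim]⟩
    | zero => exact ⟨0, by rw [zero_smul]⟩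
    | add a b _ _ ha hb =>
      obtain ⟨c, rfl⟩ := ha
      obtain ⟨d, rfl⟩ := hb
      exact ⟨c + d, by rw [add_smul]⟩
    | smul r a _ ha =>
      obtain ⟨c, rfl⟩ := ha
      exact ⟨r * c, by rw [mul_smul]⟩
  obtain ⟨c, rfl⟩ := key s
  rw [map_smul, canon_tprod A B κ (x := isEmptyElim) (fun i => isEmptyElim i) (fun i => isEmptyElim i), cls,
    ← Submodule.Quotient.mk_smul, Submodule.Quotient.mk_eq_zero, Submodule.mem_comap, Submodule.subtype_apply,
    Submodule.restrictScalars_mem, SetLike.val_smul] at hs
  simp only [Fintype.card_eq_zero, zero_add, pow_one, KaehlerDifferential.ideal, RingHom.mem_ker] at hs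
  simp [Finset.univ_eq_empty, Algebra.TensorProduct.one_def, TensorProduct.smul_tmul'] at hs
  rw [hs, zero_smul]

theorem exists_equiv [Nonempty κ] :
    ∃ Ψ : SymmetricPower B κ (KaehlerDifferential A B) → SymmetricPower T κ (II).Cotangent,
      Function.Bijective Ψ ∧ Ψ 0 = 0 ∧ ∀ s, SameClass A B κ (canon A B κ s) (canonJ II κ (Ψ s)) := by
  classical
  letI : Module B (SymmetricPower T κ (II).Cotangent) :=
    Module.compHom _ (algebraMap B T)
  haveI : IsScalarTower B T (SymmetricPower T κ (II).Cotangent) := ⟨fun b t x => by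
    rw [Algebra.smul_def, mul_smul]
    rfl⟩
  letI : Module T (SymmetricPower B κ (KaehlerDifferential A B)) :=
    Module.compHom _ (Algebra.TensorProduct.lmul' A : T →ₐ[A] B).toRingHom
  let Ψm : MultilinearMap B (fun _ : κ => KaehlerDifferential A B) (SymmetricPower T κ (II).Cotangent) :=
    { toFun := fun v => SymmetricPower.tprod T (M := (II).Cotangent) v
      map_update_add' := fun {_} v j a b => MultilinearMap.map_update_add _ v j a b
      map_update_smul' := fun {_} v j c a => by
        refine Eq.trans (congrArg (fun z => SymmetricPower.tprod T (M := (II).Cotangent) (Function.update v j z))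
          (show c • a = algebraMap B T c • (a : (II).Cotangent) from (algebraMap_smul T c (a : (II).Cotangent)).symm)) ?_
        exact MultilinearMap.map_update_smul _ v j _ a }
  let Ψ : SymmetricPower B κ (KaehlerDifferential A B) →ₗ[B] SymmetricPower T κ (II).Cotangent :=
    symLift Ψm fun e v => SymmetricPower.tprod_equiv e v
  let Φm : MultilinearMap T (fun _ : κ => (II).Cotangent) (SymmetricPower B κ (KaehlerDifferential A B)) :=
    { toFun := fun v => SymmetricPower.tprod B (M := KaehlerDifferential A B) v
      map_update_add' := fun {_} v j a b => MultilinearMap.map_update_add _ v j a b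
      map_update_smul' := fun {_} v j c a => by
        refine Eq.trans (congrArg (fun z => SymmetricPower.tprod B (M := KaehlerDifferential A B) (Function.update v j z))
          (smul_cotangent A B c a)) ?_
        exact MultilinearMap.map_update_smul _ v j _ a }
  let Φ : SymmetricPower T κ (II).Cotangent →ₗ[T] SymmetricPower B κ (KaehlerDifferential A B) :=
    symLift Φm fun e v => SymmetricPower.tprod_equiv e v
  have h1 : ∀ s, Φ (Ψ s) = s := fun s => by
    have hs : s ∈ Submodule.span B (Set.range (SymmetricPower.tprod B (ι := κ) (M := KaehlerDifferential A B))) :=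
      (SymmetricPower.span_tprod_eq_top (R := B) (ι := κ) (M := KaehlerDifferential A B)) ▸ Submodule.mem_top
    induction hs using Submodule.span_induction with
    | mem z hz =>
      obtain ⟨v, rfl⟩ := hz
      rw [symLift_tprod]
      exact symLift_tprod _ _ v
    | zero => rw [map_zero, map_zero]
    | add a b _ _ ha hb => rw [map_add, map_add, ha, hb]
    | smul c a _ ha =>
      rw [map_smul Ψ]
      show Φ (algebraMap B T c • Ψ a) = c • a
      rw [map_smul Φ, ha]
      show (Algebra.TensorProduct.lmul' A (algebraMap B T c) : B) • a = c • a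
      simp [Algebra.TensorProduct.algebraMap_apply]
  have h2 : ∀ s, Ψ (Φ s) = s := fun s => by
    have hs : s ∈ Submodule.span T (Set.range (SymmetricPower.tprod T (ι := κ) (M := (II).Cotangent))) :=
      (SymmetricPower.span_tprod_eq_top (R := T) (ι := κ) (M := (II).Cotangent)) ▸ Submodule.mem_top
    induction hs using Submodule.span_induction with
    | mem z hz =>
      obtain ⟨v, rfl⟩ := hz
      rw [symLift_tprod]
      exact symLift_tprod _ _ v
    | zero => rw [map_zero, map_zero]
    | add a b _ _ ha hb => rw [map_add, map_add, ha, hb]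
    | smul c a _ ha =>
      rw [map_smul Φ]
      show Ψ ((Algebra.TensorProduct.lmul' A c : B) • Φ a) = c • a
      rw [map_smul Ψ, ha]
      show algebraMap B T (Algebra.TensorProduct.lmul' A c : B) • a = c • a
      rw [eq_comm, ← sub_eq_zero, ← sub_smul]
      exact S3826.smul_sym_eq_zero (sub_lmul_mem A B c) a
  refine ⟨Ψ, Function.bijective_iff_has_inverse.mpr ⟨Φ, h1, h2⟩, map_zero Ψ, fun s => ?_⟩
  have hs : s ∈ Submodule.span B (Set.range (SymmetricPower.tprod B (ι := κ) (M := KaehlerDifferential A B))) :=
    (SymmetricPower.span_tprod_eq_top (R := B) (ι := κ) (M := KaehlerDifferential A B)) ▸ Submodule.mem_top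
  induction hs using Submodule.span_induction with
  | mem z hz =>
    obtain ⟨v, rfl⟩ := hz
    choose x hx using fun i => (II).toCotangent_surjective (v i)
    refine ⟨∏ i, (x i : T), ?_, (canon_tprod A B κ (x := fun i => (x i : T)) (fun i => (x i).2) hx).trans rfl, ?_⟩
    · simpa using prod_mem_pow' II Finset.univ (fun i => (x i : T)) fun i _ => (x i).2
    · rw [symLift_tprod]
      show canonJ II κ (SymmetricPower.tprod T (M := (II).Cotangent) v) = _
      rw [show (v : κ → (II).Cotangent) = fun i => (II).toCotangent (x i) from funext fun i => (hx i).symm,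
        canonJ_tprod]
      rfl
  | zero => exact ⟨0, zero_mem _, by rw [map_zero]; rfl, by rw [map_zero, map_zero]; rfl⟩
  | add a b _ _ ha hb =>
    obtain ⟨y, hy, e1, e2⟩ := ha
    obtain ⟨z, hz, e3, e4⟩ := hb
    exact ⟨y + z, add_mem hy hz, by rw [map_add, e1, e3]; rfl, by rw [map_add, map_add, e2, e4]; rfl⟩
  | smul c a _ ha =>
    obtain ⟨y, hy, e1, e2⟩ := ha
    refine ⟨algebraMap B T c * y, Ideal.mul_mem_left _ _ hy, ?_, ?_⟩
    · rw [map_smul, e1, ← Submodule.Quotient.mk_smul]
      congr 1
      exact Subtype.ext (Algebra.smul_def c y)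
    · rw [map_smul Ψ]
      show canonJ II κ (algebraMap B T c • Ψ a) = _
      rw [map_smul (canonJ II κ), e2]
      rfl

theorem injective_canonJ_of_canon [Nonempty κ] (h : Function.Injective (canon A B κ)) :
    Function.Injective (canonJ II κ) := by
  obtain ⟨Ψ, hΨ, h0, hc⟩ := exists_equiv A B κ
  rw [injective_iff_map_eq_zero]
  intro s hs
  obtain ⟨t, rfl⟩ := hΨ.2 s
  rw [(injective_iff_map_eq_zero _).mp h t ((hc t).zero_iff.mpr hs), h0]

theorem injective_canon_of_canonJ [Nonempty κ] (h : Function.Injective (canonJ II κ)) :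
    Function.Injective (canon A B κ) := by
  obtain ⟨Ψ, hΨ, h0, hc⟩ := exists_equiv A B κ
  rw [injective_iff_map_eq_zero]
  intro t ht
  exact hΨ.1 (((injective_iff_map_eq_zero _).mp h _ ((hc t).zero_iff.mp ht)).trans h0.symm)

end diag

/-- Let B be an A-algebra of finite type. Then B is differentially smooth over A if and only if the
diagonal immersion is quasi-regular, that is, the kernel I of B ⊗_A B → B is a quasi-regular ideal:
every prime of B ⊗_A B containing I has a basic open neighbourhood on which I is generated by a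
quasi-regular sequence. -/
theorem result (A B : Type u) [CommRing A] [CommRing B] [Algebra A B]
    [Algebra.FiniteType A B] :
    PP16.IsDiffSmooth A B ↔ PP16.IsLocallyQuasiRegular (B ⊗[A] B) (KaehlerDifferential.ideal A B) := by
  have hfg : (KaehlerDifferential.ideal A B).FG := KaehlerDifferential.ideal_fg A B
  rw [PP16Lib.isDiffSmooth_iff, S3826.result, projective_iff A B, PP16Lib.symGrBijective_iff]
  constructor
  · rintro ⟨hP, hinj⟩
    exact ⟨hfg, hP, fun κ _ _ => injective_canonJ_of_canon A B κ (hinj κ)⟩
  · rintro ⟨-, hP, hinj⟩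
    refine ⟨hP, fun κ _ => ?_⟩
    cases isEmpty_or_nonempty κ with
    | inl h => exact injective_canon_of_isEmpty A B κ
    | inr h => exact injective_canon_of_canonJ A B κ (hinj κ)


end Groth.Agent.S3823
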