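import Groth.Statements.S3827
import Groth.Agent.QReg.Basic

set_option autoImplicit false
universe u
open QReg16

namespace Groth.Agent.S3827

/-- Let A be a ring, J an ideal, A' = A/J and f_1, …, f_r elements of A forming an A'-regular sequence
(each f_i a non-zero-divisor on A' modulo the previous ones); let R be the ideal generated by the
f_i. Then for all integers 0 < n ≤ N one has J ∩ Rⁿ = J·Rⁿ + (J ∩ R^N). -/
theorem result {A : Type u} [CommRing A] (J : Ideal A) {r : ℕ} (f : Fin r → A)
    (hf : RingTheory.Sequence.IsWeaklyRegular (A ⧸ J) (List.ofFn f)) (n N : ℕ) (hn : 0 < n) (hnN : n ≤ N) :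
    J ⊓ Ideal.span (Set.range f) ^ n =
      J * Ideal.span (Set.range f) ^ n ⊔ J ⊓ Ideal.span (Set.range f) ^ N := by
  classical
  set Rr := Ideal.span (Set.range f) with hRr
  refine le_antisymm ?_ (sup_le (le_inf (fun x h => Ideal.mul_le_left h) (fun x h => Ideal.mul_le_right h))
    (inf_le_inf_left _ (Ideal.pow_le_pow_right hnN)))
  let q := Ideal.Quotient.mk J
  have hq : CAlgX.IsQuasiRegular (q ∘ f) := by
    apply Groth.Agent.QReg.isQuasiRegular_of_isWeaklyRegular
    rw [← List.map_ofFn]
    exact (RingTheory.Sequence.isWeaklyRegular_map_algebraMap_iff (A ⧸ J) (A ⧸ J) (List.ofFn f)).2 hf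
  have hmap : Rr.map q = Ideal.span (Set.range (q ∘ f)) := by
    rw [hRr, Ideal.map_span, Set.range_comp]
  have key : ∀ m, n ≤ m → J ⊓ Rr ^ n ≤ J * Rr ^ n ⊔ J ⊓ Rr ^ m := by
    intro m hm
    induction m, hm using Nat.le_induction with
    | base => exact le_sup_right
    | succ m hm ih =>
      refine ih.trans (sup_le le_sup_left fun x hx => ?_)
      obtain ⟨hxJ, hxR⟩ := hx
      obtain ⟨P, hP, hPx⟩ := AdicLim.exists_isHomogeneous_eval f hRr.symm hxR
      have h0 : MvPolynomial.eval (q ∘ f) (MvPolynomial.map q P) = q x := by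
        rw [← hPx, MvPolynomial.eval_map, MvPolynomial.eval₂_comp]
      have hc := hq m _ (hP.map q) (by rw [h0, Ideal.Quotient.eq_zero_iff_mem.2 hxJ]; exact zero_mem _)
      have hd : ∀ d, P.coeff d ∈ J ⊔ Rr := fun d => by
        have h := hc d
        rw [MvPolynomial.coeff_map, ← hmap, ← Ideal.mem_comap,
          Ideal.comap_map_of_surjective _ Ideal.Quotient.mk_surjective, ← RingHom.ker_eq_comap_bot,
          Ideal.mk_ker, sup_comm] at h
        exact h
      have hxm : x ∈ J * Rr ^ m ⊔ Rr ^ (m + 1) := by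
        rw [← hPx, MvPolynomial.eval_eq]
        refine Ideal.sum_mem _ fun d hd' => ?_
        have h : P.coeff d * ∏ i ∈ d.support, f i ^ d i ∈ (J ⊔ Rr) * Rr ^ m := by
          refine Ideal.mul_mem_mul (hd d) ?_
          rw [hP.degree_eq_sum_deg_support hd', ← Finset.prod_pow_eq_pow_sum]
          exact Ideal.prod_mem_prod fun i _ => Ideal.pow_mem_pow (Ideal.subset_span (Set.mem_range_self i)) _
        rwa [Ideal.sup_mul, ← pow_succ'] at h
      obtain ⟨a, ha, b, hb, rfl⟩ := Submodule.mem_sup.1 hxm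
      exact Submodule.add_mem_sup (Ideal.mul_mono le_rfl (Ideal.pow_le_pow_right hm) ha)
        ⟨((Submodule.add_mem_iff_right J (Ideal.mul_le_left ha : a ∈ J)).1 hxJ : b ∈ J), hb⟩
  exact key N hnN

end Groth.Agent.S3827
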