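import Groth.Statements.S3828
import Groth.Agent.QReg.Basic
import Mathlib.RingTheory.Filtration

set_option autoImplicit false
universe u
open QReg16

namespace Groth.Agent.S3828

open MvPolynomial in
/-- One step: `J ∩ Rⁿ ⊆ J Rⁿ + Rⁿ⁺¹`. -/
theorem step {A : Type u} [CommRing A] (J : Ideal A) {r : ℕ} (f : Fin r → A)
    (hf : RingTheory.Sequence.IsWeaklyRegular (A ⧸ J) (List.ofFn f)) (n : ℕ) :
    J ⊓ Ideal.span (Set.range f) ^ n ≤
      J * Ideal.span (Set.range f) ^ n ⊔ Ideal.span (Set.range f) ^ (n + 1) := by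
  classical
  set R := Ideal.span (Set.range f)
  have hf' : RingTheory.Sequence.IsWeaklyRegular (A ⧸ J) (List.ofFn (Ideal.Quotient.mk J ∘ f)) := by
    have h := (RingTheory.Sequence.isWeaklyRegular_map_algebraMap_iff (A ⧸ J) (A ⧸ J) (List.ofFn f)).mpr hf
    rwa [List.map_ofFn] at h
  have hq := QReg.isQuasiRegular_of_isWeaklyRegular _ hf'
  rintro x ⟨hxJ, hxR⟩
  obtain ⟨P, hP, rfl⟩ := AdicLim.exists_isHomogeneous_eval f rfl hxR
  have h0 : eval (Ideal.Quotient.mk J ∘ f) (map (Ideal.Quotient.mk J) P) = 0 := by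
    rw [eval_map, ← eval₂_comp, Ideal.Quotient.eq_zero_iff_mem]
    exact hxJ
  have hc : ∀ d, P.coeff d ∈ J ⊔ R := fun d => by
    have h := hq n (map (Ideal.Quotient.mk J) P) (hP.map _) (by rw [h0]; exact Ideal.zero_mem _) d
    rw [coeff_map, Set.range_comp, ← Ideal.map_span, Ideal.mem_quotient_iff_mem_sup] at h
    rwa [sup_comm]
  rw [eval_eq]
  refine Ideal.sum_mem _ fun d hd => ?_
  have hprod : ∏ i ∈ d.support, f i ^ d i ∈ R ^ n := by
    rw [hP.degree_eq_sum_deg_support hd, ← Finset.prod_pow_eq_pow_sum]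
    exact Ideal.prod_mem_prod fun i _ => Ideal.pow_mem_pow (Ideal.subset_span (Set.mem_range_self i)) _
  obtain ⟨a, ha, b, hb, hab⟩ := Submodule.mem_sup.mp (hc d)
  rw [← hab, add_mul]
  refine Submodule.add_mem_sup (Ideal.mul_mem_mul ha hprod) ?_
  rw [pow_succ']
  exact Ideal.mul_mem_mul hb hprod

/-- Let A be a Noetherian ring, J an ideal of A, and f_1, …, f_r elements of A forming a weakly regular
sequence on A/J (each f_i a nonzerodivisor on A/(J + (f_1, …, f_{i−1}))) and generating an ideal R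
contained in the Jacobson radical of A; put Q = J + R. Then J ∩ Rⁿ = J·Rⁿ for every n > 0, and J ∩
Q² = J·Q (equivalently, the canonical map J/JQ → Q/Q² is injective). -/
theorem result {A : Type u} [CommRing A] [IsNoetherianRing A] (J : Ideal A)
    {r : ℕ} (f : Fin r → A) (hf : RingTheory.Sequence.IsWeaklyRegular (A ⧸ J) (List.ofFn f))
    (hrad : Ideal.span (Set.range f) ≤ (⊥ : Ideal A).jacobson) :
    (∀ n : ℕ, 0 < n → J ⊓ Ideal.span (Set.range f) ^ n = J * Ideal.span (Set.range f) ^ n) ∧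
      J ⊓ (J ⊔ Ideal.span (Set.range f)) ^ 2 = J * (J ⊔ Ideal.span (Set.range f)) := by
  classical
  set R := Ideal.span (Set.range f)
  have key : ∀ n : ℕ, J ⊓ R ^ n = J * R ^ n := by
    intro n
    refine le_antisymm ?_ (le_inf Ideal.mul_le_left Ideal.mul_le_right)
    have h1 : ∀ k, J ⊓ R ^ n ≤ J * R ^ n ⊔ R ^ (n + k) := by
      intro k
      induction k with
      | zero => exact inf_le_right.trans le_sup_right
      | succ k ih =>
        intro x hx
        obtain ⟨a, ha, b, hb, rfl⟩ := Submodule.mem_sup.mp (ih hx)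
        have hbJ : b ∈ J := (Submodule.add_mem_iff_right J (Ideal.mul_le_left ha)).mp hx.1
        have h2 := step J f hf (n + k) ⟨hbJ, hb⟩
        have hle : J * R ^ (n + k) ≤ J * R ^ n :=
          Ideal.mul_mono_right (Ideal.pow_le_pow_right (Nat.le_add_right n k))
        obtain ⟨c, hc, d, hd, hcd⟩ := Submodule.mem_sup.mp h2
        rw [show a + b = (a + c) + d by rw [← hcd, add_assoc]]
        exact Submodule.add_mem_sup (add_mem ha (hle hc)) hd
    intro x hx
    have hbot : (⨅ k, R ^ k • (⊤ : Submodule A (A ⧸ J * R ^ n))) = ⊥ :=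
      Ideal.iInf_pow_smul_eq_bot_of_le_jacobson R hrad
    rw [← Ideal.Quotient.eq_zero_iff_mem, ← Submodule.mem_bot A, ← hbot, Submodule.mem_iInf]
    intro k
    obtain ⟨a, ha, b, hb, rfl⟩ := Submodule.mem_sup.mp (h1 k hx)
    rw [map_add, Ideal.Quotient.eq_zero_iff_mem.mpr ha, zero_add, ← mul_one b, map_mul, map_one]
    have hb' : b ∈ R ^ k := Ideal.pow_le_pow_right (Nat.le_add_left k n) hb
    exact Submodule.smul_mem_smul hb' (Submodule.mem_top (x := (1 : A ⧸ J * R ^ n)))
  refine ⟨fun n _ => key n, le_antisymm ?_ (le_inf Ideal.mul_le_left ?_)⟩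
  · intro x hx
    have h2 : x ∈ J * (J ⊔ R) ⊔ R ^ 2 := by
      have h : (J ⊔ R) ^ 2 ≤ J * (J ⊔ R) ⊔ R ^ 2 := by
        rw [pow_two, pow_two, Ideal.sup_mul]
        refine sup_le le_sup_left ?_
        rw [Ideal.mul_sup]
        refine sup_le (le_sup_of_le_left ?_) le_sup_right
        rw [mul_comm R J]
        exact Ideal.mul_mono_right le_sup_right
      exact h hx.2
    obtain ⟨a, ha, b, hb, rfl⟩ := Submodule.mem_sup.mp h2
    have hbJ : b ∈ J := (Submodule.add_mem_iff_right J (Ideal.mul_le_left ha)).mp hx.1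
    have hbm : b ∈ J * R ^ 2 := key 2 ▸ ⟨hbJ, hb⟩
    refine Submodule.add_mem _ ha (Ideal.mul_mono_right ?_ hbm)
    exact (Ideal.pow_le_self two_ne_zero).trans le_sup_right
  · rw [pow_two]
    exact Ideal.mul_mono_left le_sup_left

end Groth.Agent.S3828
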