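import Groth.Statements.S3829
import Groth.Agent.RegImmSmooth.Basic
-- import your own Groth.Agent.* helpers here

set_option autoImplicit false
set_option linter.style.haveILetI false
universe u
open CategoryTheory CategoryTheory.Limits AlgebraicGeometry TopologicalSpace
open Unram17

namespace Groth.Agent.S3829

/-- c) implies a) (case of a closed immersion): let f : X → S and h : Y → S be locally of finite
presentation, j : Y → X a closed immersion over S and y a point of Y. If h is smooth on a
neighbourhood of y and, on some affine open neighbourhood of j(y) in X, the ideal of j is generated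
by a regular sequence (j is a regular immersion near y), then f is smooth on an open neighbourhood
of j(y). -/
theorem result {X Y S : Scheme.{u}} (f : X ⟶ S) (h : Y ⟶ S)
    [LocallyOfFinitePresentation f] [LocallyOfFinitePresentation h] (j : Y ⟶ X) [IsClosedImmersion j]
    (hj : j ≫ f = h) (y : ↥Y) (hy : ∃ V : Y.Opens, y ∈ V ∧ Smooth (V.ι ≫ h))
    (hreg : ∃ (U : X.Opens) (hU : IsAffineOpen U), j y ∈ U ∧
      ∃ rs : List Γ(X, U), RingTheory.Sequence.IsRegular Γ(X, U) rs ∧ j.ker.ideal ⟨U, hU⟩ = Ideal.ofList rs) :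
    ∃ U : X.Opens, j y ∈ U ∧ Smooth (U.ι ≫ f) := by
  obtain ⟨V₀, hy₀, hV₀⟩ := hy
  obtain ⟨U, hU, hxU, rs, hrs, hker⟩ := hreg
  have hY : (h.stalkMap y).hom.FormallySmooth := by
    have h1 : (⟨y, hy₀⟩ : V₀.toScheme) ∈ (V₀.ι ≫ h).smoothLocus := by
      rw [Scheme.Hom.smoothLocus_eq_top]; trivial
    rw [← Scheme.Hom.preimage_smoothLocus_eq] at h1
    exact h1
  refine ⟨f.smoothLocus, ?_, ?_⟩
  swap
  · rw [← Scheme.Hom.smoothLocus_eq_top_iff, ← Scheme.Hom.preimage_smoothLocus_eq]
    exact Scheme.Opens.ι_preimage_self _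
  have hff : (f.stalkMap (j y)).hom.FormallySmooth := by
    subst hj
    obtain ⟨_, ⟨W, hW, rfl⟩, hsW, -⟩ :=
      S.isBasis_affineOpens.exists_subset_of_mem_open (Set.mem_univ (f (j y))) isOpen_univ
    obtain ⟨_, ⟨V, hV, rfl⟩, hxV, hVW⟩ :=
      X.isBasis_affineOpens.exists_subset_of_mem_open (show j y ∈ f ⁻¹ᵁ W from hsW) (f ⁻¹ᵁ W).2
    haveI hfp := f.finitePresentation_appLE hW hV hVW
    let A := Γ(S, W)
    let B := Γ(X, V)
    let B₀ := Γ(X, U)
    let T := X.presheaf.stalk (j y)
    let S' := Y.presheaf.stalk y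
    let O := S.presheaf.stalk (f (j y))
    letI : Algebra A B := (f.appLE W V hVW).hom.toAlgebra
    haveI : Algebra.FinitePresentation A B := hfp
    letI : Algebra B T := X.presheaf.algebra_section_stalk ⟨j y, hxV⟩
    haveI : IsLocalization.AtPrime T (hV.primeIdealOf ⟨j y, hxV⟩).asIdeal := hV.isLocalization_stalk ⟨j y, hxV⟩
    letI : Algebra B₀ T := X.presheaf.algebra_section_stalk ⟨j y, hxU⟩
    haveI : IsLocalization.AtPrime T (hU.primeIdealOf ⟨j y, hxU⟩).asIdeal := hU.isLocalization_stalk ⟨j y, hxU⟩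
    letI : Algebra A O := S.presheaf.algebra_section_stalk ⟨f (j y), hsW⟩
    haveI : IsLocalization.AtPrime O (hW.primeIdealOf ⟨f (j y), hsW⟩).asIdeal := hW.isLocalization_stalk ⟨f (j y), hsW⟩
    haveI : Algebra.FormallyEtale A O :=
      .of_isLocalization (hW.primeIdealOf ⟨f (j y), hsW⟩).asIdeal.primeCompl
    letI : Algebra O T := (f.stalkMap (j y)).hom.toAlgebra
    letI : Algebra A T := ((f.stalkMap (j y)).hom.comp (algebraMap A O)).toAlgebra
    haveI : IsScalarTower A O T := .of_algebraMap_eq' rfl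
    haveI : IsScalarTower A B T := by
      refine .of_algebraMap_eq fun a => ?_
      show (f.stalkMap (j y)).hom ((S.presheaf.germ W (f (j y)) hsW).hom a) =
        (X.presheaf.germ V (j y) hxV).hom ((f.app W ≫ X.presheaf.map (homOfLE hVW).op).hom a)
      rw [← CommRingCat.comp_apply, Scheme.Hom.germ_stalkMap, ← CommRingCat.comp_apply,
        Category.assoc]
      erw [X.presheaf.germ_res]
    let rsT : List T := rs.map (algebraMap B₀ T)
    let φ : T →+* S' := (j.stalkMap y).hom
    have hφsurj : Function.Surjective φ := j.stalkMap_surjective y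
    have hφker : RingHom.ker φ = Ideal.ofList rsT := by
      rw [← Ideal.map_ofList, ← hker]
      apply le_antisymm
      · intro t ht
        obtain ⟨b, s, rfl⟩ := IsLocalization.exists_mk'_eq (hU.primeIdealOf ⟨j y, hxU⟩).asIdeal.primeCompl t
        have hb : φ (algebraMap B₀ T b) = 0 := by
          rw [← IsLocalization.mk'_spec T b s, map_mul, RingHom.mem_ker.1 ht, zero_mul]
        have hyU : y ∈ j ⁻¹ᵁ U := hxU
        have hUY : IsAffineOpen (j ⁻¹ᵁ U) := hU.preimage j
        letI : Algebra Γ(Y, j ⁻¹ᵁ U) S' := Y.presheaf.algebra_section_stalk ⟨y, hyU⟩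
        haveI : IsLocalization.AtPrime S' (hUY.primeIdealOf ⟨y, hyU⟩).asIdeal := hUY.isLocalization_stalk ⟨y, hyU⟩
        have hb' : algebraMap Γ(Y, j ⁻¹ᵁ U) S' ((j.app U).hom b) = 0 := by
          rw [← hb]
          show (Y.presheaf.germ (j ⁻¹ᵁ U) y hyU).hom _ = (j.stalkMap y).hom ((X.presheaf.germ U (j y) hxU).hom b)
          rw [← CommRingCat.comp_apply, ← CommRingCat.comp_apply, Scheme.Hom.germ_stalkMap]
        obtain ⟨⟨u, hu⟩, hub⟩ := (IsLocalization.map_eq_zero_iff (hUY.primeIdealOf ⟨y, hyU⟩).asIdeal.primeCompl S' _).1 hb'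
        obtain ⟨u, rfl⟩ := j.app_surjective U hU u
        have hu1 : IsUnit (algebraMap B₀ T u) := by
          refine IsUnit.of_map φ _ ?_
          have hu2 := IsLocalization.map_units (M := (hUY.primeIdealOf ⟨y, hyU⟩).asIdeal.primeCompl) S' ⟨_, hu⟩
          convert! hu2 using 1
          show (j.stalkMap y).hom ((X.presheaf.germ U (j y) hxU).hom u) = (Y.presheaf.germ (j ⁻¹ᵁ U) y hyU).hom _
          rw [← CommRingCat.comp_apply, ← CommRingCat.comp_apply, Scheme.Hom.germ_stalkMap]
        have hmem : u * b ∈ j.ker.ideal ⟨U, hU⟩ := by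
          rw [Scheme.Hom.ker_apply, RingHom.mem_ker, map_mul]
          exact hub
        have h3 := Ideal.mem_map_of_mem (algebraMap B₀ T) hmem
        rw [map_mul, Ideal.unit_mul_mem_iff_mem _ hu1] at h3
        rw [IsLocalization.mk'_mem_iff]
        exact h3
      · rw [Ideal.map_le_iff_le_comap]
        intro b hb
        rw [Scheme.Hom.ker_apply, RingHom.mem_ker] at hb
        show (j.stalkMap y).hom ((X.presheaf.germ U (j y) hxU).hom b) = 0
        rw [← CommRingCat.comp_apply, Scheme.Hom.germ_stalkMap, CommRingCat.comp_apply]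
        erw [hb]
        exact map_zero _
    have hmax : ∀ r ∈ rsT, r ∈ IsLocalRing.maximalIdeal T := by
      intro r hr hu
      have h4 : φ r = 0 := RingHom.mem_ker.1 (hφker ▸ Ideal.subset_span hr)
      exact not_isUnit_zero (h4 ▸ hu.map φ)
    letI : Algebra A S' := (φ.comp (algebraMap A T)).toAlgebra
    have hS : Algebra.FormallySmooth A S' := by
      letI : Algebra O S' := ((j ≫ f).stalkMap y).hom.toAlgebra
      haveI : IsScalarTower A O S' := by
        refine .of_algebraMap_eq fun a => ?_
        show φ ((f.stalkMap (j y)).hom (algebraMap A O a)) = ((j ≫ f).stalkMap y).hom (algebraMap A O a)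
        rw [Scheme.Hom.stalkMap_comp]
        rfl
      haveI : Algebra.FormallySmooth O S' := hY
      exact .comp A O S'
    have hTS : Algebra.FormallySmooth A (T ⧸ Ideal.ofList rsT) :=
      .of_equiv ((Ideal.quotientEquivAlgOfEq A hφker.symm).trans
        (Ideal.quotientKerAlgEquivOfSurjective (f := ({ φ with commutes' := fun _ => rfl } : T →ₐ[A] S')) hφsurj)).symm
    have hT : Algebra.FormallySmooth A T :=
      RegImmSmooth.formallySmooth_of_isWeaklyRegular (hV.primeIdealOf ⟨j y, hxV⟩).asIdeal rsT hmax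
        (RingTheory.Sequence.IsWeaklyRegular.of_isLocalization T
          (hU.primeIdealOf ⟨j y, hxU⟩).asIdeal.primeCompl hrs.toIsWeaklyRegular) hTS
    exact Algebra.FormallySmooth.iff_restrictScalars.1 hT
  exact hff

end Groth.Agent.S3829
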