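import Groth.Statements.S3835
import Groth.Agent.FlatDescent.Dom.Extend
import Groth.Agent.FlatDescent.Dom.BaseChange
import Mathlib.AlgebraicGeometry.Sites.Fpqc

set_option autoImplicit false
universe u
open CategoryTheory CategoryTheory.Limits AlgebraicGeometry TopologicalSpace
open Rat20

namespace Groth.Agent.S3835

/-- Let Y be separated over S, X an S-scheme with a schematically dense open subscheme U, h : U → Y an
S-morphism (a representative of a pseudo-morphism from X to Y over S), and f : X' → X a flat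
morphism locally of finite presentation, X' being regarded as an S-scheme through f. Let x' be a
point of X' with image x = f(x'). If there is an S-morphism from an open neighbourhood V' of x' to Y
agreeing with h ∘ f on f⁻¹(U) ∩ V' (the pulled-back pseudo-morphism is defined at x'), then there is
an S-morphism from an open neighbourhood V of x to Y agreeing with h on U ∩ V (the pseudo-morphism
is defined at x). -/
theorem result {X X' Y S : Scheme.{u}} (pX : X ⟶ S) (pY : Y ⟶ S)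
    [IsSeparated pY] (U : X.Opens) (hU : CInt.IsSchematicallyDense U) (h : (U : Scheme.{u}) ⟶ Y)
    (hh : h ≫ pY = U.ι ≫ pX) (f : X' ⟶ X) [Flat f] [LocallyOfFinitePresentation f] (x' : ↥X')
    (V' : X'.Opens) (hx' : x' ∈ V') (v' : (V' : Scheme.{u}) ⟶ Y) (hv'S : v' ≫ pY = V'.ι ≫ f ≫ pX)
    (hv' : X'.homOfLE (inf_le_right : f ⁻¹ᵁ U ⊓ V' ≤ V') ≫ v' =
      X'.homOfLE (inf_le_left : f ⁻¹ᵁ U ⊓ V' ≤ f ⁻¹ᵁ U) ≫ (f ∣_ U) ≫ h) :
    ∃ (V : X.Opens) (v : (V : Scheme.{u}) ⟶ Y), f x' ∈ V ∧ v ≫ pY = V.ι ≫ pX ∧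
      X.homOfLE (inf_le_right : U ⊓ V ≤ V) ≫ v = X.homOfLE (inf_le_left : U ⊓ V ≤ U) ≫ h := by
  let π := V'.ι ≫ f
  haveI : Flat π := inferInstance
  haveI : LocallyOfFinitePresentation π := inferInstance
  let V : X.Opens := ⟨Set.range π, π.isOpenMap.isOpen_range⟩
  have hx : f x' ∈ V := ⟨⟨x', hx'⟩, rfl⟩
  let π₀ : (V' : Scheme.{u}) ⟶ V := IsOpenImmersion.lift V.ι π (by rw [Scheme.Opens.range_ι]; exact le_rfl)
  have hπ₀ : π₀ ≫ V.ι = π := IsOpenImmersion.lift_fac _ _ _
  haveI : Flat (π₀ ≫ V.ι) := hπ₀.symm ▸ inferInstance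
  haveI : LocallyOfFinitePresentation (π₀ ≫ V.ι) := hπ₀.symm ▸ inferInstance
  haveI : Flat π₀ := MorphismProperty.of_postcomp (W' := @IsOpenImmersion) (W := @Flat) π₀ V.ι inferInstance ‹_›
  haveI : LocallyOfFinitePresentation π₀ :=
    MorphismProperty.of_postcomp (W' := @IsOpenImmersion) (W := @LocallyOfFinitePresentation) π₀ V.ι inferInstance ‹_›
  haveI : Surjective π₀ := ⟨fun y => by
    obtain ⟨z, hz⟩ := y.2
    exact ⟨z, V.ι.injective (by rw [← Scheme.Hom.comp_apply, hπ₀, hz]; rfl)⟩⟩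
  let P := pullback π₀ π₀
  let gP : P ⟶ X := pullback.fst π₀ π₀ ≫ π
  haveI : Flat gP := inferInstance
  haveI : LocallyOfFinitePresentation gP := inferInstance
  have hdom := Groth.FlatDescent.Dom.schDom_pullback_snd _ ((Groth.FlatDescent.Dom.schDom_ι_iff U).mp hU) gP
  have hv'U : ∀ {T : Scheme.{u}} (a : T ⟶ (V' : Scheme.{u})) (b : T ⟶ (U : Scheme.{u})),
      a ≫ π = b ≫ U.ι → a ≫ v' = b ≫ h := by
    intro T a b hab
    have hr : Set.range (a ≫ V'.ι) ⊆ Set.range (f ⁻¹ᵁ U ⊓ V').ι := by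
      rintro _ ⟨t, rfl⟩
      rw [Scheme.Opens.range_ι]
      refine ⟨?_, (a t).2⟩
      show f ((a ≫ V'.ι) t) ∈ U
      rw [← Scheme.Hom.comp_apply, Category.assoc, hab, Scheme.Hom.comp_apply]
      exact (b t).2
    let l := IsOpenImmersion.lift (f ⁻¹ᵁ U ⊓ V').ι (a ≫ V'.ι) hr
    have hl : l ≫ (f ⁻¹ᵁ U ⊓ V').ι = a ≫ V'.ι := IsOpenImmersion.lift_fac _ _ _
    have h1 : l ≫ X'.homOfLE inf_le_right = a := by
      rw [← cancel_mono V'.ι, Category.assoc, Scheme.homOfLE_ι, hl]
    have h2 : l ≫ X'.homOfLE inf_le_left ≫ (f ∣_ U) = b := by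
      rw [← cancel_mono U.ι, Category.assoc, Category.assoc, morphismRestrict_ι, Scheme.homOfLE_ι_assoc,
        reassoc_of% hl]
      exact hab
    rw [← h1, Category.assoc, hv', ← h2]
    simp only [Category.assoc]
  have hsame : pullback.fst π₀ π₀ ≫ π = pullback.snd π₀ π₀ ≫ π := by
    rw [← hπ₀, pullback.condition_assoc]
  have hdesc : pullback.fst π₀ π₀ ≫ v' = pullback.snd π₀ π₀ ≫ v' := by
    refine Groth.FlatDescent.Dom.ext_of_schDom pY _ hdom _ _ ?_ fun i => ?_
    · rw [Category.assoc, Category.assoc, hv'S, ← Category.assoc V'.ι, ← Category.assoc, hsame, Category.assoc]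
    · rw [← Category.assoc, ← Category.assoc,
        hv'U (_ ≫ pullback.fst π₀ π₀) (pullback.fst U.ι gP) (by rw [Category.assoc]; exact pullback.condition.symm),
        hv'U (_ ≫ pullback.snd π₀ π₀) (pullback.fst U.ι gP) (by rw [Category.assoc, ← hsame]; exact pullback.condition.symm)]
  have heq : ∀ {T : Scheme.{u}} (a b : T ⟶ (V' : Scheme.{u})), a ≫ π₀ = b ≫ π₀ → a ≫ v' = b ≫ v' := fun a b hab => by
    rw [← pullback.lift_fst a b hab, Category.assoc, hdesc, ← Category.assoc, pullback.lift_snd]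
  let v := EffectiveEpi.desc π₀ v' heq
  have hv : π₀ ≫ v = v' := EffectiveEpi.fac π₀ v' heq
  refine ⟨V, v, hx, ?_, ?_⟩
  · rw [← cancel_epi π₀, reassoc_of% hv, hv'S, reassoc_of% hπ₀]
    simp [π]
  · let j := X.homOfLE (inf_le_right : U ⊓ V ≤ V)
    haveI : Epi (pullback.fst j π₀) := inferInstance
    rw [← cancel_epi (pullback.fst j π₀), pullback.condition_assoc, hv,
      hv'U (pullback.snd j π₀) (pullback.fst j π₀ ≫ X.homOfLE inf_le_left) (by
        rw [← hπ₀, ← pullback.condition_assoc, Scheme.homOfLE_ι, Category.assoc, Scheme.homOfLE_ι]),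
      Category.assoc]

end Groth.Agent.S3835
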