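import Groth.Statements.S3837
import Groth.Agent.S3836
-- import your own Groth.Agent.* helpers here

set_option autoImplicit false
universe u
open CategoryTheory CategoryTheory.Limits AlgebraicGeometry TopologicalSpace
open Rat20

namespace Groth.Agent.S3837

/-- Let X be a normal S-scheme (locally integral with integrally closed local rings), Y an S-scheme
locally of finite type and separated over S, h : U → Y an S-morphism on a dense open subset (a
rational S-map ω), and f : X' → X a morphism locally of finite type and universally open with X'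
reduced, so that f⁻¹(U) is dense and ω ∘ f is defined. Then for x' in X' with image x, ω is defined
at x if and only if ω ∘ f is defined at x': some S-morphism on an open neighbourhood of x agrees
with h on U if and only if some S-morphism on an open neighbourhood of x' agrees with h ∘ f on the
preimage of U. -/
theorem result {X X' Y S : Scheme.{u}} (pX : X ⟶ S) (pY : Y ⟶ S)
    [LocallyOfFiniteType pY] [IsSeparated pY] (hX : ∀ y : ↥X, ∃ W : X.Opens, y ∈ W ∧ IsIntegral (W : Scheme.{u}))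
    (hXn : ∀ y : ↥X, IsIntegrallyClosed (X.presheaf.stalk y))
    (U : X.Opens) (hU : Dense (U : Set ↥X)) (h : (U : Scheme.{u}) ⟶ Y) (hh : h ≫ pY = U.ι ≫ pX)
    (f : X' ⟶ X) [LocallyOfFiniteType f] [UniversallyOpen f] [IsReduced X'] (x' : ↥X') :
    (∃ (V : X.Opens) (v : (V : Scheme.{u}) ⟶ Y), f x' ∈ V ∧ v ≫ pY = V.ι ≫ pX ∧
        X.homOfLE (inf_le_right : U ⊓ V ≤ V) ≫ v = X.homOfLE (inf_le_left : U ⊓ V ≤ U) ≫ h) ↔
      ∃ (V' : X'.Opens) (v' : (V' : Scheme.{u}) ⟶ Y), x' ∈ V' ∧ v' ≫ pY = V'.ι ≫ f ≫ pX ∧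
        X'.homOfLE (inf_le_right : f ⁻¹ᵁ U ⊓ V' ≤ V') ≫ v' =
          X'.homOfLE (inf_le_left : f ⁻¹ᵁ U ⊓ V' ≤ f ⁻¹ᵁ U) ≫ (f ∣_ U) ≫ h := by
  constructor
  · rintro ⟨V, v, hxV, hv, hag⟩
    refine ⟨f ⁻¹ᵁ V, (f ∣_ V) ≫ v, hxV, ?_, ?_⟩
    · rw [Category.assoc, hv, reassoc_of% (morphismRestrict_ι f V)]
    · let k : ((f ⁻¹ᵁ U ⊓ f ⁻¹ᵁ V : X'.Opens) : Scheme.{u}) ⟶ ((U ⊓ V : X.Opens) : Scheme.{u}) :=
        f.resLE (U ⊓ V) (f ⁻¹ᵁ U ⊓ f ⁻¹ᵁ V) le_rfl
      have h1 : X'.homOfLE (inf_le_right : f ⁻¹ᵁ U ⊓ f ⁻¹ᵁ V ≤ f ⁻¹ᵁ V) ≫ (f ∣_ V) =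
          k ≫ X.homOfLE inf_le_right := by
        rw [← cancel_mono V.ι]
        simp [k]
      have h2 : X'.homOfLE (inf_le_left : f ⁻¹ᵁ U ⊓ f ⁻¹ᵁ V ≤ f ⁻¹ᵁ U) ≫ (f ∣_ U) =
          k ≫ X.homOfLE inf_le_left := by
        rw [← cancel_mono U.ι]
        simp [k]
      rw [reassoc_of% h1, reassoc_of% h2, hag]
  · rintro ⟨V', v', hxV', hv', hag'⟩
    let F : pullback (f ≫ pX) pY ⟶ pullback pX pY :=
      pullback.map _ _ _ _ f (𝟙 _) (𝟙 _) (by simp) (by simp)
    have hF1 : F ≫ pullback.fst pX pY = pullback.fst (f ≫ pX) pY ≫ f := pullback.lift_fst _ _ _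
    have hF2 : F ≫ pullback.snd pX pY = pullback.snd (f ≫ pX) pY :=
      (pullback.lift_snd _ _ _).trans (Category.comp_id _)
    have hFpb : IsPullback (pullback.fst (f ≫ pX) pY) F f (pullback.fst pX pY) := by
      refine IsPullback.of_bot ?_ hF1.symm (IsPullback.of_hasPullback pX pY)
      rw [hF2]
      exact IsPullback.of_hasPullback (f ≫ pX) pY
    haveI : UniversallyOpen F := MorphismProperty.of_isPullback hFpb inferInstance
    let G := pullback.lift U.ι h hh.symm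
    let G' : ((f ⁻¹ᵁ U : X'.Opens) : Scheme.{u}) ⟶ pullback (f ≫ pX) pY :=
      pullback.lift (f ⁻¹ᵁ U).ι ((f ∣_ U) ≫ h) (by
        rw [Category.assoc, hh, reassoc_of% (morphismRestrict_ι f U)])
    have hG'F : G' ≫ F = (f ∣_ U) ≫ G := by
      apply pullback.hom_ext
      · rw [Category.assoc, hF1, pullback.lift_fst_assoc, Category.assoc, pullback.lift_fst, morphismRestrict_ι]
      · rw [Category.assoc, hF2, pullback.lift_snd, Category.assoc, pullback.lift_snd]
    have hGpb : IsPullback (f ∣_ U) G' G F := by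
      refine IsPullback.of_bot ?_ hG'F.symm hFpb.flip
      rw [pullback.lift_fst, pullback.lift_fst]
      exact isPullback_morphismRestrict f U
    have hrange : F ⁻¹' Set.range G = Set.range G' := by
      rw [← Scheme.Pullback.range_snd, ← hGpb.isoPullback_hom_snd]
      exact (Function.Surjective.range_comp hGpb.isoPullback.hom.surjective _).symm
    have hclos : F ⁻¹' closure (Set.range G) = closure (Set.range G') := by
      rw [← hrange]
      exact F.isOpenMap.preimage_closure_eq_closure_preimage F.continuous _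
    let gV : (V' : Scheme.{u}) ⟶ pullback (f ≫ pX) pY := pullback.lift V'.ι v' hv'.symm
    have hgV : gV ≫ pullback.fst (f ≫ pX) pY = V'.ι := pullback.lift_fst _ _ _
    have hagree : X'.homOfLE (inf_le_right : f ⁻¹ᵁ U ⊓ V' ≤ V') ≫ gV =
        X'.homOfLE (inf_le_left : f ⁻¹ᵁ U ⊓ V' ≤ f ⁻¹ᵁ U) ≫ G' := by
      apply pullback.hom_ext
      · rw [Category.assoc, hgV, Category.assoc, pullback.lift_fst, Scheme.homOfLE_ι, Scheme.homOfLE_ι]
      · rw [Category.assoc, Category.assoc, pullback.lift_snd, pullback.lift_snd, hag']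
    have hfib : ∀ z, z ∈ closure (Set.range G') → pullback.fst (f ≫ pX) pY z ∈ V' → z ∈ Set.range gV := by
      intro z hz hzV
      let pr := pullback.fst (f ≫ pX) pY
      haveI : IsSeparated pr := MorphismProperty.pullback_fst _ _ inferInstance
      let O := pr ⁻¹ᵁ V'
      let s : (V' : Scheme.{u}) ⟶ O := IsOpenImmersion.lift O.ι gV (by
        rintro _ ⟨a, rfl⟩
        rw [Scheme.Opens.range_ι]
        change pr (gV a) ∈ V'
        rw [← Scheme.Hom.comp_apply, hgV]
        exact a.2)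
      have hs : s ≫ O.ι = gV := IsOpenImmersion.lift_fac _ _ _
      have hsec : s ≫ (pr ∣_ V') = 𝟙 _ := by
        rw [← cancel_mono V'.ι, Category.assoc, morphismRestrict_ι, reassoc_of% hs, hgV, Category.id_comp]
      haveI : IsClosedImmersion (s ≫ (pr ∣_ V')) := by rw [hsec]; infer_instance
      haveI : IsClosedImmersion s := .of_comp s (pr ∣_ V')
      by_contra hzr
      obtain ⟨C, hC, hCeq⟩ := isClosed_induced_iff.mp s.isClosedEmbedding.isClosed_range
      have hzC : z ∉ C := fun h0 => hzr (by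
        have h1 : (⟨z, hzV⟩ : O) ∈ Set.range s := hCeq.le h0
        obtain ⟨a, ha⟩ := h1
        refine ⟨a, ?_⟩
        rw [← hs, Scheme.Hom.comp_apply, ha]
        rfl)
      obtain ⟨w, ⟨hwC, hwO⟩, b, rfl⟩ :=
        mem_closure_iff.mp hz (Cᶜ ∩ (O : Set _)) (hC.isOpen_compl.inter O.isOpen) ⟨hzC, hzV⟩
      have hbV : b.1 ∈ V' := by
        have h1 : pr (G' b) ∈ V' := hwO
        rw [← Scheme.Hom.comp_apply, pullback.lift_fst] at h1
        exact h1
      apply hwC
      let b' : (f ⁻¹ᵁ U ⊓ V' : X'.Opens) := ⟨b.1, b.2, hbV⟩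
      have h2 : X'.homOfLE (inf_le_left : f ⁻¹ᵁ U ⊓ V' ≤ f ⁻¹ᵁ U) b' = b :=
        (f ⁻¹ᵁ U).ι.isOpenEmbedding.injective (by rw [← Scheme.Hom.comp_apply, Scheme.homOfLE_ι]; rfl)
      have h3 : G' b = gV (X'.homOfLE inf_le_right b') := by
        rw [← h2, ← Scheme.Hom.comp_apply, ← hagree, Scheme.Hom.comp_apply]
      rw [h3, ← hs, Scheme.Hom.comp_apply]
      exact hCeq.ge ⟨_, rfl⟩
    let z₀ := F (gV ⟨x', hxV'⟩)
    have hz₀x : pullback.fst pX pY z₀ = f x' := by
      rw [← Scheme.Hom.comp_apply, hF1, Scheme.Hom.comp_apply, ← Scheme.Hom.comp_apply gV, hgV]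
      rfl
    have hz₀ : z₀ ∈ closure (Set.range G) := by
      change gV ⟨x', hxV'⟩ ∈ F ⁻¹' closure (Set.range G)
      rw [hclos]
      have hd : Dense (V'.ι ⁻¹' (f ⁻¹' (U : Set X))) :=
        (hU.preimage f.isOpenMap).preimage V'.ι.isOpenEmbedding.isOpenMap
      refine closure_mono ?_ (image_closure_subset_closure_image gV.continuous ⟨_, hd ⟨x', hxV'⟩, rfl⟩)
      rintro _ ⟨a, ha, rfl⟩
      let a' : (f ⁻¹ᵁ U ⊓ V' : X'.Opens) := ⟨a.1, ha, a.2⟩
      refine ⟨X'.homOfLE inf_le_left a', ?_⟩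
      rw [← Scheme.Hom.comp_apply, ← hagree, Scheme.Hom.comp_apply]
      exact congrArg gV (V'.ι.isOpenEmbedding.injective
        (by rw [← Scheme.Hom.comp_apply, Scheme.homOfLE_ι]; rfl))
    obtain ⟨V, v, hxV, hv, hag⟩ := S3836.result pX pY hX U hU h hh.symm (f x') (hXn _) z₀ hz₀x hz₀
      ⟨⊤, by
        ext a
        simp only [Set.mem_inter_iff, Set.mem_preimage, Set.mem_singleton_iff, TopologicalSpace.Opens.coe_top,
          Set.mem_univ, true_and]
        refine ⟨fun ⟨ha, hax⟩ => ?_, fun ha => ha ▸ ⟨hz₀, hz₀x⟩⟩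
        obtain ⟨z, hz1, hz2⟩ : ∃ z, pullback.fst (f ≫ pX) pY z = x' ∧ F z = a := by
          obtain ⟨w, hw1, hw2⟩ := Scheme.Pullback.exists_preimage_pullback x' a hax.symm
          refine ⟨hFpb.isoPullback.inv w, ?_, ?_⟩
          · rw [← Scheme.Hom.comp_apply, hFpb.isoPullback_inv_fst, hw1]
          · rw [← Scheme.Hom.comp_apply, hFpb.isoPullback_inv_snd, hw2]
        have hz : z ∈ closure (Set.range G') := hclos.le (show F z ∈ closure (Set.range G) from hz2.symm ▸ ha)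
        obtain ⟨c, rfl⟩ := hfib z hz (by rw [hz1]; exact hxV')
        rw [← Scheme.Hom.comp_apply, hgV] at hz1
        rw [← hz2, show c = ⟨x', hxV'⟩ from Subtype.ext hz1]⟩
    exact ⟨V, v, hxV, hv, hag⟩

end Groth.Agent.S3837
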