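import Groth.Statements.S3841
import Groth.Agent.DivDepth.Cycle2

set_option autoImplicit false
universe u
open CategoryTheory CategoryTheory.Limits AlgebraicGeometry TopologicalSpace
open Div21

namespace Groth.Agent.S3841

/-- Let X be a Noetherian (locally Noetherian and quasi-compact) integral scheme; points of codimension
1 are the points of coheight 1 in the specialization order. The following are equivalent. (1) For
every point ζ of codimension 1 there is a global section g of O_X cutting out the closure of ζ with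
its reduced structure: at each specialization x of ζ the ideal of that closure in O_{X,x} (the prime
ideal of O_{X,x} corresponding to ζ, the preimage of the maximal ideal of O_{X,ζ}) is generated by
the germ of g, and g is invertible at the points outside the closure. (2) X is normal and every
prime cycle of codimension 1 is principal: for every point x₀ of codimension 1 there is a nonzero
rational function with order of vanishing 1 at x₀ and 0 at every other point of codimension 1. (3)
Every local ring of X is a unique factorisation domain and every invertible O_X-module is trivial.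
(4) X is normal and for every open subset U of X every invertible O_U-module is trivial. (The
published statement assumes X only locally Noetherian; quasi-compactness, which its published proof
uses, is added here.) -/
theorem result (X : Scheme.{u}) [IsIntegral X]
    [IsLocallyNoetherian X] [CompactSpace X] :
    List.TFAE [
      ∀ ζ : ↥X, Order.coheight ζ = 1 → ∃ g : Γ(X, ⊤),
        (∀ (x : ↥X) (h : ζ ⤳ x),
          (IsLocalRing.maximalIdeal ↑(X.presheaf.stalk ζ)).comap (X.presheaf.stalkSpecializes h).hom =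
            Ideal.span {X.presheaf.germ ⊤ x trivial g}) ∧
        ∀ x : ↥X, ¬ ζ ⤳ x → IsUnit (X.presheaf.germ ⊤ x trivial g),
      Pi1.IsNormalScheme X ∧ ∀ x₀ : ↥X, Order.coheight x₀ = 1 → ∃ f : ↑X.functionField, f ≠ 0 ∧
        Scheme.ord f x₀ = 1 ∧ ∀ x : ↥X, x ≠ x₀ → Order.coheight x = 1 → Scheme.ord f x = 0,
      (∀ x : ↥X, UniqueFactorizationMonoid ↑(X.presheaf.stalk x)) ∧
        ∀ L : X.Modules, PicF.IsInvertible L → Nonempty (L ≅ Coh.structureModule X),
      Pi1.IsNormalScheme X ∧ ∀ (U : X.Opens) (L : (U : Scheme.{u}).Modules),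
        PicF.IsInvertible L → Nonempty (L ≅ Coh.structureModule (U : Scheme.{u}))] := by
  classical
  haveI : IsNoetherian X := { }
  have h12 : (∀ ζ : ↥X, Order.coheight ζ = 1 → ∃ g : Γ(X, ⊤),
        (∀ (x : ↥X) (h : ζ ⤳ x),
          (IsLocalRing.maximalIdeal ↑(X.presheaf.stalk ζ)).comap (X.presheaf.stalkSpecializes h).hom =
            Ideal.span {X.presheaf.germ ⊤ x trivial g}) ∧
        ∀ x : ↥X, ¬ ζ ⤳ x → IsUnit (X.presheaf.germ ⊤ x trivial g)) ↔
      (Pi1.IsNormalScheme X ∧ ∀ x₀ : ↥X, Order.coheight x₀ = 1 → ∃ f : ↑X.functionField, f ≠ 0 ∧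
        Scheme.ord f x₀ = 1 ∧ ∀ x : ↥X, x ≠ x₀ → Order.coheight x = 1 → Scheme.ord f x = 0) := by
    constructor
    · intro H
      have hX : Pi1.IsNormalScheme X := fun x => by
        haveI : UniqueFactorizationMonoid (X.presheaf.stalk x) := by
          refine UniqueFactorizationMonoid.of_forall_isPrincipal_of_height_eq_one fun Q hQp hQ => ?_
          obtain ⟨y, hyx, hy1, e⟩ := DivDepth.exists_pt x Q hQ
          obtain ⟨g, hg, -⟩ := H y hy1
          exact ⟨_, by rw [← e, hg x hyx]⟩
        exact ⟨inferInstance, inferInstance⟩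
      refine ⟨hX, fun x₀ h₀ => ?_⟩
      obtain ⟨g, hg, hgu⟩ := H x₀ h₀
      haveI := Ref1.isDVR hX h₀
      have hmax := hg x₀ specializes_rfl
      rw [TopCat.Presheaf.stalkSpecializes_refl] at hmax
      have hirr : Irreducible (X.presheaf.germ ⊤ x₀ trivial g) :=
        (IsDiscreteValuationRing.irreducible_iff_uniformizer _).2 hmax
      refine ⟨algebraMap _ _ (X.presheaf.germ ⊤ x₀ trivial g),
        (map_ne_zero_iff _ (Ref1.algebraMap_stalk_injective x₀)).2 hirr.ne_zero,
        DivDepth.ord_irreducible hX h₀ hirr, fun x hx hx1 => ?_⟩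
      rw [show algebraMap (X.presheaf.stalk x₀) X.functionField (X.presheaf.germ ⊤ x₀ trivial g) =
        algebraMap (X.presheaf.stalk x) X.functionField (X.presheaf.germ ⊤ x trivial g) by
          rw [Ref1.algebraMap_germ, Ref1.algebraMap_germ]]
      exact Ref1.ord_algebraMap_of_isUnit (hgu x fun h => hx (Ref1.eq_of_specializes h h₀ hx1).symm)
    · rintro ⟨hX, H⟩ ζ hζ
      obtain ⟨f, hf, h1, h0⟩ := H ζ hζ
      obtain ⟨g, hg⟩ := Ref1.exists_section_of_forall_range (W := ⊤) (x₀ := ζ) trivial f fun x _ =>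
        (Ref1.mem_range_iff_ord hX x hf).2 fun y _ hy1 => by
          by_cases e : y = ζ
          · rw [e, h1]; exact zero_le_one
          · rw [h0 y e hy1]
      have hgx : ∀ x : X, algebraMap _ X.functionField (X.presheaf.germ ⊤ x trivial g) = f := fun x => by
        rw [Ref1.algebraMap_germ]; exact hg
      refine ⟨g, fun x h => DivDepth.span_eq hX h hζ (hgx x) hf h1 fun y _ => h0 y, fun x hx => ?_⟩
      obtain ⟨b, hb⟩ := (Ref1.mem_range_iff_ord hX x (inv_ne_zero hf)).2 fun y hy hy1 => by
        rw [Ref1.ord_inv hf, h0 y (fun e => hx (e ▸ hy)) hy1, neg_zero]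
      refine IsUnit.of_mul_eq_one b (Ref1.algebraMap_stalk_injective x ?_)
      rw [map_mul, map_one, hgx, hb, mul_inv_cancel₀ hf]
  have h23 : (Pi1.IsNormalScheme X ∧ ∀ x₀ : ↥X, Order.coheight x₀ = 1 → ∃ f : ↑X.functionField, f ≠ 0 ∧
        Scheme.ord f x₀ = 1 ∧ ∀ x : ↥X, x ≠ x₀ → Order.coheight x = 1 → Scheme.ord f x = 0) ↔
      ((∀ x : ↥X, UniqueFactorizationMonoid ↑(X.presheaf.stalk x)) ∧
        ∀ L : X.Modules, PicF.IsInvertible L → Nonempty (L ≅ Coh.structureModule X)) := by
    constructor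
    · rintro ⟨hX, H⟩
      refine ⟨fun x => DivDepth.ufd_of_pr hX x fun x₀ h₀ => ?_, fun L hL => DivDepth.trivial_of_prime hX H hL⟩
      obtain ⟨f, hf, h1, h0⟩ := H x₀ h₀
      refine ⟨Units.mk0 f hf, fun y _ hy1 => ?_⟩
      rw [Units.val_mk0, DivDepth.delta]
      split_ifs with e
      · rw [e, h1]
      · exact h0 y e hy1
    · rintro ⟨hU, hP⟩
      have hX : Pi1.IsNormalScheme X := fun x => by
        haveI := hU x
        exact ⟨inferInstance, inferInstance⟩
      refine ⟨hX, fun x₀ h₀ => ?_⟩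
      obtain ⟨c, hc, hcZ⟩ := DivDepth.exists_ord_eq_of_pic hX hP _ (DivDepth.fin_delta x₀)
        fun x => DivDepth.pr_delta_of_ufd hX h₀ (hU x)
      refine ⟨c, hc, ?_, fun x hx hx1 => ?_⟩
      · rw [hcZ x₀ h₀, DivDepth.delta, if_pos rfl]
      · rw [hcZ x hx1, DivDepth.delta, if_neg hx]
  have h24 : (Pi1.IsNormalScheme X ∧ ∀ x₀ : ↥X, Order.coheight x₀ = 1 → ∃ f : ↑X.functionField, f ≠ 0 ∧
        Scheme.ord f x₀ = 1 ∧ ∀ x : ↥X, x ≠ x₀ → Order.coheight x = 1 → Scheme.ord f x = 0) ↔
      (Pi1.IsNormalScheme X ∧ ∀ (U : X.Opens) (L : (U : Scheme.{u}).Modules),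
        PicF.IsInvertible L → Nonempty (L ≅ Coh.structureModule (U : Scheme.{u}))) := by
    refine and_congr_right fun hX => ⟨fun H U L hL => ?_, fun H x₀ h₀ => ?_⟩
    · rcases isEmpty_or_nonempty U with hU | hU
      · haveI : IsIso (0 : L ⟶ Coh.structureModule (U : Scheme.{u})) :=
          (QCohLib.isIso_iff_stalk_bijective _).2 fun x => hU.elim x
        exact ⟨asIso (0 : L ⟶ Coh.structureModule (U : Scheme.{u}))⟩
      haveI : IsIntegral (U : Scheme.{u}) := isIntegral_of_isOpenImmersion U.ι
      haveI : CompactSpace ↥(U : Scheme.{u}) := isCompact_iff_compactSpace.1 (TopologicalSpace.NoetherianSpace.isCompact (U : Set X))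
      refine DivDepth.trivial_of_prime (DivDepth.normal_open hX U) (fun u hu => ?_) hL
      obtain ⟨f, hf, h1, h0⟩ := H (U.ι u) (by rw [DivDepth.coheight_ι, hu])
      refine ⟨DivDepth.resK U f, (map_ne_zero_iff _ (DivDepth.resK_bijective U).1).2 hf,
        by rw [DivDepth.ord_resK hX, h1], fun y hy hy1 => ?_⟩
      rw [DivDepth.ord_resK hX]
      exact h0 _ (fun e => hy (U.ι.injective e)) (by rw [DivDepth.coheight_ι, hy1])
    · let U : X.Opens := ⟨{x | DivDepth.Pr (DivDepth.delta x₀) x}, isOpen_iff_forall_mem_open.2 fun x ⟨f, hf⟩ => by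
        obtain ⟨W, hW, hxW, -⟩ := exists_isAffineOpen_mem_and_subset (X := X) (x := x) (U := ⊤) trivial
        obtain ⟨V, hxV, hV⟩ := Ref1.exists_open_avoiding
          (S := {y : X | y ∈ W ∧ Order.coheight y = 1 ∧ Scheme.ord (f : X.functionField) y ≠ DivDepth.delta x₀ y})
          (((DivDepth.fin_delta x₀ W hW).union (Ref1.finite_ord_ne_zero hW (f : X.functionField))).subset fun y hy => by
            by_contra hh
            simp only [Set.mem_union, Set.mem_ofPred_eq, not_or, not_and, not_not] at hh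
            exact hy.2.2 (by rw [hh.1 hy.1 hy.2.1, hh.2 hy.1 hy.2.1]))
          (fun y hy hyx => hy.2.2 (hf y hyx hy.2.1))
        refine ⟨(W ⊓ V : X.Opens), fun z hz => ⟨f, fun y hy hy1 => ?_⟩, (W ⊓ V).isOpen, hxW, hxV⟩
        by_contra hne
        exact hV y ⟨hy.mem_open W.isOpen hz.1, hy1, hne⟩ (hy.mem_open V.isOpen hz.2)⟩
      have hmem : ∀ y : X, Order.coheight y = 1 → y ∈ U := fun y hy => by
        haveI := Ref1.isDVR hX hy
        exact DivDepth.pr_delta_of_ufd hX h₀ inferInstance
      haveI : Nonempty U := ⟨⟨x₀, hmem x₀ h₀⟩⟩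
      haveI : IsIntegral (U : Scheme.{u}) := isIntegral_of_isOpenImmersion U.ι
      have e : ∀ v : ↥(U : Scheme.{u}),
          DivDepth.delta (⟨x₀, hmem x₀ h₀⟩ : ↥(U : Scheme.{u})) v = DivDepth.delta x₀ (U.ι v) := fun v => by
        simp only [DivDepth.delta]
        exact if_congr ⟨fun h => h ▸ rfl, fun h => U.ι.injective h⟩ rfl rfl
      obtain ⟨c, hc, hcZ⟩ := DivDepth.exists_ord_eq_of_pic (DivDepth.normal_open hX U) (fun L => H U L)
        _ (DivDepth.fin_delta (⟨x₀, hmem x₀ h₀⟩ : ↥(U : Scheme.{u}))) fun u => by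
          obtain ⟨f, hf⟩ : DivDepth.Pr (DivDepth.delta x₀) u.1 := u.2
          refine ⟨Units.mk0 (DivDepth.resK U f) ((map_ne_zero_iff _ (DivDepth.resK_bijective U).1).2 f.ne_zero),
            fun v hv hv1 => ?_⟩
          rw [Units.val_mk0, DivDepth.ord_resK hX, e]
          exact hf _ (hv.map U.ι.continuous) (by rw [DivDepth.coheight_ι, hv1])
      obtain ⟨f, rfl⟩ := (DivDepth.resK_bijective U).2 c
      have key : ∀ y : X, Order.coheight y = 1 → Scheme.ord f y = DivDepth.delta x₀ y := fun y hy => by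
        have := hcZ ⟨y, hmem y hy⟩ (by rw [← DivDepth.coheight_ι U]; exact hy)
        rwa [DivDepth.ord_resK hX, e] at this
      refine ⟨f, fun h => hc (by rw [h, map_zero]), ?_, fun x hx hx1 => ?_⟩
      · rw [key x₀ h₀, DivDepth.delta, if_pos rfl]
      · rw [key x hx1, DivDepth.delta, if_neg hx]
  tfae_have 1 ↔ 2 := h12
  tfae_have 2 ↔ 3 := h23
  tfae_have 2 ↔ 4 := h24
  tfae_finish

end Groth.Agent.S3841
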