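import Groth.Statements.S3842
import Mathlib
-- import your own Groth.Agent.* helpers here

set_option autoImplicit false
universe u
open CategoryTheory CategoryTheory.Limits AlgebraicGeometry TopologicalSpace
open Rat20

namespace Groth.Agent.S3842

/-- For the open subset U = X; the general case is the same statement over the open subscheme U: let f :
X' → X be a morphism of schemes with X' reduced, suppose the irreducible components of X form a
locally finite family and that every irreducible component of X' dominates an irreducible component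
of X (the closure of its image is an irreducible component of X). Then for every schematically dense
open subset V of X, the preimage f⁻¹(V) is schematically dense in X'. -/
theorem result {X X' : Scheme.{u}} (f : X' ⟶ X) [IsReduced X']
    (hfin : ∀ x : ↥X, ∃ W : X.Opens, x ∈ W ∧ {Z ∈ irreducibleComponents ↥X | (Z ∩ (W : Set ↥X)).Nonempty}.Finite)
    (hdom : ∀ Z' ∈ irreducibleComponents ↥X', closure (f '' Z') ∈ irreducibleComponents ↥X)
    (V : X.Opens) (hV : CInt.IsSchematicallyDense V) : CInt.IsSchematicallyDense (f ⁻¹ᵁ V) := by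
  have hVd : Dense (V : Set X) := by
    rw [dense_iff_inter_open]
    intro W hW hne
    by_contra hcon
    have hbot : (⟨W, hW⟩ : X.Opens) ⊓ V = ⊥ :=
      TopologicalSpace.Opens.ext (Set.not_nonempty_iff_eq_empty.1 hcon)
    haveI : Nonempty (⟨W, hW⟩ : X.Opens) := hne.to_subtype
    haveI : Subsingleton Γ(X, (⟨W, hW⟩ : X.Opens) ⊓ V) := by
      rw [hbot]
      exact CommRingCat.subsingleton_of_isTerminal X.sheaf.isTerminalOfEmpty
    haveI := Function.Injective.subsingleton (hV ⟨W, hW⟩)
    exact false_of_nontrivial_of_subsingleton Γ(X, (⟨W, hW⟩ : X.Opens))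
  have hgen : ∀ Z' ∈ irreducibleComponents ↥X', ∀ η, IsGenericPoint η Z' → f η ∈ V := by
    intro Z' hZ' η hη
    have hc : closure {f η} = closure (f '' Z') := by
      apply subset_antisymm
      · exact closure_mono (Set.singleton_subset_iff.2 ⟨η, hη.mem, rfl⟩)
      · refine closure_minimal ?_ isClosed_closure
        rintro _ ⟨z, hz, rfl⟩
        exact specializes_iff_mem_closure.1 ((hη.specializes hz).map f.continuous)
    obtain ⟨W, hxW, hWfin⟩ := hfin (f η)
    let F := {Z ∈ irreducibleComponents ↥X | (Z ∩ (W : Set X)).Nonempty} \ {closure (f '' Z')}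
    have hF : IsClosed (⋃₀ F) :=
      Set.sUnion_eq_biUnion ▸ hWfin.diff.isClosed_biUnion fun Z hZ => isClosed_of_mem_irreducibleComponents Z hZ.1.1
    have hηF : f η ∉ ⋃₀ F := by
      rintro ⟨Z, ⟨⟨hZ, -⟩, hne⟩, hm⟩
      refine hne ?_
      have h1 : closure (f '' Z') ⊆ Z := by
        rw [← hc]
        exact closure_minimal (Set.singleton_subset_iff.2 hm) (isClosed_of_mem_irreducibleComponents Z hZ)
      exact (subset_antisymm h1 ((hdom Z' hZ').2 hZ.1 h1)).symm
    obtain ⟨y, hy1, hy2⟩ := hVd.inter_open_nonempty ((W : Set X) \ ⋃₀ F) (W.isOpen.sdiff hF) ⟨f η, hxW, hηF⟩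
    have hyZ : y ∈ closure (f '' Z') := by
      by_contra hyn
      refine hy1.2 ⟨irreducibleComponent y, ⟨⟨irreducibleComponent_mem_irreducibleComponents y,
        ⟨y, mem_irreducibleComponent, hy1.1⟩⟩, ?_⟩, mem_irreducibleComponent⟩
      intro h
      exact hyn (Set.mem_singleton_iff.1 h ▸ mem_irreducibleComponent)
    rw [← hc] at hyZ
    exact (specializes_iff_mem_closure.2 hyZ).mem_open V.isOpen hy2
  have hd : Dense ((f ⁻¹ᵁ V : X'.Opens) : Set X') := by
    intro x
    obtain ⟨η, hη⟩ := QuasiSober.sober (isIrreducible_irreducibleComponent (x := x)) isClosed_irreducibleComponent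
    have hm : f η ∈ V := hgen _ (irreducibleComponent_mem_irreducibleComponents x) η hη
    have hx : x ∈ closure ({η} : Set X') := by
      rw [hη.def]
      exact mem_irreducibleComponent
    exact closure_mono (show ({η} : Set X') ⊆ _ from Set.singleton_subset_iff.2 hm) hx
  intro O a b hab
  refine sub_eq_zero.1 ?_
  refine (basicOpen_eq_bot_iff (a - b)).1 ?_
  by_contra hne
  obtain ⟨x, hx1, hx2⟩ := hd.inter_open_nonempty (X'.basicOpen (a - b) : Set X') (X'.basicOpen (a - b)).isOpen
    (Set.nonempty_iff_ne_empty.2 fun h => hne (TopologicalSpace.Opens.ext h))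
  have h0 : (X'.presheaf.map (homOfLE (inf_le_left : O ⊓ f ⁻¹ᵁ V ≤ O)).op) (a - b) = 0 := by
    rw [map_sub, hab, sub_self]
  have h1 : x ∈ X'.basicOpen ((X'.presheaf.map (homOfLE (inf_le_left : O ⊓ f ⁻¹ᵁ V ≤ O)).op) (a - b)) := by
    rw [Scheme.basicOpen_res]
    exact ⟨⟨X'.basicOpen_le _ hx1, hx2⟩, hx1⟩
  rw [h0] at h1
  simp at h1

end Groth.Agent.S3842
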