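import Groth.Statements.S3846
import Mathlib.AlgebraicGeometry.Morphisms.FormallyUnramified
-- import your own Groth.Agent.* helpers here

set_option autoImplicit false
universe u
open CategoryTheory CategoryTheory.Limits AlgebraicGeometry TopologicalSpace
open Unram17

namespace Groth.Agent.S3846

/-- a) iff b''): let f : X → Y be locally of finite presentation and x a point of X. Then f is
unramified on some open neighbourhood of x if and only if, for every base change g : Y' → Y and
every section s' of X ×_Y Y' → Y', s' is a local isomorphism at every point y' of Y' such that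
s'(y') lies over x. -/
theorem result {X Y : Scheme.{u}} (f : X ⟶ Y) [LocallyOfFinitePresentation f]
    (x : ↥X) :
    (∃ U : X.Opens, x ∈ U ∧ FormallyUnramified (U.ι ≫ f)) ↔
      ∀ (Y' : Scheme.{u}) (g : Y' ⟶ Y) (s' : Y' ⟶ pullback f g), s' ≫ pullback.snd f g = 𝟙 Y' →
        ∀ y' : ↥Y', pullback.fst f g (s' y') = x → SchLoc.IsLocalIsoAt s' y' := by
  constructor
  · rintro ⟨U, hxU, hU⟩ Y' g s' hs' y' hy'
    let W : (pullback f g).Opens := pullback.fst f g ⁻¹ᵁ U
    let V : Y'.Opens := s' ⁻¹ᵁ W
    have hyV : y' ∈ V := by
      show pullback.fst f g (s' y') ∈ U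
      rw [hy']
      exact hxU
    refine ⟨V, hyV, ?_⟩
    let j := pullback.map (U.ι ≫ f) g f g U.ι (𝟙 _) (𝟙 _) (by simp) (by simp)
    haveI : LocallyOfFiniteType (U.ι ≫ f) := inferInstance
    have hrange : Set.range (V.ι ≫ s' ≫ pullback.fst f g) ⊆ Set.range U.ι := by
      rintro _ ⟨v, rfl⟩
      rw [Scheme.Opens.range_ι]
      exact v.2
    let l : (V : Scheme.{u}) ⟶ U := IsOpenImmersion.lift U.ι (V.ι ≫ s' ≫ pullback.fst f g) hrange
    let t : (V : Scheme.{u}) ⟶ pullback (U.ι ≫ f) g := pullback.lift l (V.ι) (by
      rw [IsOpenImmersion.lift_fac_assoc, Category.assoc, Category.assoc, pullback.condition,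
        reassoc_of% hs'])
    have ht : t ≫ j = V.ι ≫ s' := by
      refine pullback.hom_ext ?_ ?_
      · simp only [t, j, pullback.map, Category.assoc, pullback.lift_fst, pullback.lift_fst_assoc, l,
          IsOpenImmersion.lift_fac]
      · simp only [t, j, pullback.map, Category.assoc, pullback.lift_snd, pullback.lift_snd_assoc,
          Category.comp_id, hs']
    haveI : FormallyUnramified (pullback.snd (U.ι ≫ f) g) :=
      MorphismProperty.pullback_snd _ _ hU
    haveI hpost : MorphismProperty.HasOfPostcompProperty @IsOpenImmersion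
        (@LocallyOfFiniteType ⊓ @FormallyUnramified) := by
      rw [MorphismProperty.hasOfPostcompProperty_iff_le_diagonal]
      intro A B k ⟨hk1, hk2⟩
      haveI := hk1
      haveI := hk2
      exact FormallyUnramified.isOpenImmersion_diagonal k
    haveI : IsOpenImmersion t :=
      MorphismProperty.of_postcomp (W := @IsOpenImmersion) (W' := @LocallyOfFiniteType ⊓ @FormallyUnramified)
        t (pullback.snd (U.ι ≫ f) g) ⟨inferInstance, inferInstance⟩
        (by rw [pullback.lift_snd]; infer_instance)
    rw [← ht]
    infer_instance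
  · intro h
    obtain ⟨U, hxU, hU⟩ := h X f (pullback.diagonal f) (pullback.diagonal_snd f) x
      (by rw [← Scheme.Hom.comp_apply, pullback.diagonal_fst]; rfl)
    refine ⟨U, hxU, ?_⟩
    let j := pullback.map (U.ι ≫ f) (U.ι ≫ f) f f U.ι U.ι (𝟙 _) (by simp) (by simp)
    have e : pullback.diagonal (U.ι ≫ f) ≫ j = U.ι ≫ pullback.diagonal f := by
      refine pullback.hom_ext ?_ ?_
      · rw [Category.assoc, pullback.lift_fst, pullback.diagonal_fst_assoc, Category.assoc,
          pullback.diagonal_fst, Category.comp_id]
      · rw [Category.assoc, pullback.lift_snd, pullback.diagonal_snd_assoc, Category.assoc,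
          pullback.diagonal_snd, Category.comp_id]
    haveI : IsOpenImmersion (pullback.diagonal (U.ι ≫ f) ≫ j) := e ▸ hU
    haveI : IsOpenImmersion (pullback.diagonal (U.ι ≫ f)) := IsOpenImmersion.of_comp _ j
    infer_instance

end Groth.Agent.S3846
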