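import Groth.Statements.S3847
import Groth.Agent.ComplDeriv.Bound

set_option autoImplicit false
universe u
open EGA418

namespace Groth.Agent.S3847

/-- Let k be a field, A a complete Noetherian local k-algebra whose residue field is a finite extension
of k, p a prime ideal of A and q a minimal prime ideal of A contained in p. Let Ω̂ be the completion
of the module of differentials of A over k for the topology of the maximal ideal. Then the minimal
number of generators of the A_p-module Ω̂_p (the rank of its fibre at p) is at least dim(A/q). -/
theorem result (k A : Type u) [Field k] [CommRing A]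
    [IsLocalRing A] [IsNoetherianRing A] [Algebra k A]
    [IsAdicComplete (IsLocalRing.maximalIdeal A) A]
    [Module.Finite k (IsLocalRing.ResidueField A)]
    (p q : Ideal A) [p.IsPrime] (hq : q ∈ minimalPrimes A) (hqp : q ≤ p) :
    ringKrullDim (A ⧸ q) ≤
      (Cardinal.toENat (Module.rank p.ResidueField
        (TensorProduct A p.ResidueField
          (AdicCompletion (IsLocalRing.maximalIdeal A) (KaehlerDifferential k A)))) : WithBot ℕ∞) := by
  classical
  have := hq.isPrime
  let B := A ⧸ q
  let m := IsLocalRing.maximalIdeal A
  have : IsLocalRing B := .of_surjective' (Ideal.Quotient.mk q) Ideal.Quotient.mk_surjective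
  have : IsAdicComplete (IsLocalRing.maximalIdeal B) B := by
    rw [← IsLocalRing.map_maximalIdeal_of_surjective (Ideal.Quotient.mk q) Ideal.Quotient.mk_surjective]
    exact AdicLim.isAdicComplete_quotient q
  have hloc : IsLocalHom (Ideal.Quotient.mk q) :=
    IsLocalHom.of_surjective _ Ideal.Quotient.mk_surjective
  have : Module.Finite k (IsLocalRing.ResidueField B) := by
    let f : IsLocalRing.ResidueField A →ₗ[k] IsLocalRing.ResidueField B :=
      { toFun := IsLocalRing.ResidueField.map (Ideal.Quotient.mk q)
        map_add' := map_add _
        map_smul' := fun c x => by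
          obtain ⟨x, rfl⟩ := IsLocalRing.residue_surjective x
          rw [RingHom.id_apply, Algebra.smul_def, Algebra.smul_def, map_mul]
          rfl }
    refine Module.Finite.of_surjective f fun y => ?_
    obtain ⟨y, rfl⟩ := IsLocalRing.residue_surjective y
    obtain ⟨y, rfl⟩ := Ideal.Quotient.mk_surjective y
    exact ⟨IsLocalRing.residue A y, rfl⟩
  obtain ⟨d, D, hd, hD⟩ := ComplDeriv.exists_derivations_domain k B
  let N := Fin d → B
  let δ : Derivation k A N :=
    { toFun := fun a i => D i (Ideal.Quotient.mk q a)
      map_add' := fun a b => funext fun i => by rw [map_add, map_add]; rfl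
      map_smul' := fun c a => funext fun i => by
        change D i (Ideal.Quotient.mk q (c • a)) = c • D i (Ideal.Quotient.mk q a)
        rw [← Derivation.map_smul]
        rfl
      map_one_eq_zero' := funext fun i => by
        change D i (Ideal.Quotient.mk q 1) = 0
        rw [map_one, Derivation.map_one_eq_zero]
      leibniz' := fun a b => funext fun i => by
        change D i (Ideal.Quotient.mk q (a * b)) =
          a • D i (Ideal.Quotient.mk q b) + b • D i (Ideal.Quotient.mk q a)
        rw [map_mul, Derivation.leibniz, smul_eq_mul, smul_eq_mul, Algebra.smul_def, Algebra.smul_def]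
        rfl }
  let l := δ.liftKaehlerDifferential
  have hNc : IsAdicComplete m N := AdicLim.isAdicComplete_of_finite N
  let lh : AdicCompletion m (KaehlerDifferential k A) →ₗ[A] N :=
    (AdicCompletion.ofLinearEquiv m N).symm.toLinearMap ∘ₗ (AdicCompletion.map m l).restrictScalars A
  have hlh : ∀ w, lh (AdicCompletion.of m _ w) = l w := fun w => by
    change (AdicCompletion.ofLinearEquiv m N).symm (AdicCompletion.map m l (AdicCompletion.of m _ w)) = l w
    rw [AdicCompletion.map_of, LinearEquiv.symm_apply_eq]
    rfl
  let M := LinearMap.range lh
  have hM : ∀ g : Fin d → FractionRing B,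
      (∀ m' ∈ M, ∑ i, g i * algebraMap B (FractionRing B) (m' i) = 0) → ∀ i, g i = 0 := by
    intro g hg
    refine hD g fun b => ?_
    obtain ⟨a, rfl⟩ := Ideal.Quotient.mk_surjective b
    refine hg (fun i => D i (Ideal.Quotient.mk q a)) ⟨AdicCompletion.of m _ (KaehlerDifferential.D k A a), ?_⟩
    rw [hlh]
    exact δ.liftKaehlerDifferential_comp_D a
  have h1 := ComplDeriv.le_rank_of_span M hM p ((Ideal.Quotient.algebraMap_eq q).symm ▸ Ideal.mk_ker.trans_le hqp)
  rw [hd]
  refine le_trans (WithBot.coe_le_coe.mpr (h1.trans (OrderHomClass.mono _ ?_))) le_rfl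
  exact LinearMap.rank_le_of_surjective (lh.rangeRestrict.baseChange p.ResidueField)
    (LinearMap.lTensor_surjective _ lh.surjective_rangeRestrict)

end Groth.Agent.S3847
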