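import Groth.Statements.S3848
import Groth.Agent.SectExt.Basic
-- import your own Groth.Agent.* helpers here

set_option autoImplicit false
universe u
open CategoryTheory CategoryTheory.Limits AlgebraicGeometry TopologicalSpace
open Rat20

namespace Groth.Agent.S3848

/-- In the case S = X (valuative criterion for a rational map to be defined at a point): let X be a
locally Noetherian scheme, q : Y → X a morphism locally of finite type, U a dense open subset of X,
h : U → Y a section of q over U, x a point of X outside U whose local ring is an integrally closed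
domain, and y₀ a point of Y over x with trivial residue field extension (an X-morphism Spec k(x) →
Y). Then h extends to a section h' of q over an open subset U' containing U and x with h'(x) = y₀ if
and only if: for every discrete valuation ring R and every morphism u : Spec R → X sending the
closed point to x and the generic point into U, there is a morphism h₁ : Spec R → Y over X sending
the closed point to y₀ and agreeing with h at the generic point. -/
theorem result {X Y : Scheme.{u}} [IsLocallyNoetherian X] (q : Y ⟶ X)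
    [LocallyOfFiniteType q] (U : X.Opens) (hU : Dense (U : Set ↥X)) (h : (U : Scheme.{u}) ⟶ Y)
    (hh : h ≫ q = U.ι) (x : ↥X) (hxU : x ∉ U) [IsDomain ↑(X.presheaf.stalk x)]
    (hx : IsIntegrallyClosed ↑(X.presheaf.stalk x)) (y₀ : ↥Y) (hy₀ : q y₀ = x)
    (hk : Function.Bijective (q.residueFieldMap y₀)) :
    (∃ (U' : X.Opens) (hUU' : U ≤ U') (hxU' : x ∈ U') (h' : (U' : Scheme.{u}) ⟶ Y),
        h' ≫ q = U'.ι ∧ X.homOfLE hUU' ≫ h' = h ∧ h' ⟨x, hxU'⟩ = y₀) ↔
      ∀ (R : Type u) [CommRing R] [IsDomain R] [IsDiscreteValuationRing R]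
        (u : Spec (CommRingCat.of R) ⟶ X), u (IsLocalRing.closedPoint R) = x →
        ∀ ub : Spec (CommRingCat.of (FractionRing R)) ⟶ (U : Scheme.{u}),
          ub ≫ U.ι = Spec.map (CommRingCat.ofHom (algebraMap R (FractionRing R))) ≫ u →
          ∃ h₁ : Spec (CommRingCat.of R) ⟶ Y, h₁ ≫ q = u ∧ h₁ (IsLocalRing.closedPoint R) = y₀ ∧
            Spec.map (CommRingCat.ofHom (algebraMap R (FractionRing R))) ≫ h₁ = ub ≫ h := by
  obtain ⟨W, hxW, hWaff, hW⟩ := SectExt.exists_isIntegral_nhd x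
  haveI := hW
  haveI : Nonempty (W : Scheme.{u}) := ⟨⟨x, hxW⟩⟩
  constructor
  · rintro ⟨U', hUU', hxU', h', hh', hh'', hy'⟩ R _ _ _ u hu ub hub
    obtain ⟨r, hr⟩ : ∃ r : Spec (CommRingCat.of R) ⟶ (U' : Scheme.{u}), r ≫ U'.ι = u := by
      refine ⟨IsOpenImmersion.lift U'.ι u ?_, IsOpenImmersion.lift_fac _ _ _⟩
      rintro _ ⟨a, rfl⟩
      rw [Scheme.Opens.range_ι]
      exact ((IsLocalRing.specializes_closedPoint a).map u.continuous).mem_open U'.isOpen
        (hu.symm ▸ hxU')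
    refine ⟨r ≫ h', by rw [Category.assoc, hh', hr], ?_, ?_⟩
    · rw [Scheme.Hom.comp_apply, show r (IsLocalRing.closedPoint R) = ⟨x, hxU'⟩ from
        U'.ι.isOpenEmbedding.injective (by rw [← Scheme.Hom.comp_apply, hr, hu]; rfl), hy']
    · rw [← hh'', ← Category.assoc, ← Category.assoc]
      congr 1
      rw [← cancel_mono U'.ι, Category.assoc, Category.assoc, hr, Scheme.homOfLE_ι, hub]
  · intro H
    have hnbr : ∀ b : U, b.1 ⤳ x → h b ⤳ y₀ := by
      intro b hb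
      obtain ⟨R, i1, i2, i3, u, g, hu, hg, hgb⟩ :=
        SectExt.exists_dvr_of_specializes U.ι b x hb (fun e => hxU (e ▸ b.2))
      obtain ⟨h₁, -, hc, he⟩ := H R u hu g hg
      rw [← hgb, ← Scheme.Hom.comp_apply, ← he, Scheme.Hom.comp_apply, ← hc]
      exact (IsLocalRing.specializes_closedPoint _).map h₁.continuous
    let w₀ : X := (genericPoint (W : Scheme.{u})).1
    have hspec : ∀ y ∈ W, w₀ ⤳ y := fun y hy =>
      ((genericPoint_spec (W : Scheme.{u})).specializes (y := ⟨y, hy⟩) trivial).map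
        continuous_subtype_val
    have hwU : w₀ ∈ U := by
      obtain ⟨y, hyW, hyU⟩ := hU.inter_open_nonempty _ W.isOpen ⟨x, hxW⟩
      exact (hspec y hyW).mem_open U.isOpen hyU
    obtain ⟨Y₀, hY₀, hyY, hYW⟩ := exists_isAffineOpen_mem_and_subset
      (show y₀ ∈ q ⁻¹ᵁ W from (show q y₀ ∈ W by rw [hy₀]; exact hxW))
    let U₁ : X.Opens := U.ι ''ᵁ (h ⁻¹ᵁ Y₀) ⊓ W
    have hU₁U : U₁ ≤ U := inf_le_left.trans (U.ι_image_le _)
    have hmem : ∀ (b : X) (hb : b ∈ U), h ⟨b, hb⟩ ∈ Y₀ → b ∈ W → b ∈ U₁ := fun b hb hby hbW =>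
      ⟨⟨⟨b, hb⟩, hby, rfl⟩, hbW⟩
    let hY : (U₁ : Scheme.{u}) ⟶ (Y₀ : Scheme.{u}) :=
      IsOpenImmersion.lift Y₀.ι (X.homOfLE hU₁U ≫ h) (by
        rintro _ ⟨a, rfl⟩
        rw [Scheme.Opens.range_ι]
        obtain ⟨c, hc, hca⟩ := a.2.1
        rw [Scheme.Hom.comp_apply, show X.homOfLE hU₁U a = c from
          U.ι.isOpenEmbedding.injective (by rw [← Scheme.Hom.comp_apply, Scheme.homOfLE_ι]; exact hca.symm)]
        exact hc)
    have hhY : hY ≫ Y₀.ι = X.homOfLE hU₁U ≫ h := IsOpenImmersion.lift_fac _ _ _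
    let w : U₁ := ⟨w₀, hmem _ hwU ((hnbr ⟨w₀, hwU⟩ (hspec x hxW)).mem_open Y₀.isOpen hyY)
      (hspec x hxW |>.mem_open W.isOpen hxW)⟩
    have hval : ∀ a : U₁, (hY a).1 = h ⟨a.1, hU₁U a.2⟩ := by
      intro a
      have h1 := congrArg (fun g : (U₁ : Scheme.{u}) ⟶ Y => g a) hhY
      simp only [Scheme.Hom.comp_apply, Scheme.Opens.ι_apply] at h1
      rw [h1]
      exact congrArg h (U.ι.isOpenEmbedding.injective (by rw [← Scheme.Hom.comp_apply, Scheme.homOfLE_ι]; rfl))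
    haveI : IsAffine (Y₀ : Scheme.{u}) := hY₀
    haveI : IsAffine (W : Scheme.{u}) := hWaff
    haveI : IsSeparated (q.resLE W Y₀ hYW) := inferInstance
    let y₀' : Y₀ := ⟨y₀, hyY⟩
    have hqY : hY ≫ Y₀.ι ≫ q = U₁.ι := by rw [reassoc_of% hhY, hh, Scheme.homOfLE_ι]
    haveI : IsLocallyNoetherian (Y₀ : Scheme.{u}) := LocallyOfFiniteType.isLocallyNoetherian (Y₀.ι ≫ q)
    haveI : LocallyOfFiniteType hY := by
      haveI : LocallyOfFiniteType (hY ≫ Y₀.ι ≫ q) := by rw [hqY]; infer_instance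
      exact locallyOfFiniteType_of_comp hY (Y₀.ι ≫ q)
    -- the only point of the closure of the graph over `x` is `y₀`
    have huniq : ∀ y₁ : Y₀, q y₁.1 = x → hY w ⤳ y₁ → y₁ = y₀' := by
      intro y₁ hq hsp
      have hne : y₁ ≠ hY w := by
        intro e
        apply hxU
        rw [← hq, e, hval, ← Scheme.Hom.comp_apply, hh]
        exact hwU
      obtain ⟨R, i1, i2, i3, u₁, g, hu₁, hg, -⟩ := SectExt.exists_dvr_of_specializes hY w y₁ hsp hne
      obtain ⟨h₁, hh₁, hc, he⟩ := H R (u₁ ≫ Y₀.ι ≫ q)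
        (by rw [Scheme.Hom.comp_apply, hu₁]; exact hq) (g ≫ X.homOfLE hU₁U)
        (by rw [Category.assoc, Scheme.homOfLE_ι, ← hqY, reassoc_of% hg])
      have h1 : h₁ = u₁ ≫ Y₀.ι := by
        refine UnivClosed.ext_of_mem (O := CommRingCat.of R) hY₀ _ _ (hc.symm ▸ hyY) (Subtype.mem _)
          (CommRingCat.ofHom (algebraMap R (FractionRing R))) (IsFractionRing.injective R _) ?_
        rw [he, Category.assoc, ← hhY, reassoc_of% hg]
      apply Subtype.ext
      change y₁.1 = y₀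
      rw [← hc, h1, Scheme.Hom.comp_apply, hu₁]
      rfl
    have hspY : hY w ⤳ y₀' := by
      rw [← Y₀.ι.isOpenEmbedding.toIsInducing.specializes_iff, Scheme.Opens.ι_apply, hval]
      exact hnbr _ (hspec x hxW)
    have hgenU₁ : ∀ a, hY w ⤳ hY a := fun a => by
      refine Specializes.map ?_ hY.continuous
      exact U₁.ι.isOpenEmbedding.toIsInducing.specializes_iff.mp (hspec _ a.2.2)
    obtain ⟨V, v, hxV, hVW, hv, hag⟩ := SectExt.exists_ext q W x hxW hx Y₀ hYW U₁ inf_le_right hY hqY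
      w y₀' hy₀ hspY ⟨⊤, trivial, fun y₁ _ hq hcl => huniq y₁ hq (specializes_iff_mem_closure.mpr
        (closure_minimal (by rintro _ ⟨a, rfl⟩; exact (hgenU₁ a).mem_closure) isClosed_closure hcl))⟩
    have hvx : (v ⟨x, hxV⟩) = y₀' := by
      refine huniq _ ?_ ?_
      · have h1 := congrArg (fun g : (V : Scheme.{u}) ⟶ X => g ⟨x, hxV⟩) hv
        simp only [Scheme.Hom.comp_apply, Scheme.Opens.ι_apply] at h1
        exact h1
      · have hwV : w₀ ∈ V := (hspec x hxW).mem_open V.isOpen hxV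
        have h1 := congrArg (fun g : ((U₁ ⊓ V : X.Opens) : Scheme.{u}) ⟶ Y₀ => g ⟨w₀, w.2, hwV⟩) hag
        have h2 : v ⟨w₀, hwV⟩ ⤳ v ⟨x, hxV⟩ := by
          refine Specializes.map ?_ v.continuous
          exact V.ι.isOpenEmbedding.toIsInducing.specializes_iff.mp (hspec x hxW)
        simp only [Scheme.Hom.comp_apply] at h1
        rw [show X.homOfLE (inf_le_left : U₁ ⊓ V ≤ U₁) ⟨w₀, w.2, hwV⟩ = w from
            U₁.ι.isOpenEmbedding.injective (by rw [← Scheme.Hom.comp_apply, Scheme.homOfLE_ι]; rfl),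
          show X.homOfLE (inf_le_right : U₁ ⊓ V ≤ V) ⟨w₀, w.2, hwV⟩ = ⟨w₀, hwV⟩ from
            V.ι.isOpenEmbedding.injective (by rw [← Scheme.Hom.comp_apply, Scheme.homOfLE_ι]; rfl)] at h1
        exact h1 ▸ h2
    -- shrink `V`
    obtain ⟨V', hV', hxV', hV'V⟩ := exists_isAffineOpen_mem_and_subset hxV
    haveI : IsNoetherianRing Γ(X, V') := IsLocallyNoetherian.component_noetherian (X := X) ⟨V', hV'⟩
    haveI : NoetherianSpace (V' : Set X) := noetherianSpace_of_isAffineOpen V' hV'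
    haveI : QuasiSober (V' : Set X) := V'.isOpen.isOpenEmbedding_subtypeVal.quasiSober
    let O : Set (V' : Set X) := Subtype.val ⁻¹' (U : Set X)
    let F : Set (V' : Set X) := (Subtype.val ⁻¹' (U.ι ''ᵁ (h ⁻¹ᵁ Y₀) : Set X))ᶜ
    have hxB : (⟨x, hxV'⟩ : (V' : Set X)) ∉ closure (O ∩ F) := fun hc => by
      obtain ⟨b, ⟨hbO, hbF⟩, hbx⟩ := SectExt.exists_specializes_of_mem_closure
        (U.isOpen.preimage continuous_subtype_val)
        ((U.ι ''ᵁ (h ⁻¹ᵁ Y₀)).isOpen.preimage continuous_subtype_val).isClosed_compl hc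
      exact hbF ⟨⟨b.1, hbO⟩, (hnbr ⟨b.1, hbO⟩ (hbx.map continuous_subtype_val)).mem_open Y₀.isOpen hyY, rfl⟩
    let V₂ : X.Opens := ⟨Subtype.val '' (closure (O ∩ F))ᶜ,
      V'.isOpen.isOpenEmbedding_subtypeVal.isOpenMap _ isClosed_closure.isOpen_compl⟩
    have hV₂ : V₂ ≤ V := by
      rintro _ ⟨a, -, rfl⟩
      exact hV'V a.2
    have hsub : U ⊓ V₂ ≤ U₁ ⊓ V := by
      rintro a ⟨haU, b, hb, rfl⟩
      refine ⟨⟨?_, hVW (hV'V b.2)⟩, hV'V b.2⟩
      by_contra hc
      exact hb (subset_closure ⟨haU, hc⟩)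
    obtain ⟨g, hg1, hg2⟩ := SectExt.exists_glue h (X.homOfLE hV₂ ≫ v ≫ Y₀.ι) (by
      have h1 := congrArg (X.homOfLE hsub ≫ · ≫ Y₀.ι) hag
      simpa only [Category.assoc, Scheme.homOfLE_homOfLE_assoc, hhY] using h1)
    have hxV₂ : x ∈ V₂ := ⟨⟨x, hxV'⟩, hxB, rfl⟩
    refine ⟨U ⊔ V₂, le_sup_left, Or.inr hxV₂, g, ?_, hg1, ?_⟩
    · refine SectExt.hom_ext_sup _ _ ?_ ?_
      · rw [reassoc_of% hg1, hh, Scheme.homOfLE_ι]
      · rw [reassoc_of% hg2]
        simp only [hv, Scheme.homOfLE_ι]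
    · have h1 : X.homOfLE (le_sup_right : V₂ ≤ U ⊔ V₂) ⟨x, hxV₂⟩ = ⟨x, Or.inr hxV₂⟩ :=
        (U ⊔ V₂).ι.isOpenEmbedding.injective (by rw [← Scheme.Hom.comp_apply, Scheme.homOfLE_ι]; rfl)
      rw [← h1, ← Scheme.Hom.comp_apply, hg2, Scheme.Hom.comp_apply, Scheme.Hom.comp_apply,
        show X.homOfLE hV₂ ⟨x, hxV₂⟩ = ⟨x, hxV⟩ from
          V.ι.isOpenEmbedding.injective (by rw [← Scheme.Hom.comp_apply, Scheme.homOfLE_ι]; rfl), hvx]
      rfl

end Groth.Agent.S3848
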