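import Groth.Statements.S3849
import Groth.Agent.SectExt.Basic
-- import your own Groth.Agent.* helpers here

set_option autoImplicit false
universe u
open CategoryTheory CategoryTheory.Limits AlgebraicGeometry TopologicalSpace
open Rat20

namespace Groth.Agent.S3849

/-- In the case S = X (sections of q : Y → X): let X be a locally Noetherian scheme, q : Y → X
separated, locally of finite type and locally quasi-finite, U a dense open subset of X, h : U → Y a
section of q over U, and x a point of X outside U whose local ring is an integrally closed domain.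
Then h extends to a section of q over an open subset containing U and x if and only if there exist a
discrete valuation ring R, a morphism u : Spec R → X sending the closed point to x and the generic
point into U, and a morphism Spec R → Y over X agreeing with h at the generic point. -/
theorem result {X Y : Scheme.{u}} [IsLocallyNoetherian X] (q : Y ⟶ X)
    [LocallyOfFiniteType q] [IsSeparated q] [LocallyQuasiFinite q] (U : X.Opens) (hU : Dense (U : Set ↥X))
    (h : (U : Scheme.{u}) ⟶ Y) (hh : h ≫ q = U.ι) (x : ↥X) (hxU : x ∉ U) [IsDomain ↑(X.presheaf.stalk x)]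
    (hx : IsIntegrallyClosed ↑(X.presheaf.stalk x)) :
    (∃ (U' : X.Opens) (hUU' : U ≤ U') (h' : (U' : Scheme.{u}) ⟶ Y),
        x ∈ U' ∧ h' ≫ q = U'.ι ∧ X.homOfLE hUU' ≫ h' = h) ↔
      ∃ (R : Type u) (_ : CommRing R) (_ : IsDomain R) (_ : IsDiscreteValuationRing R)
        (u : Spec (CommRingCat.of R) ⟶ X) (ub : Spec (CommRingCat.of (FractionRing R)) ⟶ (U : Scheme.{u}))
        (h₁ : Spec (CommRingCat.of R) ⟶ Y),
        u (IsLocalRing.closedPoint R) = x ∧
          ub ≫ U.ι = Spec.map (CommRingCat.ofHom (algebraMap R (FractionRing R))) ≫ u ∧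
          h₁ ≫ q = u ∧ Spec.map (CommRingCat.ofHom (algebraMap R (FractionRing R))) ≫ h₁ = ub ≫ h := by
  obtain ⟨W, hxW, -, hW⟩ := SectExt.exists_isIntegral_nhd x
  haveI := hW
  haveI : Nonempty (W : Scheme.{u}) := ⟨⟨x, hxW⟩⟩
  let w₀ : X := (genericPoint (W : Scheme.{u})).1
  have hspec : ∀ y ∈ W, w₀ ⤳ y := fun y hy =>
    ((genericPoint_spec (W : Scheme.{u})).specializes (y := ⟨y, hy⟩) trivial).map
      continuous_subtype_val
  have hwU : w₀ ∈ U := by
    obtain ⟨y, hyW, hyU⟩ := hU.inter_open_nonempty _ W.isOpen ⟨x, hxW⟩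
    exact (hspec y hyW).mem_open U.isOpen hyU
  constructor
  · rintro ⟨U', hUU', h', hxU', hh', hh''⟩
    obtain ⟨R, i1, i2, i3, u, g, hu, hg, -⟩ := SectExt.exists_dvr_of_specializes U.ι ⟨w₀, hwU⟩ x
      (hspec x hxW) (fun e => hxU (e ▸ hwU))
    obtain ⟨r, hr⟩ : ∃ r : Spec (CommRingCat.of R) ⟶ (U' : Scheme.{u}), r ≫ U'.ι = u := by
      refine ⟨IsOpenImmersion.lift U'.ι u ?_, IsOpenImmersion.lift_fac _ _ _⟩
      rintro _ ⟨a, rfl⟩
      rw [Scheme.Opens.range_ι]
      exact ((IsLocalRing.specializes_closedPoint a).map u.continuous).mem_open U'.isOpen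
        (hu.symm ▸ hxU')
    refine ⟨R, i1, i2, i3, u, g, r ≫ h', hu, hg, by rw [Category.assoc, hh', hr], ?_⟩
    rw [← hh'', ← Category.assoc, ← Category.assoc]
    congr 1
    rw [← cancel_mono U'.ι, Category.assoc, Category.assoc, hr, Scheme.homOfLE_ι, hg]
  · rintro ⟨R, i1, i2, i3, u, ub, h₁, hu, hub, hh₁, hgen⟩
    let K := FractionRing R
    let pt : Spec (CommRingCat.of K) := IsLocalRing.closedPoint K
    let b := ub pt
    let y₀' := h₁ (IsLocalRing.closedPoint R)
    have hy₀' : q y₀' = x := by rw [← Scheme.Hom.comp_apply, hh₁, hu]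
    have hby : h b ⤳ y₀' := by
      rw [← Scheme.Hom.comp_apply, ← hgen, Scheme.Hom.comp_apply]
      exact (IsLocalRing.specializes_closedPoint _).map h₁.continuous
    let U₁ : X.Opens := U ⊓ W
    let Y₀ : Y.Opens := q ⁻¹ᵁ W
    let hY : (U₁ : Scheme.{u}) ⟶ (Y₀ : Scheme.{u}) := IsOpenImmersion.lift Y₀.ι (X.homOfLE inf_le_left ≫ h) (by
      rintro _ ⟨a, rfl⟩
      rw [Scheme.Opens.range_ι]
      change q _ ∈ W
      rw [← Scheme.Hom.comp_apply, Category.assoc, hh, Scheme.homOfLE_ι]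
      exact a.2.2)
    have hhY : hY ≫ Y₀.ι = X.homOfLE inf_le_left ≫ h := IsOpenImmersion.lift_fac _ _ _
    haveI : IsSeparated (q.resLE W Y₀ le_rfl) := by
      rw [show q.resLE W Y₀ le_rfl = q ∣_ W by
        rw [← cancel_mono W.ι, Scheme.Hom.resLE_comp_ι, morphismRestrict_ι]]
      infer_instance
    have hbW : b.1 ∈ W := by
      have h1 : b.1 ⤳ x := by
        rw [show b.1 = q (h b) by rw [← Scheme.Hom.comp_apply, hh]; rfl, ← hy₀']
        exact hby.map q.continuous
      exact h1.mem_open W.isOpen hxW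
    let y₀ : Y₀ := ⟨y₀', show q y₀' ∈ W from hy₀'.symm ▸ hxW⟩
    obtain ⟨O, hO, hO'⟩ := isDiscrete_iff_forall_mem_exists_isOpen.mp
      (q.isDiscrete_preimage_singleton x) y₀' hy₀'
    obtain ⟨V, v, hxV, hVW, hv, hag⟩ := SectExt.exists_ext q W x hxW hx Y₀ le_rfl U₁ inf_le_right hY
      (by rw [reassoc_of% hhY, hh, Scheme.homOfLE_ι]) ⟨b.1, b.2, hbW⟩ y₀ hy₀' (by
        rw [← Y₀.ι.isOpenEmbedding.toIsInducing.specializes_iff, ← Scheme.Hom.comp_apply, hhY,
          Scheme.Hom.comp_apply]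
        rw [Scheme.Opens.ι_apply, show X.homOfLE (inf_le_left : U₁ ≤ U) ⟨b.1, b.2, hbW⟩ = b from U.ι.isOpenEmbedding.injective (by rw [← Scheme.Hom.comp_apply, Scheme.homOfLE_ι]; rfl)]; exact hby)
      ⟨Y₀.ι ⁻¹ᵁ ⟨O, hO⟩, (hO'.ge rfl).1, fun y₁ hy₁ hq _ => Subtype.ext (hO'.le ⟨hy₁, hq⟩)⟩
    obtain ⟨g, hg1, hg2⟩ := SectExt.exists_glue h (v ≫ Y₀.ι) (by
      have h1 := congrArg (X.homOfLE (le_inf (le_inf inf_le_left (inf_le_right.trans hVW)) inf_le_right :
        U ⊓ V ≤ U₁ ⊓ V) ≫ · ≫ Y₀.ι) hag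
      simpa only [Category.assoc, Scheme.homOfLE_homOfLE_assoc, hhY] using h1)
    refine ⟨U ⊔ V, le_sup_left, g, Or.inr hxV, ?_, hg1⟩
    refine SectExt.hom_ext_sup _ _ ?_ ?_
    · rw [reassoc_of% hg1, hh, Scheme.homOfLE_ι]
    · rw [reassoc_of% hg2, hv, Scheme.homOfLE_ι]

end Groth.Agent.S3849
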