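import Groth.Statements.S3850
import Groth.Agent.ComplDeriv.Free
import Groth.Agent.ComplDeriv.Etale

set_option autoImplicit false
universe u
open EGA418

namespace Groth.Agent.S3850

/-- b) iff c), in the case n = dim A: let k be a field, A a complete Noetherian local k-algebra whose
residue field is finite over k, of dimension n, p a non-maximal prime ideal of A contained in an
irreducible component of dimension n (there is a minimal prime q ⊆ p with dim A/q = n), and Ω̂ the
completion of the module of differentials of A over k for the topology of the maximal ideal. Then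
Ω̂_p is a free A_p-module of rank n if and only if there is a local k-algebra map u : k[[T_1, …,
T_n]] → A making A a finite algebra over the power series ring and étale over it at p. -/
theorem result (k A : Type u) [Field k] [CommRing A]
    [IsLocalRing A] [IsNoetherianRing A] [Algebra k A] [IsAdicComplete (IsLocalRing.maximalIdeal A) A]
    [Module.Finite k (IsLocalRing.ResidueField A)] (n : ℕ) (hn : ringKrullDim A = n)
    (p : Ideal A) [p.IsPrime] (hp : p ≠ IsLocalRing.maximalIdeal A)
    (hq : ∃ q ∈ minimalPrimes A, q ≤ p ∧ ringKrullDim (A ⧸ q) = n) :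
    (Module.Free (Localization.AtPrime p)
        (LocalizedModule p.primeCompl (AdicCompletion (IsLocalRing.maximalIdeal A) (KaehlerDifferential k A))) ∧
      Module.finrank (Localization.AtPrime p)
        (LocalizedModule p.primeCompl (AdicCompletion (IsLocalRing.maximalIdeal A) (KaehlerDifferential k A))) = n) ↔
      ∃ (_ : Algebra (MvPowerSeries (Fin n) k) A) (_ : IsScalarTower k (MvPowerSeries (Fin n) k) A),
        IsLocalHom (algebraMap (MvPowerSeries (Fin n) k) A) ∧ Module.Finite (MvPowerSeries (Fin n) k) A ∧
          Algebra.IsEtaleAt (MvPowerSeries (Fin n) k) p := by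
  classical
  obtain ⟨q, hq, hqp, hdim⟩ := hq
  have := hq.isPrime
  have hfinOm := (ComplDeriv.exists_finite_gen k A).1
  let P := MvPowerSeries (Fin n) k
  have hreg := PP16Lib.isRegularLocalRing_mvPowerSeries n k
  have : IsDomain P := NoZeroDivisors.to_isDomain _
  have : IsRegularRing P := RegularSerre.isRegularRing_of_isRegularLocalRing _
  have : IsIntegrallyClosed P := DepthLib.isIntegrallyClosed_of_isRegularLocalRing _
  have hPdim := CohenStruct.ringKrullDim_mvPowerSeries_le (Λ := k) n ∅
    (by rw [Finset.coe_empty, Ideal.span_empty]; exact IsLocalRing.isField_iff_maximalIdeal_eq.mp (Field.toIsField k))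
  have hinj : ∀ [Algebra P A] [Module.Finite P A], q.comap (algebraMap P A) = ⊥ := fun {_} {hf} => by
    have hfin : ((Ideal.Quotient.mk q).comp (algebraMap P A)).Finite :=
      (RingHom.Finite.of_surjective _ Ideal.Quotient.mk_surjective).comp (RingHom.finite_algebraMap.mpr hf)
    have h1 := CohenStruct.injective_of_finite_of_dim _ hfin (by simpa using hPdim) hdim.ge
    rw [RingHom.injective_iff_ker_eq_bot, ← RingHom.comap_ker, Ideal.mk_ker] at h1
    exact h1
  constructor
  · rintro ⟨hfree, hrank⟩
    let b := Module.finBasisOfFinrankEq (Localization.AtPrime p) _ hrank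
    have hV := ComplDeriv.finrank_fibre_le_of_span k A p b b.span_eq
    obtain ⟨_, _, hloc, hf, hu⟩ := ComplDeriv.exists_unramified k A p hp n hn.le hV
    exact ⟨inferInstance, inferInstance, hloc, hf, ComplDeriv.isEtaleAt_of_unramified (P := P) q p hqp hinj⟩
  · rintro ⟨_, _, hloc, hf, he⟩
    have hu : Algebra.IsUnramifiedAt P p := (inferInstance : Algebra.FormallyUnramified P (Localization.AtPrime p))
    have hregp : IsRegularLocalRing (Localization.AtPrime p) :=
      ComplDeriv.isRegularLocalRing_atPrime_of_unramified (P := P) q p hqp hinj
    have := DepthLib.isDomain_of_isRegularLocalRing (Localization.AtPrime p)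
    have hbot := ComplDeriv.map_minimalPrime_eq_bot hq hqp
    have hsp := ComplDeriv.span_of_unramified k A p (m := n)
    let b := Module.Basis.mk (ComplDeriv.linearIndependent_of_span k A q p hqp n hdim hbot _ hsp)
      ((ComplDeriv.localized_span_eq_top_iff p _).mpr hsp).ge
    exact ⟨Module.Free.of_basis b, (Module.finrank_eq_card_basis b).trans (Fintype.card_fin n)⟩
end Groth.Agent.S3850
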