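import Groth.Statements.S3852
import Mathlib
-- import your own Groth.Agent.* helpers here

set_option autoImplicit false
universe u
open FCompl

namespace Groth.Agent.S3852

open AlgebraicGeometry

theorem exists_finite_cover (X : Scheme.{u}) [CompactSpace X] :
    ∃ s : Set X.affineOpens, s.Finite ∧ ⨆ U : s, (U : X.affineOpens).1 = ⊤ := by
  obtain ⟨Us, hUs, hUf, hUc⟩ :=
    X.isBasis_affineOpens.exists_finite_of_isCompact (U := ⊤) isCompact_univ
  refine ⟨{U | U.1 ∈ Us}, hUf.preimage Subtype.val_injective.injOn, top_le_iff.mp ?_⟩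
  intro x hx
  rw [hUc] at hx
  obtain ⟨V, hV, hxV⟩ := TopologicalSpace.Opens.mem_sSup.mp hx
  exact TopologicalSpace.Opens.mem_iSup.mpr ⟨⟨⟨V, hUs hV⟩, hV⟩, hxV⟩


open AlgebraicGeometry in
/-- Second assertion; stated for quasi-coherent ideal sheaves, with the condition on supports as an
inclusion, which is what the proof uses: Let X be a Noetherian scheme and I, J ideal sheaves such
that the zero locus of J is contained in the zero locus of I. Then I^n ≤ J for some n ≥ 1. -/
theorem result
    (X : Scheme.{u}) [IsNoetherian X] (I J : X.IdealSheafData)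
    (h : (J.support : Set X) ⊆ I.support) :
    ∃ n : ℕ, I ^ (n + 1) ≤ J := by
  have hle : I ≤ J.radical := by
    rw [← Scheme.IdealSheafData.vanishingIdeal_support]
    exact Scheme.IdealSheafData.le_support_iff_le_vanishingIdeal.mp h
  obtain ⟨s, hs, hcov⟩ := exists_finite_cover X
  haveI : Finite s := hs
  have hex : ∀ U : s, ∃ n, (I.ideal (U : X.affineOpens)) ^ n ≤ J.ideal (U : X.affineOpens) := by
    intro U
    haveI : IsNoetherianRing Γ(X, (U : X.affineOpens).1) := IsLocallyNoetherian.component_noetherian _
    exact Ideal.exists_pow_le_of_le_radical_of_fg (hle _) (IsNoetherian.noetherian _)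
  choose n hn using hex
  haveI := Fintype.ofFinite s
  refine ⟨Finset.univ.sup n, Scheme.IdealSheafData.le_of_iSup_eq_top _ hcov fun U => ?_⟩
  rw [Scheme.IdealSheafData.ideal_pow, Pi.pow_apply]
  exact (Ideal.pow_le_pow_right ((Finset.le_sup (Finset.mem_univ U)).trans (Nat.le_succ _))).trans (hn U)

end Groth.Agent.S3852
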