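import Groth.Statements.S3853
import Groth.Agent.S3857
import Groth.Prelude.Def_FSch5
import Mathlib.RingTheory.Noetherian.OfPrime
-- import your own Groth.Agent.* helpers here

set_option autoImplicit false
universe u
open FCompl

namespace Groth.Agent.S3853

section
open AlgebraicGeometry CategoryTheory CategoryTheory.Limits

theorem isNoetherianRing_of_nilpotent {R T : Type u} [CommRing R] [CommRing T] [IsNoetherianRing T] (π : R →+* T)
    (hπ : Function.Surjective π) (hfg : (RingHom.ker π).FG) (hn : IsNilpotent (RingHom.ker π)) : IsNoetherianRing R := by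
  refine IsNoetherianRing.of_prime fun P hP => ?_
  obtain ⟨m, hm⟩ := hn
  have hle : RingHom.ker π ≤ P := hP.le_of_pow_le (n := m) (hm ▸ bot_le)
  obtain ⟨s, hs⟩ := (IsNoetherian.noetherian _ : (P.map π).FG)
  classical
  choose g hg using hπ
  have hspan : Ideal.span ((s.image g : Finset _) : Set R) ⊔ RingHom.ker π = P := by
    have h1 : (Ideal.span ((s.image g : Finset _) : Set R)).map π = P.map π := by
      rw [Ideal.map_span, ← hs, Finset.coe_image, Set.image_image]
      simp [hg]
    rw [RingHom.ker_eq_comap_bot, ← Ideal.comap_map_of_surjective π (fun y => ⟨g y, hg y⟩), h1,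
      Ideal.comap_map_of_surjective π (fun y => ⟨g y, hg y⟩), ← RingHom.ker_eq_comap_bot, sup_eq_left.mpr hle]
  exact hspan ▸ Submodule.FG.sup ⟨_, rfl⟩ hfg

/-- If the image of `I` modulo `I ^ m`, `2 ≤ m`, is finitely generated and `I` is nilpotent, then so is `I`. -/
theorem fg_of_nilpotent {R T : Type u} [CommRing R] [CommRing T] [IsNoetherianRing T] (π : R →+* T)
    (hπ : Function.Surjective π) (I : Ideal R) {m k : ℕ} (hm : 2 ≤ m) (hker : RingHom.ker π = I ^ m)
    (hk : I ^ k = ⊥) : I.FG := by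
  obtain ⟨s, hs⟩ := (IsNoetherian.noetherian _ : (I.map π).FG)
  classical
  choose g hg using hπ
  set G := Ideal.span ((s.image g : Finset _) : Set R)
  have h1 : G.map π = I.map π := by
    rw [Ideal.map_span, ← hs, Finset.coe_image, Set.image_image]
    simp [hg]
  have hle : RingHom.ker π ≤ I := hker ▸ Ideal.pow_le_self (by omega)
  have hG : G ≤ I := by
    refine (Ideal.le_comap_map (f := π)).trans ?_
    rw [h1, Ideal.comap_map_of_surjective π (fun y => ⟨g y, hg y⟩), ← RingHom.ker_eq_comap_bot]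
    exact sup_le le_rfl hle
  have h2 : I ≤ G ⊔ I * I := by
    refine (Ideal.le_comap_map (f := π)).trans ?_
    rw [← h1, Ideal.comap_map_of_surjective π (fun y => ⟨g y, hg y⟩), ← RingHom.ker_eq_comap_bot, hker, ← pow_two]
    exact sup_le_sup_left (Ideal.pow_le_pow_right hm) _
  have h3 : ∀ j, I ≤ G ⊔ I ^ j := by
    intro j
    induction j with
    | zero => rw [pow_zero, Ideal.one_eq_top, sup_top_eq]; exact le_top
    | succ j ih =>
      refine h2.trans (sup_le le_sup_left ((Ideal.mul_mono_right ih).trans ?_))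
      rw [Ideal.mul_sup, pow_succ']
      exact sup_le_sup_right Ideal.mul_le_right _
  have h4 := h3 k
  rw [hk, sup_bot_eq] at h4
  exact le_antisymm h4 hG ▸ ⟨_, rfl⟩

theorem isPullback_of_mono {A B C : Scheme.{u}} (a : A ⟶ B) (i : B ⟶ C) [Mono i] :
    IsPullback a (𝟙 A) i (a ≫ i) :=
  IsPullback.of_isLimit' ⟨(Category.id_comp _).symm⟩ <| PullbackCone.IsLimit.mk _ (fun s => s.snd)
    (fun s => (cancel_mono i).mp (by rw [Category.assoc]; exact s.condition.symm))
    (fun s => Category.comp_id _) fun s m _ h2 => by simpa using h2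

theorem step (𝔛 : FSch.Sys.{u}) (hF : 𝔛.IsFormal) (hA : 𝔛.IsAdic) [IsLocallyNoetherian (𝔛.X 0)]
    (hft : FSch.IdealFT (𝔛.ι 0).ker) (n : ℕ) (ih : IsLocallyNoetherian (𝔛.X n)) :
    IsLocallyNoetherian (𝔛.X (n + 1)) := by
  haveI := fun m => 𝔛.toX_isClosedImmersion hF m
  haveI := fun m => (hF m).1
  have e1 : (𝔛.toX (n + 1)).ker = (𝔛.toX (n + 2)).ker.comap (𝔛.ι (n + 1)) :=
    S3857.ker_eq_comap (isPullback_of_mono (𝔛.toX (n + 1)) (𝔛.ι (n + 1)))
  have e2 : ((𝔛.toX (n + 1)).ker) ^ (n + 2) = (𝟙 (𝔛.X (n + 1)) : _ ⟶ _).ker := by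
    rw [e1, ← S3857.comap_pow, ← hA (n + 1)]
    have h := isPullback_of_mono (𝟙 (𝔛.X (n + 1))) (𝔛.ι (n + 1))
    rw [Category.id_comp] at h
    exact (S3857.ker_eq_comap h).symm
  refine isLocallyNoetherian_of_affine_cover (S := fun U : (𝔛.X (n + 1)).affineOpens => U)
    (iSup_affineOpens_eq_top _) fun U => ?_
  set I := (𝔛.toX (n + 1)).ker.ideal U with hI
  have hnil : I ^ (n + 2) = ⊥ := by
    have h := congrArg (fun J : (𝔛.X (n + 1)).IdealSheafData => J.ideal U) e2
    simp only [Scheme.IdealSheafData.ideal_pow, Pi.pow_apply, Scheme.Hom.ker_apply] at h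
    rw [hI, Scheme.Hom.ker_apply, h]
    exact (RingHom.injective_iff_ker_eq_bot _).mp (ConcreteCategory.bijective_of_isIso _).1
  haveI : IsNoetherianRing Γ(𝔛.X 0, 𝔛.toX (n + 1) ⁻¹ᵁ U.1) :=
    IsLocallyNoetherian.component_noetherian ⟨_, U.2.preimage _⟩
  refine isNoetherianRing_of_nilpotent ((𝔛.toX (n + 1)).app U).hom
    ((𝔛.toX (n + 1)).app_surjective U U.2) ?_ ?_
  · rw [← Scheme.Hom.ker_apply]
    cases n with
    | zero =>
      have h0 : 𝔛.toX (0 + 1) = 𝔛.ι 0 := Category.id_comp _
      have := hft U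
      rw [hI] at *
      exact h0.symm ▸ this
    | succ m =>
      haveI : IsNoetherianRing Γ(𝔛.X (m + 1), 𝔛.ι (m + 1) ⁻¹ᵁ U.1) :=
        IsLocallyNoetherian.component_noetherian ⟨_, U.2.preimage _⟩
      refine fg_of_nilpotent ((𝔛.ι (m + 1)).app U).hom ((𝔛.ι (m + 1)).app_surjective U U.2) _ (m := m + 2)
        (by omega) ?_ hnil
      rw [← Scheme.Hom.ker_apply, hA (m + 1), Scheme.IdealSheafData.ideal_pow, Pi.pow_apply]
  · rw [← Scheme.Hom.ker_apply]
    exact ⟨n + 2, hnil⟩

end

open AlgebraicGeometry in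
/-- Levelwise part (formal schemes presented as systems of thickenings X_0 -> X_1 -> ...; the assertion
about the limit ring is in the affine recognition row). Let (X_n) be a system of schemes in which
every transition map is a surjective closed immersion and the kernel ideal of X_n -> X_(n+1) is the
(n+1)-st power of the kernel ideal of X_0 -> X_(n+1). If X_0 is locally Noetherian and the kernel
ideal of X_0 -> X_1 is of finite type, then every X_n is locally Noetherian. -/
theorem result
    (𝔛 : FSch.Sys.{u}) (hF : 𝔛.IsFormal) (hA : 𝔛.IsAdic) [IsLocallyNoetherian (𝔛.X 0)]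
    (hft : FSch.IdealFT (𝔛.ι 0).ker) (n : ℕ) : IsLocallyNoetherian (𝔛.X n) := by
  induction n with
  | zero => infer_instance
  | succ n ih => exact step 𝔛 hF hA hft n ih

end Groth.Agent.S3853
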