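import Groth.Statements.S3854
import Groth.Agent.ComplFormal.Basic


set_option autoImplicit false
universe u
open FCompl

namespace Groth.Agent.S3854

open AlgebraicGeometry in
/-- The completion along a closed subset, presented as the system of closed subschemes cut out by the
powers of an ideal sheaf: Let X be a locally Noetherian scheme and I an ideal sheaf on X. The closed
subschemes defined by I, I^2, I^3, ... with their inclusions form a locally Noetherian adic formal
system: each inclusion is a surjective closed immersion, the kernel ideal of the n-th inclusion is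
the (n+1)-st power of the kernel ideal of the composite inclusion from level 0, and every level is
locally Noetherian. -/
theorem result (X : Scheme.{u}) [IsLocallyNoetherian X]
    (𝓘 : X.IdealSheafData) : (FSch.completionAlong X 𝓘).IsLocNoethFormal := by

  have hι : ∀ n, CategoryTheory.CategoryStruct.comp ((FSch.completionAlong X 𝓘).ι n) ((𝓘 ^ (n + 1 + 1)).subschemeι) =
      (𝓘 ^ (n + 1)).subschemeι := fun n => Scheme.IdealSheafData.inclusion_subschemeι (FSch.pow_succ_le X 𝓘 n)
  have htoX : ∀ n, CategoryTheory.CategoryStruct.comp ((FSch.completionAlong X 𝓘).toX n) ((𝓘 ^ (n + 1)).subschemeι) =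
      (𝓘 ^ (0 + 1)).subschemeι := by
    intro n
    induction n with
    | zero => exact CategoryTheory.Category.id_comp _
    | succ m ih => exact (CategoryTheory.Category.assoc _ _ _).trans ((congrArg _ (hι m)).trans ih)
  exact ⟨fun n => ⟨Groth.Agent.ComplFormal.quasiCompact_of_fac _ (hι n),
      Groth.Agent.ComplFormal.surjective_of_fac _ (hι n)
        ((Scheme.IdealSheafData.support_pow_succ 𝓘 n).trans (Scheme.IdealSheafData.support_pow_succ 𝓘 (n + 1)).symm)⟩,
    fun n => Groth.Agent.ComplFormal.ker_eq_ker_pow _ _ (hι n) (htoX (n + 1)) (n + 1) (by rw [zero_add, pow_one]),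
    fun n => Groth.Agent.ComplFormal.isLocallyNoetherian_subscheme _⟩

end Groth.Agent.S3854
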