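import Groth.Statements.S3855
import Mathlib


set_option autoImplicit false
universe u
open FCompl

namespace Groth.Agent.S3855

open AlgebraicGeometry in
/-- Sufficiency (the formal spectrum presented as the system Spec(A/J) -> Spec(A/J^2) -> ...). For a
Noetherian ring A and an ideal J this system is a locally Noetherian adic formal system: the
transition maps are surjective closed immersions, the kernel ideal of Spec(A/J^(n+1)) ->
Spec(A/J^(n+2)) is the (n+1)-st power of that of Spec(A/J) -> Spec(A/J^(n+2)), and every level is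
locally Noetherian. -/
theorem result (A : Type u) [CommRing A] [IsNoetherianRing A] (J : Ideal A) :
    (FSch.spf A J).IsLocNoethFormal := by

  open CategoryTheory in
  have hker : ∀ {R T : Type u} [CommRing R] [CommRing T] (φ : R →+* T),
      (Spec.map (CommRingCat.ofHom φ)).ker = Scheme.IdealSheafData.ofIdealTop
        ((RingHom.ker φ).map (Scheme.ΓSpecIso (CommRingCat.of R)).inv.hom) := by
    intro R T _ _ φ
    rw [Scheme.ker_of_isAffine]
    congr 1
    have n := Scheme.ΓSpecIso_naturality (CommRingCat.ofHom φ)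
    have hT := (Scheme.ΓSpecIso (CommRingCat.of T)).commRingCatIsoToRingEquiv.injective
    refine le_antisymm (fun a ha => ?_) (Ideal.map_le_iff_le_comap.2 fun r hr => ?_)
    · have h := congrArg (fun t => t.hom a) n
      simp only [CommRingCat.hom_comp, RingHom.comp_apply, RingHom.mem_ker.1 ha, map_zero] at h
      have e := congrArg (fun t => t.hom a) (Scheme.ΓSpecIso (CommRingCat.of R)).hom_inv_id
      simp only [CommRingCat.hom_comp, RingHom.comp_apply, CommRingCat.hom_id, RingHom.id_apply] at e
      rw [← e]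
      exact Ideal.mem_map_of_mem _ (RingHom.mem_ker.2 h.symm)
    · refine RingHom.mem_ker.2 (hT ?_)
      have h := congrArg (fun t => t.hom ((Scheme.ΓSpecIso (CommRingCat.of R)).inv.hom r)) n
      have e := congrArg (fun t => t.hom r) (Scheme.ΓSpecIso (CommRingCat.of R)).inv_hom_id
      simp only [CommRingCat.hom_comp, RingHom.comp_apply, CommRingCat.hom_id, RingHom.id_apply] at h e
      rw [e] at h
      exact h.trans ((RingHom.mem_ker.1 hr).trans (map_zero _).symm)
  have hfs : ∀ n, Function.Surjective (Ideal.Quotient.factor (Ideal.pow_le_pow_right (I := J) (Nat.le_succ (n + 1)))) :=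
    fun n => Ideal.Quotient.factor_surjective _
  have hle : ∀ n, J ^ (n + 1) ≤ J ^ (0 + 1) := fun n => Ideal.pow_le_pow_right (by omega)
  have htoX : ∀ n, (FSch.spf A J).toX n = Spec.map (CommRingCat.ofHom (Ideal.Quotient.factor (hle n))) := by
    intro n
    induction n with
    | zero => rw [Ideal.Quotient.factor_eq]; exact (Spec.map_id _).symm
    | succ m ih =>
      show (FSch.spf A J).toX m ≫ Spec.map _ = _
      rw [ih]
      refine (Spec.map_comp _ _).symm.trans (congrArg Spec.map ?_)
      rw [← CommRingCat.ofHom_comp, Ideal.Quotient.factor_comp]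
  refine ⟨fun n => ⟨IsClosedImmersion.spec_of_surjective _ (hfs n), fun p => ?_⟩, fun n => ?_, fun n => ?_⟩
  · have hp : (Ideal.Quotient.mk (J ^ (n + 1 + 1))) '' (J ^ (n + 1) : Ideal A) ⊆ p.asIdeal := by
      rintro _ ⟨a, ha, rfl⟩
      refine p.isPrime.mem_of_pow_mem 2 ?_
      rw [← map_pow, Ideal.Quotient.eq_zero_iff_mem.2 (Ideal.pow_le_pow_right (by omega : n + 1 + 1 ≤ (n + 1) * 2)
        (by rw [pow_mul]; exact Ideal.pow_mem_pow ha 2))]
      exact zero_mem _
    have : p ∈ PrimeSpectrum.zeroLocus (RingHom.ker (Ideal.Quotient.factor (Ideal.pow_le_pow_right (I := J) (Nat.le_succ (n + 1)))) : Set (A ⧸ J ^ (n + 1 + 1))) := by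
      intro x hx
      obtain ⟨a, rfl⟩ := Ideal.Quotient.mk_surjective x
      exact hp ⟨a, Ideal.Quotient.eq_zero_iff_mem.1 hx, rfl⟩
    rw [← range_comap_of_surjective _ _ (hfs n)] at this
    exact this
  · rw [htoX (n + 1)]
    show (Spec.map _).ker = _
    refine (hker _).trans (Eq.trans ?_ (congrArg (· ^ (n + 1)) (hker (Ideal.Quotient.factor (hle (n + 1))))).symm)
    refine Scheme.IdealSheafData.ext_of_isAffine ?_
    simp only [Scheme.IdealSheafData.ideal_pow, Pi.pow_apply, Scheme.IdealSheafData.ofIdealTop_ideal]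
    simp only [Ideal.map_map, ← Ideal.map_pow]
    congr 1
    rw [Ideal.Quotient.factor_ker, Ideal.Quotient.factor_ker, ← Ideal.map_pow, zero_add, pow_one]
  · exact inferInstanceAs (IsLocallyNoetherian (Spec (CommRingCat.of (A ⧸ J ^ (n + 1)))))

end Groth.Agent.S3855
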