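import Groth.Statements.S3859
-- import your own Groth.Agent.* helpers here

set_option autoImplicit false
universe u
open FCompl

namespace Groth.Agent.S3859

open AlgebraicGeometry in
open CategoryTheory in
/-- In the presentation by systems of thickenings: For morphisms of systems X -> S and Y -> S, the
levelwise fibre product with its two projections is a fibre product in the category of systems; it
presents the fibre product of formal schemes when one factor is adic over the base, and otherwise
only up to cofinality of the levels. -/
theorem result {𝔛 𝔜 𝔖 : FSch.Sys.{u}} (f : 𝔛 ⟶ 𝔖) (g : 𝔜 ⟶ 𝔖) :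
    IsPullback (FSch.pullbackFst f g) (FSch.pullbackSnd f g) f g := by
  refine ⟨⟨FSch.Hom.ext (funext fun n => Limits.pullback.condition)⟩,
    ⟨Limits.PullbackCone.IsLimit.mk _ (fun c => ⟨fun n => Limits.pullback.lift
      ((c.fst : FSch.Hom _ _).app n) ((c.snd : FSch.Hom _ _).app n)
      (congrArg (fun (h : FSch.Hom c.pt 𝔖) => h.app n) c.condition), fun n => ?_⟩) ?_ ?_ ?_⟩⟩
  · dsimp [FSch.pullbackSys]
    refine Limits.pullback.hom_ext ?_ ?_
    · simp only [Category.assoc, Limits.pullback.map]
      erw [Limits.pullback.lift_fst, Limits.pullback.lift_fst_assoc, Limits.pullback.lift_fst]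
      exact (c.fst : FSch.Hom _ _).comm n
    · simp only [Category.assoc, Limits.pullback.map]
      erw [Limits.pullback.lift_snd, Limits.pullback.lift_snd_assoc, Limits.pullback.lift_snd]
      exact (c.snd : FSch.Hom _ _).comm n
  · exact fun c => FSch.Hom.ext (funext fun n => Limits.pullback.lift_fst _ _ _)
  · exact fun c => FSch.Hom.ext (funext fun n => Limits.pullback.lift_snd _ _ _)
  · intro c m h1 h2
    refine FSch.Hom.ext (funext fun n => Limits.pullback.hom_ext ?_ ?_)
    · exact (congrArg (fun (h : FSch.Hom c.pt 𝔛) => h.app n) h1).trans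
        (Limits.pullback.lift_fst _ _ _).symm
    · exact (congrArg (fun (h : FSch.Hom c.pt 𝔜) => h.app n) h2).trans
        (Limits.pullback.lift_snd _ _ _).symm

end Groth.Agent.S3859
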