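import Groth.Statements.S3860
import Mathlib
-- import your own Groth.Agent.* helpers here

set_option autoImplicit false
universe u
open FCompl

namespace Groth.Agent.S3860

open CategoryTheory

open AlgebraicGeometry in
/-- (Affine adic case; the formal spectra presented as the systems Spec(A/I^(n+1)) and Spec(B/K^(n+1)).)
Let I be an ideal of a ring A which is complete and separated for the I-adic topology, and K an
ideal of a ring B. Then φ ↦ (Spec of the induced maps B/K^(n+1) -> A/I^(n+1)) is a bijection from
the ring homomorphisms φ : B -> A with φ(K) ⊆ I onto the morphisms of systems from Spf(A) to Spf(B),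
i.e. the compatible families of morphisms Spec(A/I^(n+1)) -> Spec(B/K^(n+1)). -/
theorem result (A B : Type u) [CommRing A] [CommRing B] (I : Ideal A) (K : Ideal B)
    [IsAdicComplete I A] :
    Function.Bijective (fun φ : {φ : B →+* A // K ≤ I.comap φ} ↦ FSch.spfMap I K φ.1 φ.2) := by
  have key : ∀ (φ : {φ : B →+* A // K ≤ I.comap φ}) (n : ℕ) (b : B),
      (Spec.preimage ((FSch.spfMap I K φ.1 φ.2 : FSch.Hom _ _).app n)).hom
        (Ideal.Quotient.mk (K ^ (n + 1)) b) = Ideal.Quotient.mk (I ^ (n + 1)) (φ.1 b) := by
    intro φ n b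
    rw [FSch.spfMap_app]
    change (Spec.preimage (Spec.map _)).hom _ = _
    rw [Spec.preimage_map]
    rfl
  constructor
  · intro φ ψ h
    apply Subtype.ext
    refine RingHom.ext fun b => ?_
    apply IsHausdorff.eq_iff_smodEq (I := I).mpr
    intro n
    rw [smul_eq_mul, Ideal.mul_top, SModEq.sub_mem]
    have h1 := key φ n b
    have h2 := key ψ n b
    rw [show FSch.spfMap I K φ.1 φ.2 = FSch.spfMap I K ψ.1 ψ.2 from h] at h1
    rw [h1, Ideal.Quotient.eq] at h2
    exact Ideal.pow_le_pow_right (Nat.le_succ n) h2
  · intro F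
    let f : ∀ n, B →+* A ⧸ I ^ (n + 1) := fun n =>
      (Spec.preimage ((F : FSch.Hom _ _).app n)).hom.comp (Ideal.Quotient.mk (K ^ (n + 1)))
    have ha : StrictMono (fun n : ℕ => n + 1) := fun a b h => Nat.succ_lt_succ h
    have hf : ∀ {m}, (Ideal.Quotient.factorPow I (ha.monotone m.le_succ)).comp (f (m + 1)) = f m := by
      intro m
      have hc := (F : FSch.Hom _ _).comm m
      have e : CommRingCat.ofHom (Ideal.Quotient.factor (Ideal.pow_le_pow_right (I := K) (Nat.le_succ (m + 1))))
            ≫ Spec.preimage ((F : FSch.Hom _ _).app m) =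
          Spec.preimage ((F : FSch.Hom _ _).app (m + 1)) ≫
            CommRingCat.ofHom (Ideal.Quotient.factor (Ideal.pow_le_pow_right (I := I) (Nat.le_succ (m + 1)))) := by
        apply Spec.map_injective
        rw [Spec.map_comp, Spec.map_comp]; erw [Spec.map_preimage, Spec.map_preimage]
        exact hc
      ext b
      exact (congr($(e).hom (Ideal.Quotient.mk (K ^ (m + 1 + 1)) b))).symm
    let φ : B →+* A := IsAdicComplete.StrictMono.liftRingHom I ha f hf
    have hφ : ∀ n b, Ideal.Quotient.mk (I ^ (n + 1)) (φ b) = f n b := fun n b =>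
      IsAdicComplete.StrictMono.mk_liftRingHom I ha f hf (n := n) b
    have hK : K ≤ I.comap φ := fun k hk => by
      have h0 := hφ 0 k
      have hk0 : Ideal.Quotient.mk (K ^ (0 + 1)) k = 0 :=
        Ideal.Quotient.eq_zero_iff_mem.mpr (by simpa using hk)
      simp only [f, RingHom.comp_apply, hk0, map_zero, Ideal.Quotient.eq_zero_iff_mem] at h0
      simpa using h0
    refine ⟨⟨φ, hK⟩, ?_⟩
    refine FSch.Hom.ext (funext fun n => ?_)
    change Spec.map _ = _
    rw [← Spec.map_preimage ((F : FSch.Hom _ _).app n)]
    congr 1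
    ext1
    apply Ideal.Quotient.ringHom_ext
    refine RingHom.ext fun b => ?_
    exact hφ n b

end Groth.Agent.S3860
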