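import Groth.Statements.S3867
import Mathlib
-- import your own Groth.Agent.* helpers here

set_option autoImplicit false
universe u
open FCompl

namespace Groth.Agent.S3867

section
open CategoryTheory CategoryTheory.Limits AlgebraicGeometry

theorem isPushout_quot {A B : Type u} [CommRing A] [CommRing B] (φ : B →+* A) (I₁ I₂ : Ideal A) (K₁ K₂ : Ideal B)
    (hI : I₂ ≤ I₁) (hK : K₂ ≤ K₁) (h1 : K₁ ≤ I₁.comap φ) (h2 : K₂ ≤ I₂.comap φ) (heq : I₁ ≤ I₂ ⊔ K₁.map φ) :
    IsPushout (CommRingCat.ofHom (Ideal.quotientMap I₂ φ h2)) (CommRingCat.ofHom (Ideal.Quotient.factor hK))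
      (CommRingCat.ofHom (Ideal.Quotient.factor hI)) (CommRingCat.ofHom (Ideal.quotientMap I₁ φ h1)) := by
  have hw : ∀ b, Ideal.Quotient.factor hI (Ideal.quotientMap I₂ φ h2 b) =
      Ideal.quotientMap I₁ φ h1 (Ideal.Quotient.factor hK b) := fun b => by
    obtain ⟨b, rfl⟩ := Ideal.Quotient.mk_surjective b
    rfl
  refine ⟨⟨by ext b; exact hw (Ideal.Quotient.mk _ b)⟩, ⟨PushoutCocone.IsColimit.mk _ ?_ ?_ ?_ ?_⟩⟩
  · intro s
    refine CommRingCat.ofHom (Ideal.Quotient.lift I₁ (s.inl.hom.comp (Ideal.Quotient.mk I₂)) ?_)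
    intro x hx
    have hle : I₂ ⊔ K₁.map φ ≤ RingHom.ker (s.inl.hom.comp (Ideal.Quotient.mk I₂)) := by
      refine sup_le (fun a ha => ?_) (Ideal.map_le_iff_le_comap.mpr fun b hb => ?_)
      · rw [RingHom.mem_ker, RingHom.comp_apply, Ideal.Quotient.eq_zero_iff_mem.mpr ha, map_zero]
      · rw [Ideal.mem_comap, RingHom.mem_ker, RingHom.comp_apply]
        have hc := ConcreteCategory.congr_hom s.condition (Ideal.Quotient.mk K₂ b)
        change s.inl.hom (Ideal.Quotient.mk I₂ (φ b)) = s.inr.hom (Ideal.Quotient.mk K₁ b) at hc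
        rw [hc, Ideal.Quotient.eq_zero_iff_mem.mpr hb, map_zero]
    exact hle (heq hx)
  · intro s
    ext a
    rfl
  · intro s
    ext b
    exact ConcreteCategory.congr_hom s.condition (Ideal.Quotient.mk K₂ b)
  · intro s m hm1 hm2
    ext a
    exact ConcreteCategory.congr_hom hm1 (Ideal.Quotient.mk I₂ a)

end

open AlgebraicGeometry in
open CategoryTheory CategoryTheory.Limits AlgebraicGeometry in
/-- Formal spectra are presented as the systems Spec(A/I^(n+1)) and Spec(B/K^(n+1)), a morphism of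
systems being adic when all its squares are cartesian. Let A be a Noetherian ring, complete and
separated for the I-adic topology of an ideal I, K an ideal of a ring B and φ : B → A a ring
homomorphism with φ(K) ⊆ I. Then the induced morphism Spf(A) → Spf(B) is adic if and only if the
ideal of A generated by φ(K) is I. -/
theorem result (A B : Type u) [CommRing A] [CommRing B] [IsNoetherianRing A]
    (I : Ideal A) (K : Ideal B) [IsAdicComplete I A] (φ : B →+* A) (h : K ≤ I.comap φ) :
    FSch.IsAdicHom (FSch.spfMap I K φ h) ↔ K.map φ = I := by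
  have hIK : K.map φ ≤ I := Ideal.map_le_iff_le_comap.mpr h
  constructor
  · intro hadic
    have hI : I ≤ Ideal.jacobson ⊥ := IsAdicComplete.le_jacobson_bot I
    refine le_antisymm hIK ?_
    refine Submodule.le_of_le_smul_of_le_jacobson_bot (IsNoetherian.noetherian I) hI ?_
    rw [smul_eq_mul, ← pow_two, sup_comm]
    set J := I ^ 2 ⊔ K.map φ
    have h2 : I ^ (0 + 1 + 1) ≤ J := le_sup_left
    have hK1 : K ^ (0 + 1) ≤ J.comap φ := by
      rw [zero_add, pow_one]; exact Ideal.map_le_iff_le_comap.mp le_sup_right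
    let a := Spec.map (CommRingCat.ofHom (Ideal.Quotient.factor h2))
    let b := Spec.map (CommRingCat.ofHom (Ideal.quotientMap J φ hK1))
    have w : a ≫ ((FSch.spfMap I K φ h : FSch.Hom _ _).app (0 + 1)) = b ≫ (FSch.spf B K).ι 0 := by
      change Spec.map _ ≫ Spec.map _ = Spec.map _ ≫ Spec.map _
      rw [← Spec.map_comp, ← Spec.map_comp]
      congr 1
      ext x
      rfl
    obtain ⟨c, hc⟩ : ∃ c : Spec (CommRingCat.of (A ⧸ J)) ⟶ (FSch.spf A I).X 0, c ≫ (FSch.spf A I).ι 0 = a :=
      ⟨_, (hadic 0).lift_fst a b w⟩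
    intro x hx
    rw [← Ideal.Quotient.eq_zero_iff_mem]
    obtain ⟨c', rfl⟩ : ∃ c' : CommRingCat.of (A ⧸ I ^ (0 + 1)) ⟶ CommRingCat.of (A ⧸ J), Spec.map c' = c :=
      ⟨Spec.preimage c, Spec.map_preimage c⟩
    change Spec.map c' ≫ Spec.map _ = Spec.map _ at hc
    rw [← Spec.map_comp] at hc
    have := ConcreteCategory.congr_hom (Spec.map_injective hc) (Ideal.Quotient.mk _ x)
    change c' (Ideal.Quotient.mk (I ^ (0 + 1)) x) = Ideal.Quotient.mk J x at this
    rw [← this, Ideal.Quotient.eq_zero_iff_mem.mpr (by rwa [zero_add, pow_one]), map_zero]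
  · intro heq n
    have hp := isPushout_quot φ (I ^ (n + 1)) (I ^ (n + 1 + 1)) (K ^ (n + 1)) (K ^ (n + 1 + 1))
      (Ideal.pow_le_pow_right (Nat.le_succ _)) (Ideal.pow_le_pow_right (Nat.le_succ _))
      (FSch.pow_le_comap_pow I K φ h (n + 1)) (FSch.pow_le_comap_pow I K φ h (n + 1 + 1))
      (by rw [Ideal.map_pow, heq]; exact le_sup_right)
    exact isPullback_SpecMap_of_isPushout _ _ _ _ hp

end Groth.Agent.S3867
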