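import Groth.Statements.S3869
import Mathlib.RingTheory.AdicCompletion.Algebra
import Mathlib.RingTheory.Localization.Away.Basic
import Mathlib.RingTheory.LocalRing.Subring

set_option autoImplicit false
universe u
open FCompl

namespace Groth.Agent.S3869

/-- An element of a completion is a unit as soon as it is a unit modulo the ideal. -/
theorem isUnit_of_evalₐ_one {R : Type u} [CommRing R] (I : Ideal R) (x : AdicCompletion I R)
    (h : IsUnit (AdicCompletion.evalₐ I 1 x)) : IsUnit x := by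
  obtain ⟨a, rfl⟩ := AdicCompletion.mk_surjective I R x
  rw [AdicCompletion.evalₐ_mk] at h
  have key : ∀ n, ∃ b, a.val n * b - 1 ∈ I ^ n := by
    intro n
    rcases Nat.eq_zero_or_pos n with rfl | hn
    · exact ⟨0, by simp⟩
    obtain ⟨b, hb⟩ := h.exists_right_inv
    obtain ⟨b, rfl⟩ := Ideal.Quotient.mk_surjective b
    rw [← map_mul, ← map_one (Ideal.Quotient.mk (I ^ 1)), Ideal.Quotient.eq, pow_one] at hb
    have h2 : a.val n * b - 1 ∈ I := by
      have h3 : a.val 1 - a.val n ∈ I := by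
        simpa [SModEq.sub_mem] using a.property (show 1 ≤ n from hn)
      have h4 : a.val n * b - 1 = (a.val 1 * b - 1) - (a.val 1 - a.val n) * b := by ring
      rw [h4]; exact sub_mem hb (I.mul_mem_right _ h3)
    -- invert `1 + y` for `y ∈ I` modulo `I ^ n`
    set y := 1 - a.val n * b
    have hy : y ∈ I := by rw [show y = -(a.val n * b - 1) by ring]; exact neg_mem h2
    refine ⟨b * ∑ i ∈ Finset.range n, y ^ i, ?_⟩
    have h5 : a.val n * (b * ∑ i ∈ Finset.range n, y ^ i) - 1 = -(y ^ n) := by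
      rw [← mul_assoc, show a.val n * b = 1 - y by ring, mul_neg_geom_sum]
      ring
    rw [h5]
    exact neg_mem (Ideal.pow_mem_pow hy n)
  choose b hb using key
  have hc : AdicCompletion.IsAdicCauchy I R b := by
    rw [AdicCompletion.isAdicCauchy_iff]
    intro n
    rw [SModEq.sub_mem, smul_eq_mul, Ideal.mul_top]
    have h1 := Ideal.pow_le_pow_right (Nat.le_succ n) (hb (n + 1))
    have h2 : a.val n - a.val (n + 1) ∈ I ^ n := by
      simpa [SModEq.sub_mem] using a.property (Nat.le_succ n)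
    have h3 : b n - b (n + 1) =
        (a.val n * b n - 1) * b (n + 1) - (a.val (n + 1) * b (n + 1) - 1) * b n -
          (a.val n - a.val (n + 1)) * (b n * b (n + 1)) := by ring
    rw [h3]
    exact sub_mem (sub_mem (Ideal.mul_mem_right _ _ (hb n)) (Ideal.mul_mem_right _ _ h1))
      (Ideal.mul_mem_right _ _ h2)
  let β : AdicCompletion.AdicCauchySequence I R := ⟨b, hc⟩
  refine IsUnit.of_mul_eq_one (AdicCompletion.mk I R β) (AdicCompletion.ext_evalₐ fun n => ?_)
  rw [map_mul, map_one, AdicCompletion.evalₐ_mk, AdicCompletion.evalₐ_mk, ← map_mul,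
    ← map_one (Ideal.Quotient.mk (I ^ n)), Ideal.Quotient.eq]
  exact hb n

theorem evalₐ_complMap {S T : Type u} [CommRing S] [CommRing T] (I : Ideal S) (K : Ideal T) (g : S →+* T)
    (h : I.map g ≤ K) (n : ℕ) (x : AdicCompletion I S) :
    AdicCompletion.evalₐ K n (FSch.complMap I K g h x) =
      Ideal.quotientMap (K ^ n) g (FSch.pow_le_comap_pow_of_map_le I K g h n) (AdicCompletion.evalₐ I n x) :=
  by
  unfold FSch.complMap
  apply AdicCompletion.evalₐ_liftRingHom
  intro m n hle
  apply RingHom.ext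
  intro x
  obtain ⟨y, rfl⟩ := AdicCompletion.mk_surjective I S x
  simp only [RingHom.coe_comp, Function.comp_apply, AlgHom.toRingHom_eq_coe, AlgHom.coe_toRingHom,
  AdicCompletion.evalₐ_mk, Ideal.quotientMap_mk, Ideal.Quotient.factorPow, Ideal.Quotient.factor_mk]
  rw [Ideal.Quotient.eq]
  have hy := y.2 hle
  rw [SModEq.sub_mem] at hy
  simp only [smul_eq_mul, Ideal.mul_top] at hy
  rw [← map_sub]
  have hy' : (y : ℕ → S) n - (y : ℕ → S) m ∈ I ^ m := by
    rw [← neg_sub]; exact (I ^ m).neg_mem hy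
  exact FSch.pow_le_comap_pow_of_map_le I K g h m hy'

/-- Transition maps between the completed localizations. -/
theorem exists_transition {A : Type u} [CommRing A] (J 𝔭 : Ideal A) [𝔭.IsPrime] (f g : A) (hf : f ∉ 𝔭)
    (hfg : f * g ∉ 𝔭) :
    ∃ t : FSch.cAway A J f →+* FSch.cAway A J (f * g),
      (FSch.cAwayToAtPrime A J 𝔭 (f * g) hfg).comp t = FSch.cAwayToAtPrime A J 𝔭 f hf ∧
      ∀ z (a : A) (k : ℕ), AdicCompletion.evalₐ _ 1 z * Ideal.Quotient.mk _ (algebraMap A (Localization.Away f) f) ^ k =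
          Ideal.Quotient.mk _ (algebraMap A (Localization.Away f) a) →
        AdicCompletion.evalₐ _ 1 (t z) * Ideal.Quotient.mk _ (algebraMap A (Localization.Away (f * g)) f) ^ k =
          Ideal.Quotient.mk _ (algebraMap A (Localization.Away (f * g)) a) := by
  have hu : IsUnit (algebraMap A (Localization.Away (f * g)) f) :=
    isUnit_of_dvd_unit ⟨algebraMap A _ g, map_mul _ f g⟩
      (IsLocalization.Away.algebraMap_isUnit (S := Localization.Away (f * g)) (f * g))
  let l : Localization.Away f →+* Localization.Away (f * g) := IsLocalization.Away.lift f hu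
  have hl : ∀ a, l (algebraMap A _ a) = algebraMap A _ a := IsLocalization.Away.lift_eq f hu
  have hle : (J.map (algebraMap A (Localization.Away f))).map l ≤ J.map (algebraMap A (Localization.Away (f * g))) := by
    rw [Ideal.map_map]
    exact le_of_eq (congrArg (Ideal.map · J) (RingHom.ext hl))
  have hcomp : (FSch.awayToAtPrime A 𝔭 (f * g) hfg).comp l = FSch.awayToAtPrime A 𝔭 f hf :=
    IsLocalization.ringHom_ext (Submonoid.powers f) (RingHom.ext fun a => by
      simp only [RingHom.comp_apply, hl, FSch.awayToAtPrime, IsLocalization.Away.lift_eq])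
  refine ⟨FSch.complMap _ _ l hle, RingHom.ext fun z => AdicCompletion.ext_evalₐ fun n => ?_, fun z a k hz => ?_⟩
  · obtain ⟨c, hc⟩ := Ideal.Quotient.mk_surjective (AdicCompletion.evalₐ _ n z)
    simp only [RingHom.comp_apply, FSch.cAwayToAtPrime, evalₐ_complMap, ← hc, Ideal.quotientMap_mk, ← hcomp]
  · have h := congrArg (Ideal.quotientMap _ l (FSch.pow_le_comap_pow_of_map_le _ _ l hle 1)) hz
    rw [map_mul, map_pow, Ideal.quotientMap_mk, Ideal.quotientMap_mk, hl, hl, ← evalₐ_complMap] at h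
    exact h

/-- For a ring A, an ideal J and a prime ideal 𝔭, let A{S⁻¹}, S = A ∖ 𝔭, be the completion of A_𝔭 for
the topology defined by the extension of J, and for f ∉ 𝔭 let A_{f} be the completion of A_f for the
topology defined by the extension of J. Consider the subring A_{S} of A{S⁻¹} generated by the images
of all the A_{f}, f ∉ 𝔭 (when A is adic Noetherian and 𝔭 is open, this is the inductive limit of the
A_{f}, i.e. the stalk at 𝔭 of the structure sheaf of Spf(A) as a plain ring). If J ⊆ 𝔭, then A_{S}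
is a local ring and its inclusion into A{S⁻¹} is a local homomorphism. -/
theorem result (A : Type u) [CommRing A] (J : Ideal A) (𝔭 : Ideal A) [𝔭.IsPrime]
    (hJ : J ≤ 𝔭) :
    IsLocalRing (FSch.stalkSubring A J 𝔭) ∧ IsLocalHom (FSch.stalkSubring A J 𝔭).subtype := by
  let Rp := Localization.AtPrime 𝔭
  let Jp := J.map (algebraMap A Rp)
  -- the big ring is local and the images form a directed family
  have hJm : Jp ^ 1 ≤ IsLocalRing.maximalIdeal Rp := by
    rw [pow_one, Ideal.map_le_iff_le_comap]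
    exact hJ.trans_eq (Localization.AtPrime.under_maximalIdeal).symm
  have hne : Jp ^ 1 ≠ ⊤ := fun h => IsLocalRing.maximalIdeal.isMaximal Rp |>.ne_top (top_le_iff.mp (h ▸ hJm))
  have : Nontrivial (Rp ⧸ Jp ^ 1) := Ideal.Quotient.nontrivial_iff.mpr hne
  have : IsLocalRing (Rp ⧸ Jp ^ 1) := IsLocalRing.of_surjective' (Ideal.Quotient.mk _) Ideal.Quotient.mk_surjective
  have : IsLocalHom (Ideal.Quotient.mk (Jp ^ 1)) := IsLocalHom.of_surjective _ Ideal.Quotient.mk_surjective
  have : IsLocalHom (AdicCompletion.evalₐ Jp 1).toRingHom := ⟨fun z hz => isUnit_of_evalₐ_one Jp z hz⟩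
  have hlocC : IsLocalRing (FSch.cAtPrime A J 𝔭) :=
    RingHom.domain_isLocalRing (AdicCompletion.evalₐ Jp 1).toRingHom
  have hdir : Directed (· ≤ ·) fun f : {f : A // f ∉ 𝔭} => (FSch.cAwayToAtPrime A J 𝔭 f.1 f.2).range := by
    rintro ⟨f, hf⟩ ⟨g, hg⟩
    have hfg : f * g ∉ 𝔭 := fun h => (Ideal.IsPrime.mem_or_mem inferInstance h).elim hf hg
    obtain ⟨t, ht, -⟩ := exists_transition J 𝔭 f g hf hfg
    refine ⟨⟨f * g, hfg⟩, ?_, ?_⟩
    · rintro _ ⟨z, rfl⟩
      exact ⟨t z, DFunLike.congr_fun ht z⟩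
    · have hgf : g * f ∉ 𝔭 := mul_comm f g ▸ hfg
      obtain ⟨t', ht', -⟩ := exists_transition J 𝔭 g f hg hgf
      have key : ∀ (c : A) (hc : c ∉ 𝔭), c = g * f →
          (FSch.cAwayToAtPrime A J 𝔭 g hg).range ≤ (FSch.cAwayToAtPrime A J 𝔭 c hc).range := by
        rintro c hc rfl _ ⟨z, rfl⟩
        exact ⟨t' z, DFunLike.congr_fun ht' z⟩
      exact key (f * g) hfg (mul_comm f g)
  have hnonempty : Nonempty {f : A // f ∉ 𝔭} := ⟨⟨1, fun h => (inferInstance : 𝔭.IsPrime).ne_top ((Ideal.eq_top_iff_one _).mpr h)⟩⟩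
  have hloc : IsLocalHom (FSch.stalkSubring A J 𝔭).subtype := by
    constructor
    rintro ⟨y, hy⟩ (hu : IsUnit y)
    obtain ⟨⟨f, hf⟩, z, rfl⟩ := (Subring.mem_iSup_of_directed hdir).mp hy
    obtain ⟨c, hc⟩ := Ideal.Quotient.mk_surjective (AdicCompletion.evalₐ (J.map (algebraMap A (Localization.Away f))) 1 z)
    obtain ⟨⟨a, ⟨_, k, rfl⟩⟩, hak⟩ := IsLocalization.surj (Submonoid.powers f) c
    simp only [map_pow] at hak
    have ha : a ∉ 𝔭 := by
      have h1 := hu.map (AdicCompletion.evalₐ Jp 1)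
      rw [FSch.cAwayToAtPrime, evalₐ_complMap, ← hc, Ideal.quotientMap_mk] at h1
      have h2 : IsUnit (FSch.awayToAtPrime A 𝔭 f hf c) := IsUnit.of_map (Ideal.Quotient.mk (Jp ^ 1)) _ h1
      have h3 := congrArg (FSch.awayToAtPrime A 𝔭 f hf) hak
      simp only [map_mul, map_pow, FSch.awayToAtPrime, IsLocalization.Away.lift_eq] at h3
      refine (IsLocalization.AtPrime.isUnit_to_map_iff Rp 𝔭 a).mp ?_
      rw [← h3]
      exact IsUnit.mul h2 ((IsLocalization.map_units Rp (⟨f, hf⟩ : 𝔭.primeCompl)).pow k)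
    have hfa : f * a ∉ 𝔭 := fun h => (Ideal.IsPrime.mem_or_mem inferInstance h).elim hf ha
    obtain ⟨t, ht, hteval⟩ := exists_transition J 𝔭 f a hf hfa
    have htz : IsUnit (t z) := by
      refine isUnit_of_evalₐ_one _ _ ?_
      have h := hteval z a k (by rw [← hc, ← map_pow, ← map_mul, hak])
      have hua : IsUnit (algebraMap A (Localization.Away (f * a)) a) :=
        isUnit_of_dvd_unit ⟨algebraMap A _ f, by rw [← map_mul, mul_comm]⟩
          (IsLocalization.Away.algebraMap_isUnit (S := Localization.Away (f * a)) (f * a))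
      have h2 := hua.map (Ideal.Quotient.mk ((J.map (algebraMap A (Localization.Away (f * a)))) ^ 1))
      rw [← h] at h2
      exact isUnit_of_mul_isUnit_left h2
    let φ : FSch.cAway A J (f * a) →+* FSch.stalkSubring A J 𝔭 :=
      (FSch.cAwayToAtPrime A J 𝔭 (f * a) hfa).codRestrict _ fun w =>
        (Subring.mem_iSup_of_directed hdir).mpr ⟨⟨f * a, hfa⟩, w, rfl⟩
    have : φ (t z) = ⟨FSch.cAwayToAtPrime A J 𝔭 f hf z, hy⟩ := Subtype.ext (DFunLike.congr_fun ht z)
    exact this ▸ htz.map φ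
  exact ⟨RingHom.domain_isLocalRing (FSch.stalkSubring A J 𝔭).subtype, hloc⟩

end Groth.Agent.S3869
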