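import Groth.Statements.S3871
import Mathlib
import Groth.Agent.S3869
import Groth.Agent.CplFlat.RingMap
-- import your own Groth.Agent.* helpers here

set_option autoImplicit false
universe u
open FCompl

namespace Groth.Agent.S3871

theorem flat_directed {C : Type u} [CommRing C] (R : Subring C) {ι : Type u} (S : ι → Type u)
    [∀ i, CommRing (S i)] (ψ : ∀ i, S i →+* C) (hflat : ∀ i, (ψ i).Flat)
    (hR : ∀ i s, ψ i s ∈ R)
    (hcov : ∀ t : Finset C, (∀ c ∈ t, c ∈ R) → ∃ i, ∀ c ∈ t, c ∈ (ψ i).range) :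
    Module.Flat R C := by
  classical
  refine Module.Flat.of_forall_isTrivialRelation fun {l r x} hrel => ?_
  obtain ⟨i, hi⟩ := hcov (Finset.univ.image fun j => (r j : C)) (by simp)
  choose s hs using fun j => hi (r j : C) (Finset.mem_image.mpr ⟨j, Finset.mem_univ _, rfl⟩)
  have hfl := hflat i
  algebraize [ψ i]
  obtain ⟨n, a, y, hx, ha⟩ := Module.Flat.isTrivialRelation_of_sum_smul_eq_zero
    (R := S i) (M := C) (f := s) (x := x) (by
      rw [← hrel]
      exact Finset.sum_congr rfl fun j _ => by rw [Algebra.smul_def, Subring.smul_def, smul_eq_mul]; exact congrArg (· * x j) (hs j))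
  refine ⟨n, fun j k => ⟨ψ i (a j k), hR i _⟩, y, fun j => ?_, fun k => ?_⟩
  · rw [hx j]
    exact Finset.sum_congr rfl fun k _ => by rw [Algebra.smul_def, Subring.smul_def, smul_eq_mul]; rfl
  · apply Subtype.ext
    have := congrArg (ψ i) (ha k)
    rw [map_sum, map_zero] at this
    simpa [AddSubmonoidClass.coe_finset_sum, map_mul, hs] using this

theorem flat_stalk (A : Type u) [CommRing A] [IsNoetherianRing A]
    (J : Ideal A) (𝔭 : Ideal A) [𝔭.IsPrime] :
    Module.Flat (FSch.stalkSubring A J 𝔭) (FSch.cAtPrime A J 𝔭) := by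
  classical
  have hdir : Directed (· ≤ ·) fun f : {f : A // f ∉ 𝔭} => (FSch.cAwayToAtPrime A J 𝔭 f.1 f.2).range := by
    rintro ⟨f, hf⟩ ⟨g, hg⟩
    have hfg : f * g ∉ 𝔭 := fun h => (Ideal.IsPrime.mem_or_mem inferInstance h).elim hf hg
    obtain ⟨t, ht, -⟩ := Groth.Agent.S3869.exists_transition J 𝔭 f g hf hfg
    refine ⟨⟨f * g, hfg⟩, ?_, ?_⟩
    · rintro _ ⟨z, rfl⟩
      exact ⟨t z, DFunLike.congr_fun ht z⟩
    · have hgf : g * f ∉ 𝔭 := mul_comm f g ▸ hfg
      obtain ⟨t', ht', -⟩ := Groth.Agent.S3869.exists_transition J 𝔭 g f hg hgf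
      have key : ∀ (c : A) (hc : c ∉ 𝔭), c = g * f →
          (FSch.cAwayToAtPrime A J 𝔭 g hg).range ≤ (FSch.cAwayToAtPrime A J 𝔭 c hc).range := by
        rintro c hc rfl _ ⟨z, rfl⟩
        exact ⟨t' z, DFunLike.congr_fun ht' z⟩
      exact key (f * g) hfg (mul_comm f g)
  haveI hne : Nonempty {f : A // f ∉ 𝔭} :=
    ⟨⟨1, fun h => (inferInstance : 𝔭.IsPrime).ne_top ((Ideal.eq_top_iff_one _).mpr h)⟩⟩
  refine flat_directed (FSch.stalkSubring A J 𝔭) (fun f : {f : A // f ∉ 𝔭} => FSch.cAway A J f.1)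
    (fun f => FSch.cAwayToAtPrime A J 𝔭 f.1 f.2) (fun f => ?_)
    (fun f s => (Subring.mem_iSup_of_directed hdir).mpr ⟨f, s, rfl⟩) (fun t ht => ?_)
  · haveI : IsNoetherianRing (Localization.Away f.1) :=
      IsLocalization.isNoetherianRing (Submonoid.powers f.1) _ inferInstance
    refine Groth.Agent.CplFlat.flat_completion_ringHom (FSch.awayToAtPrime A 𝔭 f.1 f.2) ?_ _ _ ?_ _ ?_
    · letI := (FSch.awayToAtPrime A 𝔭 f.1 f.2).toAlgebra
      haveI : IsScalarTower A (Localization.Away f.1) (Localization.AtPrime 𝔭) :=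
        IsScalarTower.of_algebraMap_eq fun a => by simp [RingHom.algebraMap_toAlgebra, FSch.awayToAtPrime, IsLocalization.Away.lift_eq]
      haveI := IsLocalization.isLocalization_of_submonoid_le (Localization.Away f.1) (Localization.AtPrime 𝔭)
        (Submonoid.powers f.1) 𝔭.primeCompl (Submonoid.powers_le.mpr f.2)
      exact IsLocalization.flat (Localization.AtPrime 𝔭) (𝔭.primeCompl.map (algebraMap A (Localization.Away f.1)))
    · rw [Ideal.map_map]
      congr 1
      exact RingHom.ext fun a => by simp [FSch.awayToAtPrime, IsLocalization.Away.lift_eq]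
    · intro r
      refine AdicCompletion.ext_evalₐ fun n => ?_
      rw [FSch.cAwayToAtPrime, Groth.Agent.S3869.evalₐ_complMap]
      simp only [AlgHom.commutes]
      rfl
  · induction t using Finset.induction_on with
    | empty => exact ⟨hne.some, by simp⟩
    | @insert c t _ ih =>
      obtain ⟨f, hf⟩ := ih fun c hc => ht c (Finset.mem_insert_of_mem hc)
      obtain ⟨g, hg⟩ := (Subring.mem_iSup_of_directed hdir).mp (ht c (Finset.mem_insert_self _ _))
      obtain ⟨h, h1, h2⟩ := hdir f g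
      exact ⟨h, fun d hd => (Finset.mem_insert.mp hd).elim (fun e => e ▸ h2 hg) fun hd => h1 (hf d hd)⟩

/-- Let A be a ring, J an ideal of A and 𝔭 a prime ideal of A, S = A ∖ 𝔭. Write A{S⁻¹} for the
completion of A_𝔭 for the J-adic topology, A_{f} for the completion of A_f for the J-adic topology,
and A_{S} for the subring of A{S⁻¹} which is the union of the images of the A_{f}, f ∉ 𝔭. If A is
Noetherian and J ⊆ 𝔭, then A{S⁻¹} is a faithfully flat module over A_{S}. -/
theorem result (A : Type u) [CommRing A] [IsNoetherianRing A]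
    (J : Ideal A) (𝔭 : Ideal A) [𝔭.IsPrime] (hJ : J ≤ 𝔭) :
    Module.FaithfullyFlat (FSch.stalkSubring A J 𝔭) (FSch.cAtPrime A J 𝔭) := by
  obtain ⟨hloc, hlh⟩ := Groth.Agent.S3869.result A J 𝔭 hJ
  haveI := flat_stalk A J 𝔭
  haveI : IsLocalRing (FSch.stalkSubring A J 𝔭) := hloc
  let Rp := Localization.AtPrime 𝔭
  let Jp := J.map (algebraMap A Rp)
  -- the big ring is local and the images form a directed family
  have hJm : Jp ^ 1 ≤ IsLocalRing.maximalIdeal Rp := by
    rw [pow_one, Ideal.map_le_iff_le_comap]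
    exact hJ.trans_eq (Localization.AtPrime.under_maximalIdeal).symm
  have hne : Jp ^ 1 ≠ ⊤ := fun h => IsLocalRing.maximalIdeal.isMaximal Rp |>.ne_top (top_le_iff.mp (h ▸ hJm))
  have : Nontrivial (Rp ⧸ Jp ^ 1) := Ideal.Quotient.nontrivial_iff.mpr hne
  have : IsLocalRing (Rp ⧸ Jp ^ 1) := IsLocalRing.of_surjective' (Ideal.Quotient.mk _) Ideal.Quotient.mk_surjective
  have : IsLocalHom (Ideal.Quotient.mk (Jp ^ 1)) := IsLocalHom.of_surjective _ Ideal.Quotient.mk_surjective
  have : IsLocalHom (AdicCompletion.evalₐ Jp 1).toRingHom := ⟨fun z hz => Groth.Agent.S3869.isUnit_of_evalₐ_one Jp z hz⟩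
  haveI hlocC : IsLocalRing (FSch.cAtPrime A J 𝔭) :=
    RingHom.domain_isLocalRing (AdicCompletion.evalₐ Jp 1).toRingHom
  haveI : IsLocalHom (algebraMap (FSch.stalkSubring A J 𝔭) (FSch.cAtPrime A J 𝔭)) := hlh
  exact Module.FaithfullyFlat.of_flat_of_isLocalHom

end Groth.Agent.S3871
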