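import Groth.Statements.S3870
import Mathlib
import Groth.Agent.S3871
import Groth.Agent.CplFlat.RingMap
-- import your own Groth.Agent.* helpers here

set_option autoImplicit false
universe u
open FCompl

namespace Groth.Agent.S3870

theorem noeth_of_ffl (R C : Type u) [CommRing R] [CommRing C] [Algebra R C] [Module.FaithfullyFlat R C]
    [IsNoetherianRing C] : IsNoetherianRing R := by
  rw [isNoetherianRing_iff, isNoetherian_iff]
  refine StrictMono.wellFoundedGT (f := fun I : Ideal R => I.map (algebraMap R C)) ?_ |>.wf
  exact Monotone.strictMono_of_injective (fun _ _ h => Ideal.map_mono h)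
    (fun I I' h => by
      rw [← Ideal.comap_map_eq_self_of_faithfullyFlat (B := C) I, ← Ideal.comap_map_eq_self_of_faithfullyFlat (B := C) I']
      exact congrArg _ h)

/-- For a ring A, an ideal J and a prime ideal 𝔭, let A{S⁻¹}, S = A ∖ 𝔭, be the completion of A_𝔭 for
the topology defined by the extension of J, and A_{S} the subring of A{S⁻¹} generated by the images
of the completed localizations A_{f}, f ∉ 𝔭 (the stalk at 𝔭 of the structure sheaf of Spf(A), as a
plain ring, when A is adic Noetherian and 𝔭 is open). If A is Noetherian and J ⊆ 𝔭, then A_{S} is a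
Noetherian ring. -/
theorem result (A : Type u) [CommRing A] [IsNoetherianRing A] (J : Ideal A)
    (𝔭 : Ideal A) [𝔭.IsPrime] (hJ : J ≤ 𝔭) : IsNoetherianRing (FSch.stalkSubring A J 𝔭) := by
  haveI := Groth.Agent.S3871.result A J 𝔭 hJ
  haveI : IsNoetherianRing (Localization.AtPrime 𝔭) :=
    IsLocalization.isNoetherianRing 𝔭.primeCompl _ inferInstance
  haveI : IsNoetherianRing (FSch.cAtPrime A J 𝔭) :=
    Groth.Agent.CplFlat.isNoetherianRing_completion_of_fg _ (Ideal.fg_of_isNoetherianRing _)
  exact noeth_of_ffl _ (FSch.cAtPrime A J 𝔭)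

end Groth.Agent.S3870
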