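import Mathlib
import Groth.Statements.S3873
-- import your own Groth.Agent.* helpers here

set_option autoImplicit false
universe u
open FCompl

namespace Groth.Agent.S3873

open CategoryTheory

open AlgebraicGeometry in
/-- Its content on the affine schemes underlying the formal spectra: the inverse image ideal of b^Δ is
(bA)^Δ, read on Spec: For a ring homomorphism φ : B -> A and an ideal b of B, the inverse image
along Spec(φ) of the ideal sheaf of b on Spec B is the ideal sheaf on Spec A of the ideal generated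
by φ(b). -/
theorem result (A B : Type u) [CommRing A] [CommRing B] (φ : B →+* A) (𝔟 : Ideal B) :
    (FSch.idealSpec B 𝔟).comap (Spec.map (CommRingCat.ofHom φ)) = FSch.idealSpec A (𝔟.map φ) := by
  have hker : ∀ (R S : Type u) [CommRing R] [CommRing S] (g : R →+* S),
      (Spec.map (CommRingCat.ofHom g)).ker = FSch.idealSpec R (RingHom.ker g) := by
    intro R S _ _ g
    have h : ∀ (S' : Type u) [CommRing S'] (g' : R →+* S'),
        (Spec.map (CommRingCat.ofHom g')).ker =
          Scheme.IdealSheafData.ofIdealTop ((RingHom.ker g').comap (Scheme.ΓSpecIso (CommRingCat.of R)).hom.hom) := by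
      intro S' _ g'
      rw [Scheme.ker_of_isAffine]
      congr 1
      ext x
      have := congrArg (fun k => k.hom x) (Scheme.ΓSpecIso_naturality (CommRingCat.ofHom g'))
      simp only [CommRingCat.hom_comp, RingHom.comp_apply, CommRingCat.hom_ofHom] at this
      rw [RingHom.mem_ker, Ideal.mem_comap, RingHom.mem_ker, ← this]
      exact (map_eq_zero_iff _ (Scheme.ΓSpecIso (CommRingCat.of S')).commRingCatIsoToRingEquiv.injective).symm
    rw [FSch.idealSpec, h, h, Ideal.mk_ker]
  have hid : ∀ (R : Type u) [CommRing R] (J : Ideal R),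
      (FSch.idealSpec R J).ideal ⟨⊤, isAffineOpen_top _⟩ = J.comap (Scheme.ΓSpecIso (CommRingCat.of R)).hom.hom := by
    intro R _ J
    rw [FSch.idealSpec, Scheme.ker_of_isAffine]
    refine (Scheme.IdealSheafData.equivOfIsAffine.apply_symm_apply _).trans ?_
    ext x
    have := congrArg (fun k => k.hom x) (Scheme.ΓSpecIso_naturality (CommRingCat.ofHom (Ideal.Quotient.mk J)))
    simp only [CommRingCat.hom_comp, RingHom.comp_apply, CommRingCat.hom_ofHom] at this
    rw [RingHom.mem_ker, Ideal.mem_comap, ← Ideal.Quotient.eq_zero_iff_mem, ← this]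
    exact (map_eq_zero_iff _ (Scheme.ΓSpecIso (CommRingCat.of (R ⧸ J))).commRingCatIsoToRingEquiv.injective).symm
  have hle : ∀ (R : Type u) [CommRing R] (J K : Ideal R), FSch.idealSpec R J ≤ FSch.idealSpec R K ↔ J ≤ K := by
    intro R _ J K
    rw [← Ideal.comap_le_comap_iff_of_surjective (Scheme.ΓSpecIso (CommRingCat.of R)).hom.hom
      (Scheme.ΓSpecIso (CommRingCat.of R)).commRingCatIsoToRingEquiv.surjective, ← hid, ← hid]
    exact ⟨fun h => h _, Scheme.IdealSheafData.le_of_isAffine⟩
  have hsur : ∀ (I : (Spec (CommRingCat.of A)).IdealSheafData), ∃ J, I = FSch.idealSpec A J := by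
    intro I
    refine ⟨(I.ideal ⟨⊤, isAffineOpen_top _⟩).map (Scheme.ΓSpecIso (CommRingCat.of A)).hom.hom,
      Scheme.IdealSheafData.ext_of_isAffine ?_⟩
    rw [hid]
    exact (Ideal.comap_map_of_bijective _ (Scheme.ΓSpecIso (CommRingCat.of A)).commRingCatIsoToRingEquiv.bijective).symm
  have hmap : ∀ J : Ideal A,
      (FSch.idealSpec A J).map (Spec.map (CommRingCat.ofHom φ)) = FSch.idealSpec B (J.comap φ) := by
    intro J
    rw [FSch.idealSpec, Scheme.IdealSheafData.map_ker, ← Spec.map_comp]
    show (Spec.map (CommRingCat.ofHom ((Ideal.Quotient.mk J).comp φ))).ker = _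
    rw [hker, ← RingHom.comap_ker, Ideal.mk_ker]
  apply le_antisymm
  · rw [← Scheme.IdealSheafData.le_map_iff_comap_le, hmap, hle]
    exact Ideal.le_comap_map
  · obtain ⟨J, hJ⟩ := hsur ((FSch.idealSpec B 𝔟).comap (Spec.map (CommRingCat.ofHom φ)))
    rw [hJ, hle, Ideal.map_le_iff_le_comap, ← hle, ← hmap, Scheme.IdealSheafData.le_map_iff_comap_le, hJ]

end Groth.Agent.S3873
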