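import Groth.Statements.S3874
import Mathlib
-- import your own Groth.Agent.* helpers here

set_option autoImplicit false
set_option backward.isDefEq.respectTransparency.types false
universe u
open FCompl

namespace Groth.Agent.S3874

theorem map_cpl_pow_eq_ker {S : Type u} [CommRing S] (I : Ideal S) (hI : I.FG) (n : ℕ) :
    (I.map (algebraMap S (AdicCompletion I S))) ^ n = RingHom.ker (AdicCompletion.evalₐ I n) := by
  apply Submodule.restrictScalars_injective S
  have h := AdicCompletion.pow_smul_top_eq_ker_eval (I := I) (M := S) (n := n) hI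
  rw [← Ideal.map_pow, ← Ideal.smul_top_eq_map]
  exact h.trans (Submodule.ext fun x => by
    show AdicCompletion.eval I S n x = 0 ↔ AdicCompletion.evalₐ I n x = 0
    rw [← AdicCompletion.factor_eval_eq_evalₐ I x (le_of_eq (Ideal.mul_top _))]
    exact (map_eq_zero_iff _ (Ideal.quotEquivOfEq (Ideal.mul_top _)).injective).symm)

theorem exists_awayQuot {A : Type u} [CommRing A] (K : Ideal A) (f : A) :
    ∃ e : Localization.Away (Ideal.Quotient.mk K f) ≃+*
        Localization.Away f ⧸ K.map (algebraMap A (Localization.Away f)),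
      ∀ a : A, e (algebraMap (A ⧸ K) _ (Ideal.Quotient.mk K a)) =
        Ideal.Quotient.mk _ (algebraMap A (Localization.Away f) a) := by
  let C := Localization.Away f
  let KC : Ideal C := K.map (algebraMap A C)
  let g : (A ⧸ K) →+* C ⧸ KC := Ideal.quotientMap KC (algebraMap A C) Ideal.le_comap_map
  have hg : IsUnit (g (Ideal.Quotient.mk K f)) :=
    (IsLocalization.Away.algebraMap_isUnit (S := C) f).map (Ideal.Quotient.mk KC)
  let fwd : Localization.Away (Ideal.Quotient.mk K f) →+* C ⧸ KC :=
    IsLocalization.Away.lift (Ideal.Quotient.mk K f) hg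
  let h : A →+* Localization.Away (Ideal.Quotient.mk K f) :=
    (algebraMap (A ⧸ K) _).comp (Ideal.Quotient.mk K)
  have hh : IsUnit (h f) := IsLocalization.Away.algebraMap_isUnit (Ideal.Quotient.mk K f)
  let b : C →+* Localization.Away (Ideal.Quotient.mk K f) := IsLocalization.Away.lift f hh
  have hb : ∀ a, b (algebraMap A C a) = h a := fun a => IsLocalization.Away.lift_eq f hh a
  have hker : KC ≤ RingHom.ker b := by
    refine Ideal.map_le_iff_le_comap.mpr fun a ha => ?_
    rw [Ideal.mem_comap, RingHom.mem_ker, hb]
    simp [h, Ideal.Quotient.eq_zero_iff_mem.mpr ha]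
  let bwd : C ⧸ KC →+* Localization.Away (Ideal.Quotient.mk K f) :=
    Ideal.Quotient.lift KC b fun c hc => hker hc
  have hf : ∀ a : A, fwd (h a) = Ideal.Quotient.mk KC (algebraMap A C a) := fun a =>
    IsLocalization.Away.lift_eq _ hg _
  have h1 : fwd.comp bwd = RingHom.id _ := by
    refine Ideal.Quotient.ringHom_ext (IsLocalization.ringHom_ext (Submonoid.powers f) ?_)
    ext a
    show fwd (b (algebraMap A C a)) = _
    rw [hb, hf]; rfl
  have h2 : bwd.comp fwd = RingHom.id _ := by
    refine IsLocalization.ringHom_ext (Submonoid.powers (Ideal.Quotient.mk K f))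
      (Ideal.Quotient.ringHom_ext (RingHom.ext fun a => ?_))
    show bwd (fwd (h a)) = h a
    rw [hf]
    exact hb a
  exact ⟨RingEquiv.ofRingHom fwd bwd h1 h2, hf⟩

/-- Let A be a Noetherian ring, J an ideal, f ∈ A and n ≥ 0, and let A_{f} be the completion of the
localization A_f for the topology defined by the extension of J. There is a ring isomorphism from
the localization of A/J^(n+1) away from the class of f onto A_{f} modulo the (n+1)-st power of the
extension of J to A_{f}, compatible with the canonical maps from A (and hence unique). In terms of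
formal spectra: the open D(f) of Spf(A) is Spf(A_{f}), and at level n its ring is the ring
(A/J^(n+1))_f of the open D(f) of Spec(A/J^(n+1)). -/
theorem result (A : Type u) [CommRing A] [IsNoetherianRing A] (J : Ideal A)
    (f : A) (n : ℕ) :
    ∃ e : Localization.Away (Ideal.Quotient.mk (J ^ (n + 1)) f) ≃+*
        FSch.cAway A J f ⧸ (J.map (algebraMap A (FSch.cAway A J f))) ^ (n + 1),
      ∀ a : A, e (algebraMap (A ⧸ J ^ (n + 1)) _ (Ideal.Quotient.mk (J ^ (n + 1)) a)) =
        Ideal.Quotient.mk _ (algebraMap A (FSch.cAway A J f) a) := by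
  obtain ⟨e, he⟩ := exists_awayQuot (J ^ (n + 1)) f
  let C := Localization.Away f
  let I : Ideal C := J.map (algebraMap A C)
  have : IsNoetherianRing C := IsLocalization.isNoetherianRing (Submonoid.powers f) _ inferInstance
  have hI : I.FG := IsNoetherian.noetherian I
  have h1 : (J ^ (n + 1)).map (algebraMap A C) = I ^ (n + 1) := Ideal.map_pow _ _ _
  have h2 : RingHom.ker (AdicCompletion.evalₐ I (n + 1)).toRingHom
      = (J.map (algebraMap A (FSch.cAway A J f))) ^ (n + 1) := by
    rw [IsScalarTower.algebraMap_eq A C (FSch.cAway A J f), ← Ideal.map_map]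
    exact (map_cpl_pow_eq_ker I hI (n + 1)).symm
  let q := RingHom.quotientKerEquivOfSurjective
    (f := (AdicCompletion.evalₐ I (n + 1)).toRingHom) (AdicCompletion.surjective_evalₐ I (n + 1))
  refine ⟨e.trans ((Ideal.quotEquivOfEq h1).trans (q.symm.trans (Ideal.quotEquivOfEq h2))), fun a => ?_⟩
  simp only [RingEquiv.trans_apply, he]
  rw [Ideal.quotEquivOfEq_mk]
  have : q.symm (Ideal.Quotient.mk (I ^ (n + 1)) (algebraMap A C a))
      = Ideal.Quotient.mk _ (algebraMap A (FSch.cAway A J f) a) := by
    apply q.injective
    rw [RingEquiv.apply_symm_apply, RingHom.quotientKerEquivOfSurjective_apply_mk]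
    rw [IsScalarTower.algebraMap_apply A C (FSch.cAway A J f)]
    exact ((AdicCompletion.evalₐ I (n + 1)).commutes _).symm
  rw [this, Ideal.quotEquivOfEq_mk]

end Groth.Agent.S3874
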