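import Groth.Statements.S3888
import Groth.Agent.EtSite.ClosedImm
import Groth.Agent.EtSite.OpenImm
import Mathlib.CategoryTheory.Sites.DenseSubsite.Basic

set_option autoImplicit false
open CategoryTheory CategoryTheory.Limits AlgebraicGeometry Opposite
universe u
open EtDesc

namespace Groth.Agent.S3888

open EtSite

/-- A functor lifting neighbourhoods is cover dense and locally full. -/
theorem full_faithful_pushSh {X Y : Scheme.{u}} (f : X ⟶ Y)
    (h : ∀ (Ω : Type u) [Field Ω] [IsSepClosed Ω] (ξ : Spec (CommRingCat.of Ω) ⟶ X), Lifts f ξ) :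
    (EtDesc.pushSh f).Full ∧ (EtDesc.pushSh f).Faithful := by
  have hd : (EtCoh.bc f).IsCoverDense X.smallEtaleTopology := by
    refine ⟨fun U => mem_smallEtaleTopology_of_points U _ fun x => ?_⟩
    let ξ := gpt x ≫ U.hom
    have hT : IsTerminal ((EtCoh.bc f).obj (EtCoh.top Y)) :=
      IsTerminal.isTerminalObj (EtCoh.bc f) _
        (IsTerminal.isTerminalOfObj (Scheme.Etale.forget Y) (EtCoh.top Y) Over.mkIdTerminal)
    have := (Scheme.pointSmallEtale ξ).uniqueFiberObj _ hT
    obtain ⟨V', π, t', φ, -, -, hu⟩ := h _ ξ (EtCoh.top Y)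
      (Over.homMk (ξ ≫ f) (Category.comp_id _)) U (hT.from U) (tautPt U x) (Subsingleton.elim _ _)
    refine ⟨(EtCoh.bc f).obj V', φ, (bcPt f ξ V' t').left.base (default : Spec (CommRingCat.of (SeparableClosure (U.left.residueField x)))),
      Presieve.in_coverByImage _ φ, ?_⟩
    exact (Scheme.Hom.comp_apply _ _ _).symm.trans
      ((congrArg (fun m : _ ⟶ U.left => m.base (default : Spec (CommRingCat.of (SeparableClosure (U.left.residueField x))))) (congrArg CommaMorphism.left hu)).trans
        (gpt_apply x _))
  have hl : (EtCoh.bc f).IsLocallyFull X.smallEtaleTopology := by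
    refine ⟨fun {A B} a => mem_smallEtaleTopology_of_points _ _ fun x => ?_⟩
    let P : Y.Etale := @Scheme.Etale.mk Y (pullback A.hom B.hom) (pullback.fst _ _ ≫ A.hom)
      (MorphismProperty.comp_mem (W := EtCoh.etaleMP) _ _
        (MorphismProperty.pullback_fst A.hom B.hom B.prop) A.prop)
    let p₁ : P ⟶ A := MorphismProperty.Over.homMk (pullback.fst _ _) rfl
    let p₂ : P ⟶ B := MorphismProperty.Over.homMk (pullback.snd _ _) pullback.condition.symm
    have ha : a.left ≫ pullback.snd B.hom f = pullback.snd A.hom f := Over.w a.hom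
    have e : pullback.fst A.hom f ≫ A.hom = (a.left ≫ pullback.fst B.hom f) ≫ B.hom := by
      refine pullback.condition.trans ((congrArg (· ≫ f) ha.symm).trans ?_)
      exact (Category.assoc _ _ _).trans ((congrArg (a.left ≫ ·) pullback.condition.symm).trans (Category.assoc _ _ _).symm)
    let g : (EtCoh.bc f).obj A ⟶ (EtCoh.bc f).obj P := MorphismProperty.Over.homMk
      (pullback.lift (pullback.lift (pullback.fst A.hom f) (a.left ≫ pullback.fst B.hom f) e)
        (pullback.snd A.hom f)
        ((Category.assoc _ _ _).symm.trans ((congrArg (· ≫ A.hom) (pullback.lift_fst _ _ _)).trans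
          pullback.condition)))
      (pullback.lift_snd _ _ _)
    have hgf : g.left ≫ pullback.fst P.hom f =
        pullback.lift (pullback.fst A.hom f) (a.left ≫ pullback.fst B.hom f) e :=
      pullback.lift_fst _ _ _
    have hgs : g.left ≫ pullback.snd P.hom f = pullback.snd A.hom f := pullback.lift_snd _ _ _
    have h1 : g ≫ (EtCoh.bc f).map p₁ = 𝟙 _ := by
      refine MorphismProperty.Over.Hom.ext (pullback.hom_ext ?_ ?_)
      · refine (Category.assoc _ _ _).trans ((congrArg (g.left ≫ ·) (bc_map_left_fst f p₁)).trans ?_)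
        refine (Category.assoc _ _ _).symm.trans ((congrArg (· ≫ p₁.left) hgf).trans ?_)
        exact (pullback.lift_fst _ _ _).trans (Category.id_comp _).symm
      · refine (Category.assoc _ _ _).trans ((congrArg (g.left ≫ ·) (bc_map_left_snd f p₁)).trans ?_)
        exact hgs.trans (Category.id_comp _).symm
    have h2 : g ≫ (EtCoh.bc f).map p₂ = a := by
      refine MorphismProperty.Over.Hom.ext (pullback.hom_ext ?_ ?_)
      · refine (Category.assoc _ _ _).trans ((congrArg (g.left ≫ ·) (bc_map_left_fst f p₂)).trans ?_)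
        refine (Category.assoc _ _ _).symm.trans ((congrArg (· ≫ p₂.left) hgf).trans ?_)
        exact pullback.lift_snd _ _ _
      · refine (Category.assoc _ _ _).trans ((congrArg (g.left ≫ ·) (bc_map_left_snd f p₂)).trans ?_)
        exact hgs.trans ha.symm
    let U := (EtCoh.bc f).obj A
    let ξ := gpt x ≫ U.hom
    let t : (Scheme.pointSmallEtale (ξ ≫ f)).fiber.obj P :=
      Over.homMk ((gpt x ≫ g.left) ≫ pullback.fst P.hom f) (by
        show ((gpt x ≫ g.left) ≫ pullback.fst P.hom f) ≫ P.hom = (gpt x ≫ pullback.snd A.hom f) ≫ f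
        refine (Category.assoc _ _ _).trans ((congrArg ((gpt x ≫ g.left) ≫ ·) pullback.condition).trans ?_)
        exact (Category.assoc _ _ _).symm.trans
          (congrArg (· ≫ f) ((Category.assoc _ _ _).trans (congrArg (gpt x ≫ ·) hgs))))
    obtain ⟨V', π, t', φ, -, hφ, hu⟩ := h _ ξ P t U g (tautPt U x)
      (Over.OverMorphism.ext (pullback.hom_ext (bcPt_left_fst f ξ P t).symm
        ((Category.assoc _ _ _).trans ((congrArg (gpt x ≫ ·) hgs).trans (bcPt_left_snd f ξ P t).symm))))
    have hφ1 : φ = (EtCoh.bc f).map (π ≫ p₁) := by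
      rw [Functor.map_comp, ← hφ, Category.assoc, h1, Category.comp_id]
    refine ⟨(EtCoh.bc f).obj V', φ, (bcPt f ξ V' t').left.base (default : Spec (CommRingCat.of (SeparableClosure (U.left.residueField x)))), ⟨V', π ≫ p₁, 𝟙 _, ⟨π ≫ p₂, ?_⟩, ?_⟩, ?_⟩
    · rw [← hφ1, Functor.map_comp, ← hφ, Category.assoc, h2]
    · rw [Category.id_comp]
      exact hφ1
    · exact (Scheme.Hom.comp_apply _ _ _).symm.trans
        ((congrArg (fun m : _ ⟶ U.left => m.base (default : Spec (CommRingCat.of (SeparableClosure (U.left.residueField x))))) (congrArg CommaMorphism.left hu)).trans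
          (gpt_apply x _))
  exact ⟨Functor.IsCoverDense.full_sheafPushforwardContinuous _ _ _,
    Functor.IsCoverDense.faithful_sheafPushforwardContinuous _ _ _⟩

/-- Let f : X -> Y be an immersion of schemes. Then for every sheaf of sets F on the small etale site of
X the counit f^* f_* F -> F of the adjunction between inverse and direct image is an isomorphism. -/
theorem result {X Y : Scheme.{u}} (f : X ⟶ Y) [IsImmersion f] (F : EtDesc.Sh X) :
    IsIso ((EtDesc.adjSh f).counit.app F) := by
  have hc := full_faithful_pushSh f.liftCoborder fun Ω _ _ ξ => lifts_closedImmersion _ ξ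
  have ho := full_faithful_pushSh f.coborderRange.ι fun Ω _ _ ξ => lifts_openImmersion _ ξ
  have := hc.1; have := hc.2; have := ho.1; have := ho.2
  have e : EtDesc.pushSh f.liftCoborder ⋙ EtDesc.pushSh f.coborderRange.ι ≅ EtDesc.pushSh f :=
    EtDesc.pushCompSh f.coborderRange.ι f.liftCoborder ≪≫ eqToIso (by rw [f.liftCoborder_ι])
  have : (EtDesc.pushSh f).Full := Functor.Full.of_iso e
  have : (EtDesc.pushSh f).Faithful := Functor.Faithful.of_iso e
  infer_instance

end Groth.Agent.S3888
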