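import Groth.Statements.S3883
import Groth.Agent.S3888
import Groth.Agent.EtMV.EtaleRestr
import Mathlib.CategoryTheory.Sites.LocallyBijective

set_option autoImplicit false
open CategoryTheory CategoryTheory.Limits AlgebraicGeometry Opposite
universe u
open EtDesc

namespace Groth.Agent.S3883

open EtSite EtShriek

variable {Y X U : Scheme.{u}} (i : Y ⟶ X) (j : U ⟶ X)

/-- Sections over an empty scheme form a singleton. -/
theorem sect_isEmpty {Z : Scheme.{u}} (G : EtDesc.Sh Z) (V : Z.Etale) [IsEmpty V.left] :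
    Subsingleton (G.obj.obj (op V)) ∧ Nonempty (G.obj.obj (op V)) := by
  have hR : (⊥ : Sieve V) ∈ Z.smallEtaleTopology V :=
    mem_smallEtaleTopology_of_points V ⊥ fun x => isEmptyElim x
  have hs := ((isSheaf_iff_isSheaf_of_type _ _).1 G.property) ⊥ hR
  refine ⟨⟨fun a b => hs.isSeparatedFor.ext fun W g h => h.elim⟩, ?_⟩
  obtain ⟨t, -, -⟩ := hs (fun W g h => h.elim) (fun _ _ _ _ _ _ _ h => h.elim)
  exact ⟨t⟩

/-- A sheaf is final exactly when all its sets of sections are singletons. -/
theorem isIso_from_iff {Z : Scheme.{u}} (P : EtDesc.Sh Z) :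
    IsIso (terminal.from P) ↔
      ∀ W : Z.Etale, Subsingleton (P.obj.obj (op W)) ∧ Nonempty (P.obj.obj (op W)) := by
  constructor
  · intro h W
    have hT : IsTerminal P := terminalIsTerminal.ofIso (asIso (terminal.from P)).symm
    have hW : IsTerminal (P.obj.obj (op W)) := IsTerminal.isTerminalObj
      (sheafToPresheaf Z.smallEtaleTopology (Type (u + 1)) ⋙ (evaluation _ _).obj (op W)) P hT
    have := Types.isTerminalEquivUnique _ hW
    exact ⟨inferInstance, inferInstance⟩
  · intro h
    have hT : IsTerminal P := IsTerminal.ofUniqueHom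
      (fun Q => ⟨{ app := fun W => TypeCat.ofHom fun _ => (h W.unop).2.some
                   naturality := fun W V g => by
                     ext q
                     exact @Subsingleton.elim _ (h V.unop).1 _ _ }⟩)
      (fun Q m => by
        ext W q
        exact @Subsingleton.elim _ (h W.unop).1 _ _)
    exact isIso_of_isTerminal hT terminalIsTerminal _

/-- The stalk of an inverse image, for sheaves of sets. -/
noncomputable def stalkPullShIso {Ω : Type u} [Field Ω] [IsSepClosed Ω]
    (ξ : Spec (CommRingCat.of Ω) ⟶ Y) :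
    (Scheme.pointSmallEtale (ξ ≫ i)).sheafFiber (A := Type (u + 1)) ≅
      EtDesc.pullSh i ⋙ (Scheme.pointSmallEtale ξ).sheafFiber where
  hom := (comapPtIso i ξ).inv.sheafFiber ≫
    ((Scheme.pointSmallEtale ξ).sheafFiberComapIso (EtCoh.bc i) (EtCoh.coverPreserving_bc i)
      (Type (u + 1))).hom
  inv := ((Scheme.pointSmallEtale ξ).sheafFiberComapIso (EtCoh.bc i) (EtCoh.coverPreserving_bc i)
      (Type (u + 1))).inv ≫ (comapPtIso i ξ).hom.sheafFiber
  hom_inv_id := by
    rw [Category.assoc, Iso.hom_inv_id_assoc, ← GrothendieckTopology.Point.Hom.sheafFiber_comp,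
      Iso.hom_inv_id, GrothendieckTopology.Point.Hom.sheafFiber_id]
  inv_hom_id := by
    rw [Category.assoc, ← GrothendieckTopology.Point.Hom.sheafFiber_comp_assoc, Iso.inv_hom_id,
      GrothendieckTopology.Point.Hom.sheafFiber_id, Category.id_comp, Iso.inv_hom_id]

variable [IsOpenImmersion j]

/-- The restriction of `F` to `U` is final iff `F` has singleton sections on objects inside `U`. -/
theorem restr_final_iff (F : EtDesc.Sh X) :
    IsIso (terminal.from ((EtDesc.pullSh j).obj F)) ↔
      ∀ V : X.Etale, Set.range V.hom.base ⊆ Set.range j.base →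
        Subsingleton (F.obj.obj (op V)) ∧ Nonempty (F.obj.obj (op V)) := by
  have hC : JCont j := EtMV.jCont j
  let R := (compEtale j).sheafPushforwardContinuous (Type (u + 1)) U.smallEtaleTopology
    X.smallEtaleTopology
  let adj : R ⊣ EtDesc.pushSh j := Adjunction.sheafPushforwardContinuous (F := compEtale j) (G := EtCoh.bc j)
    (MorphismProperty.Over.mapPullbackAdj EtCoh.etaleMP.{u} ⊤ j (inferInstanceAs (Etale j)) trivial)
    U.smallEtaleTopology X.smallEtaleTopology
  let σ := ((EtDesc.adjSh j).leftAdjointUniq adj).app F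
  have e := fun W => ((sheafToPresheaf _ _).mapIso σ).app (op W) |>.toEquiv
  rw [isIso_from_iff]
  constructor
  · intro h V hV
    let l := IsOpenImmersion.lift j V.hom hV
    have hl : l ≫ j = V.hom := IsOpenImmersion.lift_fac _ _ _
    let W : U.Etale := @Scheme.Etale.mk U V.left l (EtCoh.etaleMP.of_postcomp (W' := EtCoh.etaleMP)
      l j (inferInstance : Etale j) (by rw [hl]; exact V.prop))
    let c : (compEtale j).obj W ≅ V := MorphismProperty.Over.isoMk (Iso.refl _)
      ((Category.id_comp V.hom).trans hl.symm)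
    let k := (F.obj.mapIso c.op).toEquiv.trans (e W).symm
    exact ⟨@Equiv.subsingleton _ _ k (h W).1, ⟨k.symm (h W).2.some⟩⟩
  · intro h W
    have hW : Set.range ((compEtale j).obj W).hom.base ⊆ Set.range j.base := by
      rintro _ ⟨p, rfl⟩
      exact ⟨W.hom.base p, (Scheme.Hom.comp_apply _ _ _).symm⟩
    exact ⟨@Equiv.subsingleton _ _ (e W) (h _ hW).1, ⟨(e W).symm (h _ hW).2.some⟩⟩

/-- Stalks at points where all small neighbourhoods have singleton sections are singletons. -/
theorem stalk_singleton [IsClosedImmersion i] (F : EtDesc.Sh X)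
    (h : ∀ V : X.Etale, Disjoint (Set.range V.hom.base) (Set.range i.base) →
      Subsingleton (F.obj.obj (op V)) ∧ Nonempty (F.obj.obj (op V)))
    {Ω : Type u} [Field Ω] [IsSepClosed Ω] (η : Spec (CommRingCat.of Ω) ⟶ X)
    (hη : Disjoint (Set.range η.base) (Set.range i.base)) :
    Subsingleton ((Scheme.pointSmallEtale η).presheafFiber.obj F.obj) ∧
      Nonempty ((Scheme.pointSmallEtale η).presheafFiber.obj F.obj) := by
  let Φ := Scheme.pointSmallEtale η
  refine ⟨⟨fun p q => ?_⟩, ?_⟩
  · obtain ⟨V, t, z, rfl⟩ := Φ.toPresheafFiber_jointly_surjective (A := Type (u + 1)) (P := F.obj) p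
    obtain ⟨V₂, t₂, z₂, rfl⟩ := Φ.toPresheafFiber_jointly_surjective (A := Type (u + 1)) (P := F.obj) q
    obtain ⟨⟨W, w⟩, a, b, -⟩ := IsCofilteredOrEmpty.cone_objs (C := Φ.fiber.Elements)
      ⟨V, t⟩ ⟨V₂, t₂⟩
    obtain ⟨W', π, w', hw', hd⟩ := exists_shrink_outside i η hη W w
    have key : ∀ (V : X.Etale) (t : Φ.fiber.obj V) (z : F.obj.obj (op V)) (g : W ⟶ V),
        Φ.fiber.map g w = t → Φ.toPresheafFiber V t F.obj z =
          Φ.toPresheafFiber W' w' F.obj (h W' hd).2.some := by
      rintro V _ z g rfl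
      rw [← Φ.toPresheafFiber_w_apply, ← hw', ← Φ.toPresheafFiber_w_apply]
      exact congrArg _ (@Subsingleton.elim _ (h W' hd).1 _ _)
    exact (key V t z a.1 a.2).trans (key V₂ t₂ z₂ b.1 b.2).symm
  · obtain ⟨W', π, w', -, hd⟩ := exists_shrink_outside i η hη (EtCoh.top X)
      (Over.homMk η (Category.comp_id _))
    exact ⟨Φ.toPresheafFiber W' w' F.obj (h W' hd).2.some⟩

/-- Let i : Y -> X be a closed immersion and j : U -> X an open immersion whose image is the complement
of the image of i. Then the direct image functor i_* on etale sheaves of sets is fully faithful, and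
a sheaf of sets F on X is isomorphic to some i_* G if and only if j^* F is a final object. -/
theorem result {Y X U : Scheme.{u}} (i : Y ⟶ X)
    [IsClosedImmersion i] (j : U ⟶ X) [IsOpenImmersion j]
    (hU : Set.range j.base = (Set.range i.base)ᶜ) :
    (EtDesc.pushSh i).Full ∧ (EtDesc.pushSh i).Faithful ∧
    ∀ F : EtDesc.Sh X, (EtDesc.pushSh i).essImage F ↔ IsIso (terminal.from ((EtDesc.pullSh j).obj F)) := by
  have hff := S3888.full_faithful_pushSh i fun Ω _ _ ξ => lifts_closedImmersion i ξ
  refine ⟨hff.1, hff.2, fun F => ?_⟩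
  have := hff.1; have := hff.2
  have hdis : ∀ V : X.Etale, Disjoint (Set.range V.hom.base) (Set.range i.base) ↔
      Set.range V.hom.base ⊆ Set.range j.base := fun V => by
    rw [hU, Set.subset_compl_iff_disjoint_right]
  have hpush : ∀ (G : EtDesc.Sh Y) (V : X.Etale), Disjoint (Set.range V.hom.base) (Set.range i.base) →
      Subsingleton (((EtDesc.pushSh i).obj G).obj.obj (op V)) ∧
        Nonempty (((EtDesc.pushSh i).obj G).obj.obj (op V)) := fun G V hV => by
    have := isEmpty_bc_of_disjoint i V hV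
    exact sect_isEmpty G ((EtCoh.bc i).obj V)
  rw [restr_final_iff]
  constructor
  · rintro ⟨G, ⟨e⟩⟩ V hV
    let k := (((sheafToPresheaf _ _).mapIso e).app (op V)).toEquiv
    obtain ⟨h1, h2⟩ := hpush G V ((hdis V).2 hV)
    exact ⟨@Equiv.subsingleton _ _ k.symm h1, ⟨k h2.some⟩⟩
  · intro hF
    let η := (EtDesc.adjSh i).unit.app F
    have hF' : ∀ V : X.Etale, Disjoint (Set.range V.hom.base) (Set.range i.base) →
        Subsingleton (F.obj.obj (op V)) ∧ Nonempty (F.obj.obj (op V)) :=
      fun V hV => hF V ((hdis V).1 hV)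
    have hiso : IsIso ((EtDesc.pullSh i).map η) :=
      @IsIso.of_isIso_fac_right _ _ _ _ _ _ _ _ inferInstance (IsIso.id _)
        ((EtDesc.adjSh i).left_triangle_components F)
    have hb : ∀ y : X, ∃ (Ω : Type u) (_ : Field Ω) (_ : IsSepClosed Ω)
        (ξ : Spec (CommRingCat.of Ω) ⟶ X), ξ default = y ∧
          Function.Bijective ((Scheme.pointSmallEtale ξ).presheafFiber.map η.hom) := fun y => by
      by_cases hy : y ∈ Set.range i.base
      · obtain ⟨z, rfl⟩ := hy
        refine ⟨_, _, inferInstance, gpt z ≫ i, ?_, ?_⟩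
        · exact (Scheme.Hom.comp_apply _ _ _).trans (congrArg i.base (gpt_apply z _))
        · rw [← isIso_iff_bijective]
          exact (NatIso.isIso_map_iff (stalkPullShIso i (gpt z)) η).2
            (inferInstanceAs (IsIso ((Scheme.pointSmallEtale (gpt z)).sheafFiber.map
              ((EtDesc.pullSh i).map η))))
      · refine ⟨_, _, inferInstance, gpt y, gpt_apply y _, ?_⟩
        have hd : Disjoint (Set.range (gpt y).base) (Set.range i.base) := by
          rw [Set.disjoint_left]
          rintro _ ⟨p, rfl⟩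
          rwa [gpt_apply]
        obtain ⟨h1, h1'⟩ := stalk_singleton i F hF' (gpt y) hd
        obtain ⟨h2, h2'⟩ := stalk_singleton i _ (hpush ((EtDesc.pullSh i).obj F)) (gpt y) hd
        exact ⟨fun a b _ => h1.elim a b, fun b => ⟨h1'.some, h2.elim _ _⟩⟩
    have h1 : Sheaf.IsLocallyInjective η := isLocallyInjective_of_exists_stalk η.hom fun y => by
      obtain ⟨Ω, i1, i2, ξ, hξ, hh⟩ := hb y
      exact ⟨Ω, i1, i2, ξ, hξ, hh.1⟩
    have h2 : Sheaf.IsLocallySurjective η := isLocallySurjective_of_exists_stalk η.hom fun y => by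
      obtain ⟨Ω, i1, i2, ξ, hξ, hh⟩ := hb y
      exact ⟨Ω, i1, i2, ξ, hξ, hh.2⟩
    have : IsIso η := (Sheaf.isLocallyBijective_iff_isIso η).1 ⟨h1, h2⟩
    exact ⟨_, ⟨(asIso η).symm⟩⟩

end Groth.Agent.S3883
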