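import Groth.Statements.S3894
-- import your own Groth.Agent.* helpers here

set_option autoImplicit false
universe u
open CategoryTheory CategoryTheory.Limits Opposite
open Tors

namespace Groth.Agent.S3894

/-- A torsor P under an abelian sheaf G is trivial, i.e. equivariantly isomorphic to G acting on itself
by translations, if and only if P has a global section (a morphism from the final sheaf of sets). -/
theorem result {C : Type u} [SmallCategory C] {J : GrothendieckTopology C}
    {G : Sheaf J AddCommGrpCat.{u}} (T : Tors.Torsor G) : T.IsTrivial ↔ T.HasSection := by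
  let F : Sheaf J (Type u) := (sheafCompose J (forget AddCommGrpCat.{u})).obj G
  constructor
  · rintro ⟨e, -⟩
    refine ⟨(⟨{ app := fun U => TypeCat.ofHom fun _ => (0 : G.obj.obj U)
                naturality := fun U V f => ?_ }⟩ : (⊤_ (Sheaf J (Type u))) ⟶ F) ≫ e.hom⟩
    ext x
    exact (map_zero (G.obj.map f).hom).symm
  · rintro ⟨s⟩
    let a : F ⟶ T.P := terminal.from F ≫ s
    let sec : ∀ U, T.P.obj.obj U := fun U => a.hom.app U (0 : G.obj.obj U)
    have hsec : ∀ {U V : Cᵒᵖ} (f : U ⟶ V), T.P.obj.map f (sec U) = sec V := by
      intro U V f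
      have := congrArg (fun k => k (0 : G.obj.obj U)) (a.hom.naturality f)
      exact this.symm.trans (congrArg (a.hom.app V) (map_zero (G.obj.map f).hom))
    have hb : ∀ U, Function.Bijective (fun g : G.obj.obj U => T.vadd g (sec U)) := by
      intro U
      refine ⟨fun g g' h => ?_, fun q => (T.free_transitive (sec U) q).exists⟩
      exact (T.free_transitive (sec U) (T.vadd g' (sec U))).unique h rfl
    let e : F.obj ≅ T.P.obj := NatIso.ofComponents (fun U => (Equiv.ofBijective _ (hb U)).toIso)
      (fun {U V} f => by
        ext g
        show T.vadd (G.obj.map f g) (sec V) = T.P.obj.map f (T.vadd g (sec U))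
        exact ((T.map_vadd f g (sec U)).trans (congrArg (T.vadd _) (hsec f))).symm)
    refine ⟨(fullyFaithfulSheafToPresheaf J (Type u)).preimageIso e, fun U g h => ?_⟩
    show T.vadd (g + h) (sec U) = T.vadd g (T.vadd h (sec U))
    exact T.add_vadd g h _

end Groth.Agent.S3894
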