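import Groth.Statements.S3896
import Groth.Agent.EtSite.RepGlobal

set_option autoImplicit false
open CategoryTheory CategoryTheory.Limits AlgebraicGeometry Opposite
universe u
open EtDesc

namespace Groth.Agent.S3896

open Groth.Agent.EtSite Groth.Agent.EtSite.RepFinite in
theorem isSheaf_rep {X : Scheme.{u}} (W : X.Etale) :
    Presieve.IsSheaf X.smallEtaleTopology (yoneda.obj W ⋙ uliftFunctor.{u + 1, u}) := by
  intro Z R hR x hx
  obtain ⟨b, hb⟩ := exists_glue (P := W) hR (fun V g hg => (x g hg).down) fun V V' g h hh => by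
    exact (congrArg ULift.down ((Presieve.compatible_iff_sieveCompatible x).1 hx h g hh)).symm
  exact ⟨⟨b⟩, fun V g hg => ULift.ext _ _ (hb g hg), fun v hv => ULift.ext _ _
    (hom_ext_of_cover hR fun V g hg => (congrArg ULift.down (hv g hg)).trans (hb g hg).symm)⟩

/-- The representable presheaf as a sheaf. -/
noncomputable def rep {X : Scheme.{u}} (W : X.Etale) : EtDesc.Sh X :=
  ⟨yoneda.obj W ⋙ uliftFunctor.{u + 1, u}, (isSheaf_iff_isSheaf_of_type _ _).2 (isSheaf_rep W)⟩

/-- It is the sheafified one. -/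
noncomputable def repIso {X : Scheme.{u}} (W : X.Etale) : EtDesc.repSh W ≅ rep W :=
  (sheafificationIso (rep W)).symm

theorem subsingleton_hom {X : Scheme.{u}} (Z : X.Etale) (U : X.Opens) : Subsingleton (Z ⟶ EtDesc.ofOpen U) :=
  ⟨fun a b => MorphismProperty.Over.Hom.ext ((cancel_mono U.ι).1
    ((MorphismProperty.Over.w a).trans (MorphismProperty.Over.w b).symm))⟩

theorem subsingleton_sect {X : Scheme.{u}} (F : EtDesc.Sh X) [Mono (terminal.from F)] (Z : X.Etale) :
    Subsingleton (F.obj.obj (op Z)) := ⟨fun s t => by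
  let A := sheafificationAdjunction X.smallEtaleTopology (Type (u + 1))
  let mk : F.obj.obj (op Z) → (EtDesc.repSh Z ⟶ F) := fun s => (A.homEquiv _ _).symm
    { app := fun W => TypeCat.ofHom fun a => F.obj.map (a.down : W.unop ⟶ Z).op s
      naturality := fun W W' g => by
        ext ⟨a⟩
        exact Functor.map_comp_apply F.obj (a : W.unop ⟶ Z).op g s }
  have h : mk s = mk t := (cancel_mono (terminal.from F)).1 (Subsingleton.elim _ _)
  have h' := congrArg (fun α => α.app (op Z) (ULift.up (𝟙 Z))) ((A.homEquiv _ _).symm.injective h)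
  exact (ConcreteCategory.congr_hom (F.obj.map_id (op Z)) s).symm.trans
    (h'.trans (ConcreteCategory.congr_hom (F.obj.map_id (op Z)) t))⟩

/-- Let X be a scheme. Sending a Zariski open U of X to the etale sheaf of sets attached to the open
immersion U -> X gives an isomorphism of ordered sets from the opens of X onto the subobjects of the
final object of the etale topos of X: (a) each such sheaf is a subobject of the final sheaf; (b) U ≤
V if and only if there is a morphism between the attached sheaves; (c) every subobject of the final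
sheaf is isomorphic to the sheaf attached to some open. -/
theorem result (X : Scheme.{u}) :
    (∀ U : X.Opens, Mono (terminal.from (EtDesc.repSh (EtDesc.ofOpen U)))) ∧
    (∀ U V : X.Opens, U ≤ V ↔ Nonempty (EtDesc.repSh (EtDesc.ofOpen U) ⟶ EtDesc.repSh (EtDesc.ofOpen V))) ∧
    (∀ F : EtDesc.Sh X, Mono (terminal.from F) → ∃ U : X.Opens, Nonempty (F ≅ EtDesc.repSh (EtDesc.ofOpen U))) := by
  refine ⟨fun U => ⟨fun {A} a b _ => ?_⟩, fun U V => ⟨fun h => ⟨?_⟩, fun ⟨α⟩ => ?_⟩, fun F hF => ?_⟩
  · refine (cancel_mono (repIso (EtDesc.ofOpen U)).hom).1 ?_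
    ext Z s
    exact ULift.ext _ _ (@Subsingleton.elim _ (subsingleton_hom Z.unop U) _ _)
  · let g : EtDesc.ofOpen U ⟶ EtDesc.ofOpen V :=
      MorphismProperty.Over.homMk (X.homOfLE h) (X.homOfLE_ι h) trivial
    exact (presheafToSheaf X.smallEtaleTopology (Type (u + 1))).map (Functor.whiskerRight (yoneda.map g) _)
  · let β := (repIso (EtDesc.ofOpen U)).inv ≫ α ≫ (repIso (EtDesc.ofOpen V)).hom
    let g : EtDesc.ofOpen U ⟶ EtDesc.ofOpen V := (β.hom.app (op (EtDesc.ofOpen U)) (ULift.up (𝟙 _))).down
    intro x hx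
    have h1 : (g.left ≫ V.ι).base (⟨x, hx⟩ : U) = x := by
      rw [show g.left ≫ V.ι = U.ι from MorphismProperty.Over.w g]
      rfl
    exact h1 ▸ (g.left.base (⟨x, hx⟩ : U)).2
  · have : Mono (terminal.from F) := hF
    have hss := subsingleton_sect F
    let U : X.Opens := ⟨{x | ∃ (W : X.Etale) (w : W.left), W.hom.base w = x ∧ Nonempty (F.obj.obj (op W))},
      isOpen_iff_forall_mem_open.2 fun x ⟨W, w, hw, hW⟩ => by
        have : Etale W.hom := W.prop
        exact ⟨Set.range W.hom.base, fun _ ⟨w', hw'⟩ => ⟨W, w', hw', hW⟩, W.hom.isOpenMap.isOpen_range, w, hw⟩⟩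
    refine ⟨U, ⟨?_ ≪≫ (repIso (EtDesc.ofOpen U)).symm⟩⟩
    have h₁ : ∀ Z : X.Etale, F.obj.obj (op Z) → (Z ⟶ EtDesc.ofOpen U) := fun Z s =>
      let e := Groth.Agent.EtSite.RepGlobal.exists_lift (U := U) (Z := Z) fun z => ⟨Z, z, rfl, ⟨s⟩⟩
      MorphismProperty.Over.homMk e.choose e.choose_spec trivial
    have h₂ : ∀ (Z : X.Etale), (Z ⟶ EtDesc.ofOpen U) → Nonempty (F.obj.obj (op Z)) := fun Z a => by
      let R : Sieve Z :=
        { arrows := fun {W} _ => Nonempty (F.obj.obj (op W))
          downward_closed := fun {W W'} _ ⟨s⟩ g => ⟨F.obj.map g.op s⟩ }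
      have hR : R ∈ X.smallEtaleTopology Z :=
        Groth.Agent.EtSite.mem_smallEtaleTopology_of_points _ _ fun z => by
          have hz : Z.hom.base z ∈ U := by
            rw [← MorphismProperty.Over.w a, Scheme.Hom.comp_apply]
            exact (show (U : Scheme.{u}) from a.left.base z).2
          obtain ⟨W, w, hw, ⟨s⟩⟩ := hz
          obtain ⟨t, ht, -⟩ := Scheme.Pullback.exists_preimage_pullback z w hw.symm
          have : Etale Z.hom := Z.prop
          have : Etale W.hom := W.prop
          let P : X.Etale := MorphismProperty.Over.mk ⊤ (pullback.fst Z.hom W.hom ≫ Z.hom)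
            (show Etale (pullback.fst Z.hom W.hom ≫ Z.hom) from inferInstance)
          exact ⟨P, MorphismProperty.Over.homMk (pullback.fst Z.hom W.hom) rfl trivial, t,
            ⟨F.obj.map (MorphismProperty.Over.homMk (pullback.snd Z.hom W.hom) pullback.condition.symm trivial : P ⟶ W).op s⟩,
            ht⟩
      have hsh := ((isSheaf_iff_isSheaf_of_type _ _).1 F.property) R hR
      obtain ⟨t, -, -⟩ := hsh (fun W g hg => hg.some)
        (fun W₁ W₂ Y g₁ g₂ f₁ f₂ h₁ h₂ e => @Subsingleton.elim _ (hss Y) _ _)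
      exact ⟨t⟩
    refine (fullyFaithfulSheafToPresheaf _ _).preimageIso (NatIso.ofComponents (fun Z =>
      ({ toFun := fun s => ULift.up (h₁ Z.unop s)
         invFun := fun a => (h₂ Z.unop a.down).some
         left_inv := fun s => @Subsingleton.elim _ (hss Z.unop) _ _
         right_inv := fun a => ULift.ext _ _ (@Subsingleton.elim _ (subsingleton_hom Z.unop U) _ _) } :
        F.obj.obj Z ≃ (rep (EtDesc.ofOpen U)).obj.obj Z).toIso) fun {Z Z'} g => by
      ext s
      exact ULift.ext _ _ (@Subsingleton.elim _ (subsingleton_hom Z'.unop U) _ _))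

end Groth.Agent.S3896
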