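import Groth.Statements.S4019
import Groth.Agent.LefPencil.OnePoint
import Groth.Agent.LefPencil.Generic
import Groth.Agent.LefDual.Final
-- import your own Groth.Agent.* helpers here

set_option autoImplicit false
universe u
open CategoryTheory CategoryTheory.Limits AlgebraicGeometry
open LefPen

namespace Groth.Agent.S4019

attribute [local instance] Groth.Agent.LefDual.pieceAlg

/-- Let k be an algebraically closed field and X an irreducible smooth proper k-scheme of dimension n ≥
1 embedded in projective r-space by a closed immersion i. For every d ≥ 2 the composite of i with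
the d-uple embedding is a Lefschetz embedding: the pairs (F, G) of degree-d forms spanning a
Lefschetz pencil for X (independent forms; base locus X ∩ V(F, G) a transversal section; all but
finitely many members transversal to X; each other member cutting X in a scheme smooth except at one
ordinary quadratic singularity) contain the non-vanishing locus of a polynomial function of the
coefficients that is not identically zero, i.e. a dense open set of the space of pencils. -/
theorem result (k : Type u) [Field k] [IsAlgClosed k] (r n : ℕ) (hn : 1 ≤ n)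
    {X : Scheme.{u}} (i : X ⟶ CohB1.ProjSpace r k) [IsClosedImmersion i] [IrreducibleSpace X]
    [SmoothOfRelativeDimension n (i ≫ CohB1.ProjSpace.toSpec r k)]
    (d : ℕ) (hd : 2 ≤ d) : LefPen.IsLefschetzEmb k n i d := by
  classical
  obtain ⟨m, rfl⟩ : ∃ m, n = m + 1 := ⟨n - 1, by omega⟩
  haveI : Smooth (i ≫ CohB1.ProjSpace.toSpec r k) := SmoothOfRelativeDimension.smooth (m + 1) _
  haveI := Groth.Agent.LefDual.isIntegral_of_embedded (n := m + 1) i
  haveI := Groth.Agent.LefDual.finiteType_piece i
  haveI : ∀ j, IsNoetherianRing Γ(X, Groth.Agent.BertiniHyp.piece i j) := fun j =>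
    Algebra.FiniteType.isNoetherianRing k _
  obtain ⟨H, hH, hH1⟩ := Groth.Agent.LefPencil.exists_oneOrd_bad i (m := m) d hd
  obtain ⟨h, hh⟩ := Groth.Agent.LefDual.exists_good i (d := d) (by omega)
  have hH0 : H ≠ 0 := by
    rintro rfl
    obtain ⟨j, P, hP, hnd, -⟩ := (Groth.Agent.LefPencil.oneOrdQuad_iff i _).1 hH1
    haveI := hP
    refine Groth.Agent.LefPencil.Nondeg.ne_zero hnd ?_
    rw [← zero_smul k (0 : LefPen.Form r k d), Groth.Agent.LefPencil.pform_smul, map_mul, map_zero, map_zero, zero_mul]
  have hli : LinearIndependent k ![H, h] := by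
    rw [LinearIndependent.pair_iff]
    intro s t hst
    have ht : t = 0 := by
      by_contra ht
      refine hh ?_
      have h1 := congrArg (fun G => t⁻¹ • G) (eq_neg_of_add_eq_zero_right hst)
      simp only [inv_smul_smul₀ ht, ← neg_smul, smul_smul] at h1
      exact h1 ▸ Groth.Agent.LefPencil.bad_smul i hH
    rw [ht, zero_smul, add_zero] at hst
    exact ⟨(smul_eq_zero.1 hst).resolve_right hH0, ht⟩
  obtain ⟨p, hp, hp'⟩ := Groth.Agent.LefPencil.exists_poly_through i (by omega) H h hli h hh (Or.inl ⟨H, hH, hH1⟩)
  obtain ⟨a, ha⟩ : ∃ a, MvPolynomial.eval a p ≠ 0 := by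
    by_contra! hcon
    exact hp (MvPolynomial.funext fun a => by rw [hcon a, map_zero])
  obtain ⟨G, rfl⟩ := (Groth.Agent.ForSys.formEquiv k r d).surjective a
  obtain ⟨q, hq, hq'⟩ := Groth.Agent.LefPencil.exists_poly_lefschetz i h G (hp' G ha)
  exact Groth.Agent.ForSys.isGeneric_of_coords (Groth.Agent.LefPencil.pairEquiv k r d) _ q
    (fun h0 => hq (by rw [h0, map_zero])) fun v hv => hq' v.1 v.2 hv

end Groth.Agent.S4019
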