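import Groth.Statements.S4020
import Groth.Agent.LefPencil.CharZero
import Groth.Agent.LefDual.Final
-- import your own Groth.Agent.* helpers here

set_option autoImplicit false
universe u
open CategoryTheory CategoryTheory.Limits AlgebraicGeometry
open LefPen

namespace Groth.Agent.S4020

attribute [local instance] Groth.Agent.LefDual.pieceAlg

/-- Let k be an algebraically closed field and X an irreducible smooth proper k-scheme of dimension n ≥
1 embedded in projective r-space by a closed immersion i; assume k has characteristic zero. Then i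
itself is a Lefschetz embedding: the pairs of linear forms spanning a Lefschetz pencil of hyperplane
sections of X contain the non-vanishing locus of a not identically zero polynomial function of their
coefficients. -/
theorem result (k : Type u) [Field k] [IsAlgClosed k] (r n : ℕ) (hn : 1 ≤ n)
    {X : Scheme.{u}} (i : X ⟶ CohB1.ProjSpace r k) [IsClosedImmersion i] [IrreducibleSpace X]
    [SmoothOfRelativeDimension n (i ≫ CohB1.ProjSpace.toSpec r k)]
    [CharZero k] : LefPen.IsLefschetzEmb k n i 1 := by
  classical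
  obtain ⟨m, rfl⟩ : ∃ m, n = m + 1 := ⟨n - 1, by omega⟩
  haveI : Smooth (i ≫ CohB1.ProjSpace.toSpec r k) := SmoothOfRelativeDimension.smooth (m + 1) _
  haveI := Groth.Agent.LefDual.isIntegral_of_embedded (n := m + 1) i
  haveI := Groth.Agent.LefDual.finiteType_piece i
  haveI : ∀ j, IsNoetherianRing Γ(X, Groth.Agent.BertiniHyp.piece i j) := fun j =>
    Algebra.FiniteType.isNoetherianRing k _
  obtain ⟨g, hg⟩ := Groth.Agent.LefDual.exists_good i (d := 1) le_rfl
  have key : ∃ (F₁ G₁ : LefPen.Form r k 1), LinearIndependent k ![F₁, G₁] ∧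
      ((∃ H : LefPen.Form r k 1, Groth.Agent.LefDual.Bad i H ∧ LefPen.OneOrdQuad k (m + 1) i H) ∨
        ∃ F G : LefPen.Form r k 1, ∀ s t : k, (s ≠ 0 ∨ t ≠ 0) → ¬ Groth.Agent.LefDual.Bad i (s • F + t • G)) := by
    rcases Groth.Agent.LefPencil.exists_oneOrd_or_pencil i (m := m) g hg with ⟨H, hH, hH1⟩ | ⟨G, hG⟩
    · have hH0 : H ≠ 0 := by
        rintro rfl
        obtain ⟨j, P, hP, hnd, -⟩ := (Groth.Agent.LefPencil.oneOrdQuad_iff i _).1 hH1
        haveI := hP
        refine Groth.Agent.LefPencil.Nondeg.ne_zero hnd ?_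
        rw [← zero_smul k (0 : LefPen.Form r k 1), Groth.Agent.LefPencil.pform_smul, map_mul, map_zero, map_zero, zero_mul]
      refine ⟨H, g, ?_, Or.inl ⟨H, hH, hH1⟩⟩
      rw [LinearIndependent.pair_iff]
      intro s t hst
      have ht : t = 0 := by
        by_contra ht
        refine hg ?_
        have h1 := congrArg (fun G => t⁻¹ • G) (eq_neg_of_add_eq_zero_right hst)
        simp only [inv_smul_smul₀ ht, ← neg_smul, smul_smul] at h1
        exact h1 ▸ Groth.Agent.LefPencil.bad_smul i hH
      rw [ht, zero_smul, add_zero] at hst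
      exact ⟨(smul_eq_zero.1 hst).resolve_right hH0, ht⟩
    · refine ⟨g, G, ?_, Or.inr ⟨g, G, hG⟩⟩
      rw [LinearIndependent.pair_iff]
      intro s t hst
      by_contra hcon
      exact hG s t (not_and_or.1 hcon) (hst ▸ Groth.Agent.LefPencil.bad_zero i)
  obtain ⟨F₁, G₁, hli, hex⟩ := key
  obtain ⟨p, hp, hp'⟩ := Groth.Agent.LefPencil.exists_poly_through i le_rfl F₁ G₁ hli g hg hex
  obtain ⟨a, ha⟩ : ∃ a, MvPolynomial.eval a p ≠ 0 := by
    by_contra! hcon
    exact hp (MvPolynomial.funext fun a => by rw [hcon a, map_zero])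
  obtain ⟨G, rfl⟩ := (Groth.Agent.ForSys.formEquiv k r 1).surjective a
  obtain ⟨q, hq, hq'⟩ := Groth.Agent.LefPencil.exists_poly_lefschetz i g G (hp' G ha)
  exact Groth.Agent.ForSys.isGeneric_of_coords (Groth.Agent.LefPencil.pairEquiv k r 1) _ q
    (fun h0 => hq (by rw [h0, map_zero])) fun v hv => hq' v.1 v.2 hv

end Groth.Agent.S4020
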