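import Groth.Statements.S4022
import Groth.Agent.LefPencil.Generic
-- import your own Groth.Agent.* helpers here

set_option autoImplicit false
universe u
open CategoryTheory CategoryTheory.Limits AlgebraicGeometry
open LefPen

namespace Groth.Agent.S4022

/-- Let k be an algebraically closed field and X an irreducible smooth proper k-scheme of dimension n ≥
1 embedded in projective r-space by a closed immersion i; let d ≥ 1 be such that the degree-d
embedding is a Lefschetz embedding, and let H₀ be a degree-d form whose hypersurface cuts X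
transversally. Then the forms G such that (H₀, G) spans a Lefschetz pencil contain the non-vanishing
locus of a not identically zero polynomial function: the Lefschetz pencils through H₀ are dense open
among pencils through H₀. -/
theorem result (k : Type u) [Field k] [IsAlgClosed k] (r n : ℕ) (hn : 1 ≤ n)
    {X : Scheme.{u}} (i : X ⟶ CohB1.ProjSpace r k) [IsClosedImmersion i] [IrreducibleSpace X]
    [SmoothOfRelativeDimension n (i ≫ CohB1.ProjSpace.toSpec r k)]
    (d : ℕ) (hd : 1 ≤ d) (hL : LefPen.IsLefschetzEmb k n i d) (H₀ : LefPen.Form r k d)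
    (hH₀ : LefPen.Transversal k n 1 (LefPen.secToSpec i ({H₀} : Set (LefPen.Form r k d)))) :
    LefPen.IsGeneric k {G : LefPen.Form r k d | LefPen.IsLefschetzPencil k n i d H₀ G} := by
  classical
  obtain ⟨m, rfl⟩ : ∃ m, n = m + 1 := ⟨n - 1, by omega⟩
  haveI : Smooth (i ≫ CohB1.ProjSpace.toSpec r k) := SmoothOfRelativeDimension.smooth (m + 1) _
  obtain ⟨f, hf, ⟨FG, hFG⟩, hf'⟩ := hL
  obtain ⟨hli, -, -, hmem⟩ := hf' FG hFG
  have hbad : ∀ H, ¬ LefPen.Transversal k (m + 1) 1 (LefPen.secToSpec i ({H} : Set (LefPen.Form r k d))) ↔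
      Groth.Agent.LefDual.Bad i H := fun H => by
    rw [Groth.Agent.LefDual.transversal_iff i hn H, not_not]
  have hex : (∃ H : LefPen.Form r k d, Groth.Agent.LefDual.Bad i H ∧ LefPen.OneOrdQuad k (m + 1) i H) ∨
      ∃ F G : LefPen.Form r k d, ∀ s t : k, (s ≠ 0 ∨ t ≠ 0) → ¬ Groth.Agent.LefDual.Bad i (s • F + t • G) := by
    by_cases h : ∃ H ∈ LefPen.members k FG.1 FG.2, Groth.Agent.LefDual.Bad i H
    · obtain ⟨H, hH, hb⟩ := h
      exact Or.inl ⟨H, hb, hmem H hH ((hbad H).2 hb)⟩
    · refine Or.inr ⟨FG.1, FG.2, fun s t hst hb => h ?_⟩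
      by_cases hs : s = 0
      · have ht : t ≠ 0 := hst.resolve_left fun h' => h' hs
        refine ⟨FG.2, Or.inl rfl, ?_⟩
        have h2 := Groth.Agent.LefPencil.bad_smul i (c := t⁻¹) hb
        rwa [hs, zero_smul, zero_add, inv_smul_smul₀ ht] at h2
      · refine ⟨FG.1 + (t / s) • FG.2, Or.inr ⟨_, rfl⟩, ?_⟩
        have h2 := Groth.Agent.LefPencil.bad_smul i (c := s⁻¹) hb
        rwa [smul_add, inv_smul_smul₀ hs, smul_smul, ← div_eq_inv_mul] at h2
  obtain ⟨p, hp, hp'⟩ := Groth.Agent.LefPencil.exists_poly_through i hd FG.1 FG.2 hli H₀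
    ((Groth.Agent.LefDual.transversal_iff i hn H₀).1 hH₀) hex
  exact Groth.Agent.ForSys.isGeneric_of_coords (Groth.Agent.ForSys.formEquiv k r d) _ p hp hp'

end Groth.Agent.S4022
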