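import Groth.Statements.S4025
import Groth.Agent.LefPencil.Open
-- import your own Groth.Agent.* helpers here

set_option autoImplicit false
universe u
open CategoryTheory CategoryTheory.Limits AlgebraicGeometry
open LefPen

namespace Groth.Agent.S4025

/-- Let k be an algebraically closed field and X an irreducible smooth proper k-scheme of dimension n ≥
1 embedded in projective r-space by a closed immersion i, and let d ≥ 1. Inside the dual variety
(the forms whose hypersurface does not cut X transversally), the forms H such that X ∩ V(H) is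
smooth except at exactly one point which is an ordinary quadratic singularity form an open subset:
around each such H₀ there is a polynomial function on the space of forms, non-zero at H₀, whose
non-vanishing locus meets the dual variety only in such forms. -/
theorem result (k : Type u) [Field k] [IsAlgClosed k] (r n : ℕ) (hn : 1 ≤ n)
    {X : Scheme.{u}} (i : X ⟶ CohB1.ProjSpace r k) [IsClosedImmersion i] [IrreducibleSpace X]
    [SmoothOfRelativeDimension n (i ≫ CohB1.ProjSpace.toSpec r k)]
    (d : ℕ) (hd : 1 ≤ d) (H₀ : LefPen.Form r k d) (hH₀ : LefPen.OneOrdQuad k n i H₀) :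
    ∃ f : LefPen.Form r k d → k, LefPen.IsPolyFun k f ∧ f H₀ ≠ 0 ∧
      ∀ H : LefPen.Form r k d, ¬ LefPen.Transversal k n 1 (LefPen.secToSpec i ({H} : Set (LefPen.Form r k d))) →
        f H ≠ 0 → LefPen.OneOrdQuad k n i H := by
  obtain ⟨m, rfl⟩ : ∃ m, n = m + 1 := ⟨n - 1, by omega⟩
  obtain ⟨q, hq, hq'⟩ := Groth.Agent.LefPencil.exists_poly_oneOrdQuad i H₀ hH₀
  refine ⟨(Groth.Agent.ForSys.polyEquiv (Groth.Agent.ForSys.formEquiv k r d) q).1,
    (Groth.Agent.ForSys.polyEquiv (Groth.Agent.ForSys.formEquiv k r d) q).2,
    by rwa [Groth.Agent.ForSys.polyEquiv_apply], fun H hH hf => hq' H ?_ ?_⟩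
  · rwa [Groth.Agent.ForSys.polyEquiv_apply] at hf
  · by_contra h
    exact hH ((Groth.Agent.LefDual.transversal_iff i hn H).2 h)

end Groth.Agent.S4025
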