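import Groth.Statements.S4064
import Groth.Agent.Ext1Realise.Basic
import Mathlib.Algebra.Homology.DerivedCategory.Ext.ExactSequences

set_option autoImplicit false
universe w v v'
open CategoryTheory CategoryTheory.Abelian
open SGA7

namespace Groth.Agent.S4064

/-- Let P -> F -> R and R -> E -> Q be short exact sequences in an abelian category (F an extension of R
by P, E an extension of Q by R). A blended extension of E by F is an object X with a monomorphism i
: F -> X and an epimorphism p : X -> E such that P -> X -> E (via i) and F -> X -> Q (via p) are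
short exact and F -> X -> E is the composite F -> R -> E. Such an X exists if and only if the
composite of the two extension classes, an element of Ext^2(Q, P), is zero. -/
theorem result {C : Type w} [Category.{v} C] [Abelian C]
    [HasExt.{v'} C] {P F R E Q : C} (a : P ⟶ F) (b : F ⟶ R) (wF : a ≫ b = 0)
    (hF : (ShortComplex.mk a b wF).ShortExact) (c : R ⟶ E) (d : E ⟶ Q) (wE : c ≫ d = 0)
    (hE : (ShortComplex.mk c d wE).ShortExact) :
    (∃ (X : C) (i : F ⟶ X) (p : X ⟶ E), i ≫ p = b ≫ c ∧
        (∃ w : (a ≫ i) ≫ p = 0, (ShortComplex.mk (a ≫ i) p w).ShortExact) ∧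
        (∃ w : i ≫ (p ≫ d) = 0, (ShortComplex.mk i (p ≫ d) w).ShortExact)) ↔
      hE.extClass.comp hF.extClass (rfl : 1 + 1 = 2) = 0 := by
  constructor
  · rintro ⟨X, i, p, hip, ⟨w₁, h₁⟩, -⟩
    have := Groth.Agent.Ext1Realise.mk₀_comp_extClass hF h₁ i c rfl hip
    rw [← this, ← Ext.comp_assoc (a₁₂ := 1) _ _ _ (add_zero 1) (zero_add 1) (by omega)]
    change (hE.extClass.comp (Ext.mk₀ (ShortComplex.mk c d wE).f) (add_zero 1)).comp _ _ = 0
    rw [ShortComplex.ShortExact.extClass_comp, Ext.zero_comp]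
  · intro h
    obtain ⟨ξ, hξ⟩ := Ext.contravariant_sequence_exact₁ hE P hF.extClass (rfl : 1 + 1 = 2) h
    obtain ⟨X, j, p, w, hX, hXξ⟩ := Groth.Agent.Ext1Realise.exists_extension ξ
    obtain ⟨i, hi₁, hi₂⟩ := Groth.Agent.Ext1Realise.exists_middle_map hF hX c (hXξ.symm ▸ hξ)
    subst hi₁
    have wi : i ≫ (p ≫ d) = 0 := by rw [← Category.assoc, hi₂, Category.assoc, wE, Limits.comp_zero]
    refine ⟨X, i, p, hi₂, ⟨w, hX⟩, wi, ?_⟩
    have : Mono a := hF.mono_f
    have : Epi b := hF.epi_g
    have : Mono c := hE.mono_f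
    have : Epi d := hE.epi_g
    have : Mono (a ≫ i) := hX.mono_f
    have : Epi p := hX.epi_g
    have : Mono i := Preadditive.mono_of_cancel_zero _ fun {Z} z hz => by
      have hzb : z ≫ b = 0 := by
        rw [← cancel_mono c, Category.assoc, ← hi₂, reassoc_of% hz]
        simp
      obtain ⟨l, rfl⟩ : ∃ l, l ≫ a = z := ⟨hF.exact.lift z hzb, hF.exact.lift_f z hzb⟩
      rw [Category.assoc] at hz
      have hl : l = 0 := Limits.zero_of_comp_mono (a ≫ i) hz
      rw [hl, Limits.zero_comp]
    refine { exact := ?_ }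
    rw [ShortComplex.exact_iff_exact_up_to_refinements]
    intro A x hx
    obtain ⟨r, hr⟩ : ∃ r, r ≫ c = x ≫ p :=
      ⟨hE.exact.lift (x ≫ p) (by simpa using hx), hE.exact.lift_f _ _⟩
    obtain ⟨A', π, hπ, y, hy⟩ := surjective_up_to_refinements_of_epi b r
    have hz : (π ≫ x - y ≫ i) ≫ p = 0 := by
      rw [Preadditive.sub_comp, Category.assoc, Category.assoc, hi₂, ← hr, ← Category.assoc,
        ← Category.assoc, hy, sub_self]
    refine ⟨A', π, hπ, y + hX.exact.lift _ hz ≫ a, ?_⟩
    have := hX.exact.lift_f _ hz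
    dsimp at this ⊢
    rw [Preadditive.add_comp, Category.assoc, this, add_sub_cancel]

end Groth.Agent.S4064
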