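import Groth.Statements.S4085
import Mathlib
import Groth.Agent.GrpdBasic.QuotFree
-- import your own Groth.Agent.* helpers here

set_option autoImplicit false
universe u
open CategoryTheory MonoidalCategory CartesianMonoidalCategory MonObj GrpObj AlgebraicGeometry CategoryTheory.Limits
open GrpQ

namespace Groth.Agent.S4085

section Aux
open Groth.Agent.GrpdBasic

set_option linter.style.haveILetI false
set_option backward.isDefEq.respectTransparency false

variable {S : Scheme.{u}} {G : Grpd.GroupoidScheme S} [IsFinite G.s] [Flat G.s]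
  [LocallyOfFinitePresentation G.s] {Y : Scheme.{u}} {q : G.U ⟶ Y}

theorem isOpenMap_of_isQ (hq : IsQ G.s G.t q) : IsOpenMap q.base := by
  obtain ⟨_, _, _⟩ := finLocFree_t G
  haveI := hq.integral
  have hqm : Topology.IsQuotientMap q.base := q.isClosedMap.isQuotientMap q.continuous hq.surj
  intro U hU
  rw [← hqm.isOpen_preimage]
  have : q.base ⁻¹' (q.base '' U) = G.t.base '' (G.s.base ⁻¹' U) := by
    ext x
    constructor
    · rintro ⟨y, hy, h⟩
      obtain ⟨r, hr, hr'⟩ := hq.orbit x y h.symm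
      exact ⟨r, (by show G.s.base r ∈ U; rw [hr']; exact hy), hr⟩
    · rintro ⟨r, hr, rfl⟩
      exact ⟨_, hr, congrArg (fun f => f.base r) hq.inv⟩
  rw [this]
  exact G.t.isOpenMap _ (hU.preimage G.s.continuous)

theorem surjective_lift_t_s (hq : IsQ G.s G.t q)
    (hch : ∀ y : Y, ∃ (W : InvAffine G) (j : qObj G W ⟶ Y) (_ : IsOpenImmersion j),
      y ∈ j.opensRange ∧ IsPullback W.1.ι (resA G W).toQuot q j) :
    Function.Surjective (pullback.lift G.t G.s hq.inv.symm).base := by
  intro z
  let P := pullback q q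
  let K := AlgebraicClosure (P.residueField z)
  let zb : Spec (CommRingCat.of K) ⟶ P :=
    Spec.map (CommRingCat.ofHom (algebraMap (P.residueField z) K)) ≫ P.fromSpecResidueField z
  have hzb : ∀ a, zb.base a = z := fun a => by
    show P.fromSpecResidueField z _ = z
    exact Scheme.fromSpecResidueField_apply z _
  obtain ⟨W, j, hj, hy, hpb⟩ := hch (q.base ((pullback.fst q q).base z))
  obtain ⟨_, _, _⟩ := finLocFree_t (resA G W)
  have hin : ∀ (f : P ⟶ G.U), f ≫ q = pullback.fst q q ≫ q → Set.range (zb ≫ f) ⊆ Set.range W.1.ι := by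
    intro f hf
    rintro _ ⟨a, rfl⟩
    have hm : q.base (f.base z) ∈ j.opensRange := by
      rw [← Scheme.Hom.comp_apply, hf, Scheme.Hom.comp_apply]
      exact hy
    obtain ⟨b, hb⟩ := hm
    obtain ⟨c, hc, -⟩ := Scheme.Pullback.exists_preimage_pullback (f.base z) b hb.symm
    refine ⟨hpb.isoPullback.inv c, ?_⟩
    rw [← Scheme.Hom.comp_apply, hpb.isoPullback_inv_fst, hc, Scheme.Hom.comp_apply, hzb]
  have h0 := hin (pullback.fst q q) rfl
  have h1 := hin (pullback.snd q q) pullback.condition.symm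
  obtain ⟨l0, e0⟩ : ∃ l, l ≫ W.1.ι = zb ≫ pullback.fst q q := ⟨_, IsOpenImmersion.lift_fac W.1.ι _ h0⟩
  obtain ⟨l1, e1⟩ : ∃ l, l ≫ W.1.ι = zb ≫ pullback.snd q q := ⟨_, IsOpenImmersion.lift_fac W.1.ι _ h1⟩
  obtain ⟨r, hr0, hr1⟩ := (((Groth.Agent.S1878.result S (resA G W)).2 K).2
    l0 l1).1 (by
      rw [← cancel_mono j, Category.assoc, Category.assoc, ← hpb.w, reassoc_of% e0, reassoc_of% e1,
        pullback.condition])
  have e2 : (r ≫ (G.s ⁻¹ᵁ W.1).ι) ≫ pullback.lift G.t G.s hq.inv.symm = zb := by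
    apply pullback.hom_ext
    · rw [Category.assoc, pullback.lift_fst, Category.assoc, ← resA_t_ι, reassoc_of% hr0]
      exact e0
    · rw [Category.assoc, pullback.lift_snd, Category.assoc, ← resA_s_ι, reassoc_of% hr1]
      exact e1
  refine ⟨(r ≫ (G.s ⁻¹ᵁ W.1).ι).base (IsLocalRing.closedPoint K), ?_⟩
  rw [← Scheme.Hom.comp_apply, e2, hzb]

theorem isAffine_of_isQ (hq : IsQ G.s G.t q) [IsAffine G.U] : IsAffine Y := by
  obtain ⟨_, _, _⟩ := finLocFree_t G
  haveI : IsAffine G.R := isAffine_of_isAffineHom G.s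
  have h0 := isQ_toQuot G
  obtain ⟨a, ha⟩ := h0.exists_desc q hq.inv
  obtain ⟨b, hb⟩ := hq.exists_desc G.toQuot h0.inv
  have hab : a ≫ b = 𝟙 _ := h0.hom_ext _ _ (by rw [reassoc_of% ha, hb, Category.comp_id])
  have hba : b ≫ a = 𝟙 _ := hq.hom_ext _ _ (by rw [reassoc_of% hb, ha, Category.comp_id])
  haveI : IsIso b := ⟨a, hba, hab⟩
  exact IsAffine.of_isIso b

end Aux

/-- Let (U, R, s, t, c) be a groupoid scheme over S such that the source map s is finite locally free
and, for every point x of U, the set t(s⁻¹(x)) is contained in an affine open of U. Then there are a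
scheme Y and a morphism p : U → Y with t ≫ p = s ≫ p which is a coequalizer of (t, s) in the
category of schemes; p is integral, surjective and open, two points of U have the same image exactly
when they are the target and source of a point of R, the morphism R → U ×_Y U with components (t, s)
is surjective, and Y is affine when U is. (The source also shows that (Y, p) is a cokernel in all
ringed spaces.) -/
theorem result (S : Scheme.{u}) (G : Grpd.GroupoidScheme S)
    (ha : Mor2.IsFinLocFree G.s)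
    (hb : ∀ x : G.U, ∃ V : G.U.Opens, IsAffineOpen V ∧ G.t.base '' (G.s.base ⁻¹' {x}) ⊆ (V : Set G.U)) :
    ∃ (Y : Scheme.{u}) (p : G.U ⟶ Y) (w : G.t ≫ p = G.s ≫ p),
      Nonempty (IsColimit (Cofork.ofπ p w)) ∧ IsIntegralHom p ∧ Surjective p ∧ IsOpenMap p.base ∧
      (∀ x y : G.U, p.base x = p.base y ↔ ∃ r : G.R, G.t.base r = x ∧ G.s.base r = y) ∧
      Function.Surjective (pullback.lift G.t G.s w).base ∧ (IsAffine G.U → IsAffine Y) := by
  obtain ⟨_, _, _⟩ := ha
  obtain ⟨Y, q, hq, hch⟩ := Groth.Agent.GrpdBasic.exists_isQ hb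
  refine ⟨Y, q, hq.inv.symm, ⟨Cofork.IsColimit.mk _ (fun c => (hq.exists_desc c.π c.condition.symm).choose)
    (fun c => (hq.exists_desc c.π c.condition.symm).choose_spec)
    (fun c m hm => hq.hom_ext _ _ (hm.trans (hq.exists_desc c.π c.condition.symm).choose_spec.symm))⟩,
    hq.integral, ⟨hq.surj⟩, isOpenMap_of_isQ hq, fun x y => ⟨hq.orbit x y, ?_⟩,
    surjective_lift_t_s hq hch, fun _ => isAffine_of_isQ hq⟩
  rintro ⟨r, rfl, rfl⟩
  exact (congrArg (fun f => f.base r) hq.inv).symm

end Groth.Agent.S4085
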