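import Groth.Statements.S4086
import Mathlib
import Groth.Agent.GrpdBasic.QuotFree
-- import your own Groth.Agent.* helpers here

set_option autoImplicit false
universe u
open CategoryTheory MonoidalCategory CartesianMonoidalCategory MonObj GrpObj AlgebraicGeometry CategoryTheory.Limits
open GrpQ

namespace Groth.Agent.S4086

/-- Let (U, R, s, t, c) be a groupoid scheme over S with s finite locally free and every set t(s⁻¹(x))
contained in an affine open of U, and assume that j = (t, s) : R → U ×_S U is a monomorphism. Then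
for every coequalizer p : U → Y of (t, s) in schemes, the square formed by t, s, p, p is cartesian
(R ≅ U ×_Y U) and p is finite locally free. (The source adds that Y is then the quotient sheaf for
the fppf topology and that its formation commutes with base change on Y.) -/
theorem result (S : Scheme.{u}) (G : Grpd.GroupoidScheme S)
    (ha : Mor2.IsFinLocFree G.s)
    (hb : ∀ x : G.U, ∃ V : G.U.Opens, IsAffineOpen V ∧ G.t.base '' (G.s.base ⁻¹' {x}) ⊆ (V : Set G.U))
    [Mono G.j] (Y : Scheme.{u}) (p : G.U ⟶ Y) (w : G.t ≫ p = G.s ≫ p) (hc : IsColimit (Cofork.ofπ p w)) :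
    IsPullback G.t G.s p p ∧ Mor2.IsFinLocFree p := by
  obtain ⟨_, _, _⟩ := ha
  obtain ⟨Y', q, hq, h1, h2, h3, hpb⟩ := Groth.Agent.GrpdBasic.exists_free_quotient G hb
  obtain ⟨b, hb'⟩ := hq.exists_desc p w.symm
  let a : Y ⟶ Y' := hc.desc (Cofork.ofπ q hq.inv.symm)
  have ha' : p ≫ a = q := hc.fac (Cofork.ofπ q hq.inv.symm) WalkingParallelPair.one
  have hba : b ≫ a = 𝟙 _ := hq.hom_ext _ _ (by rw [reassoc_of% hb', ha', Category.comp_id])
  have hab : a ≫ b = 𝟙 _ := Cofork.IsColimit.hom_ext hc (by
    show p ≫ a ≫ b = p ≫ 𝟙 _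
    rw [reassoc_of% ha', hb', Category.comp_id])
  have : IsIso b := ⟨a, hba, hab⟩
  refine ⟨?_, ?_⟩
  · rw [← hb']
    refine hpb.of_iso (Iso.refl _) (Iso.refl _) (Iso.refl _) (asIso b) ?_ ?_ ?_ ?_ <;> simp
  · rw [← hb']
    exact ⟨inferInstance, inferInstance, inferInstance⟩

end Groth.Agent.S4086
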