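import Groth.Statements.S4087
import Mathlib
import Groth.Agent.GrpdBasic.QuotFree
import Groth.Agent.GrpdBasic.QuotPoints
import Groth.Agent.SourceDescent.Basic
import Groth.Agent.SGA1QuotLib.UnivHomeo
-- import your own Groth.Agent.* helpers here

set_option autoImplicit false
universe u
open CategoryTheory MonoidalCategory CartesianMonoidalCategory MonObj GrpObj AlgebraicGeometry CategoryTheory.Limits
open GrpQ

namespace Groth.Agent.S4087

section Aux
open Groth.Agent.GrpdBasic

set_option linter.style.haveILetI false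
set_option backward.isDefEq.respectTransparency false

variable {S : Scheme.{u}} (G : Grpd.GroupoidScheme S) {U' : Scheme.{u}} (u : U' ⟶ G.U)

/-- The map `V = R ×_{t,U} U' ⟶ U` given by the source. -/
noncomputable def sigma : pullback G.t u ⟶ G.U := pullback.fst G.t u ≫ G.s

/-- Arrows between points of `U'`. -/
noncomputable abbrev pR' : Scheme.{u} := pullback (sigma G u) u

noncomputable def arr : pR' G u ⟶ G.R := pullback.fst (sigma G u) u ≫ pullback.fst G.t u

noncomputable def tgt : pR' G u ⟶ U' := pullback.fst (sigma G u) u ≫ pullback.snd G.t u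

noncomputable def src : pR' G u ⟶ U' := pullback.snd (sigma G u) u

theorem arr_t : arr G u ≫ G.t = tgt G u ≫ u := by rw [arr, tgt, Category.assoc, Category.assoc, pullback.condition]

theorem arr_s : arr G u ≫ G.s = src G u ≫ u := by rw [arr, src, Category.assoc]; exact pullback.condition

variable {G u}

theorem pR'_ext {T : Scheme.{u}} {f g : T ⟶ pR' G u} (h : f ≫ arr G u = g ≫ arr G u)
    (ht : f ≫ tgt G u = g ≫ tgt G u) (hs : f ≫ src G u = g ≫ src G u) : f = g := by
  refine pullback.hom_ext (pullback.hom_ext ?_ ?_) hs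
  · simpa [arr, Category.assoc] using h
  · simpa [tgt, Category.assoc] using ht

/-- A point of `R'`. -/
noncomputable def mkR {T : Scheme.{u}} (r : T ⟶ G.R) (x y : T ⟶ U') (ht : r ≫ G.t = x ≫ u)
    (hs : r ≫ G.s = y ≫ u) : T ⟶ pR' G u :=
  pullback.lift (pullback.lift r x ht) y (by rw [sigma, pullback.lift_fst_assoc]; exact hs)

theorem mkR_arr {T : Scheme.{u}} (r : T ⟶ G.R) (x y : T ⟶ U') (ht hs) :
    mkR r x y ht hs ≫ arr G u = r := by
  rw [mkR, arr, pullback.lift_fst_assoc, pullback.lift_fst]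

theorem mkR_tgt {T : Scheme.{u}} (r : T ⟶ G.R) (x y : T ⟶ U') (ht hs) :
    mkR r x y ht hs ≫ tgt G u = x := by
  rw [mkR, tgt, pullback.lift_fst_assoc, pullback.lift_snd]

theorem mkR_src {T : Scheme.{u}} (r : T ⟶ G.R) (x y : T ⟶ U') (ht hs) :
    mkR r x y ht hs ≫ src G u = y := by
  rw [mkR, src, pullback.lift_snd]

theorem cond_mul {T : Scheme.{u}} (α β : T ⟶ pR' G u) (h : α ≫ src G u = β ≫ tgt G u) :
    (α ≫ arr G u) ≫ G.s = (β ≫ arr G u) ≫ G.t := by
  rw [Category.assoc, Category.assoc, arr_s, arr_t, reassoc_of% h]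

variable (G u)

/-- The composition. -/
noncomputable def cU : pullback (src G u) (tgt G u) ⟶ pR' G u :=
  mkR (mul G _ _ (cond_mul (pullback.fst _ _) (pullback.snd _ _) pullback.condition))
    (pullback.fst _ _ ≫ tgt G u) (pullback.snd _ _ ≫ src G u)
    (by rw [mul_t, Category.assoc, arr_t, ← Category.assoc])
    (by rw [mul_s, Category.assoc, arr_s, ← Category.assoc])

theorem cU_arr {T : Scheme.{u}} (α β : T ⟶ pR' G u) (h : α ≫ src G u = β ≫ tgt G u) :
    (pullback.lift α β h ≫ cU G u) ≫ arr G u = mul G _ _ (cond_mul α β h) := by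
  rw [Category.assoc, cU, mkR_arr, comp_mul]
  exact mul_congr G (by rw [← Category.assoc, pullback.lift_fst]) (by rw [← Category.assoc, pullback.lift_snd]) _

theorem cU_tgt {T : Scheme.{u}} (α β : T ⟶ pR' G u) (h : α ≫ src G u = β ≫ tgt G u) :
    (pullback.lift α β h ≫ cU G u) ≫ tgt G u = α ≫ tgt G u := by
  rw [Category.assoc, cU, mkR_tgt, ← Category.assoc, pullback.lift_fst]

theorem cU_src {T : Scheme.{u}} (α β : T ⟶ pR' G u) (h : α ≫ src G u = β ≫ tgt G u) :
    (pullback.lift α β h ≫ cU G u) ≫ src G u = β ≫ src G u := by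
  rw [Category.assoc, cU, mkR_src, ← Category.assoc, pullback.lift_snd]

theorem e_cond : (u ≫ G.e) ≫ G.t = 𝟙 U' ≫ u ∧ (u ≫ G.e) ≫ G.s = 𝟙 U' ≫ u := by
  rw [Category.assoc, Category.assoc, G.e_t, G.e_s, Category.comp_id, Category.id_comp]
  exact ⟨rfl, rfl⟩

theorem i_cond : (arr G u ≫ G.i) ≫ G.t = src G u ≫ u ∧ (arr G u ≫ G.i) ≫ G.s = tgt G u ≫ u := by
  rw [Category.assoc (arr G u) G.i, Category.assoc (arr G u) G.i, G.i_t, G.i_s, arr_t, arr_s]
  exact ⟨rfl, rfl⟩

/-- The groupoid induced on `U'`. -/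
noncomputable abbrev pullG : Grpd.GroupoidScheme S where
  U := U'
  R := pR' G u
  pU := u ≫ G.pU
  pR := src G u ≫ u ≫ G.pU
  s := src G u
  t := tgt G u
  e := mkR (u ≫ G.e) (𝟙 U') (𝟙 U') (e_cond G u).1 (e_cond G u).2
  i := mkR (arr G u ≫ G.i) (src G u) (tgt G u) (i_cond G u).1 (i_cond G u).2
  c := cU G u
  s_over := rfl
  t_over := by rw [← Category.assoc, ← arr_t, Category.assoc, G.t_over, ← G.s_over, ← Category.assoc, arr_s, Category.assoc]
  comp_s := cU_src G u
  comp_t := cU_tgt G u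
  assoc α β δ h₁ h₂ := by
    refine pR'_ext ?_ ?_ ?_
    · rw [cU_arr G u (pullback.lift α β h₁ ≫ cU G u) δ, cU_arr G u α (pullback.lift β δ h₂ ≫ cU G u)]
      refine (mul_congr G (cU_arr G u α β h₁) rfl _).trans
        ((mul_assoc G _ _ _ (cond_mul α β h₁) (cond_mul β δ h₂)).trans ?_)
      exact (mul_congr G rfl (cU_arr G u β δ h₂).symm _)
    · rw [cU_tgt, cU_tgt, cU_tgt]
    · rw [cU_src, cU_src, cU_src]
  e_s := mkR_src _ _ _ _ _
  e_t := mkR_tgt _ _ _ _ _
  comp_e α := by
    refine pR'_ext ?_ ?_ ?_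
    · rw [cU_arr]
      refine mul_one G _ _ ?_ _
      simp only [Category.assoc, mkR_arr]
      rw [← reassoc_of% (arr_s G u)]
    · rw [cU_tgt]
    · rw [cU_src, Category.assoc, Category.assoc, mkR_src, Category.comp_id]
  e_comp α := by
    refine pR'_ext ?_ ?_ ?_
    · rw [cU_arr]
      refine one_mul G _ _ ?_ _
      simp only [Category.assoc, mkR_arr]
      rw [← reassoc_of% (arr_t G u)]
    · rw [cU_tgt, Category.assoc, Category.assoc, mkR_tgt, Category.comp_id]
    · rw [cU_src]
  i_s := mkR_src _ _ _ _ _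
  i_t := mkR_tgt _ _ _ _ _
  comp_i α := by
    have hh : (α ≫ mkR (arr G u ≫ G.i) (src G u) (tgt G u) (i_cond G u).1 (i_cond G u).2) ≫ arr G u =
        (α ≫ arr G u) ≫ G.i := by
      rw [Category.assoc, mkR_arr, Category.assoc]
    refine pR'_ext ?_ ?_ ?_
    · rw [cU_arr, mul_congr G (α' := α ≫ arr G u) rfl hh, Groth.Agent.GrpdBasic.mul_inv]
      simp only [Category.assoc, mkR_arr]
      rw [← reassoc_of% (arr_t G u)]
    · rw [cU_tgt]; simp only [Category.assoc, mkR_tgt, Category.comp_id]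
    · rw [cU_src]; simp only [Category.assoc, mkR_src, Category.comp_id]
  i_comp α := by
    have hh : (α ≫ mkR (arr G u ≫ G.i) (src G u) (tgt G u) (i_cond G u).1 (i_cond G u).2) ≫ arr G u =
        (α ≫ arr G u) ≫ G.i := by
      rw [Category.assoc, mkR_arr, Category.assoc]
    refine pR'_ext ?_ ?_ ?_
    · rw [cU_arr, mul_congr G (β' := α ≫ arr G u) hh rfl, Groth.Agent.GrpdBasic.inv_mul]
      simp only [Category.assoc, mkR_arr]
      rw [← reassoc_of% (arr_s G u)]
    · rw [cU_tgt]; simp only [Category.assoc, mkR_tgt, Category.comp_id]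
    · rw [cU_src]; simp only [Category.assoc, mkR_src, Category.comp_id]

theorem mono_pullG_j [Mono G.j] : Mono (pullG G u).j := by
  refine ⟨fun {T} f g h => ?_⟩
  obtain ⟨ht, hs⟩ := (j_eq_iff (pullG G u) f g).1 h
  refine pR'_ext (t_s_ext G ?_ ?_) ht hs
  · rw [Category.assoc _ (arr G u), Category.assoc _ (arr G u), arr_t, reassoc_of% ht]
  · rw [Category.assoc _ (arr G u), Category.assoc _ (arr G u), arr_s, reassoc_of% hs]

/-- The arrow joining two points of `U` from arrows into `U'` and an arrow of `U'`. -/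
theorem exists_join {T : Scheme.{u}} (a₀ a₁ : T ⟶ pullback G.t u) (r' : T ⟶ pR' G u)
    (h₀ : r' ≫ tgt G u = a₀ ≫ pullback.snd G.t u) (h₁ : r' ≫ src G u = a₁ ≫ pullback.snd G.t u) :
    ∃ r : T ⟶ G.R, r ≫ G.t = a₀ ≫ sigma G u ∧ r ≫ G.s = a₁ ≫ sigma G u := by
  have e₁ : (r' ≫ arr G u) ≫ G.s = (a₁ ≫ pullback.fst G.t u) ≫ G.t := by
    rw [Category.assoc, Category.assoc, arr_s, reassoc_of% h₁, pullback.condition]
  have e₀ : ((a₀ ≫ pullback.fst G.t u) ≫ G.i) ≫ G.s = mul G _ _ e₁ ≫ G.t := by
    rw [mul_t, Category.assoc _ G.i, G.i_s, Category.assoc _ (arr G u), arr_t, reassoc_of% h₀,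
      Category.assoc, pullback.condition]
  refine ⟨mul G _ _ e₀, ?_, ?_⟩
  · rw [sigma, mul_t, Category.assoc _ G.i, G.i_t, Category.assoc]
  · rw [sigma, mul_s, mul_s, Category.assoc]

section main

variable [IsFinite (sigma G u)] [Flat (sigma G u)] [LocallyOfFinitePresentation (sigma G u)]
  [Surjective (sigma G u)]

instance : IsFinite (pullG G u).s := inferInstanceAs (IsFinite (pullback.snd (sigma G u) u))
instance : Flat (pullG G u).s := inferInstanceAs (Flat (pullback.snd (sigma G u) u))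
instance : LocallyOfFinitePresentation (pullG G u).s :=
  inferInstanceAs (LocallyOfFinitePresentation (pullback.snd (sigma G u) u))

omit [IsFinite (sigma G u)] [Flat (sigma G u)] [LocallyOfFinitePresentation (sigma G u)] [Surjective (sigma G u)] in
theorem affClasses_pullG
    (h2 : ∀ E : Set U', (∀ x ∈ E, ∀ y ∈ E, ∃ r : G.R, G.t.base r = u.base x ∧ G.s.base r = u.base y) →
      ∃ W : U'.Opens, IsAffineOpen W ∧ E ⊆ (W : Set U')) : AffClasses (pullG G u) := by
  intro x
  refine h2 _ ?_
  rintro _ ⟨r₁, hr₁, rfl⟩ _ ⟨r₂, hr₂, rfl⟩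
  rw [Set.mem_preimage, Set.mem_singleton_iff] at hr₁ hr₂
  have key : ∀ r : pR' G u, src G u r = x → Orb G (u (tgt G u r)) (u x) := fun r hr =>
    ⟨arr G u r, by rw [← Scheme.Hom.comp_apply, arr_t, Scheme.Hom.comp_apply],
      by rw [← Scheme.Hom.comp_apply, arr_s, Scheme.Hom.comp_apply, hr]⟩
  exact (orb_equivalence G).trans (key r₁ hr₁) ((orb_equivalence G).symm (key r₂ hr₂))

theorem exists_quotient_of_quasiSection
    (h2 : ∀ E : Set U', (∀ x ∈ E, ∀ y ∈ E, ∃ r : G.R, G.t.base r = u.base x ∧ G.s.base r = u.base y) →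
      ∃ W : U'.Opens, IsAffineOpen W ∧ E ⊆ (W : Set U')) :
    ∃ (Y : Scheme.{u}) (p : G.U ⟶ Y) (w : G.t ≫ p = G.s ≫ p),
      Nonempty (IsColimit (Cofork.ofπ p w)) ∧ Surjective p ∧
      (IsOpenMap G.t.base → IsOpenMap p.base) ∧ (UniversallyClosed G.t → UniversallyClosed p) ∧
      Function.Surjective (pullback.lift G.t G.s w).base ∧
      (Mono G.j → IsPullback G.t G.s p p ∧ (Flat G.t → Flat p)) := by
  obtain ⟨Y, q, hq, hch⟩ := exists_isQ (affClasses_pullG G u h2)
  haveI := hq.integral
  have hker : ∀ {Z : Scheme.{u}} (g₁ g₂ : Z ⟶ pullback G.t u), g₁ ≫ sigma G u = g₂ ≫ sigma G u →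
      g₁ ≫ pullback.snd G.t u ≫ q = g₂ ≫ pullback.snd G.t u ≫ q := by
    intro Z g₁ g₂ h
    have hm : (g₁ ≫ pullback.fst G.t u) ≫ G.s = ((g₂ ≫ pullback.fst G.t u) ≫ G.i) ≫ G.t := by
      rw [Category.assoc _ G.i, G.i_t, Category.assoc, Category.assoc]; exact h
    let r := mkR (u := u) (mul G _ _ hm) (g₁ ≫ pullback.snd G.t u) (g₂ ≫ pullback.snd G.t u)
      (by rw [mul_t, Category.assoc, Category.assoc, pullback.condition])
      (by rw [mul_s, Category.assoc _ G.i, G.i_s, Category.assoc, Category.assoc, pullback.condition])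
    have := congrArg (r ≫ ·) hq.inv
    simp only [r, ← Category.assoc] at this ⊢
    rw [mkR_src, mkR_tgt] at this
    exact this.symm
  let p : G.U ⟶ Y := EffectiveEpi.desc (sigma G u) (pullback.snd G.t u ≫ q) hker
  have hσp : sigma G u ≫ p = pullback.snd G.t u ≫ q := EffectiveEpi.fac _ _ hker
  have hup : u ≫ p = q := by
    let sec : U' ⟶ pullback G.t u := pullback.lift (u ≫ G.e) (𝟙 U') (e_cond G u).1
    have hsec : sec ≫ sigma G u = u := by
      rw [sigma, pullback.lift_fst_assoc, Category.assoc, G.e_s, Category.comp_id]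
    rw [← hsec, Category.assoc, hσp, pullback.lift_snd_assoc, Category.id_comp]
  have w : G.t ≫ p = G.s ≫ p := by
    have hc : (pullback.snd G.t (sigma G u) ≫ pullback.fst G.t u) ≫ G.s = pullback.fst G.t (sigma G u) ≫ G.t := by
      rw [Category.assoc]; exact pullback.condition.symm
    let m : pullback G.t (sigma G u) ⟶ pullback G.t u :=
      pullback.lift (mul G _ _ hc) (pullback.snd G.t (sigma G u) ≫ pullback.snd G.t u)
        (by rw [mul_t, Category.assoc, Category.assoc, pullback.condition])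
    have hm : m ≫ sigma G u = pullback.fst G.t (sigma G u) ≫ G.s := by
      show m ≫ pullback.fst G.t u ≫ G.s = _
      rw [pullback.lift_fst_assoc, mul_s]
    rw [← cancel_epi (pullback.fst G.t (sigma G u)), ← reassoc_of% hm, pullback.condition_assoc, hσp,
      pullback.lift_snd_assoc, Category.assoc]
  have hqm : Topology.IsQuotientMap q.base := q.isClosedMap.isQuotientMap q.continuous hq.surj
  have hqu : ∀ z, p.base (u.base z) = q.base z := fun z => congrArg (fun f => f.base z) hup
  have horb : ∀ x y, p.base x = p.base y → Orb G x y := by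
    intro x y h
    obtain ⟨a, rfl⟩ := (sigma G u).surjective x
    obtain ⟨b, rfl⟩ := (sigma G u).surjective y
    have e : ∀ c : (pullback G.t u : Scheme.{u}), p.base ((sigma G u).base c) = q.base ((pullback.snd G.t u).base c) := fun c =>
      congrArg (fun f => f.base c) hσp
    rw [e, e] at h
    obtain ⟨r, hr, hr'⟩ := hq.orbit _ _ h
    have h1 : ∀ c : (pullback G.t u : Scheme.{u}), Orb G (u ((pullback.snd G.t u) c)) (sigma G u c) := fun c =>
      ⟨pullback.fst G.t u c, by rw [← Scheme.Hom.comp_apply, pullback.condition, Scheme.Hom.comp_apply],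
        rfl⟩
    refine (orb_equivalence G).trans ((orb_equivalence G).symm (h1 a)) ((orb_equivalence G).trans ?_ (h1 b))
    refine ⟨arr G u r, ?_, ?_⟩
    · rw [← Scheme.Hom.comp_apply, arr_t, Scheme.Hom.comp_apply]
      exact congrArg u.base hr
    · rw [← Scheme.Hom.comp_apply, arr_s, Scheme.Hom.comp_apply]
      exact congrArg u.base hr'
  refine ⟨Y, p, w, ⟨Cofork.IsColimit.mk _ (fun c => (hq.exists_desc (u ≫ c.π) ?_).choose) (fun c => ?_)
    (fun c m hm => hq.hom_ext _ _ ?_)⟩, ⟨fun y => ?_⟩, fun ho O hO => ?_, fun hc => ?_, fun z => ?_, fun hm => ?_⟩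
  · show src G u ≫ u ≫ c.π = tgt G u ≫ u ≫ c.π
    rw [← reassoc_of% (arr_s G u), ← reassoc_of% (arr_t G u), c.condition]
  · show p ≫ _ = c.π
    generalize_proofs hp
    rw [← cancel_epi (sigma G u), reassoc_of% hσp, hp.choose_spec]
    show _ = (pullback.fst G.t u ≫ G.s) ≫ c.π
    rw [← pullback.condition_assoc, Category.assoc, c.condition]
  · generalize_proofs hp
    rw [hp.choose_spec, ← hup, Category.assoc]
    exact congrArg (u ≫ ·) hm
  · obtain ⟨z, rfl⟩ := hq.surj y
    exact ⟨u z, hqu z⟩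
  · have hO' : p.base ⁻¹' (p.base '' O) = G.t.base '' (G.s.base ⁻¹' O) := by
      ext x
      constructor
      · rintro ⟨y, hy, h⟩
        obtain ⟨r, hr, hr'⟩ := horb x y h.symm
        exact ⟨r, (by show G.s.base r ∈ O; rw [hr']; exact hy), hr⟩
      · rintro ⟨r, hr, rfl⟩
        exact ⟨_, hr, (congrArg (fun f => f.base r) w).symm⟩
    rw [← hqm.isOpen_preimage]
    have : q.base ⁻¹' (p.base '' O) = u.base ⁻¹' (p.base ⁻¹' (p.base '' O)) := by
      ext z
      simp only [Set.mem_preimage, hqu]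
    rw [this, hO']
    exact (ho _ (hO.preimage G.s.continuous)).preimage u.continuous
  · haveI := hc
    haveI : UniversallyClosed (pullback.snd G.t u ≫ q) := inferInstance
    haveI : UniversallyClosed (sigma G u ≫ p) := by rw [hσp]; infer_instance
    exact UniversallyClosed.of_comp_surjective (sigma G u) p
  · let P := pullback p p
    let K := AlgebraicClosure (P.residueField z)
    let zb : Spec (CommRingCat.of K) ⟶ P :=
      Spec.map (CommRingCat.ofHom (algebraMap (P.residueField z) K)) ≫ P.fromSpecResidueField z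
    obtain ⟨a₀, ha₀⟩ := Groth.Agent.SGA1QuotLib.exists_lift_algClosed (sigma G u) (zb ≫ pullback.fst p p)
    obtain ⟨a₁, ha₁⟩ := Groth.Agent.SGA1QuotLib.exists_lift_algClosed (sigma G u) (zb ≫ pullback.snd p p)
    obtain ⟨r', hr₀, hr₁⟩ := exists_point_of_eq hch (a₀ ≫ pullback.snd G.t u) (a₁ ≫ pullback.snd G.t u) (by
      rw [Category.assoc, Category.assoc, ← hσp, reassoc_of% ha₀, reassoc_of% ha₁, pullback.condition])
    obtain ⟨r, hrt, hrs⟩ := exists_join G u a₀ a₁ r' hr₀ hr₁
    have e : r ≫ pullback.lift G.t G.s w =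
        Spec.map (CommRingCat.ofHom (algebraMap K (AlgebraicClosure K))) ≫ zb := by
      apply pullback.hom_ext
      · rw [Category.assoc, pullback.lift_fst, hrt, ha₀]; exact (Category.assoc _ _ _).symm
      · rw [Category.assoc, pullback.lift_snd, hrs, ha₁]; exact (Category.assoc _ _ _).symm
    refine ⟨r.base (IsLocalRing.closedPoint _), ?_⟩
    rw [← Scheme.Hom.comp_apply, e, Scheme.Hom.comp_apply]
    exact Scheme.fromSpecResidueField_apply z _
  · haveI := mono_pullG_j G u
    have hpb := isPullback_t_s hch hq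
    have key : ∀ {T : Scheme.{u}} (f g : T ⟶ G.U), f ≫ p = g ≫ p →
        ∃ r : T ⟶ G.R, r ≫ G.t = f ∧ r ≫ G.s = g := by
      intro T f g h
      let T₁ := pullback f (sigma G u)
      let T₀ := pullback (pullback.fst f (sigma G u) ≫ g) (sigma G u)
      let c : T₀ ⟶ T := pullback.fst _ _ ≫ pullback.fst f (sigma G u)
      obtain ⟨a₀, e₀⟩ : ∃ a : T₀ ⟶ pullback G.t u, a ≫ sigma G u = c ≫ f :=
        ⟨pullback.fst _ _ ≫ pullback.snd f (sigma G u), by
          simp only [c, Category.assoc]; rw [pullback.condition]⟩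
      obtain ⟨a₁, e₁⟩ : ∃ a : T₀ ⟶ pullback G.t u, a ≫ sigma G u = c ≫ g :=
        ⟨pullback.snd _ _, by simp only [c, Category.assoc]; exact pullback.condition.symm⟩
      have hz : (a₀ ≫ pullback.snd G.t u) ≫ q = (a₁ ≫ pullback.snd G.t u) ≫ q := by
        rw [Category.assoc, Category.assoc, ← hσp, reassoc_of% e₀, reassoc_of% e₁, h]
      obtain ⟨r₀, hr₀, hr₀'⟩ := exists_join G u a₀ a₁ (hpb.lift _ _ hz) (hpb.lift_fst _ _ _) (hpb.lift_snd _ _ _)
      rw [e₀] at hr₀
      rw [e₁] at hr₀'
      have hdesc : ∀ {Z : Scheme.{u}} (g₁ g₂ : Z ⟶ T₀), g₁ ≫ c = g₂ ≫ c → g₁ ≫ r₀ = g₂ ≫ r₀ := fun g₁ g₂ hg =>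
        t_s_ext G (by rw [Category.assoc, Category.assoc, hr₀, reassoc_of% hg])
          (by rw [Category.assoc, Category.assoc, hr₀', reassoc_of% hg])
      refine ⟨EffectiveEpi.desc c r₀ hdesc, ?_, ?_⟩ <;> rw [← cancel_epi c, EffectiveEpi.fac_assoc]
      · exact hr₀
      · exact hr₀'
    choose r hrt hrs using @key
    refine ⟨⟨⟨w⟩, ⟨PullbackCone.IsLimit.mk w (fun c => r c.fst c.snd c.condition)
      (fun c => hrt c.fst c.snd c.condition) (fun c => hrs c.fst c.snd c.condition)
      (fun c m h1 h2 => t_s_ext G (h1.trans (hrt c.fst c.snd c.condition).symm)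
        (h2.trans (hrs c.fst c.snd c.condition).symm))⟩⟩, fun hf => ?_⟩
    haveI := hf
    haveI : Flat q := of_charts hch @Flat fun W => (chart_finLocFree W).2.1
    haveI : Flat (sigma G u ≫ p) := by rw [hσp]; infer_instance
    exact Groth.Agent.SourceDescent.flat_of_comp (sigma G u) p

end main

end Aux

/-- Let (U, R, s, t, c) be a groupoid scheme over S and u : U' → U an immersion which is a
quasi-section: writing V = R ×_{t, U} U' for the arrows with target in U', the morphism V → U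
induced by s is finite locally free and surjective, and every subset of U' whose points are pairwise
equivalent (any two are the target and the source of one arrow) lies in an affine open of U'. Then
(t, s) has a coequalizer p : U → Y in schemes; p is surjective, open if t is open, universally
closed if t is; R → U ×_Y U is surjective; and if j = (t, s) is a monomorphism, R ≅ U ×_Y U, and p
is flat when t is flat. -/
theorem result (S : Scheme.{u}) (G : Grpd.GroupoidScheme S)
    (U' : Scheme.{u}) (u : U' ⟶ G.U) [IsImmersion u]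
    (h1 : Mor2.IsFinLocFree (pullback.fst G.t u ≫ G.s) ∧ Surjective (pullback.fst G.t u ≫ G.s))
    (h2 : ∀ E : Set U', (∀ x ∈ E, ∀ y ∈ E, ∃ r : G.R, G.t.base r = u.base x ∧ G.s.base r = u.base y) →
      ∃ W : U'.Opens, IsAffineOpen W ∧ E ⊆ (W : Set U')) :
    ∃ (Y : Scheme.{u}) (p : G.U ⟶ Y) (w : G.t ≫ p = G.s ≫ p),
      Nonempty (IsColimit (Cofork.ofπ p w)) ∧ Surjective p ∧
      (IsOpenMap G.t.base → IsOpenMap p.base) ∧ (UniversallyClosed G.t → UniversallyClosed p) ∧
      Function.Surjective (pullback.lift G.t G.s w).base ∧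
      (Mono G.j → IsPullback G.t G.s p p ∧ (Flat G.t → Flat p)) := by
  obtain ⟨⟨e1, e2, e3⟩, e4⟩ := h1
  have : IsFinite (sigma G u) := e1
  have : Flat (sigma G u) := e2
  have : LocallyOfFinitePresentation (sigma G u) := e3
  have : Surjective (sigma G u) := e4
  exact exists_quotient_of_quasiSection G u h2

end Groth.Agent.S4087
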