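import Groth.Statements.S4104
import Groth.Agent.HopfFF.Sub


set_option autoImplicit false
universe u
open CategoryTheory MonoidalCategory CartesianMonoidalCategory MonObj GrpObj AlgebraicGeometry CategoryTheory.Limits
open SGA3

namespace Groth.Agent.S4104

open TensorProduct


/-- Let φ : A' → A be a bialgebra map between commutative Hopf algebras over a field k (a homomorphism
of affine k-groups Spec A → Spec A', not necessarily of finite type). If the corresponding morphism
of schemes is a monomorphism, i.e. φ is an epimorphism in the category of commutative rings, then φ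
is surjective (the homomorphism is a closed immersion). -/
theorem result (k : Type u) [Field k] (A' A : Type u) [CommRing A'] [HopfAlgebra k A']
    [CommRing A] [HopfAlgebra k A] (φ : A' →ₐc[k] A)
    (hepi : ∀ (R : Type u) [CommRing R] (f g : A →+* R), f.comp (φ : A' →+* A) = g.comp (φ : A' →+* A) → f = g) :
    Function.Surjective φ := by
  set R := (φ : A' →ₐ[k] A).range
  haveI : Module.FaithfullyFlat R A := HopfFF.faithfullyFlat_range φ
  intro x
  obtain ⟨a, ha⟩ : x ∈ R := by
    refine HopfFF.mem_of_tmul_eq ?_
    have h := hepi (A ⊗[R] A) Algebra.TensorProduct.includeLeftRingHom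
      (Algebra.TensorProduct.includeRight : A →ₐ[R] A ⊗[R] A).toRingHom (RingHom.ext fun a => ?_)
    · exact RingHom.congr_fun h x
    · show (φ a) ⊗ₜ[R] (1 : A) = (1 : A) ⊗ₜ[R] (φ a)
      have e : φ a = (⟨φ a, a, rfl⟩ : R) • (1 : A) := by
        rw [Subalgebra.smul_def, smul_eq_mul, _root_.mul_one]
      conv_lhs => rw [e, TensorProduct.smul_tmul, ← e]
  exact ⟨a, ha⟩

end Groth.Agent.S4104
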