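import Groth.Statements.S4130
import Groth.Agent.CommGrpDecomp.Decomp
import Groth.Agent.ComodBasic.UnipotentTriv
import Groth.Agent.MultType.Quot


set_option autoImplicit false
universe u
open TensorProduct
open SGA3

namespace Groth.Agent.S4130

open TensorProduct Groth.Agent.CommGrpDecomp Groth.Agent.ComodBasic in
private theorem exists_field_diag (k : Type u) [Field k] (Q : Type u) [CommRing Q] [HopfAlgebra k Q]
    (h : SGA3b.IsMultTypeConst k Q) : ∃ (K : Type u) (_ : Field K) (_ : Algebra k K),
      HopfRep.IsDiagonalizable K (K ⊗[k] Q) := by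
  obtain ⟨R', _, _, hff, M, _, ⟨e⟩⟩ := h
  haveI : Nontrivial R' := by
    by_contra h
    rw [not_nontrivial_iff_subsingleton] at h
    exact Module.FaithfullyFlat.submodule_ne_top (R := k) (M := R') (m := ⊥) Ideal.bot_isMaximal
      (Submodule.eq_top_iff'.2 fun x => by rw [Subsingleton.elim x 0]; exact zero_mem _)
  obtain ⟨p, hp⟩ := Ideal.exists_maximal R'
  letI : Field (R' ⧸ p) := Ideal.Quotient.field p
  let qm : R' →ₐ[k] R' ⧸ p := Ideal.Quotient.mkₐ k p
  let f : R' ⊗[k] Q →ₐ[k] (R' ⧸ p) ⊗[k] Q := Algebra.TensorProduct.map qm (AlgHom.id k Q)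
  let θ : R' ⊗[k] Q →ₐ[R'] (R' ⧸ p) ⊗[k] Q :=
    Algebra.TensorProduct.map (Algebra.ofId R' (R' ⧸ p)) (AlgHom.id k Q)
  have hθ : Groth.Agent.MultType.Compat (R' ⧸ p) θ := by
    refine ⟨fun x => ?_, fun x => ?_⟩
    · induction x using TensorProduct.induction_on with
      | zero => simp
      | add a b ha hb => simp only [map_add, ha, hb]
      | tmul r a => simp [θ, Algebra.smul_def]
    · induction x using TensorProduct.induction_on with
      | zero => simp
      | add a b ha hb => simp only [map_add, ha, hb]
      | tmul r a =>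
        simp only [θ, Algebra.TensorProduct.map_tmul, AlgHom.coe_id, id_eq, TensorProduct.comul_tmul,
          CommSemiring.comul_apply]
        generalize Coalgebra.comul (R := k) a = z
        induction z using TensorProduct.induction_on with
        | zero => simp
        | add a b ha hb => simp only [tmul_add, map_add, ha, hb]
        | tmul a b => simp [← Algebra.TensorProduct.one_def]
  have hf : ∀ g, IsGroupLikeElem R' g → IsGroupLikeElem (R' ⧸ p) (f g) := fun g hg =>
    (show f g = θ g by
      clear hg
      induction g using TensorProduct.induction_on with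
      | zero => simp
      | add a b ha hb => simp only [map_add, ha, hb]
      | tmul r a => simp [f, θ, qm]) ▸ hθ.isGroupLikeElem hg
  refine ⟨R' ⧸ p, inferInstance, inferInstance, ?_⟩
  refine top_le_iff.1 fun y _ => ?_
  obtain ⟨x, rfl⟩ := (show Function.Surjective f from by
    intro y
    induction y using TensorProduct.induction_on with
    | zero => exact ⟨0, map_zero f⟩
    | tmul r a =>
      obtain ⟨r, rfl⟩ := Ideal.Quotient.mk_surjective r
      exact ⟨r ⊗ₜ a, by simp [f, qm]⟩
    | add a b ha hb =>
      obtain ⟨a, rfl⟩ := ha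
      obtain ⟨b, rfl⟩ := hb
      exact ⟨a + b, map_add f a b⟩) y
  obtain ⟨w, rfl⟩ := (EquivLike.surjective e.symm) x
  induction w using MonoidAlgebra.induction_linear with
  | zero => simp
  | add a b ha hb => rw [map_add, map_add]; exact add_mem (ha trivial) (hb trivial)
  | single m r =>
    rw [← mul_one r, ← MonoidAlgebra.smul_single', map_smul,
      Algebra.smul_def, map_mul]
    have h1 : f (algebraMap R' (R' ⊗[k] Q) r) = algebraMap (R' ⧸ p) _ (qm r) := by simp [f, qm]
    rw [h1, ← Algebra.smul_def]
    exact Submodule.smul_mem _ _ (Submodule.subset_span (hf _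
      ((MonoidAlgebra.isGroupLikeElem_single_one (R := R') (A := R') m).map e.symm)))


open Groth.Agent.CommGrpDecomp Groth.Agent.ComodBasic


/-- Let A be a finitely generated commutative and cocommutative Hopf algebra over a field k (a
commutative affine algebraic group G = Spec A). Then G has a largest subgroup M of multiplicative
type and G/M is unipotent: there is a Hopf ideal J of A (defining M) such that A/J is of
multiplicative type (diagonalizable after a faithfully flat extension of k), J is contained in every
Hopf ideal I with A/I of multiplicative type, and J is the ideal generated by the augmentation ideal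
of the image of an injective bialgebra map φ : B → A from a Hopf algebra B (so Spec B = G/M) which
is unipotent in the fixed-vector sense. -/
theorem result (k : Type u) [Field k]
    (A : Type u) [CommRing A] [HopfAlgebra k A] [Algebra.FiniteType k A] [Coalgebra.IsCocomm k A] :
    ∃ (J : Ideal A) (_ : J.IsHopfIdeal k), SGA3b.IsMultTypeConst k (A ⧸ J) ∧
      (∀ (I : Ideal A) [I.IsHopfIdeal k], SGA3b.IsMultTypeConst k (A ⧸ I) → J ≤ I) ∧
      ∃ (B : Type u) (_ : CommRing B) (_ : HopfAlgebra k B) (φ : B →ₐc[k] A), Function.Injective φ ∧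
        J = Ideal.map (φ : B →+* A) (RingHom.ker (Bialgebra.counitAlgHom k B)) ∧ HopfRep.IsUnipotent k B := by
  have hB := isHopfSubalgebra_unipSub (k := k) (A := A)
  letI hBH := hopfAlgebra hB
  have hJ : (SGA3.augIdealSpan k A (unipSub k A)).IsHopfIdeal k := isHopfIdeal_augIdealSpan _ hB
  have hU : HopfRep.IsUnipotent k (unipSub k A) :=
    isUnipotent (valBialg hB) Subtype.val_injective fun b => b.2
  refine ⟨SGA3.augIdealSpan k A (unipSub k A), hJ, ?_, ?_, unipSub k A, inferInstance, hBH,
    valBialg hB, Subtype.val_injective, (map_ker_eq_augIdealSpan _ hB).symm, hU⟩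
  · refine ⟨AlgebraicClosure k, inferInstance, inferInstance, inferInstance, ?_⟩
    refine MultType.isDiag_of_groupLike
      (G := GroupLike (AlgebraicClosure k) (AlgebraicClosure k ⊗[k] (A ⧸ SGA3.augIdealSpan k A (unipSub k A))))
      { toFun := fun g => (g : AlgebraicClosure k ⊗[k] (A ⧸ SGA3.augIdealSpan k A (unipSub k A)))
        map_one' := rfl
        map_mul' := fun _ _ => rfl } (fun g => g.2) ?_
    rw [eq_top_iff, ← span_groupLike_quotient (K := AlgebraicClosure k)
      (Bialgebra.Quotient.mkBialgHom (R := k) (SGA3.augIdealSpan k A (unipSub k A)))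
      Ideal.Quotient.mk_surjective fun a ha => mk_eq_counit _ ha]
    exact Submodule.span_mono fun x hx => ⟨⟨x, hx⟩, rfl⟩
  · intro I _ hI
    obtain ⟨K, _, _, hK⟩ := exists_field_diag k (A ⧸ I) hI
    refine Ideal.span_le.2 fun a ha => ?_
    have h := bialgHom_apply_counit_of_unipotent_source hU hK
      ((Bialgebra.Quotient.mkBialgHom (R := k) I).comp (valBialg hB)) ⟨a, ha.1⟩
    refine Ideal.Quotient.eq_zero_iff_mem.1 (h.trans ?_)
    show algebraMap k (A ⧸ I) (Coalgebra.counit (R := k) a) = 0
    rw [ha.2, map_zero]

end Groth.Agent.S4130
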