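import Groth.Statements.S4135
import Groth.Agent.CMM.Env


set_option autoImplicit false
universe u
open TensorProduct
attribute [local instance] LieRing.ofAssociativeRing
open SGA3y

namespace Groth.Agent.S4135

/-- Let k be a field of characteristic zero and H a cocommutative bialgebra over k which is connected
(every nonzero subcoalgebra contains 1). Then the canonical algebra homomorphism from the universal
enveloping algebra of the Lie algebra of primitive elements of H to H is bijective. -/
theorem result (k : Type u) [Field k] [CharZero k] (H : Type u) [Ring H]
    [Bialgebra k H] [Coalgebra.IsCocomm k H] (hconn : SGA3y.IsConnectedCoalg k H) :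
    Function.Bijective (UniversalEnvelopingAlgebra.lift k (SGA3y.primLie k H).incl) := by
  have hι : ∀ x : SGA3y.primLie k H, UniversalEnvelopingAlgebra.lift k (SGA3y.primLie k H).incl
      (UniversalEnvelopingAlgebra.ι k x) = (x : H) := fun x => by
    rw [UniversalEnvelopingAlgebra.lift_ι_apply]; rfl
  refine ⟨CMM.injective_of_injective_on _ (fun x => by rw [hι]; exact x.2) ?_,
    CMM.surjective_of_connected _ (fun x => by rw [hι]; exact x.2) hconn ?_⟩
  · intro x y h
    simp only [hι] at h
    exact Subtype.ext h
  · intro p hp
    exact ⟨UniversalEnvelopingAlgebra.ι k ⟨p, hp⟩, hι _⟩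

end Groth.Agent.S4135
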