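import Groth.Statements.S4183
import Groth.Agent.AnBasic.Sep

set_option autoImplicit false
open CategoryTheory AlgebraicGeometry Topology TopologicalSpace
open An

namespace Groth.Agent.S4183

/-- For affine n-space over ℂ, the map sending a ℂ-point to the values of the n coordinate functions is
a homeomorphism from its space of ℂ-points, with the complex topology of this problem, onto ℂ^n with
its usual topology. -/
theorem result (n : ℕ) :
    IsHomeomorph (fun (x : An.Pts (𝔸(Fin n; An.SC))) (i : Fin n) => x.evTop (AffineSpace.coord An.SC i)) := by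
  haveI : IsAffine (𝔸(Fin n; An.SC)) := inferInstance
  have hV := isAffineOpen_top (𝔸(Fin n; An.SC))
  have hs : Function.Surjective (MvPolynomial.eval₂Hom (AnBasic.strV hV).hom (AffineSpace.coord An.SC)) := by
    have he : (AnBasic.strV hV).hom = An.strHom _ := RingHom.ext AnBasic.strV_top
    rw [he]
    have hb : Function.Bijective (AffineSpace.SpecIso (Fin n) (CommRingCat.of ℂ)).hom.appTop := by
      haveI : IsIso (AffineSpace.SpecIso (Fin n) (CommRingCat.of ℂ)).hom.appTop := inferInstanceAs (IsIso ((AffineSpace.SpecIso (Fin n) (CommRingCat.of ℂ)).hom.app ⊤))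
      exact ConcreteCategory.bijective_of_isIso _
    rw [AffineSpace.SpecIso_hom_appTop] at hb
    intro y
    obtain ⟨z, hz⟩ := hb.2 y
    exact ⟨_, hz⟩
  have h := AnBasic.isClosedEmbedding_coord hV _ hs
  have hf : (fun (x : An.Pts (𝔸(Fin n; An.SC))) (i : Fin n) => x.evTop (AffineSpace.coord An.SC i)) =
      (fun (c : {c : An.Pts (𝔸(Fin n; An.SC)) // c.pt ∈ (⊤ : (𝔸(Fin n; An.SC)).Opens)}) i =>
        AnBasic.evT ⊤ (AffineSpace.coord An.SC i) c.1) ∘ (fun c => ⟨c, trivial⟩) :=
    funext fun x => funext fun i => (AnBasic.evT_eq (V := ⊤) (show x.pt ∈ ⊤ from trivial) _).symm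
  have hsurj : Function.Surjective (fun (x : An.Pts (𝔸(Fin n; An.SC))) (i : Fin n) =>
      x.evTop (AffineSpace.coord An.SC i)) := fun v => by
    refine ⟨⟨AffineSpace.homOfVector (𝟙 _) fun i => (Scheme.ΓSpecIso (CommRingCat.of ℂ)).inv (v i),
      AffineSpace.homOfVector_over _ _⟩, funext fun i => ?_⟩
    change (Scheme.ΓSpecIso (CommRingCat.of ℂ)).hom ((AffineSpace.homOfVector _ _).appLE ⊤ ((AffineSpace.homOfVector _ _) ⁻¹ᵁ ⊤) le_rfl _) = _
    rw [Scheme.Hom.appLE_eq_app]
    erw [AffineSpace.homOfVector_appTop_coord]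
    rw [← CommRingCat.comp_apply, Iso.inv_hom_id]
    rfl
  let e : An.Pts (𝔸(Fin n; An.SC)) ≃ₜ {c : An.Pts (𝔸(Fin n; An.SC)) // c.pt ∈ (⊤ : (𝔸(Fin n; An.SC)).Opens)} :=
    { toFun := fun c => ⟨c, trivial⟩, invFun := Subtype.val,
      continuous_toFun := continuous_id.subtype_mk _, continuous_invFun := continuous_subtype_val }
  refine isHomeomorph_iff_isEmbedding_surjective.2 ⟨?_, hsurj⟩
  rw [hf]
  exact (h.comp e.isClosedEmbedding).isEmbedding

end Groth.Agent.S4183
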