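import Groth.Statements.S4186
import Mathlib
-- import your own Groth.Agent.* helpers here

set_option autoImplicit false
open CategoryTheory AlgebraicGeometry Topology TopologicalSpace
open An

namespace Groth.Agent.S4186

/-- A scheme locally of finite type over ℂ is nonempty if and only if it has a ℂ-point. -/
theorem result (X : Scheme.{0}) [X.Over An.SC] [LocallyOfFiniteType (X ↘ An.SC)] :
    Nonempty ↥X ↔ Nonempty (An.Pts X) := by
  constructor
  · intro hne
    haveI : JacobsonSpace ↥X := LocallyOfFiniteType.jacobsonSpace (X ↘ An.SC)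
    obtain ⟨x, -, hx⟩ := nonempty_inter_closedPoints (X := ↥X) Set.univ_nonempty isClosed_univ.isLocallyClosed
    exact ⟨⟨pointOfClosedPoint (X ↘ An.SC) x hx, pointOfClosedPoint_comp (X ↘ An.SC) x hx⟩⟩
  · rintro ⟨x⟩
    exact ⟨x.1.base An.cpt⟩

end Groth.Agent.S4186
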