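import Groth.Statements.S4187
import Groth.Agent.AnBasic.Closure

set_option autoImplicit false
open CategoryTheory AlgebraicGeometry Topology TopologicalSpace
open An

namespace Groth.Agent.S4187

/-- For X locally of finite type over ℂ, the underlying space of X is discrete if and only if the space
X(ℂ) (complex topology) is discrete. -/
theorem result (X : Scheme.{0}) [X.Over An.SC] [LocallyOfFiniteType (X ↘ An.SC)] :
    DiscreteTopology ↥X ↔ DiscreteTopology (An.Pts X) := by
  constructor
  · intro h
    refine discreteTopology_iff_isOpen_singleton.2 fun a => ?_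
    have : ({a} : Set (An.Pts X)) = An.Pts.pt ⁻¹' {a.pt} := by
      ext b; simp [AnBasic.pt_injective.eq_iff]
    rw [this]
    exact (isOpen_discrete _).preimage Pts.continuous_pt
  · intro h
    have hop : ∀ a : An.Pts X, IsOpen ({a.pt} : Set ↥X) := fun a => by
      have hc := AnBasic.isLocallyConstructible_of_isClosed (AnBasic.isClosed_pt a)
      by_contra hno
      have hne : ((closure {a.pt}ᶜ : Set ↥X) ∩ {a.pt}).Nonempty := by
        by_contra he
        apply hno
        rw [← isClosed_compl_iff, ← closure_eq_iff_isClosed]
        refine subset_antisymm (fun x hx hxa => he ⟨x, hx, hxa⟩) subset_closure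
      obtain ⟨x, hx, hxa⟩ := hne
      rw [Set.mem_singleton_iff] at hxa
      subst hxa
      have := AnBasic.mem_closure_pts (AnBasic.isLocallyConstructible_compl hc) a hx
      rw [(isClosed_discrete _).closure_eq] at this
      exact this rfl
    refine discreteTopology_iff_isOpen_singleton.2 fun x => ?_
    by_cases hx : ∃ a : An.Pts X, a.pt = x
    · obtain ⟨a, rfl⟩ := hx
      exact hop a
    · exfalso
      let U : Set ↥X := ⋃ a : An.Pts X, {a.pt}
      have hU : IsOpen U := isOpen_iUnion hop
      obtain ⟨a, ha⟩ := AnBasic.exists_pts_of_isLocallyClosed Uᶜ hU.isClosed_compl.isLocallyClosed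
        ⟨x, fun hxU => hx (by simpa [U, eq_comm] using hxU)⟩
      exact ha (Set.mem_iUnion.2 ⟨a, rfl⟩)

end Groth.Agent.S4187
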