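import Groth.Statements.S4191
import Groth.Agent.AnBasic.Connected
import Mathlib

set_option autoImplicit false
open CategoryTheory AlgebraicGeometry Topology TopologicalSpace
open An

namespace Groth.Agent.S4191

/-- Let X be a scheme locally of finite type over ℂ. Then X is connected (and nonempty) if and only if
X(ℂ) with the complex topology is connected (and nonempty). -/
theorem result (X : Scheme.{0}) [X.Over An.SC] [LocallyOfFiniteType (X ↘ An.SC)] :
    ConnectedSpace ↥X ↔ ConnectedSpace (An.Pts X) := by
  have hb := AnBasic.connectedComponentsMap_bijective (X := X)
  constructor
  · intro h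
    obtain ⟨x⟩ := h.toNonempty
    obtain ⟨a, -⟩ := AnBasic.exists_pts_of_isLocallyClosed (Set.univ : Set ↥X) isClosed_univ.isLocallyClosed ⟨x, trivial⟩
    haveI : Subsingleton (_root_.ConnectedComponents (An.Pts X)) := hb.injective.subsingleton
    exact { toPreconnectedSpace := preconnectedSpace_iff_connectedComponent.2 fun b =>
              Set.eq_univ_of_forall fun c => by
                rw [_root_.ConnectedComponents.coe_eq_coe.1 (Subsingleton.elim (_root_.ConnectedComponents.mk b) (_root_.ConnectedComponents.mk c))]
                exact mem_connectedComponent
            toNonempty := ⟨a⟩ }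
  · intro h
    obtain ⟨a⟩ := h.toNonempty
    haveI : Subsingleton (_root_.ConnectedComponents ↥X) := hb.surjective.subsingleton
    exact { toPreconnectedSpace := preconnectedSpace_iff_connectedComponent.2 fun b =>
              Set.eq_univ_of_forall fun c => by
                rw [_root_.ConnectedComponents.coe_eq_coe.1 (Subsingleton.elim (_root_.ConnectedComponents.mk b) (_root_.ConnectedComponents.mk c))]
                exact mem_connectedComponent
            toNonempty := ⟨a.pt⟩ }

end Groth.Agent.S4191
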