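import Groth.Statements.S4194
import Groth.Agent.AnBasic.Pts
import Mathlib

set_option autoImplicit false
open CategoryTheory AlgebraicGeometry Topology TopologicalSpace
open An

namespace Groth.Agent.S4194

/-- A morphism f : X → Y of schemes locally of finite type over ℂ is injective (on underlying points) if
and only if the induced map X(ℂ) → Y(ℂ) is injective. -/
theorem result (X Y : Scheme.{0}) [X.Over An.SC] [LocallyOfFiniteType (X ↘ An.SC)]
    [Y.Over An.SC] [LocallyOfFiniteType (Y ↘ An.SC)] (f : X ⟶ Y) [f.IsOver An.SC] :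
    Function.Injective f.base ↔ Function.Injective (An.Pts.map f) := by
  refine ⟨fun h a b hab => AnBasic.pt_injective (h ?_), fun h x x' hxx' => ?_⟩
  · rw [← An.Pts.pt_map, ← An.Pts.pt_map, hab]
  by_contra hne
  obtain ⟨z, hz₁, hz₂⟩ := Scheme.Pullback.exists_preimage_pullback (f := f) (g := f) x x' hxx'
  let Δ := Limits.pullback.diagonal f
  have hzΔ : z ∉ Set.range Δ.base := by
    rintro ⟨w, rfl⟩
    apply hne
    rw [← hz₁, ← hz₂, ← Scheme.Hom.comp_apply, ← Scheme.Hom.comp_apply, Limits.pullback.diagonal_fst,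
      Limits.pullback.diagonal_snd]
  haveI : LocallyOfFiniteType ((Limits.pullback f f) ↘ An.SC) := by
    haveI : LocallyOfFiniteType f :=
      haveI : LocallyOfFiniteType (f ≫ (Y ↘ An.SC)) := by rw [comp_over f]; infer_instance
      locallyOfFiniteType_of_comp f (Y ↘ An.SC)
    exact MorphismProperty.comp_mem @LocallyOfFiniteType (Limits.pullback.fst f f) (X ↘ An.SC)
      inferInstance inferInstance
  obtain ⟨U, C, hU, hC, hUC⟩ : IsLocallyClosed (Set.range Δ.base) := Δ.isLocallyClosed_range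
  obtain ⟨S, hS, hzS, hSd⟩ : ∃ S : Set ↥(Limits.pullback f f), IsLocallyClosed S ∧ z ∈ S ∧ Disjoint S (Set.range Δ.base) := by
    by_cases hzU : z ∈ U
    · exact ⟨Cᶜ, hC.isOpen_compl.isLocallyClosed, fun hzC => hzΔ (hUC ▸ ⟨hzU, hzC⟩),
        Set.disjoint_left.2 fun w hw hw' => hw ((hUC.le hw').2)⟩
    · exact ⟨Uᶜ, hU.isClosed_compl.isLocallyClosed, hzU,
        Set.disjoint_left.2 fun w hw hw' => hw ((hUC.le hw').1)⟩
  obtain ⟨q, hq⟩ := AnBasic.exists_pts_of_isLocallyClosed S hS ⟨z, hzS⟩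
  have he := congrArg Subtype.val (h (An.Pts.map_pullback_condition f f q))
  have hqΔ : q.1 = (q.1 ≫ Limits.pullback.fst f f) ≫ Δ := by
    apply Limits.pullback.hom_ext
    · simp [Δ]
    · simpa [Δ] using he.symm
  refine hSd.le_bot ⟨hq, (q.1 ≫ Limits.pullback.fst f f) An.cpt, ?_⟩
  change Δ ((q.1 ≫ Limits.pullback.fst f f) An.cpt) = q.1 An.cpt
  rw [← Scheme.Hom.comp_apply, ← hqΔ]

end Groth.Agent.S4194
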