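import Groth.Statements.S4198
import Groth.Agent.AnBasic.Pts
import Mathlib
import Groth.Agent.ConstrBasics.Basic

set_option autoImplicit false
open CategoryTheory AlgebraicGeometry Topology TopologicalSpace
open An

namespace Groth.Agent.S4198

/-- Let f : X → Y be a morphism of finite type (here: quasi-compact, X and Y being locally of finite
type over ℂ). Then f is surjective if and only if the induced map on complex points X(ℂ) → Y(ℂ) is
surjective. (The finite-type hypothesis cannot be dropped.) -/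
theorem result (X Y : Scheme.{0}) [X.Over An.SC] [LocallyOfFiniteType (X ↘ An.SC)]
    [Y.Over An.SC] [LocallyOfFiniteType (Y ↘ An.SC)] (f : X ⟶ Y) [f.IsOver An.SC] [QuasiCompact f] :
    Function.Surjective f.base ↔ Function.Surjective (An.Pts.map f) := by
  constructor
  · intro h b
    obtain ⟨x, hx⟩ := h b.pt
    obtain ⟨a, ha⟩ := AnBasic.exists_pts_of_isLocallyClosed (f.base ⁻¹' {b.pt})
      ((AnBasic.isClosed_pt b).preimage f.continuous).isLocallyClosed ⟨x, hx⟩
    exact ⟨a, AnBasic.pt_injective ((An.Pts.pt_map f a).trans ha)⟩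
  · intro h y
    by_contra hy
    haveI : IsLocallyNoetherian (An.SC : Scheme.{0}) := inferInstanceAs (IsLocallyNoetherian (Spec (CommRingCat.of ℂ)))
    haveI : IsLocallyNoetherian Y := LocallyOfFiniteType.isLocallyNoetherian (Y ↘ An.SC)
    haveI : LocallyOfFiniteType (f ≫ (Y ↘ An.SC)) := by rw [comp_over f]; infer_instance
    haveI : LocallyOfFiniteType f := locallyOfFiniteType_of_comp f (Y ↘ An.SC)
    haveI : LocallyOfFinitePresentation f := LocallyOfFinitePresentation.iff_locallyOfFiniteType.2 inferInstance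
    have hc : Topology.IsLocallyConstructible (Set.range f.base) := by
      rw [← Set.image_univ]
      exact f.isLocallyConstructible_image Topology.IsLocallyConstructible.univ
    obtain ⟨_, ⟨V, hV, rfl⟩, hyV, -⟩ := Y.isBasis_affineOpens.exists_subset_of_mem_open (Set.mem_univ y) isOpen_univ
    have hVc : Topology.IsConstructible ((Subtype.val ⁻¹' (Set.range f.base)ᶜ : Set ↥(V : Scheme.{0}))) := by
      haveI : IsAffine V := hV
      haveI : IsLocallyNoetherian (V : Scheme.{0}) := inferInstance
      haveI : IsNoetherian (V : Scheme.{0}) := ⟨⟩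
      exact (hc.preimage_of_isOpenEmbedding (Scheme.Opens.ι V).isOpenEmbedding).isConstructible.compl
    obtain ⟨T, hT, hTeq⟩ := ConstrBasics.exists_sdiff hVc
    have hyT : (⟨y, hyV⟩ : ↥(V : Scheme.{0})) ∈ ⋃ p ∈ T, p.1 \ p.2 := hTeq ▸ hy
    obtain ⟨p, hp, hyp⟩ := Set.mem_iUnion₂.1 hyT
    have hlc : IsLocallyClosed (Subtype.val '' (p.1 \ p.2) : Set ↥Y) := by
      refine IsLocallyClosed.image ?_ V.2.isOpenEmbedding_subtypeVal.toIsInducing V.2.isOpenEmbedding_subtypeVal.isOpen_range.isLocallyClosed
      exact (hT p hp).1.isLocallyClosed.inter (hT p hp).2.2.1.isClosed_compl.isLocallyClosed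
    obtain ⟨b, w, hw, hwb⟩ := AnBasic.exists_pts_of_isLocallyClosed _ hlc ⟨y, _, hyp, rfl⟩
    obtain ⟨a, rfl⟩ := h b
    have : w ∈ (Subtype.val ⁻¹' (Set.range f.base)ᶜ : Set ↥(V : Scheme.{0})) :=
      hTeq.ge (Set.mem_biUnion hp hw)
    exact this ⟨a.pt, (An.Pts.pt_map f a).symm.trans hwb.symm⟩

end Groth.Agent.S4198
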