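import Groth.Statements.S4199
import Groth.Agent.AnBasic.Closure

set_option autoImplicit false
open CategoryTheory AlgebraicGeometry Topology TopologicalSpace
open An

namespace Groth.Agent.S4199

/-- Let f : X → Y be quasi-compact, with X and Y locally of finite type over ℂ. Then f is dominant if
and only if the image of X(ℂ) → Y(ℂ) is dense. -/
theorem result (X Y : Scheme.{0}) [X.Over An.SC] [LocallyOfFiniteType (X ↘ An.SC)]
    [Y.Over An.SC] [LocallyOfFiniteType (Y ↘ An.SC)] (f : X ⟶ Y) [f.IsOver An.SC] [QuasiCompact f] :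
    DenseRange f.base ↔ DenseRange (An.Pts.map f) := by
  haveI : IsLocallyNoetherian (An.SC : Scheme.{0}) := inferInstanceAs (IsLocallyNoetherian (Spec (CommRingCat.of ℂ)))
  haveI : IsLocallyNoetherian Y := LocallyOfFiniteType.isLocallyNoetherian (Y ↘ An.SC)
  haveI : LocallyOfFiniteType (f ≫ (Y ↘ An.SC)) := by rw [comp_over f]; infer_instance
  haveI : LocallyOfFiniteType f := locallyOfFiniteType_of_comp f (Y ↘ An.SC)
  haveI : LocallyOfFinitePresentation f := LocallyOfFinitePresentation.iff_locallyOfFiniteType.2 inferInstance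
  have hc : Topology.IsLocallyConstructible (Set.range f.base) := by
    rw [← Set.image_univ]
    exact f.isLocallyConstructible_image Topology.IsLocallyConstructible.univ
  have hr : (An.Pts.pt ⁻¹' Set.range f.base : Set (An.Pts Y)) = Set.range (An.Pts.map f) := by
    refine subset_antisymm (fun b hb => ?_) ?_
    · obtain ⟨x, hx⟩ := hb
      obtain ⟨a, ha⟩ := AnBasic.exists_pts_of_isLocallyClosed (f.base ⁻¹' {b.pt})
        ((AnBasic.isClosed_pt b).preimage f.continuous).isLocallyClosed ⟨x, hx⟩
      exact ⟨a, AnBasic.pt_injective ((An.Pts.pt_map f a).trans ha)⟩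
    · rintro _ ⟨a, rfl⟩
      exact ⟨a.pt, (An.Pts.pt_map f a).symm⟩
  change Dense _ ↔ Dense _
  rw [← hr]
  constructor
  · intro h a
    exact AnBasic.mem_closure_pts hc a (h a.pt)
  · intro h x
    by_contra hx
    obtain ⟨a, ha⟩ := AnBasic.exists_pts_of_isLocallyClosed _ isClosed_closure.isOpen_compl.isLocallyClosed ⟨x, hx⟩
    exact ha (Pts.continuous_pt.closure_preimage_subset _ (h a))

end Groth.Agent.S4199
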