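import Groth.Statements.S4201
import Groth.Agent.AnBasic.Sep

set_option autoImplicit false
open CategoryTheory AlgebraicGeometry Topology TopologicalSpace
open An

namespace Groth.Agent.S4201

/-- The direction from schemes to spaces: an immersion f : X → Y of schemes locally of finite type over
ℂ induces an embedding X(ℂ) → Y(ℂ) whose image is locally closed. -/
theorem result (X Y : Scheme.{0}) [X.Over An.SC] [LocallyOfFiniteType (X ↘ An.SC)]
    [Y.Over An.SC] [LocallyOfFiniteType (Y ↘ An.SC)] (f : X ⟶ Y) [f.IsOver An.SC] [IsImmersion f] :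
    Topology.IsEmbedding (An.Pts.map f) ∧ IsLocallyClosed (Set.range (An.Pts.map f)) := by
  refine ⟨?_, ?_⟩
  · letI : Scheme.Over (f.coborderRange : Scheme.{0}) An.SC := ⟨f.coborderRange.ι ≫ (Y ↘ An.SC)⟩
    haveI : f.coborderRange.ι.IsOver An.SC := ⟨rfl⟩
    haveI : f.liftCoborder.IsOver An.SC := ⟨by
      change f.liftCoborder ≫ f.coborderRange.ι ≫ (Y ↘ An.SC) = _
      rw [← Category.assoc, Scheme.Hom.liftCoborder_ι, comp_over f]⟩
    haveI : LocallyOfFiniteType ((f.coborderRange : Scheme.{0}) ↘ An.SC) :=
      inferInstanceAs (LocallyOfFiniteType (f.coborderRange.ι ≫ (Y ↘ An.SC)))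
    have : An.Pts.map f = An.Pts.map f.coborderRange.ι ∘ An.Pts.map f.liftCoborder :=
      funext fun a => Subtype.ext (by simp)
    rw [this]
    exact (AnBasic.isOpenEmbedding_map _).isEmbedding.comp (AnBasic.isClosedEmbedding_map _).isEmbedding
  · rw [AnBasic.range_map f]
    exact f.isLocallyClosed_range.preimage Pts.continuous_pt

end Groth.Agent.S4201
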