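import Groth.Statements.S4203
import Groth.Agent.AnBasic.Proper

set_option autoImplicit false
open CategoryTheory AlgebraicGeometry Topology TopologicalSpace
open An

namespace Groth.Agent.S4203

/-- Let f : X → Y be quasi-compact with X, Y locally of finite type over ℂ. Then f is finite if and only
if X(ℂ) → Y(ℂ) is proper (universally closed), separated and has finite fibres. -/
theorem result (X Y : Scheme.{0}) [X.Over An.SC] [LocallyOfFiniteType (X ↘ An.SC)]
    [Y.Over An.SC] [LocallyOfFiniteType (Y ↘ An.SC)] (f : X ⟶ Y) [f.IsOver An.SC] [QuasiCompact f] :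
    IsFinite f ↔ IsProperMap (An.Pts.map f) ∧ IsSeparatedMap (An.Pts.map f) ∧
      ∀ y : An.Pts Y, (An.Pts.map f ⁻¹' {y}).Finite := by
  haveI := AnBasic.locallyOfFiniteType_hom f
  haveI : JacobsonSpace ↥X := LocallyOfFiniteType.jacobsonSpace (X ↘ An.SC)
  constructor
  · intro _
    obtain ⟨h1, h2⟩ := (AnBasic.isProper_iff_isProperMap f).1 inferInstance
    refine ⟨h1, h2, fun y => ?_⟩
    refine ((f.finite_preimage_singleton y.pt).preimage AnBasic.pt_injective.injOn).subset fun a ha => ?_
    have : An.Pts.map f a = y := ha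
    exact (An.Pts.pt_map f a).symm.trans (congrArg An.Pts.pt this)
  · rintro ⟨h1, h2, h3⟩
    haveI := (AnBasic.isProper_iff_isProperMap f).2 ⟨h1, h2⟩
    haveI : LocallyQuasiFinite f := by
      rw [← Scheme.Hom.quasiFiniteLocus_eq_top_iff]
      ext x
      simp only [Opens.coe_top, Set.mem_univ, iff_true]
      by_contra hx
      obtain ⟨a, ha⟩ := AnBasic.exists_pts_of_isLocallyClosed _
        f.quasiFiniteLocus.2.isClosed_compl.isLocallyClosed ⟨x, hx⟩
      refine ha ?_
      change f.QuasiFiniteAt a.pt
      rw [Scheme.Hom.quasiFiniteAt_iff_isOpen_singleton_asFiber, ← (f.fiberHomeo _).isOpen_image]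
      simp only [Set.image_singleton, Scheme.Hom.asFiber, Homeomorph.apply_symm_apply]
      -- the fibre over the image is a finite set of closed points
      have hcl : IsClosed ({f a.pt} : Set ↥Y) := by
        have := AnBasic.isClosed_pt (An.Pts.map f a)
        rwa [An.Pts.pt_map] at this
      let F : Set ↥X := An.Pts.pt '' (An.Pts.map f ⁻¹' {An.Pts.map f a})
      have hFfin : F.Finite := (h3 _).image _
      have hFcl : IsClosed F := by
        rw [← Set.biUnion_of_singleton F]
        exact hFfin.isClosed_biUnion fun z ⟨b, _, hb⟩ => hb ▸ AnBasic.isClosed_pt b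
      have hF : f ⁻¹' {f a.pt} ⊆ F := by
        intro z hz
        by_contra hzF
        obtain ⟨b, hb1, hb2⟩ := AnBasic.exists_pts_of_isLocallyClosed (f ⁻¹' {f a.pt} ∩ Fᶜ)
          (((hcl.preimage f.continuous).isLocallyClosed).inter hFcl.isOpen_compl.isLocallyClosed) ⟨z, hz, hzF⟩
        refine hb2 ⟨b, AnBasic.pt_injective ?_, rfl⟩
        rw [An.Pts.pt_map, An.Pts.pt_map]
        exact hb1
      haveI : Finite (f ⁻¹' {f a.pt} : Set ↥X) := (hFfin.subset hF).to_subtype
      haveI : T1Space (f ⁻¹' {f a.pt} : Set ↥X) := ⟨fun z => by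
        obtain ⟨b, -, hb⟩ := hF z.2
        have := (AnBasic.isClosed_pt b).preimage (continuous_subtype_val : Continuous (Subtype.val : (f ⁻¹' {f a.pt} : Set ↥X) → ↥X))
        convert this using 1
        ext w
        simp [hb, Subtype.ext_iff]⟩
      exact isOpen_discrete _
    exact IsFinite.of_isProper_of_locallyQuasiFinite f

end Groth.Agent.S4203
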