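import Groth.Statements.S4204
import Groth.Agent.AnBasic.Sep

set_option autoImplicit false
open CategoryTheory AlgebraicGeometry Topology TopologicalSpace
open An

namespace Groth.Agent.S4204

/-- Let X be a scheme locally of finite type over ℂ. Then X is separated over ℂ if and only if X(ℂ) with
the complex topology is Hausdorff. -/
theorem result (X : Scheme.{0}) [X.Over An.SC] [LocallyOfFiniteType (X ↘ An.SC)] :
    IsSeparated (X ↘ An.SC) ↔ T2Space (An.Pts X) := by
  letI : Scheme.Over (An.SC : Scheme.{0}) An.SC := ⟨𝟙 _⟩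
  haveI : LocallyOfFiniteType ((An.SC : Scheme.{0}) ↘ An.SC) :=
    inferInstanceAs (LocallyOfFiniteType (𝟙 (An.SC : Scheme.{0})))
  haveI : (X ↘ An.SC).IsOver An.SC := ⟨Category.comp_id _⟩
  haveI : Subsingleton (An.Pts (An.SC : Scheme.{0})) :=
    ⟨fun a b => Subtype.ext (((Category.comp_id _).symm.trans a.2).trans ((Category.comp_id _).symm.trans b.2).symm)⟩
  rw [AnBasic.isSeparated_iff_isSeparatedMap (X ↘ An.SC), t2Space_iff]
  exact ⟨fun h a b hab => h a b (Subsingleton.elim _ _) hab, fun h a b _ hab => h hab⟩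

end Groth.Agent.S4204
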