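import Groth.Statements.S4205
import Groth.Agent.AnBasic.Proper

set_option autoImplicit false
open CategoryTheory AlgebraicGeometry Topology TopologicalSpace
open An

namespace Groth.Agent.S4205

/-- Let X be a scheme of finite type over ℂ (locally of finite type and quasi-compact over ℂ, carried as
two instance hypotheses). Then X is proper over ℂ if and only if X(ℂ) with the complex topology is
compact and Hausdorff. -/
theorem result (X : Scheme.{0}) [X.Over An.SC] [LocallyOfFiniteType (X ↘ An.SC)] [QuasiCompact (X ↘ An.SC)] :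
    IsProper (X ↘ An.SC) ↔ CompactSpace (An.Pts X) ∧ T2Space (An.Pts X) := by
  letI : Scheme.Over (An.SC : Scheme.{0}) An.SC := ⟨𝟙 _⟩
  haveI : LocallyOfFiniteType ((An.SC : Scheme.{0}) ↘ An.SC) :=
    inferInstanceAs (LocallyOfFiniteType (𝟙 (An.SC : Scheme.{0})))
  haveI : (X ↘ An.SC).IsOver An.SC := ⟨Category.comp_id _⟩
  haveI : Subsingleton (An.Pts (An.SC : Scheme.{0})) :=
    ⟨fun a b => Subtype.ext (((Category.comp_id _).symm.trans a.2).trans ((Category.comp_id _).symm.trans b.2).symm)⟩
  rw [AnBasic.isProper_iff_isProperMap (X ↘ An.SC)]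
  constructor
  · rintro ⟨h1, h2⟩
    refine ⟨⟨?_⟩, ⟨fun a b hab => h2 a b (Subsingleton.elim _ _) hab⟩⟩
    have := h1.isCompact_preimage (K := Set.univ) Set.subsingleton_univ.isCompact
    rwa [Set.preimage_univ] at this
  · rintro ⟨_, _⟩
    haveI : T2Space (An.Pts (An.SC : Scheme.{0})) := ⟨fun a b hab => absurd (Subsingleton.elim a b) hab⟩
    exact ⟨(An.Pts.continuous_map _).isProperMap, fun a b _ hab => t2_separation hab⟩

end Groth.Agent.S4205
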