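import Groth.Statements.S4206
import Groth.Agent.AnBasic.Proper
import Groth.Agent.AnBasic.Etale
import Mathlib

set_option autoImplicit false
open CategoryTheory AlgebraicGeometry Topology TopologicalSpace
open An

namespace Groth.Agent.S4206

/-- A finite etale morphism f : X → Y of schemes locally of finite type over ℂ (f a ℂ-morphism) induces
a covering map X(ℂ) → Y(ℂ) with finite fibres for the complex topologies. -/
theorem result (X Y : Scheme.{0}) [X.Over An.SC] [LocallyOfFiniteType (X ↘ An.SC)]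
    [Y.Over An.SC] [LocallyOfFiniteType (Y ↘ An.SC)] (f : X ⟶ Y) [f.IsOver An.SC] [IsFinite f] [Etale f] :
    IsCoveringMap (An.Pts.map f) ∧ ∀ y : An.Pts Y, (An.Pts.map f ⁻¹' {y}).Finite := by
  classical
  haveI := AnBasic.locallyOfFiniteType_hom f
  have hfin : ∀ y : An.Pts Y, (An.Pts.map f ⁻¹' {y}).Finite := fun y => by
    refine ((f.finite_preimage_singleton y.pt).preimage AnBasic.pt_injective.injOn).subset fun a ha => ?_
    have : An.Pts.map f a = y := ha
    exact (An.Pts.pt_map f a).symm.trans (congrArg An.Pts.pt this)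
  refine ⟨fun y => ?_, hfin⟩
  obtain ⟨_, ⟨V, hV, rfl⟩, hyV, -⟩ :=
    Y.isBasis_affineOpens.exists_subset_of_mem_open (Set.mem_univ y.pt) isOpen_univ
  have hU : IsAffineOpen (f ⁻¹ᵁ V) := IsAffineOpen.preimage hV f
  let s : Set (An.Pts Y) := An.Pts.pt ⁻¹' V
  have hs : IsOpen s := An.Pts.isOpen_preimage_pt V
  obtain ⟨k, t, ht⟩ := AnBasic.exists_generators hU
  haveI : T2Space {c : An.Pts X // c.pt ∈ f ⁻¹ᵁ V} := (AnBasic.isClosedEmbedding_coord hU t ht).toIsEmbedding.t2Space
  have hpre : An.Pts.map f ⁻¹' s = {c | c.pt ∈ f ⁻¹ᵁ V} := by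
    ext c; simp [s, An.Pts.pt_map]
  haveI : T2Space ↥{c : An.Pts X | c.pt ∈ f ⁻¹ᵁ V} := ‹T2Space {c : An.Pts X // c.pt ∈ f ⁻¹ᵁ V}›
  haveI : T2Space ↥(An.Pts.map f ⁻¹' s) :=
    (Homeomorph.setCongr hpre).symm.t2Space
  have hcl : IsClosedMap (s.restrictPreimage (An.Pts.map f)) :=
    (AnBasic.isProperMap_map f).isClosedMap.restrictPreimage s
  have hlh : IsLocalHomeomorph (An.Pts.map f) := AnBasic.isLocalHomeomorph_map f
  have hlh' : IsLocalHomeomorph (s.restrictPreimage (An.Pts.map f)) := by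
    refine isLocalHomeomorph_iff_isOpenEmbedding_restrict.2 fun c => ?_
    obtain ⟨U, hU', hUe⟩ := isLocalHomeomorph_iff_isOpenEmbedding_restrict.1 hlh c.1
    obtain ⟨O, hOU, hO, hcO⟩ := mem_nhds_iff.1 hU'
    refine ⟨Subtype.val ⁻¹' O, (hO.preimage continuous_subtype_val).mem_nhds hcO, ?_⟩
    refine IsOpenEmbedding.of_continuous_injective_isOpenMap
      ((hlh.continuous.restrictPreimage (s := s)).comp continuous_subtype_val) ?_ ?_
    · intro z w h
      have h' : An.Pts.map f z.1.1 = An.Pts.map f w.1.1 := congrArg Subtype.val h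
      have h'' := congrArg Subtype.val (hUe.injective (a₁ := ⟨z.1.1, hOU z.2⟩) (a₂ := ⟨w.1.1, hOU w.2⟩) h')
      exact Subtype.ext (Subtype.ext h'')
    · exact (hlh.isOpenMap.restrictPreimage s).comp (hO.preimage continuous_subtype_val).isOpenEmbedding_subtypeVal.isOpenMap
  have hcov : IsCoveringMap (s.restrictPreimage (An.Pts.map f)) := fun x =>
    (hcl.isCoveringMapOn_of_isLocalHomeomorphOn (s := Set.univ) (fun z _ => by
      refine ((hfin z.1).preimage Subtype.val_injective.injOn).subset fun w hw => ?_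
      exact congrArg Subtype.val (show s.restrictPreimage (An.Pts.map f) w = z from hw))
      (hlh'.isLocalHomeomorphOn.mono (Set.subset_univ _))) x trivial
  exact (IsCoveringMapOn.of_isCoveringMap_restrictPreimage _ hs (hs.preimage (An.Pts.continuous_map f)) hcov) y hyV

end Groth.Agent.S4206
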