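import Mathlib
import Groth.Statements.S4211
-- import your own Groth.Agent.* helpers here

set_option autoImplicit false
universe u
open An

namespace Groth.Agent.S4211

open CategoryTheory

set_option backward.isDefEq.respectTransparency false
set_option backward.isDefEq.respectTransparency.types false

/-- For a topological space T, the inclusion of the opens of T into the site of local homeomorphisms
over T is continuous. This is the hypothesis An.OpCont carried by statements that restrict classical
sheaves to opens. -/
theorem result (T : Type u) [TopologicalSpace T] :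
    An.OpCont T := by
  refine CategoryTheory.Functor.isContinuous_of_coverPreserving ⟨?_⟩ ⟨?_⟩
  · intro ℱ Z R x hx Y₁ Y₂ W f₁ f₂ g₁ g₂ hg₁ hg₂ e
    have hval : ∀ w, (f₁.toFun w).1 = (f₂.toFun w).1 := fun w =>
      congrArg Subtype.val (congrFun (congrArg Cl.Hom.toFun e) w)
    let h : W ⟶ (opensToCl T).obj (Y₁ ⊓ Y₂) :=
      ⟨fun w => ⟨(f₁.toFun w).1, (f₁.toFun w).2, by rw [hval w]; exact (f₂.toFun w).2⟩,
        Continuous.subtype_mk (continuous_subtype_val.comp f₁.continuous) _, fun w => f₁.over w⟩
    have e1 : f₁ = h ≫ (opensToCl T).map (CategoryTheory.homOfLE inf_le_left) := Cl.hom_ext rfl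
    have e2 : f₂ = h ≫ (opensToCl T).map (CategoryTheory.homOfLE inf_le_right) :=
      Cl.hom_ext (funext fun w => Subtype.ext (hval w).symm)
    rw [e1, e2]
    simp only [CategoryTheory.op_comp, CategoryTheory.Functor.map_comp, CategoryTheory.types_comp_apply]
    exact congrArg _ (hx (CategoryTheory.homOfLE inf_le_left) (CategoryTheory.homOfLE inf_le_right) hg₁ hg₂ (Subsingleton.elim _ _))
  · intro U S hS a
    obtain ⟨V, i, hi, haV⟩ := hS a.1 a.2
    exact ⟨(opensToCl T).obj V, (opensToCl T).map i, CategoryTheory.Sieve.image_mem_functorPushforward _ S hi,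
      Topology.IsOpenEmbedding.inclusion i.le (V.2.preimage continuous_subtype_val), ⟨a.1, haV⟩, rfl⟩

end Groth.Agent.S4211
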