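import Groth.Statements.S4212
import Mathlib

set_option autoImplicit false
universe u
open An

set_option backward.isDefEq.respectTransparency false
set_option backward.isDefEq.respectTransparency.types false

namespace Groth.Agent.S4212

/-- For a topological space T, the topos of the site of local homeomorphisms over T is equivalent to
that of T: restriction of abelian sheaves along the inclusion of the opens of T is an equivalence of
categories. -/
theorem result (T : Type u) [TopologicalSpace T] [An.OpCont T] :
    (An.resOpens T).IsEquivalence := by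
  haveI : (opensToCl T).Full := ⟨fun {U V} f => ⟨CategoryTheory.homOfLE fun t ht => by
      have h : ((f.toFun ⟨t, ht⟩).1 : T) = t := f.over ⟨t, ht⟩
      exact h ▸ (f.toFun ⟨t, ht⟩).2, Cl.hom_ext (funext fun w => Subtype.ext (f.over w).symm)⟩⟩
  haveI : (opensToCl T).Faithful := ⟨fun _ => Subsingleton.elim _ _⟩
  haveI : (opensToCl T).IsCoverDense (Cl.topology T) := ⟨fun A => fun a => by
    obtain ⟨O, hO, hOe⟩ := isLocalHomeomorph_iff_isOpenEmbedding_restrict.1 A.lh a
    obtain ⟨O', hO'O, hO', haO'⟩ := mem_nhds_iff.1 hO
    have he : Topology.IsOpenEmbedding (fun w : O' => A.p w.1) :=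
      hOe.comp (Topology.IsOpenEmbedding.inclusion hO'O (hO'.preimage continuous_subtype_val))
    let U : TopologicalSpace.Opens T := ⟨Set.range (fun w : O' => A.p w.1), he.isOpen_range⟩
    let φ := he.isEmbedding.toHomeomorph
    have hφ : ∀ t, A.p (φ.symm t).1 = t.1 := fun t => congrArg Subtype.val (φ.apply_symm_apply t)
    let g : (opensToCl T).obj U ⟶ A := ⟨fun t => (φ.symm t).1, continuous_subtype_val.comp φ.symm.continuous, hφ⟩
    refine ⟨(opensToCl T).obj U, g, CategoryTheory.Presieve.in_coverByImage (opensToCl T) g, ?_, ⟨φ ⟨a, haO'⟩, ?_⟩⟩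
    · exact (hO'.isOpenEmbedding_subtypeVal).comp φ.symm.isOpenEmbedding
    · exact congrArg Subtype.val (φ.symm_apply_apply ⟨a, haO'⟩)⟩
  haveI : (opensToCl T).IsDenseSubsite (Opens.grothendieckTopology T) (Cl.topology T) :=
    { functorPushforward_mem_iff := fun {U S} => by
        constructor
        · intro h t ht
          obtain ⟨B, g, ⟨V, i, k, hi, hg⟩, -, b, hb⟩ := h ⟨t, ht⟩
          refine ⟨V, i, hi, ?_⟩
          have h1 : ((g.toFun b).1 : T) = t := congrArg Subtype.val hb
          rw [hg] at h1
          exact h1 ▸ (k.toFun b).2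
        · intro hS a
          obtain ⟨V, i, hi, haV⟩ := hS a.1 a.2
          exact ⟨(opensToCl T).obj V, (opensToCl T).map i, CategoryTheory.Sieve.image_mem_functorPushforward _ S hi,
            Topology.IsOpenEmbedding.inclusion i.le (V.2.preimage continuous_subtype_val), ⟨a.1, haV⟩, rfl⟩ }
  infer_instance

end Groth.Agent.S4212
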