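import Groth.Statements.S4243
import Mathlib
-- import your own Groth.Agent.* helpers here

set_option autoImplicit false
open SGA4h

namespace Groth.Agent.S4243

/-- Let k be a finite field with q elements and P a nonzero homogeneous polynomial of degree d in r+1
variables over k. If P vanishes at every point of k^{r+1} (that is, the hypersurface P = 0 in
projective r-space passes through every rational point), then d ≥ q + 1. -/
theorem result (k : Type) [Field k] [Fintype k] (r d : ℕ)
    (P : MvPolynomial (Fin (r + 1)) k) (hP : P.IsHomogeneous d) (hP0 : P ≠ 0)
    (hvan : ∀ x : Fin (r + 1) → k, MvPolynomial.eval x P = 0) :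
    Fintype.card k + 1 ≤ d := by
  classical
  by_contra hcon
  push Not at hcon
  set q := Fintype.card k with hq
  have hq2 : 2 ≤ q := Fintype.one_lt_card
  let c : Fin (r + 1) → k := fun i => P.coeff (Finsupp.single i q)
  let P' : MvPolynomial (Fin (r + 1)) k :=
    P - ∑ i, MvPolynomial.C (c i) * (MvPolynomial.X i ^ q - MvPolynomial.X i)
  have hev : ∀ x, MvPolynomial.eval x P' = 0 := fun x => by
    simp [P', hvan x, hq, FiniteField.pow_card]
  have hdeg : ∀ s, P.coeff s ≠ 0 → s.degree = d := fun s hs => by
    rw [Finsupp.degree_eq_weight_one]
    exact hP hs
  have hcoeff : ∀ s, P'.coeff s = P.coeff s -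
      ∑ j, c j * ((if Finsupp.single j q = s then 1 else 0) - (if Finsupp.single j 1 = s then 1 else 0)) := by
    intro s
    simp only [P', MvPolynomial.coeff_sub, MvPolynomial.coeff_sum, MvPolynomial.coeff_C_mul,
      MvPolynomial.coeff_X_pow, MvPolynomial.coeff_X']
  have hsingle : ∀ {j i : Fin (r + 1)} {a b : ℕ}, a ≠ 0 → Finsupp.single j a = Finsupp.single i b → j = i := by
    intro j i a b ha h
    rcases Finsupp.single_eq_single_iff _ _ _ _ |>.mp h with ⟨h1, -⟩ | ⟨h1, -⟩
    · exact h1
    · exact absurd h1 ha
  have hzero : P' = 0 := by
    refine MvPolynomial.eq_zero_of_eval_eq_zero _ _ P' hev ?_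
    rw [MvPolynomial.mem_restrictDegree]
    intro s hs i
    by_contra hsi
    rw [MvPolynomial.mem_support_iff, hcoeff] at hs
    apply hs
    have hsi' : q ≤ s i := by omega
    by_cases hseq : s = Finsupp.single i q
    · subst hseq
      rw [Finset.sum_eq_single i]
      · rw [if_pos rfl, if_neg, sub_zero, mul_one, sub_self]
        exact fun h => by have := Finsupp.single_injective i h; omega
      · intro j _ hj
        rw [if_neg fun h => hj (hsingle (by omega) h), if_neg fun h => hj (hsingle (by omega) h),
          sub_self, mul_zero]
      · exact fun h => absurd (Finset.mem_univ i) h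
    · have hP0 : P.coeff s = 0 := by
        by_contra hne
        apply hseq
        have h1 := hdeg s hne
        have h2 : s i ≤ s.degree := Finsupp.le_degree i s
        have h3 : s - Finsupp.single i (s i) + Finsupp.single i (s i) = s :=
          tsub_add_cancel_of_le (Finsupp.single_le_iff.mpr le_rfl)
        have h4 := congrArg Finsupp.degree h3
        rw [map_add, Finsupp.degree_single] at h4
        have h5 : s - Finsupp.single i (s i) = 0 := (Finsupp.degree_eq_zero_iff _).mp (by omega)
        rw [h5, zero_add] at h3
        rw [show q = s i by omega]
        exact h3.symm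
      rw [hP0, Finset.sum_eq_zero, sub_self]
      intro j _
      rw [if_neg, if_neg, sub_self, mul_zero]
      · rintro rfl
        rcases eq_or_ne j i with rfl | hne
        · rw [Finsupp.single_eq_same] at hsi'
          omega
        · rw [Finsupp.single_eq_of_ne hne.symm] at hsi'
          omega
      · rintro rfl
        rcases eq_or_ne j i with rfl | hne
        · exact hseq rfl
        · rw [Finsupp.single_eq_of_ne hne.symm] at hsi'
          omega
  have hc : ∀ i, c i = 0 := by
    intro i
    by_contra hci
    have hd : d = q := by
      have := hdeg _ hci
      rw [Finsupp.degree_single] at this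
      exact this.symm
    have h1 := hcoeff (Finsupp.single i 1)
    rw [hzero, MvPolynomial.coeff_zero] at h1
    have h0 : P.coeff (Finsupp.single i 1) = 0 := by
      by_contra hne
      have := hdeg _ hne
      rw [Finsupp.degree_single] at this
      omega
    rw [h0, Finset.sum_eq_single i] at h1
    · rw [if_neg, if_pos rfl] at h1
      · exact hci (by linear_combination -h1)
      · exact fun h => by have := Finsupp.single_injective i h; omega
    · intro j _ hj
      rw [if_neg fun h => hj (hsingle (by omega) h), if_neg fun h => hj (hsingle (by omega) h),
        sub_self, mul_zero]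
    · exact fun h => absurd (Finset.mem_univ i) h
  exact hP0 (by simpa [P', hc] using hzero)

end Groth.Agent.S4243
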