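import Groth.Statements.S4275
import Groth.Agent.DCohPerf.AmpLocal
-- import your own Groth.Agent.* helpers here

set_option autoImplicit false
universe u
open CategoryTheory CategoryTheory.Limits AlgebraicGeometry
attribute [local instance] HasDerivedCategory.standard
open KSix

namespace Groth.Agent.S4275

/-- For the ringed space underlying a scheme: let E ∈ D(O_X) and m ≤ n. Then E has perfect amplitude in
[m, n] (locally isomorphic to a complex of finite locally free modules placed in degrees [m, n]) if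
and only if E is (m-1)-pseudo-coherent and has tor amplitude in [m, n] (is isomorphic to a complex
of flat modules placed in degrees [m, n]). (The source states this on an arbitrary ringed topos,
with tor amplitude defined through Tor sheaves.) -/
theorem result (X : Scheme.{u}) (E : DCoh.D X) (m n : ℤ) (hmn : m ≤ n) :
    KSix.HasPerfectAmplitudeIn m n E ↔ DCoh.IsPseudoCoherentD (m - 1) E ∧ DCoh.HasFlatAmplitudeIn m n E := by
  constructor
  · intro h
    have hp : DCoh.IsPerfect E := fun x => by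
      obtain ⟨V, hx, hV⟩ := h x
      exact ⟨V, hx, fun F hF => by
        obtain ⟨P, hz, hl, hd⟩ := hV F hF
        exact ⟨P, ⟨⟨m, n, hz⟩, hl⟩, hd⟩⟩
    refine ⟨DCohPerf.isPC_of_isPerfect hp, DCohPerf.flatAmp_of_locally fun x => ?_⟩
    obtain ⟨V, hx, hV⟩ := h x
    obtain ⟨P, hz, hl, ⟨e⟩⟩ := hV (DerivedCategory.Q.objPreimage E) ⟨DerivedCategory.Q.objObjPreimageIso E⟩
    exact ⟨V, V.ι, inferInstance, ⟨x, hx⟩, rfl, P, hz, fun i => ModGroth.Perf.isFlat_of_isFinLocFree (hl i),
      ⟨e.symm ≪≫ (DCohPerf.RQ V.ι _).symm ≪≫ (DCohPerf.RD V.ι).mapIso (DerivedCategory.Q.objObjPreimageIso E)⟩⟩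
  · intro h x
    obtain ⟨W, j, hj, w, hw, hs⟩ := DCohPerf.exists_paOn (n - m).toNat m n (by omega) h.1 h.2 x
    obtain ⟨hm, i, hi, hij⟩ := DCohPerf.exists_opens j w
    obtain ⟨P, hP, hPv, ⟨f⟩⟩ := DCohPerf.paOn_congr hij (DCohPerf.paOn_comp hs i)
    exact ⟨j.opensRange, hw ▸ hm, fun F ⟨e⟩ => ⟨P, hPv, hP.2,
      ⟨(DCohPerf.RQ _ F).symm ≪≫ (DCohPerf.RD _).mapIso e ≪≫ f.symm⟩⟩⟩

end Groth.Agent.S4275
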