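import Groth.Statements.S4276
import Groth.Agent.PicTau.Tau

set_option autoImplicit false
set_option backward.isDefEq.respectTransparency false
universe u
open CategoryTheory CategoryTheory.Limits AlgebraicGeometry
open Pic13

namespace Groth.Agent.S4276

/-- Let k be an algebraically closed field, X a proper k-scheme of dimension ≤ d and L an invertible
O_X-module which is τ-equivalent to zero (some positive power of L is algebraically equivalent to
zero). Then χ(F ⊗ L) = χ(F) for every coherent O_X-module F (Euler characteristics computed in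
degrees ≤ d). -/
theorem result (k : Type u) [Field k] [IsAlgClosed k] (X : Scheme.{u}) [X.Over (Spec (CommRingCat.of k))]
    [IsProper (X ↘ Spec (CommRingCat.of k))] (d : ℕ) (hd : topologicalKrullDim X ≤ d)
    (L : X.Modules) (hL : PicF.IsInvertible L) (hτ : Pic13.IsTauEquivZero k X L) (F : X.Modules) (hF : Coh.IsCoh F) :
    FGA.eulerCharLE k X (CohB1.tensorMod F L) d = FGA.eulerCharLE k X F d := by
  haveI := Groth.Agent.CurveDeg.isNoetherian_of_proper (X := X) k
  have hd' : ∀ S : Set X, topologicalKrullDim S ≤ (d : WithBot ℕ∞) := fun S => (topologicalKrullDim_subspace_le X S).trans hd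
  rw [Groth.Agent.HilbPoly.eulerCharLE_eq_euler k (Groth.Agent.HilbPoly.isCoh_tensorMod hF hL) (hd' _),
    Groth.Agent.HilbPoly.eulerCharLE_eq_euler k hF (hd' _)]
  exact Groth.Agent.PicTau.euler_tensor_of_tau k hL hτ hF
end Groth.Agent.S4276
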