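import Groth.Statements.S4278
import Groth.Agent.PicTau.Tau

set_option autoImplicit false
set_option backward.isDefEq.respectTransparency false
universe u
open CategoryTheory CategoryTheory.Limits AlgebraicGeometry
open Pic13

namespace Groth.Agent.S4278

/-- Let k be an algebraically closed field, X a proper k-scheme and L an invertible O_X-module which is
τ-equivalent to zero. Then L is numerically equivalent to zero: its restriction to every integral
closed curve Y ⊆ X has degree χ(L|_Y) - χ(O_Y) = 0. -/
theorem result (k : Type u) [Field k] [IsAlgClosed k] (X : Scheme.{u}) [X.Over (Spec (CommRingCat.of k))]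
    [IsProper (X ↘ Spec (CommRingCat.of k))]
    (L : X.Modules) (hL : PicF.IsInvertible L) (hτ : Pic13.IsTauEquivZero k X L) : Pic13.IsNumEquivZero k X L := by
  intro Y i _ hY hYd
  haveI := hY
  rw [Groth.Agent.IntTh.curveDeg_eq_inumOn k hL i hYd]
  have hl : Groth.Agent.IntTh.Inv [L] := Groth.Agent.IntTh.Inv.cons hL fun _ h => absurd h List.not_mem_nil
  haveI := Groth.Agent.CurveDeg.isNoetherian_of_proper (X := X) k
  exact (Groth.Agent.IntTh.inum_push k i hl _ (Groth.Agent.InvBasic.isQuasicoherent_structureModule _)).symm.trans
    (Groth.Agent.PicTau.inum_eq_zero_of_tau k hL hτ (fun _ h => absurd h List.not_mem_nil)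
      (Groth.Agent.CohFinite.isCoh_push_ideal i (𝟙 _) (Groth.Agent.InvBasic.isQuasicoherent_structureModule _)))
end Groth.Agent.S4278
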