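import Groth.Statements.S4297
import Groth.Agent.PCohLib.Derived

set_option autoImplicit false
universe w v u
open CategoryTheory CategoryTheory.Limits
open PCoh

namespace Groth.Agent.S4297

/-- Punctual site: faithfulness of K⁻(C₀)/(acyclic complexes) ⟶ D(C): let C be an abelian category and
C₀ a strictly full additive subcategory, quasi-stable under kernels of epimorphisms and
quasi-liftable. If two chain maps f, g : E ⟶ E' between bounded above complexes with terms in C₀
have the same image in D(C), then there are a bounded above complex E'' with terms in C₀ and a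
quasi-isomorphism s : E'' ⟶ E such that s ≫ f and s ≫ g are homotopic. -/
theorem result {C : Type u} [Category.{v} C] [Abelian C] [HasDerivedCategory.{w} C]
    (P : ObjectProperty C) [P.IsClosedUnderIsomorphisms] [P.ContainsZero] (hsum : ∀ X Y : C, P X → P Y → P (X ⨯ Y))
    (hqs : PCoh.IsQuasiStableUnderKernels P) (hql : PCoh.IsQuasiLiftable P)
    (E E' : CochainComplex C ℤ) (hE : PCoh.IsStrictPCAll P E) (hE' : PCoh.IsStrictPCAll P E')
    (f g : E ⟶ E') (hfg : DerivedCategory.Q.map f = DerivedCategory.Q.map g) :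
    ∃ (E'' : CochainComplex C ℤ) (s : E'' ⟶ E), PCoh.IsStrictPCAll P E'' ∧ QuasiIso s ∧ Nonempty (Homotopy (s ≫ f) (s ≫ g)) := by
  have h' : DerivedCategory.Qh.map ((HomotopyCategory.quotient C _).map f) =
      DerivedCategory.Qh.map ((HomotopyCategory.quotient C _).map g) := hfg
  rw [MorphismProperty.map_eq_iff_precomp DerivedCategory.Qh
    (HomotopyCategory.quasiIso C (ComplexShape.up ℤ))] at h'
  obtain ⟨X, s, hs, hsfg⟩ := h'
  obtain ⟨X, rfl⟩ := HomotopyCategory.quotient_obj_surjective X
  obtain ⟨s, rfl⟩ := (HomotopyCategory.quotient _ _).map_surjective s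
  rw [← DerivedCategory.isIso_Qh_map_iff] at hs
  haveI : IsIso (DerivedCategory.Q.map s) := hs
  haveI : QuasiIso s := by rw [← DerivedCategory.isIso_Q_map_iff_quasiIso]; infer_instance
  obtain ⟨E'', q, hE'', hq⟩ := PCohLib.exists_strictPCAll_qiso hsum hqs hql (F := X)
    (fun n => PCohLib.NPC.of_iso ⟨E, PCohLib.strictPC_of_all hE n, ⟨Iso.refl _⟩⟩
      (asIso (DerivedCategory.Q.map s)).symm)
  refine ⟨E'', q ≫ s, hE'', inferInstance, ⟨HomotopyCategory.homotopyOfEq _ _ ?_⟩⟩
  simp only [Functor.map_comp, Category.assoc, hsfg]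

end Groth.Agent.S4297
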