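import Groth.Statements.S4305
import Groth.Agent.PicTau.Tau

set_option autoImplicit false
set_option backward.isDefEq.respectTransparency false
universe u
open CategoryTheory CategoryTheory.Limits AlgebraicGeometry
open Pic13

namespace Groth.Agent.S4305

/-- Let k be an algebraically closed field, X an irreducible proper k-scheme of dimension ≤ d carrying
an ample invertible module H with inverse H', and L an invertible module with inverse L'. Condition
(v): χ(L^{⊗ m} ⊗ H^{⊗ n}) = χ(H^{⊗ n}) for all integers m, n — written with natural exponents on L,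
L', H, H' to cover all signs, Euler characteristics in degrees ≤ d; condition (i): L is τ-equivalent
to zero. -/
theorem result (k : Type u) [Field k] [IsAlgClosed k] (X : Scheme.{u})
    [X.Over (Spec (CommRingCat.of k))] [IsProper (X ↘ Spec (CommRingCat.of k))] [IrreducibleSpace X]
    (d : ℕ) (hd : topologicalKrullDim X ≤ d) (H H' L L' : X.Modules) (hH : CohB1.IsAmple H) (hL : PicF.IsInvertible L)
    (hHH' : Nonempty (CohB1.tensorMod H H' ≅ Coh.structureModule X)) (hLL' : Nonempty (CohB1.tensorMod L L' ≅ Coh.structureModule X))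
    (hτ : Pic13.IsTauEquivZero k X L) :
    ∀ m n : ℕ,
      FGA.eulerCharLE k X (CohB1.tensorMod (CohB1.tensorPow L m) (CohB1.tensorPow H n)) d = FGA.eulerCharLE k X (CohB1.tensorPow H n) d ∧
      FGA.eulerCharLE k X (CohB1.tensorMod (CohB1.tensorPow L m) (CohB1.tensorPow H' n)) d = FGA.eulerCharLE k X (CohB1.tensorPow H' n) d ∧
      FGA.eulerCharLE k X (CohB1.tensorMod (CohB1.tensorPow L' m) (CohB1.tensorPow H n)) d = FGA.eulerCharLE k X (CohB1.tensorPow H n) d ∧
      FGA.eulerCharLE k X (CohB1.tensorMod (CohB1.tensorPow L' m) (CohB1.tensorPow H' n)) d = FGA.eulerCharLE k X (CohB1.tensorPow H' n) d := by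
  intro m n
  haveI := Groth.Agent.CurveDeg.isNoetherian_of_proper (X := X) k
  have hL' := Groth.Agent.NegVanish.isInvertible_of_inverse hL hLL'
  have hH' := Groth.Agent.NegVanish.isInvertible_of_inverse hH.1 hHH'
  have hd' : ∀ S : Set X, topologicalKrullDim S ≤ (d : WithBot ℕ∞) := fun S => (topologicalKrullDim_subspace_le X S).trans hd
  have hpow : ∀ {G : X.Modules}, PicF.IsInvertible G → ∀ j : ℕ, PicF.IsInvertible (CohB1.tensorPow G j) :=
    fun hG j => Groth.Agent.InvPow.isInvertible_tensorPow hG j
  have key : ∀ {A B : X.Modules}, PicF.IsInvertible A → PicF.IsInvertible B →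
      Curv2.euler k X (CohB1.tensorMod B A) = Curv2.euler k X B →
      FGA.eulerCharLE k X (CohB1.tensorMod A B) d = FGA.eulerCharLE k X B d := by
    intro A B hA hB h
    rw [Groth.Agent.HilbPoly.eulerCharLE_eq_euler k
        (Groth.Agent.InvPow.isCoh_of_isInvertible (Groth.Agent.InvPow.isInvertible_tensorMod hA hB)) (hd' _),
      Groth.Agent.HilbPoly.eulerCharLE_eq_euler k (Groth.Agent.InvPow.isCoh_of_isInvertible hB) (hd' _),
      Groth.Agent.HilbPoly.euler_congr (Groth.Agent.ProjTwist.nonempty_tensorMod_comm A B).some, h]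
  refine ⟨?_, ?_, ?_, ?_⟩
  · exact key (hpow hL m) (hpow hH.1 n)
      (Groth.Agent.PicTau.euler_tensor_pow_of_tau k hL hτ m (Groth.Agent.InvPow.isCoh_of_isInvertible (hpow hH.1 n)))
  · exact key (hpow hL m) (hpow hH' n)
      (Groth.Agent.PicTau.euler_tensor_pow_of_tau k hL hτ m (Groth.Agent.InvPow.isCoh_of_isInvertible (hpow hH' n)))
  · exact key (hpow hL' m) (hpow hH.1 n)
      (Groth.Agent.PicTau.euler_tensor_inv_of_tau k hL hLL' hτ m (Groth.Agent.InvPow.isCoh_of_isInvertible (hpow hH.1 n)))
  · exact key (hpow hL' m) (hpow hH' n)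
      (Groth.Agent.PicTau.euler_tensor_inv_of_tau k hL hLL' hτ m (Groth.Agent.InvPow.isCoh_of_isInvertible (hpow hH' n)))
end Groth.Agent.S4305
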