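import Groth.Statements.S4307
import Groth.Agent.S4183
import Groth.Agent.AnBasic.Product
import Mathlib

set_option autoImplicit false
open CategoryTheory AlgebraicGeometry Topology TopologicalSpace
open An

namespace Groth.Agent.S4307

/-- A sanity check of the definition of holomorphic functions: for an open set U of complex points of
affine n-space over ℂ and g : U → ℂ, g is holomorphic (satisfies the local predicate An.holPred of
the prelude) if and only if g = G ∘ (coordinates) for some G : ℂ^n → ℂ complex-differentiable on the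
image of U in ℂ^n. -/
theorem result (n : ℕ) (U : TopologicalSpace.Opens (An.Pts (𝔸(Fin n; An.SC))))
    (g : U → ℂ) :
    (An.holPred (𝔸(Fin n; An.SC))).pred g ↔
      ∃ G : (Fin n → ℂ) → ℂ,
        DifferentiableOn ℂ G ((fun (x : An.Pts (𝔸(Fin n; An.SC))) (i : Fin n) =>
          x.evTop (AffineSpace.coord An.SC i)) '' (U : Set (An.Pts (𝔸(Fin n; An.SC))))) ∧
        ∀ x : U, g x = G (fun i => (x : An.Pts (𝔸(Fin n; An.SC))).evTop (AffineSpace.coord An.SC i)) := by
  classical
  let Z := 𝔸(Fin n; An.SC)
  haveI : IsAffine Z := inferInstanceAs (IsAffine (𝔸(Fin n; An.SC)))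
  have hV := isAffineOpen_top Z
  have hs : Function.Surjective (MvPolynomial.eval₂Hom (AnBasic.strV hV).hom (AffineSpace.coord An.SC)) := by
    have he : (AnBasic.strV hV).hom = An.strHom _ := RingHom.ext AnBasic.strV_top
    rw [he]
    have hb : Function.Bijective (AffineSpace.SpecIso (Fin n) (CommRingCat.of ℂ)).hom.appTop := by
      haveI : IsIso (AffineSpace.SpecIso (Fin n) (CommRingCat.of ℂ)).hom.appTop := inferInstanceAs (IsIso ((AffineSpace.SpecIso (Fin n) (CommRingCat.of ℂ)).hom.app ⊤))
      exact ConcreteCategory.bijective_of_isIso _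
    rw [AffineSpace.SpecIso_hom_appTop] at hb
    intro y
    obtain ⟨z, hz⟩ := hb.2 y
    exact ⟨_, hz⟩
  let co : An.Pts Z → (Fin n → ℂ) := fun x i => x.evTop (AffineSpace.coord An.SC i)
  let e : An.Pts Z ≃ₜ (Fin n → ℂ) := (S4183.result n).homeomorph
  have he : ∀ x, e x = co x := fun x => rfl
  have hdiffP : ∀ P : MvPolynomial (Fin n) ℂ, Differentiable ℂ fun x : Fin n → ℂ => MvPolynomial.eval x P := fun P => by
    induction P using MvPolynomial.induction_on with
    | C a => simp
    | add p q hp hq => simpa using hp.fun_add hq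
    | mul_X p i hp => simpa using hp.fun_mul (differentiable_apply i)
  have hpoly : ∀ b : Γ(Z, ⊤), ∃ P : MvPolynomial (Fin n) ℂ, ∀ c : An.Pts Z, AnBasic.evT ⊤ b c = MvPolynomial.eval (co c) P := fun b => by
    obtain ⟨P, rfl⟩ := hs b
    refine ⟨P, fun c => (AnBasic.evT_eval hV _ c (show c.pt ∈ ⊤ from trivial) P).trans ?_⟩
    congr 2
    funext i
    exact AnBasic.evT_eq (V := ⊤) (show c.pt ∈ ⊤ from trivial) _
  constructor
  · intro hg
    let F : (Fin n → ℂ) → ℂ := fun z => if h : e.symm z ∈ U then g ⟨e.symm z, h⟩ else 0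
    have hFe : ∀ x : U, F (co x) = g x := fun x => by
      simp only [F, ← he, Homeomorph.symm_apply_apply, SetLike.coe_mem, dif_pos, Subtype.coe_eta]
    refine ⟨F, ?_, fun x => (hFe x).symm⟩
    rintro _ ⟨x, hxU, rfl⟩
    refine DifferentiableAt.differentiableWithinAt ?_
    obtain ⟨O, hxO, i, hO⟩ := hg ⟨x, hxU⟩
    have hOn : ∀ f ∈ An.chartAlg (X := Z) O, ∀ y : O, DifferentiableAt ℂ
        (fun z => if h : e.symm z ∈ O then f ⟨e.symm z, h⟩ else 0) (co y.1) := by
      intro f hf y
      have hev : ∀ᶠ z in 𝓝 (co y.1), e.symm z ∈ O :=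
        (e.symm.continuous.tendsto _).eventually (O.2.mem_nhds (by rw [← he, Homeomorph.symm_apply_apply]; exact y.2))
      induction hf using Algebra.adjoin_induction with
      | mem f hf =>
        obtain ⟨W, hW, m, s, V', G', hV', hG', h⟩ := hf
        obtain ⟨q, hqW, hyq⟩ := hV.exists_basicOpen_le (V := W) ⟨y.1.pt, hW y⟩ trivial
        have hfrac : ∀ j : Fin m, ∃ P Q : MvPolynomial (Fin n) ℂ, ∀ c : An.Pts Z, ∀ hc : c.pt ∈ Z.basicOpen q,
            MvPolynomial.eval (co c) Q ≠ 0 ∧ c.ev W (hqW hc) (s j) = MvPolynomial.eval (co c) P / MvPolynomial.eval (co c) Q := by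
          intro j
          haveI := hV.isLocalization_basicOpen q
          obtain ⟨k, b, hb⟩ := IsLocalization.Away.surj q (Z.presheaf.map (homOfLE hqW).op (s j))
          obtain ⟨P, hP⟩ := hpoly b
          obtain ⟨Q, hQ⟩ := hpoly q
          refine ⟨P, Q ^ k, fun c hc => ?_⟩
          have hne : MvPolynomial.eval (co c) Q ≠ 0 := by
            rw [← hQ, AnBasic.evT_eq (V := ⊤) (show c.pt ∈ ⊤ from trivial)]
            exact (AnBasic.mem_basicOpen_iff hV c trivial q).1 hc
          have := congrArg (AnBasic.evHom c (Z.basicOpen q) hc) hb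
          rw [RingHom.algebraMap_toAlgebra, map_mul, map_pow] at this
          simp only [AnBasic.evHom_apply] at this
          rw [map_pow]
          refine ⟨pow_ne_zero _ hne, ?_⟩
          rw [eq_div_iff (pow_ne_zero _ hne), ← hP, ← hQ, AnBasic.evT_eq (V := ⊤) (show c.pt ∈ ⊤ from trivial),
            AnBasic.evT_eq (V := ⊤) (show c.pt ∈ ⊤ from trivial), ← AnBasic.ev_res c hqW hc,
            ← AnBasic.ev_res c (Z.basicOpen_le q) hc, ← AnBasic.ev_res c (Z.basicOpen_le q) hc]
          exact this
        choose P Q hPQ using hfrac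
        have hq' : ∀ᶠ z in 𝓝 (co y.1), (e.symm z).pt ∈ Z.basicOpen q :=
          (e.symm.continuous.tendsto _).eventually (AnBasic.eventually_mem (V := Z.basicOpen q)
            (by rw [← he, Homeomorph.symm_apply_apply]; exact hyq))
        have hinner : DifferentiableAt ℂ (fun z j => MvPolynomial.eval z (P j) / MvPolynomial.eval z (Q j)) (co y.1) :=
          differentiableAt_pi.2 fun j => by
            simp only [div_eq_mul_inv]
            exact ((hdiffP (P j)).differentiableAt).fun_mul
              (((hdiffP (Q j)).differentiableAt).fun_inv (hPQ j y.1 hyq).1)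
        have hval : (fun j => MvPolynomial.eval (co y.1) (P j) / MvPolynomial.eval (co y.1) (Q j)) =
            fun j => An.Pts.ev y.1 W (hW y) (s j) := funext fun j => ((hPQ j y.1 hyq).2).symm
        have houter : DifferentiableAt ℂ G' ((fun z j => MvPolynomial.eval z (P j) / MvPolynomial.eval z (Q j)) (co y.1)) := by
          change DifferentiableAt ℂ G' (fun j => MvPolynomial.eval (co y.1) (P j) / MvPolynomial.eval (co y.1) (Q j))
          rw [hval]
          exact hG'.differentiableAt (hV'.mem_nhds (h y).1)
        refine (houter.comp _ hinner).congr_of_eventuallyEq ?_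
        filter_upwards [hev, hq'] with z hz hzq
        rw [dif_pos hz, (h ⟨_, hz⟩).2]
        simp only [Function.comp]
        congr 1
        funext j
        have := (hPQ j (e.symm z) hzq).2
        rw [← he, Homeomorph.apply_symm_apply] at this
        exact this
      | algebraMap r =>
        exact (differentiableAt_const r).congr_of_eventuallyEq (hev.mono fun z hz => by simp only [dif_pos hz]; rfl)
      | add a b _ _ ha hb =>
        exact (ha.fun_add hb).congr_of_eventuallyEq (hev.mono fun z hz => by simp only [dif_pos hz]; rfl)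
      | mul a b _ _ ha hb =>
        exact (ha.fun_mul hb).congr_of_eventuallyEq (hev.mono fun z hz => by simp only [dif_pos hz]; rfl)
    refine (hOn _ hO ⟨x, hxO⟩).congr_of_eventuallyEq ?_
    filter_upwards [(e.symm.continuous.tendsto (co x)).eventually (O.2.mem_nhds (by rw [← he, Homeomorph.symm_apply_apply]; exact hxO))]
      with z hz
    change e.symm z ∈ O at hz
    have hzU : e.symm z ∈ U := i.le hz
    simp only [F, dif_pos hzU, dif_pos hz]
    rfl
  · rintro ⟨G, hG, hgG⟩
    refine An.holPred_of_chartAlg (Algebra.subset_adjoin ?_)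
    exact ⟨⊤, fun _ => trivial, n, AffineSpace.coord An.SC, co '' (U : Set (An.Pts Z)), G,
      e.isOpenMap _ U.2, hG, fun x => ⟨⟨x.1, x.2, rfl⟩, hgG x⟩⟩

end Groth.Agent.S4307
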