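import Groth.Statements.S4329
import Groth.Agent.DQCPush.Comp
import Groth.Agent.EtSite.PullStalk
import Groth.Agent.TriH.KInjExist
import Groth.Agent.TriH.KInj


set_option autoImplicit false
universe u
open CategoryTheory CategoryTheory.Limits AlgebraicGeometry Opposite
attribute [local instance] HasDerivedCategory.standard
open EtSix

namespace Groth.Agent.S4329

/-- Composition of derived direct images: for the small etale sites of schemes and abelian sheaves: let
f : X -> Y and g : Y -> Z be morphisms of schemes and assume the unbounded derived direct images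
Rf_*, Rg_* and R(g ∘ f)_* exist (they do; the existence is recorded as instance hypotheses). Then
the canonical morphism R(g ∘ f)_* -> Rg_* ∘ Rf_* of functors D(X_et) -> D(Z_et), induced by (g ∘
f)_* ≅ g_* ∘ f_* through the universal property of R(g ∘ f)_* as a right derived functor, is an
isomorphism. -/
theorem result {X Y Z : Scheme.{u}} (f : X ⟶ Y) (g : Y ⟶ Z)
    [DCoh.HasRpushEt X f] [DCoh.HasRpushEt Y g] [DCoh.HasRpushEt X (f ≫ g)] :
    IsIso (EtSix.compMap f g) := by
  let W := HomotopyCategory.quasiIso (EtCoh.Ab X) (ComplexShape.up ℤ)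
  let WY := HomotopyCategory.quasiIso (EtCoh.Ab Y) (ComplexShape.up ℤ)
  have hres : ∀ (T : Scheme.{u}) (K : CochainComplex (EtCoh.Ab T) ℤ),
      ∃ (I : CochainComplex (EtCoh.Ab T) ℤ) (φ : K ⟶ I), I.IsKInjective ∧ QuasiIso φ := fun T K => by
    obtain ⟨I, φ, h1, h2, -⟩ := Groth.Agent.TriH.exists_kInjective_resolution K
    exact ⟨I, φ, h1, h2⟩
  haveI : (DCoh.pushEtKh X f).HasPointwiseRightDerivedFunctor W :=
    Groth.Agent.TriH.hasPointwiseRightDerivedFunctor_of_bijective (L := DerivedCategory.Qh)
      (Groth.Agent.TriH.exists_kInjective_homotopy (hres X)) _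
  haveI : (DCoh.pushEtKh Y g).HasPointwiseRightDerivedFunctor WY :=
    Groth.Agent.TriH.hasPointwiseRightDerivedFunctor_of_bijective (L := DerivedCategory.Qh)
      (Groth.Agent.TriH.exists_kInjective_homotopy (hres Y)) _
  haveI : (EtCoh.pull f).Additive := (EtCoh.pullPushAdj f).left_adjoint_additive
  haveI : IsIso (EtCoh.pushComp g f).inv := inferInstance
  have hiso : (DCoh.RpushEt X f ⋙ DCoh.RpushEt Y g).IsRightDerivedFunctor (EtSix.compUnit f g) W := by
    refine Groth.Agent.DQCPush.isRightDerivedFunctor_of_isIso_app DerivedCategory.Qh W _ _ fun T => ?_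
    obtain ⟨K, rfl⟩ := HomotopyCategory.quotient_obj_surjective T
    obtain ⟨I, φ, hI, hφ⟩ := hres X K
    refine ⟨_, (HomotopyCategory.quotient _ _).map φ,
      (HomotopyCategory.quotient_map_mem_quasiIso_iff φ).2 (by simpa using hφ),
      fun Z => Groth.Agent.TriH.Qh_bijective_of_isKInjective I Z, ?_⟩
    haveI := hI
    haveI := Groth.Agent.TriH.isKInjective_map_of_adjunction (EtCoh.push f) (EtCoh.pull f) (EtCoh.pullPushAdj f) I
    haveI h1 : IsIso (((DCoh.pushEtKh X f).totalRightDerivedUnit DerivedCategory.Qh W).app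
        ((HomotopyCategory.quotient (EtCoh.Ab X) (ComplexShape.up ℤ)).obj I)) :=
      Groth.Agent.TriH.isIso_unit_of_bijective (W := W) _ _ _ _
        (fun Z => Groth.Agent.TriH.Qh_bijective_of_isKInjective I Z)
    haveI h2 : IsIso (((DCoh.pushEtKh Y g).totalRightDerivedUnit DerivedCategory.Qh WY).app
        (((EtCoh.push f).mapHomotopyCategory (ComplexShape.up ℤ)).obj
          ((HomotopyCategory.quotient (EtCoh.Ab X) (ComplexShape.up ℤ)).obj I))) :=
      Groth.Agent.TriH.isIso_unit_of_bijective (W := WY) _ _ _ _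
        (fun Z => Groth.Agent.TriH.Qh_bijective_of_isKInjective
          (((EtCoh.push f).mapHomologicalComplex (ComplexShape.up ℤ)).obj I) Z)
    haveI : IsIso (NatTrans.mapHomotopyCategory (EtCoh.pushComp g f).inv (ComplexShape.up ℤ)) :=
      ⟨NatTrans.mapHomotopyCategory (EtCoh.pushComp g f).hom _, by
        rw [← NatTrans.mapHomotopyCategory_comp, Iso.inv_hom_id, NatTrans.mapHomotopyCategory_id], by
        rw [← NatTrans.mapHomotopyCategory_comp, Iso.hom_inv_id, NatTrans.mapHomotopyCategory_id]⟩
    simp only [EtSix.compUnit, NatTrans.comp_app, Functor.whiskerLeft_app, Functor.whiskerRight_app,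
      Functor.associator_inv_app, Functor.associator_hom_app, Category.id_comp, Category.comp_id]
    infer_instance
  exact ((DCoh.RpushEt X (f ≫ g)).isRightDerivedFunctor_iff_isIso_rightDerivedDesc
    ((DCoh.pushEtKh X (f ≫ g)).totalRightDerivedUnit DerivedCategory.Qh W) W _ (EtSix.compUnit f g)).1 hiso

end Groth.Agent.S4329
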