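import Groth.Statements.S4336
import Groth.Agent.LinTopLib.Defs
-- import your own Groth.Agent.* helpers here

set_option autoImplicit false
universe u
open LinTop

namespace Groth.Agent.S4336

/-- Let A be an admissible ring and J an ideal of definition of A. An element of A is invertible if and
only if its image in A/J is invertible. -/
theorem result
    (A : Type u) [CommRing A] [UniformSpace A] [IsUniformAddGroup A] [IsTopologicalRing A]
    (hA : LinTop.IsAdmissible A) (J : Ideal A) (hJ : LinTop.IsIdealOfDefinition A J) (f : A) :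
    IsUnit f ↔ IsUnit (Ideal.Quotient.mk J f) := by
  obtain ⟨⟨hlin, -⟩, ht, hc⟩ := hA
  refine ⟨fun h => h.map _, fun h => ?_⟩
  have hJ' : J ≤ (⊥ : Ideal A).jacobson := LinTopLib.le_jacobson_bot fun f hf =>
    LinTopLib.topNil_of_small (LinTopLib.small_of_isIdealOfDefinition hJ) hf
  obtain ⟨v, hv⟩ := h.exists_right_inv
  obtain ⟨g, rfl⟩ := Ideal.Quotient.mk_surjective v
  rw [← map_mul, ← map_one (Ideal.Quotient.mk J), Ideal.Quotient.eq] at hv
  exact isUnit_of_mul_isUnit_left (Ideal.isUnit_of_sub_one_mem_jacobson_bot _ (hJ' hv))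

end Groth.Agent.S4336
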