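import Groth.Statements.S4337
import Groth.Agent.LinTopLib.Defs
-- import your own Groth.Agent.* helpers here

set_option autoImplicit false
universe u
open LinTop

namespace Groth.Agent.S4337

/-- Let A be an admissible ring, J an ideal of definition, and u : M -> N a homomorphism of A-modules
with N of finite type. Then u is surjective if and only if u tensored with A/J is surjective. -/
theorem result
    (A : Type u) [CommRing A] [UniformSpace A] [IsUniformAddGroup A] [IsTopologicalRing A]
    (hA : LinTop.IsAdmissible A) (J : Ideal A) (hJ : LinTop.IsIdealOfDefinition A J)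
    (M N : Type u) [AddCommGroup M] [Module A M] [AddCommGroup N] [Module A N] [Module.Finite A N]
    (u : M →ₗ[A] N) :
    Function.Surjective u ↔ Function.Surjective (u.rTensor (A ⧸ J)) := by
  obtain ⟨⟨hlin, -⟩, ht, hc⟩ := hA
  refine ⟨fun h => LinearMap.rTensor_surjective _ h, fun h => ?_⟩
  have hJ' : J ≤ (⊥ : Ideal A).jacobson := LinTopLib.le_jacobson_bot fun f hf =>
    LinTopLib.topNil_of_small (LinTopLib.small_of_isIdealOfDefinition hJ) hf
  have hsub : Subsingleton (TensorProduct A (N ⧸ LinearMap.range u) (A ⧸ J)) := by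
    refine ⟨fun a b => ?_⟩
    obtain ⟨a, rfl⟩ := LinearMap.rTensor_surjective (A ⧸ J) (LinearMap.range u).mkQ_surjective a
    obtain ⟨b, rfl⟩ := LinearMap.rTensor_surjective (A ⧸ J) (LinearMap.range u).mkQ_surjective b
    obtain ⟨a, rfl⟩ := h a
    obtain ⟨b, rfl⟩ := h b
    rw [← LinearMap.comp_apply, ← LinearMap.comp_apply, ← LinearMap.rTensor_comp,
      LinearMap.range_mkQ_comp, LinearMap.rTensor_zero, LinearMap.zero_apply, LinearMap.zero_apply]
  have := (TensorProduct.tensorQuotEquivQuotSMul (N ⧸ LinearMap.range u) J).symm.subsingleton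
  rw [Submodule.Quotient.subsingleton_iff] at this
  have h0 := Submodule.eq_bot_of_le_smul_of_le_jacobson_bot J
    (⊤ : Submodule A (N ⧸ LinearMap.range u)) Module.Finite.fg_top this.ge hJ'
  have : Subsingleton (N ⧸ LinearMap.range u) :=
    Submodule.subsingleton_iff A |>.1 (subsingleton_iff_bot_eq_top.1 h0.symm)
  exact LinearMap.range_eq_top.1 (Submodule.Quotient.subsingleton_iff.1 this)

end Groth.Agent.S4337
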