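import Groth.Statements.S4342
import Groth.Agent.SubSheafExt.Generators

set_option autoImplicit false
universe u
open QCohSup

namespace Groth.Agent.S4342

open AlgebraicGeometry in
open CategoryTheory in
open Opposite in
/-- In the sectionwise form its proof gives. Let X be a scheme whose underlying space is locally
Noetherian and F a quasi-coherent O_X-module. For every affine open U and every section s of F over
U there is a quasi-coherent sub-O_X-module of finite type of F having s among its sections over U;
hence F is the inductive limit of its quasi-coherent submodules of finite type. -/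
theorem result
    {X : Scheme.{u}}
    (hX : ∀ x : X, ∃ U : X.Opens, x ∈ U ∧ TopologicalSpace.NoetherianSpace (U : Set X))
    (F : X.Modules) [Coh.IsQCoh F]
    (U : X.affineOpens) (s : F.val.obj (op (U : X.Opens))) :
    ∃ (G' : X.Modules) (i' : G' ⟶ F), Mono i' ∧ Coh.IsQCoh G' ∧ CohB1.IsFT G' ∧
      ∃ g : G'.val.obj (op (U : X.Opens)), (i'.val.app (op (U : X.Opens))).hom g = s := by
  obtain ⟨M, hM, hs⟩ :=
    Groth.Agent.SubSheafExt.exists_gen_of_section_locallyNoetherian (F := F) hX U.2 s
  exact ⟨Groth.Agent.SubSheafExt.toModule F M, Groth.Agent.SubSheafExt.toModuleι F M, inferInstance,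
    Groth.Agent.SubSheafExt.isQuasicoherent_toModule hM, Groth.Agent.SubSheafExt.isFiniteType_toModule hM,
    ⟨s, hs⟩, rfl⟩

end Groth.Agent.S4342
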