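import Groth.Statements.S4343
import Groth.Agent.RatMapD.Spread

set_option autoImplicit false
universe u
open RatMapD

namespace Groth.Agent.S4343

open AlgebraicGeometry in
open CategoryTheory in
/-- Let X, Y be S-schemes with X irreducible and Y locally of finite type over S. Two S-rational maps
from X to Y to which corresponds the same morphism Spec(O_x) -> Y, x the generic point of X, are
equal. (The published statement has Y of finite type over S; only local finite type is used. X is
not assumed reduced.) -/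
theorem result
    (S X Y : Scheme.{u}) [X.Over S] [Y.Over S] [IrreducibleSpace X]
    [LocallyOfFiniteType (Y ↘ S)] (f g : X ⤏ Y) [f.IsOver S] [g.IsOver S]
    (h : f.fromFunctionField = g.fromFunctionField) : f = g := by
  obtain ⟨f, hf, rfl⟩ := f.exists_partialMap_over S
  obtain ⟨g, hg, rfl⟩ := g.exists_partialMap_over S
  let W : X.Opens := f.domain ⊓ g.domain
  have hW : Dense (W : Set X) := f.dense_domain.inter_of_isOpen_left g.dense_domain f.domain.2
  have hηW : genericPoint X ∈ W :=
    (genericPoint_specializes _).mem_open W.2 hW.nonempty.choose_spec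
  rw [← f.restrict_toRationalMap W hW inf_le_left, ← g.restrict_toRationalMap W hW inf_le_right]
    at h ⊢
  simp only [Scheme.RationalMap.fromFunctionField_toRationalMap,
    Scheme.PartialMap.fromSpecStalkOfMem] at h
  have hfS : (f.restrict W hW inf_le_left).hom ≫ (Y ↘ S) = W.ι ≫ (X ↘ S) :=
    CategoryTheory.comp_over (f.restrict W hW inf_le_left).hom S
  have hgS : (g.restrict W hW inf_le_right).hom ≫ (Y ↘ S) = W.ι ≫ (X ↘ S) :=
    CategoryTheory.comp_over (g.restrict W hW inf_le_right).hom S
  suffices key : ∀ a b : W.toScheme ⟶ Y, a ≫ (Y ↘ S) = b ≫ (Y ↘ S) →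
      W.fromSpecStalkOfMem _ hηW ≫ a = W.fromSpecStalkOfMem _ hηW ≫ b →
      (⟨W, hW, a⟩ : X.PartialMap Y).toRationalMap = (⟨W, hW, b⟩ : X.PartialMap Y).toRationalMap from
    key _ _ (hfS.trans hgS.symm) h
  intro a b hab he
  have he' := Groth.Agent.RatMapD.fromSpecStalk_comp_eq_of_fromSpecStalkOfMem_comp_eq W hηW a b he
  obtain ⟨U, hU, hUe⟩ := Groth.Agent.RatMapD.spread_out_unique_of_locallyOfFiniteType (Y ↘ S)
    a b hab he'
  have hle : W.ι ''ᵁ U ≤ W := (Set.image_subset_range _ _).trans_eq (Subtype.range_val)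
  have key : X.homOfLE hle ≫ a = X.homOfLE hle ≫ b := by
    have e : (Scheme.Hom.isoImage W.ι U).hom ≫ X.homOfLE hle = U.ι := by
      rw [← cancel_mono W.ι, Category.assoc, Scheme.homOfLE_ι, Scheme.Hom.isoImage_hom_ι]
    rw [← cancel_epi (Scheme.Hom.isoImage W.ι U).hom, ← Category.assoc, e, ← Category.assoc, e]
    exact hUe
  exact Scheme.PartialMap.toRationalMap_eq_iff.mpr ⟨W.ι ''ᵁ U,
    (W.ι ''ᵁ U).2.dense ⟨_, ⟨_, hU, rfl⟩⟩, hle, hle, key⟩

end Groth.Agent.S4343
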