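import Groth.Statements.S4344
-- import your own Groth.Agent.* helpers here

set_option autoImplicit false
universe u
open RatMapD

namespace Groth.Agent.S4344

open AlgebraicGeometry in
open CategoryTheory in
/-- Let X be a reduced S-scheme, Y an S-scheme separated over S and f an S-rational map from X to Y.
There is a representative g of f which is an S-morphism and of which every S-morphism representing f
is a restriction; in particular g is the unique S-morphism of the class of f defined on the largest
open where some S-representative is defined. (The published statement speaks of the domain of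
definition among all representatives; over a base that is not separated that domain can be larger
than the one on which an S-representative exists, and this row takes the latter.) -/
theorem result
    (S X Y : Scheme.{u}) [X.Over S] [Y.Over S] [IsReduced X] [IsSeparated (Y ↘ S)]
    (f : X ⤏ Y) [f.IsOver S] :
    ∃ g : X.PartialMap Y, g.IsOver S ∧ g.toRationalMap = f ∧
      ∀ h : X.PartialMap Y, h.IsOver S → h.toRationalMap = f →
        ∃ hle : h.domain ≤ g.domain, h = g.restrict h.domain h.dense_domain hle := by
  let J := {g : X.PartialMap Y // g.IsOver S ∧ g.toRationalMap = f}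
  obtain ⟨g₀, hg₀, hg₀f⟩ := f.exists_partialMap_over S
  let U : J → X.Opens := fun g => g.1.domain
  let 𝒰 := Scheme.Opens.iSupOpenCover U
  have hglue : ∀ i j : J, Limits.pullback.fst (𝒰.f i) (𝒰.f j) ≫ i.1.hom =
      Limits.pullback.snd (𝒰.f i) (𝒰.f j) ≫ j.1.hom := by
    intro i j
    have := i.2.1
    have := j.2.1
    have he := (Scheme.PartialMap.equiv_iff_of_isSeparated (S := S) (f := i.1) (g := j.1)).mp
      (Scheme.PartialMap.toRationalMap_eq_iff.mp (i.2.2.trans j.2.2.symm))
    refine (cancel_epi (isPullback_opens_inf_le (le_iSup U i) (le_iSup U j)).isoPullback.hom).mp ?_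
    simp only [𝒰, Scheme.Opens.iSupOpenCover]
    rw [IsPullback.isoPullback_hom_fst_assoc, IsPullback.isoPullback_hom_snd_assoc]
    exact he
  let φ := 𝒰.glueMorphisms (fun i => i.1.hom) hglue
  have hφ : ∀ i : J, X.homOfLE (le_iSup U i) ≫ φ = i.1.hom := fun i =>
    𝒰.ι_glueMorphisms (fun i => i.1.hom) hglue i
  let g : X.PartialMap Y :=
    ⟨⨆ i, U i, g₀.dense_domain.mono (le_iSup U ⟨g₀, hg₀, hg₀f⟩), φ⟩
  have hgS : φ ≫ (Y ↘ S) = (⨆ i, U i).ι ≫ (X ↘ S) := by
    refine 𝒰.hom_ext _ _ fun (i : J) => ?_
    change X.homOfLE (le_iSup U i) ≫ _ = X.homOfLE (le_iSup U i) ≫ _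
    rw [← Category.assoc, hφ, ← Category.assoc, Scheme.homOfLE_ι]
    have := i.2.1
    exact CategoryTheory.comp_over i.1.hom S
  have hres : ∀ (h : X.PartialMap Y) (hh : h.IsOver S) (hf : h.toRationalMap = f),
      h = g.restrict h.domain h.dense_domain (le_iSup U ⟨h, hh, hf⟩) := fun h hh hf =>
    Scheme.PartialMap.ext _ _ rfl (by
      simp only [Scheme.PartialMap.restrict_hom, g]
      erw [hφ ⟨h, hh, hf⟩, Scheme.isoOfEq_rfl, Iso.refl_hom, Category.id_comp])
  refine ⟨g, ⟨hgS⟩, ?_, fun h hh hf => ⟨le_iSup U ⟨h, hh, hf⟩, hres h hh hf⟩⟩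
  calc g.toRationalMap = (g.restrict g₀.domain g₀.dense_domain
      (le_iSup U ⟨g₀, hg₀, hg₀f⟩)).toRationalMap :=
        (Scheme.PartialMap.restrict_toRationalMap _ _ _ _).symm
    _ = g₀.toRationalMap := by rw [← hres g₀ hg₀ hg₀f]
    _ = f := hg₀f

end Groth.Agent.S4344
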