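import Groth.Statements.S4347
import Groth.Agent.CplFlat.RingMap
import Mathlib.RingTheory.Localization.LocalizationLocalization

set_option autoImplicit false
universe u
open AdicRing

namespace Groth.Agent.S4347

/-- The completed ring of fractions of A with denominators in a multiplicative subset being the J-adic
completion of the localization of A at that subset: Let A be a Noetherian ring with the J-adic
topology and S' a multiplicative subset contained in the multiplicative subset S. Then the canonical
map from the completed ring of fractions of A with denominators in S' to the one with denominators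
in S is flat. (The published statement assumes A adic, i.e. also separated and complete; that is not
needed for this assertion.) -/
theorem result
    (A : Type u) [CommRing A] [IsNoetherianRing A] (J : Ideal A) (S' S : Submonoid A) (hS : S' ≤ S)
    (g : Localization S' →+* Localization S)
    (hg : g.comp (algebraMap A (Localization S')) = algebraMap A (Localization S))
    (hJ : (J.map (algebraMap A (Localization S'))).map g ≤ J.map (algebraMap A (Localization S))) :
    (FSch.complMap (J.map (algebraMap A (Localization S'))) (J.map (algebraMap A (Localization S)))
      g hJ).Flat := by
  letI := g.toAlgebra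
  haveI : IsScalarTower A (Localization S') (Localization S) := IsScalarTower.of_algebraMap_eq' hg.symm
  haveI : IsLocalization (S.map (algebraMap A (Localization S'))) (Localization S) :=
    IsLocalization.isLocalization_of_submonoid_le (Localization S') (Localization S) S' S hS
  haveI : IsNoetherianRing (Localization S') := IsLocalization.isNoetherianRing S' _ inferInstance
  have hflat : g.Flat := IsLocalization.flat (Localization S) (S.map (algebraMap A (Localization S')))
  refine Groth.Agent.CplFlat.flat_completion_ringHom g hflat _ _ (by rw [Ideal.map_map, hg]) _ fun r => ?_
  apply AdicCompletion.ext_evalₐ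
  intro n
  unfold FSch.complMap
  refine Eq.trans ?_ (show Ideal.quotientMap _ g (FSch.pow_le_comap_pow_of_map_le _ _ g hJ n) (AdicCompletion.evalₐ (J.map (algebraMap A (Localization S'))) n (algebraMap _ _ r)) = _ from ?_)
  · apply AdicCompletion.evalₐ_liftRingHom
    intro m n hle
    apply RingHom.ext
    intro x
    obtain ⟨y, rfl⟩ := AdicCompletion.mk_surjective (J.map (algebraMap A (Localization S'))) (Localization S') x
    simp only [RingHom.coe_comp, Function.comp_apply, AlgHom.toRingHom_eq_coe, AlgHom.coe_toRingHom,
      AdicCompletion.evalₐ_mk, Ideal.quotientMap_mk, Ideal.Quotient.factorPow, Ideal.Quotient.factor_mk]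
    rw [Ideal.Quotient.eq]
    have hy := y.2 hle
    rw [SModEq.sub_mem] at hy
    simp only [smul_eq_mul, Ideal.mul_top] at hy
    rw [← map_sub]
    refine FSch.pow_le_comap_pow_of_map_le _ _ g hJ m ?_
    rw [← neg_sub]
    exact Submodule.neg_mem _ hy
  show Ideal.quotientMap _ g (FSch.pow_le_comap_pow_of_map_le _ _ g hJ n) (AdicCompletion.evalₐ (J.map (algebraMap A (Localization S'))) n (algebraMap _ _ r)) =
    AdicCompletion.evalₐ (J.map (algebraMap A (Localization S))) n (algebraMap _ _ (g r))
  rw [AlgHom.commutes, AlgHom.commutes, Ideal.Quotient.algebraMap_eq, Ideal.Quotient.algebraMap_eq, Ideal.quotientMap_mk]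

end Groth.Agent.S4347
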