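import Groth.Statements.S4349
import Mathlib.AlgebraicGeometry.Properties
import Mathlib.CategoryTheory.Filtered.Basic
-- import your own Groth.Agent.* helpers here

set_option autoImplicit false
universe u
open RatFun CategoryTheory

namespace Groth.Agent.S4349

open AlgebraicGeometry in
/-- Second assertion (in the form: sections over a dense open inject into the ring of rational
functions). Let X be a reduced scheme and V a dense open subset of X. The canonical map from the
sections of O_X over V to the ring R(X) of rational functions on X is injective. (The published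
statement also assumes X locally integral or locally Noetherian; that hypothesis serves the
quasi-coherence of the sheaf of rational functions and is not needed here.) -/
theorem result (X : Scheme.{u}) [IsReduced X]
    (V : X.Opens) (hV : Dense (V : Set X)) :
    Function.Injective (RatFun.toRing X V hV) := by
  haveI : IsCofiltered (RatFun.IsDenseOpen X).FullSubcategory := by
    haveI : Nonempty (RatFun.IsDenseOpen X).FullSubcategory := ⟨⟨V, hV⟩⟩
    refine { cone_objs := fun U W => ?_, cone_maps := fun U W f g => ⟨U, 𝟙 _, ?_⟩ }
    · exact ⟨⟨U.obj ⊓ W.obj, U.property.inter_of_isOpen_left W.property U.obj.isOpen⟩,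
        ObjectProperty.homMk (homOfLE inf_le_left), ObjectProperty.homMk (homOfLE inf_le_right), trivial⟩
    · exact ObjectProperty.hom_ext _ (Subsingleton.elim _ _)
  rw [injective_iff_map_eq_zero]
  intro a ha
  obtain ⟨⟨⟨W, hW⟩⟩, i, i', hi⟩ := (Limits.Concrete.colimit_rep_eq_iff_exists (RatFun.sectionsOnDense X)
    (i := Opposite.op ⟨V, hV⟩) (j := Opposite.op ⟨V, hV⟩) a 0).1 (ha.trans (map_zero _).symm)
  have hWV : W ≤ V := leOfHom i.unop.hom
  have hres : X.presheaf.map (homOfLE hWV).op a = 0 := hi.trans (map_zero _)
  rw [← basicOpen_eq_bot_iff]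
  have h1 := X.basicOpen_res a (homOfLE hWV).op
  rw [hres, Scheme.basicOpen_zero] at h1
  by_contra hne
  obtain ⟨x, hxW, hxb⟩ := hW.inter_open_nonempty _ (X.basicOpen a).isOpen
    ((TopologicalSpace.Opens.ne_bot_iff_nonempty _).mp hne) |>.imp fun x hx => (⟨hx.2, hx.1⟩ : x ∈ W ∧ x ∈ X.basicOpen a)
  have : x ∈ (W ⊓ X.basicOpen a : X.Opens) := ⟨hxW, hxb⟩
  rw [← h1] at this
  exact this

end Groth.Agent.S4349
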