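import Groth.Statements.S4359
import Mathlib.AlgebraicGeometry.Morphisms.FiniteType
-- import your own Groth.Agent.* helpers here

set_option autoImplicit false
universe u
open FinCond

namespace Groth.Agent.S4359

open AlgebraicGeometry in
open CategoryTheory in
/-- Let S be a locally Noetherian scheme, p : X -> S a morphism of finite type (locally of finite type
and quasi-compact) and q : Y -> S any morphism. Then every morphism f : X -> Y with f followed by q
equal to p is of finite type, that is, locally of finite type and quasi-compact. -/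
theorem result
    {X Y S : Scheme.{u}} [IsLocallyNoetherian S] (p : X ⟶ S) (q : Y ⟶ S)
    [LocallyOfFiniteType p] [QuasiCompact p] (f : X ⟶ Y) (hf : f ≫ q = p) :
    LocallyOfFiniteType f ∧ QuasiCompact f := by
  subst hf
  refine ⟨locallyOfFiniteType_of_comp f q, ⟨fun U hU hUc => ?_⟩⟩
  haveI : IsLocallyNoetherian X := LocallyOfFiniteType.isLocallyNoetherian (f ≫ q)
  obtain ⟨s, hsU⟩ := (hUc.image q.continuous).elim_finite_subcover
    (fun V : S.affineOpens => (V.1 : Set S)) (fun V => V.1.isOpen) (fun z _ => by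
      obtain ⟨_, ⟨V, hV, rfl⟩, hzV, -⟩ :=
        S.isBasis_affineOpens.exists_subset_of_mem_open (Set.mem_univ z) isOpen_univ
      exact Set.mem_iUnion.2 ⟨⟨V, hV⟩, hzV⟩)
  let W : Set X := ⋃ V ∈ s, (f ≫ q) ⁻¹' (V.1 : Set S)
  have hWo : IsOpen W := isOpen_biUnion fun V _ => V.1.isOpen.preimage (f ≫ q).continuous
  have hWc : IsCompact W :=
    s.finite_toSet.isCompact_biUnion fun V _ => (f ≫ q).isCompact_preimage V.2.isCompact
  let W' : X.Opens := ⟨W, hWo⟩
  haveI : CompactSpace (W' : Scheme.{u}) := isCompact_iff_compactSpace.1 hWc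
  haveI : IsNoetherian (W' : Scheme.{u}) := ⟨⟩
  haveI : TopologicalSpace.NoetherianSpace (W' : Scheme.{u}) := inferInstance
  have hsub : f ⁻¹' U ⊆ Set.range W'.ι := by
    rw [Scheme.Opens.range_ι]
    intro x hx
    obtain ⟨V, hV, hqV⟩ := Set.mem_iUnion₂.1 (hsU ⟨f x, hx, rfl⟩)
    exact Set.mem_iUnion₂.2 ⟨V, hV, by rw [Set.mem_preimage, Scheme.Hom.comp_apply]; exact hqV⟩
  rw [← Set.image_preimage_eq_of_subset hsub]
  exact (TopologicalSpace.NoetherianSpace.isCompact _).image W'.ι.continuous

end Groth.Agent.S4359
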