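import Groth.Statements.S4360
-- import your own Groth.Agent.* helpers here

set_option autoImplicit false
universe u
open FinCond

namespace Groth.Agent.S4360

open AlgebraicGeometry in
open CategoryTheory in
/-- Let f : X -> Y be an immersion and suppose that the underlying space of Y is locally Noetherian,
i.e. every point of Y has an open neighbourhood which is a Noetherian topological space. Then f is
quasi-compact (and hence of finite type, an immersion being locally of finite type). -/
theorem result
    {X Y : Scheme.{u}} (f : X ⟶ Y) [IsImmersion f]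
    (hY : ∀ y : Y, ∃ U : Y.Opens, y ∈ U ∧ TopologicalSpace.NoetherianSpace U) :
    QuasiCompact f := by
  refine ⟨fun V hV hVc => ?_⟩
  choose W hW hN using hY
  obtain ⟨t, ht⟩ := hVc.elim_finite_subcover (fun y => ((W y : Y.Opens) : Set Y)) (fun y => (W y).2)
    (fun y _ => Set.mem_iUnion.mpr ⟨y, hW y⟩)
  haveI : TopologicalSpace.NoetherianSpace (⋃ y : t, ((W y.1 : Y.Opens) : Set Y) : Set Y) := by
    haveI : ∀ y : t, TopologicalSpace.NoetherianSpace (((W y.1 : Y.Opens) : Set Y) : Set Y) :=
      fun y => hN y.1
    exact TopologicalSpace.NoetherianSpace.iUnion _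
  rw [f.isEmbedding.isCompact_iff, Set.image_preimage_eq_inter_range]
  have hsub : V ∩ Set.range f ⊆ ⋃ y : t, ((W y.1 : Y.Opens) : Set Y) := by
    refine Set.inter_subset_left.trans (ht.trans ?_)
    intro y hy
    simp only [Set.mem_iUnion] at hy ⊢
    obtain ⟨i, hi, hy⟩ := hy
    exact ⟨⟨i, hi⟩, hy⟩
  have := (TopologicalSpace.NoetherianSpace.isCompact
    (Subtype.val ⁻¹' (V ∩ Set.range f) : Set (⋃ y : t, ((W y.1 : Y.Opens) : Set Y) : Set Y))).image
    continuous_subtype_val
  rwa [Subtype.image_preimage_coe, Set.inter_eq_right.mpr hsub] at this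

end Groth.Agent.S4360
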