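import Groth.Statements.S4361
-- import your own Groth.Agent.* helpers here

set_option autoImplicit false
universe u
open FinCond

namespace Groth.Agent.S4361

open AlgebraicGeometry in
open CategoryTheory in
/-- Let f : X -> Y and g : Y -> Z be morphisms whose composite is quasi-compact, and suppose the
underlying space of X is locally Noetherian (every point has an open neighbourhood which is a
Noetherian topological space). Then f is quasi-compact. (The published statement also covers the
case g separated, which is the standard cancellation property; this row states only the case of a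
locally Noetherian source.) -/
theorem result
    {X Y Z : Scheme.{u}} (f : X ⟶ Y) (g : Y ⟶ Z) [QuasiCompact (f ≫ g)]
    (hX : ∀ x : X, ∃ U : X.Opens, x ∈ U ∧ TopologicalSpace.NoetherianSpace U) :
    QuasiCompact f := by
  refine ⟨fun V hV hVc => ?_⟩
  obtain ⟨s, hs, hVs⟩ : ∃ s : Set Z.affineOpens, s.Finite ∧ g '' V ⊆ ⋃ i ∈ s, ((i : Z.Opens) : Set Z) := by
    obtain ⟨t, ht⟩ := (hVc.image g.continuous).elim_finite_subcover
      (fun i : Z.affineOpens => ((i : Z.Opens) : Set Z)) (fun i => i.1.2) (fun z _ => by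
        obtain ⟨W, hW, hz, -⟩ := (Z.isBasis_affineOpens.exists_subset_of_mem_open (Set.mem_univ z) isOpen_univ)
        obtain ⟨W', hW', rfl⟩ := hW
        exact Set.mem_iUnion.mpr ⟨⟨W', hW'⟩, hz⟩)
    exact ⟨t, t.finite_toSet, ht⟩
  have hC : IsCompact (⋃ i ∈ s, (f ≫ g) ⁻¹' ((i : Z.Opens) : Set Z)) :=
    hs.isCompact_biUnion fun i _ => (f ≫ g).isCompact_preimage i.2.isCompact
  choose W hW hN using hX
  obtain ⟨t, ht⟩ := hC.elim_finite_subcover (fun y => ((W y : X.Opens) : Set X)) (fun y => (W y).2)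
    (fun y _ => Set.mem_iUnion.mpr ⟨y, hW y⟩)
  haveI : TopologicalSpace.NoetherianSpace (⋃ y : t, ((W y.1 : X.Opens) : Set X) : Set X) := by
    haveI : ∀ y : t, TopologicalSpace.NoetherianSpace (((W y.1 : X.Opens) : Set X) : Set X) :=
      fun y => hN y.1
    exact TopologicalSpace.NoetherianSpace.iUnion _
  have hsub : f ⁻¹' V ⊆ ⋃ y : t, ((W y.1 : X.Opens) : Set X) := by
    intro x hx
    have h1 : g (f x) ∈ ⋃ i ∈ s, ((i : Z.Opens) : Set Z) := hVs ⟨f x, hx, rfl⟩
    simp only [Set.mem_iUnion] at h1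
    obtain ⟨i, hi, hxi⟩ := h1
    have h2 := ht (Set.mem_biUnion hi (show x ∈ (f ≫ g) ⁻¹' ((i : Z.Opens) : Set Z) by simpa using hxi))
    simp only [Set.mem_iUnion] at h2 ⊢
    obtain ⟨j, hj, hxj⟩ := h2
    exact ⟨⟨j, hj⟩, hxj⟩
  have := (TopologicalSpace.NoetherianSpace.isCompact
    (Subtype.val ⁻¹' (f ⁻¹' V) : Set (⋃ y : t, ((W y.1 : X.Opens) : Set X) : Set X))).image
    continuous_subtype_val
  rwa [Subtype.image_preimage_coe, Set.inter_eq_right.mpr hsub] at this

end Groth.Agent.S4361
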