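import Groth.Statements.S4362
import Mathlib.AlgebraicGeometry.IdealSheaf.Basic
import Mathlib.AlgebraicGeometry.Noetherian
import Mathlib.Order.WellFoundedSet
import Mathlib.Data.DFinsupp.WellFounded
-- import your own Groth.Agent.* helpers here

set_option autoImplicit false
universe u
open FinCond

namespace Groth.Agent.S4362

open AlgebraicGeometry in
open CategoryTheory in
/-- If X is a Noetherian scheme, every increasing sequence of quasi-coherent sheaves of ideals of the
structure sheaf is eventually constant; equivalently the ordered set of quasi-coherent ideal sheaves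
of X is well-founded for the reverse order. (On a locally Noetherian scheme quasi-coherent and
coherent ideal sheaves coincide.) -/
theorem result
    (X : Scheme.{u}) [IsNoetherian X] : WellFoundedGT X.IdealSheafData := by
  classical
  let 𝒰 := X.affineCover.finiteSubcover
  haveI : Finite 𝒰.I₀ := inferInstance
  let U : 𝒰.I₀ → X.affineOpens := fun i => ⟨(𝒰.f i).opensRange, isAffineOpen_opensRange _⟩
  have hU : ⨆ i, (U i).1 = ⊤ := 𝒰.iSup_opensRange
  haveI : ∀ i, IsNoetherianRing Γ(X, (U i).1) := fun i => IsLocallyNoetherian.component_noetherian _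
  haveI : ∀ i, WellFoundedGT (Ideal Γ(X, (U i).1)) := fun i => inferInstance
  haveI : WellFoundedLT (∀ i, (Ideal Γ(X, (U i).1))ᵒᵈ) := inferInstance
  let g : X.IdealSheafData → ∀ i, (Ideal Γ(X, (U i).1))ᵒᵈ := fun I i => OrderDual.toDual (I.ideal (U i))
  have hg : StrictAnti g := Antitone.strictAnti_of_injective (fun I J h i => h (U i))
    (fun I J h => Scheme.IdealSheafData.ext_of_iSup_eq_top U hU fun i => congrFun h i)
  exact hg.wellFoundedGT

end Groth.Agent.S4362
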