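import Groth.Statements.S4363
import Groth.Agent.InvPow.SeparatedCover
-- import your own Groth.Agent.* helpers here

set_option autoImplicit false
universe u v
open RedSep

namespace Groth.Agent.S4363

open CategoryTheory CategoryTheory.Limits AlgebraicGeometry

open AlgebraicGeometry in
open CategoryTheory in
/-- Let Y be an affine scheme, f : X -> Y a morphism and (U i) a cover of X by affine open subschemes.
Then f is separated if and only if, for every pair of indices i, j, the intersection of U i and U j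
is an affine open and its ring of sections is generated, as a ring, by the images of the rings of
sections of U i and of U j under the restriction maps. -/
theorem result
    {X Y : Scheme.{u}} [IsAffine Y] (f : X ⟶ Y) {ι : Type v} (U : ι → X.Opens)
    (hU : ∀ i, IsAffineOpen (U i)) (hcov : ⨆ i, U i = ⊤) :
    IsSeparated f ↔ ∀ i j, IsAffineOpen (U i ⊓ U j) ∧
      Subring.closure (Set.range (X.presheaf.map (homOfLE (inf_le_left : U i ⊓ U j ≤ U i)).op).hom ∪
        Set.range (X.presheaf.map (homOfLE (inf_le_right : U i ⊓ U j ≤ U j)).op).hom) = ⊤ := by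
  constructor
  swap
  · intro h
    have hX : X.IsSeparated := by
      refine Groth.Agent.InvPow.isSeparated_of_affine_cover (ι := Set.range U) (fun V => V.1)
        (fun x => ?_) (fun V => ?_) (fun V W => ?_) (fun V W => ?_)
      · obtain ⟨i, hi⟩ := TopologicalSpace.Opens.mem_iSup.1 (hcov.ge (show x ∈ (⊤ : X.Opens) from trivial))
        exact ⟨⟨U i, i, rfl⟩, hi⟩
      · obtain ⟨_, i, rfl⟩ := V; exact hU i
      · obtain ⟨_, i, rfl⟩ := V; obtain ⟨_, j, rfl⟩ := W; exact (h i j).1
      · obtain ⟨_, i, rfl⟩ := V; obtain ⟨_, j, rfl⟩ := W; exact (h i j).2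
    haveI := hX
    haveI : IsSeparated (f ≫ terminal.from Y) := by rw [terminal.comp_from]; exact hX.1
    exact IsSeparated.of_comp f (terminal.from Y)
  intro hf i j
  haveI : X.IsSeparated := ⟨by rw [← terminal.comp_from f]; infer_instance⟩
  have haff : IsAffineOpen (U i ⊓ U j) := (hU i).inf (hU j)
  refine ⟨haff, ?_⟩
  haveI : IsAffine (U i).toScheme := hU i
  haveI : IsAffine (U j).toScheme := hU j
  haveI : IsAffine (U i ⊓ U j : X.Opens).toScheme := haff
  haveI : IsAffine (⊤_ Scheme.{u}) := IsAffine.of_isIso (terminalIsTerminal.uniqueUpToIso specULiftZIsTerminal).hom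
  let ti := (U i).ι ≫ terminal.from X
  let tj := (U j).ι ≫ terminal.from X
  let P := pullback ti tj
  let R0 : Subring Γ(P, ⊤) :=
    Subring.closure (Set.range (pullback.fst ti tj).appTop.hom ∪ Set.range (pullback.snd ti tj).appTop.hom)
  let S0 : Scheme.{u} := Spec (CommRingCat.of R0)
  let q : P ⟶ S0 := P.isoSpec.hom ≫ Spec.map (CommRingCat.ofHom R0.subtype)
  let a : S0 ⟶ (U i).toScheme := Spec.map (CommRingCat.ofHom ((pullback.fst ti tj).appTop.hom.codRestrict R0
    fun x => Subring.subset_closure (Or.inl ⟨x, rfl⟩))) ≫ (U i).toScheme.isoSpec.inv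
  let b : S0 ⟶ (U j).toScheme := Spec.map (CommRingCat.ofHom ((pullback.snd ti tj).appTop.hom.codRestrict R0
    fun x => Subring.subset_closure (Or.inr ⟨x, rfl⟩))) ≫ (U j).toScheme.isoSpec.inv
  let r : S0 ⟶ P := pullback.lift a b (terminal.hom_ext _ _)
  have hqa : q ≫ a = pullback.fst ti tj := by
    show (P.isoSpec.hom ≫ Spec.map _) ≫ Spec.map _ ≫ (U i).toScheme.isoSpec.inv = _
    rw [Category.assoc, ← Spec.map_comp_assoc, ← Category.assoc, Iso.comp_inv_eq]
    first
      | exact Scheme.isoSpec_hom_naturality _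
      | exact (Scheme.isoSpec_hom_naturality _).symm
  have hqb : q ≫ b = pullback.snd ti tj := by
    show (P.isoSpec.hom ≫ Spec.map _) ≫ Spec.map _ ≫ (U j).toScheme.isoSpec.inv = _
    rw [Category.assoc, ← Spec.map_comp_assoc, ← Category.assoc, Iso.comp_inv_eq]
    first
      | exact Scheme.isoSpec_hom_naturality _
      | exact (Scheme.isoSpec_hom_naturality _).symm
  have hqr : q ≫ r = 𝟙 P := by
    apply pullback.hom_ext
    · rw [Category.assoc, pullback.lift_fst, hqa, Category.id_comp]
    · rw [Category.assoc, pullback.lift_snd, hqb, Category.id_comp]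
  have hR0 : R0 = ⊤ := by
    rw [eq_top_iff]
    intro c _
    have h1 : q.appTop (r.appTop c) = c := by
      rw [← CommRingCat.comp_apply, ← Scheme.Hom.comp_appTop, hqr]; rfl
    have h2 : q.appTop = (Scheme.ΓSpecIso (CommRingCat.of R0)).hom ≫ CommRingCat.ofHom R0.subtype := by
      show (P.isoSpec.hom ≫ Spec.map (CommRingCat.ofHom R0.subtype)).appTop = _
      rw [Scheme.Hom.comp_appTop, Scheme.isoSpec_hom, Scheme.toSpecΓ_appTop]
      exact Scheme.ΓSpecIso_naturality _
    rw [← h1, h2]
    exact SetLike.coe_mem _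
  let e := (isPullback_opens_inf (U i) (U j)).isoPullback
  let δ := pullback.mapDesc (U i).ι (U j).ι (terminal.from X)
  haveI : IsClosedImmersion δ := inferInstance
  let ψ : Γ(P, ⊤) →+* Γ(X, U i ⊓ U j) := (U i ⊓ U j).topIso.hom.hom.comp (e.hom.appTop.hom.comp δ.appTop.hom)
  have hψ : Function.Surjective ψ :=
    (ConcreteCategory.bijective_of_isIso (U i ⊓ U j).topIso.hom).2.comp
      ((show Function.Surjective (e.hom ≫ δ).appTop from
        (HasAffineProperty.iff_of_isAffine (P := @IsClosedImmersion) (f := e.hom ≫ δ)).1 inferInstance |>.2))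
  rw [eq_top_iff]
  intro c _
  obtain ⟨d, rfl⟩ := hψ c
  have hd : d ∈ R0 := hR0.ge (Subring.mem_top d)
  have hle : R0 ≤ (Subring.closure (Set.range (X.presheaf.map (homOfLE (inf_le_left : U i ⊓ U j ≤ U i)).op).hom ∪
      Set.range (X.presheaf.map (homOfLE (inf_le_right : U i ⊓ U j ≤ U j)).op).hom)).comap ψ := by
    refine Subring.closure_le.2 ?_
    rintro _ (⟨x, rfl⟩ | ⟨x, rfl⟩)
    · refine Subring.subset_closure (Or.inl ⟨(U i).topIso.hom x, ?_⟩)
      have h1 : e.hom ≫ δ ≫ pullback.fst ti tj = X.homOfLE (inf_le_left : U i ⊓ U j ≤ U i) :=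
        (congrArg (e.hom ≫ ·) (pullback.lift_fst _ _ _)).trans
          ((isPullback_opens_inf (U i) (U j)).isoPullback_hom_fst)
      have h2 := ConcreteCategory.congr_hom (congrArg Scheme.Hom.appTop h1) ((U i).topIso.inv ((U i).topIso.hom x))
      rw [Groth.Agent.InvPow.homOfLE_appTop_topIso, Scheme.Hom.comp_appTop, Scheme.Hom.comp_appTop,
        Iso.hom_inv_id_apply] at h2
      exact ((congrArg _ h2).trans (ConcreteCategory.congr_hom (U i ⊓ U j).topIso.inv_hom_id _)).symm
    · refine Subring.subset_closure (Or.inr ⟨(U j).topIso.hom x, ?_⟩)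
      have h1 : e.hom ≫ δ ≫ pullback.snd ti tj = X.homOfLE (inf_le_right : U i ⊓ U j ≤ U j) :=
        (congrArg (e.hom ≫ ·) (pullback.lift_snd _ _ _)).trans
          ((isPullback_opens_inf (U i) (U j)).isoPullback_hom_snd)
      have h2 := ConcreteCategory.congr_hom (congrArg Scheme.Hom.appTop h1) ((U j).topIso.inv ((U j).topIso.hom x))
      rw [Groth.Agent.InvPow.homOfLE_appTop_topIso, Scheme.Hom.comp_appTop, Scheme.Hom.comp_appTop,
        Iso.hom_inv_id_apply] at h2
      exact ((congrArg _ h2).trans (ConcreteCategory.congr_hom (U i ⊓ U j).topIso.inv_hom_id _)).symm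
  exact hle hd

end Groth.Agent.S4363
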