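import Groth.Statements.S4364
import Mathlib
-- import your own Groth.Agent.* helpers here

set_option autoImplicit false
universe u
open FinCond

namespace Groth.Agent.S4364

open AlgebraicGeometry in
open CategoryTheory in
/-- Let X and Y be S-schemes with Y locally of finite type over S, and let f, g : X -> Y be S-morphisms.
If f x = g x for some point x and the two induced homomorphisms of local rings O_{Y, f x} -> O_{X,
x} coincide, then f and g coincide on an open neighbourhood of x. No condition is imposed on X. (The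
published statement assumes Y of finite type over S; this row assumes Y only locally of finite type
over S, which is all the published proof uses.) -/
theorem result
    {X Y S : Scheme.{u}} (sX : X ⟶ S) (sY : Y ⟶ S) [LocallyOfFiniteType sY]
    (f g : X ⟶ Y) (hf : f ≫ sY = sX) (hg : g ≫ sY = sX) {x : X} (e : f x = g x)
    (H : f.stalkMap x =
      Y.presheaf.stalkSpecializes (Inseparable.of_eq e.symm).specializes ≫ g.stalkMap x) :
    ∃ U : X.Opens, x ∈ U ∧ U.ι ≫ f = U.ι ≫ g := by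
  obtain ⟨_, ⟨(W : S.Opens), hW, rfl⟩, hxW, -⟩ :=
    S.isBasis_affineOpens.exists_subset_of_mem_open (Set.mem_univ (sY (f x))) isOpen_univ
  obtain ⟨_, ⟨(V : Y.Opens), hV, rfl⟩, hxV, hVW⟩ :=
    Y.isBasis_affineOpens.exists_subset_of_mem_open (show f x ∈ sY ⁻¹ᵁ W from hxW) (sY ⁻¹ᵁ W).2
  obtain ⟨_, ⟨(U : X.Opens), hU, rfl⟩, hxU, hUV⟩ :=
    X.isBasis_affineOpens.exists_subset_of_mem_open
      (show x ∈ f ⁻¹ᵁ V ⊓ g ⁻¹ᵁ V from ⟨hxV, show g x ∈ V from e ▸ hxV⟩) (f ⁻¹ᵁ V ⊓ g ⁻¹ᵁ V).2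
  have hf' : U ≤ f ⁻¹ᵁ V := fun z hz => (hUV hz).1
  have hg' : U ≤ g ⁻¹ᵁ V := fun z hz => (hUV hz).2
  have hVW' : V ≤ sY ⁻¹ᵁ W := fun z hz => hVW hz
  have hft := sY.finiteType_appLE hW hV hVW'
  algebraize [(sY.appLE W V hVW').hom]
  obtain ⟨t, ht⟩ := (inferInstance : Algebra.FiniteType Γ(S, W) Γ(Y, V)).out
  have hgerm : ∀ s : Γ(Y, V), ∃ (O : X.Opens) (_ : x ∈ O) (i : O ≤ U),
      X.presheaf.map (homOfLE i).op (f.appLE V U hf' s) = X.presheaf.map (homOfLE i).op (g.appLE V U hg' s) := by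
    intro s
    have h1 : X.presheaf.germ U x hxU (f.appLE V U hf' s) = X.presheaf.germ U x hxU (g.appLE V U hg' s) := by
      have hff : X.presheaf.germ U x hxU (f.appLE V U hf' s) = f.stalkMap x (Y.presheaf.germ V (f x) hxV s) := by
        rw [Scheme.Hom.germ_stalkMap_apply, Scheme.Hom.appLE, CommRingCat.comp_apply, TopCat.Presheaf.germ_res_apply]
      have hgg : X.presheaf.germ U x hxU (g.appLE V U hg' s) = g.stalkMap x (Y.presheaf.germ V (g x) (e ▸ hxV) s) := by
        rw [Scheme.Hom.germ_stalkMap_apply, Scheme.Hom.appLE, CommRingCat.comp_apply, TopCat.Presheaf.germ_res_apply]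
      rw [hff, hgg, H, CommRingCat.comp_apply, TopCat.Presheaf.germ_stalkSpecializes_apply]
    obtain ⟨O, hxO, i, j, hO⟩ := X.presheaf.germ_eq x hxU hxU _ _ h1
    exact ⟨O, hxO, i.le, hO⟩
  choose O hxO i hO using hgerm
  obtain ⟨_, ⟨(U' : X.Opens), hU', rfl⟩, hxU', hle⟩ :=
    X.isBasis_affineOpens.exists_subset_of_mem_open
      (show x ∈ U ⊓ t.inf O from ⟨hxU, Finset.inf_induction (p := fun O : X.Opens => x ∈ O) trivial (fun (a : X.Opens) ha (b : X.Opens) hb => (⟨ha, hb⟩ : x ∈ a ⊓ b)) (fun s _ => hxO s)⟩)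
      (U ⊓ t.inf O).2
  have hU'U : U' ≤ U := fun z hz => (hle hz).1
  refine ⟨U', hxU', ?_⟩
  have hf'' : U' ≤ f ⁻¹ᵁ V := hU'U.trans hf'
  have hg'' : U' ≤ g ⁻¹ᵁ V := hU'U.trans hg'
  have hgen : ∀ s ∈ t, f.appLE V U' hf'' s = g.appLE V U' hg'' s := fun s hs => by
    have hle2 : U' ≤ O s := fun z hz => (Finset.inf_le hs : t.inf O ≤ O s) (hle hz).2
    have h2 := congrArg (X.presheaf.map (homOfLE hle2).op) (hO s)
    simp only [← CommRingCat.comp_apply, ← Functor.map_comp, Scheme.Hom.appLE_map] at h2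
    exact h2
  have hbase : ∀ r : Γ(S, W), f.appLE V U' hf'' (sY.appLE W V hVW' r) = g.appLE V U' hg'' (sY.appLE W V hVW' r) := fun r => by
    rw [← CommRingCat.comp_apply, ← CommRingCat.comp_apply, Scheme.Hom.appLE_comp_appLE, Scheme.Hom.appLE_comp_appLE]
    simp [hf, hg]
  have heq : f.appLE V U' hf'' = g.appLE V U' hg'' := by
    ext z
    have hz : z ∈ Algebra.adjoin Γ(S, W) (t : Set Γ(Y, V)) := ht ▸ Algebra.mem_top
    induction hz using Algebra.adjoin_induction with
    | mem a ha => exact hgen a ha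
    | algebraMap r => exact hbase r
    | add a b _ _ ha hb => rw [map_add, map_add, ha, hb]
    | mul a b _ _ ha hb => rw [map_mul, map_mul, ha, hb]
  have hfinal : hU'.fromSpec ≫ f = hU'.fromSpec ≫ g := by
    rw [← IsAffineOpen.SpecMap_appLE_fromSpec f hV hU' hf'', ← IsAffineOpen.SpecMap_appLE_fromSpec g hV hU' hg'', heq]
  rw [← hU'.isoSpec_inv_ι, Category.assoc, Category.assoc, cancel_epi] at hfinal
  exact hfinal

end Groth.Agent.S4364
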