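import Groth.Statements.S4365
import Groth.Agent.GeomRedAt.InsepScheme
-- import your own Groth.Agent.* helpers here

set_option autoImplicit false
set_option linter.style.haveILetI false
set_option backward.isDefEq.respectTransparency false
universe u
open FinCond

namespace Groth.Agent.S4365

open CategoryTheory CategoryTheory.Limits AlgebraicGeometry in
/-- A finitely generated field extension embeds in an algebraically closed extension with infinitely
many algebraically independent elements. -/
lemma nonempty_algHom {K L Ω : Type u} [Field K] [Field L] [Field Ω] [IsAlgClosed Ω] [Algebra K L]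
    [Algebra K Ω] [Algebra.EssFiniteType K L] (t : ℕ → Ω) (ht : AlgebraicIndependent K t) :
    Nonempty (L →ₐ[K] Ω) := by
  classical
  obtain ⟨G, hG⟩ := IntermediateField.fg_top K L
  open scoped IntermediateField.algebraAdjoinAdjoin in
  have h1 : Algebra.IsAlgebraic (Algebra.adjoin K (G : Set L)) (IntermediateField.adjoin K (G : Set L)) :=
    inferInstance
  have h2 : Algebra.IsAlgebraic (Algebra.adjoin K (G : Set L)) L := by
    refine ⟨fun z => ?_⟩
    open scoped IntermediateField.algebraAdjoinAdjoin in
    have hz := Algebra.IsAlgebraic.isAlgebraic (R := Algebra.adjoin K (G : Set L))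
      (⟨z, hG ▸ IntermediateField.mem_top⟩ : IntermediateField.adjoin K (G : Set L))
    open scoped IntermediateField.algebraAdjoinAdjoin in
    exact hz.algebraMap (A := L)
  obtain ⟨s, hsG, hs⟩ := exists_isTranscendenceBasis_subset (R := K) (G : Set L)
  haveI : Finite s := (G.finite_toSet.subset hsG).to_subtype
  obtain ⟨n, ⟨e⟩⟩ := Finite.exists_equiv_fin s
  have hti : AlgebraicIndependent K (fun i : s => t (e i)) :=
    ht.comp _ (Fin.val_injective.comp e.injective)
  let g : Algebra.adjoin K (Set.range (Subtype.val : s → L)) →ₐ[K] Ω :=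
    (MvPolynomial.aeval fun i : s => t (e i)).comp hs.1.aevalEquiv.symm.toAlgHom
  have hg : Function.Injective g := Function.Injective.comp (g := MvPolynomial.aeval fun i : s => t (e i)) hti hs.1.aevalEquiv.symm.injective
  letI : Algebra (Algebra.adjoin K (Set.range (Subtype.val : s → L))) Ω := g.toRingHom.toAlgebra
  haveI : IsScalarTower K (Algebra.adjoin K (Set.range (Subtype.val : s → L))) Ω :=
    IsScalarTower.of_algebraMap_eq fun r => (g.commutes r).symm
  haveI : FaithfulSMul (Algebra.adjoin K (Set.range (Subtype.val : s → L))) Ω :=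
    (faithfulSMul_iff_algebraMap_injective _ _).2 hg
  haveI : Algebra.IsAlgebraic (Algebra.adjoin K (Set.range (Subtype.val : s → L))) L := hs.isAlgebraic
  exact ⟨(IsAlgClosed.lift (R := Algebra.adjoin K (Set.range (Subtype.val : s → L))) :
    L →ₐ[Algebra.adjoin K (Set.range (Subtype.val : s → L))] Ω).restrictScalars K⟩

open AlgebraicGeometry in
open CategoryTheory in
/-- Let K be a field, X and Y schemes locally of finite type over K, f : X -> Y a K-morphism and Ω an
algebraically closed extension field of K of infinite transcendence degree over K (there is an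
algebraically independent sequence in Ω). Then f is surjective if and only if the map it induces
from the K-points of X with values in Ω to those of Y is surjective, i.e. every K-morphism Spec Ω ->
Y factors through f. (The published proposition assumes X and Y of finite type over K, and a later
remark of the same text extends it to X and Y locally of finite type over K, the form stated here.) -/
theorem result
    (K Ω : Type u) [Field K] [Field Ω] [IsAlgClosed Ω] [Algebra K Ω]
    (t : ℕ → Ω) (ht : AlgebraicIndependent K t)
    {X Y : Scheme.{u}} (pX : X ⟶ Spec (CommRingCat.of K)) (pY : Y ⟶ Spec (CommRingCat.of K))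
    [LocallyOfFiniteType pX] [LocallyOfFiniteType pY] (f : X ⟶ Y) (hf : f ≫ pY = pX) :
    Surjective f ↔ ∀ y : Spec (CommRingCat.of Ω) ⟶ Y,
      y ≫ pY = Spec.map (CommRingCat.ofHom (algebraMap K Ω)) →
        ∃ x : Spec (CommRingCat.of Ω) ⟶ X, x ≫ f = y := by
  open CategoryTheory.Limits in
  constructor
  · intro hs y hy
    haveI : LocallyOfFiniteType (f ≫ pY) := hf ▸ inferInstance
    haveI : LocallyOfFiniteType f := locallyOfFiniteType_of_comp f pY
    haveI := hs
    obtain ⟨z₀⟩ : Nonempty ↥(pullback y f) := by
      obtain ⟨q⟩ : Nonempty ↥(Spec (CommRingCat.of Ω)) := inferInstance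
      obtain ⟨z, hz⟩ := (pullback.fst y f).surjective q
      exact ⟨z⟩
    haveI : JacobsonSpace ↥(pullback y f) :=
      LocallyOfFiniteType.jacobsonSpace (pullback.fst y f)
    obtain ⟨z, -, hz⟩ := nonempty_inter_closedPoints (X := ↥(pullback y f))
      (Z := Set.univ) ⟨z₀, trivial⟩ isOpen_univ.isLocallyClosed
    refine ⟨pointOfClosedPoint (pullback.fst y f) z hz ≫ pullback.snd y f, ?_⟩
    rw [Category.assoc, ← pullback.condition, pointOfClosedPoint_comp_assoc]
  · intro h
    refine ⟨fun y => ?_⟩
    let ψ : CommRingCat.of K ⟶ Y.residueField y := Spec.preimage (Y.fromSpecResidueField y ≫ pY)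
    have hψ : Y.fromSpecResidueField y ≫ pY = Spec.map ψ := (Spec.map_preimage _).symm
    have hess := Groth.Agent.GeomRedAt.essFiniteType_residueField pY y ψ hψ
    letI : Algebra K (Y.residueField y) := ψ.hom.toAlgebra
    haveI : Algebra.EssFiniteType K (Y.residueField y) := hess
    obtain ⟨σ⟩ := nonempty_algHom (L := Y.residueField y) t ht
    obtain ⟨x, hx⟩ := h (Spec.map (CommRingCat.ofHom σ.toRingHom) ≫ Y.fromSpecResidueField y) (by
      rw [Category.assoc, hψ, ← Spec.map_comp]
      exact congrArg Spec.map (CommRingCat.hom_ext σ.comp_algebraMap))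
    obtain ⟨q⟩ : Nonempty ↥(Spec (CommRingCat.of Ω)) := inferInstance
    refine ⟨x q, ?_⟩
    rw [← Scheme.Hom.comp_apply, hx, Scheme.Hom.comp_apply]
    exact Y.fromSpecResidueField_apply y _

end Groth.Agent.S4365
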