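import Groth.Statements.S4366
import Mathlib
import Groth.Agent.FlatDescent.Point
-- import your own Groth.Agent.* helpers here

set_option autoImplicit false
universe u
open SchMor

namespace Groth.Agent.S4366

open AlgebraicGeometry in
open CategoryTheory in
open CategoryTheory.Limits in
/-- Let f : X -> Y be a morphism, y a point of Y and Z = Spec O_{Y,y} the local scheme of Y at y with
its canonical morphism to Y. Then the projection p : X x_Y Z -> X induces isomorphisms on all local
rings: for every point t of X x_Y Z the homomorphism O_{X, p t} -> O_{X x_Y Z, t} is bijective. (The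
published statement also asserts that p is a homeomorphism onto the preimage of Z; that part is not
stated here.) -/
theorem result
    {X Y : Scheme.{u}} (f : X ⟶ Y) (y : Y) (t : ↑(pullback f (Y.fromSpecStalk y))) :
    IsIso ((pullback.fst f (Y.fromSpecStalk y)).stalkMap t) := by
  haveI : IsPreimmersion (pullback.fst f (Y.fromSpecStalk y)) :=
    MorphismProperty.of_isPullback (IsPullback.of_hasPullback f (Y.fromSpecStalk y)).flip inferInstance
  haveI : Flat (Y.fromSpecStalk y) := Groth.FlatDescent.flat_fromSpecStalk y
  haveI : Flat (pullback.fst f (Y.fromSpecStalk y)) := MorphismProperty.of_isPullback (IsPullback.of_hasPullback f (Y.fromSpecStalk y)).flip inferInstance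
  let p := pullback.fst f (Y.fromSpecStalk y)
  rw [ConcreteCategory.isIso_iff_bijective]
  refine ⟨?_, p.stalkMap_surjective t⟩
  have hfl : (p.stalkMap t).hom.Flat := Flat.stalkMap p t
  algebraize [(p.stalkMap t).hom]
  haveI : IsLocalHom (algebraMap (X.presheaf.stalk (p t)) ((pullback f (Y.fromSpecStalk y)).presheaf.stalk t)) :=
    inferInstanceAs (IsLocalHom (p.stalkMap t).hom)
  haveI := Module.FaithfullyFlat.of_flat_of_isLocalHom (A := X.presheaf.stalk (p t)) (B := (pullback f (Y.fromSpecStalk y)).presheaf.stalk t)
  exact FaithfulSMul.algebraMap_injective (X.presheaf.stalk (p t)) ((pullback f (Y.fromSpecStalk y)).presheaf.stalk t)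

end Groth.Agent.S4366
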