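import Groth.Statements.S4368
import Mathlib
import Groth.Agent.BMCoh.Basic


set_option autoImplicit false
universe u
open RedSep

namespace Groth.Agent.S4368

lemma isReduced_nilradical_subscheme (X : AlgebraicGeometry.Scheme.{u}) :
    AlgebraicGeometry.IsReduced X.nilradical.subscheme :=
  AlgebraicGeometry.Scheme.IdealSheafData.vanishingIdeal_top (X := X) ▸
    Groth.Agent.BMCoh.isReduced_vanishingIdeal_subscheme ⊤

open AlgebraicGeometry in
open CategoryTheory in
/-- Let X be a scheme and I a quasi-coherent sheaf of ideals of O_X whose support is all of X, so that
the closed subscheme it defines has underlying space X. Then that closed subscheme is reduced if and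
only if I is the nilradical of O_X. In particular the closed subscheme defined by the nilradical is
the unique reduced closed subscheme of X with underlying space X (and, the support condition being
equivalent to I being contained in the nilradical, the smallest one). -/
theorem result
    (X : Scheme.{u}) (I : X.IdealSheafData) (hI : I.support = ⊤) :
    IsReduced I.subscheme ↔ I = X.nilradical := by
  refine ⟨fun h => ?_, fun h => h ▸ isReduced_nilradical_subscheme X⟩
  refine le_antisymm ?_ fun U => ?_
  · rw [← Scheme.IdealSheafData.vanishingIdeal_top, ← Scheme.IdealSheafData.le_support_iff_le_vanishingIdeal, hI]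
  · have : _root_.IsReduced (Γ(X, U.1) ⧸ I.ideal U) :=
      isReduced_of_injective (I.subschemeObjIso U).commRingCatIsoToRingEquiv.symm
        (I.subschemeObjIso U).commRingCatIsoToRingEquiv.symm.injective
    have hr := (Ideal.isRadical_iff_quotient_reduced (I.ideal U)).mpr this
    intro x hx
    rw [Scheme.nilradical] at hx
    obtain ⟨n, hn⟩ : x ∈ Ideal.radical (⊥ : Ideal Γ(X, U.1)) := by simpa using hx
    exact hr ⟨n, by simp [show x ^ n = 0 by simpa using hn]⟩

end Groth.Agent.S4368
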