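import Groth.Statements.S4370
import Mathlib
import Groth.Agent.BMCoh.Basic


set_option autoImplicit false
universe u
open RedSep

namespace Groth.Agent.S4370

lemma isReduced_nilradical_subscheme (X : AlgebraicGeometry.Scheme.{u}) :
    AlgebraicGeometry.IsReduced X.nilradical.subscheme :=
  AlgebraicGeometry.Scheme.IdealSheafData.vanishingIdeal_top (X := X) ▸
    Groth.Agent.BMCoh.isReduced_vanishingIdeal_subscheme ⊤

lemma surjective_nilradical_subschemeι (X : AlgebraicGeometry.Scheme.{u}) :
    AlgebraicGeometry.Surjective X.nilradical.subschemeι := by
  refine ⟨Set.range_eq_univ.mp ?_⟩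
  rw [AlgebraicGeometry.Scheme.IdealSheafData.range_subschemeι,
    AlgebraicGeometry.Scheme.support_nilradical]
  rfl

open AlgebraicGeometry in
open CategoryTheory in
/-- Let f : X -> Y be an open immersion and let g : X_red -> Y_red be the morphism of reduced schemes
induced by f, i.e. the morphism between the closed subschemes defined by the nilradicals whose
composite with the inclusion of Y_red in Y is the inclusion of X_red in X followed by f. Then g is
an open immersion. -/
theorem result
    {X Y : Scheme.{u}} (f : X ⟶ Y) [IsOpenImmersion f]
    (g : X.nilradical.subscheme ⟶ Y.nilradical.subscheme)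
    (hg : g ≫ Y.nilradical.subschemeι = X.nilradical.subschemeι ≫ f) :
    IsOpenImmersion g := by
  have := isReduced_nilradical_subscheme X
  have := isReduced_nilradical_subscheme Y
  have := surjective_nilradical_subschemeι X
  have := surjective_nilradical_subschemeι Y
  let P := Limits.pullback Y.nilradical.subschemeι f
  have hP : IsReduced P := isReduced_of_isOpenImmersion (Limits.pullback.fst Y.nilradical.subschemeι f)
  let a : X.nilradical.subscheme ⟶ P := Limits.pullback.lift g X.nilradical.subschemeι hg
  have ha : a ≫ Limits.pullback.snd _ f = X.nilradical.subschemeι := Limits.pullback.lift_snd _ _ _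
  have : IsClosedImmersion a := by
    have : IsClosedImmersion (a ≫ Limits.pullback.snd Y.nilradical.subschemeι f) := ha ▸ inferInstance
    exact IsClosedImmersion.of_comp a (Limits.pullback.snd Y.nilradical.subschemeι f)
  have : Surjective a := by
    refine ⟨fun p => ?_⟩
    obtain ⟨x, hx⟩ := X.nilradical.subschemeι.surjective (Limits.pullback.snd _ f p)
    refine ⟨x, (Limits.pullback.snd Y.nilradical.subschemeι f).injective ?_⟩
    rw [← Scheme.Hom.comp_apply, ha, hx]
  have := isIso_of_isClosedImmersion_of_surjective a
  rw [show g = a ≫ Limits.pullback.fst _ f from (Limits.pullback.lift_fst _ _ _).symm]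
  infer_instance

end Groth.Agent.S4370
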