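import Mathlib
import Groth.Statements.S4371
-- import your own Groth.Agent.* helpers here

set_option autoImplicit false
universe u
open RedSep

namespace Groth.Agent.S4371

set_option backward.isDefEq.respectTransparency false
set_option backward.isDefEq.respectTransparency.types false

open AlgebraicGeometry in
open CategoryTheory in
/-- Let K be a field and Y = Spec K[s, t] the affine plane over K. The open subset D(s) ∪ D(t) of Y, the
complement of the closed point s = t = 0, is not affine. -/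
theorem result
    (K : Type u) [Field K] :
    ¬ IsAffineOpen (X := Spec (CommRingCat.of (MvPolynomial (Fin 2) K)))
      (PrimeSpectrum.basicOpen (MvPolynomial.X 0 : MvPolynomial (Fin 2) K) ⊔
        PrimeSpectrum.basicOpen (MvPolynomial.X 1 : MvPolynomial (Fin 2) K)) := by
  classical
  suffices H : ∀ (R : CommRingCat.{u}) [IsDomain R] (s t : R), Prime s → ¬ s ∣ t → t ≠ 0 →
      ∀ φ : R →+* K, φ s = 0 → φ t = 0 →
      ∀ U : (Spec R).Opens, U = PrimeSpectrum.basicOpen s ⊔ PrimeSpectrum.basicOpen t → ¬ IsAffineOpen U by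
    refine H (CommRingCat.of (MvPolynomial (Fin 2) K)) (MvPolynomial.X 0) (MvPolynomial.X 1) MvPolynomial.X_prime ?_
      (MvPolynomial.X_ne_zero 1) (MvPolynomial.constantCoeff) (MvPolynomial.constantCoeff_X K _) (MvPolynomial.constantCoeff_X K _) _ rfl
    intro hd
    simp [MvPolynomial.X_dvd_X] at hd
  intro R _ s t hsp hnd ht0 φ hφs hφt U hUdef hU
  have comm : ∀ (V V' : (Spec R).Opens) (h : V' ≤ V) (r : R),
      ((Spec R).presheaf.map (homOfLE h).op) (algebraMap R Γ(Spec R, V) r) = algebraMap R Γ(Spec R, V') r := by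
    intro V V' h r
    rw [IsAffineOpen.algebraMap_Spec_obj, IsAffineOpen.algebraMap_Spec_obj]
    simp only [CommRingCat.hom_comp, RingHom.comp_apply]
    rw [← CommRingCat.comp_apply, ← Functor.map_comp]
    rfl
  have hbo : ∀ r : R, (PrimeSpectrum.basicOpen r : (Spec R).Opens) ≤ U →
      (Spec R).basicOpen (algebraMap R Γ(Spec R, U) r) = (PrimeSpectrum.basicOpen r : (Spec R).Opens) := by
    intro r hr
    rw [IsAffineOpen.algebraMap_Spec_obj, CommRingCat.hom_comp, RingHom.comp_apply]
    erw [Scheme.basicOpen_res, basicOpen_eq_of_affine]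
    exact inf_eq_right.mpr hr
  have hspan : Ideal.span ({algebraMap R Γ(Spec R, U) s, algebraMap R Γ(Spec R, U) t} : Set Γ(Spec R, U)) = ⊤ := by
    refine hU.iSup_basicOpen_eq_self_iff.mp (le_antisymm (iSup_le fun f => (Spec R).basicOpen_le _) ?_)
    conv_lhs => rw [hUdef]
    refine sup_le ?_ ?_
    · refine le_iSup_of_le ⟨_, Set.mem_insert _ _⟩ ?_
      rw [hbo s (hUdef ▸ le_sup_left)]
    · refine le_iSup_of_le ⟨_, Set.mem_insert_of_mem _ rfl⟩ ?_
      rw [hbo t (hUdef ▸ le_sup_right)]
  obtain ⟨a, b, hab⟩ := Ideal.mem_span_pair.mp ((Ideal.eq_top_iff_one _).mp hspan)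
  let W : (Spec R).Opens := PrimeSpectrum.basicOpen (s * t)
  let Ds : (Spec R).Opens := PrimeSpectrum.basicOpen s
  let Dt : (Spec R).Opens := PrimeSpectrum.basicOpen t
  have hsU : Ds ≤ U := hUdef ▸ le_sup_left
  have htU : Dt ≤ U := hUdef ▸ le_sup_right
  haveI : IsLocalization.Away s Γ(Spec R, Ds) := by infer_instance
  haveI : IsLocalization.Away t Γ(Spec R, Dt) := by infer_instance
  have hWs : W ≤ Ds := PrimeSpectrum.basicOpen_mul_le_left _ _
  have hWt : W ≤ Dt := PrimeSpectrum.basicOpen_mul_le_right _ _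
  have hWU : W ≤ U := hWs.trans hsU
  let ρ := (Spec R).presheaf.map (homOfLE hWU).op
  have hs0 : s ≠ 0 := hsp.ne_zero
  haveI : IsLocalization.Away (s * t) Γ(Spec R, W) := by infer_instance
  have hinj : Function.Injective (algebraMap R Γ(Spec R, W)) :=
    IsLocalization.injective (M := Submonoid.powers (s * t)) _ (powers_le_nonZeroDivisors_of_noZeroDivisors (mul_ne_zero hs0 ht0))
  have hunit : ∀ r : R, r ∣ s * t → IsUnit (algebraMap R Γ(Spec R, W) r) := fun r hr =>
    isUnit_of_dvd_unit (map_dvd _ hr) (IsLocalization.Away.algebraMap_isUnit (s * t))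
  have main : ∀ z : Γ(Spec R, U), ∃ p : R, ρ z = algebraMap R Γ(Spec R, W) p := by
    intro z
    obtain ⟨m, p, hp⟩ := IsLocalization.Away.surj s
      ((Spec R).presheaf.map (homOfLE hsU).op z)
    obtain ⟨n, q, hq⟩ := IsLocalization.Away.surj t
      ((Spec R).presheaf.map (homOfLE htU).op z)
    have hp' := congrArg ((Spec R).presheaf.map (homOfLE hWs).op) hp
    have hq' := congrArg ((Spec R).presheaf.map (homOfLE hWt).op) hq
    rw [map_mul, map_pow, comm, comm, ← CommRingCat.comp_apply, ← Functor.map_comp] at hp' hq'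
    change ρ z * _ = _ at hp'
    change ρ z * _ = _ at hq'
    have he : p * t ^ n = q * s ^ m := hinj (by
      rw [map_mul, map_mul, map_pow, map_pow, ← hp', ← hq']; ring)
    have hdvd : s ^ m ∣ p := hsp.pow_dvd_of_dvd_mul_right m (fun h => hnd (hsp.dvd_of_dvd_pow h)) ⟨q, by rw [he, mul_comm]⟩
    obtain ⟨p', rfl⟩ := hdvd
    refine ⟨p', ((hunit s (dvd_mul_right s t)).pow m).mul_left_cancel ?_⟩
    rw [mul_comm, hp', map_mul, map_pow]
  obtain ⟨pa, hpa⟩ := main a
  obtain ⟨pb, hpb⟩ := main b
  have h1 := congrArg ρ hab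
  rw [map_add, map_mul, map_mul, map_one, comm, comm, hpa, hpb, ← map_mul, ← map_mul, ← map_add, ← map_one (algebraMap R Γ(Spec R, W))] at h1
  have h2 := congrArg φ (hinj h1)
  simp [hφs, hφt] at h2

end Groth.Agent.S4371
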