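import Groth.Statements.S4372
import Mathlib
import Groth.Agent.BMCoh.Basic
-- import your own Groth.Agent.* helpers here

set_option autoImplicit false
universe u
open RedSep

namespace Groth.Agent.S4372

open AlgebraicGeometry in
open CategoryTheory in
/-- Let h : Z -> X be an immersion with Z reduced (a reduced subscheme of X), and let W be the reduced
closed subscheme of X whose underlying space is the closure of h(Z). Then Z is an open subscheme of
W: h factors as an open immersion Z -> W followed by the closed immersion W -> X. Stated as the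
existence of such a factorization through a reduced scheme W closed-immersed onto the closure of the
image. -/
theorem result
    {Z X : Scheme.{u}} (h : Z ⟶ X) [IsImmersion h] [IsReduced Z] :
    ∃ (W : Scheme.{u}) (j : Z ⟶ W) (i : W ⟶ X), IsOpenImmersion j ∧ IsClosedImmersion i ∧
      IsReduced W ∧ Set.range i = closure (Set.range h) ∧ j ≫ i = h := by
  let C : TopologicalSpace.Closeds X := ⟨closure (Set.range h), isClosed_closure⟩
  let I := Scheme.IdealSheafData.vanishingIdeal C
  have hWr : IsReduced I.subscheme := BMCoh.isReduced_vanishingIdeal_subscheme C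
  let i := I.subschemeι
  have hi : Set.range i = closure (Set.range h) := by
    show Set.range I.subschemeι = _
    rw [Scheme.IdealSheafData.range_subschemeι]
    rfl
  let V := h.coborderRange
  let c := h.liftCoborder
  let WV : I.subscheme.Opens := i ⁻¹ᵁ V
  let q : (WV : Scheme.{u}) ⟶ (V : Scheme.{u}) := i ∣_ V
  have : IsClosedImmersion q := IsZariskiLocalAtTarget.restrict (inferInstanceAs (IsClosedImmersion I.subschemeι)) V
  have hsq : ∀ w : WV, ∃ z : Z, c z = q w := fun w => by
    have h1 : V.ι (q w) ∈ closure (Set.range h) := by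
      rw [← Scheme.Hom.comp_apply, morphismRestrict_ι, Scheme.Hom.comp_apply, ← hi]
      exact ⟨_, rfl⟩
    have h2 : Set.range h = V.ι '' Set.range c := by
      rw [← Set.range_comp, ← TopCat.coe_comp, ← Scheme.Hom.comp_base, Scheme.Hom.liftCoborder_ι]
    rw [h2] at h1
    have h3 : q w ∈ closure (Set.range c) := by
      rw [V.ι.isEmbedding.closure_eq_preimage_closure_image]
      exact h1
    rw [(Scheme.Hom.isClosedMap c).isClosed_range.closure_eq] at h3
    exact h3
  have : Surjective (Limits.pullback.snd c q) := ⟨fun w => by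
    obtain ⟨z, hz⟩ := hsq w
    obtain ⟨t, -, ht⟩ := Scheme.Pullback.exists_preimage_pullback z w hz
    exact ⟨t, ht⟩⟩
  have : IsClosedImmersion (Limits.pullback.snd c q) := MorphismProperty.pullback_snd _ _ inferInstance
  have hWV : IsReduced (WV : Scheme.{u}) := isReduced_of_isOpenImmersion WV.ι
  have := isIso_of_isClosedImmersion_of_surjective (Limits.pullback.snd c q)
  let φ : (WV : Scheme.{u}) ⟶ Z := inv (Limits.pullback.snd c q) ≫ Limits.pullback.fst c q
  have hφ : φ ≫ c = q := by
    simp only [φ, Category.assoc, Limits.pullback.condition, IsIso.inv_hom_id_assoc]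
  have : IsClosedImmersion (φ ≫ c) := by rw [hφ]; infer_instance
  have : IsClosedImmersion φ := IsClosedImmersion.of_comp φ c
  have : Surjective φ := ⟨fun z => by
    have hz : h z ∈ Set.range i := hi ▸ subset_closure ⟨z, rfl⟩
    obtain ⟨w, hw⟩ := hz
    have hwV : w ∈ WV := by
      show i w ∈ V
      rw [hw, ← h.liftCoborder_ι, Scheme.Hom.comp_apply]
      exact (c z).2
    refine ⟨⟨w, hwV⟩, (c.isClosedEmbedding.injective ?_)⟩
    rw [← Scheme.Hom.comp_apply, hφ]
    apply V.ι.isEmbedding.injective
    rw [← Scheme.Hom.comp_apply, morphismRestrict_ι, ← Scheme.Hom.comp_apply, h.liftCoborder_ι]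
    exact hw⟩
  have := isIso_of_isClosedImmersion_of_surjective φ
  refine ⟨I.subscheme, inv φ ≫ WV.ι, i, inferInstance, inferInstance, hWr, hi, ?_⟩
  rw [Category.assoc, IsIso.inv_comp_eq, show WV.ι ≫ i = q ≫ V.ι from (morphismRestrict_ι i V).symm, ← hφ,
    Category.assoc, h.liftCoborder_ι]

end Groth.Agent.S4372
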