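import Groth.Statements.S4374
import Groth.Agent.InvPow.Ample
import Groth.Agent.InvPow.Transfer
import Groth.Agent.InvPow.DualBasis
import Mathlib.AlgebraicGeometry.QuasiAffine
-- import your own Groth.Agent.* helpers here

set_option autoImplicit false
universe u
open CategoryTheory CategoryTheory.Limits AlgebraicGeometry
open EGA2

namespace Groth.Agent.S4374

/-- Let X be a quasi-compact scheme and L, L' two O_X-modules with L ⊗ L' ≅ O_X (so L' is an inverse of
L). If L and L' are both ample, then X is quasi-affine. -/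
theorem result (X : Scheme.{u}) [CompactSpace X] (L L' : X.Modules)
    (hinv : ClSub.IsInverseOf L L') (hL : CohB1.IsAmple L) (hL' : CohB1.IsAmple L') : X.IsQuasiAffine := by
  obtain ⟨τ⟩ := hinv
  haveI := Groth.Agent.InvPow.isSeparated_of_isAmple hL
  refine Scheme.IsQuasiAffine.of_forall_exists_mem_basicOpen X fun x => ?_
  obtain ⟨n, hn, s, hx, ha⟩ := Groth.Agent.InvPow.affLoci_of_isAmple hL x
  obtain ⟨m, hm, s', hx', ha'⟩ := Groth.Agent.InvPow.affLoci_of_isAmple hL' x
  have g1 := Groth.Agent.InvPow.genOpen_spow hL.1 s hm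
  have g2 := Groth.Agent.InvPow.genOpen_spow hL'.1 s' hn
  generalize Groth.Agent.InvPow.spow hL.1 s m = t at g1
  generalize Groth.Agent.InvPow.spow hL'.1 s' n = t' at g2
  revert t' g2
  rw [Nat.mul_comm m n]
  intro t' g2
  obtain ⟨σ, hσ⟩ := Groth.Agent.InvPow.exists_tensor hL.1 hL'.1 t t'
  let P := CohB1.tensorMod L L'
  let β : Γ(P, ⊤) := τ.inv.app ⊤ (Groth.Agent.InvPow.oneSec X ⊤)
  have hβ : Groth.Agent.InvBasic.IsBasis P β :=
    Groth.Agent.InvPow.isBasis_of_iso τ.symm (Groth.Agent.InvPow.isBasis_oneSec ⊤)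
  obtain ⟨r, hr⟩ := Groth.Agent.InvPow.exists_coef (Groth.Agent.InvPow.isBasis_pw hβ (n * m))
    (Groth.Agent.ProjUniv.gres (CohB1.tensorPow P (n * m)) σ ⊤)
  have h := Groth.Agent.InvPow.genOpen_inf_eq_basicOpen
    (Groth.Agent.InvPow.isInvertible_tensorPow (Groth.Agent.InvPow.isInvertible_tensorMod hL.1 hL'.1) _)
    (Groth.Agent.InvPow.isBasis_pw hβ (n * m)) hr
  rw [inf_top_eq, hσ, g1, g2] at h
  refine ⟨r, ?_, h.le ⟨hx, hx'⟩⟩
  rw [← h]
  exact ha.inf ha'

end Groth.Agent.S4374
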