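import Groth.Statements.S4378

set_option autoImplicit false
universe u
open CategoryTheory CategoryTheory.Limits AlgebraicGeometry
open EGA2

namespace Groth.Agent.S4378

/-- Let q : Y → S be separated and of finite type, and f : X → Y a morphism such that X is also
separated and of finite type over S through f ≫ q. Then f is proper if and only if for every scheme
S' over S the morphism X ×_S S' → Y ×_S S' induced by f is closed (as a map of topological spaces). -/
theorem result {X Y S : Scheme.{u}} (q : Y ⟶ S) (f : X ⟶ Y)
    [IsSeparated q] [LocallyOfFiniteType q] [QuasiCompact q]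
    [IsSeparated (f ≫ q)] [LocallyOfFiniteType (f ≫ q)] [QuasiCompact (f ≫ q)] :
    IsProper f ↔ ∀ (S' : Scheme.{u}) (g : S' ⟶ S),
      IsClosedMap (pullback.map (f ≫ q) g q g f (𝟙 S') (𝟙 S) (Category.comp_id (f ≫ q))
        ((Category.comp_id g).trans (Category.id_comp g).symm)).base := by
  constructor
  · intro hf S' g
    have : UniversallyClosed (pullback.map (f ≫ q) g q g f (𝟙 S') (𝟙 S) (Category.comp_id (f ≫ q))
        ((Category.comp_id g).trans (Category.id_comp g).symm)) :=
      MorphismProperty.pullbackMap (P := @UniversallyClosed) (h₁ := inferInstance) (h₂ := inferInstance)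
        (e₁ := rfl) (e₂ := (Category.id_comp g).symm)
    exact Scheme.Hom.isClosedMap _
  · intro h
    have : IsSeparated f := IsSeparated.of_comp f q
    have : LocallyOfFiniteType f := locallyOfFiniteType_of_comp f q
    have huc : UniversallyClosed f := by
      constructor
      intro P Y' a b c H
      set g := b ≫ q with hg
      let Γm : Y' ⟶ pullback q g := pullback.lift b (𝟙 _) (by simp [hg])
      have hΓ : IsClosedImmersion Γm := by
        have : IsClosedImmersion (Γm ≫ pullback.snd q g) := by
          simp only [Γm, pullback.lift_snd]; infer_instance
        exact IsClosedImmersion.of_comp Γm (pullback.snd q g)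
      let m := pullback.map (f ≫ q) g q g f (𝟙 Y') (𝟙 S) (Category.comp_id (f ≫ q))
        ((Category.comp_id g).trans (Category.id_comp g).symm)
      let l : P ⟶ pullback (f ≫ q) g := pullback.lift a c (by rw [hg, reassoc_of% H.w])
      have hw : l ≫ m = c ≫ Γm := by
        apply pullback.hom_ext <;>
          simp only [l, m, Γm, Category.assoc, pullback.lift_fst, pullback.lift_snd, pullback.lift_fst_assoc,
            pullback.lift_snd_assoc, Category.comp_id, H.w]
      have hl : IsClosedImmersion l := by
        have hpb : IsPullback l c m Γm := by
          refine IsPullback.of_right (h₁₂ := pullback.fst (f ≫ q) g) (v₁₃ := f) (h₂₂ := pullback.fst q g) ?_ hw ?_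
          · simp only [l, Γm, pullback.lift_fst]
            exact H.flip
          · refine IsPullback.of_bot (v₂₁ := pullback.snd q g) (v₂₂ := q) (h₃₁ := g) ?_
              (by simp only [m, pullback.lift_fst]) (IsPullback.of_hasPullback q g)
            simp only [m, pullback.lift_snd, Category.comp_id]
            exact IsPullback.of_hasPullback (f ≫ q) g
        exact MorphismProperty.of_isPullback (P := @IsClosedImmersion) hpb.flip hΓ
      intro Z hZ
      have h1 : IsClosed (m.base '' (l.base '' Z)) := h Y' g _ (l.isClosedMap _ hZ)
      rw [Set.image_image] at h1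
      have h2 : (fun x => m.base (l.base x)) '' Z = Γm.base '' (c.base '' Z) := by
        rw [Set.image_image]
        exact Set.image_congr fun x _ => by rw [← Scheme.Hom.comp_apply, hw, Scheme.Hom.comp_apply]
      rw [h2] at h1
      simpa [Set.preimage_image_eq _ Γm.isEmbedding.injective] using h1.preimage Γm.continuous
    exact { }

end Groth.Agent.S4378
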