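import Groth.Statements.S4381
import Groth.Agent.InvPow.RelAmple
-- import your own Groth.Agent.* helpers here

set_option autoImplicit false
universe u
open CategoryTheory CategoryTheory.Limits AlgebraicGeometry
open EGA2

namespace Groth.Agent.S4381

/-- Let Y be an affine scheme, f : X → Y a quasi-compact morphism and L an O_X-module. Then L is ample
relative to f if and only if L is an ample O_X-module. -/
theorem result {X Y : Scheme.{u}} [IsAffine Y] (f : X ⟶ Y) [QuasiCompact f] (L : X.Modules) :
    RelAmple.IsRelAmple f L ↔ CohB1.IsAmple L := by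
  constructor
  · intro h
    obtain ⟨_, hV⟩ := (InvPow.isRelAmple_iff f).mp h
    have hT := hV ⟨⊤, isAffineOpen_top Y⟩
    have : CompactSpace X := ⟨by simpa using f.isCompact_preimage (isAffineOpen_top Y).isCompact⟩
    exact InvPow.isAmple_of_iso ((Scheme.Modules.pullbackId X).app L)
      (InvPow.isAmple_pullback_of_le hT (𝟙 X) (fun x _ => trivial))
  · intro h
    refine InvPow.isRelAmple_of_local f fun y => ⟨⊤, trivial, ?_⟩
    have : CompactSpace (f ⁻¹ᵁ (⊤ : Y.Opens)) := isCompact_iff_compactSpace.mp
      (f.isCompact_preimage (isAffineOpen_top Y).isCompact)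
    exact InvPow.ampOn_of_isAmple h _

end Groth.Agent.S4381
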