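import Groth.Statements.S4384
import Groth.Agent.InvPow.RelAmple
import Groth.Agent.InvPow.LocalIso
-- import your own Groth.Agent.* helpers here

set_option autoImplicit false
universe u
open CategoryTheory CategoryTheory.Limits AlgebraicGeometry
open EGA2

namespace Groth.Agent.S4384

/-- Let f : X → Y be a quasi-compact morphism and L, L' two O_X-modules ample relative to f. Then L ⊗ L'
is ample relative to f. -/
theorem result {X Y : Scheme.{u}} (f : X ⟶ Y) [QuasiCompact f] (L L' : X.Modules)
    (hL : RelAmple.IsRelAmple f L) (hL' : RelAmple.IsRelAmple f L') :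
    RelAmple.IsRelAmple f (CohB1.tensorMod L L') := by
  have hLi := InvPow.isInvertible_of_isRelAmple hL
  have hL'i := InvPow.isInvertible_of_isRelAmple hL'
  rw [InvPow.isRelAmple_iff] at hL hL' ⊢
  refine ⟨hL.1, fun V => ?_⟩
  obtain ⟨e⟩ := InvPow.nonempty_pullback_tensor_iso (f ⁻¹ᵁ V.1).ι hLi hL'i
  refine InvPow.isAmple_of_iso e.symm (InvPow.isAmple_tensor (hL.2 V) (hL'.2 V).1 fun x => ?_)
  obtain ⟨n, hn, s, hx, -⟩ := InvPow.affLoci_of_isAmple (hL'.2 V) x
  exact ⟨n, hn, s, hx⟩

end Groth.Agent.S4384
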