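import Groth.Statements.S4387
import Groth.Agent.InvPow.RelAmple
import Groth.Agent.InvPow.LocalIso
-- import your own Groth.Agent.* helpers here

set_option autoImplicit false
universe u
open CategoryTheory CategoryTheory.Limits AlgebraicGeometry
open EGA2

namespace Groth.Agent.S4387

/-- Let f : X → Y be a quasi-compact morphism, L an invertible O_X-module and n > 0 an integer. Then L
is ample relative to f if and only if L^{⊗n} is ample relative to f. -/
theorem result {X Y : Scheme.{u}} (f : X ⟶ Y) [QuasiCompact f] (L : X.Modules)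
    (hL : PicF.IsInvertible L) (n : ℕ) (hn : 0 < n) :
    RelAmple.IsRelAmple f L ↔ RelAmple.IsRelAmple f (CohB1.tensorPow L n) := by
  rw [InvPow.isRelAmple_iff, InvPow.isRelAmple_iff]
  refine and_congr Iff.rfl (forall_congr' fun V => ?_)
  obtain ⟨e⟩ := InvPow.nonempty_pullback_pow_iso (f ⁻¹ᵁ V.1).ι hL n
  constructor
  · exact fun h => InvPow.isAmple_of_iso e.symm (InvPow.isAmple_pow h hn)
  · intro h
    have h' := InvPow.isAmple_of_iso e h
    have := h'.2.1
    exact InvPow.isAmple_of_pow (ProjUniv.isInvertible_pullback _ hL) hn h'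

end Groth.Agent.S4387
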