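import Groth.Statements.S4388
import Groth.Agent.InvPow.RelGenerated
-- import your own Groth.Agent.* helpers here

set_option autoImplicit false
universe u
open CategoryTheory CategoryTheory.Limits AlgebraicGeometry
open EGA2

namespace Groth.Agent.S4388

/-- Let f : X → Y be a quasi-compact morphism, L an O_X-module ample relative to f and L' an invertible
O_X-module such that, for some n > 0, the canonical morphism f^*(f_*(L'^{⊗n})) → L'^{⊗n} (counit of
the adjunction between f^* and f_*) is an epimorphism. Then L ⊗ L' is ample relative to f. -/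
theorem result {X Y : Scheme.{u}} (f : X ⟶ Y) [QuasiCompact f] (L L' : X.Modules)
    (hL : RelAmple.IsRelAmple f L) (hL' : PicF.IsInvertible L') (n : ℕ) (hn : 0 < n)
    (hepi : Epi ((Scheme.Modules.pullbackPushforwardAdjunction f).counit.app (CohB1.tensorPow L' n))) :
    RelAmple.IsRelAmple f (CohB1.tensorMod L L') := by
  have hLi := InvPow.isInvertible_of_isRelAmple hL
  rw [InvPow.isRelAmple_iff] at hL ⊢
  refine ⟨hL.1, fun V => ?_⟩
  obtain ⟨e⟩ := InvPow.nonempty_pullback_tensor_iso (f ⁻¹ᵁ V.1).ι hLi hL'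
  obtain ⟨τ⟩ := InvPow.nonempty_pullback_pow_iso (f ⁻¹ᵁ V.1).ι hL' n
  have := (hL.2 V).2.1
  have := InvPow.isSeparated_of_isAmple (hL.2 V)
  have hi := ProjUniv.isInvertible_pullback (f ⁻¹ᵁ V.1).ι hL'
  refine InvPow.isAmple_of_iso e.symm (InvPow.isAmple_tensor (hL.2 V) hi fun x => ?_)
  have hn' := InvPow.isInvertible_tensorPow hL' n
  obtain ⟨σ, hσ⟩ := InvPow.exists_gen_over_affine f hn' hepi V.2 x
  exact ⟨n, hn, _, (InvPow.gen_iff_of_iso (ProjUniv.isInvertible_pullback _ hn')
    (InvPow.isInvertible_tensorPow hi n) τ σ).ge hσ⟩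

end Groth.Agent.S4388
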