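import Groth.Statements.S4392
import Mathlib
-- import your own Groth.Agent.* helpers here

set_option autoImplicit false
universe u
open EGA2

namespace Groth.Agent.S4392

/-- Let S be a ring graded in nonnegative degrees which is an S_0-algebra of finite type, and M a
finitely generated graded S-module, graded in nonnegative degrees. Then there exist an integer n₁
and an integer h > 0 such that M_{n+h} = S_h M_n for every n ≥ n₁. (The published statement allows M
graded in all integer degrees; this row takes M graded in nonnegative degrees.) -/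
theorem result {R A : Type u} [CommRing R] [CommRing A] [Algebra R A] (𝒜 : ℕ → Submodule R A) [GradedAlgebra 𝒜] [Algebra.FiniteType (𝒜 0) A]
    {M : Type u} [AddCommGroup M] [Module R M] [Module A M] [IsScalarTower R A M] (ℳ : ℕ → Submodule R M) [DirectSum.Decomposition ℳ] [SetLike.GradedSMul 𝒜 ℳ] [Module.Finite A M] :
    ∃ (n₁ h : ℕ), 0 < h ∧ ∀ n : ℕ, n₁ ≤ n → ℳ (n + h) = (𝒜 h : Submodule R A) • (ℳ n : Submodule R M) := by
  classical
  obtain ⟨s, hs⟩ := Algebra.FiniteType.out (R := 𝒜 0) (A := A)
  let t : Finset A := s.biUnion fun x => (DirectSum.decompose 𝒜 x).support.image fun i => (DirectSum.decompose 𝒜 x i : A)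
  have hthom : ∀ a : t, ∃ i, (a : A) ∈ 𝒜 i := by
    rintro ⟨a, ha⟩
    obtain ⟨x, -, hx⟩ := Finset.mem_biUnion.1 ha
    obtain ⟨i, -, rfl⟩ := Finset.mem_image.1 hx
    exact ⟨i, (DirectSum.decompose 𝒜 x i).2⟩
  choose deg hdeg using hthom
  obtain ⟨g, hg⟩ := Module.Finite.fg_top (R := A) (M := M)
  let G : Finset (ℕ × M) := g.biUnion fun x => (DirectSum.decompose ℳ x).support.image fun i => (i, (DirectSum.decompose ℳ x i : M))
  have hG : ∀ p ∈ G, p.2 ∈ ℳ p.1 := by
    intro p hp
    obtain ⟨x, -, hx⟩ := Finset.mem_biUnion.1 hp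
    obtain ⟨i, -, rfl⟩ := Finset.mem_image.1 hx
    exact (DirectSum.decompose ℳ x i).2
  let h : ℕ := ∏ a : t, max 1 (deg a)
  have hh : 0 < h := Finset.prod_pos fun a _ => by omega
  let n₁ : ℕ := G.sup Prod.fst + (Finset.univ : Finset t).sum (fun _ => h) + 1
  refine ⟨n₁, h, hh, fun n hn => le_antisymm ?_ ?_⟩
  swap
  · refine Submodule.smul_le.2 fun a ha x hx => ?_
    rw [add_comm]
    exact SetLike.GradedSMul.smul_mem ha hx
  set T := (𝒜 h : Submodule R A) • (ℳ n : Submodule R M)
  let P : M → Prop := fun y => (DirectSum.decompose ℳ y (n + h) : M) ∈ T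
  have hP0 : P 0 := by show (DirectSum.decompose ℳ (0 : M) (n + h) : M) ∈ T; simp
  have hPadd : ∀ y y', P y → P y' → P (y + y') := fun y y' a b => by
    show (DirectSum.decompose ℳ (y + y') (n + h) : M) ∈ T
    simp only [DirectSum.decompose_add, DirectSum.add_apply, Submodule.coe_add]
    exact add_mem a b
  have hmon : ∀ (c : 𝒜 0) (e : t → ℕ) (p : ℕ × M), p ∈ G → P ((((c : A) * ∏ a : t, (a : A) ^ e a)) • p.2) := by
    intro c e p hp
    show (DirectSum.decompose ℳ ((((c : A) * ∏ a : t, (a : A) ^ e a)) • p.2) (n + h) : M) ∈ T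
    have hm : (∏ a : t, (a : A) ^ e a) ∈ 𝒜 (∑ a : t, e a • deg a) :=
      SetLike.prod_mem_graded 𝒜 (fun a : t => e a • deg a) (fun a : t => (a : A) ^ e a) fun a _ => SetLike.pow_mem_graded (e a) (hdeg a)
    have hcm := SetLike.mul_mem_graded c.2 hm
    rw [zero_add] at hcm
    have hy := SetLike.GradedSMul.smul_mem hcm (hG p hp)
    by_cases heq : (∑ a : t, e a • deg a) +ᵥ p.1 = n + h
    swap
    · rw [DirectSum.decompose_of_mem_ne ℳ hy heq]; exact zero_mem _
    rw [← heq, DirectSum.decompose_of_mem_same ℳ hy]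
    rw [vadd_eq_add] at heq
    obtain ⟨a, hpos, hle⟩ : ∃ a : t, 0 < deg a ∧ h ≤ e a * deg a := by
      by_contra hno
      push Not at hno
      have hle : ∑ a : t, e a • deg a ≤ ∑ a : t, h := Finset.sum_le_sum fun a _ => by
        rcases Nat.eq_zero_or_pos (deg a) with h0 | h0
        · simp [h0]
        · exact (hno a h0).le
      have := Finset.le_sup (f := Prod.fst) hp
      simp only [n₁] at hn
      omega
    obtain ⟨q, hq⟩ : deg a ∣ h := by
      have := Finset.dvd_prod_of_mem (fun a : t => max 1 (deg a)) (Finset.mem_univ a)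
      rwa [show max 1 (deg a) = deg a by omega] at this
    have hqe : q ≤ e a := Nat.le_of_mul_le_mul_left (by rw [← hq, mul_comm]; exact hle) hpos
    have hfac : (∏ b : t, (b : A) ^ e b) = (a : A) ^ q * ((a : A) ^ (e a - q) * ∏ b ∈ Finset.univ.erase a, (b : A) ^ e b) := by
      rw [← mul_assoc, ← pow_add, Nat.add_sub_cancel' hqe]
      exact (Finset.mul_prod_erase Finset.univ (fun b : t => (b : A) ^ e b) (Finset.mem_univ a)).symm
    rw [hfac, ← mul_assoc, mul_comm (c : A), mul_assoc, mul_smul]
    refine Submodule.smul_mem_smul ?_ ?_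
    · have := SetLike.pow_mem_graded q (hdeg a)
      rwa [smul_eq_mul, mul_comm, ← hq] at this
    · have h1 := SetLike.mul_mem_graded (SetLike.pow_mem_graded (e a - q) (hdeg a))
        (SetLike.prod_mem_graded 𝒜 (F := Finset.univ.erase a) (fun b : t => e b • deg b) (fun b : t => (b : A) ^ e b) fun b _ => SetLike.pow_mem_graded _ (hdeg b))
      have h2 := SetLike.GradedSMul.smul_mem (SetLike.mul_mem_graded c.2 h1) (hG p hp)
      convert h2 using 2
      have hsum := Finset.add_sum_erase Finset.univ (fun b : t => e b • deg b) (Finset.mem_univ a)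
      simp only [smul_eq_mul, vadd_eq_add] at hsum heq ⊢
      have : (e a - q) * deg a + h = e a * deg a := by
        rw [hq, mul_comm (deg a), ← add_mul, Nat.sub_add_cancel hqe]
      omega
  have hcl : ∀ m ∈ Submonoid.closure (t : Set A), ∃ e : t → ℕ, m = ∏ x : t, (x : A) ^ e x := by
    intro m hm
    induction hm using Submonoid.closure_induction with
    | mem x hx =>
      refine ⟨fun w => if w = ⟨x, hx⟩ then 1 else 0, ?_⟩
      rw [Finset.prod_eq_single ⟨x, hx⟩ (fun w _ hw => by simp [hw]) (by simp)]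
      simp
    | one => exact ⟨0, by simp⟩
    | mul x x' _ _ h h' =>
      obtain ⟨e, rfl⟩ := h
      obtain ⟨e', rfl⟩ := h'
      exact ⟨e + e', by simp [pow_add, Finset.prod_mul_distrib]⟩
  have hall : ∀ (a : A) (c : 𝒜 0) (p : ℕ × M), p ∈ G → P (((c : A) * a) • p.2) := by
    intro a
    have hle : Algebra.adjoin (𝒜 0) (t : Set A) = ⊤ := by
      refine top_le_iff.1 (hs ▸ Algebra.adjoin_le fun x hx => ?_)
      rw [SetLike.mem_coe, ← DirectSum.sum_support_decompose 𝒜 x]
      exact Subalgebra.sum_mem _ fun i hi => Algebra.subset_adjoin (Finset.mem_biUnion.2 ⟨x, hx, Finset.mem_image_of_mem _ hi⟩)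
    have ha : a ∈ Subalgebra.toSubmodule (Algebra.adjoin (𝒜 0) (t : Set A)) := by rw [hle]; exact trivial
    rw [Algebra.adjoin_eq_span] at ha
    induction ha using Submodule.span_induction with
    | mem x hx =>
      intro c p hp
      obtain ⟨e, rfl⟩ := hcl x hx
      exact hmon c e p hp
    | zero => intro c p _; rw [mul_zero, zero_smul]; exact hP0
    | add x y _ _ hx hy => intro c p hp; rw [mul_add, add_smul]; exact hPadd _ _ (hx c p hp) (hy c p hp)
    | smul d x _ hx =>
      intro c p hp
      have hd : ((c : A) * (d • x)) = ((c * d : 𝒜 0) : A) * x := by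
        show (c : A) * ((d : A) * x) = _
        rw [← mul_assoc]; rfl
      rw [hd]; exact hx (c * d) p hp
  intro x hx
  have hxs : x ∈ Submodule.span A ((fun p : ℕ × M => p.2) '' (G : Set (ℕ × M))) := by
    have : x ∈ Submodule.span A (g : Set M) := hg ▸ Submodule.mem_top
    refine Submodule.span_le.2 (fun y hy => ?_) this
    rw [SetLike.mem_coe, ← DirectSum.sum_support_decompose ℳ y]
    exact Submodule.sum_mem _ fun i hi => Submodule.subset_span ⟨(i, _), Finset.mem_biUnion.2 ⟨y, hy, Finset.mem_image_of_mem _ hi⟩, rfl⟩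
  have hPx : ∀ a : A, P (a • x) := by
    clear hx
    induction hxs using Submodule.span_induction with
    | mem y hy =>
      obtain ⟨p, hp, rfl⟩ := hy
      intro a
      simpa using hall a 1 p hp
    | zero => intro a; rw [smul_zero]; exact hP0
    | add y y' _ _ h1 h2 => intro a; rw [smul_add]; exact hPadd _ _ (h1 a) (h2 a)
    | smul b y _ h1 => intro a; rw [smul_smul]; exact h1 _
  have hP := hPx 1
  rw [one_smul] at hP
  simp only [P, DirectSum.decompose_of_mem_same ℳ hx] at hP
  exact hP

end Groth.Agent.S4392
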