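import Mathlib
import Groth.Agent.GrBasics.Monomial
import Groth.Statements.S4393
-- import your own Groth.Agent.* helpers here

set_option autoImplicit false
universe u
open EGA2

namespace Groth.Agent.S4393

/-- Let S be a ring graded in nonnegative degrees which is an S_0-algebra of finite type. Then there is
an integer h > 0 such that S_{mh} = (S_h)^m (the S_0-submodule spanned by m-fold products of
elements of S_h) for every m > 0. -/
theorem result {R A : Type u} [CommRing R] [CommRing A] [Algebra R A] (𝒜 : ℕ → Submodule R A) [GradedAlgebra 𝒜] [Algebra.FiniteType (𝒜 0) A] :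
    ∃ h : ℕ, 0 < h ∧ ∀ m : ℕ, 0 < m → 𝒜 (m * h) = (𝒜 h : Submodule R A) ^ m := by
  classical
  obtain ⟨s, hs, hhom⟩ := GradedAlgebra.exists_finset_adjoin_eq_top_and_homogeneous_ne_zero 𝒜
  choose dg hdg0 hdg using fun i : s => hhom i.1 i.2
  let ℬ : ℕ → Submodule (𝒜 0) A := fun n =>
    { carrier := 𝒜 n
      add_mem' := fun ha hb => add_mem ha hb
      zero_mem' := zero_mem _
      smul_mem' := fun c x hx => by
        have := SetLike.mul_mem_graded c.2 hx
        rwa [zero_add] at this }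
  letI : GradedAlgebra ℬ :=
    { one_mem := SetLike.one_mem_graded 𝒜
      mul_mem := fun {i j a b} (ha : a ∈ 𝒜 i) (hb : b ∈ 𝒜 j) => (SetLike.mul_mem_graded ha hb : a * b ∈ 𝒜 (i + j))
      decompose' := DirectSum.Decomposition.decompose' (ℳ := 𝒜)
      left_inv := DirectSum.Decomposition.left_inv (ℳ := 𝒜)
      right_inv := DirectSum.Decomposition.right_inv (ℳ := 𝒜) }
  let f : Fin s.card → A := fun i => (s.equivFin.symm i).1
  let deg : Fin s.card → ℕ := fun i => dg (s.equivFin.symm i)
  have hgen : Algebra.adjoin (𝒜 0) (Set.range f) = ⊤ := by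
    rw [← hs]
    congr 1
    ext a
    exact ⟨fun ⟨i, hi⟩ => hi ▸ (s.equivFin.symm i).2, fun ha => ⟨s.equivFin ⟨a, ha⟩, by simp [f]⟩⟩
  have hpos : ∀ i, 0 < deg i := fun i => Nat.pos_of_ne_zero (hdg0 _)
  refine ⟨(s.card + 1) * Finset.univ.lcm deg, Nat.mul_pos (Nat.succ_pos _) (GrBasics.lcm_pos deg hpos), fun m hm => ?_⟩
  set h := (s.card + 1) * Finset.univ.lcm deg with hh
  have hB : ℬ (m * h) = ℬ h ^ m := GrBasics.piece_mul_eq_pow ℬ f deg hpos (fun i => hdg _) hgen (s.card + 1) (by omega) m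
  have hle : ∀ k : ℕ, ∀ a ∈ ℬ h ^ (k + 1), a ∈ 𝒜 h ^ (k + 1) := by
    intro k
    induction k with
    | zero => intro a ha; rw [Submodule.pow_one] at ha ⊢; exact ha
    | succ k ih =>
      intro a ha
      rw [Submodule.pow_succ] at ha ⊢
      exact Submodule.mul_induction_on ha (fun p hp q hq => Submodule.mul_mem_mul (ih p hp) hq) fun _ _ => add_mem
  refine le_antisymm (fun a ha => ?_) (GrBasics.piece_pow_le 𝒜 h m)
  obtain ⟨k, rfl⟩ : ∃ k, m = k + 1 := ⟨m - 1, by omega⟩
  exact hle k a (hB.le ha)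

end Groth.Agent.S4393
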