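import Groth.Statements.S4395
import Groth.Agent.GrBasics.Core

set_option autoImplicit false
universe u
open EGA2

namespace Groth.Agent.S4395

/-- Let S be a ring graded in nonnegative degrees, n₀ > 0 an integer and, for every n ≥ n₀, p_n an
additive subgroup of S_n. Then there is a graded prime ideal p of S not containing S_+ with p ∩ S_n
= p_n for all n ≥ n₀ if and only if: (1) S_m p_n ⊆ p_{m+n} for all m ≥ 0 and n ≥ n₀; (2) for m ≥ n₀,
n ≥ n₀, f ∈ S_m, g ∈ S_n, fg ∈ p_{m+n} implies f ∈ p_m or g ∈ p_n; (3) p_n ≠ S_n for at least one n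
≥ n₀. Moreover such a graded prime ideal is unique. -/
theorem result {R A : Type u} [CommRing R] [CommRing A] [Algebra R A] (𝒜 : ℕ → Submodule R A) [GradedAlgebra 𝒜]
    (n₀ : ℕ) (hn₀ : 0 < n₀) (p : ℕ → AddSubgroup A) (hp : ∀ n : ℕ, n₀ ≤ n → (p n : Set A) ⊆ 𝒜 n) :
    ((∃ 𝔭 : HomogeneousIdeal 𝒜, 𝔭.toIdeal.IsPrime ∧ ¬ HomogeneousIdeal.irrelevant 𝒜 ≤ 𝔭 ∧
        ∀ n : ℕ, n₀ ≤ n → (𝔭.toIdeal : Set A) ∩ 𝒜 n = p n) ↔
      ((∀ m n : ℕ, n₀ ≤ n → ∀ a ∈ 𝒜 m, ∀ b ∈ p n, a * b ∈ p (m + n)) ∧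
        (∀ m n : ℕ, n₀ ≤ m → n₀ ≤ n → ∀ f ∈ 𝒜 m, ∀ g ∈ 𝒜 n, f * g ∈ p (m + n) → f ∈ p m ∨ g ∈ p n) ∧
        ∃ n : ℕ, n₀ ≤ n ∧ (p n : Set A) ≠ 𝒜 n)) ∧
    ∀ 𝔭 𝔮 : HomogeneousIdeal 𝒜, 𝔭.toIdeal.IsPrime → 𝔮.toIdeal.IsPrime →
      ¬ HomogeneousIdeal.irrelevant 𝒜 ≤ 𝔭 → ¬ HomogeneousIdeal.irrelevant 𝒜 ≤ 𝔮 →
      (∀ n : ℕ, n₀ ≤ n → (𝔭.toIdeal : Set A) ∩ 𝒜 n = p n) → (∀ n : ℕ, n₀ ≤ n → (𝔮.toIdeal : Set A) ∩ 𝒜 n = p n) →
      𝔭 = 𝔮 := by
  classical
  refine ⟨⟨?_, ?_⟩, ?_⟩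
  · rintro ⟨P, hP, hirr, hPn⟩
    have mem : ∀ {n a}, n₀ ≤ n → (a ∈ p n ↔ a ∈ P.toIdeal ∧ a ∈ 𝒜 n) := fun {n a} hn => by
      simpa using (Set.ext_iff.mp (hPn n hn) a).symm
    refine ⟨fun m n hn a ha b hb => ?_, fun m n hm hn f hf g hg hfg => ?_, ?_⟩
    · obtain ⟨h1, h2⟩ := (mem hn).mp hb
      exact (mem (by omega)).mpr ⟨Ideal.mul_mem_left _ _ h1, SetLike.mul_mem_graded ha h2⟩
    · rcases hP.mem_or_mem ((mem (by omega)).mp hfg).1 with h | h
      · exact Or.inl ((mem hm).mpr ⟨h, hf⟩)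
      · exact Or.inr ((mem hn).mpr ⟨h, hg⟩)
    · by_contra hc
      push Not at hc
      refine hirr ((HomogeneousIdeal.irrelevant_le 𝒜).mpr fun i hi a ha => ?_)
      have hle : n₀ ≤ n₀ • i := by simpa using Nat.le_mul_of_pos_right n₀ hi
      have hmem : a ^ n₀ ∈ (p (n₀ • i) : Set A) := by
        rw [hc _ hle]; exact SetLike.pow_mem_graded n₀ ha
      exact hP.mem_of_pow_mem _ ((mem hle).mp hmem).1
  · rintro ⟨h1, h2, e, he, hne⟩
    obtain ⟨f, hfe, hfp⟩ : ∃ f ∈ 𝒜 e, f ∉ p e := by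
      by_contra hc
      push Not at hc
      exact hne (Set.Subset.antisymm (hp e he) hc)
    let I : Ideal A :=
      { carrier := {a | ∀ i, (DirectSum.decompose 𝒜 a i : A) * f ∈ p (i + e)}
        add_mem' := fun {a b} ha hb i => by
          simp only [DirectSum.decompose_add, DirectSum.add_apply, Submodule.coe_add, add_mul]
          exact add_mem (ha i) (hb i)
        zero_mem' := fun i => by simp
        smul_mem' := fun c a ha i => by
          rw [smul_eq_mul, ← DirectSum.sum_support_decompose 𝒜 c, Finset.sum_mul,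
            DirectSum.decompose_sum, DFinsupp.finsetSum_apply, AddSubmonoidClass.coe_finsetSum,
            Finset.sum_mul]
          refine sum_mem fun j _ => ?_
          rw [DirectSum.coe_decompose_mul_of_left_mem 𝒜 i (DirectSum.decompose 𝒜 c j).2]
          split_ifs with hji
          · rw [mul_assoc]
            have := h1 j (i - j + e) (by omega) _ (DirectSum.decompose 𝒜 c j).2 _ (ha (i - j))
            rwa [show j + (i - j + e) = i + e by omega] at this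
          · simp }
    have memI : ∀ {a i}, a ∈ 𝒜 i → (a ∈ I ↔ a * f ∈ p (i + e)) := fun {a i} ha => by
      constructor
      · intro h
        have := h i
        rwa [DirectSum.decompose_of_mem_same 𝒜 ha] at this
      · intro h j
        rcases eq_or_ne i j with rfl | hij
        · rwa [DirectSum.decompose_of_mem_same 𝒜 ha]
        · simp [DirectSum.decompose_of_mem_ne 𝒜 ha hij]
    have hhom : I.IsHomogeneous 𝒜 := fun i a ha => (memI (DirectSum.decompose 𝒜 a i).2).mpr (ha i)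
    have hfI : f ∉ I := fun h => by
      rcases h2 e e he he f hfe f hfe ((memI hfe).mp h) with h | h <;> exact hfp h
    have hprime : I.IsPrime := by
      refine hhom.isPrime_of_homogeneous_mem_or_mem (fun h => hfI (h ▸ Submodule.mem_top)) ?_
      rintro x y ⟨i, hx⟩ ⟨j, hy⟩ hxy
      have hxy' := (memI (SetLike.mul_mem_graded hx hy)).mp hxy
      have h3 := h1 e (i + j + e) (by omega) f hfe _ hxy'
      rw [show f * (x * y * f) = (x * f) * (y * f) by ring,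
        show e + (i + j + e) = (i + e) + (j + e) by omega] at h3
      rcases h2 (i + e) (j + e) (by omega) (by omega) _ (SetLike.mul_mem_graded hx hfe) _
        (SetLike.mul_mem_graded hy hfe) h3 with h | h
      · exact Or.inl ((memI hx).mpr h)
      · exact Or.inr ((memI hy).mpr h)
    refine ⟨⟨I, hhom⟩, hprime, fun h => hfI (h (HomogeneousIdeal.mem_irrelevant_of_mem 𝒜 (by omega) hfe)), ?_⟩
    intro n hn
    refine Set.Subset.antisymm (fun a ha => ?_) fun a ha => ?_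
    · rcases h2 n e hn he a ha.2 f hfe ((memI ha.2).mp ha.1) with h | h
      · exact h
      · exact absurd h hfp
    · refine ⟨(memI (hp n hn ha)).mpr ?_, hp n hn ha⟩
      have h3 := h1 e n hn f hfe a ha
      rwa [mul_comm, add_comm] at h3
  · have key : ∀ P Q : HomogeneousIdeal 𝒜, Q.toIdeal.IsPrime →
        ¬ HomogeneousIdeal.irrelevant 𝒜 ≤ Q →
        (∀ n : ℕ, n₀ ≤ n → (P.toIdeal : Set A) ∩ 𝒜 n = p n) →
        (∀ n : ℕ, n₀ ≤ n → (Q.toIdeal : Set A) ∩ 𝒜 n = p n) →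
        ∀ i x, x ∈ 𝒜 i → x ∈ P.toIdeal → x ∈ Q.toIdeal := by
      intro P Q hQ hirr hP hQp i x hx hxP
      rw [HomogeneousIdeal.irrelevant_le] at hirr
      push Not at hirr
      obtain ⟨j, hj, hjQ⟩ := hirr
      obtain ⟨g, hg, hgQ⟩ := Set.not_subset.mp hjQ
      have hdeg : x * g ^ n₀ ∈ 𝒜 (i + n₀ • j) := SetLike.mul_mem_graded hx (SetLike.pow_mem_graded _ hg)
      have hle : n₀ ≤ i + n₀ • j := le_trans (by simpa using Nat.le_mul_of_pos_right n₀ hj) (Nat.le_add_left _ _)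
      have h3 : x * g ^ n₀ ∈ (p (i + n₀ • j) : Set A) := by
        rw [← hP _ hle]; exact ⟨Ideal.mul_mem_right _ _ hxP, hdeg⟩
      rw [← hQp _ hle] at h3
      rcases hQ.mem_or_mem h3.1 with h | h
      · exact h
      · exact absurd (hQ.mem_of_pow_mem _ h) hgQ
    intro P Q hP hQ hPi hQi hPp hQp
    exact HomogeneousIdeal.ext' fun i x hx =>
      ⟨key P Q hQ hQi hPp hQp i x hx, key Q P hP hPi hQp hPp i x hx⟩

end Groth.Agent.S4395
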