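import Groth.Statements.S4396
import Mathlib.RingTheory.GradedAlgebra.HomogeneousLocalization
import Mathlib.Algebra.DirectSum.Ring

set_option autoImplicit false
universe u
open CategoryTheory CategoryTheory.Limits AlgebraicGeometry
open EGA2

namespace Groth.Agent.S4396

open DirectSum HomogeneousLocalization

/-- Let S be a ring graded in nonnegative degrees, d > 0, and S^{(d)} the graded ring whose degree-n
part is S_{nd} (given here as any graded ring S' with an injective algebra homomorphism φ : S' → S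
carrying S'_n onto S_{nd} for every n); let f' ∈ S'_1, with image f = φ(f') ∈ S_d. Then there is a
ring isomorphism between the degree-zero homogeneous localization S_(f) and the quotient S'/(f' -
1)S', whose inverse sends the class of an element x of S'_n to the fraction φ(x)/f^n. (The module
part of the published statement is not stated here.) -/
theorem result {R A : Type u} [CommRing R] [CommRing A] [Algebra R A] (𝒜 : ℕ → Submodule R A) [GradedAlgebra 𝒜]
    {B : Type u} [CommRing B] [Algebra R B] (ℬ : ℕ → Submodule R B) [GradedAlgebra ℬ]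
    (d : ℕ) (hd : 0 < d) (φ : B →ₐ[R] A) (hφ : Function.Injective φ)
    (hdeg : ∀ n : ℕ, Submodule.map φ.toLinearMap (ℬ n) = 𝒜 (n * d)) (f' : B) (hf' : f' ∈ ℬ 1) :
    ∃ e : HomogeneousLocalization.Away 𝒜 (φ f') ≃+* B ⧸ Ideal.span {f' - 1},
      ∀ (n : ℕ) (x : B), x ∈ ℬ n →
        (e.symm (Ideal.Quotient.mk (Ideal.span {f' - 1}) x)).val =
          Localization.mk (φ x) ⟨φ f' ^ n, pow_mem (Submonoid.mem_powers (φ f')) n⟩ := by
  classical
  have hmem : ∀ (n : ℕ) (x : B), x ∈ ℬ n → φ x ∈ 𝒜 (n • d) := fun n x hx => by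
    rw [smul_eq_mul, ← hdeg n]
    exact ⟨x, hx, rfl⟩
  have hf : φ f' ∈ 𝒜 d := by simpa using hmem 1 f' hf'
  let comp : ∀ n, ℬ n →+ Away 𝒜 (φ f') := fun n =>
    AddMonoidHom.mk' (fun x => Away.mk 𝒜 hf n (φ x.1) (hmem n x.1 x.2)) fun x y => by
      apply val_injective
      rw [val_add, Away.val_mk, Away.val_mk, Away.val_mk, Localization.add_mk_self]
      simp
  have hval : ∀ n (x : ℬ n), (comp n x).val =
      Localization.mk (φ x.1) ⟨φ f' ^ n, pow_mem (Submonoid.mem_powers (φ f')) n⟩ := fun n x => Away.val_mk (𝒜 := 𝒜) n hf (φ x.1) (hmem n x.1 x.2)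
  let Ψ : B →+* Away 𝒜 (φ f') := (DirectSum.toSemiring comp
    (by
      apply val_injective
      rw [hval, val_one]
      show Localization.mk (φ (1 : B)) _ = 1
      rw [map_one, ← Localization.mk_one]
      congr 1
      exact Subtype.ext (pow_zero _))
    (fun {i j} a b => by
      apply val_injective
      rw [val_mul, hval, hval, hval, Localization.mk_mul]
      show Localization.mk (φ (a.1 * b.1)) _ = _
      rw [map_mul]
      congr 1
      exact Subtype.ext (pow_add _ i j))).comp (decomposeRingEquiv ℬ).toRingHom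
  have hΨ : ∀ n (x : B) (hx : x ∈ ℬ n), (Ψ x).val =
      Localization.mk (φ x) ⟨φ f' ^ n, pow_mem (Submonoid.mem_powers (φ f')) n⟩ := fun n x hx => by
    have h : Ψ x = comp n ⟨x, hx⟩ := by
      simp only [Ψ, RingHom.comp_apply]
      erw [decompose_of_mem ℬ hx, DirectSum.toSemiring_of]
    rw [h, hval]
  have hΨf : Ψ f' = 1 := by
    apply val_injective
    rw [hΨ 1 f' hf', val_one]
    exact (congrArg₂ Localization.mk (pow_one (φ f')).symm rfl).trans
      (Localization.mk_self (⟨φ f' ^ 1, pow_mem (Submonoid.mem_powers (φ f')) 1⟩ : Submonoid.powers (φ f')))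
  have hker : RingHom.ker Ψ = Ideal.span {f' - 1} := by
    refine le_antisymm (fun b hb => ?_) (by
      rw [Ideal.span_le, Set.singleton_subset_iff, SetLike.mem_coe, RingHom.mem_ker, map_sub, hΨf, map_one, sub_self])
    have hstep : ∀ (k : ℕ) (y : B), f' ^ k * y - y ∈ Ideal.span {f' - 1} := fun k y => by
      rw [Ideal.mem_span_singleton]
      exact (sub_dvd_pow_sub_pow f' 1 k).trans ⟨y, by ring⟩
    let S := (decompose ℬ b).support
    let N := S.sup id
    let b' := ∑ n ∈ S, f' ^ (N - n) * (decompose ℬ b n : B)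
    have hb' : b' ∈ ℬ N := Submodule.sum_mem _ fun n hn => by
      have h1 : f' ^ (N - n) ∈ ℬ (N - n) := by simpa using SetLike.pow_mem_graded (N - n) hf'
      have := SetLike.mul_mem_graded h1 (SetLike.coe_mem (decompose ℬ b n))
      rwa [Nat.sub_add_cancel (show n ≤ N from Finset.le_sup (f := id) hn)] at this
    have hbb' : b' - b ∈ Ideal.span {f' - 1} := by
      conv in b' - b => rw [← DirectSum.sum_support_decompose ℬ b]
      rw [← Finset.sum_sub_distrib]
      exact Submodule.sum_mem _ fun n _ => hstep _ _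
    have h0 : Ψ b' = 0 := by
      have h1 : Ψ (b' - b) = 0 := by
        obtain ⟨c, hc⟩ := Ideal.mem_span_singleton.mp hbb'
        rw [hc, map_mul, map_sub, hΨf, map_one, sub_self, zero_mul]
      rw [map_sub, RingHom.mem_ker.mp hb, sub_zero] at h1
      exact h1
    have h2 := congrArg HomogeneousLocalization.val h0
    rw [hΨ N b' hb', val_zero, ← Localization.mk_zero 1, Localization.mk_eq_mk_iff,
      Localization.r_iff_exists] at h2
    obtain ⟨⟨_, L, rfl⟩, hL⟩ := h2
    have h3 : f' ^ L * b' = 0 := hφ (by simpa using hL)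
    have h4 : b' ∈ Ideal.span {f' - 1} := by
      have := hstep L b'
      rwa [h3, zero_sub, Ideal.neg_mem_iff] at this
    have h5 := Ideal.sub_mem _ h4 hbb'
    rwa [sub_sub_cancel] at h5
  have hsurj : Function.Surjective Ψ := fun z => by
    obtain ⟨n, a, ha, rfl⟩ := Away.mk_surjective 𝒜 hf z
    have ha' : a ∈ Submodule.map φ.toLinearMap (ℬ n) := by rw [hdeg n]; simpa using ha
    obtain ⟨x, hx, rfl⟩ := ha'
    refine ⟨x, val_injective _ ?_⟩
    rw [hΨ n x hx, Away.val_mk]
    rfl
  refine ⟨((RingHom.quotientKerEquivOfSurjective hsurj).symm.trans (Ideal.quotEquivOfEq hker)), fun n x hx => ?_⟩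
  rw [show ((RingHom.quotientKerEquivOfSurjective hsurj).symm.trans (Ideal.quotEquivOfEq hker)).symm
      (Ideal.Quotient.mk (Ideal.span {f' - 1}) x) = Ψ x from rfl]
  exact hΨ n x hx

end Groth.Agent.S4396
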