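import Groth.Statements.S4401
import Groth.Agent.ProjTwist.Generated
-- import your own Groth.Agent.* helpers here

set_option autoImplicit false
universe u
open CategoryTheory CategoryTheory.Limits AlgebraicGeometry
open EGA2

namespace Groth.Agent.S4401

/-- Let S be a ring graded in nonnegative degrees whose irrelevant ideal S_+ is generated by finitely
many elements of degree one, and X = Proj S. Then for every integer n ≥ 0 there exist an integer k
and an epimorphism of O_X-modules O_X^k → O_X(n). -/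
theorem result {R A : Type u} [CommRing R] [CommRing A] [Algebra R A] (𝒜 : ℕ → Submodule R A) [GradedAlgebra 𝒜]
    (s : Finset A) (hs1 : ∀ f ∈ s, f ∈ 𝒜 1)
    (hs : (HomogeneousIdeal.irrelevant 𝒜).toIdeal = Ideal.span (s : Set A)) (n : ℕ) :
    ∃ (k : ℕ) (p : FlatMod.freeMod (Proj 𝒜) k ⟶ Twist.twist 𝒜 (n : ℤ)), Epi p := by
  classical
  have hmem : ∀ i : Fin s.toList.length, s.toList.get i ∈ 𝒜 1 :=
    fun i => hs1 _ (Finset.mem_toList.mp (List.get_mem _ _))
  let b : Fin s.toList.length → 𝒜 n := fun i => ⟨s.toList.get i ^ n, by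
    simpa using SetLike.pow_mem_graded n (hmem i)⟩
  refine ⟨s.toList.length, ProjTwist.exists_epi_of_locSpan (Twist.twist 𝒜 (n : ℤ)) _
    (ProjTwist.locSpan_globalOf_of_cover 𝒜 b fun x => ?_)⟩
  by_contra hc
  push Not at hc
  refine x.not_irrelevant_le ?_
  show (HomogeneousIdeal.irrelevant 𝒜).toIdeal ≤ x.asHomogeneousIdeal.toIdeal
  rw [hs, Ideal.span_le]
  intro f hf
  obtain ⟨i, rfl⟩ := List.get_of_mem (Finset.mem_toList.mpr hf)
  exact x.isPrime.mem_of_pow_mem n (hc i)

end Groth.Agent.S4401
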