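import Groth.Statements.S4405
import Groth.Agent.GrBasics.Core

set_option autoImplicit false
universe u
open EGA2

namespace Groth.Agent.S4405

/-- Let S be a ring graded in nonnegative degrees and E any subset of the irrelevant ideal S_+. Then the
intersection of S_+ with the vanishing ideal of the closed subset V_+(E) of Proj S equals the
intersection of S_+ with the radical of the graded ideal generated by E (the smallest homogeneous
ideal containing E). -/
theorem result {R A : Type u} [CommRing R] [CommRing A] [Algebra R A] (𝒜 : ℕ → Submodule R A) [GradedAlgebra 𝒜]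
    (E : Set A) (hE : E ⊆ (HomogeneousIdeal.irrelevant 𝒜).toIdeal) :
    (HomogeneousIdeal.irrelevant 𝒜).toIdeal ⊓
        (ProjectiveSpectrum.vanishingIdeal (ProjectiveSpectrum.zeroLocus 𝒜 E)).toIdeal =
      (HomogeneousIdeal.irrelevant 𝒜).toIdeal ⊓ (Ideal.homogeneousHull 𝒜 (Ideal.span E)).toIdeal.radical := by
  ext a
  simp only [Submodule.mem_inf]
  refine and_congr_right fun ha => ⟨fun h => ?_, fun h => ?_⟩
  · refine GrBasics.mem_radical_of_forall_point 𝒜 (HomogeneousIdeal.isHomogeneous _) ha fun x hx => ?_
    have hxE : x ∈ ProjectiveSpectrum.zeroLocus 𝒜 E := fun e he =>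
      hx (Ideal.le_toIdeal_homogeneousHull 𝒜 _ (Ideal.subset_span he))
    exact (ProjectiveSpectrum.mem_vanishingIdeal _ a).mp h x hxE
  · refine (ProjectiveSpectrum.mem_vanishingIdeal _ a).mpr fun x hx => ?_
    have h1 : Ideal.homogeneousHull 𝒜 (Ideal.span E) ≤ x.asHomogeneousIdeal :=
      (Ideal.homogeneousHull.gc 𝒜).l_le (Ideal.span_le.mpr hx)
    exact (x.isPrime.radical_le_iff.mpr h1) h

end Groth.Agent.S4405
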