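import Groth.Statements.S4411
import Mathlib
-- import your own Groth.Agent.* helpers here

set_option autoImplicit false
universe u
open EGA2

namespace Groth.Agent.S4411

section Aux
open DirectSum

theorem proj_of_mem {R A : Type u} [CommRing R] [CommRing A] [Algebra R A] (𝒜 : ℕ → Submodule R A)
    [GradedAlgebra 𝒜] (d : ℕ) {i : ℕ} {a : A} (ha : a ∈ 𝒜 i) :
    (DirectSum.toModule R ℕ A fun i => if d ∣ i then (𝒜 i).subtype else 0)
      (decompose 𝒜 a) = if d ∣ i then a else 0 := by
  rw [decompose_of_mem 𝒜 ha, ← lof_eq_of R, toModule_lof]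
  split_ifs <;> rfl



end Aux
open DirectSum

/-- Let S be a ring graded in nonnegative degrees which is an S_0-algebra of finite type, d > 0, and
S^{(d)} the graded ring whose degree-n part is S_{nd} (given here as any graded ring S' with an
injective algebra homomorphism φ : S' → S carrying S'_n onto S_{nd} for every n). Then S^{(d)} is an
algebra of finite type over its degree-zero part S'_0 (which φ identifies with S_0). -/
theorem result {R A : Type u} [CommRing R] [CommRing A] [Algebra R A] (𝒜 : ℕ → Submodule R A) [GradedAlgebra 𝒜] [Algebra.FiniteType (𝒜 0) A]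
    {B : Type u} [CommRing B] [Algebra R B] (ℬ : ℕ → Submodule R B) [GradedAlgebra ℬ]
    (d : ℕ) (hd : 0 < d) (φ : B →ₐ[R] A) (hφ : Function.Injective φ)
    (hdeg : ∀ n : ℕ, Submodule.map φ.toLinearMap (ℬ n) = 𝒜 (n * d)) :
    Algebra.FiniteType (ℬ 0) B := by
  let π : A →ₗ[R] A := (DirectSum.toModule R ℕ A fun i => if d ∣ i then (𝒜 i).subtype else 0) ∘ₗ
    (DirectSum.decomposeLinearEquiv 𝒜).toLinearMap
  have hπ : ∀ {i : ℕ} {a : A}, a ∈ 𝒜 i → π a = if d ∣ i then a else 0 := fun ha => proj_of_mem 𝒜 d ha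
  have hmem : ∀ {n : ℕ} {b : B}, b ∈ ℬ n → φ b ∈ 𝒜 (n * d) := fun {n b} hb =>
    hdeg n ▸ Submodule.mem_map_of_mem hb
  have hrange : ∀ a, π a ∈ φ.range := fun a => by
    induction a using DirectSum.Decomposition.inductionOn 𝒜 with
    | zero => rw [map_zero]; exact zero_mem _
    | homogeneous a =>
      rename_i i
      rw [hπ a.2]
      split_ifs with h
      · obtain ⟨k, rfl⟩ := h
        obtain ⟨b, -, hb⟩ := (hdeg k).ge (show (a : A) ∈ 𝒜 (k * d) by rw [mul_comm]; exact a.2)
        exact ⟨b, hb⟩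
      · exact zero_mem _
    | add x y hx hy => rw [map_add]; exact add_mem hx hy
  have hlin : ∀ (b : B) (a : A), π (φ b * a) = φ b * π a := fun b a => by
    induction b using DirectSum.Decomposition.inductionOn ℬ generalizing a with
    | zero => simp
    | homogeneous b =>
      rename_i n
      induction a using DirectSum.Decomposition.inductionOn 𝒜 with
      | zero => simp
      | homogeneous a =>
        rename_i i
        rw [hπ (SetLike.mul_mem_graded (hmem b.2) a.2), hπ a.2]
        by_cases h : d ∣ i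
        · rw [if_pos h, if_pos (Nat.dvd_add (dvd_mul_left d n) h)]
        · rw [if_neg h, if_neg (fun h' => h ((Nat.dvd_add_right (dvd_mul_left d n)).mp h')), mul_zero]
      | add x y hx hy => simp only [mul_add, map_add, hx, hy]
    | add x y hx hy => simp only [map_add, add_mul, hx, hy]
  have hfix : ∀ b : B, π (φ b) = φ b := fun b => by
    have h1 : π 1 = 1 := by rw [hπ SetLike.GradedOne.one_mem, if_pos (dvd_zero d)]
    simpa [h1] using hlin b 1
  classical
  obtain ⟨s, hs⟩ := Algebra.FiniteType.out (R := 𝒜 0) (A := A)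
  let t : Finset A := s.biUnion fun x => (decompose 𝒜 x).support.image fun i => (decompose 𝒜 x i : A)
  have hthom : ∀ a : t, ∃ i, (a : A) ∈ 𝒜 i := by
    rintro ⟨a, ha⟩
    obtain ⟨x, -, hx⟩ := Finset.mem_biUnion.1 ha
    obtain ⟨i, -, rfl⟩ := Finset.mem_image.1 hx
    exact ⟨i, (decompose 𝒜 x i).2⟩
  choose deg hdeg' using hthom
  have hpre : ∀ {a : A}, π a = a → ∃ b, φ b = a := fun {a} h => h ▸ hrange a
  choose y hy using fun a : t => hrange ((a : A) ^ d)
  have hy' : ∀ a : t, φ (y a) = (a : A) ^ d := fun a => by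
    refine (hy a).trans ?_
    rw [hπ (SetLike.pow_mem_graded d (hdeg' a)), if_pos (by simp)]
  let mon : (t → Fin d) → A := fun e => ∏ a : t, (a : A) ^ (e a).val
  choose z hz using fun e => hrange (mon e)
  let Bs : Subalgebra (ℬ 0) B := Algebra.adjoin (ℬ 0) (Set.range y ∪ Set.range z)
  refine ⟨⟨Finset.univ.image y ∪ Finset.univ.image z, ?_⟩⟩
  have hBs : Algebra.adjoin (ℬ 0) ((Finset.univ.image y ∪ Finset.univ.image z : Finset B) : Set B) = Bs := by
    simp [Bs]
  rw [hBs, eq_top_iff]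
  have hcl : ∀ a ∈ Submonoid.closure (t : Set A), ∃ u ∈ Bs, ∃ e, a = φ u * mon e := by
    have h0 : ∀ e : t → ℕ, ∃ u ∈ Bs, ∃ e', ∏ a : t, (a : A) ^ e a = φ u * mon e' := by
      intro e
      refine ⟨∏ a : t, y a ^ (e a / d), Subalgebra.prod_mem _ fun a _ => Subalgebra.pow_mem Bs (Algebra.subset_adjoin (R := ℬ 0) (s := Set.range y ∪ Set.range z) (Or.inl ⟨a, rfl⟩)) _,
        fun a => ⟨e a % d, Nat.mod_lt _ hd⟩, ?_⟩
      simp only [mon, map_prod, map_pow, hy', ← Finset.prod_mul_distrib]
      exact Finset.prod_congr rfl fun a _ => by rw [← pow_mul, ← pow_add, Nat.div_add_mod]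
    intro a ha
    suffices h : ∃ e : t → ℕ, a = ∏ x : t, (x : A) ^ e x by
      obtain ⟨e, rfl⟩ := h; exact h0 e
    induction ha using Submonoid.closure_induction with
    | mem x hx =>
      refine ⟨fun w => if w = ⟨x, hx⟩ then 1 else 0, ?_⟩
      rw [Finset.prod_eq_single ⟨x, hx⟩ (fun w _ hw => by simp [hw]) (by simp)]
      simp
    | one => exact ⟨0, by simp⟩
    | mul x x' _ _ h h' =>
      obtain ⟨e, rfl⟩ := h
      obtain ⟨e', rfl⟩ := h'
      exact ⟨e + e', by simp [pow_add, Finset.prod_mul_distrib]⟩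
  have hall : ∀ a : A, ∃ u ∈ Bs, φ u = π a := by
    intro a
    have hle : Algebra.adjoin (𝒜 0) (t : Set A) = ⊤ := by
      refine top_le_iff.1 (hs ▸ Algebra.adjoin_le fun x hx => ?_)
      rw [SetLike.mem_coe, ← sum_support_decompose 𝒜 x]
      exact Subalgebra.sum_mem _ fun i hi => Algebra.subset_adjoin (Finset.mem_biUnion.2 ⟨x, hx, Finset.mem_image_of_mem _ hi⟩)
    have ha : a ∈ Subalgebra.toSubmodule (Algebra.adjoin (𝒜 0) (t : Set A)) := by rw [hle]; exact trivial
    rw [Algebra.adjoin_eq_span] at ha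
    induction ha using Submodule.span_induction with
    | mem x hx =>
      obtain ⟨u, hu, e, rfl⟩ := hcl x hx
      exact ⟨u * z e, mul_mem hu (Algebra.subset_adjoin (Or.inr ⟨e, rfl⟩)), by rw [map_mul, hlin]; exact congrArg (φ u * ·) (hz e)⟩
    | zero => exact ⟨0, zero_mem _, by simp⟩
    | add x x' _ _ h h' =>
      obtain ⟨u, hu, hux⟩ := h
      obtain ⟨u', hu', hux'⟩ := h'
      exact ⟨u + u', add_mem hu hu', by simp [hux, hux']⟩
    | smul c x _ h =>
      obtain ⟨u, hu, hux⟩ := h
      obtain ⟨c', hc', hcc⟩ := (hdeg 0).ge (show (c : A) ∈ 𝒜 (0 * d) by rw [zero_mul]; exact c.2)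
      change φ c' = _ at hcc
      refine ⟨c' * u, mul_mem (Bs.algebraMap_mem ⟨c', hc'⟩) hu, ?_⟩
      show _ = π ((c : A) * x)
      rw [← hcc, hlin, map_mul, hux]
  intro b _
  obtain ⟨u, hu, h⟩ := hall (φ b)
  rw [hfix] at h
  exact hφ h ▸ hu

end Groth.Agent.S4411
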