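import Groth.Statements.S4412
import Mathlib
-- import your own Groth.Agent.* helpers here

set_option autoImplicit false
universe u
open EGA2

namespace Groth.Agent.S4412

open DirectSum

theorem proj_of_mem {R A : Type u} [CommRing R] [CommRing A] [Algebra R A] (𝒜 : ℕ → Submodule R A)
    [GradedAlgebra 𝒜] (d : ℕ) {i : ℕ} {a : A} (ha : a ∈ 𝒜 i) :
    (DirectSum.toModule R ℕ A fun i => if d ∣ i then (𝒜 i).subtype else 0)
      (decompose 𝒜 a) = if d ∣ i then a else 0 := by
  rw [decompose_of_mem 𝒜 ha, ← lof_eq_of R, toModule_lof]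
  split_ifs <;> rfl


/-- Let S be a ring graded in nonnegative degrees which is Noetherian, d > 0, and S^{(d)} the graded
ring with degree-n part S_{nd} (given as a graded ring S' with an injective algebra homomorphism φ :
S' → S carrying S'_n onto S_{nd} for every n). Then S^{(d)} is Noetherian. -/
theorem result {R A : Type u} [CommRing R] [CommRing A] [Algebra R A] (𝒜 : ℕ → Submodule R A) [GradedAlgebra 𝒜] [IsNoetherianRing A]
    {B : Type u} [CommRing B] [Algebra R B] (ℬ : ℕ → Submodule R B) [GradedAlgebra ℬ]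
    (d : ℕ) (hd : 0 < d) (φ : B →ₐ[R] A) (hφ : Function.Injective φ)
    (hdeg : ∀ n : ℕ, Submodule.map φ.toLinearMap (ℬ n) = 𝒜 (n * d)) :
    IsNoetherianRing B := by
  let π : A →ₗ[R] A := (DirectSum.toModule R ℕ A fun i => if d ∣ i then (𝒜 i).subtype else 0) ∘ₗ
    (DirectSum.decomposeLinearEquiv 𝒜).toLinearMap
  have hπ : ∀ {i : ℕ} {a : A}, a ∈ 𝒜 i → π a = if d ∣ i then a else 0 := fun ha => proj_of_mem 𝒜 d ha
  have hmem : ∀ {n : ℕ} {b : B}, b ∈ ℬ n → φ b ∈ 𝒜 (n * d) := fun {n b} hb =>
    hdeg n ▸ Submodule.mem_map_of_mem hb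
  have hrange : ∀ a, π a ∈ φ.range := fun a => by
    induction a using DirectSum.Decomposition.inductionOn 𝒜 with
    | zero => rw [map_zero]; exact zero_mem _
    | homogeneous a =>
      rename_i i
      rw [hπ a.2]
      split_ifs with h
      · obtain ⟨k, rfl⟩ := h
        obtain ⟨b, -, hb⟩ := (hdeg k).ge (show (a : A) ∈ 𝒜 (k * d) by rw [mul_comm]; exact a.2)
        exact ⟨b, hb⟩
      · exact zero_mem _
    | add x y hx hy => rw [map_add]; exact add_mem hx hy
  have hlin : ∀ (b : B) (a : A), π (φ b * a) = φ b * π a := fun b a => by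
    induction b using DirectSum.Decomposition.inductionOn ℬ generalizing a with
    | zero => simp
    | homogeneous b =>
      rename_i n
      induction a using DirectSum.Decomposition.inductionOn 𝒜 with
      | zero => simp
      | homogeneous a =>
        rename_i i
        rw [hπ (SetLike.mul_mem_graded (hmem b.2) a.2), hπ a.2]
        by_cases h : d ∣ i
        · rw [if_pos h, if_pos (Nat.dvd_add (dvd_mul_left d n) h)]
        · rw [if_neg h, if_neg (fun h' => h ((Nat.dvd_add_right (dvd_mul_left d n)).mp h')), mul_zero]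
      | add x y hx hy => simp only [mul_add, map_add, hx, hy]
    | add x y hx hy => simp only [map_add, add_mul, hx, hy]
  have hfix : ∀ b : B, π (φ b) = φ b := fun b => by
    have h1 : π 1 = 1 := by rw [hπ SetLike.GradedOne.one_mem, if_pos (dvd_zero d)]
    simpa [h1] using hlin b 1
  have hcomap : ∀ J : Ideal B, (J.map φ).comap φ = J := fun J => by
    refine le_antisymm (fun x hx => ?_) Ideal.le_comap_map
    obtain ⟨z, hz, hzx⟩ : ∃ z ∈ J, φ z = π (φ x) := by
      rw [Ideal.mem_comap, Ideal.map, Ideal.span] at hx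
      generalize φ x = w at hx ⊢
      induction hx using Submodule.closure_induction with
      | zero => exact ⟨0, zero_mem _, by simp⟩
      | add a b _ _ ha hb =>
        obtain ⟨za, hza, ha⟩ := ha
        obtain ⟨zb, hzb, hb⟩ := hb
        exact ⟨za + zb, add_mem hza hzb, by simp [ha, hb]⟩
      | smul_mem r a ha =>
        obtain ⟨j, hj, rfl⟩ := ha
        obtain ⟨r', hr'⟩ := hrange r
        refine ⟨r' * j, J.mul_mem_left _ hj, ?_⟩
        rw [map_mul, smul_eq_mul, mul_comm r (φ j), hlin j r, ← hr', mul_comm]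
        rfl
    rwa [hφ (hzx.trans (hfix x))] at hz
  rw [isNoetherianRing_iff, isNoetherian_iff'] at *
  haveI : WellFoundedGT (Ideal A) := ‹_›
  exact StrictMono.wellFoundedGT (f := fun J : Ideal B => J.map φ)
    (Monotone.strictMono_of_injective (fun _ _ h => Ideal.map_mono h)
      (Function.LeftInverse.injective hcomap))

end Groth.Agent.S4412
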