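import Groth.Statements.S4413
import Groth.Agent.InvPow.Locus
import Groth.Agent.InvPow.PullBasisLocal
import Groth.Agent.BCCx.Near

set_option autoImplicit false
set_option linter.style.haveILetI false
set_option backward.isDefEq.respectTransparency false
universe u
open CategoryTheory CategoryTheory.Limits AlgebraicGeometry
open EGA2 Groth.Agent

namespace Groth.Agent.S4413

/-- Let u : Z → S be a morphism of schemes, L an invertible O_S-module, s : O_S → L a global section of
L and s' the section of u^*(L) corresponding to s, i.e. u^*(s) composed with an isomorphism O_Z ≅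
u^*(O_S) (the locus in question does not depend on that choice). Then the open Z_{s'} of Z where s'
generates u^*(L) is the preimage u⁻¹(S_s) of the open where s generates L. -/
theorem result {Z S : Scheme.{u}} (u : Z ⟶ S) (L : S.Modules) (hL : PicF.IsInvertible L)
    (s : Coh.structureModule S ⟶ L)
    (e : Coh.structureModule Z ≅ (Scheme.Modules.pullback u).obj (Coh.structureModule S)) :
    CohB1.genLocus ((Scheme.Modules.pullback u).obj L) (e.hom ≫ (Scheme.Modules.pullback u).map s) = u ⁻¹ᵁ CohB1.genLocus L s := by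
  obtain ⟨σ, rfl⟩ := InvPow.exists_globalHom_eq s
  let P := (Scheme.Modules.pullback u).obj L
  let O' := (Scheme.Modules.pullback u).obj (Coh.structureModule S)
  let one : Γ(Coh.structureModule S, ⊤) := (1 : Γ(S, ⊤))
  have h1 : InvBasic.IsBasis (Coh.structureModule S) one := fun W hW => by
    have : (fun r : Γ(S, W) => r • ((Coh.structureModule S).presheaf.map (homOfLE hW).op one : Γ(Coh.structureModule S, W))) = id := by
      funext r
      show r * S.presheaf.map (homOfLE hW).op (1 : Γ(S, ⊤)) = r
      rw [map_one, mul_one]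
    rw [this]
    exact Function.bijective_id
  have hO : PicF.IsInvertible (Coh.structureModule S) :=
    InvBasic.isInvertible_of_isBasis fun x => ⟨⊤, trivial, one, h1⟩
  let τ : Γ(O', ⊤) := InvPow.pullLoc u (Coh.structureModule S) one
  let ρ : Γ(P, ⊤) := InvPow.pullLoc u L σ
  let m := (Scheme.Modules.pullback u).map (ProjTwist.globalHom L σ)
  have hτ : InvBasic.IsBasis O' τ := InvPow.isBasis_pullLoc u hO h1
  have hm : ProjTwist.globalHom O' τ ≫ m = ProjTwist.globalHom P ρ := by
    refine Scheme.Modules.hom_ext _ _ (fun V => AddCommGrpCat.ext ?_)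
    intro (r : Γ(Z, V))
    show m.app V ((ProjTwist.globalHom O' τ).app V r) = _
    rw [ProjTwist.globalHom_app, ProjTwist.globalHom_app, Scheme.Modules.Hom.app_smul]
    congr 1
    refine (QCohLib.app_map m (le_top : V ≤ ⊤) τ).trans ?_
    refine congrArg (P.presheaf.map (homOfLE (le_top : V ≤ ⊤)).op) ?_
    have hn := (Scheme.Modules.pullbackPushforwardAdjunction u).unit.naturality (ProjTwist.globalHom L σ)
    have hn' := congr($(congr(Scheme.Modules.Hom.app $hn ⊤)) one)
    refine hn'.symm.trans ?_
    show InvPow.pullLoc u L ((ProjTwist.globalHom L σ).app ⊤ one) = InvPow.pullLoc u L σ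
    congr 1
    rw [ProjTwist.globalHom_app]
    show (1 : Γ(S, ⊤)) • L.presheaf.map (homOfLE (le_top : (⊤ : S.Opens) ≤ ⊤)).op σ = σ
    rw [one_smul, QCohLib.map_self]
  have hloc : CohB1.genLocus P (e.hom ≫ m) = CohB1.genLocus P (ProjTwist.globalHom P ρ) := by
    unfold CohB1.genLocus
    congr 1
    ext U
    haveI : IsIso ((Scheme.Modules.restrictFunctor U.ι).map (ProjTwist.globalHom O' τ)) :=
      (ProjTwist.isIso_restrict_globalHom_iff O' τ U).mpr fun V => hτ _ le_top
    simp only [Set.mem_setOf_eq, Functor.map_comp, isIso_comp_left_iff, ← hm]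
  rw [InvPow.genLocus_globalHom hL]
  refine hloc.trans ((InvPow.genLocus_globalHom (ProjUniv.isInvertible_pullback u hL) ρ).trans ?_)
  refine le_antisymm (fun z hz => BCCx.mem_genOpen_of_pullLoc u hL σ hz) (fun z hz => ?_)
  have hb := InvPow.isBasis_pullLoc u hL (ProjUniv.isBasis_genOpen hL σ)
  refine ProjUniv.gen_of_isBasis (L := P) (s := ρ) ?_ hz
  have hr := InvPow.res_pullLoc u L (le_top : ProjUniv.genOpen hL σ ≤ ⊤) σ
  exact (show InvBasic.IsBasis P (ProjUniv.res P (show u ⁻¹ᵁ ProjUniv.genOpen hL σ ≤ ⊤ from le_top) ρ) from hr ▸ hb)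
end Groth.Agent.S4413
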