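import Groth.Statements.S4417
import Groth.Agent.InvPow.Glue
-- import your own Groth.Agent.* helpers here

set_option autoImplicit false
universe u
open CategoryTheory CategoryTheory.Limits AlgebraicGeometry
open EGA2

namespace Groth.Agent.S4417

/-- Let f : X → Y and f' : X' → Y be quasi-projective morphisms (of finite type, each admitting a
relatively ample module). Then the morphism X ⨿ X' → Y restricting to f and f' on the two summands
is quasi-projective. -/
theorem result {X X' Y : Scheme.{u}} (f : X ⟶ Y) (f' : X' ⟶ Y)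
    (hf : RelProj.IsQuasiProjective f) (hf' : RelProj.IsQuasiProjective f') :
    RelProj.IsQuasiProjective (coprod.desc f f') := by
  obtain ⟨hft, hqc, L, hL⟩ := hf
  obtain ⟨hft', hqc', L', hL'⟩ := hf'
  obtain ⟨M, ⟨e⟩, ⟨e'⟩⟩ := InvPow.exists_coprod_module L L'
  have hiso : ∀ {Z : Scheme.{u}} (g : Z ⟶ Y) {A B : Z.Modules}, (A ≅ B) →
      RelAmple.IsRelAmple g A → RelAmple.IsRelAmple g B := fun {Z} g {A B} τ h =>
    (InvPow.isRelAmple_iff g).mpr ⟨((InvPow.isRelAmple_iff g).mp h).1, fun V =>
      InvPow.isAmple_of_iso ((Scheme.Modules.pullback _).mapIso τ) (((InvPow.isRelAmple_iff g).mp h).2 V)⟩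
  have hA := (InvPow.isRelAmple_coprod f f' M).mpr ⟨hiso f e.symm hL, hiso f' e'.symm hL'⟩
  refine ⟨IsZariskiLocalAtSource.of_openCover (coprodOpenCover.{u, 0} X X') fun i => ?_, hA.1, M, hA⟩
  rcases i with i | i
  · show LocallyOfFiniteType (coprod.inl ≫ coprod.desc f f')
    rw [coprod.inl_desc]
    exact hft
  · show LocallyOfFiniteType (coprod.inr ≫ coprod.desc f f')
    rw [coprod.inr_desc]
    exact hft'

end Groth.Agent.S4417
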