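import Groth.Statements.S4428
import Groth.Agent.InvPow.AmplePullback
-- import your own Groth.Agent.* helpers here

set_option autoImplicit false
universe u
open CategoryTheory CategoryTheory.Limits AlgebraicGeometry
open EGA2

namespace Groth.Agent.S4428

/-- Let a₁ : Y₁ → S and a₂ : Y₂ → S be morphisms, f₁ : X₁ → Y₁ and f₂ : X₂ → Y₂ quasi-compact morphisms
(so X₁, X₂ are S-schemes through f_i ≫ a_i), and L₁, L₂ modules on X₁, X₂ ample relative to f₁, f₂.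
Then the external tensor product p₁^*(L₁) ⊗ p₂^*(L₂) on X₁ ×_S X₂ (p₁, p₂ the projections) is ample
relative to the product morphism f₁ ×_S f₂ : X₁ ×_S X₂ → Y₁ ×_S Y₂. -/
theorem result {X₁ X₂ Y₁ Y₂ S : Scheme.{u}} (a₁ : Y₁ ⟶ S) (a₂ : Y₂ ⟶ S)
    (f₁ : X₁ ⟶ Y₁) (f₂ : X₂ ⟶ Y₂) [QuasiCompact f₁] [QuasiCompact f₂] (L₁ : X₁.Modules) (L₂ : X₂.Modules)
    (hL₁ : RelAmple.IsRelAmple f₁ L₁) (hL₂ : RelAmple.IsRelAmple f₂ L₂) :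
    RelAmple.IsRelAmple
      (pullback.map (f₁ ≫ a₁) (f₂ ≫ a₂) a₁ a₂ f₁ f₂ (𝟙 S) (Category.comp_id (f₁ ≫ a₁)) (Category.comp_id (f₂ ≫ a₂)))
      (CohB1.tensorMod ((Scheme.Modules.pullback (pullback.fst (f₁ ≫ a₁) (f₂ ≫ a₂))).obj L₁)
        ((Scheme.Modules.pullback (pullback.snd (f₁ ≫ a₁) (f₂ ≫ a₂))).obj L₂)) := by
  let p := pullback.fst (f₁ ≫ a₁) (f₂ ≫ a₂)
  let q := pullback.snd (f₁ ≫ a₁) (f₂ ≫ a₂)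
  let Φ := pullback.map (f₁ ≫ a₁) (f₂ ≫ a₂) a₁ a₂ f₁ f₂ (𝟙 S) (Category.comp_id (f₁ ≫ a₁)) (Category.comp_id (f₂ ≫ a₂))
  have hp : PicF.IsInvertible ((Scheme.Modules.pullback p).obj L₁) :=
    ProjUniv.isInvertible_pullback p (InvPow.isInvertible_of_isRelAmple hL₁)
  have hq : PicF.IsInvertible ((Scheme.Modules.pullback q).obj L₂) :=
    ProjUniv.isInvertible_pullback q (InvPow.isInvertible_of_isRelAmple hL₂)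
  have hΦ₁ : ∀ y, pullback.fst a₁ a₂ (Φ y) = f₁ (p y) := fun y => by
    rw [← Scheme.Hom.comp_apply, show Φ ≫ pullback.fst a₁ a₂ = p ≫ f₁ from pullback.lift_fst _ _ _,
      Scheme.Hom.comp_apply]
  have hΦ₂ : ∀ y, pullback.snd a₁ a₂ (Φ y) = f₂ (q y) := fun y => by
    rw [← Scheme.Hom.comp_apply, show Φ ≫ pullback.snd a₁ a₂ = q ≫ f₂ from pullback.lift_snd _ _ _,
      Scheme.Hom.comp_apply]
  have hqc : QuasiCompact Φ := MorphismProperty.pullbackMap (P := @QuasiCompact) (f := f₁ ≫ a₁) (g := f₂ ≫ a₂) (by assumption) (by assumption) rfl rfl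
  refine InvPow.isRelAmple_of_local Φ fun z => ?_
  obtain ⟨U, hU, hzU, -⟩ := exists_isAffineOpen_mem_and_subset (x := a₁ (pullback.fst a₁ a₂ z)) (U := ⊤)
    (TopologicalSpace.Opens.mem_top _)
  obtain ⟨V₁, hV₁, hz₁, hV₁U⟩ := exists_isAffineOpen_mem_and_subset (x := pullback.fst a₁ a₂ z) (U := a₁ ⁻¹ᵁ U) hzU
  obtain ⟨V₂, hV₂, hz₂, hV₂U⟩ := exists_isAffineOpen_mem_and_subset (x := pullback.snd a₁ a₂ z) (U := a₂ ⁻¹ᵁ U) (by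
    show a₂ (pullback.snd a₁ a₂ z) ∈ U
    rw [← Scheme.Hom.comp_apply, ← pullback.condition]
    exact hzU)
  let V := pullback.fst a₁ a₂ ⁻¹ᵁ V₁ ⊓ pullback.snd a₁ a₂ ⁻¹ᵁ V₂
  have hV : IsAffineOpen V := InvPow.isAffineOpen_pullback_inf a₁ a₂ hV₁ hU hV₂ hV₁U hV₂U
  refine ⟨V, ⟨hz₁, hz₂⟩, ?_⟩
  have hA₁ := ((InvPow.isRelAmple_iff f₁).mp hL₁).2 ⟨V₁, hV₁⟩
  have hA₂ := ((InvPow.isRelAmple_iff f₂).mp hL₂).2 ⟨V₂, hV₂⟩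
  let W := Φ ⁻¹ᵁ V
  have hW₁ : W ≤ p ⁻¹ᵁ (f₁ ⁻¹ᵁ V₁) := fun y hy => show f₁ (p y) ∈ V₁ from hΦ₁ y ▸ hy.1
  have hW₂ : W ≤ q ⁻¹ᵁ (f₂ ⁻¹ᵁ V₂) := fun y hy => show f₂ (q y) ∈ V₂ from hΦ₂ y ▸ hy.2
  let p' : (W : Scheme.{u}) ⟶ (f₁ ⁻¹ᵁ V₁ : X₁.Opens) := p.resLE (f₁ ⁻¹ᵁ V₁) W hW₁
  let q' : (W : Scheme.{u}) ⟶ (f₂ ⁻¹ᵁ V₂ : X₂.Opens) := q.resLE (f₂ ⁻¹ᵁ V₂) W hW₂
  have : CompactSpace W := isCompact_iff_compactSpace.mp (Φ.isCompact_preimage hV.isCompact)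
  obtain ⟨e⟩ := InvPow.nonempty_pullback_tensor_iso W.ι hp hq
  refine InvPow.isAmple_of_iso (e ≪≫ PicGrp.tensorModIso
    ((Scheme.Modules.pullbackComp W.ι p).app L₁ ≪≫
      (Scheme.Modules.pullbackCongr (Scheme.Hom.resLE_comp_ι p hW₁).symm).app L₁ ≪≫
      ((Scheme.Modules.pullbackComp p' (f₁ ⁻¹ᵁ V₁).ι).app L₁).symm)
    ((Scheme.Modules.pullbackComp W.ι q).app L₂ ≪≫
      (Scheme.Modules.pullbackCongr (Scheme.Hom.resLE_comp_ι q hW₂).symm).app L₂ ≪≫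
      ((Scheme.Modules.pullbackComp q' (f₂ ⁻¹ᵁ V₂).ι).app L₂).symm)).symm
    (InvPow.isAmple_tensor_pullback hA₁ hA₂ p' q' fun y => ⟨⊤, ⊤, trivial, trivial, fun A B hA hB _ _ => ?_⟩)
  let A' := (f₁ ⁻¹ᵁ V₁).ι ''ᵁ A
  let B' := (f₂ ⁻¹ᵁ V₂).ι ''ᵁ B
  have hAB : IsAffineOpen (p ⁻¹ᵁ A' ⊓ q ⁻¹ᵁ B') :=
    InvPow.isAffineOpen_pullback_inf (f₁ ≫ a₁) (f₂ ≫ a₂) (hA.image_of_isOpenImmersion _) hU
      (hB.image_of_isOpenImmersion _) (fun x hx => hV₁U ((f₁ ⁻¹ᵁ V₁).ι_image_le A hx))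
      (fun x hx => hV₂U ((f₂ ⁻¹ᵁ V₂).ι_image_le B hx))
  have e1 : p' ⁻¹ᵁ A ⊓ q' ⁻¹ᵁ B = W.ι ⁻¹ᵁ (p ⁻¹ᵁ A' ⊓ q ⁻¹ᵁ B') := by
    conv_lhs => rw [← (f₁ ⁻¹ᵁ V₁).ι.preimage_image_eq A, ← (f₂ ⁻¹ᵁ V₂).ι.preimage_image_eq B,
      ← Scheme.Hom.comp_preimage, ← Scheme.Hom.comp_preimage, Scheme.Hom.resLE_comp_ι, Scheme.Hom.resLE_comp_ι,
      Scheme.Hom.comp_preimage, Scheme.Hom.comp_preimage]
    rfl
  rw [e1]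
  refine hAB.preimage_of_isOpenImmersion W.ι ?_
  rw [Scheme.Opens.opensRange_ι]
  intro x hx
  exact ⟨show pullback.fst a₁ a₂ (Φ x) ∈ V₁ from (hΦ₁ x).symm ▸ (f₁ ⁻¹ᵁ V₁).ι_image_le A hx.1,
    show pullback.snd a₁ a₂ (Φ x) ∈ V₂ from (hΦ₂ x).symm ▸ (f₂ ⁻¹ᵁ V₂).ι_image_le B hx.2⟩

end Groth.Agent.S4428
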