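import Mathlib
import Groth.Statements.S4429
-- import your own Groth.Agent.* helpers here

set_option autoImplicit false
universe u
open EGA2

namespace Groth.Agent.S4429

/-- For an integral domain A with fraction field K, a finitely generated A-module E and an endomorphism
u of E, the coefficients of the characteristic polynomial of u ⊗ 1 acting on the K-vector space K
⊗_A E (the elementary symmetric functions of u, among them its trace and determinant) are integral
over A. -/
theorem result (A : Type u) [CommRing A] [IsDomain A] (K : Type u) [Field K]
    [Algebra A K] [IsFractionRing A K] (E : Type u) [AddCommGroup E] [Module A E] [Module.Finite A E]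
    (u : E →ₗ[A] E) (i : ℕ) :
    IsIntegral A (((u.baseChange K).charpoly).coeff i) := by
  obtain ⟨f, hfm, hf0⟩ := LinearMap.exists_monic_and_aeval_eq_zero A u
  set L := AlgebraicClosure K
  set U := (u.baseChange K).baseChange L
  have hU : Polynomial.aeval U f = 0 := by
    have h1 : Polynomial.aeval (u.baseChange K) f = 0 := by
      have := congrArg (Module.End.baseChangeHom A K E) hf0
      rwa [← Polynomial.aeval_algHom_apply, map_zero] at this
    have h2 : Polynomial.aeval U (f.map (algebraMap A K)) = 0 := by
      have := congrArg (Module.End.baseChangeHom K L (TensorProduct A K E)) (show Polynomial.aeval (u.baseChange K) (f.map (algebraMap A K)) = 0 by rw [Polynomial.aeval_map_algebraMap]; exact h1)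
      rwa [← Polynomial.aeval_algHom_apply, map_zero] at this
    rwa [← Polynomial.aeval_map_algebraMap (A := L), IsScalarTower.algebraMap_eq A K L, ← Polynomial.map_map, Polynomial.aeval_map_algebraMap]
  have hroots : ∀ r ∈ U.charpoly.roots, IsIntegral A r := by
    intro r hr
    have hev : Module.End.HasEigenvalue U r :=
      (Module.End.hasEigenvalue_iff_isRoot_charpoly U r).2 ((Polynomial.mem_roots (LinearMap.charpoly_monic U).ne_zero).1 hr)
    obtain ⟨v, hv⟩ := hev.exists_hasEigenvector
    refine ⟨f, hfm, ?_⟩
    have h := Module.End.aeval_apply_of_hasEigenvector (p := f.map (algebraMap A L)) hv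
    rw [Polynomial.aeval_map_algebraMap, hU, LinearMap.zero_apply, Polynomial.eval_map] at h
    exact (smul_eq_zero.1 h.symm).resolve_right hv.2
  have hlift : U.charpoly ∈ Polynomial.lifts (algebraMap (integralClosure A L) L) := by
    rw [(IsAlgClosed.splits U.charpoly).eq_prod_roots_of_monic (LinearMap.charpoly_monic U)]
    refine Submonoid.multiset_prod_mem (Polynomial.lifts (algebraMap (integralClosure A L) L)).toSubmonoid _ fun g hg => ?_
    obtain ⟨r, hr, rfl⟩ := Multiset.mem_map.1 hg
    exact ⟨Polynomial.X - Polynomial.C ⟨r, hroots r hr⟩, by simp⟩
  obtain ⟨g, hg⟩ := (Polynomial.lifts_iff_coeff_lifts _).1 hlift i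
  have hL : IsIntegral A (algebraMap K L ((u.baseChange K).charpoly.coeff i)) := by
    rw [← Polynomial.coeff_map, ← LinearMap.charpoly_baseChange, ← hg]
    exact g.2
  exact (isIntegral_algebraMap_iff (algebraMap K L).injective).1 hL

end Groth.Agent.S4429
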