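import Mathlib
import Groth.Agent.S4429
import Groth.Statements.S4430
-- import your own Groth.Agent.* helpers here

set_option autoImplicit false
universe u
open EGA2

namespace Groth.Agent.S4430

/-- Let A be an integral domain with fraction field K, E a finitely generated A-module and u an
endomorphism of E whose characteristic-polynomial coefficients (those of u ⊗ 1 on K ⊗_A E) all lie
in A. If u is an automorphism of E, then its determinant, as an element of A, is invertible in A. -/
theorem result (A : Type u) [CommRing A] [IsDomain A] (K : Type u) [Field K]
    [Algebra A K] [IsFractionRing A K] (E : Type u) [AddCommGroup E] [Module A E] [Module.Finite A E]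
    (u : E →ₗ[A] E) (hcoeff : ∀ i : ℕ, ((u.baseChange K).charpoly).coeff i ∈ (algebraMap A K).range)
    (a : A) (ha : algebraMap A K a = LinearMap.det (u.baseChange K)) (hu : Function.Bijective u) :
    IsUnit a := by
  let ev := LinearEquiv.ofBijective u hu
  let v : E →ₗ[A] E := ev.symm.toLinearMap
  have huv : (u.baseChange K).comp (v.baseChange K) = LinearMap.id := by
    rw [← LinearMap.baseChange_comp, show u.comp v = LinearMap.id from LinearMap.ext fun x => ev.apply_symm_apply x, LinearMap.baseChange_id]
  have hdet : algebraMap A K a * LinearMap.det (v.baseChange K) = 1 := by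
    rw [ha, ← LinearMap.det_comp, huv, LinearMap.det_id]
  have hint : IsIntegral A (LinearMap.det (v.baseChange K)) := by
    rw [LinearMap.det_eq_sign_charpoly_coeff]
    exact ((isIntegral_one.neg).pow _).mul (Groth.Agent.S4429.result A K E v 0)
  have hu' : IsUnit (algebraMap A (integralClosure A K) a) :=
    IsUnit.of_mul_eq_one ⟨_, hint⟩ (Subtype.ext hdet)
  exact isUnit_of_map_unit (algebraMap A (integralClosure A K)) a hu' 

end Groth.Agent.S4430
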