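import Mathlib
import Groth.Statements.S4431
-- import your own Groth.Agent.* helpers here

set_option autoImplicit false
universe u
open EGA2

namespace Groth.Agent.S4431

/-- Let A be an integral domain with fraction field K, E a finitely generated torsion-free A-module and
u an endomorphism of E whose characteristic-polynomial coefficients (those of u ⊗ 1 on K ⊗_A E) all
lie in A. If the determinant of u is the image of a unit of A, then u is an automorphism of E. -/
theorem result (A : Type u) [CommRing A] [IsDomain A] (K : Type u) [Field K]
    [Algebra A K] [IsFractionRing A K] (E : Type u) [AddCommGroup E] [Module A E] [Module.Finite A E]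
    [Module.IsTorsionFree A E]
    (u : E →ₗ[A] E) (hcoeff : ∀ i : ℕ, ((u.baseChange K).charpoly).coeff i ∈ (algebraMap A K).range)
    (a : A) (ha : algebraMap A K a = LinearMap.det (u.baseChange K)) (hunit : IsUnit a) :
    Function.Bijective u := by
  classical
  have hlift : (u.baseChange K).charpoly ∈ Polynomial.lifts (algebraMap A K) :=
    (Polynomial.lifts_iff_coeff_lifts _).2 fun i => hcoeff i
  obtain ⟨P, hP⟩ := hlift
  have hP' : P.map (algebraMap A K) = (u.baseChange K).charpoly := hP
  haveI : IsLocalizedModule (nonZeroDivisors A) (TensorProduct.mk A K E 1) :=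
    (isLocalizedModule_iff_isBaseChange (nonZeroDivisors A) K _).2 (TensorProduct.isBaseChange A E K)
  have hzero : Polynomial.aeval u P = 0 := by
    refine LinearMap.ext fun y => ?_
    have h2 : (Polynomial.aeval u P).baseChange K = 0 := by
      have h3 := Polynomial.aeval_algHom_apply (Module.End.baseChangeHom A K E) u P
      rw [show (Polynomial.aeval u P).baseChange K = Module.End.baseChangeHom A K E (Polynomial.aeval u P) from rfl, ← h3,
        show Module.End.baseChangeHom A K E u = u.baseChange K from rfl, ← Polynomial.aeval_map_algebraMap K, hP',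
        LinearMap.aeval_self_charpoly]
    have h4 : TensorProduct.mk A K E 1 (Polynomial.aeval u P y) = 0 := by
      have := LinearMap.congr_fun h2 (TensorProduct.tmul A (1 : K) y)
      simpa using this
    obtain ⟨c, hc⟩ := (IsLocalizedModule.eq_zero_iff (nonZeroDivisors A) (TensorProduct.mk A K E 1)).1 h4
    exact (smul_eq_zero.1 hc).resolve_left (nonZeroDivisors.ne_zero c.2)
  have hc0 : IsUnit (P.coeff 0) := by
    have h5 := LinearMap.det_eq_sign_charpoly_coeff (u.baseChange K)
    rw [← ha, ← hP', Polynomial.coeff_map] at h5
    have h6 : a = (-1) ^ (Module.finrank K (TensorProduct A K E)) * P.coeff 0 := by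
      apply IsFractionRing.injective A K
      rw [h5, map_mul, map_pow, map_neg, map_one]
    rw [h6] at hunit
    exact isUnit_of_mul_isUnit_right hunit
  set Q := Polynomial.aeval u P.divX
  have h7 : u * Q = -(P.coeff 0 • (1 : Module.End A E)) ∧ Q * u = -(P.coeff 0 • (1 : Module.End A E)) := by
    have h8 := hzero
    rw [← Polynomial.X_mul_divX_add P, map_add, map_mul, Polynomial.aeval_X, Polynomial.aeval_C, Algebra.algebraMap_eq_smul_one, add_eq_zero_iff_eq_neg] at h8
    refine ⟨h8, ?_⟩
    rw [← h8, show Q * u = Polynomial.aeval u (P.divX * Polynomial.X) by simp [Q], mul_comm, map_mul, Polynomial.aeval_X]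
  constructor
  · rw [injective_iff_map_eq_zero]
    intro y hy
    have := LinearMap.congr_fun h7.2 y
    rw [Module.End.mul_apply, hy, map_zero, eq_comm, LinearMap.neg_apply, neg_eq_zero, LinearMap.smul_apply, Module.End.one_apply] at this
    exact (hc0.smul_eq_zero).1 this
  · intro y
    obtain ⟨c, hc⟩ := hc0
    refine ⟨-((↑c⁻¹ : A) • Q y), ?_⟩
    have := LinearMap.congr_fun h7.1 y
    rw [Module.End.mul_apply, LinearMap.neg_apply, LinearMap.smul_apply, Module.End.one_apply] at this
    rw [map_neg, map_smul, this, smul_neg, neg_neg, smul_smul, ← hc, Units.inv_mul, one_smul]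

end Groth.Agent.S4431
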