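import Groth.Statements.S4433
import Groth.Agent.DvrDom.Basic

set_option autoImplicit false
universe u
open EGA2

namespace Groth.Agent.S4433

/-- Let A be a Noetherian local domain that is not a field, K its field of fractions and L a finitely
generated field extension of K. Then there is a discrete valuation subring of L, with fraction field
L, which contains the image of A and dominates A (elements of the maximal ideal of A have valuation
less than one). -/
theorem result (A : Type u) [CommRing A] [IsDomain A] [IsNoetherianRing A]
    [IsLocalRing A] (hA : ¬ IsField A) (K : Type u) [Field K] [Algebra A K] [IsFractionRing A K]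
    (L : Type u) [Field L] [Algebra K L] [Algebra A L] [IsScalarTower A K L] (hfg : (⊤ : IntermediateField K L).FG) :
    ∃ R : ValuationSubring L, IsDiscreteValuationRing R ∧ (∀ a : A, algebraMap A L a ∈ R) ∧
      ∀ a ∈ IsLocalRing.maximalIdeal A, R.valuation (algebraMap A L a) < 1 := by
  classical
  have hinj : Function.Injective (algebraMap A L) := by
    rw [IsScalarTower.algebraMap_eq A K L]
    exact (algebraMap K L).injective.comp (IsFractionRing.injective A K)
  obtain ⟨G, hG⟩ := hfg
  refine DvrDom.exists_dvr A hA hinj G (top_le_iff.mp ?_)
  have hK : Set.range (algebraMap K L) ⊆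
      (Subfield.closure (Set.range (algebraMap A L) ∪ (G : Set L)) : Set L) := by
    rintro _ ⟨k, rfl⟩
    obtain ⟨a, b, -, rfl⟩ := IsFractionRing.div_surjective A k
    rw [map_div₀, ← IsScalarTower.algebraMap_apply, ← IsScalarTower.algebraMap_apply]
    exact Subfield.div_mem _ (Subfield.subset_closure (Or.inl ⟨a, rfl⟩))
      (Subfield.subset_closure (Or.inl ⟨b, rfl⟩))
  intro x _
  have hx : x ∈ IntermediateField.adjoin K (G : Set L) := hG ▸ trivial
  rw [← IntermediateField.mem_toSubfield, IntermediateField.adjoin_toSubfield] at hx
  refine Subfield.closure_le.mpr ?_ hx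
  rintro y (hy | hy)
  · exact hK hy
  · exact Subfield.subset_closure (Or.inr hy)

end Groth.Agent.S4433
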