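import Groth.Statements.S4434
import Groth.Agent.DvrDom.Basic
import Mathlib

set_option autoImplicit false
universe u
open EGA2

namespace Groth.Agent.S4434

/-- Let A be a Noetherian domain with field of fractions K and L a finitely generated field extension of
K. The integral closure of A in L is the intersection of the discrete valuation subrings of L (with
fraction field L) containing the image of A: an element of L is integral over A exactly when it
belongs to all of them. -/
theorem result (A : Type u) [CommRing A] [IsDomain A] [IsNoetherianRing A]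
    (K : Type u) [Field K] [Algebra A K] [IsFractionRing A K]
    (L : Type u) [Field L] [Algebra K L] [Algebra A L] [IsScalarTower A K L] (hfg : (⊤ : IntermediateField K L).FG) (x : L) :
    IsIntegral A x ↔ ∀ R : ValuationSubring L, IsDiscreteValuationRing R → (∀ a : A, algebraMap A L a ∈ R) → x ∈ R := by
  classical
  constructor
  · intro hx R _ hA
    let f : A →+* R := (algebraMap A L).codRestrict R.toSubring hA
    letI : Algebra A R := f.toAlgebra
    haveI : IsScalarTower A R L := IsScalarTower.of_algebraMap_eq fun _ => rfl
    obtain ⟨y, hy⟩ := IsIntegrallyClosed.isIntegral_iff.1 (hx.tower_top (A := R))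
    exact hy ▸ y.2
  · intro h
    by_contra hz
    have hz0 : x ≠ 0 := fun h0 => hz (h0 ▸ isIntegral_zero)
    let T : Subalgebra A L := Algebra.adjoin A {x⁻¹}
    haveI : IsNoetherianRing T := isNoetherianRing_of_fg ⟨{x⁻¹}, by simp [T]⟩
    let t : T := ⟨x⁻¹, Algebra.self_mem_adjoin_singleton A _⟩
    have ht : ¬ IsUnit t := by
      rintro ⟨u, hu⟩
      apply hz
      have hxT : x ∈ T := by
        have hmul : ((u⁻¹ : Tˣ) : T).1 * x⁻¹ = 1 := by
          have := congrArg Subtype.val (Units.inv_mul u)
          rw [hu] at this
          exact this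
        have : ((u⁻¹ : Tˣ) : T).1 = x := by rw [← mul_inv_eq_one₀ hz0]; exact hmul
        exact this ▸ ((u⁻¹ : Tˣ) : T).2
      rw [show T = (Polynomial.aeval x⁻¹).range from Algebra.adjoin_singleton_eq_range_aeval A x⁻¹] at hxT
      obtain ⟨P, hP⟩ := hxT
      refine ⟨Polynomial.X ^ (P.natDegree + 1) - P.reflect P.natDegree, ?_, ?_⟩
      · refine Polynomial.monic_X_pow_sub ((Polynomial.natDegree_le_iff_degree_le.mp ?_).trans_lt
          (by exact_mod_cast Nat.lt_succ_self _))
        exact (Polynomial.natDegree_reflect_le).trans (max_self _).le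
      · rw [Polynomial.eval₂_sub, Polynomial.eval₂_X_pow, sub_eq_zero]
        haveI : Invertible x⁻¹ := invertibleOfNonzero (inv_ne_zero hz0)
        have h2 := Polynomial.eval₂_reflect_mul_pow (algebraMap A L) x⁻¹ P.natDegree P le_rfl
        rw [invOf_eq_inv, inv_inv] at h2
        change Polynomial.aeval x⁻¹ P = x at hP
        rw [Polynomial.aeval_def] at hP
        rw [hP] at h2
        have h4 : x ^ P.natDegree * (Polynomial.eval₂ (algebraMap A L) x (P.reflect P.natDegree) * x⁻¹ ^ P.natDegree) =
            Polynomial.eval₂ (algebraMap A L) x (P.reflect P.natDegree) := by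
          rw [mul_left_comm, ← mul_pow, mul_inv_cancel₀ hz0, one_pow, _root_.mul_one]
        rw [h2] at h4
        rw [pow_succ]
        exact h4
    obtain ⟨M, hM, htM⟩ := exists_max_ideal_of_mem_nonunits (mem_nonunits_iff.mpr ht)
    haveI := hM.isPrime
    let C := Localization.AtPrime M
    have hu : ∀ m : M.primeCompl, IsUnit (algebraMap T L m.1) := fun m => IsUnit.mk0 _ fun h0 => m.2 (by
      rw [show m.1 = 0 from Subtype.ext h0]; exact M.zero_mem)
    letI : Algebra C L := (IsLocalization.lift hu).toAlgebra
    have hTC : ∀ y : T, algebraMap C L (algebraMap T C y) = y.1 := fun y => IsLocalization.lift_eq hu y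
    haveI : IsNoetherianRing C := IsLocalization.isNoetherianRing M.primeCompl C inferInstance
    haveI : IsDomain C := IsLocalization.isDomain_localization M.primeCompl_le_nonZeroDivisors
    have hinj : Function.Injective (algebraMap C L) := by
      rw [injective_iff_map_eq_zero]
      intro c hc
      obtain ⟨a, m, rfl⟩ := IsLocalization.exists_mk'_eq M.primeCompl c
      have h1 := congrArg (algebraMap C L) (IsLocalization.mk'_spec' C a m)
      rw [map_mul, hc, mul_zero, hTC] at h1
      rw [IsLocalization.mk'_eq_zero_iff]
      exact ⟨1, by rw [Submonoid.coe_one, one_mul]; exact Subtype.ext h1.symm⟩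
    have htC : algebraMap T C t ∈ IsLocalRing.maximalIdeal C :=
      (IsLocalization.AtPrime.to_map_mem_maximal_iff C M t).mpr htM
    have hC : ¬ IsField C := fun hf => by
      rw [IsLocalRing.isField_iff_maximalIdeal_eq.mp hf, Ideal.mem_bot] at htC
      exact inv_ne_zero hz0 (by have := hTC t; rwa [htC, map_zero, eq_comm] at this)
    obtain ⟨G, hG⟩ := hfg
    obtain ⟨O, hO, hCO, hlt⟩ := DvrDom.exists_dvr C (L := L) hC hinj G (by
      refine top_le_iff.mp fun y _ => ?_
      have hA : ∀ a, algebraMap A L a ∈ Set.range (algebraMap C L) := fun a =>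
        ⟨algebraMap T C (algebraMap A T a), hTC _⟩
      let S : IntermediateField K L := Subfield.toIntermediateField
        (Subfield.closure (Set.range (algebraMap C L) ∪ (G : Set L))) (fun k => by
          obtain ⟨b, c, -, rfl⟩ := IsFractionRing.div_surjective (A := A) k
          rw [map_div₀, ← IsScalarTower.algebraMap_apply, ← IsScalarTower.algebraMap_apply]
          exact div_mem (Subfield.subset_closure (Or.inl (hA b))) (Subfield.subset_closure (Or.inl (hA c))))
      have : (⊤ : IntermediateField K L) ≤ S := by
        rw [← hG, IntermediateField.adjoin_le_iff]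
        exact fun g hg => Subfield.subset_closure (Or.inr hg)
      exact this trivial)
    have hzO := h O hO fun a => by
      rw [show algebraMap A L a = algebraMap C L (algebraMap T C (algebraMap A T a)) from (hTC (algebraMap A T a)).symm]
      exact hCO _
    have h1 : O.valuation x ≤ 1 := (O.valuation_le_one_iff x).mpr hzO
    have h2 : O.valuation x⁻¹ < 1 := by
      have := hlt _ htC
      rwa [hTC] at this
    have h3 : O.valuation x * O.valuation x⁻¹ = 1 := by rw [← map_mul, mul_inv_cancel₀ hz0, map_one]
    exact absurd h3 (ne_of_lt ((mul_le_of_le_one_left zero_le h1).trans_lt h2))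

end Groth.Agent.S4434
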