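import Groth.Statements.S4437
import Mathlib
import Groth.Agent.HenselLib.Split
-- import your own Groth.Agent.* helpers here

set_option autoImplicit false
universe u
open CategoryTheory CategoryTheory.Limits AlgebraicGeometry
open EGA2

namespace Groth.Agent.S4437

/-- Let A be a complete Noetherian local ring and f : X ⟶ Spec A a separated quasi-finite morphism (of
finite type with discrete fibres). Then X splits as a disjoint sum of two open subschemes, one
finite over Spec A and containing the fibre over the closed point, the other not meeting that fibre: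
there is an open and closed U ⊆ X, finite over Spec A, containing every point lying over the closed
point. -/
theorem result (A : Type u) [CommRing A] [IsLocalRing A]
    [IsNoetherianRing A] [IsAdicComplete (IsLocalRing.maximalIdeal A) A] (X : Scheme.{u})
    (f : X ⟶ Spec (CommRingCat.of A)) [LocallyOfFiniteType f] [QuasiCompact f] [IsSeparated f] [LocallyQuasiFinite f] :
    ∃ U : X.Opens, IsClosed (U : Set X) ∧ IsFinite (U.ι ≫ f) ∧
      ∀ x : X, f.base x = IsLocalRing.closedPoint A → x ∈ U := by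
  let P : X.Opens → Prop := fun U => IsClosed (U : Set X) ∧ IsFinite (U.ι ≫ f)
  have hbot : P ⊥ := by
    refine ⟨by simp, ?_⟩
    haveI : IsAffine ((⊥ : X.Opens) : Scheme.{u}) := isAffineOpen_bot X
    haveI : IsEmpty ((⊥ : X.Opens) : Scheme.{u}) := ⟨fun z => z.2⟩
    haveI : IsClosedImmersion ((⊥ : X.Opens).ι ≫ f) := IsClosedImmersion.of_surjective_of_isAffine _ fun z => ⟨0, Subsingleton.elim _ _⟩
    infer_instance
  have hsup : ∀ U V, P U → P V → P (U ⊔ V) := by
    rintro U V ⟨hUc, hU⟩ ⟨hVc, hV⟩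
    refine ⟨by rw [TopologicalSpace.Opens.coe_sup]; exact hUc.union hVc, ?_⟩
    haveI := hU
    haveI := hV
    let h := coprod.desc (X.homOfLE (le_sup_left : U ≤ U ⊔ V)) (X.homOfLE (le_sup_right : V ≤ U ⊔ V))
    have hh : h ≫ (U ⊔ V).ι ≫ f = coprod.desc (U.ι ≫ f) (V.ι ≫ f) := by
      apply coprod.hom_ext <;> simp [h, Scheme.homOfLE_ι_assoc]
    haveI : Surjective h := ⟨fun z => by
      rcases z.2 with hz | hz
      · refine ⟨(coprod.inl : (U : Scheme.{u}) ⟶ _) ⟨z.1, hz⟩, ?_⟩
        change ((coprod.inl : (U : Scheme.{u}) ⟶ _) ≫ h) ⟨z.1, hz⟩ = z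
        rw [coprod.inl_desc]
        apply Subtype.ext
        simp
      · refine ⟨(coprod.inr : (V : Scheme.{u}) ⟶ _) ⟨z.1, hz⟩, ?_⟩
        change ((coprod.inr : (V : Scheme.{u}) ⟶ _) ≫ h) ⟨z.1, hz⟩ = z
        rw [coprod.inr_desc]
        apply Subtype.ext
        simp⟩
    haveI : UniversallyClosed (h ≫ (U ⊔ V).ι ≫ f) := by rw [hh]; infer_instance
    haveI : UniversallyClosed ((U ⊔ V).ι ≫ f) := .of_comp_surjective h _
    haveI : QuasiCompact ((U ⊔ V).ι ≫ f) := inferInstance
    haveI : IsProper ((U ⊔ V).ι ≫ f) := ⟨⟩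
    exact IsFinite.of_isProper_of_locallyQuasiFinite _
  have hloc : ∀ x : X, f x = IsLocalRing.closedPoint A → ∃ U : X.Opens, x ∈ U ∧ P U := by
    intro x hx
    obtain ⟨V, hV, hxV, -⟩ := exists_isAffineOpen_mem_and_subset (X := X) (x := x) (U := ⊤) trivial
    let φ : CommRingCat.of A ⟶ Γ(X, V) := Spec.preimage (hV.fromSpec ≫ f)
    have hφ : Spec.map φ = hV.fromSpec ≫ f := Spec.map_preimage _
    have hft : φ.hom.FiniteType := by
      rw [← HasRingHomProperty.Spec_iff (P := @LocallyOfFiniteType), hφ]; infer_instance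
    have hqf : φ.hom.QuasiFinite := by
      rw [← HasRingHomProperty.Spec_iff (P := @LocallyQuasiFinite), hφ]; infer_instance
    algebraize [φ.hom]
    obtain ⟨e, he, hfin, htop⟩ := HenselLib.exists_split_quasiFinite (R := A) (S := Γ(X, V))
    let q : Γ(X, V) ⟶ CommRingCat.of (Γ(X, V) ⧸ Ideal.span ({1 - e} : Set Γ(X, V))) :=
      CommRingCat.ofHom (Ideal.Quotient.mk _)
    haveI : IsLocalization.Away e (Γ(X, V) ⧸ Ideal.span ({1 - e} : Set Γ(X, V))) :=
      IsLocalization.away_of_isIdempotentElem he Ideal.mk_ker Ideal.Quotient.mk_surjective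
    haveI : IsOpenImmersion (Spec.map q) := IsOpenImmersion.of_isLocalization e
    let j := Spec.map q ≫ hV.fromSpec
    have hjf : j ≫ f = Spec.map (φ ≫ q) := by rw [Category.assoc, ← hφ, ← Spec.map_comp]
    haveI : IsFinite (j ≫ f) := by
      rw [hjf, IsFinite.SpecMap_iff]
      exact RingHom.finite_algebraMap.2 hfin
    haveI : IsFinite j := IsFinite.of_comp j f
    refine ⟨j.opensRange, ?_, ?_, ?_⟩
    · obtain ⟨p, rfl⟩ : x ∈ Set.range hV.fromSpec := by rw [hV.range_fromSpec]; exact hxV
      let p' : PrimeSpectrum Γ(X, V) := p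
      have hpe : e ∉ p'.asIdeal := by
        intro hep
        have hle : Ideal.span ({e} : Set Γ(X, V)) ≤ p'.asIdeal := by rwa [Ideal.span_le, Set.singleton_subset_iff]
        have hm : (IsLocalRing.maximalIdeal A).map (algebraMap A Γ(X, V)) ≤ p'.asIdeal := by
          have h1 : Spec.map φ p = IsLocalRing.closedPoint A := by rw [hφ, Scheme.Hom.comp_apply]; exact hx
          rw [Ideal.map_le_iff_le_comap]
          exact (congrArg PrimeSpectrum.asIdeal h1).ge
        have h2 := Ideal.map_mono (f := Ideal.Quotient.mk (Ideal.span ({e} : Set Γ(X, V)))) hm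
        rw [Ideal.map_map] at h2
        have h3 : (⊤ : Ideal (Γ(X, V) ⧸ Ideal.span ({e} : Set Γ(X, V)))) ≤ p'.asIdeal.map (Ideal.Quotient.mk _) := htop ▸ h2
        have h4 := Ideal.comap_mono (f := Ideal.Quotient.mk (Ideal.span ({e} : Set Γ(X, V)))) h3
        rw [Ideal.comap_top, Ideal.comap_map_of_surjective _ Ideal.Quotient.mk_surjective, ← RingHom.ker_eq_comap_bot, Ideal.mk_ker, sup_eq_left.2 hle] at h4
        exact p'.2.ne_top (top_le_iff.1 h4)
      have hp : p ∈ Set.range (Spec.map q) := by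
        have h := PrimeSpectrum.localization_away_comap_range (Γ(X, V) ⧸ Ideal.span ({1 - e} : Set Γ(X, V))) e
        exact h.ge hpe
      obtain ⟨w, hw⟩ := hp
      exact ⟨w, by rw [Scheme.Hom.comp_apply, hw]⟩
    · exact j.isClosedMap.isClosed_range
    · have : j.opensRange.ι ≫ f = j.isoOpensRange.inv ≫ j ≫ f := by
        rw [← Category.assoc j.isoOpensRange.inv j f, Scheme.Hom.isoOpensRange_inv_comp]
      rw [this]
      infer_instance
  haveI : CompactSpace X := QuasiCompact.compactSpace_of_compactSpace f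
  have hfin : (f ⁻¹' {(IsLocalRing.closedPoint A : ↥(Spec (CommRingCat.of A)))}).Finite :=
    f.finite_preimage_singleton _
  have hind : ∀ s : Set X, s.Finite → (∀ x ∈ s, f x = IsLocalRing.closedPoint A) → ∃ U : X.Opens, s ⊆ U ∧ P U := by
    intro s hs
    induction s, hs using Set.Finite.induction_on with
    | empty => exact fun _ => ⟨⊥, Set.empty_subset _, hbot⟩
    | insert _ _ ih =>
      intro h
      obtain ⟨U, hsU, hU⟩ := ih fun x hx => h x (Set.mem_insert_of_mem _ hx)
      obtain ⟨W, hxW, hW⟩ := hloc _ (h _ (Set.mem_insert _ _))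
      exact ⟨W ⊔ U, Set.insert_subset (Or.inl hxW) fun z hz => Or.inr (hsU hz), hsup _ _ hW hU⟩
  obtain ⟨U, hsU, hUc, hUf⟩ := hind _ hfin fun x hx => hx
  exact ⟨U, hUc, hUf, fun x hx => hsU hx⟩

end Groth.Agent.S4437
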