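import Mathlib
import Groth.Statements.S4441
-- import your own Groth.Agent.* helpers here

set_option autoImplicit false
universe u
open CategoryTheory CategoryTheory.Limits AlgebraicGeometry
open EGA2

namespace Groth.Agent.S4441

/-- Let X and Y be integral separated schemes and f : X ⟶ Y a dominant, quasi-compact, universally
closed morphism, ξ the generic point of X. Every valuation subring R of the function field K(X) of X
which dominates the local ring of Y at a point y (via O_{Y,y} → O_{Y,f(ξ)} → K(X): image inside R,
maximal ideal into the maximal ideal of R) also dominates the local ring of X at some point x (via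
O_{X,x} → K(X)). -/
theorem result {X Y : Scheme.{u}} [IsIntegral X] [IsIntegral Y]
    [X.IsSeparated] [Y.IsSeparated] (f : X ⟶ Y) [IsDominant f] [QuasiCompact f] [UniversallyClosed f]
    (R : ValuationSubring X.functionField) (y : Y) (hy : f.base (genericPoint X) ⤳ y)
    (hdom : (∀ a : Y.presheaf.stalk y, (Y.presheaf.stalkSpecializes hy ≫ f.stalkMap (genericPoint X)).hom a ∈ R) ∧
      ∀ a ∈ IsLocalRing.maximalIdeal (Y.presheaf.stalk y),
        R.valuation ((Y.presheaf.stalkSpecializes hy ≫ f.stalkMap (genericPoint X)).hom a) < 1) :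
    ∃ x : X, (∀ a : X.presheaf.stalk x, algebraMap (X.presheaf.stalk x) X.functionField a ∈ R) ∧
      ∀ a ∈ IsLocalRing.maximalIdeal (X.presheaf.stalk x), R.valuation (algebraMap (X.presheaf.stalk x) X.functionField a) < 1 := by
  have hE : ValuativeCriterion.Existence f := by
    have h := UniversallyClosed.eq_valuativeCriterion
    have hf : (@UniversallyClosed ⊓ @QuasiCompact : MorphismProperty Scheme.{u}) f := ⟨inferInstance, inferInstance⟩
    first
      | exact (h ▸ (inferInstance : UniversallyClosed f)).1
      | (rw [UniversallyClosed.eq_valuativeCriterion] at *; exact (‹_› : (_ ⊓ _ : MorphismProperty Scheme.{u}) f).1)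
  let φ : Y.presheaf.stalk y ⟶ X.functionField := Y.presheaf.stalkSpecializes hy ≫ f.stalkMap (genericPoint X)
  let ψ : Y.presheaf.stalk y ⟶ .of R := CommRingCat.ofHom (φ.hom.codRestrict R.toSubring hdom.1)
  have w : X.fromSpecStalk (genericPoint X) ≫ f =
      Spec.map (CommRingCat.ofHom (algebraMap R X.functionField)) ≫ Spec.map ψ ≫ Y.fromSpecStalk y := by
    rw [← Scheme.SpecMap_stalkMap_fromSpecStalk, ← Scheme.SpecMap_stalkSpecializes_fromSpecStalk hy]
    simp_rw [← Spec.map_comp_assoc]
    rfl
  obtain ⟨l, hl₁, hl₂⟩ := (hE { R := R, K := X.functionField, commSq := ⟨w⟩, .. }).exists_lift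
  dsimp only at hl₁ hl₂
  let x := l (IsLocalRing.closedPoint R)
  let θ := Scheme.stalkClosedPointTo l
  have hθ : θ ≫ CommRingCat.ofHom (algebraMap R X.functionField) =
      X.presheaf.stalkSpecializes (genericPoint_specializes x) := by
    apply Spec.map_injective
    rw [← cancel_mono (X.fromSpecStalk x), Spec.map_comp, Category.assoc, Scheme.Spec_stalkClosedPointTo_fromSpecStalk,
      Scheme.SpecMap_stalkSpecializes_fromSpecStalk]
    exact hl₁
  have heq : ∀ a : X.presheaf.stalk x, algebraMap (X.presheaf.stalk x) X.functionField a = (θ.hom a : X.functionField) := fun a =>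
    (ConcreteCategory.congr_hom hθ a).symm
  refine ⟨x, fun a => heq a ▸ (θ.hom a).2, fun a ha => ?_⟩
  rw [heq a]
  refine (R.valuation_lt_one_iff (θ.hom a)).1 ?_
  exact map_nonunit θ.hom a ha

end Groth.Agent.S4441
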