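import Groth.Statements.S4442
import Groth.Agent.LocalDim.Closure
import Groth.Agent.LocalDim.Basic
-- import your own Groth.Agent.* helpers here

set_option autoImplicit false
universe u
open CategoryTheory CategoryTheory.Limits AlgebraicGeometry
attribute [local instance] Curv2.resAlgebra
open EGA2

namespace Groth.Agent.S4442

/-- (a) ⇔ (b): let X be a scheme of finite type over a field k. The residue fields of the generic points
of the irreducible components of X all have transcendence degree one over k if and only if the local
ring of X at every closed point has dimension one. (The published statement has a third equivalent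
condition: the irreducible closed subsets of X other than the irreducible components are exactly the
closed points of X. This row states only the equivalence of the first two.) -/
theorem result (k : Type u) [Field k] (X : Scheme.{u})
    [X.Over (Spec (CommRingCat.of k))] [LocallyOfFiniteType (X ↘ (Spec (CommRingCat.of k)))]
    [QuasiCompact (X ↘ (Spec (CommRingCat.of k)))] :
    (∀ x : X, closure ({x} : Set X) ∈ irreducibleComponents (X : Type u) → Algebra.trdeg k (X.residueField x) = 1) ↔
      ∀ x : X, IsClosed ({x} : Set X) → ringKrullDim (X.presheaf.stalk x) = 1 := by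
  set s := X ↘ (Spec (CommRingCat.of k))
  haveI : JacobsonSpace X := LocallyOfFiniteType.jacobsonSpace s
  have hpt : ∀ x : X, IsClosed ({x} : Set X) → ∃ n : ℕ, ringKrullDim (X.presheaf.stalk x) = n ∧
      (∃ η : X, η ⤳ x ∧ FibDim.IsMax' η ∧ topologicalKrullDim (closure ({η} : Set X)) = n) ∧
      ∀ w : X, w ⤳ x → topologicalKrullDim (closure ({w} : Set X)) ≤ n := fun x hx => by
    obtain ⟨a, -, ha, h0⟩ := LocalDim.exists_localDim_eq_stalk k X x
    obtain ⟨n, hn, h1, h2⟩ := LocalDim.exists_localDim s x
    refine ⟨n, ?_, h1, h2⟩
    rw [h0 hx, Nat.cast_zero, add_zero] at ha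
    rw [← ha, hn]
  have htr : ∀ x : X, ∃ n : ℕ, Algebra.trdeg k (X.residueField x) = n ∧ topologicalKrullDim (closure ({x} : Set X)) = n :=
    fun x => FibDim.exists_trdeg s x (CommRingCat.ofHom (Curv2.resMap k X x)) (LocalDim.SpecMap_resMap k X x)
  refine ⟨fun h x hx => ?_, fun h η hη => ?_⟩
  · obtain ⟨n, hn, ⟨ζ, -, hζ, hζn⟩, -⟩ := hpt x hx
    obtain ⟨m, hm, hm'⟩ := htr ζ
    obtain rfl : m = n := by exact_mod_cast hm'.symm.trans hζn
    obtain rfl : m = 1 := by exact_mod_cast hm.symm.trans (h ζ (FibDim.closure_mem_components hζ))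
    simpa using hn
  · obtain ⟨m, hm, hm'⟩ := htr η
    obtain ⟨x, hxη, hxc⟩ := nonempty_inter_closedPoints (Z := closure ({η} : Set X))
      ⟨η, subset_closure rfl⟩ isClosed_closure.isLocallyClosed
    have hxη' : η ⤳ x := specializes_iff_mem_closure.2 hxη
    obtain ⟨n, hn, ⟨ζ, hζx, hζ, hζn⟩, hall⟩ := hpt x hxc
    obtain rfl : n = 1 := by exact_mod_cast hn.symm.trans (h x hxc)
    have hm1 : m ≤ 1 := by exact_mod_cast hm' ▸ hall η hxη'
    have hm0 : m ≠ 0 := by
      rintro rfl
      have hne : x ≠ η := by
        rintro rfl
        have hζη : ζ = x := by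
          refine (hζx.antisymm (specializes_iff_mem_closure.2 ?_)).eq
          obtain ⟨μ, hμ, hμmax⟩ := FibDim.exists_isMax'_specializes x
          have h1 := hη.2 (y := closure ({ζ} : Set X)) isIrreducible_singleton.closure
            (closure_minimal (Set.singleton_subset_iff.2 hζx.mem_closure) isClosed_closure)
          exact h1 (subset_closure rfl)
        rw [hζη, hm'] at hζn
        exact absurd (Nat.cast_inj.1 (by exact_mod_cast hζn : ((0 : ℕ) : WithBot ℕ∞) = ((1 : ℕ) : WithBot ℕ∞))) (by simp)
      let T := closure ({η} : Set X)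
      let c : T → TopologicalSpace.IrreducibleCloseds T := fun a =>
        ⟨closure {a}, isIrreducible_singleton.closure, isClosed_closure⟩
      have hlt : c ⟨x, hxη⟩ < c ⟨η, subset_closure rfl⟩ := by
        refine lt_of_le_of_ne (closure_minimal (Set.singleton_subset_iff.2 ?_) isClosed_closure) fun he => ?_
        · exact ((subtype_specializes_iff _ _).2 hxη').mem_closure
        · exact hne (congrArg Subtype.val ((inseparable_iff_closure_eq.2 (congrArg (fun Z : TopologicalSpace.IrreducibleCloseds T => (Z : Set T)) he)).eq))
      have h3 : ((((RelSeries.singleton _ (c ⟨x, hxη⟩)).snoc (c ⟨η, subset_closure rfl⟩) hlt : LTSeries (TopologicalSpace.IrreducibleCloseds T)).length : ℕ) : WithBot ℕ∞) ≤ topologicalKrullDim T :=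
        Order.LTSeries.length_le_krullDim _
      rw [show topologicalKrullDim T = ((0 : ℕ) : WithBot ℕ∞) from hm', Nat.cast_le] at h3
      exact absurd h3 (by show ¬ (0 + 0 + 1 ≤ 0); omega)
    obtain rfl : m = 1 := by omega
    simpa using hm

end Groth.Agent.S4442
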