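import Groth.Statements.S4443
import Groth.Agent.BirQF.DimLE
import Groth.Agent.CodimOneExt.Dim
-- import your own Groth.Agent.* helpers here

set_option autoImplicit false
universe u
open CategoryTheory CategoryTheory.Limits AlgebraicGeometry
open EGA2

namespace Groth.Agent.S4443

/-- Let X be an irreducible algebraic curve over a field k (separated and of finite type over k,
nonempty, irreducible, local rings at closed points of dimension one). Then the generic point is the
only non-closed point of X, and the closed subsets of X distinct from X are exactly the finite sets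
of closed points. (The published statement adds that these are also exactly the subsets of X that
are not dense in X, an immediate consequence; this row does not state it.) -/
theorem result (k : Type u) [Field k] (X : Scheme.{u})
    [X.Over (Spec (CommRingCat.of k))] [LocallyOfFiniteType (X ↘ (Spec (CommRingCat.of k)))]
    [QuasiCompact (X ↘ (Spec (CommRingCat.of k)))] [IsSeparated (X ↘ (Spec (CommRingCat.of k)))]
    [Nonempty X] [IrreducibleSpace X] (hcurve : ∀ x : X, IsClosed ({x} : Set X) → ringKrullDim (X.presheaf.stalk x) = 1) :
    (∀ x : X, ¬ IsClosed ({x} : Set X) → x = genericPoint X) ∧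
      ∀ F : Set X, IsClosed F → (F ≠ Set.univ ↔ (F.Finite ∧ ∀ x ∈ F, IsClosed ({x} : Set X))) := by
  set s := X ↘ (Spec (CommRingCat.of k))
  haveI : IsLocallyNoetherian X := LocallyOfFiniteType.isLocallyNoetherian s
  haveI : CompactSpace X := QuasiCompact.compactSpace_of_compactSpace s
  haveI : IsNoetherian X := {}
  haveI : JacobsonSpace X := LocallyOfFiniteType.jacobsonSpace s
  have hdim : ∀ y : X, ringKrullDim (X.presheaf.stalk y) ≤ 1 := fun y => by
    obtain ⟨q, hq, hqc⟩ := nonempty_inter_closedPoints (Z := closure ({y} : Set X))
      ⟨y, subset_closure rfl⟩ isClosed_closure.isLocallyClosed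
    exact (CodimOneExt.ringKrullDim_stalk_le_of_specializes (specializes_iff_mem_closure.2 hq)).trans (hcurve q hqc).le
  have hclosed : ∀ x : X, x ≠ genericPoint X → IsClosed ({x} : Set X) := fun x hx => by
    refine closure_eq_iff_isClosed.1 (Set.Subset.antisymm (fun q hq => ?_) subset_closure)
    exact (BirQF.eq_of_specializes_of_stalk_dim_le_one (hdim q) hx (specializes_iff_mem_closure.2 hq)).symm
  have hη : ¬ IsClosed ({genericPoint X} : Set X) := fun h => by
    have h1 := hcurve _ h
    have h2 : ringKrullDim (X.presheaf.stalk (genericPoint X)) ≤ 0 := by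
      have : Subsingleton (PrimeSpectrum (X.presheaf.stalk (genericPoint X))) := ⟨fun a b => by
        have hz : ∀ p, X.fromSpecStalk (genericPoint X) p = genericPoint X := fun p => by
          have hp : X.fromSpecStalk (genericPoint X) p ∈ Set.range (X.fromSpecStalk (genericPoint X)) := ⟨p, rfl⟩
          rw [Scheme.range_fromSpecStalk] at hp
          exact (hp.antisymm (genericPoint_specializes _)).eq
        exact (X.fromSpecStalk (genericPoint X)).isEmbedding.injective ((hz a).trans (hz b).symm)⟩
      exact Order.krullDim_nonpos_of_subsingleton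
    rw [h1] at h2
    exact absurd h2 (by norm_num)
  refine ⟨fun x hx => by_contra fun h => hx (hclosed x h), fun F hF => ⟨fun hne => ?_, fun h he => ?_⟩⟩
  · have hgF : genericPoint X ∉ F := fun h => hne (Set.eq_univ_of_forall fun z => (genericPoint_specializes z).mem_closed hF h)
    have hcl : ∀ x ∈ F, IsClosed ({x} : Set X) := fun x hx => hclosed x fun h => hgF (h ▸ hx)
    refine ⟨?_, hcl⟩
    obtain ⟨T, hTfin, hTc, hTi, rfl⟩ := TopologicalSpace.NoetherianSpace.exists_finite_set_isClosed_irreducible hF
    refine hTfin.sUnion fun t ht => ?_
    obtain ⟨p, hp⟩ := QuasiSober.sober (hTi t ht) (hTc t ht)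
    rw [← hp.def, (hcl p ⟨t, ht, hp.def ▸ subset_closure rfl⟩).closure_eq]
    exact Set.finite_singleton p
  · exact hη (h.2 _ (he ▸ Set.mem_univ _))

end Groth.Agent.S4443
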