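import Groth.Statements.S4445
import Groth.Agent.S2344
import Groth.Agent.DeltaBC.Geom
-- import your own Groth.Agent.* helpers here

set_option autoImplicit false
universe u
open CategoryTheory CategoryTheory.Limits AlgebraicGeometry
attribute [local instance] Curv2.stalkAlgebra
open EGA2

namespace Groth.Agent.S4445

/-- Let X be a normal irreducible algebraic curve over a field k with field of rational functions K, and
Y an integral complete (proper over k) algebraic curve with field of rational functions L. Dominant
k-morphisms X ⟶ Y correspond bijectively to k-embeddings L → K: for every k-algebra homomorphism φ :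
L → K there is exactly one k-morphism u : X ⟶ Y mapping the generic point of X to the generic point
of Y and inducing φ on the stalks at the generic points. -/
theorem result (k : Type u) [Field k] (X Y : Scheme.{u})
    [X.Over (Spec (CommRingCat.of k))] [LocallyOfFiniteType (X ↘ (Spec (CommRingCat.of k)))]
    [QuasiCompact (X ↘ (Spec (CommRingCat.of k)))] [IsSeparated (X ↘ (Spec (CommRingCat.of k)))] [IsIntegral X]
    (hX : ∀ x : X, IsClosed ({x} : Set X) → ringKrullDim (X.presheaf.stalk x) = 1) (hnorm : Pi1.IsNormalScheme X)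
    [Y.Over (Spec (CommRingCat.of k))] [IsProper (Y ↘ (Spec (CommRingCat.of k)))] [IsIntegral Y]
    (hY : ∀ y : Y, IsClosed ({y} : Set Y) → ringKrullDim (Y.presheaf.stalk y) = 1)
    (φ : Y.functionField →ₐ[k] X.functionField) :
    ∃! u : X ⟶ Y, u ≫ (Y ↘ (Spec (CommRingCat.of k))) = X ↘ (Spec (CommRingCat.of k)) ∧
      ∃ hu : u.base (genericPoint X) = genericPoint Y,
        (Y.presheaf.stalkSpecializes (specializes_of_eq hu) ≫ u.stalkMap (genericPoint X)).hom = (φ : Y.functionField →+* X.functionField) := by
  set sX := X ↘ (Spec (CommRingCat.of k))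
  set sY := Y ↘ (Spec (CommRingCat.of k))
  let ψ : Y.functionField ⟶ X.functionField := CommRingCat.ofHom (φ : Y.functionField →+* X.functionField)
  let φ0 : Spec X.functionField ⟶ Y := Spec.map ψ ≫ Y.fromSpecStalk (genericPoint Y)
  have hψ : CommRingCat.ofHom (Curv2.stalkMap k Y (genericPoint Y)) ≫ ψ = CommRingCat.ofHom (Curv2.stalkMap k X (genericPoint X)) := by
    ext c
    exact φ.commutes c
  have hover : φ0 ≫ sY = X.fromSpecStalk (genericPoint X) ≫ sX := by
    rw [Category.assoc, DeltaBC.fromSpecStalk_over Y, DeltaBC.fromSpecStalk_over X, ← hψ, Spec.map_comp]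
  have key : ∀ v : X ⟶ Y, (∃ hu : v.base (genericPoint X) = genericPoint Y,
      (Y.presheaf.stalkSpecializes (specializes_of_eq hu) ≫ v.stalkMap (genericPoint X)).hom = (φ : Y.functionField →+* X.functionField)) ↔
      X.fromSpecStalk (genericPoint X) ≫ v = φ0 := by
    intro v
    constructor
    · rintro ⟨hu, he⟩
      rw [← Scheme.SpecMap_stalkMap_fromSpecStalk, show φ0 = Spec.map ψ ≫ Y.fromSpecStalk (genericPoint Y) from rfl,
        show ψ = Y.presheaf.stalkSpecializes (specializes_of_eq hu) ≫ v.stalkMap (genericPoint X) from CommRingCat.hom_ext he.symm,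
        Spec.map_comp, Category.assoc, Scheme.SpecMap_stalkSpecializes_fromSpecStalk]
    · intro hv
      have hu : v.base (genericPoint X) = genericPoint Y := by
        have h := congr($hv (IsLocalRing.closedPoint X.functionField))
        change v (X.fromSpecStalk (genericPoint X) (IsLocalRing.closedPoint (X.presheaf.stalk (genericPoint X)))) = _ at h
        rw [Scheme.fromSpecStalk_closedPoint] at h
        rw [h]
        refine ((?_ : φ0 (IsLocalRing.closedPoint X.functionField) ⤳ genericPoint Y).antisymm (genericPoint_specializes _)).eq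
        have hm : φ0 (IsLocalRing.closedPoint X.functionField) ∈ Set.range (Y.fromSpecStalk (genericPoint Y)) := ⟨_, rfl⟩
        rwa [Scheme.range_fromSpecStalk] at hm
      refine ⟨hu, ?_⟩
      have hsp : Spec.map (Y.presheaf.stalkSpecializes (specializes_of_eq hu) ≫ v.stalkMap (genericPoint X)) = Spec.map ψ := by
        rw [← cancel_mono (Y.fromSpecStalk (genericPoint Y)), Spec.map_comp, Category.assoc,
          Scheme.SpecMap_stalkSpecializes_fromSpecStalk, Scheme.SpecMap_stalkMap_fromSpecStalk, hv]
      exact congrArg CommRingCat.Hom.hom (Spec.map_injective hsp)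
  obtain ⟨U, hxU, f, hf1, hf2⟩ := spread_out_of_isGermInjective' sX sY φ0 hover
  obtain ⟨u, ⟨hu1, hu2⟩, -⟩ := Groth.Agent.S2344.result k X Y hX hnorm U (U.2.dense ⟨_, hxU⟩) f hf2
  have hu3 : X.fromSpecStalk (genericPoint X) ≫ u = φ0 := by
    rw [hf1, ← hu1, Scheme.Opens.fromSpecStalkOfMem_ι_assoc]
  refine ⟨u, ⟨hu2, (key u).2 hu3⟩, fun v hv => ?_⟩
  haveI : IsDominant (X.fromSpecStalk (genericPoint X)) := by
    refine ⟨fun z => ?_⟩
    refine closure_mono (Set.singleton_subset_iff.2 (show genericPoint X ∈ Set.range (X.fromSpecStalk (genericPoint X)) from ⟨_, Scheme.fromSpecStalk_closedPoint⟩)) ?_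
    exact specializes_iff_mem_closure.1 (genericPoint_specializes z)
  exact ext_of_isDominant_of_isSeparated sY (by rw [hv.1, hu2]) (X.fromSpecStalk (genericPoint X)) (((key v).1 hv.2).trans hu3.symm)

end Groth.Agent.S4445
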