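import Groth.Statements.S4449
import Groth.Agent.UnivClosed.GenericVal
-- import your own Groth.Agent.* helpers here

set_option autoImplicit false
universe u
open CategoryTheory CategoryTheory.Limits AlgebraicGeometry
open EGA2

namespace Groth.Agent.S4449


/-- Case of an arbitrary integral separated base: let Y and X be integral separated schemes and f : X ⟶
Y a dominant morphism of finite type, ξ the generic point of X. Suppose that every valuation subring
R of K(X) other than K(X) itself which dominates the local ring of Y at a point y (via O_{Y,y} →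
O_{Y,f(ξ)} → K(X)) dominates the local ring of X at some point x (via O_{X,x} → K(X)). Then f is
proper. (Compare the locally Noetherian variant with discrete valuation rings.) -/
theorem result {X Y : Scheme.{u}} [IsIntegral X] [IsIntegral Y]
    [X.IsSeparated] [Y.IsSeparated] (f : X ⟶ Y) [IsDominant f] [LocallyOfFiniteType f] [QuasiCompact f]
    (h : ∀ (R : ValuationSubring X.functionField), R ≠ ⊤ →
      ∀ (y : Y) (hy : f.base (genericPoint X) ⤳ y),
        ((∀ a : Y.presheaf.stalk y, (Y.presheaf.stalkSpecializes hy ≫ f.stalkMap (genericPoint X)).hom a ∈ R) ∧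
          ∀ a ∈ IsLocalRing.maximalIdeal (Y.presheaf.stalk y),
            R.valuation ((Y.presheaf.stalkSpecializes hy ≫ f.stalkMap (genericPoint X)).hom a) < 1) →
        ∃ x : X, (∀ a : X.presheaf.stalk x, algebraMap (X.presheaf.stalk x) X.functionField a ∈ R) ∧
          ∀ a ∈ IsLocalRing.maximalIdeal (X.presheaf.stalk x), R.valuation (algebraMap (X.presheaf.stalk x) X.functionField a) < 1) :
    IsProper f := by
  haveI : IsSeparated f :=
    IsSeparated.of_comp f (terminal.from Y)
  haveI := UnivClosed.GenericVal.universallyClosed_of_generic f fun η hη A y hy => by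
    obtain rfl : η = genericPoint X := by
      rw [irreducibleComponents_eq_singleton, Set.mem_singleton_iff] at hη
      exact (show IsGenericPoint η (⊤ : Set X) from hη).eq (genericPoint_spec X)
    let res := (X.residue (genericPoint X)).hom
    have hres : Function.Bijective res :=
      ⟨RingHom.injective _, Ideal.Quotient.mk_surjective⟩
    let R : ValuationSubring X.functionField := A.comap res
    let e : R ≃+* A := RingEquiv.ofBijective ((res.comp R.subtype).codRestrict A.toSubring fun a => a.2)
      ⟨fun a b hab => Subtype.ext (hres.1 (congrArg Subtype.val hab)), fun a => by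
        obtain ⟨b, hb⟩ := hres.2 a
        exact ⟨⟨b, show res b ∈ A from hb ▸ a.2⟩, Subtype.ext hb⟩⟩
    by_cases hAtop : A = ⊤
    · haveI : IsIso (CommRingCat.ofHom A.subtype) := (ConcreteCategory.isIso_iff_bijective _).2
        ⟨Subtype.val_injective, fun a => ⟨⟨a, hAtop ▸ ValuationSubring.mem_top a⟩, rfl⟩⟩
      refine ⟨CategoryTheory.inv (Spec.map (CommRingCat.ofHom A.subtype)) ≫ X.fromSpecResidueField (genericPoint X), ?_, IsIso.hom_inv_id_assoc _ _⟩
      rw [Category.assoc, ← hy, IsIso.inv_hom_id_assoc]
    have hR : R ≠ ⊤ := fun hR => hAtop (eq_top_iff.2 fun a _ => by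
      obtain ⟨b, rfl⟩ := hres.2 a
      exact (hR ▸ ValuationSubring.mem_top b : b ∈ R))
    let ψ : Y.presheaf.stalk (y (IsLocalRing.closedPoint A)) ⟶ CommRingCat.of A :=
      Scheme.stalkClosedPointTo y
    have hsp : f (genericPoint X) ⤳ y (IsLocalRing.closedPoint A) := by
      have h1 := congrArg (fun g : Spec (X.residueField (genericPoint X)) ⟶ Y =>
        g (IsLocalRing.closedPoint (X.residueField (genericPoint X)))) hy
      refine ((IsLocalRing.specializes_closedPoint
        ((Spec.map (CommRingCat.ofHom A.subtype)) (IsLocalRing.closedPoint (X.residueField (genericPoint X))))).map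
          y.continuous).trans' (specializes_of_eq ?_)
      exact ((congrArg f (Scheme.fromSpecResidueField_apply (genericPoint X) _)).symm.trans h1.symm)
    have hψy : Spec.map ψ ≫ Y.fromSpecStalk (y (IsLocalRing.closedPoint A)) = y :=
      Scheme.Spec_stalkClosedPointTo_fromSpecStalk (R := CommRingCat.of A) y
    have hψ : ψ ≫ CommRingCat.ofHom A.subtype =
        Y.presheaf.stalkSpecializes hsp ≫ f.stalkMap (genericPoint X) ≫ X.residue (genericPoint X) := by
      apply Spec.map_injective
      rw [← cancel_mono (Y.fromSpecStalk (y (IsLocalRing.closedPoint A)))]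
      rw [Spec.map_comp, Category.assoc, hψy, hy]
      rw [Spec.map_comp, Spec.map_comp, Category.assoc, Category.assoc,
        Scheme.SpecMap_stalkSpecializes_fromSpecStalk, Scheme.SpecMap_stalkMap_fromSpecStalk,
        Scheme.fromSpecResidueField, Category.assoc]
    have hψ' : ∀ a, res ((Y.presheaf.stalkSpecializes hsp ≫ f.stalkMap (genericPoint X)).hom a) = (ψ a : X.residueField (genericPoint X)) :=
      fun a => (congrArg (fun g : Y.presheaf.stalk (y (IsLocalRing.closedPoint A)) ⟶ X.residueField (genericPoint X) => g a) hψ).symm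
    have hmem : ∀ a, (Y.presheaf.stalkSpecializes hsp ≫ f.stalkMap (genericPoint X)).hom a ∈ R :=
      fun a => show res _ ∈ A from (hψ' a).symm ▸ (ψ a).2
    obtain ⟨x, hx, -⟩ := h R hR _ hsp ⟨hmem, fun a ha => by
      rw [show ((Y.presheaf.stalkSpecializes hsp ≫ f.stalkMap (genericPoint X)).hom a) =
        ((⟨_, hmem a⟩ : R) : X.functionField) from rfl, ← ValuationSubring.valuation_lt_one_iff]
      have h1 : ψ a ∈ IsLocalRing.maximalIdeal A :=
        (IsLocalRing.mem_maximalIdeal _).mpr (map_nonunit ψ.hom a ha)
      rw [IsLocalRing.mem_maximalIdeal, mem_nonunits_iff] at h1 ⊢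
      intro hu
      apply h1
      have h2 := hu.map e
      rwa [show e ⟨_, hmem a⟩ = ψ a from Subtype.ext (hψ' a)] at h2⟩
    let θ : X.presheaf.stalk x ⟶ CommRingCat.of A :=
      CommRingCat.ofHom ((res.comp (algebraMap (X.presheaf.stalk x) X.functionField)).codRestrict A.toSubring
        fun a => hx a)
    have hθ : Spec.map (CommRingCat.ofHom A.subtype) ≫ Spec.map θ ≫ X.fromSpecStalk x =
        X.fromSpecResidueField (genericPoint X) := by
      rw [← Spec.map_comp_assoc, show θ ≫ CommRingCat.ofHom A.subtype =
        X.presheaf.stalkSpecializes ((genericPoint_spec X).specializes trivial) ≫ X.residue (genericPoint X) from rfl,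
        Spec.map_comp, Category.assoc, Scheme.SpecMap_stalkSpecializes_fromSpecStalk]
      rfl
    haveI : IsDominant (Spec.map (CommRingCat.ofHom A.subtype)) := by
      refine ⟨(PrimeSpectrum.denseRange_comap_iff_ker_le_nilRadical _).mpr ?_⟩
      rw [show RingHom.ker (CommRingCat.ofHom A.subtype).hom = ⊥ from
        (RingHom.injective_iff_ker_eq_bot _).mp Subtype.val_injective]
      exact bot_le
    refine ⟨Spec.map θ ≫ X.fromSpecStalk x, ext_of_isDominant (Spec.map (CommRingCat.ofHom A.subtype)) ?_, hθ⟩
    have h1 := congrArg (· ≫ f) hθ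
    simp only [Category.assoc] at h1 ⊢
    rw [hy]
    exact h1
  exact { }


end Groth.Agent.S4449
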