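import Groth.Statements.S4451
import Groth.Agent.S4441
import Groth.Agent.DeltaBC.Geom
import Groth.Agent.BirQF.CodimOne
import Groth.Agent.CodimOneExt.Dim
-- import your own Groth.Agent.* helpers here

set_option autoImplicit false
universe u
open CategoryTheory CategoryTheory.Limits AlgebraicGeometry
attribute [local instance] Curv2.stalkAlgebra
open EGA2

namespace Groth.Agent.S4451

theorem toStalk_surjective (R : CommRingCat.{u}) (hR : IsField R) (p : PrimeSpectrum R) :
    Function.Surjective (StructureSheaf.toStalk R p).hom :=
  (IsField.localization_map_bijective (M := p.asIdeal.primeCompl)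
    (Rₘ := (Spec.structureSheaf R).presheaf.stalk p) (fun h => h p.asIdeal.zero_mem) hR).2

/-- Let X be a normal, complete, irreducible algebraic curve over a field k with field of rational
functions K. The set of local rings of X, as subrings of K, consists of K itself (at the generic
point) and of the valuation rings of K containing k (and distinct from K): every non-generic point
has such a valuation ring as local ring, and every such valuation ring is the local ring of exactly
one point. -/
theorem result (k : Type u) [Field k] (X : Scheme.{u})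
    [X.Over (Spec (CommRingCat.of k))] [IsProper (X ↘ (Spec (CommRingCat.of k)))] [IsIntegral X]
    (hX : ∀ x : X, IsClosed ({x} : Set X) → ringKrullDim (X.presheaf.stalk x) = 1) (hnorm : Pi1.IsNormalScheme X) :
    (∀ x : X, x ≠ genericPoint X → ∃ R : ValuationSubring X.functionField, R ≠ ⊤ ∧
        (R : Set X.functionField) = Set.range (algebraMap (X.presheaf.stalk x) X.functionField)) ∧
      ∀ R : ValuationSubring X.functionField, R ≠ ⊤ → (∀ c : k, algebraMap k X.functionField c ∈ R) →
        ∃! x : X, (R : Set X.functionField) = Set.range (algebraMap (X.presheaf.stalk x) X.functionField) := by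
  set s := X ↘ (Spec (CommRingCat.of k))
  haveI : IsLocallyNoetherian X := LocallyOfFiniteType.isLocallyNoetherian s
  haveI : JacobsonSpace X := LocallyOfFiniteType.jacobsonSpace s
  have hdim : ∀ y : X, ringKrullDim (X.presheaf.stalk y) ≤ 1 := fun y => by
    obtain ⟨q, hq, hqc⟩ := nonempty_inter_closedPoints (Z := closure ({y} : Set X))
      ⟨y, subset_closure rfl⟩ isClosed_closure.isLocallyClosed
    exact (CodimOneExt.ringKrullDim_stalk_le_of_specializes (specializes_iff_mem_closure.2 hq)).trans (hX q hqc).le
  have hval : ∀ x : X, ValuationRing (X.presheaf.stalk x) := fun x => by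
    haveI := (hnorm x).2
    exact BirQF.valuationRing_of_dim_le_one _ (hdim x)
  have hrestr : ∀ x : X, Spec.map (CommRingCat.ofHom (algebraMap (X.presheaf.stalk x) X.functionField)) ≫ X.fromSpecStalk x = X.fromSpecStalk (genericPoint X) :=
    fun x => Scheme.SpecMap_stalkSpecializes_fromSpecStalk (genericPoint_specializes x)
  have hne : ∀ x : X, Function.Surjective (algebraMap (X.presheaf.stalk x) X.functionField) → x = genericPoint X := by
    intro x hs
    have hF : IsField (X.presheaf.stalk x) := MulEquiv.isField (Field.toIsField X.functionField)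
      (RingEquiv.ofBijective _ ⟨IsFractionRing.injective _ _, hs⟩).toMulEquiv
    letI := hF.toField
    have hr : ∀ z : X, z ∈ Set.range (X.fromSpecStalk x) → z = x := by
      rintro z ⟨p, rfl⟩
      rw [show p = IsLocalRing.closedPoint (X.presheaf.stalk x) from Subsingleton.elim (α := PrimeSpectrum (X.presheaf.stalk x)) _ _]
      exact Scheme.fromSpecStalk_closedPoint
    exact (hr _ (by rw [Scheme.range_fromSpecStalk]; exact genericPoint_specializes x)).symm
  refine ⟨fun x hx => ⟨{ toSubring := (algebraMap (X.presheaf.stalk x) X.functionField).range, mem_or_inv_mem' := fun z => ?_ }, ?_, rfl⟩, fun R hR hk => ?_⟩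
  · haveI := hval x
    exact ValuationRing.isInteger_or_isInteger (X.presheaf.stalk x) z
  · intro h
    exact hx (hne x fun z => h.ge (ValuationSubring.mem_top z))
  haveI : X.IsSeparated := ⟨by rw [← terminal.comp_from s]; infer_instance⟩
  haveI : IsDominant s := ⟨fun z => subset_closure ⟨genericPoint X, Subsingleton.elim (α := PrimeSpectrum k) _ _⟩⟩
  let y : PrimeSpectrum k := s (genericPoint X)
  let ψ := (Spec (CommRingCat.of k)).presheaf.stalkSpecializes (specializes_refl (s (genericPoint X))) ≫ s.stalkMap (genericPoint X)
  have hψ : ∀ c : k, ψ.hom ((StructureSheaf.toStalk (CommRingCat.of k) y).hom c) = algebraMap k X.functionField c := by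
    have h : StructureSheaf.toStalk (CommRingCat.of k) y ≫ ψ = CommRingCat.ofHom (Curv2.stalkMap k X (genericPoint X)) := by
      apply Spec.map_injective
      refine Eq.trans (Spec.map_comp _ _) ?_
      rw [← DeltaBC.fromSpecStalk_over X, ← Spec.fromSpecStalk_eq']
      refine Eq.trans ?_ (Scheme.SpecMap_stalkMap_fromSpecStalk s)
      simp only [ψ, TopCat.Presheaf.stalkSpecializes_refl]
      erw [Category.id_comp]
      rfl
    exact fun c => ConcreteCategory.congr_hom h c
  have hsurj := toStalk_surjective (CommRingCat.of k) (Field.toIsField k) y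
  obtain ⟨x, hx1, hx2⟩ := Groth.Agent.S4441.result s R y (specializes_refl y)
    ⟨fun a => by obtain ⟨c, rfl⟩ := hsurj a; exact (hψ c).symm ▸ hk c, fun a ha => by
      obtain ⟨c, rfl⟩ := hsurj a
      obtain rfl : c = 0 := by_contra fun hc => ha ((Ne.isUnit hc).map _)
      show R.valuation (ψ.hom _) < 1
      rw [hψ, map_zero, map_zero]
      exact zero_lt_one⟩
  haveI := hval x
  have hxR : (R : Set X.functionField) = Set.range (algebraMap (X.presheaf.stalk x) X.functionField) := by
    refine Set.Subset.antisymm (fun z hz => ?_) (Set.range_subset_iff.2 hx1)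
    rcases eq_or_ne z 0 with rfl | hz0
    · exact ⟨0, map_zero _⟩
    rcases ValuationRing.isInteger_or_isInteger (X.presheaf.stalk x) z with h | ⟨a, ha⟩
    · exact h
    by_cases hau : IsUnit a
    · obtain ⟨u, rfl⟩ := hau
      refine ⟨↑u⁻¹, ?_⟩
      rw [map_units_inv, ha, inv_inv]
    · exfalso
      have h1 := hx2 a hau
      have h2 : R.valuation z ≤ 1 := (R.valuation_le_one_iff z).2 hz
      rw [ha, map_inv₀, inv_lt_one₀] at h1
      · exact not_lt.2 h2 h1
      · exact zero_lt_iff.2 fun h0 => hz0 ((Valuation.zero_iff _).1 h0)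
  refine ⟨x, hxR, fun x' hx' => ?_⟩
  have hlift : ∀ p : X, (R : Set X.functionField) = Set.range (algebraMap (X.presheaf.stalk p) X.functionField) →
      ∃ l : Spec (CommRingCat.of R) ⟶ X, l (IsLocalRing.closedPoint R) = p ∧
        Spec.map (CommRingCat.ofHom R.subtype) ≫ l = X.fromSpecStalk (genericPoint X) := by
    intro p hp
    let θ : X.presheaf.stalk p →+* R := (algebraMap (X.presheaf.stalk p) X.functionField).codRestrict R.toSubring fun a => hp.ge ⟨a, rfl⟩
    have hθ : Function.Surjective θ := fun r => by
      obtain ⟨a, ha⟩ := hp.le r.2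
      exact ⟨a, Subtype.ext ha⟩
    haveI : IsLocalHom θ := IsLocalHom.of_surjective θ hθ
    refine ⟨Spec.map (CommRingCat.ofHom θ) ≫ X.fromSpecStalk p, ?_, ?_⟩
    · have h : Spec.map (CommRingCat.ofHom θ) (IsLocalRing.closedPoint R) = IsLocalRing.closedPoint (X.presheaf.stalk p) :=
        IsLocalRing.comap_closedPoint θ
      change X.fromSpecStalk p (Spec.map (CommRingCat.ofHom θ) (IsLocalRing.closedPoint R)) = p
      rw [h]
      exact Scheme.fromSpecStalk_closedPoint
    · rw [← Category.assoc, ← Spec.map_comp, ← hrestr p]
      rfl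
  obtain ⟨l, hl1, hl2⟩ := hlift x hxR
  obtain ⟨l', hl1', hl2'⟩ := hlift x' hx'
  haveI : IsDominant (Spec.map (CommRingCat.ofHom R.subtype)) := ⟨by
    change DenseRange (PrimeSpectrum.comap R.subtype)
    rw [PrimeSpectrum.denseRange_comap_iff_ker_le_nilRadical, (RingHom.injective_iff_ker_eq_bot _).1 Subtype.val_injective]
    exact bot_le⟩
  obtain rfl : l' = l := ext_of_isDominant (Spec.map (CommRingCat.ofHom R.subtype)) (hl2'.trans hl2.symm)
  rw [← hl1, ← hl1']

end Groth.Agent.S4451
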