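import Groth.Statements.S4462
import Groth.Agent.BCCx.Vanish
import Groth.Agent.BCCx.ModPow

set_option autoImplicit false
universe u
open Coherent

namespace Groth.Agent.S4462

open AlgebraicGeometry CategoryTheory in
/-- Second assertion: for a local base: let A be a Noetherian local ring with maximal ideal m and closed
point y, X a scheme proper over Spec A, F a coherent O_X-module flat over Spec A and n ≥ 0 such that
H^(n+1)(X_y, F_y) = 0, where X_y is the closed fibre and F_y the restriction of F to it. Then for
every p ≥ 0 the canonical map H^n(X, F) → H^n(X, F/m^(p+1)F) is surjective. (For a general locally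
Noetherian base the published statement is about the stalk of R^n f_* F at a point; over the local
ring of that point this is the module H^n(X, F) used here.) -/
theorem result (A : Type u) [CommRing A] [IsNoetherianRing A]
    [IsLocalRing A] (X : Scheme.{u}) [X.Over (Spec (CommRingCat.of A))]
    [IsProper (X ↘ Spec (CommRingCat.of A))] (F : X.Modules) (hF : Coh.IsCoh F)
    (hfl : FlatMod.IsFlatOver (X ↘ Spec (CommRingCat.of A)) F) (n : ℕ)
    (hvan : Subsingleton (CohIII.fiberH (X ↘ Spec (CommRingCat.of A)) F (IsLocalRing.closedPoint A) (n + 1)))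
    (p : ℕ) :
    Function.Surjective (Formal.toHHmodPow (IsLocalRing.maximalIdeal A) F n p) := by
  have h := BCCx.preservesEpi_of_fibre_vanishing F hF hfl n hvan
  let J : Ideal A := IsLocalRing.maximalIdeal A ^ (p + 1)
  obtain ⟨e, he⟩ := BCCx.exists_iso_cokernel_smulFamily A F J
  haveI : Epi (BCCx.quotMap A J) := (ModuleCat.epi_iff_surjective _).2 (Submodule.mkQ_surjective J)
  haveI := h.preserves (BCCx.quotMap A J)
  have hs : Function.Surjective ((CohIII.HAb X n).map ((CohIII.tensorAFunctor A F).map (BCCx.quotMap A J))) :=
    (AddCommGrpCat.epi_iff_surjective _).1 (h.preserves _)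
  show Function.Surjective ((CohIII.HAb X n).map (Limits.cokernel.π (Formal.smulFamily J F)))
  have h2 : Limits.cokernel.π (Formal.smulFamily J F) =
      ((BCCx.rho A F).inv ≫ (CohIII.tensorAFunctor A F).map (BCCx.quotMap A J)) ≫ e.inv :=
    (Iso.eq_comp_inv e).2 he
  rw [h2, Functor.map_comp, Functor.map_comp]
  exact (ConcreteCategory.bijective_of_isIso ((CohIII.HAb X n).map e.inv)).2.comp
    (hs.comp (ConcreteCategory.bijective_of_isIso ((CohIII.HAb X n).map (BCCx.rho A F).inv)).2)

end Groth.Agent.S4462
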