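import Groth.Statements.S4463
import Groth.Agent.ZarConn.Stein

set_option autoImplicit false
universe u
open Coherent

namespace Groth.Agent.S4463

open AlgebraicGeometry CategoryTheory in
/-- Stein factorisation. Let Y be locally Noetherian and f : X → Y proper, and let X → Y' → Y be its
Stein factorisation, Y' being the spectrum of the O_Y-algebra f_* O_X (realised here as the relative
normalization of Y in X, which is that spectrum because f_* O_X is integral over O_Y for f
universally closed). Then for every point y of Y the fibre of Y' → Y at y is finite, the map X_y →
Y'_y induced on fibres is surjective, and two points of X_y have the same image if and only if they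
lie in the same connected component of X_y: the connected components of X_y are in bijection with
the points of Y'_y. -/
theorem result {X Y : Scheme.{u}} (f : X ⟶ Y) [IsProper f]
    [IsLocallyNoetherian Y] (y : Y) :
    Finite ↥(f.fromNormalization.fiber y) ∧
    Function.Surjective (CohIII.fiberMapOver f.toNormalization f f.fromNormalization
        f.toNormalization_fromNormalization y).base ∧
    ∀ x x' : ↥(f.fiber y),
      (CohIII.fiberMapOver f.toNormalization f f.fromNormalization f.toNormalization_fromNormalization y).base x =
        (CohIII.fiberMapOver f.toNormalization f f.fromNormalization f.toNormalization_fromNormalization y).base x' ↔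
      connectedComponent x = connectedComponent x' := by
  haveI := Groth.Agent.ZarConn.isFinite_fromNormalization f
  haveI := Groth.Agent.ZarConn.geometricallyConnected_toNormalization f
  let φ : Limits.pullback f (Y.fromSpecResidueField y) ⟶ Limits.pullback f.fromNormalization (Y.fromSpecResidueField y) :=
    CohIII.fiberMapOver f.toNormalization f f.fromNormalization f.toNormalization_fromNormalization y
  have hp : Limits.pullback.fst f (Y.fromSpecResidueField y) ≫ f.toNormalization =
      φ ≫ Limits.pullback.fst f.fromNormalization (Y.fromSpecResidueField y) :=
    (Limits.pullback.lift_fst _ _ _).symm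
  have hφ : IsPullback (Limits.pullback.fst f (Y.fromSpecResidueField y)) φ f.toNormalization
      (Limits.pullback.fst f.fromNormalization (Y.fromSpecResidueField y)) := by
    refine IsPullback.of_bot ?_ hp (IsPullback.of_hasPullback f.fromNormalization (Y.fromSpecResidueField y))
    have h2 : φ ≫ Limits.pullback.snd f.fromNormalization (Y.fromSpecResidueField y) =
        Limits.pullback.snd f (Y.fromSpecResidueField y) :=
      (Limits.pullback.lift_snd _ _ _).trans (Category.comp_id _)
    rw [h2, f.toNormalization_fromNormalization]
    exact IsPullback.of_hasPullback f (Y.fromSpecResidueField y)
  haveI : GeometricallyConnected φ := MorphismProperty.of_isPullback (P := @GeometricallyConnected) hφ inferInstance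
  haveI : IsArtinianScheme (f.fromNormalization.fiber y) := inferInstance
  haveI : DiscreteTopology ↥(f.fromNormalization.fiber y) := inferInstance
  haveI : Finite ↥(f.fromNormalization.fiber y) := inferInstance
  haveI : DiscreteTopology ↥(Limits.pullback f.fromNormalization (Y.fromSpecResidueField y)) :=
    ‹DiscreteTopology ↥(f.fromNormalization.fiber y)›
  refine ⟨inferInstance, φ.surjective, fun x x' => ⟨fun h => ?_, fun h => ?_⟩⟩
  · exact connectedComponent_eq ((φ.isConnected_preimage_singleton (φ x)).isPreconnected.subset_connectedComponent
      rfl (show x' ∈ φ ⁻¹' {φ x} from h.symm))
  · have h1 := (isPreconnected_connectedComponent (x := x)).image φ φ.continuous.continuousOn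
    exact h1.subsingleton ⟨x, mem_connectedComponent, rfl⟩ ⟨x', h ▸ mem_connectedComponent, rfl⟩

end Groth.Agent.S4463
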