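import Groth.Statements.S4464
import Groth.Agent.UnibFib.Fibre

set_option autoImplicit false
universe u
open Coherent

namespace Groth.Agent.S4464

open AlgebraicGeometry CategoryTheory in
/-- Let X and Y be locally Noetherian integral schemes, f : X → Y a proper dominant morphism, and
suppose that the algebraic closure of the function field R(Y) in R(X) is purely inseparable over
R(Y): every element of R(X) satisfying a nonzero polynomial over R(Y) has a p^e-th power coming from
R(Y), p being the characteristic exponent. Then for every point y of Y whose local ring is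
unibranch, the fibre X_y is connected and nonempty. -/
theorem result {X Y : Scheme.{u}} [IsIntegral X]
    [IsIntegral Y] [IsLocallyNoetherian X] [IsLocallyNoetherian Y] (f : X ⟶ Y) [IsProper f]
    (hdom : f.base (genericPoint X) ⤳ genericPoint Y)
    (hrad : ∀ x : X.functionField,
      (∃ q : Polynomial Y.functionField, q ≠ 0 ∧
        Polynomial.eval₂ (CohIII.stalkToFunctionField f (genericPoint Y) hdom) x q = 0) →
      ∃ e : ℕ, x ^ (ringExpChar X.functionField ^ e) ∈
        Set.range (CohIII.stalkToFunctionField f (genericPoint Y) hdom))
    (y : Y) (hy : CAlg2.IsUnibranch (Y.presheaf.stalk y)) :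
    ConnectedSpace ↥(f.fiber y) := by
  letI : Algebra Y.functionField X.functionField :=
    (CohIII.stalkToFunctionField f (genericPoint Y) hdom).toAlgebra
  have hal : Algebra.IsAlgebraic Y.functionField ↥(algebraicClosure Y.functionField X.functionField) :=
    algebraicClosure.isAlgebraic _ _
  haveI : ExpChar X.functionField (ringExpChar X.functionField) := inferInstance
  haveI : ExpChar Y.functionField (ringExpChar X.functionField) :=
    RingHom.expChar _ (CohIII.stalkToFunctionField f (genericPoint Y) hdom).injective _
  haveI : IsPurelyInseparable Y.functionField ↥(algebraicClosure Y.functionField X.functionField) := by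
    rw [isPurelyInseparable_iff_pow_mem _ (ringExpChar X.functionField)]
    rintro ⟨x, hx⟩
    obtain ⟨q, hq0, hq⟩ := (mem_algebraicClosure_iff.1 hx : IsAlgebraic Y.functionField x)
    obtain ⟨e, a, ha⟩ := hrad x ⟨q, hq0, hq⟩
    exact ⟨e, a, Subtype.ext ha⟩
  have h1 := IsPurelyInseparable.finSepDegree_eq_one Y.functionField
    ↥(algebraicClosure Y.functionField X.functionField)
  obtain ⟨hfin, hle⟩ := Groth.Agent.UnibFib.components_le f hdom rfl (h1 ▸ one_ne_zero) y hy
  rw [h1] at hle
  haveI := hfin
  haveI := Groth.Agent.UnibFib.nonempty_fiber f hdom y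
  haveI : Subsingleton (_root_.ConnectedComponents ↥(f.fiber y)) := Finite.card_le_one_iff_subsingleton.1 hle
  obtain ⟨x⟩ := Groth.Agent.UnibFib.nonempty_fiber f hdom y
  exact connectedSpace_iff_connectedComponent.2 ⟨x, Set.eq_univ_of_forall fun z =>
    ConnectedComponents.coe_eq_coe'.1 (Subsingleton.elim (ConnectedComponents.mk z) (ConnectedComponents.mk x))⟩

end Groth.Agent.S4464
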