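import Groth.Statements.S4466
import Groth.Agent.ProjCoh.TwistTables
import Mathlib.RingTheory.Binomial
import Mathlib.Algebra.Order.Antidiag.FinsuppEquiv

set_option autoImplicit false
universe u
open Coherent

namespace Groth.Agent.S4466

open AlgebraicGeometry CategoryTheory in
/-- Let k be a field, r > 0 and n any integer. Then the Euler characteristic of the twisting sheaf O(n)
on projective r-space over k, namely the alternating sum of the dimensions of H^j(P^r_k, O(n)) for 0
≤ j ≤ r, equals the binomial coefficient C(n+r, r), understood as the binomial polynomial evaluated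
at the integer n+r (so that it makes sense and is correct for negative n too). -/
theorem result (k : Type u) [Field k] (r : ℕ) (hr : 0 < r)
    (n : ℤ) :
    ((Finset.range (r + 1)).sum fun j => (-1 : ℤ) ^ j *
        (Module.finrank k (Coh.HH (CohB1.ProjSpace r k) (Twist.twistProjSpace r k n) j) : ℤ)) =
      Ring.choose (n + r) r := by
  have hpoly : ∀ d : ℕ, Module.finrank k (MvPolynomial.homogeneousSubmodule (Fin (r + 1)) k d) = (d + r).choose r := by
    intro d
    have hfin : {m : Fin (r + 1) →₀ ℕ | m.degree = d} = ↑((Finset.univ : Finset (Fin (r + 1))).finsuppAntidiag d) := by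
      ext m; simp [Finset.mem_finsuppAntidiag, Finsupp.degree_eq_sum]
    haveI : Fintype {m : Fin (r + 1) →₀ ℕ | m.degree = d} := by
      rw [hfin]; infer_instance
    let e : MvPolynomial.homogeneousSubmodule (Fin (r + 1)) k d ≃ₗ[k] ({m : Fin (r + 1) →₀ ℕ | m.degree = d} →₀ k) :=
      (LinearEquiv.ofEq _ _ (MvPolynomial.homogeneousSubmodule_eq_finsupp_supported (Fin (r + 1)) k _)).trans
        (AddMonoidAlgebra.supportedEquivFinsupp _)
    rw [e.finrank_eq, Module.finrank_finsupp_self, ← Nat.card_eq_fintype_card,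
      Nat.card_coe_set_eq, hfin, Set.ncard_coe_finset, Finset.card_finsuppAntidiag_nat_eq_choose]
    simp only [Finset.card_univ, Fintype.card_fin]
    rw [show r + 1 + d - 1 = d + r by omega, Nat.choose_symm_add]
  have hzero : ∀ j : ℕ, ¬ (j = 0 ∧ 0 ≤ n) → ¬ (j = r ∧ n ≤ -((r : ℤ) + 1)) →
      Module.finrank k (Coh.HH (CohB1.ProjSpace r k) (Twist.twistProjSpace r k n) j) = 0 := fun j h1 h2 => by
    obtain ⟨e⟩ := Groth.Agent.ProjCoh.nonempty_HH_twist_laurent (n := r) (R := k) n j
    have := Groth.Agent.ProjCoh.subsingleton_twist_H (R := k) n j h1 h2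
    rw [e.finrank_eq, Module.finrank_zero_of_subsingleton]
  by_cases h0 : 0 ≤ n
  · obtain ⟨d, rfl⟩ := Int.eq_ofNat_of_zero_le h0
    rw [Finset.sum_eq_single 0 (fun j _ hj => by rw [hzero j (fun h => hj h.1) (fun h => by omega)]; simp)
      (fun h => absurd (Finset.mem_range.2 (by omega)) h)]
    obtain ⟨e⟩ := Groth.Agent.ProjCoh.nonempty_HH_twist_laurent (n := r) (R := k) (d : ℤ) 0
    obtain ⟨e'⟩ := Groth.Agent.ProjCoh.nonempty_twist_H_zero_equiv (n := r) (R := k) d
    rw [(e.trans e').finrank_eq, hpoly, pow_zero, one_mul,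
      show (d : ℤ) + r = ((d + r : ℕ) : ℤ) by push_cast; ring, Ring.choose_natCast]
  by_cases h1 : n ≤ -((r : ℤ) + 1)
  · obtain ⟨m, rfl⟩ : ∃ m : ℕ, n = -((r : ℤ) + 1 + m) := ⟨(-n - (r + 1)).toNat, by omega⟩
    rw [Finset.sum_eq_single r (fun j _ hj => by rw [hzero j (fun h => by omega) (fun h => hj h.1)]; simp)
      (fun h => absurd (Finset.mem_range.2 (by omega)) h)]
    obtain ⟨e⟩ := Groth.Agent.ProjCoh.nonempty_HH_twist_laurent (n := r) (R := k) (-((r : ℤ) + 1 + m)) r
    obtain ⟨e'⟩ := Groth.Agent.ProjCoh.nonempty_twist_H_top_equiv (n := r) (R := k) m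
    rw [(e.trans e').finrank_eq, hpoly, show -((r : ℤ) + 1 + m) + r = -((1 : ℤ) + m) by ring, Ring.choose_neg,
      show (1 : ℤ) + m + r - 1 = ((m + r : ℕ) : ℤ) by push_cast; ring, Ring.choose_natCast, Units.smul_def,
      Int.coe_negOnePow_natCast, smul_eq_mul]
  · rw [Finset.sum_eq_zero (fun j _ => by rw [hzero j (fun h => h0 h.2) (fun h => h1 h.2)]; simp)]
    obtain ⟨m, hm⟩ : ∃ m : ℕ, n + r = m := ⟨(n + r).toNat, by omega⟩
    rw [hm, Ring.choose_natCast, Nat.choose_eq_zero_of_lt (by omega)]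
    simp

end Groth.Agent.S4466
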