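import Groth.Statements.S4469
import Groth.Agent.ZMTBir.Alg

set_option autoImplicit false
universe u
open CAlg

namespace Groth.Agent.S4469

/-- Let A be an integrally closed Noetherian local domain with field of fractions K, B an A-algebra of
finite type which is a domain with the same field of fractions (A → B → K compatible with A → K),
and 𝔫 a maximal ideal of B lying over the maximal ideal 𝔪 of A and minimal among the prime ideals of
B lying over 𝔪. Then B = A: the structure map A → B is bijective. -/
theorem result (A B K : Type u) [CommRing A]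
    [IsDomain A] [IsNoetherianRing A] [IsLocalRing A] [IsIntegrallyClosed A] [CommRing B] [IsDomain B]
    [Field K] [Algebra A B] [Algebra B K] [Algebra A K] [IsScalarTower A B K] [IsFractionRing A K]
    [IsFractionRing B K] [Algebra.FiniteType A B] (n : Ideal B) [n.IsMaximal]
    (hn : n.comap (algebraMap A B) = IsLocalRing.maximalIdeal A)
    (hmin : ∀ q : Ideal B, q.IsPrime → q.comap (algebraMap A B) = IsLocalRing.maximalIdeal A → q ≤ n → q = n) :
    Function.Bijective (algebraMap A B) := by
  classical
  set mA := IsLocalRing.maximalIdeal A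
  have hAK : Function.Injective (algebraMap A K) := IsFractionRing.injective A K
  have hinj : Function.Injective (algebraMap A B) := fun x y h => hAK (by
    rw [IsScalarTower.algebraMap_apply A B K, h, ← IsScalarTower.algebraMap_apply])
  have hfrac : ∀ b : B, ∃ a s : A, s ≠ 0 ∧ b * algebraMap A B s = algebraMap A B a := fun b => by
    obtain ⟨⟨a, s⟩, h⟩ := IsLocalization.surj (nonZeroDivisors A) (algebraMap B K b)
    refine ⟨a, s, nonZeroDivisors.ne_zero s.2, IsFractionRing.injective B K ?_⟩
    rw [map_mul, ← IsScalarTower.algebraMap_apply, ← IsScalarTower.algebraMap_apply]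
    exact h
  haveI : IsNoetherianRing B := Algebra.FiniteType.isNoetherianRing A B
  let I := mA.map (algebraMap A B)
  have hIn : I ≤ n := Ideal.map_le_iff_le_comap.mpr hn.ge
  let q : PrimeSpectrum B := ⟨n, inferInstance⟩
  haveI : Algebra.QuasiFiniteAt A q.asIdeal := by
    rw [Algebra.quasiFiniteAt_iff_isOpen_singleton_fiber]
    let S := {P : Ideal B | P ∈ I.minimalPrimes ∧ P ≠ n}
    have hS : S.Finite := (Ideal.finite_minimalPrimes_of_isNoetherianRing B I).subset fun P h => h.1
    refine ⟨(⋃ P ∈ S, PrimeSpectrum.zeroLocus (P : Set B))ᶜ,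
      (hS.isClosed_biUnion fun P _ => PrimeSpectrum.isClosed_zeroLocus _).isOpen_compl, ?_⟩
    ext ⟨x, hx⟩
    simp only [Set.mem_preimage, Set.mem_compl_iff, Set.mem_iUnion, not_exists,
      Set.mem_singleton_iff, Subtype.ext_iff]
    constructor
    · intro h
      have hxI : I ≤ x.asIdeal := Ideal.map_le_iff_le_comap.mpr
        (ge_of_eq ((congrArg PrimeSpectrum.asIdeal hx).trans hn))
      obtain ⟨P, hP, hPx⟩ := Ideal.exists_minimalPrimes_le hxI
      by_cases hPn : P = n
      · subst hPn
        exact PrimeSpectrum.ext (Ideal.IsMaximal.eq_of_le inferInstance x.isPrime.ne_top hPx).symm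
      · exact absurd (show (P : Set B) ⊆ x.asIdeal from hPx) (h P ⟨hP, hPn⟩)
    · intro e P hP' hle
      obtain ⟨hP, hPn⟩ := hP'
      subst e
      haveI := hP.1.1
      refine hPn (hmin P hP.1.1 (le_antisymm ?_ ?_) hle)
      · exact (Ideal.comap_mono hle).trans hn.le
      · exact Ideal.map_le_iff_le_comap.mp hP.1.2
  have hq : q.asIdeal.under A = mA := hn
  haveI : IsIntegrallyClosed (Localization.AtPrime (q.asIdeal.under A)) :=
    isIntegrallyClosed_of_isLocalization _ (q.asIdeal.under A).primeCompl (Ideal.primeCompl_le_nonZeroDivisors _)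
  obtain ⟨s, hs, hall⟩ := ZMTBir.exists_denominator hinj hfrac q.asIdeal
  rw [hq] at hs
  have hsu : IsUnit s := IsLocalRing.notMem_maximalIdeal.mp hs
  refine ⟨hinj, fun b => ?_⟩
  obtain ⟨a, k, hk⟩ := hall b
  refine ⟨a * ↑((hsu.pow k).unit⁻¹), ?_⟩
  rw [map_mul, ← hk, mul_assoc, ← map_mul, IsUnit.mul_val_inv, map_one, mul_one]

end Groth.Agent.S4469
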