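import Groth.Statements.S4472
import Groth.Agent.UnibFib.Fibre
import Groth.Agent.UnibFib.SchemeConn
import Groth.Agent.BlowUpLib.Props
import Groth.Agent.BlowUpLib.Proper

set_option autoImplicit false
universe u
open Coherent

namespace Groth.Agent.S4472

open AlgebraicGeometry CategoryTheory in
/-- Let A be a unibranch Noetherian local domain (a local domain whose integral closure is a local ring)
with maximal ideal m, let 𝔞 be an ideal of definition of A (𝔞 ⊆ m and m^p ⊆ 𝔞 for some p), and let b
: X → Spec A be a blowing up of Spec A in the ideal sheaf defined by 𝔞. Then the fibre of b over the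
closed point is preconnected. Its underlying space is that of Proj of the associated graded ring ⊕
𝔞^i/𝔞^(i+1), so this says that Proj is connected (possibly empty). -/
theorem result (A : Type u) [CommRing A] [IsDomain A]
    [IsNoetherianRing A] [IsLocalRing A] (hA : CAlg2.IsUnibranch A) (𝔞 : Ideal A)
    (hle : 𝔞 ≤ IsLocalRing.maximalIdeal A)
    (hpow : ∃ p : ℕ, IsLocalRing.maximalIdeal A ^ p ≤ 𝔞) {X : Scheme.{u}}
    (b : X ⟶ Spec (CommRingCat.of A))
    (hb : BlowUp.IsBlowUp b
      (Scheme.IdealSheafData.ofIdealTop (𝔞.map (Scheme.ΓSpecIso (CommRingCat.of A)).inv.hom))) :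
    PreconnectedSpace ↥(b.fiber (IsLocalRing.closedPoint A)) := by
  by_cases hne : Nonempty ↥(b.fiber (IsLocalRing.closedPoint A))
  swap
  · haveI := not_nonempty_iff.1 hne
    exact ⟨(Set.subsingleton_of_subsingleton).isPreconnected⟩
  obtain ⟨x₁⟩ := hne
  let Y := Spec (CommRingCat.of A)
  let Z := Scheme.IdealSheafData.ofIdealTop (X := Y) (𝔞.map (Scheme.ΓSpecIso (CommRingCat.of A)).inv.hom)
  haveI : IsNoetherianRing Γ(Y, ⊤) :=
    isNoetherianRing_of_ringEquiv A (Scheme.ΓSpecIso (CommRingCat.of A)).commRingCatIsoToRingEquiv.symm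
  have hfg : BlowUp.IsFiniteTypeIdeal Z := fun U => by
    haveI := IsLocallyNoetherian.component_noetherian (X := Y) U
    exact IsNoetherian.noetherian _
  haveI : IsProper b := Groth.Agent.BlowUpLib.isProper_of_isBlowUp hb hfg
  haveI : IsLocallyNoetherian X := LocallyOfFiniteType.isLocallyNoetherian b
  haveI : AlgebraicGeometry.IsReduced X := Groth.Agent.BlowUpLib.isReduced_blowUp hb
  haveI : Nonempty X := ⟨(b.fiberι (IsLocalRing.closedPoint A)).base x₁⟩
  let U : Y.Opens := ⟨(Z.support : Set Y)ᶜ, Z.support.isClosed.isOpen_compl⟩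
  haveI : IsIso (b ∣_ U) := Groth.Agent.BlowUpLib.isIso_restrict hb U fun x hx => hx
  have hmax : ∀ z : X, (∀ z', z' ⤳ z → z ⤳ z') → z ∈ b ⁻¹ᵁ U := fun z hz hsup => by
    have h := Groth.Agent.BlowUpLib.not_mem_support_of_maximal hb.1 (x := z) fun y hy => (hy.antisymm (hz y hy)).eq
    rw [← SetLike.mem_coe, Scheme.IdealSheafData.support_comap] at h
    exact h hsup
  have hd : ∀ x : X, x ∈ closure ((b ⁻¹ᵁ U : X.Opens) : Set X) := fun x => by
    obtain ⟨z, -, hzx, hz⟩ := Groth.Agent.UnibFib.exists_gen_mem_of_mem_closure isOpen_univ (subset_closure (Set.mem_univ x))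
    exact closure_mono (Set.singleton_subset_iff.2 (hmax z hz)) hzx.mem_closure
  have hneU : (U : Set Y).Nonempty := by
    obtain ⟨z, hz⟩ := closure_nonempty_iff.1 ⟨_, hd (Classical.arbitrary X)⟩
    exact ⟨_, hz⟩
  haveI : Nonempty U := hneU.to_subtype
  let e : ↥(b ⁻¹ᵁ U : X.Opens).toScheme ≃ₜ ↥U.toScheme := Scheme.homeoOfIso (asIso (b ∣_ U))
  have hirr : IsIrreducible ((b ⁻¹ᵁ U : X.Opens) : Set X) := by
    have h0 : IsIrreducible (Set.univ : Set ↥U.toScheme) := (irreducibleSpace_def _).1 inferInstance
    have h1 := (h0.image (fun u => ((e.symm u).1 : X)) (continuous_subtype_val.comp e.symm.continuous).continuousOn)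
    rw [show ((b ⁻¹ᵁ U : X.Opens) : Set X) = (fun u => ((e.symm u).1 : X)) '' Set.univ by
      ext x
      exact ⟨fun hx => ⟨e ⟨x, hx⟩, trivial, by simp⟩, fun ⟨u, _, hu⟩ => hu ▸ (e.symm u).2⟩]
    exact h1
  haveI : IrreducibleSpace X := (irreducibleSpace_def _).2 (by
    show IsIrreducible (Set.univ : Set X)
    rw [show (Set.univ : Set X) = closure ((b ⁻¹ᵁ U : X.Opens) : Set X) from (Set.eq_univ_of_forall hd).symm]
    exact hirr.closure)
  haveI : IsIntegral X := isIntegral_of_irreducibleSpace_of_isReduced X
  have hηU : b.base (genericPoint X) ∈ U := hmax _ fun z' _ => (genericPoint_spec X).specializes trivial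
  have hη : b.base (genericPoint X) = genericPoint Y := by
    obtain ⟨u, hu⟩ := e.surjective ⟨genericPoint Y, (genericPoint_spec Y).mem_open_set_iff U.2 |>.2 (by
      simpa using hneU)⟩
    have h1 : b.base u.1 = genericPoint Y := by
      have := congrArg Subtype.val hu
      rwa [show ((e u).1 : Y) = b.base u.1 from morphismRestrict_base_coe b U u] at this
    have h3 : b.base (genericPoint X) ⤳ b.base u.1 :=
      ((genericPoint_spec X).specializes trivial).map b.continuous
    rw [h1] at h3
    exact (h3.antisymm ((genericPoint_spec Y).specializes trivial)).eq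
  have hdom : b.base (genericPoint X) ⤳ genericPoint Y := specializes_of_eq hη
  have hsurj : Function.Surjective (CohIII.stalkToFunctionField b (genericPoint Y) hdom) := by
    haveI : IsIso (b.stalkMap (genericPoint X)) :=
      (MorphismProperty.isomorphisms CommRingCat).arrow_mk_iso_iff
        (morphismRestrictStalkMap b U ⟨genericPoint X, hηU⟩) |>.1 (inferInstance : IsIso _)
    intro r
    obtain ⟨t, ht⟩ := (ConcreteCategory.bijective_of_isIso (b.stalkMap (genericPoint X))).2 r
    refine ⟨(Y.presheaf.stalkSpecializes (specializes_of_eq hη.symm)).hom t, ?_⟩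
    have key : ∀ w, (Y.presheaf.stalkSpecializes hdom).hom
        ((Y.presheaf.stalkSpecializes (specializes_of_eq hη.symm)).hom w) = w := fun w => by
      rw [← CommRingCat.comp_apply, TopCat.Presheaf.stalkSpecializes_comp, TopCat.Presheaf.stalkSpecializes_refl]
      rfl
    show (b.stalkMap (genericPoint X)).hom ((Y.presheaf.stalkSpecializes hdom).hom _) = r
    rw [key]
    exact ht
  letI : Algebra Y.functionField X.functionField :=
    (CohIII.stalkToFunctionField b (genericPoint Y) hdom).toAlgebra
  have hal : Algebra.IsAlgebraic Y.functionField ↥(algebraicClosure Y.functionField X.functionField) :=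
    algebraicClosure.isAlgebraic _ _
  haveI : ExpChar X.functionField (ringExpChar X.functionField) := inferInstance
  haveI : ExpChar Y.functionField (ringExpChar X.functionField) :=
    RingHom.expChar _ (CohIII.stalkToFunctionField b (genericPoint Y) hdom).injective _
  haveI : IsPurelyInseparable Y.functionField ↥(algebraicClosure Y.functionField X.functionField) := by
    rw [isPurelyInseparable_iff_pow_mem _ (ringExpChar X.functionField)]
    rintro ⟨x, hx⟩
    obtain ⟨a, ha⟩ := hsurj x
    exact ⟨0, a, Subtype.ext (by rw [pow_zero, pow_one]; exact ha)⟩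
  have h1 := IsPurelyInseparable.finSepDegree_eq_one Y.functionField
    ↥(algebraicClosure Y.functionField X.functionField)
  let y : Y := IsLocalRing.closedPoint A
  letI : Algebra A (Y.presheaf.stalk y) := StructureSheaf.stalkAlgebra A y
  haveI : IsLocalization.AtPrime (Y.presheaf.stalk y) (PrimeSpectrum.asIdeal (IsLocalRing.closedPoint A)) := inferInstanceAs
    (IsLocalization.AtPrime ((Spec.structureSheaf A).presheaf.stalk (IsLocalRing.closedPoint A)) (PrimeSpectrum.asIdeal (IsLocalRing.closedPoint A)))
  let φ : A →+* Y.presheaf.stalk y := algebraMap A _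
  have hφ : Function.Bijective φ :=
    ⟨IsLocalization.injective _ (fun a ha => mem_nonZeroDivisors_of_ne_zero fun h0 => ha (h0 ▸ zero_mem _) :
        (PrimeSpectrum.asIdeal (IsLocalRing.closedPoint A)).primeCompl ≤ nonZeroDivisors A), fun w => by
      obtain ⟨a, s, rfl⟩ := IsLocalization.exists_mk'_eq (PrimeSpectrum.asIdeal (IsLocalRing.closedPoint A)).primeCompl w
      have hs : IsUnit (s : A) := by
        by_contra h
        exact s.2 ((IsLocalRing.mem_maximalIdeal _).2 h)
      obtain ⟨v, hv⟩ := hs.exists_right_inv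
      refine ⟨a * v, ((IsLocalization.mk'_eq_iff_eq_mul).2 ?_).symm⟩
      rw [← map_mul, mul_assoc, mul_comm v, hv, mul_one]⟩
  obtain ⟨ψ, hψ, -⟩ := Groth.Agent.GeomUnib.exists_surjective_normRed (K := Y.functionField) φ hφ.2
    (fun a ha => by rw [show a = 0 from hφ.1 (by rw [RingHom.mem_ker.1 ha, map_zero])]; exact zero_mem _)
    (integralClosure (Y.presheaf.stalk y) Y.functionField)
  haveI := hA.2
  haveI : IsLocalRing (integralClosure (Y.presheaf.stalk y) Y.functionField) := (RingEquiv.ofBijective ψ hψ).isLocalRing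
  obtain ⟨hfin, hle⟩ := Groth.Agent.UnibFib.components_le' b hdom rfl (h1 ▸ one_ne_zero) y
  rw [h1] at hle
  haveI := hfin
  haveI : Subsingleton (_root_.ConnectedComponents ↥(b.fiber y)) := Finite.card_le_one_iff_subsingleton.1 hle
  have hc : ConnectedSpace ↥(b.fiber y) := connectedSpace_iff_connectedComponent.2 ⟨x₁, Set.eq_univ_of_forall fun z =>
    ConnectedComponents.coe_eq_coe'.1 (Subsingleton.elim (ConnectedComponents.mk z) (ConnectedComponents.mk x₁))⟩
  exact hc.toPreconnectedSpace

end Groth.Agent.S4472
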