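import Groth.Statements.S4475
import Groth.Agent.KoszulCone.Top
import Mathlib.RingTheory.MvPolynomial.Ideal

set_option autoImplicit false
universe u
open Koszul3

namespace Groth.Agent.S4475

open CategoryTheory CategoryTheory.Limits RingTheory.Sequence MvPolynomial

variable (A : Type u) [CommRing A] (r : ℕ)

private noncomputable abbrev vars : List (MvPolynomial (Fin (r + 1)) A) := List.ofFn (fun j => X j)

private noncomputable abbrev Smod : ModuleCat.{u} (MvPolynomial (Fin (r + 1)) A) :=
  ModuleCat.of (MvPolynomial (Fin (r + 1)) A) (MvPolynomial (Fin (r + 1)) A)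

private lemma mem_ofList_take (n i : ℕ) (x : MvPolynomial (Fin (r + 1)) A) :
    x ∈ Ideal.ofList (((vars A r).map (· ^ n)).take i) ↔
      ∀ s ∈ x.support, ∃ j : Fin (r + 1), (j : ℕ) < i ∧ n ≤ s j := by
  have hset : {y | y ∈ ((vars A r).map (· ^ n)).take i} = (fun s => monomial s (1 : A)) ''
      ((fun j : Fin (r + 1) => Finsupp.single j n) '' {j | (j : ℕ) < i}) := by
    ext y
    simp only [Set.mem_setOf_eq, Set.mem_image, exists_exists_and_eq_and, List.mem_take_iff_getElem,
      List.length_map, List.length_ofFn, List.getElem_map, List.getElem_ofFn, vars, X_pow_eq_monomial]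
    constructor
    · rintro ⟨k, hk, rfl⟩
      exact ⟨⟨k, by omega⟩, show k < i by omega, rfl⟩
    · rintro ⟨j, hj, rfl⟩
      exact ⟨j, by have := j.2; omega, rfl⟩
  rw [show Ideal.ofList (((vars A r).map (· ^ n)).take i) = Ideal.span {y | y ∈ ((vars A r).map (· ^ n)).take i}
    from rfl, hset, MvPolynomial.mem_ideal_span_monomial_image]
  simp only [Set.mem_image, Set.mem_setOf_eq, exists_exists_and_eq_and, Finsupp.single_le_iff]

private lemma mem_smul_top_take (n i : ℕ) (x : MvPolynomial (Fin (r + 1)) A) :
    x ∈ (Ideal.ofList (((vars A r).map (· ^ n)).take i) • ⊤ :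
        Submodule (MvPolynomial (Fin (r + 1)) A) (MvPolynomial (Fin (r + 1)) A)) ↔
      ∀ s ∈ x.support, ∃ j : Fin (r + 1), (j : ℕ) < i ∧ n ≤ s j := by
  rw [smul_eq_mul, Ideal.mul_top, mem_ofList_take]

private lemma isWeaklyRegular_vars (n : ℕ) :
    IsWeaklyRegular (MvPolynomial (Fin (r + 1)) A) ((vars A r).map (· ^ n)) := by
  refine ⟨fun i hi => isSMulRegular_iff_right_eq_zero_of_smul.2 fun q hq => ?_⟩
  obtain ⟨q, rfl⟩ := Submodule.Quotient.mk_surjective _ q
  rw [← Submodule.Quotient.mk_smul, Submodule.Quotient.mk_eq_zero, mem_smul_top_take] at hq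
  rw [Submodule.Quotient.mk_eq_zero, mem_smul_top_take]
  have hi' : i < r + 1 := by simpa [vars] using hi
  intro s hs
  have hmem : Finsupp.single ⟨i, hi'⟩ n + s ∈ (((vars A r).map (· ^ n))[i] • q).support := by
    rw [MvPolynomial.mem_support_iff] at hs ⊢
    rw [show ((vars A r).map (· ^ n))[i] = monomial (Finsupp.single ⟨i, hi'⟩ n) (1 : A) by
      simp only [vars, List.getElem_map, List.getElem_ofFn, X_pow_eq_monomial], smul_eq_mul, coeff_monomial_mul, one_mul]
    exact hs
  obtain ⟨j, hj, hjn⟩ := hq _ hmem
  refine ⟨j, hj, ?_⟩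
  rwa [Finsupp.add_apply, Finsupp.single_eq_of_ne (by intro h; rw [h] at hj; exact lt_irrefl _ hj), zero_add] at hjn

private theorem lim_subsingleton (d : ℤ) (hd : d ≠ 0) :
    Subsingleton (KoszulCone.Lim (Smod A r) (vars A r) d) := by
  refine subsingleton_of_forall_eq 0 fun z => ?_
  obtain ⟨n, x, rfl⟩ := Module.DirectLimit.exists_of z
  haveI := ModuleCat.subsingleton_of_isZero
    (KoszulCone.isZero_of_isWeaklyRegular _ (Smod A r) (isWeaklyRegular_vars A r n) d hd)
  rw [Subsingleton.elim x 0, map_zero]

open Classical in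
/-- Principal parts of order at most `n`. -/
private noncomputable def principal (n : ℕ) :
    MvPolynomial (Fin (r + 1)) A →ₗ[A] ((Fin (r + 1) →₀ ℕ) →₀ A) :=
  (basisMonomials (Fin (r + 1)) A).constr A fun s =>
    if ∀ j, s j < n then Finsupp.single (Finsupp.equivFunOnFinite.symm fun j => n - 1 - s j) 1 else 0

open Classical in
private lemma principal_monomial (n : ℕ) (s : Fin (r + 1) →₀ ℕ) (a : A) :
    principal A r n (monomial s a) =
      if ∀ j, s j < n then Finsupp.single (Finsupp.equivFunOnFinite.symm fun j => n - 1 - s j) a else 0 := by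
  have h1 : principal A r n (monomial s (1 : A)) = if ∀ j, s j < n then
      Finsupp.single (Finsupp.equivFunOnFinite.symm fun j => n - 1 - s j) 1 else 0 := by
    have h := (basisMonomials (Fin (r + 1)) A).constr_basis A (fun s : Fin (r + 1) →₀ ℕ => if ∀ j, s j < n then
      Finsupp.single (Finsupp.equivFunOnFinite.symm fun j => n - 1 - s j) (1 : A) else 0) s
    rwa [coe_basisMonomials] at h
  rw [show monomial s a = a • monomial s (1 : A) by rw [smul_monomial, smul_eq_mul, mul_one], map_smul, h1]
  split <;> simp

private lemma principal_eq_zero_iff (n : ℕ) (x : MvPolynomial (Fin (r + 1)) A) :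
    principal A r n x = 0 ↔ x ∈ Ideal.ofList ((vars A r).map (· ^ n)) := by
  classical
  rw [show (vars A r).map (· ^ n) = ((vars A r).map (· ^ n)).take (r + 1) from
    (List.take_of_length_le (by simp [vars])).symm, mem_ofList_take]
  have key : ∀ t : Fin (r + 1) →₀ ℕ, (∀ j, t j < n) →
      principal A r n x (Finsupp.equivFunOnFinite.symm fun j => n - 1 - t j) = coeff t x := by
    intro t ht
    induction x using MvPolynomial.induction_on' with
    | monomial s a =>
      rw [principal_monomial, coeff_monomial]
      by_cases hs : ∀ j, s j < n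
      · rw [if_pos hs, Finsupp.single_apply]
        refine if_congr ⟨fun h => ?_, fun h => by rw [h]⟩ rfl rfl
        ext j
        have := DFunLike.congr_fun h j
        simp only [Finsupp.equivFunOnFinite_symm_apply_apply] at this
        have := hs j; have := ht j; omega
      · rw [if_neg hs, if_neg (fun h => hs (fun j => by rw [h]; exact ht j))]
        rfl
    | add p q hp hq => rw [map_add, Finsupp.add_apply, coeff_add, hp, hq]
  constructor
  · intro h s hs
    by_contra hne
    push Not at hne
    refine MvPolynomial.mem_support_iff.1 hs ?_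
    rw [← key s (fun j => hne j j.2), h]
    rfl
  · intro h
    rw [x.as_sum, map_sum]
    refine Finset.sum_eq_zero fun s hs => ?_
    obtain ⟨j, -, hj⟩ := h s hs
    rw [principal_monomial, if_neg (fun hall => absurd (hall j) (by omega))]

private lemma principal_mul (n m : ℕ) (h : n ≤ m) (x : MvPolynomial (Fin (r + 1)) A) :
    principal A r m (((vars A r).map (· ^ (m - n))).prod * x) = principal A r n x := by
  classical
  have hp : ((vars A r).map (· ^ (m - n))).prod =
      monomial (Finsupp.equivFunOnFinite.symm fun _ : Fin (r + 1) => m - n) (1 : A) := by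
    rw [vars, List.map_ofFn, List.prod_ofFn, monomial_eq, C_1, one_mul, Finsupp.prod_fintype _ _ (fun _ => pow_zero _)]
    rfl
  rw [hp]
  induction x using MvPolynomial.induction_on' with
  | monomial s a =>
    rw [monomial_mul, one_mul, principal_monomial, principal_monomial]
    by_cases hs : ∀ j, s j < n
    · rw [if_pos hs, if_pos (fun j => by simp; have := hs j; omega)]
      congr 1
      ext j
      simp only [Finsupp.equivFunOnFinite_symm_apply_apply, Finsupp.add_apply]
      have := hs j; omega
    · rw [if_neg hs, if_neg (fun h' => hs fun j => by have := h' j; simp at this; omega)]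
  | add p q hp hq => rw [mul_add, map_add, map_add, hp, hq]

private noncomputable abbrev R0 :=
  RestrictScalars A (MvPolynomial (Fin (r + 1)) A) (KoszulCone.Lim (Smod A r) (vars A r) 0)

/-- The class of `x` at level `n`. -/
private noncomputable def toLim (n : ℕ) : MvPolynomial (Fin (r + 1)) A →ₗ[A] R0 A r where
  toFun x := (RestrictScalars.addEquiv A (MvPolynomial (Fin (r + 1)) A) _).symm
    (KoszulCone.cls (Smod A r) (vars A r) 0 n (KoszulCone.topMap (Smod A r) _ x))
  map_add' x y := by
    have : KoszulCone.topMap (Smod A r) ((vars A r).map (· ^ n)) (x + y) =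
      KoszulCone.topMap (Smod A r) _ x + KoszulCone.topMap (Smod A r) _ y := map_add _ x y
    rw [this, map_add, map_add]
  map_smul' a x := by
    have h1 : (a • x : MvPolynomial (Fin (r + 1)) A) = (algebraMap A (MvPolynomial (Fin (r + 1)) A) a) • x :=
      Algebra.smul_def a x
    have h2 : KoszulCone.topMap (Smod A r) ((vars A r).map (· ^ n))
        ((algebraMap A (MvPolynomial (Fin (r + 1)) A) a) • x : MvPolynomial (Fin (r + 1)) A) =
      (algebraMap A (MvPolynomial (Fin (r + 1)) A) a) • KoszulCone.topMap (Smod A r) _ x :=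
      map_smul (KoszulCone.topMap (Smod A r) ((vars A r).map (· ^ n))).hom _ x
    rw [h1, h2, map_smul]
    rfl

private lemma toLim_eq (n m : ℕ) (h : n ≤ m) (x : MvPolynomial (Fin (r + 1)) A) :
    toLim A r m (((vars A r).map (· ^ (m - n))).prod * x) = toLim A r n x := by
  refine congrArg (RestrictScalars.addEquiv A (MvPolynomial (Fin (r + 1)) A) _).symm ?_
  exact (congrArg (KoszulCone.cls (Smod A r) (vars A r) 0 m)
    (KoszulCone.transH_topMap (Smod A r) h (vars A r) x).symm).trans (KoszulCone.cls_trans _ _ _ h _)

private lemma toLim_eq_zero_iff (n : ℕ) (x : MvPolynomial (Fin (r + 1)) A) :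
    toLim A r n x = 0 ↔ principal A r n x = 0 := by
  rw [toLim, LinearMap.coe_mk, AddHom.coe_mk, map_eq_zero_iff _ (AddEquiv.injective _),
    KoszulCone.cls_eq_zero_iff]
  have hz : ∀ (m : ℕ) (y : MvPolynomial (Fin (r + 1)) A),
      KoszulCone.topMap (Smod A r) ((vars A r).map (· ^ m)) y = 0 ↔ principal A r m y = 0 := by
    intro m y
    rw [(KoszulCone.topMap_spec (Smod A r) _).2, principal_eq_zero_iff, smul_eq_mul, Ideal.mul_top]
  constructor
  · rintro ⟨m, h, hm⟩
    rw [← principal_mul A r n m h]
    exact (hz m _).1 ((KoszulCone.transH_topMap (Smod A r) h (vars A r) x).symm.trans hm)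
  · intro h
    exact ⟨n, le_rfl, by rw [(hz n x).2 h, map_zero]⟩

private theorem free_R0 : Module.Free A (R0 A r) := by
  classical
  let bd : (Fin (r + 1) →₀ ℕ) → ℕ := fun e => ∑ j, e j + 1
  let Ψ : ((Fin (r + 1) →₀ ℕ) →₀ A) →ₗ[A] R0 A r := Finsupp.linearCombination A fun e =>
    toLim A r (bd e) (monomial (Finsupp.equivFunOnFinite.symm fun j => bd e - 1 - e j) 1)
  have hbd : ∀ (e : Fin (r + 1) →₀ ℕ) j, e j < bd e := fun e j => by
    have := Finset.single_le_sum (fun i _ => Nat.zero_le (e i)) (Finset.mem_univ j)
    simp only [bd]; omega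
  have hΨ : ∀ n x, Ψ (principal A r n x) = toLim A r n x := by
    intro n x
    induction x using MvPolynomial.induction_on' with
    | monomial s a =>
      by_cases hs : ∀ j, s j < n
      · rw [principal_monomial, if_pos hs, Finsupp.linearCombination_single, ← map_smul, smul_monomial,
          smul_eq_mul, mul_one]
        set e : Fin (r + 1) →₀ ℕ := Finsupp.equivFunOnFinite.symm fun j => n - 1 - s j with he
        set k := max n (bd e)
        rw [← toLim_eq A r n k (le_max_left _ _), ← toLim_eq A r (bd e) k (le_max_right _ _)]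
        refine sub_eq_zero.1 ?_
        rw [← map_sub, toLim_eq_zero_iff, map_sub, principal_mul _ _ _ _ (le_max_left _ _),
          principal_mul _ _ _ _ (le_max_right _ _), principal_monomial, principal_monomial, if_pos hs,
          if_pos (fun j => by simp; have := hbd e j; omega), sub_eq_zero]
        congr 1
        ext j
        simp only [Finsupp.equivFunOnFinite_symm_apply_apply]
        have := hbd e j; have := hs j
        have : e j = n - 1 - s j := by simp [he]
        omega
      · have h0 : principal A r n (monomial s a) = 0 := by rw [principal_monomial, if_neg hs]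
        rw [h0, map_zero, (toLim_eq_zero_iff A r n _).2 h0]
    | add p q hp hq => rw [map_add, map_add, map_add, hp, hq]
  refine Module.Free.of_equiv (LinearEquiv.ofBijective Ψ ⟨?_, ?_⟩)
  · refine (injective_iff_map_eq_zero Ψ).2 fun t ht => ?_
    let N : ℕ := ∑ e ∈ t.support, bd e
    let x : MvPolynomial (Fin (r + 1)) A :=
      ∑ e ∈ t.support, monomial (Finsupp.equivFunOnFinite.symm fun j => N - 1 - e j) (t e)
    have hN : ∀ e ∈ t.support, bd e ≤ N := fun e he => Finset.single_le_sum (fun i _ => Nat.zero_le _) he
    have hx : principal A r N x = t := by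
      rw [map_sum]
      conv_rhs => rw [← Finsupp.sum_single t]
      refine Finset.sum_congr rfl fun e he => ?_
      rw [principal_monomial, if_pos (fun j => by simp; have := hbd e j; have := hN e he; omega)]
      congr 1
      ext j
      simp only [Finsupp.equivFunOnFinite_symm_apply_apply]
      have := hbd e j; have := hN e he; omega
    rw [← hx, hΨ, toLim_eq_zero_iff, hx] at ht
    exact ht
  · intro w
    obtain ⟨n, y, hy⟩ := Module.DirectLimit.exists_of
      (RestrictScalars.addEquiv A (MvPolynomial (Fin (r + 1)) A) _ w)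
    obtain ⟨x, rfl⟩ := (KoszulCone.topMap_spec (Smod A r) _).1 y
    exact ⟨principal A r n x, (hΨ n x).trans ((congrArg _ hy).trans (AddEquiv.symm_apply_apply _ w))⟩

private theorem free_lim (d : ℤ) (hd : d = 0) : Module.Free A
    (RestrictScalars A (MvPolynomial (Fin (r + 1)) A) (KoszulCone.Lim (Smod A r) (vars A r) d)) := by
  subst hd
  exact free_R0 A r


open CategoryTheory CategoryTheory.Limits in
/-- Let A be a ring, S = A[T_0, …, T_r] the polynomial ring and T = (T_0, …, T_r). Then the direct-limit
Koszul cohomology H^i((T), S), the colimit over n of the Koszul cohomologies H^i(T^n, S), vanishes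
for every i ≠ r + 1, and H^(r+1)((T), S) is a free A-module (the source gives an explicit basis
indexed by the monomials with all exponents positive). -/
theorem result (A : Type u) [CommRing A] (r : ℕ) :
    (∀ i : ℕ, i ≠ r + 1 →
      Subsingleton (CohIII.koszulHLim (List.ofFn (fun j : Fin (r + 1) => (MvPolynomial.X j : MvPolynomial (Fin (r + 1)) A)))
        (ModuleCat.of (MvPolynomial (Fin (r + 1)) A) (MvPolynomial (Fin (r + 1)) A)) i)) ∧
    Module.Free A (RestrictScalars A (MvPolynomial (Fin (r + 1)) A)
      (CohIII.koszulHLim (List.ofFn (fun j : Fin (r + 1) => (MvPolynomial.X j : MvPolynomial (Fin (r + 1)) A)))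
        (ModuleCat.of (MvPolynomial (Fin (r + 1)) A) (MvPolynomial (Fin (r + 1)) A)) (r + 1))) := by
  exact ⟨fun i hi => lim_subsingleton A r _ (by simp; omega), free_lim A r _ (by simp)⟩

end Groth.Agent.S4475
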