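import Groth.Statements.S4477
import Groth.Agent.BCCx.NearFree
-- import your own Groth.Agent.* helpers here

set_option autoImplicit false
universe u
attribute [local instance] HasDerivedCategory.standard
open Coherent

namespace Groth.Agent.S4477

open AlgebraicGeometry CategoryTheory in
/-- Let Y be a locally Noetherian scheme, f : X → Y a proper flat morphism, y a point of Y, and F, G
finite locally free O_X-modules whose restrictions F_y and G_y to the fibre X_y are isomorphic (both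
isomorphic to one locally free E₀). Assume that Hom(F_y, −) exists as the right adjoint of F_y ⊗ −
and that H^1(X_y, Hom(F_y, F_y)) = 0. Then there is an open neighbourhood U of y such that the
restrictions of F and G to f⁻¹(U) are isomorphic. -/
theorem result {X Y : Scheme.{u}} (f : X ⟶ Y) [IsProper f] [Flat f]
    [IsLocallyNoetherian Y] (y : Y) (F G : X.Modules) (hF : FlatMod.IsFinLocFree F) (hG : FlatMod.IsFinLocFree G)
    [DCoh.HasSheafHom (CohIII.fiberMod f F y)]
    (h1 : Subsingleton (Coh.HH (f.fiber y) ((DCoh.sheafHom (CohIII.fiberMod f F y)).obj (CohIII.fiberMod f F y)) 1))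
    (hy : Nonempty (CohIII.fiberMod f F y ≅ CohIII.fiberMod f G y)) :
    ∃ U : Y.Opens, y ∈ U ∧ Nonempty (F.restrict (f ⁻¹ᵁ U).ι ≅ G.restrict (f ⁻¹ᵁ U).ι) := by
  obtain ⟨τ⟩ := hy
  let Fy := CohIII.fiberMod f F y
  haveI := Groth.Agent.ModGroth.hasSheafHom (O := (f.fiber y).sheaf) Fy
  have h1' : Subsingleton (Coh.HH (f.fiber y) (Groth.Agent.BCCx.HomBC.hom₂ Fy Fy) 1) := ⟨fun a b =>
    ((CohIII.HAb (f.fiber y) 1).mapIso ((Groth.Agent.SSExist.homXIso Fy).app Fy)).addCommGroupIsoToAddEquiv.injective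
      (@Subsingleton.elim _ h1 _ _)⟩
  obtain ⟨D, j, hj, hsub, ⟨κ⟩⟩ := Groth.Agent.BCCx.HomBC.exists_iso_near_fibre f y hF hG τ h1'
  let C : Set X := (Set.range j.base)ᶜ
  have hC : IsClosed C := hj.base_open.isOpen_range.isClosed_compl
  have hfC : IsClosed (f.base '' C) := f.isClosedMap _ hC
  let U : Y.Opens := ⟨(f.base '' C)ᶜ, hfC.isOpen_compl⟩
  refine ⟨U, fun ⟨x, hx, hxy⟩ => hx (hsub x hxy), ?_⟩
  have hle : Set.range (f ⁻¹ᵁ U).ι.base ⊆ Set.range j.base := by
    rintro _ ⟨⟨x, hx⟩, rfl⟩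
    by_contra h
    exact hx ⟨x, h, rfl⟩
  let k := IsOpenImmersion.lift j (f ⁻¹ᵁ U).ι hle
  let e : ∀ M : X.Modules, (Scheme.Modules.pullback k).obj ((Scheme.Modules.pullback j).obj M) ≅
      M.restrict (f ⁻¹ᵁ U).ι := fun M =>
    (Scheme.Modules.pullbackComp k j).app M ≪≫
      (Scheme.Modules.pullbackCongr (IsOpenImmersion.lift_fac j (f ⁻¹ᵁ U).ι hle)).app M ≪≫
      ((Scheme.Modules.restrictFunctorIsoPullback (f ⁻¹ᵁ U).ι).app M).symm
  exact ⟨(e F).symm ≪≫ (Scheme.Modules.pullback k).mapIso κ ≪≫ e G⟩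

end Groth.Agent.S4477
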