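import Groth.Statements.S4488
import Groth.Agent.TFun.Bounded

set_option autoImplicit false
universe u
open FlatCx

namespace Groth.Agent.S4488

open CategoryTheory CategoryTheory.Limits in
/-- For the homological functor T_q(M) = H_q(P ⊗_A M) of a chain complex P of flat modules over a
commutative local ring A with residue field k. Suppose P_i = 0 for i < i₀ and that every T_n(A) is a
finitely presented A-module, and let p be an integer. If T_q takes injections to injections and
surjections to surjections for every q ≤ p, then dim_{k(x)} T_q(k(x)) = dim_k T_q(k) for every point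
x of Spec A and every q ≤ p. Conversely, if A is reduced and this equality holds at the generic
point of every irreducible component of Spec A (every minimal prime) for every q ≤ p, then T_q takes
injections to injections and surjections to surjections for every q ≤ p. No Noetherian hypothesis on
A. -/
theorem result {A : Type u} [CommRing A] [IsLocalRing A]
    (P : ChainComplex (ModuleCat.{u} A) ℤ) (hP : ∀ i, Module.Flat A (P.X i)) (i₀ : ℤ)
    (hb : ∀ i < i₀, IsZero (P.X i))
    (hfp : ∀ n : ℤ, Module.FinitePresentation A (CohIII.T P n (ModuleCat.of A A))) (p : ℤ) :
    ((∀ q ≤ p, (CohIII.TFun P q).PreservesMonomorphisms ∧ (CohIII.TFun P q).PreservesEpimorphisms) →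
        ∀ (x : PrimeSpectrum A), ∀ q ≤ p, CohIII.dRank P q x = CohIII.dRank P q (IsLocalRing.closedPoint A)) ∧
      (IsReduced A →
        (∀ x : PrimeSpectrum A, x.asIdeal ∈ minimalPrimes A →
          ∀ q ≤ p, CohIII.dRank P q x = CohIII.dRank P q (IsLocalRing.closedPoint A)) →
        ∀ q ≤ p, (CohIII.TFun P q).PreservesMonomorphisms ∧ (CohIII.TFun P q).PreservesEpimorphisms) := by
  have hH := Groth.Agent.TFun.finitePresentation_homology P hfp
  refine ⟨fun h x q hq => ?_, fun hred hmin => ?_⟩
  · have := (Groth.Agent.TFun.isLocallyConstant_dRank_of_fp P hP q (h q hq) (hfp q))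
    exact Groth.Agent.TFun.mem_of_isOpen_closedPoint
      (this.isOpen_fiber (CohIII.dRank P q (IsLocalRing.closedPoint A))) rfl x
  · have hfree : ∀ n ≤ p, Module.Flat A (P.homology n) := by
      suffices ∀ n, i₀ - 1 ≤ n → n ≤ p → ∀ m ≤ n, Module.Flat A (P.homology m) by
        intro n hn
        by_cases h : i₀ - 1 ≤ n
        · exact this n h hn n le_rfl
        · have : Subsingleton (P.homology n) :=
            ModuleCat.isZero_iff_subsingleton.1 (HomologicalComplex.ExactAt.isZero_homology
              (HomologicalComplex.ExactAt.of_isZero (hb n (by omega))))
          exact inferInstance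
      intro n hn
      induction n, hn using Int.leInduction with
      | base =>
        intro _ m hm
        have : Subsingleton (P.homology m) :=
          ModuleCat.isZero_iff_subsingleton.1 (HomologicalComplex.ExactAt.isZero_homology
            (HomologicalComplex.ExactAt.of_isZero (hb m (by omega))))
        exact inferInstance
      | succ k hk ih =>
        intro hkp m hm
        by_cases hmk : m ≤ k
        · exact ih (by omega) m hmk
        obtain rfl : m = k + 1 := by omega
        have hC := Groth.Agent.TFun.flat_coker_of_flat_homology P hP i₀ hb k (ih (by omega)) le_rfl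
        have hd := Groth.Agent.TFun.dRank_eq_fibreDim P hP (r := k + 1 + 1) (p := k + 1) (q := k)
          rfl rfl hC
        have := hH (k + 1)
        have : Module.Free A (P.homology (k + 1)) :=
          Groth.Agent.TFun.free_of_fibreDim_minimalPrimes _ fun x hx => by
            rw [← hd, ← hd]; exact hmin x hx _ hkp
        exact inferInstance
    exact fun q hq => Groth.Agent.TFun.exact_of_flat_homology P hP i₀ hb p hfree hq

end Groth.Agent.S4488
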