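import Groth.Statements.S4491
import Groth.Agent.TFun.Flat

set_option autoImplicit false
universe u
open FlatCx

namespace Groth.Agent.S4491

open CategoryTheory CategoryTheory.Limits in
/-- For the homological functor T_i(M) = H_i(P ⊗_A M) of a chain complex P of flat modules over a
commutative ring A. Let q + 1 = p and suppose T_p takes surjections to surjections. If
multiplication by f ∈ A is injective on an A-module M, then multiplication by f is injective on
T_q(M). In particular, when A is a domain, T_q(A) is torsion-free. -/
theorem result {A : Type u} [CommRing A]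
    (P : ChainComplex (ModuleCat.{u} A) ℤ) (hP : ∀ i, Module.Flat A (P.X i)) (p q : ℤ) (hpq : q + 1 = p)
    (hex : (CohIII.TFun P p).PreservesEpimorphisms) :
    (∀ (M : ModuleCat.{u} A) (f : A), Function.Injective (fun x : M => f • x) →
        Function.Injective (fun y : CohIII.T P q M => f • y)) ∧
      (IsDomain A → NoZeroSMulDivisors A (CohIII.T P q (ModuleCat.of A A))) := by
  have hm : (CohIII.TFun P q).PreservesMonomorphisms :=
    (TFun.preservesEpi_iff_preservesMono P hP hpq).1 hex
  have key : ∀ (M : ModuleCat.{u} A) (f : A), Function.Injective (fun x : M => f • x) →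
      Function.Injective (fun y : CohIII.T P q M => f • y) := by
    intro M f hf
    let g : M ⟶ M := ModuleCat.ofHom (f • (LinearMap.id : M →ₗ[A] M))
    have : Mono g := (ModuleCat.mono_iff_injective g).2 hf
    have h2 := (ModuleCat.mono_iff_injective _).1 (hm.preserves g)
    have e : ∀ y : CohIII.T P q M, (CohIII.TFun P q).map g y = f • y := by
      intro y
      obtain ⟨z, rfl⟩ := TFun.homologyπ_surjective y
      obtain ⟨z', h1, h3⟩ := TFun.homologyMap_π (CohIII.tensorMap P g) z
      rw [show z' = f • z from TFun.iCycles_injective (h3.trans (by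
        rw [map_smul]
        change (f • (LinearMap.id : M →ₗ[A] M)).lTensor (P.X q) _ = _
        rw [LinearMap.lTensor_smul, LinearMap.lTensor_id]
        rfl)), map_smul] at h1
      exact h1
    intro a b hab
    exact h2 ((e a).trans (hab.trans (e b).symm))
  refine ⟨key, fun _ => ⟨fun {c x} hcx => ?_⟩⟩
  rcases eq_or_ne c 0 with hc | hc
  · exact Or.inl hc
  · exact Or.inr (key (ModuleCat.of A A) c (fun a b hab => mul_left_cancel₀ hc hab)
      (show c • x = c • (0 : CohIII.T P q (ModuleCat.of A A)) by rw [hcx, smul_zero]))

end Groth.Agent.S4491
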