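import Mathlib
import Groth.Statements.S4492
-- import your own Groth.Agent.* helpers here

set_option autoImplicit false
universe u
open FlatCx

namespace Groth.Agent.S4492

open CategoryTheory CategoryTheory.Limits in
/-- (The published statement is for arbitrary abelian categories; this row is for functors between
module categories.) Let F be an additive functor from A-modules to B-modules which is half exact
(every short exact sequence 0 → E' → E → E'' → 0 goes to a sequence F(E') → F(E) → F(E'') exact at
the middle) and such that F(S) has finite length for every simple A-module S. Then F(E) has finite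
length for every A-module E of finite length; and for every short exact sequence 0 → E' → E → E'' →
0 of A-modules with E of finite length one has length F(E) ≤ length F(E') + length F(E''), with
equality if and only if 0 → F(E') → F(E) → F(E'') → 0 is (short) exact. Lengths are Mathlib's,
valued in ℕ∞. -/
theorem result {A B : Type u} [Ring A] [Ring B]
    (F : ModuleCat.{u} A ⥤ ModuleCat.{u} B) [F.Additive]
    (hF : ∀ S : ShortComplex (ModuleCat.{u} A), S.ShortExact → (S.map F).Exact)
    (hS : ∀ M : ModuleCat.{u} A, IsSimpleModule A M → Module.length B (F.obj M) ≠ ⊤) :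
    (∀ E : ModuleCat.{u} A, Module.length A E ≠ ⊤ → Module.length B (F.obj E) ≠ ⊤) ∧
      ∀ S : ShortComplex (ModuleCat.{u} A), S.ShortExact → Module.length A S.X₂ ≠ ⊤ →
        Module.length B (F.obj S.X₂) ≤ Module.length B (F.obj S.X₁) + Module.length B (F.obj S.X₃) ∧
          (Module.length B (F.obj S.X₂) = Module.length B (F.obj S.X₁) + Module.length B (F.obj S.X₃) ↔
            (S.map F).ShortExact) := by
  classical
  have hle : ∀ S : ShortComplex (ModuleCat.{u} A), S.ShortExact →
      Module.length B (F.obj S.X₂) = Module.length B (LinearMap.range (F.map S.f).hom) + Module.length B (LinearMap.range (F.map S.g).hom) := by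
    intro S hS'
    have hex : LinearMap.range (F.map S.f).hom = LinearMap.ker (F.map S.g).hom :=
      (ShortComplex.moduleCat_exact_iff_range_eq_ker _).1 (hF S hS')
    refine Module.length_eq_add_of_exact (LinearMap.range (F.map S.f).hom).subtype (F.map S.g).hom.rangeRestrict
      (Submodule.injective_subtype _) (LinearMap.surjective_rangeRestrict _) ?_
    rw [LinearMap.exact_iff, LinearMap.ker_rangeRestrict, Submodule.range_subtype, hex]
  have hbound : ∀ S : ShortComplex (ModuleCat.{u} A), S.ShortExact →
      Module.length B (F.obj S.X₂) ≤ Module.length B (F.obj S.X₁) + Module.length B (F.obj S.X₃) := fun S hS' => by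
    rw [hle S hS']
    exact add_le_add (Module.length_le_of_surjective (F.map S.f).hom.rangeRestrict (LinearMap.surjective_rangeRestrict _))
      (Module.length_le_of_injective (LinearMap.range (F.map S.g).hom).subtype (Submodule.injective_subtype _))
  have hfin : ∀ (M : Type u) [AddCommGroup M] [Module A M], IsFiniteLength A M → Module.length B (F.obj (ModuleCat.of A M)) ≠ ⊤ := by
    intro M _ _ h
    induction h with
    | @of_subsingleton M _ _ _ =>
      have hz : Limits.IsZero (F.obj (ModuleCat.of A M)) := F.map_isZero (ModuleCat.isZero_of_subsingleton _)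
      haveI := ModuleCat.subsingleton_of_isZero hz
      rw [Module.length_eq_zero]
      exact ENat.zero_ne_top
    | @of_simple_quotient M _ _ N hsimp _ ih =>
      let S : ShortComplex (ModuleCat.{u} A) := ShortComplex.mk (ModuleCat.ofHom N.subtype) (ModuleCat.ofHom N.mkQ)
        (ModuleCat.hom_ext (LinearMap.ext fun x => (Submodule.Quotient.mk_eq_zero N).2 x.2))
      have hS' : S.ShortExact :=
        { exact := by
            rw [ShortComplex.moduleCat_exact_iff_range_eq_ker]
            show LinearMap.range N.subtype = LinearMap.ker N.mkQ
            rw [Submodule.range_subtype, Submodule.ker_mkQ]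
          mono_f := (ModuleCat.mono_iff_injective _).2 N.injective_subtype
          epi_g := (ModuleCat.epi_iff_surjective _).2 N.mkQ_surjective }
      exact ne_top_of_le_ne_top (WithTop.add_ne_top.2 ⟨ih, hS (ModuleCat.of A (M ⧸ N)) hsimp⟩) (hbound S hS')
  have hfin' : ∀ E : ModuleCat.{u} A, Module.length A E ≠ ⊤ → Module.length B (F.obj E) ≠ ⊤ :=
    fun E hE => hfin E (Module.length_ne_top_iff.1 hE)
  refine ⟨hfin', fun S hS' h2 => ⟨hbound S hS', ?_⟩⟩
  have hf := hS'.mono_f
  have hg := hS'.epi_g
  have h1 : Module.length A S.X₁ ≠ ⊤ :=
    ne_top_of_le_ne_top h2 (Module.length_le_of_injective S.f.hom ((ModuleCat.mono_iff_injective _).1 hf))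
  have h3 : Module.length A S.X₃ ≠ ⊤ :=
    ne_top_of_le_ne_top h2 (Module.length_le_of_surjective S.g.hom ((ModuleCat.epi_iff_surjective _).1 hg))
  constructor
  · intro heq
    have e := hle S hS'
    rw [heq] at e
    have a1 : Module.length B (LinearMap.range (F.map S.f).hom) ≤ Module.length B (F.obj S.X₁) :=
      Module.length_le_of_surjective (F.map S.f).hom.rangeRestrict (LinearMap.surjective_rangeRestrict _)
    have a3 : Module.length B (LinearMap.range (F.map S.g).hom) ≤ Module.length B (F.obj S.X₃) :=
      Module.length_le_of_injective (LinearMap.range (F.map S.g).hom).subtype (Submodule.injective_subtype _)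
    have n1 := hfin' _ h1
    have n3 := hfin' _ h3
    have eker := Module.length_eq_add_of_exact (LinearMap.ker (F.map S.f).hom).subtype (F.map S.f).hom.rangeRestrict
      (Submodule.injective_subtype _) (LinearMap.surjective_rangeRestrict _)
      (by rw [LinearMap.exact_iff, LinearMap.ker_rangeRestrict, Submodule.range_subtype])
    have ecok := Module.length_eq_add_of_exact (LinearMap.range (F.map S.g).hom).subtype (LinearMap.range (F.map S.g).hom).mkQ
      (Submodule.injective_subtype _) (Submodule.mkQ_surjective _) (LinearMap.exact_subtype_mkQ _)
    generalize hr1 : Module.length B (LinearMap.range (F.map S.f).hom) = r1 at e a1 eker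
    generalize hr3 : Module.length B (LinearMap.range (F.map S.g).hom) = r3 at e a3 ecok
    generalize hx1 : Module.length B (F.obj S.X₁) = x1 at e a1 eker n1
    generalize hx3 : Module.length B (F.obj S.X₃) = x3 at e a3 ecok n3
    generalize hk : Module.length B (LinearMap.ker (F.map S.f).hom) = kk at eker
    generalize hc : Module.length B (↑(F.obj S.X₃) ⧸ LinearMap.range (F.map S.g).hom) = cc at ecok
    lift x1 to ℕ using n1
    lift x3 to ℕ using n3
    lift r1 to ℕ using ne_top_of_le_ne_top (ENat.coe_ne_top _) a1
    lift r3 to ℕ using ne_top_of_le_ne_top (ENat.coe_ne_top _) a3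
    have hk0 : kk = 0 := by
      induction kk using ENat.recTopCoe with
      | top => simp at eker
      | coe kk => norm_cast at e a1 a3 eker ⊢; omega
    have hc0 : cc = 0 := by
      induction cc using ENat.recTopCoe with
      | top => simp at ecok
      | coe cc => norm_cast at e a1 a3 ecok ⊢; omega
    rw [hk0, Module.length_eq_zero_iff] at hk
    rw [hc0, Module.length_eq_zero_iff, Submodule.Quotient.subsingleton_iff] at hc
    exact
      { exact := hF S hS'
        mono_f := (ModuleCat.mono_iff_injective _).2 (LinearMap.ker_eq_bot.1 (Submodule.subsingleton_iff_eq_bot.1 hk))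
        epi_g := (ModuleCat.epi_iff_surjective _).2 (LinearMap.range_eq_top.1 hc) }
  · intro hT
    exact Module.length_eq_add_of_exact (F.map S.f).hom (F.map S.g).hom
      ((ModuleCat.mono_iff_injective _).1 hT.mono_f) ((ModuleCat.epi_iff_surjective _).1 hT.epi_g)
      ((ShortComplex.ShortExact.moduleCat_exact_iff_function_exact _).1 hT.exact)

end Groth.Agent.S4492
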