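import Groth.Statements.S4507
import Mathlib.Algebra.Category.ModuleCat.FilteredColimits
import Mathlib.CategoryTheory.Limits.Types.Filtered
-- import your own Groth.Agent.* helpers here

set_option autoImplicit false
universe u
open FlatCx

namespace Groth.Agent.S4507

/-- Denominators, ordered by divisibility inside `S`. -/
structure Den {A : Type u} [CommRing A] (S : Submonoid A) : Type u where
  /-- the denominator -/
  val : S

variable {A : Type u} [CommRing A] {S : Submonoid A}

open CategoryTheory in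
noncomputable instance : SmallCategory (Den S) where
  Hom s t := { u : S // u * s.val = t.val }
  id s := ⟨1, one_mul _⟩
  comp u v := ⟨v.1 * u.1, by rw [mul_assoc, u.2, v.2]⟩
  id_comp u := Subtype.ext (mul_one _)
  comp_id u := Subtype.ext (one_mul _)
  assoc u v w := Subtype.ext (mul_assoc _ _ _).symm

open CategoryTheory in
instance : IsFiltered (Den S) :=
  haveI : IsFilteredOrEmpty (Den S) :=
    { cocone_objs := fun s t => ⟨⟨t.val * s.val⟩, ⟨t.val, rfl⟩, ⟨s.val, mul_comm _ _⟩, trivial⟩
      cocone_maps := fun s t u v => ⟨⟨s.val * t.val⟩, ⟨s.val, rfl⟩, Subtype.ext (by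
        show s.val * u.1 = s.val * v.1
        rw [mul_comm s.val, mul_comm s.val, u.2, v.2])⟩ }
  { nonempty := ⟨⟨1⟩⟩ }

open CategoryTheory CategoryTheory.Limits in
/-- `S⁻¹M` is the filtered colimit of copies of `M`. -/
theorem exists_colimit (M : ModuleCat.{u} A) :
    ∃ (F : Den S ⥤ ModuleCat.{u} A) (c : Cocone F), Nonempty (IsColimit c) ∧ c.pt = ModuleCat.of A (LocalizedModule S M) ∧
      ∃ (hF : ∀ s, F.obj s = M) (hpt : c.pt = ModuleCat.of A (LocalizedModule S M)),
        (∀ s, (s.val : A) • (eqToHom (hF s).symm ≫ c.ι.app s ≫ eqToHom hpt) =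
          ModuleCat.ofHom (LocalizedModule.mkLinearMap S M)) ∧
        ∀ s t (u : s ⟶ t), eqToHom (hF s).symm ≫ F.map u ≫ eqToHom (hF t) = (u.1 : A) • 𝟙 M := by
  let F : Den S ⥤ ModuleCat.{u} A :=
    { obj := fun _ => M
      map := fun u => (u.1 : A) • 𝟙 M
      map_id := fun _ => one_smul A (𝟙 M)
      map_comp := fun u v => by
        show ((v.1 * u.1 : S) : A) • 𝟙 M = ((u.1 : A) • 𝟙 M) ≫ ((v.1 : A) • 𝟙 M)
        rw [Linear.smul_comp, Linear.comp_smul, Category.id_comp, smul_smul, Submonoid.coe_mul, mul_comm] }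
  let j : ∀ s : Den S, M →ₗ[A] LocalizedModule S M := fun s =>
    { toFun := fun m => LocalizedModule.mk m s.val
      map_add' := fun m m' => by
        rw [LocalizedModule.mk_add_mk, ← smul_add]
        exact (LocalizedModule.mk_cancel_common_left _ _ _).symm
      map_smul' := fun a m => (LocalizedModule.smul'_mk _ _ _).symm }
  let c : Cocone F :=
    { pt := ModuleCat.of A (LocalizedModule S M)
      ι :=
        { app := fun s => ModuleCat.ofHom (j s)
          naturality := fun s t u => by
            ext m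
            show LocalizedModule.mk ((u.1 : A) • m) t.val = LocalizedModule.mk m s.val
            obtain ⟨u, hu⟩ := u
            show LocalizedModule.mk ((u : A) • m) t.val = LocalizedModule.mk m s.val
            rw [← hu]
            exact LocalizedModule.mk_cancel_common_left _ _ _ } }
  haveI : ReflectsColimit F (forget (ModuleCat.{u} A)) := reflectsColimit_of_reflectsIsomorphisms F _
  refine ⟨F, c, ⟨isColimitOfReflects (forget (ModuleCat.{u} A)) (Types.FilteredColimit.isColimitOf' _ _ ?_ ?_)⟩,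
    rfl, fun _ => rfl, rfl, fun s => ?_, fun s t u => ?_⟩
  · intro x
    induction x using LocalizedModule.induction_on with
    | h m s => exact ⟨⟨s⟩, m, rfl⟩
  · intro s x y h
    obtain ⟨w, hw⟩ := LocalizedModule.mk_eq.1 (h : LocalizedModule.mk x s.val = LocalizedModule.mk y s.val)
    refine ⟨⟨(w * s.val) * s.val⟩, ⟨w * s.val, rfl⟩, ?_⟩
    show (((w * s.val : S) : A)) • x = (((w * s.val : S) : A)) • y
    rw [Submonoid.coe_mul, mul_smul, mul_smul]
    exact hw
  · ext m
    show (s.val : A) • LocalizedModule.mk m s.val = LocalizedModule.mk m 1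
    rw [LocalizedModule.smul'_mk]
    exact LocalizedModule.mk_cancel _ _
  · show 𝟙 M ≫ F.map u ≫ 𝟙 M = _
    rw [Category.id_comp, Category.comp_id]

open CategoryTheory CategoryTheory.Limits in
/-- The isomorphism T(S⁻¹M) ≅ S⁻¹T(M). Let A be a commutative ring, T an additive A-linear endofunctor
of the category of A-modules which preserves filtered colimits, S a multiplicative subset of A and M
an A-module. Then the A-linear map T(M) → T(S⁻¹M), image under T of the localization map M → S⁻¹M,
is a localization of T(M) at S (so T(S⁻¹M) is canonically S⁻¹T(M), as an S⁻¹A-module). -/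
theorem result {A : Type u} [CommRing A]
    (T : ModuleCat.{u} A ⥤ ModuleCat.{u} A) [T.Additive] [T.Linear A]
    (hT : ∀ (J : Type u) [SmallCategory J] [IsFiltered J], PreservesColimitsOfShape J T)
    (S : Submonoid A) (M : ModuleCat.{u} A) :
    IsLocalizedModule S (T.map (ModuleCat.ofHom (LocalizedModule.mkLinearMap S M) :
      M ⟶ ModuleCat.of A (LocalizedModule S M))).hom := by
  obtain ⟨F, c, ⟨hc⟩, -, hF, hpt, h1, h2⟩ := exists_colimit (S := S) M
  haveI := hT (Den S)
  let D := isColimitOfPreserves (T ⋙ forget (ModuleCat.{u} A)) hc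
  let G := T.map (ModuleCat.ofHom (LocalizedModule.mkLinearMap S M) : M ⟶ ModuleCat.of A (LocalizedModule S M))
  let j : ∀ s : Den S, T.obj M ⟶ T.obj (ModuleCat.of A (LocalizedModule S M)) := fun s =>
    T.map (eqToHom (hF s).symm ≫ c.ι.app s ≫ eqToHom hpt)
  have hj : ∀ (s : Den S) x, (s.val : A) • (j s).hom x = G.hom x := fun s x => by
    have e : (s.val : A) • j s = G := by
      show (s.val : A) • T.map _ = T.map _
      rw [← T.map_smul, h1]
    exact congrArg (fun φ => φ.hom x) e
  have cast_inj : ∀ {a b : ModuleCat.{u} A} (e : a = b), Function.Injective (T.map (eqToHom e)).hom := fun e => by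
    subst e; rw [eqToHom_refl, T.map_id]; exact fun _ _ h => h
  have hsurj : ∀ y, ∃ s x, (j s).hom x = y := fun y => by
    obtain ⟨s, x, hx⟩ := Types.jointly_surjective_of_isColimit D ((T.map (eqToHom hpt.symm)).hom y)
    refine ⟨s, (T.map (eqToHom (hF s))).hom x, ?_⟩
    show (T.map (eqToHom (hF s)) ≫ T.map (_ ≫ _ ≫ _)).hom x = y
    rw [← T.map_comp, eqToHom_trans_assoc, eqToHom_refl, Category.id_comp, T.map_comp]
    apply cast_inj hpt.symm
    show (T.map (eqToHom hpt) ≫ T.map (eqToHom hpt.symm)).hom ((T.map (c.ι.app s)).hom x) = _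
    rw [← T.map_comp, eqToHom_trans, eqToHom_refl, T.map_id]
    exact hx
  have hker : ∀ x₁ x₂, G.hom x₁ = G.hom x₂ → ∃ w : S, w • x₁ = w • x₂ := fun x₁ x₂ h => by
    let s : Den S := ⟨1⟩
    have e : ∀ x, (j s).hom x = G.hom x := fun x => by
      rw [← hj s x]; exact (one_smul A _).symm
    have h' : (j s).hom x₁ = (j s).hom x₂ := by rw [e, e, h]
    have h'' : (T.map (c.ι.app s)).hom ((T.map (eqToHom (hF s).symm)).hom x₁) =
        (T.map (c.ι.app s)).hom ((T.map (eqToHom (hF s).symm)).hom x₂) := by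
      apply cast_inj hpt
      simpa [j, T.map_comp] using h'
    obtain ⟨t, u, u', hu⟩ := (Types.FilteredColimit.isColimit_eq_iff _ D).1 h''
    obtain ⟨t', v, hv⟩ : ∃ (t' : Den S) (v : t ⟶ t'), u ≫ v = u' ≫ v :=
      ⟨IsFiltered.coeq u u', IsFiltered.coeqHom u u', IsFiltered.coeq_condition u u'⟩
    refine ⟨(u ≫ v).1, ?_⟩
    have h3 : ∀ x, (T.map (eqToHom (hF t'))).hom ((T.map (F.map (u ≫ v))).hom ((T.map (eqToHom (hF s).symm)).hom x)) =
        ((u ≫ v).1 : A) • x := fun x => by
      show (T.map (eqToHom (hF s).symm) ≫ T.map (F.map (u ≫ v)) ≫ T.map (eqToHom (hF t'))).hom x = _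
      rw [← T.map_comp, ← T.map_comp, h2, T.map_smul, T.map_id]
      rfl
    show ((u ≫ v).1 : A) • x₁ = ((u ≫ v).1 : A) • x₂
    rw [← h3, ← h3]
    congr 1
    nth_rw 2 [hv]
    simp only [F.map_comp, T.map_comp, ModuleCat.hom_comp, LinearMap.comp_apply]
    exact congrArg _ hu
  refine ⟨fun s => ?_, fun y => ?_, fun {x₁ x₂} h => hker x₁ x₂ h⟩
  · have hb := (Module.End.isUnit_iff _).1 (IsLocalizedModule.map_units (LocalizedModule.mkLinearMap S M) s)
    let N := ModuleCat.of A (LocalizedModule S M)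
    haveI : IsIso ((s : A) • 𝟙 N) := (ConcreteCategory.isIso_iff_bijective _).2 hb
    have e : T.map ((s : A) • 𝟙 N) = (s : A) • 𝟙 (T.obj N) := by rw [T.map_smul, T.map_id]
    haveI : IsIso ((s : A) • 𝟙 (T.obj N)) := e ▸ (inferInstance : IsIso (T.map ((s : A) • 𝟙 N)))
    exact (Module.End.isUnit_iff _).2 ((ConcreteCategory.isIso_iff_bijective ((s : A) • 𝟙 (T.obj N))).1 inferInstance)
  · obtain ⟨t, x, rfl⟩ := hsurj y
    exact ⟨(x, t.val), hj t x⟩

end Groth.Agent.S4507
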