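import Groth.Statements.S4493
import Groth.Agent.S4507
import Mathlib.Algebra.Homology.ShortComplex.ExactFunctor
import Mathlib.Algebra.Homology.ShortComplex.ModuleCat
import Mathlib.RingTheory.LocalProperties.Exactness
import Mathlib.Algebra.Module.LocalizedModule.Exact
-- import your own Groth.Agent.* helpers here

set_option autoImplicit false
universe u
open FlatCx

namespace Groth.Agent.S4493

open CategoryTheory CategoryTheory.Limits

section
variable {A : Type u} [CommRing A] (S : Submonoid A)

/-- The localized module as a restricted object. -/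
noncomputable abbrev RL (M : ModuleCat.{u} A) : ModuleCat.{u} A :=
  (ModuleCat.restrictScalars (algebraMap A (Localization S))).obj
    (ModuleCat.of (Localization S) (LocalizedModule S M))

/-- Isomorphisms from additive bijections commuting with scalars. -/
def mkIso' {X Y : ModuleCat.{u} A} (e : X ≃+ Y) (h : ∀ (a : A) (x : X), e (a • x) = a • e x) : X ≅ Y :=
  (e.toLinearEquiv h).toModuleIso

/-- The identity as an isomorphism. -/
noncomputable def eRL (M : ModuleCat.{u} A) : ModuleCat.of A (LocalizedModule S M) ≅ RL S M :=
  mkIso' (X := ModuleCat.of A (LocalizedModule S M)) (Y := RL S M) (AddEquiv.refl (LocalizedModule S M))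
    (fun a x => (algebraMap_smul (Localization S) a (show LocalizedModule S M from x)).symm)

/-- The localization map into the restricted object. -/
noncomputable def iRL (M : ModuleCat.{u} A) : M ⟶ RL S M :=
  (ModuleCat.ofHom (LocalizedModule.mkLinearMap S M) : M ⟶ ModuleCat.of A (LocalizedModule S M)) ≫
    (eRL S M).hom

theorem iRL_apply (M : ModuleCat.{u} A) (x : M) :
    ((iRL S M).hom x : LocalizedModule S M) = LocalizedModule.mk x 1 := rfl

variable (T : ModuleCat.{u} A ⥤ ModuleCat.{u} A) [T.Additive] [T.Linear A]
  (hT : ∀ (J : Type u) [SmallCategory J] [IsFiltered J], PreservesColimitsOfShape J T)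

include hT in
theorem isLocalized (M : ModuleCat.{u} A) : IsLocalizedModule S (T.map (iRL S M)).hom := by
  have := Groth.Agent.S4507.result T hT S M
  have e : (T.map (iRL S M)).hom =
      (T.mapIso (eRL S M)).toLinearEquiv.toLinearMap.comp
        (T.map (ModuleCat.ofHom (LocalizedModule.mkLinearMap S M) :
          M ⟶ ModuleCat.of A (LocalizedModule S M))).hom := by
    rw [iRL, T.map_comp]
    rfl
  rw [e]
  exact IsLocalizedModule.of_linearEquiv S _ _

omit [T.Additive] [T.Linear A] in
theorem natural {M N : ModuleCat.{u} A} (f : M ⟶ N) :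
    (T.map ((ModuleCat.restrictScalars (algebraMap A (Localization S))).map
      (ModuleCat.ofHom (LocalizedModule.map S f.hom)))).hom.comp (T.map (iRL S M)).hom =
    (T.map (iRL S N)).hom.comp (T.map f).hom := by
  have : iRL S M ≫ (ModuleCat.restrictScalars (algebraMap A (Localization S))).map
      (ModuleCat.ofHom (LocalizedModule.map S f.hom)) = f ≫ iRL S N := by
    refine ModuleCat.hom_ext (LinearMap.ext fun x => ?_)
    show LocalizedModule.map S f.hom (LocalizedModule.mk x 1) = LocalizedModule.mk (f.hom x) 1
    exact LocalizedModule.map_mk S f.hom x 1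
  rw [← ModuleCat.hom_comp, ← ModuleCat.hom_comp, ← T.map_comp, ← T.map_comp, this]

include hT in
theorem map_eq {M N : ModuleCat.{u} A} (f : M ⟶ N) :
    haveI := isLocalized S T hT M
    haveI := isLocalized S T hT N
    IsLocalizedModule.map S (T.map (iRL S M)).hom (T.map (iRL S N)).hom (T.map f).hom =
      (T.map ((ModuleCat.restrictScalars (algebraMap A (Localization S))).map
        (ModuleCat.ofHom (LocalizedModule.map S f.hom)))).hom := by
  haveI := isLocalized S T hT M
  haveI := isLocalized S T hT N
  refine IsLocalizedModule.linearMap_ext S (T.map (iRL S M)).hom (T.map (iRL S N)).hom ?_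
  rw [natural, IsLocalizedModule.map_comp]

theorem loc_shortExact (C : ShortComplex (ModuleCat.{u} A)) (hC : C.ShortExact) :
    ∃ w, (ShortComplex.mk (ModuleCat.ofHom (LocalizedModule.map S C.f.hom))
      (ModuleCat.ofHom (LocalizedModule.map S C.g.hom)) w).ShortExact := by
  have hex := (ShortComplex.ShortExact.moduleCat_exact_iff_function_exact C).1 hC.exact
  have hinj := (ModuleCat.mono_iff_injective _).1 hC.mono_f
  have hsur := (ModuleCat.epi_iff_surjective _).1 hC.epi_g
  have h := LocalizedModule.map_exact S C.f.hom C.g.hom hex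
  exact ⟨ModuleCat.hom_ext (LinearMap.ext fun x => LinearMap.congr_fun h.linearMap_comp_eq_zero x),
    { exact := (ShortComplex.ShortExact.moduleCat_exact_iff_function_exact _).2 h
      mono_f := (ModuleCat.mono_iff_injective _).2 (LocalizedModule.map_injective S C.f.hom hinj)
      epi_g := (ModuleCat.epi_iff_surjective _).2 (LocalizedModule.map_surjective S C.g.hom hsur) }⟩

end

open CategoryTheory CategoryTheory.Limits in
/-- Let A be a commutative ring and T an additive A-linear endofunctor of the category of A-modules
which preserves filtered colimits. For a maximal ideal m write T_m for T precomposed with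
restriction of scalars along A → A_m (a functor from A_m-modules to A-modules). If T_m is left exact
for every maximal ideal m then T is left exact, and if T_m is right exact for every maximal ideal m
then T is right exact (exactness meaning preservation of finite limits, resp. finite colimits). -/
theorem result {A : Type u} [CommRing A]
    (T : ModuleCat.{u} A ⥤ ModuleCat.{u} A) [T.Additive] [T.Linear A]
    (hT : ∀ (J : Type u) [SmallCategory J] [IsFiltered J], PreservesColimitsOfShape J T) :
    ((∀ (m : Ideal A) [m.IsMaximal],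
        PreservesFiniteLimits (ModuleCat.restrictScalars (algebraMap A (Localization.AtPrime m)) ⋙ T)) →
      PreservesFiniteLimits T) ∧
    ((∀ (m : Ideal A) [m.IsMaximal],
        PreservesFiniteColimits (ModuleCat.restrictScalars (algebraMap A (Localization.AtPrime m)) ⋙ T)) →
      PreservesFiniteColimits T) := by
  have hI : ∀ (m : Ideal A) [m.IsMaximal] (X : ModuleCat.{u} A),
      IsLocalizedModule.AtPrime m (T.map (iRL m.primeCompl X)).hom := fun m _ X => isLocalized _ T hT X
  constructor
  · intro h
    rw [Functor.preservesFiniteLimits_iff_forall_exact_map_and_mono]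
    intro C hC
    haveI : ∀ (P : Ideal A) [P.IsMaximal], IsLocalizedModule.AtPrime P (T.map (iRL P.primeCompl C.X₁)).hom :=
      fun P _ => hI P C.X₁
    haveI : ∀ (P : Ideal A) [P.IsMaximal], IsLocalizedModule.AtPrime P (T.map (iRL P.primeCompl C.X₂)).hom :=
      fun P _ => hI P C.X₂
    haveI : ∀ (P : Ideal A) [P.IsMaximal], IsLocalizedModule.AtPrime P (T.map (iRL P.primeCompl C.X₃)).hom :=
      fun P _ => hI P C.X₃
    have hm := fun (m : Ideal A) [m.IsMaximal] =>
      (Functor.preservesFiniteLimits_iff_forall_exact_map_and_mono _).1 (h m) _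
        (loc_shortExact m.primeCompl C hC).choose_spec
    rw [ShortComplex.ShortExact.moduleCat_exact_iff_function_exact, ModuleCat.mono_iff_injective]
    refine ⟨@exact_of_isLocalized_maximal A (T.obj C.X₁) (T.obj C.X₂) (T.obj C.X₃) _ _ _ _ _ _ _
      (fun m _ => T.obj (RL m.primeCompl C.X₁)) _ _ (fun m _ => (T.map (iRL m.primeCompl C.X₁)).hom)
      (fun m _ => hI m C.X₁)
      (fun m _ => T.obj (RL m.primeCompl C.X₂)) _ _ (fun m _ => (T.map (iRL m.primeCompl C.X₂)).hom)
      (fun m _ => hI m C.X₂)
      (fun m _ => T.obj (RL m.primeCompl C.X₃)) _ _ (fun m _ => (T.map (iRL m.primeCompl C.X₃)).hom)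
      (fun m _ => hI m C.X₃)
      (T.map C.f).hom (T.map C.g).hom ?_, ?_⟩
    · intro m _
      rw [map_eq m.primeCompl T hT, map_eq m.primeCompl T hT]
      exact (ShortComplex.ShortExact.moduleCat_exact_iff_function_exact _).1 (hm m).1
    · refine @injective_of_isLocalized_maximal A (T.obj C.X₁) (T.obj C.X₂) _ _ _ _ _
        (fun m _ => T.obj (RL m.primeCompl C.X₁)) _ _ (fun m _ => (T.map (iRL m.primeCompl C.X₁)).hom)
        (fun m _ => hI m C.X₁)
        (fun m _ => T.obj (RL m.primeCompl C.X₂)) _ _ (fun m _ => (T.map (iRL m.primeCompl C.X₂)).hom)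
        (fun m _ => hI m C.X₂)
        (T.map C.f).hom ?_
      intro m _
      rw [map_eq m.primeCompl T hT]
      exact (ModuleCat.mono_iff_injective _).1 (hm m).2
  · intro h
    rw [Functor.preservesFiniteColimits_iff_forall_exact_map_and_epi]
    intro C hC
    haveI : ∀ (P : Ideal A) [P.IsMaximal], IsLocalizedModule.AtPrime P (T.map (iRL P.primeCompl C.X₁)).hom :=
      fun P _ => hI P C.X₁
    haveI : ∀ (P : Ideal A) [P.IsMaximal], IsLocalizedModule.AtPrime P (T.map (iRL P.primeCompl C.X₂)).hom :=
      fun P _ => hI P C.X₂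
    haveI : ∀ (P : Ideal A) [P.IsMaximal], IsLocalizedModule.AtPrime P (T.map (iRL P.primeCompl C.X₃)).hom :=
      fun P _ => hI P C.X₃
    have hm := fun (m : Ideal A) [m.IsMaximal] =>
      (Functor.preservesFiniteColimits_iff_forall_exact_map_and_epi _).1 (h m) _
        (loc_shortExact m.primeCompl C hC).choose_spec
    rw [ShortComplex.ShortExact.moduleCat_exact_iff_function_exact, ModuleCat.epi_iff_surjective]
    refine ⟨@exact_of_isLocalized_maximal A (T.obj C.X₁) (T.obj C.X₂) (T.obj C.X₃) _ _ _ _ _ _ _
      (fun m _ => T.obj (RL m.primeCompl C.X₁)) _ _ (fun m _ => (T.map (iRL m.primeCompl C.X₁)).hom)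
      (fun m _ => hI m C.X₁)
      (fun m _ => T.obj (RL m.primeCompl C.X₂)) _ _ (fun m _ => (T.map (iRL m.primeCompl C.X₂)).hom)
      (fun m _ => hI m C.X₂)
      (fun m _ => T.obj (RL m.primeCompl C.X₃)) _ _ (fun m _ => (T.map (iRL m.primeCompl C.X₃)).hom)
      (fun m _ => hI m C.X₃)
      (T.map C.f).hom (T.map C.g).hom ?_, ?_⟩
    · intro m _
      rw [map_eq m.primeCompl T hT, map_eq m.primeCompl T hT]
      exact (ShortComplex.ShortExact.moduleCat_exact_iff_function_exact _).1 (hm m).1
    · refine @surjective_of_isLocalized_maximal A (T.obj C.X₂) (T.obj C.X₃) _ _ _ _ _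
        (fun m _ => T.obj (RL m.primeCompl C.X₂)) _ _ (fun m _ => (T.map (iRL m.primeCompl C.X₂)).hom)
        (fun m _ => hI m C.X₂)
        (fun m _ => T.obj (RL m.primeCompl C.X₃)) _ _ (fun m _ => (T.map (iRL m.primeCompl C.X₃)).hom)
        (fun m _ => hI m C.X₃)
        (T.map C.g).hom ?_
      intro m _
      rw [map_eq m.primeCompl T hT]
      exact (ModuleCat.epi_iff_surjective _).1 (hm m).2

end Groth.Agent.S4493
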