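import Mathlib
import Groth.Statements.S4495
-- import your own Groth.Agent.* helpers here

set_option autoImplicit false
universe u
open FlatCx

namespace Groth.Agent.S4495

open CategoryTheory AlgebraicGeometry Opposite in
/-- A locally ringed space Z is connected, in the sense that it is not the disjoint union of two
nonempty open subsets (the empty space being allowed), if and only if every idempotent of the ring
of global sections Γ(Z, O_Z) is 0 or 1 (equivalently, Γ(Z, O_Z) is not isomorphic to a product of
two nonzero rings). -/
theorem result (Z : LocallyRingedSpace.{u}) :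
    PreconnectedSpace Z ↔
      ∀ e : Z.presheaf.obj (op ⊤), IsIdempotentElem e → e = 0 ∨ e = 1 := by
  classical
  let R := Z.toRingedSpace
  constructor
  · intro hZ e he
    let G : Z → Prop := fun x => IsUnit (Z.presheaf.germ ⊤ x trivial e)
    have hmul : e * (1 - e) = 0 := by rw [mul_sub, mul_one, he.eq, sub_self]
    have hcompl : ∀ x : Z, ¬ G x ↔ IsUnit (Z.presheaf.germ ⊤ x trivial (1 - e)) := by
      intro x
      constructor
      · intro h
        refine (IsLocalRing.isUnit_or_isUnit_of_isUnit_add (a := Z.presheaf.germ ⊤ x trivial e) ?_).resolve_left h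
        rw [← map_add, add_sub_cancel, map_one]
        exact isUnit_one
      · intro h h'
        have := h'.mul h
        rw [← map_mul, hmul, map_zero] at this
        exact not_isUnit_zero this
    have hset : {x : Z | G x} = ((R.basicOpen e : TopologicalSpace.Opens R) : Set R) := Set.ext fun x => (R.mem_top_basicOpen e x).symm
    have hset' : {x : Z | G x}ᶜ = ((R.basicOpen (1 - e) : TopologicalSpace.Opens R) : Set R) := Set.ext fun x => (hcompl x).trans (R.mem_top_basicOpen (1 - e) x).symm
    have hcl : IsClopen {x : Z | G x} :=
      ⟨⟨hset' ▸ (R.basicOpen (1 - e)).isOpen⟩, hset ▸ (R.basicOpen e).isOpen⟩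
    rcases isClopen_iff.1 hcl with h | h
    · left
      have hu : IsUnit (1 - e) := R.isUnit_of_isUnit_germ ⊤ _ fun x _ => (hcompl x).1 fun hx => by
        have : x ∈ {x : Z | G x} := hx
        rw [h] at this
        exact this
      exact hu.mul_left_eq_zero.1 hmul
    · right
      have hu : IsUnit e := R.isUnit_of_isUnit_germ ⊤ _ fun x _ => (h.symm ▸ Set.mem_univ x : x ∈ {x : Z | G x})
      exact (sub_eq_zero.1 (hu.mul_right_eq_zero.1 hmul)).symm
  · intro h
    refine preconnectedSpace_iff_clopen.mpr fun C hC => ?_
    let U : Bool → TopologicalSpace.Opens Z := fun b => cond b ⟨C, hC.isOpen⟩ ⟨Cᶜ, hC.compl.isOpen⟩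
    have hcov : (⊤ : TopologicalSpace.Opens Z) ≤ ⨆ b, U b := fun x _ => by
      refine TopologicalSpace.Opens.mem_iSup.mpr ?_
      by_cases hx : x ∈ C
      · exact ⟨true, hx⟩
      · exact ⟨false, hx⟩
    let σ : ∀ b, Z.presheaf.obj (op (U b)) := fun b => match b with
      | true => 1
      | false => 0
    have hsub : ∀ W : TopologicalSpace.Opens Z, W ≤ U true ⊓ U false → Subsingleton (Z.presheaf.obj (op W)) := fun W hW => by
      rw [le_bot_iff.mp (show W ≤ ⊥ from fun x hx => ((hW hx).2 (hW hx).1).elim)]
      exact CommRingCat.subsingleton_of_isTerminal (TopCat.Sheaf.isTerminalOfEmpty Z.sheaf)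
    obtain ⟨e, he, -⟩ := TopCat.Sheaf.existsUnique_gluing' Z.sheaf U ⊤ (fun b => homOfLE le_top) hcov σ
      (fun b c => by
        cases b <;> cases c
        · rfl
        · exact @Subsingleton.elim _ (hsub _ (le_of_eq (inf_comm _ _))) _ _
        · exact @Subsingleton.elim _ (hsub _ le_rfl) _ _
        · rfl)
    have hidem : e * e = e := Z.sheaf.eq_of_locally_eq' U ⊤ (fun b => homOfLE le_top) hcov _ _ fun b => by
      refine (map_mul _ _ _).trans ?_
      erw [he b]
      cases b
      · exact mul_zero _
      · exact mul_one _
    have hg : ∀ b x (hx : x ∈ U b), Z.presheaf.germ ⊤ x trivial e = Z.presheaf.germ (U b) x hx (σ b) := fun b x hx => by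
      rw [← Z.presheaf.germ_res_apply (homOfLE (le_top : U b ≤ ⊤)) x hx e]
      exact congrArg _ (he b)
    rcases h e hidem with e0 | e1
    · left
      refine Set.eq_empty_iff_forall_notMem.2 fun x hx => ?_
      have := hg true x hx
      rw [e0, map_zero, show σ true = 1 from rfl, map_one] at this
      exact zero_ne_one this
    · right
      refine Set.eq_univ_of_forall fun x => ?_
      by_contra hx
      have := hg false x hx
      rw [e1, map_one, show σ false = 0 from rfl, map_zero] at this
      exact one_ne_zero this

end Groth.Agent.S4495
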