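import Groth.Statements.S4498
import Groth.Agent.BCCx.Gamma

set_option autoImplicit false
universe u
attribute [local instance] HasDerivedCategory.standard
open Coherent

namespace Groth.Agent.S4498

open AlgebraicGeometry CategoryTheory Opposite in
/-- The global form over an affine base. Let A be a Noetherian ring, X a proper A-scheme with structure
morphism f, and F, F' coherent O_X-modules flat over Spec A. Let η be a natural transformation from
the functor M ↦ Γ(X, f^*(M~) ⊗ F) to the functor M ↦ Γ(X, f^*(M~) ⊗ F') of the A-module M (the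
published statement takes η induced by a homomorphism F → F'; this row allows any natural
transformation, which is all the argument uses). Then the kernel functor M ↦ Ker(η_M) is
corepresentable by a finitely generated A-module R: there are such an R and a natural transformation
ι : Hom_A(R, −) → Γ(X, f^*(−~) ⊗ F) with injective components whose image at every M is exactly the
kernel of η_M. (R is then unique up to unique isomorphism.) -/
theorem result (A : Type u) [CommRing A]
    [IsNoetherianRing A] (X : Scheme.{u}) [X.Over (Spec (CommRingCat.of A))]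
    [IsProper (X ↘ Spec (CommRingCat.of A))] (F F' : X.Modules) (hF : Coh.IsCoh F) (hF' : Coh.IsCoh F')
    (hfl : FlatMod.IsFlatOver (X ↘ Spec (CommRingCat.of A)) F)
    (hfl' : FlatMod.IsFlatOver (X ↘ Spec (CommRingCat.of A)) F')
    (η : CohIII.tensorAFunctor A F ⋙ CohIII.globalSectionsA A ⟶ CohIII.tensorAFunctor A F' ⋙ CohIII.globalSectionsA A) :
    ∃ (R : ModuleCat.{u} A) (ι : (linearCoyoneda A (ModuleCat.{u} A)).obj (op R) ⟶
        CohIII.tensorAFunctor A F ⋙ CohIII.globalSectionsA A),
      Module.Finite A R ∧ (∀ M : ModuleCat.{u} A, Function.Injective (ι.app M).hom) ∧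
        ∀ (M : ModuleCat.{u} A) (x : (CohIII.tensorAFunctor A F ⋙ CohIII.globalSectionsA A).obj M),
          (η.app M).hom x = 0 ↔ ∃ y, (ι.app M).hom y = x := by
  obtain ⟨Q, hQ, ⟨w⟩⟩ := BCCx.exists_gamma_corep F hF hfl
  obtain ⟨Q', -, ⟨w'⟩⟩ := BCCx.exists_gamma_corep F' hF' hfl'
  let v : op Q ⟶ op Q' := (linearCoyoneda A (ModuleCat.{u} A)).preimage (w.inv ≫ η ≫ w'.hom)
  let U : Submodule A Q := LinearMap.range v.unop.hom
  let R : ModuleCat.{u} A := ModuleCat.of A (Q ⧸ U)
  let π : Q ⟶ R := ModuleCat.ofHom U.mkQ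
  let ι := (linearCoyoneda A (ModuleCat.{u} A)).map π.op ≫ w.inv
  have hv : ∀ (M : ModuleCat.{u} A) (y : Q ⟶ M),
      (w'.hom.app M) ((η.app M) ((w.inv.app M) y)) = v.unop ≫ y := fun M y => by
    have h := (linearCoyoneda A (ModuleCat.{u} A)).map_preimage (w.inv ≫ η ≫ w'.hom)
    exact (ConcreteCategory.congr_hom (congr($(h).app M)) y).symm
  have hw : ∀ M, Function.Injective (w'.hom.app M) := fun M => (ConcreteCategory.bijective_of_isIso _).1
  have hwi : ∀ M, Function.Injective (w.inv.app M) := fun M => (ConcreteCategory.bijective_of_isIso _).1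
  haveI : Module.Finite A Q := hQ
  refine ⟨R, ι, Module.Finite.quotient A U, fun M => ?_, fun M x => ?_⟩
  · intro (a : R ⟶ M) (b : R ⟶ M) hab
    have h : π ≫ a = π ≫ b := hwi M hab
    haveI : Epi π := (ModuleCat.epi_iff_surjective _).2 U.mkQ_surjective
    exact (cancel_epi π).1 h
  · obtain ⟨y, rfl⟩ := (ConcreteCategory.bijective_of_isIso (w.inv.app M)).2 x
    constructor
    · intro hx
      have h0 : v.unop ≫ (y : Q ⟶ M) = 0 := (hv M y).symm.trans ((congrArg _ hx).trans (map_zero _))
      let a : R ⟶ M := ModuleCat.ofHom (U.liftQ (y : Q ⟶ M).hom (LinearMap.range_le_ker_iff.2 (congrArg ModuleCat.Hom.hom h0)))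
      exact ⟨a, congrArg (w.inv.app M) (ModuleCat.hom_ext (LinearMap.ext fun q => rfl) : π ≫ a = y)⟩
    · rintro ⟨a, ha⟩
      have h : π ≫ (a : R ⟶ M) = y := hwi M ha
      refine hw M ((hv M y).trans (Eq.trans ?_ (map_zero _).symm))
      show v.unop ≫ (y : Q ⟶ M) = 0
      rw [← h]
      have h1 : v.unop ≫ π = 0 := ModuleCat.hom_ext (LinearMap.range_le_ker_iff.1 (Submodule.ker_mkQ U).ge)
      exact ((Category.assoc v.unop π (a : R ⟶ M)).symm.trans ((congrArg (· ≫ (a : R ⟶ M)) h1).trans CategoryTheory.Limits.zero_comp))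

end Groth.Agent.S4498
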