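import Groth.Statements.S4499
import Groth.Agent.TorFlip.Basic
-- import your own Groth.Agent.* helpers here

set_option autoImplicit false
universe u
attribute [local instance] HasDerivedCategory.standard
open FlatCx

namespace Groth.Agent.S4499

open CategoryTheory CategoryTheory.Limits HomologicalComplex MonoidalCategory in
/-- `Tor₁` from a short exact sequence with flat middle term. -/
theorem exists_tor_ker {A : Type u} [CommRing A] {S : ShortComplex (ModuleCat.{u} A)} (hS : S.ShortExact)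
    (hF : Module.Flat A S.X₂) (N : ModuleCat.{u} A) :
    ∃ t : DRing.Tor A 1 S.X₃ N →ₗ[A] TensorProduct A S.X₁ N, Function.Injective t ∧
      Function.Exact t (S.f.hom.rTensor N) := by
  haveI := hF
  let P := Groth.Agent.TorFlip.res A N
  have hT := Groth.Agent.DRingPC.tensorResSC_shortExact hS P
  let δ₀ : (Groth.Agent.TorFlip.C A S.X₃ N).homology 1 ⟶ (Groth.Agent.TorFlip.C A S.X₁ N).homology 0 :=
    hT.δ 1 0 (by simp)
  have hδ : Mono δ₀ := (hT.homology_exact₃ 1 0 (by simp)).mono_g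
    ((Groth.Agent.DRingPC.isZero_tensorRes_of_flat S.X₂ P 0).eq_of_src _ _)
  let Φ : DRing.Tor A 1 S.X₃ N ≃ₗ[A] (Groth.Agent.TorFlip.C A S.X₃ N).homology 1 :=
    (Groth.Agent.DRingPC.torIso S.X₃ P 1).toLinearEquiv
  let d : (Groth.Agent.TorFlip.C A S.X₃ N).homology 1 ⟶ S.X₁ ⊗ N := δ₀ ≫ Groth.Agent.TorFlip.toTensor A S.X₁ N
  haveI : Mono d := mono_comp _ _
  have hw : d ≫ S.f ▷ N = 0 := by
    have h : δ₀ ≫ homologyMap (Groth.Agent.TorFlip.mapL A S.f N) 0 = 0 := hT.δ_comp 1 0 (by simp)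
    show (δ₀ ≫ _) ≫ _ = 0
    rw [Category.assoc, ← Groth.Agent.TorFlip.toTensor_natL, ← Category.assoc, h, zero_comp]
  have he : (ShortComplex.mk d (S.f ▷ N) hw).Exact := by
    refine ShortComplex.exact_of_iso ?_ (hT.homology_exact₁ 1 0 (by simp))
    exact ShortComplex.isoMk (Iso.refl _) (@asIso _ _ _ _ _ (Groth.Agent.TorFlip.isIso_toTensor A S.X₁ N))
      (@asIso _ _ _ _ _ (Groth.Agent.TorFlip.isIso_toTensor A S.X₂ N))
      (Category.id_comp _) (Groth.Agent.TorFlip.toTensor_natL A S.f N).symm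
  refine ⟨d.hom ∘ₗ Φ.toLinearMap, ((ModuleCat.mono_iff_injective d).1 inferInstance).comp Φ.injective, fun z => ?_⟩
  have h := (ShortComplex.ShortExact.moduleCat_exact_iff_function_exact _).1 he z
  exact h.trans ⟨fun ⟨w, hw'⟩ => ⟨Φ.symm w, (congrArg d.hom (Φ.apply_symm_apply w)).trans hw'⟩,
    fun ⟨w, hw'⟩ => ⟨Φ w, hw'⟩⟩

open CategoryTheory CategoryTheory.Limits HomologicalComplex MonoidalCategory in
/-- Shifting `Tor₂` to `Tor₁`. -/
theorem nonempty_tor_two {A : Type u} [CommRing A] {S : ShortComplex (ModuleCat.{u} A)} (hS : S.ShortExact)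
    (hF : Module.Flat A S.X₂) (N : ModuleCat.{u} A) :
    Nonempty (DRing.Tor A 2 S.X₃ N ≃ₗ[A] DRing.Tor A 1 S.X₁ N) := by
  haveI := hF
  let P := Groth.Agent.TorFlip.res A N
  have hT := Groth.Agent.DRingPC.tensorResSC_shortExact hS P
  let δ₀ : (Groth.Agent.TorFlip.C A S.X₃ N).homology 2 ⟶ (Groth.Agent.TorFlip.C A S.X₁ N).homology 1 :=
    hT.δ 2 1 (by simp)
  haveI : Mono δ₀ := (hT.homology_exact₃ 2 1 (by simp)).mono_g
    ((Groth.Agent.DRingPC.isZero_tensorRes_of_flat S.X₂ P 1).eq_of_src _ _)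
  haveI : Epi δ₀ := (hT.homology_exact₁ 2 1 (by simp)).epi_f
    ((Groth.Agent.DRingPC.isZero_tensorRes_of_flat S.X₂ P 0).eq_of_tgt _ _)
  haveI : IsIso δ₀ := isIso_of_mono_of_epi δ₀
  exact ⟨(Groth.Agent.DRingPC.torIso S.X₃ P 2).toLinearEquiv ≪≫ₗ (asIso δ₀).toLinearEquiv ≪≫ₗ
    (Groth.Agent.DRingPC.torIso S.X₁ P 1).toLinearEquiv.symm⟩

open CategoryTheory in
theorem shortExact_sub {A : Type u} [CommRing A] {M N : Type u} [AddCommGroup M] [Module A M] [AddCommGroup N]
    [Module A N] (p : Submodule A M) (g : M →ₗ[A] N) (h : LinearMap.ker g = p) (hg : Function.Surjective g) :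
    (ShortComplex.moduleCatMk p.subtype g (LinearMap.ext fun x => LinearMap.mem_ker.1 (h.ge x.2))).ShortExact :=
  { exact := (ShortComplex.ShortExact.moduleCat_exact_iff_function_exact _).2 (LinearMap.exact_iff.2 (by
      show LinearMap.ker g = LinearMap.range p.subtype
      rw [h, Submodule.range_subtype]))
    mono_f := (ModuleCat.mono_iff_injective _).2 Subtype.val_injective
    epi_g := (ModuleCat.epi_iff_surjective _).2 hg }


/-- Let A be a Noetherian local ring with residue field k, and d : P₁ → P₀ an A-linear map between flat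
A-modules, viewed as a two-term chain complex, so that H₁ = Ker d, H₀ = Coker d and H₁ of the
complex tensored with k is Ker(d ⊗ 1_k). Let α : (Ker d) ⊗_A k → P₁ ⊗_A k be the map induced by the
inclusion Ker d → P₁; its image lies in Ker(d ⊗ 1_k). Then there is an exact sequence 0 →
Tor₂^A(Coker d, k) → (Ker d) ⊗_A k → Ker(d ⊗ 1_k) → Tor₁^A(Coker d, k) → 0 with middle map α, stated
here as: Ker α is isomorphic to Tor₂^A(Coker d, k), and the quotient of Ker(d ⊗ 1_k) by the image of
α is isomorphic to Tor₁^A(Coker d, k) (existence of A-linear isomorphisms only; Tor is Mathlib's,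
left derived in the second variable). (In the published statement the cokernel is printed without
its prime, as the module of 0-cycles; the proof is about the cokernel of d.) -/
theorem result {A : Type u} [CommRing A] [IsNoetherianRing A]
    [IsLocalRing A] {P₁ P₀ : Type u} [AddCommGroup P₁] [Module A P₁] [AddCommGroup P₀] [Module A P₀]
    [Module.Flat A P₁] [Module.Flat A P₀] (d : P₁ →ₗ[A] P₀) :
    Nonempty (LinearMap.ker ((LinearMap.ker d).subtype.rTensor (IsLocalRing.ResidueField A)) ≃ₗ[A]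
        DRing.Tor A 2 (P₀ ⧸ LinearMap.range d) (IsLocalRing.ResidueField A)) ∧
      LinearMap.range ((LinearMap.ker d).subtype.rTensor (IsLocalRing.ResidueField A)) ≤
        LinearMap.ker (d.rTensor (IsLocalRing.ResidueField A)) ∧
      Nonempty ((↥(LinearMap.ker (d.rTensor (IsLocalRing.ResidueField A))) ⧸
          Submodule.comap (LinearMap.ker (d.rTensor (IsLocalRing.ResidueField A))).subtype
            (LinearMap.range ((LinearMap.ker d).subtype.rTensor (IsLocalRing.ResidueField A)))) ≃ₗ[A]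
        DRing.Tor A 1 (P₀ ⧸ LinearMap.range d) (IsLocalRing.ResidueField A)) := by
  let k := IsLocalRing.ResidueField A
  let B := LinearMap.range d
  let Z := LinearMap.ker d
  let τ := d.rangeRestrict
  have hτs : Function.Surjective τ := d.surjective_rangeRestrict
  have hτ : LinearMap.ker τ = Z := LinearMap.ker_rangeRestrict d
  have hτe : Function.Exact Z.subtype τ := LinearMap.exact_iff.2 (by rw [hτ, Submodule.range_subtype])
  obtain ⟨t₀, ht₀, hex₀⟩ := exists_tor_ker (shortExact_sub B B.mkQ B.ker_mkQ B.mkQ_surjective)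
    (inferInstanceAs (Module.Flat A P₀)) (ModuleCat.of A k)
  obtain ⟨t₁₀, ht₁₀, hex₁₀⟩ := exists_tor_ker (shortExact_sub Z τ hτ hτs)
    (inferInstanceAs (Module.Flat A P₁)) (ModuleCat.of A k)
  let t₁ : DRing.Tor A 1 B k →ₗ[A] TensorProduct A Z k := t₁₀
  have ht₁ : Function.Injective t₁ := ht₁₀
  have hex₁ : Function.Exact t₁ (Z.subtype.rTensor k) := hex₁₀
  obtain ⟨e₂⟩ := nonempty_tor_two (shortExact_sub B B.mkQ B.ker_mkQ B.mkQ_surjective)
    (inferInstanceAs (Module.Flat A P₀)) (ModuleCat.of A k)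
  have hd : ∀ x, d.rTensor k x = B.subtype.rTensor k (τ.rTensor k x) := fun x => by
    rw [← LinearMap.comp_apply, ← LinearMap.rTensor_comp, LinearMap.subtype_comp_codRestrict]
  have hexτ := rTensor_exact k hτe hτs
  refine ⟨⟨LinearEquiv.ofEq _ _ hex₁.linearMap_ker_eq ≪≫ₗ (LinearEquiv.ofInjective t₁ ht₁).symm ≪≫ₗ e₂.symm⟩,
    ?_, ⟨?_⟩⟩
  · rintro _ ⟨x, rfl⟩
    rw [LinearMap.mem_ker, hd, hexτ.apply_apply_eq_zero, map_zero]
  · have hψ : ∀ x : LinearMap.ker (d.rTensor k), τ.rTensor k x.1 ∈ LinearMap.range t₀ := fun x =>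
      (hex₀ _).1 ((hd x.1).symm.trans (LinearMap.mem_ker.1 x.2))
    let ψ : LinearMap.ker (d.rTensor k) →ₗ[A] DRing.Tor A 1 (P₀ ⧸ B) k :=
      (LinearEquiv.ofInjective t₀ ht₀).symm.toLinearMap ∘ₗ
        ((τ.rTensor k).comp (Submodule.subtype _)).codRestrict _ hψ
    have hψt : ∀ x, t₀ (ψ x) = τ.rTensor k x.1 := fun x =>
      congrArg Subtype.val ((LinearEquiv.ofInjective t₀ ht₀).apply_symm_apply ⟨_, hψ x⟩)
    have hs : Function.Surjective ψ := fun w => by
      obtain ⟨c, hc⟩ := LinearMap.rTensor_surjective k hτs (t₀ w)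
      exact ⟨⟨c, LinearMap.mem_ker.2 (by rw [hd, hc]; exact hex₀.apply_apply_eq_zero w)⟩,
        ht₀ ((hψt _).trans hc)⟩
    refine (Submodule.quotEquivOfEq _ _ ?_) ≪≫ₗ ψ.quotKerEquivOfSurjective hs
    ext x
    rw [LinearMap.mem_ker, Submodule.mem_comap, LinearMap.mem_range]
    constructor
    · intro h
      exact ht₀ ((hψt x).trans (((hexτ _).2 h).trans (map_zero t₀).symm))
    · intro h
      exact (hexτ _).1 ((hψt x).symm.trans ((congrArg t₀ h).trans (map_zero t₀)))

end Groth.Agent.S4499
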