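import Groth.Statements.S4511
import Groth.Agent.CohenStruct.Structure
-- import your own Groth.Agent.* helpers here

set_option autoImplicit false
universe u
open EGA41

namespace Groth.Agent.S4511

open IsLocalRing Groth.Agent.CohenStruct in
theorem exists_presentation (A : Type u) [CommRing A] [IsLocalRing A] [IsNoetherianRing A]
    [IsAdicComplete (maximalIdeal A) A] (p : ℕ) [CharP (ResidueField A) p] (hp : (p : A) = 0) :
    ∃ (K : Type u) (_ : Field K) (n : ℕ) (f : MvPowerSeries (Fin n) K →+* A),
      Function.Surjective f ∧ RingHom.ker f ≤ maximalIdeal (MvPowerSeries (Fin n) K) ^ 2 := by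
  obtain ⟨v, hv⟩ : ∃ v : ResidueField A →+* A, (Ideal.Quotient.mk (maximalIdeal A)).comp v = RingHom.id _ := by
    rcases CharP.char_is_prime_or_zero (ResidueField A) p with hp' | rfl
    · have : Fact p.Prime := ⟨hp'⟩
      exact exists_lift_of_charP p (ResidueField A) (maximalIdeal A) hp (RingHom.id _)
    · have : CharZero (ResidueField A) := CharP.charP_to_charZero _
      exact exists_lift_of_charZero (ResidueField A) (maximalIdeal A) (fun z hz => by
        rw [← residue_ne_zero_iff_isUnit, map_intCast]
        exact Int.cast_ne_zero.mpr hz) (RingHom.id _)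
  let b := Module.finBasis (ResidueField A) (CotangentSpace A)
  choose a ha using fun i => (maximalIdeal A).toCotangent_surjective (b i)
  let a' : _ → A := fun i => (a i : A)
  have ham : ∀ i, a' i ∈ maximalIdeal A := fun i => (a i).2
  have hspan : Ideal.span (Set.range a') = maximalIdeal A := by
    have h : Submodule.span (ResidueField A) ((maximalIdeal A).toCotangent '' Set.range a) = ⊤ := by
      rw [← Set.range_comp, show (maximalIdeal A).toCotangent ∘ a = b from funext ha, b.span_eq]
    have h' := congrArg (Submodule.map (maximalIdeal A).subtype) (CotangentSpace.span_image_eq_top_iff.1 h)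
    rw [Submodule.map_span, Submodule.map_top, Submodule.range_subtype, ← Set.range_comp] at h'
    exact h'
  let f := evalPS (maximalIdeal A) v a' ham
  have hmap : (Ideal.span (Set.range MvPowerSeries.X) : Ideal (MvPowerSeries _ (ResidueField A))).map f =
      maximalIdeal A := by rw [map_span_X, hspan]
  have hres : ∀ c, residue A (f (MvPowerSeries.C c)) = c := fun c => by
    rw [show f (MvPowerSeries.C c) = v c from evalPS_C _ v a' ham c]
    exact RingHom.congr_fun hv c
  refine ⟨ResidueField A, inferInstance, _, f, ?_, ?_⟩
  · have : IsHausdorff ((Ideal.span (Set.range MvPowerSeries.X) :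
        Ideal (MvPowerSeries _ (ResidueField A))).map f) A := by rw [hmap]; infer_instance
    refine surjective_of_mk_map_comp_surjective f
      (I := Ideal.span (Set.range MvPowerSeries.X)) fun y => ?_
    obtain ⟨y, rfl⟩ := Ideal.Quotient.mk_surjective y
    refine ⟨MvPowerSeries.C (residue A y), ?_⟩
    rw [RingHom.comp_apply, Ideal.Quotient.mk_eq_mk_iff_sub_mem, hmap,
      ← residue_eq_zero_iff, map_sub, hres, sub_self]
  · intro g hg
    have hmem : g ∈ Ideal.span (Set.range MvPowerSeries.X) :=
      maximalIdeal_mvPowerSeries_le _ (le_maximalIdeal (RingHom.ker_ne_top f) hg) |> fun h => by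
        rw [(maximalIdeal_eq_bot : maximalIdeal (ResidueField A) = ⊥), Ideal.map_bot, bot_sup_eq] at h
        exact h
    obtain ⟨c, rfl⟩ := (Ideal.mem_span_range_iff_exists_fun).1 hmem
    have h0 : ∑ i, residue A (f (c i)) • b i = 0 := by
      have e : ∑ i, f (c i) • a i = 0 := by
        refine Subtype.ext ?_
        rw [Submodule.coe_sum]
        have := (RingHom.mem_ker).1 hg
        rw [map_sum] at this
        refine Eq.trans (Finset.sum_congr rfl fun i _ => ?_) this
        rw [map_mul, show f (MvPowerSeries.X i) = a' i from evalPS_X _ v a' ham i]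
        rfl
      have := congrArg (maximalIdeal A).toCotangent e
      rw [map_sum, map_zero] at this
      refine Eq.trans (Finset.sum_congr rfl fun i _ => ?_) this
      rw [map_smul, ha]
      rfl
    have hc : ∀ i, c i ∈ maximalIdeal _ := fun i => by
      have hr := Fintype.linearIndependent_iff.1 b.linearIndependent _ h0 i
      have hne : (maximalIdeal A).comap f ≠ ⊤ := Ideal.comap_ne_top _ (maximalIdeal.isMaximal A).ne_top
      exact le_maximalIdeal hne ((residue_eq_zero_iff _).1 hr)
    rw [pow_two]
    refine Submodule.sum_mem _ fun i _ => Ideal.mul_mem_mul (hc i) ?_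
    rw [mem_maximalIdeal, mem_nonunits_iff, MvPowerSeries.isUnit_iff_constantCoeff,
      MvPowerSeries.constantCoeff_X]
    exact not_isUnit_zero

open IsLocalRing in
/-- Let A be a complete Noetherian local ring whose residue field has characteristic p (p = 0 allowed).
The following are equivalent: (a) A contains a field, i.e. there is a ring homomorphism from a field
into A; (b) p·1 = 0 in A; (c) A is isomorphic to a quotient of a power series ring K[[T_1, …, T_n]]
over a field K. Moreover, when they hold, the surjection in (c) may be chosen with kernel contained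
in the square of the maximal ideal of K[[T_1, …, T_n]]. -/
theorem result (A : Type u) [CommRing A] [IsLocalRing A] [IsNoetherianRing A]
    [IsAdicComplete (maximalIdeal A) A] (p : ℕ) [CharP (ResidueField A) p] :
    [∃ (K : Type u) (_ : Field K), Nonempty (K →+* A),
     (p : A) = 0,
     ∃ (K : Type u) (_ : Field K) (n : ℕ) (f : MvPowerSeries (Fin n) K →+* A), Function.Surjective f].TFAE ∧
    ((p : A) = 0 → ∃ (K : Type u) (_ : Field K) (n : ℕ) (f : MvPowerSeries (Fin n) K →+* A),
      Function.Surjective f ∧ RingHom.ker f ≤ maximalIdeal (MvPowerSeries (Fin n) K) ^ 2) := by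
  have hab : (∃ (K : Type u) (_ : Field K), Nonempty (K →+* A)) → (p : A) = 0 := by
    rintro ⟨K, _, ⟨g⟩⟩
    have h0 : (p : K) = 0 := ((IsLocalRing.residue A).comp g).injective
      (by rw [map_natCast, map_zero, CharP.cast_eq_zero])
    rw [← map_natCast g, h0, map_zero]
  have hbc : (p : A) = 0 → ∃ (K : Type u) (_ : Field K) (n : ℕ) (f : MvPowerSeries (Fin n) K →+* A),
      Function.Surjective f ∧ RingHom.ker f ≤ maximalIdeal (MvPowerSeries (Fin n) K) ^ 2 :=
    exists_presentation A p
  refine ⟨?_, hbc⟩
  tfae_have 1 → 2 := hab
  tfae_have 2 → 3 := fun h => by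
    obtain ⟨K, iK, n, f, hf, -⟩ := hbc h
    exact ⟨K, iK, n, f, hf⟩
  tfae_have 3 → 1 := by
    rintro ⟨K, iK, n, f, -⟩
    exact ⟨K, iK, ⟨f.comp MvPowerSeries.C⟩⟩
  tfae_finish

end Groth.Agent.S4511
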