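import Groth.Statements.S4513
import Groth.Agent.EGA41Lib.Separable
import Mathlib.Algebra.TrivSqZeroExt.Ideal
-- import your own Groth.Agent.* helpers here

set_option autoImplicit false
universe u
open EGA41

namespace Groth.Agent.S4513

open IsLocalRing in
/-- Let A be a Noetherian local ring and k a field mapping to A such that A is formally smooth over k
for the adic topology of its maximal ideal (k discrete). Then every field K with k → K → A
(compatible ring maps) is a separable extension of k, i.e. K is geometrically reduced over k. -/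
theorem result {k A K : Type u} [Field k] [CommRing A]
    [IsLocalRing A] [IsNoetherianRing A] [Algebra k A] (h : CAlgX.IsAdicFormallySmooth k A (maximalIdeal A))
    [Field K] [Algebra k K] [Algebra K A] [IsScalarTower k K A] :
    Algebra.IsGeometricallyReduced k K := by
  rw [Groth.Agent.EGA41Lib.isGeometricallyReduced_iff_injective]
  refine Groth.Agent.EGA41Lib.injective_of_extension fun δ => ?_
  let ρ : K →+* (ResidueField A) := algebraMap K (ResidueField A)
  have hρ : ∀ y : K, ρ y = residue A (algebraMap K A y) := fun y =>
    IsScalarTower.algebraMap_apply K A (ResidueField A) y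
  obtain ⟨π, hπ⟩ := (Algebra.linearMap K (ResidueField A)).exists_leftInverse_of_injective
    (LinearMap.ker_eq_bot.2 ρ.injective)
  let φ : k →+* TrivSqZeroExt (ResidueField A) (ResidueField A) :=
    { toFun := fun a => TrivSqZeroExt.inl (ρ (algebraMap k K a)) + TrivSqZeroExt.inr (ρ (δ a))
      map_one' := by simp
      map_zero' := by simp
      map_add' := fun a b => by ext <;> simp
      map_mul' := fun a b => by
        ext
        · simp
        · simp [Algebra.smul_def]
          ring }
  let : Algebra k (TrivSqZeroExt (ResidueField A) (ResidueField A)) := φ.toAlgebra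
  let J := TrivSqZeroExt.kerIdeal (ResidueField A) (ResidueField A)
  let ψ : A →ₐ[k] TrivSqZeroExt (ResidueField A) (ResidueField A) ⧸ J :=
    { (Ideal.Quotient.mk J).comp ((TrivSqZeroExt.inlHom (ResidueField A) (ResidueField A)).comp (residue A)) with
      commutes' := fun a => by
        show Ideal.Quotient.mk J (TrivSqZeroExt.inl (residue A (algebraMap k A a))) =
          Ideal.Quotient.mk J (φ a)
        rw [Ideal.Quotient.mk_eq_mk_iff_sub_mem]
        show TrivSqZeroExt.fst _ = 0
        simp [φ, hρ, ← IsScalarTower.algebraMap_apply] }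
  obtain ⟨χ, hχ⟩ := h (TrivSqZeroExt (ResidueField A) (ResidueField A)) J (TrivSqZeroExt.kerIdeal_sq (ResidueField A) (ResidueField A)) ψ ⟨1, fun x hx => by
    rw [pow_one] at hx
    show Ideal.Quotient.mk J (TrivSqZeroExt.inl (residue A x)) = 0
    rw [(residue_eq_zero_iff x).2 hx, TrivSqZeroExt.inl_zero, map_zero]⟩
  have hfst : ∀ a : A, (χ a).fst = residue A a := by
    intro a
    have h2 : Ideal.Quotient.mk J (χ a) = Ideal.Quotient.mk J (TrivSqZeroExt.inl (residue A a)) :=
      DFunLike.congr_fun hχ a
    rw [Ideal.Quotient.mk_eq_mk_iff_sub_mem] at h2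
    change TrivSqZeroExt.fst _ = 0 at h2
    simpa [sub_eq_zero] using h2
  let D0 : K →+ K :=
    { toFun := fun y => π (χ (algebraMap K A y)).snd
      map_zero' := by simp
      map_add' := fun a b => by simp }
  refine ⟨Derivation.mk' D0.toIntLinearMap fun a b => ?_, fun a => ?_⟩
  · show π (χ (algebraMap K A (a * b))).snd =
      a * π (χ (algebraMap K A b)).snd + b * π (χ (algebraMap K A a)).snd
    rw [map_mul, map_mul, TrivSqZeroExt.snd_mul, hfst, hfst, op_smul_eq_smul, map_add]
    show π (ρ a • (χ (algebraMap K A b)).snd) + π (ρ b • (χ (algebraMap K A a)).snd) = _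
    rw [algebraMap_smul, algebraMap_smul,
      map_smul, map_smul, smul_eq_mul, smul_eq_mul]
  · show π (χ (algebraMap K A (algebraMap k K a))).snd = δ a
    rw [← IsScalarTower.algebraMap_apply, AlgHom.commutes]
    show π (φ a).snd = _
    have h2 : π (ρ (δ a)) = δ a := LinearMap.congr_fun hπ (δ a)
    simpa [φ] using h2

end Groth.Agent.S4513
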