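import Groth.Statements.S4514
import Groth.Agent.GRing17.CohenPresentation
import Groth.Agent.Miracle.Basic
import Groth.Agent.FlatDescent.Critere
import Mathlib.RingTheory.LocalRing.ResidueField.Basic
import Groth.Agent.CohenSqZero.Basic

set_option autoImplicit false
universe u
open EGA41 IsLocalRing TensorProduct

namespace Groth.Agent.S4514

theorem exists_min_gen {R : Type u} [CommRing R] [IsRegularLocalRing R] :
    ∃ (d : ℕ) (a : Fin d → R), maximalIdeal R = Ideal.span (Set.range a) ∧ (d : WithBot ℕ∞) = ringKrullDim R := by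
  obtain ⟨f, hf⟩ := (IsNoetherian.noetherian (maximalIdeal R)).exists_span_set_encard_eq_spanFinrank
  have hfin : f.Finite := Set.finite_of_encard_eq_coe hf.1
  refine ⟨_, fun i => (hfin.toFinset.equivFin.symm i : R), ?_, ?_⟩
  · rw [← hf.2]
    congr 1
    ext x
    simp only [Set.mem_range]
    exact ⟨fun hx => ⟨hfin.toFinset.equivFin ⟨x, hfin.mem_toFinset.mpr hx⟩, by simp⟩,
      fun ⟨i, hi⟩ => hi ▸ hfin.mem_toFinset.mp (hfin.toFinset.equivFin.symm i).2⟩
  · rw [← IsRegularLocalRing.spanFinrank_maximalIdeal (R := R)]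
    have h : hfin.toFinset.card = (maximalIdeal R).spanFinrank := by
      have := hf.1
      rw [hfin.encard_eq_coe_toFinset_card] at this
      exact_mod_cast this
    rw [h]

theorem regular_powerSeries {Λ : Type u} [CommRing Λ] [IsLocalRing Λ] [IsNoetherianRing Λ] (e : ℕ)
    (he : (IsField Λ ∧ e = 0) ∨ (CAlg.IsCohenRing Λ ∧ e = 1)) (n : ℕ) :
    IsRegularLocalRing (MvPowerSeries (Fin n) Λ) := by
  rcases he with ⟨hF, rfl⟩ | ⟨hC, rfl⟩
  · refine CohenSqZero.isRegular_mvPowerSeries n ∅ ?_ ?_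
    · rw [Finset.coe_empty, Ideal.span_empty]; exact isField_iff_maximalIdeal_eq.mp hF
    · rw [Finset.card_empty, Nat.cast_zero]; exact ringKrullDim_nonneg_of_nontrivial
  · obtain ⟨_, p, hp, hmax, hp0, _, hc, hdvr⟩ := CohenStruct.cohen_props hC
    refine CohenSqZero.isRegular_mvPowerSeries n {(p : Λ)} (by rw [Finset.coe_singleton]; exact hmax) ?_
    rw [Finset.card_singleton, Nat.cast_one, IsPrincipalIdealRing.ringKrullDim_eq_one Λ
      (IsDiscreteValuationRing.not_isField Λ)]

/-- The lift for a complete base. -/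
theorem complete_case {A : Type u} [CommRing A] [IsLocalRing A] [IsNoetherianRing A]
    [IsAdicComplete (maximalIdeal A) A] (B₀ : Type u) [CommRing B₀] [IsRegularLocalRing B₀]
    [IsAdicComplete (maximalIdeal B₀) B₀] (g : A →+* B₀) (hg : ∀ x ∈ maximalIdeal A, g x = 0) :
    ∃ (B : Type u) (_ : CommRing B) (_ : IsLocalRing B) (_ : IsNoetherianRing B) (ι : A →+* B) (π : B →+* B₀),
      IsAdicComplete (maximalIdeal B) B ∧ IsLocalHom ι ∧ ι.Flat ∧ Function.Surjective π ∧ π.comp ι = g ∧
        RingHom.ker π = (maximalIdeal A).map ι := by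
  classical
  have hgl : IsLocalHom g := ⟨fun x hx => by
    by_contra hu
    rw [hg x ((mem_maximalIdeal x).mpr hu)] at hx
    exact not_isUnit_zero hx⟩
  obtain ⟨Λ, _, _, φ, hφ, hφm, hcase⟩ := GRing17.exists_coeff A
  obtain ⟨Λ', _, _, φ', hφ', hφ'm, hcase'⟩ := GRing17.exists_coeff B₀
  have hiff : CharZero (ResidueField A) ↔ CharZero (ResidueField B₀) := by
    let f : ResidueField A →+* ResidueField B₀ := ResidueField.map g
    exact ⟨fun h => charZero_of_injective_ringHom f.injective, fun h => ⟨fun x y hxy => Nat.cast_injective (R := ResidueField B₀)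
      (by rw [← map_natCast f x, ← map_natCast f y, hxy])⟩⟩
  obtain ⟨e, he, he', hW, hfin⟩ : ∃ e : ℕ,
      ((IsField Λ ∧ e = 0) ∨ (CAlg.IsCohenRing Λ ∧ e = 1)) ∧
      ((IsField Λ' ∧ e = 0) ∨ (CAlg.IsCohenRing Λ' ∧ e = 1)) ∧ EGA41.IsCohenRingEGA Λ ∧
      ((IsField Λ' ∧ IsField Λ) ∨ (CAlg.IsCohenRing Λ ∧ CAlg.IsCohenRing Λ')) := by
    rcases hcase with ⟨h0, hF, hc⟩ | ⟨h0, hC⟩
    · rcases hcase' with ⟨-, hF', -⟩ | ⟨h0', -⟩
      · exact ⟨0, Or.inl ⟨hF, rfl⟩, Or.inl ⟨hF', rfl⟩, Or.inl ⟨hF, hc⟩, Or.inl ⟨hF', hF⟩⟩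
      · exact absurd (hiff.mp h0) h0'
    · rcases hcase' with ⟨h0', -, -⟩ | ⟨-, hC'⟩
      · exact absurd (hiff.mpr h0') h0
      · exact ⟨1, Or.inr ⟨hC, rfl⟩, Or.inr ⟨hC', rfl⟩, Or.inr hC, Or.inr ⟨hC, hC'⟩⟩
  have hnr : ∀ {L : Type u} [CommRing L] [IsLocalRing L], (IsField L ∨ CAlg.IsCohenRing L) →
      IsNoetherianRing L ∧ IsAdicComplete (maximalIdeal L) L := fun {L} _ _ h => by
    rcases h with hF | ⟨hd, hdvr, hc, -⟩
    · refine ⟨?_, ?_⟩
      · let := hF.toField; infer_instance
      · rw [isField_iff_maximalIdeal_eq.mp hF]; infer_instance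
    · exact ⟨inferInstance, hc⟩
  obtain ⟨_, _⟩ := hnr (L := Λ) (he.imp And.left And.left)
  obtain ⟨_, _⟩ := hnr (L := Λ') (he'.imp And.left And.left)
  obtain ⟨n, a, ha⟩ := Submodule.fg_iff_exists_fin_generating_family.mp (IsNoetherian.noetherian (maximalIdeal A))
  obtain ⟨d, b, hb, hd⟩ := exists_min_gen (R := B₀)
  have ham : ∀ i, a i ∈ maximalIdeal A := fun i => ha ▸ Submodule.subset_span ⟨i, rfl⟩
  have hbm : ∀ i, b i ∈ maximalIdeal B₀ := fun i => hb ▸ Submodule.subset_span ⟨i, rfl⟩
  let c : Fin (n + d) → B₀ := Fin.append (fun _ => 0) b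
  have hcl : ∀ i, c (Fin.castAdd d i) = 0 := fun i => Fin.append_left ..
  have hcm : ∀ i, c i ∈ maximalIdeal B₀ := fun i => by
    refine Fin.addCases (fun j => ?_) (fun j => ?_) i
    · rw [hcl]; exact zero_mem _
    · simp only [c, Fin.append_right]
      exact hbm j
  let R := MvPowerSeries (Fin n) Λ
  let S := MvPowerSeries (Fin (n + d)) Λ'
  have : IsRegularLocalRing R := regular_powerSeries e he n
  have : IsRegularLocalRing S := regular_powerSeries e he' (n + d)
  let ρ : R →+* A := CohenStruct.evalPS (maximalIdeal A) φ a ham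
  have hρ : Function.Surjective ρ := GRing17.evalPS_surjective φ hφ a ham ha.ge
  let σ : S →+* B₀ := CohenStruct.evalPS (maximalIdeal B₀) φ' c hcm
  have hσ : Function.Surjective σ := GRing17.evalPS_surjective φ' hφ' c hcm (hb.le.trans (Ideal.span_mono (by
    rintro _ ⟨j, rfl⟩
    exact ⟨Fin.natAdd n j, Fin.append_right ..⟩)))
  have : IsAdicComplete (maximalIdeal S) S := CTensorRed.isAdicComplete_maximalIdeal
  let J : Ideal S := RingHom.ker σ
  let eJ : S ⧸ J ≃+* B₀ := RingHom.quotientKerEquivOfSurjective hσ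
  have : IsLocalRing (S ⧸ J) := eJ.symm.isLocalRing
  let v : Λ →+* S ⧸ J := eJ.symm.toRingHom.comp (g.comp φ)
  have : IsLocalHom v := ⟨fun l hl => by
    by_contra hu
    have h1 : IsUnit (g (φ l)) := by
      have := hl.map eJ
      rwa [show eJ (v l) = g (φ l) from eJ.apply_symm_apply _] at this
    rw [hg _ (hφm l ((mem_maximalIdeal l).mpr hu))] at h1
    exact not_isUnit_zero h1⟩
  obtain ⟨τ₀, hτ₀l, hτ₀⟩ := CohenStruct.exists_lift_quotient hW J (RingHom.ker_ne_top σ) v
  have hστ₀ : ∀ l, σ (τ₀ l) = g (φ l) := fun l => by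
    have h1 := congrArg eJ (RingHom.congr_fun hτ₀ l)
    rw [show eJ (v l) = g (φ l) from eJ.apply_symm_apply _] at h1
    exact h1
  have hXm : ∀ {d : ℕ} {L : Type u} [CommRing L] [IsLocalRing L] (i : Fin d),
      (MvPowerSeries.X i : MvPowerSeries (Fin d) L) ∈ maximalIdeal (MvPowerSeries (Fin d) L) := fun i => by
    rw [mem_maximalIdeal, mem_nonunits_iff, MvPowerSeries.isUnit_iff_constantCoeff]
    simp
  let x : Fin n → S := fun i => MvPowerSeries.X (Fin.castAdd d i)
  have hxm : ∀ i, x i ∈ maximalIdeal S := fun i => hXm _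
  let τ : R →+* S := CohenStruct.evalPS (maximalIdeal S) τ₀ x hxm
  have hτC : ∀ l, τ (MvPowerSeries.C l) = τ₀ l := CohenStruct.evalPS_C _ τ₀ x hxm
  have hτX : ∀ i, τ (MvPowerSeries.X i) = x i := CohenStruct.evalPS_X _ τ₀ x hxm
  have hτm : ∀ r ∈ maximalIdeal R, τ r ∈ maximalIdeal S := by
    intro r hr
    rw [CTensorRed.maximalIdeal_eq_sup (B := Λ) (d := n)] at hr
    refine (sup_le (Ideal.map_le_iff_le_comap.mpr fun l hl => ?_) (Ideal.span_le.mpr ?_) :
      _ ≤ (maximalIdeal S).comap τ) hr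
    · rw [Ideal.mem_comap, Ideal.mem_comap, hτC]
      exact map_nonunit τ₀ l hl
    · rintro _ ⟨i, rfl⟩
      rw [SetLike.mem_coe, Ideal.mem_comap, hτX]
      exact hxm i
  have hcomm : σ.comp τ = g.comp ρ := by
    refine CTensorRed.ringHom_ext (maximalIdeal B₀) _ _ (fun l => ?_) (fun i => ?_) fun i => ?_
    · rw [RingHom.comp_apply, RingHom.comp_apply, hτC, hστ₀, CohenStruct.evalPS_C]
    · rw [RingHom.comp_apply, RingHom.comp_apply, hτX, CohenStruct.evalPS_X, CohenStruct.evalPS_X,
        hg _ (ham i)]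
      exact hcl i
    · rw [RingHom.comp_apply, hτX, CohenStruct.evalPS_X]
      exact hcm _
  let M : Ideal S := (maximalIdeal R).map τ
  have hρm : ∀ r ∈ maximalIdeal R, ρ r ∈ maximalIdeal A := by
    intro r hr
    have : IsLocalHom ρ := .of_surjective _ hρ
    exact map_nonunit ρ r hr
  have hMσ : M ≤ RingHom.ker σ := Ideal.map_le_iff_le_comap.mpr fun r hr => by
    rw [Ideal.mem_comap, RingHom.mem_ker]
    exact (RingHom.congr_fun hcomm r).trans (hg _ (hρm r hr))
  have hMm : M ≤ maximalIdeal S := Ideal.map_le_iff_le_comap.mpr hτm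
  have hMΛ : (maximalIdeal Λ').map MvPowerSeries.C ≤ M := by
    rcases hfin with ⟨hF', -⟩ | ⟨hC, hC'⟩
    · rw [isField_iff_maximalIdeal_eq.mp hF', Ideal.map_bot]; exact bot_le
    · obtain ⟨_, p, hp, hmax, -, _, -, -⟩ := CohenStruct.cohen_props hC
      obtain ⟨_, p', hp', hmax', -, _, -, -⟩ := CohenStruct.cohen_props hC'
      have hpB : (p : B₀) ∈ maximalIdeal B₀ := by
        have := hg _ (hφm _ (hmax ▸ Ideal.mem_span_singleton_self _ : (p : Λ) ∈ maximalIdeal Λ))
        rw [map_natCast, map_natCast] at this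
        rw [this]; exact zero_mem _
      have hp'B : (p' : B₀) ∈ maximalIdeal B₀ := by
        have := hφ'm _ (hmax' ▸ Ideal.mem_span_singleton_self _ : (p' : Λ') ∈ maximalIdeal Λ')
        rwa [map_natCast] at this
      have hpp : p = p' := by
        by_contra hne
        obtain ⟨z, w, hzw⟩ : ∃ z w : ℤ, z * p + w * p' = 1 :=
          Int.isCoprime_iff_nat_coprime.mpr (by simpa using (Nat.coprime_primes hp hp').mpr hne)
        have h1 : ((z * p + w * p' : ℤ) : B₀) ∈ maximalIdeal B₀ := by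
          push_cast
          exact add_mem (Ideal.mul_mem_left _ _ hpB) (Ideal.mul_mem_left _ _ hp'B)
        rw [hzw, Int.cast_one] at h1
        exact (maximalIdeal.isMaximal B₀).ne_top ((Ideal.eq_top_iff_one _).mpr h1)
      rw [hmax', Ideal.map_span, Set.image_singleton, Ideal.span_singleton_le_iff_mem, map_natCast, ← hpp,
        ← map_natCast τ]
      refine Ideal.mem_map_of_mem τ ?_
      rw [← map_natCast (MvPowerSeries.C (σ := Fin n) (R := Λ)), CTensorRed.maximalIdeal_eq_sup (B := Λ) (d := n)]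
      exact Submodule.mem_sup_left (Ideal.mem_map_of_mem _ (hmax ▸ Ideal.mem_span_singleton_self _))
  let F := S ⧸ M
  have : Nontrivial F := Ideal.Quotient.nontrivial_iff.mpr (ne_top_of_le_ne_top (maximalIdeal.isMaximal S).ne_top hMm)
  have : IsLocalRing F := IsLocalRing.of_surjective' _ Ideal.Quotient.mk_surjective
  let σF : F →+* B₀ := Ideal.Quotient.lift M σ hMσ
  have hσF : Function.Surjective σF := Ideal.Quotient.lift_surjective_of_surjective M hMσ hσ
  let z : Finset F := Finset.univ.image fun j : Fin d => Ideal.Quotient.mk M (MvPowerSeries.X (Fin.natAdd n j))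
  have hzF : maximalIdeal F ≤ Ideal.span (z : Set F) := by
    have : IsLocalHom (Ideal.Quotient.mk M) := .of_surjective _ Ideal.Quotient.mk_surjective
    rw [← IsLocalRing.map_maximalIdeal_of_surjective (Ideal.Quotient.mk M) Ideal.Quotient.mk_surjective,
      CTensorRed.maximalIdeal_eq_sup (B := Λ') (d := n + d), Ideal.map_sup]
    refine sup_le ((Ideal.map_mono hMΛ).trans (by rw [Ideal.map_quotient_self]; exact bot_le)) ?_
    rw [Ideal.map_span, Ideal.span_le]
    rintro _ ⟨_, ⟨i, rfl⟩, rfl⟩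
    refine Fin.addCases (fun j => ?_) (fun j => ?_) i
    · rw [SetLike.mem_coe, Ideal.Quotient.eq_zero_iff_mem.mpr ((hτX j).subst (motive := fun t => t ∈ M) (Ideal.mem_map_of_mem τ (hXm j)) :
        MvPowerSeries.X (Fin.castAdd d j) ∈ M)]
      exact zero_mem _
    · exact Ideal.subset_span (Finset.mem_coe.mpr (Finset.mem_image_of_mem _ (Finset.mem_univ j)))
  have hFd : (d : WithBot ℕ∞) ≤ ringKrullDim F := hd.le.trans (ringKrullDim_le_of_surjective σF hσF)
  have hzle : Ideal.span (z : Set F) ≤ maximalIdeal F := by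
    have : IsLocalHom (Ideal.Quotient.mk M) := .of_surjective _ Ideal.Quotient.mk_surjective
    rw [Ideal.span_le]
    intro y hy
    obtain ⟨j, -, rfl⟩ := Finset.mem_image.mp (Finset.mem_coe.mp hy)
    exact map_nonunit (Ideal.Quotient.mk M) _ (hXm _)
  have hcard : (maximalIdeal F).spanFinrank ≤ d := by
    rw [le_antisymm hzF hzle]
    refine (Submodule.spanFinrank_span_le_ncard_of_finite z.finite_toSet).trans ?_
    rw [Set.ncard_coe_finset]
    exact Finset.card_image_le.trans (by simp)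
  have hFreg : IsRegularLocalRing F :=
    IsRegularLocalRing.of_spanFinrank_maximalIdeal_le _ (le_trans (Nat.cast_le.mpr hcard) hFd)
  have : IsDomain F := DepthLib.isDomain_of_isRegularLocalRing F
  have hFdim : ringKrullDim F ≤ d := by
    rw [← IsRegularLocalRing.spanFinrank_maximalIdeal (R := F)]
    exact Nat.cast_le.mpr hcard
  have hkerσ : RingHom.ker σ = M := by
    refine le_antisymm (fun s hs => ?_) hMσ
    have hinj := CohenStruct.injective_of_finite_of_dim σF (RingHom.Finite.of_surjective σF hσF) hFdim hd.le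
    exact Ideal.Quotient.eq_zero_iff_mem.mp (hinj ((RingHom.mem_ker.mp hs).trans (map_zero σF).symm))
  let _ : Algebra R S := τ.toAlgebra
  have : IsLocalHom (algebraMap R S) := ((local_hom_TFAE τ).out 2 0).mp hMm
  have : LocCoh.IsCohenMacaulayLocalRing S := DepthLib.isCohenMacaulayLocalRing_of_isRegularLocalRing S
  have hflat : Module.Flat R S := Miracle.flat _ rfl (by
    show ringKrullDim S = ringKrullDim R + ringKrullDim F
    rw [GRing17.ringKrullDim_powerSeries e he' (n + d), GRing17.ringKrullDim_powerSeries e he n,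
      le_antisymm hFdim hFd]
    push_cast
    ring)
  -- the quotient
  let K := RingHom.ker ρ
  let KS := K.map τ
  have hKm : K ≤ maximalIdeal R := le_maximalIdeal (RingHom.ker_ne_top ρ)
  have hKSm : KS ≤ maximalIdeal S := (Ideal.map_mono hKm).trans hMm
  let B := S ⧸ KS
  have : Nontrivial B := Ideal.Quotient.nontrivial_iff.mpr (ne_top_of_le_ne_top (maximalIdeal.isMaximal S).ne_top hKSm)
  have : IsLocalRing B := IsLocalRing.of_surjective' _ Ideal.Quotient.mk_surjective
  let eρ : R ⧸ K ≃+* A := RingHom.quotientKerEquivOfSurjective hρ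
  let q : R ⧸ K →+* B := Ideal.quotientMap KS τ Ideal.le_comap_map
  let ι : A →+* B := q.comp eρ.symm.toRingHom
  have hιρ : ∀ r, ι (ρ r) = Ideal.Quotient.mk KS (τ r) := fun r => by
    show q (eρ.symm (ρ r)) = _
    rw [show eρ.symm (ρ r) = Ideal.Quotient.mk K r from eρ.injective (eρ.apply_symm_apply _ : _)]
    exact Ideal.quotientMap_mk
  have hι : (maximalIdeal A).map ι = M.map (Ideal.Quotient.mk KS) := by
    have : IsLocalHom ρ := .of_surjective _ hρ
    rw [← IsLocalRing.map_maximalIdeal_of_surjective ρ hρ, Ideal.map_map, Ideal.map_map]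
    exact congrArg (fun f : R →+* B => (maximalIdeal R).map f) (RingHom.ext hιρ)
  let π : B →+* B₀ := Ideal.Quotient.lift KS σ ((Ideal.map_mono hKm).trans hMσ)
  have hmaxB : maximalIdeal B = (maximalIdeal S).map (algebraMap S B) :=
    (@IsLocalRing.map_maximalIdeal_of_surjective _ _ _ _ _ _ (Ideal.Quotient.mk KS) Ideal.Quotient.mk_surjective).symm
  refine ⟨B, inferInstance, inferInstance, inferInstance, ι, π, ?_, ?_, ?_, ?_, ?_, ?_⟩
  · rw [hmaxB]; exact AdicLim.isAdicComplete_quotient KS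
  · refine ((local_hom_TFAE ι).out 2 0).mp ?_
    rw [hι, hmaxB]
    exact Ideal.map_mono hMm
  · exact FlatDescent.flat_of_surjective_of_ker τ hflat ρ hρ (Ideal.Quotient.mk KS) Ideal.Quotient.mk_surjective
      Ideal.mk_ker.symm ι (RingHom.ext hιρ)
  · exact Ideal.Quotient.lift_surjective_of_surjective KS _ hσ
  · ext y
    obtain ⟨r, rfl⟩ := hρ y
    rw [RingHom.comp_apply, hιρ]
    exact RingHom.congr_fun hcomm r
  · rw [hι]
    ext y
    obtain ⟨s, rfl⟩ := Ideal.Quotient.mk_surjective y
    rw [RingHom.mem_ker, show π (Ideal.Quotient.mk KS s) = σ s from rfl, ← RingHom.mem_ker, hkerσ,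
      Ideal.mem_quotient_iff_mem_sup, sup_eq_left.mpr (Ideal.map_mono hKm)]

theorem result {A : Type u} [CommRing A] [IsLocalRing A] [IsNoetherianRing A]
    (B₀ : Type u) [CommRing B₀] [IsRegularLocalRing B₀] [IsAdicComplete (maximalIdeal B₀) B₀]
    [Algebra (ResidueField A) B₀] :
    ∃ (B : Type u) (_ : CommRing B) (_ : IsLocalRing B) (_ : IsNoetherianRing B) (_ : Algebra A B)
      (_ : IsLocalHom (algebraMap A B)),
      IsAdicComplete (maximalIdeal B) B ∧ Module.Flat A B ∧
        Nonempty (ResidueField A ⊗[A] B ≃ₐ[ResidueField A] B₀) := by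
  let Ah := AdicCompletion (maximalIdeal A) A
  have : IsNoetherianRing Ah := CohenStruct.isNoetherianRing_completion A
  have : Module.Flat A Ah := AdicCompletion.flat_of_isNoetherian _
  let ε : Ah →+* ResidueField A := (AdicCompletion.evalOneₐ (maximalIdeal A)).toRingHom
  have hεs : Function.Surjective ε := AdicCompletion.evalOneₐ_surjective _
  have hεm : RingHom.ker ε = maximalIdeal Ah := eq_maximalIdeal (RingHom.ker_isMaximal_of_surjective ε hεs)
  have hεA : ∀ x, ε (algebraMap A Ah x) = residue A x := fun x => (AdicCompletion.evalOneₐ (maximalIdeal A)).commutes x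
  have hmap : (maximalIdeal A).map (algebraMap A Ah) = maximalIdeal Ah := AdicCompletion.maximalIdeal_eq_map.symm
  have := AdicCompletion.isAdicComplete_self (maximalIdeal A) (IsNoetherian.noetherian _)
  have : IsAdicComplete (maximalIdeal Ah) Ah := hmap ▸ this
  obtain ⟨B, _, _, _, ι, π, hcpl, hloc, hflat, hπs, hπι, hπk⟩ := complete_case (A := Ah) B₀
    ((algebraMap (ResidueField A) B₀).comp ε) (fun x hx => by
      rw [RingHom.comp_apply, RingHom.mem_ker.mp (hεm.ge hx), map_zero])
  let _ : Algebra A B := (ι.comp (algebraMap A Ah)).toAlgebra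
  let _ : Algebra Ah B := ι.toAlgebra
  have : IsScalarTower A Ah B := .of_algebraMap_eq fun _ => rfl
  have : Module.Flat Ah B := hflat
  have hmB : (maximalIdeal A).map (algebraMap A B) = RingHom.ker π := by
    rw [hπk, ← hmap, Ideal.map_map]
    rfl
  refine ⟨B, inferInstance, inferInstance, inferInstance, inferInstance, ?_, hcpl, Module.Flat.trans A Ah B, ⟨?_⟩⟩
  · refine ((local_hom_TFAE (algebraMap A B)).out 2 0).mp ?_
    rw [hmB]
    exact le_maximalIdeal (RingHom.ker_ne_top π)
  · let _ : Algebra A B₀ := ((algebraMap (ResidueField A) B₀).comp (residue A)).toAlgebra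
    have : IsScalarTower A (ResidueField A) B₀ := .of_algebraMap_eq fun _ => rfl
    let ψ : B →ₐ[A] B₀ :=
      { π with
        commutes' := fun x => by
          show π (ι (algebraMap A Ah x)) = algebraMap (ResidueField A) B₀ (residue A x)
          rw [← RingHom.comp_apply, hπι, RingHom.comp_apply, hεA] }
    let Φ : ResidueField A ⊗[A] B →ₐ[ResidueField A] B₀ :=
      Algebra.TensorProduct.lift (Algebra.ofId _ _) ψ fun _ _ => .all _ _
    refine AlgEquiv.ofBijective Φ ⟨?_, fun y => ?_⟩
    · rw [injective_iff_map_eq_zero]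
      intro w hw
      obtain ⟨s, rfl⟩ : ∃ s, (1 : ResidueField A) ⊗ₜ[A] s = w :=
        TensorProduct.mk_surjective A B (ResidueField A) residue_surjective w
      have hs : s ∈ (maximalIdeal A).map (algebraMap A B) := by
        rw [hmB, RingHom.mem_ker]
        simpa [Φ, ψ] using hw
      clear hw
      have hsub : (maximalIdeal A).map (algebraMap A B) ≤
          RingHom.ker (Algebra.TensorProduct.includeRight.toRingHom : B →+* ResidueField A ⊗[A] B) := by
        rw [Ideal.map_le_iff_le_comap]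
        intro x hx
        rw [Ideal.mem_comap, RingHom.mem_ker]
        show (1 : ResidueField A) ⊗ₜ[A] algebraMap A B x = 0
        rw [Algebra.algebraMap_eq_smul_one, ← TensorProduct.smul_tmul, ← Algebra.algebraMap_eq_smul_one,
          show algebraMap A (ResidueField A) x = 0 from (residue_eq_zero_iff x).mpr hx, TensorProduct.zero_tmul]
      exact hsub hs
    · obtain ⟨s, rfl⟩ := hπs y
      exact ⟨1 ⊗ₜ s, by simp [Φ, ψ]⟩

end Groth.Agent.S4514
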