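import Groth.Statements.S4515
import Mathlib.RingTheory.Flat.Basic
import Mathlib.RingTheory.AdicCompletion.Basic
import Mathlib.Algebra.Module.Submodule.Pointwise
-- import your own Groth.Agent.* helpers here

set_option autoImplicit false
universe u
open EGA41

namespace Groth.Agent.S4515

/-- Let A be a ring, J an ideal of A, and M, N two A-modules which are Hausdorff for the J-adic
topology; suppose moreover that N is J-adically complete and M is flat. Let u : N → M be A-linear.
If the induced map N/JN → M/JM is bijective (surjectivity and injectivity written out below), then u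
is bijective. -/
theorem result {A : Type u} [CommRing A] (J : Ideal A)
    {M N : Type u} [AddCommGroup M] [Module A M] [AddCommGroup N] [Module A N]
    [IsHausdorff J M] [IsAdicComplete J N] [Module.Flat A M] (u : N →ₗ[A] M)
    (hsurj : ∀ m : M, ∃ n : N, m - u n ∈ (J • ⊤ : Submodule A M))
    (hinj : ∀ n : N, u n ∈ (J • ⊤ : Submodule A M) → n ∈ (J • ⊤ : Submodule A N)) :
    Function.Bijective u := by
  have hpow : ∀ (k : ℕ) (a : A), a ∈ J ^ k → ∀ y : M, y ∈ (J • ⊤ : Submodule A M) →
      a • y ∈ (J ^ (k + 1) • ⊤ : Submodule A M) := fun k a ha y hy => by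
    rw [pow_succ, Submodule.mul_smul]
    exact Submodule.smul_mem_smul ha hy
  have hpowN : ∀ (k : ℕ) (a : A), a ∈ J ^ k → ∀ y : N, y ∈ (J • ⊤ : Submodule A N) →
      a • y ∈ (J ^ (k + 1) • ⊤ : Submodule A N) := fun k a ha y hy => by
    rw [pow_succ, Submodule.mul_smul]
    exact Submodule.smul_mem_smul ha hy
  have step : ∀ (k : ℕ) (r : M), r ∈ (J ^ k • ⊤ : Submodule A M) →
      ∃ d ∈ (J ^ k • ⊤ : Submodule A N), r - u d ∈ (J ^ (k + 1) • ⊤ : Submodule A M) := by
    intro k r hr
    refine Submodule.smul_induction_on hr (fun a ha x _ => ?_) (fun x y hx hy => ?_)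
    · obtain ⟨n, hn⟩ := hsurj x
      refine ⟨a • n, Submodule.smul_mem_smul ha Submodule.mem_top, ?_⟩
      rw [map_smul, ← smul_sub]
      exact hpow k a ha _ hn
    · obtain ⟨d, hd, hd'⟩ := hx
      obtain ⟨e, he, he'⟩ := hy
      refine ⟨d + e, add_mem hd he, ?_⟩
      rw [map_add, add_sub_add_comm]
      exact add_mem hd' he'
  refine ⟨?_, fun m => ?_⟩
  · rw [injective_iff_map_eq_zero]
    intro n hn
    refine IsHausdorff.haus (I := J) inferInstance n (fun k => SModEq.zero.2 ?_)
    induction k with
    | zero => simp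
    | succ k ih =>
      let ι : (J ^ k : Ideal A) →ₗ[A] A := (J ^ k : Ideal A).subtype
      let ιM : TensorProduct A (J ^ k : Ideal A) M →ₗ[A] M :=
        (TensorProduct.lid A M).toLinearMap ∘ₗ ι.rTensor M
      have hι : Function.Injective ιM :=
        (TensorProduct.lid A M).injective.comp
          (Module.Flat.rTensor_preserves_injective_linearMap ι Subtype.val_injective)
      let U : Submodule A N := J ^ (k + 1) • ⊤
      let V : Submodule A N := J • ⊤
      let ub : N →ₗ[A] M ⧸ (J • ⊤ : Submodule A M) := (Submodule.mkQ _).comp u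
      have hub : Function.Surjective ub := fun q => by
        obtain ⟨m, rfl⟩ := Submodule.mkQ_surjective _ q
        obtain ⟨x, hx⟩ := hsurj m
        exact ⟨x, ((Submodule.Quotient.eq _).2 hx).symm⟩
      have hker : LinearMap.ker ub ≤ V := fun x hx =>
        hinj x ((Submodule.Quotient.mk_eq_zero _).1 hx)
      have hle : LinearMap.ker ub ≤ V.comap LinearMap.id := fun x hx => hker hx
      let e := LinearMap.quotKerEquivOfSurjective ub hub
      let ψ : M →ₗ[A] N ⧸ V :=
        (Submodule.mapQ (LinearMap.ker ub) V LinearMap.id hle).comp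
          (e.symm.toLinearMap.comp (Submodule.mkQ _))
      have hψ : ∀ x, ψ (u x) = Submodule.Quotient.mk x := fun x => by
        have : e.symm (ub x) = Submodule.Quotient.mk x := (LinearEquiv.symm_apply_eq _).2 rfl
        show Submodule.mapQ (LinearMap.ker ub) V LinearMap.id hle (e.symm (ub x)) = _
        rw [this]
        rfl
      let mulq : (J ^ k : Ideal A) →ₗ[A] (N ⧸ V) →ₗ[A] N ⧸ U :=
        { toFun := fun a => Submodule.mapQ V U ((a : A) • LinearMap.id)
            (fun y hy => by
              rw [Submodule.mem_comap, LinearMap.smul_apply, LinearMap.id_apply]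
              exact hpowN k a.1 a.2 y hy)
          map_add' := fun a b => Submodule.linearMap_qext _ (LinearMap.ext fun y => by
            simp [add_smul])
          map_smul' := fun c a => Submodule.linearMap_qext _ (LinearMap.ext fun y => by
            simp [mul_smul]) }
      let Φ : TensorProduct A (J ^ k : Ideal A) M →ₗ[A] N ⧸ U :=
        TensorProduct.lift ((LinearMap.lcomp A _ ψ).comp mulq)
      have c1 : ∀ x ∈ (J ^ k • ⊤ : Submodule A N),
          ∃ t, ιM t = u x ∧ Φ t = Submodule.Quotient.mk x := by
        intro x hx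
        refine Submodule.smul_induction_on hx (fun a ha y _ => ?_) (fun y z hy hz => ?_)
        · refine ⟨TensorProduct.tmul A (⟨a, ha⟩ : (J ^ k : Ideal A)) (u y), ?_, ?_⟩
          · simp [ιM, ι]
          · simp [Φ, mulq, hψ]
        · obtain ⟨t, h1, h2⟩ := hy
          obtain ⟨t', h1', h2'⟩ := hz
          exact ⟨t + t', by simp [h1, h1'], by simp [h2, h2']⟩
      have c2 : ∀ y ∈ (J ^ (k + 1) • ⊤ : Submodule A M), ∃ t, ιM t = y ∧ Φ t = 0 := by
        intro y hy
        refine Submodule.smul_induction_on hy (fun b hb x _ => ?_) (fun y z hy hz => ?_)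
        · refine ⟨TensorProduct.tmul A
            (⟨b, Ideal.pow_le_pow_right (Nat.le_succ k) hb⟩ : (J ^ k : Ideal A)) x, ?_, ?_⟩
          · simp [ιM, ι]
          · obtain ⟨z, hz⟩ := Submodule.mkQ_surjective V (ψ x)
            simp only [Φ, TensorProduct.lift.tmul, LinearMap.comp_apply, LinearMap.lcomp_apply]
            rw [← hz]
            show Submodule.Quotient.mk (p := U) (b • z) = 0
            exact (Submodule.Quotient.mk_eq_zero _).2 (Submodule.smul_mem_smul hb Submodule.mem_top)
        · obtain ⟨t, h1, h2⟩ := hy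
          obtain ⟨t', h1', h2'⟩ := hz
          exact ⟨t + t', by simp [h1, h1'], by simp [h2, h2']⟩
      obtain ⟨t, ht, ht'⟩ := c1 n ih
      obtain ⟨t₀, h₀, h₀'⟩ := c2 (u n) (by rw [hn]; exact zero_mem _)
      rw [hι (ht.trans h₀.symm), h₀'] at ht'
      exact (Submodule.Quotient.mk_eq_zero U).1 ht'.symm
  · classical
    have step' : ∀ k : ℕ, ∀ x : {x : N // m - u x ∈ (J ^ k • ⊤ : Submodule A M)},
        ∃ y : {y : N // m - u y ∈ (J ^ (k + 1) • ⊤ : Submodule A M)},
          y.1 - x.1 ∈ (J ^ k • ⊤ : Submodule A N) := fun k x => by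
      obtain ⟨d, hd, hd'⟩ := step k _ x.2
      exact ⟨⟨x.1 + d, by rwa [map_add, ← sub_sub]⟩, by simpa using hd⟩
    choose nx hnx using step'
    let f : ∀ k : ℕ, {x : N // m - u x ∈ (J ^ k • ⊤ : Submodule A M)} := fun k =>
      Nat.rec ⟨0, by simp⟩ (fun i x => nx i x) k
    have hf : ∀ {a b : ℕ}, a ≤ b → (f b).1 - (f a).1 ∈ (J ^ a • ⊤ : Submodule A N) := by
      intro a b hab
      induction b, hab using Nat.le_induction with
      | base => simp
      | succ b hab ih =>
        have h := hnx b (f b)
        rw [← sub_add_sub_cancel _ (f b).1]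
        exact add_mem (Submodule.smul_mono_left (Ideal.pow_le_pow_right hab) h) ih
    obtain ⟨L, hL⟩ := IsPrecomplete.prec (I := J) inferInstance (f := fun k => (f k).1)
      (fun {a b} hab => (SModEq.sub_mem.2 (hf hab)).symm)
    refine ⟨L, sub_eq_zero.1 (IsHausdorff.haus (I := J) inferInstance _ (fun k => SModEq.zero.2 ?_))⟩
    have h1 : u ((f k).1 - L) ∈ (J ^ k • ⊤ : Submodule A M) := by
      have := Submodule.mem_map_of_mem (f := u) (SModEq.sub_mem.1 (hL k))
      rw [Submodule.map_smul''] at this
      exact Submodule.smul_mono le_rfl le_top this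
    have h2 := sub_mem (neg_mem h1) (f k).2
    rw [map_sub] at h2
    rwa [show u L - m = -(u (f k).1 - u L) - (m - u (f k).1) by abel]

end Groth.Agent.S4515
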