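import Groth.Statements.S4516
import Groth.Agent.EGA41Lib.Kaehler
-- import your own Groth.Agent.* helpers here

set_option autoImplicit false
universe u
open EGA41

namespace Groth.Agent.S4516

/-- Let p be a prime, B an A-algebra of characteristic p and A' an A-subalgebra of B contained in
A[B^p]. Then the canonical map between Ω_{B/A} and Ω_{B/A'} is bijective (every A-derivation of B
vanishes on A[B^p]). -/
theorem result (p : ℕ) [Fact p.Prime] {A B : Type u}
    [CommRing A] [CommRing B] [Algebra A B] [CharP B p] (A' : Subalgebra A B)
    (hA' : A' ≤ EGA41.pPowerSubalgebra p A B) :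
    Function.Bijective (KaehlerDifferential.map A A' B B) := by
  refine ⟨?_, fun y => KaehlerDifferential.map_surjective A A' B y⟩
  have hDA : ∀ a : A', KaehlerDifferential.D A B (a : B) = 0 := fun a =>
    Groth.Agent.EGA41Lib.derivation_apply_eq_zero_of_mem_pSub (p := p) _ (hA' a.2)
  let δ : Derivation A' B (Ω[B⁄A]) := Derivation.mk'
    { toFun := KaehlerDifferential.D A B
      map_add' := map_add _
      map_smul' := fun a c => by
        show KaehlerDifferential.D A B ((a : B) * c) = _
        rw [Derivation.leibniz, hDA, smul_zero, add_zero]
        exact algebraMap_smul B a _ }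
    fun c d => (KaehlerDifferential.D A B).leibniz c d
  have key : ∀ y, δ.liftKaehlerDifferential (KaehlerDifferential.map A A' B B y) = y := by
    intro y
    have hy : y ∈ Submodule.span B (Set.range (KaehlerDifferential.D A B)) := by
      rw [KaehlerDifferential.span_range_derivation]; trivial
    induction hy using Submodule.span_induction with
    | mem z hz =>
      obtain ⟨b, rfl⟩ := hz
      rw [KaehlerDifferential.map_D, Derivation.liftKaehlerDifferential_comp_D]
      rfl
    | zero => simp
    | add _ _ _ _ h1 h2 => rw [map_add, map_add, h1, h2]
    | smul c _ _ h => rw [map_smul, map_smul, h]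
  exact Function.LeftInverse.injective key

end Groth.Agent.S4516
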