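import Groth.Statements.S4517
import Mathlib

set_option autoImplicit false
universe u
open EGA41

namespace Groth.Agent.S4517

/-- Let p be a prime, B an A-algebra of characteristic p, and suppose there is s ≥ 0 such that b^(p^s)
lies in the image of A for every b ∈ B. Then the kernel of the multiplication map B ⊗_A B → B is a
nil ideal. -/
theorem result (p : ℕ) [Fact p.Prime] {A B : Type u}
    [CommRing A] [CommRing B] [Algebra A B] [CharP B p] (s : ℕ)
    (hpow : ∀ b : B, b ^ p ^ s ∈ Set.range (algebraMap A B)) :
    ∀ x ∈ KaehlerDifferential.ideal A B, IsNilpotent x := by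
  intro x hx
  rw [← KaehlerDifferential.span_range_eq_ideal] at hx
  refine mem_nilradical.mp ((Ideal.span_le.mpr ?_ : _ ≤ nilradical (TensorProduct A B B)) hx)
  rintro _ ⟨b, rfl⟩
  refine mem_nilradical.mpr ⟨p ^ s, ?_⟩
  have hp : (p : TensorProduct A B B) = 0 := by
    rw [← map_natCast (Algebra.TensorProduct.includeLeftRingHom (R := A) (A := B) (B := B)) p,
      CharP.cast_eq_zero, map_zero]
  rcases subsingleton_or_nontrivial (TensorProduct A B B) with hs | hs
  · exact Subsingleton.elim _ _
  have : CharP (TensorProduct A B B) p := by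
    refine (CharP.charP_iff_prime_eq_zero Fact.out).mpr hp
  obtain ⟨a, ha⟩ := hpow b
  rw [sub_pow_char_pow, Algebra.TensorProduct.tmul_pow, Algebra.TensorProduct.tmul_pow, one_pow, ← ha,
    Algebra.TensorProduct.tmul_one_eq_one_tmul]
  exact sub_self _

end Groth.Agent.S4517
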