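import Groth.Statements.S4518
import Groth.Agent.EGA41Lib.Basic
-- import your own Groth.Agent.* helpers here

set_option autoImplicit false
universe u
open EGA41

namespace Groth.Agent.S4518

/-- Let p be a prime and A → C → B rings of characteristic p with C → B injective and every p-th power
of B in the image of A (so, identifying, B^p ⊆ A ⊆ C ⊆ B up to replacing A by its image); let x be a
family of elements of C and y a family of elements of B. (i) If x is a system of p-generators of C
over A and y one of B over C, then the family obtained by putting x (viewed in B) and y together is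
a system of p-generators of B over A. (ii) If x is a p-basis of C over A, then y is p-independent
over C if and only if the combined family is p-independent over A. (The published statement only
asks B^p ⊆ C and reduces to B^p ⊆ A by enlarging A to A[B^p]; but p-independence of x in C over A
refers to A[C^p], which can be smaller than A[B^p] — for A = 𝔽_p, C = 𝔽_p(t^p) ⊂ B = 𝔽_p(t), x =
(t^p), y = (t), x is a p-basis of C over A and y is p-independent over C while (t^p, t) is not
p-independent over A — so this row assumes B^p ⊆ A, the case the published proof treats.) -/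
theorem result (p : ℕ) [Fact p.Prime] {A C B : Type u} [CommRing A] [CommRing C]
    [CommRing B] [Algebra A C] [Algebra C B] [Algebra A B] [IsScalarTower A C B] [CharP B p]
    (hinj : Function.Injective (algebraMap C B)) (hpow : ∀ b : B, b ^ p ∈ Set.range (algebraMap A B))
    {ι κ : Type u} (x : ι → C) (y : κ → B) :
    (EGA41.IsPGenerating p A x → EGA41.IsPGenerating p C y →
      EGA41.IsPGenerating p A (Sum.elim (fun i => algebraMap C B (x i)) y)) ∧
    (EGA41.IsPBasis p A x →
      (EGA41.IsPIndependent p C y ↔ EGA41.IsPIndependent p A (Sum.elim (fun i => algebraMap C B (x i)) y))) := by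
  open Groth.Agent.EGA41Lib in
  have hCB : ∀ b : B, b ^ p ∈ Set.range (algebraMap C B) := fun b => by
    obtain ⟨a, ha⟩ := hpow b
    exact ⟨algebraMap A C a, by rw [← IsScalarTower.algebraMap_apply, ha]⟩
  have hAC : ∀ c : C, c ^ p ∈ Set.range (algebraMap A C) := fun c => by
    obtain ⟨a, ha⟩ := hpow (algebraMap C B c)
    exact ⟨a, hinj (by rw [← IsScalarTower.algebraMap_apply, ha, map_pow])⟩
  open Groth.Agent.EGA41Lib in
  have hS : pSub p A B = (pSub p A C).map (algebraMap C B) := by
    rw [pSub_eq_range p A hpow, pSub_eq_range p A hAC, RingHom.map_range,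
      ← IsScalarTower.algebraMap_eq]
  open Groth.Agent.EGA41Lib in
  have hT : pSub p C B = (algebraMap C B).range := pSub_eq_range p C hCB
  open Groth.Agent.EGA41Lib in
  refine ⟨fun hx hy => ?_, fun hx => ?_⟩
  · open Groth.Agent.EGA41Lib in
    rw [isPGenerating_iff_closure] at hx hy ⊢
    rw [hT] at hy
    rw [hS, eq_top_iff, ← hy, Subring.closure_le, Set.Sum.elim_range]
    refine Set.union_subset ?_ fun z hz => Subring.subset_closure (Or.inr (Or.inr hz))
    rintro _ ⟨c, rfl⟩
    have hc : c ∈ Subring.closure ((pSub p A C : Set C) ∪ Set.range x) := by rw [hx]; trivial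
    have h2 : algebraMap C B c ∈ _ := (Subring.mem_map (f := algebraMap C B)).2 ⟨c, hc, rfl⟩
    rw [RingHom.map_closure, Set.image_union, ← Set.range_comp] at h2
    refine Subring.closure_mono ?_ h2
    exact Set.union_subset_union_right _ Set.subset_union_left
  · open Groth.Agent.EGA41Lib in
    rw [isPIndependent_iff, isPIndependent_iff, hT]
    have hx1 : Ind p (pSub p A B) (fun i => algebraMap C B (x i)) := by
      rw [hS]
      exact (ind_map_iff hinj _ x).2 hx.1
    open Groth.Agent.EGA41Lib in
    refine ⟨fun hy => Ind.sum (T := (algebraMap C B).range) ?_ (fun i => ⟨x i, rfl⟩) hx1 hy,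
      fun h => Ind.of_sum (T := (algebraMap C B).range) ?_ h⟩
    · rw [hS]
      rintro _ ⟨c, -, rfl⟩
      exact ⟨c, rfl⟩
    · open Groth.Agent.EGA41Lib in
      rw [coe_span_mono fun i => pow_mem_pSub p A _]
      rintro _ ⟨c, rfl⟩
      have hc : c ∈ Subring.closure ((pSub p A C : Set C) ∪ Set.range x) := by
        rw [(isPGenerating_iff_closure p A x).1 hx.2]; trivial
      have h2 : algebraMap C B c ∈ _ := (Subring.mem_map (f := algebraMap C B)).2 ⟨c, hc, rfl⟩
      rw [RingHom.map_closure, Set.image_union, ← Set.range_comp, ← Subring.coe_map, ← hS] at h2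
      exact h2

end Groth.Agent.S4518
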