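import Groth.Statements.S4519
import Groth.Agent.EGA41Lib.Lift
-- import your own Groth.Agent.* helpers here

set_option autoImplicit false
universe u
open EGA41

namespace Groth.Agent.S4519

/-- Let p be a prime, B a ring of characteristic p and A a subring of B with B^p ⊆ A (here: A → B
injective with every p-th power in its image; R → A → B with the image of R in B equal to the set of
p-th powers, so that R stands for B^p). If B admits a p-basis over A, then B is a formally smooth
A-algebra relative to R for the discrete topologies (square-zero liftings, as in the prelude's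
relative notion). -/
theorem result (p : ℕ) [Fact p.Prime] {R A B : Type u} [CommRing R] [CommRing A]
    [CommRing B] [Algebra R A] [Algebra A B] [Algebra R B] [IsScalarTower R A B] [CharP B p]
    (hinj : Function.Injective (algebraMap A B)) (hpow : ∀ b : B, b ^ p ∈ Set.range (algebraMap A B))
    (hR : Set.range (algebraMap R B) = Set.range fun b : B => b ^ p)
    {ι : Type u} (x : ι → B) (hx : EGA41.IsPBasis p A x) :
    EGA41.IsFormallySmoothRel R A B := by
  intro C _ _ _ _ J hJ u₀ ⟨u, hu⟩
  obtain ⟨b, hb⟩ := Groth.Agent.EGA41Lib.exists_basis_of_isPBasis p A x hinj hpow hx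
  obtain ⟨v, hv, -⟩ := Groth.Agent.EGA41Lib.existsUnique_algHom b hb (fun i => hpow (x i))
    (fun i => u (x i)) fun i a ha => by
      obtain ⟨r, hr⟩ : x i ^ p ∈ Set.range (algebraMap R B) := by rw [hR]; exact ⟨x i, rfl⟩
      have ha' : a = algebraMap R A r :=
        hinj (by rw [← IsScalarTower.algebraMap_apply, hr, ha])
      rw [ha', ← IsScalarTower.algebraMap_apply, ← map_pow, ← hr, AlgHom.commutes]
  refine ⟨v, Groth.Agent.EGA41Lib.algHom_ext_mono b hb fun i => ?_⟩
  show Ideal.Quotient.mk J (v (x i)) = u₀ (x i)
  rw [hv]
  exact DFunLike.congr_fun hu (x i)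

end Groth.Agent.S4519
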