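import Groth.Statements.S4520
import Groth.Agent.EGA41Lib.Kaehler

set_option autoImplicit false
universe u
open EGA41

namespace Groth.Agent.S4520

open TensorProduct in
/-- Let p be a prime, B a reduced ring of characteristic p, A a subring with B^p ⊆ A ⊆ B (here A → B
injective with all p-th powers in its image, and R → A → B with image in B the set of p-th powers, R
standing for B^p). Suppose B has a p-basis (x_λ) over A and A has a p-basis over R, and let x'_λ ∈ A
map to x_λ^p. Then the elements 1 ⊗ d_{A/ℤ}(x'_λ) form a basis of the B-module Υ_{B/A}, the kernel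
of B ⊗_A Ω_{A/ℤ} → Ω_{B/ℤ}. (The published statement also identifies Υ_{B/A} with the Frobenius
twist of Ω_{B/A}; this row states only the basis.) -/
theorem result (p : ℕ) [Fact p.Prime] {R A B : Type u} [CommRing R] [CommRing A]
    [CommRing B] [IsReduced B] [Algebra R A] [Algebra A B] [Algebra R B] [IsScalarTower R A B] [CharP B p]
    (hinj : Function.Injective (algebraMap A B)) (hpow : ∀ b : B, b ^ p ∈ Set.range (algebraMap A B))
    (hR : Set.range (algebraMap R B) = Set.range fun b : B => b ^ p)
    {Λ M : Type u} (x : Λ → B) (hx : EGA41.IsPBasis p A x) (x' : Λ → A) (hx' : ∀ i, algebraMap A B (x' i) = x i ^ p)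
    (y : M → A) (hy : EGA41.IsPBasis p R y) :
    ∃ b : Module.Basis Λ B (EGA41.imperfection ℤ A B),
      ∀ i, (b i : B ⊗[A] Ω[A⁄ℤ]) = (1 : B) ⊗ₜ[A] KaehlerDifferential.D ℤ A (x' i) := by
  classical
  open Groth.Agent.EGA41Lib KaehlerDifferential in
  have : CharP A p := (algebraMap A B).charP hinj p
  have hp : p.Prime := Fact.out
  have huniq : ∀ b c : B, b ^ p = c ^ p → b = c := fun b c h => frobenius_inj B p h
  let S := pSub p R A
  have hSB : ∀ s : S, ∃ b : B, b ^ p = algebraMap A B s.1 := by
    rintro ⟨s, hs⟩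
    show algebraMap A B s ∈ (frobenius B p).range
    induction hs using Algebra.adjoin_induction with
    | mem z hz =>
      obtain ⟨a, rfl⟩ := hz
      exact ⟨algebraMap A B a, by simp [frobenius_def]⟩
    | algebraMap r =>
      rw [← IsScalarTower.algebraMap_apply R A B]
      have h := Set.mem_range_self (f := algebraMap R B) r
      rw [hR] at h
      exact h
    | add _ _ _ _ h1 h2 => rw [map_add]; exact add_mem h1 h2
    | mul _ _ _ _ h1 h2 => rw [map_mul]; exact mul_mem h1 h2
  choose ψ hψ using hSB
  have hx'S : ∀ i, x' i ∈ S := fun i => by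
    have h : x i ^ p ∈ Set.range (algebraMap R B) := hR ▸ ⟨x i, rfl⟩
    obtain ⟨r, hr⟩ := h
    rw [show x' i = algebraMap R A r from
      hinj (by rw [hx', ← IsScalarTower.algebraMap_apply, hr])]
    exact algebraMap_mem_pSub p R r
  let by' : Module.Basis (Red p M) S A := Module.Basis.mk hy.1 (ge_of_eq hy.2)
  have hby : ∀ e, by' e = mono y e := fun e => Module.Basis.mk_apply _ _ e
  have hyp : ∀ m, y m ^ p ∈ Set.range (algebraMap S A) := fun m =>
    ⟨⟨_, pow_mem_pSub p R (y m)⟩, rfl⟩
  obtain ⟨bx, hbx⟩ := exists_basis_of_isPBasis p A x hinj hpow hx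
  let u := mapBaseChange ℤ A B
  let X : Λ → B ⊗[A] Ω[A⁄ℤ] := fun i => (1 : B) ⊗ₜ[A] D ℤ A (x' i)
  let Y : M → B ⊗[A] Ω[A⁄ℤ] := fun m => (1 : B) ⊗ₜ[A] D ℤ A (y m)
  have hX : ∀ i, u (X i) = 0 := fun i => by
    simp [u, X, hx', derivation_pow_eq_zero (D ℤ B)]
  -- independence of the `d x'`
  have hXli : LinearIndependent B X := by
    rw [linearIndependent_iff']
    intro s g hg j hj
    obtain ⟨d, hd⟩ := exists_dual_derivation hx (fun i => if i = j then (1 : B) else 0)
    let δ1 : S →+ B := AddMonoidHom.mk' (fun s => d (ψ s) ^ p) fun a b => by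
      rw [← add_pow_char]
      refine congrArg (fun v : B => v ^ p) ?_
      rw [← map_add]
      refine congrArg d (huniq _ _ ?_)
      rw [add_pow_char, hψ, hψ, hψ]
      exact map_add _ _ _
    let δ : Derivation ℤ S B := Derivation.mk' δ1.toIntLinearMap fun a b => by
      show d (ψ (a * b)) ^ p = (a.1 • (d (ψ b) ^ p) + b.1 • (d (ψ a) ^ p) : B)
      rw [Algebra.smul_def, Algebra.smul_def]
      have h : ψ (a * b) = ψ a * ψ b := huniq _ _ (by
        rw [mul_pow, hψ, hψ, hψ]
        exact map_mul _ _ _)
      rw [h, Derivation.leibniz, add_pow_char, smul_eq_mul, smul_eq_mul, mul_pow, mul_pow, hψ, hψ]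
    obtain ⟨δ', hδ', -⟩ := exists_derivation (A := S) (B := A) by' hby hyp δ (fun m a ha => by
      show d (ψ a) ^ p = 0
      have h : ψ a = algebraMap A B (y m) := huniq _ _ (by
        rw [hψ, ← map_pow]
        exact congrArg (algebraMap A B) ha)
      rw [h, Derivation.map_algebraMap, zero_pow hp.ne_zero]) (fun _ => 0)
    have hval : ∀ i, δ' (x' i) = if i = j then (1 : B) else 0 := fun i => by
      refine (hδ' ⟨x' i, hx'S i⟩).trans ?_
      show d (ψ ⟨x' i, hx'S i⟩) ^ p = _
      rw [show ψ ⟨x' i, hx'S i⟩ = x i from huniq _ _ (by rw [hψ]; exact hx' i), hd]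
      split <;> simp [hp.ne_zero]
    have h2 := congrArg (δ'.liftKaehlerDifferential.liftBaseChange B) hg
    simpa [X, map_sum, hval, hj] using h2
  have hXker : Submodule.span B (Set.range X) ≤ LinearMap.ker u := by
    rw [Submodule.span_le]
    rintro _ ⟨i, rfl⟩
    exact hX i
  -- spanning
  have hall : Submodule.span B (Set.range X) ⊔ Submodule.span B (Set.range Y) = ⊤ := by
    let W := Submodule.span B (Set.range X) ⊔ Submodule.span B (Set.range Y)
    let T : Subring A :=
      { carrier := {a | (1 : B) ⊗ₜ[A] D ℤ A a ∈ W}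
        mul_mem' := fun {a b} ha hb => by
          show (1 : B) ⊗ₜ[A] D ℤ A (a * b) ∈ W
          rw [Derivation.leibniz, TensorProduct.tmul_add, TensorProduct.tmul_smul,
            TensorProduct.tmul_smul, ← algebraMap_smul B a, ← algebraMap_smul B b]
          exact add_mem (W.smul_mem _ hb) (W.smul_mem _ ha)
        one_mem' := by
          show (1 : B) ⊗ₜ[A] D ℤ A 1 ∈ W
          simp
        add_mem' := fun {a b} ha hb => by
          show (1 : B) ⊗ₜ[A] D ℤ A (a + b) ∈ W
          rw [map_add, TensorProduct.tmul_add]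
          exact add_mem ha hb
        zero_mem' := by
          show (1 : B) ⊗ₜ[A] D ℤ A 0 ∈ W
          simp
        neg_mem' := fun {a} ha => by
          show (1 : B) ⊗ₜ[A] D ℤ A (-a) ∈ W
          rw [map_neg, TensorProduct.tmul_neg]
          exact neg_mem ha }
    have hB : ∀ b : B, ∀ a : A, algebraMap A B a = b ^ p → a ∈ T := by
      intro b
      have hb : b ∈ Subring.closure ((pSub p A B : Set B) ∪ Set.range x) := by
        rw [(pGen_iff_closure p A x).1 hx.2]; trivial
      let T' : Subring B := (T.map (algebraMap A B)).comap (frobenius B p)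
      have hle : Subring.closure ((pSub p A B : Set B) ∪ Set.range x) ≤ T' := by
        rw [Subring.closure_le]
        rintro z (hz | ⟨i, rfl⟩)
        · rw [pSub_eq_range p A hpow] at hz
          obtain ⟨a, rfl⟩ := hz
          refine ⟨a ^ p, ?_, by simp [frobenius_def]⟩
          show (1 : B) ⊗ₜ[A] D ℤ A (a ^ p) ∈ W
          simp [derivation_pow_eq_zero (D ℤ A)]
        · exact ⟨x' i, Submodule.mem_sup_left (Submodule.subset_span ⟨i, rfl⟩), hx' i⟩
      intro a ha
      obtain ⟨a', ha', he⟩ := hle hb
      rw [hinj (ha.trans he.symm)]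
      exact ha'
    have hT : T = ⊤ := by
      refine eq_top_iff.2 (le_trans (ge_of_eq ((pGen_iff_closure p R y).1 hy.2)) ?_)
      rw [Subring.closure_le]
      rintro a (ha | ⟨m, rfl⟩)
      · exact hB (ψ ⟨a, ha⟩) a (hψ ⟨a, ha⟩).symm
      · exact Submodule.mem_sup_right (Submodule.subset_span ⟨m, rfl⟩)
    refine eq_top_iff.2 fun z hz => ?_
    clear hz
    induction z using TensorProduct.induction_on with
    | zero => exact zero_mem _
    | add _ _ h1 h2 => exact add_mem h1 h2
    | tmul c w =>
      have hw : w ∈ Submodule.span A (Set.range (D ℤ A)) := by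
        rw [KaehlerDifferential.span_range_derivation]; trivial
      induction hw using Submodule.span_induction generalizing c with
      | mem w hw =>
        obtain ⟨a, rfl⟩ := hw
        rw [show c ⊗ₜ[A] D ℤ A a = c • ((1 : B) ⊗ₜ[A] D ℤ A a) from by
          rw [TensorProduct.smul_tmul', smul_eq_mul, mul_one]]
        exact W.smul_mem c (show a ∈ T by rw [hT]; trivial)
      | zero => simp
      | add _ _ _ _ h1 h2 => rw [TensorProduct.tmul_add]; exact add_mem (h1 c) (h2 c)
      | smul a w _ h => rw [← TensorProduct.smul_tmul]; exact h _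
  have hker : LinearMap.ker u = Submodule.span B (Set.range X) := by
    refine le_antisymm (fun z hz => ?_) hXker
    obtain ⟨z1, hz1, z2, hz2, rfl⟩ := Submodule.mem_sup.1 (hall.ge (Submodule.mem_top (x := z)))
    obtain ⟨g, rfl⟩ := Finsupp.mem_span_range_iff_exists_finsupp.1 hz2
    rw [LinearMap.mem_ker, map_add, LinearMap.mem_ker.1 (hXker hz1), zero_add] at hz
    have hg : g = 0 := by
      refine Finsupp.ext fun m => ?_
      let ε0 : Derivation ℤ S B := 0
      obtain ⟨ε, hε, hεy⟩ := exists_derivation (A := S) (B := A) by' hby hyp ε0 (fun _ _ _ => rfl)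
        (fun n => if n = m then (1 : B) else 0)
      obtain ⟨ε', hε', -⟩ := exists_derivation (A := A) (B := B) bx hbx (fun i => hpow (x i)) ε
        (fun i a ha => by
          rw [hinj (ha.trans (hx' i).symm)]
          exact hε ⟨x' i, hx'S i⟩) 0
      have h2 := congrArg ε'.liftKaehlerDifferential hz
      simp [Finsupp.sum, map_sum, u, Y, hε', hεy] at h2
      simpa using h2
    rw [hg, Finsupp.sum_zero_index, add_zero]
    exact hz1
  refine ⟨(Module.Basis.span hXli).map (LinearEquiv.ofEq _ _ hker.symm), fun i => ?_⟩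
  exact congrArg Subtype.val (Module.Basis.span_apply hXli i)

end Groth.Agent.S4520
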