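import Groth.Statements.S4521
import Groth.Agent.EGA41Lib.Fields
-- import your own Groth.Agent.* helpers here

set_option autoImplicit false
universe u
open EGA41

namespace Groth.Agent.S4521

/-- Let k ⊆ K be fields of characteristic p > 0 and (x_α) a family of elements of K. Then (x_α) is
p-independent over k if and only if, for every α, x_α does not lie in the subfield generated over k
by K^p and the x_β with β ≠ α. -/
theorem result (p : ℕ) [Fact p.Prime] {k K : Type u} [Field k] [Field K]
    [Algebra k K] [CharP K p] {ι : Type u} (x : ι → K) :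
    EGA41.IsPIndependent p k x ↔
      ∀ a : ι, x a ∉ IntermediateField.adjoin k ((Set.range fun y : K => y ^ p) ∪ x '' {b | b ≠ a}) := by
  open Groth.Agent.EGA41Lib in
  rw [isPIndependent_iff, ind_iff_notMem (pow_mem_pSub p k)]
  refine forall_congr' fun a => not_congr ?_
  obtain ⟨T, hT⟩ : ∃ T : Set K, T = x '' {b : ι | b ≠ a} := ⟨_, rfl⟩
  rw [← hT]
  open Groth.Agent.EGA41Lib in
  have hF : ∀ y : K, y ^ p ∈ Subring.closure ((pSub p k K : Set K) ∪ T) :=
    fun y => Subring.subset_closure (Or.inl (pow_mem_pSub p k y))
  open Groth.Agent.EGA41Lib in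
  let L : IntermediateField k K :=
    { (Subring.closure ((pSub p k K : Set K) ∪ T)) with
      algebraMap_mem' := fun r => Subring.subset_closure (Or.inl (algebraMap_mem_pSub p k r))
      inv_mem' := fun (y : K) hy => inv_mem_of_pow hF hy }
  constructor
  · open Groth.Agent.EGA41Lib in
    intro h
    refine (Subring.closure_le (t := (IntermediateField.adjoin k ((Set.range fun y : K => y ^ p) ∪ T)).toSubfield.toSubring)).2
      (Set.union_subset (fun z hz => ?_) fun z hz => IntermediateField.subset_adjoin k _ (Or.inr hz)) h
    have : EGA41.pPowerSubalgebra p k K ≤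
        (IntermediateField.adjoin k ((Set.range fun y : K => y ^ p) ∪ T)).toSubalgebra :=
      Algebra.adjoin_le fun w hw => IntermediateField.subset_adjoin k _ (Or.inl hw)
    exact this hz
  · open Groth.Agent.EGA41Lib in
    intro h
    have : IntermediateField.adjoin k ((Set.range fun y : K => y ^ p) ∪ T) ≤ L :=
      IntermediateField.adjoin_le_iff.2 (Set.union_subset
        (by rintro _ ⟨y, rfl⟩; exact Subring.subset_closure (Or.inl (pow_mem_pSub p k y)))
        fun z hz => Subring.subset_closure (Or.inr hz))
    exact this h

end Groth.Agent.S4521
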