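import Groth.Statements.S4522
import Groth.Agent.EGA41Lib.FieldCrit
-- import your own Groth.Agent.* helpers here

set_option autoImplicit false
universe u
open EGA41

namespace Groth.Agent.S4522

/-- Let L be a field of characteristic p > 0 and K a subfield with L^p ⊆ K ⊆ L (here R → K → L with the
image of R in L the set of p-th powers and every p-th power of L in the image of K). Then the
canonical L-linear map L ⊗_K Ω_{K/L^p} → Ω_{L/L^p} is injective, so that 0 → Ω_{K/L^p} ⊗_K L →
Ω_{L/L^p} → Ω_{L/K} → 0 is exact: the imperfection module of L over K relative to L^p vanishes. -/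
theorem result (p : ℕ) [Fact p.Prime] {R K L : Type u} [Field R] [Field K] [Field L]
    [Algebra R K] [Algebra K L] [Algebra R L] [IsScalarTower R K L] [CharP L p]
    (hR : Set.range (algebraMap R L) = Set.range fun y : L => y ^ p)
    (hK : ∀ y : L, y ^ p ∈ Set.range (algebraMap K L)) :
    Function.Injective (KaehlerDifferential.mapBaseChange R K L) := by
  open Groth.Agent.EGA41Lib in
  have : CharP K p := ((algebraMap K L).charP_iff (RingHom.injective _) p).2 inferInstance
  open Groth.Agent.EGA41Lib in
  obtain ⟨S, hS⟩ := exists_isPBasis (p := p) (k := R) (K := K)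
  have hRK : ∀ c : K, c ^ p ∈ Set.range (algebraMap R K) := fun c => by
    obtain ⟨r, hr⟩ : algebraMap K L c ^ p ∈ Set.range (algebraMap R L) := by rw [hR]; exact ⟨_, rfl⟩
    exact ⟨r, (algebraMap K L).injective (by rw [← IsScalarTower.algebraMap_apply, hr, map_pow])⟩
  have hRL : ∀ y : L, y ^ p ∈ Set.range (algebraMap R L) := fun y => by rw [hR]; exact ⟨y, rfl⟩
  open Groth.Agent.EGA41Lib in
  have hL : PIndep p R (fun i : S => algebraMap K L (i : K)) := by
    have h := (ind_map_iff (RingHom.injective (algebraMap K L)) _ _).2 hS.1
    rw [pSub_eq_range p R hRK, RingHom.map_range, ← IsScalarTower.algebraMap_eq,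
      ← pSub_eq_range p R hRL] at h
    exact h
  open Groth.Agent.EGA41Lib in
  rw [PIndep, ← PIndep, isPIndependent_iff_linearIndependent] at hL
  open Groth.Agent.EGA41Lib in
  obtain ⟨b, hb⟩ := exists_basis_kaehler hS
  let b' := b.baseChange L
  have hb' : ∀ i, KaehlerDifferential.mapBaseChange R K L (b' i) =
      KaehlerDifferential.D R L (algebraMap K L i) := fun i => by
    rw [show b' i = (1 : L) ⊗ₜ b i from b.baseChange_apply L i, hb,
      KaehlerDifferential.mapBaseChange_tmul, one_smul, KaehlerDifferential.map_D]
  rw [← LinearMap.ker_eq_bot, Submodule.eq_bot_iff]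
  intro y hy
  have h2 : Finsupp.linearCombination L
      (fun i : S => KaehlerDifferential.D R L (algebraMap K L i)) (b'.repr y) = 0 := by
    rw [← LinearMap.mem_ker.1 hy]
    conv_rhs => rw [← b'.linearCombination_repr y, Finsupp.apply_linearCombination]
    exact congrArg (fun v => Finsupp.linearCombination L v (b'.repr y))
      (funext fun i => (hb' i).symm)
  simpa using linearIndependent_iff.1 hL _ h2

end Groth.Agent.S4522
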