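import Groth.Statements.S4524
import Groth.Agent.EGA41Lib.Separable
-- import your own Groth.Agent.* helpers here

set_option autoImplicit false
universe u
open EGA41

namespace Groth.Agent.S4524

/-- Let k be a field of characteristic 0 and K an extension of k. Then Ω_{K/k} = 0 if and only if K is
an algebraic extension of k. -/
theorem result {k K : Type u} [Field k] [CharZero k] [Field K] [Algebra k K] :
    Subsingleton (Ω[K⁄k]) ↔ Algebra.IsAlgebraic k K := by
  constructor
  · intro hΩ
    obtain ⟨s, hs⟩ := exists_isTranscendenceBasis k K
    rcases s.eq_empty_or_nonempty with rfl | ⟨a, ha⟩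
    · exact hs.isEmpty_iff_isAlgebraic.1 inferInstance
    · exfalso
      classical
      let σ : Type u := ↥s
      let P := MvPolynomial σ k
      let f : P →ₐ[k] K := MvPolynomial.aeval (Subtype.val : σ → K)
      let F := IntermediateField.adjoin k (Set.range (Subtype.val : σ → K))
      have : CharZero F := charZero_of_injective_algebraMap (R := k) (RingHom.injective _)
      have : Algebra.IsAlgebraic F K := hs.isAlgebraic_field
      have hFK : Algebra.FormallySmooth F K :=
        have := Algebra.FormallyEtale.of_isSeparable F K
        inferInstance
      have hinj : Function.Injective (KaehlerDifferential.mapBaseChange k F K) :=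
        Groth.Agent.EGA41Lib.injective_of_formallySmooth
      have hΩF : Subsingleton (TensorProduct F K (Ω[F⁄k])) := hinj.subsingleton
      let e := hs.1.aevalEquivField
      let φ : F →ₐ[k] FractionRing (MvPolynomial σ k) := e.symm.toAlgHom
      let x : F := e (algebraMap (MvPolynomial σ k) _ (MvPolynomial.X ⟨a, ha⟩))
      have hdx : KaehlerDifferential.D k F x = 0 := by
        have h1 : TensorProduct.mk F K (Ω[F⁄k]) 1 (KaehlerDifferential.D k F x) = 0 := Subsingleton.elim _ _
        have hi : Function.Injective (TensorProduct.mk F K (Ω[F⁄k]) 1) := by
          have h5 := Module.Flat.rTensor_preserves_injective_linearMap (M := Ω[F⁄k]) (Algebra.linearMap F K)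
            (algebraMap F K).injective
          intro a b hab
          apply (TensorProduct.lid F (Ω[F⁄k])).symm.injective
          apply h5
          simpa using hab
        exact hi (h1.trans (map_zero _).symm)
      let : Algebra F (FractionRing (MvPolynomial σ k)) := φ.toRingHom.toAlgebra
      have : IsScalarTower k F (FractionRing (MvPolynomial σ k)) :=
        IsScalarTower.of_algebraMap_eq fun r => (φ.commutes r).symm
      have h2 := congrArg (KaehlerDifferential.map k k F (FractionRing (MvPolynomial σ k))) hdx
      rw [map_zero, KaehlerDifferential.map_D] at h2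
      have h3 : algebraMap F (FractionRing (MvPolynomial σ k)) x =
          algebraMap (MvPolynomial σ k) _ (MvPolynomial.X ⟨a, ha⟩) := e.symm_apply_apply _
      rw [h3, ← KaehlerDifferential.map_D k k] at h2
      have := KaehlerDifferential.isLocalizedModule_map k (MvPolynomial σ k) (FractionRing (MvPolynomial σ k)) (nonZeroDivisors _)
      obtain ⟨m, hm⟩ := (IsLocalizedModule.eq_zero_iff (nonZeroDivisors (MvPolynomial σ k))
        (KaehlerDifferential.map k k (MvPolynomial σ k) (FractionRing (MvPolynomial σ k)))).1 h2
      have h4 := congrArg (fun y => (KaehlerDifferential.mvPolynomialBasis k σ).repr y ⟨a, ha⟩) hm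
      simp [Submonoid.smul_def, nonZeroDivisors.coe_ne_zero] at h4
  · intro h
    exact (Algebra.FormallyUnramified.of_isSeparable k K).subsingleton_kaehlerDifferential

end Groth.Agent.S4524
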