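import Groth.Statements.S5991
import Groth.Agent.AdicLim.Noetherian
import Mathlib.RingTheory.AdicCompletion.Exactness
import Mathlib.RingTheory.AdicCompletion.Completeness
import Mathlib.RingTheory.Kaehler.Basic
import Mathlib.RingTheory.Filtration
import Mathlib.LinearAlgebra.TensorProduct.Quotient

set_option autoImplicit false
universe u
open scoped TensorProduct
open EGA418

namespace Groth.Agent.S5991

open IsLocalRing in
/-- `Ω` is, modulo `m Ω`, generated by finitely many elements. -/
theorem exists_gen (k S : Type u) [Field k] [CommRing S] [IsNoetherianRing S] [IsLocalRing S] [Algebra k S]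
    [Module.Finite (ResidueField S) Ω[ResidueField S⁄k]] :
    ∃ U : Submodule S Ω[S⁄k], U.FG ∧ U ⊔ maximalIdeal S • ⊤ = ⊤ := by
  classical
  obtain ⟨t, ht⟩ := (IsNoetherian.noetherian (maximalIdeal S) : (maximalIdeal S).FG)
  have htop : Submodule.span (ResidueField S) (Set.range (KaehlerDifferential.D k (ResidueField S))) = ⊤ :=
    KaehlerDifferential.span_range_derivation k _
  obtain ⟨s, hs, hsp⟩ := (Submodule.fg_span_iff_fg_span_finset_subset _).mp
    (show (Submodule.span (ResidueField S) (Set.range (KaehlerDifferential.D k (ResidueField S)))).FG by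
      rw [htop]; exact Module.Finite.fg_top)
  rw [htop] at hsp
  choose lift hlift using fun e : ResidueField S => residue_surjective (R := S) e
  choose pre hpre using fun e : s => hs e.2
  let G : Finset S := Finset.univ.image (fun e : s => lift (pre e)) ∪ t
  let U := Submodule.span S (KaehlerDifferential.D k S '' (G : Set S))
  refine ⟨U, Submodule.fg_span (G.finite_toSet.image _), eq_top_iff.mpr fun x _ => ?_⟩
  let φ := KaehlerDifferential.map k k S (ResidueField S)
  have hm : ∀ a ∈ maximalIdeal S, KaehlerDifferential.D k S a ∈ U ⊔ maximalIdeal S • ⊤ := by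
    intro a ha
    have ha' : a ∈ Submodule.span S (t : Set S) := by rw [ht]; exact ha
    clear ha
    induction ha' using Submodule.span_induction with
    | mem x hx =>
      exact Submodule.mem_sup_left (Submodule.subset_span ⟨x, Finset.mem_union_right _ hx, rfl⟩)
    | zero => simp
    | add a b _ _ iha ihb => rw [map_add]; exact add_mem iha ihb
    | smul c y hy ih =>
      rw [smul_eq_mul, Derivation.leibniz]
      exact add_mem (Submodule.smul_mem _ _ ih) (Submodule.mem_sup_right (Submodule.smul_mem_smul (ht ▸ hy) trivial))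
  obtain ⟨u, hu, hux⟩ : ∃ u ∈ U, φ u = φ x := by
    have h1 : φ x ∈ (Submodule.span (ResidueField S) (s : Set Ω[ResidueField S⁄k])).restrictScalars S := by
      rw [Submodule.restrictScalars_mem, ← hsp]; trivial
    rw [Submodule.restrictScalars_span _ _ residue_surjective] at h1
    refine (show _ ≤ U.map φ from Submodule.span_le.mpr fun e he => ?_) h1
    refine ⟨KaehlerDifferential.D k S (lift (pre ⟨e, he⟩)),
      Submodule.subset_span ⟨_, Finset.mem_union_left _ (Finset.mem_image_of_mem _ (Finset.mem_univ _)), rfl⟩, ?_⟩
    rw [KaehlerDifferential.map_D]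
    exact (congrArg _ (hlift _)).trans (hpre ⟨e, he⟩)
  have h2 : ((1 : ResidueField S) ⊗ₜ[S] (x - u)) ∈
      LinearMap.ker (KaehlerDifferential.mapBaseChange k S (ResidueField S)) := by
    rw [LinearMap.mem_ker, KaehlerDifferential.mapBaseChange_tmul, one_smul, map_sub]
    change φ x - φ u = 0
    rw [hux, sub_self]
  obtain ⟨c, hc⟩ := (KaehlerDifferential.exact_kerCotangentToTensor_mapBaseChange k S (ResidueField S)
    residue_surjective _).mp h2
  obtain ⟨⟨a, ha⟩, rfl⟩ := Ideal.toCotangent_surjective _ c
  rw [KaehlerDifferential.kerCotangentToTensor_toCotangent] at hc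
  have h3 : x - u - KaehlerDifferential.D k S a ∈ (maximalIdeal S • ⊤ : Submodule S Ω[S⁄k]) := by
    have h4 : ((1 : S ⧸ maximalIdeal S) ⊗ₜ[S] (x - u - KaehlerDifferential.D k S a)) = 0 := by
      rw [TensorProduct.tmul_sub, sub_eq_zero]
      exact hc.symm
    have h5 := congrArg (TensorProduct.quotTensorEquivQuotSMul Ω[S⁄k] (maximalIdeal S)) h4
    rw [map_zero, show (1 : S ⧸ maximalIdeal S) = Ideal.Quotient.mk _ 1 from rfl,
      TensorProduct.quotTensorEquivQuotSMul_mk_tmul, one_smul, Submodule.Quotient.mk_eq_zero] at h5
    exact h5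
  have ha' : a ∈ maximalIdeal S := by
    have := RingHom.mem_ker.mp ha
    exact (residue_eq_zero_iff a).mp this
  rw [show x = u + KaehlerDifferential.D k S a + (x - u - KaehlerDifferential.D k S a) by abel]
  exact add_mem (add_mem (Submodule.mem_sup_left hu) (hm a ha')) (Submodule.mem_sup_right h3)
/-- Let k be a field, R and S complete Noetherian local k-algebras such that the module of differentials
of the residue field of S over k is finite-dimensional, and let S be a finite R-algebra through a
k-algebra homomorphism R → S. Write m for the maximal ideal of S and complete m-adically. Then the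
S-module Ω_{S/R} is m-adically complete (it is its own completion), and the sequence of completed
modules (S ⊗_R Ω_{R/k})^ ⟶ (Ω_{S/k})^ ⟶ (Ω_{S/R})^ ⟶ 0, induced by the canonical maps S ⊗_R Ω_{R/k}
⟶ Ω_{S/k} ⟶ Ω_{S/R}, is exact: the second map is surjective and its kernel is the image of the
first. -/
theorem result (k R S : Type u) [Field k] [CommRing R] [IsNoetherianRing R]
    [IsLocalRing R] [Algebra k R] [IsAdicComplete (IsLocalRing.maximalIdeal R) R]
    [CommRing S] [IsNoetherianRing S] [IsLocalRing S] [Algebra k S]
    [IsAdicComplete (IsLocalRing.maximalIdeal S) S] [Algebra R S] [IsScalarTower k R S]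
    [Module.Finite R S] [Module.Finite (IsLocalRing.ResidueField S) (Ω[IsLocalRing.ResidueField S⁄k])] :
    IsAdicComplete (IsLocalRing.maximalIdeal S) (Ω[S⁄R]) ∧
      Function.Surjective (AdicCompletion.map (IsLocalRing.maximalIdeal S) (KaehlerDifferential.map k R S S)) ∧
      LinearMap.range (AdicCompletion.map (IsLocalRing.maximalIdeal S) (KaehlerDifferential.mapBaseChange k R S)) =
        LinearMap.ker (AdicCompletion.map (IsLocalRing.maximalIdeal S) (KaehlerDifferential.map k R S S)) := by
  classical
  let m := IsLocalRing.maximalIdeal S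
  let M := Ω[S⁄k]
  have hΩfin : Module.Finite S Ω[S⁄R] := inferInstance
  obtain ⟨U, hU, hUtop⟩ := exists_gen k S
  have hfin : Module.Finite S (AdicCompletion m M) := by
    obtain ⟨r, z, hz⟩ := Submodule.fg_iff_exists_fin_generating_family.mp hU
    let f : (Fin r → S) →ₗ[S] M := Fintype.linearCombination S z
    have hs : Function.Surjective ((m • (⊤ : Submodule S M)).mkQ ∘ₗ f) := by
      rw [← LinearMap.range_eq_top, LinearMap.range_comp, Submodule.map_mkQ_eq_top, sup_comm,
        Fintype.range_linearCombination, hz, hUtop]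
    have hbig := AdicCompletion.map_surjective_of_mkQ_comp_surjective hs
    have := AdicLim.isAdicComplete_of_finite (I := m) (Fin r → S)
    refine Module.Finite.of_surjective ((AdicCompletion.of m M).comp f) fun z => ?_
    obtain ⟨x, rfl⟩ := hbig z
    obtain ⟨x, rfl⟩ := (AdicCompletion.ofLinearEquiv m (Fin r → S)).surjective x
    refine ⟨x, ?_⟩
    change AdicCompletion.of m M (f x) = AdicCompletion.map m f (AdicCompletion.of m _ x)
    rw [AdicCompletion.map_of]
  let g := KaehlerDifferential.map k R S S
  let f := KaehlerDifferential.mapBaseChange k R S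
  have hg : Function.Surjective g := KaehlerDifferential.map_surjective k R S
  have hex : Function.Exact f g := KaehlerDifferential.exact_mapBaseChange_map k R S
  refine ⟨AdicLim.isAdicComplete_of_finite (I := m) Ω[S⁄R], AdicCompletion.map_surjective m hg, ?_⟩
  refine le_antisymm ?_ fun ξ hξ => ?_
  · rintro _ ⟨x, rfl⟩
    rw [LinearMap.mem_ker, ← LinearMap.comp_apply, AdicCompletion.map_comp, hex.linearMap_comp_eq_zero]
    simp
  let W : Submodule S (AdicCompletion m M) := (LinearMap.range (AdicCompletion.map m f)).restrictScalars S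
  change ξ ∈ W
  rw [← Submodule.Quotient.mk_eq_zero, ← Submodule.mem_bot (R := S),
    ← Ideal.iInf_pow_smul_eq_bot_of_isLocalRing (M := AdicCompletion m M ⧸ W) m
      (IsLocalRing.maximalIdeal.isMaximal S).ne_top, Submodule.mem_iInf]
  intro n
  obtain ⟨y, hy⟩ := Submodule.Quotient.mk_surjective _ (AdicCompletion.eval m M n ξ)
  have h0 : g y ∈ (m ^ n • ⊤ : Submodule S Ω[S⁄R]) := by
    rw [← Submodule.Quotient.mk_eq_zero]
    have h := congrArg (AdicCompletion.eval m Ω[S⁄R] n) (LinearMap.mem_ker.mp hξ)
    rw [map_zero] at h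
    simp only [AdicCompletion.eval_apply, AdicCompletion.map_val_apply] at h
    simp only [AdicCompletion.eval_apply] at hy
    rw [← hy] at h
    exact h
  rw [← LinearMap.range_eq_top.mpr hg, ← Submodule.map_top, ← Submodule.map_smul''] at h0
  obtain ⟨r, hr, hrg⟩ := h0
  obtain ⟨w, hw⟩ := (hex (y - r)).mp (by rw [map_sub, hrg, sub_self])
  have hd : ξ - AdicCompletion.of m M (f w) ∈ (m ^ n • ⊤ : Submodule S (AdicCompletion m M)) := by
    rw [AdicCompletion.pow_smul_top_eq_ker_eval (IsNoetherian.noetherian m), LinearMap.mem_ker, map_sub, ← hy,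
      sub_eq_zero, AdicCompletion.eval_apply, AdicCompletion.of_apply, hw, Submodule.mkQ_apply, Submodule.Quotient.eq]
    rwa [sub_sub_cancel]
  have hW : AdicCompletion.of m M (f w) ∈ W := ⟨AdicCompletion.of m _ w, AdicCompletion.map_of _ _ _⟩
  have hq := Submodule.mem_map_of_mem (f := W.mkQ) hd
  rw [Submodule.map_smul'', Submodule.map_top, Submodule.range_mkQ, map_sub, Submodule.mkQ_apply,
    Submodule.mkQ_apply, (Submodule.Quotient.mk_eq_zero W).mpr hW, sub_zero] at hq
  exact hq
end Groth.Agent.S5991
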