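import Groth.Statements.S4528
import Groth.Agent.S5991

set_option autoImplicit false
universe u
open EGA41

namespace Groth.Agent.S4528

open IsLocalRing in
/-- Let k be a field (any characteristic) and A a complete Noetherian local k-algebra whose residue
field K is an extension of finite type of k. Then the completed module of differentials, i.e. the
𝔪-adic completion of Ω_{A/k}, is an A-module of finite type. -/
theorem result {k A : Type u} [Field k] [CommRing A] [IsLocalRing A]
    [IsNoetherianRing A] [IsAdicComplete (maximalIdeal A) A] [Algebra k A]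
    [Algebra.EssFiniteType k (ResidueField A)] :
    Module.Finite A (AdicCompletion (maximalIdeal A) (Ω[A⁄k])) := by
  classical
  let m := IsLocalRing.maximalIdeal A
  let M := Ω[A⁄k]
  obtain ⟨U, hU, hUtop⟩ := S5991.exists_gen k A
  obtain ⟨r, z, hz⟩ := Submodule.fg_iff_exists_fin_generating_family.mp hU
  let f : (Fin r → A) →ₗ[A] M := Fintype.linearCombination A z
  have hs : Function.Surjective ((m • (⊤ : Submodule A M)).mkQ ∘ₗ f) := by
    rw [← LinearMap.range_eq_top, LinearMap.range_comp, Submodule.map_mkQ_eq_top, sup_comm,
      Fintype.range_linearCombination, hz, hUtop]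
  have hbig := AdicCompletion.map_surjective_of_mkQ_comp_surjective hs
  have := AdicLim.isAdicComplete_of_finite (I := m) (Fin r → A)
  refine Module.Finite.of_surjective ((AdicCompletion.of m M).comp f) fun z => ?_
  obtain ⟨x, rfl⟩ := hbig z
  obtain ⟨x, rfl⟩ := (AdicCompletion.ofLinearEquiv m (Fin r → A)).surjective x
  refine ⟨x, ?_⟩
  change AdicCompletion.of m M (f x) = AdicCompletion.map m f (AdicCompletion.of m _ x)
  rw [AdicCompletion.map_of]

end Groth.Agent.S4528
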