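import Groth.Statements.S4530
import Mathlib.RingTheory.LocalRing.Module
import Mathlib.Algebra.Module.LocalizedModule.Basic
import Mathlib.RingTheory.LocalRing.ResidueField.Ideal
import Mathlib.RingTheory.Spectrum.Prime.Topology
import Mathlib.Algebra.Module.Projective

set_option autoImplicit false
universe u
open EGA41

namespace Groth.Agent.S4530

variable {A : Type u} [CommRing A] {M N : Type u} [AddCommGroup M] [Module A M] [AddCommGroup N] [Module A N]

open TensorProduct

theorem left_inverse_of_smul (u : M →ₗ[A] N) {f : A} {l : N →ₗ[A] M} (hl : ∀ m, l (u m) = f • m) (S : Submonoid A)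
    (hf : f ∈ S) : ∃ w : LocalizedModule S N →ₗ[A] LocalizedModule S M, w ∘ₗ LocalizedModule.map S u = LinearMap.id := by
  have h := IsLocalizedModule.map_units (S := S) (LocalizedModule.mkLinearMap S M) ⟨f, hf⟩
  rw [Module.End.isUnit_iff] at h
  refine ⟨(LinearEquiv.ofBijective _ h).symm.toLinearMap.comp ((LocalizedModule.map S l).restrictScalars A),
    LinearMap.ext fun x => ?_⟩
  induction x using LocalizedModule.induction_on with
  | _ m s =>
    show (LinearEquiv.ofBijective _ h).symm (LocalizedModule.map S l (LocalizedModule.map S u (LocalizedModule.mk m s))) = _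
    rw [LocalizedModule.map_mk, LocalizedModule.map_mk, hl, LinearEquiv.symm_apply_eq]
    show LocalizedModule.mk (f • m) s = (algebraMap A (Module.End A (LocalizedModule S M)) f) (LocalizedModule.mk m s)
    rw [Module.algebraMap_end_apply, LocalizedModule.smul'_mk]

theorem injective_of_left_inverse (u : M →ₗ[A] N) (P : Ideal A) [P.IsPrime] (S : Submonoid A) (hS : S ≤ P.primeCompl)
    (w : LocalizedModule S N →ₗ[A] LocalizedModule S M) (hw : w ∘ₗ LocalizedModule.map S u = LinearMap.id) :
    Function.Injective (u.lTensor P.ResidueField) := by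
  let κ := P.ResidueField
  have hu : ∀ s : S, IsUnit (algebraMap A (Module.End A (κ ⊗[A] M)) s) := fun s => by
    have hs : algebraMap A κ s ≠ 0 := fun h => hS s.2 (Ideal.algebraMap_residueField_eq_zero.mp h)
    rw [Module.End.isUnit_iff, show ⇑(algebraMap A (Module.End A (κ ⊗[A] M)) (s : A)) =
      fun z => algebraMap A κ s • z from funext fun z => by rw [Module.algebraMap_end_apply, algebraMap_smul]]
    exact (isUnit_iff_ne_zero.mpr hs).smul_bijective
  let back : LocalizedModule S M →ₗ[A] κ ⊗[A] M := LocalizedModule.lift S (TensorProduct.mk A κ M 1) hu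
  let Ψ : κ ⊗[A] N →ₗ[κ] κ ⊗[A] M := (back ∘ₗ w ∘ₗ LocalizedModule.mkLinearMap S N).liftBaseChange κ
  refine Function.LeftInverse.injective (g := Ψ) fun z => ?_
  induction z using TensorProduct.induction_on with
  | zero => simp
  | add a b ha hb => rw [map_add, map_add, ha, hb]
  | tmul c m =>
    have h1 : w (LocalizedModule.mk (u m) 1) = LocalizedModule.mk m 1 := by
      have h := LinearMap.congr_fun hw (LocalizedModule.mk m 1)
      simpa [LocalizedModule.map_mk] using h
    rw [LinearMap.lTensor_tmul, LinearMap.liftBaseChange_tmul]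
    show c • back (w (LocalizedModule.mk (u m) 1)) = c ⊗ₜ[A] m
    rw [h1, LocalizedModule.lift_mk_one, TensorProduct.mk_apply, TensorProduct.smul_tmul', smul_eq_mul, mul_one]

theorem exists_smul_left_inverse [Module.Finite A M] [Module.Projective A N] (u : M →ₗ[A] N) (P : Ideal A) [P.IsPrime]
    (h : Function.Injective (u.lTensor P.ResidueField)) :
    ∃ f : A, f ∉ P ∧ ∃ l : N →ₗ[A] M, ∀ m, l (u m) = f • m := by
  classical
  obtain ⟨i, hi⟩ := Module.projective_def'.mp (inferInstance : Module.Projective A N)
  obtain ⟨r, g, hg⟩ := Module.Finite.exists_fin (R := A) (M := M)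
  let F : Finset N := Finset.univ.biUnion fun j => (i (u (g j))).support
  let uF : M →ₗ[A] (F → A) := LinearMap.pi fun t => Finsupp.lapply (t : N) ∘ₗ i ∘ₗ u
  have hsupp : ∀ m t, t ∉ F → i (u m) t = 0 := fun m t ht => by
    induction hg.ge (Submodule.mem_top (x := m)) using Submodule.span_induction with
    | mem x hx =>
      obtain ⟨j, rfl⟩ := hx
      exact Finsupp.notMem_support_iff.mp fun h => ht (Finset.mem_biUnion.mpr ⟨j, Finset.mem_univ _, h⟩)
    | zero => simp
    | add x y _ _ hx hy => simp [map_add, hx, hy]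
    | smul a x _ hx => simp [map_smul, hx]
  let Ap := Localization.AtPrime P
  let Mp := LocalizedModule P.primeCompl M
  let κ := P.ResidueField
  let cF : (F → A) →ₗ[A] (F → Ap) := LinearMap.pi fun t => (Algebra.linearMap A Ap) ∘ₗ LinearMap.proj t
  have hu : ∀ s : P.primeCompl, IsUnit (algebraMap A (Module.End A (F → Ap)) s) := fun s => by
    rw [Module.End.isUnit_iff, show ⇑(algebraMap A (Module.End A (F → Ap)) (s : A)) =
      fun z => algebraMap A Ap s • z from funext fun z => by rw [Module.algebraMap_end_apply, algebraMap_smul]]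
    exact (IsLocalization.map_units Ap s).smul_bijective
  let up : Mp →ₗ[Ap] (F → Ap) :=
    (LocalizedModule.lift P.primeCompl (cF ∘ₗ uF) hu).extendScalarsOfIsLocalization P.primeCompl Ap
  have hup : ∀ m t, up (LocalizedModule.mk m 1) t = algebraMap A Ap (i (u m) t) := fun m t => by
    show LocalizedModule.lift P.primeCompl (cF ∘ₗ uF) hu (LocalizedModule.mk m 1) t = _
    rw [LocalizedModule.lift_mk_one]
    rfl
  have hinj : Function.Injective (up.lTensor (IsLocalRing.ResidueField Ap)) := by
    rw [injective_iff_map_eq_zero]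
    intro z hz
    obtain ⟨y, rfl⟩ := TensorProduct.mk_surjective Ap Mp (IsLocalRing.ResidueField Ap) IsLocalRing.residue_surjective z
    obtain ⟨⟨m, s⟩, hy⟩ := IsLocalizedModule.mk'_surjective P.primeCompl (LocalizedModule.mkLinearMap P.primeCompl M) y
    simp only [Function.uncurry] at hy
    have hms : algebraMap A Ap (s : A) • y = LocalizedModule.mk m 1 := by
      rw [algebraMap_smul, ← hy]
      exact IsLocalizedModule.mk'_cancel' _ m s
    have h1 : (1 : IsLocalRing.ResidueField Ap) ⊗ₜ[Ap] up (LocalizedModule.mk m 1) = 0 := by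
      rw [← hms, map_smul, TensorProduct.tmul_smul]
      rw [TensorProduct.mk_apply, LinearMap.lTensor_tmul] at hz
      rw [hz, smul_zero]
    have hcoord : ∀ t, i (u m) t ∈ P := fun t => by
      by_cases ht : t ∈ F
      · have h2 := congrArg ((TensorProduct.rid Ap (IsLocalRing.ResidueField Ap)).toLinearMap ∘ₗ
          (LinearMap.proj (R := Ap) (φ := fun _ : F => Ap) ⟨t, ht⟩).lTensor (IsLocalRing.ResidueField Ap)) h1
        rw [map_zero, LinearMap.comp_apply, LinearMap.lTensor_tmul, LinearEquiv.coe_coe, TensorProduct.rid_tmul,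
          LinearMap.proj_apply, hup, ← Algebra.algebraMap_eq_smul_one] at h2
        exact Ideal.algebraMap_residueField_eq_zero.mp
          ((IsScalarTower.algebraMap_apply A Ap κ (i (u m) t)).trans h2)
      · rw [hsupp m t ht]
        exact P.zero_mem
    have h3 : (1 : κ) ⊗ₜ[A] m = 0 := by
      refine h ?_
      rw [map_zero, LinearMap.lTensor_tmul, ← show Finsupp.linearCombination A id (i (u m)) = u m from
        LinearMap.congr_fun hi (u m), Finsupp.linearCombination_apply, Finsupp.sum, TensorProduct.tmul_sum]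
      refine Finset.sum_eq_zero fun t _ => ?_
      rw [TensorProduct.tmul_smul, ← algebraMap_smul κ, Ideal.algebraMap_residueField_eq_zero.mpr (hcoord t), zero_smul]
    have h4 : (1 : IsLocalRing.ResidueField Ap) ⊗ₜ[Ap] (LocalizedModule.mk m 1 : Mp) = 0 := by
      let nat : κ ⊗[A] M →ₗ[A] (IsLocalRing.ResidueField Ap) ⊗[Ap] Mp :=
        TensorProduct.lift (LinearMap.mk₂ A (fun c m => c ⊗ₜ[Ap] (LocalizedModule.mkLinearMap P.primeCompl M m))
          (fun a b m => TensorProduct.add_tmul a b _) (fun a c m => (TensorProduct.smul_tmul' a c _).symm)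
          (fun c a b => by rw [map_add, TensorProduct.tmul_add])
          (fun a c m => by rw [map_smul, TensorProduct.tmul_smul]))
      have := congrArg nat h3
      rw [map_zero] at this
      exact this
    rw [← hms, TensorProduct.tmul_smul] at h4
    exact ((IsLocalization.map_units Ap s).smul_eq_zero).mp h4
  obtain ⟨l', hl'⟩ := (IsLocalRing.split_injective_iff_lTensor_residueField_injective up).mpr hinj
  -- clear denominators
  choose x hx using fun t : F => IsLocalizedModule.mk'_surjective P.primeCompl
    (LocalizedModule.mkLinearMap P.primeCompl M) (l' (Pi.single t 1))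
  let s₀ : A := ∏ t : F, ((x t).2 : A)
  have hdvd : ∀ t, ((x t).2 : A) ∣ s₀ := fun t => Finset.dvd_prod_of_mem (fun t => ((x t).2 : A)) (Finset.mem_univ t)
  choose e he using hdvd
  let l₀ : (F → A) →ₗ[A] M := ∑ t : F, (LinearMap.proj t).smulRight (e t • (x t).1)
  have hl₀ : ∀ z, LocalizedModule.mkLinearMap P.primeCompl M (l₀ z) = s₀ • l' (cF z) := fun z => by
    rw [show cF z = ∑ t, algebraMap A Ap (z t) • Pi.single t (1 : Ap) by
      conv_lhs => rw [← Finset.univ_sum_single (cF z)]
      refine Finset.sum_congr rfl fun t _ => ?_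
      rw [← Pi.single_smul, smul_eq_mul, mul_one]
      rfl, map_sum, Finset.smul_sum, LinearMap.sum_apply, map_sum]
    refine Finset.sum_congr rfl fun t _ => ?_
    rw [LinearMap.smulRight_apply, LinearMap.proj_apply, map_smul, map_smul, map_smul, algebraMap_smul, ← hx t,
      smul_comm, Function.uncurry, ← IsLocalizedModule.mk'_cancel' (f := LocalizedModule.mkLinearMap P.primeCompl M) (x t).1 (x t).2,
      Submonoid.smul_def, smul_smul, smul_smul, smul_smul, he t]
    congr 1
    ring
  have hgen : ∀ j, ∃ c : P.primeCompl, (c : A) • l₀ (uF (g j)) = (c : A) • (s₀ • g j) := fun j => by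
    apply IsLocalizedModule.exists_of_eq (S := P.primeCompl) (f := LocalizedModule.mkLinearMap P.primeCompl M)
    rw [hl₀, map_smul]
    congr 1
    have h2 := LinearMap.congr_fun hl' (LocalizedModule.mk (g j) 1)
    rw [LinearMap.comp_apply, LinearMap.id_apply] at h2
    refine (congrArg l' ?_).trans h2
    funext t
    rw [hup]
    rfl
  choose c hc using hgen
  let c₀ : A := ∏ j, (c j : A)
  refine ⟨c₀ * s₀, fun hmem => (Ideal.IsPrime.mem_or_mem ‹_› hmem).elim
      (P.primeCompl.prod_mem fun j _ => (c j).2) (P.primeCompl.prod_mem fun t _ => (x t).2.2),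
    c₀ • (l₀ ∘ₗ (LinearMap.pi fun t : F => Finsupp.lapply (t : N) ∘ₗ i)), fun m => ?_⟩
  show c₀ • l₀ (uF m) = (c₀ * s₀) • m
  rw [mul_smul]
  induction hg.ge (Submodule.mem_top (x := m)) using Submodule.span_induction with
  | mem y hy =>
    obtain ⟨j, rfl⟩ := hy
    obtain ⟨d, hd⟩ : (c j : A) ∣ c₀ := Finset.dvd_prod_of_mem (fun j => (c j : A)) (Finset.mem_univ j)
    rw [hd, mul_comm, mul_smul, mul_smul, hc]
  | zero => simp
  | add a b _ _ ha hb => simp only [map_add, smul_add, ha, hb]
  | smul a b _ hb => rw [map_smul, map_smul, smul_comm c₀ a, hb, smul_comm s₀ a, smul_comm c₀ a]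

open TensorProduct in
/-- Let A be a ring, M an A-module of finite type, N a projective A-module, u : M → N a homomorphism.
For a prime ideal 𝔭 the following are equivalent: (a) u_𝔭 : M_𝔭 → N_𝔭 is left invertible; (b) u ⊗ 1
: M ⊗ k(𝔭) → N ⊗ k(𝔭) is injective; (d) there is f ∉ 𝔭 with u_f : M_f → N_f left invertible.
Moreover the set of such 𝔭 is open in Spec A. (The published statement also has a determinant
criterion (c); this row omits it.) -/
theorem result {A : Type u} [CommRing A] {M N : Type u} [AddCommGroup M] [Module A M]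
    [Module.Finite A M] [AddCommGroup N] [Module A N] [Module.Projective A N] (u : M →ₗ[A] N) :
    (∀ p : PrimeSpectrum A,
      [∃ w : LocalizedModule p.asIdeal.primeCompl N →ₗ[A] LocalizedModule p.asIdeal.primeCompl M,
          w ∘ₗ LocalizedModule.map p.asIdeal.primeCompl u = LinearMap.id,
       Function.Injective (u.lTensor p.asIdeal.ResidueField),
       ∃ f : A, f ∉ p.asIdeal ∧
          ∃ w : LocalizedModule (Submonoid.powers f) N →ₗ[A] LocalizedModule (Submonoid.powers f) M,
            w ∘ₗ LocalizedModule.map (Submonoid.powers f) u = LinearMap.id].TFAE) ∧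
    IsOpen {p : PrimeSpectrum A |
      ∃ w : LocalizedModule p.asIdeal.primeCompl N →ₗ[A] LocalizedModule p.asIdeal.primeCompl M,
        w ∘ₗ LocalizedModule.map p.asIdeal.primeCompl u = LinearMap.id} := by
  have hba : ∀ p : PrimeSpectrum A, Function.Injective (u.lTensor p.asIdeal.ResidueField) →
      ∃ w : LocalizedModule p.asIdeal.primeCompl N →ₗ[A] LocalizedModule p.asIdeal.primeCompl M,
        w ∘ₗ LocalizedModule.map p.asIdeal.primeCompl u = LinearMap.id := fun p h => by
    obtain ⟨f, hf, l, hl⟩ := exists_smul_left_inverse u p.asIdeal h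
    exact left_inverse_of_smul u hl _ hf
  refine ⟨fun p => ?_, isOpen_iff_forall_mem_open.mpr fun p ⟨w, hw⟩ => ?_⟩
  · tfae_have 1 → 2 := fun ⟨w, hw⟩ => injective_of_left_inverse u p.asIdeal _ le_rfl w hw
    tfae_have 2 → 3 := fun h => by
      obtain ⟨f, hf, l, hl⟩ := exists_smul_left_inverse u p.asIdeal h
      exact ⟨f, hf, left_inverse_of_smul u hl _ (Submonoid.mem_powers f)⟩
    tfae_have 3 → 1 := fun ⟨f, hf, w, hw⟩ => hba p
      (injective_of_left_inverse u p.asIdeal _ (Submonoid.powers_le.mpr (show f ∈ p.asIdeal.primeCompl from hf)) w hw)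
    tfae_finish
  · obtain ⟨f, hf, l, hl⟩ := exists_smul_left_inverse u p.asIdeal (injective_of_left_inverse u p.asIdeal _ le_rfl w hw)
    exact ⟨PrimeSpectrum.basicOpen f, fun q hq => left_inverse_of_smul u hl _ hq, PrimeSpectrum.isOpen_basicOpen, hf⟩

end Groth.Agent.S4530
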