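import Groth.Statements.S4531
import Mathlib.RingTheory.Flat.Localization
import Mathlib.RingTheory.Flat.EquationalCriterion
import Mathlib.RingTheory.Flat.FaithfullyFlat.Basic
import Mathlib.RingTheory.Localization.BaseChange
import Mathlib.RingTheory.LocalProperties.Exactness
import Mathlib.RingTheory.Flat.Stability
import Mathlib.Algebra.Module.FinitePresentation
set_option linter.unusedVariables false
open scoped TensorProduct
set_option linter.style.haveILetI false
set_option backward.isDefEq.respectTransparency false

set_option autoImplicit false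
universe u
open EGA41

namespace Groth.Agent.S4531

open TensorProduct in

lemma flat_coker {A : Type u} [CommRing A] {M L : Type u} [AddCommGroup M] [Module A M]
    [AddCommGroup L] [Module A L] [Module.Free A L] (j : M →ₗ[A] L) (A' : Type u) [CommRing A'] [Algebra A A']
    (h : ∃ w : A' ⊗[A] L →ₗ[A'] A' ⊗[A] M, w ∘ₗ j.baseChange A' = LinearMap.id) :
    Module.Flat A' (A' ⊗[A] (L ⧸ LinearMap.range j)) := by
  obtain ⟨w, hw⟩ := h
  let p := (LinearMap.range j).mkQ.baseChange A'
  have hp : Function.Surjective p :=
    LinearMap.lTensor_surjective A' (Submodule.mkQ_surjective _)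
  have hex : Function.Exact (j.baseChange A') p :=
    lTensor_exact A' (LinearMap.exact_iff.2 (Submodule.ker_mkQ _)) (Submodule.mkQ_surjective _)
  let φ : A' ⊗[A] L →ₗ[A'] A' ⊗[A] L := LinearMap.id - (j.baseChange A') ∘ₗ w
  have hφ : LinearMap.ker p ≤ LinearMap.ker φ := by
    intro x hx
    obtain ⟨y, rfl⟩ := (hex x).1 hx
    have := LinearMap.congr_fun hw y
    simp only [LinearMap.comp_apply, LinearMap.id_apply] at this
    simp [φ, this]
  let s := (LinearMap.ker p).liftQ φ hφ ∘ₗ (p.quotKerEquivOfSurjective hp).symm.toLinearMap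
  haveI : Module.Projective A' (A' ⊗[A] (L ⧸ LinearMap.range j)) :=
    Module.Projective.of_split s p (LinearMap.ext fun y => by
      obtain ⟨x, rfl⟩ := hp y
      have : (p.quotKerEquivOfSurjective hp).symm (p x) = Submodule.Quotient.mk x := by
        rw [LinearEquiv.symm_apply_eq]; rfl
      change p ((LinearMap.ker p).liftQ φ hφ ((p.quotKerEquivOfSurjective hp).symm (p x))) = p x
      rw [this, Submodule.liftQ_apply]
      simp [φ, hex.apply_apply_eq_zero])
  infer_instance

lemma exists_retraction {A : Type u} [CommRing A] {M L : Type u} [AddCommGroup M] [Module A M] [Module.Finite A M]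
    [AddCommGroup L] [Module A L] [Module.Free A L] [Module.Finite A L] (j : M →ₗ[A] L) (hj : Function.Injective j)
    [Module.Flat A (L ⧸ LinearMap.range j)] : ∃ r : L →ₗ[A] M, r ∘ₗ j = LinearMap.id := by
  haveI : Module.FinitePresentation A L := Module.finitePresentation_of_projective A L
  haveI : Module.FinitePresentation A (L ⧸ LinearMap.range j) :=
    Module.finitePresentation_of_surjective (LinearMap.range j).mkQ (Submodule.mkQ_surjective _)
      (by rw [Submodule.ker_mkQ, LinearMap.range_eq_map]; exact (Module.Finite.fg_top).map j)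
  haveI : Module.Projective A (L ⧸ LinearMap.range j) := Module.Flat.projective_of_finitePresentation
  obtain ⟨s, hs⟩ := Module.projective_lifting_property (LinearMap.range j).mkQ LinearMap.id (Submodule.mkQ_surjective _)
  let φ : L →ₗ[A] LinearMap.range j := (LinearMap.id - s ∘ₗ (LinearMap.range j).mkQ).codRestrict _ (fun x => by
    refine (Submodule.Quotient.mk_eq_zero _).1 ?_
    change (LinearMap.range j).mkQ (x - s ((LinearMap.range j).mkQ x)) = 0
    rw [map_sub, sub_eq_zero]
    exact (LinearMap.congr_fun hs _).symm)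
  refine ⟨(LinearEquiv.ofInjective j hj).symm.toLinearMap ∘ₗ φ, LinearMap.ext fun x => ?_⟩
  change (LinearEquiv.ofInjective j hj).symm (φ (j x)) = x
  rw [LinearEquiv.symm_apply_eq]
  apply Subtype.ext
  change j x - s ((LinearMap.range j).mkQ (j x)) = j x
  rw [Submodule.mkQ_apply, (Submodule.Quotient.mk_eq_zero _).2 (LinearMap.mem_range_self j x), map_zero, sub_zero]

/-- Reduction of a map into a projective module to a map into a finite free one. -/
lemma exists_reduction {A : Type u} [CommRing A] {M N : Type u} [AddCommGroup M] [Module A M]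
    [Module.Finite A M] [AddCommGroup N] [Module A N] [Module.Projective A N] (u : M →ₗ[A] N) :
    ∃ (T : Finset N) (j : M →ₗ[A] (T → A)) (k : (T → A) →ₗ[A] N) (q : N →ₗ[A] (T → A)),
      k ∘ₗ j = u ∧ q ∘ₗ u = j := by
  classical
  obtain ⟨s, hs⟩ := Module.Projective.out (R := A) (P := N)
  obtain ⟨G, hG⟩ := (Module.Finite.fg_top : (⊤ : Submodule A M).FG)
  let T : Finset N := G.biUnion fun m => (s (u m)).support
  let q : N →ₗ[A] (T → A) := LinearMap.pi fun t => (Finsupp.lapply (t : N)) ∘ₗ s
  let k : (T → A) →ₗ[A] N := Fintype.linearCombination A (fun t : T => (t : N))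
  refine ⟨T, q ∘ₗ u, k, q, ?_, rfl⟩
  refine LinearMap.ext_on hG fun m hm => ?_
  conv_rhs => rw [← hs (u m)]
  change Fintype.linearCombination A (fun t : T => (t : N)) (fun t : T => s (u m) t) = Finsupp.linearCombination A id (s (u m))
  rw [Fintype.linearCombination_apply, Finsupp.linearCombination_apply,
    Finset.sum_coe_sort T (fun t => (s (u m) t) • t)]
  exact (Finsupp.sum_of_support_subset (s (u m)) (Finset.subset_biUnion_of_mem (fun m => (s (u m)).support) hm) (fun t a => a • t) (fun t _ => zero_smul A t)).symm

/-- Let A be a ring, M an A-module of finite type, N a projective A-module and u : M → N a homomorphism.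
(i) u is left invertible if and only if u_𝔪 : M_𝔪 → N_𝔪 is left invertible for every maximal ideal 𝔪
of A. (ii) If A' is an A-algebra which is a faithfully flat A-module, u is left invertible if and
only if u ⊗ 1 : M ⊗_A A' → N ⊗_A A' is left invertible (as an A'-linear map). -/
theorem result {A : Type u} [CommRing A] {M N : Type u} [AddCommGroup M] [Module A M]
    [Module.Finite A M] [AddCommGroup N] [Module A N] [Module.Projective A N] (u : M →ₗ[A] N) :
    ((∃ w : N →ₗ[A] M, w ∘ₗ u = LinearMap.id) ↔
      ∀ (m : Ideal A) [m.IsMaximal],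
        ∃ w : LocalizedModule m.primeCompl N →ₗ[A] LocalizedModule m.primeCompl M,
          w ∘ₗ LocalizedModule.map m.primeCompl u = LinearMap.id) ∧
    ∀ (A' : Type u) [CommRing A'] [Algebra A A'] [Module.FaithfullyFlat A A'],
      (∃ w : N →ₗ[A] M, w ∘ₗ u = LinearMap.id) ↔
        ∃ w : A' ⊗[A] N →ₗ[A'] A' ⊗[A] M, w ∘ₗ u.baseChange A' = LinearMap.id := by
  classical
  obtain ⟨T, j, k, q, hkj, hqu⟩ := exists_reduction u
  have key : Function.Injective u → Module.Flat A ((T → A) ⧸ LinearMap.range j) → ∃ w : N →ₗ[A] M, w ∘ₗ u = LinearMap.id := by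
    intro hu _
    obtain ⟨r, hr⟩ := exists_retraction j (fun a b h => hu (by rw [← hkj]; exact congrArg k h))
    exact ⟨r ∘ₗ q, by rw [LinearMap.comp_assoc, hqu, hr]⟩
  have base : ∀ (A' : Type u) [CommRing A'] [Algebra A A'],
      (∃ w : A' ⊗[A] N →ₗ[A'] A' ⊗[A] M, w ∘ₗ u.baseChange A' = LinearMap.id) →
        Module.Flat A' (A' ⊗[A] ((T → A) ⧸ LinearMap.range j)) ∧ Function.Injective (u.baseChange A') := by
    rintro A' _ _ ⟨w, hw⟩
    refine ⟨flat_coker j A' ⟨w ∘ₗ k.baseChange A', ?_⟩, Function.LeftInverse.injective (g := w) (LinearMap.congr_fun hw)⟩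
    rw [LinearMap.comp_assoc, ← LinearMap.baseChange_comp, hkj, hw]
  refine ⟨⟨?_, fun h => ?_⟩, fun A' _ _ _ => ⟨?_, fun h => ?_⟩⟩
  · rintro ⟨w, hw⟩ m hm
    refine ⟨(LocalizedModule.map m.primeCompl w).restrictScalars A, LinearMap.ext fun x => ?_⟩
    induction x using LocalizedModule.induction_on with
    | _ a b =>
      simp only [LinearMap.comp_apply, LinearMap.restrictScalars_apply, LocalizedModule.map_mk, LinearMap.id_apply]
      rw [show w (u a) = a from LinearMap.congr_fun hw a]
  · have hloc : ∀ (m : Ideal A) [m.IsMaximal], Function.Injective (LocalizedModule.map m.primeCompl u) ∧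
        Module.Flat A (LocalizedModule m.primeCompl ((T → A) ⧸ LinearMap.range j)) := by
      intro m hm
      obtain ⟨w, hw⟩ := h m
      refine ⟨Function.LeftInverse.injective (g := w) (LinearMap.congr_fun hw), ?_⟩
      let eM := LocalizedModule.equivTensorProduct m.primeCompl M
      let eN := LocalizedModule.equivTensorProduct m.primeCompl N
      let w' : LocalizedModule m.primeCompl N →ₗ[Localization m.primeCompl] LocalizedModule m.primeCompl M :=
        w.extendScalarsOfIsLocalization m.primeCompl (Localization m.primeCompl)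
      have hsq : ∀ a : M, eN.symm ((u.baseChange (Localization m.primeCompl)) (1 ⊗ₜ a)) =
          LocalizedModule.map m.primeCompl u (eM.symm (1 ⊗ₜ a)) := by
        intro a
        simp only [eM, eN, LinearMap.baseChange_tmul, ← Localization.mk_one,
          LocalizedModule.equivTensorProduct_symm_apply_tmul, one_smul]
        rw [LocalizedModule.map_mk]
      have hsplit : ∃ w'' : Localization m.primeCompl ⊗[A] N →ₗ[Localization m.primeCompl] Localization m.primeCompl ⊗[A] M,
          w'' ∘ₗ u.baseChange (Localization m.primeCompl) = LinearMap.id := by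
        refine ⟨eM.toLinearMap ∘ₗ w' ∘ₗ eN.symm.toLinearMap, ?_⟩
        ext a
        change eM (w (eN.symm ((u.baseChange (Localization m.primeCompl)) (1 ⊗ₜ a)))) = 1 ⊗ₜ a
        rw [hsq, show w (LocalizedModule.map m.primeCompl u (eM.symm (1 ⊗ₜ a))) = eM.symm (1 ⊗ₜ a) from LinearMap.congr_fun hw _,
          LinearEquiv.apply_symm_apply]
      haveI := (base (Localization m.primeCompl) hsplit).1
      haveI : Module.Flat A (Localization m.primeCompl) := IsLocalization.flat _ m.primeCompl
      haveI := Module.Flat.trans A (Localization m.primeCompl) (Localization m.primeCompl ⊗[A] ((T → A) ⧸ LinearMap.range j))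
      exact Module.Flat.of_linearEquiv ((LocalizedModule.equivTensorProduct m.primeCompl ((T → A) ⧸ LinearMap.range j)).restrictScalars A)
    exact key (injective_of_localized_maximal u fun m _ => (hloc m).1) (Module.flat_of_localized_maximal _ fun m _ => (hloc m).2)
  · rintro ⟨w, hw⟩
    exact ⟨w.baseChange A', by rw [← LinearMap.baseChange_comp, hw, LinearMap.baseChange_id]⟩
  · obtain ⟨hfl, hinj⟩ := base A' h
    refine key ((Module.FaithfullyFlat.lTensor_injective_iff_injective A A' u).1 hinj) ?_
    rw [Module.Flat.iff_lTensor_preserves_injective_linearMap]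
    intro P P' _ _ _ _ f hf
    apply (Module.FaithfullyFlat.lTensor_injective_iff_injective A A' _).1
    haveI := Module.Flat.trans A A' (A' ⊗[A] ((T → A) ⧸ LinearMap.range j))
    have h1 := Module.Flat.lTensor_preserves_injective_linearMap (M := A' ⊗[A] ((T → A) ⧸ LinearMap.range j)) f hf
    have e : (f.lTensor ((T → A) ⧸ LinearMap.range j)).lTensor A' =
        (TensorProduct.assoc A A' ((T → A) ⧸ LinearMap.range j) P').toLinearMap ∘ₗ
          (f.lTensor (A' ⊗[A] ((T → A) ⧸ LinearMap.range j))) ∘ₗ
          (TensorProduct.assoc A A' ((T → A) ⧸ LinearMap.range j) P).symm.toLinearMap := by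
      ext a b c; simp
    rw [e]
    simp only [LinearMap.coe_comp, LinearEquiv.coe_coe]
    exact (LinearEquiv.injective _).comp (h1.comp (LinearEquiv.injective _))

end Groth.Agent.S4531
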