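import Groth.Statements.S4533
import Groth.Agent.PP16Lib.AdicTopLift
import Groth.Agent.CohenStruct.PowerSeries
import Groth.Agent.CTensorRed.PowerSeries
import Groth.Agent.CTensorRed.Main

set_option autoImplicit false
universe u
open EGA41

namespace Groth.Agent.S4533

/-- Let A carry the 𝔞-adic topology and let B = A[[T_1, …, T_n]] carry the product topology, i.e. the
adic topology of the ideal 𝔞B + (T_1, …, T_n) (the kernel of the constant-coefficient map added to
the extension of 𝔞). Then B is a formally smooth A-algebra for these topologies. (The published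
statement allows any linearly topologized base ring and any set of indeterminates with the product
topology; this row takes an adic base and finitely many indeterminates, where the product topology
is adic.) -/
theorem result (A : Type u) [CommRing A] (𝔞 : Ideal A) (n : ℕ) :
    EGA41.IsFormallySmoothAdic A 𝔞 (MvPowerSeries (Fin n) A)
      (𝔞.map (MvPowerSeries.C : A →+* MvPowerSeries (Fin n) A) ⊔
        RingHom.ker (MvPowerSeries.constantCoeff : MvPowerSeries (Fin n) A →+* A)) := by
  intro E _ _ J hJ _ u hu
  obtain ⟨k, hk⟩ := hu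
  obtain ⟨m, hm⟩ := hJ
  choose t ht using fun i => Ideal.Quotient.mk_surjective (u (MvPowerSeries.X i))
  let I : Ideal E := Ideal.span (Set.range t)
  have htI : ∀ i, t i ∈ I := fun i => Ideal.subset_span ⟨i, rfl⟩
  have hIN : (I.map (Ideal.Quotient.mk J)) ^ k = ⊥ := by
    have h1 : I.map (Ideal.Quotient.mk J) ≤
        (RingHom.ker (MvPowerSeries.constantCoeff : MvPowerSeries (Fin n) A →+* A)).map u.toRingHom := by
      rw [Ideal.map_span, Ideal.span_le]
      rintro _ ⟨_, ⟨i, rfl⟩, rfl⟩
      rw [SetLike.mem_coe, ht]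
      exact Ideal.mem_map_of_mem u.toRingHom (RingHom.mem_ker.mpr (MvPowerSeries.constantCoeff_X i))
    refine le_bot_iff.mp ((Ideal.pow_right_mono h1 k).trans ?_)
    rw [← Ideal.map_pow, Ideal.map_le_iff_le_comap]
    exact fun x hx => hk x (Ideal.pow_right_mono le_sup_right k hx)
  have hI : I ^ (k * m) = ⊥ := by
    have h1 : I ^ k ≤ J := by
      rw [← Ideal.map_pow, Ideal.map_eq_bot_iff_le_ker, Ideal.mk_ker] at hIN
      exact hIN
    rw [pow_mul]
    exact le_bot_iff.mp ((Ideal.pow_right_mono h1 m).trans hm.le)
  have : IsAdicComplete I E := CTensorRed.isAdicComplete_of_pow_eq_bot _ hI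
  have : IsAdicComplete (I.map (Ideal.Quotient.mk J)) (E ⧸ J) := CTensorRed.isAdicComplete_of_pow_eq_bot _ hIN
  let χ : MvPowerSeries (Fin n) A →+* E := CohenStruct.evalPS I (algebraMap A E) t htI
  have hχC : ∀ c, χ (MvPowerSeries.C c) = algebraMap A E c := CohenStruct.evalPS_C I _ t htI
  have hχX : ∀ i, χ (MvPowerSeries.X i) = t i := CohenStruct.evalPS_X I _ t htI
  have hlift : (Ideal.Quotient.mk J).comp χ = u.toRingHom := by
    refine CTensorRed.ringHom_ext (I.map (Ideal.Quotient.mk J)) _ _ (fun c => ?_) (fun i => ?_) fun i => ?_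
    · rw [RingHom.comp_apply, hχC]
      exact ((u.commutes c).trans rfl).symm
    · rw [RingHom.comp_apply, hχX]
      exact ht i
    · rw [RingHom.comp_apply, hχX]
      exact Ideal.mem_map_of_mem _ (htI i)
  exact ⟨{ χ with commutes' := fun a => hχC a }, AlgHom.ext (RingHom.congr_fun hlift)⟩

end Groth.Agent.S4533
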