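import Groth.Statements.S4534
import Groth.Agent.PP16Lib.AdicTopLift
import Groth.Agent.CohenStruct.PowerSeries
import Groth.Agent.CTensorRed.PowerSeries
import Groth.Agent.CTensorRed.Main

set_option autoImplicit false
universe u
open EGA41

namespace Groth.Agent.S4534

/-- Let A → B → C be continuous homomorphisms of adic rings (A with the 𝔞-adic, B the 𝔟-adic, C the
𝔠-adic topology; continuity: a power of 𝔞 maps into 𝔟 and a power of 𝔟 into 𝔠). If B is formally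
smooth over A and C formally smooth over B, then C is formally smooth over A. -/
theorem result {A B C : Type u} [CommRing A] [CommRing B] [CommRing C] [Algebra A B] [Algebra B C]
    [Algebra A C] [IsScalarTower A B C] (𝔞 : Ideal A) (𝔟 : Ideal B) (𝔠 : Ideal C)
    (hAB : ∃ k : ℕ, (𝔞 ^ k).map (algebraMap A B) ≤ 𝔟) (hBC : ∃ k : ℕ, (𝔟 ^ k).map (algebraMap B C) ≤ 𝔠)
    (hB : EGA41.IsFormallySmoothAdic A 𝔞 B 𝔟) (hC : EGA41.IsFormallySmoothAdic B 𝔟 C 𝔠) :
    EGA41.IsFormallySmoothAdic A 𝔞 C 𝔠 := by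
  intro E _ _ J hJ hE u hu
  obtain ⟨k, hk⟩ := hu
  obtain ⟨l, hl⟩ := hBC
  have hl' : ∀ x ∈ 𝔟 ^ (l * k), algebraMap B C x ∈ 𝔠 ^ k := fun x hx => by
    rw [pow_mul] at hx
    have h1 := Ideal.mem_map_of_mem (algebraMap B C) hx
    rw [Ideal.map_pow] at h1
    exact Ideal.pow_right_mono hl k h1
  obtain ⟨v₀, hv₀⟩ := hB E J hJ hE (u.comp (IsScalarTower.toAlgHom A B C)) ⟨l * k, fun x hx => hk _ (hl' x hx)⟩
  obtain ⟨m, hm⟩ := PP16Lib.exists_pow_kill (J := 𝔟) v₀.toRingHom hJ (k := l * k) fun x hx => by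
    rw [← Ideal.Quotient.eq_zero_iff_mem]
    exact (AlgHom.congr_fun hv₀ x).trans (hk _ (hl' x hx))
  let _ : Algebra B E := v₀.toRingHom.toAlgebra
  let u' : C →ₐ[B] E ⧸ J :=
    { u.toRingHom with commutes' := fun b => (AlgHom.congr_fun hv₀ b).symm }
  obtain ⟨v, hv⟩ := hC E J hJ ⟨m, by
    rw [Ideal.map_eq_bot_iff_le_ker]
    exact fun x hx => RingHom.mem_ker.mpr (hm x hx)⟩ u' ⟨k, hk⟩
  refine ⟨{ v.toRingHom with commutes' := fun a => ?_ }, AlgHom.ext fun x => (AlgHom.congr_fun hv x :)⟩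
  show v (algebraMap A C a) = _
  rw [IsScalarTower.algebraMap_apply A B C, v.commutes]
  exact v₀.commutes a

end Groth.Agent.S4534
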