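import Groth.Statements.S4536
import Groth.Agent.PP16Lib.AdicTopLift
import Groth.Agent.CohenStruct.PowerSeries
import Groth.Agent.CTensorRed.PowerSeries
import Groth.Agent.CTensorRed.Main

set_option autoImplicit false
universe u
open EGA41

namespace Groth.Agent.S4536

/-- Let A carry the 𝔞-adic and B the 𝔟-adic topology, A → B being continuous (a power of 𝔞 maps into 𝔟).
Then B is formally smooth over A if and only if for every n the (A/𝔞ⁿ)-algebra B/𝔞ⁿB, with the adic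
topology of the image of 𝔟, is formally smooth over the discrete ring A/𝔞ⁿ. -/
theorem result {A B : Type u} [CommRing A] [CommRing B] [Algebra A B]
    (𝔞 : Ideal A) (𝔟 : Ideal B) (hAB : ∃ k : ℕ, (𝔞 ^ k).map (algebraMap A B) ≤ 𝔟) :
    EGA41.IsFormallySmoothAdic A 𝔞 B 𝔟 ↔
      ∀ n : ℕ, EGA41.IsFormallySmoothAdic (A ⧸ 𝔞 ^ n) ⊥ (B ⧸ (𝔞 ^ n).map (algebraMap A B))
        (𝔟.map (Ideal.Quotient.mk ((𝔞 ^ n).map (algebraMap A B)))) := by
  constructor
  · intro h n E _ _ J hJ _ u hu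
    obtain ⟨k, hk⟩ := hu
    let K : Ideal B := (𝔞 ^ n).map (algebraMap A B)
    let _ : Algebra A E := ((algebraMap (A ⧸ 𝔞 ^ n) E).comp (Ideal.Quotient.mk _)).toAlgebra
    have : IsScalarTower A (A ⧸ 𝔞 ^ n) E := .of_algebraMap_eq fun _ => rfl
    have : IsScalarTower A (A ⧸ 𝔞 ^ n) (E ⧸ J) := by
      exact IsScalarTower.of_algebraMap_eq (R := A) (S := A ⧸ 𝔞 ^ n) (A := E ⧸ J) fun _ => rfl
    have hE : ∀ a ∈ 𝔞 ^ n, algebraMap A E a = 0 := fun a ha => by
      show algebraMap (A ⧸ 𝔞 ^ n) E (Ideal.Quotient.mk _ a) = 0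
      rw [Ideal.Quotient.eq_zero_iff_mem.mpr ha, map_zero]
    let u₁ : B →ₐ[A] E ⧸ J :=
      { u.toRingHom.comp (Ideal.Quotient.mk K) with
        commutes' := fun a => by
          show u (Ideal.Quotient.mk K (algebraMap A B a)) = _
          exact u.commutes (Ideal.Quotient.mk _ a) }
    obtain ⟨v, hv⟩ := h E J hJ ⟨n, (Ideal.map_eq_bot_iff_le_ker _).mpr hE⟩ u₁ ⟨k, fun x hx => hk _ (by
      rw [← Ideal.map_pow]
      exact Ideal.mem_map_of_mem _ hx)⟩
    have hK : K ≤ RingHom.ker v.toRingHom := Ideal.map_le_iff_le_comap.mpr fun a ha => by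
      rw [Ideal.mem_comap, RingHom.mem_ker]
      show v (algebraMap A B a) = 0
      rw [v.commutes, hE a ha]
    refine ⟨{ Ideal.Quotient.lift K v.toRingHom hK with commutes' := fun a => ?_ }, AlgHom.ext fun x => ?_⟩
    · obtain ⟨a, rfl⟩ := Ideal.Quotient.mk_surjective a
      exact v.commutes a
    · obtain ⟨x, rfl⟩ := Ideal.Quotient.mk_surjective x
      exact AlgHom.congr_fun hv x
  · intro h E _ _ J hJ ⟨n, hn⟩ u ⟨k, hk⟩
    have hE : ∀ a ∈ 𝔞 ^ n, algebraMap A E a = 0 := fun a ha => (Ideal.map_eq_bot_iff_le_ker _).mp hn ha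
    let K : Ideal B := (𝔞 ^ n).map (algebraMap A B)
    let _ : Algebra (A ⧸ 𝔞 ^ n) E := (Ideal.Quotient.lift _ (algebraMap A E) hE).toAlgebra
    have hK : K ≤ RingHom.ker u.toRingHom := Ideal.map_le_iff_le_comap.mpr fun a ha => by
      rw [Ideal.mem_comap, RingHom.mem_ker]
      show u (algebraMap A B a) = 0
      rw [u.commutes]
      show Ideal.Quotient.mk J (algebraMap A E a) = 0
      rw [hE a ha, map_zero]
    let u₁ : (B ⧸ K) →ₐ[A ⧸ 𝔞 ^ n] E ⧸ J :=
      { Ideal.Quotient.lift K u.toRingHom hK with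
        commutes' := fun a => by
          obtain ⟨a, rfl⟩ := Ideal.Quotient.mk_surjective a
          exact u.commutes a }
    obtain ⟨v, hv⟩ := h n E J hJ ⟨1, by simp⟩ u₁ ⟨k, fun x hx => by
      rw [← Ideal.map_pow] at hx
      obtain ⟨y, hy, rfl⟩ := (Ideal.mem_map_iff_of_surjective _ Ideal.Quotient.mk_surjective).mp hx
      exact hk y hy⟩
    refine ⟨{ v.toRingHom.comp (Ideal.Quotient.mk K) with commutes' := fun a => ?_ }, AlgHom.ext fun x => ?_⟩
    · exact v.commutes (Ideal.Quotient.mk _ a)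
    · exact AlgHom.congr_fun hv (Ideal.Quotient.mk K x)

end Groth.Agent.S4536
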