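import Groth.Statements.S4543
import Groth.Agent.PP16Lib.AdicTopLift
import Mathlib.RingTheory.Flat.EquationalCriterion

set_option autoImplicit false
universe u
open EGA41

namespace Groth.Agent.S4543

open IsLocalRing in
/-- Let A be a Noetherian ring, J an ideal of A, B and B' two A-algebras which are Noetherian local
rings, the structure maps being continuous for the J-adic topology on A (JB and JB' lie in the
maximal ideals); suppose B and B' are complete for the J-adic topologies, B is a formally smooth
A-algebra for the J-adic topology on A and the JB-adic topology on B (nilpotent test ideals, test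
algebras killed by a power of J, test maps killing a power of JB), and B' is a flat A-module. Then
every (A/J)-algebra isomorphism u₀ : B/JB ≅ B'/JB' comes from an A-algebra isomorphism u : B ≅ B' by
passing to quotients. (B is taken formally smooth for the JB-adic topology, the topology along which
the argument lifts B → B'/JB' to B'; read with the convention that a local ring carries the adic
topology of its maximal ideal, the published hypothesis would be formal smoothness for the
maximal-ideal topology on B, a weaker condition when JB is strictly smaller than the maximal ideal,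
and that reading is not what the argument establishes.) -/
theorem result {A B B' : Type u} [CommRing A] [IsNoetherianRing A] (J : Ideal A)
    [CommRing B] [IsLocalRing B] [IsNoetherianRing B] [Algebra A B]
    [CommRing B'] [IsLocalRing B'] [IsNoetherianRing B'] [Algebra A B']
    (hB : J.map (algebraMap A B) ≤ maximalIdeal B) (hB' : J.map (algebraMap A B') ≤ maximalIdeal B')
    [IsAdicComplete (J.map (algebraMap A B)) B] [IsAdicComplete (J.map (algebraMap A B')) B']
    (hfs : EGA41.IsFormallySmoothAdic A J B (J.map (algebraMap A B))) [Module.Flat A B']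
    (u₀ : (B ⧸ J.map (algebraMap A B)) ≃ₐ[A ⧸ J] (B' ⧸ J.map (algebraMap A B'))) :
    ∃ u : B ≃ₐ[A] B', ∀ b : B,
      Ideal.Quotient.mk (J.map (algebraMap A B')) (u b) = u₀ (Ideal.Quotient.mk (J.map (algebraMap A B)) b) := by
  classical
  set IB := J.map (algebraMap A B) with hIB
  set IB' := J.map (algebraMap A B') with hIB'
  let u1 : B →ₐ[A] B' ⧸ IB' := (u₀.toAlgHom.restrictScalars A).comp (Ideal.Quotient.mkₐ A IB)
  haveI : IsHausdorff (IB'.map (Ideal.Quotient.mk IB')) (B' ⧸ IB') := by
    rw [Ideal.map_quotient_self]; infer_instance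
  obtain ⟨v, -, hv⟩ := PP16Lib.exists_lift_complete hfs IB' ⟨1, by rw [pow_one]⟩ IB' ⟨1, by rw [pow_one]⟩ u1
    ⟨1, by
      rw [pow_one, Ideal.map_quotient_self, le_bot_iff, Ideal.map_eq_bot_iff_le_ker]
      intro x hx
      show u₀ (Ideal.Quotient.mk IB x) = 0
      rw [Ideal.Quotient.eq_zero_iff_mem.mpr hx, map_zero]⟩
  have hv' : ∀ b, Ideal.Quotient.mk IB' (v b) = u₀ (Ideal.Quotient.mk IB b) := fun b => DFunLike.congr_fun hv b
  have hmap : IB.map v.toRingHom = IB' := by
    rw [hIB, Ideal.map_map]
    congr 1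
    exact v.comp_algebraMap
  have hpow : ∀ n, (IB ^ n).map v.toRingHom = IB' ^ n := fun n => by rw [Ideal.map_pow, hmap]
  -- surjectivity
  have hsurj0 : ∀ y : B', ∃ b, y - v b ∈ IB' := fun y => by
    obtain ⟨c, hc⟩ := Ideal.Quotient.mk_surjective (u₀.symm (Ideal.Quotient.mk IB' y))
    refine ⟨c, Ideal.Quotient.eq.mp ?_⟩
    rw [hv', hc, AlgEquiv.apply_symm_apply]
  have hsurj : Function.Surjective v := by
    intro y
    have hstep : ∀ n, ∀ r ∈ IB' ^ n, ∃ b ∈ IB ^ n, r - v b ∈ IB' ^ (n + 1) := fun n r hr => by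
      rw [← hpow n] at hr
      refine Submodule.span_induction (p := fun r _ => ∃ b ∈ IB ^ n, r - v b ∈ IB' ^ (n + 1)) ?_ ?_ ?_ ?_ hr
      · rintro _ ⟨b, hb, rfl⟩
        exact ⟨b, hb, by simp⟩
      · exact ⟨0, zero_mem _, by simp⟩
      · rintro a a' - - ⟨b, hb, e⟩ ⟨b', hb', e'⟩
        exact ⟨b + b', add_mem hb hb', by rw [map_add, add_sub_add_comm]; exact add_mem e e'⟩
      · rintro c a - ⟨b, hb, e⟩
        obtain ⟨c', hc'⟩ := hsurj0 c
        refine ⟨c' * b, Ideal.mul_mem_left _ _ hb, ?_⟩
        rw [map_mul, smul_eq_mul, show c * a - v c' * v b = c * (a - v b) + (c - v c') * v b by ring]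
        refine add_mem (Ideal.mul_mem_left _ _ e) ?_
        rw [pow_succ']
        exact Ideal.mul_mem_mul hc' (hpow n ▸ Ideal.mem_map_of_mem v.toRingHom hb)
    choose g hg hg' using hstep
    let seq : ∀ n, {b : B // y - v b ∈ IB' ^ n} := fun n =>
      Nat.rec ⟨0, by simp⟩ (fun n b => ⟨b.1 + g n _ b.2, by
        have := hg' n _ b.2
        rwa [map_add, ← sub_sub]⟩) n
    have hd : ∀ n, (seq (n + 1)).1 - (seq n).1 ∈ IB ^ n := fun n => by
      show (seq n).1 + g n _ (seq n).2 - (seq n).1 ∈ _
      rw [add_sub_cancel_left]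
      exact hg n _ _
    obtain ⟨b, hb⟩ := IsPrecomplete.prec (I := IB) (M := B) inferInstance (f := fun n => (seq n).1) fun {m n} hmn => by
      rw [smul_eq_mul, Ideal.mul_top, SModEq.sub_mem]
      induction n, hmn using Nat.le_induction with
      | base => simp
      | succ n hmn ih =>
        have := sub_mem ih (Ideal.pow_le_pow_right hmn (hd n))
        rwa [sub_sub, add_sub_cancel] at this
    refine ⟨b, (sub_eq_zero.mp (IsHausdorff.haus (I := IB') (M := B') inferInstance _ fun n => ?_)).symm⟩
    rw [SModEq.zero, smul_eq_mul, Ideal.mul_top]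
    have h1 := hb n
    rw [smul_eq_mul, Ideal.mul_top, SModEq.sub_mem] at h1
    have h2 := add_mem (seq n).2 (hpow n ▸ Ideal.mem_map_of_mem v.toRingHom h1)
    show y - v b ∈ _
    rwa [show v.toRingHom ((seq n).1 - b) = v (seq n).1 - v b from map_sub v _ _, sub_add_sub_cancel] at h2
  -- injectivity
  have hker : RingHom.ker v.toRingHom ≤ IB * RingHom.ker v.toRingHom := fun x hx => by
    have hxI : x ∈ IB := by
      rw [← Ideal.Quotient.eq_zero_iff_mem]
      refine u₀.injective ?_
      rw [← hv', map_zero, show v x = 0 from hx, map_zero]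
    obtain ⟨l, r, w, hw, hx'⟩ : ∃ (l : ℕ) (r : Fin l → A) (w : Fin l → B), (∀ i, r i ∈ J) ∧ x = ∑ i, r i • w i := by
      rw [hIB] at hxI
      refine Submodule.span_induction (p := fun x _ => ∃ (l : ℕ) (r : Fin l → A) (w : Fin l → B),
        (∀ i, r i ∈ J) ∧ x = ∑ i, r i • w i) ?_ ?_ ?_ ?_ hxI
      · rintro _ ⟨a, ha, rfl⟩
        exact ⟨1, fun _ => a, fun _ => 1, fun _ => ha, by simp [Algebra.smul_def]⟩
      · exact ⟨0, Fin.elim0, Fin.elim0, fun i => i.elim0, by simp⟩
      · rintro a a' - - ⟨l, r, w, h, rfl⟩ ⟨l', r', w', h', rfl⟩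
        exact ⟨l + l', Fin.append r r', Fin.append w w',
          fun i => Fin.addCases (fun i => by simpa using h i) (fun i => by simpa using h' i) i,
          by simp [Fin.sum_univ_add]⟩
      · rintro c a - ⟨l, r, w, h, rfl⟩
        exact ⟨l, r, fun i => c * w i, h, by simp [Finset.mul_sum, mul_smul_comm]⟩
    have hrel : ∑ i, r i • v (w i) = 0 := by
      rw [show (0 : B') = v x from (show v x = 0 from hx).symm, hx', map_sum]
      simp only [map_smul]
    obtain ⟨m, a, z, hz, ha⟩ := Module.Flat.isTrivialRelation_of_sum_smul_eq_zero hrel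
    choose c hc using fun j => hsurj (z j)
    have hsum : x = ∑ i, algebraMap A B (r i) * (w i - ∑ j, a i j • c j) := by
      simp only [← Algebra.smul_def, smul_sub, Finset.sum_sub_distrib, Finset.smul_sum, smul_smul]
      rw [← hx', Finset.sum_comm]
      simp only [← Finset.sum_smul, ha, zero_smul, Finset.sum_const_zero, sub_zero]
    rw [hsum]
    refine Ideal.sum_mem _ fun i _ => Ideal.mul_mem_mul (Ideal.mem_map_of_mem _ (hw i)) ?_
    show v (w i - ∑ j, a i j • c j) = 0
    rw [map_sub, map_sum, sub_eq_zero]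
    refine (hz i).trans ?_
    simp only [map_smul, hc]
  have hbot : RingHom.ker v.toRingHom = ⊥ :=
    Submodule.eq_bot_of_le_smul_of_le_jacobson_bot IB _ (IsNoetherian.noetherian _) hker
      (hB.trans (IsLocalRing.jacobson_eq_maximalIdeal ⊥ bot_ne_top).ge)
  refine ⟨AlgEquiv.ofBijective v ⟨(RingHom.injective_iff_ker_eq_bot v.toRingHom).mpr hbot, hsurj⟩, fun b => hv' b⟩

end Groth.Agent.S4543
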