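import Groth.Statements.S4545
import Groth.Agent.NagataJac.Admissible
import Mathlib.FieldTheory.IsAlgClosed.AlgebraicClosure
import Mathlib.FieldTheory.IntermediateField.Adjoin.Basic

set_option autoImplicit false
universe u
open EGA41

namespace Groth.Agent.S4545

open TensorProduct in
/-- Let K be a field of characteristic p > 0, k₀ a subfield and (k_α) a decreasing filtered family of
subfields of K containing k₀. Then ⋂_α k_α(K^p) = k₀(K^p) if and only if for every extension L of K
such that Υ_{L/K/k₀} has finite rank over L there is an α with k_α admissible for L over K relative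
to k₀, i.e. with Υ_{L/K/k₀} → Υ_{L/K/k_α} injective. (The published statement has two further
equivalent conditions; this row states (a) ⇔ (b).) -/
theorem result (p : ℕ) [Fact p.Prime] {k₀ K : Type u}
    [Field k₀] [Field K] [Algebra k₀ K] [CharP K p]
    {ι : Type u} [Preorder ι] [IsDirected ι (· ≤ ·)] [Nonempty ι] (k : ι → IntermediateField k₀ K) (hk : Antitone k) :
    (⨅ i, k i ⊔ IntermediateField.adjoin k₀ (Set.range fun y : K => y ^ p)) =
        IntermediateField.adjoin k₀ (Set.range fun y : K => y ^ p) ↔
      ∀ (L : Type u) [Field L] [Algebra K L] [Algebra k₀ L] [IsScalarTower k₀ K L],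
        Module.Finite L (EGA41.imperfection k₀ K L) →
          ∃ i, ∀ ω ∈ EGA41.imperfection k₀ K L,
            ((KaehlerDifferential.map k₀ (k i) K K).restrictScalars K).baseChange L ω = 0 → ω = 0 := by
  classical
  constructor
  · intro hinf L _ _ _ _ _
    obtain ⟨i, hi⟩ := NagataJac.exists_inf_eq_bot (EGA41.imperfection k₀ K L) _
      (NagataJac.ker_relMap_antitone L k₀ k hk) (NagataJac.iInf_ker_relMap L k₀ k p hk hinf)
    exact ⟨i, fun ω hω h0 => (Submodule.mem_bot L).mp ((hi i le_rfl).le ⟨hω, h0⟩)⟩
  · intro h
    set K' := IntermediateField.adjoin k₀ (Set.range fun y : K => y ^ p) with hK'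
    refine le_antisymm (fun x hx => ?_) (le_iInf fun i => le_sup_right)
    rw [← SetLike.mem_coe, IntermediateField.coe_iInf, Set.mem_iInter] at hx
    obtain ⟨y, hy⟩ := IsAlgClosed.exists_pow_nat_eq (algebraMap K (AlgebraicClosure K) x) (Fact.out : p.Prime).pos
    let L := IntermediateField.adjoin K ({y} : Set (AlgebraicClosure K))
    have : FiniteDimensional K L :=
      IntermediateField.adjoin.finiteDimensional (Algebra.IsIntegral.isIntegral y)
    have hk₀L : IsScalarTower k₀ K L := IsScalarTower.of_algebraMap_eq fun _ => Subtype.ext (by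
      exact IsScalarTower.algebraMap_apply k₀ K (AlgebraicClosure K) _)
    obtain ⟨i, hi⟩ := h L (EGA41Lib.imperfection_le (K := K) (L := L) k₀ (hf := (EGA41Lib.fieldIdx_of_finite (K := K) (L := L)).1)).1
    have hCL : CharP L p := charP_of_injective_algebraMap (RingHom.injective (algebraMap K L)) p
    have hv : (1 : L) ⊗ₜ[K] KaehlerDifferential.D k₀ K x ∈ EGA41.imperfection k₀ K L := by
      show KaehlerDifferential.mapBaseChange k₀ K L _ = 0
      have hyL : algebraMap K L x = (⟨y, IntermediateField.mem_adjoin_simple_self K y⟩ : L) ^ p :=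
        Subtype.ext hy.symm
      rw [KaehlerDifferential.mapBaseChange_tmul, one_smul, KaehlerDifferential.map_D, hyL,
        Derivation.leibniz_pow, ← Nat.cast_smul_eq_nsmul L, CharP.cast_eq_zero, zero_smul]
    have h1 : KaehlerDifferential.map k₀ (k i) K K (KaehlerDifferential.D k₀ K x) = 0 := by
      rw [KaehlerDifferential.map_D]
      let δ := KaehlerDifferential.D (k i) K
      let Z : IntermediateField k₀ K :=
        { carrier := {z | δ z = 0}
          mul_mem' := fun {u v} (hu : δ u = 0) (hv : δ v = 0) => show δ (u * v) = 0 by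
            rw [δ.leibniz, hu, hv, smul_zero, smul_zero, add_zero]
          one_mem' := δ.map_one_eq_zero
          add_mem' := fun {u v} (hu : δ u = 0) (hv : δ v = 0) => show δ (u + v) = 0 by
            rw [map_add, hu, hv, add_zero]
          zero_mem' := map_zero δ
          algebraMap_mem' := fun r => show δ (algebraMap k₀ K r) = 0 by
            rw [IsScalarTower.algebraMap_apply k₀ (k i) K]
            exact δ.map_algebraMap _
          inv_mem' := fun u (hu : δ u = 0) => show δ u⁻¹ = 0 by
            rw [Derivation.leibniz_inv, hu, smul_zero] }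
      have hle : k i ⊔ K' ≤ Z := by
        refine sup_le (fun c hc => δ.map_algebraMap ⟨c, hc⟩) (IntermediateField.adjoin_le_iff.2 ?_)
        rintro _ ⟨z, rfl⟩
        show δ (z ^ p) = 0
        rw [Derivation.leibniz_pow, ← Nat.cast_smul_eq_nsmul K, CharP.cast_eq_zero, zero_smul]
      exact hle (hx i)
    have h2 := hi _ hv (by
      rw [LinearMap.baseChange_tmul, LinearMap.restrictScalars_apply, h1, TensorProduct.tmul_zero])
    -- `1 ⊗ D x = 0` forces `D x = 0`
    have hd : KaehlerDifferential.D k₀ K x = 0 := by
      let b := Module.Basis.ofVectorSpace K (Ω[K⁄k₀])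
      refine b.repr.map_eq_zero_iff.mp (Finsupp.ext fun j => ?_)
      have h3 := congrArg (fun w => (b.baseChange L).repr w j) h2
      simp only [Module.Basis.baseChange_repr_tmul, map_zero, Finsupp.zero_apply] at h3
      rw [← Algebra.algebraMap_eq_smul_one, map_eq_zero_iff _ (RingHom.injective _)] at h3
      exact h3
    by_contra hne
    have hmem : x ∉ EGA41Lib.pSub p k₀ K := fun h' =>
      hne (IntermediateField.algebra_adjoin_le_adjoin k₀ _ h')
    have h4 := (EGA41Lib.isPIndependent_iff_linearIndependent (k := k₀) (fun _ : PUnit.{u+1} => x)).1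
      (EGA41Lib.ind_single (EGA41Lib.pow_mem_pSub p k₀) hmem)
    exact h4.ne_zero PUnit.unit hd

end Groth.Agent.S4545
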