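import Groth.Statements.S4546
import Groth.Agent.NagataJac.Admissible

set_option autoImplicit false
universe u
open EGA41
open scoped TensorProduct

namespace Groth.Agent.S4546

/-- Let K be a field of characteristic p > 0, k₀ a subfield, (k_α) a decreasing filtered family of
subfields of K containing k₀ with ⋂_α k_α(K^p) = k₀(K^p). Then for every extension L of K such that
Υ_{L/K/k₀} has finite rank over L, one has ⋂_α k_α(L^p) = k₀(L^p) (the k_α being viewed inside L). -/
theorem result (p : ℕ) [Fact p.Prime] {k₀ K L : Type u}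
    [Field k₀] [Field K] [Field L] [Algebra k₀ K] [Algebra K L] [Algebra k₀ L] [IsScalarTower k₀ K L] [CharP K p] [CharP L p]
    {ι : Type u} [Preorder ι] [IsDirected ι (· ≤ ·)] [Nonempty ι] (k : ι → IntermediateField k₀ K) (hk : Antitone k)
    (h : (⨅ i, k i ⊔ IntermediateField.adjoin k₀ (Set.range fun y : K => y ^ p)) =
      IntermediateField.adjoin k₀ (Set.range fun y : K => y ^ p))
    [Module.Finite L (EGA41.imperfection k₀ K L)] :
    (⨅ i, (k i).map (IsScalarTower.toAlgHom k₀ K L) ⊔ IntermediateField.adjoin k₀ (Set.range fun y : L => y ^ p)) =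
      IntermediateField.adjoin k₀ (Set.range fun y : L => y ^ p) := by
  classical
  let k' := fun i => (k i).map (IsScalarTower.toAlgHom k₀ K L)
  have hk' : Antitone k' := fun i j hij => IntermediateField.map_mono _ (hk hij)
  refine (S2475.result p (K := L) k' hk').mpr fun ω hω => ?_
  let τ := KaehlerDifferential.mapBaseChange k₀ K L
  have : Module.Finite L (LinearMap.ker τ) := ‹Module.Finite L (EGA41.imperfection k₀ K L)›
  have hbot := NagataJac.iInf_map_eq_bot τ _ (NagataJac.ker_relMap_antitone L k₀ k hk)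
    (NagataJac.iInf_ker_relMap L k₀ k p hk h)
  refine (Submodule.mem_bot L).mp (hbot.le ((Submodule.mem_iInf _).mpr fun i => ?_))
  have hmem : ω ∈ Submodule.span L (KaehlerDifferential.D k₀ L '' (k' i : Set L)) :=
    (NagataJac.ker_map_eq_span k₀ (k' i)).le (hω i)
  refine Submodule.span_le.mpr ?_ hmem
  rintro _ ⟨_, ⟨c, hc, rfl⟩, rfl⟩
  rw [NagataJac.ker_relMap]
  refine ⟨(1 : L) ⊗ₜ[K] KaehlerDifferential.D k₀ K c, Submodule.subset_span ⟨c, hc, rfl⟩, ?_⟩
  rw [KaehlerDifferential.mapBaseChange_tmul, one_smul, KaehlerDifferential.map_D]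
  rfl

end Groth.Agent.S4546
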