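import Groth.Statements.S4547
import Mathlib
-- import your own Groth.Agent.* helpers here

set_option autoImplicit false
universe u
open EGA41

namespace Groth.Agent.S4547

open IsLocalRing TensorProduct

variable {A : Type u} [CommRing A] [IsLocalRing A] {M N : Type u}
    [AddCommGroup M] [Module A M] [AddCommGroup N] [Module A N] [Module.Projective A N]

theorem exists_retraction (u : M →ₗ[A] N) {m : ℕ} (x : Fin m → M)
    (hx : Submodule.span A (Set.range x) = ⊤)
    (hli : LinearIndependent (ResidueField A) (fun i => (1 : ResidueField A) ⊗ₜ[A] u (x i))) :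
    (∃ w : N →ₗ[A] M, w ∘ₗ u = LinearMap.id) ∧ LinearIndependent A x := by
  classical
  let k := ResidueField A
  obtain ⟨ψ, hψ⟩ := LinearMap.exists_leftInverse_of_injective
    (Fintype.linearCombination k (fun i => (1 : k) ⊗ₜ[A] u (x i)))
    (LinearMap.ker_eq_bot.mpr hli.fintypeLinearCombination_injective)
  let π : (Fin m → A) →ₗ[A] (Fin m → k) := LinearMap.pi fun i =>
    (Algebra.linearMap A k).comp (LinearMap.proj i)
  have hπ : Function.Surjective π := fun v =>
    ⟨fun i => (IsLocalRing.residue_surjective (v i)).choose,
      funext fun i => (IsLocalRing.residue_surjective (v i)).choose_spec⟩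
  obtain ⟨θ, hθ⟩ := Module.projective_lifting_property π
    ((ψ.restrictScalars A).comp (TensorProduct.mk A k N 1)) hπ
  let L : (Fin m → A) →ₗ[A] M := Fintype.linearCombination A x
  let e : (Fin m → A) →ₗ[A] (Fin m → A) := θ ∘ₗ u ∘ₗ L
  have hLi : ∀ i, L (Pi.single i 1) = x i := fun i => by
    simp [L, Fintype.linearCombination_apply_single]
  have hei : ∀ i, π (e (Pi.single i 1)) = Pi.single i 1 := fun i => by
    have h1 := congrArg (fun φ => φ (u (x i))) hθ
    simp only [LinearMap.comp_apply, LinearMap.coe_restrictScalars, TensorProduct.mk_apply] at h1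
    show π (θ (u (L (Pi.single i 1)))) = _
    rw [hLi, h1]
    have h2 := congrArg (fun φ => φ (Pi.single i (1 : k))) hψ
    simpa [Fintype.linearCombination_apply_single] using h2
  have hes : Function.Surjective e := by
    rw [← LinearMap.range_eq_top, ← top_le_iff]
    refine Submodule.le_of_le_smul_of_le_jacobson_bot Module.Finite.fg_top
      (IsLocalRing.maximalIdeal_le_jacobson ⊥) ?_
    intro v _
    rw [pi_eq_sum_univ' v]
    refine Submodule.sum_mem _ fun i _ => Submodule.smul_mem _ _ ?_
    rw [← add_sub_cancel (e (Pi.single i 1)) (Pi.single i 1)]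
    refine Submodule.add_mem_sup ⟨_, rfl⟩ ?_
    set d := Pi.single i 1 - e (Pi.single i 1) with hd
    have hd0 : π d = 0 := by
      rw [hd, map_sub, hei]
      ext j
      rcases eq_or_ne j i with rfl | hji
      · simp [π]
      · simp [π, hji]
    rw [pi_eq_sum_univ' d]
    refine Submodule.sum_mem _ fun j _ => Submodule.smul_mem_smul ?_ trivial
    exact IsLocalRing.residue_eq_zero_iff _ |>.mp (congrFun hd0 j)
  have hbij := OrzechProperty.bijective_of_surjective_endomorphism e hes
  let E := LinearEquiv.ofBijective e hbij
  refine ⟨⟨L ∘ₗ E.symm.toLinearMap ∘ₗ θ, LinearMap.ext fun y => ?_⟩, ?_⟩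
  · obtain ⟨c, rfl⟩ : ∃ c, L c = y := by
      obtain ⟨c, hc⟩ := (Submodule.mem_span_range_iff_exists_fun A).mp
        (hx ▸ (Submodule.mem_top : y ∈ ⊤))
      exact ⟨c, by simpa [L, Fintype.linearCombination_apply] using hc⟩
    show L (E.symm (e c)) = L c
    rw [show e c = E c from rfl, LinearEquiv.symm_apply_apply]
  · rw [Fintype.linearIndependent_iff]
    intro c hc i
    have hLc : L c = 0 := by simpa [L, Fintype.linearCombination_apply] using hc
    exact congrFun (hbij.1 (show e c = e 0 by simp [e, hLc])) i

open IsLocalRing TensorProduct in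
/-- Let A be a local ring with residue field k, M an A-module of finite type, N a projective A-module
and u : M → N a homomorphism. Then u is left invertible if and only if there is a finite system of
generators (x_i) of M such that the elements 1 ⊗ u(x_i) of k ⊗_A N are linearly independent over k;
and such a system (x_i) is then a basis of M. -/
theorem result {A : Type u} [CommRing A] [IsLocalRing A] {M N : Type u}
    [AddCommGroup M] [Module A M] [Module.Finite A M] [AddCommGroup N] [Module A N] [Module.Projective A N]
    (u : M →ₗ[A] N) :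
    ((∃ w : N →ₗ[A] M, w ∘ₗ u = LinearMap.id) ↔
      ∃ (m : ℕ) (x : Fin m → M), Submodule.span A (Set.range x) = ⊤ ∧
        LinearIndependent (ResidueField A) (fun i => (1 : ResidueField A) ⊗ₜ[A] u (x i))) ∧
    ∀ (m : ℕ) (x : Fin m → M), Submodule.span A (Set.range x) = ⊤ →
      LinearIndependent (ResidueField A) (fun i => (1 : ResidueField A) ⊗ₜ[A] u (x i)) →
        ∃ b : Module.Basis (Fin m) A M, ∀ i, b i = x i := by
  classical
  refine ⟨⟨?_, fun ⟨m, x, hx, hli⟩ => (exists_retraction u x hx hli).1⟩, fun m x hx hli => ?_⟩
  · rintro ⟨w, hw⟩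
    let k := ResidueField A
    let b := Module.finBasis k (k ⊗[A] M)
    have hsurj : Function.Surjective (TensorProduct.mk A k M 1) :=
      TensorProduct.mk_surjective A M k IsLocalRing.residue_surjective
    choose x hx using fun i => hsurj (b i)
    refine ⟨_, x, IsLocalRing.span_eq_top_of_tmul_eq_basis x b hx, ?_⟩
    have hinj : Function.Injective (u.baseChange k) := by
      refine Function.LeftInverse.injective (g := w.baseChange k) fun z => ?_
      rw [← LinearMap.comp_apply, ← LinearMap.baseChange_comp, hw, LinearMap.baseChange_id]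
      rfl
    have := b.linearIndependent.map' (u.baseChange k) (LinearMap.ker_eq_bot.mpr hinj)
    have he : (fun i => (1 : k) ⊗ₜ[A] u (x i)) = u.baseChange k ∘ b := funext fun i => by
      simp [← hx]
    exact he ▸ this
  · exact ⟨Module.Basis.mk (exists_retraction u x hx hli).2 hx.ge, fun i => by simp⟩

end Groth.Agent.S4547
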