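import Groth.Statements.S4549
import Groth.Agent.EGA41Lib.FieldCrit
import Mathlib.RingTheory.IntegralClosure.IsIntegralClosure.Basic
import Mathlib.LinearAlgebra.TensorProduct.Basis

set_option autoImplicit false
universe u
open EGA41

namespace Groth.Agent.S4549

open TensorProduct in
/-- Let K be a field of characteristic p, k₀ a subfield and L an extension of K such that Υ_{L/K/k₀} has
finite rank over L. Then there is a subfield k of K containing k₀(K^p), with [K : k] finite, which
is k₀-admissible for the extension L of K, i.e. such that Υ_{L/K/k₀} → Υ_{L/K/k} is injective. (The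
published statement uses the characteristic exponent and so also covers characteristic 0, where k =
K works; this row treats characteristic p > 0.) -/
theorem result (p : ℕ) [Fact p.Prime] {k₀ K L : Type u} [Field k₀] [Field K] [Field L]
    [Algebra k₀ K] [Algebra K L] [Algebra k₀ L] [IsScalarTower k₀ K L] [CharP K p]
    [Module.Finite L (EGA41.imperfection k₀ K L)] :
    ∃ k : IntermediateField k₀ K, (∀ y : K, y ^ p ∈ k) ∧ Module.Finite k K ∧
      ∀ ω ∈ EGA41.imperfection k₀ K L,
        ((KaehlerDifferential.map k₀ k K K).restrictScalars K).baseChange L ω = 0 → ω = 0 := by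
  classical
  obtain ⟨B, hB⟩ := EGA41Lib.exists_isPBasis (p := p) (k := k₀) (K := K)
  obtain ⟨b, hb⟩ := EGA41Lib.exists_basis_kaehler hB
  let bL := b.baseChange L
  -- finitely many coordinates suffice on the imperfection module
  obtain ⟨T, hT⟩ := (Module.Finite.fg_top : (⊤ : Submodule L (EGA41.imperfection k₀ K L)).FG)
  let S : Finset B := T.biUnion fun ω => (bL.repr (ω : L ⊗[K] Ω[K⁄k₀])).support
  have hsupp : ∀ ω ∈ EGA41.imperfection k₀ K L, bL.repr ω ∈ Finsupp.supported L L (S : Set B) := by
    intro ω hω
    have h1 : (⟨ω, hω⟩ : EGA41.imperfection k₀ K L) ∈ Submodule.span L (T : Set (EGA41.imperfection k₀ K L)) := by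
      rw [hT]; exact Submodule.mem_top
    have h2 : ω ∈ Submodule.span L ((EGA41.imperfection k₀ K L).subtype '' (T : Set (EGA41.imperfection k₀ K L))) := by
      rw [Submodule.span_image]
      exact ⟨_, h1, rfl⟩
    clear h1 hω
    induction h2 using Submodule.span_induction with
    | mem y hy =>
      obtain ⟨t, ht, rfl⟩ := hy
      rw [Finsupp.mem_supported]
      exact Finset.coe_subset.mpr (Finset.subset_biUnion_of_mem (fun ω : EGA41.imperfection k₀ K L =>
        (bL.repr (ω : L ⊗[K] Ω[K⁄k₀])).support) ht)
    | zero => rw [map_zero]; exact Submodule.zero_mem _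
    | add u v _ _ hu hv => rw [map_add]; exact Submodule.add_mem _ hu hv
    | smul c x _ hx => rw [LinearEquiv.map_smul]; exact Submodule.smul_mem _ c hx
  -- the subfield
  let G : Set K := (Set.range fun y : K => y ^ p) ∪ (Subtype.val '' ((S : Set B)ᶜ))
  let k : IntermediateField k₀ K := IntermediateField.adjoin k₀ G
  have hkp : ∀ y : K, y ^ p ∈ k := fun y => IntermediateField.subset_adjoin k₀ G (Or.inl ⟨y, rfl⟩)
  refine ⟨k, hkp, ?_, fun ω hω h0 => ?_⟩
  · -- `K` is generated over `k` by the elements of `S`, whose `p`-th powers lie in `k`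
    have hint : ∀ x ∈ (S.image Subtype.val : Finset K), IsIntegral k x := fun x _ =>
      ⟨Polynomial.X ^ p - Polynomial.C ⟨x ^ p, hkp x⟩,
        Polynomial.monic_X_pow_sub_C _ (Fact.out : p.Prime).ne_zero, by simp⟩
    have htop : Algebra.adjoin k ((S.image Subtype.val : Finset K) : Set K) = ⊤ := by
      refine eq_top_iff.2 fun x _ => ?_
      have hx : x ∈ Subring.closure ((EGA41Lib.pSub p k₀ K : Set K) ∪ Set.range (Subtype.val : B → K)) := by
        rw [(EGA41Lib.pGen_iff_closure p k₀ _).1 hB.2]; trivial
      refine (Subring.closure_le (t := (Algebra.adjoin k ((S.image Subtype.val : Finset K) : Set K)).toSubring)).2 ?_ hx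
      rintro z (hz | ⟨t, rfl⟩)
      · have hzk : z ∈ k := by
          induction hz using Algebra.adjoin_induction with
          | mem z hz => obtain ⟨y, rfl⟩ := hz; exact hkp y
          | algebraMap r => exact k.algebraMap_mem r
          | add _ _ _ _ h1 h2 => exact add_mem h1 h2
          | mul _ _ _ _ h1 h2 => exact mul_mem h1 h2
        exact Subalgebra.algebraMap_mem _ (⟨z, hzk⟩ : k)
      · by_cases ht : t ∈ S
        · exact Algebra.subset_adjoin (Finset.mem_coe.2 (Finset.mem_image_of_mem _ ht))
        · exact Subalgebra.algebraMap_mem _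
            (⟨t, IntermediateField.subset_adjoin k₀ G (Or.inr ⟨t, ht, rfl⟩)⟩ : k)
    have hfg := fg_adjoin_of_finite (Finset.finite_toSet _) fun x hx => hint x hx
    rw [htop] at hfg
    exact ⟨by simpa using hfg⟩
  · -- the coordinates in `S` factor through `Ω[K⁄k]`
    refine bL.repr.map_eq_zero_iff.mp (Finsupp.ext fun s => ?_)
    by_cases hs : s ∈ S
    swap
    · exact Finsupp.notMem_support_iff.mp fun h => hs ((Finsupp.mem_supported L _).mp (hsupp ω hω) h)
    let δ : Derivation k₀ K K := (b.coord s).compDer (KaehlerDifferential.D k₀ K)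
    have hδB : ∀ t : B, t ≠ s → δ t = 0 := fun t ht => by
      show b.coord s (KaehlerDifferential.D k₀ K t) = 0
      rw [← hb, Module.Basis.coord_apply, b.repr_self, Finsupp.single_eq_of_ne' ht]
    let Z : IntermediateField k₀ K :=
      { carrier := {z | δ z = 0}
        mul_mem' := fun {u v} (hu : δ u = 0) (hv : δ v = 0) => show δ (u * v) = 0 by
          rw [δ.leibniz, hu, hv, smul_zero, smul_zero, add_zero]
        one_mem' := δ.map_one_eq_zero
        add_mem' := fun {u v} (hu : δ u = 0) (hv : δ v = 0) => show δ (u + v) = 0 by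
          rw [map_add, hu, hv, add_zero]
        zero_mem' := map_zero δ
        algebraMap_mem' := fun r => δ.map_algebraMap r
        inv_mem' := fun u (hu : δ u = 0) => show δ u⁻¹ = 0 by rw [Derivation.leibniz_inv, hu, smul_zero] }
    have hkZ : k ≤ Z := by
      refine IntermediateField.adjoin_le_iff.2 ?_
      rintro _ (⟨y, rfl⟩ | ⟨t, ht, rfl⟩)
      · show δ (y ^ p) = 0
        rw [Derivation.leibniz_pow, ← Nat.cast_smul_eq_nsmul K, CharP.cast_eq_zero, zero_smul]
      · exact hδB t fun h => ht (h ▸ hs)
    let δk : Derivation k K K :=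
      { toFun := fun x => δ x
        map_add' := map_add δ
        map_smul' := fun c x => by
          have hc : δ (c : K) = 0 := hkZ c.2
          show δ ((c : K) * x) = (c : K) * δ x
          rw [δ.leibniz, hc, smul_zero, add_zero, smul_eq_mul]
        map_one_eq_zero' := δ.map_one_eq_zero
        leibniz' := δ.leibniz }
    have key : ∀ η : Ω[K⁄k₀], δk.liftKaehlerDifferential (KaehlerDifferential.map k₀ k K K η) = b.coord s η := by
      intro η
      induction (KaehlerDifferential.span_range_derivation k₀ K).ge (Submodule.mem_top (x := η))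
        using Submodule.span_induction with
      | mem y hy =>
        obtain ⟨a, rfl⟩ := hy
        rw [KaehlerDifferential.map_D, Derivation.liftKaehlerDifferential_comp_D]
        rfl
      | zero => simp
      | add u v _ _ hu hv => simp only [map_add, hu, hv]
      | smul c x _ hx =>
        rw [LinearMap.map_smul, LinearMap.map_smul, LinearMap.map_smul, hx]
    let Φ : L ⊗[K] Ω[K⁄k] →ₗ[L] L := ((Algebra.linearMap K L).comp δk.liftKaehlerDifferential).liftBaseChange L
    have hΦ : ∀ v : L ⊗[K] Ω[K⁄k₀],
        Φ (((KaehlerDifferential.map k₀ k K K).restrictScalars K).baseChange L v) = bL.repr v s := by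
      intro v
      induction v with
      | zero => simp
      | add u w hu hw => rw [map_add, map_add, hu, hw, map_add, Finsupp.add_apply]
      | tmul l η =>
        rw [LinearMap.baseChange_tmul, LinearMap.liftBaseChange_tmul, Module.Basis.baseChange_repr_tmul,
          LinearMap.comp_apply, LinearMap.restrictScalars_apply, key, Module.Basis.coord_apply,
          Algebra.linearMap_apply, smul_eq_mul, Algebra.smul_def (b.repr η s) l, mul_comm]
    rw [← hΦ ω, h0, map_zero, Finsupp.zero_apply]

end Groth.Agent.S4549
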