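import Groth.Statements.S4550
import Mathlib.RingTheory.MvPowerSeries.Expand
import Mathlib.LinearAlgebra.Dual.Lemmas
import Mathlib.RingTheory.MvPowerSeries.NoZeroDivisors

set_option autoImplicit false
universe u
open EGA41

namespace Groth.Agent.S4550

/-- Let k be a field, (k_α) a decreasing filtered family of subfields of k with intersection k₀, and
suppose there is a power q of the characteristic exponent of k with k^q ⊆ k₀. Then, inside k((T_1,
…, T_r)), one has ⋂_α k_α((T_1, …, T_r)) = k₀((T_1, …, T_r)); here F((T)) is the subfield of the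
fraction field of k[[T]] generated by the power series with all coefficients in F. -/
theorem result {k : Type u} [Field k] {ι : Type u} [Nonempty ι] (F : ι → Subfield k)
    (hdir : ∀ a b : ι, ∃ c, F c ≤ F a ⊓ F b) (e : ℕ) (hq : ∀ x : k, x ^ ringExpChar k ^ e ∈ ⨅ i, F i) (r : ℕ) :
    (⨅ i, Subfield.closure (algebraMap (MvPowerSeries (Fin r) k) (FractionRing (MvPowerSeries (Fin r) k)) ''
        {f | ∀ n, MvPowerSeries.coeff n f ∈ F i})) =
      Subfield.closure (algebraMap (MvPowerSeries (Fin r) k) (FractionRing (MvPowerSeries (Fin r) k)) ''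
        {f | ∀ n, MvPowerSeries.coeff n f ∈ ⨅ i, F i}) := by
  classical
  obtain ⟨a₀⟩ := ‹Nonempty ι›
  let P := MvPowerSeries (Fin r) k
  let α := algebraMap P (FractionRing P)
  -- the subring of power series with coefficients in a subfield
  let S : Subfield k → Subring P := fun E => (MvPowerSeries.map (σ := Fin r) E.subtype).range
  have hS : ∀ E : Subfield k, (S E : Set P) = {f | ∀ n, MvPowerSeries.coeff n f ∈ E} := fun E => by
    ext f
    refine ⟨?_, fun h => ⟨fun n => ⟨MvPowerSeries.coeff n f, h n⟩, MvPowerSeries.ext fun n => ?_⟩⟩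
    · rintro ⟨g, rfl⟩ n
      rw [MvPowerSeries.coeff_map]
      exact (MvPowerSeries.coeff n g).2
    · rw [MvPowerSeries.coeff_map]
      rfl
  have hmem : ∀ {E : Subfield k} {f : P}, f ∈ S E ↔ ∀ n, MvPowerSeries.coeff n f ∈ E := fun {E f} =>
    Set.ext_iff.mp (hS E) f
  have hcl : ∀ (E : Subfield k) x,
      x ∈ Subfield.closure (α '' {f | ∀ n, MvPowerSeries.coeff n f ∈ E}) →
        ∃ a ∈ S E, ∃ b ∈ S E, α a / α b = x := by
    intro E x hx
    rw [← hS, Subfield.mem_closure_iff] at hx
    have h : Subring.closure (α '' (S E : Set P)) = (S E).map α := by rw [← Subring.coe_map, Subring.closure_eq]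
    obtain ⟨y, hy, z, hz, rfl⟩ := hx
    rw [h] at hy hz
    obtain ⟨a, ha, rfl⟩ := hy
    obtain ⟨b, hb, rfl⟩ := hz
    exact ⟨a, ha, b, hb, rfl⟩
  refine le_antisymm (fun x hx => ?_) (le_iInf fun i => Subfield.closure_mono (Set.image_mono fun f hf n => ?_))
  swap
  · exact (iInf_le F i) (hf n)
  rw [← SetLike.mem_coe, Subfield.coe_iInf, Set.mem_iInter] at hx
  rcases eq_or_ne x 0 with rfl | hx0
  · exact zero_mem _
  have hinj : Function.Injective α := IsFractionRing.injective P (FractionRing P)
  obtain ⟨a, -, b, -, hab⟩ := hcl _ x (hx a₀)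
  have hb0 : b ≠ 0 := by rintro rfl; rw [map_zero, div_zero] at hab; exact hx0 hab.symm
  -- the exponential characteristic
  have hpk : ExpChar k (ringExpChar k) := ringExpChar.expChar k
  have hp0 : ringExpChar k ≠ 0 := expChar_ne_zero k _
  have hq0 : 0 < ringExpChar k ^ e := pow_pos (Nat.pos_of_ne_zero hp0) e
  set g := b ^ ringExpChar k ^ e with hg
  let h := a * b ^ (ringExpChar k ^ e - 1)
  have hgS : g ∈ S (⨅ i, F i) := by
    refine hmem.mpr fun n => ?_
    have hmap := MvPowerSeries.map_iterateFrobenius_expand (ringExpChar k) hp0 b e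
    rw [hg, ← hmap, MvPowerSeries.coeff_map, iterateFrobenius_def]
    exact hq _
  have hg0 : α g ≠ 0 := by rw [map_ne_zero_iff α hinj]; exact pow_ne_zero _ hb0
  have hx' : x = α h / α g := by
    have : α g = α b * α (b ^ (ringExpChar k ^ e - 1)) := by
      rw [← map_mul, hg, ← pow_succ', Nat.sub_add_cancel hq0]
    rw [← hab, this, map_mul]
    rw [mul_div_mul_right _ _ (by rw [map_ne_zero_iff α hinj]; exact pow_ne_zero _ hb0)]
  suffices hh : ∀ n, MvPowerSeries.coeff n h ∈ ⨅ i, F i by
    rw [hx']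
    exact div_mem (Subfield.subset_closure ⟨h, hh, rfl⟩) (Subfield.subset_closure ⟨g, hmem.mp hgS, rfl⟩)
  intro n
  rw [← SetLike.mem_coe, Subfield.coe_iInf, Set.mem_iInter]
  intro i
  obtain ⟨a', ha', b', hb', hab'⟩ := hcl _ x (hx i)
  have hb'0 : b' ≠ 0 := by rintro rfl; rw [map_zero, div_zero] at hab'; exact hx0 hab'.symm
  have heq : h * b' = a' * g := by
    refine hinj ?_
    rw [hx', div_eq_div_iff ((map_ne_zero_iff α hinj).mpr hb'0) hg0] at hab'
    rw [map_mul α h b', map_mul α a' g, hab']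
  by_contra hne
  -- a functional killing `1` but not this coefficient
  obtain ⟨φ, hφn, hφ1⟩ := Submodule.exists_le_ker_of_notMem (p := Submodule.span (F i) ({(1 : k)} : Set k))
    (v := MvPowerSeries.coeff n h) (fun hin => hne (by
      obtain ⟨c, hc⟩ := Submodule.mem_span_singleton.mp hin
      rw [← hc, Subfield.smul_def, smul_eq_mul, mul_one]
      exact c.2))
  have hφ : ∀ c ∈ F i, φ c = 0 := fun c hc => by
    have : c ∈ Submodule.span (F i) ({(1 : k)} : Set k) :=
      Submodule.mem_span_singleton.mpr ⟨⟨c, hc⟩, by rw [Subfield.smul_def, smul_eq_mul, mul_one]⟩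
    exact hφ1 this
  let Φ : P → MvPowerSeries (Fin r) (F i) := fun f m => φ (MvPowerSeries.coeff m f)
  obtain ⟨b'', rfl⟩ := hb'
  have hmul : Φ (h * MvPowerSeries.map (F i).subtype b'') = Φ h * b'' := by
    ext m : 1
    show φ (MvPowerSeries.coeff m _) = MvPowerSeries.coeff m (Φ h * b'')
    rw [MvPowerSeries.coeff_mul, MvPowerSeries.coeff_mul, map_sum]
    refine Finset.sum_congr rfl fun d _ => ?_
    rw [MvPowerSeries.coeff_map, mul_comm, mul_comm (MvPowerSeries.coeff d.1 (Φ h)),
      show ((F i).subtype (MvPowerSeries.coeff d.2 b'')) * MvPowerSeries.coeff d.1 h =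
        MvPowerSeries.coeff d.2 b'' • MvPowerSeries.coeff d.1 h from rfl, map_smul, smul_eq_mul]
    rfl
  have hzero : Φ (h * MvPowerSeries.map (F i).subtype b'') = 0 := by
    rw [heq]
    ext m : 1
    show φ (MvPowerSeries.coeff m (a' * g)) = 0
    refine hφ _ (hmem.mp ((S (F i)).mul_mem ha' ?_) m)
    exact hmem.mpr fun m => iInf_le F i (hmem.mp hgS m)
  have hb'' : b'' ≠ 0 := by rintro rfl; exact hb'0 (map_zero _)
  rw [hmul, mul_eq_zero, or_iff_left hb''] at hzero
  exact hφn (congrArg (MvPowerSeries.coeff n) hzero)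

end Groth.Agent.S4550
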