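import Groth.Statements.S4551
import Groth.Agent.EGA41Lib.GeomReducedApps
import Mathlib.RingTheory.MvPowerSeries.NoZeroDivisors
-- import your own Groth.Agent.* helpers here

set_option autoImplicit false
universe u
open EGA41

namespace Groth.Agent.S4551

/-- For every field k (any characteristic) the field of fractions k((T_1, …, T_r)) of the power series
ring k[[T_1, …, T_r]] is a separable extension of k, i.e. it is geometrically reduced over k. -/
theorem result (k : Type u) [Field k] (r : ℕ) :
    Algebra.IsGeometricallyReduced k (FractionRing (MvPowerSeries (Fin r) k)) := by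
  obtain ⟨p, hchar⟩ := CharP.exists k
  rcases CharP.char_is_prime_or_zero k p with hp | rfl
  · have : Fact p.Prime := ⟨hp⟩
    have : IsDomain (MvPowerSeries (Fin r) k) := NoZeroDivisors.to_isDomain _
    exact Groth.Agent.EGA41Lib.FrobLI.isGeometricallyReduced
      (Groth.Agent.EGA41Lib.FrobLI.of_isFractionRing (R := MvPowerSeries (Fin r) k)
        (Groth.Agent.EGA41Lib.frobLI_mvPowerSeries (p := p)))
  · have : CharZero k := CharP.charP_to_charZero k
    exact Groth.Agent.EGA41Lib.isGeometricallyReduced_of_charZero

end Groth.Agent.S4551
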