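import Mathlib
import Groth.Statements.S4552
-- import your own Groth.Agent.* helpers here

set_option autoImplicit false
universe u
open EGA41

namespace Groth.Agent.S4552

/-- For the 𝔞-adic topology on A and the deduced topology on M: the topological A-module M is formally
projective (for every open ideal 𝔞ⁿ, every pair of (A/𝔞ⁿ)-modules P, Q, every surjection P → Q and
every continuous A-linear map M → Q — here automatically continuous — there is a continuous A-linear
lift M → P) if and only if it is strictly formally projective, i.e. M/𝔞ⁿM is a projective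
(A/𝔞ⁿ)-module for every n. -/
theorem result {A : Type u} [CommRing A] (𝔞 : Ideal A) (M : Type u)
    [AddCommGroup M] [Module A M] :
    (∀ (n : ℕ) (P Q : Type u) [AddCommGroup P] [Module A P] [AddCommGroup Q] [Module A Q],
      (∀ a ∈ 𝔞 ^ n, ∀ y : P, a • y = 0) → (∀ a ∈ 𝔞 ^ n, ∀ y : Q, a • y = 0) →
      ∀ f : P →ₗ[A] Q, Function.Surjective f → ∀ v : M →ₗ[A] Q, ∃ w : M →ₗ[A] P, f ∘ₗ w = v) ↔
    ∀ n : ℕ, Module.Projective (A ⧸ 𝔞 ^ n) (M ⧸ (𝔞 ^ n • ⊤ : Submodule A M)) := by
  constructor
  · intro h n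
    set I := 𝔞 ^ n
    set Mn := M ⧸ (I • ⊤ : Submodule A M)
    let π : (Mn →₀ (A ⧸ I)) →ₗ[A ⧸ I] Mn := Finsupp.linearCombination (A ⧸ I) id
    have hπ : Function.Surjective π := fun x => ⟨Finsupp.single x 1, by simp [π]⟩
    have hkill : ∀ {X : Type u} [AddCommGroup X] [Module A X] [Module (A ⧸ I) X] [IsScalarTower A (A ⧸ I) X], ∀ a ∈ I, ∀ y : X, a • y = 0 := by
      intro X _ _ _ _ a ha y
      rw [← algebraMap_smul (A ⧸ I) a, Ideal.Quotient.algebraMap_eq, Ideal.Quotient.eq_zero_iff_mem.2 ha, zero_smul]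
    obtain ⟨w, hw⟩ := h n (Mn →₀ (A ⧸ I)) Mn hkill hkill (π.restrictScalars A) hπ (Submodule.mkQ _)
    let w' : Mn →ₗ[A] (Mn →₀ (A ⧸ I)) := Submodule.liftQ _ w (by
      rw [Submodule.smul_le]
      intro a ha y _
      rw [LinearMap.mem_ker, map_smul]
      exact hkill a ha _)
    let w'' : Mn →ₗ[A ⧸ I] (Mn →₀ (A ⧸ I)) := w'.extendScalarsOfSurjective Ideal.Quotient.mk_surjective
    refine Module.Projective.of_split w'' π (LinearMap.ext fun x => ?_)
    obtain ⟨y, rfl⟩ := Submodule.Quotient.mk_surjective _ x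
    exact LinearMap.congr_fun hw y
  · intro h n P Q _ _ _ _ hP hQ f hf v
    set I := 𝔞 ^ n
    haveI := h n
    have hP' : Module.IsTorsionBySet A P (I : Set A) := fun y a => hP a a.2 y
    have hQ' : Module.IsTorsionBySet A Q (I : Set A) := fun y a => hQ a a.2 y
    letI : Module (A ⧸ I) P := hP'.module
    letI : Module (A ⧸ I) Q := hQ'.module
    haveI : IsScalarTower A (A ⧸ I) P := hP'.isScalarTower
    haveI : IsScalarTower A (A ⧸ I) Q := hQ'.isScalarTower
    let v' : (M ⧸ (I • ⊤ : Submodule A M)) →ₗ[A] Q := Submodule.liftQ _ v (by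
      rw [Submodule.smul_le]
      intro a ha y _
      rw [LinearMap.mem_ker, map_smul]
      exact hQ a ha _)
    obtain ⟨g, hg⟩ := Module.projective_lifting_property (f.extendScalarsOfSurjective (S := A ⧸ I) Ideal.Quotient.mk_surjective)
      (v'.extendScalarsOfSurjective (S := A ⧸ I) Ideal.Quotient.mk_surjective) hf
    refine ⟨(g.restrictScalars A).comp (Submodule.mkQ _), LinearMap.ext fun x => ?_⟩
    exact LinearMap.congr_fun hg (Submodule.Quotient.mk x)

end Groth.Agent.S4552
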