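import Groth.Statements.S4555
import Mathlib.RingTheory.MvPowerSeries.Equiv
import Mathlib.RingTheory.Nilpotent.Lemmas
import Mathlib.RingTheory.Noetherian.Basic
set_option linter.unusedVariables false

set_option autoImplicit false
universe u
open EGA41

namespace Groth.Agent.S4555


/-- A power series without terms of degree `< N` lies in `J ^ N` as soon as all variables lie in `J`. -/
lemma mem_pow_of_coeff {A : Type u} [CommRing A] {n : ℕ} {J : Ideal (MvPowerSeries (Fin n) A)}
    (hJ : ∀ i, MvPowerSeries.X i ∈ J) : ∀ (N : ℕ) (p : MvPowerSeries (Fin n) A),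
      (∀ e : Fin n →₀ ℕ, e.degree < N → MvPowerSeries.coeff e p = 0) → p ∈ J ^ N := by
  classical
  intro N
  induction N with
  | zero => intro p _; rw [pow_zero, Ideal.one_eq_top]; trivial
  | succ N ih =>
    intro p hp
    let q : Fin n → MvPowerSeries (Fin n) A := fun i e =>
      if ∀ j < i, e j = 0 then MvPowerSeries.coeff (e + Finsupp.single i 1) p else 0
    have hq : ∀ i e, MvPowerSeries.coeff e (q i) =
        if ∀ j < i, e j = 0 then MvPowerSeries.coeff (e + Finsupp.single i 1) p else 0 := fun _ _ => rfl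
    have hsum : p = ∑ i, MvPowerSeries.X i * q i := by
      ext e
      rw [map_sum]
      have hterm : ∀ i, MvPowerSeries.coeff e (MvPowerSeries.X i * q i) =
          if 1 ≤ e i ∧ ∀ j < i, e j = 0 then MvPowerSeries.coeff e p else 0 := by
        intro i
        rw [MvPowerSeries.X_def, MvPowerSeries.coeff_monomial_mul, one_mul]
        by_cases h : 1 ≤ e i
        · rw [if_pos (Finsupp.single_le_iff.2 h), hq, tsub_add_cancel_of_le (Finsupp.single_le_iff.2 h)]
          have : ∀ j < i, (e - Finsupp.single i 1 : Fin n →₀ ℕ) j = e j := fun j hj => by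
            rw [Finsupp.tsub_apply, Finsupp.single_eq_of_ne hj.ne, Nat.sub_zero]
          by_cases h' : ∀ j < i, e j = 0
          · rw [if_pos (fun j hj => (this j hj).trans (h' j hj)), if_pos ⟨h, h'⟩]
          · rw [if_neg (fun H => h' fun j hj => (this j hj) ▸ H j hj), if_neg (fun H => h' H.2)]
        · rw [if_neg (fun H => h (Finsupp.single_le_iff.1 H)), if_neg (fun H => h H.1)]
      simp only [hterm]
      by_cases he : e = 0
      · subst he
        rw [hp 0 (by simp), Finset.sum_eq_zero]
        intro i _; simp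
      · have hne : (Finset.univ.filter fun i => 1 ≤ e i).Nonempty := by
          by_contra hemp
          refine he (Finsupp.ext fun i => ?_)
          by_contra hi
          exact hemp ⟨i, Finset.mem_filter.2 ⟨Finset.mem_univ _, Nat.one_le_iff_ne_zero.2 hi⟩⟩
        set i0 := (Finset.univ.filter fun i => 1 ≤ e i).min' hne
        have hi0 : 1 ≤ e i0 := (Finset.mem_filter.1 (Finset.min'_mem _ hne)).2
        have hlt : ∀ j < i0, e j = 0 := fun j hj => by
          by_contra h
          exact absurd (Finset.min'_le _ j (Finset.mem_filter.2 ⟨Finset.mem_univ _, Nat.one_le_iff_ne_zero.2 h⟩)) (not_le.2 hj)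
        rw [Finset.sum_eq_single i0]
        · rw [if_pos ⟨hi0, hlt⟩]
        · intro j _ hj
          rw [if_neg]
          rintro ⟨h1, h2⟩
          rcases lt_or_gt_of_ne hj with h | h
          · rw [hlt j h] at h1; omega
          · have := h2 i0 h; omega
        · simp
    rw [hsum, pow_succ']
    refine Ideal.sum_mem _ fun i _ => Ideal.mul_mem_mul (hJ i) (ih _ fun e he => ?_)
    rw [hq]
    split
    · apply hp
      rw [map_add, Finsupp.degree_single]; omega
    · rfl

/-- Let A carry the 𝔞-adic topology, B = A[[T_1, …, T_n]] the product topology (the adic topology of 𝔞B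
+ (T_1, …, T_n)), and let E be a discrete topological A-algebra (a power of 𝔞 kills E). (i) If f : B
→ E is a continuous A-algebra homomorphism then each f(T_i) is nilpotent. (ii) Conversely, for every
family (z_i) of nilpotent elements of E there is one and only one continuous A-algebra homomorphism
g : B → E with g(T_i) = z_i for all i. -/
theorem result (A : Type u) [CommRing A] (𝔞 : Ideal A) (n : ℕ) (E : Type u) [CommRing E]
    [Algebra A E] (hE : ∃ k : ℕ, (𝔞 ^ k).map (algebraMap A E) = ⊥) :
    (∀ f : MvPowerSeries (Fin n) A →ₐ[A] E,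
      (∃ m : ℕ, ∀ x ∈ (𝔞.map (MvPowerSeries.C : A →+* MvPowerSeries (Fin n) A) ⊔
        RingHom.ker (MvPowerSeries.constantCoeff : MvPowerSeries (Fin n) A →+* A)) ^ m, f x = 0) →
      ∀ i, IsNilpotent (f (MvPowerSeries.X i))) ∧
    ∀ z : Fin n → E, (∀ i, IsNilpotent (z i)) →
      ∃! g : MvPowerSeries (Fin n) A →ₐ[A] E,
        (∃ m : ℕ, ∀ x ∈ (𝔞.map (MvPowerSeries.C : A →+* MvPowerSeries (Fin n) A) ⊔
          RingHom.ker (MvPowerSeries.constantCoeff : MvPowerSeries (Fin n) A →+* A)) ^ m, g x = 0) ∧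
        ∀ i, g (MvPowerSeries.X i) = z i := by
  classical
  set J := 𝔞.map (MvPowerSeries.C : A →+* MvPowerSeries (Fin n) A) ⊔
        RingHom.ker (MvPowerSeries.constantCoeff : MvPowerSeries (Fin n) A →+* A) with hJdef
  have hXJ : ∀ i, MvPowerSeries.X i ∈ J := fun i => Ideal.mem_sup_right (MvPowerSeries.constantCoeff_X i)
  refine ⟨?_, ?_⟩
  · rintro f ⟨m, hm⟩ i
    exact ⟨m, by rw [← map_pow]; exact hm _ (Ideal.pow_mem_pow (hXJ i) m)⟩
  intro z hz
  obtain ⟨k, hk⟩ := hE
  let Z : Ideal E := 𝔞.map (algebraMap A E) ⊔ Ideal.span (Set.range z)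
  obtain ⟨N, hN⟩ : ∃ N, Z ^ N = ⊥ := by
    have h1 : IsNilpotent (𝔞.map (algebraMap A E)) := ⟨k, by rw [← Ideal.map_pow, hk]; rfl⟩
    have h2 : IsNilpotent (Ideal.span (Set.range z)) := by
      have hle : Ideal.span (Set.range z) ≤ (⊥ : Ideal E).radical := by
        rw [Ideal.span_le]
        rintro _ ⟨i, rfl⟩
        obtain ⟨j, hj⟩ := hz i
        exact ⟨j, by rw [Ideal.mem_bot, hj]⟩
      obtain ⟨j, hj⟩ := Ideal.exists_pow_le_of_le_radical_of_fg hle ⟨(Set.finite_range z).toFinset, by simp⟩
      exact ⟨j, le_bot_iff.1 hj⟩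
    obtain ⟨N, hN⟩ := Commute.isNilpotent_add (Commute.all _ _) h1 h2
    exact ⟨N, hN⟩
  have hzN : MvPolynomial.idealOfVars (Fin n) A ^ N ≤ RingHom.ker (MvPolynomial.aeval z : MvPolynomial (Fin n) A →ₐ[A] E) := by
    intro x hx
    rw [RingHom.mem_ker, ← Ideal.mem_bot, ← hN]
    refine Ideal.pow_right_mono ?_ N (by
      have := Ideal.mem_map_of_mem (MvPolynomial.aeval z : MvPolynomial (Fin n) A →ₐ[A] E) hx
      rwa [Ideal.map_pow] at this)
    rw [MvPolynomial.idealOfVars, Ideal.map_span, Ideal.span_le]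
    rintro _ ⟨_, ⟨i, rfl⟩, rfl⟩
    rw [MvPolynomial.aeval_X]
    exact Ideal.mem_sup_right (Ideal.subset_span ⟨i, rfl⟩)
  let g : MvPowerSeries (Fin n) A →ₐ[A] E :=
    (Ideal.Quotient.liftₐ (MvPolynomial.idealOfVars (Fin n) A ^ N) (MvPolynomial.aeval z) (fun a ha => RingHom.mem_ker.1 (hzN ha))).comp
      ((MvPowerSeries.truncTotalAlgHom (Fin n) A N).restrictScalars A)
  have hg : ∀ x, g x = MvPolynomial.aeval z (MvPowerSeries.truncTotal N x) := fun x => rfl
  have hgX : ∀ i, g (MvPowerSeries.X i) = z i := by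
    intro i
    have e : (Ideal.Quotient.mk (MvPolynomial.idealOfVars (Fin n) A ^ N)) (MvPowerSeries.truncTotal N (MvPowerSeries.X i)) =
        Ideal.Quotient.mk _ (MvPolynomial.X i) := by
      rw [← MvPolynomial.coe_X]
      exact (MvPowerSeries.truncTotalAlgHom (Fin n) A N).commutes (MvPolynomial.X i)
    change Ideal.Quotient.liftₐ (MvPolynomial.idealOfVars (Fin n) A ^ N) (MvPolynomial.aeval z) (fun a ha => RingHom.mem_ker.1 (hzN ha)) (Ideal.Quotient.mk _ _) = _
    rw [e]
    exact MvPolynomial.aeval_X z i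
  have hgJ : ∀ x ∈ J, g x ∈ Z := by
    intro x hx
    rw [hJdef, Submodule.mem_sup] at hx
    obtain ⟨a, ha, b, hb, rfl⟩ := hx
    rw [map_add]
    refine Z.add_mem ?_ ?_
    · refine Ideal.mem_sup_left ?_
      have hle : 𝔞.map (MvPowerSeries.C : A →+* MvPowerSeries (Fin n) A) ≤ (𝔞.map (algebraMap A E)).comap g := by
        rw [Ideal.map_le_iff_le_comap]
        intro r hr
        have hCr : MvPowerSeries.C r = algebraMap A (MvPowerSeries (Fin n) A) r := by simp [MvPowerSeries.algebraMap_apply]
        rw [Ideal.mem_comap, Ideal.mem_comap, hCr]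
        rw [g.commutes]
        exact Ideal.mem_map_of_mem _ hr
      exact hle ha
    · refine Ideal.mem_sup_right ?_
      rw [hg, MvPolynomial.aeval_def, MvPolynomial.eval₂_eq]
      refine Ideal.sum_mem _ fun e he => ?_
      have he0 : e ≠ 0 := by
        rintro rfl
        rw [MvPolynomial.mem_support_iff] at he
        rcases Nat.eq_zero_or_pos N with h | h
        · exact he (MvPowerSeries.coeff_truncTotal_eq_zero _ (by simp [h]))
        · rw [MvPowerSeries.coeff_truncTotal _ (by simpa using h)] at he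
          exact he hb
      obtain ⟨i, hi⟩ := Finsupp.support_nonempty_iff.2 he0
      refine Ideal.mul_mem_left _ _ ?_
      rw [← Finset.mul_prod_erase _ _ hi]
      exact Ideal.mul_mem_right _ _ (Ideal.pow_mem_of_mem _ (Ideal.subset_span (Set.mem_range_self i)) _
        (Nat.pos_of_ne_zero (Finsupp.mem_support_iff.1 hi)))
  refine ⟨g, ⟨⟨N, fun x hx => ?_⟩, hgX⟩, ?_⟩
  · rw [← Ideal.mem_bot, ← hN]
    have h := Ideal.mem_map_of_mem g hx
    rw [Ideal.map_pow] at h
    exact Ideal.pow_right_mono (Ideal.map_le_iff_le_comap.2 hgJ) N h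
  rintro h ⟨⟨m, hm⟩, hhX⟩
  have hgN : ∀ x ∈ J ^ N, g x = 0 := fun x hx => by
    rw [← Ideal.mem_bot, ← hN]
    have h := Ideal.mem_map_of_mem g hx
    rw [Ideal.map_pow] at h
    exact Ideal.pow_right_mono (Ideal.map_le_iff_le_comap.2 hgJ) N h
  refine AlgHom.ext fun x => ?_
  set M := max m N
  have hd : x - (MvPowerSeries.truncTotal M x : MvPowerSeries (Fin n) A) ∈ J ^ M := mem_pow_of_coeff hXJ M _ fun e he => by
    rw [map_sub, MvPolynomial.coeff_coe, MvPowerSeries.coeff_truncTotal _ he, sub_self]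
  have e1 : h x = h (MvPowerSeries.truncTotal M x : MvPowerSeries (Fin n) A) := by
    rw [← sub_eq_zero, ← map_sub]; exact hm _ (Ideal.pow_le_pow_right (le_max_left m N) hd)
  have e2 : g x = g (MvPowerSeries.truncTotal M x : MvPowerSeries (Fin n) A) := by
    rw [← sub_eq_zero, ← map_sub]; exact hgN _ (Ideal.pow_le_pow_right (le_max_right m N) hd)
  rw [e1, e2]
  have : h.comp (MvPolynomial.coeToMvPowerSeries.algHom A) = g.comp (MvPolynomial.coeToMvPowerSeries.algHom A) :=
    MvPolynomial.algHom_ext fun i => by simp [hhX, hgX]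
  have e3 := AlgHom.congr_fun this (MvPowerSeries.truncTotal M x)
  simpa using e3

end Groth.Agent.S4555
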