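import Mathlib
import Groth.Statements.S4556
-- import your own Groth.Agent.* helpers here

set_option autoImplicit false
universe u
open EGA41

namespace Groth.Agent.S4556

/-- Let B be a formally smooth A-algebra, E and E' two A-algebras, R (resp. R') a nilpotent ideal of E
(resp. E'), f : E → E' a surjective A-algebra homomorphism with f(R) = R', and f' : E/R → E'/R' the
induced homomorphism. Let u : B → E/R be an A-algebra homomorphism and v' : B → E' an A-algebra
homomorphism through which f' ∘ u factors (v' followed by E' → E'/R' equals f' ∘ u). Then there is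
an A-algebra homomorphism v : B → E with f ∘ v = v'. (The published statement assumes only f(R) ⊆
R'; in that form it fails for B = ℚ[x, x⁻¹], E = ℚ[t], E' = ℚ[t]/(t²), R = 0, R' = (t), u : x ↦ 1
and v' : x ↦ 1 + t, since any v sends x to a unit of ℚ[t], a constant; the argument identifies R'
with the image of R, and that equality is assumed here.) -/
theorem result {A B E E' : Type u} [CommRing A] [CommRing B] [Algebra A B]
    [Algebra.FormallySmooth A B] [CommRing E] [CommRing E'] [Algebra A E] [Algebra A E']
    (R : Ideal E) (R' : Ideal E') (hR : IsNilpotent R) (hR' : IsNilpotent R')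
    (f : E →ₐ[A] E') (hf : Function.Surjective f) (hfR : R.map f.toRingHom = R')
    (u : B →ₐ[A] E ⧸ R) (v' : B →ₐ[A] E')
    (huv : (Ideal.Quotient.mkₐ A R').comp v' =
      (Ideal.quotientMapₐ R' f (fun x hx => hfR.le (Ideal.mem_map_of_mem f.toRingHom hx))).comp u) :
    ∃ v : B →ₐ[A] E, f.comp v = v' := by
  let φ : E →ₐ[A] (E ⧸ R) × E' := (Ideal.Quotient.mkₐ A R).prod f
  have hmem : ∀ b, (u b, v' b) ∈ φ.range := by
    intro b
    obtain ⟨e, he⟩ := Ideal.Quotient.mk_surjective (u b)
    have h1 : Ideal.Quotient.mk R' (v' b) = Ideal.Quotient.mk R' (f e) := by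
      have h0 := AlgHom.congr_fun huv b
      simp only [AlgHom.comp_apply, ← he] at h0
      exact h0
    have hf' : Function.Surjective f.toRingHom := hf
    rw [Ideal.Quotient.eq, ← hfR, Ideal.mem_map_iff_of_surjective f.toRingHom hf'] at h1
    obtain ⟨r, hr, hre⟩ := h1
    refine ⟨e + r, Prod.ext ?_ ?_⟩
    · show Ideal.Quotient.mk R (e + r) = u b
      rw [map_add, Ideal.Quotient.eq_zero_iff_mem.2 hr, add_zero, he]
    · show f (e + r) = v' b
      rw [map_add, show f r = v' b - f e from hre, add_sub_cancel]
  let w : B →ₐ[A] φ.range := (u.prod v').codRestrict _ hmem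
  have hker : IsNilpotent (RingHom.ker (φ.rangeRestrict : E →+* φ.range)) := by
    obtain ⟨n, hn⟩ := hR
    refine ⟨n, le_bot_iff.1 ?_⟩
    refine le_trans (Ideal.pow_right_mono ?_ n) (le_of_eq hn)
    intro x hx
    have := congrArg Subtype.val hx
    exact Ideal.Quotient.eq_zero_iff_mem.1 (congrArg Prod.fst this)
  refine ⟨Algebra.FormallySmooth.liftOfSurjective w φ.rangeRestrict φ.rangeRestrict_surjective hker, ?_⟩
  ext b
  have := Algebra.FormallySmooth.liftOfSurjective_apply w φ.rangeRestrict φ.rangeRestrict_surjective hker b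
  exact congrArg Prod.snd (congrArg Subtype.val this)

end Groth.Agent.S4556
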