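import Groth.Statements.S4557
import Groth.Agent.ComplDeriv.Unram
import Groth.Agent.ComplDeriv.PowerSeries
import Groth.Agent.DimTrdeg.Basic
import Mathlib.FieldTheory.SeparableClosure
import Mathlib.RingTheory.Unramified.Field

set_option autoImplicit false
universe u
open EGA41 IsLocalRing TensorProduct

namespace Groth.Agent.S4557

theorem result (k : Type u) [Field k] (r : ℕ) (A : Type u) [CommRing A]
    [IsDomain A] [IsLocalRing A] [IsNoetherianRing A] [IsAdicComplete (maximalIdeal A) A]
    [Algebra (MvPowerSeries (Fin r) k) A] [Algebra k A] [IsScalarTower k (MvPowerSeries (Fin r) k) A]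
    (hinj : Function.Injective (algebraMap (MvPowerSeries (Fin r) k) A)) [Module.Finite (MvPowerSeries (Fin r) k) A]
    (hsep : ∀ a : A, ∃ P : Polynomial (MvPowerSeries (Fin r) k), Polynomial.aeval a P = 0 ∧
      (P.map (algebraMap (MvPowerSeries (Fin r) k) (FractionRing (MvPowerSeries (Fin r) k)))).Separable) :
    Module.finrank (FractionRing A) (FractionRing A ⊗[A] AdicCompletion (maximalIdeal A) (Ω[A⁄k])) = r := by
  classical
  let R := MvPowerSeries (Fin r) k
  let E := FractionRing A
  have : IsDomain R := NoZeroDivisors.to_isDomain _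
  have hint : Algebra.IsIntegral R A := Algebra.IsIntegral.of_finite R A
  have hloc : IsLocalHom (algebraMap R A) := RingHom.IsIntegral.isLocalHom
    (Algebra.isIntegral_def.mp hint |> fun h => fun x => h x) hinj
  have hres : Module.Finite k (ResidueField A) := by
    have h1 : Module.Finite R (ResidueField A) := Module.Finite.of_surjective
      (IsScalarTower.toAlgHom R A (ResidueField A)).toLinearMap residue_surjective
    obtain ⟨s, hs⟩ := h1.fg_top
    refine ⟨⟨s, ?_⟩⟩
    rw [Submodule.eq_top_iff']
    intro z
    have hz : z ∈ Submodule.span R (s : Set (ResidueField A)) := by rw [hs]; trivial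
    induction hz using Submodule.span_induction with
    | mem z hz => exact Submodule.subset_span hz
    | zero => exact zero_mem _
    | add a b _ _ ha hb => exact add_mem ha hb
    | smul c z _ hz =>
      have h0 : algebraMap R (ResidueField A) c = algebraMap k (ResidueField A) (MvPowerSeries.constantCoeff c) := by
        rw [IsScalarTower.algebraMap_apply k A (ResidueField A), IsScalarTower.algebraMap_apply k R A,
          IsScalarTower.algebraMap_apply R A (ResidueField A)]
        refine (Ideal.Quotient.eq).mpr ?_
        rw [← map_sub]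
        refine (mem_maximalIdeal _).mpr fun h => ?_
        have h' := (isUnit_map_iff (algebraMap R A) _).mp h
        rw [MvPowerSeries.isUnit_iff_constantCoeff] at h'
        exact (not_isUnit_zero (M₀ := k)) (by simpa [R, MvPowerSeries.algebraMap_apply] using h')
      rw [Algebra.smul_def, h0, ← Algebra.smul_def]
      exact Submodule.smul_mem _ _ hz
  -- lower bound
  obtain ⟨d, D, hd, hD⟩ := ComplDeriv.exists_derivations_domain k A
  have hdr : d = r := by
    have h1 : ringKrullDim R = ringKrullDim A := by
      have : FaithfulSMul R A := (faithfulSMul_iff_algebraMap_injective R A).mpr hinj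
      exact (DimTrdeg.ringKrullDim_eq_of_isIntegral R A hinj).symm
    rw [ComplDeriv.ringKrullDim_powerSeries r k, hd] at h1
    exact_mod_cast h1.symm
  subst hdr
  choose l hl using fun i => ComplDeriv.exists_lift k A (D i)
  let L : E ⊗[A] ComplDeriv.Om k A →ₗ[E] (Fin d → E) :=
    LinearMap.pi fun i => ((Algebra.linearMap A E).comp (l i)).liftBaseChange E
  have hrange : LinearMap.range L = ⊤ := by
    by_contra h
    obtain ⟨φ, hφ, hle⟩ := Submodule.exists_le_ker_of_lt_top _ (lt_top_iff_ne_top.mpr h)
    refine hφ (LinearMap.ext fun v => ?_)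
    have hg : ∀ i, φ (Pi.single i 1) = 0 := hD (fun i => φ (Pi.single i 1)) fun b => by
      have h1 : φ (L (1 ⊗ₜ ComplDeriv.dOm k A b)) = 0 := hle ⟨_, rfl⟩
      rw [← h1, φ.pi_apply_eq_sum_univ]
      exact Finset.sum_congr rfl fun i _ => by
        rw [show (fun j => if i = j then (1 : E) else 0) = Pi.single i 1 from funext fun j => by
          simp [Pi.single_apply, eq_comm]]
        simp [L, hl, mul_comm]
        exact Or.inl rfl
    rw [LinearMap.zero_apply, φ.pi_apply_eq_sum_univ]
    exact Finset.sum_eq_zero fun i _ => by
      rw [show (fun j => if i = j then (1 : E) else 0) = Pi.single i 1 from funext fun j => by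
        simp [Pi.single_apply, eq_comm], hg, smul_zero]
  have hfin := (ComplDeriv.exists_finite_gen k A).1
  have hlow : d ≤ Module.finrank E (E ⊗[A] ComplDeriv.Om k A) := by
    have h := L.finrank_range_le
    rwa [hrange, finrank_top, Module.finrank_pi, Fintype.card_fin] at h
  -- upper bound
  let p : Ideal A := ⊥
  have hp : p.IsPrime := Ideal.isPrime_bot
  let K := Localization.AtPrime p
  have : IsFractionRing A K := by
    have h : p.primeCompl = nonZeroDivisors A := by
      ext x
      rw [mem_nonZeroDivisors_iff_ne_zero]
      rfl
    show IsLocalization (nonZeroDivisors A) K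
    rw [← h]
    infer_instance
  let F := FractionRing R
  let _ : Field K := IsFractionRing.toField A
  have : FaithfulSMul R K := (faithfulSMul_iff_algebraMap_injective R K).mpr (by
    rw [IsScalarTower.algebraMap_eq R A K]; exact (IsFractionRing.injective A K).comp hinj)
  let _ : Algebra F K := FractionRing.liftAlgebra R K
  have : IsScalarTower R F K := FractionRing.isScalarTower_liftAlgebra R K
  have hmem : ∀ a : A, algebraMap A K a ∈ separableClosure F K := fun a => by
    obtain ⟨P, hP, hPs⟩ := hsep a
    rw [mem_separableClosure_iff]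
    refine hPs.of_dvd (minpoly.dvd F _ ?_)
    rw [Polynomial.aeval_map_algebraMap, Polynomial.aeval_algebraMap_apply, hP, map_zero]
  have : Algebra.IsSeparable F K := (separableClosure.eq_top_iff F K).mp (eq_top_iff.mpr fun y _ => by
    obtain ⟨a, b, _, rfl⟩ := IsFractionRing.div_surjective (A := A) y
    exact div_mem (hmem a) (hmem b))
  have : Algebra.FormallyUnramified F K := Algebra.FormallyUnramified.of_isSeparable F K
  have : Algebra.FormallyUnramified R F := Algebra.FormallyUnramified.of_isLocalization (nonZeroDivisors R)
  have hun : Algebra.IsUnramifiedAt R p := Algebra.FormallyUnramified.comp R F K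
  have hs := ComplDeriv.span_of_unramified k A p (m := d)
  refine le_antisymm ?_ hlow
  let w : Fin d → ComplDeriv.Om k A := fun i => ComplDeriv.dOm k A (algebraMap R A (MvPowerSeries.X i))
  have hspan : Submodule.span E (Set.range fun i => (1 : E) ⊗ₜ[A] w i) = ⊤ := eq_top_iff.mpr fun v _ => by
    induction v with
    | zero => exact zero_mem _
    | add a b ha hb => exact add_mem (ha trivial) (hb trivial)
    | tmul c z =>
      obtain ⟨s, hs', hsz⟩ := hs z
      have h0 : algebraMap A E s ≠ 0 := fun h => hs' ((map_eq_zero_iff _ (IsFractionRing.injective A E)).mp h)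
      have key : ∀ x ∈ Submodule.span A (Set.range w),
          (1 : E) ⊗ₜ[A] x ∈ Submodule.span E (Set.range fun i => (1 : E) ⊗ₜ[A] w i) := by
        intro x hx
        induction hx using Submodule.span_induction with
        | mem x hx => obtain ⟨j, rfl⟩ := hx; exact Submodule.subset_span ⟨j, rfl⟩
        | zero => simp
        | add u v _ _ hu hv => rw [TensorProduct.tmul_add]; exact add_mem hu hv
        | smul a u _ hu => rw [TensorProduct.tmul_smul]; exact Submodule.smul_of_tower_mem _ a hu
      have h1 : c ⊗ₜ[A] z = (c * (algebraMap A E s)⁻¹) • ((1 : E) ⊗ₜ[A] (s • z)) := by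
        rw [TensorProduct.smul_tmul', smul_eq_mul, mul_one, ← TensorProduct.smul_tmul, Algebra.smul_def,
          mul_comm, inv_mul_cancel_right₀ h0]
      rw [h1]
      exact Submodule.smul_mem _ _ (key _ hsz)
  calc Module.finrank E (E ⊗[A] ComplDeriv.Om k A)
      = Module.finrank E (Submodule.span E (Set.range fun i => (1 : E) ⊗ₜ[A] w i)) := by rw [hspan, finrank_top]
    _ ≤ d := (finrank_range_le_card _).trans_eq (Fintype.card_fin d)

end Groth.Agent.S4557
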