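import Groth.Statements.S4558
import Groth.Agent.AdicLim.Noetherian
import Mathlib.RingTheory.AdicCompletion.Exactness
import Mathlib.RingTheory.Kaehler.Basic
-- import your own Groth.Agent.* helpers here

set_option autoImplicit false
universe u
open EGA41

namespace Groth.Agent.S4558

/-- Let A be a discrete ring, B an adic topological A-algebra with ideal of definition 𝔫 (B separated
and complete for the 𝔫-adic topology) and B₀ = B/𝔫. If Ω_{B₀/A} and 𝔫/𝔫² are B₀-modules of finite
type, then Ω̂_{B/A}, the 𝔫-adic completion of Ω_{B/A}, is a B-module of finite type. -/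
theorem result {A B : Type u} [CommRing A] [CommRing B] [Algebra A B] (𝔫 : Ideal B)
    [IsAdicComplete 𝔫 B] [Module.Finite (B ⧸ 𝔫) (Ω[B ⧸ 𝔫⁄A])] [Module.Finite (B ⧸ 𝔫) 𝔫.Cotangent] :
    Module.Finite B (AdicCompletion 𝔫 (Ω[B⁄A])) := by
  classical
  let M := Ω[B⁄A]
  let B₀ := B ⧸ 𝔫
  obtain ⟨g, ω, hω⟩ := Module.Finite.exists_fin (R := B₀) (M := Ω[B₀⁄A])
  obtain ⟨c, ξ, hξ⟩ := Module.Finite.exists_fin (R := B₀) (M := 𝔫.Cotangent)
  choose ω' hω' using fun i => KaehlerDifferential.map_surjective_of_surjective A A B B₀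
    Ideal.Quotient.mk_surjective (ω i)
  choose x hx using fun i => 𝔫.toCotangent_surjective (ξ i)
  let z : Fin g ⊕ Fin c → M := Sum.elim ω' (fun i => KaehlerDifferential.D A B (x i : B))
  let W : Submodule B M := Submodule.span B (Set.range z) ⊔ 𝔫 • ⊤
  have hsq : ∀ y ∈ 𝔫 ^ 2, KaehlerDifferential.D A B y ∈ W := by
    intro y hy
    rw [pow_two] at hy
    refine Submodule.mul_induction_on hy (fun a ha b hb => ?_) (fun a b ha hb => ?_)
    · rw [Derivation.leibniz]
      exact Submodule.mem_sup_right (add_mem (Submodule.smul_mem_smul ha Submodule.mem_top)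
        (Submodule.smul_mem_smul hb Submodule.mem_top))
    · rw [map_add]; exact add_mem ha hb
  have hn : ∀ y ∈ 𝔫, KaehlerDifferential.D A B y ∈ W := by
    intro y hy
    have hm : 𝔫.toCotangent ⟨y, hy⟩ ∈ Submodule.span B₀ (Set.range ξ) := hξ ▸ Submodule.mem_top
    obtain ⟨b, hb⟩ := (Submodule.mem_span_range_iff_exists_fun B₀).1 hm
    choose b' hb' using fun i => Ideal.Quotient.mk_surjective (b i)
    have he : 𝔫.toCotangent (∑ i, b' i • x i) = 𝔫.toCotangent ⟨y, hy⟩ := by
      rw [map_sum, ← hb]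
      refine Finset.sum_congr rfl fun i _ => ?_
      rw [map_smul, hx, ← hb']
      rfl
    have h2 := hsq _ ((Ideal.toCotangent_eq _).1 he.symm)
    rw [map_sub] at h2
    have h3 : KaehlerDifferential.D A B ((∑ i, b' i • x i : 𝔫) : B) ∈ W := by
      rw [Submodule.coe_sum, map_sum]
      refine W.sum_mem fun i _ => ?_
      rw [Submodule.coe_smul, smul_eq_mul, Derivation.leibniz]
      exact add_mem (W.smul_mem _ (Submodule.mem_sup_left (Submodule.subset_span ⟨Sum.inr i, rfl⟩)))
        (Submodule.mem_sup_right (Submodule.smul_mem_smul (x i).2 Submodule.mem_top))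
    have := add_mem h2 h3
    rwa [sub_add_cancel] at this
  have hWtop : W = ⊤ := by
    let Q := M ⧸ W
    have hQ : Module.IsTorsionBySet B Q 𝔫 := by
      rintro q ⟨a, ha⟩
      obtain ⟨q, rfl⟩ := Submodule.mkQ_surjective _ q
      exact (Submodule.Quotient.mk_eq_zero W).2
        (Submodule.mem_sup_right (Submodule.smul_mem_smul ha Submodule.mem_top))
    letI := hQ.module
    haveI : IsScalarTower B B₀ Q := hQ.isScalarTower
    haveI : IsScalarTower A B₀ Q := hQ.isScalarTower
    let d : B →ₗ[A] Q := (W.mkQ.restrictScalars A).comp (KaehlerDifferential.D A B).toLinearMap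
    let d₀ : B₀ →ₗ[A] Q :=
      (Submodule.liftQ (𝔫.restrictScalars A) d (fun y hy => (Submodule.Quotient.mk_eq_zero W).2 (hn y hy))).comp
        (Submodule.Quotient.restrictScalarsEquiv A 𝔫).symm.toLinearMap
    have hd₀ : ∀ b, d₀ (Ideal.Quotient.mk 𝔫 b) = W.mkQ (KaehlerDifferential.D A B b) := fun b => rfl
    let D₀ : Derivation A B₀ Q := Derivation.mk' d₀ (fun a b => by
      obtain ⟨a, rfl⟩ := Ideal.Quotient.mk_surjective a
      obtain ⟨b, rfl⟩ := Ideal.Quotient.mk_surjective b
      rw [← map_mul, hd₀, hd₀, hd₀, Derivation.leibniz, map_add, map_smul, map_smul]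
      rfl)
    let L := D₀.liftKaehlerDifferential
    have hL : ∀ m : M, L (KaehlerDifferential.map A A B B₀ m) = W.mkQ m := by
      have : (L.restrictScalars B).comp (KaehlerDifferential.map A A B B₀) = W.mkQ := by
        refine Derivation.liftKaehlerDifferential_unique _ _ (Derivation.ext fun b => ?_)
        show L (KaehlerDifferential.map A A B B₀ (KaehlerDifferential.D A B b)) = _
        rw [KaehlerDifferential.map_D, Derivation.liftKaehlerDifferential_comp_D]
        rfl
      exact LinearMap.congr_fun this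
    have hL0 : L = 0 := by
      refine LinearMap.ext_on_range hω fun i => ?_
      rw [← hω' i, hL, LinearMap.zero_apply]
      exact (Submodule.Quotient.mk_eq_zero W).2 (Submodule.mem_sup_left (Submodule.subset_span ⟨Sum.inl i, rfl⟩))
    rw [eq_top_iff]
    intro m _
    rw [← Submodule.Quotient.mk_eq_zero W, ← Submodule.mkQ_apply, ← hL m, hL0, LinearMap.zero_apply]
  let f : (Fin g ⊕ Fin c → B) →ₗ[B] M := Fintype.linearCombination B z
  have hs : Function.Surjective ((𝔫 • (⊤ : Submodule B M)).mkQ ∘ₗ f) := by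
    rw [← LinearMap.range_eq_top, LinearMap.range_comp, Submodule.map_mkQ_eq_top, sup_comm,
      Fintype.range_linearCombination]
    exact hWtop
  have hbig := AdicCompletion.map_surjective_of_mkQ_comp_surjective hs
  have := AdicLim.isPrecomplete_pi (I := 𝔫) (ι := Fin g ⊕ Fin c) B
  refine Module.Finite.of_surjective ((AdicCompletion.of 𝔫 M).comp f) fun w => ?_
  obtain ⟨y, rfl⟩ := hbig w
  obtain ⟨y, rfl⟩ := AdicCompletion.of_surjective 𝔫 (Fin g ⊕ Fin c → B) y
  refine ⟨y, ?_⟩
  change AdicCompletion.of 𝔫 M (f y) = AdicCompletion.map 𝔫 f (AdicCompletion.of 𝔫 _ y)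
  rw [AdicCompletion.map_of]

end Groth.Agent.S4558
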