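import Mathlib
import Groth.Statements.S4559
-- import your own Groth.Agent.* helpers here

set_option autoImplicit false
universe u
open EGA41

namespace Groth.Agent.S4559

section
open TrivSqZeroExt

variable {A B : Type u} [CommRing A] [CommRing B] [Algebra A B]

lemma unram_step (𝔟 : Ideal B) (m : ℕ) (hΩ : (𝔟 ^ m) • (⊤ : Submodule B (Ω[B⁄A])) = ⊤)
    {E : Type u} [CommRing E] [Algebra A E] (J : Ideal E) (i : ℕ) (hi : 1 ≤ i) (v₁ v₂ : B →ₐ[A] E)
    (h1 : ∀ x ∈ 𝔟 ^ m, v₁ x = 0) (h : ∀ x, v₁ x - v₂ x ∈ J ^ i) : ∀ x, v₁ x - v₂ x ∈ J ^ (i + 1) := by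
  let q : E →ₐ[A] E ⧸ J ^ (i + 1) := Ideal.Quotient.mkₐ A _
  letI : Algebra B (E ⧸ J ^ (i + 1)) := (q.comp v₁).toRingHom.toAlgebra
  haveI : IsScalarTower A B (E ⧸ J ^ (i + 1)) := .of_algebraMap_eq fun a => ((q.comp v₁).commutes a).symm
  let L : B →ₗ[A] E ⧸ J ^ (i + 1) := q.toLinearMap ∘ₗ (v₁.toLinearMap - v₂.toLinearMap)
  have hL : ∀ x y, L (x * y) = x • L y + y • L x := by
    intro x y
    show q (v₁ (x * y) - v₂ (x * y)) = q (v₁ x) * q (v₁ y - v₂ y) + q (v₁ y) * q (v₁ x - v₂ x)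
    rw [← map_mul, ← map_mul, ← map_add]
    refine Ideal.Quotient.eq.2 ?_
    have hmem : (v₁ x - v₂ x) * (v₁ y - v₂ y) ∈ J ^ (i + 1) := by
      refine Ideal.pow_le_pow_right (by omega : i + 1 ≤ i + i) ?_
      rw [pow_add]; exact Ideal.mul_mem_mul (h x) (h y)
    convert neg_mem hmem using 1
    rw [map_mul, map_mul]; ring
  let D : Derivation A B (E ⧸ J ^ (i + 1)) := Derivation.mk' L hL
  have hℓ : D.liftKaehlerDifferential = 0 := by
    refine LinearMap.ext fun w => ?_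
    have hw : w ∈ (𝔟 ^ m) • (⊤ : Submodule B (Ω[B⁄A])) := by rw [hΩ]; exact Submodule.mem_top
    refine Submodule.smul_induction_on hw (fun b hb t _ => ?_) (fun a b ha hb => ?_)
    · rw [map_smul, Algebra.smul_def]
      show q (v₁ b) * _ = _
      rw [h1 b hb, map_zero, zero_mul]; rfl
    · rw [map_add, ha, hb]; simp
  intro x
  have := D.liftKaehlerDifferential_comp_D x
  rw [hℓ] at this
  exact Ideal.Quotient.eq_zero_iff_mem.1 this.symm

lemma der_zero (𝔞 : Ideal A) (𝔟 : Ideal B) (hAB : ∃ k : ℕ, (𝔞 ^ k).map (algebraMap A B) ≤ 𝔟)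
    (h : ∀ (E : Type u) [CommRing E] [Algebra A E], (∃ k : ℕ, (𝔞 ^ k).map (algebraMap A E) = ⊥) →
      ∀ J : Ideal E, IsNilpotent J → ∀ v₁ v₂ : B →ₐ[A] E,
        (∃ m : ℕ, ∀ x ∈ 𝔟 ^ m, v₁ x = 0) → (∃ m : ℕ, ∀ x ∈ 𝔟 ^ m, v₂ x = 0) →
        (∀ b : B, Ideal.Quotient.mk J (v₁ b) = Ideal.Quotient.mk J (v₂ b)) → v₁ = v₂)
    (M : Type u) [AddCommGroup M] [Module A M] [Module B M] [IsScalarTower A B M]
    [Module Bᵐᵒᵖ M] [IsCentralScalar B M]
    (m : ℕ) (hM : ∀ b ∈ 𝔟 ^ m, ∀ x : M, b • x = 0) (d : Derivation A B M)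
    (hd : ∀ x ∈ 𝔟 ^ (m + 1), d x = 0) : d = 0 := by
  let T := TrivSqZeroExt B M
  let w₁ : B →ₐ[A] T := TrivSqZeroExt.inlAlgHom A B M
  let w₂ : B →ₐ[A] T := AlgHom.ofLinearMap
    { toFun := fun x => TrivSqZeroExt.inl x + TrivSqZeroExt.inr (d x)
      map_add' := fun x y => by ext <;> simp [T]
      map_smul' := fun a x => by ext <;> simp [T] }
    (by ext <;> simp [T]) (fun x y => by ext <;> simp [T, add_comm])
  let K : Ideal T :=
    { carrier := {e | e.fst ∈ 𝔟 ^ m ∧ e.snd = 0}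
      add_mem' := fun {a b} ha hb => ⟨by simpa [T] using add_mem ha.1 hb.1, by simp [T, ha.2, hb.2]⟩
      zero_mem' := ⟨by simp [T], by simp [T]⟩
      smul_mem' := fun c e he => by
        refine ⟨by simpa [T] using Ideal.mul_mem_left _ _ he.1, ?_⟩
        show (c * e).snd = 0
        rw [TrivSqZeroExt.snd_mul, he.2, smul_zero, zero_add, op_smul_eq_smul]
        exact hM _ he.1 _ }
  let J₀ : Ideal T := RingHom.ker (TrivSqZeroExt.fstHom A B M)
  have hJ : J₀ ^ 2 = ⊥ := by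
    rw [pow_two, eq_bot_iff, Ideal.mul_le]
    intro a ha b hb
    have ha' : a.fst = 0 := ha
    have hb' : b.fst = 0 := hb
    rw [Ideal.mem_bot]; ext <;> simp [T, ha', hb']
  let q : T →ₐ[A] T ⧸ K := Ideal.Quotient.mkₐ A K
  obtain ⟨k, hk⟩ := hAB
  have key : q.comp w₁ = q.comp w₂ := by
    refine h (T ⧸ K) ⟨k * m, ?_⟩ (J₀.map (Ideal.Quotient.mk K)) ⟨2, by rw [← Ideal.map_pow, hJ, Ideal.map_bot]; rfl⟩ _ _ ⟨m, fun x hx => ?_⟩ ⟨m + 1, fun x hx => ?_⟩ fun b => ?_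
    · rw [Ideal.map_eq_bot_iff_le_ker]
      intro a ha
      have h' : algebraMap A B a ∈ 𝔟 ^ m := by
        have h2 := Ideal.mem_map_of_mem (algebraMap A B) ha
        rw [pow_mul, Ideal.map_pow] at h2
        exact Ideal.pow_right_mono hk m h2
      rw [RingHom.mem_ker]
      show Ideal.Quotient.mk K (algebraMap A T a) = 0
      have e : w₁ (algebraMap A B a) = algebraMap A T a := w₁.commutes a
      rw [← e]
      exact Ideal.Quotient.eq_zero_iff_mem.2 ⟨h', rfl⟩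
    · exact Ideal.Quotient.eq_zero_iff_mem.2 ⟨hx, rfl⟩
    · exact Ideal.Quotient.eq_zero_iff_mem.2 ⟨by simpa [w₂, T] using Ideal.pow_le_pow_right (Nat.le_succ m) hx, by simpa [w₂, T] using hd x hx⟩
    · refine Ideal.Quotient.eq.2 ?_
      show Ideal.Quotient.mk K (w₁ b) - Ideal.Quotient.mk K (w₂ b) ∈ _
      rw [← map_sub]
      exact Ideal.mem_map_of_mem _ (show w₁ b - w₂ b ∈ J₀ by simp [J₀, RingHom.mem_ker, w₁, w₂, T])
  ext x
  have h2 := (Ideal.Quotient.eq.1 (DFunLike.congr_fun key x)).2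
  simpa [w₁, w₂, T] using h2

lemma top_eq (𝔞 : Ideal A) (𝔟 : Ideal B) (hAB : ∃ k : ℕ, (𝔞 ^ k).map (algebraMap A B) ≤ 𝔟)
    (h : ∀ (E : Type u) [CommRing E] [Algebra A E], (∃ k : ℕ, (𝔞 ^ k).map (algebraMap A E) = ⊥) →
      ∀ J : Ideal E, IsNilpotent J → ∀ v₁ v₂ : B →ₐ[A] E,
        (∃ m : ℕ, ∀ x ∈ 𝔟 ^ m, v₁ x = 0) → (∃ m : ℕ, ∀ x ∈ 𝔟 ^ m, v₂ x = 0) →
        (∀ b : B, Ideal.Quotient.mk J (v₁ b) = Ideal.Quotient.mk J (v₂ b)) → v₁ = v₂) (m : ℕ) :
    (𝔟 ^ m) • (⊤ : Submodule B (Ω[B⁄A])) = ⊤ := by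
  set N := (𝔟 ^ m) • (⊤ : Submodule B (Ω[B⁄A])) with hN
  letI : Module Bᵐᵒᵖ (Ω[B⁄A] ⧸ N) := Module.compHom _ ((RingHom.id B).fromOpposite mul_comm)
  haveI : IsCentralScalar B (Ω[B⁄A] ⧸ N) := ⟨fun _ _ => rfl⟩
  have hmem : ∀ j, ∀ x ∈ 𝔟 ^ (j + 1), KaehlerDifferential.D A B x ∈ (𝔟 ^ j) • (⊤ : Submodule B (Ω[B⁄A])) := by
    intro j
    induction j with
    | zero => intro x _; simp
    | succ j ih =>
      intro x hx
      rw [pow_succ] at hx
      refine Submodule.mul_induction_on hx (fun a ha b hb => ?_) (fun a b ha hb => by rw [map_add]; exact add_mem ha hb)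
      rw [Derivation.leibniz]
      refine add_mem (Submodule.smul_mem_smul ha Submodule.mem_top) ?_
      rw [pow_succ', Submodule.mul_smul]
      exact Submodule.smul_mem_smul hb (ih a ha)
  have hz := der_zero 𝔞 𝔟 hAB h (Ω[B⁄A] ⧸ N) m (fun b hb x => by
      obtain ⟨z, rfl⟩ := Submodule.mkQ_surjective N x
      rw [← map_smul]
      exact (Submodule.Quotient.mk_eq_zero N).2 (Submodule.smul_mem_smul hb Submodule.mem_top))
    (N.mkQ.compDer (KaehlerDifferential.D A B)) (fun x hx => (Submodule.Quotient.mk_eq_zero N).2 (hmem m x hx))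
  refine eq_top_iff.2 (le_trans (KaehlerDifferential.span_range_derivation A B).ge (Submodule.span_le.2 ?_))
  rintro _ ⟨x, rfl⟩
  exact (Submodule.Quotient.mk_eq_zero N).1 (Derivation.congr_fun hz x)

end


/-- Let A be 𝔞-adic and B a topological A-algebra for the 𝔟-adic topology (a power of 𝔞 maps into 𝔟).
Then B is a formally unramified A-algebra (for every homomorphism E → C of discrete A-algebras with
nilpotent kernel and every continuous u : B → C there is at most one continuous lift B → E; here E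
discrete means killed by a power of 𝔞, and one may take C = E/J) if and only if the separated
completion of Ω_{B/A}, i.e. its 𝔟-adic completion, is zero. -/
theorem result {A B : Type u} [CommRing A] [CommRing B] [Algebra A B]
    (𝔞 : Ideal A) (𝔟 : Ideal B) (hAB : ∃ k : ℕ, (𝔞 ^ k).map (algebraMap A B) ≤ 𝔟) :
    (∀ (E : Type u) [CommRing E] [Algebra A E], (∃ k : ℕ, (𝔞 ^ k).map (algebraMap A E) = ⊥) →
      ∀ J : Ideal E, IsNilpotent J → ∀ v₁ v₂ : B →ₐ[A] E,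
        (∃ m : ℕ, ∀ x ∈ 𝔟 ^ m, v₁ x = 0) → (∃ m : ℕ, ∀ x ∈ 𝔟 ^ m, v₂ x = 0) →
        (∀ b : B, Ideal.Quotient.mk J (v₁ b) = Ideal.Quotient.mk J (v₂ b)) → v₁ = v₂) ↔
    Subsingleton (AdicCompletion 𝔟 (Ω[B⁄A])) := by
  constructor
  · intro h
    refine ⟨fun x y => AdicCompletion.ext fun j => ?_⟩
    have : Subsingleton (Ω[B⁄A] ⧸ (𝔟 ^ j • ⊤ : Submodule B (Ω[B⁄A]))) :=
      Submodule.Quotient.subsingleton_iff.2 (top_eq 𝔞 𝔟 hAB h j)
    exact Subsingleton.elim _ _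
  · intro hsub E _ _ _ J hJ v₁ v₂ h₁ _ hmk
    have htop : ∀ j, (𝔟 ^ j) • (⊤ : Submodule B (Ω[B⁄A])) = ⊤ := fun j =>
      Submodule.Quotient.subsingleton_iff.1 (AdicCompletion.eval_surjective 𝔟 (Ω[B⁄A]) j).subsingleton
    obtain ⟨m, hm⟩ := h₁
    obtain ⟨r, hr⟩ := hJ
    have hind : ∀ i, ∀ x, v₁ x - v₂ x ∈ J ^ (i + 1) := by
      intro i
      induction i with
      | zero => intro x; rw [zero_add, pow_one]; exact Ideal.Quotient.eq.1 (hmk x)
      | succ i ih => exact unram_step 𝔟 m (htop m) J (i + 1) (by omega) v₁ v₂ hm ih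
    ext x
    have := hind r x
    rw [pow_succ, hr] at this
    exact sub_eq_zero.1 (by simpa using this)

end Groth.Agent.S4559
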