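import Groth.Statements.S4560
import Mathlib.RingTheory.Unramified.LocalRing
import Mathlib.RingTheory.Derivation.ToSquareZero
import Mathlib.RingTheory.Kaehler.Basic
import Mathlib.LinearAlgebra.TensorProduct.Quotient
import Mathlib.RingTheory.Ideal.Quotient.Nilpotent
-- import your own Groth.Agent.* helpers here

set_option autoImplicit false
universe u
open EGA41

namespace Groth.Agent.S4560

/-- Let A be a ring, 𝔪 an ideal of A, B an A-algebra; give A the 𝔪-adic topology and B the topology
deduced from it (the 𝔪B-adic topology), and put A₀ = A/𝔪, B₀ = B/𝔪B. Then B is a formally unramified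
A-algebra (for these topologies: E discrete means killed by a power of 𝔪, and continuity of maps B →
E is then automatic) if and only if Ω_{B₀/A₀} = 0, i.e. B₀ is a formally unramified A₀-algebra. -/
theorem result {A B : Type u} [CommRing A] [CommRing B] [Algebra A B] (𝔪 : Ideal A) :
    (∀ (E : Type u) [CommRing E] [Algebra A E], (∃ k : ℕ, (𝔪 ^ k).map (algebraMap A E) = ⊥) →
      ∀ J : Ideal E, IsNilpotent J → ∀ v₁ v₂ : B →ₐ[A] E,
        (∀ b : B, Ideal.Quotient.mk J (v₁ b) = Ideal.Quotient.mk J (v₂ b)) → v₁ = v₂) ↔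
    Subsingleton (Ω[B ⧸ 𝔪.map (algebraMap A B)⁄A ⧸ 𝔪]) := by
  classical
  set I := 𝔪.map (algebraMap A B) with hI
  constructor
  · intro h
    have hf : Algebra.FormallyUnramified (A ⧸ 𝔪) (B ⧸ I) := by
      rw [Algebra.FormallyUnramified.iff_comp_injective]
      intro E _ _ J hJ g₁ g₂ hg
      let := ((algebraMap (A ⧸ 𝔪) E).comp (Ideal.Quotient.mk 𝔪)).toAlgebra
      have : IsScalarTower A (A ⧸ 𝔪) E := IsScalarTower.of_algebraMap_eq' rfl
      have hk : (𝔪 ^ 1).map (algebraMap A E) = ⊥ := by
        rw [pow_one, IsScalarTower.algebraMap_eq A (A ⧸ 𝔪) E, ← Ideal.map_map, Ideal.Quotient.algebraMap_eq,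
          Ideal.map_quotient_self, Ideal.map_bot]
      have e := h E ⟨1, hk⟩ J ⟨2, hJ⟩ ((g₁.restrictScalars A).comp (IsScalarTower.toAlgHom A B (B ⧸ I)))
        ((g₂.restrictScalars A).comp (IsScalarTower.toAlgHom A B (B ⧸ I))) fun b => AlgHom.congr_fun hg _
      ext x
      obtain ⟨x, rfl⟩ := Ideal.Quotient.mk_surjective x
      exact AlgHom.congr_fun e x
    exact hf.subsingleton_kaehlerDifferential
  · intro hs
    have : Algebra.FormallyUnramified (A ⧸ 𝔪) (B ⧸ I) := ⟨hs⟩
    have : Algebra.FormallyUnramified A (A ⧸ 𝔪) :=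
      Algebra.FormallyUnramified.of_surjective (Algebra.ofId A (A ⧸ 𝔪)) Ideal.Quotient.mk_surjective
    have : Algebra.FormallyUnramified A (B ⧸ I) := Algebra.FormallyUnramified.comp _ (A ⧸ 𝔪) _
    have hT : ∀ x : TensorProduct B (B ⧸ I) Ω[B⁄A], x = 0 := by
      intro x
      obtain ⟨x, rfl⟩ := (KaehlerDifferential.exact_kerCotangentToTensor_mapBaseChange A B
        (B ⧸ I) Ideal.Quotient.mk_surjective x).mp (Subsingleton.elim _ _)
      obtain ⟨⟨x, hx⟩, rfl⟩ := Ideal.toCotangent_surjective _ x
      simp only [KaehlerDifferential.kerCotangentToTensor_toCotangent]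
      replace hx : x ∈ I := Ideal.Quotient.eq_zero_iff_mem.1 hx
      induction hx using Submodule.span_induction with
      | zero => simp
      | mem x h => obtain ⟨x, hx, rfl⟩ := h; simp
      | add x y hx hy _ _ => simp [*, TensorProduct.tmul_add]
      | smul a x hx _ =>
        have : Ideal.Quotient.mk I x = 0 := Ideal.Quotient.eq_zero_iff_mem.2 hx
        simp [*, TensorProduct.tmul_add, TensorProduct.smul_tmul', ← Algebra.algebraMap_eq_smul_one]
    have hΩ : (I • ⊤ : Submodule B Ω[B⁄A]) = ⊤ := by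
      refine eq_top_iff.2 fun ω _ => ?_
      rw [← Submodule.Quotient.mk_eq_zero]
      obtain ⟨y, hy⟩ := (TensorProduct.quotTensorEquivQuotSMul Ω[B⁄A] I).surjective (Submodule.Quotient.mk ω)
      rw [← hy, hT y, map_zero]
    intro E _ _ hE J hJ v₁ v₂ hv
    obtain ⟨k, hk⟩ := hE
    have hΩk : ∀ i, (I ^ i • ⊤ : Submodule B Ω[B⁄A]) = ⊤ := by
      intro i
      induction i with
      | zero => simp
      | succ i ih => rw [pow_succ, Submodule.mul_smul, hΩ, ih]
    revert ‹Algebra A E› v₁ v₂
    apply Ideal.IsNilpotent.induction_on (S := E) J hJ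
    · intro S _ J hJ _ v₁ v₂ hv hk
      let := v₁.toRingHom.toAlgebra
      have : IsScalarTower A B S := IsScalarTower.of_algebraMap_eq fun a => (v₁.commutes a).symm
      let d := derivationToSquareZeroOfLift J hJ v₂ (AlgHom.ext fun b => (hv b).symm)
      have hd : ∀ b, d b = 0 := by
        intro b
        have hmem : d.liftKaehlerDifferential (KaehlerDifferential.D A B b) ∈ (I ^ k • ⊤ : Submodule B J) := by
          have : KaehlerDifferential.D A B b ∈ (I ^ k • ⊤ : Submodule B Ω[B⁄A]) := by rw [hΩk k]; trivial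
          have h2 := Submodule.mem_map_of_mem (f := d.liftKaehlerDifferential) this
          rw [Submodule.map_smul''] at h2
          exact (Submodule.smul_mono le_rfl le_top : _ ≤ (I ^ k • ⊤ : Submodule B J)) h2
        rw [Derivation.liftKaehlerDifferential_comp_D] at hmem
        have h0 : (I ^ k • ⊤ : Submodule B J) = ⊥ := by
          refine eq_bot_iff.2 (Submodule.smul_le.2 fun r hr j _ => (Submodule.mem_bot B).2 (Subtype.ext ?_))
          show algebraMap B S r * (j : S) = 0
          have : algebraMap B S r ∈ (I ^ k).map (algebraMap B S) := Ideal.mem_map_of_mem _ hr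
          rw [hI, Ideal.map_pow, Ideal.map_map, ← IsScalarTower.algebraMap_eq, ← Ideal.map_pow, hk,
            Ideal.mem_bot] at this
          rw [this, zero_mul]
        exact (Submodule.mem_bot B).1 (h0 ▸ hmem)
      refine AlgHom.ext fun b => ?_
      have := congrArg Subtype.val (hd b)
      rw [derivationToSquareZeroOfLift_apply, ZeroMemClass.coe_zero, sub_eq_zero] at this
      exact this.symm
    · intro S _ I' J hIJ h₁ h₂ _ v₁ v₂ hv hk
      refine h₁ v₁ v₂ ?_ hk
      intro b
      refine AlgHom.congr_fun (h₂ ((Ideal.Quotient.mkₐ A I').comp v₁)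
        ((Ideal.Quotient.mkₐ A I').comp v₂) ?_ ?_) b
      swap
      · rw [← Ideal.Quotient.mk_comp_algebraMap, ← Ideal.map_map, hk, Ideal.map_bot]
      · intro b
        rw [AlgHom.comp_apply, AlgHom.comp_apply, Ideal.Quotient.eq]
        show Ideal.Quotient.mk I' (v₁ b) - Ideal.Quotient.mk I' (v₂ b) ∈ _
        rw [← map_sub]
        exact Ideal.mem_map_of_mem _ (Ideal.Quotient.eq.1 (hv b))

end Groth.Agent.S4560
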