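import Groth.Statements.S4565
import Groth.Agent.GRing17.NagataEssFinite
import Groth.Agent.CohenStruct.Local
import Mathlib.RingTheory.Finiteness.Descent
-- import your own Groth.Agent.* helpers here

set_option autoImplicit false
universe u
open TensorProduct
open CAlg

namespace Groth.Agent.S4565

/-- Let A be a Noetherian local domain with fraction field K whose adic completion Â is reduced, R the
total ring of fractions of Â and K' a finite extension of K. If R ⊗_A K' (equal to R ⊗_K K', since K
is a localization of A and the nonzero elements of A are invertible in R) is reduced, then the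
integral closure of A in K' is a finitely generated A-module. -/
theorem result {A K' R : Type u}
    [CommRing A] [IsDomain A] [IsLocalRing A] [IsNoetherianRing A]
    (hred : IsReduced (AdicCompletion (IsLocalRing.maximalIdeal A) A))
    [CommRing R] [Algebra (AdicCompletion (IsLocalRing.maximalIdeal A) A) R]
    [IsFractionRing (AdicCompletion (IsLocalRing.maximalIdeal A) A) R] [Algebra A R]
    [IsScalarTower A (AdicCompletion (IsLocalRing.maximalIdeal A) A) R]
    [Field K'] [Algebra A K'] [Algebra (FractionRing A) K'] [IsScalarTower A (FractionRing A) K']
    [FiniteDimensional (FractionRing A) K'] (h : IsReduced (R ⊗[A] K')) :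
    Module.Finite A (integralClosure A K') := by
  let Ah := AdicCompletion (IsLocalRing.maximalIdeal A) A
  have := CohenStruct.isNoetherianRing_completion A
  have hN : CAlg.IsNagata Ah := CohenStruct.isNagata_of_complete Ah
  have : Module.FaithfullyFlat A Ah := Module.FaithfullyFlat.of_flat_of_isLocalHom
  have : Algebra.EssFiniteType A (FractionRing A) :=
    Algebra.EssFiniteType.of_isLocalization (FractionRing A) (nonZeroDivisors A)
  have : Algebra.EssFiniteType A K' := Algebra.EssFiniteType.comp A (FractionRing A) K'
  have : Module.Flat A K' := Module.Flat.trans A (FractionRing A) K'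
  have : Algebra.EssFiniteType Ah R := Algebra.EssFiniteType.of_isLocalization R (nonZeroDivisors Ah)
  let S := R ⊗[A] K'
  have : Algebra.EssFiniteType Ah S := Algebra.EssFiniteType.comp Ah R S
  have hfin := GRing17.finite_integralClosure_essFiniteType hN S
  let A' := integralClosure A K'
  let g : Ah ⊗[A] K' →ₐ[Ah] S := Algebra.TensorProduct.map (Algebra.ofId Ah R) (AlgHom.id A K')
  let ψ : Ah ⊗[A] A' →ₐ[Ah] S := g.comp (Algebra.TensorProduct.map (AlgHom.id Ah Ah) A'.val)
  have hψ : Function.Injective ψ := by
    have h1 : Function.Injective (LinearMap.lTensor Ah A'.val.toLinearMap) :=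
      Module.Flat.lTensor_preserves_injective_linearMap _ Subtype.val_injective
    have h2 : Function.Injective (LinearMap.rTensor K' (IsScalarTower.toAlgHom A Ah R).toLinearMap) :=
      Module.Flat.rTensor_preserves_injective_linearMap _ (IsFractionRing.injective Ah R)
    have he : ∀ x, ψ x = LinearMap.rTensor K' (IsScalarTower.toAlgHom A Ah R).toLinearMap
        (LinearMap.lTensor Ah A'.val.toLinearMap x) := fun x => by
      induction x using TensorProduct.induction_on with
      | zero => simp
      | tmul a b => rfl
      | add a b ha hb => simp only [map_add, ha, hb]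
    exact fun a b hab => h1 (h2 (by rw [← he, ← he, hab]))
  have hmem : ∀ x, ψ x ∈ integralClosure Ah S := fun x => by
    induction x using TensorProduct.induction_on with
    | zero => simp
    | tmul a b =>
      rw [show a ⊗ₜ[A] b = algebraMap Ah (Ah ⊗[A] A') a * (1 ⊗ₜ[A] b) by simp, map_mul, AlgHom.commutes]
      refine mul_mem (Subalgebra.algebraMap_mem _ _) ?_
      refine IsIntegral.tower_top (R := A) ?_
      exact (Algebra.IsIntegral.isIntegral (R := A) b).map
        ((ψ.restrictScalars A).comp (Algebra.TensorProduct.includeRight (R := A) (A := Ah) (B := A')))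
    | add a b ha hb => rw [map_add]; exact add_mem ha hb
  have := CohenStruct.isNoetherianRing_completion A
  have : Module.Finite Ah (Ah ⊗[A] A') :=
    NagataLib.finite_of_injective_linearMap (LinearMap.codRestrict (Subalgebra.toSubmodule (integralClosure Ah S))
      ψ.toLinearMap hmem : Ah ⊗[A] A' →ₗ[Ah] integralClosure Ah S)
      fun a b hab => hψ (congrArg Subtype.val hab)
  exact Module.Finite.of_finite_tensorProduct_of_faithfullyFlat Ah

end Groth.Agent.S4565
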