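import Groth.Statements.S4566
import Groth.Agent.CohenStruct.Local

set_option autoImplicit false
universe u
open CAlg

namespace Groth.Agent.S4566

/-- Let A be a Noetherian local domain with fraction field K whose adic completion Â is reduced, and R
the total ring of fractions of Â with its K-algebra structure. If R is geometrically reduced over K
then A is Japanese (N-2). (The published statement asks R to be a separable K-algebra; what is used
is that K' ⊗_K R is reduced for every finite extension K' of K, which geometric reducedness gives.) -/
theorem result {A R : Type u}
    [CommRing A] [IsDomain A] [IsLocalRing A] [IsNoetherianRing A]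
    (hred : IsReduced (AdicCompletion (IsLocalRing.maximalIdeal A) A))
    [CommRing R] [Algebra (AdicCompletion (IsLocalRing.maximalIdeal A) A) R]
    [IsFractionRing (AdicCompletion (IsLocalRing.maximalIdeal A) A) R] [Algebra A R]
    [IsScalarTower A (AdicCompletion (IsLocalRing.maximalIdeal A) A) R]
    [Algebra (FractionRing A) R] [IsScalarTower A (FractionRing A) R]
    (h : Algebra.IsGeometricallyReduced (FractionRing A) R) :
    CAlg.IsN2 A := by
  intro K' _ _ _ _ hfd
  let Ah := AdicCompletion (IsLocalRing.maximalIdeal A) A
  have : IsReduced (TensorProduct (FractionRing A) K' R) :=
    haveI := hfd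
    inferInstance
  have h1 : IsReduced (TensorProduct A K' R) :=
    isReduced_of_injective _
      (IsLocalization.algebraTensorEquiv (nonZeroDivisors A) (FractionRing A) K' R).symm.injective
  haveI : Module.Flat A (FractionRing A) := IsLocalization.flat _ (nonZeroDivisors A)
  haveI : Module.Flat A K' := Module.Flat.trans A (FractionRing A) K'
  let j : Ah →ₐ[A] R := IsScalarTower.toAlgHom A Ah R
  have hj : Function.Injective j := IsFractionRing.injective Ah R
  have h2 : IsReduced (TensorProduct A K' Ah) :=
    isReduced_of_injective (Algebra.TensorProduct.map (AlgHom.id A K') j)
      (Module.Flat.lTensor_preserves_injective_linearMap (M := K') j.toLinearMap hj)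
  exact Groth.Agent.CohenStruct.finite_integralClosure_of_reduced_completion
    (isReduced_of_injective _ (Algebra.TensorProduct.comm A Ah K').injective)

end Groth.Agent.S4566
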