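import Groth.Statements.S4568
import Groth.Agent.MoriNagata.Essential
import Mathlib.RingTheory.Localization.Integral
import Mathlib.RingTheory.LocalProperties.IntegrallyClosed

set_option autoImplicit false
universe u
open CAlg

namespace Groth.Agent.S4568

theorem key {A : Type u} [CommRing A] [IsDomain A] [IsNoetherianRing A] (K : Type u) [Field K] [Algebra A K]
    [IsFractionRing A K] (m : Ideal A) [m.IsMaximal]
    (h : ∀ C : Subalgebra A K, C ≤ integralClosure A K → Module.Finite A C →
      ∀ (q : Ideal C) [q.IsPrime], q.height = 1 → (q.comap (algebraMap A C)).height = 1)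
    (x : K) (hx : ∀ p : Ideal A, p.IsPrime → p.height = 1 →
      ∃ s : A, s ∉ p ∧ algebraMap A K s * x ∈ integralClosure A K) :
    ∃ s : A, s ∉ m ∧ IsIntegral A (algebraMap A K s * x) := by
  classical
  let B := Localization.AtPrime m
  let _ : Algebra B K := (IsLocalization.lift
    (M := m.primeCompl) (S := B) (g := algebraMap A K) fun y => IsUnit.mk0 _
      ((map_ne_zero_iff _ (IsFractionRing.injective A K)).mpr fun h => y.2 (h ▸ m.zero_mem))).toAlgebra
  have : IsScalarTower A B K := IsScalarTower.of_algebraMap_eq fun a => (IsLocalization.lift_eq _ a).symm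
  have : IsFractionRing B K := IsFractionRing.isFractionRing_of_isDomain_of_isLocalization m.primeCompl B K
  have : IsNoetherianRing B := IsLocalization.isNoetherianRing m.primeCompl B inferInstance
  let A' := integralClosure A K
  let B' := integralClosure B K
  let j : A' →+* B' := (algebraMap A' K).codRestrict B' fun z => IsIntegral.tower_top (A := B) z.2
  let _ : Algebra A' B' := j.toAlgebra
  let M := Algebra.algebraMapSubmonoid A' m.primeCompl
  have : IsLocalization M B' := by
    refine (isLocalization_iff _ _).mpr ⟨?_, fun z => ?_, fun {a b} hxy => ⟨1, by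
      rw [show a = b from Subtype.ext (congrArg (fun z : B' => (z : K)) hxy :)]⟩⟩
    · rintro ⟨_, s, hs, rfl⟩
      have h1 : IsUnit (algebraMap B B' (algebraMap A B s)) :=
        (IsLocalization.map_units B (⟨s, hs⟩ : m.primeCompl)).map _
      rwa [show algebraMap B B' (algebraMap A B s) = j (algebraMap A A' s) from
        Subtype.ext (IsScalarTower.algebraMap_apply A B K s).symm] at h1
    · obtain ⟨⟨s, hs⟩, hy⟩ := IsIntegral.exists_multiple_integral_of_isLocalization m.primeCompl (z : K) z.2
      rw [Submonoid.smul_def, Algebra.smul_def] at hy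
      exact ⟨⟨⟨_, hy⟩, ⟨algebraMap A A' s, s, hs, rfl⟩⟩, Subtype.ext (mul_comm _ _)⟩
  have hfin : ∀ (P : Ideal B') [P.IsPrime],
      {Q : Ideal A' | Q.IsPrime ∧ Q.comap (algebraMap A A') = (P.comap j).comap (algebraMap A A')}.Finite := by
    intro P _
    let p := P.comap (algebraMap B B')
    refine ((MoriNagata.finite_primes_over B K p).image (Ideal.comap j)).subset ?_
    rintro Q ⟨hQ, hQp⟩
    have hdis : Disjoint (M : Set A') Q := Set.disjoint_left.mpr fun z hz hzQ => by
      obtain ⟨s, hs, rfl⟩ := hz
      have h1 : s ∈ (P.comap j).comap (algebraMap A A') := hQp ▸ hzQ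
      have h2 : IsUnit (j (algebraMap A A' s)) := IsLocalization.map_units B' (⟨_, s, hs, rfl⟩ : M)
      exact Ideal.IsPrime.ne_top ‹P.IsPrime› (P.eq_top_of_isUnit_mem h1 h2)
    have hQ' := IsLocalization.isPrime_of_isPrime_disjoint M B' Q hQ hdis
    have hc : (Q.map j).comap j = Q := IsLocalization.under_map_of_isPrime_disjoint M B' hQ hdis
    refine ⟨Q.map j, ⟨hQ', ?_⟩, hc⟩
    refine IsLocalization.orderEmbedding m.primeCompl B |>.injective ?_
    show ((Q.map j).comap (algebraMap B B')).comap (algebraMap A B) = (P.comap (algebraMap B B')).comap (algebraMap A B)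
    rw [Ideal.comap_comap, Ideal.comap_comap, show (algebraMap B B').comp (algebraMap A B) = j.comp (algebraMap A A') from
      RingHom.ext fun s => Subtype.ext (IsScalarTower.algebraMap_apply A B K s).symm, ← Ideal.comap_comap,
      ← Ideal.comap_comap, hc, hQp]
  have hint : IsIntegral B x := by
    refine MoriNagata.mem_of_forall_height_one B K x fun P _ hP => ?_
    let P' := P.comap j
    have hP' : P'.height = 1 := (IsLocalization.height_comap M P).trans hP
    let S := {Q : Ideal A' | Q.IsPrime ∧ Q.comap (algebraMap A A') = P'.comap (algebraMap A A')}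
    let S' := ((hfin P).subset (Set.sep_subset S (· ≠ P'))).toFinset
    have hsep : ∀ Q ∈ S', ∃ y ∈ Q, y ∉ P' := by
      intro Q hQ
      obtain ⟨⟨hQ1, hQ2⟩, hQ3⟩ := (Set.Finite.mem_toFinset _).mp hQ
      by_contra hc
      push Not at hc
      exact hQ3 (MoriNagata.eq_of_le_of_comap_eq (A := A) hQ1 inferInstance (fun y hy => hc y hy) hQ2)
    choose y hyQ hyP using hsep
    let T : Finset K := S'.attach.image fun Q => (y Q.1 Q.2 : K)
    let C : Subalgebra A K := Algebra.adjoin A (T : Set K)
    have hTint : ∀ z ∈ (T : Set K), IsIntegral A z := fun z hz => by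
      obtain ⟨Q, -, rfl⟩ := Finset.mem_image.mp (Finset.mem_coe.mp hz)
      exact (y Q.1 Q.2).2
    have hC : C ≤ A' := Algebra.adjoin_le hTint
    have hCfin : Module.Finite A C := Module.Finite.iff_fg.mpr (fg_adjoin_of_finite T.finite_toSet hTint)
    let i : C →+* A' := (Subalgebra.inclusion hC).toRingHom
    let _ : Algebra C A' := i.toAlgebra
    have : IsScalarTower A C A' := .of_algebraMap_eq fun _ => rfl
    have hCint : Algebra.IsIntegral C A' := Algebra.IsIntegral.tower_top A
    let q := P'.comap (algebraMap C A')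
    have huniq : ∀ Q : Ideal A', Q.IsPrime → Q.comap (algebraMap C A') = q → Q = P' := by
      intro Q hQ hQq
      by_contra hne
      have hQS : Q ∈ S' := (Set.Finite.mem_toFinset _).mpr ⟨⟨hQ, by
        rw [IsScalarTower.algebraMap_eq A C A', ← Ideal.comap_comap, hQq, Ideal.comap_comap]⟩, hne⟩
      have hmem : (y Q hQS : K) ∈ C :=
        Algebra.subset_adjoin (Finset.mem_coe.mpr (Finset.mem_image.mpr ⟨⟨Q, hQS⟩, Finset.mem_attach _ _, rfl⟩))
      have h1 : (⟨_, hmem⟩ : C) ∈ Q.comap (algebraMap C A') := hyQ Q hQS
      rw [hQq] at h1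
      exact hyP Q hQS h1
    have hq1 : q.height = 1 := by
      have hP0 : P' ≠ ⊥ := fun e => by rw [e, Ideal.height_bot] at hP'; exact zero_ne_one hP'
      have hq0 : q ≠ ⊥ := fun e => hP0 (Ideal.eq_bot_of_comap_eq_bot (R := C) e)
      refine le_antisymm ?_ ?_
      · by_contra hlt
        rw [not_le] at hlt
        obtain ⟨r, hr, hrq⟩ : ∃ r : Ideal C, r.IsPrime ∧ r < q ∧ r ≠ ⊥ := by
          by_contra hc
          push Not at hc
          refine hlt.not_ge (Ideal.height_le_iff.mpr fun r hr hrq => ?_)
          rw [hc r hr hrq, Ideal.height_bot]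
          exact zero_lt_one
        have hker : RingHom.ker (algebraMap C A') = ⊥ := (RingHom.injective_iff_ker_eq_bot _).mp
          (fun a b hab => Subtype.ext (congrArg (fun z : A' => (z : K)) hab))
        obtain ⟨R, -, hR, hRr⟩ := Ideal.exists_ideal_over_prime_of_isIntegral r (⊥ : Ideal A')
          (by rw [← RingHom.ker_eq_comap_bot, hker]; exact bot_le)
        obtain ⟨R', hRR', hR', hR'q⟩ := Ideal.exists_ideal_over_prime_of_isIntegral q R (hRr.le.trans hrq.1.le)
        rw [huniq R' hR' hR'q] at hRR'
        have hne : R ≠ P' := fun e => hrq.1.ne (by rw [← hRr, e])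
        have hR0 : (⊥ : Ideal A') < R := bot_lt_iff_ne_bot.mpr fun e => hrq.2 (by
          rw [← hRr, e, ← RingHom.ker_eq_comap_bot, hker])
        have hlt' : R < P' := lt_of_le_of_ne hRR' hne
        have : P'.FiniteHeight := ⟨Or.inr (by rw [hP']; exact ENat.one_ne_top)⟩
        have := Ideal.height_strict_mono_of_isPrime_of_isPrime hlt'
        rw [hP', Order.lt_one_iff, Ideal.height_eq_zero_iff] at this
        exact hR0.not_ge (this.2 ⟨Ideal.isPrime_bot, le_rfl⟩ bot_le)
      · rw [Order.one_le_iff_ne_zero]
        intro e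
        rw [Ideal.height_eq_zero_iff, IsDomain.minimalPrimes_eq_singleton_bot, Set.mem_singleton_iff] at e
        exact hq0 e
    have hp1 := h C hC hCfin q hq1
    obtain ⟨s, hs, hsx⟩ := hx (q.comap (algebraMap A C)) inferInstance hp1
    refine ⟨algebraMap B B' (algebraMap A B s), fun hm => hs ?_, ?_⟩
    · rw [show algebraMap B B' (algebraMap A B s) = j (algebraMap A A' s) from
        Subtype.ext (IsScalarTower.algebraMap_apply A B K s).symm] at hm
      exact hm
    · show algebraMap B K (algebraMap A B s) * x ∈ B'
      rw [← IsScalarTower.algebraMap_apply]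
      exact IsIntegral.tower_top hsx
  obtain ⟨⟨s, hs⟩, hy⟩ := IsIntegral.exists_multiple_integral_of_isLocalization m.primeCompl x hint
  rw [Submonoid.smul_def, Algebra.smul_def] at hy
  exact ⟨s, hs, hy⟩

/-- Let A be a Noetherian domain with fraction field K and A' its integral closure in K. Assume that for
every sub-A-algebra C of A' which is finite over A, every height-one prime of C lies over a
height-one prime of A. Then A' is the intersection in K of the localizations A'_p over the
height-one primes p of A. -/
theorem result {A : Type u} [CommRing A] [IsDomain A] [IsNoetherianRing A]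
    (h : ∀ C : Subalgebra A (FractionRing A), C ≤ integralClosure A (FractionRing A) → Module.Finite A C →
      ∀ (q : Ideal C) [q.IsPrime], q.height = 1 → (q.comap (algebraMap A C)).height = 1) :
    (integralClosure A (FractionRing A) : Set (FractionRing A)) =
      ⋂ (p : PrimeSpectrum A) (_ : p.asIdeal.height = 1),
        {x : FractionRing A | ∃ s : A, s ∉ p.asIdeal ∧
          algebraMap A (FractionRing A) s * x ∈ integralClosure A (FractionRing A)} := by
  classical
  refine Set.Subset.antisymm (fun x hx => Set.mem_iInter₂.mpr fun p _ => ⟨1,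
    p.asIdeal.ne_top_iff_one.mp p.isPrime.ne_top, by rwa [map_one, one_mul]⟩) fun x hx => ?_
  rw [Set.mem_iInter₂] at hx
  let J : Ideal A :=
    { carrier := {a | algebraMap A (FractionRing A) a * x ∈ integralClosure A (FractionRing A)}
      add_mem' := fun {a b} ha hb => by
        simp only [Set.mem_setOf_eq, map_add, add_mul] at ha hb ⊢
        exact add_mem ha hb
      zero_mem' := by simp
      smul_mem' := fun c a ha => by
        simp only [Set.mem_setOf_eq, smul_eq_mul, map_mul, mul_assoc] at ha ⊢
        exact mul_mem (Subalgebra.algebraMap_mem _ c) ha }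
  have hJ : J = ⊤ := by
    by_contra hne
    obtain ⟨m, hm, hJm⟩ := Ideal.exists_le_maximal J hne
    obtain ⟨s, hs, hsx⟩ := key (FractionRing A) m h x fun p hp hp1 => hx ⟨p, hp⟩ hp1
    exact hs (hJm hsx)
  have h1 : (1 : A) ∈ J := hJ ▸ trivial
  simpa [J] using h1

end Groth.Agent.S4568
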