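import Groth.Statements.S4569
import Mathlib

set_option autoImplicit false
universe u
open CAlg

namespace Groth.Agent.S4569

/-- Let A be a ring, x a non-zero-divisor of A with p = xA prime. For every n > 0 the inverse image in A
of x^n A_p is x^n A. -/
theorem result {A : Type u} [CommRing A] (x : A)
    (hx : x ∈ nonZeroDivisors A) [(Ideal.span ({x} : Set A)).IsPrime] (n : ℕ) (hn : 0 < n) :
    Ideal.comap (algebraMap A (Localization.AtPrime (Ideal.span ({x} : Set A))))
      (Ideal.map (algebraMap A (Localization.AtPrime (Ideal.span ({x} : Set A)))) (Ideal.span ({x ^ n} : Set A))) =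
      Ideal.span ({x ^ n} : Set A) := by
  refine le_antisymm (fun y hy => ?_) Ideal.le_comap_map
  obtain ⟨⟨a, s⟩, hs⟩ := (IsLocalization.mem_map_algebraMap_iff
    (Ideal.span ({x} : Set A)).primeCompl (Localization.AtPrime (Ideal.span ({x} : Set A)))).1 hy
  rw [← map_mul, IsLocalization.eq_iff_exists (Ideal.span ({x} : Set A)).primeCompl] at hs
  obtain ⟨c, hc⟩ := hs
  have key : ∀ (k : ℕ) (y : A) (t : A), t ∉ Ideal.span ({x} : Set A) →
      t * y ∈ Ideal.span ({x ^ k} : Set A) → y ∈ Ideal.span ({x ^ k} : Set A) := by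
    intro k
    induction k with
    | zero => intro y t _ _; simp
    | succ k ih =>
      intro y t ht hty
      obtain ⟨d, hd⟩ := Ideal.mem_span_singleton'.1 hty
      have h1 : t * y ∈ Ideal.span ({x} : Set A) :=
        Ideal.mem_span_singleton'.2 ⟨d * x ^ k, by rw [← hd]; ring⟩
      obtain ⟨y', rfl⟩ :=
        Ideal.mem_span_singleton'.1 ((Ideal.IsPrime.mem_or_mem inferInstance h1).resolve_left ht)
      have h2 : t * y' = d * x ^ k := by
        refine sub_eq_zero.1 ((mul_right_mem_nonZeroDivisors_eq_zero_iff hx).1 ?_)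
        rw [sub_mul, sub_eq_zero, mul_assoc, mul_assoc, ← pow_succ, hd]
      obtain ⟨e, he⟩ := Ideal.mem_span_singleton'.1
        (ih y' t ht (Ideal.mem_span_singleton'.2 ⟨d, h2.symm⟩))
      exact Ideal.mem_span_singleton'.2 ⟨e, by rw [← he]; ring⟩
  refine key n y (c * s) ((c * s : (Ideal.span ({x} : Set A)).primeCompl)).2 ?_
  rw [mul_assoc, mul_comm (s : A) y, hc]
  exact Ideal.mul_mem_left _ _ a.2

end Groth.Agent.S4569
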