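import Groth.Statements.S4575
import Groth.Agent.DepthLib.RegularQuotient
import Mathlib.RingTheory.Ideal.Cotangent
-- import your own Groth.Agent.* helpers here

set_option autoImplicit false
universe u
open IsLocalRing
open EGA41

namespace Groth.Agent.S4575

/-- Let R be a regular local ring with maximal ideal m and n a proper ideal with R/n regular. Then
(n/n²) ⊗_R K → (m/m²) ⊗_R K is injective, K the residue field; stated in the equivalent form n ∩ m²
= m·n (the kernel of n/mn → m/m² is (n ∩ m²)/mn). -/
theorem result {R : Type u} [CommRing R] [IsRegularLocalRing R]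
    (n : Ideal R) (hn : n ≠ ⊤) (hreg : IsRegularRing (R ⧸ n)) :
    n ⊓ maximalIdeal R ^ 2 = maximalIdeal R * n := by
  classical
  haveI : Nontrivial (R ⧸ n) := Ideal.Quotient.nontrivial_iff.mpr hn
  haveI : IsLocalRing (R ⧸ n) := IsLocalRing.of_surjective' (Ideal.Quotient.mk _) Ideal.Quotient.mk_surjective
  haveI := IsRegularLocalRing.of_isRegularRing_of_isLocalRing (R ⧸ n)
  obtain ⟨xs, hlen, hxs, c, hc, hnc⟩ :=
    DepthLib.exists_regular_system_of_regular_quotient _ R n rfl inferInstance
  have hn_le : n ≤ maximalIdeal R := IsLocalRing.le_maximalIdeal hn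
  refine le_antisymm ?_ (le_inf Ideal.mul_le_right ((Ideal.mul_mono_right hn_le).trans (pow_two (maximalIdeal R)).ge))
  rintro z ⟨hz, hz2⟩
  let f : Fin xs.length → maximalIdeal R := fun i =>
    ⟨xs[(i : ℕ)], by rw [← hxs]; exact Ideal.subset_span (List.getElem_mem i.2)⟩
  let L : (Fin xs.length →₀ ResidueField R) →ₗ[ResidueField R] CotangentSpace R :=
    Finsupp.linearCombination (ResidueField R) fun i => (maximalIdeal R).toCotangent (f i)
  have hsurj : Function.Surjective L := fun w => by
    obtain ⟨y, rfl⟩ := (maximalIdeal R).toCotangent_surjective w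
    have hy : (y : R) ∈ Submodule.span R (Set.range fun i : Fin xs.length => xs[(i : ℕ)]) := by
      refine (congrArg (fun I : Ideal R => (y : R) ∈ I) ?_).mp y.2
      rw [← hxs]
      exact congrArg Ideal.span (by ext; simp [List.mem_iff_getElem, Fin.exists_iff])
    obtain ⟨a, ha⟩ := Submodule.mem_span_range_iff_exists_fun R |>.mp hy
    refine ⟨Finsupp.equivFunOnFinite.symm fun i => residue R (a i), ?_⟩
    have hy' : y = ∑ i, a i • f i := Subtype.ext (by
      rw [Submodule.coe_sum, ← ha]
      rfl)
    rw [Finsupp.linearCombination_apply, Finsupp.sum_fintype _ _ (by simp), hy', map_sum]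
    refine Finset.sum_congr rfl fun i _ => ?_
    rw [map_smul, Finsupp.equivFunOnFinite_symm_apply_apply]
    exact algebraMap_smul (ResidueField R) (a i) _
  have hinj : Function.Injective L := (LinearMap.injective_iff_surjective_of_finrank_eq_finrank (by
    rw [← spanFinrank_maximalIdeal_eq_finrank_cotangentSpace, ← hlen, Module.finrank_finsupp_self,
      Fintype.card_fin])).mpr hsurj
  have hz' : z ∈ Submodule.span R ((fun i : Fin xs.length => xs[(i : ℕ)]) '' {i | (i : ℕ) < c}) := by
    refine (congrArg (fun I : Ideal R => z ∈ I) ?_).mp hz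
    rw [hnc]
    refine congrArg Ideal.span ?_
    ext x
    simp [List.mem_take_iff_getElem, Fin.exists_iff]
    grind
  obtain ⟨a, ha, hsum⟩ := (Finsupp.mem_span_image_iff_linearCombination R).mp hz'
  have hzero : L (a.mapRange (residue R) (map_zero _)) = 0 := by
    have hzm : z ∈ maximalIdeal R := hn_le hz
    have h0 : (maximalIdeal R).toCotangent ⟨z, hzm⟩ = 0 := (Ideal.toCotangent_eq_zero _ _).mpr hz2
    rw [show (⟨z, hzm⟩ : maximalIdeal R) = a.sum fun i r => r • f i from Subtype.ext (by
        rw [Finsupp.sum, Submodule.coe_sum]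
        exact hsum.symm.trans (Finsupp.linearCombination_apply R a)),
      map_finsuppSum] at h0
    rw [Finsupp.linearCombination_apply, Finsupp.sum_mapRange_index (by simp), ← h0]
    refine Finset.sum_congr rfl fun i _ => ?_
    show residue R (a i) • _ = (maximalIdeal R).toCotangent (a i • f i)
    rw [map_smul]
    exact algebraMap_smul (ResidueField R) (a i) _
  have ha0 := (injective_iff_map_eq_zero L).mp hinj _ hzero
  rw [← hsum, Finsupp.linearCombination_apply]
  refine Submodule.sum_mem _ fun i hi => Ideal.mul_mem_mul ?_ ?_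
  · exact (residue_eq_zero_iff _).mp (by simpa using DFunLike.congr_fun ha0 i)
  · have hic : (i : ℕ) < c := (Finsupp.mem_supported R a).mp ha hi
    rw [hnc]
    exact Ideal.subset_span (List.mem_take_iff_getElem.mpr ⟨i, lt_min hic i.2, rfl⟩)


end Groth.Agent.S4575
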