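import Groth.Statements.S4577
import Mathlib.RingTheory.Smooth.Locus
import Mathlib.RingTheory.LocalProperties.Projective
import Mathlib.RingTheory.LocalProperties.Submodule
-- import your own Groth.Agent.* helpers here

set_option autoImplicit false
universe u
open EGA41

namespace Groth.Agent.S4577

open TensorProduct

section quotient

variable {C : Type u} [CommRing C] {P : Type u} [AddCommGroup P] [Module C P]

/-- A quotient of a projective module by a finitely generated submodule is projective if it is so locally. -/
theorem projective_quotient_of_localization [Module.Projective C P] (W : Submodule C P) (hW : W.FG)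
    (h : ∀ (m : Ideal C) [m.IsMaximal],
      Module.Projective (Localization.AtPrime m) (LocalizedModule m.primeCompl (P ⧸ W))) :
    Module.Projective C (P ⧸ W) := by
  classical
  obtain ⟨sec, hsec⟩ := Module.projective_def'.mp ‹Module.Projective C P›
  let r : (P →₀ C) →ₗ[C] P := Finsupp.linearCombination C id
  obtain ⟨g, hg⟩ := hW
  let t : Set P := ↑(g.biUnion fun w => (sec w).support)
  let j0 : (t →₀ C) →ₗ[C] (P →₀ C) := Finsupp.lmapDomain C C Subtype.val
  let π0 : (P →₀ C) →ₗ[C] (t →₀ C) := Finsupp.lcomapDomain (R := C) Subtype.val Subtype.val_injective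
  have hπj : ∀ z, π0 (j0 z) = z := fun z => Finsupp.comapDomain_mapDomain _ Subtype.val_injective z
  have hjπ : ∀ w ∈ W, j0 (π0 (sec w)) = sec w := fun w hw => by
    rw [← hg] at hw
    induction hw using Submodule.span_induction with
    | mem w hw =>
      refine Finsupp.mapDomain_comapDomain _ Subtype.val_injective _ ?_
      intro x hx
      exact ⟨⟨x, Finset.mem_coe.mpr (Finset.mem_biUnion.mpr ⟨w, hw, hx⟩)⟩, rfl⟩
    | zero => simp
    | add a b _ _ ha hb => simp only [map_add, ha, hb]
    | smul c a _ ha => simp only [map_smul, ha]
  have hsr : ∀ y, r (sec y) = y := fun y => LinearMap.congr_fun hsec y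
  let W0 : Submodule C (t →₀ C) := W.map (π0.comp sec)
  haveI : Module.FinitePresentation C ((t →₀ C) ⧸ W0) := by
    haveI : Finite t := (Finset.finite_toSet _).to_subtype
    exact Module.finitePresentation_of_surjective W0.mkQ W0.mkQ_surjective
      (by rw [Submodule.ker_mkQ]; exact Submodule.FG.map _ ⟨g, hg⟩)
  -- `Q₀` is a retract of `(P/W) × F`
  let α1 : ((t →₀ C) ⧸ W0) →ₗ[C] P ⧸ W := Submodule.liftQ W0 (W.mkQ.comp (r.comp j0)) (by
    rintro _ ⟨w, hw, rfl⟩
    simp [LinearMap.mem_ker, hjπ w hw, hsr, show w ∈ W from hw])
  let α2 : ((t →₀ C) ⧸ W0) →ₗ[C] (P →₀ C) :=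
    Submodule.liftQ W0 ((LinearMap.id - sec.comp r).comp j0) (by
      rintro _ ⟨w, hw, rfl⟩
      simp [LinearMap.mem_ker, hjπ w hw, hsr])
  let β1 : (P ⧸ W) →ₗ[C] (t →₀ C) ⧸ W0 := Submodule.liftQ W (W0.mkQ.comp (π0.comp sec)) (by
    intro w hw
    rw [LinearMap.mem_ker, LinearMap.comp_apply, Submodule.mkQ_apply, Submodule.Quotient.mk_eq_zero]
    exact ⟨w, hw, rfl⟩)
  let β2 : (P →₀ C) →ₗ[C] (t →₀ C) ⧸ W0 := W0.mkQ.comp π0
  have hαβ : β1.comp α1 + β2.comp α2 = LinearMap.id := by
    refine LinearMap.ext fun q => ?_
    obtain ⟨z, rfl⟩ := W0.mkQ_surjective q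
    simp only [LinearMap.add_apply, LinearMap.comp_apply, α1, α2, β1, β2, Submodule.mkQ_apply, Submodule.liftQ_apply,
      LinearMap.id_apply, LinearMap.sub_apply]
    rw [← Submodule.Quotient.mk_add, ← map_add π0, add_sub_cancel, hπj]
  haveI : Module.Projective C ((t →₀ C) ⧸ W0) := Module.projective_of_localization_maximal fun m hm => by
    haveI := h m
    refine Module.Projective.of_split (M := LocalizedModule m.primeCompl (P ⧸ W) × LocalizedModule m.primeCompl (P →₀ C))
      ((LocalizedModule.map m.primeCompl α1).prod (LocalizedModule.map m.primeCompl α2))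
      ((LocalizedModule.map m.primeCompl β1).coprod (LocalizedModule.map m.primeCompl β2)) ?_
    refine LinearMap.ext fun q => ?_
    induction q using LocalizedModule.induction_on with
    | h x a =>
      simp only [LinearMap.comp_apply, LinearMap.prod_apply, Function.prod, LinearMap.coprod_apply, LocalizedModule.map_mk,
        LinearMap.id_apply, LocalizedModule.mk_add_mk]
      rw [← LinearMap.comp_apply β1, ← LinearMap.comp_apply β2, ← smul_add, ← LinearMap.add_apply, hαβ,
        LinearMap.id_apply, LocalizedModule.mk_cancel_common_left]
  -- `P/W` is a retract of `Q₀ × F`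
  let γ2 : (P ⧸ W) →ₗ[C] (P →₀ C) := Submodule.liftQ W ((LinearMap.id - j0.comp π0).comp sec) (by
    intro w hw
    simp [LinearMap.mem_ker, hjπ w hw])
  refine Module.Projective.of_split (M := ((t →₀ C) ⧸ W0) × (P →₀ C)) (β1.prod γ2) (α1.coprod (W.mkQ.comp r)) ?_
  refine LinearMap.ext fun q => ?_
  obtain ⟨y, rfl⟩ := W.mkQ_surjective q
  simp only [LinearMap.comp_apply, LinearMap.prod_apply, Function.prod, LinearMap.coprod_apply, α1, β1, γ2,
    Submodule.mkQ_apply, Submodule.liftQ_apply, LinearMap.id_apply, LinearMap.sub_apply]
  rw [← Submodule.Quotient.mk_add, ← map_add r, add_sub_cancel, hsr]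

end quotient

theorem projective_kaehler {A B C : Type u} [CommRing A] [CommRing B] [CommRing C]
    [Algebra A B] [Algebra B C] [Algebra A C] [IsScalarTower A B C] [Algebra.FormallySmooth A B]
    (hsurj : Function.Surjective (algebraMap B C)) [Module.Finite B (RingHom.ker (algebraMap B C)).Cotangent]
    (h : ∀ (m : Ideal C) [m.IsMaximal],
      Module.Projective (Localization.AtPrime m) (LocalizedModule m.primeCompl (KaehlerDifferential A C))) :
    Module.Projective C (KaehlerDifferential A C) := by
  let f := KaehlerDifferential.mapBaseChange A B C
  have hfg : (LinearMap.ker f).FG := by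
    refine Submodule.FG.of_restrictScalars B ?_
    have e : (LinearMap.ker f).restrictScalars B =
        LinearMap.range (KaehlerDifferential.kerCotangentToTensor A B C) := by
      ext z
      exact (KaehlerDifferential.exact_kerCotangentToTensor_mapBaseChange A B C hsurj z)
    rw [e, LinearMap.range_eq_map]
    exact Module.Finite.fg_top.map _
  let e := f.quotKerEquivOfSurjective (KaehlerDifferential.mapBaseChange_surjective A B C hsurj)
  haveI := projective_quotient_of_localization (LinearMap.ker f) hfg fun m _ => by
    haveI := h m
    refine Module.Projective.of_split (M := LocalizedModule m.primeCompl (KaehlerDifferential A C))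
      (LocalizedModule.map m.primeCompl e.toLinearMap) (LocalizedModule.map m.primeCompl e.symm.toLinearMap) ?_
    refine LinearMap.ext fun q => ?_
    induction q using LocalizedModule.induction_on with
    | h x a => simp [LocalizedModule.map_mk]
  exact Module.Projective.of_equiv e

/-- Let B be a formally smooth A-algebra (discrete topologies) and C = B/J a quotient with J/J² finitely
generated. Then C is formally smooth over A if and only if C_m is formally smooth over A for every
maximal ideal m of C (hence also if and only if every C_p, p prime, is). (Not stated: the variant of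
the localised condition with C_m formally smooth over A_q, q the contraction of m to A, and the
further assertion that for B Noetherian the discrete topologies in the localised condition may be
replaced by the adic ones.) -/
theorem result {A B C : Type u} [CommRing A] [CommRing B] [CommRing C]
    [Algebra A B] [Algebra B C] [Algebra A C] [IsScalarTower A B C] [Algebra.FormallySmooth A B]
    (hsurj : Function.Surjective (algebraMap B C)) [Module.Finite B (RingHom.ker (algebraMap B C)).Cotangent] :
    Algebra.FormallySmooth A C ↔
      ∀ (m : Ideal C) [m.IsMaximal], Algebra.FormallySmooth A (Localization.AtPrime m) := by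
  constructor
  · intro h m _
    haveI : Algebra.FormallySmooth C (Localization.AtPrime m) := .of_isLocalization m.primeCompl
    exact .comp A C _
  · intro h
    refine ⟨?_, ?_⟩
    · exact projective_kaehler hsurj fun m _ => by
        haveI := h m
        let e := (IsLocalizedModule.iso m.primeCompl
          (KaehlerDifferential.map A A C (Localization.AtPrime m))).extendScalarsOfIsLocalization
            m.primeCompl (Localization.AtPrime m)
        exact Module.Projective.of_equiv e.symm
    · refine Module.subsingleton_of_localization_maximal (R := C)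
        (fun m _ => LocalizedModule m.primeCompl (Algebra.H1Cotangent A C))
        (fun m _ => LocalizedModule.mkLinearMap m.primeCompl _) fun m _ => ?_
      haveI := h m
      exact (IsLocalizedModule.iso m.primeCompl
        (Algebra.H1Cotangent.map A A C (Localization.AtPrime m))).subsingleton


end Groth.Agent.S4577
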