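import Groth.Statements.S4578
import Groth.Agent.PP16Lib.JacobianSplit
import Groth.Agent.PP16Lib.GeomRegLocal
import Mathlib.RingTheory.FiniteType
-- import your own Groth.Agent.* helpers here

set_option autoImplicit false
universe u
open IsLocalRing
open EGA41

namespace Groth.Agent.S4578

theorem tfae_local {k₀ k C : Type u} [Field k₀] [Field k] [Algebra k₀ k]
    [Algebra.FormallySmooth k₀ k] [CommRing C] [Algebra k C] [Algebra k₀ C] [IsScalarTower k₀ k C]
    [Algebra.FiniteType k C] (p : Ideal C) [p.IsPrime] :
    (CAlgX.IsAdicFormallySmooth k₀ (Localization.AtPrime p) (IsLocalRing.maximalIdeal (Localization.AtPrime p)) →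
      ∃ f : C, f ∉ p ∧ Algebra.FormallySmooth k₀ (Localization.Away f)) ∧
    ((∃ f : C, f ∉ p ∧ Algebra.FormallySmooth k₀ (Localization.Away f)) →
      Algebra.FormallySmooth k₀ (Localization.AtPrime p)) ∧
    (Algebra.FormallySmooth k₀ (Localization.AtPrime p) →
      CAlgX.IsAdicFormallySmooth k₀ (Localization.AtPrime p) (IsLocalRing.maximalIdeal (Localization.AtPrime p))) := by
  obtain ⟨n, φ, hφ⟩ := Algebra.FiniteType.iff_quotient_mvPolynomial''.mp ‹Algebra.FiniteType k C›
  letI : Algebra (MvPolynomial (Fin n) k) C := φ.toRingHom.toAlgebra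
  haveI : IsScalarTower k₀ (MvPolynomial (Fin n) k) C := IsScalarTower.of_algebraMap_eq fun x => by
    show _ = φ (algebraMap k₀ (MvPolynomial (Fin n) k) x)
    rw [IsScalarTower.algebraMap_apply k₀ k (MvPolynomial (Fin n) k), φ.commutes, ← IsScalarTower.algebraMap_apply]
  haveI : Algebra.FormallySmooth k₀ (MvPolynomial (Fin n) k) := Algebra.FormallySmooth.comp k₀ k _
  haveI : Module.Finite (MvPolynomial (Fin n) k) (RingHom.ker (algebraMap (MvPolynomial (Fin n) k) C)) :=
    Module.Finite.of_fg (IsNoetherian.noetherian _)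
  haveI : Module.Finite (MvPolynomial (Fin n) k) (RingHom.ker (algebraMap (MvPolynomial (Fin n) k) C)).Cotangent :=
    Module.Finite.of_surjective _ (Ideal.toCotangent_surjective _)
  refine ⟨fun h => ?_, fun ⟨f, hf, _⟩ => PP16Lib.formallySmooth_atPrime_of_away p hf, fun _ E _ _ N hN ψ _ =>
    ⟨Algebra.FormallySmooth.lift N ⟨2, hN⟩ ψ, Algebra.FormallySmooth.comp_lift N ⟨2, hN⟩ ψ⟩⟩
  obtain ⟨f, hf, h1, -⟩ := PP16Lib.exists_away_of_injective (A := k₀) (B := MvPolynomial (Fin n) k) hφ p
    (PP16Lib.injective_of_adicSmooth_atPrime hφ p h)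
  exact ⟨f, hf, h1⟩

/-- Let k₀ be a field, k an extension field of k₀ which is separable (formally smooth) over k₀, C a
k-algebra of finite type and p a prime ideal of C. The following are equivalent: C_p is formally
smooth over k₀ (discrete topologies); C_p is formally smooth over k₀ for the adic topology of its
maximal ideal; C_f is formally smooth over k₀ for some f ∉ p; C_p is geometrically regular over k₀.
(The published statement adds that the set of primes p having these properties is open in Spec C;
that openness is not stated here.) -/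
theorem result {k₀ k C : Type u} [Field k₀] [Field k] [Algebra k₀ k]
    [Algebra.FormallySmooth k₀ k] [CommRing C] [Algebra k C] [Algebra k₀ C] [IsScalarTower k₀ k C]
    [Algebra.FiniteType k C]
    (p : Ideal C) [p.IsPrime] :
    [Algebra.FormallySmooth k₀ (Localization.AtPrime p),
     CAlgX.IsAdicFormallySmooth k₀ (Localization.AtPrime p) (maximalIdeal (Localization.AtPrime p)),
     ∃ f : C, f ∉ p ∧ Algebra.FormallySmooth k₀ (Localization.Away f),
     CAlg.IsGeometricallyRegular k₀ (Localization.AtPrime p)].TFAE := by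
  obtain ⟨h23, h31, h12⟩ := tfae_local (k₀ := k₀) (k := k) p
  haveI : IsNoetherianRing C := Algebra.FiniteType.isNoetherianRing k C
  haveI : IsNoetherianRing (Localization.AtPrime p) := IsLocalization.isNoetherianRing p.primeCompl _ inferInstance
  tfae_have 1 → 2 := h12
  tfae_have 2 → 3 := h23
  tfae_have 3 → 1 := h31
  tfae_have 4 ↔ 2 := PP16Lib.isGeometricallyRegular_iff_adicSmooth
  tfae_finish

end Groth.Agent.S4578
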