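import Groth.Statements.S4579
import Groth.Agent.PP16Lib.JacobianSplit
import Groth.Agent.PP16Lib.GeomRegLocal
import Mathlib.RingTheory.FiniteType
import Groth.Agent.S4578
-- import your own Groth.Agent.* helpers here

set_option autoImplicit false
universe u
open EGA41

open scoped TensorProduct
open KaehlerDifferential

namespace Groth.Agent.S4579

/-- Let k₀ be a field, k a separable (formally smooth) extension field of k₀ and C a k-algebra of finite
type. The following are equivalent: C is formally smooth over k₀ (discrete topologies); every C_p, p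
prime, is formally smooth over k₀; every C_m, m maximal, is; C is geometrically regular over k₀.
(Geometric regularity is tested on finite extensions of k₀. The published statement quantifies the
last condition over all extensions k' of k₀; for infinite ones the base change need not be
Noetherian, so it need not be regular in the Noetherian sense, and the printed proof passes through
the local rings as here.) -/
theorem result {k₀ k C : Type u} [Field k₀] [Field k] [Algebra k₀ k]
    [Algebra.FormallySmooth k₀ k] [CommRing C] [Algebra k C] [Algebra k₀ C] [IsScalarTower k₀ k C]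
    [Algebra.FiniteType k C] :
    [Algebra.FormallySmooth k₀ C,
     ∀ (p : Ideal C) [p.IsPrime], Algebra.FormallySmooth k₀ (Localization.AtPrime p),
     ∀ (m : Ideal C) [m.IsMaximal], Algebra.FormallySmooth k₀ (Localization.AtPrime m),
     CAlg.IsGeometricallyRegular k₀ C].TFAE := by
  haveI : IsNoetherianRing C := Algebra.FiniteType.isNoetherianRing k C
  tfae_have 1 → 2 := fun _ p _ => inferInstance
  tfae_have 2 → 3 := fun h m _ => h m
  tfae_have 3 → 4 := fun h => PP16Lib.isGeometricallyRegular_iff_atPrime.mpr fun p _ => by
    haveI : IsNoetherianRing (Localization.AtPrime p) := IsLocalization.isNoetherianRing p.primeCompl _ inferInstance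
    obtain ⟨m, hm, hpm⟩ := Ideal.exists_le_maximal p (Ideal.IsPrime.ne_top ‹_›)
    obtain ⟨h23, h31, h12⟩ := S4578.tfae_local (k₀ := k₀) (k := k) m
    obtain ⟨f, hf, hfs⟩ := h23 (h12 (h m))
    exact PP16Lib.isGeometricallyRegular_iff_adicSmooth.mpr ((S4578.tfae_local (k₀ := k₀) (k := k) p).2.2
      (PP16Lib.formallySmooth_atPrime_of_away p fun hfp => hf (hpm hfp)))
  tfae_have 4 → 1 := fun h => by
    obtain ⟨n, φ, hφ⟩ := Algebra.FiniteType.iff_quotient_mvPolynomial''.mp ‹Algebra.FiniteType k C›
    letI : Algebra (MvPolynomial (Fin n) k) C := φ.toRingHom.toAlgebra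
    haveI : IsScalarTower k₀ (MvPolynomial (Fin n) k) C := IsScalarTower.of_algebraMap_eq fun x => by
      show _ = φ (algebraMap k₀ (MvPolynomial (Fin n) k) x)
      rw [IsScalarTower.algebraMap_apply k₀ k (MvPolynomial (Fin n) k), φ.commutes, ← IsScalarTower.algebraMap_apply]
    haveI : Algebra.FormallySmooth k₀ (MvPolynomial (Fin n) k) := Algebra.FormallySmooth.comp k₀ k _
    let K := RingHom.ker (algebraMap (MvPolynomial (Fin n) k) C)
    haveI : Module.Finite (MvPolynomial (Fin n) k) K := Module.Finite.of_fg (IsNoetherian.noetherian _)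
    haveI : Module.Finite (MvPolynomial (Fin n) k) K.Cotangent :=
      Module.Finite.of_surjective _ (Ideal.toCotangent_surjective _)
    let I : Ideal (MvPolynomial (Fin n) k) :=
      { carrier := {f | ∃ l : C ⊗[MvPolynomial (Fin n) k] Ω[MvPolynomial (Fin n) k⁄k₀] →ₗ[MvPolynomial (Fin n) k] K.Cotangent,
          ∀ x, l (KaehlerDifferential.kerCotangentToTensor k₀ (MvPolynomial (Fin n) k) C x) = f • x}
        add_mem' := by
          rintro a b ⟨l, hl⟩ ⟨l', hl'⟩
          exact ⟨l + l', fun x => by rw [LinearMap.add_apply, hl, hl', add_smul]⟩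
        zero_mem' := ⟨0, fun x => by rw [zero_smul]; rfl⟩
        smul_mem' := by
          rintro c a ⟨l, hl⟩
          exact ⟨c • l, fun x => by rw [LinearMap.smul_apply, hl, smul_eq_mul, mul_smul]⟩ }
    have hI : I = ⊤ := by
      by_contra hne
      obtain ⟨P, hP, hIP⟩ := Ideal.exists_le_maximal I hne
      haveI := hP.isPrime
      by_cases hKP : K ≤ P
      · have hcomap : (P.map (algebraMap (MvPolynomial (Fin n) k) C)).comap (algebraMap (MvPolynomial (Fin n) k) C) = P := by
          rw [Ideal.comap_map_of_surjective' (algebraMap (MvPolynomial (Fin n) k) C) hφ, sup_eq_left]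
          exact hKP
        haveI : (P.map (algebraMap (MvPolynomial (Fin n) k) C)).IsPrime := Ideal.map_isPrime_of_surjective hφ hKP
        haveI : IsNoetherianRing (Localization.AtPrime (P.map (algebraMap (MvPolynomial (Fin n) k) C))) :=
          IsLocalization.isNoetherianRing (P.map (algebraMap (MvPolynomial (Fin n) k) C)).primeCompl _ inferInstance
        have hinj := PP16Lib.injective_of_adicSmooth_atPrime (A := k₀) hφ (P.map (algebraMap (MvPolynomial (Fin n) k) C))
          (PP16Lib.isGeometricallyRegular_iff_adicSmooth.mp (PP16Lib.isGeometricallyRegular_iff_atPrime.mp h _))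
        rw [PP16Lib.injective_residueField_iff hφ P _ hcomap.symm] at hinj
        obtain ⟨f, hf, l, hl⟩ := PP16Lib.exists_smul_id_of_injective hφ P hKP hinj
        exact hf (hIP ⟨l, hl⟩)
      · obtain ⟨x, hx, hxP⟩ := SetLike.not_le_iff_exists.mp hKP
        refine hxP (hIP ⟨0, fun m => ?_⟩)
        obtain ⟨m, rfl⟩ := Ideal.toCotangent_surjective _ m
        rw [LinearMap.zero_apply, ← map_smul, eq_comm, Ideal.toCotangent_eq_zero, pow_two]
        exact Ideal.mul_mem_mul hx m.2
    obtain ⟨l, hl⟩ := (hI ▸ Submodule.mem_top : (1 : MvPolynomial (Fin n) k) ∈ I)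
    haveI : IsLocalization (⊥ : Submonoid C) C := IsLocalization.self bot_le
    exact PP16Lib.formallySmooth_of_smul_id hφ 1 l hl (⊥ : Submonoid C) (by simp)
  tfae_finish

end Groth.Agent.S4579
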