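import Groth.Statements.S4580
import Groth.Agent.Greenberg.Smooth
import Mathlib.RingTheory.Etale.Kaehler
import Mathlib.LinearAlgebra.TensorProduct.Quotient
import Mathlib.RingTheory.Localization.Ideal
import Mathlib.RingTheory.LocalRing.ResidueField.Basic
import Mathlib.Algebra.Module.Projective
-- import your own Groth.Agent.* helpers here

set_option autoImplicit false
universe u
open EGA41

namespace Groth.Agent.S4580

open scoped TensorProduct
open KaehlerDifferential

/-- Rows independent over a field: some square minor is invertible. -/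
theorem exists_minor {L ι : Type*} [Field L] [Finite ι] {m : ℕ} (M : Fin m → ι → L)
    (hrows : ∀ c : Fin m → L, (∀ i, ∑ j, c j * M j i = 0) → c = 0) :
    ∃ e : Fin m → ι, IsUnit (Matrix.of fun j l => M j (e l)).det := by
  classical
  have hcol : Submodule.span L (Set.range fun i => fun j => M j i) = ⊤ := by
    by_contra hne
    obtain ⟨φ, hφ0, hφ⟩ := Submodule.exists_le_ker_of_lt_top _ (lt_top_iff_ne_top.mpr hne)
    refine hφ0 ?_
    have hc : (fun j => φ (Pi.single j 1)) = 0 := hrows _ fun i => by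
      have h := hφ (Submodule.subset_span ⟨i, rfl⟩)
      rw [LinearMap.mem_ker] at h
      rw [← h]
      show _ = φ (fun j => M j i)
      conv_rhs => rw [pi_eq_sum_univ' (fun j => M j i), map_sum]
      simp [mul_comm]
    refine LinearMap.ext fun v => ?_
    rw [pi_eq_sum_univ' v, map_sum]
    simp [fun j => congrFun hc j]
  obtain ⟨b, hbsub, hbspan, hbli⟩ :=
    exists_linearIndependent L (Set.range fun i => fun j => M j i)
  rw [hcol] at hbspan
  let B : Module.Basis b L (Fin m → L) := Module.Basis.mk hbli (by rw [Subtype.range_coe, hbspan])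
  haveI : Finite b := hbli.finite
  haveI := Fintype.ofFinite b
  have hcard : Fintype.card b = m := by
    rw [← Module.finrank_eq_card_basis B, Module.finrank_fin_fun]
  let eb : Fin m ≃ b := (Fintype.equivFinOfCardEq hcard).symm
  choose e he using fun l => hbsub (eb l).2
  refine ⟨e, (Matrix.isUnit_iff_isUnit_det _).mp ?_⟩
  rw [← Matrix.linearIndependent_cols_iff_isUnit]
  have hcols : (Matrix.of fun j l => M j (e l)).col = fun l => (eb l).1 := funext fun l => he l
  rw [hcols]
  exact hbli.comp eb eb.injective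

/-- Elements of a projective module independent at a prime are separated by linear forms. -/
theorem exists_forms_det_notMem {B : Type*} [CommRing B] (q : Ideal B) [q.IsPrime] {M : Type*}
    [AddCommGroup M] [Module B M] [Module.Projective B M] {m : ℕ} (w : Fin m → M)
    (h : ∀ c : Fin m → B, (∑ i, c i • w i) ∈ q • (⊤ : Submodule B M) → ∀ i, c i ∈ q) :
    ∃ φ : Fin m → (M →ₗ[B] B), (Matrix.of fun i j => φ j (w i)).det ∉ q := by
  classical
  obtain ⟨σ, hσ⟩ := Module.Projective.out (R := B) (P := M)
  let s : Finset M := Finset.univ.biUnion fun i => (σ (w i)).support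
  let κ := q.ResidueField
  have hker : ∀ x : B, algebraMap B κ x = 0 ↔ x ∈ q := fun x => Ideal.algebraMap_residueField_eq_zero
  obtain ⟨e, he⟩ := exists_minor (L := κ) (fun i (z : s) => algebraMap B κ (σ (w i) z)) (by
    intro c hc
    obtain ⟨d, hd⟩ := IsLocalization.exist_integer_multiples_of_finset
      (nonZeroDivisors (B ⧸ q)) (Finset.univ.image c)
    choose a ha using fun i => hd (c i) (Finset.mem_image.mpr ⟨i, Finset.mem_univ _, rfl⟩)
    choose a' ha' using fun i => Ideal.Quotient.mk_surjective (a i)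
    have hd0 : algebraMap (B ⧸ q) κ d ≠ 0 :=
      IsFractionRing.to_map_ne_zero_of_mem_nonZeroDivisors d.2
    have hca : ∀ i, algebraMap B κ (a' i) = algebraMap (B ⧸ q) κ d * c i := fun i => by
      rw [IsScalarTower.algebraMap_apply B (B ⧸ q) κ]
      show algebraMap (B ⧸ q) κ (Ideal.Quotient.mk q (a' i)) = _
      rw [ha', ha, Algebra.smul_def]
    have hmem : ∀ z : M, σ (∑ i, a' i • w i) z ∈ q := by
      intro z
      simp only [map_sum, map_smul, Finsupp.finsetSum_apply, Finsupp.smul_apply, smul_eq_mul]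
      by_cases hz : z ∈ s
      · rw [← hker, map_sum]
        simp only [map_mul, hca, mul_assoc, ← Finset.mul_sum]
        rw [hc ⟨z, hz⟩, mul_zero]
      · refine sum_mem fun i _ => ?_
        have : σ (w i) z = 0 := by
          by_contra hne
          exact hz (Finset.mem_biUnion.mpr ⟨i, Finset.mem_univ _, Finsupp.mem_support_iff.mpr hne⟩)
        rw [this, mul_zero]
        exact q.zero_mem
    have hin : (∑ i, a' i • w i) ∈ q • (⊤ : Submodule B M) := by
      rw [← hσ (∑ i, a' i • w i), Finsupp.linearCombination_apply]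
      exact Submodule.sum_mem _ fun z _ => Submodule.smul_mem_smul (hmem z) trivial
    funext i
    have h0 := (hker _).mpr (h a' hin i)
    rw [hca] at h0
    exact (mul_eq_zero.mp h0).resolve_left hd0)
  refine ⟨fun j => (Finsupp.lapply (e j : M)).comp σ, fun hmem => ?_⟩
  have := (hker _).mpr hmem
  rw [RingHom.map_det] at this
  exact he.ne_zero this

/-- Minimal generating family of a contained ideal in the localisation, with coefficients detection. -/
theorem exists_minimal_generators {B : Type*} [CommRing B] [IsNoetherianRing B] (J q : Ideal B)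
    [q.IsPrime] (hJq : J ≤ q) :
    ∃ (m : ℕ) (f : Fin m → B), (∀ i, f i ∈ J) ∧
      J.map (algebraMap B (Localization.AtPrime q)) =
        Ideal.span (Set.range fun i => algebraMap B (Localization.AtPrime q) (f i)) ∧
      ∀ c : Fin m → Localization.AtPrime q,
        (∑ i, c i * algebraMap B (Localization.AtPrime q) (f i)) ∈
          IsLocalRing.maximalIdeal (Localization.AtPrime q) * J.map (algebraMap B (Localization.AtPrime q)) →
        ∀ i, c i ∈ IsLocalRing.maximalIdeal (Localization.AtPrime q) := by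
  classical
  let Q := Localization.AtPrime q
  let mx := IsLocalRing.maximalIdeal Q
  obtain ⟨m, f, hfJ, hspan, hmin⟩ : ∃ (m : ℕ) (f : Fin m → B), (∀ i, f i ∈ J) ∧
      Ideal.span (Set.range fun i => algebraMap B Q (f i)) = J.map (algebraMap B Q) ∧
      ∀ m' (f' : Fin m' → B), (∀ i, f' i ∈ J) →
        Ideal.span (Set.range fun i => algebraMap B Q (f' i)) = J.map (algebraMap B Q) → m ≤ m' := by
    have hex : ∃ m, ∃ f : Fin m → B, (∀ i, f i ∈ J) ∧
        Ideal.span (Set.range fun i => algebraMap B Q (f i)) = J.map (algebraMap B Q) := by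
      obtain ⟨S, hS⟩ := IsNoetherian.noetherian J
      refine ⟨S.card, fun j => (S.equivFin.symm j).1,
        fun j => hS ▸ Submodule.subset_span (S.equivFin.symm j).2, ?_⟩
      rw [← hS, Ideal.submodule_span_eq, Ideal.map_span]
      congr 1
      ext a
      constructor
      · rintro ⟨j, rfl⟩
        exact ⟨_, (S.equivFin.symm j).2, rfl⟩
      · rintro ⟨x, hx, rfl⟩
        exact ⟨S.equivFin ⟨x, hx⟩, by simp⟩
    obtain ⟨f, h1, h2⟩ := Nat.find_spec hex
    exact ⟨_, f, h1, h2, fun m' f' h1' h2' => Nat.find_min' hex ⟨f', h1', h2'⟩⟩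
  refine ⟨m, f, hfJ, hspan.symm, fun c hc j₀ => ?_⟩
  by_contra hj₀
  have hu : IsUnit (c j₀) := by
    by_contra hnu
    exact hj₀ hnu
  obtain ⟨T, hT⟩ : ∃ T : Ideal Q,
      T = Ideal.span ((fun j => algebraMap B Q (f j)) '' {j | j ≠ j₀}) := ⟨_, rfl⟩
  have hTJ : J.map (algebraMap B Q) ≤ T := by
    refine Submodule.le_of_le_smul_of_le_jacobson_bot (I := mx) (IsNoetherian.noetherian _) ?_ ?_
    · exact IsLocalRing.maximalIdeal_le_jacobson _
    · conv_lhs => rw [← hspan]
      rw [Ideal.span_le]
      rintro _ ⟨j, rfl⟩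
      by_cases hj : j = j₀
      swap
      · exact Submodule.mem_sup_left (hT ▸ Ideal.subset_span ⟨j, hj, rfl⟩)
      subst hj
      rw [SetLike.mem_coe, ← Ideal.mul_unit_mem_iff_mem _ hu]
      have hsplit : algebraMap B Q (f j) * c j =
          (∑ i, c i * algebraMap B Q (f i)) -
            ∑ i ∈ Finset.univ.erase j, c i * algebraMap B Q (f i) := by
        rw [← Finset.add_sum_erase _ _ (Finset.mem_univ j)]
        ring
      rw [hsplit]
      refine sub_mem (Submodule.mem_sup_right ?_) (Submodule.mem_sup_left ?_)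
      · rw [smul_eq_mul]; exact hc
      · refine sum_mem fun i hi => Ideal.mul_mem_left _ _ (hT ▸ Ideal.subset_span ⟨i, ?_, rfl⟩)
        exact (Finset.mem_erase.mp hi).1
  have hT2 : T = J.map (algebraMap B Q) := le_antisymm (by
    rw [hT, Ideal.span_le]; rintro _ ⟨j, -, rfl⟩
    exact Ideal.mem_map_of_mem _ (hfJ j)) hTJ
  have hle := hmin (m - 1) (fun i => f ((Finset.univ.erase j₀).equivFinOfCardEq (by simp) |>.symm i).1)
    (fun i => hfJ _) (by
      rw [← hT2, hT]
      congr 1
      ext a
      constructor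
      · rintro ⟨i, rfl⟩
        exact ⟨_, (Finset.mem_erase.mp
          ((Finset.univ.erase j₀).equivFinOfCardEq (by simp) |>.symm i).2).1, rfl⟩
      · rintro ⟨i, hi, rfl⟩
        exact ⟨(Finset.univ.erase j₀).equivFinOfCardEq (by simp) ⟨i, by simpa using hi⟩, by simp⟩)
  have := j₀.2
  omega

/-- Split injectivity of the conormal map is the Jacobian criterion. -/
theorem splitInjective_iff {k₀ B : Type u} [CommRing k₀] [CommRing B] [Algebra k₀ B]
    [IsNoetherianRing B] [Algebra.FormallySmooth k₀ B] (J q : Ideal B) [q.IsPrime] (hJq : J ≤ q) :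
    (∃ l, l ∘ₗ kerCotangentToTensor k₀ (Localization.AtPrime q)
        (Localization.AtPrime q ⧸ J.map (algebraMap B (Localization.AtPrime q))) = LinearMap.id) ↔
    ∃ (m : ℕ) (f : Fin m → B) (D : Fin m → Derivation k₀ B B),
      (∀ i, f i ∈ J) ∧
      J.map (algebraMap B (Localization.AtPrime q)) =
        Ideal.span (Set.range fun i => algebraMap B (Localization.AtPrime q) (f i)) ∧
      Matrix.det (Matrix.of fun i j => D j (f i)) ∉ q := by
  classical
  let Q := Localization.AtPrime q
  let I' := J.map (algebraMap B Q)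
  let A' := Q ⧸ I'
  let mx := IsLocalRing.maximalIdeal Q
  have hkerI : RingHom.ker (algebraMap Q A') = I' := Ideal.mk_ker
  have hI'm : I' ≤ mx := by
    refine (Ideal.map_mono hJq).trans (le_of_eq ?_)
    exact IsLocalization.AtPrime.map_eq_maximalIdeal q Q
  constructor
  · rintro ⟨l, hl⟩
    obtain ⟨m, f, hfJ, hspan, hmin⟩ := exists_minimal_generators J q hJq
    have hfI : ∀ i, algebraMap B Q (f i) ∈ RingHom.ker (algebraMap Q A') := fun i =>
      hkerI.symm ▸ Ideal.mem_map_of_mem _ (hfJ i)
    suffices key : ∀ c : Fin m → B, (∑ i, c i • KaehlerDifferential.D k₀ B (f i)) ∈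
        q • (⊤ : Submodule B Ω[B⁄k₀]) → ∀ i, c i ∈ q by
      obtain ⟨φ, hφ⟩ := exists_forms_det_notMem (M := Ω[B⁄k₀]) q
        (fun i => KaehlerDifferential.D k₀ B (f i)) key
      exact ⟨m, f, fun j => (φ j).compDer (KaehlerDifferential.D k₀ B), hfJ, hspan, hφ⟩
    intro c hc
    -- coefficients lie in `q`
    obtain ⟨T₀, hT₀⟩ : ∃ T₀ : Ω[Q⁄k₀],
        T₀ = ∑ i, algebraMap B Q (c i) • KaehlerDifferential.D k₀ Q (algebraMap B Q (f i)) := ⟨_, rfl⟩
    have hT₀mem : T₀ ∈ mx • (⊤ : Submodule Q Ω[Q⁄k₀]) := by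
      have himg : ∀ x ∈ q • (⊤ : Submodule B Ω[B⁄k₀]),
          KaehlerDifferential.map k₀ k₀ B Q x ∈ mx • (⊤ : Submodule Q Ω[Q⁄k₀]) := by
        intro x hx
        refine Submodule.smul_induction_on hx (fun a ha y _ => ?_) (fun x y hx hy => ?_)
        · rw [map_smul, ← algebraMap_smul Q a]
          refine Submodule.smul_mem_smul ?_ trivial
          exact (IsLocalization.AtPrime.map_eq_maximalIdeal q Q).le (Ideal.mem_map_of_mem _ ha)
        · rw [map_add]; exact add_mem hx hy
      have := himg _ hc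
      simp only [map_sum, map_smul, KaehlerDifferential.map_D] at this
      rw [hT₀]
      simpa only [algebraMap_smul] using this
    obtain ⟨x, hx⟩ : ∃ x : (RingHom.ker (algebraMap Q A')),
        x.1 = ∑ i, algebraMap B Q (c i) * algebraMap B Q (f i) :=
      ⟨∑ i, algebraMap B Q (c i) • ⟨algebraMap B Q (f i), hfI i⟩, by simp [Algebra.smul_def]⟩
    have hkx : kerCotangentToTensor k₀ Q A' (Ideal.toCotangent _ x) = (1 : A') ⊗ₜ T₀ := by
      refine (kerCotangentToTensor_toCotangent k₀ Q A' x).trans ?_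
      rw [hx, map_sum, hT₀, TensorProduct.tmul_sum, TensorProduct.tmul_sum]
      refine Finset.sum_congr rfl fun i _ => ?_
      rw [Derivation.leibniz, TensorProduct.tmul_add]
      have hz : (1 : A') ⊗ₜ[Q] (algebraMap B Q (f i) • KaehlerDifferential.D k₀ Q (algebraMap B Q (c i))) = 0 := by
        have h0 : algebraMap B Q (f i) • (1 : A') = 0 :=
          (Algebra.algebraMap_eq_smul_one _).symm.trans (hfI i)
        rw [← TensorProduct.smul_tmul, h0, TensorProduct.zero_tmul]
      rw [hz, add_zero]
    have hcot : Ideal.toCotangent _ x ∈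
        mx • (⊤ : Submodule Q (RingHom.ker (algebraMap Q A')).Cotangent) := by
      have h1 : Ideal.toCotangent _ x = l ((1 : A') ⊗ₜ T₀) := by
        rw [← hkx]; exact (LinearMap.congr_fun hl _).symm
      rw [h1]
      have h2 : ((LinearMap.comp l ((TensorProduct.mk Q A' Ω[Q⁄k₀]) 1)) T₀) ∈
          mx • (⊤ : Submodule Q (RingHom.ker (algebraMap Q A')).Cotangent) :=
        Submodule.smul_induction_on hT₀mem
          (fun a ha y _ => by rw [map_smul]; exact Submodule.smul_mem_smul ha trivial)
          (fun x y hx hy => by rw [map_add]; exact add_mem hx hy)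
      exact h2
    have hxI : x.1 ∈ mx * I' := by
      have h3 : ∃ y : RingHom.ker (algebraMap Q A'), y.1 ∈ mx * I' ∧
          Ideal.toCotangent _ y = Ideal.toCotangent _ x := by
        refine Submodule.smul_induction_on hcot (fun a ha z _ => ?_) (fun z₁ z₂ h₁ h₂ => ?_)
        · obtain ⟨y, rfl⟩ := Ideal.toCotangent_surjective _ z
          refine ⟨a • y, ?_, map_smul _ _ _⟩
          exact Ideal.mul_mem_mul ha (hkerI.le y.2)
        · obtain ⟨y₁, hy₁, rfl⟩ := h₁
          obtain ⟨y₂, hy₂, rfl⟩ := h₂
          exact ⟨y₁ + y₂, add_mem hy₁ hy₂, map_add _ _ _⟩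
      obtain ⟨y, hy, hyx⟩ := h3
      rw [Ideal.toCotangent_eq] at hyx
      have hyx' : y.1 - x.1 ∈ I' ^ 2 := Ideal.pow_right_mono hkerI.le 2 hyx
      rw [pow_two] at hyx'
      have := sub_mem hy (Ideal.mul_mono_left hI'm hyx')
      simpa using this
    intro i
    have := hmin (fun i => algebraMap B Q (c i)) (hx ▸ hxI) i
    exact (IsLocalization.AtPrime.to_map_mem_maximal_iff Q q (c i)).mp this
  · rintro ⟨m, f, D, hfJ, hspan, hdet⟩
    have hfI : ∀ i, algebraMap B Q (f i) ∈ RingHom.ker (algebraMap Q A') := fun i =>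
      hkerI.symm ▸ Ideal.mem_map_of_mem _ (hfJ i)
    haveI : Algebra.FormallyEtale B Q := .of_isLocalization q.primeCompl
    have hbc := KaehlerDifferential.isBaseChange_of_formallyEtale k₀ B Q
    let φ : Fin m → (Ω[Q⁄k₀] →ₗ[Q] Q) := fun j =>
      hbc.lift ((Algebra.linearMap B Q) ∘ₗ (D j).liftKaehlerDifferential)
    have hφ : ∀ j b, φ j (KaehlerDifferential.D k₀ Q (algebraMap B Q b)) = algebraMap B Q (D j b) := by
      intro j b
      have h1 := hbc.lift_eq ((Algebra.linearMap B Q) ∘ₗ (D j).liftKaehlerDifferential)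
        (KaehlerDifferential.D k₀ B b)
      rw [KaehlerDifferential.map_D] at h1
      simpa [φ, Derivation.liftKaehlerDifferential_comp_D] using h1
    obtain ⟨W, hW⟩ : ∃ W : Matrix (Fin m) (Fin m) Q,
        (Matrix.of fun i j => algebraMap B Q (D j (f i))) * W = 1 := by
      refine ⟨_, Matrix.mul_nonsing_inv _ ?_⟩
      have := IsLocalization.map_units Q (⟨_, hdet⟩ : q.primeCompl)
      rw [RingHom.map_det] at this
      exact this
    let π : (Fin m → Q) →ₗ[Q] (RingHom.ker (algebraMap Q A')).Cotangent :=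
      Fintype.linearCombination Q fun i => Ideal.toCotangent _ ⟨algebraMap B Q (f i), hfI i⟩
    let l₀ : Ω[Q⁄k₀] →ₗ[Q] (RingHom.ker (algebraMap Q A')).Cotangent :=
      π ∘ₗ W.vecMulLinear ∘ₗ LinearMap.pi φ
    have hkill : I' • (⊤ : Submodule Q Ω[Q⁄k₀]) ≤ LinearMap.ker l₀ := by
      refine Submodule.smul_le.mpr fun a ha y _ => ?_
      rw [LinearMap.mem_ker, map_smul]
      obtain ⟨z, hz⟩ := Ideal.toCotangent_surjective _ (l₀ y)
      rw [← hz, ← map_smul, Ideal.toCotangent_eq_zero, pow_two]
      exact Ideal.mul_mem_mul (hkerI.ge ha) z.2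
    let l : A' ⊗[Q] Ω[Q⁄k₀] →ₗ[Q] (RingHom.ker (algebraMap Q A')).Cotangent :=
      (Submodule.liftQ _ l₀ hkill) ∘ₗ (TensorProduct.quotTensorEquivQuotSMul Ω[Q⁄k₀] I').toLinearMap
    have hl1 : ∀ y, l ((1 : A') ⊗ₜ y) = l₀ y := by
      intro y
      show Submodule.liftQ _ l₀ hkill (TensorProduct.quotTensorEquivQuotSMul _ I'
        (Ideal.Quotient.mk I' 1 ⊗ₜ y)) = _
      rw [TensorProduct.quotTensorEquivQuotSMul_mk_tmul, one_smul]
      rfl
    refine ⟨l, ?_⟩
    refine LinearMap.ext fun z => ?_
    obtain ⟨x, rfl⟩ := Ideal.toCotangent_surjective _ z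
    obtain ⟨c, hc⟩ : ∃ c : Fin m → Q, ∑ i, c i * algebraMap B Q (f i) = x.1 := by
      have := hkerI.le x.2
      rw [show I' = Ideal.span (Set.range fun i => algebraMap B Q (f i)) from hspan,
        Ideal.mem_span_range_iff_exists_fun] at this
      exact this
    have hx : x = ∑ i, c i • ⟨algebraMap B Q (f i), hfI i⟩ := Subtype.ext (by simp [hc])
    have hgen : ∀ i, l (kerCotangentToTensor k₀ Q A' (Ideal.toCotangent _ ⟨algebraMap B Q (f i), hfI i⟩)) =
        Ideal.toCotangent _ ⟨algebraMap B Q (f i), hfI i⟩ := by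
      intro i
      have h1 : kerCotangentToTensor k₀ Q A' (Ideal.toCotangent _ ⟨algebraMap B Q (f i), hfI i⟩) =
          (1 : A') ⊗ₜ KaehlerDifferential.D k₀ Q (algebraMap B Q (f i)) :=
        kerCotangentToTensor_toCotangent k₀ Q A' _
      rw [h1, hl1]
      show π (Matrix.vecMul (fun j => φ j _) W) = _
      have h2 : Matrix.vecMul (fun j => φ j (KaehlerDifferential.D k₀ Q (algebraMap B Q (f i)))) W =
          Pi.single i 1 := by
        simp only [hφ]
        rw [show (fun j => algebraMap B Q (D j (f i))) =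
          Matrix.vecMul (Pi.single i 1) (Matrix.of fun i j => algebraMap B Q (D j (f i))) from ?_,
          Matrix.vecMul_vecMul, hW, Matrix.vecMul_one]
        rw [Matrix.single_one_vecMul]
        rfl
      rw [h2]
      simp [π, Fintype.linearCombination_apply_single]
    rw [hx, map_sum]
    simp only [map_smul, LinearMap.comp_apply, map_sum, LinearMap.id_apply]
    exact Finset.sum_congr rfl fun i _ => congrArg _ (hgen i)

/-- Let k₀ be a field, k a separable (formally smooth) extension field of k₀, B = k[T_1, ..., T_r], J an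
ideal of B and q a prime of B containing J, with image p in C = B/J. Then C_p is formally smooth
over k₀ for the discrete topologies if and only if there exist f_1, ..., f_m ∈ J whose images
generate J B_q and k₀-derivations D_1, ..., D_m of B with det(D_j f_i) ∉ q. -/
theorem result {k₀ k : Type u} [Field k₀] [Field k] [Algebra k₀ k]
    [Algebra.FormallySmooth k₀ k] (r : ℕ) (J q : Ideal (MvPolynomial (Fin r) k)) [q.IsPrime] (hJq : J ≤ q)
    [(q.map (Ideal.Quotient.mk J)).IsPrime] :
    Algebra.FormallySmooth k₀ (Localization.AtPrime (q.map (Ideal.Quotient.mk J))) ↔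
      ∃ (m : ℕ) (f : Fin m → MvPolynomial (Fin r) k) (D : Fin m → Derivation k₀ (MvPolynomial (Fin r) k) (MvPolynomial (Fin r) k)),
        (∀ i, f i ∈ J) ∧
        J.map (algebraMap (MvPolynomial (Fin r) k) (Localization.AtPrime q)) =
          Ideal.span (Set.range fun i => algebraMap (MvPolynomial (Fin r) k) (Localization.AtPrime q) (f i)) ∧
        Matrix.det (Matrix.of fun i j => D j (f i)) ∉ q := by
  haveI : Algebra.FormallySmooth k₀ (MvPolynomial (Fin r) k) := .comp k₀ k _
  let Q := Localization.AtPrime q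
  haveI : Algebra.FormallySmooth k₀ Q := .comp k₀ (MvPolynomial (Fin r) k) _
  let A' := Q ⧸ J.map (algebraMap (MvPolynomial (Fin r) k) Q)
  have hsub : Algebra.algebraMapSubmonoid (MvPolynomial (Fin r) k ⧸ J) q.primeCompl =
      (q.map (Ideal.Quotient.mk J)).primeCompl := by
    ext x
    obtain ⟨x, rfl⟩ := Ideal.Quotient.mk_surjective x
    have hmem : Ideal.Quotient.mk J x ∈ q.map (Ideal.Quotient.mk J) ↔ x ∈ q := by
      rw [Ideal.mem_quotient_iff_mem hJq]
    constructor
    · rintro ⟨y, hy, hyx⟩ hx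
      apply hy
      have h1 : y - x ∈ J := Ideal.Quotient.eq.mp hyx
      simpa using add_mem (hJq h1) (hmem.mp hx)
    · intro hx
      exact ⟨x, fun h => hx (hmem.mpr h), rfl⟩
  haveI : IsLocalization (q.map (Ideal.Quotient.mk J)).primeCompl A' := hsub ▸ inferInstance
  let e : Localization.AtPrime (q.map (Ideal.Quotient.mk J)) ≃ₐ[MvPolynomial (Fin r) k ⧸ J] A' :=
    IsLocalization.algEquiv (q.map (Ideal.Quotient.mk J)).primeCompl
      (Localization.AtPrime (q.map (Ideal.Quotient.mk J))) A'
  let e' : Localization.AtPrime (q.map (Ideal.Quotient.mk J)) ≃ₐ[k₀] A' :=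
    AlgEquiv.ofRingEquiv (f := e.toRingEquiv) fun x => by
      rw [IsScalarTower.algebraMap_apply k₀ (MvPolynomial (Fin r) k ⧸ J)]
      exact (e.commutes _).trans rfl
  refine (Algebra.FormallySmooth.iff_of_equiv (R := k₀)
    (A := Localization.AtPrime (q.map (Ideal.Quotient.mk J))) (B := A') e').trans ?_
  rw [Algebra.FormallySmooth.iff_split_injection (P := Q) (A := A') Ideal.Quotient.mk_surjective]
  exact splitInjective_iff J q hJq

end Groth.Agent.S4580
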