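import Groth.Statements.S4583
import Groth.Agent.AdicFlat.Regular
import Groth.Agent.GRing17.Complete
import Groth.Agent.PP16Lib.AdicTopLift

set_option autoImplicit false
universe u
open IsLocalRing
open EGA41

namespace Groth.Agent.S4583

/-- Let A be a complete Noetherian local domain with fraction field K, p a prime of A, B = A_p, q a
prime of the completion B̂ of B with q ∩ B = 0. Then B̂_q is a K-algebra formally smooth over K for
the adic topology of its maximal ideal (the published statement adds that it is then geometrically
regular over K; that consequence is not stated). -/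
theorem result {A : Type u} [CommRing A]
    [IsDomain A] [IsLocalRing A] [IsNoetherianRing A] [IsAdicComplete (maximalIdeal A) A] (p : Ideal A) [p.IsPrime]
    (q : Ideal (AdicCompletion (maximalIdeal (Localization.AtPrime p)) (Localization.AtPrime p))) [q.IsPrime]
    (hq : q.comap (algebraMap (Localization.AtPrime p)
      (AdicCompletion (maximalIdeal (Localization.AtPrime p)) (Localization.AtPrime p))) = ⊥)
    [Algebra A (Localization.AtPrime q)]
    [IsScalarTower A (AdicCompletion (maximalIdeal (Localization.AtPrime p)) (Localization.AtPrime p))
      (Localization.AtPrime q)]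
    [Algebra (FractionRing A) (Localization.AtPrime q)] [IsScalarTower A (FractionRing A) (Localization.AtPrime q)] :
    CAlgX.IsAdicFormallySmooth (FractionRing A) (Localization.AtPrime q) (maximalIdeal (Localization.AtPrime q)) := by
  rename_i _ hAC _ hAK
  -- the binders compare the scalar actions of `A` on `B̂_q` coming from `B̂` and from `K`
  have htA : ∀ a, algebraMap (AdicCompletion (maximalIdeal (Localization.AtPrime p)) (Localization.AtPrime p))
        (Localization.AtPrime q) (algebraMap A _ a) =
      algebraMap (FractionRing A) (Localization.AtPrime q) (algebraMap A (FractionRing A) a) := fun a => by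
    rw [Algebra.algebraMap_eq_smul_one, Algebra.algebraMap_eq_smul_one, Algebra.algebraMap_eq_smul_one,
      Algebra.algebraMap_eq_smul_one]
    refine (hAC.smul_assoc a 1 1).trans (Eq.trans ?_ (hAK.smul_assoc a 1 1).symm)
    rw [one_smul, one_smul]
  let B := Localization.AtPrime p
  let C := AdicCompletion (maximalIdeal B) B
  have : IsNoetherianRing C := CohenStruct.isNoetherianRing_completion B
  have hreg := (GRing17.isGRing_of_complete (A := A)).2 p
  let r := q.comap (algebraMap B C)
  let L := Localization.AtPrime r
  let _ : Algebra L (Localization.AtPrime q) := (Localization.localRingHom r q (algebraMap B C) rfl).toAlgebra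
  have : IsScalarTower B L (Localization.AtPrime q) := IsScalarTower.of_algebraMap_eq fun b => by
    rw [RingHom.algebraMap_toAlgebra, Localization.localRingHom_to_map,
      IsScalarTower.algebraMap_apply B C (Localization.AtPrime q)]
  have hfs := AdicFlat.adicSmooth_localization_of_isRegularHom hreg q r rfl
  -- `B_⊥` is the fraction field of `A`
  let K := FractionRing A
  let g : B →+* K := IsLocalization.lift (M := p.primeCompl) (g := algebraMap A K) fun y => isUnit_iff_ne_zero.mpr fun h0 =>
    y.2 (by rw [(map_eq_zero_iff _ (IsFractionRing.injective A K)).mp h0]; exact p.zero_mem)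
  have hg : ∀ a, g (algebraMap A B a) = algebraMap A K a := fun a => IsLocalization.lift_eq _ a
  have hA0 : ∀ b : B, g b = 0 → b = 0 := by
    intro b hb
    obtain ⟨a, s, rfl⟩ := IsLocalization.exists_mk'_eq p.primeCompl b
    have h1 := congrArg g (IsLocalization.mk'_spec B a s)
    rw [map_mul, hb, zero_mul, hg, eq_comm, map_eq_zero_iff _ (IsFractionRing.injective A K)] at h1
    rw [h1, IsLocalization.mk'_zero]
  let σ : L →+* K := IsLocalization.lift (M := r.primeCompl) (g := g) fun y => isUnit_iff_ne_zero.mpr fun h0 =>
    y.2 (by rw [hA0 _ h0]; exact r.zero_mem)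
  have hσ : ∀ b, σ (algebraMap B L b) = g b := fun b => IsLocalization.lift_eq _ b
  refine AdicFlat.adicSmooth_of_surjective_base σ (fun x => ?_) (fun l => ?_) _ hfs
  · obtain ⟨a, s, rfl⟩ := IsLocalization.exists_mk'_eq (nonZeroDivisors A) x
    have hu : IsUnit (algebraMap B L (algebraMap A B s)) := IsLocalization.map_units L (⟨_, fun hmem => by
      have h0 : algebraMap A B s = 0 := (Submodule.mem_bot B).mp (hq.le hmem)
      have := congrArg g h0
      rw [hg, map_zero, map_eq_zero_iff _ (IsFractionRing.injective A K)] at this
      exact nonZeroDivisors.coe_ne_zero s this⟩ : r.primeCompl)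
    refine ⟨algebraMap B L (algebraMap A B a) * (hu.unit⁻¹ : Lˣ), ?_⟩
    rw [IsLocalization.eq_mk'_iff_mul_eq, ← hg s, ← hσ (algebraMap A B s), ← map_mul, mul_assoc,
      IsUnit.val_inv_mul, mul_one, hσ, hg]
  · refine RingHom.congr_fun (IsLocalization.ringHom_ext r.primeCompl (j := algebraMap L (Localization.AtPrime q))
      (k := (algebraMap K (Localization.AtPrime q)).comp σ) (IsLocalization.ringHom_ext p.primeCompl (RingHom.ext fun a => ?_))) l
    simp only [RingHom.comp_apply]
    rw [hσ, hg, ← htA, ← IsScalarTower.algebraMap_apply B L, IsScalarTower.algebraMap_apply B C (Localization.AtPrime q),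
      ← IsScalarTower.algebraMap_apply A B C]

end Groth.Agent.S4583
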