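import Groth.Statements.S4586
import Groth.Agent.ProConsLib.Affine

set_option autoImplicit false
universe u
open AlgebraicGeometry CategoryTheory Topology
open EGA41

namespace Groth.Agent.S4586

/-- Let f : X → Y be surjective and either quasi-compact or locally of finite presentation, E ⊆ Y. Then
E is locally constructible (resp. pro-constructible, resp. ind-constructible) if and only if f⁻¹(E)
is. -/
theorem result {X Y : Scheme.{u}} (f : X ⟶ Y) [Surjective f]
    (hf : QuasiCompact f ∨ LocallyOfFinitePresentation f) (E : Set Y) :
    (IsLocallyConstructible E ↔ IsLocallyConstructible (f.base ⁻¹' E)) ∧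
    (ProCons.IsProConstructible E ↔ ProCons.IsProConstructible (f.base ⁻¹' E)) ∧
    (ProCons.IsIndConstructible E ↔ ProCons.IsIndConstructible (f.base ⁻¹' E)) := by
  have hrec : f.base '' (f.base ⁻¹' E) = E := Set.image_preimage_eq E f.surjective
  have hrecc : f.base '' (f.base ⁻¹' Eᶜ) = Eᶜ := Set.image_preimage_eq Eᶜ f.surjective
  have hI : ProCons.IsIndConstructible E ↔ ProCons.IsIndConstructible (f.base ⁻¹' E) := by
    refine ⟨ProConsLib.isInd_preimage f, fun h => ?_⟩
    rcases hf with hf | hf
    · rw [ProConsLib.isInd_iff_isPro_compl] at h ⊢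
      rw [← hrecc]
      rw [← Set.preimage_compl] at h
      exact ProConsLib.isPro_image f h
    · rw [← hrec]; exact ProConsLib.isInd_image f h
  have hP : ProCons.IsProConstructible E ↔ ProCons.IsProConstructible (f.base ⁻¹' E) := by
    refine ⟨ProConsLib.isPro_preimage f, fun h => ?_⟩
    rcases hf with hf | hf
    · rw [← hrec]; exact ProConsLib.isPro_image f h
    · rw [ProConsLib.isPro_iff_isInd_compl] at h ⊢
      rw [← hrecc]
      rw [← Set.preimage_compl] at h
      exact ProConsLib.isInd_image f h
  exact ⟨by rw [ProConsLib.isLocallyConstructible_iff_ind_pro, ProConsLib.isLocallyConstructible_iff_ind_pro, hI, hP],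
    hP, hI⟩

end Groth.Agent.S4586
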