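import Mathlib
import Groth.Statements.S4587
-- import your own Groth.Agent.* helpers here

set_option autoImplicit false
universe u
open AlgebraicGeometry CategoryTheory
open EGA41

namespace Groth.Agent.S4587

/-- A morphism of schemes f : X → Y is generizing if and only if, for every irreducible closed subset Y'
of Y, each irreducible component of f⁻¹(Y') has dense image in Y'. -/
theorem result {X Y : Scheme.{u}} (f : X ⟶ Y) :
    GeneralizingMap f.base ↔
      ∀ Y' : Set Y, IsClosed Y' → IsIrreducible Y' →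
        ∀ Z ∈ irreducibleComponents ↥(f.base ⁻¹' Y'), closure (f.base '' (Subtype.val '' Z)) = Y' := by
  constructor
  · intro hgen Y' hcl hirr Z hZ
    have hpre : IsClosed (f.base ⁻¹' Y') := hcl.preimage f.continuous
    have hZi : IsIrreducible (Subtype.val '' Z) := hZ.1.image _ continuous_subtype_val.continuousOn
    have hZc : IsClosed (Subtype.val '' Z) := hpre.isClosedEmbedding_subtypeVal.isClosedMap _ (isClosed_of_mem_irreducibleComponents Z hZ)
    obtain ⟨z, hz⟩ := QuasiSober.sober hZi hZc
    obtain ⟨η, hη⟩ := QuasiSober.sober hirr hcl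
    have hzY : f.base z ∈ Y' := by
      obtain ⟨⟨w, hw⟩, -, rfl⟩ := hz.mem
      exact hw
    obtain ⟨w, hwz, hfw⟩ := hgen (hη.specializes hzY)
    have hw' : w ∈ f.base ⁻¹' Y' := by
      show f.base w ∈ Y'
      rw [hfw]; exact hη.mem
    have hsub : Z ⊆ closure ({⟨w, hw'⟩} : Set ↥(f.base ⁻¹' Y')) := by
      intro a ha
      rw [closure_subtype, Set.image_singleton]
      exact (hwz.trans (hz.specializes ⟨a, ha, rfl⟩)).mem_closure
    have hwZ : (⟨w, hw'⟩ : ↥(f.base ⁻¹' Y')) ∈ Z := hZ.2 isIrreducible_singleton.closure hsub (subset_closure rfl)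
    refine subset_antisymm (hcl.closure_subset_iff.2 ?_) ?_
    · rintro _ ⟨_, ⟨⟨a, ha⟩, -, rfl⟩, rfl⟩
      exact ha
    · exact hη.def.symm.subset.trans (closure_mono (Set.singleton_subset_iff.2 ⟨w, ⟨_, hwZ, rfl⟩, hfw⟩))
  · intro h x y hxy
    have hirr : IsIrreducible (closure ({y} : Set Y)) := isIrreducible_singleton.closure
    have hx : x ∈ f.base ⁻¹' closure ({y} : Set Y) := hxy.mem_closure
    obtain ⟨Z, hZ, hxZ⟩ : ∃ Z ∈ irreducibleComponents ↥(f.base ⁻¹' closure ({y} : Set Y)), (⟨x, hx⟩ : ↥(f.base ⁻¹' closure ({y} : Set Y))) ∈ Z :=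
      ⟨_, irreducibleComponent_mem_irreducibleComponents _, mem_irreducibleComponent⟩
    have hpre : IsClosed (f.base ⁻¹' closure ({y} : Set Y)) := isClosed_closure.preimage f.continuous
    have hZi : IsIrreducible (Subtype.val '' Z) := hZ.1.image _ continuous_subtype_val.continuousOn
    have hZc : IsClosed (Subtype.val '' Z) := hpre.isClosedEmbedding_subtypeVal.isClosedMap _ (isClosed_of_mem_irreducibleComponents Z hZ)
    obtain ⟨z, hz⟩ := QuasiSober.sober hZi hZc
    refine ⟨z, hz.specializes ⟨_, hxZ, rfl⟩, ?_⟩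
    have hc := h _ isClosed_closure hirr Z hZ
    have himg : IsGenericPoint (f.base z) (closure ({y} : Set Y)) := by
      rw [← hc]; exact hz.image f.continuous
    exact himg.eq isGenericPoint_closure

end Groth.Agent.S4587
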