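import Groth.Statements.S4590
import Mathlib.RingTheory.Flat.FaithfullyFlat.Algebra

set_option autoImplicit false
universe u
open CAlg

namespace Groth.Agent.S4590

/-- Let A be a domain with fraction field K, B a faithfully flat A-algebra, C = B_red and R the total
ring of fractions of C. Then A → C is injective with nonzero elements going to non-zero-divisors, so
that K embeds in R, and an element of K is integral over C in R if and only if it is integral over
A. -/
theorem result {A B : Type u} [CommRing A] [IsDomain A]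
    [CommRing B] [Algebra A B] [Module.FaithfullyFlat A B] :
    Function.Injective (algebraMap A (B ⧸ nilradical B)) ∧
    (∀ a : A, a ≠ 0 → algebraMap A (B ⧸ nilradical B) a ∈ nonZeroDivisors (B ⧸ nilradical B)) ∧
    ∀ (R : Type u) [CommRing R] [Algebra (B ⧸ nilradical B) R] [IsFractionRing (B ⧸ nilradical B) R]
      [Algebra A R] [IsScalarTower A (B ⧸ nilradical B) R] [Algebra (FractionRing A) R]
      [IsScalarTower A (FractionRing A) R] (x : FractionRing A),
      IsIntegral (B ⧸ nilradical B) (algebraMap (FractionRing A) R x) ↔ IsIntegral A x := by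
  classical
  have hinj : Function.Injective (algebraMap A B) := FaithfulSMul.algebraMap_injective A B
  have hnil : ∀ (a : A) (b : B), a ≠ 0 → algebraMap A B a * b ∈ nilradical B → b ∈ nilradical B := by
    intro a b ha hab
    obtain ⟨n, hn⟩ := hab
    refine ⟨n, ?_⟩
    have h0 : (a ^ n) • b ^ n = (a ^ n) • (0 : B) := by rw [smul_zero, Algebra.smul_def, map_pow, ← mul_pow, hn]
    have hr : IsSMulRegular B (algebraMap A B (a ^ n)) := ((IsRegular.of_ne_zero (pow_ne_zero n ha)).left.isSMulRegular).of_flat
    exact hr (by simpa only [smul_eq_mul, ← Algebra.smul_def] using h0)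
  refine ⟨?_, fun a ha => ?_, ?_⟩
  · rw [injective_iff_map_eq_zero]
    intro a ha
    rw [IsScalarTower.algebraMap_apply A B, Ideal.Quotient.algebraMap_eq, Ideal.Quotient.eq_zero_iff_mem] at ha
    obtain ⟨n, hn⟩ := ha
    exact eq_zero_of_pow_eq_zero (hinj (a₁ := a ^ n) (a₂ := 0) (by rw [map_pow, map_zero]; exact hn))
  · rw [mem_nonZeroDivisors_iff_right]
    intro x hx
    obtain ⟨b, rfl⟩ := Ideal.Quotient.mk_surjective x
    rw [mul_comm, IsScalarTower.algebraMap_apply A B, Ideal.Quotient.algebraMap_eq, ← map_mul,
      Ideal.Quotient.eq_zero_iff_mem] at hx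
    exact Ideal.Quotient.eq_zero_iff_mem.2 (hnil a b ha hx)
  intro R _ _ _ _ _ _ _ x
  constructor
  swap
  · intro hx
    exact (hx.map (IsScalarTower.toAlgHom A (FractionRing A) R)).tower_top
  intro hx
  obtain ⟨a, ⟨b, hb⟩, rfl⟩ := IsLocalization.exists_mk'_eq (nonZeroDivisors A) x
  have hb0 : b ≠ 0 := nonZeroDivisors.ne_zero hb
  set x := IsLocalization.mk' (FractionRing A) a (⟨b, hb⟩ : nonZeroDivisors A) with hxdef
  obtain ⟨p, hp, hpx⟩ := hx
  let J : Ideal A := Ideal.span {a, b}
  let JB : Ideal B := J.map (algebraMap A B)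
  have haJ : algebraMap A B a ∈ JB := Ideal.mem_map_of_mem _ (Ideal.subset_span (by simp))
  have hbJ : algebraMap A B b ∈ JB := Ideal.mem_map_of_mem _ (Ideal.subset_span (by simp))
  set n := p.natDegree with hn
  -- clear denominators
  choose c hc using fun i => Ideal.Quotient.mk_surjective (I := nilradical B) (p.coeff i)
  let y : B := ∑ i ∈ Finset.range n, c i * algebraMap A B a ^ i * algebraMap A B b ^ (n - i)
  have hy : y ∈ Ideal.span {algebraMap A B b} * JB ^ (n - 1) := by
    refine sum_mem fun i hi => ?_
    have hi' := Finset.mem_range.1 hi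
    obtain ⟨k, hk⟩ : ∃ k, n - i = k + 1 := ⟨n - i - 1, by omega⟩
    rw [hk, pow_succ, show c i * algebraMap A B a ^ i * (algebraMap A B b ^ k * algebraMap A B b) =
      algebraMap A B b * (c i * (algebraMap A B a ^ i * algebraMap A B b ^ k)) by ring]
    refine Ideal.mul_mem_mul (Ideal.mem_span_singleton_self _) (Ideal.mul_mem_left _ _ ?_)
    rw [show n - 1 = i + k by omega, pow_add]
    exact Ideal.mul_mem_mul (Ideal.pow_mem_pow haJ _) (Ideal.pow_mem_pow hbJ _)
  have hzero : algebraMap A B a ^ n + y ∈ nilradical B := by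
    rw [← Ideal.Quotient.eq_zero_iff_mem]
    apply IsFractionRing.injective (B ⧸ nilradical B) R
    rw [map_zero]
    have hmapA : ∀ z : A, algebraMap (B ⧸ nilradical B) R (Ideal.Quotient.mk _ (algebraMap A B z)) =
        algebraMap (FractionRing A) R (algebraMap A _ z) := fun z => by
      rw [← Ideal.Quotient.algebraMap_eq, ← IsScalarTower.algebraMap_apply A B (B ⧸ nilradical B),
        ← IsScalarTower.algebraMap_apply A (B ⧸ nilradical B) R, ← IsScalarTower.algebraMap_apply A (FractionRing A) R]
    have hxb : algebraMap A (FractionRing A) a = x * algebraMap A (FractionRing A) b :=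
      (IsLocalization.mk'_spec (FractionRing A) a ⟨b, hb⟩).symm
    have key : ∑ i ∈ Finset.range (n + 1), algebraMap (B ⧸ nilradical B) R (p.coeff i) * algebraMap (FractionRing A) R x ^ i = 0 := by
      rw [← hpx, Polynomial.eval₂_eq_sum_range]
    rw [Finset.sum_range_succ, hn, hp.coeff_natDegree, map_one, one_mul, ← hn] at key
    simp only [y, map_add, map_sum, map_mul, map_pow, hmapA, hc, hxb]
    have := congrArg (· * algebraMap (FractionRing A) R (algebraMap A _ b) ^ n) key
    simp only [zero_mul, add_mul, Finset.sum_mul] at this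
    refine Eq.trans ?_ this
    rw [add_comm, mul_pow]
    congr 1
    refine Finset.sum_congr rfl fun i hi => ?_
    rw [mul_pow, mul_assoc, mul_assoc, mul_assoc]
    congr 2
    rw [← pow_add, Nat.add_sub_cancel' (Finset.mem_range.1 hi).le]
  obtain ⟨m, hm⟩ := hzero
  have hn0 : 0 < n ∨ n = 0 := (Nat.eq_zero_or_pos n).symm
  rcases hn0 with hn0 | hn0
  swap
  · exfalso
    have h1 : y = 0 := by simp [y, hn0]
    rw [h1, add_zero, hn0, pow_zero, one_pow] at hm
    have := hinj.nontrivial
    exact one_ne_zero hm
  have hbig : algebraMap A B a ^ (n * m) ∈ Ideal.span {algebraMap A B b} * JB ^ (n * m - 1) := by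
    rcases Nat.eq_zero_or_pos m with rfl | hm0
    · rw [pow_zero] at hm
      have := hinj.nontrivial
      exact absurd hm one_ne_zero
    have h : ∀ k, (algebraMap A B a ^ n) ^ (k + 1) - (algebraMap A B a ^ n + y) ^ (k + 1) ∈
        Ideal.span {algebraMap A B b} * JB ^ (n * (k + 1) - 1) := by
      intro k
      induction k with
      | zero =>
        have h1 : (algebraMap A B a ^ n) ^ (0 + 1) - (algebraMap A B a ^ n + y) ^ (0 + 1) = -y := by ring
        rw [h1, zero_add, mul_one]
        exact Ideal.neg_mem_iff _ |>.2 hy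
      | succ k ih =>
        have h1 : (algebraMap A B a ^ n) ^ (k + 1 + 1) - (algebraMap A B a ^ n + y) ^ (k + 1 + 1) =
            algebraMap A B a ^ n * ((algebraMap A B a ^ n) ^ (k + 1) - (algebraMap A B a ^ n + y) ^ (k + 1)) -
              y * (algebraMap A B a ^ n + y) ^ (k + 1) := by ring
        rw [h1]
        refine Ideal.sub_mem _ ?_ ?_
        · have := Ideal.mul_mem_mul (Ideal.pow_mem_pow haJ n) ih
          rw [mul_left_comm, ← pow_add, show n + (n * (k + 1) - 1) = n * (k + 1 + 1) - 1 by
            rw [Nat.mul_succ n (k + 1)]; have := Nat.mul_pos hn0 (show 0 < k + 1 from k.succ_pos); omega] at this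
          exact this
        · have hy' : algebraMap A B a ^ n + y ∈ JB ^ n := by
            refine Ideal.add_mem _ (Ideal.pow_mem_pow haJ n) ?_
            have : Ideal.span {algebraMap A B b} * JB ^ (n - 1) ≤ JB ^ n := by
              conv_rhs => rw [← Nat.sub_add_cancel hn0, pow_succ']
              exact Ideal.mul_mono ((Ideal.span_singleton_le_iff_mem _).2 hbJ) le_rfl
            exact this hy
          have := Ideal.mul_mem_mul hy (Ideal.pow_mem_pow hy' (k + 1))
          rw [mul_assoc, ← pow_mul, ← pow_add, show n - 1 + n * (k + 1) = n * (k + 1 + 1) - 1 by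
            rw [Nat.mul_succ n (k + 1)]; omega] at this
          exact this
    obtain ⟨k, rfl⟩ := Nat.exists_eq_succ_of_ne_zero hm0.ne'
    have := h k
    rw [hm, sub_zero, ← pow_mul] at this
    exact this
  set M := n * m - 1 with hMdef
  have hM : n * m = M + 1 := by
    rcases Nat.eq_zero_or_pos m with rfl | hm0
    · rw [pow_zero] at hm
      have := hinj.nontrivial
      exact absurd hm one_ne_zero
    · have := Nat.mul_pos hn0 hm0; omega
  rw [hM] at hbig
  have hI : a ^ (M + 1) ∈ Ideal.span {b} * J ^ M := by
    rw [← Ideal.comap_map_eq_self_of_faithfullyFlat (B := B) (Ideal.span {b} * J ^ M), Ideal.mem_comap,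
      Ideal.map_mul, Ideal.map_span, Set.image_singleton, Ideal.map_pow, map_pow]
    exact hbig
  obtain ⟨z, hz, hz'⟩ := Ideal.mem_span_singleton_mul.1 hI
  have hpoly : ∀ (k : ℕ) (w : A), w ∈ J ^ k → ∃ q : Polynomial A, q.natDegree ≤ k ∧
      algebraMap A (FractionRing A) w = algebraMap A (FractionRing A) b ^ k * Polynomial.aeval x q := by
    intro k
    induction k with
    | zero => exact fun w _ => ⟨Polynomial.C w, by simp, by simp⟩
    | succ k ih =>
      intro w hw
      rw [pow_succ'] at hw
      refine Submodule.mul_induction_on hw (fun s hs t ht => ?_) (fun s t hs ht => ?_)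
      ·
        obtain ⟨q, hq, hq'⟩ := ih t ht
        obtain ⟨u, v, rfl⟩ := Ideal.mem_span_pair.1 hs
        refine ⟨(Polynomial.C u * Polynomial.X + Polynomial.C v) * q, ?_, ?_⟩
        · refine Polynomial.natDegree_mul_le.trans ?_
          have := Polynomial.natDegree_linear_le (a := u) (b := v)
          omega
        · simp only [map_mul, map_add, Polynomial.aeval_C, Polynomial.aeval_X, hq',
            show algebraMap A (FractionRing A) a = x * algebraMap A (FractionRing A) b from
              (IsLocalization.mk'_spec (FractionRing A) a ⟨b, hb⟩).symm, pow_succ']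
          ring
      ·
        obtain ⟨q, hq, hq'⟩ := hs
        obtain ⟨q', hq1, hq1'⟩ := ht
        exact ⟨q + q', (Polynomial.natDegree_add_le _ _).trans (max_le hq hq1), by rw [map_add, hq', hq1', map_add, mul_add]⟩
  obtain ⟨q, hq, hq'⟩ := hpoly M z hz
  refine ⟨Polynomial.X ^ (M + 1) - q, (Polynomial.monic_X_pow_sub (Polynomial.degree_le_natDegree.trans_lt (by exact_mod_cast Nat.lt_succ_of_le hq))), ?_⟩
  have he := congrArg (algebraMap A (FractionRing A)) hz'
  rw [map_mul, hq', map_pow, show algebraMap A (FractionRing A) a = x * algebraMap A (FractionRing A) b from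
    (IsLocalization.mk'_spec (FractionRing A) a ⟨b, hb⟩).symm, mul_pow, ← mul_assoc, ← pow_succ', mul_comm (x ^ _)] at he
  have hbne : algebraMap A (FractionRing A) b ^ (M + 1) ≠ 0 :=
    pow_ne_zero _ ((map_ne_zero_iff _ (IsFractionRing.injective A (FractionRing A))).2 hb0)
  rw [← Polynomial.aeval_def, map_sub, map_pow, Polynomial.aeval_X, mul_left_cancel₀ hbne he, sub_self]

end Groth.Agent.S4590
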