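import Groth.Statements.S4593
import Mathlib.RingTheory.Spectrum.Prime.RingHom
import Mathlib.RingTheory.Localization.AtPrime.Basic

set_option autoImplicit false
universe u
open CategoryTheory CategoryTheory.Limits AlgebraicGeometry
open EGA41

namespace Groth.Agent.S4593

/-- Let B be a ring, (A_i) a filtered system of B-algebras with colimit A. The image of Spec A in Spec B
is the intersection of the images of the Spec A_i. -/
theorem result {I : Type u} [SmallCategory I] [IsFiltered I]
    (B : CommRingCat.{u}) (D : I ⥤ CommRingCat.{u}) (s : (Functor.const I).obj B ⟶ D) (c : Cocone D)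
    (hc : IsColimit c) (i₀ : I) :
    Set.range (Spec.map (s.app i₀ ≫ c.ι.app i₀)).base = ⋂ i : I, Set.range (Spec.map (s.app i)).base := by
  classical
  apply le_antisymm
  · rintro _ ⟨x, rfl⟩
    rw [Set.mem_iInter]
    intro i
    let k := IsFiltered.max i₀ i
    have h1 := s.naturality (IsFiltered.leftToMax i₀ i)
    have h2 := s.naturality (IsFiltered.rightToMax i₀ i)
    simp only [Functor.const_obj_map, Category.id_comp] at h1 h2
    have he : s.app i₀ ≫ c.ι.app i₀ = s.app i ≫ c.ι.app i := by
      rw [← c.w (IsFiltered.leftToMax i₀ i), ← c.w (IsFiltered.rightToMax i₀ i), ← Category.assoc,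
        ← Category.assoc, ← h1, ← h2]
    rw [he]
    exact ⟨(Spec.map (c.ι.app i)).base x, by rw [Spec.map_comp]; rfl⟩
  · intro q hq
    rw [Set.mem_iInter] at hq
    let q' : PrimeSpectrum B := q
    have hfib : ∀ i, (q'.asIdeal.map (s.app i).hom).comap (s.app i).hom = q'.asIdeal := by
      intro i
      obtain ⟨y, hy⟩ := hq i
      refine le_antisymm ?_ Ideal.le_comap_map
      have hy' : Ideal.comap (s.app i).hom (PrimeSpectrum.asIdeal y) = q'.asIdeal := congrArg PrimeSpectrum.asIdeal hy
      calc (q'.asIdeal.map (s.app i).hom).comap (s.app i).hom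
          ≤ (Ideal.comap (s.app i).hom (Ideal.map (s.app i).hom q'.asIdeal)) := le_rfl
        _ ≤ Ideal.comap (s.app i).hom (PrimeSpectrum.asIdeal y) :=
            Ideal.comap_mono (Ideal.map_le_iff_le_comap.mpr hy'.ge)
        _ = q'.asIdeal := hy'
    set φ := (s.app i₀ ≫ c.ι.app i₀).hom with hφ
    suffices h : (q'.asIdeal.map φ).comap φ = q'.asIdeal by
      obtain ⟨Q, hQ, hQ'⟩ := (Ideal.comap_map_eq_self_iff_of_isPrime q'.asIdeal).mp h
      exact ⟨⟨Q, hQ⟩, PrimeSpectrum.ext hQ'⟩
    refine le_antisymm ?_ Ideal.le_comap_map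
    intro b hb
    have hcomp : ∀ {i j : I} (f : i ⟶ j), s.app i ≫ D.map f = s.app j := fun {i j} f => by
      have := s.naturality f
      simp only [Functor.const_obj_map, Category.id_comp] at this
      exact this.symm
    have key : ∀ x ∈ q'.asIdeal.map φ, ∃ (i : I) (y : D.obj i),
        y ∈ q'.asIdeal.map (s.app i).hom ∧ (c.ι.app i).hom y = x := by
      intro x hx
      induction hx using Submodule.span_induction with
      | mem z hz =>
        obtain ⟨r, hr, rfl⟩ := hz
        exact ⟨i₀, _, Ideal.mem_map_of_mem _ hr, rfl⟩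
      | zero => exact ⟨i₀, 0, zero_mem _, map_zero _⟩
      | add u v _ _ hu hv =>
        obtain ⟨i, y, hy, rfl⟩ := hu
        obtain ⟨j, z, hz, rfl⟩ := hv
        let f := IsFiltered.leftToMax i j
        let g := IsFiltered.rightToMax i j
        refine ⟨IsFiltered.max i j, (D.map f).hom y + (D.map g).hom z, add_mem ?_ ?_, ?_⟩
        · rw [← hcomp f, CommRingCat.hom_comp, ← Ideal.map_map]
          exact Ideal.mem_map_of_mem _ hy
        · rw [← hcomp g, CommRingCat.hom_comp, ← Ideal.map_map]
          exact Ideal.mem_map_of_mem _ hz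
        · rw [map_add, ← c.w f, ← c.w g]; rfl
      | smul a u _ hu =>
        obtain ⟨i, y, hy, rfl⟩ := hu
        obtain ⟨j, z, rfl⟩ := Concrete.isColimit_exists_rep D hc a
        let f := IsFiltered.leftToMax i j
        let g := IsFiltered.rightToMax i j
        refine ⟨IsFiltered.max i j, (D.map g).hom z * (D.map f).hom y, Ideal.mul_mem_left _ _ ?_, ?_⟩
        · rw [← hcomp f, CommRingCat.hom_comp, ← Ideal.map_map]
          exact Ideal.mem_map_of_mem _ hy
        · rw [smul_eq_mul, map_mul, ← c.w f, ← c.w g]; rfl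
    obtain ⟨i, y, hy, hyb⟩ := key _ hb
    let k := IsFiltered.max i₀ i
    have h1 : (c.ι.app k).hom ((D.map (IsFiltered.rightToMax i₀ i)).hom y) =
        (c.ι.app k).hom ((s.app k).hom b) := by
      rw [← hcomp (IsFiltered.leftToMax i₀ i)]
      refine Eq.trans ?_ (Eq.trans hyb ?_)
      · rw [← c.w (IsFiltered.rightToMax i₀ i)]; rfl
      · rw [hφ, ← c.w (IsFiltered.leftToMax i₀ i)]; rfl
    obtain ⟨l, f, g, hfg⟩ := Concrete.isColimit_exists_of_rep_eq D hc _ _ h1
    rw [← hfib l, Ideal.mem_comap]
    have e : (s.app l).hom b = (D.map g).hom ((s.app k).hom b) := by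
      rw [← hcomp g]; rfl
    rw [e]
    have hfg' : (D.map f).hom ((D.map (IsFiltered.rightToMax i₀ i)).hom y) = (D.map g).hom ((s.app k).hom b) := hfg
    rw [← hfg', ← hcomp (IsFiltered.rightToMax i₀ i ≫ f), Functor.map_comp, CommRingCat.hom_comp,
      CommRingCat.hom_comp, ← Ideal.map_map]
    exact Ideal.mem_map_of_mem _ hy

end Groth.Agent.S4593
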