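import Groth.Statements.S4594
import Groth.Agent.PP16Lib.ConormalKer
import Mathlib.RingTheory.Smooth.Basic

set_option autoImplicit false
universe u
open TensorProduct KaehlerDifferential
open EGA41

namespace Groth.Agent.S4594

/-- Let Λ be a ring, A → C a surjection of Λ-algebras with kernel J, C of characteristic p > 0, and π
the class of p·1 in J/J². If C is formally smooth over Λ/pΛ for the discrete topologies, then 0 →
(J/J²)/Cπ → Ω_{A/Λ} ⊗_A C → Ω_{C/Λ} → 0 is exact: the kernel of the conormal map J/J² → Ω_{A/Λ} ⊗_A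
C is the span of π, and the base-change map to Ω_{C/Λ} is surjective with kernel the image of J/J². -/
theorem result {Λ A C : Type u} [CommRing Λ] [CommRing A]
    [CommRing C] [Algebra Λ A] [Algebra A C] [Algebra Λ C] [IsScalarTower Λ A C]
    (hsurj : Function.Surjective (algebraMap A C)) (p : ℕ) [Fact p.Prime] [CharP C p]
    [Algebra (Λ ⧸ Ideal.span {(p : Λ)}) C] [IsScalarTower Λ (Λ ⧸ Ideal.span {(p : Λ)}) C]
    [Algebra.FormallySmooth (Λ ⧸ Ideal.span {(p : Λ)}) C]
    (hp : (p : A) ∈ RingHom.ker (algebraMap A C)) :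
    LinearMap.ker (kerCotangentToTensor Λ A C) =
        Submodule.span A {(RingHom.ker (algebraMap A C)).toCotangent ⟨(p : A), hp⟩} ∧
      LinearMap.range (kerCotangentToTensor Λ A C) = (LinearMap.ker (mapBaseChange Λ A C)).restrictScalars A ∧
      Function.Surjective (mapBaseChange Λ A C) := by
  refine ⟨le_antisymm (fun m hm => ?_) ?_, KaehlerDifferential.range_kerCotangentToTensor Λ A C hsurj,
    KaehlerDifferential.mapBaseChange_surjective Λ A C hsurj⟩
  · obtain ⟨⟨f, hf⟩, rfl⟩ := Ideal.toCotangent_surjective _ m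
    let J := RingHom.ker (algebraMap A C)
    let I : Ideal A := J ^ 2 ⊔ Ideal.span {(p : A)}
    have hIJ : I ≤ J := sup_le (Ideal.pow_le_self two_ne_zero) ((Ideal.span_singleton_le_iff_mem J).mpr hp)
    let E := A ⧸ I
    have hp0 : ∀ a ∈ Ideal.span {(p : Λ)}, algebraMap Λ E a = 0 := fun a ha => by
      obtain ⟨c, rfl⟩ := Ideal.mem_span_singleton'.mp ha
      rw [map_mul, map_natCast]
      rw [show ((p : ℕ) : E) = Ideal.Quotient.mk I (p : A) from (map_natCast _ p).symm,
        Ideal.Quotient.eq_zero_iff_mem.mpr (Ideal.mem_sup_right (Ideal.mem_span_singleton_self (p : A))), mul_zero]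
    letI : Algebra (Λ ⧸ Ideal.span {(p : Λ)}) E := (Ideal.Quotient.lift _ (algebraMap Λ E) hp0).toAlgebra
    haveI : IsScalarTower Λ (Λ ⧸ Ideal.span {(p : Λ)}) E := IsScalarTower.of_algebraMap_eq fun _ => rfl
    let πC0 : E →+* C := Ideal.Quotient.lift I (algebraMap A C) fun a ha => hIJ ha
    let πC : E →ₐ[Λ ⧸ Ideal.span {(p : Λ)}] C :=
      { πC0 with
        commutes' := fun x => by
          obtain ⟨l, rfl⟩ := Ideal.Quotient.mk_surjective x
          show πC0 (algebraMap Λ E l) = algebraMap _ C (algebraMap Λ (Λ ⧸ Ideal.span {(p : Λ)}) l)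
          rw [← IsScalarTower.algebraMap_apply, IsScalarTower.algebraMap_apply Λ A C]
          rfl }
    have hπC : Function.Surjective πC := fun c => by
      obtain ⟨a, ha⟩ := hsurj c
      exact ⟨Ideal.Quotient.mk I a, ha⟩
    have hN2 : ∀ a ∈ J, ∀ e ∈ RingHom.ker πC, Ideal.Quotient.mk I a * e = 0 := fun a ha e he => by
      obtain ⟨j, rfl⟩ := Ideal.Quotient.mk_surjective e
      rw [← map_mul, Ideal.Quotient.eq_zero_iff_mem]
      exact Ideal.mem_sup_left (by rw [pow_two]; exact Ideal.mul_mem_mul ha he)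
    have hN : ∀ a ∈ RingHom.ker πC, ∀ b ∈ RingHom.ker πC, a * b = 0 := fun a ha b hb => by
      obtain ⟨j, rfl⟩ := Ideal.Quotient.mk_surjective a
      exact hN2 j ha b hb
    have hnil : IsNilpotent (RingHom.ker πC) := ⟨2, by
      rw [Ideal.zero_eq_bot, eq_bot_iff, pow_two, Ideal.mul_le]
      exact fun a ha b hb => hN a ha b hb⟩
    let ε := Ideal.quotientKerAlgEquivOfSurjective hπC
    let s := Algebra.FormallySmooth.lift (RingHom.ker πC) hnil ε.symm.toAlgHom
    have hs : ∀ c, πC (s c) = c := fun c => by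
      have h := congrArg ε (Algebra.FormallySmooth.mk_lift (RingHom.ker πC) hnil ε.symm.toAlgHom c)
      rw [show ε (ε.symm.toAlgHom c) = c from ε.apply_symm_apply c] at h
      exact h
    have key : Ideal.Quotient.mk I f = s (algebraMap A C f) :=
      PP16Lib.eq_of_conormal_eq_zero hsurj (Ideal.Quotient.mkₐ Λ I)
        ((s.restrictScalars Λ).comp (IsScalarTower.toAlgHom Λ A C)) (RingHom.ker πC) hN
        (fun x => by
          rw [RingHom.mem_ker, map_sub, sub_eq_zero]
          exact (hs (algebraMap A C x)).symm)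
        hN2 f (LinearMap.mem_ker.mp hm)
    rw [RingHom.mem_ker.mp hf, map_zero, Ideal.Quotient.eq_zero_iff_mem] at key
    obtain ⟨a, ha, b, hb, hab⟩ := Submodule.mem_sup.mp key
    obtain ⟨c, rfl⟩ := Ideal.mem_span_singleton'.mp hb
    rw [Submodule.mem_span_singleton]
    refine ⟨c, ?_⟩
    rw [← map_smul, Ideal.toCotangent_eq]
    show c * (p : A) - f ∈ J ^ 2
    rw [← hab, sub_add_cancel_right]
    exact neg_mem ha
  · rw [Submodule.span_singleton_le_iff_mem, LinearMap.mem_ker, KaehlerDifferential.kerCotangentToTensor_toCotangent,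
      Derivation.map_natCast, TensorProduct.tmul_zero]

end Groth.Agent.S4594
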