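import Groth.Statements.S4596
import Groth.Agent.SourceDescent.Basic
-- import your own Groth.Agent.* helpers here

set_option autoImplicit false
set_option backward.isDefEq.respectTransparency.types false
universe u
open AlgebraicGeometry CategoryTheory
open EGA41

namespace Groth.Agent.S4596

/-- If g ∘ f is quasi-compact and f is surjective then g is quasi-compact. -/
theorem result {X Y Z : Scheme.{u}} (f : X ⟶ Y) (g : Y ⟶ Z)
    [QuasiCompact (f ≫ g)] [Surjective f] : QuasiCompact g := by
  refine ⟨fun U hU hc => ?_⟩
  have h := ((f ≫ g).isCompact_preimage hc (U := ⟨U, hU⟩)).image f.continuous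
  have e : (f '' ((f ≫ g) ⁻¹' U) : Set Y) = g ⁻¹' U := by
    show f '' (f ⁻¹' (g ⁻¹' U)) = g ⁻¹' U
    exact Set.image_preimage_eq _ f.surjective
  exact e ▸ h

end Groth.Agent.S4596
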