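import Groth.Statements.S4597
import Mathlib
-- import your own Groth.Agent.* helpers here

set_option autoImplicit false
universe u
open AlgebraicGeometry CategoryTheory CategoryTheory.Limits
open EGA41

namespace Groth.Agent.S4597

/-- Let f : X → Y, g : Y' → Y and f' : X ×_Y Y' → Y' the base change. If g is quasi-compact surjective
and f' quasi-compact, f is quasi-compact; if g is surjective and f' dominant, f is dominant. -/
theorem result {X Y Y' : Scheme.{u}} (f : X ⟶ Y)
    (g : Y' ⟶ Y) [Surjective g] :
    (QuasiCompact g → QuasiCompact (pullback.snd f g) → QuasiCompact f) ∧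
    (IsDominant (pullback.snd f g) → IsDominant f) := by
  refine ⟨fun _ hf' => quasiCompact_iff_forall_isAffineOpen.mpr fun V hV => ?_, fun hd => ?_⟩
  · have hc : IsCompact ((pullback.snd f g).base ⁻¹' (g.base ⁻¹' (V : Set Y))) :=
      (pullback.snd f g).isCompact_preimage (U := g ⁻¹ᵁ V) (g.isCompact_preimage (U := V) hV.isCompact)
    have e : ((f ⁻¹ᵁ V : X.Opens) : Set X) =
        (pullback.fst f g).base '' ((pullback.snd f g).base ⁻¹' (g.base ⁻¹' (V : Set Y))) := by
      rw [← Set.preimage_comp, ← TopCat.coe_comp, ← Scheme.Hom.comp_base, ← pullback.condition,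
        Scheme.Hom.comp_base, TopCat.coe_comp, Set.preimage_comp,
        Set.image_preimage_eq _ (pullback.fst f g).surjective]
      rfl
    rw [e]
    exact hc.image (pullback.fst f g).continuous
  · refine ⟨?_⟩
    have h1 : DenseRange (g.base ∘ (pullback.snd f g).base) :=
      g.surjective.denseRange.comp (pullback.snd f g).denseRange g.continuous
    refine h1.mono ?_
    rw [← TopCat.coe_comp, ← Scheme.Hom.comp_base, ← pullback.condition, Scheme.Hom.comp_base,
      TopCat.coe_comp]
    exact Set.range_comp_subset_range _ _

end Groth.Agent.S4597
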