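import Mathlib
import Groth.Statements.S4598
-- import your own Groth.Agent.* helpers here

set_option autoImplicit false
universe u
open AlgebraicGeometry CategoryTheory CategoryTheory.Limits
open EGA41

namespace Groth.Agent.S4598

/-- If g : Y' → Y is quasi-compact and surjective and the base change X ×_Y Y' → Y' of f : X → Y is
quasi-separated, then f is quasi-separated. -/
theorem result {X Y Y' : Scheme.{u}} (f : X ⟶ Y)
    (g : Y' ⟶ Y) [QuasiCompact g] [Surjective g] [QuasiSeparated (pullback.snd f g)] :
    QuasiSeparated f := by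
  haveI hd : MorphismProperty.DescendsAlong @QuasiCompact (@Surjective ⊓ @QuasiCompact : MorphismProperty Scheme.{u}) := by
    refine MorphismProperty.DescendsAlong.mk' ?_
    intro A B Z a b _ ha hfst
    haveI : Surjective a := ha.1
    haveI : QuasiCompact a := ha.2
    haveI := hfst
    refine ⟨fun U hU hUc => ?_⟩
    have h1 : IsCompact (a ⁻¹' U) := QuasiCompact.isCompact_preimage (f := a) U hU hUc
    have h2 : IsCompact ((pullback.fst a b) ⁻¹' (a ⁻¹' U)) :=
      QuasiCompact.isCompact_preimage (f := pullback.fst a b) _ (hU.preimage a.continuous) h1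
    have h3 : (pullback.snd a b) '' ((pullback.fst a b) ⁻¹' (a ⁻¹' U)) = b ⁻¹' U := by
      have e : (pullback.fst a b) ⁻¹' (a ⁻¹' U) = (pullback.snd a b) ⁻¹' (b ⁻¹' U) := by
        ext z
        show (pullback.fst a b ≫ a) z ∈ U ↔ (pullback.snd a b ≫ b) z ∈ U
        rw [pullback.condition]
      rw [e, Set.image_preimage_eq]
      exact (inferInstance : Surjective (pullback.snd a b)).surj
    rw [← h3]
    exact h2.image (pullback.snd a b).continuous
  rw [quasiSeparated_eq_diagonal_is_quasiCompact]
  refine MorphismProperty.of_pullback_snd_of_descendsAlong (Q := (@Surjective ⊓ @QuasiCompact : MorphismProperty Scheme.{u})) (f := f) (g := g) ⟨inferInstance, inferInstance⟩ ?_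
  rw [← quasiSeparated_eq_diagonal_is_quasiCompact]
  infer_instance

end Groth.Agent.S4598
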