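import Groth.Statements.S4601
import Mathlib

set_option autoImplicit false
universe u
open TensorProduct
open CAlg

namespace Groth.Agent.S4601

/-- Let A be a domain with fraction field K, B a Noetherian A-algebra which is flat over A, K' an
extension field of K, B₁ = B_red and R its total ring of fractions. For every sub-A-algebra A' of
K', the map (A' ⊗_A B)_red → (K' ⊗_A R)_red is injective, i.e. an element of A' ⊗_A B with nilpotent
image in K' ⊗_A R is nilpotent. -/
theorem result {A B K' R : Type u} [CommRing A]
    [IsDomain A] [CommRing B] [Algebra A B] [IsNoetherianRing B] [Module.Flat A B]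
    [Field K'] [Algebra A K'] [Algebra (FractionRing A) K'] [IsScalarTower A (FractionRing A) K']
    [CommRing R] [Algebra (B ⧸ nilradical B) R] [IsFractionRing (B ⧸ nilradical B) R]
    [Algebra B R] [IsScalarTower B (B ⧸ nilradical B) R] [Algebra A R] [IsScalarTower A B R]
    (A' : Subalgebra A K') (x : ↥A' ⊗[A] B)
    (hx : IsNilpotent (Algebra.TensorProduct.map A'.val (IsScalarTower.toAlgHom A B R) x)) :
    IsNilpotent x := by
  classical
  haveI : Module.Flat A (FractionRing A) := IsLocalization.flat _ (nonZeroDivisors A)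
  haveI : Module.Flat A K' := Module.Flat.trans A (FractionRing A) K'
  let f₁ : A' ⊗[A] B →ₐ[A] K' ⊗[A] B := Algebra.TensorProduct.map A'.val (AlgHom.id A B)
  have h₁ : Function.Injective f₁ := by
    have := Module.Flat.rTensor_preserves_injective_linearMap (M := B) A'.val.toLinearMap Subtype.val_injective
    exact this
  let q : B →ₐ[A] B ⧸ nilradical B := Ideal.Quotient.mkₐ A _
  haveI : IsScalarTower A (B ⧸ nilradical B) R := IsScalarTower.of_algebraMap_eq fun a => by
    rw [IsScalarTower.algebraMap_apply A B R, IsScalarTower.algebraMap_apply B (B ⧸ nilradical B) R,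
      ← IsScalarTower.algebraMap_apply A B (B ⧸ nilradical B)]
  let j : B ⧸ nilradical B →ₐ[A] R := IsScalarTower.toAlgHom A _ R
  have hj : Function.Injective j := IsFractionRing.injective (B ⧸ nilradical B) R
  let f₂ : K' ⊗[A] B →ₐ[A] K' ⊗[A] (B ⧸ nilradical B) := Algebra.TensorProduct.map (AlgHom.id A K') q
  let f₃ : K' ⊗[A] (B ⧸ nilradical B) →ₐ[A] K' ⊗[A] R := Algebra.TensorProduct.map (AlgHom.id A K') j
  have h₃ : Function.Injective f₃ := by
    have := Module.Flat.lTensor_preserves_injective_linearMap (M := K') j.toLinearMap hj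
    exact this
  have hf : f₃.comp (f₂.comp f₁) = Algebra.TensorProduct.map A'.val (IsScalarTower.toAlgHom A B R) := by
    refine Algebra.TensorProduct.ext' fun a b => ?_
    simp [f₁, f₂, f₃, q, j]
    rw [IsScalarTower.algebraMap_apply B (B ⧸ nilradical B) R]
    rfl
  rw [← hf, AlgHom.comp_apply, AlgHom.comp_apply, IsNilpotent.map_iff h₃] at hx
  obtain ⟨N, hN⟩ := hx
  rw [← map_pow] at hN
  have hker : RingHom.ker f₂ = (nilradical B).map (Algebra.TensorProduct.includeRight : B →ₐ[A] K' ⊗[A] B) := by
    have := Algebra.TensorProduct.lTensor_ker (A := K') q Ideal.Quotient.mk_surjective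
    simp only [f₂]
    rw [this]
    congr 1
    exact Ideal.Quotient.mkₐ_ker A _
  have hnil : IsNilpotent (f₁ x ^ N) := by
    rw [← mem_nilradical]
    have hmem : f₁ x ^ N ∈ RingHom.ker f₂ := hN
    rw [hker] at hmem
    refine (Ideal.map_le_iff_le_comap.2 fun b hb => ?_) hmem
    exact mem_nilradical.2 ((mem_nilradical.1 hb).map _)
  exact (IsNilpotent.map_iff h₁).1 (IsNilpotent.of_pow hnil)
end Groth.Agent.S4601
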