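import Groth.Statements.S4602
import Groth.Agent.ComplDeriv.GenericFormalFibre
import Groth.Agent.S2035
import Mathlib.RingTheory.Localization.Finiteness

set_option autoImplicit false
universe u
open IsLocalRing
open EGA41

namespace Groth.Agent.S4602

/-- Let A be a regular local ring with fraction field of characteristic zero, B a domain containing A
and module-finite over it, with fraction field L, n a prime of B, C = B_n, q a prime of the
completion Ĉ with q ∩ C = 0. Then Ĉ_q is formally smooth over L for the adic topology of its maximal
ideal. (Case (ii) of the published statement, in characteristic p with a suitable filtered family of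
subrings, is not stated.) -/
theorem result
    {A B : Type u} [CommRing A] [IsRegularLocalRing A] [CharZero A] [CommRing B] [IsDomain B] [Algebra A B]
    [Module.Finite A B] (hinj : Function.Injective (algebraMap A B)) (n : Ideal B) [n.IsPrime]
    (q : Ideal (AdicCompletion (maximalIdeal (Localization.AtPrime n)) (Localization.AtPrime n))) [q.IsPrime]
    (hq : q.comap (algebraMap (Localization.AtPrime n)
      (AdicCompletion (maximalIdeal (Localization.AtPrime n)) (Localization.AtPrime n))) = ⊥)
    [Algebra B (Localization.AtPrime q)]
    [IsScalarTower B (AdicCompletion (maximalIdeal (Localization.AtPrime n)) (Localization.AtPrime n))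
      (Localization.AtPrime q)]
    [Algebra (FractionRing B) (Localization.AtPrime q)] [IsScalarTower B (FractionRing B) (Localization.AtPrime q)] :
    CAlgX.IsAdicFormallySmooth (FractionRing B) (Localization.AtPrime q) (maximalIdeal (Localization.AtPrime q)) := by
  classical
  have : IsDomain A := DepthLib.isDomain_of_isRegularLocalRing A
  have : IsNoetherianRing B := IsNoetherianRing.of_finite A B
  have : IsRegularRing A := RegularSerre.isRegularRing_of_isRegularLocalRing A
  let m := n.comap (algebraMap A B)
  have hm0 : (0 : A) ∉ m.primeCompl := fun h => h m.zero_mem
  have hA' : IsRegularLocalRing (Localization.AtPrime m) := IsRegularRing.isRegularLocalRing_localization m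
  have : CharZero (Localization.AtPrime m) :=
    charZero_of_injective_algebraMap (IsLocalization.injective _ m.primeCompl_le_nonZeroDivisors)
  let M := Algebra.algebraMapSubmonoid B m.primeCompl
  have hM : M ≤ n.primeCompl := by
    rintro _ ⟨a, ha, rfl⟩
    exact ha
  have hM0 : M ≤ nonZeroDivisors B := fun y hy =>
    mem_nonZeroDivisors_of_ne_zero fun h => hM hy (h ▸ n.zero_mem)
  have : IsDomain (Localization M) := IsLocalization.isDomain_localization hM0
  let _ : Algebra (Localization.AtPrime m) (Localization M) := localizationAlgebra m.primeCompl B
  have : Module.Finite (Localization.AtPrime m) (Localization M) := Module.Finite.of_isLocalization A B m.primeCompl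
  let _ : Algebra (Localization M) (Localization.AtPrime n) :=
    IsLocalization.localizationAlgebraOfSubmonoidLe _ _ M n.primeCompl hM
  have : IsScalarTower B (Localization M) (Localization.AtPrime n) :=
    IsLocalization.localization_isScalarTower_of_submonoid_le _ _ M n.primeCompl hM
  let n' := (maximalIdeal (Localization.AtPrime n)).comap (algebraMap (Localization M) (Localization.AtPrime n))
  let _ : Algebra (Localization.AtPrime m) (Localization.AtPrime n) :=
    ((algebraMap (Localization M) (Localization.AtPrime n)).comp
      (algebraMap (Localization.AtPrime m) (Localization M))).toAlgebra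
  have : IsScalarTower (Localization.AtPrime m) (Localization M) (Localization.AtPrime n) :=
    IsScalarTower.of_algebraMap_eq' rfl
  have hn' : n'.comap (algebraMap B (Localization M)) = n := by
    rw [Ideal.comap_comap, ← IsScalarTower.algebraMap_eq]
    exact IsLocalization.AtPrime.under_maximalIdeal (Localization.AtPrime n) n
  have htow : ∀ a : A, algebraMap (Localization.AtPrime m) (Localization M) (algebraMap A _ a) =
      algebraMap B (Localization M) (algebraMap A B a) := fun a => IsLocalization.map_eq _ a
  have : n'.IsMaximal := by
    refine Ideal.isMaximal_of_isIntegral_of_isMaximal_comap (R := Localization.AtPrime m) n' ?_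
    suffices h : n'.comap (algebraMap (Localization.AtPrime m) (Localization M)) = maximalIdeal _ by
      rw [h]; infer_instance
    rw [← IsLocalization.map_under m.primeCompl (Localization.AtPrime m)
      (n'.comap (algebraMap (Localization.AtPrime m) (Localization M))), ← IsLocalization.AtPrime.map_eq_maximalIdeal m]
    refine congrArg (Ideal.map _) (Ideal.ext fun a => ?_)
    change algebraMap (Localization.AtPrime m) (Localization M) (algebraMap A _ a) ∈ n' ↔ algebraMap A B a ∈ n
    rw [htow, ← Ideal.mem_comap, hn']
  have : IsLocalization.AtPrime (Localization.AtPrime n) n' := by
    have h1 := IsLocalization.isLocalization_of_submonoid_le (Localization M) (Localization.AtPrime n) M n.primeCompl hM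
    refine IsLocalization.of_le (n.primeCompl.map (algebraMap B (Localization M))) n'.primeCompl ?_ fun r hr => ?_
    · rintro _ ⟨y, hy, rfl⟩ hyn
      exact hy (hn'.le hyn)
    · exact IsLocalRing.notMem_maximalIdeal.mp hr
  have hinj' : Function.Injective (algebraMap (Localization.AtPrime m) (Localization M)) := by
    refine (injective_iff_map_eq_zero _).mpr fun z hz => ?_
    obtain ⟨a, s, rfl⟩ := IsLocalization.exists_mk'_eq m.primeCompl z
    have h := congrArg (algebraMap (Localization.AtPrime m) (Localization M)) (IsLocalization.mk'_spec _ a s)
    rw [map_mul, hz, zero_mul, htow, eq_comm] at h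
    rw [hinj (show algebraMap A B a = algebraMap A B 0 by
      rw [map_zero]; exact (map_eq_zero_iff _ (IsLocalization.injective _ hM0)).mp h)]
    exact IsLocalization.mk'_zero s
  have hreg := ComplDeriv.isRegularLocalRing_completion_atPrime (A := Localization.AtPrime m)
    (B := Localization M) n' (C := Localization.AtPrime n) hinj' q hq
  have : CharZero B := charZero_of_injective_algebraMap hinj
  have : CharZero (FractionRing B) :=
    charZero_of_injective_algebraMap (IsFractionRing.injective B (FractionRing B))
  have : IsNoetherianRing (AdicCompletion (maximalIdeal (Localization.AtPrime n)) (Localization.AtPrime n)) :=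
    CohenStruct.isNoetherianRing_completion _
  have : IsNoetherianRing (Localization.AtPrime q) := IsLocalization.isNoetherianRing q.primeCompl _ inferInstance
  exact (S2035.result).mp hreg

end Groth.Agent.S4602
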