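import Groth.Statements.S4603
import Mathlib
import Groth.Agent.S9347
-- import your own Groth.Agent.* helpers here

set_option autoImplicit false
universe u
open AlgebraicGeometry CategoryTheory
open EGA41

namespace Groth.Agent.S4603

section Aux
theorem exists_maximal_specializes {X : AlgebraicGeometry.Scheme.{u}} (x0 : X) :
    ∃ x : X, (∀ x' : X, x' ⤳ x → x' = x) ∧ x ⤳ x0 := by
  obtain ⟨x, hx⟩ := QuasiSober.sober (α := X) (S := irreducibleComponent x0)
    isIrreducible_irreducibleComponent isClosed_irreducibleComponent
  refine ⟨x, fun x' h => ?_, hx.specializes mem_irreducibleComponent⟩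
  have hsub : irreducibleComponent x0 ⊆ closure {x'} := by
    rw [← hx.def]; exact specializes_iff_closure_subset.mp h
  have he : closure {x'} = irreducibleComponent x0 :=
    eq_irreducibleComponent (isIrreducible_singleton.closure.isPreirreducible) hsub
  exact IsGenericPoint.eq (he : IsGenericPoint x' (irreducibleComponent x0)) hx

end Aux

/-- Let f : X → Y be quasi-compact. The following are equivalent: f is dominant; the fibre of f over
every maximal point of Y (a point with no proper generization, i.e. the generic point of an
irreducible component) is nonempty; every maximal point of Y is the image of a maximal point of X. -/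
theorem result {X Y : Scheme.{u}} (f : X ⟶ Y) [QuasiCompact f] :
    [IsDominant f,
     ∀ y : Y, (∀ y' : Y, y' ⤳ y → y' = y) → y ∈ Set.range f.base,
     ∀ y : Y, (∀ y' : Y, y' ⤳ y → y' = y) → ∃ x : X, (∀ x' : X, x' ⤳ x → x' = x) ∧ f.base x = y].TFAE := by
  tfae_have 1 → 3 := fun h y hy => by
    obtain ⟨x0, hx0⟩ := S9347.exists_specializes_of_mem_closure_range f y (f.denseRange y)
    obtain ⟨x, hx, hxx0⟩ := exists_maximal_specializes x0
    exact ⟨x, hx, hy _ ((hxx0.map f.continuous).trans hx0)⟩
  tfae_have 3 → 2 := fun h y hy => by
    obtain ⟨x, -, hx⟩ := h y hy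
    exact ⟨x, hx⟩
  tfae_have 2 → 1 := fun h => by
    refine ⟨fun y => ?_⟩
    obtain ⟨η, hη, hηy⟩ := exists_maximal_specializes y
    exact hηy.mem_closed isClosed_closure (subset_closure (h η hη))
  tfae_finish

end Groth.Agent.S4603
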