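import Groth.Statements.S4604
import Mathlib.RingTheory.LocalRing.MaximalIdeal.Basic
import Mathlib.RingTheory.Ideal.Quotient.Operations
import Mathlib.Algebra.MvPolynomial.Eval

set_option autoImplicit false
universe u
open IsLocalRing
open EGA41

namespace Groth.Agent.S4604

/-- (i) and the kernel statement of (ii): let A be a local ring with maximal ideal m of square zero,
F_i(T_i) = T_i^{d_i} + Σ_{k<d_i} c_{ik} T_i^k (1 ≤ i ≤ r) monic of degrees d_i ≥ 2 with non-leading
coefficients in m, and A' = A[T_1, …, T_r]/(F_1, …, F_r). Then A' is local with residue field K, and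
the kernel of m → m'/m'² (m' the maximal ideal of A') is the ideal generated by the constant terms
c_{i0}. -/
theorem result {A : Type u} [CommRing A] [IsLocalRing A]
    (hm : maximalIdeal A ^ 2 = ⊥) {r : ℕ} (d : Fin r → ℕ) (hd : ∀ i, 2 ≤ d i) (c : Fin r → ℕ → A)
    (hc : ∀ i k, c i k ∈ maximalIdeal A) :
    let F : Fin r → MvPolynomial (Fin r) A := fun i =>
      MvPolynomial.X i ^ d i + (Finset.range (d i)).sum fun k => MvPolynomial.C (c i k) * MvPolynomial.X i ^ k
    ∃ _ : IsLocalRing (MvPolynomial (Fin r) A ⧸ Ideal.span (Set.range F)),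
      Function.Surjective ((Ideal.Quotient.mk (maximalIdeal (MvPolynomial (Fin r) A ⧸ Ideal.span (Set.range F)))).comp
        (algebraMap A (MvPolynomial (Fin r) A ⧸ Ideal.span (Set.range F)))) ∧
      maximalIdeal A ⊓ Ideal.comap (algebraMap A (MvPolynomial (Fin r) A ⧸ Ideal.span (Set.range F)))
          (maximalIdeal (MvPolynomial (Fin r) A ⧸ Ideal.span (Set.range F)) ^ 2) =
        Ideal.span (Set.range fun i => c i 0) := by
  intro F
  let K := A ⧸ maximalIdeal A
  let C0 : Ideal A := Ideal.span (Set.range fun i => c i 0)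
  let π := Ideal.Quotient.mk (Ideal.span (Set.range F))
  let M : Ideal (MvPolynomial (Fin r) A) := (maximalIdeal A).map (MvPolynomial.C (σ := Fin r)) ⊔ Ideal.span (Set.range MvPolynomial.X)
  have hFM : ∀ i, F i ∈ M := fun i => by
    refine add_mem (Ideal.mem_sup_right (Ideal.pow_mem_of_mem _ (Ideal.subset_span (Set.mem_range_self i)) _ (by
      have := hd i; omega))) ?_
    exact sum_mem fun k _ => Ideal.mul_mem_right _ _ (Ideal.mem_sup_left (Ideal.mem_map_of_mem _ (hc i k)))
  let M' : Ideal ((MvPolynomial (Fin r) A) ⧸ Ideal.span (Set.range F)) := M.map π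
  have hC : ∀ p : (MvPolynomial (Fin r) A), p - MvPolynomial.C (MvPolynomial.constantCoeff p) ∈ M := fun p => by
    induction p using MvPolynomial.induction_on with
    | C a => simp
    | add p q hp hq =>
      rw [map_add, map_add, add_sub_add_comm]
      exact add_mem hp hq
    | mul_X p i _ =>
      rw [map_mul, MvPolynomial.constantCoeff_X, mul_zero, map_zero, sub_zero]
      exact Ideal.mul_mem_left _ _ (Ideal.mem_sup_right (Ideal.subset_span (Set.mem_range_self i)))
  let φ0 : (MvPolynomial (Fin r) A) →+* A := MvPolynomial.constantCoeff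
  have hMker : ∀ p ∈ M, φ0 p ∈ maximalIdeal A := fun p hp => by
    have hle : M ≤ (maximalIdeal A).comap φ0 := sup_le
      (Ideal.map_le_iff_le_comap.mpr fun a ha => by rw [Ideal.mem_comap, Ideal.mem_comap]; rw [show φ0 (MvPolynomial.C a) = a from MvPolynomial.constantCoeff_C _ a]; exact ha)
      (Ideal.span_le.mpr (by rintro _ ⟨i, rfl⟩; rw [SetLike.mem_coe, Ideal.mem_comap]; rw [show φ0 (MvPolynomial.X i) = 0 from MvPolynomial.constantCoeff_X A i]; exact zero_mem _))
    exact hle hp
  have hFspan : Ideal.span (Set.range F) ≤ M := Ideal.span_le.mpr (by rintro _ ⟨i, rfl⟩; exact hFM i)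
  have hM'ne : M' ≠ ⊤ := fun e => by
    obtain ⟨p, hp, hp1⟩ := (Ideal.mem_map_iff_of_surjective π Ideal.Quotient.mk_surjective).mp
      ((Ideal.eq_top_iff_one M').mp e)
    rw [← map_one π, Ideal.Quotient.eq] at hp1
    have h1 : (1 : (MvPolynomial (Fin r) A)) ∈ M := by simpa using sub_mem hp (hFspan hp1)
    have := hMker 1 h1
    rw [map_one] at this
    exact (maximalIdeal.isMaximal A).ne_top ((Ideal.eq_top_iff_one _).mpr this)
  have hM'le : ∀ Q : Ideal ((MvPolynomial (Fin r) A) ⧸ Ideal.span (Set.range F)), Q.IsPrime → M' ≤ Q := fun Q hQ => by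
    refine Ideal.map_le_iff_le_comap.mpr (sup_le (Ideal.map_le_iff_le_comap.mpr fun a ha => ?_)
      (Ideal.span_le.mpr ?_))
    · refine hQ.mem_of_pow_mem 2 ?_
      rw [← map_pow, ← map_pow, show a ^ 2 = 0 from (Ideal.mem_bot).mp (hm ▸ Ideal.pow_mem_pow ha 2), map_zero, map_zero]
      exact Q.zero_mem
    · rintro _ ⟨i, rfl⟩
      refine hQ.mem_of_pow_mem (d i) ?_
      have h0 : π (F i) = 0 := Ideal.Quotient.eq_zero_iff_mem.mpr (Ideal.subset_span (Set.mem_range_self i))
      simp only [F, map_add, map_pow, map_sum, map_mul] at h0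
      rw [eq_neg_of_add_eq_zero_left h0]
      refine neg_mem (sum_mem fun k _ => Ideal.mul_mem_right _ _ (hQ.mem_of_pow_mem 2 ?_))
      rw [← map_pow, ← map_pow, show c i k ^ 2 = 0 from (Ideal.mem_bot).mp (hm ▸ Ideal.pow_mem_pow (hc i k) 2),
        map_zero, map_zero]
      exact Q.zero_mem
  have hmax : ∀ Q : Ideal ((MvPolynomial (Fin r) A) ⧸ Ideal.span (Set.range F)), Q.IsMaximal → Q = M' := fun Q hQ => by
    refine le_antisymm (fun x hx => ?_) (hM'le Q hQ.isPrime)
    obtain ⟨p, rfl⟩ := Ideal.Quotient.mk_surjective x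
    have h1 : π (p - MvPolynomial.C (MvPolynomial.constantCoeff p)) ∈ M' := Ideal.mem_map_of_mem _ (hC p)
    by_cases hu : MvPolynomial.constantCoeff p ∈ maximalIdeal A
    · have h2 : π (MvPolynomial.C (MvPolynomial.constantCoeff p)) ∈ M' :=
        Ideal.mem_map_of_mem _ (Ideal.mem_sup_left (Ideal.mem_map_of_mem _ hu))
      have := add_mem h1 h2
      rwa [← map_add, sub_add_cancel] at this
    · refine absurd (Q.eq_top_of_isUnit_mem ?_ ((IsLocalRing.notMem_maximalIdeal.mp hu).map (π.comp MvPolynomial.C)))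
        hQ.ne_top
      have := sub_mem hx (hM'le Q hQ.isPrime h1)
      rwa [← map_sub, sub_sub_cancel] at this
  haveI : Nontrivial ((MvPolynomial (Fin r) A) ⧸ Ideal.span (Set.range F)) := Ideal.Quotient.nontrivial_iff.mpr fun e => hM'ne (by
    rw [Ideal.eq_top_iff_one]
    have : π 1 ∈ M' := Ideal.mem_map_of_mem _ (hFspan (e ▸ Submodule.mem_top))
    rwa [map_one] at this)
  haveI hloc : IsLocalRing ((MvPolynomial (Fin r) A) ⧸ Ideal.span (Set.range F)) := IsLocalRing.of_unique_max_ideal (by
    obtain ⟨Q, hQ⟩ := Ideal.exists_maximal ((MvPolynomial (Fin r) A) ⧸ Ideal.span (Set.range F))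
    exact ⟨M', hmax Q hQ ▸ hQ, fun Q' hQ' => hmax Q' hQ'⟩)
  have hmaxeq : maximalIdeal ((MvPolynomial (Fin r) A) ⧸ Ideal.span (Set.range F)) = M' := hmax _ (maximalIdeal.isMaximal _)
  refine ⟨hloc, fun x => ?_, le_antisymm (fun a ha => ?_) ?_⟩
  · obtain ⟨x, rfl⟩ := Ideal.Quotient.mk_surjective x
    obtain ⟨p, rfl⟩ := Ideal.Quotient.mk_surjective x
    refine ⟨MvPolynomial.constantCoeff p, ?_⟩
    refine Ideal.Quotient.eq.mpr ?_
    rw [hmaxeq, ← neg_sub]
    refine neg_mem ?_
    show π p - π (MvPolynomial.C (MvPolynomial.constantCoeff p)) ∈ M'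
    rw [← map_sub]
    exact Ideal.mem_map_of_mem _ (hC p)
  · let ρ : (MvPolynomial (Fin r) A) ⧸ Ideal.span (Set.range F) →+* A ⧸ C0 :=
      Ideal.Quotient.lift _ ((Ideal.Quotient.mk C0).comp φ0) fun p hp => by
        have hle : Ideal.span (Set.range F) ≤ RingHom.ker ((Ideal.Quotient.mk C0).comp φ0) := Ideal.span_le.mpr (by
          rintro _ ⟨i, rfl⟩
          show Ideal.Quotient.mk C0 (φ0 (F i)) = 0
          rw [Ideal.Quotient.eq_zero_iff_mem]
          have hd0 : d i ≠ 0 := by have := hd i; omega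
          have hval : φ0 (F i) = c i 0 := by
            simp only [φ0, F, map_add, map_pow, map_sum, map_mul, MvPolynomial.constantCoeff_X,
              MvPolynomial.constantCoeff_C, zero_pow hd0, zero_add]
            rw [Finset.sum_eq_single 0 (fun k _ hk => by rw [zero_pow hk, mul_zero])
              (fun h => absurd (Finset.mem_range.mpr (Nat.pos_of_ne_zero hd0)) h), pow_zero, mul_one]
          rw [hval]
          exact Ideal.subset_span (Set.mem_range_self i))
        exact hle hp
    have hM'map : M'.map ρ ≤ (maximalIdeal A).map (Ideal.Quotient.mk C0) := by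
      rw [Ideal.map_map, Ideal.map_le_iff_le_comap]
      intro p hp
      exact Ideal.mem_map_of_mem _ (hMker p hp)
    have h2 := Ideal.mem_map_of_mem ρ (Ideal.mem_comap.mp ha.2)
    rw [hmaxeq, Ideal.map_pow] at h2
    have h3 := Ideal.pow_right_mono hM'map 2 h2
    rw [← Ideal.map_pow, hm, Ideal.map_bot, Ideal.mem_bot] at h3
    have h4 : ρ (algebraMap A _ a) = Ideal.Quotient.mk C0 a := by
      show Ideal.Quotient.mk C0 (φ0 (MvPolynomial.C a)) = _
      simp [φ0]
    rw [h4, Ideal.Quotient.eq_zero_iff_mem] at h3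
    exact h3
  · refine Ideal.span_le.mpr ?_
    rintro _ ⟨i, rfl⟩
    refine ⟨hc i 0, ?_⟩
    show π (MvPolynomial.C (c i 0)) ∈ maximalIdeal _ ^ 2
    rw [hmaxeq]
    have h0 : π (F i) = 0 := Ideal.Quotient.eq_zero_iff_mem.mpr (Ideal.subset_span (Set.mem_range_self i))
    have hd' : d i = (d i - 2) + 2 := by have := hd i; omega
    have hd1 : d i = (d i - 1) + 1 := by have := hd i; omega
    simp only [F, map_add, map_pow, map_sum, map_mul] at h0
    rw [hd1, Finset.sum_range_succ', ← hd1, pow_zero, mul_one, ← add_assoc] at h0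
    rw [eq_neg_of_add_eq_zero_right h0]
    have hX : π (MvPolynomial.X i) ∈ M' := Ideal.mem_map_of_mem _ (Ideal.mem_sup_right (Ideal.subset_span (Set.mem_range_self i)))
    refine neg_mem (add_mem ?_ (sum_mem fun k _ => ?_))
    · exact Ideal.pow_le_pow_right (hd i) (Ideal.pow_mem_pow hX _)
    · rw [pow_two M', pow_succ', ← mul_assoc]
      exact Ideal.mul_mem_right _ _ (Ideal.mul_mem_mul
        (Ideal.mem_map_of_mem _ (Ideal.mem_sup_left (Ideal.mem_map_of_mem _ (hc i _)))) hX)

end Groth.Agent.S4604
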