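import Groth.Statements.S4605
import Groth.Agent.EGA41Lib.Basic
import Mathlib.FieldTheory.IsAlgClosed.AlgebraicClosure
import Mathlib.RingTheory.Ideal.GoingUp

set_option autoImplicit false
universe u
open IsLocalRing
open EGA41

namespace Groth.Agent.S4605

/-- Let A be a local ring with maximal ideal m of square zero and residue field K of characteristic p >
0, F_i(T_i) = T_i^p + p Σ_{k=1}^{p-1} c_{ik} T_i^{p-k} − f_i (i in a finite index set) with c_{ik},
f_i ∈ A, and suppose the residues of the f_i in K are p-independent over K^p. Then A' = A[T_i]/(F_i)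
is local with maximal ideal m A'. (The identification of the residue field with K(a_i^{1/p}) is not
restated.) -/
theorem result {A : Type u} [CommRing A]
    [IsLocalRing A] (hm : maximalIdeal A ^ 2 = ⊥) (p : ℕ) [Fact p.Prime] [CharP (ResidueField A) p]
    {ι : Type u} [Finite ι] (c : ι → Fin p → A) (f : ι → A)
    (hind : LinearIndependent (↥(frobenius (ResidueField A) p).fieldRange)
      (fun e : {e : ι →₀ ℕ // ∀ i, e i < p} => EGA41.pMonomial (fun i => residue A (f i)) e.1)) :
    let F : ι → MvPolynomial ι A := fun i =>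
      MvPolynomial.X i ^ p + (p : MvPolynomial ι A) * (Finset.univ.sum fun j : Fin p =>
        if (j : ℕ) = 0 then 0 else MvPolynomial.C (c i j) * MvPolynomial.X i ^ (p - (j : ℕ))) - MvPolynomial.C (f i)
    ∃ _ : IsLocalRing (MvPolynomial ι A ⧸ Ideal.span (Set.range F)),
      maximalIdeal (MvPolynomial ι A ⧸ Ideal.span (Set.range F)) =
        (maximalIdeal A).map (algebraMap A (MvPolynomial ι A ⧸ Ideal.span (Set.range F))) := by
  classical
  intro F
  let K := ResidueField A
  let L := AlgebraicClosure K
  have hp : p.Prime := Fact.out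
  have : CharP L p := charP_of_injective_algebraMap (RingHom.injective (algebraMap K L)) p
  choose r hr using fun i => IsAlgClosed.exists_pow_nat_eq (algebraMap K L (residue A (f i))) hp.pos
  let A' := MvPolynomial ι A ⧸ Ideal.span (Set.range F)
  let ψ0 := MvPolynomial.eval₂Hom ((algebraMap K L).comp (residue A)) r
  have hψ0 : Ideal.span (Set.range F) ≤ RingHom.ker ψ0 := by
    rw [Ideal.span_le]
    rintro _ ⟨i, rfl⟩
    simp [ψ0, F, hr]
  let ψ : A' →+* L := Ideal.Quotient.lift _ ψ0 fun q hq => hψ0 hq
  have hψC : ∀ a, ψ (algebraMap A A' a) = algebraMap K L (residue A a) := fun a =>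
    MvPolynomial.eval₂Hom_C _ _ a
  let t : ι → A' := fun i => Ideal.Quotient.mk _ (MvPolynomial.X i)
  have hψt : ∀ i, ψ (t i) = r i := fun i => MvPolynomial.eval₂Hom_X' _ _ i
  let J : Ideal A' := (maximalIdeal A).map (algebraMap A A')
  have hpJ : (p : A') ∈ J := by
    rw [← map_natCast (algebraMap A A')]
    exact Ideal.mem_map_of_mem _ ((residue_eq_zero_iff _).1 (by rw [map_natCast, CharP.cast_eq_zero]))
  have hrel : ∀ i, t i ^ p - algebraMap A A' (f i) ∈ J := by
    intro i
    have h : Ideal.Quotient.mk (Ideal.span (Set.range F)) (F i) = 0 :=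
      Ideal.Quotient.eq_zero_iff_mem.2 (Ideal.subset_span ⟨i, rfl⟩)
    simp only [F] at h
    rw [map_sub, map_add, map_mul, map_pow, map_natCast] at h
    generalize hQ : Ideal.Quotient.mk (Ideal.span (Set.range F)) (Finset.univ.sum
        fun j : Fin p => if (j : ℕ) = 0 then 0 else
          MvPolynomial.C (c i j) * MvPolynomial.X i ^ (p - (j : ℕ))) = Q at h
    have h' : t i ^ p + (p : A') * Q - algebraMap A A' (f i) = 0 := h
    have h2 : t i ^ p - algebraMap A A' (f i) = -((p : A') * Q) := by linear_combination h'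
    rw [h2]
    exact neg_mem (Ideal.mul_mem_right _ _ hpJ)
  have sm : ∀ (a : A) (x : A'), a • x = algebraMap A A' a * x := fun a x => by
    obtain ⟨q, rfl⟩ := Ideal.Quotient.mk_surjective x
    show Ideal.Quotient.mk _ (a • q) = Ideal.Quotient.mk _ (MvPolynomial.C a) * _
    rw [← map_mul, MvPolynomial.smul_eq_C_mul]
  let S : Submodule A A' :=
    Submodule.span A (Set.range (EGA41Lib.mono (p := p) t)) ⊔ J.restrictScalars A
  have hmono : ∀ e : ι →₀ ℕ, (∀ j, e j < p) → EGA41.pMonomial t e ∈ S := fun e he =>
    Submodule.mem_sup_left (Submodule.subset_span ⟨⟨e, he⟩, rfl⟩)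
  have hSmul : ∀ x ∈ S, ∀ i, x * t i ∈ S := by
    intro x hx i
    obtain ⟨y, hy, z, hz, rfl⟩ := Submodule.mem_sup.1 hx
    rw [add_mul]
    refine add_mem ?_ (Submodule.mem_sup_right (Ideal.mul_mem_right _ _ hz))
    clear hx
    induction hy using Submodule.span_induction with
    | zero => simp
    | add _ _ _ _ h h' => rw [add_mul]; exact add_mem h h'
    | smul a _ _ h => rw [smul_mul_assoc]; exact Submodule.smul_mem _ a h
    | mem y hy =>
      obtain ⟨⟨e, he⟩, rfl⟩ := hy
      show EGA41.pMonomial t e * t i ∈ S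
      by_cases hi : e i + 1 < p
      · rw [← pow_one (t i), ← EGA41Lib.pMonomial_single, ← EGA41Lib.pMonomial_add]
        refine hmono _ fun j => ?_
        by_cases hj : i = j
        · subst hj; simpa using hi
        · simpa [Finsupp.single_eq_of_ne' hj] using he j
      · have hei : e i + 1 = p := by have := he i; omega
        have hsplit : EGA41.pMonomial t e * t i = EGA41.pMonomial t (e.erase i) * t i ^ p := by
          conv_lhs => rw [← Finsupp.single_add_erase i e]
          rw [EGA41Lib.pMonomial_add, EGA41Lib.pMonomial_single, ← hei]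
          ring
        have h1 : EGA41.pMonomial t e * t i = f i • EGA41.pMonomial t (e.erase i) +
            EGA41.pMonomial t (e.erase i) * (t i ^ p - algebraMap A A' (f i)) := by
          rw [hsplit, sm]
          ring
        rw [h1]
        refine add_mem (Submodule.smul_mem _ _ (hmono _ fun j => ?_))
          (Submodule.mem_sup_right (Ideal.mul_mem_left _ _ (hrel i)))
        by_cases hj : j = i
        · subst hj; simp [hp.pos]
        · simpa [Finsupp.erase_ne hj] using he j
  have hS : ∀ x, x ∈ S := by
    intro x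
    obtain ⟨q, rfl⟩ := Ideal.Quotient.mk_surjective x
    induction q using MvPolynomial.induction_on with
    | C a =>
      show algebraMap A A' a ∈ S
      rw [Algebra.algebraMap_eq_smul_one]
      refine Submodule.smul_mem _ _ ?_
      rw [← EGA41Lib.pMonomial_zero t]
      exact hmono 0 fun j => by simp [hp.pos]
    | add q r hq hr => rw [map_add]; exact add_mem hq hr
    | mul_X q i hq => rw [map_mul]; exact hSmul _ hq i
  have hJker : J ≤ RingHom.ker ψ := by
    rw [Ideal.map_le_iff_le_comap]
    intro a ha
    show ψ (algebraMap A A' a) = 0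
    rw [hψC, (residue_eq_zero_iff a).2 ha, map_zero]
  have hker : RingHom.ker ψ = J := by
    refine le_antisymm (fun x hx => ?_) hJker
    obtain ⟨y, hy, z, hz, rfl⟩ := Submodule.mem_sup.1 (hS x)
    refine add_mem ?_ hz
    obtain ⟨a, rfl⟩ := Finsupp.mem_span_range_iff_exists_finsupp.1 hy
    rw [RingHom.mem_ker, map_add, RingHom.mem_ker.1 (hJker hz), add_zero, Finsupp.sum, map_sum] at hx
    have h1 := congrArg (fun v : L => v ^ p) hx
    simp only [sum_pow_char, zero_pow hp.ne_zero] at h1
    have h2 : ∑ e ∈ a.support, residue A (a e) ^ p *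
        EGA41.pMonomial (fun i => residue A (f i)) e.1 = 0 := by
      apply (algebraMap K L).injective
      rw [map_sum, map_zero, ← h1]
      refine Finset.sum_congr rfl fun e _ => ?_
      rw [sm, map_mul ψ, hψC, mul_pow, map_mul, map_pow]
      congr 1
      rw [EGA41Lib.map_pMonomial (f := algebraMap K L),
        show ψ (EGA41Lib.mono t e) = EGA41.pMonomial (fun i => ψ (t i)) e.1 from
          EGA41Lib.map_pMonomial _ ψ _, ← EGA41Lib.pMonomial_nsmul]
      simp only [hψt, ← hr, EGA41.pMonomial, Finsupp.prod, Finsupp.coe_smul, Pi.smul_apply,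
        smul_eq_mul, Finsupp.support_smul_eq (hp.ne_zero), ← pow_mul]
    have h3 := linearIndependent_iff'.1 hind a.support (fun e => ⟨residue A (a e) ^ p, residue A (a e), rfl⟩) h2
    refine Ideal.sum_mem _ fun e he => ?_
    show a e • EGA41Lib.mono t e ∈ J
    rw [sm]
    refine Ideal.mul_mem_right _ _ (Ideal.mem_map_of_mem _ ((residue_eq_zero_iff _).1 ?_))
    exact eq_zero_of_pow_eq_zero (n := p) (congrArg Subtype.val (h3 e he))
  have hint : Algebra.IsIntegral A A' := ⟨fun b => by
    show b ∈ integralClosure A A'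
    obtain ⟨q, rfl⟩ := Ideal.Quotient.mk_surjective b
    induction q using MvPolynomial.induction_on with
    | C a => exact Subalgebra.algebraMap_mem _ a
    | add q r hq hr => rw [map_add]; exact add_mem hq hr
    | mul_X q i hq =>
      rw [map_mul]
      let G : Polynomial A := ∑ j : Fin p, if (j : ℕ) = 0 then 0 else
        Polynomial.C (c i j) * Polynomial.X ^ (p - (j : ℕ))
      refine mul_mem hq ⟨Polynomial.X ^ p + (Polynomial.C (p : A) * G - Polynomial.C (f i)), ?_, ?_⟩
      · refine Polynomial.monic_X_pow_add ((Polynomial.degree_sub_le _ _).trans_lt (max_lt ?_ ?_))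
        · rw [← Polynomial.smul_eq_C_mul]
          refine (Polynomial.degree_smul_le _ _).trans_lt ((Polynomial.degree_sum_le _ _).trans_lt
            ((Finset.sup_lt_iff (WithBot.bot_lt_coe _)).2 fun j _ => ?_))
          split
          · simp
          · refine (Polynomial.degree_C_mul_X_pow_le _ _).trans_lt ?_
            exact_mod_cast Nat.sub_lt hp.pos (Nat.pos_of_ne_zero ‹_›)
        · exact lt_of_le_of_lt Polynomial.degree_C_le (by exact_mod_cast hp.pos)
      · show Polynomial.aeval (Ideal.Quotient.mkₐ A (Ideal.span (Set.range F)) (MvPolynomial.X i)) _ = 0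
        rw [Polynomial.aeval_algHom_apply, Ideal.Quotient.mkₐ_eq_mk, Ideal.Quotient.eq_zero_iff_mem]
        refine Ideal.subset_span ⟨i, ?_⟩
        simp only [F, G, map_add, map_sub, map_mul, map_pow, Polynomial.aeval_X, Polynomial.aeval_C,
          map_natCast, map_sum, apply_ite (Polynomial.aeval (MvPolynomial.X i : MvPolynomial ι A)),
          map_zero, MvPolynomial.algebraMap_eq]
        ring⟩
  have hprime : (RingHom.ker ψ).IsPrime := RingHom.ker_isPrime ψ
  have hmax : J.IsMaximal := by
    rw [← hker]
    refine Ideal.isMaximal_of_isIntegral_of_isMaximal_comap (R := A) _ ?_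
    have h1 : maximalIdeal A ≤ (RingHom.ker ψ).comap (algebraMap A A') := by
      rw [hker]; exact Ideal.le_comap_map
    exact (maximalIdeal.isMaximal A).eq_of_le (Ideal.IsPrime.ne_top inferInstance) h1 ▸
      maximalIdeal.isMaximal A
  have hloc : IsLocalRing A' := IsLocalRing.of_unique_max_ideal ⟨J, hmax, fun M hM => by
    refine (hmax.eq_of_le hM.ne_top ?_).symm
    rw [Ideal.map_le_iff_le_comap]
    intro a ha
    refine hM.isPrime.mem_of_pow_mem 2 ?_
    rw [← map_pow]
    have : a ^ 2 ∈ maximalIdeal A ^ 2 := Ideal.pow_mem_pow ha 2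
    rw [hm, Ideal.mem_bot] at this
    rw [this, map_zero]
    exact M.zero_mem⟩
  exact ⟨hloc, (IsLocalRing.eq_maximalIdeal hmax).symm⟩

end Groth.Agent.S4605
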