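import Groth.Statements.S4606
import Groth.Agent.PP16Lib.JacobianSplit
-- import your own Groth.Agent.* helpers here

set_option autoImplicit false
universe u
open TensorProduct KaehlerDifferential IsLocalRing
open EGA41

namespace Groth.Agent.S4606

/-- Let B be a Noetherian A-algebra formally smooth for the discrete topologies, B → C a surjection with
kernel J, p a prime of C and q its contraction to A. Then C_p is formally smooth over A_q (A_q
discrete, C_p with the adic topology of its maximal ideal) if and only if κ(p) ⊗ J/J² → κ(p) ⊗ (C
⊗_B Ω_{B/A}) is injective. (The equivalent variant with the q-adic topology on A_q is not stated.) -/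
theorem result {A B C : Type u} [CommRing A]
    [CommRing B] [CommRing C] [Algebra A B] [Algebra B C] [Algebra A C] [IsScalarTower A B C] [IsNoetherianRing B]
    [Algebra.FormallySmooth A B] (hsurj : Function.Surjective (algebraMap B C)) (p : Ideal C) [p.IsPrime]
    [Algebra (Localization.AtPrime (p.comap (algebraMap A C))) (Localization.AtPrime p)]
    [IsScalarTower A (Localization.AtPrime (p.comap (algebraMap A C))) (Localization.AtPrime p)] :
    CAlgX.IsAdicFormallySmooth (Localization.AtPrime (p.comap (algebraMap A C))) (Localization.AtPrime p)
        (maximalIdeal (Localization.AtPrime p)) ↔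
      Function.Injective ((kerCotangentToTensor A B C).lTensor p.ResidueField) := by
  constructor
  · intro h
    refine PP16Lib.injective_of_adicSmooth_atPrime hsurj p fun E _ _ N hN ψ hψ => ?_
    have hu : ∀ s : (p.comap (algebraMap A C)).primeCompl, IsUnit (algebraMap A E (s : A)) := fun s => by
      have h1 : IsUnit (ψ (algebraMap A (Localization.AtPrime p) (s : A))) := by
        rw [IsScalarTower.algebraMap_apply A C]
        exact (IsLocalization.map_units _ (⟨algebraMap A C s, s.2⟩ : p.primeCompl)).map ψ
      rw [AlgHom.commutes] at h1
      change IsUnit (Ideal.Quotient.mk N (algebraMap A E (s : A))) at h1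
      obtain ⟨w, hw⟩ := h1.exists_right_inv
      obtain ⟨w, rfl⟩ := Ideal.Quotient.mk_surjective w
      rw [← map_mul, ← map_one (Ideal.Quotient.mk N), Ideal.Quotient.eq] at hw
      have hsq : (algebraMap A E (s : A) * w - 1) ^ 2 = 0 := by
        rw [← Ideal.mem_bot, ← hN]
        exact Ideal.pow_mem_pow hw 2
      exact IsUnit.of_mul_eq_one (w * (1 - (algebraMap A E (s : A) * w - 1))) (by linear_combination (-1 : E) * hsq)
    letI : Algebra (Localization.AtPrime (p.comap (algebraMap A C))) E := (IsLocalization.lift hu).toAlgebra
    have hE : ∀ a, algebraMap (Localization.AtPrime (p.comap (algebraMap A C))) E (algebraMap A _ a) =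
        algebraMap A E a := fun a => IsLocalization.lift_eq hu a
    have hcomm : ψ.toRingHom.comp (algebraMap (Localization.AtPrime (p.comap (algebraMap A C))) (Localization.AtPrime p)) =
        (Ideal.Quotient.mk N).comp (algebraMap (Localization.AtPrime (p.comap (algebraMap A C))) E) :=
      IsLocalization.ringHom_ext (p.comap (algebraMap A C)).primeCompl (RingHom.ext fun a => by
        show ψ (algebraMap _ (Localization.AtPrime p) (algebraMap A _ a)) = Ideal.Quotient.mk N _
        rw [← IsScalarTower.algebraMap_apply, AlgHom.commutes]
        show _ = Ideal.Quotient.mk N (algebraMap (Localization.AtPrime (p.comap (algebraMap A C))) E (algebraMap A _ a))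
        rw [hE]
        rfl)
    obtain ⟨χ, hχ⟩ := h E N hN { ψ.toRingHom with commutes' := fun z => RingHom.congr_fun hcomm z } hψ
    refine ⟨{ χ.toRingHom with commutes' := fun a => ?_ }, AlgHom.ext fun z => DFunLike.congr_fun hχ z⟩
    show χ (algebraMap A (Localization.AtPrime p) a) = _
    rw [IsScalarTower.algebraMap_apply A (Localization.AtPrime (p.comap (algebraMap A C))), χ.commutes, hE]
  · intro h E _ _ N hN ψ _
    haveI : Module.Finite B (RingHom.ker (algebraMap B C)) := Module.Finite.of_fg (IsNoetherian.noetherian _)
    haveI : Module.Finite B (RingHom.ker (algebraMap B C)).Cotangent :=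
      Module.Finite.of_surjective _ (Ideal.toCotangent_surjective _)
    obtain ⟨_, _, _, _⟩ := PP16Lib.exists_away_of_injective hsurj p h
    letI : Algebra A E :=
      ((algebraMap (Localization.AtPrime (p.comap (algebraMap A C))) E).comp (algebraMap A _)).toAlgebra
    let ψA : Localization.AtPrime p →ₐ[A] E ⧸ N :=
      { ψ.toRingHom with
        commutes' := fun a => by
          show ψ (algebraMap A (Localization.AtPrime p) a) = _
          rw [IsScalarTower.algebraMap_apply A (Localization.AtPrime (p.comap (algebraMap A C))), ψ.commutes]
          rfl }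
    let χ := Algebra.FormallySmooth.lift N ⟨2, hN⟩ ψA
    have hcomm : χ.toRingHom.comp (algebraMap (Localization.AtPrime (p.comap (algebraMap A C))) (Localization.AtPrime p)) =
        algebraMap (Localization.AtPrime (p.comap (algebraMap A C))) E :=
      IsLocalization.ringHom_ext (p.comap (algebraMap A C)).primeCompl (RingHom.ext fun a => by
        show χ (algebraMap _ (Localization.AtPrime p) (algebraMap A _ a)) = _
        rw [← IsScalarTower.algebraMap_apply, AlgHom.commutes]
        rfl)
    exact ⟨{ χ.toRingHom with commutes' := fun z => RingHom.congr_fun hcomm z },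
      AlgHom.ext fun z => Algebra.FormallySmooth.mk_lift N ⟨2, hN⟩ ψA z⟩

end Groth.Agent.S4606
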