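import Mathlib
import Groth.Statements.S4607
import Groth.Agent.GeomFibre.Descent
-- import your own Groth.Agent.* helpers here

set_option autoImplicit false
universe u
open TensorProduct
open EGA41

namespace Groth.Agent.S4607

/-- First assertion, case of two factors: for A-algebras A' and A'' the image of Spec(A' ⊗_A A'') in
Spec A is the intersection of the images of Spec A' and Spec A''. -/
theorem result {A A' A'' : Type u} [CommRing A] [CommRing A'] [CommRing A'']
    [Algebra A A'] [Algebra A A''] :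
    Set.range (PrimeSpectrum.comap (algebraMap A (A' ⊗[A] A''))) =
      Set.range (PrimeSpectrum.comap (algebraMap A A')) ∩ Set.range (PrimeSpectrum.comap (algebraMap A A'')) := by
  apply Set.Subset.antisymm
  · rintro _ ⟨p, rfl⟩
    let i₁ : A' →+* A' ⊗[A] A'' := Algebra.TensorProduct.includeLeftRingHom
    let i₂ : A'' →ₐ[A] A' ⊗[A] A'' := Algebra.TensorProduct.includeRight
    have e₁ : i₁.comp (algebraMap A A') = algebraMap A (A' ⊗[A] A'') := RingHom.ext fun x => rfl
    have e₂ : i₂.toRingHom.comp (algebraMap A A'') = algebraMap A (A' ⊗[A] A'') := i₂.comp_algebraMap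
    exact ⟨⟨PrimeSpectrum.comap i₁ p, by rw [← e₁]; rfl⟩, ⟨PrimeSpectrum.comap i₂.toRingHom p, by rw [← e₂]; rfl⟩⟩
  · rintro p ⟨⟨q, hq⟩, ⟨r, hr⟩⟩
    have hq' : p.asIdeal = q.asIdeal.comap (algebraMap A A') := by rw [← hq]; rfl
    have hr' : p.asIdeal = r.asIdeal.comap (algebraMap A A'') := by rw [← hr]; rfl
    obtain ⟨Ω, _, a, b, hab⟩ := GeomFibre.exists_common_field p.asIdeal.ResidueField q.asIdeal.ResidueField r.asIdeal.ResidueField
      (Ideal.ResidueField.map _ _ (algebraMap A A') hq') (Ideal.ResidueField.map _ _ (algebraMap A A'') hr')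
    let c : A →+* Ω := (a.comp (Ideal.ResidueField.map _ _ (algebraMap A A') hq')).comp (algebraMap A p.asIdeal.ResidueField)
    letI := c.toAlgebra
    let φ : A' →ₐ[A] Ω := ⟨a.comp (algebraMap A' q.asIdeal.ResidueField), fun x => by
      show a (algebraMap A' _ (algebraMap A A' x)) = c x
      simp only [c, RingHom.comp_apply, Ideal.ResidueField.map_algebraMap]⟩
    let ψ : A'' →ₐ[A] Ω := ⟨b.comp (algebraMap A'' r.asIdeal.ResidueField), fun x => by
      show b (algebraMap A'' _ (algebraMap A A'' x)) = c x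
      simp only [c, hab, RingHom.comp_apply, Ideal.ResidueField.map_algebraMap]⟩
    let χ := Algebra.TensorProduct.lift φ ψ fun _ _ => .all _ _
    refine ⟨⟨RingHom.ker χ, RingHom.ker_isPrime χ⟩, PrimeSpectrum.ext ?_⟩
    ext x
    show χ (algebraMap A _ x) = 0 ↔ x ∈ p.asIdeal
    rw [χ.commutes]
    show c x = 0 ↔ _
    simp only [c, RingHom.comp_apply, map_eq_zero, Ideal.algebraMap_residueField_eq_zero]

end Groth.Agent.S4607
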