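import Mathlib
import Groth.Statements.S4608
-- import your own Groth.Agent.* helpers here

set_option autoImplicit false
universe u
open AlgebraicGeometry CategoryTheory CategoryTheory.Limits
open EGA41

namespace Groth.Agent.S4608

/-- A morphism from a disjoint union X' ⨿ X'' → Y is quasi-compact if and only if its two components
are. -/
theorem result {X' X'' Y : Scheme.{u}} (f' : X' ⟶ Y) (f'' : X'' ⟶ Y) :
    QuasiCompact (coprod.desc f' f'') ↔ QuasiCompact f' ∧ QuasiCompact f'' := by
  let g := Limits.coprod.desc f' f''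
  have hl : ∀ x : X', g ((Limits.coprod.inl : X' ⟶ X' ⨿ X'') x) = f' x := fun x => by
    rw [← Scheme.Hom.comp_apply, Limits.coprod.inl_desc]
  have hr : ∀ x : X'', g ((Limits.coprod.inr : X'' ⟶ X' ⨿ X'') x) = f'' x := fun x => by
    rw [← Scheme.Hom.comp_apply, Limits.coprod.inr_desc]
  have hpre : ∀ U : Set Y, coprodMk X' X'' ⁻¹' (g ⁻¹' U) = Sum.inl '' (f' ⁻¹' U) ∪ Sum.inr '' (f'' ⁻¹' U) := by
    intro U
    ext z
    rcases z with z | z <;> simp [hl, hr]
  constructor
  · intro h
    have key : ∀ U : Set Y, IsOpen U → IsCompact U → IsCompact (Sum.inl '' (f' ⁻¹' U) ∪ Sum.inr '' (f'' ⁻¹' U)) := by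
      intro U hU hc
      rw [← hpre]
      exact (coprodMk X' X'').isCompact_preimage.2 (h.isCompact_preimage U hU hc)
    refine ⟨⟨fun U hU hc => ?_⟩, ⟨fun U hU hc => ?_⟩⟩
    · convert Topology.IsClosedEmbedding.inl.isCompact_preimage (key U hU hc) using 1
      ext z; simp
    · convert Topology.IsClosedEmbedding.inr.isCompact_preimage (key U hU hc) using 1
      ext z; simp
  · rintro ⟨h', h''⟩
    refine ⟨fun U hU hc => ?_⟩
    rw [← (coprodMk X' X'').isCompact_preimage, hpre]
    exact ((h'.isCompact_preimage U hU hc).image continuous_inl).union ((h''.isCompact_preimage U hU hc).image continuous_inr)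

end Groth.Agent.S4608
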