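import Mathlib
import Groth.Statements.S4609
-- import your own Groth.Agent.* helpers here

set_option autoImplicit false
universe u
open AlgebraicGeometry CategoryTheory CategoryTheory.Limits
open EGA41

namespace Groth.Agent.S4609

/-- A morphism from a disjoint union X' ⨿ X'' → Y is quasi-separated if and only if its two components
are. -/
theorem result {X' X'' Y : Scheme.{u}} (f' : X' ⟶ Y) (f'' : X'' ⟶ Y) :
    QuasiSeparated (coprod.desc f' f'') ↔ QuasiSeparated f' ∧ QuasiSeparated f'' := by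
  classical
  have crit : ∀ {Z : Scheme.{u}} (h : Z ⟶ Y), QuasiSeparated h ↔ ∀ U : Y.affineOpens, IsQuasiSeparated ((h ⁻¹ᵁ U.1 : Z.Opens) : Set Z) := by
    intro Z h
    rw [IsZariskiLocalAtTarget.iff_of_iSup_eq_top (P := @QuasiSeparated) _ (iSup_affineOpens_eq_top Y)]
    refine forall_congr' fun U => ?_
    have : IsAffine (U.1 : Scheme) := U.2
    rw [HasAffineProperty.iff_of_isAffine (P := @QuasiSeparated), isQuasiSeparated_iff_quasiSeparatedSpace _ (h ⁻¹ᵁ U.1).isOpen]
    rfl
  rw [crit, crit, crit, ← forall_and]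
  refine forall_congr' fun U => ?_
  let a := (coprod.inl : X' ⟶ X' ⨿ X'')
  let b := (coprod.inr : X'' ⟶ X' ⨿ X'')
  let W : Set ↑(X' ⨿ X'') := SetLike.coe ((coprod.desc f' f'') ⁻¹ᵁ U.1)
  have ea : a ⁻¹' W = ((f' ⁻¹ᵁ U.1 : X'.Opens) : Set X') := by
    ext x
    show (coprod.desc f' f'') (a x) ∈ U.1 ↔ f' x ∈ U.1
    rw [← Scheme.Hom.comp_apply, coprod.inl_desc]
  have eb : b ⁻¹' W = ((f'' ⁻¹ᵁ U.1 : X''.Opens) : Set X'') := by
    ext x
    show (coprod.desc f' f'') (b x) ∈ U.1 ↔ f'' x ∈ U.1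
    rw [← Scheme.Hom.comp_apply, coprod.inr_desc]
  have hc := isCompl_range_inl_inr X' X''
  have ha : IsClopen (Set.range a) := ⟨by rw [← isOpen_compl_iff, hc.compl_eq]; exact b.isOpenEmbedding.isOpen_range, a.isOpenEmbedding.isOpen_range⟩
  have hb : IsClopen (Set.range b) := ⟨by rw [← isOpen_compl_iff, hc.symm.compl_eq]; exact a.isOpenEmbedding.isOpen_range, b.isOpenEmbedding.isOpen_range⟩
  rw [← ea, ← eb, a.isOpenEmbedding.isQuasiSeparated_iff, b.isOpenEmbedding.isQuasiSeparated_iff,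
    Set.image_preimage_eq_inter_range, Set.image_preimage_eq_inter_range]
  refine ⟨fun h => ⟨h.of_subset Set.inter_subset_left, h.of_subset Set.inter_subset_left⟩, fun ⟨h1, h2⟩ => ?_⟩
  intro U' V' hU' hU'o hU'c hV' hV'o hV'c
  have key : ∀ C : Set ↑(X' ⨿ X''), IsClopen C → IsQuasiSeparated (W ∩ C) → IsCompact ((U' ∩ V') ∩ C) := by
    intro C hC hq
    have := hq (U' ∩ C) (V' ∩ C) (Set.inter_subset_inter_left C hU') (hU'o.inter hC.2) (hU'c.inter_right hC.1)
      (Set.inter_subset_inter_left C hV') (hV'o.inter hC.2) (hV'c.inter_right hC.1)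
    rwa [← Set.inter_inter_distrib_right] at this
  have := (key _ ha h1).union (key _ hb h2)
  rwa [← Set.inter_union_distrib_left, show Set.range a ∪ Set.range b = Set.univ from hc.codisjoint.eq_top, Set.inter_univ] at this

end Groth.Agent.S4609
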