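import Groth.Statements.S4610
import Mathlib
-- import your own Groth.Agent.* helpers here

set_option autoImplicit false
universe u
open EGA41

namespace Groth.Agent.S4610

noncomputable abbrev J {A : Type u} [CommRing A] {r : ℕ} (F : Fin r → Polynomial A) : Ideal (MvPolynomial (Fin r) A) :=
  Ideal.span (Set.range fun i => Polynomial.aeval (MvPolynomial.X i : MvPolynomial (Fin r) A) (F i))

theorem hom_aeval {A : Type u} [CommRing A] {r : ℕ} {B : Type u} [CommRing B] [Algebra A B] (F : Fin r → Polynomial A) (b : Fin r → B)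
    (hb : ∀ i, Polynomial.aeval (b i) (F i) = 0) : ∀ x ∈ J F, MvPolynomial.aeval b x = 0 := by
  intro x hx
  have : J F ≤ RingHom.ker (MvPolynomial.aeval b : MvPolynomial (Fin r) A →ₐ[A] B) := by
    rw [Ideal.span_le]
    rintro _ ⟨i, rfl⟩
    rw [SetLike.mem_coe, RingHom.mem_ker, ← Polynomial.aeval_algHom_apply, MvPolynomial.aeval_X, hb]
  exact this hx

theorem root_zero {A : Type u} [CommRing A] {r : ℕ} (F : Fin r → Polynomial A) (i : Fin r) :
    Polynomial.aeval (Ideal.Quotient.mkₐ A (J F) (MvPolynomial.X i)) (F i) = 0 := by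
  rw [Polynomial.aeval_algHom_apply]
  exact Ideal.Quotient.eq_zero_iff_mem.2 (Ideal.subset_span ⟨i, rfl⟩)

theorem step {A : Type u} [CommRing A] {r : ℕ} (F : Fin (r + 1) → Polynomial A) :
    Nonempty ((TensorProduct A (AdjoinRoot (F 0)) (MvPolynomial (Fin r) A ⧸ J (fun i => F i.succ))) ≃ₐ[A]
      (MvPolynomial (Fin (r + 1)) A ⧸ J F)) := by
  let G : Fin r → Polynomial A := fun i => F i.succ
  let Q := MvPolynomial (Fin r) A ⧸ J G
  let b : Fin (r + 1) → TensorProduct A (AdjoinRoot (F 0)) Q :=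
    Fin.cons ((Algebra.TensorProduct.includeLeft (R := A) (S := A) : AdjoinRoot (F 0) →ₐ[A] TensorProduct A (AdjoinRoot (F 0)) Q) (AdjoinRoot.root (F 0)))
      (fun i => Algebra.TensorProduct.includeRight (Ideal.Quotient.mkₐ A (J G) (MvPolynomial.X i)))
  have hb : ∀ i, Polynomial.aeval (b i) (F i) = 0 := by
    intro i
    refine Fin.cases ?_ (fun j => ?_) i
    · simp only [b, Fin.cons_zero]
      rw [Polynomial.aeval_algHom_apply, AdjoinRoot.aeval_eq, AdjoinRoot.mk_self, map_zero]
    · simp only [b, Fin.cons_succ]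
      rw [Polynomial.aeval_algHom_apply, root_zero G j, map_zero]
  let φ : (MvPolynomial (Fin (r + 1)) A ⧸ J F) →ₐ[A] TensorProduct A (AdjoinRoot (F 0)) Q :=
    Ideal.Quotient.liftₐ _ (MvPolynomial.aeval b) (hom_aeval F b hb)
  have hroot : (F 0).eval₂ (algebraMap A _) (Ideal.Quotient.mkₐ A (J F) (MvPolynomial.X 0)) = 0 := root_zero F 0
  let ψ : TensorProduct A (AdjoinRoot (F 0)) Q →ₐ[A] (MvPolynomial (Fin (r + 1)) A ⧸ J F) :=
    Algebra.TensorProduct.productMap (AdjoinRoot.liftAlgHom (F 0) (Algebra.ofId A _) (Ideal.Quotient.mkₐ A (J F) (MvPolynomial.X 0)) hroot)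
      (Ideal.Quotient.liftₐ _ (MvPolynomial.aeval fun i => Ideal.Quotient.mkₐ A (J F) (MvPolynomial.X i.succ))
        (hom_aeval G _ fun i => root_zero F i.succ))
  have hφ : ∀ i, φ (Ideal.Quotient.mkₐ A (J F) (MvPolynomial.X i)) = b i := fun i => MvPolynomial.aeval_X b i
  have hψr : ψ ((Algebra.TensorProduct.includeLeft (R := A) (S := A) : AdjoinRoot (F 0) →ₐ[A] TensorProduct A (AdjoinRoot (F 0)) Q) (AdjoinRoot.root (F 0))) = Ideal.Quotient.mkₐ A (J F) (MvPolynomial.X 0) := by
    simp [ψ, Algebra.TensorProduct.productMap_apply_tmul]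
  have hψs : ∀ i, ψ (Algebra.TensorProduct.includeRight (Ideal.Quotient.mkₐ A (J G) (MvPolynomial.X i))) = Ideal.Quotient.mkₐ A (J F) (MvPolynomial.X i.succ) := by
    intro i
    simp [ψ, Algebra.TensorProduct.productMap_apply_tmul]
    exact MvPolynomial.aeval_X _ i
  refine ⟨AlgEquiv.ofAlgHom ψ φ ?_ ?_⟩
  · refine Ideal.Quotient.algHom_ext _ (MvPolynomial.algHom_ext fun i => ?_)
    show ψ (φ (Ideal.Quotient.mkₐ A (J F) (MvPolynomial.X i))) = Ideal.Quotient.mkₐ A (J F) (MvPolynomial.X i)
    rw [hφ]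
    refine Fin.cases ?_ (fun j => ?_) i
    · simp only [b, Fin.cons_zero]; exact hψr
    · simp only [b, Fin.cons_succ]; exact hψs j
  · refine Algebra.TensorProduct.ext ?_ ?_
    · refine AdjoinRoot.algHom_ext ?_
      show φ (ψ ((Algebra.TensorProduct.includeLeft (R := A) (S := A) : AdjoinRoot (F 0) →ₐ[A] TensorProduct A (AdjoinRoot (F 0)) Q) (AdjoinRoot.root (F 0)))) = (Algebra.TensorProduct.includeLeft (R := A) (S := A) : AdjoinRoot (F 0) →ₐ[A] TensorProduct A (AdjoinRoot (F 0)) Q) (AdjoinRoot.root (F 0))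
      rw [hψr, hφ]; rfl
    · refine Ideal.Quotient.algHom_ext _ (MvPolynomial.algHom_ext fun i => ?_)
      show φ (ψ (Algebra.TensorProduct.includeRight (Ideal.Quotient.mkₐ A (J G) (MvPolynomial.X i)))) = Algebra.TensorProduct.includeRight (Ideal.Quotient.mkₐ A (J G) (MvPolynomial.X i))
      rw [hψs, hφ]; rfl

theorem main {A : Type u} [CommRing A] [Nontrivial A] : ∀ (r : ℕ) (F : Fin r → Polynomial A), (∀ i, (F i).Monic) →
    Module.Free A (MvPolynomial (Fin r) A ⧸ J F) ∧ Module.Finite A (MvPolynomial (Fin r) A ⧸ J F) ∧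
      Module.finrank A (MvPolynomial (Fin r) A ⧸ J F) = Finset.univ.prod fun i => (F i).natDegree := by
  intro r
  induction r with
  | zero =>
    intro F _
    have h : J F = ⊥ := by simp [J]
    let e : (MvPolynomial (Fin 0) A ⧸ J F) ≃ₐ[A] A :=
      ((Ideal.quotientEquivAlgOfEq A h).trans (AlgEquiv.quotientBot A _)).trans (MvPolynomial.isEmptyAlgEquiv A (Fin 0))
    exact ⟨Module.Free.of_equiv e.toLinearEquiv.symm, Module.Finite.equiv e.toLinearEquiv.symm,
      by rw [e.toLinearEquiv.finrank_eq, Module.finrank_self]; simp⟩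
  | succ r ih =>
    intro F hF
    obtain ⟨h1, h2, h3⟩ := ih (fun i => F i.succ) (fun i => hF i.succ)
    obtain ⟨e⟩ := step F
    let pb := AdjoinRoot.powerBasis' (hF 0)
    have : Module.Free A (AdjoinRoot (F 0)) := .of_basis pb.basis
    have : Module.Finite A (AdjoinRoot (F 0)) := Module.Finite.of_basis pb.basis
    refine ⟨Module.Free.of_equiv e.toLinearEquiv, Module.Finite.equiv e.toLinearEquiv, ?_⟩
    rw [← e.toLinearEquiv.finrank_eq, Module.finrank_tensorProduct, h3, Fin.prod_univ_succ, pb.finrank, AdjoinRoot.powerBasis'_dim]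


/-- Let A be a nonzero ring and F_1, …, F_r monic one-variable polynomials of degrees d_1, …, d_r; then
A[T_1, …, T_r]/(F_1(T_1), …, F_r(T_r)) is a free A-module of rank ∏ d_i. (The published statement
assumes A local with maximal ideal of square zero and A' local, which this assertion does not use;
its bound [K' : K] ≤ d and part (ii) are not stated.) -/
theorem result {A : Type u} [CommRing A] [Nontrivial A]
    {r : ℕ} (F : Fin r → Polynomial A) (hF : ∀ i, (F i).Monic) :
    Module.Free A (MvPolynomial (Fin r) A ⧸ Ideal.span (Set.range fun i => Polynomial.aeval (MvPolynomial.X i : MvPolynomial (Fin r) A) (F i))) ∧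
      Module.finrank A (MvPolynomial (Fin r) A ⧸ Ideal.span (Set.range fun i => Polynomial.aeval (MvPolynomial.X i : MvPolynomial (Fin r) A) (F i))) =
        Finset.univ.prod fun i => (F i).natDegree := by
  exact ⟨(main r F hF).1, (main r F hF).2.2⟩

end Groth.Agent.S4610
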