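import Mathlib
import Groth.Statements.S4611
-- import your own Groth.Agent.* helpers here

set_option autoImplicit false
universe u
open EGA41

namespace Groth.Agent.S4611

/-- A local algebra essentially of finite type over a ring A is A-isomorphic to a quotient of a
localization A[T_1, …, T_n]_q of a polynomial algebra at a prime ideal q; stated as the existence of
a surjective A-algebra map from such a localization. -/
theorem result {A B : Type u} [CommRing A]
    [CommRing B] [IsLocalRing B] [Algebra A B] [Algebra.EssFiniteType A B] :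
    ∃ (n : ℕ) (q : Ideal (MvPolynomial (Fin n) A)) (_ : q.IsPrime)
      (φ : Localization.AtPrime q →ₐ[A] B), Function.Surjective φ := by
  classical
  obtain ⟨s, hs⟩ := Algebra.EssFiniteType.cond (R := A) (S := B)
  let π : MvPolynomial (Fin s.card) A →ₐ[A] B := MvPolynomial.aeval fun i => (s.equivFin.symm i : B)
  have hadj : Algebra.adjoin A (s : Set B) ≤ π.range := by
    rw [Algebra.adjoin_le_iff]
    intro x hx
    exact ⟨MvPolynomial.X (s.equivFin ⟨x, hx⟩), by simp [π]⟩
  let q : Ideal (MvPolynomial (Fin s.card) A) := (IsLocalRing.maximalIdeal B).comap π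
  haveI : q.IsPrime := Ideal.IsPrime.comap _
  have hu : ∀ y : q.primeCompl, IsUnit (π y) := fun y => by
    by_contra hn
    exact y.2 hn
  refine ⟨s.card, q, inferInstance, IsLocalization.liftAlgHom (S := Localization.AtPrime q) hu, fun b => ?_⟩
  obtain ⟨⟨a, c⟩, hac⟩ := IsLocalization.surj ((IsUnit.submonoid B).comap (algebraMap (Algebra.adjoin A (s : Set B)) B)) b
  obtain ⟨a', ha'⟩ := hadj a.2
  obtain ⟨c', hc'⟩ := hadj c.1.2
  replace ha' : π a' = (a : B) := ha'
  replace hc' : π c' = ((c.1 : _) : B) := hc'
  have hc'q : c' ∈ q.primeCompl := by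
    intro hmem
    have h1 : π c' ∈ IsLocalRing.maximalIdeal B := hmem
    have hcu : IsUnit ((c.1 : B)) := c.2
    rw [hc'] at h1
    exact h1 hcu
  refine ⟨IsLocalization.mk' _ a' ⟨c', hc'q⟩, ?_⟩
  rw [IsLocalization.coe_liftAlgHom, IsLocalization.lift_mk'_spec]
  show π a' = π c' * b
  rw [ha', hc', mul_comm]
  exact hac.symm

end Groth.Agent.S4611
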