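import Groth.Statements.S4612
import Groth.Agent.ComplDeriv.NagataJacobian
import Groth.Agent.ComplDeriv.GeomRegRank

set_option autoImplicit false
universe u
open IsLocalRing
open EGA41

namespace Groth.Agent.S4612

/-- Nagata's Jacobian criterion for quotients of power series rings: let k be a field, A = k[[T_1, …,
T_r]], q ⊆ p ideals of A with p prime, B = A/q. Suppose A/p contains a sub-k-algebra isomorphic to a
power series algebra k[[X_1, …, X_s]] over which A/p is finite and such that the fraction field L of
A/p is a separable extension of the fraction field L' of k[[X_1, …, X_s]]; here this is given as an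
injective k-algebra map k[[X_1, …, X_s]] → A/p making A/p a finite module, with fraction fields L',
L and a compatible L'-algebra structure on L. Then the following are equivalent: B_p is formally
smooth over k for the adic topology of its maximal ideal; there are k-derivations D_1, …, D_m of A
into itself and f_1, …, f_m ∈ q generating qA_p with det(D_i f_j) ∉ p; B_p is a regular local ring.
(The published statement remarks that the hypothesis on A/p always holds when k has characteristic
zero.) -/
theorem result {k : Type u} [Field k] (r : ℕ)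
    (q p : Ideal (MvPowerSeries (Fin r) k)) [p.IsPrime] (hqp : q ≤ p) [(p.map (Ideal.Quotient.mk q)).IsPrime]
    (s : ℕ) [Algebra (MvPowerSeries (Fin s) k) (MvPowerSeries (Fin r) k ⧸ p)]
    [IsScalarTower k (MvPowerSeries (Fin s) k) (MvPowerSeries (Fin r) k ⧸ p)]
    [Module.Finite (MvPowerSeries (Fin s) k) (MvPowerSeries (Fin r) k ⧸ p)]
    (hinj : Function.Injective (algebraMap (MvPowerSeries (Fin s) k) (MvPowerSeries (Fin r) k ⧸ p)))
    {L' L : Type u} [Field L'] [Field L]
    [Algebra (MvPowerSeries (Fin s) k) L'] [IsFractionRing (MvPowerSeries (Fin s) k) L']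
    [Algebra (MvPowerSeries (Fin r) k ⧸ p) L] [IsFractionRing (MvPowerSeries (Fin r) k ⧸ p) L]
    [Algebra L' L] [Algebra (MvPowerSeries (Fin s) k) L]
    [IsScalarTower (MvPowerSeries (Fin s) k) (MvPowerSeries (Fin r) k ⧸ p) L]
    [IsScalarTower (MvPowerSeries (Fin s) k) L' L] [Algebra.IsSeparable L' L] :
    [CAlgX.IsAdicFormallySmooth k (Localization.AtPrime (p.map (Ideal.Quotient.mk q)))
        (maximalIdeal (Localization.AtPrime (p.map (Ideal.Quotient.mk q)))),
     ∃ (m : ℕ) (D : Fin m → Derivation k (MvPowerSeries (Fin r) k) (MvPowerSeries (Fin r) k))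
        (f : Fin m → MvPowerSeries (Fin r) k), (∀ i, f i ∈ q) ∧
        q.map (algebraMap (MvPowerSeries (Fin r) k) (Localization.AtPrime p)) =
          Ideal.span (Set.range fun i => algebraMap (MvPowerSeries (Fin r) k) (Localization.AtPrime p) (f i)) ∧
        Matrix.det (Matrix.of fun i j => D i (f j)) ∉ p,
     IsRegularLocalRing (Localization.AtPrime (p.map (Ideal.Quotient.mk q)))].TFAE := by
  let A := MvPowerSeries (Fin r) k
  let P := MvPowerSeries (Fin s) k
  let : Algebra A L := ((algebraMap (A ⧸ p) L).comp (Ideal.Quotient.mk p)).toAlgebra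
  have : IsScalarTower A (A ⧸ p) L := ⟨fun x y z => by
    obtain ⟨y, rfl⟩ := Ideal.Quotient.mk_surjective y
    rw [Algebra.smul_def (x • Ideal.Quotient.mk p y) z, Algebra.smul_def (Ideal.Quotient.mk p y) z,
      Algebra.smul_def x (algebraMap (A ⧸ p) L (Ideal.Quotient.mk p y) * z), ← mul_assoc]
    congr 1
    exact (map_mul (algebraMap (A ⧸ p) L) (Ideal.Quotient.mk p x) (Ideal.Quotient.mk p y))⟩
  let : Algebra k L := ((algebraMap P L).comp (algebraMap k P)).toAlgebra
  let : Algebra k L' := ((algebraMap P L').comp (algebraMap k P)).toAlgebra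
  have : IsScalarTower k P L' := IsScalarTower.of_algebraMap_eq' rfl
  have : IsScalarTower k L' L := IsScalarTower.of_algebraMap_eq fun c => by
    change algebraMap P L (algebraMap k P c) = algebraMap L' L (algebraMap P L' (algebraMap k P c))
    rw [← IsScalarTower.algebraMap_apply P L' L]
  have hkL : ∀ c : k, algebraMap k L c = algebraMap (A ⧸ p) L (algebraMap k (A ⧸ p) c) := fun c => by
    change algebraMap P L (algebraMap k P c) = _
    rw [IsScalarTower.algebraMap_apply P (A ⧸ p) L, ← IsScalarTower.algebraMap_apply k P (A ⧸ p)]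
  -- `L` as the residue field of `(Localization.AtPrime (p.map (Ideal.Quotient.mk q)))`
  let π : (A ⧸ q) →+* L := (algebraMap (A ⧸ p) L).comp (Ideal.Quotient.factor hqp)
  have hπ : ∀ z : A, π (Ideal.Quotient.mk q z) = algebraMap A L z := fun z => rfl
  have hunit : ∀ y : (p.map (Ideal.Quotient.mk q)).primeCompl, IsUnit (π y) := fun ⟨y, hy⟩ => by
    obtain ⟨z, rfl⟩ := Ideal.Quotient.mk_surjective y
    rw [isUnit_iff_ne_zero, hπ, ne_eq, ComplDeriv.algebraMap_eq_zero_iff p]
    exact fun hz => hy (Ideal.mem_map_of_mem _ hz)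
  let : Algebra (Localization.AtPrime (p.map (Ideal.Quotient.mk q))) L := (IsLocalization.lift (S := (Localization.AtPrime (p.map (Ideal.Quotient.mk q)))) hunit).toAlgebra
  have hlift : ∀ y, algebraMap (Localization.AtPrime (p.map (Ideal.Quotient.mk q))) L (algebraMap (A ⧸ q) (Localization.AtPrime (p.map (Ideal.Quotient.mk q))) y) = π y := IsLocalization.lift_eq hunit
  have : IsScalarTower k (Localization.AtPrime (p.map (Ideal.Quotient.mk q))) L := IsScalarTower.of_algebraMap_eq fun c => by
    rw [IsScalarTower.algebraMap_apply k (A ⧸ q) (Localization.AtPrime (p.map (Ideal.Quotient.mk q))), hlift, hkL]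
    rfl
  have hsurj : Function.Surjective (algebraMap (Localization.AtPrime (p.map (Ideal.Quotient.mk q))) L) := fun z => by
    obtain ⟨a, b, hb, rfl⟩ := IsFractionRing.div_surjective (A := A ⧸ p) z
    obtain ⟨a, rfl⟩ := Ideal.Quotient.mk_surjective a
    obtain ⟨b, rfl⟩ := Ideal.Quotient.mk_surjective b
    have hb' : b ∉ p := fun h => nonZeroDivisors.ne_zero hb (Ideal.Quotient.eq_zero_iff_mem.mpr h)
    have hb'' : Ideal.Quotient.mk q b ∈ (p.map (Ideal.Quotient.mk q)).primeCompl := fun h => hb' (by
      rw [SetLike.mem_coe, ← Ideal.mem_comap, Ideal.comap_map_of_surjective _ Ideal.Quotient.mk_surjective,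
        ← RingHom.ker_eq_comap_bot, Ideal.mk_ker, sup_eq_left.mpr hqp] at h
      exact h)
    refine ⟨IsLocalization.mk' (Localization.AtPrime (p.map (Ideal.Quotient.mk q))) (Ideal.Quotient.mk q a) ⟨_, hb''⟩, ?_⟩
    rw [eq_div_iff (IsFractionRing.to_map_ne_zero_of_mem_nonZeroDivisors hb)]
    have h := congrArg (algebraMap (Localization.AtPrime (p.map (Ideal.Quotient.mk q))) L) (IsLocalization.mk'_spec (Localization.AtPrime (p.map (Ideal.Quotient.mk q))) (Ideal.Quotient.mk q a) ⟨_, hb''⟩)
    rw [map_mul, hlift, hlift, hπ, hπ] at h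
    exact h
  have : IsNoetherianRing (Localization.AtPrime (p.map (Ideal.Quotient.mk q))) := IsLocalization.isNoetherianRing (p.map (Ideal.Quotient.mk q)).primeCompl (Localization.AtPrime (p.map (Ideal.Quotient.mk q))) inferInstance
  have : Algebra.FormallySmooth k L := ComplDeriv.formallySmooth_of_separable_over_powerSeries (k := k) s (L' := L')
  have hinjΩ : ComplDeriv.KInj k (Localization.AtPrime (p.map (Ideal.Quotient.mk q))) :=
    (ComplDeriv.kInj_iff hsurj).mpr
      (PP16Lib.injective_lTensor_of_injective EGA41Lib.injective_of_formallySmooth)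
  tfae_have 3 → 1 := fun h => S2471.result.mpr ⟨h, hinjΩ⟩
  tfae_have 1 → 3 := fun h => (S2471.result.mp h).1
  tfae_have 2 → 3 := fun ⟨m, D, f, hf, hgen, hdet⟩ =>
    (ComplDeriv.isRegularLocalRing_quotient_iff p q hqp).mpr
      (ComplDeriv.isRegularLocalRing_of_det p q hqp D f hf hgen hdet)
  tfae_have 3 → 2 := fun h =>
    ComplDeriv.exists_det_of_isRegularLocalRing (L := L) p q hqp s hinj (L' := L')
      ((ComplDeriv.isRegularLocalRing_quotient_iff p q hqp).mp h)
  tfae_finish

end Groth.Agent.S4612
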