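import Mathlib
import Groth.Statements.S4613
-- import your own Groth.Agent.* helpers here

set_option autoImplicit false
universe u
open AlgebraicGeometry CategoryTheory
open EGA41

namespace Groth.Agent.S4613

open CategoryTheory

/-- For a closed immersion j : X → Y: j is locally of finite presentation if and only if its ideal sheaf
is of finite type, i.e. for every affine open U of Y the kernel of Γ(U, O_Y) → Γ(j⁻¹U, O_X) is
finitely generated. (An immersion with image closed in an open U reduces to this case.) -/
theorem result {X Y : Scheme.{u}} (j : X ⟶ Y)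
    [IsClosedImmersion j] :
    LocallyOfFinitePresentation j ↔ ∀ U : Y.affineOpens, (RingHom.ker (j.app U).hom).FG := by
  rw [IsZariskiLocalAtTarget.iff_of_iSup_eq_top (P := @LocallyOfFinitePresentation) (fun U : Y.affineOpens => U.1)
    (iSup_affineOpens_eq_top Y)]
  refine forall_congr' fun U => ?_
  haveI : IsAffine U.1.toScheme := U.2
  haveI : IsAffine (j ⁻¹ᵁ U.1).toScheme := U.2.preimage j
  rw [HasRingHomProperty.iff_of_isAffine (P := @LocallyOfFinitePresentation), morphismRestrict_appTop]
  have gen : ∀ {A B D : CommRingCat.{u}} (f : A ⟶ B) (g : B ⟶ D), IsIso g →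
      ((f ≫ g).hom.FinitePresentation ↔ f.hom.FinitePresentation) := fun f g _ =>
    RingHom.finitePresentation_respectsIso.cancel_right_isIso f g
  refine (gen (j.app _) (X.presheaf.map (eqToHom _).op) inferInstance).trans ?_
  have hV : ∀ V, V = U.1 → ((j.app V).hom.FinitePresentation ↔ (j.app U.1).hom.FinitePresentation) := by
    rintro _ rfl; exact Iff.rfl
  refine (hV _ (Scheme.Opens.ι_image_top _)).trans ?_
  have hs : Function.Surjective (j.app U.1).hom := j.app_surjective U.1 U.2
  exact ⟨fun h => by
    letI := (j.app U.1).hom.toAlgebra
    haveI : Algebra.FinitePresentation _ _ := h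
    exact Algebra.FinitePresentation.ker_fG_of_surjective (Algebra.ofId _ _) hs,
    fun h => RingHom.FinitePresentation.of_surjective _ hs h⟩

end Groth.Agent.S4613
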