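import Groth.Statements.S4616
import Groth.Agent.S4571
import Groth.Agent.EGA41Lib.FieldCrit
-- import your own Groth.Agent.* helpers here

set_option autoImplicit false
universe u
open TensorProduct KaehlerDifferential IsLocalRing
open EGA41

namespace Groth.Agent.S4616

/-- Independence over the intersection of a directed decreasing family of subfields. -/
theorem exists_linearIndepOn {k : Type u} [Field k] {ι : Type u} [Preorder ι] [IsDirected ι (fun a b => a ≤ b)]
    [Nonempty ι] (L : ι → Subfield k) (hL : Antitone L) {F : Subfield k} (hF : ∀ x, (∀ α, x ∈ L α) → x ∈ F)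
    {κ : Type u} (v : κ → k) (t : Finset κ) (hv : LinearIndepOn F v (t : Set κ)) :
    ∃ α, LinearIndepOn (L α) v (t : Set κ) := by
  classical
  induction t using Finset.induction_on with
  | empty => exact ⟨Classical.arbitrary ι, by simp⟩
  | @insert a t ha ih =>
    have ha' : a ∉ (t : Set κ) := by simpa using ha
    rw [Finset.coe_insert, linearIndepOn_insert ha'] at hv
    obtain ⟨α₁, h₁⟩ := ih hv.1
    by_contra hcon
    push_neg at hcon
    have hc : ∀ β, α₁ ≤ β → ∃ c : ↥(t : Set κ) → L β, ∑ i, (c i : k) * v i = v a := fun β hβ => by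
      have h := hcon β
      rw [Finset.coe_insert, linearIndepOn_insert ha'] at h
      have hind : LinearIndepOn (L β) v (t : Set κ) := by
        rw [LinearIndepOn, Fintype.linearIndependent_iff] at h₁ ⊢
        intro g hg i
        exact Subtype.ext (congrArg Subtype.val (h₁ (fun j => ⟨g j, hL hβ (g j).2⟩) hg i) :)
      have hmem : v a ∈ Submodule.span (L β) (v '' (t : Set κ)) := by
        by_contra h2
        exact h ⟨hind, h2⟩
      rw [Set.image_eq_range, Submodule.mem_span_range_iff_exists_fun] at hmem
      exact hmem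
    obtain ⟨c, hc₁⟩ := hc α₁ le_rfl
    have hcF : ∀ i, (c i : k) ∈ F := fun i => hF _ fun α => by
      obtain ⟨γ, h1, h2⟩ := exists_ge_ge α₁ α
      obtain ⟨c', hc'⟩ := hc γ h1
      rw [LinearIndepOn, Fintype.linearIndependent_iff] at h₁
      have h := h₁ (fun j => ⟨(c j : k) - c' j, sub_mem (c j).2 (hL h1 (c' j).2)⟩) (by
        show ∑ j, ((c j : k) - c' j) * v j = 0
        simp only [sub_mul, Finset.sum_sub_distrib, hc₁, hc', sub_self]) i
      rw [sub_eq_zero.mp (congrArg Subtype.val h : (c i : k) - c' i = 0)]
      exact hL h2 (c' i).2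
    refine hv.2 ?_
    rw [Set.image_eq_range, Submodule.mem_span_range_iff_exists_fun]
    exact ⟨fun i => ⟨c i, hcF i⟩, hc₁⟩

theorem finite_red (p : ℕ) (s : Type u) [Finite s] : Finite (EGA41Lib.Red p s) :=
  Finite.of_injective (fun e (i : s) => (⟨e.1 i, e.2 i⟩ : Fin p)) fun a b h =>
    Subtype.ext (Finsupp.ext fun i => congrArg Fin.val (congrFun h i))

section descend

variable {k : Type u} [Field k] (p : ℕ) [Fact p.Prime] [CharP k p]
  {ι : Type u} [Preorder ι] [IsDirected ι (fun a b => a ≤ b)] [Nonempty ι] (kα : ι → Subfield k)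

/-- A finite `p`-independent family stays `p`-independent over some member of the family. -/
theorem exists_pIndep (hanti : Antitone kα)
    (hint : ⨅ α, (kα α ⊔ (frobenius k p).fieldRange) = (frobenius k p).fieldRange) {s : Type u} [Finite s]
    (x : s → k) (hx : EGA41Lib.PIndep p (⊥ : Subfield k) x) :
    ∃ α, ∀ β, α ≤ β → EGA41Lib.PIndep p (kα β) x := by
  haveI := finite_red p s
  haveI := Fintype.ofFinite (EGA41Lib.Red p s)
  let L : ι → Subfield k := fun α => kα α ⊔ (frobenius k p).fieldRange
  have hF : LinearIndepOn (frobenius k p).fieldRange (EGA41Lib.mono (p := p) x)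
      ((Finset.univ : Finset (EGA41Lib.Red p s)) : Set (EGA41Lib.Red p s)) := by
    rw [Finset.coe_univ, linearIndepOn_univ, Fintype.linearIndependent_iff]
    intro g hg i
    refine Subtype.ext (congrArg Subtype.val (Fintype.linearIndependent_iff.mp hx (fun j => ⟨g j, ?_⟩) hg i) :)
    obtain ⟨y, hy⟩ := (g j).2
    rw [← hy, frobenius_def]
    exact EGA41Lib.pow_mem_pSub p _ y
  obtain ⟨α, hα⟩ := exists_linearIndepOn L (fun a b hab => sup_le_sup_right (hanti hab) _)
    (F := (frobenius k p).fieldRange) (fun z hz => by rw [← hint, Subfield.mem_iInf]; exact hz) _ _ hF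
  rw [Finset.coe_univ, linearIndepOn_univ, Fintype.linearIndependent_iff] at hα
  refine ⟨α, fun β hβ => ?_⟩
  rw [EGA41Lib.PIndep, EGA41Lib.Ind, Fintype.linearIndependent_iff]
  intro g hg i
  refine Subtype.ext (congrArg Subtype.val (hα (fun j => ⟨g j, ?_⟩) hg i) :)
  have hle : EGA41Lib.pSub p (kα β) k ≤ (L α).toSubring := fun z hz => by
    induction hz using Algebra.adjoin_induction with
    | mem z hz =>
      obtain ⟨y, rfl⟩ := hz
      exact (le_sup_right : _ ≤ L α) ⟨y, frobenius_def p y⟩
    | algebraMap r => exact (le_sup_left : kα α ≤ L α) (hanti hβ r.2)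
    | add a b _ _ ha hb => exact add_mem ha hb
    | mul a b _ _ ha hb => exact mul_mem ha hb
  exact hle (g j).2

variable {p kα}

/-- Injectivity on differentials over the prime field from injectivity over the members. -/
theorem injective_of_family (p : ℕ) [Fact p.Prime] [CharP k p] (kα : ι → Subfield k) (hanti : Antitone kα)
    (hint : ⨅ α, (kα α ⊔ (frobenius k p).fieldRange) = (frobenius k p).fieldRange)
    {A Q : Type u} [CommRing A] [Algebra k A] [CommRing Q] [Algebra A Q] (α₀ : ι)
    (hinj : ∀ α, α₀ ≤ α → Function.Injective ((mapBaseChange (kα α) k A).lTensor Q)) :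
    Function.Injective ((mapBaseChange (⊥ : Subfield k) k A).lTensor Q) := by
  classical
  obtain ⟨B, hB⟩ := EGA41Lib.exists_isPBasis (p := p) (k := (⊥ : Subfield k)) (K := k)
  obtain ⟨b, hb⟩ := EGA41Lib.exists_basis_kaehler hB
  have hsupp : ∀ y : Q ⊗[A] (A ⊗[k] KaehlerDifferential (⊥ : Subfield k) k), ∃ s : Finset B,
      ∀ e : KaehlerDifferential (⊥ : Subfield k) k →ₗ[k] KaehlerDifferential (⊥ : Subfield k) k,
        (∀ i ∈ s, e (b i) = b i) → (e.baseChange A).lTensor Q y = y := fun y => by
    induction y using TensorProduct.induction_on with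
    | zero => exact ⟨∅, fun e _ => map_zero _⟩
    | add y z hy hz =>
      obtain ⟨s, hs⟩ := hy
      obtain ⟨t, ht⟩ := hz
      exact ⟨s ∪ t, fun e he => by
        rw [map_add, hs e fun i hi => he i (Finset.mem_union_left _ hi),
          ht e fun i hi => he i (Finset.mem_union_right _ hi)]⟩
    | tmul c w =>
      induction w using TensorProduct.induction_on with
      | zero => exact ⟨∅, fun e _ => by rw [TensorProduct.tmul_zero, map_zero]⟩
      | add y z hy hz =>
        obtain ⟨s, hs⟩ := hy
        obtain ⟨t, ht⟩ := hz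
        exact ⟨s ∪ t, fun e he => by
          rw [TensorProduct.tmul_add, map_add, hs e fun i hi => he i (Finset.mem_union_left _ hi),
            ht e fun i hi => he i (Finset.mem_union_right _ hi)]⟩
      | tmul a w =>
        refine ⟨(b.repr w).support, fun e he => ?_⟩
        rw [LinearMap.lTensor_tmul, LinearMap.baseChange_tmul]
        congr 2
        conv_rhs => rw [← b.linearCombination_repr w]
        conv_lhs => rw [← b.linearCombination_repr w]
        rw [Finsupp.linearCombination_apply, map_finsuppSum]
        exact Finset.sum_congr rfl fun i hi => by show e (_ • b i) = _ • b i; rw [map_smul, he i hi]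
  rw [injective_iff_map_eq_zero]
  intro y hy
  obtain ⟨s, hs⟩ := hsupp y
  obtain ⟨α₁, hα₁⟩ := exists_pIndep p kα hanti hint (s := (s : Set B)) (fun i => ((i : B) : k))
    (EGA41Lib.Ind.comp hB.1 Subtype.val Subtype.val_injective)
  obtain ⟨α, h0, h1⟩ := exists_ge_ge α₀ α₁
  have hli := (EGA41Lib.isPIndependent_iff_linearIndependent _).mp (hα₁ α h1)
  letI : Algebra (⊥ : Subfield k) (kα α) := (Subfield.inclusion bot_le).toAlgebra
  haveI : IsScalarTower (⊥ : Subfield k) (kα α) k := IsScalarTower.of_algebraMap_eq fun _ => rfl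
  haveI : IsScalarTower (⊥ : Subfield k) (kα α) A := IsScalarTower.of_algebraMap_eq fun _ => rfl
  let θk : KaehlerDifferential (⊥ : Subfield k) k →ₗ[k] KaehlerDifferential (kα α) k :=
    KaehlerDifferential.map (⊥ : Subfield k) (kα α) k k
  let θA : KaehlerDifferential (⊥ : Subfield k) A →ₗ[A] KaehlerDifferential (kα α) A :=
    KaehlerDifferential.map (⊥ : Subfield k) (kα α) A A
  have hsq : (mapBaseChange (kα α) k A).comp (θk.baseChange A) =
      θA.comp (mapBaseChange (⊥ : Subfield k) k A) := by
    refine TensorProduct.AlgebraTensorModule.ext fun a w => ?_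
    induction (KaehlerDifferential.span_range_derivation (⊥ : Subfield k) k).ge (Submodule.mem_top (x := w)) using
      Submodule.span_induction generalizing a with
    | mem w hw =>
      obtain ⟨x, rfl⟩ := hw
      simp [θk, θA, KaehlerDifferential.map_D]
    | zero => simp
    | add x y _ _ hx hy => simp only [TensorProduct.tmul_add, map_add, hx, hy]
    | smul c x _ hx => rw [← TensorProduct.smul_tmul]; exact hx _
  obtain ⟨g, hg⟩ := (Finsupp.linearCombination k fun i : (s : Set B) =>
    KaehlerDifferential.D (kα α) k ((i : B) : k)).exists_leftInverse_of_injective (LinearMap.ker_eq_bot.mpr hli)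
  let ρ : KaehlerDifferential (kα α) k →ₗ[k] KaehlerDifferential (⊥ : Subfield k) k :=
    (Finsupp.linearCombination k fun i : (s : Set B) => b i).comp g
  have hρ : ∀ i ∈ s, (ρ.comp θk) (b i) = b i := fun i hi => by
    have h := LinearMap.congr_fun hg (Finsupp.single (⟨i, hi⟩ : (s : Set B)) 1)
    rw [LinearMap.comp_apply, Finsupp.linearCombination_single, one_smul, LinearMap.id_apply] at h
    rw [LinearMap.comp_apply, hb, KaehlerDifferential.map_D]
    show Finsupp.linearCombination k (fun i : (s : Set B) => b i) (g _) = _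
    rw [show algebraMap k k (i : k) = (i : k) from rfl, h, Finsupp.linearCombination_single, one_smul, hb]
  have hz : (θk.baseChange A).lTensor Q y = 0 := hinj α h0 (by
    rw [← LinearMap.lTensor_comp_apply, hsq, LinearMap.lTensor_comp_apply, hy, map_zero, map_zero])
  rw [← hs (ρ.comp θk) hρ, LinearMap.baseChange_comp, LinearMap.lTensor_comp_apply, hz, map_zero]

end descend

/-- Let k be a field of characteristic p > 0, A a local k-algebra with maximal ideal m and residue field
K, (k_α) a decreasing directed family of subfields of k with ⋂ k_α(k^p) = k^p. Then A is formally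
smooth over k for the m-adic topology if and only if the maps Sym^n_K(m/m²) → m^n/m^(n+1) are
bijective (n ≥ 1) and, for all large α, Ω_{k/k_α} ⊗_k K → Ω_{A/k_α} ⊗_A K is injective. -/
theorem result {k A : Type u}
    [Field k] (p : ℕ) [Fact p.Prime] [CharP k p] [CommRing A] [IsLocalRing A] [Algebra k A]
    {ι : Type u} [Preorder ι] [IsDirected ι (fun a b => a ≤ b)] [Nonempty ι] (kα : ι → Subfield k)
    (hanti : Antitone kα) (hint : ⨅ α, (kα α ⊔ (frobenius k p).fieldRange) = (frobenius k p).fieldRange) :
    CAlgX.IsAdicFormallySmooth k A (maximalIdeal A) ↔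
      (PP16.SymGrBijective A (maximalIdeal A) ∧ ∃ α₀ : ι, ∀ α : ι, α₀ ≤ α →
        Function.Injective ((mapBaseChange (kα α) k A).lTensor (ResidueField A))) := by
  refine ⟨fun h => ⟨(S4571.result.mp h).1, Classical.arbitrary ι, fun α _ => PP16Lib.injective_of_adicSmooth h⟩, ?_⟩
  rintro ⟨hG, α₀, hinj⟩
  letI : Field (A ⧸ maximalIdeal A) := Ideal.Quotient.field _
  haveI := S4571.formallySmooth_of_prime (k := k) (K := A ⧸ maximalIdeal A)
  haveI : Module.Projective (A ⧸ maximalIdeal A) (maximalIdeal A).Cotangent := Module.Projective.of_free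
  have hB : CAlgX.IsAdicFormallySmooth (⊥ : Subfield k) A (maximalIdeal A) :=
    PP16Lib.adicSmooth_of_symGrBijective inferInstance hG
  exact PP16Lib.adicSmooth_relative hB (injective_of_family p kα hanti hint (Q := A ⧸ maximalIdeal A) α₀ hinj)
    Module.Projective.of_free


end Groth.Agent.S4616
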