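import Mathlib
import Groth.Statements.S4623
-- import your own Groth.Agent.* helpers here

set_option autoImplicit false
open CategoryTheory AlgebraicGeometry
universe u
open FBase

namespace Groth.Agent.S4623

/-- Let h : X → Y be a surjective morphism of schemes over a field k. If X is geometrically irreducible
over k, then Y is geometrically irreducible over k. -/
theorem result {k : Type u} [Field k] {X Y : Scheme.{u}}
    (f : X ⟶ Spec (CommRingCat.of k)) (g : Y ⟶ Spec (CommRingCat.of k)) (h : X ⟶ Y) (w : h ≫ g = f)
    [Surjective h] [GeometricallyIrreducible f] : GeometricallyIrreducible g := by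
  refine ⟨fun K _ y Z fst snd H => ?_⟩
  have HX : IsPullback (Limits.pullback.fst f y) (Limits.pullback.snd f y) f y := IsPullback.of_hasPullback f y
  let p : Limits.pullback f y ⟶ Z := H.lift (Limits.pullback.fst f y ≫ h) (Limits.pullback.snd f y)
    (by rw [Category.assoc, w]; exact HX.w)
  have sq : IsPullback (Limits.pullback.fst f y) p h fst := by
    refine IsPullback.of_bot ?_ (H.lift_fst _ _ _).symm H
    rw [H.lift_snd, w]
    exact HX
  have hp : Surjective p := MorphismProperty.of_isPullback sq inferInstance
  have hk : IrreducibleSpace (Limits.pullback f y : Scheme.{u}) :=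
    GeometricallyIrreducible.geometrically_irreducibleSpace _ _ _ HX
  refine (irreducibleSpace_def _).mpr ?_
  show IsIrreducible (Set.univ : Set Z)
  rw [← p.surjective.range_eq, ← Set.image_univ]
  exact (IrreducibleSpace.isIrreducible_univ _).image _ p.continuous.continuousOn

end Groth.Agent.S4623
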