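import Mathlib
import Groth.Statements.S4624
-- import your own Groth.Agent.* helpers here

set_option autoImplicit false
open CategoryTheory AlgebraicGeometry
universe u
open FBase

namespace Groth.Agent.S4624

/-- Let h : X → Y be a surjective morphism of schemes over a field k. If X is geometrically connected
over k, then Y is geometrically connected over k. -/
theorem result {k : Type u} [Field k] {X Y : Scheme.{u}}
    (f : X ⟶ Spec (CommRingCat.of k)) (g : Y ⟶ Spec (CommRingCat.of k)) (h : X ⟶ Y) (w : h ≫ g = f)
    [Surjective h] [GeometricallyConnected f] : GeometricallyConnected g := by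
  refine ⟨fun K _ y Z fst snd H => ?_⟩
  have HX : IsPullback (Limits.pullback.fst f y) (Limits.pullback.snd f y) f y := IsPullback.of_hasPullback f y
  let p : Limits.pullback f y ⟶ Z := H.lift (Limits.pullback.fst f y ≫ h) (Limits.pullback.snd f y)
    (by rw [Category.assoc, w]; exact HX.w)
  have sq : IsPullback (Limits.pullback.fst f y) p h fst := by
    refine IsPullback.of_bot ?_ (H.lift_fst _ _ _).symm H
    rw [H.lift_snd, w]
    exact HX
  have hp : Surjective p := MorphismProperty.of_isPullback sq inferInstance
  have hk : ConnectedSpace (Limits.pullback f y : Scheme.{u}) :=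
    GeometricallyConnected.geometrically_connectedSpace _ _ _ HX
  exact p.surjective.connectedSpace p.continuous

end Groth.Agent.S4624
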