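import Groth.Statements.S4629
import Groth.Agent.S4628
import Groth.Agent.GeomRedAt.Basic
-- import your own Groth.Agent.* helpers here

set_option autoImplicit false
open CategoryTheory AlgebraicGeometry
universe u
open FBase

namespace Groth.Agent.S4629

open CategoryTheory.Limits in
/-- If X and Y are schemes over a field k which are both geometrically reduced over k, then X ×_k Y is
geometrically reduced over k. -/
theorem result {k : Type u} [Field k] {X Y : Scheme.{u}}
    (f : X ⟶ Spec (CommRingCat.of k)) (g : Y ⟶ Spec (CommRingCat.of k)) [GeometricallyReduced f]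
    [GeometricallyReduced g] : GeometricallyReduced (pullback.fst f g ≫ f) := by
  rw [AlgebraicGeometry.geometricallyReduced_iff, geometrically_iff_of_commRing]
  intro K _ _ Z fst snd hZ
  have h2 : AlgebraicGeometry.IsReduced (Limits.pullback g (Spec.map (CommRingCat.ofHom (algebraMap k K)))) :=
    GeometricallyReduced.geometrically_isReduced _ _ _ (IsPullback.of_hasPullback _ _)
  have h3 := S4628.result f (Limits.pullback.fst g (Spec.map (CommRingCat.ofHom (algebraMap k K))) ≫ g)
  let e := Limits.pullback.congrHom (Limits.pullback.condition (f := f) (g := g))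
    (rfl : Spec.map (CommRingCat.ofHom (algebraMap k K)) = _) ≪≫
    Limits.pullbackAssoc f g g (Spec.map (CommRingCat.ofHom (algebraMap k K)))
  exact isReduced_of_isOpenImmersion (hZ.isoPullback.hom ≫ e.hom)

end Groth.Agent.S4629
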