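import Groth.Statements.S4639
import Groth.Agent.FpqcDescent.Basic
import Groth.Agent.S5133
-- import your own Groth.Agent.* helpers here

set_option autoImplicit false
open CategoryTheory AlgebraicGeometry
universe u
open FDesc

namespace Groth.Agent.S4639

/-- The property of being quasi-compact and universally bicontinuous (every base change is a
homeomorphism onto its image) descends along a surjective, flat and quasi-compact base change. -/
theorem result :
    MorphismProperty.DescendsAlong
      (MorphismProperty.universally (topologically (fun f => Topology.IsEmbedding f)) ⊓ @QuasiCompact : MorphismProperty Scheme.{u})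
      (@Surjective ⊓ @Flat ⊓ @QuasiCompact : MorphismProperty Scheme.{u}) := by
  have := Groth.Agent.FpqcDescent.quasiCompact_descendsAlong.{u}
  refine ⟨fun {A X Y Z fst snd f g} h hQ hP => ?_⟩
  obtain ⟨he, hc⟩ := hP
  obtain ⟨⟨hs, hfl⟩, hqc⟩ := hQ
  haveI := hs
  haveI := hfl
  haveI := hqc
  haveI : QuasiCompact g := MorphismProperty.of_isPullback_of_descendsAlong (P := @QuasiCompact)
    (Q := @Surjective ⊓ @Flat ⊓ @QuasiCompact) h ⟨⟨hs, hfl⟩, hqc⟩ hc
  refine ⟨fun Y' W i₁ i₂ g' H => ?_, inferInstance⟩
  haveI : QuasiCompact g' := MorphismProperty.of_isPullback (P := @QuasiCompact) H.flip inferInstance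
  haveI : Flat (CategoryTheory.Limits.pullback.fst i₂ f) := inferInstance
  haveI : Surjective (CategoryTheory.Limits.pullback.fst i₂ f) := inferInstance
  refine Groth.Agent.S5133.result g' (CategoryTheory.Limits.pullback.fst i₂ f) ?_
  let q := h.lift (CategoryTheory.Limits.pullback.snd g' (CategoryTheory.Limits.pullback.fst i₂ f) ≫
      CategoryTheory.Limits.pullback.snd i₂ f)
    (CategoryTheory.Limits.pullback.fst g' (CategoryTheory.Limits.pullback.fst i₂ f) ≫ i₁) (by
      rw [Category.assoc, ← CategoryTheory.Limits.pullback.condition, ← Category.assoc, ← CategoryTheory.Limits.pullback.condition,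
        Category.assoc, Category.assoc, H.w])
  have big := ((IsPullback.of_hasPullback g' (CategoryTheory.Limits.pullback.fst i₂ f)).paste_horiz H.flip).flip
  rw [CategoryTheory.Limits.pullback.condition] at big
  have hq : q ≫ snd = _ := h.lift_snd _ _ _
  rw [← hq] at big
  exact he q (CategoryTheory.Limits.pullback.snd i₂ f) _ (IsPullback.of_bot big (h.lift_fst _ _ _).symm h)

end Groth.Agent.S4639
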