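import Groth.Statements.S4640
import Mathlib
-- import your own Groth.Agent.* helpers here

set_option autoImplicit false
universe u
open FDesc

namespace Groth.Agent.S4640

open TensorProduct in
/-- Let A be a Dedekind domain with fraction field K, M an A-module and P' a K-submodule of K ⊗_A M. Let
φ : M → (K ⊗_A M)/P' be m ↦ class of 1 ⊗ m. Then a submodule Q of M equals ker φ if and only if M/Q
is a flat A-module and the kernel of the induced surjection K ⊗_A M → K ⊗_A (M/Q) is P'. Thus M/ker
φ is the unique flat quotient of M with generic fibre (K ⊗_A M)/P'. (The published statement takes A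
Noetherian, regular and of dimension 1; a field is allowed here, where the statement is immediate.) -/
theorem result {A K : Type u} [CommRing A] [IsDedekindDomain A] [Field K]
    [Algebra A K] [IsFractionRing A K] {M : Type u} [AddCommGroup M] [Module A M]
    (P' : Submodule K (K ⊗[A] M)) (Q : Submodule A M) :
    Q = LinearMap.ker ((P'.restrictScalars A).mkQ ∘ₗ TensorProduct.mk A K M 1) ↔
      (Module.Flat A (M ⧸ Q) ∧ LinearMap.ker (Q.mkQ.baseChange K) = P') := by
  let S := nonZeroDivisors A
  have hloc : ∀ (N : Type u) [AddCommGroup N] [Module A N], IsLocalizedModule S (TensorProduct.mk A K N 1) :=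
    fun N _ _ => (isLocalizedModule_iff_isBaseChange S K _).2 (TensorProduct.isBaseChange A N K)
  haveI := hloc M
  haveI := hloc (M ⧸ Q)
  have hunit : ∀ s : S, IsUnit (algebraMap A K s) := IsLocalization.map_units K
  -- membership in a subspace can be tested after clearing denominators
  have hden : ∀ (P : Submodule K (K ⊗[A] M)) (x : K ⊗[A] M) (s : S), x ∈ P ↔ (s : A) • x ∈ P := fun P x s => by
    rw [← IsScalarTower.algebraMap_smul K (s : A) x, Submodule.smul_mem_iff _ (hunit s).ne_zero]
  have hker : Module.Flat A (M ⧸ Q) → ∀ m : M, (1 : K) ⊗ₜ[A] m ∈ LinearMap.ker (Q.mkQ.baseChange K) ↔ m ∈ Q := by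
    intro hfl m
    rw [LinearMap.mem_ker, LinearMap.baseChange_tmul]
    constructor
    · intro h
      obtain ⟨s, hs⟩ := (IsLocalizedModule.eq_zero_iff S (TensorProduct.mk A K (M ⧸ Q) 1)).1 h
      have h0 : Q.mkQ m = 0 := Module.Flat.isSMulRegular_of_nonZeroDivisors (M := M ⧸ Q) s.2
        (show (s : A) • Q.mkQ m = (s : A) • 0 by rw [smul_zero]; exact hs)
      exact (Submodule.Quotient.mk_eq_zero Q).1 h0
    · intro h
      rw [Submodule.mkQ_apply, (Submodule.Quotient.mk_eq_zero Q).2 h, TensorProduct.tmul_zero]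
  have hphi : ∀ m : M, m ∈ LinearMap.ker ((P'.restrictScalars A).mkQ ∘ₗ TensorProduct.mk A K M 1) ↔
      (1 : K) ⊗ₜ[A] m ∈ P' := fun m => by
    rw [LinearMap.mem_ker, LinearMap.comp_apply, Submodule.mkQ_apply, Submodule.Quotient.mk_eq_zero]
    rfl
  constructor
  · intro hQ
    have hfl : Module.Flat A (M ⧸ Q) := by
      rw [IsDedekindDomain.flat_iff_torsion_eq_bot, eq_bot_iff]
      rintro x ⟨a, ha⟩
      obtain ⟨m, rfl⟩ := Q.mkQ_surjective x
      rw [Submodule.mem_bot, Submodule.mkQ_apply, Submodule.Quotient.mk_eq_zero, hQ, hphi, hden _ _ a]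
      have h1 : (a : A) • m ∈ Q := (Submodule.Quotient.mk_eq_zero Q).1 ha
      rw [hQ, hphi, TensorProduct.tmul_smul] at h1
      exact h1
    refine ⟨hfl, ?_⟩
    ext x
    obtain ⟨⟨m, s⟩, hms⟩ := IsLocalizedModule.surj S (TensorProduct.mk A K M 1) x
    rw [hden _ x s, hden P' x s, show (s : A) • x = (1 : K) ⊗ₜ[A] m from hms, hker hfl m, hQ, hphi]
  · rintro ⟨hfl, hP⟩
    ext m
    rw [hphi, ← hP, hker hfl]

end Groth.Agent.S4640
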