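import Groth.Statements.S4646
import Groth.Agent.GeomIrr.Glue
-- import your own Groth.Agent.* helpers here

set_option autoImplicit false
open CategoryTheory AlgebraicGeometry
universe u
open FBase

namespace Groth.Agent.S4646

/-- Let X be a scheme over a field k having finitely many irreducible components, such that for the
generic point x of each irreducible component the separable algebraic closure of k in κ(x) has
finite degree over k. Then there is a finite separable extension L of k such that all irreducible
components of X ⊗_k L are geometrically irreducible over L: for every extension field K of L and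
every irreducible component Z' of X ⊗_k L, the inverse image of Z' in (X ⊗_k L) ⊗_L K is
irreducible. (No finite-type hypothesis on X.) -/
theorem result {k : Type u} [Field k] {X : Scheme.{u}}
    (f : X ⟶ Spec (CommRingCat.of k)) [Finite ↥(irreducibleComponents ↥X)]
    (hx : ∀ (Z : Set ↥X) (hZ : Z ∈ irreducibleComponents ↥X),
      FBase.ResidueFieldProp f hZ.1.genericPoint (fun K _ _ => FiniteDimensional k (separableClosure k K))) :
    ∃ (L : Type u) (_ : Field L) (_ : Algebra k L), FiniteDimensional k L ∧ Algebra.IsSeparable k L ∧
      ∀ (K : Type u) [Field K] [Algebra L K] (Z' : Set ↥(FBase.bc f L)), Z' ∈ irreducibleComponents ↥(FBase.bc f L) →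
        IsIrreducible (⇑(FBase.bcπ (FBase.bcStr f L) K) ⁻¹' Z') := by
  obtain ⟨L, hL1, hL2, hfd, hsep, h⟩ := GeomIrr.exists_finite_separable_irreducible f
    fun x (hxg : closure {x} ∈ irreducibleComponents ↥X) => by
      have h1 := hx _ hxg
      rwa [(hxg.1.isGenericPoint_genericPoint isClosed_closure).eq (rfl : IsGenericPoint x (closure {x}))] at h1
  refine ⟨L, hL1, hL2, hfd, hsep, fun K _ _ Z' hZ' => ?_⟩
  let : Algebra k K := ((algebraMap L K).comp (algebraMap k L)).toAlgebra
  have : IsScalarTower k L K := .of_algebraMap_eq' rfl
  exact GeomIrr.isIrreducible_preimage_nested f L K (h Z' hZ' K (IsScalarTower.toAlgHom k L K))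

end Groth.Agent.S4646
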