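import Groth.Statements.S4649
import Groth.Agent.GeomRedAt.Basic
import Groth.Agent.GeomIrr.IntegralOpen
-- import your own Groth.Agent.* helpers here

set_option autoImplicit false
open CategoryTheory AlgebraicGeometry
universe u
open FBase

namespace Groth.Agent.S4649

/-- Let X be a scheme of finite type over a field k and Ω an algebraically closed extension field of k.
Then X is geometrically pointwise integral over k (every local ring of every X ⊗_k K is a domain) if
and only if X is geometrically reduced over k and the number of irreducible components of X ⊗_k Ω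
equals the number of connected components of X ⊗_k Ω (the geometric numbers of irreducible and of
connected components agree). -/
theorem result {k Ω : Type u} [Field k] [Field Ω] [Algebra k Ω] [IsAlgClosed Ω]
    {X : Scheme.{u}} (f : X ⟶ Spec (CommRingCat.of k)) [LocallyOfFiniteType f] [QuasiCompact f] :
    (∀ x : X, FBase.IsGeomPtIntegralAt f x) ↔
      (GeometricallyReduced f ∧
        Nat.card ↥(irreducibleComponents ↥(FBase.bc f Ω)) = Nat.card (_root_.ConnectedComponents ↥(FBase.bc f Ω))) := by
  have : LocallyOfFiniteType (FBase.bcStr f Ω) := by unfold FBase.bcStr FBase.bc; infer_instance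
  have : QuasiCompact (FBase.bcStr f Ω) := by unfold FBase.bcStr FBase.bc; infer_instance
  have := AlgebraicGeometry.LocallyOfFiniteType.isLocallyNoetherian (FBase.bcStr f Ω)
  have : CompactSpace ↥(FBase.bc f Ω) := QuasiCompact.compactSpace_of_compactSpace (FBase.bcStr f Ω)
  have : IsNoetherian (FBase.bc f Ω) := { }
  rw [← Groth.Agent.GeomIrr.pairwiseDisjoint_iff_card]
  refine ⟨fun h => ⟨?_, ?_⟩, fun ⟨h1, h2⟩ => ?_⟩
  · refine (Groth.Agent.GeomRedAt.geometricallyReduced_iff_forall f).2 fun y K _ _ x' hx' => ?_
    have : IsDomain ((Limits.pullback f (Spec.map (CommRingCat.ofHom (algebraMap k K)))).presheaf.stalk x') := h y K x' hx'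
    infer_instance
  · exact ((Groth.Agent.GeomIrr.forall_isDomain_stalk_iff _).1 ((Groth.Agent.GeomIrr.forall_giAt_iff Ω).1 h)).2
  · refine (Groth.Agent.GeomIrr.forall_giAt_iff Ω).2 ((Groth.Agent.GeomIrr.forall_isDomain_stalk_iff _).2 ⟨?_, h2⟩)
    have := h1
    exact GeometricallyReduced.geometrically_isReduced _ _ _ (CategoryTheory.IsPullback.of_hasPullback _ _)

end Groth.Agent.S4649
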