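import Mathlib
import Groth.Statements.S4650
-- import your own Groth.Agent.* helpers here

set_option autoImplicit false
open CategoryTheory AlgebraicGeometry
universe u
open FDesc

namespace Groth.Agent.S4650

/-- Let f : X → Y be a morphism of schemes along which generizations lift (this holds for flat,
quasi-flat or open morphisms). Then every irreducible component of X dominates an irreducible
component of Y: the closure of its image is an irreducible component of Y. -/
theorem result {X Y : Scheme.{u}} (f : X ⟶ Y)
    (hf : GeneralizingMap ⇑f) (T : Set ↥X) (hT : T ∈ irreducibleComponents ↥X) :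
    closure (⇑f '' T) ∈ irreducibleComponents ↥Y := by
  have hTi := hT.1
  have hTc := isClosed_of_mem_irreducibleComponents T hT
  obtain ⟨η, hη⟩ : ∃ η, IsGenericPoint η T := ⟨hTi.genericPoint, by
    have := hTi.isGenericPoint_genericPoint_closure
    rwa [hTc.closure_eq] at this⟩
  have hZi : IsIrreducible (closure (⇑f '' T)) := (hTi.image _ f.continuous.continuousOn).closure
  refine ⟨hZi, fun W hW hle => ?_⟩
  obtain ⟨z, hz⟩ : ∃ z, IsGenericPoint z (closure W) := ⟨_, hW.isGenericPoint_genericPoint_closure⟩
  have hsp : z ⤳ f η := hz.specializes (subset_closure (hle (subset_closure ⟨η, hη.mem, rfl⟩)))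
  obtain ⟨x, hx, rfl⟩ := hf hsp
  have hTx : T ⊆ closure {x} := by
    rw [← hη.def]
    exact closure_minimal (Set.singleton_subset_iff.2 (specializes_iff_mem_closure.1 hx)) isClosed_closure
  have hxT : x ∈ T := hT.2 isIrreducible_singleton.closure hTx (subset_closure rfl)
  calc W ⊆ closure W := subset_closure
    _ = closure {f x} := hz.def.symm
    _ ⊆ closure (⇑f '' T) := closure_mono (Set.singleton_subset_iff.2 ⟨x, hxT, rfl⟩)

end Groth.Agent.S4650
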