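import Groth.Statements.S4651
import Mathlib
-- import your own Groth.Agent.* helpers here

set_option autoImplicit false
open CategoryTheory AlgebraicGeometry
universe u
open FDesc

namespace Groth.Agent.S4651

/-- Let Y be a scheme whose family of irreducible components is locally finite (every point has an open
neighbourhood meeting only finitely many irreducible components), and let f : X → Y be a morphism
along which generizations lift (e.g. flat, quasi-flat or open) such that every fibre f⁻¹(y) is a
finite set (e.g. f quasi-finite or radicial). Then the family of irreducible components of X is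
locally finite. -/
theorem result {X Y : Scheme.{u}} (f : X ⟶ Y)
    (hY : ∀ y : Y, ∃ U : Set ↥Y, IsOpen U ∧ y ∈ U ∧ {Z ∈ irreducibleComponents ↥Y | (Z ∩ U).Nonempty}.Finite)
    (hf : GeneralizingMap ⇑f) (hfin : ∀ y : Y, (⇑f ⁻¹' {y}).Finite) (x : X) :
    ∃ U : Set ↥X, IsOpen U ∧ x ∈ U ∧ {T ∈ irreducibleComponents ↥X | (T ∩ U).Nonempty}.Finite := by
  obtain ⟨U, hU, hxU, hfinU⟩ := hY (f x)
  refine ⟨f ⁻¹' U, hU.preimage f.continuous, hxU, ?_⟩
  let G : Set Y := (fun Z => {η : Y | closure {η} = Z}) '' {Z ∈ irreducibleComponents ↥Y | (Z ∩ U).Nonempty} |> Set.sUnion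
  have hG : G.Finite := by
    refine (hfinU.image _).sUnion ?_
    rintro _ ⟨Z, -, rfl⟩
    exact Set.Subsingleton.finite fun a ha b hb =>
      ((isGenericPoint_def (x := a) (S := Z)).mpr ha).eq ((isGenericPoint_def (x := b) (S := Z)).mpr hb)
  refine ((hG.biUnion fun η _ => hfin η).image fun t => closure {t}).subset ?_
  rintro T ⟨hT, z, hzT, hzU⟩
  obtain ⟨t, ht⟩ := QuasiSober.sober hT.1 (isClosed_of_mem_irreducibleComponents T hT)
  have htU : f t ∈ U := (ht.mem_open_set_iff (hU.preimage f.continuous)).mpr ⟨z, hzT, hzU⟩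
  refine ⟨t, Set.mem_biUnion (x := f t) ?_ rfl, ht.def⟩
  refine ⟨_, ⟨closure {f t}, ⟨⟨isIrreducible_singleton.closure, fun C hC hle => ?_⟩, f t, subset_closure rfl, htU⟩, rfl⟩, rfl⟩
  obtain ⟨η, hη⟩ := QuasiSober.sober hC.closure isClosed_closure
  obtain ⟨ξ, hξ, hξη⟩ := hf (hη.specializes (subset_closure (hle (subset_closure rfl))))
  have hξT : T ⊆ closure {ξ} := by
    rw [← ht.def]
    exact closure_minimal (Set.singleton_subset_iff.mpr hξ.mem_closure) isClosed_closure
  have h1 : closure {ξ} ⊆ T := hT.2 isIrreducible_singleton.closure hξT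
  have hξt : ξ = t := (hξ.antisymm (ht.specializes (h1 (subset_closure rfl)))).eq
  rw [← hξt, hξη, hη.def]
  exact subset_closure

end Groth.Agent.S4651
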