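import Groth.Statements.S4652
import Groth.Agent.DCohPerf.FreeLocus
import Mathlib
-- import your own Groth.Agent.* helpers here

set_option autoImplicit false
set_option linter.style.haveILetI false
set_option backward.isDefEq.respectTransparency false
open CategoryTheory AlgebraicGeometry
universe u
open FDesc

namespace Groth.Agent.S4652

set_option synthInstance.maxHeartbeats 200000
set_option maxHeartbeats 1000000

/-- Let X be a scheme, F a finitely presented O_X-module and x a point of X. Then F_x is a flat module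
over the local ring O_{X,x} if and only if x has an open neighbourhood U such that the restriction
of F to U is finite locally free. -/
theorem result {X : Scheme.{u}} (F : X.Modules) (hF : CohB1.IsFP F) (x : X) :
    FlatMod.IsFlatAt F x ↔ ∃ U : X.Opens, x ∈ U ∧ FlatMod.IsFinLocFree ((Scheme.Modules.pullback U.ι).obj F) := by
  haveI : F.IsQuasicoherent := (QCohLib.isCoh_of_isFP hF).1
  constructor
  · intro hfl
    haveI : Module.Flat (X.presheaf.stalk x) (F.presheaf.stalk x) := hfl
    obtain ⟨U, hU, hxU, -⟩ := TopologicalSpace.Opens.isBasis_iff_nbhd.mp X.isBasis_affineOpens (TopologicalSpace.Opens.mem_top x)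
    haveI : Module.FinitePresentation Γ(X, U) Γ(F, U) := (QCohLib.isFinitePresentation_iff_affine F).1 hF ⟨U, hU⟩
    letI : Algebra Γ(X, U) (X.presheaf.stalk x) := TopCat.Presheaf.algebra_section_stalk X.presheaf ⟨x, hxU⟩
    haveI : IsLocalization.AtPrime (X.presheaf.stalk x) (hU.primeIdealOf ⟨x, hxU⟩).asIdeal := hU.isLocalization_stalk ⟨x, hxU⟩
    letI : Module Γ(X, U) (F.presheaf.stalk x) := QCohLib.germModule F x hxU
    haveI : IsScalarTower Γ(X, U) (X.presheaf.stalk x) (F.presheaf.stalk x) :=
      IsScalarTower.of_algebraMap_smul fun _ _ => rfl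
    haveI := QCohLib.isLocalizedModule_germ (M := F) hU x hxU
    haveI : Module.Finite (X.presheaf.stalk x) (F.presheaf.stalk x) :=
      Module.Finite.of_isLocalizedModule (hU.primeIdealOf ⟨x, hxU⟩).asIdeal.primeCompl (QCohLib.germLinearMap F x hxU)
    have hfree := (DCohPerf.free_stalk_iff (M := F) hU hxU).1 ⟨Module.free_of_flat_of_isLocalRing, inferInstance⟩
    let N := QCohLib.ΓR (QCohLib.onSpec F hU)
    haveI : (QCohLib.onSpec F hU).IsQuasicoherent := inferInstance
    haveI : Module.FinitePresentation Γ(X, U) N := Module.FinitePresentation.of_equiv (QCohLib.onSpecΓ F hU).symm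
    let p := (hU.primeIdealOf ⟨x, hxU⟩)
    haveI := hfree.1
    let l : LocalizedModule p.asIdeal.primeCompl N ≃ₗ[Localization.AtPrime p.asIdeal] LocalizedModule p.asIdeal.primeCompl Γ(F, U) :=
      IsLocalizedModule.mapEquiv p.asIdeal.primeCompl (LocalizedModule.mkLinearMap _ N) (LocalizedModule.mkLinearMap _ Γ(F, U)) (Localization.AtPrime p.asIdeal) (QCohLib.onSpecΓ F hU)
    obtain ⟨W, j, hj, w, hw, hlf⟩ := DCohPerf.exists_free_near_tilde N p (Module.Free.of_equiv l.symm)
    haveI := hj
    refine ⟨(j ≫ hU.fromSpec).opensRange, ?_, ?_⟩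
    · exact ⟨w, by rw [Scheme.Hom.comp_apply, hw]; exact hU.fromSpec_primeIdealOf ⟨x, hxU⟩⟩
    · have h1 : FlatMod.IsFinLocFree ((Scheme.Modules.restrictFunctor (j ≫ hU.fromSpec)).obj F) :=
        LocFree.IsFinLocFree.of_iso ((Scheme.Modules.restrictFunctor j).mapIso (QCohLib.counitIso (QCohLib.onSpec F hU)) ≪≫
          ((Scheme.Modules.restrictFunctorComp j hU.fromSpec).app F).symm) hlf
      let i := (j ≫ hU.fromSpec).isoOpensRange
      have h2 := DCohPerf.isFinLocFree_restrict h1 i.inv
      have he : i.inv ≫ (j ≫ hU.fromSpec) = (j ≫ hU.fromSpec).opensRange.ι := Scheme.Hom.isoOpensRange_inv_comp _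
      exact LocFree.IsFinLocFree.of_iso ((Scheme.Modules.restrictFunctorComp i.inv (j ≫ hU.fromSpec)).symm.app F ≪≫
        (Scheme.Modules.restrictFunctorCongr he).app F ≪≫ (Scheme.Modules.restrictFunctorIsoPullback _).app F) h2
  · rintro ⟨U, hxU, h⟩
    have h' : FlatMod.IsFinLocFree ((Scheme.Modules.restrictFunctor U.ι).obj F) :=
      LocFree.IsFinLocFree.of_iso ((Scheme.Modules.restrictFunctorIsoPullback U.ι).app F).symm h
    haveI := (DCohPerf.free_stalk_of_finLocFree h' hxU).1
    exact (inferInstance : Module.Flat (X.presheaf.stalk x) (F.presheaf.stalk x))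

end Groth.Agent.S4652
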