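import Groth.Statements.S4653
import Groth.Agent.QFlat.Supp
import Groth.Agent.CheapQC.Support
import Groth.Agent.QCohLib.Pullback
-- import your own Groth.Agent.* helpers here

set_option autoImplicit false
open CategoryTheory AlgebraicGeometry
universe u
open FDesc

namespace Groth.Agent.S4653

/-- Let f : X → Y be a morphism of schemes, F a quasi-coherent O_X-module of finite type which is flat
over Y, E a quasi-coherent O_Y-module of finite type, and x a point of X with image y. Then x is a
maximal point of the support of f^*E ⊗ F (a point of the support admitting no proper generization in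
it) if and only if y is a maximal point of Supp E and x, viewed in the fibre f⁻¹(y), is a maximal
point of the support of the restriction of F to that fibre. -/
theorem result {X Y : Scheme.{u}} (f : X ⟶ Y) (F : X.Modules) (hF : Coh.IsCoh F)
    (hfl : FlatMod.IsFlatOver f F) (E : Y.Modules) (hE : Coh.IsCoh E) (x : X) :
    (x ∈ CohB1.support (CohB1.tensorMod ((Scheme.Modules.pullback f).obj E) F) ∧
        ∀ z ∈ CohB1.support (CohB1.tensorMod ((Scheme.Modules.pullback f).obj E) F), z ⤳ x → z = x) ↔
      ((f x ∈ CohB1.support E ∧ ∀ w ∈ CohB1.support E, w ⤳ f x → w = f x) ∧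
        (f.asFiber x ∈ CohB1.support ((Scheme.Modules.pullback (f.fiberι (f x))).obj F) ∧
          ∀ z ∈ CohB1.support ((Scheme.Modules.pullback (f.fiberι (f x))).obj F), z ⤳ f.asFiber x → z = f.asFiber x)) := by
  rw [Groth.Agent.CheapQC.support_tensor _ F (Groth.Agent.QCohLib.isCoh_pullback f E hE) hF,
    Groth.Agent.CheapQC.support_pullback f E hE,
    Groth.Agent.CheapQC.support_pullback (f.fiberι (f x)) F hF]
  exact Groth.Agent.QFlat.maximal_point_iff f.base f.continuous
    (Groth.Agent.QFlat.exists_specializes_support f hF hfl) x (f.fiberι (f x)).base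
    (f.fiberι (f x)).isEmbedding (f.range_fiberι (f x)) (f.asFiber x) (f.fiberι_asFiber x)

end Groth.Agent.S4653
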