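import Groth.Statements.S4654
import Groth.Agent.QCohLib.Cover
import Groth.Agent.GorLib.FlatFibre
import Groth.Agent.FlatDescent.Trunc.Flat
-- import your own Groth.Agent.* helpers here

set_option autoImplicit false
open CategoryTheory AlgebraicGeometry
universe u
open FDesc

namespace Groth.Agent.S4654

/-- Let f : X → Y be a morphism of schemes and 0 → F' → F → F'' → 0 a short exact sequence of
quasi-coherent O_X-modules such that F'' is flat over Y. Then F is flat over Y if and only if F' is
flat over Y. -/
theorem result {X Y : Scheme.{u}} (f : X ⟶ Y) (S : ShortComplex X.Modules)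
    (hS : S.ShortExact) (h₁ : Coh.IsQCoh S.X₁) (h₂ : Coh.IsQCoh S.X₂) (h₃ : Coh.IsQCoh S.X₃)
    (hflat : FlatMod.IsFlatOver f S.X₃) :
    FlatMod.IsFlatOver f S.X₂ ↔ FlatMod.IsFlatOver f S.X₁ := by
    have key : ∀ x : X, FlatMod.IsFlatOverAt f S.X₂ x ↔ FlatMod.IsFlatOverAt f S.X₁ x := fun x => by
      letI := FlatMod.moduleStalkOver f S.X₁ x
      letI := FlatMod.moduleStalkOver f S.X₂ x
      letI := FlatMod.moduleStalkOver f S.X₃ x
      let a : S.X₁.presheaf.stalk x →ₗ[Y.presheaf.stalk (f.base x)] S.X₂.presheaf.stalk x :=
        { toFun := QCohLib.stalkHom S.f x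
          map_add' := map_add _
          map_smul' := fun r m => (QCohLib.stalkLinearMap S.f x).map_smul ((f.stalkMap x).hom r) m }
      let b : S.X₂.presheaf.stalk x →ₗ[Y.presheaf.stalk (f.base x)] S.X₃.presheaf.stalk x :=
        { toFun := QCohLib.stalkHom S.g x
          map_add' := map_add _
          map_smul' := fun r m => (QCohLib.stalkLinearMap S.g x).map_smul ((f.stalkMap x).hom r) m }
      have ha : Function.Injective a := (QCohLib.mono_iff_stalk_injective S.f).mp hS.mono_f x
      have hb : Function.Surjective b := (QCohLib.epi_iff_stalk_surjective S.g).mp hS.epi_g x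
      have hab : Function.Exact a b := fun m => (QCohLib.stalk_exact_of_shortExact hS x m).trans Iff.rfl
      haveI : Module.Flat (Y.presheaf.stalk (f.base x)) (S.X₃.presheaf.stalk x) := hflat x
      constructor
      · intro h
        haveI : Module.Flat (Y.presheaf.stalk (f.base x)) (S.X₂.presheaf.stalk x) := h
        exact Groth.Agent.GorLib.flat_of_exact a ha b hb hab
      · intro h
        haveI : Module.Flat (Y.presheaf.stalk (f.base x)) (S.X₁.presheaf.stalk x) := h
        exact Groth.FlatDescent.Trunc.flat_of_exact a b ha hab hb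
    exact ⟨fun h x => (key x).mp (h x), fun h x => (key x).mpr (h x)⟩

end Groth.Agent.S4654
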