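import Groth.Statements.S4666
import Groth.Agent.IdealComap.Basic
import Mathlib.RingTheory.Flat.EquationalCriterion
-- import your own Groth.Agent.* helpers here

set_option autoImplicit false
open CategoryTheory AlgebraicGeometry
universe u
open FDesc

namespace Groth.Agent.S4666
open CategoryTheory CategoryTheory.Limits AlgebraicGeometry

theorem exists_mul_mem {A B : Type u} [CommRing A] [CommRing B] [Algebra A B] [Module.Flat A B] (J : Ideal A) (a : A)
    (ha : algebraMap A B a ∈ J.map (algebraMap A B)) (Q : Ideal B) [Q.IsPrime] :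
    ∃ c : A, c ∉ Q.comap (algebraMap A B) ∧ c * a ∈ J := by
  rw [Ideal.map, Submodule.mem_span_set'] at ha
  obtain ⟨m, b, j, hj⟩ := ha
  choose r hr hjr using fun i => (j i).2
  let f : Option (Fin m) → A := fun o => o.elim a fun i => -r i
  let x : Option (Fin m) → B := fun o => o.elim 1 b
  have h0 : ∑ o, f o • x o = 0 := by
    rw [Fintype.sum_option]
    simp only [f, x, Option.elim_none, Option.elim_some, Algebra.smul_def, mul_one, map_neg, neg_mul,
      Finset.sum_neg_distrib, hjr]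
    rw [← hj, add_neg_eq_zero]
    exact Finset.sum_congr rfl fun i _ => by rw [smul_eq_mul, mul_comm]
  obtain ⟨k, α, y, hy, hα⟩ := Module.Flat.isTrivialRelation_of_sum_smul_eq_zero (R := A) (M := B) (f := f) (x := x) h0
  have hK : ∀ t, α none t * a ∈ J := fun t => by
    have := hα t
    rw [Fintype.sum_option, add_eq_zero_iff_eq_neg] at this
    rw [mul_comm, show a * α none t = _ from this]
    exact neg_mem (Submodule.sum_mem _ fun i _ => Ideal.mul_mem_right _ _ (neg_mem (hr i)))
  by_contra hne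
  simp only [not_exists, not_and] at hne
  have h1 : (1 : B) ∈ Q := by
    have := hy none
    rw [show x none = 1 from rfl] at this
    rw [this]
    refine Submodule.sum_mem _ fun t _ => ?_
    rw [Algebra.smul_def]
    exact Ideal.mul_mem_right _ _ (by
      by_contra hc
      exact hne _ hc (hK t))
  exact Ideal.IsPrime.ne_top ‹_› ((Ideal.eq_top_iff_one _).mpr h1)

theorem le_of_comap_le {X Y : Scheme.{u}} (f : X ⟶ Y) [Flat f] [Surjective f] {J₁ J₂ : Y.IdealSheafData}
    (h : J₁.comap f ≤ J₂.comap f) : J₁ ≤ J₂ := by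
  intro U a ha
  let K : Ideal Γ(Y, U.1) := (J₂.ideal U).colon {a}
  suffices K = ⊤ by
    have h1 : (1 : Γ(Y, U.1)) ∈ K := this ▸ Submodule.mem_top
    simpa [K, Submodule.mem_colon_singleton] using h1
  by_contra hK
  obtain ⟨p, hp, hKp⟩ := Ideal.exists_le_maximal K hK
  haveI := hp.isPrime
  let y : Y := (show IsAffineOpen U.1 from U.2).fromSpec ⟨p, hp.isPrime⟩
  have hyU : y ∈ U.1 := by rw [← SetLike.mem_coe, ← (show IsAffineOpen U.1 from U.2).range_fromSpec]; exact ⟨_, rfl⟩
  obtain ⟨x, hx⟩ := f.surjective y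
  obtain ⟨V, hV, hxV, hVU⟩ : ∃ V : X.Opens, IsAffineOpen V ∧ x ∈ V ∧ V ≤ f ⁻¹ᵁ U.1 := by
    obtain ⟨_, ⟨V, hV, rfl⟩, hxV, hVU⟩ :=
      X.isBasis_affineOpens.exists_subset_of_mem_open (show x ∈ f ⁻¹ᵁ U.1 by show f x ∈ U.1; rw [hx]; exact hyU) (f ⁻¹ᵁ U.1).isOpen
    exact ⟨V, hV, hxV, hVU⟩
  have hfl := f.flat_appLE U.2 hV hVU
  have hmem := h ⟨V, hV⟩ (show (f.appLE U.1 V hVU) a ∈ (J₁.comap f).ideal ⟨V, hV⟩ by
    rw [IdealComap.ideal_comap J₁ f ⟨V, hV⟩ U hVU]; exact Ideal.mem_map_of_mem _ ha)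
  rw [IdealComap.ideal_comap J₂ f ⟨V, hV⟩ U hVU] at hmem
  algebraize [(f.appLE U.1 V hVU).hom]
  let Q := hV.primeIdealOf ⟨x, hxV⟩
  obtain ⟨c, hc, hca⟩ := exists_mul_mem (B := Γ(X, V)) (J₂.ideal U) a hmem Q.asIdeal
  have hQ := IsAffineOpen.comap_primeIdealOf_appLE (f := f) (x := x) U.1 U.2 V hV hVU hxV
  refine hc ?_
  have : Q.asIdeal.comap (f.appLE U.1 V hVU).hom = p := by
    refine (congrArg PrimeSpectrum.asIdeal hQ).trans ?_
    refine congrArg PrimeSpectrum.asIdeal ((show IsAffineOpen U.1 from U.2).fromSpec.isOpenEmbedding.injective (((show IsAffineOpen U.1 from U.2).fromSpec_primeIdealOf _).trans ?_) : (show IsAffineOpen U.1 from U.2).primeIdealOf ⟨f x, hVU hxV⟩ = ⟨p, hp.isPrime⟩)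
    exact hx
  show c ∈ Q.asIdeal.comap (f.appLE U.1 V hVU).hom
  rw [this]
  exact hKp (by simpa [K, Submodule.mem_colon_singleton] using hca)

/-- Let f : X → Y be a flat and surjective morphism of schemes. Then the map sending a quasi-coherent
sheaf of ideals of O_Y (a closed subscheme of Y) to its inverse image in X is injective. -/
theorem result {X Y : Scheme.{u}} (f : X ⟶ Y) [Flat f] [Surjective f] :
    Function.Injective fun J : Y.IdealSheafData => J.comap f := by
  intro J₁ J₂ h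
  refine le_antisymm (le_of_comap_le f h.le) (le_of_comap_le f h.ge)

end Groth.Agent.S4666
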