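import Mathlib
import Groth.Statements.S4674
-- import your own Groth.Agent.* helpers here

set_option autoImplicit false
open scoped TensorProduct
universe u v w
open FDesc

namespace Groth.Agent.S4674

open scoped TensorProduct

/-- Let B be a flat A-algebra and M a finitely presented A-module. Then the annihilator of the B-module
B ⊗_A M is the ideal of B generated by the image of the annihilator of M. -/
theorem result {A : Type u} {B : Type v} [CommRing A] [CommRing B] [Algebra A B]
    [Module.Flat A B] (M : Type w) [AddCommGroup M] [Module A M] [Module.FinitePresentation A M] :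
    Module.annihilator B (B ⊗[A] M) = (Module.annihilator A M).map (algebraMap A B) := by
  haveI : Module.Finite A M := inferInstance
  obtain ⟨n, s, hs⟩ := Module.Finite.exists_fin (R := A) (M := M)
  refine le_antisymm (fun b hb => ?_) (Ideal.map_le_iff_le_comap.2 fun a ha => ?_)
  swap
  · show algebraMap A B a ∈ Module.annihilator B (B ⊗[A] M)
    rw [Module.mem_annihilator]
    intro x
    rw [algebraMap_smul]
    induction x using TensorProduct.induction_on with
    | zero => rw [smul_zero]
    | tmul b m => rw [← TensorProduct.tmul_smul, Module.mem_annihilator.1 ha m, TensorProduct.tmul_zero]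
    | add x y hx hy => rw [smul_add, hx, hy, add_zero]
  let φ : A →ₗ[A] (Fin n → M) := LinearMap.pi fun i => LinearMap.toSpanSingleton A M (s i)
  have hker : LinearMap.ker φ = (Module.annihilator A M).restrictScalars A := by
    ext a
    rw [LinearMap.mem_ker]
    constructor
    · intro h
      rw [Submodule.restrictScalars_mem, Module.mem_annihilator]
      intro m
      have hm : m ∈ Submodule.span A (Set.range s) := hs ▸ trivial
      induction hm using Submodule.span_induction with
      | mem x hx => obtain ⟨i, rfl⟩ := hx; exact congr_fun h i
      | zero => rw [smul_zero]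
      | add x y _ _ hx hy => rw [smul_add, hx, hy, add_zero]
      | smul c x _ hx => rw [smul_comm, hx, smul_zero]
    · intro h
      funext i
      exact Module.mem_annihilator.1 h (s i)
  have hexact : Function.Exact (LinearMap.ker φ).subtype φ := LinearMap.exact_subtype_ker_map φ
  have hB := Module.Flat.lTensor_exact B hexact
  have h1 : φ.lTensor B (b ⊗ₜ[A] (1 : A)) = 0 := by
    apply (TensorProduct.piRight A A B fun _ : Fin n => M).injective
    rw [map_zero]
    funext i
    rw [LinearMap.lTensor_tmul, TensorProduct.piRight_apply, TensorProduct.piRightHom_tmul]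
    show b ⊗ₜ[A] ((1 : A) • s i) = 0
    rw [one_smul, show b ⊗ₜ[A] s i = b • ((1 : B) ⊗ₜ[A] s i) by rw [TensorProduct.smul_tmul', smul_eq_mul, mul_one]]
    exact Module.mem_annihilator.1 hb _
  obtain ⟨z, hz⟩ := (hB _).1 h1
  have h2 := congrArg (TensorProduct.rid A B) hz
  rw [TensorProduct.rid_tmul, one_smul] at h2
  rw [← h2]
  clear hz h2
  induction z using TensorProduct.induction_on with
  | zero => rw [map_zero, map_zero]; exact zero_mem _
  | tmul x a =>
    rw [LinearMap.lTensor_tmul, TensorProduct.rid_tmul, Submodule.subtype_apply, Algebra.smul_def]
    exact Ideal.mul_mem_right _ _ (Ideal.mem_map_of_mem _ (show (a : A) ∈ Module.annihilator A M from hker.le a.2))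
  | add x y hx hy => rw [map_add, map_add]; exact add_mem hx hy

end Groth.Agent.S4674
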