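import Mathlib
import Groth.Statements.S4675
-- import your own Groth.Agent.* helpers here

set_option autoImplicit false
universe u v
open FDesc

namespace Groth.Agent.S4675

/-- Let B be a ring, not necessarily commutative, and V, W two left B-modules which are isomorphic. For
a B-linear map u : V → W the following are equivalent: every B-linear map V → W can be written
uniquely as u ∘ c with c a B-linear endomorphism of V (that is, u is a basis of Hom_B(V, W) for its
right module structure over End_B(V)); u is bijective. -/
theorem result {B : Type u} [Ring B] {V W : Type v} [AddCommGroup V] [AddCommGroup W]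
    [Module B V] [Module B W] (e : V ≃ₗ[B] W) (u : V →ₗ[B] W) :
    (∀ v : V →ₗ[B] W, ∃! c : V →ₗ[B] V, v = u ∘ₗ c) ↔ Function.Bijective u := by
  constructor
  · intro h
    obtain ⟨c₀, hc₀, -⟩ := h e.toLinearMap
    have h1 : ∀ y, u (c₀ (e.symm y)) = y := fun y => by
      have := LinearMap.congr_fun hc₀ (e.symm y)
      simpa using this.symm
    refine ⟨(injective_iff_map_eq_zero u).mpr fun x hx => ?_, fun y => ⟨_, h1 y⟩⟩
    obtain ⟨z, -, hz⟩ := h 0
    have h0 : (0 : V →ₗ[B] V) = z := hz 0 (by simp)
    have h2 : LinearMap.id - c₀.comp (e.symm.toLinearMap.comp u) = z := hz _ (by ext v; simp [h1])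
    have := LinearMap.congr_fun (h2.trans h0.symm) x
    simpa [hx] using this
  · intro hb v
    refine ⟨(LinearEquiv.ofBijective u hb).symm.toLinearMap.comp v, ?_, fun c hc => ?_⟩
    · ext x
      exact ((LinearEquiv.ofBijective u hb).apply_symm_apply (v x)).symm
    · ext x
      exact ((LinearEquiv.ofBijective u hb).symm_apply_apply (c x)).symm.trans (by rw [hc]; rfl)

end Groth.Agent.S4675
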