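import Mathlib
import Groth.Statements.S4676
-- import your own Groth.Agent.* helpers here

set_option autoImplicit false
universe u v
open FDesc

namespace Groth.Agent.S4676

/-- Let B be a ring, not necessarily commutative, and V, W two Noetherian left B-modules which are
isomorphic. For a B-linear map u : V → W the following are equivalent: every B-linear map V → W can
be written as u ∘ c for some B-linear endomorphism c of V (that is, u generates Hom_B(V, W) as a
right module over End_B(V)); u is bijective. -/
theorem result {B : Type u} [Ring B] {V W : Type v} [AddCommGroup V]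
    [AddCommGroup W] [Module B V] [Module B W] [IsNoetherian B V] [IsNoetherian B W] (e : V ≃ₗ[B] W) (u : V →ₗ[B] W) :
    (∀ v : V →ₗ[B] W, ∃ c : V →ₗ[B] V, v = u ∘ₗ c) ↔ Function.Bijective u := by
  constructor
  · intro h
    obtain ⟨c₀, hc₀⟩ := h e.toLinearMap
    have hs : Function.Surjective u := fun y => ⟨c₀ (e.symm y), by
      have := LinearMap.congr_fun hc₀ (e.symm y); simpa using this.symm⟩
    have hi := IsNoetherian.injective_of_surjective_endomorphism (u.comp e.symm.toLinearMap)
      (hs.comp e.symm.surjective)
    refine ⟨fun a b hab => e.injective (hi ?_), hs⟩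
    simpa using hab
  · intro hb v
    exact ⟨(LinearEquiv.ofBijective u hb).symm.toLinearMap.comp v, LinearMap.ext fun x =>
      ((LinearEquiv.ofBijective u hb).apply_symm_apply (v x)).symm⟩

end Groth.Agent.S4676
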