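import Groth.Statements.S4688
import Mathlib
-- import your own Groth.Agent.* helpers here

set_option autoImplicit false
universe u
open EGA4

namespace Groth.Agent.S4688

open Polynomial in
/-- Let A be a Noetherian ring, p a prime ideal of A and q a prime ideal of the polynomial ring A[T]
lying over p. Then the extended ideal p A[T] has the same height as p, and if q is different from p
A[T] one has ht(q) = ht(p) + 1. (The remaining assertions of the published item, that p A[T] is
prime over p and that there are infinitely many pairwise incomparable such q, are not restated.) -/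
theorem result (A : Type u) [CommRing A] [IsNoetherianRing A]
    (p : Ideal A) [p.IsPrime] (q : Ideal A[X]) [q.IsPrime] [q.LiesOver p] :
    (p.map (Polynomial.C : A →+* A[X])).height = p.height ∧
      (q ≠ p.map (Polynomial.C : A →+* A[X]) → q.height = p.height + 1) := by
  have hover : q.under A = p := (q.over_def p).symm
  haveI hpX : (p.map (Polynomial.C : A →+* A[X])).IsPrime := Ideal.isPrime_map_C_of_isPrime
  refine ⟨?_, fun hne => ?_⟩
  · haveI : (p.map (Polynomial.C : A →+* A[X])).LiesOver p := ⟨by
      refine le_antisymm Ideal.le_comap_map fun a ha => ?_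
      simpa using (Ideal.mem_map_C_iff.1 ha) 0⟩
    rw [Ideal.height_eq_height_add_of_liesOver_of_hasGoingDown p, Polynomial.algebraMap_eq,
      Ideal.map_quotient_self]
    haveI : Nontrivial (A[X] ⧸ p.map (Polynomial.C : A →+* A[X])) :=
      Ideal.Quotient.nontrivial_iff.2 hpX.ne_top
    rw [Ideal.height_bot, add_zero]
  · letI := Polynomial.algebra A (Localization.AtPrime p)
    haveI := Polynomial.isLocalization p.primeCompl (Localization.AtPrime p)
    let Rₚ := Localization.AtPrime p
    set p' : Ideal Rₚ := p.map (algebraMap A Rₚ) with p'_def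
    haveI hp'max : p'.IsMaximal := by
      rw [p'_def, Localization.AtPrime.map_eq_maximalIdeal]
      exact IsLocalRing.maximalIdeal.isMaximal Rₚ
    let P' : Ideal Rₚ[X] := q.map (algebraMap A[X] Rₚ[X])
    have disj : Disjoint (p.primeCompl.map (Polynomial.C : A →+* A[X]) : Set A[X]) q := by
      refine Set.disjoint_left.mpr fun a ⟨b, hb⟩ ha ↦ hb.1 ?_
      rwa [SetLike.mem_coe, ← hover, Ideal.mem_comap, Polynomial.algebraMap_eq, hb.2]
    have hP'p : P'.IsPrime := IsLocalization.isPrime_of_isPrime_disjoint
      (p.primeCompl.map (Polynomial.C : A →+* A[X])) Rₚ[X] q inferInstance disj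
    have hback : P'.comap (algebraMap A[X] Rₚ[X]) = q := IsLocalization.comap_map_of_isPrime_disjoint
      (p.primeCompl.map (Polynomial.C : A →+* A[X])) Rₚ[X] inferInstance disj
    haveI : P'.LiesOver p' := IsLocalization.liesOver_of_isPrime_of_disjoint p.primeCompl _ _ disj
    have hle : p'.map (Polynomial.C : Rₚ →+* Rₚ[X]) ≤ P' := by
      rw [← Polynomial.algebraMap_eq, Ideal.map_le_iff_le_comap]
      exact (P'.over_def p').le
    haveI : P'.IsMaximal := by
      letI : Field (Rₚ ⧸ p') := Ideal.Quotient.field p'
      let F : Rₚ[X] →+* (Rₚ ⧸ p')[X] := Polynomial.mapRingHom (Ideal.Quotient.mk p')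
      have hF : Function.Surjective F := Polynomial.map_surjective _ Ideal.Quotient.mk_surjective
      have hker : RingHom.ker F = p'.map (Polynomial.C : Rₚ →+* Rₚ[X]) := by
        ext f
        rw [Ideal.mem_map_C_iff, RingHom.mem_ker, Polynomial.ext_iff]
        simp [F, Polynomial.coe_mapRingHom, Ideal.Quotient.eq_zero_iff_mem]
      haveI : (P'.map F).IsPrime := Ideal.map_isPrime_of_surjective hF (by rwa [hker])
      have hne' : P'.map F ≠ ⊥ := fun h => by
        rw [Ideal.map_eq_bot_iff_le_ker, hker] at h
        refine hne ?_
        rw [← hback, le_antisymm h hle]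
        ext f
        simp only [Ideal.mem_comap, Ideal.mem_map_C_iff, Polynomial.algebraMap_def,
          Polynomial.coe_mapRingHom, Polynomial.coeff_map]
        rw [Ideal.mem_map_C_iff]
        simp only [Polynomial.coeff_map]
        refine forall_congr' fun i => ?_
        rw [p'_def, Localization.AtPrime.map_eq_maximalIdeal, IsLocalization.AtPrime.to_map_mem_maximal_iff Rₚ p]
      haveI : (P'.map F).IsMaximal := IsPrime.to_maximal_ideal hne'
      have h := Ideal.comap_isMaximal_of_surjective F hF (K := P'.map F)
      rwa [Ideal.comap_map_of_surjective' _ hF, hker, sup_eq_left.2 hle] at h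
    rw [show p.height = p'.height by
        rw [IsLocalization.height_map_of_disjoint p.primeCompl]
        exact Disjoint.symm <| Set.disjoint_left.mpr fun _ a b ↦ b a,
      show q.height = P'.height by
        rw [IsLocalization.height_map_of_disjoint (Submonoid.map (Polynomial.C : A →+* A[X]) p.primeCompl) _ disj]]
    exact Polynomial.height_eq_height_add_one p' P'

end Groth.Agent.S4688
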