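import Groth.Statements.S4689
import Groth.Agent.GeomUnib.CatenaryFormula
set_option linter.style.haveILetI false

set_option autoImplicit false
universe u
open EGA4

namespace Groth.Agent.S4689

/-- Let A be a universally catenary Noetherian local domain and B a domain containing A which is a
finite A-algebra. Then for every maximal ideal n of B the local ring B_n has the same Krull
dimension as A. -/
theorem result (A B : Type u) [CommRing A] [IsDomain A]
    [IsNoetherianRing A] [IsLocalRing A] (hA : CAlg.IsUniversallyCatenary A) [CommRing B] [IsDomain B]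
    [Algebra A B] [FaithfulSMul A B] [Module.Finite A B] (n : Ideal B) [n.IsMaximal] :
    ringKrullDim (Localization.AtPrime n) = ringKrullDim A := by
  classical
  haveI : Algebra.IsIntegral A B := Algebra.IsIntegral.of_finite A B
  have hu : (n.under A).IsMaximal := Ideal.IsMaximal.under A n
  have hm : n.under A = IsLocalRing.maximalIdeal A := IsLocalRing.eq_maximalIdeal hu
  haveI : (n.under A).IsPrime := hu.isPrime
  have hA' : CAlg.IsUniversallyCatenary (Localization.AtPrime (n.under A)) := by
    refine Groth.Agent.GeomUnib.isUniversallyCatenary_of_surjective' (algebraMap A _) ?_ hA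
    intro z
    obtain ⟨⟨x, s⟩, rfl⟩ := IsLocalization.mk'_surjective (n.under A).primeCompl z
    have hs : IsUnit (s : A) := IsLocalRing.notMem_maximalIdeal.1 (hm ▸ s.2)
    refine ⟨x * (hs.unit⁻¹ : Aˣ), ?_⟩
    rw [IsLocalization.eq_mk'_iff_mul_eq, ← map_mul, mul_assoc, IsUnit.val_inv_mul, mul_one]
  obtain ⟨hq, hp, b, e, h1, h2, h3, h4, heq⟩ := Groth.Agent.GeomUnib.height_formula n hA'
  have he : e = 0 := by
    haveI : Algebra.IsAlgebraic A B := Algebra.IsIntegral.isAlgebraic
    rw [trdeg_eq_zero] at h4
    exact_mod_cast h4.symm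
  have hb : b = 0 := by
    haveI : Algebra.IsIntegral (A ⧸ n.under A) (B ⧸ n) :=
      (inferInstance : Algebra.IsIntegral (A ⧸ n.under A) (B ⧸ n))
    haveI : Algebra.IsAlgebraic (A ⧸ n.under A) (B ⧸ n) := Algebra.IsIntegral.isAlgebraic
    rw [trdeg_eq_zero] at h3
    exact_mod_cast h3.symm
  rw [IsLocalization.AtPrime.ringKrullDim_eq_height n, h1, ← IsLocalRing.maximalIdeal_height_eq_ringKrullDim, ← hm, h2]
  exact_mod_cast (show hq = hp by omega)

end Groth.Agent.S4689
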