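import Groth.Statements.S4690
import Groth.Agent.DimFormulaIrr.Dominant
-- import your own Groth.Agent.* helpers here

set_option autoImplicit false
universe u
open EGA4

namespace Groth.Agent.S4690

open AlgebraicGeometry CategoryTheory in
/-- Let Y be an irreducible locally Noetherian scheme, X an irreducible scheme and f : X → Y a dominant
morphism locally of finite type; let e be the dimension of the generic fibre of f. Then dim X ≤ dim
Y + e. If moreover every local ring of Y is universally catenary, the two sides are equal if and
only if dim Y equals the supremum of the dimensions of the local rings of Y at the points of f(X). -/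
theorem result {X Y : Scheme.{u}} (f : X ⟶ Y) [IsLocallyNoetherian Y]
    [LocallyOfFiniteType f] [IrreducibleSpace X] [IrreducibleSpace Y] (hf : DenseRange f.base) :
    topologicalKrullDim X ≤ topologicalKrullDim Y + topologicalKrullDim (f.fiber (genericPoint Y)) ∧
      ((∀ y : Y, CAlg.IsUniversallyCatenary (Y.presheaf.stalk y)) →
        (topologicalKrullDim X = topologicalKrullDim Y + topologicalKrullDim (f.fiber (genericPoint Y)) ↔
          topologicalKrullDim Y = ⨆ y ∈ Set.range f.base, ringKrullDim (Y.presheaf.stalk y))) := by
  have hdom := Groth.Agent.DimFormulaIrr.map_genericPoint f hf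
  obtain ⟨E, hE, hE'⟩ := Groth.Agent.DimFormulaIrr.exists_trdeg_generic f
  have hfib : topologicalKrullDim ↑(f.fiber (genericPoint Y)) = (E : WithBot ℕ∞) := by
    rw [← hdom]; exact hE'
  rw [hfib]
  refine ⟨Groth.Agent.DimFormulaIrr.dim_le_add f E fun ξ hξ => ?_, fun hcat => ?_⟩
  · obtain rfl := Groth.Agent.DimFormulaIrr.eq_of_component hξ
    exact hE.le
  rw [Groth.Agent.DimFormulaIrr.dim_eq_add f hdom hcat E hE, iSup_range]
  exact ⟨fun h => (Groth.Agent.DimFormulaIrr.add_natCast_cancel h).symm, fun h => by rw [h]⟩

end Groth.Agent.S4690
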