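import Groth.Statements.S4692
import Groth.Agent.DimMaps.Cases
import Groth.Agent.DimFormulaIrr.Component
import Groth.Agent.DimFormulaIrr.Dominant
import Groth.Agent.GeomUnib.DimFormulaPoints
-- import your own Groth.Agent.* helpers here

set_option autoImplicit false
universe u
open EGA4

namespace Groth.Agent.S4692

open AlgebraicGeometry CategoryTheory

attribute [local instance] specializationOrder in
/-- Bounds on local rings bound the dimension. -/
theorem dim_add_le {Y : Scheme.{u}} [Nonempty Y] {B : WithBot ℕ∞} (n : ℕ)
    (h : ∀ y : Y, ringKrullDim (Y.presheaf.stalk y) + n ≤ B) : topologicalKrullDim Y + n ≤ B := by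
  have hY : topologicalKrullDim ↥Y = ((⨆ y : Y, Order.coheight y : ℕ∞) : WithBot ℕ∞) := by
    rw [topologicalKrullDim, Order.krullDim_eq_of_orderIso (irreducibleSetEquivPoints (α := ↥Y)),
      Order.krullDim_eq_iSup_coheight_of_nonempty]
  rw [hY]
  obtain ⟨y₀⟩ := ‹Nonempty Y›
  cases B with
  | bot =>
    have := h y₀
    rw [ringKrullDim_stalk_eq_coheight] at this
    simp at this
  | coe b =>
    suffices (⨆ y : Y, Order.coheight y) + (n : ℕ∞) ≤ b from by exact_mod_cast this
    rw [ENat.iSup_add]
    refine iSup_le fun y => ?_
    have := h y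
    rw [ringKrullDim_stalk_eq_coheight] at this
    exact_mod_cast this

open AlgebraicGeometry CategoryTheory in
/-- Let Y be a locally Noetherian scheme all of whose local rings are universally catenary, X an
irreducible scheme, f : X → Y a morphism locally of finite type and n a natural number. If every
fibre of f has dimension at least n then dim X ≥ dim Y + n; if every fibre has dimension exactly n
then dim X = dim Y + n. (The empty scheme has dimension ⊥, so either hypothesis forces f to be
surjective.) -/
theorem result {X Y : Scheme.{u}} (f : X ⟶ Y) [IsLocallyNoetherian Y]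
    [LocallyOfFiniteType f] [IrreducibleSpace X] (hY : ∀ y : Y, CAlg.IsUniversallyCatenary (Y.presheaf.stalk y))
    (n : ℕ) :
    ((∀ y : Y, (n : WithBot ℕ∞) ≤ topologicalKrullDim (f.fiber y)) →
        topologicalKrullDim Y + n ≤ topologicalKrullDim X) ∧
      ((∀ y : Y, topologicalKrullDim (f.fiber y) = n) →
        topologicalKrullDim X = topologicalKrullDim Y + n) := by
  have hge : (∀ y : Y, (n : WithBot ℕ∞) ≤ topologicalKrullDim (f.fiber y)) →
      topologicalKrullDim Y + n ≤ topologicalKrullDim X := by
    intro hn
    have hsurj : Function.Surjective f.base := fun y => by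
      obtain ⟨w, hw, -⟩ := GeomUnib.FibreDimNhds.exists_le_fdim f (hn y)
      exact ⟨w, hw⟩
    haveI : IrreducibleSpace Y :=
      { isPreirreducible_univ := by
          rw [← hsurj.range_eq, ← Set.image_univ]
          exact ((IrreducibleSpace.isIrreducible_univ X).image f.base f.continuous.continuousOn).isPreirreducible
        toNonempty := ⟨f.base (genericPoint X)⟩ }
    have hgen : f (genericPoint X) = genericPoint Y := DimFormulaIrr.map_genericPoint f hsurj.denseRange
    obtain ⟨w, hw, hnw⟩ := GeomUnib.FibreDimNhds.exists_le_fdim f (hn (genericPoint Y))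
    have key : ∀ y : Y, ringKrullDim (Y.presheaf.stalk y) + n ≤ topologicalKrullDim X := by
      intro y
      obtain ⟨x₀, rfl⟩ := hsurj y
      obtain ⟨x, hx, hx0⟩ := DimFormulaIrr.exists_trdeg_eq_zero f x₀
      rw [← show f.base x = f.base x₀ from hx]
      haveI : IsNoetherianRing (Y.presheaf.stalk (f x)) := inferInstance
      obtain ⟨P, hP, hPd⟩ := GeomUnib.DimFormulaPoints.exists_minimal_full (Y.presheaf.stalk (f x))
      haveI : IsLocallyNoetherian X := LocallyOfFiniteType.isLocallyNoetherian f
      obtain ⟨𝔭, h𝔭, -⟩ := GeomUnib.DimFormulaPoints.exists_minimal_full (X.presheaf.stalk x)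
      obtain ⟨ξ, E, hξ, -, hξE, hform⟩ := DimFormulaIrr.stalk_component_formula f x 0 (hY _) (by simpa using hx0)
        𝔭.asIdeal h𝔭
      obtain rfl : ξ = genericPoint X := (hξ _ (genericPoint_specializes ξ)).symm
      have hmapP : (Y.fromSpecStalk (f x)).base P = genericPoint Y :=
        ((GeomUnib.DimFormulaPoints.maximal_of_minimal (f x) hP) _ (genericPoint_specializes _)).symm
      have hmapp : (Y.fromSpecStalk (f x)).base (PrimeSpectrum.comap (f.stalkMap x).hom 𝔭) = genericPoint Y := by
        rw [← GeomUnib.DimFormulaPoints.apply_fromSpecStalk, ← (GeomUnib.DimFormulaPoints.maximal_of_minimal x h𝔭) _ (genericPoint_specializes _)]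
        exact hgen
      have hd := GeomUnib.DimFormulaPoints.dim_quotient_congr (Y := Y) rfl P (PrimeSpectrum.comap (f.stalkMap x).hom 𝔭)
        (hmapP.trans hmapp.symm)
      rw [hPd] at hd
      have hE : (n : WithBot ℕ∞) ≤ E := by
        rw [← hξE]
        exact hnw.trans (FibreDim.fdim_mono f (genericPoint_specializes w) (hgen.trans hw.symm))
      rw [Nat.cast_zero, add_zero] at hform
      calc ringKrullDim (Y.presheaf.stalk (f x)) + n
          ≤ ringKrullDim (Y.presheaf.stalk (f x)) + E := add_le_add le_rfl hE
        _ = ringKrullDim (X.presheaf.stalk x ⧸ 𝔭.asIdeal) := by rw [hform, hd]; rfl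
        _ ≤ ringKrullDim (X.presheaf.stalk x) := ringKrullDim_quotient_le _
        _ ≤ topologicalKrullDim X := by
          rw [DimFormulaIrr.topologicalKrullDim_eq_iSup X]
          exact le_iSup (fun z : X => ringKrullDim (X.presheaf.stalk z)) x
    exact dim_add_le n key
  exact ⟨hge, fun h => le_antisymm (DimMaps.dim_le_add_of_fibre f n fun y => (h y).le) (hge fun y => (h y).ge)⟩

end Groth.Agent.S4692
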