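import Groth.Statements.S4693
import Groth.Agent.S5769
import Groth.Agent.FlatSerre.Module
import Groth.Agent.DepthLib.Localization

set_option autoImplicit false
universe u
open EGA4

namespace Groth.Agent.S4693

/-- Let A → B be a local homomorphism of Noetherian local rings such that the closed fibre ring B/m_A B
has Krull dimension 0 (that is, m_A B is an ideal of definition of B). Then dim B ≤ dim A. If
moreover some finite B-module which is flat over A has support equal to all of Spec B (for instance
if B is flat over A), then dim B = dim A. -/
theorem result (A B : Type u) [CommRing A] [CommRing B] [IsNoetherianRing A]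
    [IsNoetherianRing B] [IsLocalRing A] [IsLocalRing B] [Algebra A B] [IsLocalHom (algebraMap A B)]
    (h0 : ringKrullDim (EGA4.FibRing A B) = 0) :
    ringKrullDim B ≤ ringKrullDim A ∧
      (∀ (N : Type u) [AddCommGroup N] [Module B N] [Module A N] [IsScalarTower A B N] [Module.Finite B N]
          [Module.Flat A N], Module.support B N = Set.univ → ringKrullDim B = ringKrullDim A) := by
  have h0' : ringKrullDim (B ⧸ (IsLocalRing.maximalIdeal A).map (algebraMap A B)) = 0 := h0
  refine ⟨?_, fun N _ _ _ _ _ _ hsupp => ?_⟩
  · have h := Groth.Agent.S5769.result A B
    rwa [h0', add_zero] at h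
  haveI : Nontrivial N := by
    rcases subsingleton_or_nontrivial N with hs | hn
    · rw [Module.support_eq_empty_iff.mpr hs] at hsupp
      exact absurd hsupp.symm Set.univ_nonempty.ne_empty
    · exact hn
  refine le_antisymm ?_ ?_
  · have h := Groth.Agent.S5769.result A B
    rwa [h0', add_zero] at h
  have h := Groth.Agent.FlatSerre.supportDim_tensor (A := A) (B := B) N A
  rw [Module.supportDim_eq_of_equiv (TensorProduct.AlgebraTensorModule.rid A B N),
    Module.supportDim_self_eq_ringKrullDim] at h
  calc ringKrullDim A ≤ ringKrullDim A + Module.supportDim B
        (N ⧸ ((IsLocalRing.maximalIdeal A).map (algebraMap A B) • (⊤ : Submodule B N))) := by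
        haveI : Nontrivial (N ⧸ ((IsLocalRing.maximalIdeal A).map (algebraMap A B) • (⊤ : Submodule B N))) :=
          Submodule.Quotient.nontrivial_iff.mpr fun htop =>
            not_subsingleton N (subsingleton_of_forall_eq 0 fun x => by
              have := Submodule.eq_bot_of_le_smul_of_le_jacobson_bot ((IsLocalRing.maximalIdeal A).map (algebraMap A B)) ⊤
                Module.Finite.fg_top htop.ge ((IsLocalRing.map_maximalIdeal_le (algebraMap A B)).trans
                  (IsLocalRing.maximalIdeal_le_jacobson _))
              exact (Submodule.eq_bot_iff _).mp this x trivial)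
        exact le_add_of_nonneg_right (Groth.Agent.DepthLib.zero_le_supportDim _)
    _ = Module.supportDim B N := h.symm
    _ ≤ ringKrullDim B := Module.supportDim_le_ringKrullDim B N

end Groth.Agent.S4693
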