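import Groth.Statements.S4694
import Groth.Agent.FlatSerre.Apps
-- import your own Groth.Agent.* helpers here

set_option autoImplicit false
universe u
open EGA4

namespace Groth.Agent.S4694

open TensorProduct in
/-- Let A → B be a local homomorphism of Noetherian local rings, M a finite A-module and N a nonzero
finite B-module, flat over A, whose closed-fibre module N/m_A N has finite length. Then the depth of
the B-module N ⊗_A M equals the depth of the A-module M. (The companion equality of codepths in the
published item is not restated.) -/
theorem result {A B M N : Type u} [CommRing A] [CommRing B]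
    [IsNoetherianRing A] [IsNoetherianRing B] [IsLocalRing A] [IsLocalRing B] [Algebra A B]
    [IsLocalHom (algebraMap A B)] [AddCommGroup M] [Module A M] [Module.Finite A M]
    [AddCommGroup N] [Module B N] [Module A N] [IsScalarTower A B N] [Module.Finite B N] [Nontrivial N]
    [Module.Flat A N] (hN : IsFiniteLength B (EGA4.FibMod A B N)) :
    LocCoh.depth B (N ⊗[A] M) = LocCoh.depth A M := by
  rw [Groth.Agent.FlatDepthFormula.depth_tensor (M := N) M]
  haveI := Groth.Agent.FlatDepthFormula.finite_tensor' (A := A) (B := B) (M := N) (A ⧸ IsLocalRing.maximalIdeal A)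
  let e : N ⊗[A] (A ⧸ IsLocalRing.maximalIdeal A) ≃ₗ[B] EGA4.FibMod A B N :=
    Groth.Agent.FlatDepthFormula.tensorQuot N (IsLocalRing.maximalIdeal A)
  rw [Groth.Agent.DepthLib.depth_congr e]
  haveI : Nontrivial (EGA4.FibMod A B N) := Submodule.Quotient.nontrivial_iff.mpr fun h =>
    Groth.Agent.DepthLib.maximalIdeal_smul_top_ne_top (R := B) (M := N) (top_le_iff.mp (h.ge.trans
      (Submodule.smul_mono_left (IsLocalRing.map_maximalIdeal_le (algebraMap A B)))))
  have h := Groth.Agent.DepthLib.depth_le_supportDim (R := B) (EGA4.FibMod A B N)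
  have h' := Groth.Agent.FlatSerre.supportDim_le_zero_of_isFiniteLength hN
  rw [nonpos_iff_eq_zero.mp (WithBot.coe_le_coe.mp (h.trans h') : LocCoh.depth B (EGA4.FibMod A B N) ≤ 0), add_zero]

end Groth.Agent.S4694
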