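import Groth.Statements.S4699
import Groth.Agent.OpenLoci.Exact

set_option autoImplicit false
universe u
open EGA4 Groth.Agent.OpenLoci

namespace Groth.Agent.S4699

/-- Let A be a Noetherian ring, M a finite A-module and I an ideal of A whose radical p is a prime ideal
lying in the support of M (so V(I) is an irreducible closed subset whose generic point is in Supp
M). Then there is an element f outside p such that, for every prime q containing I with f outside q,
the dimension of M_q is the dimension of M_p plus the dimension of (A/I)_q, and the depth of M_q is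
the depth of M_p plus the depth of (A/I)_q (the module (A/I)_q = A_q / I A_q being regarded over
A_q). -/
theorem result (A : Type u) [CommRing A] [IsNoetherianRing A]
    (M : Type u) [AddCommGroup M] [Module A M] [Module.Finite A M] (I : Ideal A) [I.radical.IsPrime]
    (hp : (⟨I.radical, inferInstance⟩ : PrimeSpectrum A) ∈ Module.support A M) :
    ∃ f : A, f ∉ I.radical ∧ ∀ (q : Ideal A) [q.IsPrime], I ≤ q → f ∉ q →
      Module.supportDim (Localization.AtPrime q) (LocalizedModule q.primeCompl M) =
          Module.supportDim (Localization.AtPrime I.radical) (LocalizedModule I.radical.primeCompl M) +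
            Module.supportDim (Localization.AtPrime q)
              (Localization.AtPrime q ⧸ I.map (algebraMap A (Localization.AtPrime q))) ∧
        LocCoh.depth (Localization.AtPrime q) (LocalizedModule q.primeCompl M) =
          LocCoh.depth (Localization.AtPrime I.radical) (LocalizedModule I.radical.primeCompl M) +
            LocCoh.depth (Localization.AtPrime q)
              (Localization.AtPrime q ⧸ I.map (algebraMap A (Localization.AtPrime q))) := by
  haveI hn : Nontrivial (LocalizedModule I.radical.primeCompl M) := Module.mem_support_iff.mp hp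
  haveI hnI : Nontrivial (LocalizedModule I.radical.primeCompl (A ⧸ I)) :=
    Module.mem_support_iff.mp (Module.mem_support_iff_of_finite.mpr (by
      rw [Ideal.annihilator_quotient]; exact Ideal.le_radical) : (⟨I.radical, inferInstance⟩ : PrimeSpectrum A) ∈ _)
  obtain ⟨k, hk⟩ := Ideal.exists_radical_pow_le_of_fg I (IsNoetherian.noetherian _)
  have hdm : dm (A ⧸ I) I.radical = 0 := by
    refine le_antisymm ?_ (Groth.Agent.DepthLib.zero_le_supportDim _)
    refine (dm_killed_le I.radical k (A ⧸ I) (fun a ha x => ?_) I.radical).trans ?_
    · obtain ⟨y, rfl⟩ := Ideal.Quotient.mk_surjective x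
      rw [Algebra.smul_def, Ideal.Quotient.algebraMap_eq, ← map_mul, Ideal.Quotient.eq_zero_iff_mem]
      exact Ideal.mul_mem_right _ _ (hk ha)
    · obtain ⟨E⟩ := exists_localizedQuotient I.radical I.radical
      rw [show dm (A ⧸ I.radical) I.radical = _ from Module.supportDim_eq_of_equiv E,
        Module.supportDim_quotient_eq_ringKrullDim, Localization.AtPrime.map_eq_maximalIdeal,
        ringKrullDim_eq_zero_of_isField ((Ideal.Quotient.maximal_ideal_iff_isField_quotient _).mp inferInstance)]
  have hdep : dep (A ⧸ I) I.radical = 0 := by
    have h := Groth.Agent.DepthLib.depth_le_supportDim (R := Localization.AtPrime I.radical)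
      (LocalizedModule I.radical.primeCompl (A ⧸ I))
    rw [show Module.supportDim (Localization.AtPrime I.radical) (LocalizedModule I.radical.primeCompl (A ⧸ I)) = _ from hdm] at h
    exact nonpos_iff_eq_zero.mp (WithBot.coe_le_coe.mp h)
  obtain ⟨f, hf, hall⟩ := ((near_dep_eq I.radical M).and (near_dm_eq I.radical M)).and
    ((near_dep_eq I.radical (A ⧸ I)).and (near_dm_eq I.radical (A ⧸ I)))
  refine ⟨f, hf, fun q _ hIq hfq => ?_⟩
  obtain ⟨⟨h1, h2⟩, h3, h4⟩ := hall q ((Ideal.IsPrime.radical_le_iff ‹q.IsPrime›).mpr hIq) hfq
  rw [hdep, zero_add] at h3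
  rw [hdm, zero_add] at h4
  obtain ⟨E⟩ := exists_localizedQuotient I q
  rw [← Module.supportDim_eq_of_equiv E, ← Groth.Agent.DepthLib.depth_congr E,
    show Module.supportDim (Localization.AtPrime q) (LocalizedModule q.primeCompl (A ⧸ I)) = _ from h4,
    show LocCoh.depth (Localization.AtPrime q) (LocalizedModule q.primeCompl (A ⧸ I)) = _ from h3]
  exact ⟨h2, h1⟩

end Groth.Agent.S4699
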