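import Groth.Statements.S4701
import Groth.Agent.J2Lib.Criterion

set_option autoImplicit false
universe u
open EGA4

namespace Groth.Agent.S4701

/-- Let A be a Noetherian ring. The regular locus of every quotient ring A/I is open in its spectrum if
and only if, for every prime ideal p, the regular locus of the domain A/p contains a nonempty open
subset of Spec(A/p). (The published statement quantifies over all subschemes of Spec A; open
subschemes of the closed ones add nothing, so closed subschemes are used here.) -/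
theorem result (A : Type u) [CommRing A] [IsNoetherianRing A] :
    (∀ I : Ideal A, IsOpen (EGA4.regLocus (A ⧸ I))) ↔
      ∀ (p : Ideal A) [p.IsPrime],
        ∃ U : Set (PrimeSpectrum (A ⧸ p)), IsOpen U ∧ U.Nonempty ∧ U ⊆ EGA4.regLocus (A ⧸ p) := by
  refine ⟨fun h p _ => ⟨_, h p, ⟨⟨⊥, Ideal.isPrime_bot⟩, ?_⟩, subset_rfl⟩, fun h I => ?_⟩
  · have hF : IsField (Localization.AtPrime (⊥ : Ideal (A ⧸ p))) := by
      rw [IsLocalRing.isField_iff_maximalIdeal_eq, ← Localization.AtPrime.map_eq_maximalIdeal,
        Ideal.map_bot]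
    letI := hF.toField
    exact (inferInstance : IsRegularLocalRing (Localization.AtPrime (⊥ : Ideal (A ⧸ p))))
  · refine Groth.Agent.J2Lib.isOpen_regLocus_of_generic fun P hP => ?_
    let p := P.comap (Ideal.Quotient.mk I)
    have : p.IsPrime := Ideal.IsPrime.comap _
    obtain ⟨U, hUo, hUne, hU⟩ := h p
    have hle : I ≤ p := fun x hx => by
      show Ideal.Quotient.mk I x ∈ P
      rw [Ideal.Quotient.eq_zero_iff_mem.mpr hx]; exact zero_mem _
    let e : ((A ⧸ I) ⧸ P) ≃+* A ⧸ p :=
      (Ideal.quotEquivOfEq (Ideal.map_comap_of_surjective (Ideal.Quotient.mk I)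
        Ideal.Quotient.mk_surjective P).symm).trans (DoubleQuot.quotQuotEquivQuotOfLE hle)
    let φ := PrimeSpectrum.homeomorphOfRingEquiv e
    refine ⟨φ ⁻¹' U, hUo.preimage φ.continuous, hUne.preimage φ.surjective, fun q hq => ?_⟩
    have h2 : IsRegularLocalRing (Localization.AtPrime (q.asIdeal.comap e.symm)) :=
      hU (show (⟨q.asIdeal.comap e.symm, inferInstance⟩ : PrimeSpectrum (A ⧸ p)) ∈ U from hq)
    exact IsRegularLocalRing.of_ringEquiv <| IsLocalization.ringEquivOfRingEquiv
      (Localization.AtPrime (q.asIdeal.comap e.symm)) (Localization.AtPrime q.asIdeal) e.symm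
      (e.symm.map_primeCompl_comap_eq q.asIdeal)

end Groth.Agent.S4701
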