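import Groth.Statements.S4702
import Groth.Agent.DimFormulaIrr.Dominant
import Groth.Agent.EquidimFlat.Basic
import Groth.Agent.GeomUnib.FibreDimNhds
-- import your own Groth.Agent.* helpers here

set_option autoImplicit false
universe u
open EGA4

namespace Groth.Agent.S4702

open AlgebraicGeometry CategoryTheory in
/-- Let Y be an irreducible locally Noetherian scheme of dimension 1, X an irreducible scheme and f : X
→ Y a dominant morphism of finite type. Then for every point y in the image of f, every irreducible
component of the fibre of f at y has dimension equal to the dimension of the generic fibre. -/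
theorem result {X Y : Scheme.{u}} (f : X ⟶ Y) [IsLocallyNoetherian Y]
    [IrreducibleSpace Y] [IrreducibleSpace X] (hY : topologicalKrullDim Y = 1) [LocallyOfFiniteType f]
    [QuasiCompact f] (hf : DenseRange f.base) (y : Y) (hy : y ∈ Set.range f.base)
    (Z : Set ↥(f.fiber y)) (hZ : Z ∈ irreducibleComponents ↥(f.fiber y)) :
    topologicalKrullDim Z = topologicalKrullDim ↥(f.fiber (genericPoint Y)) := by
  haveI : LocallyOfFiniteType (f.fiberToSpecResidueField y) :=
    MorphismProperty.of_isPullback (P := @LocallyOfFiniteType)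
      (IsPullback.of_hasPullback f (Y.fromSpecResidueField y)) inferInstance
  have hξη : f (genericPoint X) = genericPoint Y := DimFormulaIrr.map_genericPoint f hf
  obtain ⟨n, hn, hnF⟩ := DimFormulaIrr.exists_trdeg_generic f
  rw [← hξη, hnF]
  let g₀ : f.fiber y ⟶ Spec (CommRingCat.of (Y.residueField y)) := f.fiberToSpecResidueField y
  haveI : LocallyOfFiniteType g₀ := ‹_›
  obtain ⟨η', hmax, hcl, hdim⟩ := EquidimFlat.exists_dim_eq_localDim g₀ hZ
  obtain ⟨t, ht, htZ⟩ := DimFormulaIrr.exists_trdeg_fibre f y η' (f.fiberι y η') rfl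
  rw [hcl] at htZ
  -- local dimension of the fibre
  have hloc : FlatMor.fibreDimAt f (f.fiberι y η') = t := by
    rw [← htZ, hdim]
    have key : ∀ (x : X) (y : Y) (a : ↑(f.fiber y)), f x = y → f.fiberι y a = x →
        FlatMor.fibreDimAt f x = FlatMor.localDim ↑(f.fiber y) a := by
      rintro x _ a rfl ha
      rw [show a = f.asFiber x from (f.fiberι _).isEmbedding.injective (ha.trans (f.fiberι_asFiber x).symm)]
      rfl
    exact key _ _ _ ((f.range_fiberι y).le ⟨η', rfl⟩) rfl
  have hge : (n : WithBot ℕ∞) ≤ t := by
    rw [← hloc]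
    have hgen : (n : WithBot ℕ∞) ≤ FlatMor.fibreDimAt f (genericPoint X) := by
      refine le_trans (le_of_eq ?_) (FibreDim.fdim_le_fibreDimAt f (specializes_refl (genericPoint X)))
      rw [EquidimFlat.fdim_eq_fibre_closure, DimFormulaIrr.closure_fibre_generic f _ _ (f.fiberι_asFiber _),
        FibreDim.dim_homeo (Homeomorph.Set.univ _), hnF]
    exact (genericPoint_specializes (f.fiberι y η')).mem_closed
      (GeomUnib.FibreDimNhds.isClosed_le_fibreDimAt f n) hgen
  rw [htZ]
  refine le_antisymm ?_ hge
  by_cases hgenZ : f.fiberι y η' = genericPoint X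
  · have hy' : y = f (genericPoint X) := by
      rw [← hgenZ]
      exact ((f.range_fiberι y).le ⟨η', rfl⟩).symm
    subst hy'
    have h1 := DimFormulaIrr.closure_fibre_generic f _ _ hgenZ
    rw [hcl] at h1
    rw [← htZ, h1, FibreDim.dim_homeo (Homeomorph.Set.univ _), hnF]
  · have hineq := DimInequality.stalk_dimension_inequality f (f.fiberι y η') t n ht fun ξ hξ _ => by
      rw [DimFormulaIrr.eq_of_component hξ]
      exact hn.le
    have h1 : (1 : WithBot ℕ∞) ≤ ringKrullDim (X.presheaf.stalk (f.fiberι y η')) := by
      rw [ringKrullDim_stalk_eq_coheight]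
      have hne : Order.coheight (f.fiberι y η') ≠ 0 := fun h => by
        rw [Order.coheight_eq_zero] at h
        have hs := h (genericPoint_specializes (f.fiberι y η'))
        exact hgenZ (((genericPoint_specializes (f.fiberι y η')).antisymm hs).eq.symm)
      exact_mod_cast Order.one_le_iff_pos.2 (pos_iff_ne_zero.2 hne)
    have h2 : ringKrullDim (Y.presheaf.stalk (f (f.fiberι y η'))) ≤ 1 := by
      rw [← hY, DimFormulaIrr.topologicalKrullDim_eq_iSup Y]
      exact le_iSup (fun y => ringKrullDim (Y.presheaf.stalk y)) _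
    have h3 : ((1 + t : ℕ) : WithBot ℕ∞) ≤ ((1 + n : ℕ) : WithBot ℕ∞) := by
      push_cast
      exact le_trans (add_le_add h1 le_rfl) (hineq.trans (add_le_add h2 le_rfl))
    rw [Nat.cast_le] at h3 ⊢
    omega

end Groth.Agent.S4702
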