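import Groth.Statements.S4703
import Groth.Agent.FlatAscent.QuotientFibre
import Groth.Agent.CohenStruct.N2
-- import your own Groth.Agent.* helpers here

set_option autoImplicit false
universe u
open EGA4

namespace Groth.Agent.S4703

open scoped TensorProduct

/-- Local rings of `B ⊗ C` above the zero ideal of `B` are those of `Frac B ⊗ C`. -/
theorem exists_generic_local_rings {A B C L : Type u} [CommRing A] [CommRing B] [IsDomain B] [CommRing C]
    [Algebra A B] [Algebra A C] [Field L] [Algebra B L] [Algebra A L] [IsScalarTower A B L]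
    [IsFractionRing B L] :
    (∀ (q : Ideal (B ⊗[A] C)) [q.IsPrime], q.comap (algebraMap B (B ⊗[A] C)) = ⊥ →
      ∃ (Q : Ideal (L ⊗[A] C)) (_ : Q.IsPrime),
        Nonempty (Localization.AtPrime Q ≃+* Localization.AtPrime q)) ∧
    (∀ (Q : Ideal (L ⊗[A] C)) [Q.IsPrime],
      ∃ (q : Ideal (B ⊗[A] C)) (_ : q.IsPrime), q.comap (algebraMap B (B ⊗[A] C)) = ⊥ ∧
        Nonempty (Localization.AtPrime Q ≃+* Localization.AtPrime q)) := by
  let T := C ⊗[A] B
  let T' := C ⊗[A] L
  let : Algebra T T' :=
    (Algebra.TensorProduct.map (AlgHom.id C C) (IsScalarTower.toAlgHom A B L)).toRingHom.toAlgebra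
  have : IsScalarTower C T T' :=
    .of_algebraMap_eq fun c => ((Algebra.TensorProduct.map (AlgHom.id C C)
      (IsScalarTower.toAlgHom A B L)).commutes c).symm
  let M : Submonoid T := (nonZeroDivisors B).map (Algebra.TensorProduct.includeRight : B →ₐ[A] T)
  have : IsLocalization M T' :=
    IsLocalization.tensorProduct_tensorProduct_right (R := A) (S := C) (nonZeroDivisors B) L
      (RingHom.ext fun c => by simp [RingHom.algebraMap_toAlgebra])
  let cB : T ≃+* B ⊗[A] C := (Algebra.TensorProduct.comm A C B).toRingEquiv
  let cL : T' ≃+* L ⊗[A] C := (Algebra.TensorProduct.comm A C L).toRingEquiv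
  have hloceq : ∀ (Q : Ideal (L ⊗[A] C)) [Q.IsPrime] (q : Ideal (B ⊗[A] C)) [q.IsPrime],
      (Q.comap cL).comap (algebraMap T T') = q.comap cB →
      Nonempty (Localization.AtPrime Q ≃+* Localization.AtPrime q) := by
    intro Q _ q _ hQq
    let Q' := Q.comap cL
    let e₁ : Localization.AtPrime Q' ≃+* Localization.AtPrime Q :=
      IsLocalization.ringEquivOfRingEquiv (Localization.AtPrime Q') (Localization.AtPrime Q) cL
        (cL.map_primeCompl_comap_eq Q)
    let e₂ : Localization.AtPrime (q.comap cB) ≃+* Localization.AtPrime q :=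
      IsLocalization.ringEquivOfRingEquiv (Localization.AtPrime (q.comap cB)) (Localization.AtPrime q) cB
        (cB.map_primeCompl_comap_eq q)
    have := IsLocalization.isLocalization_isLocalization_atPrime_isLocalization M
      (Localization.AtPrime Q') Q'
    have key : ∀ (P : Ideal T) [P.IsPrime], Q'.comap (algebraMap T T') = P →
        Nonempty (Localization.AtPrime Q' ≃+* Localization.AtPrime P) := by
      rintro P _ rfl
      exact ⟨(IsLocalization.algEquiv (Q'.comap (algebraMap T T')).primeCompl
        (Localization.AtPrime Q') (Localization.AtPrime _)).toRingEquiv⟩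
    obtain ⟨e⟩ := key _ hQq
    exact ⟨e₁.symm.trans (e.trans e₂)⟩
  have hB : ∀ b : B, cB (Algebra.TensorProduct.includeRight b) = algebraMap B (B ⊗[A] C) b := fun b => rfl
  refine ⟨fun q hq h0 => ?_, fun Q hQ => ?_⟩
  · have hdis : Disjoint (M : Set T) (q.comap cB : Ideal T) := Set.disjoint_left.mpr fun x hx hxq => by
      obtain ⟨b, hb, rfl⟩ := hx
      have : b ∈ q.comap (algebraMap B (B ⊗[A] C)) := hxq
      rw [h0] at this
      exact nonZeroDivisors.ne_zero hb this
    have hp := IsLocalization.isPrime_of_isPrime_disjoint M T' (q.comap cB) inferInstance hdis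
    refine ⟨((q.comap cB).map (algebraMap T T')).comap cL.symm, inferInstance, hloceq _ q ?_⟩
    rw [← IsLocalization.comap_map_of_isPrime_disjoint M T' (inferInstance : (q.comap cB).IsPrime) hdis]
    congr 1
    exact Ideal.ext fun x => by simp
  · refine ⟨((Q.comap cL).comap (algebraMap T T')).comap cB.symm, inferInstance,
      (Submodule.eq_bot_iff _).mpr fun b hb => ?_, hloceq Q _ (Ideal.ext fun x => by simp)⟩
    by_contra hb0
    have h1 : cB.symm (algebraMap B (B ⊗[A] C) b) ∈ (Q.comap cL).comap (algebraMap T T') := hb
    rw [← hB, RingEquiv.symm_apply_apply] at h1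
    exact (inferInstance : (Q.comap cL).IsPrime).ne_top (Ideal.eq_top_of_isUnit_mem _ h1
      (IsLocalization.map_units T' (⟨_, ⟨b, mem_nonZeroDivisors_of_ne_zero hb0, rfl⟩⟩ : M)))

/-- For the property 'geometrically regular', case of a local ring: let A be a Noetherian local ring
with completion Â. Then the formal fibres of A are geometrically regular (the completion map A → Â
is a regular homomorphism) if and only if, for every finite A-algebra B which is a domain and every
prime ideal q of B ⊗_A Â whose contraction to B is zero, the local ring of B ⊗_A Â at q is regular.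
(The published statement is for semi-local rings; this row takes A local.) -/
theorem result (A : Type u) [CommRing A] [IsNoetherianRing A] [IsLocalRing A] :
    CAlg.IsRegularHom A (EGA4.Cpl A) ↔
      ∀ (B : Type u) [CommRing B] [IsDomain B] [Algebra A B] [Module.Finite A B]
        (q : Ideal (B ⊗[A] EGA4.Cpl A)) [q.IsPrime],
        q.comap (algebraMap B (B ⊗[A] EGA4.Cpl A)) = ⊥ → IsRegularLocalRing (Localization.AtPrime q) := by
  have := Groth.Agent.CohenStruct.isNoetherianRing_completion A
  refine ⟨fun h B _ _ _ _ q _ hq => ?_, fun h => ⟨inferInstance, fun p _ => ?_⟩⟩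
  · let L := FractionRing B
    obtain ⟨Q, hQ, ⟨e⟩⟩ := (exists_generic_local_rings (A := A) (C := EGA4.Cpl A) (L := L)).1 q hq
    let p := RingHom.ker (algebraMap A L)
    have : p.IsPrime := RingHom.ker_isPrime _
    let : Algebra p.ResidueField L := (Ideal.ResidueField.lift p (algebraMap A L) le_rfl
      fun x hx => isUnit_iff_ne_zero.mpr hx).toAlgebra
    have : IsScalarTower A p.ResidueField L :=
      .of_algebraMap_eq fun x => (Ideal.ResidueField.lift_algebraMap ..).symm
    have : Algebra.EssFiniteType B L := Algebra.EssFiniteType.of_isLocalization L (nonZeroDivisors B)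
    have : Algebra.EssFiniteType A L := Algebra.EssFiniteType.comp A B L
    have : Algebra.EssFiniteType p.ResidueField L := Algebra.EssFiniteType.of_comp A p.ResidueField L
    have := (h.2 p).1
    have hr := Groth.Agent.FlatAscent.isRegularRing_transport
      (Algebra.TensorProduct.cancelBaseChange A p.ResidueField L L (EGA4.Cpl A)).toRingEquiv
      (Groth.Agent.FlatAscent.isRegularRing_of_geometricallyRegular (h.2 p).2 L)
    exact IsRegularLocalRing.of_ringEquiv (R := Localization.AtPrime Q) e
  · have h1 : CAlg.IsGeometricallyRegular p.ResidueField (p.Fiber (EGA4.Cpl A)) := by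
      intro k' _ _ hk
      let : Algebra A k' := ((algebraMap p.ResidueField k').comp (algebraMap A p.ResidueField)).toAlgebra
      have : IsScalarTower A p.ResidueField k' := .of_algebraMap_eq fun _ => rfl
      let : Algebra (A ⧸ p) k' := ((algebraMap p.ResidueField k').comp (algebraMap (A ⧸ p) p.ResidueField)).toAlgebra
      have : IsScalarTower (A ⧸ p) p.ResidueField k' := .of_algebraMap_eq fun _ => rfl
      have : IsScalarTower A (A ⧸ p) k' := .of_algebraMap_eq fun x => by
        rw [IsScalarTower.algebraMap_apply (A ⧸ p) p.ResidueField k', ← IsScalarTower.algebraMap_apply A,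
          ← IsScalarTower.algebraMap_apply A]
      obtain ⟨s, b, hb⟩ := FiniteDimensional.exists_is_basis_integral (A ⧸ p) p.ResidueField k'
      let B : Subalgebra A k' := Algebra.adjoin A (Set.range b)
      have hbA : ∀ i, IsIntegral A (b i) := fun i => isIntegral_trans (R := A) (b i) (hb i)
      have hBfin : Module.Finite A B := Module.Finite.iff_fg.mpr
        (fg_adjoin_of_finite (Set.finite_range b) (by rintro _ ⟨i, rfl⟩; exact hbA i))
      have : IsFractionRing B k' := by
        refine IsFractionRing.of_field B k' fun z => ?_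
        obtain ⟨⟨d, hd⟩, hdc⟩ := IsLocalization.exist_integer_multiples (nonZeroDivisors (A ⧸ p))
          Finset.univ (fun i => b.repr z i)
        obtain ⟨d, rfl⟩ := Ideal.Quotient.mk_surjective d
        have hzB : algebraMap A k' d * z ∈ B := by
          rw [← b.sum_repr z, Finset.mul_sum]
          refine sum_mem fun i hi => ?_
          obtain ⟨c, hc⟩ := hdc i hi
          obtain ⟨c, rfl⟩ := Ideal.Quotient.mk_surjective c
          have hc' : algebraMap A p.ResidueField c = algebraMap A p.ResidueField d * b.repr z i := by
            rw [IsScalarTower.algebraMap_apply A (A ⧸ p), IsScalarTower.algebraMap_apply A (A ⧸ p) p.ResidueField d,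
              ← Algebra.smul_def]
            exact hc
          rw [Algebra.smul_def, ← mul_assoc,
            IsScalarTower.algebraMap_apply A p.ResidueField k', ← map_mul, ← hc',
            ← IsScalarTower.algebraMap_apply]
          exact mul_mem (B.algebraMap_mem c) (Algebra.subset_adjoin (Set.mem_range_self i))
        refine ⟨⟨_, hzB⟩, algebraMap A B d, ?_⟩
        have hd0 : algebraMap A k' d ≠ 0 := by
          rw [IsScalarTower.algebraMap_apply A p.ResidueField k', map_ne_zero_iff _ (algebraMap p.ResidueField k').injective]
          exact fun h0 => nonZeroDivisors.ne_zero hd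
            (Ideal.Quotient.eq_zero_iff_mem.mpr (Ideal.algebraMap_residueField_eq_zero.mp h0))
        exact (eq_div_iff hd0).mpr (mul_comm z _)
      have : IsNoetherianRing (TensorProduct A k' (EGA4.Cpl A)) := by
        have : Algebra.EssFiniteType A k' := Algebra.EssFiniteType.comp A p.ResidueField k'
        have := Algebra.EssFiniteType.isNoetherianRing (EGA4.Cpl A) (TensorProduct A (EGA4.Cpl A) k')
        exact isNoetherianRing_of_ringEquiv _ (Algebra.TensorProduct.comm A (EGA4.Cpl A) k').toRingEquiv
      have hreg : IsRegularRing (TensorProduct A k' (EGA4.Cpl A)) := isRegularRing_iff.mpr fun Q hQ => by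
        obtain ⟨q, hq, hq0, ⟨e⟩⟩ := (exists_generic_local_rings (A := A) (B := B) (C := EGA4.Cpl A) (L := k')).2 Q
        have := h B q hq0
        exact IsRegularLocalRing.of_ringEquiv e.symm
      exact Groth.Agent.FlatAscent.isRegularRing_transport
        (Algebra.TensorProduct.cancelBaseChange A p.ResidueField k' k' (EGA4.Cpl A)).symm.toRingEquiv hreg
    exact ⟨Groth.Agent.FlatAscent.isNoetherianRing_of_geometricallyRegular h1, h1⟩

end Groth.Agent.S4703
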