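import Groth.Statements.S4705
import Groth.Agent.FormalFibre.FlatCompletion
import Groth.Agent.CohenStruct.QuasiExcellent
import Groth.Agent.S4752

set_option autoImplicit false
universe u
open EGA4

namespace Groth.Agent.S4705

open scoped TensorProduct

/-- Let A → A' be a flat local homomorphism of Noetherian local rings all of whose fibre rings k(p) ⊗_A
A' are geometrically reduced over k(p). If the completion map of A' is regular (the formal fibres of
A' are geometrically regular), then the formal fibres of A are geometrically reduced. -/
theorem result (A A' : Type u) [CommRing A] [CommRing A']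
    [IsNoetherianRing A] [IsNoetherianRing A'] [IsLocalRing A] [IsLocalRing A'] [Algebra A A']
    [IsLocalHom (algebraMap A A')] [Module.Flat A A']
    (hf : ∀ (p : Ideal A) [p.IsPrime], Algebra.IsGeometricallyReduced p.ResidueField (p.Fiber A'))
    (hA' : CAlg.IsRegularHom A' (EGA4.Cpl A')) : EGA4.HasGeomReducedFormalFibres A := by
  have := Groth.Agent.CohenStruct.isNoetherianRing_completion A'
  have hgr := Groth.Agent.CohenStruct.hasGeomReducedFormalFibres_of_isRegularHom hA'
  have : Module.Flat A' (EGA4.Cpl A') := hA'.1
  obtain ⟨-, hcomp⟩ := Groth.Agent.S4752.result A A' (EGA4.Cpl A') hf hgr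
  obtain ⟨alg, htow, hff⟩ :=
    Groth.Agent.FormalFibre.exists_faithfullyFlat_cplMap (C := A) (D := A')
  intro p _
  have := hcomp p
  rw [Algebra.isGeometricallyReduced_field_iff] at this ⊢
  let K := AlgebraicClosure p.ResidueField
  have : IsReduced (K ⊗[A] EGA4.Cpl A') :=
    isReduced_of_injective
      (Algebra.TensorProduct.cancelBaseChange A p.ResidueField K K (EGA4.Cpl A')).symm
      (AlgEquiv.injective _)
  letI := alg
  haveI := htow
  haveI := hff
  have : IsReduced (K ⊗[A] EGA4.Cpl A) :=
    Groth.Agent.FormalFibre.isReduced_tensor_of_faithfullyFlat (B := EGA4.Cpl A) (C := EGA4.Cpl A')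
  exact isReduced_of_injective
    (Algebra.TensorProduct.cancelBaseChange A p.ResidueField K K (EGA4.Cpl A)) (AlgEquiv.injective _)

end Groth.Agent.S4705
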