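import Groth.Statements.S4706
import Groth.Agent.FlatAscent.Descent
import Groth.Agent.FormalFibre.FlatCompletion

set_option autoImplicit false
universe u
open EGA4

namespace Groth.Agent.S4706

/-- Let A → A' be a local homomorphism of Noetherian local rings which is normal (flat, with
geometrically normal fibres). If the completion map of A' is regular (the formal fibres of A' are
geometrically regular), then the formal fibres of A are geometrically normal. -/
theorem result (A A' : Type u) [CommRing A] [CommRing A']
    [IsNoetherianRing A] [IsNoetherianRing A'] [IsLocalRing A] [IsLocalRing A'] [Algebra A A']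
    [IsLocalHom (algebraMap A A')] (hf : EGA4.IsNormalHom A A') (hA' : CAlg.IsRegularHom A' (EGA4.Cpl A')) :
    EGA4.HasGeomNormalFormalFibres A := by
  have := Groth.Agent.CohenStruct.isNoetherianRing_completion A'
  have := hf.1
  have hnorm : EGA4.IsNormalHom A' (EGA4.Cpl A') := ⟨hA'.1, fun p _ k' _ _ hk => by
    haveI := (hA'.2 p).2 k' hk
    exact Groth.Agent.FlatAscent.isNormalRing_of_isRegularRing⟩
  have hcomp := Groth.Agent.FlatAscent.isNormalHom_comp A A' (EGA4.Cpl A') hf hnorm
  obtain ⟨alg, htow, hff⟩ :=
    Groth.Agent.FormalFibre.exists_faithfullyFlat_cplMap (C := A) (D := A')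
  intro p _ k' _ _ hk
  letI := alg
  haveI := htow
  haveI := hff
  let : Algebra A k' := ((algebraMap p.ResidueField k').comp (algebraMap A p.ResidueField)).toAlgebra
  have : IsScalarTower A p.ResidueField k' := .of_algebraMap_eq fun _ => rfl
  exact Groth.Agent.FlatAscent.descend_base_change (B := EGA4.Cpl A) (C := EGA4.Cpl A') p k'
    (fun R _ => EGA4.IsNormalRing R)
    (fun _ _ _ _ e h => Groth.Agent.FlatAscent.isNormalRing_of_ringEquiv e h)
    (fun _ _ _ _ _ _ h => Groth.Agent.FlatAscent.isNormalRing_of_faithfullyFlat h) (hcomp.2 p k' hk)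

end Groth.Agent.S4706
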