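import Groth.Statements.S4707
import Groth.Agent.NormalBase.IntClosure
import Groth.Agent.NormalBase.Main

set_option autoImplicit false
universe u
open EGA4

namespace Groth.Agent.S4707

open TensorProduct in
/-- Let A be a Noetherian ring and A' a Noetherian A-algebra such that A → A' is a normal homomorphism
(flat, with geometrically normal fibres). Let B → C be a homomorphism of A-algebras and D the
integral closure of B in C. Then the integral closure in A' ⊗_A C of the image of A' ⊗_A B is the
image of A' ⊗_A D. (No finiteness is assumed on B or C.) -/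
theorem result (A A' : Type u) [CommRing A] [CommRing A']
    [IsNoetherianRing A] [IsNoetherianRing A'] [Algebra A A'] (h : EGA4.IsNormalHom A A')
    (B C : Type u) [CommRing B] [CommRing C] [Algebra A B] [Algebra A C] [Algebra B C] [IsScalarTower A B C] :
    (integralClosure
          ↥(Algebra.TensorProduct.map (AlgHom.id A' A') (IsScalarTower.toAlgHom A B C)).range (A' ⊗[A] C) :
        Set (A' ⊗[A] C)) =
      Set.range (Algebra.TensorProduct.map (AlgHom.id A' A')
        ((integralClosure B C).val.restrictScalars A)) := by
  have := h.1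
  let φ := Algebra.TensorProduct.map (AlgHom.id A' A') (IsScalarTower.toAlgHom A B C)
  have hφ : ∀ u, φ u = NormalBase.incl A' B C u := fun u => rfl
  ext z
  constructor
  · intro hz
    obtain ⟨P, hP, hPz⟩ := hz
    have hl : P ∈ Polynomial.lifts φ.rangeRestrict.toRingHom :=
      (Polynomial.lifts_iff_coeff_lifts P).mpr fun n => φ.rangeRestrict_surjective _
    by_cases hnt : Nontrivial (A' ⊗[A] C)
    · have : Nontrivial φ.range := φ.range.val.toRingHom.domain_nontrivial
      obtain ⟨Q, hQ, -, hQm⟩ := Polynomial.lifts_and_degree_eq_and_monic hl hP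
      have hint : (NormalBase.incl A' B C).toRingHom.IsIntegralElem z := by
        refine ⟨Q, hQm, ?_⟩
        rw [← hQ, Polynomial.eval₂_map] at hPz
        exact hPz
      obtain ⟨v, hv⟩ := NormalBase.mem_range_integralClosure (NormalBase.isReduced_tensor_field h.2) z hint
      exact ⟨v, hv⟩
    · have : Subsingleton (A' ⊗[A] C) := not_nontrivial_iff_subsingleton.mp hnt
      exact ⟨0, Subsingleton.elim _ _⟩
  · rintro ⟨v, rfl⟩
    induction v using TensorProduct.induction_on with
    | zero => rw [map_zero]; exact zero_mem _
    | tmul m d =>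
      obtain ⟨g, hg, hg0⟩ := (d.2 : IsIntegral B (d : C))
      rw [show (Algebra.TensorProduct.map (AlgHom.id A' A') ((integralClosure B C).val.restrictScalars A)) (m ⊗ₜ[A] d)
        = φ (m ⊗ₜ[A] 1) * ((1 : A') ⊗ₜ[A] (d : C)) by simp [φ]]
      refine mul_mem ?_ ?_
      · exact (isIntegral_algebraMap (R := φ.range) (x := ⟨_, ⟨m ⊗ₜ[A] 1, rfl⟩⟩))
      · let ι : B →+* φ.range := φ.rangeRestrict.toRingHom.comp
          (Algebra.TensorProduct.includeRight : B →ₐ[A] A' ⊗[A] B).toRingHom
        refine ⟨g.map ι, hg.map _, ?_⟩
        have h3 := congrArg (Algebra.TensorProduct.includeRight : C →ₐ[A] A' ⊗[A] C).toRingHom hg0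
        rw [map_zero, Polynomial.hom_eval₂] at h3
        rw [Polynomial.eval₂_map]
        have he : (algebraMap φ.range (A' ⊗[A] C)).comp ι =
            (Algebra.TensorProduct.includeRight : C →ₐ[A] A' ⊗[A] C).toRingHom.comp (algebraMap B C) :=
          RingHom.ext fun b => by
            show φ ((1 : A') ⊗ₜ[A] b) = (1 : A') ⊗ₜ[A] algebraMap B C b
            simp [φ]
        rw [he]
        exact h3
    | add x y hx hy => rw [map_add]; exact add_mem hx hy

end Groth.Agent.S4707
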