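import Groth.Statements.S4708
import Groth.Agent.AdicFlat.FiniteResidue
import Groth.Agent.FormalFibre.FlatCompletion
import Groth.Agent.PP16Lib.RegularCompletion

set_option autoImplicit false
universe u
open EGA4

namespace Groth.Agent.S4708

/-- Let A → B be a local homomorphism of Noetherian local rings making B a flat A-module, such that the
residue field of B is a finite extension of the residue field k of A, and such that the formal
fibres of A are geometrically regular (the completion map A → Â is regular). If the k-algebra k ⊗_A
B̂, where B̂ is the completion of B, is geometrically regular over k, then every fibre of A → B is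
geometrically regular, that is, A → B is a regular homomorphism. -/
theorem result (A B : Type u) [CommRing A] [CommRing B]
    [IsNoetherianRing A] [IsNoetherianRing B] [IsLocalRing A] [IsLocalRing B] [Algebra A B]
    [IsLocalHom (algebraMap A B)] [Module.Flat A B]
    [Module.Finite (IsLocalRing.ResidueField A) (IsLocalRing.ResidueField B)]
    (hA : CAlg.IsRegularHom A (EGA4.Cpl A))
    (h : CAlg.IsGeometricallyRegular (IsLocalRing.maximalIdeal A).ResidueField
      ((IsLocalRing.maximalIdeal A).Fiber (EGA4.Cpl B))) :
    CAlg.IsRegularHom A B := by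
  open IsLocalRing TensorProduct in
  have := Groth.Agent.CohenStruct.isNoetherianRing_completion A
  have := Groth.Agent.CohenStruct.isNoetherianRing_completion B
  obtain ⟨alg, htow, hff⟩ := Groth.Agent.FormalFibre.exists_faithfullyFlat_cplMap (C := A) (D := B)
  letI := alg
  haveI := htow
  haveI := hff
  let Ah := EGA4.Cpl A
  let Bh := EGA4.Cpl B
  have hmA : maximalIdeal Ah = (maximalIdeal A).map (algebraMap A Ah) := AdicCompletion.maximalIdeal_eq_map
  have hmB : maximalIdeal Bh = (maximalIdeal B).map (algebraMap B Bh) := AdicCompletion.maximalIdeal_eq_map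
  have hAB : ∀ a ∈ maximalIdeal A, algebraMap A Bh a ∈ maximalIdeal Bh := fun a ha => by
    rw [IsScalarTower.algebraMap_apply A B Bh, hmB]
    exact Ideal.mem_map_of_mem _ (map_nonunit (algebraMap A B) a ha)
  have : IsLocalHom (algebraMap Ah Bh) := ((local_hom_TFAE (algebraMap Ah Bh)).out 2 0).mp (by
    rw [hmA, Ideal.map_map, ← IsScalarTower.algebraMap_eq]
    exact Ideal.map_le_iff_le_comap.mpr hAB)
  have hresA : Function.Surjective ((residue Ah).comp (algebraMap A Ah)) := fun c => by
    obtain ⟨z, rfl⟩ := residue_surjective c
    obtain ⟨x, hx⟩ := Groth.Agent.PP16Lib.exists_sub_mem_map_pow (maximalIdeal A) 1 z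
    refine ⟨x, ?_⟩
    rw [RingHom.comp_apply, ← sub_eq_zero, ← map_sub, residue_eq_zero_iff, hmA]
    rwa [pow_one] at hx
  have hresB : Function.Surjective ((residue Bh).comp (algebraMap B Bh)) := fun c => by
    obtain ⟨z, rfl⟩ := residue_surjective c
    obtain ⟨x, hx⟩ := Groth.Agent.PP16Lib.exists_sub_mem_map_pow (maximalIdeal B) 1 z
    refine ⟨x, ?_⟩
    rw [RingHom.comp_apply, ← sub_eq_zero, ← map_sub, residue_eq_zero_iff, hmB]
    rwa [pow_one] at hx
  have : Module.Finite (ResidueField Ah) (ResidueField Bh) := by
    classical
    obtain ⟨t, ht⟩ := (inferInstance : Module.Finite (ResidueField A) (ResidueField B)).fg_top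
    have hb : ∀ u : ResidueField B, ∃ b : B, residue B b = u := residue_surjective
    choose lift hlift using hb
    refine ⟨⟨t.image fun u => residue Bh (algebraMap B Bh (lift u)), eq_top_iff.mpr fun c _ => ?_⟩⟩
    obtain ⟨b, rfl⟩ := hresB c
    have key : ∀ u ∈ Submodule.span (ResidueField A) (t : Set (ResidueField B)), ∀ b, residue B b = u →
        residue Bh (algebraMap B Bh b) ∈ Submodule.span (ResidueField Ah)
          ((t.image fun u => residue Bh (algebraMap B Bh (lift u)) : Finset _) : Set (ResidueField Bh)) := by
      have hwd : ∀ b b', residue B b = residue B b' →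
          residue Bh (algebraMap B Bh b) = residue Bh (algebraMap B Bh b') := fun b b' he => by
        rw [← sub_eq_zero, ← map_sub, ← map_sub, residue_eq_zero_iff, hmB]
        exact Ideal.mem_map_of_mem _ ((residue_eq_zero_iff _).mp (by rw [map_sub, he, sub_self]))
      intro u hu
      induction hu using Submodule.span_induction with
      | mem u hu =>
        intro b hb
        rw [hwd b (lift u) (hb.trans (hlift u).symm)]
        exact Submodule.subset_span (Finset.mem_coe.mpr (Finset.mem_image_of_mem _ hu))
      | zero =>
        intro b hb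
        rw [hwd b 0 (hb.trans (map_zero _).symm), map_zero, map_zero]
        exact zero_mem _
      | add u v _ _ hu hv =>
        intro b hb
        rw [hwd b (lift u + lift v) (by rw [hb, map_add, hlift, hlift]), map_add, map_add]
        exact add_mem (hu _ (hlift u)) (hv _ (hlift v))
      | smul r u _ hu =>
        intro b hb
        obtain ⟨a, rfl⟩ := residue_surjective r
        rw [hwd b (algebraMap A B a * lift u) (by
          rw [hb, map_mul, hlift, Algebra.smul_def]; rfl),
          map_mul, map_mul]
        rw [show residue Bh (algebraMap B Bh (algebraMap A B a)) =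
            algebraMap (ResidueField Ah) (ResidueField Bh) (residue Ah (algebraMap A Ah a)) by
          rw [← IsScalarTower.algebraMap_apply A B Bh, IsScalarTower.algebraMap_apply A Ah Bh]; rfl, ← Algebra.smul_def]
        exact Submodule.smul_mem _ _ (hu _ (hlift u))
    exact key _ (ht ▸ Submodule.mem_top) b rfl
  have hAh : CAlg.IsRegularHom Ah Bh := by
    refine Groth.Agent.AdicFlat.isRegularHom_of_complete fun K _ _ _ _ hfin => ?_
    let _ : Algebra A K := ((algebraMap Ah K).comp (algebraMap A Ah)).toAlgebra
    have : IsScalarTower A Ah K := .of_algebraMap_eq fun _ => rfl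
    have hsurj : ∀ z : Ah, ∃ a : A, algebraMap A K a = algebraMap Ah K z := fun z => by
      obtain ⟨a, ha⟩ := hresA (residue Ah z)
      refine ⟨a, ?_⟩
      rw [IsScalarTower.algebraMap_apply A Ah K, IsScalarTower.algebraMap_apply Ah (ResidueField Ah) K,
        IsScalarTower.algebraMap_apply Ah (ResidueField Ah) K z]
      exact congrArg _ ha
    have hm0 : ∀ a ∈ maximalIdeal A, algebraMap A K a = 0 := fun a ha => by
      rw [IsScalarTower.algebraMap_apply A Ah K, IsScalarTower.algebraMap_apply Ah (ResidueField Ah) K,
        show algebraMap Ah (ResidueField Ah) (algebraMap A Ah a) = 0 from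
          (residue_eq_zero_iff _).mpr (hmA ▸ Ideal.mem_map_of_mem _ ha), map_zero]
    let σ : (maximalIdeal A).ResidueField →+* K := RingHom.liftOfSurjective (algebraMap A _)
      (Ideal.algebraMap_residueField_surjective _) ⟨algebraMap A K, fun a ha =>
        hm0 a (Ideal.algebraMap_residueField_eq_zero.mp ha)⟩
    let _ : Algebra (maximalIdeal A).ResidueField K := σ.toAlgebra
    have : IsScalarTower A (maximalIdeal A).ResidueField K := IsScalarTower.of_algebraMap_eq fun a =>
      (RingHom.liftOfRightInverse_comp_apply _ _ (Function.rightInverse_surjInv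
        (Ideal.algebraMap_residueField_surjective _)) ⟨algebraMap A K, fun a ha =>
        hm0 a (Ideal.algebraMap_residueField_eq_zero.mp ha)⟩ a).symm
    have : Module.Finite (maximalIdeal A).ResidueField K := by
      obtain ⟨S, hS⟩ := hfin.fg_top
      refine ⟨⟨S, eq_top_iff.mpr fun c _ => ?_⟩⟩
      have hc : c ∈ Submodule.span (ResidueField Ah) (S : Set K) := hS ▸ Submodule.mem_top
      induction hc using Submodule.span_induction with
      | mem u hu => exact Submodule.subset_span hu
      | zero => exact zero_mem _
      | add u v _ _ hu hv => exact add_mem (hu trivial) (hv trivial)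
      | smul r u _ hu =>
        obtain ⟨z, rfl⟩ := residue_surjective r
        obtain ⟨a, ha⟩ := hsurj z
        rw [Algebra.smul_def, show algebraMap (ResidueField Ah) K (residue Ah z) = algebraMap Ah K z from
          (IsScalarTower.algebraMap_apply Ah (ResidueField Ah) K z).symm, ← ha,
          IsScalarTower.algebraMap_apply A (maximalIdeal A).ResidueField K, ← Algebra.smul_def]
        exact Submodule.smul_mem _ _ (hu trivial)
    have : CompatibleSMul A Ah K Bh := ⟨fun r x y => by
      obtain ⟨a, ha⟩ := Groth.Agent.PP16Lib.exists_sub_mem_map_pow (maximalIdeal A) 1 r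
      rw [pow_one] at ha
      have key : ∀ μ ∈ (maximalIdeal A).map (algebraMap A Ah), ∀ y : Bh,
          μ • x = 0 ∧ x ⊗ₜ[A] (μ • y) = 0 := by
        intro μ hμ
        induction hμ using Submodule.span_induction with
        | mem w hw =>
          obtain ⟨b, hb, rfl⟩ := hw
          intro y
          have h0 : b • x = 0 := by rw [Algebra.smul_def, hm0 b hb, zero_mul]
          rw [algebraMap_smul, algebraMap_smul, ← TensorProduct.smul_tmul, h0, TensorProduct.zero_tmul]
          exact ⟨rfl, rfl⟩
        | zero => intro y; simp
        | add u v _ _ hu hv =>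
          intro y
          rw [add_smul, add_smul, TensorProduct.tmul_add, (hu y).1, (hu y).2, (hv y).1, (hv y).2, add_zero, add_zero]
          exact ⟨rfl, rfl⟩
        | smul r u _ hu =>
          intro y
          refine ⟨by rw [smul_assoc, (hu y).1, smul_zero], ?_⟩
          rw [smul_eq_mul, mul_comm, mul_smul]
          exact (hu (r • y)).2
      have h1 := key _ ha y
      rw [sub_smul, sub_smul, TensorProduct.tmul_sub, sub_eq_zero, sub_eq_zero] at h1
      rw [← h1.1, ← h1.2, algebraMap_smul, algebraMap_smul, TensorProduct.smul_tmul]⟩
    have := h K inferInstance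
    have hreg : IsRegularRing (K ⊗[A] Bh) := IsRegularRing.of_ringEquiv
      (Algebra.TensorProduct.cancelBaseChange A (maximalIdeal A).ResidueField K K Bh).toRingEquiv
    exact IsRegularRing.of_ringEquiv
      (Algebra.TensorProduct.equivOfCompatibleSMul A Ah A K Bh).symm.toRingEquiv
  have hABh : CAlg.IsRegularHom A Bh := by
    have hfl : Module.Flat A Bh := Module.Flat.trans A B Bh
    have hN : ∀ (p : Ideal A) [p.IsPrime], IsNoetherianRing (p.Fiber Bh) := fun p _ => by
      have := Algebra.EssFiniteType.isNoetherianRing Bh (Bh ⊗[A] p.ResidueField)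
      exact isNoetherianRing_of_ringEquiv (Bh ⊗[A] p.ResidueField)
        (Algebra.TensorProduct.comm A Bh p.ResidueField).toRingEquiv
    exact ⟨hfl, fun p _ => ⟨hN p, Groth.Agent.FlatAscent.isGeometricallyRegular_comp A Ah Bh hA hAh p (hN p)⟩⟩
  have : Module.FaithfullyFlat B Bh := Module.FaithfullyFlat.of_flat_of_isLocalHom
  exact Groth.Agent.S9295.result A B Bh hABh PrimeSpectrum.comap_surjective_of_faithfullyFlat

end Groth.Agent.S4708
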