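import Mathlib
import Groth.Statements.S4711
-- import your own Groth.Agent.* helpers here

set_option autoImplicit false
universe u
open EGA4

namespace Groth.Agent.S4711

open AlgebraicGeometry Topology in
/-- In any scheme X, every nonempty locally constructible subset E contains a point x such that the
one-point set {x} is locally closed in X (equivalently x is isolated in its closure). -/
theorem result (X : Scheme.{u}) (E : Set X)
    (hE : Topology.IsLocallyConstructible E) (hne : E.Nonempty) :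
    ∃ x ∈ E, IsLocallyClosed ({x} : Set X) := by
  classical
  obtain ⟨x₀, hx₀⟩ := hne
  obtain ⟨U, hxU, hU, hUE⟩ := hE x₀
  obtain ⟨_, ⟨V, hV, rfl⟩, hxV, hVU⟩ := X.isBasis_affineOpens.exists_subset_of_mem_open (mem_of_mem_nhds hxU) hU
  let j : Spec Γ(X, V) → U := fun p => ⟨hV.fromSpec p, hVU (by rw [← hV.range_fromSpec]; exact ⟨p, rfl⟩)⟩
  have hj : Topology.IsOpenEmbedding j := .of_comp _ hU.isOpenEmbedding_subtypeVal hV.fromSpec.isOpenEmbedding
  have hcons : Topology.IsConstructible (hV.fromSpec ⁻¹' E) := by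
    have h := hUE.preimage_of_isOpenEmbedding hj
    exact h
  obtain ⟨S, hS⟩ := PrimeSpectrum.exists_constructibleSetData_iff.2 hcons
  obtain ⟨p₀, hp₀⟩ : x₀ ∈ Set.range hV.fromSpec := by rw [hV.range_fromSpec]; exact hxV
  have h0 : p₀ ∈ S.toSet := by rw [hS]; show hV.fromSpec p₀ ∈ E; rw [hp₀]; exact hx₀
  obtain ⟨C, hC, hpC⟩ := Set.mem_iUnion₂.1 h0
  set Z := C.toSet with hZ
  have hopen : IsOpen ((PrimeSpectrum.zeroLocus ({C.f} : Set Γ(X, V)))ᶜ) := (PrimeSpectrum.isClosed_zeroLocus _).isOpen_compl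
  have hlc : IsLocallyClosed Z := ⟨_, _, hopen, PrimeSpectrum.isClosed_zeroLocus (Set.range C.g), by rw [hZ, PrimeSpectrum.BasicConstructibleSetData.toSet, Set.diff_eq, Set.inter_comm]⟩
  haveI hcpt : CompactSpace Z := isCompact_iff_compactSpace.1 (by
    rw [hZ, PrimeSpectrum.BasicConstructibleSetData.toSet, Set.diff_eq]
    refine IsCompact.inter_left ?_ (PrimeSpectrum.isClosed_zeroLocus _)
    rw [← PrimeSpectrum.basicOpen_eq_zeroLocus_compl]
    exact PrimeSpectrum.isCompact_basicOpen _)
  obtain ⟨q, -, hq⟩ := (isClosed_univ (X := Z)).exists_closed_singleton ⟨⟨p₀, hpC⟩, trivial⟩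
  refine ⟨hV.fromSpec q.1, ?_, ?_⟩
  · have : q.1 ∈ S.toSet := Set.mem_iUnion₂.2 ⟨C, hC, q.2⟩
    rw [hS] at this
    exact this
  · have h1 : IsLocallyClosed ({q.1} : Set (PrimeSpectrum Γ(X, V))) := by
      rw [← Set.image_singleton]
      exact hq.isLocallyClosed.image Topology.IsInducing.subtypeVal (by simpa using hlc)
    rw [← Set.image_singleton]
    exact h1.image hV.fromSpec.isOpenEmbedding.isInducing hV.fromSpec.isOpenEmbedding.isOpen_range.isLocallyClosed

end Groth.Agent.S4711
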