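import Mathlib
import Groth.Statements.S4713
-- import your own Groth.Agent.* helpers here

set_option autoImplicit false
universe u
open EGA4

namespace Groth.Agent.S4713

open AlgebraicGeometry in
/-- In a locally Noetherian scheme X, every nonempty closed subset contains a closed point of X. -/
theorem result (X : Scheme.{u}) [IsLocallyNoetherian X]
    (Z : Set X) (hZ : IsClosed Z) (hne : Z.Nonempty) : ∃ x ∈ Z, IsClosed ({x} : Set X) := by
  classical
  have alg : ∀ {A : Type u} [CommRing A] [IsNoetherianRing A] (p : Ideal A) [p.IsPrime] (f : A), f ∉ p →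
      (∀ q : Ideal A, q.IsPrime → p ≤ q → f ∉ q → q = p) →
      ∀ P P' : Ideal A, P.IsPrime → P'.IsPrime → p < P → P ≤ P' → P = P' := by
    intro A _ _ p _ f hfp0 hf P P' hP hP' hpP hPP'
    have hmem : ∀ Q : Ideal A, Q.IsPrime → p < Q → Q ∈ (p ⊔ Ideal.span {f}).minimalPrimes := by
      intro Q hQ hpQ
      have hfQ : f ∈ Q := by_contra fun h => hpQ.ne (hf Q hQ hpQ.le h).symm
      have hle : p ⊔ Ideal.span {f} ≤ Q := sup_le hpQ.le ((Ideal.span_singleton_le_iff_mem _).2 hfQ)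
      by_contra hQM
      have hfin : (p ⊔ Ideal.span {f}).minimalPrimes.Finite := Ideal.finite_minimalPrimes_of_isNoetherianRing A _
      have hnot : ¬ (Q : Set A) ⊆ ⋃ I ∈ (↑hfin.toFinset : Set (Ideal A)), I := by
        rw [Ideal.subset_union_prime ⊥ ⊥ (fun I hI _ _ => ((Set.Finite.mem_toFinset hfin).1 hI).isPrime)]
        rintro ⟨I, hI, hQI⟩
        rw [Set.Finite.mem_toFinset] at hI
        exact hQM (le_antisymm hQI (hI.2 ⟨hQ, hle⟩ hQI) ▸ hI)
      obtain ⟨g, hgQ, hg⟩ := Set.not_subset.1 hnot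
      have hg' : ∀ I ∈ (p ⊔ Ideal.span {f}).minimalPrimes, g ∉ I := fun I hI h =>
        hg (Set.mem_iUnion₂.2 ⟨I, by simpa using hI, h⟩)
      obtain ⟨Q₁, hQ₁, hQ₁Q⟩ := Ideal.exists_minimalPrimes_le (I := p ⊔ Ideal.span {g}) (J := Q)
        (sup_le hpQ.le ((Ideal.span_singleton_le_iff_mem _).2 hgQ))
      haveI := hQ₁.isPrime
      have hgQ₁ : g ∈ Q₁ := hQ₁.le (Ideal.mem_sup_right (Ideal.mem_span_singleton_self g))
      have hgp : g ∉ p := fun h => by
        obtain ⟨I, hI, -⟩ := Ideal.exists_minimalPrimes_le hle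
        exact hg' I hI (hI.le (Ideal.mem_sup_left h))
      have hpQ₁ : p < Q₁ := lt_of_le_of_ne (le_sup_left.trans hQ₁.le) fun e => hgp (e ▸ hgQ₁)
      have hfQ₁ : f ∈ Q₁ := by_contra fun h => hpQ₁.ne (hf Q₁ inferInstance hpQ₁.le h).symm
      obtain ⟨Q₂, hQ₂, hQ₂Q₁⟩ := Ideal.exists_minimalPrimes_le (I := p ⊔ Ideal.span {f}) (J := Q₁)
        (sup_le hpQ₁.le ((Ideal.span_singleton_le_iff_mem _).2 hfQ₁))
      haveI := hQ₂.isPrime
      have hne21 : Q₂ ≠ Q₁ := fun e => hg' Q₂ hQ₂ (e ▸ hgQ₁)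
      have hpQ₂ : p < Q₂ := lt_of_le_of_ne (le_sup_left.trans hQ₂.le) fun e => by
        exact hfp0 (e ▸ hQ₂.le (Ideal.mem_sup_right (Ideal.mem_span_singleton_self f)))
      let π := Ideal.Quotient.mk p
      have hcomap : ∀ q : Ideal A, p ≤ q → (q.map π).comap π = q := fun q hle => by
        rw [Ideal.comap_map_of_surjective π Ideal.Quotient.mk_surjective]
        simpa [π, ← RingHom.ker_eq_comap_bot, Ideal.mk_ker] using hle
      haveI h2 : (Q₂.map π).IsPrime := Ideal.map_isPrime_of_surjective Ideal.Quotient.mk_surjective (Ideal.mk_ker.le.trans hpQ₂.le)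
      haveI h1 : (Q₁.map π).IsPrime := Ideal.map_isPrime_of_surjective Ideal.Quotient.mk_surjective (Ideal.mk_ker.le.trans hpQ₁.le)
      have hb : (⊥ : Ideal (A ⧸ p)) < Q₂.map π := bot_lt_iff_ne_bot.2 fun e => hpQ₂.not_ge (by
        have := hcomap Q₂ hpQ₂.le
        rw [e, ← RingHom.ker_eq_comap_bot, Ideal.mk_ker] at this
        exact this.ge)
      have hc : Q₂.map π < Q₁.map π := lt_of_le_of_ne (Ideal.map_mono hQ₂Q₁) fun e => hne21 (by
        rw [← hcomap Q₂ hpQ₂.le, e, hcomap Q₁ hpQ₁.le])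
      have k2 := Ideal.height_strict_mono_of_isPrime hb
      have k3 := lt_of_lt_of_le (Ideal.height_strict_mono_of_isPrime hc) (Ideal.map_height_le_one_of_mem_minimalPrimes hQ₁)
      rw [ENat.lt_one_iff_eq_zero] at k3
      rw [k3] at k2
      exact not_lt_bot k2
    exact le_antisymm hPP' ((hmem P' hP' (hpP.trans_le hPP')).2 ⟨hP, (hmem P hP hpP).le⟩ hPP')
  obtain ⟨x₀, hx₀⟩ := hne
  obtain ⟨_, ⟨V, hV, rfl⟩, hx₀V, -⟩ := X.isBasis_affineOpens.exists_subset_of_mem_open (Set.mem_univ x₀) isOpen_univ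
  obtain ⟨p₀, hp₀⟩ : x₀ ∈ Set.range hV.fromSpec := by rw [hV.range_fromSpec]; exact hx₀V
  obtain ⟨q, hqZ, hq⟩ := (hZ.preimage hV.fromSpec.continuous).exists_closed_singleton ⟨p₀, by simpa [hp₀] using hx₀⟩
  set x := hV.fromSpec q with hx
  have hxV : x ∈ V := by
    show x ∈ (V : Set X)
    rw [← hV.range_fromSpec]
    exact ⟨q, rfl⟩
  have hxonly : ∀ w ∈ V, x ⤳ w → w = x := by
    intro w hw hxw
    obtain ⟨r, rfl⟩ : w ∈ Set.range hV.fromSpec := by rw [hV.range_fromSpec]; exact hw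
    have h1 : q ⤳ r := hV.fromSpec.isOpenEmbedding.isInducing.specializes_iff.1 hxw
    rw [hx, show r = q from hq.closure_subset_iff.2 le_rfl (h1.mem_closure)]
  by_cases hcl : IsClosed ({x} : Set X)
  · exact ⟨x, hqZ, hcl⟩
  obtain ⟨y, hy, hyx⟩ : ∃ y ∈ closure ({x} : Set X), y ≠ x := by
    by_contra h
    push Not at h
    exact hcl (closure_eq_iff_isClosed.1 (Set.Subset.antisymm (fun w hw => h w hw) subset_closure))
  have hxy : x ⤳ y := specializes_iff_mem_closure.2 hy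
  refine ⟨y, hxy.mem_closed hZ hqZ, closure_eq_iff_isClosed.1 (Set.Subset.antisymm (fun z hz => ?_) subset_closure)⟩
  have hyz : y ⤳ z := specializes_iff_mem_closure.2 hz
  obtain ⟨_, ⟨W, hW, rfl⟩, hzW, -⟩ := X.isBasis_affineOpens.exists_subset_of_mem_open (Set.mem_univ z) isOpen_univ
  obtain ⟨pz, hpz⟩ : z ∈ Set.range hW.fromSpec := by rw [hW.range_fromSpec]; exact hzW
  obtain ⟨py, hpy⟩ : y ∈ Set.range hW.fromSpec := by rw [hW.range_fromSpec]; exact hyz.mem_open W.isOpen hzW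
  obtain ⟨px, hpx⟩ : x ∈ Set.range hW.fromSpec := by rw [hW.range_fromSpec]; exact (hxy.trans hyz).mem_open W.isOpen hzW
  haveI := IsLocallyNoetherian.component_noetherian (X := X) ⟨W, hW⟩
  obtain ⟨_, ⟨f, rfl⟩, hpf, hfV⟩ := PrimeSpectrum.isTopologicalBasis_basic_opens.exists_subset_of_mem_open
    (show px ∈ hW.fromSpec ⁻¹' (V : Set X) by simpa [hpx] using hxV) (V.isOpen.preimage hW.fromSpec.continuous)
  have hind := hW.fromSpec.isOpenEmbedding.isInducing
  have hinj := hW.fromSpec.isOpenEmbedding.injective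
  have hxy' : px.asIdeal ≤ py.asIdeal := (PrimeSpectrum.le_iff_specializes px py).2 (hind.specializes_iff.1 (hpx ▸ hpy ▸ hxy))
  have hyz' : py.asIdeal ≤ pz.asIdeal := (PrimeSpectrum.le_iff_specializes py pz).2 (hind.specializes_iff.1 (hpy ▸ hpz ▸ hyz))
  have hlt : px.asIdeal < py.asIdeal := lt_of_le_of_ne hxy' fun e => hyx (by rw [← hpx, ← hpy, PrimeSpectrum.ext e])
  have e := alg px.asIdeal f hpf (fun r hr hle hfr => by
    have h1 : hW.fromSpec ⟨r, hr⟩ ∈ V := hfV hfr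
    have h2 : x ⤳ hW.fromSpec ⟨r, hr⟩ := hpx ▸ ((PrimeSpectrum.le_iff_specializes px ⟨r, hr⟩).1 hle).map hW.fromSpec.continuous
    have h3 := hinj ((hxonly _ h1 h2).trans hpx.symm)
    exact congrArg PrimeSpectrum.asIdeal h3) py.asIdeal pz.asIdeal py.2 pz.2 hlt hyz'
  rw [Set.mem_singleton_iff, ← hpz, ← hpy, PrimeSpectrum.ext e]

end Groth.Agent.S4713
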