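import Groth.Statements.S4714
import Groth.Agent.LocalDim.Affine
-- import your own Groth.Agent.* helpers here

set_option autoImplicit false
universe u
open EGA4

namespace Groth.Agent.S4714

open AlgebraicGeometry CategoryTheory in
theorem exists_open_nhd_of_isMax {X : Scheme.{u}} [IsLocallyNoetherian X] {η : X} (hη : FibDim.IsMax' η) :
    ∃ O : Set X, IsOpen O ∧ η ∈ O ∧ O ⊆ closure {η} := by
  obtain ⟨U, hU, hx, -⟩ := exists_isAffineOpen_mem_and_subset (X := X) (x := η) (U := ⊤) trivial
  haveI : IsNoetherianRing Γ(X, U) := IsLocallyNoetherian.component_noetherian ⟨U, hU⟩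
  classical
  let P := hU.primeIdealOf ⟨η, hx⟩
  have hP : hU.fromSpec P = η := hU.fromSpec_primeIdealOf _
  let T := (minimalPrimes.finite_of_isNoetherianRing Γ(X, U)).toFinset.filter fun Q => ¬ Q ≤ P.asIdeal
  have hI : ¬ T.inf id ≤ P.asIdeal := fun h => by
    obtain ⟨Q, hQ, hQP⟩ := (Ideal.IsPrime.inf_le' inferInstance).mp h
    exact (Finset.mem_filter.mp hQ).2 hQP
  obtain ⟨s, hs, hsP⟩ := SetLike.not_le_iff_exists.mp hI
  refine ⟨hU.fromSpec '' (PrimeSpectrum.basicOpen s : Set (PrimeSpectrum Γ(X, U))),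
    hU.fromSpec.isOpenEmbedding.isOpenMap _ (PrimeSpectrum.basicOpen s).isOpen, ⟨P, hsP, hP⟩, ?_⟩
  rintro _ ⟨b₀, hb, rfl⟩
  obtain ⟨b, rfl⟩ : ∃ b : PrimeSpectrum Γ(X, U), b = b₀ := ⟨b₀, rfl⟩
  obtain ⟨Q, hQ, hQb⟩ := Ideal.exists_minimalPrimes_le (bot_le : (⊥ : Ideal Γ(X, U)) ≤ b.asIdeal)
  have hQP : Q ≤ P.asIdeal := by_contra fun h => hb (hQb ((Finset.inf_le (f := id) (Finset.mem_filter.mpr
    ⟨(minimalPrimes.finite_of_isNoetherianRing _).mem_toFinset.mpr hQ, h⟩)) hs))
  let Q' : PrimeSpectrum Γ(X, U) := ⟨Q, hQ.1.1⟩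
  have hQη : hU.fromSpec Q' = η := hη _ (by
    have h := ((PrimeSpectrum.le_iff_specializes Q' P).mp hQP).map hU.fromSpec.continuous
    rwa [hP] at h)
  rw [← specializes_iff_mem_closure, ← hQη]
  exact ((PrimeSpectrum.le_iff_specializes Q' b).mp hQb).map hU.fromSpec.continuous

theorem add_one_le_of_forall {T : Type u} {Y : Set T} {d : T → WithBot ℕ∞} {a c : WithBot ℕ∞}
    (hne : Y.Nonempty) (h : ∀ y ∈ Y, d y + 1 ≤ c) (ha : ∀ b, (∀ y ∈ Y, d y ≤ b) → a ≤ b) : a + 1 ≤ c := by
  have hone : ∀ {a b : WithBot ℕ∞}, a ≤ b → a + 1 ≤ b + 1 := fun h => add_le_add h le_rfl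
  induction c with
  | bot =>
    obtain ⟨y, hy⟩ := hne
    have := ha ⊥ (fun z hz => by
      rcases hd : d z with _ | m
      · exact le_rfl
      · exact absurd (h z hz) (by rw [hd]; exact not_le_of_gt (WithBot.bot_lt_coe _)))
    rw [le_bot_iff.mp this, WithBot.bot_add]
  | coe c =>
    induction c using ENat.recTopCoe with
    | top => exact le_top
    | coe n =>
      cases n with
      | zero =>
        have hb := ha ⊥ (fun y hy => by
          rcases hd : d y with _ | m
          · exact le_rfl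
          · have h' := h y hy
            rw [hd] at h'
            change ((m : ℕ∞) : WithBot ℕ∞) + 1 ≤ _ at h'
            have : m + 1 ≤ (0 : ℕ∞) := by exact_mod_cast h'
            exact absurd (nonpos_iff_eq_zero.mp this) (by simp))
        rw [le_bot_iff.mp hb, WithBot.bot_add]
        exact bot_le
      | succ n =>
        refine (hone (ha ((n : ℕ∞) : WithBot ℕ∞) fun y hy => ?_)).trans (by push_cast; exact le_rfl)
        rcases hd : d y with _ | m
        · exact bot_le
        · have h' := h y hy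
          rw [hd] at h'
          change ((m : ℕ∞) : WithBot ℕ∞) + 1 ≤ _ at h'
          have h'' : m + 1 ≤ (n : ℕ∞) + 1 := by exact_mod_cast h'
          exact WithBot.coe_le_coe.mpr ((WithTop.add_le_add_iff_right WithTop.one_ne_top).mp h'')

open AlgebraicGeometry CategoryTheory in
theorem dim_closure_le_add_one {k : Type u} [Field k] {X : Scheme.{u}} (p : X ⟶ Spec (CommRingCat.of k))
    [LocallyOfFiniteType p] (f : Γ(X, ⊤)) {η z : X} (hη : FibDim.IsMax' η) (hηz : η ⤳ z)
    (hz : z ∈ X.zeroLocus (U := ⊤) ({f} : Set Γ(X, ⊤))) (hηY : η ∉ X.zeroLocus (U := ⊤) ({f} : Set Γ(X, ⊤))) :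
    topologicalKrullDim (closure ({η} : Set X)) ≤ topologicalKrullDim (X.zeroLocus (U := ⊤) ({f} : Set Γ(X, ⊤))) + 1 := by
  obtain ⟨U, hU, hzU, -⟩ := exists_isAffineOpen_mem_and_subset (X := X) (x := z) (U := ⊤) trivial
  have hηU : η ∈ U := hηz.mem_open U.isOpen hzU
  let φ : CommRingCat.of k ⟶ Γ(X, U) := (Scheme.ΓSpecIso (CommRingCat.of k)).inv ≫ p.appLE ⊤ U (by simp)
  algebraize [φ.hom]
  haveI : Algebra.FiniteType k Γ(X, U) := by
    refine (RingHom.finiteType_algebraMap).mp ?_
    exact (p.finiteType_appLE (isAffineOpen_top _) hU (by simp)).comp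
      (RingHom.FiniteType.of_surjective _
        (Scheme.ΓSpecIso (CommRingCat.of k)).commRingCatIsoToRingEquiv.symm.surjective)
  let P := hU.primeIdealOf ⟨η, hηU⟩
  let M := hU.primeIdealOf ⟨z, hzU⟩
  have hP : hU.fromSpec P = η := hU.fromSpec_primeIdealOf _
  have hM : hU.fromSpec M = z := hU.fromSpec_primeIdealOf _
  let g : Γ(X, U) := X.presheaf.map (homOfLE le_top).op f
  have hmem : ∀ Q : PrimeSpectrum Γ(X, U), hU.fromSpec Q ∈ X.zeroLocus (U := ⊤) ({f} : Set Γ(X, ⊤)) ↔ g ∈ Q.asIdeal := by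
    intro Q
    have hQU : hU.fromSpec Q ∈ U := hU.range_fromSpec.le ⟨Q, rfl⟩
    rw [X.zeroLocus_singleton, Set.mem_compl_iff, ← not_iff_not, not_not]
    refine Iff.trans ?_ (show Q ∈ hU.fromSpec ⁻¹ᵁ X.basicOpen g ↔ g ∉ Q.asIdeal by
      rw [hU.fromSpec_preimage_basicOpen]; rfl)
    show hU.fromSpec Q ∈ X.basicOpen f ↔ hU.fromSpec Q ∈ X.basicOpen g
    rw [X.basicOpen_res]
    exact ⟨fun h => ⟨hQU, h⟩, fun h => h.2⟩
  have hgP : g ∉ P.asIdeal := fun h => hηY (hP ▸ (hmem P).mpr h)
  have hgM : g ∈ M.asIdeal := (hmem M).mp (hM.symm ▸ hz)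
  have hPM : P.asIdeal ≤ M.asIdeal := (PrimeSpectrum.le_iff_specializes P M).mpr
    (hU.fromSpec.isOpenEmbedding.isInducing.specializes_iff.mp (by rw [hP, hM]; exact hηz))
  -- dimension of the component
  obtain ⟨n, hn, ⟨η', hη', -, hn'⟩, -⟩ := LocalDim.exists_localDim p η
  rw [hη _ hη'] at hn'
  obtain ⟨n₂, hn₂, ⟨P', hP', -, hn₂'⟩, -⟩ := LocalDim.exists_localDim_spec k P
  have hPP : P' = P := hU.fromSpec.isOpenEmbedding.injective
    ((hη _ (hP ▸ ((PrimeSpectrum.le_iff_specializes P' P).mp hP').map hU.fromSpec.continuous)).trans hP.symm)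
  subst hPP
  have hdim : topologicalKrullDim (closure ({η} : Set X)) = ringKrullDim (Γ(X, U) ⧸ P.asIdeal) := by
    rw [hn', hn₂', ← hn, ← hn₂, ← hP]
    exact (LocalDim.localDim_openEmbedding hU.fromSpec.isOpenEmbedding _).symm
  let A := Γ(X, U) ⧸ P.asIdeal
  let π := Ideal.Quotient.mk P.asIdeal
  haveI : IsNoetherianRing A := Algebra.FiniteType.isNoetherianRing k A
  haveI : (M.asIdeal.map π).IsPrime := Ideal.map_isPrime_of_surjective Ideal.Quotient.mk_surjective
    (by rw [Ideal.mk_ker]; exact hPM)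
  obtain ⟨q, hq, hqle⟩ := Ideal.exists_minimalPrimes_le
    (show Ideal.span {π g} ≤ M.asIdeal.map π by
      rw [Ideal.span_singleton_le_iff_mem]; exact Ideal.mem_map_of_mem _ hgM)
  haveI := hq.1.1
  have hht : q.height ≤ 1 := Ideal.height_le_one_of_isPrincipal_of_mem_minimalPrimes _ q hq
  have hloc := LocalDim.localDim_eq k q
  obtain ⟨m, hm, ⟨Q, -, hQmin, hQm⟩, -⟩ := LocalDim.exists_localDim_spec k (⟨q, inferInstance⟩ : PrimeSpectrum A)
  rw [IsDomain.minimalPrimes_eq_singleton_bot] at hQmin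
  rw [hm, ← hQm, ringKrullDim_eq_of_ringEquiv ((Ideal.quotEquivOfEq hQmin).trans (RingEquiv.quotientBot A))] at hloc
  rw [hdim, hloc, add_comm (topologicalKrullDim _) (1 : WithBot ℕ∞)]
  refine add_le_add (WithBot.coe_le_coe.mpr hht) ?_
  let Q' : PrimeSpectrum Γ(X, U) := PrimeSpectrum.comap π ⟨q, inferInstance⟩
  have hgQ : hU.fromSpec Q' ∈ X.zeroLocus (U := ⊤) ({f} : Set Γ(X, ⊤)) :=
    (hmem Q').mpr (hq.1.2 (Ideal.mem_span_singleton_self _))
  have hq' : ringKrullDim (A ⧸ q) = ringKrullDim (Γ(X, U) ⧸ Q'.asIdeal) :=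
    (ringKrullDim_eq_of_ringEquiv ((Ideal.quotEquivOfEq (show Q'.asIdeal = RingHom.ker ((Ideal.Quotient.mk q).comp π) by
      rw [← RingHom.comap_ker, Ideal.mk_ker]; rfl)).trans
      (RingHom.quotientKerEquivOfSurjective (Ideal.Quotient.mk_surjective.comp Ideal.Quotient.mk_surjective)))).symm
  rw [hq']
  refine le_of_eq_of_le (DimTrdeg.topologicalKrullDim_closure_inter Γ(X, U) Q').symm ?_
  refine le_of_eq_of_le (FibreDim.dim_image hU.fromSpec.isOpenEmbedding.toIsEmbedding _).symm ?_
  refine FibreDim.dim_mono ((image_closure_subset_closure_image hU.fromSpec.continuous).trans ?_)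
  refine (closure_mono Set.image_singleton.subset).trans ?_
  exact closure_minimal (Set.singleton_subset_iff.2 hgQ) (by
    rw [X.zeroLocus_singleton]; exact (X.basicOpen f).isOpen.isClosed_compl)

open AlgebraicGeometry CategoryTheory in
/-- For a section of the structure sheaf: let X be a scheme locally of finite type over a field k and f
a global section of O_X whose zero locus Y is nowhere dense in X. Then dim Y + 1 ≤ dim X. If
moreover some irreducible component of X has dimension equal to dim X and Y meets every such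
component, then dim Y + 1 = dim X. (The published statement is for a section of an invertible sheaf;
the existence of a component of maximal dimension, implicit in the published wording, is made a
hypothesis of the equality clause.) -/
theorem result (k : Type u) [Field k] (X : Scheme.{u}) (p : X ⟶ Spec (CommRingCat.of k))
    [LocallyOfFiniteType p] (f : Γ(X, ⊤)) (hY : interior (X.zeroLocus (U := ⊤) {f}) = ∅) :
    topologicalKrullDim (X.zeroLocus (U := ⊤) {f}) + 1 ≤ topologicalKrullDim X ∧
      ((∃ Z ∈ irreducibleComponents (X : Type u), topologicalKrullDim Z = topologicalKrullDim X) →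
        (∀ Z ∈ irreducibleComponents (X : Type u), topologicalKrullDim Z = topologicalKrullDim X →
          (Z ∩ X.zeroLocus (U := ⊤) {f}).Nonempty) →
        topologicalKrullDim (X.zeroLocus (U := ⊤) {f}) + 1 = topologicalKrullDim X) := by
  haveI : IsLocallyNoetherian X := LocallyOfFiniteType.isLocallyNoetherian p
  let Y := X.zeroLocus (U := ⊤) ({f} : Set Γ(X, ⊤))
  have hYc : IsClosed Y := by
    show IsClosed (X.zeroLocus (U := ⊤) ({f} : Set Γ(X, ⊤)))
    rw [X.zeroLocus_singleton]
    exact (X.basicOpen f).isOpen.isClosed_compl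
  have hsmall : ∀ y ∈ Y, topologicalKrullDim (closure ({y} : Set X)) + 1 ≤ topologicalKrullDim X := by
    intro y hy
    obtain ⟨η, hηy, hη⟩ := FibDim.exists_isMax'_specializes y
    have hne : ¬ y ⤳ η := fun h => by
      obtain ⟨O, hO, hηO, hsub⟩ := exists_open_nhd_of_isMax hη
      have hsubY : O ⊆ Y := hsub.trans (closure_minimal (Set.singleton_subset_iff.2 (h.mem_closed hYc hy)) hYc)
      have := interior_maximal hsubY hO hηO
      rw [hY] at this
      exact this
    have hle : closure ({y} : Set X) ⊆ closure {η} :=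
      closure_minimal (Set.singleton_subset_iff.2 hηy.mem_closure) isClosed_closure
    haveI : IrreducibleSpace ↥(closure ({η} : Set X)) :=
      { toPreirreducibleSpace := Subtype.preirreducibleSpace isIrreducible_singleton.closure.2, toNonempty := ⟨⟨η, subset_closure rfl⟩⟩ }
    refine le_trans (BMCoh.topologicalKrullDim_add_one_le (Topology.IsEmbedding.inclusion hle).isInducing fun hd => hne ?_)
      (FibDim.dim_closure_le η)
    have hc : IsClosed (Set.range (Set.inclusion hle)) := by
      rw [Set.range_inclusion]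
      exact isClosed_closure.preimage continuous_subtype_val
    have := hc.closure_eq.symm.trans hd.closure_eq
    have hmem : (⟨η, subset_closure rfl⟩ : closure ({η} : Set X)) ∈ Set.range (Set.inclusion hle) := by
      rw [this]; trivial
    rw [Set.range_inclusion] at hmem
    exact specializes_iff_mem_closure.mpr hmem
  have hineq : topologicalKrullDim Y + 1 ≤ topologicalKrullDim X := by
    rcases Set.eq_empty_or_nonempty Y with h | ⟨y₀, hy₀⟩
    · haveI : IsEmpty (TopologicalSpace.IrreducibleCloseds ↥Y) := ⟨fun Z => by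
        obtain ⟨⟨a, ha⟩, -⟩ := Z.isIrreducible.nonempty
        rw [h] at ha; exact ha⟩
      rw [show topologicalKrullDim Y = ⊥ from Order.krullDim_eq_bot, WithBot.bot_add]
      exact bot_le
    haveI : QuasiSober ↥Y := hYc.isClosedEmbedding_subtypeVal.quasiSober
    refine add_one_le_of_forall ⟨y₀, hy₀⟩ (fun y hy => hsmall y hy) fun c hc => ?_
    refine FibreDim.dim_le_of_points fun t => ?_
    refine le_trans ?_ (hc t.1 t.2)
    rw [← FibreDim.dim_image Topology.IsEmbedding.subtypeVal, FibreDim.closure_singleton_subtype]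
    exact FibreDim.dim_mono Set.inter_subset_left
  refine ⟨hineq, fun ⟨Z, hZ, hZd⟩ hmeet => le_antisymm hineq ?_⟩
  obtain ⟨η, hηZ, hη⟩ := FibDim.exists_isMax'_component hZ
  obtain ⟨z, hzZ, hzY⟩ := hmeet Z hZ hZd
  rw [← hηZ] at hzZ hZd
  have hηz : η ⤳ z := specializes_iff_mem_closure.mpr hzZ
  rw [← hZd]
  exact dim_closure_le_add_one p f hη hηz hzY (fun hf => by
    obtain ⟨O, hO, hηO, hsub⟩ := exists_open_nhd_of_isMax hη
    have hsubY : O ⊆ Y := hsub.trans (closure_minimal (Set.singleton_subset_iff.2 hf) hYc)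
    have := interior_maximal hsubY hO hηO
    rw [hY] at this
    exact this)

end Groth.Agent.S4714
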