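import Groth.Statements.S4721
import Groth.Agent.DepthLib.Ext
import Groth.Agent.DepthLib.Localization
import Mathlib.RingTheory.Spectrum.Prime.Noetherian

set_option autoImplicit false
universe u
open EGA4

namespace Groth.Agent.S4721

theorem exists_prime_ne {A : Type u} [CommRing A] (q P : Ideal A) [q.IsPrime] (hP : P.IsPrime) (hle : P ≤ q)
    (hne : P ≠ q) {I : Ideal A} (hI : I ≤ P) :
    ∃ Q : Ideal (Localization.AtPrime q), Q.IsPrime ∧ I.map (algebraMap A (Localization.AtPrime q)) ≤ Q ∧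
      Q ≠ IsLocalRing.maximalIdeal (Localization.AtPrime q) := by
  have hd : Disjoint (q.primeCompl : Set A) (P : Set A) :=
    Set.disjoint_left.mpr fun a ha ha' => ha (hle ha')
  refine ⟨_, IsLocalization.isPrime_of_isPrime_disjoint q.primeCompl (Localization.AtPrime q) P hP hd,
    Ideal.map_mono hI, fun he => hne ?_⟩
  rw [← IsLocalization.comap_map_of_isPrime_disjoint q.primeCompl (Localization.AtPrime q) hP hd, he]
  exact Localization.AtPrime.under_maximalIdeal

open LocCoh Pointwise in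
/-- Hartshorne: the punctured spectrum of a local ring of depth at least two is connected. -/
theorem punctured_connected {B : Type u} [CommRing B] [IsLocalRing B] [IsNoetherianRing B]
    (hd : 2 ≤ depth B B) (I J : Ideal B) (hIJ : I * J ≤ nilradical B)
    (hrad : ∀ Q : Ideal B, Q.IsPrime → I ≤ Q → J ≤ Q → Q = IsLocalRing.maximalIdeal B)
    (hI : ∃ Q : Ideal B, Q.IsPrime ∧ I ≤ Q ∧ Q ≠ IsLocalRing.maximalIdeal B)
    (hJ : ∃ Q : Ideal B, Q.IsPrime ∧ J ≤ Q ∧ Q ≠ IsLocalRing.maximalIdeal B) : False := by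
  obtain ⟨n, hn⟩ := IsNoetherianRing.isNilpotent_nilradical B
  have hspan : ∀ x w : B, w ∈ (x • (⊤ : Submodule B B)) ↔ w ∈ Ideal.span {x} := fun x w => by
    rw [← Submodule.ideal_span_singleton_smul, smul_eq_mul, Ideal.mul_top]
  have hzero : ∀ i ∈ I ^ (n + 1), ∀ j ∈ J ^ (n + 1), i * j = 0 := by
    intro i hi j hj
    have h1 : i * j ∈ nilradical B ^ n :=
      Ideal.pow_le_pow_right (Nat.le_succ n) (Ideal.pow_right_mono hIJ (n + 1)
        ((mul_pow I J (n + 1)).symm ▸ Ideal.mul_mem_mul hi hj))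
    rwa [hn, Submodule.zero_eq_bot, Submodule.mem_bot] at h1
  have hrad' : IsLocalRing.maximalIdeal B ≤ (I ^ (n + 1) ⊔ J ^ (n + 1)).radical := by
    rw [Ideal.radical_eq_sInf]
    refine le_sInf fun Q ⟨hQ, hQp⟩ => ?_
    exact (hrad Q hQp (hQp.le_of_pow_le (le_sup_left.trans hQ)) (hQp.le_of_pow_le (le_sup_right.trans hQ))).ge
  obtain ⟨y, hy, hyreg⟩ := DepthLib.one_le_idealDepth_iff.mp (le_trans one_le_two hd)
  obtain ⟨e, he⟩ := hrad' hy
  obtain ⟨a, ha, b, hb, hab⟩ := Submodule.mem_sup.mp he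
  have hxreg : IsSMulRegular B (a + b) := hab ▸ hyreg.pow e
  have hcap : ∀ z, z ∈ I ^ (n + 1) → z ∈ J ^ (n + 1) → z = 0 := fun z hzI hzJ =>
    hxreg.right_eq_zero_of_smul (by
      rw [smul_eq_mul, add_mul, hzero a ha z hzJ, mul_comm b z, hzero z hzI b hb, add_zero])
  have hmem : a + b ∈ IsLocalRing.maximalIdeal B := by
    rw [hab]
    rcases Nat.eq_zero_or_pos e with rfl | he0
    · exfalso
      rw [pow_zero] at he
      obtain ⟨Q, hQ, hQI, hQne⟩ := hI
      obtain ⟨Q', hQ', hQJ, -⟩ := hJ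
      have hle : I ^ (n + 1) ⊔ J ^ (n + 1) ≤ IsLocalRing.maximalIdeal B := sup_le
        ((Ideal.pow_le_self (Nat.succ_ne_zero n)).trans (hQI.trans (IsLocalRing.le_maximalIdeal hQ.ne_top)))
        ((Ideal.pow_le_self (Nat.succ_ne_zero n)).trans (hQJ.trans (IsLocalRing.le_maximalIdeal hQ'.ne_top)))
      exact (Ideal.ne_top_iff_one _).mp (IsLocalRing.maximalIdeal.isMaximal B).ne_top (hle he)
    · exact Ideal.pow_mem_of_mem _ hy e he0
  have key : ∀ (I' J' : Ideal B) (b : B), b ∈ J' ^ (n + 1) → IsSMulRegular B b →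
      (∀ i ∈ I' ^ (n + 1), ∀ j ∈ J' ^ (n + 1), i * j = 0) →
      (∀ Q : Ideal B, Q.IsPrime → I' ≤ Q → J' ≤ Q → Q = IsLocalRing.maximalIdeal B) →
      (∃ Q : Ideal B, Q.IsPrime ∧ J' ≤ Q ∧ Q ≠ IsLocalRing.maximalIdeal B) → False := by
    intro I' J' b hb hreg hz hr ⟨Q, hQ, hQJ, hQne⟩
    refine hQne (hr Q hQ (hQ.le_of_pow_le (n := n + 1) fun i hi => ?_) hQJ)
    rw [hreg.right_eq_zero_of_smul (x := i) (by rw [smul_eq_mul, mul_comm, hz i hi b hb])]
    exact zero_mem _
  have hanot : a ∉ Ideal.span {a + b} := by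
    intro hmem'
    obtain ⟨c, hc⟩ := Ideal.mem_span_singleton'.mp hmem'
    have h1 : (1 - c) * a = c * b := by linear_combination -hc
    have hz1 := hcap _ (Ideal.mul_mem_left _ (1 - c) ha) (h1 ▸ Ideal.mul_mem_left _ c hb)
    have hz2 : c * b = 0 := h1 ▸ hz1
    rcases IsLocalRing.isUnit_or_isUnit_one_sub_self c with hu | hu
    · have hb0 : b = 0 := hu.mul_right_eq_zero.mp hz2
      rw [hb0, add_zero] at hxreg
      exact key J I a ha hxreg (fun i hi j hj => by rw [mul_comm]; exact hzero j hj i hi)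
        (fun Q hQ h1 h2 => hrad Q hQ h2 h1) hI
    · have ha0 : a = 0 := hu.mul_right_eq_zero.mp hz1
      rw [ha0, zero_add] at hxreg
      exact key I J b hb hxreg hzero hrad hJ
  have hdrop : 1 ≤ depth B (QuotSMulTop (a + b) B) := by
    have h2 := DepthLib.idealDepth_quotSMulTop_add_one (I := IsLocalRing.maximalIdeal B) (M := B) hmem hxreg
    rw [depth] at hd ⊢
    rw [← h2, ← one_add_one_eq_two] at hd
    exact (ENat.add_le_add_iff_right ENat.one_ne_top).mp hd
  obtain ⟨z, hz, hzreg⟩ := DepthLib.one_le_idealDepth_iff.mp hdrop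
  obtain ⟨k, hk⟩ := hrad' hz
  obtain ⟨i, hi, j, hj, hij⟩ := Submodule.mem_sup.mp hk
  refine hanot ((hspan (a + b) a).mp ((Submodule.Quotient.mk_eq_zero _).mp ((hzreg.pow k).right_eq_zero_of_smul ?_)))
  rw [← Submodule.Quotient.mk_smul, Submodule.Quotient.mk_eq_zero, hspan, ← hij, smul_eq_mul, add_mul,
    mul_comm j a, hzero a ha j hj, add_zero]
  refine Ideal.mem_span_singleton'.mpr ⟨i, ?_⟩
  rw [mul_add, hzero i hi b hb, add_zero]


/-- Let A be a Noetherian ring whose spectrum is connected and d a natural number such that for every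
prime p of height at least d the local ring A_p has depth at least 2. Then for any two distinct
minimal primes p', p'' of A there is a finite chain of minimal primes starting at p' and ending at
p'' such that any two consecutive members are both contained in a prime ideal of height at most d −
1 (the spectrum is connected in codimension at most d − 1). -/
theorem result (A : Type u) [CommRing A] [IsNoetherianRing A]
    [ConnectedSpace (PrimeSpectrum A)] (d : ℕ)
    (h : ∀ (p : Ideal A) [p.IsPrime], (d : ℕ∞) ≤ p.height →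
      (2 : ℕ∞) ≤ LocCoh.depth (Localization.AtPrime p) (Localization.AtPrime p))
    (p' p'' : Ideal A) (hp' : p' ∈ minimalPrimes A) (hp'' : p'' ∈ minimalPrimes A) (hne : p' ≠ p'') :
    ∃ (n : ℕ) (c : Fin (n + 1) → Ideal A), c 0 = p' ∧ c (Fin.last n) = p'' ∧ (∀ i, c i ∈ minimalPrimes A) ∧
      ∀ i : Fin n, ∃ (q : Ideal A) (_ : q.IsPrime),
        c i.castSucc ≤ q ∧ c i.succ ≤ q ∧ q.height + 1 ≤ (d : ℕ∞) := by
  classical
  let E : Ideal A → Ideal A → Prop := fun a b => b ∈ minimalPrimes A ∧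
    ∃ (q : Ideal A) (_ : q.IsPrime), a ≤ q ∧ b ≤ q ∧ q.height + 1 ≤ (d : ℕ∞)
  suffices hE : Relation.ReflTransGen E p' p'' by
    clear hne hp''
    induction hE with
    | refl => exact ⟨0, fun _ => p', rfl, rfl, fun _ => hp', fun i => i.elim0⟩
    | @tail b c _ hbc IH =>
      obtain ⟨m, w, h0, hl, hs, hstep⟩ := IH
      refine ⟨m + 1, Fin.snoc w c, ?_, Fin.snoc_last .., fun k => ?_, fun k => ?_⟩
      · rw [← Fin.castSucc_zero, Fin.snoc_castSucc, h0]
      · refine Fin.lastCases ?_ (fun k => ?_) k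
        · rw [Fin.snoc_last]; exact hbc.1
        · rw [Fin.snoc_castSucc]; exact hs k
      · refine Fin.lastCases ?_ (fun k => ?_) k
        · rw [Fin.succ_last, Fin.snoc_last, Fin.snoc_castSucc, hl]
          exact hbc.2
        · rw [Fin.succ_castSucc, Fin.snoc_castSucc, Fin.snoc_castSucc]
          exact hstep k
  by_contra hcon
  have hfin := Ideal.finite_minimalPrimes_of_isNoetherianRing A ⊥
  let S₁ : Finset (Ideal A) := hfin.toFinset.filter fun P => Relation.ReflTransGen E p' P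
  let S₂ : Finset (Ideal A) := hfin.toFinset.filter fun P => ¬ Relation.ReflTransGen E p' P
  let I : Ideal A := ∏ P ∈ S₁, P
  let J : Ideal A := ∏ P ∈ S₂, P
  have hmin : ∀ P, P ∈ hfin.toFinset ↔ P ∈ minimalPrimes A := fun P => hfin.mem_toFinset
  have hIJ : ∀ Q : Ideal A, Q.IsPrime → I * J ≤ Q := by
    intro Q hQ
    obtain ⟨P, hP, hPQ⟩ := Ideal.exists_minimalPrimes_le (bot_le : (⊥ : Ideal A) ≤ Q)
    by_cases hr : Relation.ReflTransGen E p' P
    · exact (Ideal.mul_le_left.trans (hQ.prod_le.mpr ⟨P, Finset.mem_filter.mpr ⟨(hmin P).mpr hP, hr⟩, hPQ⟩))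
    · exact (Ideal.mul_le_right.trans (hQ.prod_le.mpr ⟨P, Finset.mem_filter.mpr ⟨(hmin P).mpr hP, hr⟩, hPQ⟩))
  have hne12 : (PrimeSpectrum.zeroLocus (I : Set A) ∩ PrimeSpectrum.zeroLocus (J : Set A)).Nonempty := by
    by_contra hemp
    rw [Set.not_nonempty_iff_eq_empty] at hemp
    have hclopen : IsClopen (PrimeSpectrum.zeroLocus (I : Set A)) := by
      refine ⟨PrimeSpectrum.isClosed_zeroLocus _, ?_⟩
      have : PrimeSpectrum.zeroLocus (I : Set A) = (PrimeSpectrum.zeroLocus (J : Set A))ᶜ := by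
        ext x
        refine ⟨fun hx hxJ => (Set.eq_empty_iff_forall_notMem.mp hemp x) ⟨hx, hxJ⟩, fun hx => ?_⟩
        exact (x.isPrime.mul_le.mp (hIJ _ x.isPrime)).resolve_right hx
      rw [this]
      exact (PrimeSpectrum.isClosed_zeroLocus _).isOpen_compl
    rcases isClopen_iff.mp hclopen with h0 | h0
    · exact Set.eq_empty_iff_forall_notMem.mp h0 ⟨p', hp'.isPrime⟩
        (hp'.isPrime.prod_le.mpr ⟨p', Finset.mem_filter.mpr ⟨(hmin _).mpr hp', .refl⟩, le_rfl⟩)
    · refine Set.eq_empty_iff_forall_notMem.mp hemp ⟨p'', hp''.isPrime⟩ ⟨?_, ?_⟩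
      · rw [h0]; trivial
      · exact hp''.isPrime.prod_le.mpr ⟨p'', Finset.mem_filter.mpr ⟨(hmin _).mpr hp'', hcon⟩, le_rfl⟩
  obtain ⟨q, ⟨hqI, hqJ⟩, hqmin⟩ :=
    (InvImage.wf (fun q : PrimeSpectrum A => q.asIdeal.height) wellFounded_lt).has_min _ hne12
  haveI := q.isPrime
  obtain ⟨P₁, hP₁, hP₁q⟩ := q.isPrime.prod_le.mp hqI
  obtain ⟨P₂, hP₂, hP₂q⟩ := q.isPrime.prod_le.mp hqJ
  obtain ⟨hP₁m, hr₁⟩ := Finset.mem_filter.mp hP₁
  obtain ⟨hP₂m, hr₂⟩ := Finset.mem_filter.mp hP₂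
  rw [hmin] at hP₁m hP₂m
  have hht : (d : ℕ∞) ≤ q.asIdeal.height := by
    by_contra hlt
    exact hr₂ (hr₁.tail ⟨hP₂m, q.asIdeal, q.isPrime, hP₁q, hP₂q, Order.add_one_le_of_lt (not_le.mp hlt)⟩)
  have hne₁ : P₁ ≠ q.asIdeal := fun he => hr₂ (by
    have : P₂ = P₁ := le_antisymm (he ▸ hP₂q) (hP₁m.2 hP₂m.1 (he ▸ hP₂q))
    rwa [this])
  have hne₂ : P₂ ≠ q.asIdeal := fun he => hr₂ (by
    have : P₁ = P₂ := le_antisymm (he ▸ hP₁q) (hP₂m.2 hP₁m.1 (he ▸ hP₁q))
    rwa [← this])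
  refine punctured_connected (h q.asIdeal hht) (I.map (algebraMap A (Localization.AtPrime q.asIdeal)))
    (J.map (algebraMap A (Localization.AtPrime q.asIdeal))) ?_ ?_ ?_ ?_
  · rw [← Ideal.map_mul]
    refine Ideal.map_le_iff_le_comap.mpr fun a ha => ?_
    have hnil : a ∈ nilradical A := by
      rw [nilradical_eq_sInf]
      exact Submodule.mem_sInf.mpr fun Q hQ => hIJ Q hQ ha
    exact (mem_nilradical.mp hnil).map _
  · intro Q hQ hQI hQJ
    have hle : Q.comap (algebraMap A (Localization.AtPrime q.asIdeal)) ≤ q.asIdeal :=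
      (Ideal.comap_mono (IsLocalRing.le_maximalIdeal hQ.ne_top)).trans Localization.AtPrime.under_maximalIdeal.le
    have heq : Q.comap (algebraMap A (Localization.AtPrime q.asIdeal)) = q.asIdeal := by
      by_contra hne'
      haveI := hQ.comap (algebraMap A (Localization.AtPrime q.asIdeal))
      exact hqmin ⟨_, this⟩ ⟨Ideal.map_le_iff_le_comap.mp hQI, Ideal.map_le_iff_le_comap.mp hQJ⟩
        (Ideal.height_strict_mono_of_isPrime (lt_of_le_of_ne hle hne'))
    rw [← IsLocalization.map_under q.asIdeal.primeCompl (Localization.AtPrime q.asIdeal) Q,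
      Ideal.under_def, heq, Localization.AtPrime.map_eq_maximalIdeal]
  · exact exists_prime_ne q.asIdeal P₁ hP₁m.1.1 hP₁q hne₁
      (hP₁m.1.1.prod_le.mpr ⟨P₁, hP₁, le_rfl⟩)
  · exact exists_prime_ne q.asIdeal P₂ hP₂m.1.1 hP₂q hne₂
      (hP₂m.1.1.prod_le.mpr ⟨P₂, hP₂, le_rfl⟩)

end Groth.Agent.S4721
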