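import Mathlib
import Groth.Statements.S4722
-- import your own Groth.Agent.* helpers here

set_option autoImplicit false
universe u
open EGA4

namespace Groth.Agent.S4722

/-- Let A be a Noetherian ring and M a finite A-module whose set of associated primes is a single prime
p. Then M has a finite decreasing filtration by submodules M = M_0 ⊇ M_1 ⊇ ⋯ ⊇ M_m = 0 such that
each quotient M_h/M_{h+1} is isomorphic to a submodule of A/p (i.e. embeds A-linearly into A/p). -/
theorem result (A : Type u) [CommRing A] [IsNoetherianRing A]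
    (M : Type u) [AddCommGroup M] [Module A M] [Module.Finite A M] (p : Ideal A)
    (hp : associatedPrimes A M = {p}) :
    ∃ (m : ℕ) (F : Fin (m + 1) → Submodule A M), Antitone F ∧ F 0 = ⊤ ∧ F (Fin.last m) = ⊥ ∧
      ∀ i : Fin m, ∃ g : (↥(F i.castSucc) ⧸ Submodule.comap (F i.castSucc).subtype (F i.succ)) →ₗ[A] (A ⧸ p),
        Function.Injective g := by
  classical
  have hpp : p.IsPrime := (show p ∈ associatedPrimes A M from hp ▸ rfl).isPrime
  have hreg : ∀ s ∉ p, ∀ y : M, s • y = 0 → y = 0 := by
    intro s hs y hy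
    by_contra hne
    have : s ∈ {r : A | ∃ x : M, x ≠ 0 ∧ r • x = 0} := ⟨y, hne, hy⟩
    rw [← biUnion_associatedPrimes_eq_zero_divisors, hp] at this
    simp at this
    exact hs this
  obtain ⟨k, hk⟩ : ∃ k : ℕ, p ^ k ≤ Module.annihilator A M := by
    refine Ideal.exists_pow_le_of_le_radical_of_fg ?_ (IsNoetherian.noetherian p)
    rw [← Ideal.sInf_minimalPrimes]
    refine le_sInf fun q hq => ?_
    have := Module.associatedPrimes.minimalPrimes_annihilator_subset_associatedPrimes A M hq
    rw [hp] at this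
    exact le_of_eq (Eq.symm this)
  have step : ∀ N : Submodule A M, N ≠ ⊤ → (∀ s ∉ p, ∀ y, s • y ∈ N → y ∈ N) →
      ∃ N' : Submodule A M, N < N' ∧ (∀ s ∉ p, ∀ y, s • y ∈ N' → y ∈ N') ∧
        ∃ g : (↥N' ⧸ Submodule.comap N'.subtype N) →ₗ[A] (A ⧸ p), Function.Injective g := by
    intro N hN hsat
    obtain ⟨x, hxN, hxp⟩ : ∃ x, x ∉ N ∧ ∀ b ∈ p, b • x ∈ N := by
      by_contra hcon
      push Not at hcon
      obtain ⟨y, hy⟩ : ∃ y, y ∉ N := by
        by_contra h; push Not at h; exact hN (eq_top_iff.2 fun y _ => h y)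
      have : ∀ j : ℕ, ∃ x ∉ N, ∃ b ∈ p ^ j, x = b • y := by
        intro j
        induction j with
        | zero => exact ⟨y, hy, 1, by simp, (one_smul _ _).symm⟩
        | succ j ih =>
          obtain ⟨x, hx, b, hb, rfl⟩ := ih
          obtain ⟨c, hc, hcx⟩ := hcon _ hx
          exact ⟨_, hcx, c * b, by rw [pow_succ']; exact Ideal.mul_mem_mul hc hb, (mul_smul _ _ _).symm⟩
      obtain ⟨x, hx, b, hb, rfl⟩ := this k
      exact hx (by rw [Module.mem_annihilator.1 (hk hb) y]; exact zero_mem _)
    let N' : Submodule A M :=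
      { carrier := {y | ∃ s ∉ p, ∃ r : A, s • y - r • x ∈ N}
        add_mem' := by
          rintro u v ⟨s, hs, r, h⟩ ⟨s', hs', r', h'⟩
          refine ⟨s * s', fun h => (hpp.mem_or_mem h).elim hs hs', s' * r + s * r', ?_⟩
          convert add_mem (N.smul_mem s' h) (N.smul_mem s h') using 1
          module
        zero_mem' := ⟨1, fun h => hpp.ne_top ((Ideal.eq_top_iff_one p).2 h), 0, by simp⟩
        smul_mem' := by
          rintro c u ⟨s, hs, r, h⟩
          exact ⟨s, hs, c * r, by convert N.smul_mem c h using 1; module⟩ }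
    have h1 : (1 : A) ∉ p := fun h => hpp.ne_top ((Ideal.eq_top_iff_one p).2 h)
    have hNN' : N ≤ N' := fun y hy => ⟨1, h1, 0, by simpa using hy⟩
    obtain ⟨G, hG⟩ := IsNoetherian.noetherian N'
    have hGm : ∀ y ∈ G, ∃ s ∉ p, ∃ r : A, s • y - r • x ∈ N := fun y hy => (hG ▸ Submodule.subset_span hy : y ∈ N')
    choose! t ht r hr using hGm
    set T := ∏ y ∈ G, t y
    have hT : T ∉ p := fun h => by
      obtain ⟨y, hy, hy'⟩ := hpp.prod_mem_iff.1 h
      exact ht y hy hy'
    have hTy : ∀ y : N', ∃ c : A, T • (y : M) - c • x ∈ N := by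
      rintro ⟨y, hy0⟩
      have hy : y ∈ Submodule.span A (G : Set M) := hG.symm ▸ hy0
      show ∃ c : A, T • y - c • x ∈ N
      clear hy0
      induction hy using Submodule.span_induction with
      | mem y hy =>
        obtain ⟨q, hq⟩ := Finset.dvd_prod_of_mem t hy
        exact ⟨q * r y, by convert N.smul_mem q (hr y hy) using 1; simp only [T, hq]; module⟩
      | zero => exact ⟨0, by simp⟩
      | add u v _ _ hu hv =>
        obtain ⟨c, hc⟩ := hu; obtain ⟨c', hc'⟩ := hv
        exact ⟨c + c', by convert add_mem hc hc' using 1; module⟩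
      | smul d u _ hu =>
        obtain ⟨c, hc⟩ := hu
        exact ⟨d * c, by convert N.smul_mem d hc using 1; module⟩
    choose cf hcf using hTy
    have huniq : ∀ (y : M) (a b : A), y - a • x ∈ N → y - b • x ∈ N → Ideal.Quotient.mk p a = Ideal.Quotient.mk p b := by
      intro y a b ha hb
      rw [Ideal.Quotient.eq]
      by_contra hab
      exact hxN (hsat _ hab x (by convert sub_mem hb ha using 1; module))
    let g0 : N' →ₗ[A] (A ⧸ p) :=
      { toFun := fun y => Ideal.Quotient.mk p (cf y)
        map_add' := fun u v => by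
          rw [← map_add]
          exact huniq _ _ _ (hcf (u + v)) (by convert add_mem (hcf u) (hcf v) using 1; simp only [Submodule.coe_add]; module)
        map_smul' := fun d u => by
          rw [RingHom.id_apply, Algebra.smul_def, Ideal.Quotient.algebraMap_eq, ← map_mul]
          exact huniq _ _ _ (hcf (d • u)) (by convert N.smul_mem d (hcf u) using 1; simp only [Submodule.coe_smul]; module) }
    have hker : Submodule.comap N'.subtype N = LinearMap.ker g0 := by
      ext y
      rw [LinearMap.mem_ker, Submodule.mem_comap]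
      show (y : M) ∈ N ↔ Ideal.Quotient.mk p (cf y) = 0
      constructor
      · intro hy
        rw [← map_zero (Ideal.Quotient.mk p)]
        exact huniq _ _ _ (hcf y) (by simpa using N.smul_mem T hy)
      · intro hy
        exact hsat T hT _ (by simpa using add_mem (hcf y) (hxp _ (Ideal.Quotient.eq_zero_iff_mem.1 hy)))
    refine ⟨N', lt_of_le_of_ne hNN' fun e => hxN (e ▸ (⟨1, h1, 1, by simp⟩ : x ∈ N')), ?_,
      (Submodule.comap N'.subtype N).liftQ g0 hker.le, LinearMap.ker_eq_bot.1 (Submodule.ker_liftQ_eq_bot' _ _ hker)⟩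
    rintro s hs y ⟨s', hs', r', h⟩
    exact ⟨s' * s, fun h => (hpp.mem_or_mem h).elim hs' hs, r', by rwa [mul_smul]⟩
  have main : ∀ N : Submodule A M, (∀ s ∉ p, ∀ y, s • y ∈ N → y ∈ N) →
      ∃ (m : ℕ) (F : Fin (m + 1) → Submodule A M), Antitone F ∧ F 0 = ⊤ ∧ F (Fin.last m) = N ∧
      ∀ i : Fin m, ∃ g : (↥(F i.castSucc) ⧸ Submodule.comap (F i.castSucc).subtype (F i.succ)) →ₗ[A] (A ⧸ p),
        Function.Injective g := by
    intro N
    induction N using WellFoundedGT.induction with
    | _ N ih =>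
      intro hsat
      by_cases hN : N = ⊤
      · exact ⟨0, fun _ => ⊤, fun _ _ _ => le_rfl, rfl, hN.symm, fun i => i.elim0⟩
      obtain ⟨N', hlt, hsat', g, hg⟩ := step N hN hsat
      obtain ⟨m, F, hF, hF0, hFl, hFg⟩ := ih N' hlt hsat'
      refine ⟨m + 1, Fin.snoc F N, ?_, ?_, by simp, fun i => ?_⟩
      · intro i j hij
        refine Fin.lastCases (fun hij => ?_) (fun j' hij => ?_) j hij
        · refine Fin.lastCases (by simp) (fun i' => ?_) i
          simp only [Fin.snoc_last, Fin.snoc_castSucc]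
          exact hlt.le.trans (hFl ▸ hF (Fin.le_last i'))
        · obtain ⟨i', rfl⟩ := Fin.exists_castSucc_eq.2 (ne_of_lt (lt_of_le_of_lt hij (Fin.castSucc_lt_last j')))
          simp only [Fin.snoc_castSucc]
          exact hF (Fin.castSucc_le_castSucc_iff.1 hij)
      · rw [← Fin.castSucc_zero, Fin.snoc_castSucc]; exact hF0
      · refine Fin.lastCases ?_ (fun i' => ?_) i
        · rw [Fin.succ_last, Fin.snoc_last, Fin.snoc_castSucc, hFl]; exact ⟨g, hg⟩
        · rw [Fin.succ_castSucc, Fin.snoc_castSucc, Fin.snoc_castSucc]; exact hFg i'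
  exact main ⊥ fun s hs y hy => (Submodule.mem_bot A).2 (hreg s hs y ((Submodule.mem_bot A).1 hy))

end Groth.Agent.S4722
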