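import Groth.Statements.S4723
import Groth.Agent.CohenStruct.HullRegular
import Groth.Agent.CohenStruct.HullCatenary

set_option autoImplicit false
universe u
open EGA4

namespace Groth.Agent.S4723

/-- Let A be a Noetherian ring which is either a quotient of a regular Noetherian ring or universally
catenary and universally Japanese. Then for every prime q of A, writing B = A/q with fraction field
K, and every ideal J of B of height at least 2, the subring of K consisting of the elements lying in
B_p for every prime p of B not containing J (the ring of sections of the structure sheaf of Spec B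
over the open complement of V(J)) is a finite B-algebra (some B-subalgebra of K with exactly this
underlying set is a finitely generated B-module). -/
theorem result (A : Type u) [CommRing A] [IsNoetherianRing A]
    (hA : (∃ (R : Type u) (_ : CommRing R), IsNoetherianRing R ∧ IsRegularRing R ∧
        ∃ f : R →+* A, Function.Surjective f) ∨
      (CAlg.IsUniversallyCatenary A ∧ CAlg.IsUniversallyJapanese A))
    (q : Ideal A) [q.IsPrime] (J : Ideal (A ⧸ q)) (hJ2 : (2 : ℕ∞) ≤ J.height) :
    ∃ B' : Subalgebra (A ⧸ q) (FractionRing (A ⧸ q)),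
      (B' : Set (FractionRing (A ⧸ q))) =
          {x | ∀ (p : Ideal (A ⧸ q)) [p.IsPrime], ¬ J ≤ p →
            ∃ s : A ⧸ q, s ∉ p ∧ ∃ a : A ⧸ q,
              algebraMap (A ⧸ q) (FractionRing (A ⧸ q)) a = algebraMap (A ⧸ q) (FractionRing (A ⧸ q)) s * x} ∧
        Module.Finite (A ⧸ q) B' := by
  classical
  let B := A ⧸ q
  let K := FractionRing (A ⧸ q)
  let B' : Subalgebra (A ⧸ q) (FractionRing (A ⧸ q)) :=
    { carrier := {x | ∀ (p : Ideal (A ⧸ q)) [p.IsPrime], ¬ J ≤ p →
        ∃ s : A ⧸ q, s ∉ p ∧ ∃ a : A ⧸ q,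
          algebraMap (A ⧸ q) (FractionRing (A ⧸ q)) a =
            algebraMap (A ⧸ q) (FractionRing (A ⧸ q)) s * x}
      mul_mem' := fun {x y} hx hy p hp hJ => by
        obtain ⟨s, hs, a, ha⟩ := hx p hJ
        obtain ⟨t, ht, b, hb⟩ := hy p hJ
        exact ⟨s * t, fun h => (hp.mem_or_mem h).elim hs ht, a * b, by
          rw [map_mul, map_mul, ha, hb]; ring⟩
      add_mem' := fun {x y} hx hy p hp hJ => by
        obtain ⟨s, hs, a, ha⟩ := hx p hJ
        obtain ⟨t, ht, b, hb⟩ := hy p hJ
        exact ⟨s * t, fun h => (hp.mem_or_mem h).elim hs ht, a * t + b * s, by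
          simp only [map_add, map_mul, ha, hb]; ring⟩
      algebraMap_mem' := fun b p hp _ =>
        ⟨1, fun h => hp.ne_top ((Ideal.eq_top_iff_one p).mpr h), b, by simp⟩ }
  refine ⟨B', rfl, ?_⟩
  suffices h : Module.Finite (A ⧸ q) B'.toSubmodule from h
  have hB' : ∀ x ∈ B'.toSubmodule, ∀ (p : Ideal (A ⧸ q)) [p.IsPrime], ¬ J ≤ p →
      ∃ s, s ∉ p ∧ ∃ a, algebraMap (A ⧸ q) (FractionRing (A ⧸ q)) a =
        algebraMap (A ⧸ q) (FractionRing (A ⧸ q)) s * x :=
    fun x hx p _ hJ => hx p hJ
  rcases hA with ⟨R, _, _, _, f, hf⟩ | ⟨hUC, hUJ⟩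
  · let : Algebra R (A ⧸ q) := ((Ideal.Quotient.mk q).comp f).toAlgebra
    exact CohenStruct.finite_of_regular_quotient (R := R)
      (Ideal.Quotient.mk_surjective.comp hf) J hJ2 _ hB'
  · have hft : ∀ (S : Type u) [CommRing S] [Algebra (A ⧸ q) S],
        Algebra.FiniteType (A ⧸ q) S → CAlg.IsCatenary S := by
      intro S _ _ hS
      let : Algebra A S :=
        ((algebraMap (A ⧸ q) S).comp (Ideal.Quotient.mk q)).toAlgebra
      have : IsScalarTower A (A ⧸ q) S := .of_algebraMap_eq fun _ => rfl
      exact hUC.2 S (Algebra.FiniteType.trans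
        (inferInstance : Algebra.FiniteType A (A ⧸ q)) hS)
    have hN2 : CAlg.IsN2 (A ⧸ q) := hUJ (A ⧸ q) inferInstance
    have : Module.Finite (A ⧸ q) (integralClosure (A ⧸ q) (FractionRing (A ⧸ q))) :=
      hN2 (FractionRing (A ⧸ q)) inferInstance
    exact CohenStruct.finite_of_catenary hft J hJ2 _ hB'

end Groth.Agent.S4723
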