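import Groth.Statements.S4725
import Mathlib.Algebra.Colimit.Ring

set_option autoImplicit false
universe u
open EGA4

namespace Groth.Agent.S4725

/-- The direct limit of a nonempty directed system of commutative integral domains is an integral domain
(no injectivity of the transition maps is assumed). -/
theorem result (ι : Type u) [Preorder ι] [Nonempty ι] [IsDirectedOrder ι] (G : ι → Type u)
    [∀ i, CommRing (G i)] (f : ∀ i j, i ≤ j → G i →+* G j) [DirectedSystem G (fun i j h ↦ f i j h)]
    [∀ i, IsDomain (G i)] : IsDomain (Ring.DirectLimit G (fun i j h ↦ f i j h)) := by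
  have hzero : ∀ {i : ι} {x : G i}, Ring.DirectLimit.of G (fun i j h ↦ f i j h) i x = 0 →
      ∃ (j : ι) (hij : i ≤ j), f i j hij x = 0 := fun h => Ring.DirectLimit.of.zero_exact h
  haveI : Nontrivial (Ring.DirectLimit G (fun i j h ↦ f i j h)) := by
    refine ⟨⟨0, 1, fun h => ?_⟩⟩
    obtain ⟨j, hij, hj⟩ := hzero (i := Classical.arbitrary ι) (x := 1) (by rw [map_one]; exact h.symm)
    rw [map_one] at hj
    exact one_ne_zero hj
  haveI : NoZeroDivisors (Ring.DirectLimit G (fun i j h ↦ f i j h)) := by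
    refine ⟨fun {x y} hxy => ?_⟩
    obtain ⟨i, x, rfl⟩ := Ring.DirectLimit.exists_of x
    obtain ⟨j, y, rfl⟩ := Ring.DirectLimit.exists_of y
    obtain ⟨k, hik, hjk⟩ := exists_ge_ge i j
    rw [← Ring.DirectLimit.of_f hik x, ← Ring.DirectLimit.of_f hjk y] at hxy ⊢
    obtain ⟨l, hkl, hl⟩ := hzero ((map_mul _ _ _).trans hxy)
    rw [map_mul, mul_eq_zero] at hl
    refine hl.imp (fun hl => ?_) fun hl => ?_ <;>
      rw [← Ring.DirectLimit.of_f hkl, hl, map_zero]
  exact NoZeroDivisors.to_isDomain _

end Groth.Agent.S4725
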