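import Groth.Statements.S4728
import Groth.Agent.FlatAscent.Descent
import Mathlib.RingTheory.Ideal.KrullsHeightTheorem
-- import your own Groth.Agent.* helpers here

set_option autoImplicit false
universe u
open EGA4

namespace Groth.Agent.S4728

/-- Let A be a Noetherian local domain of dimension 1 with maximal ideal m, A' a Noetherian local ring
and A → A' a local homomorphism which is normal (flat, with geometrically normal fibres). Then the
ideal m A' of A' is prime and the local ring of A' at m A' has dimension 1. (The remaining clauses
of the published item, describing A' inside its total ring of fractions, are not restated.) -/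
theorem result (A A' : Type u) [CommRing A] [CommRing A']
    [IsNoetherianRing A] [IsNoetherianRing A'] [IsLocalRing A] [IsLocalRing A'] [IsDomain A]
    (hA : ringKrullDim A = 1) [Algebra A A'] [IsLocalHom (algebraMap A A')] (h : EGA4.IsNormalHom A A') :
    ((IsLocalRing.maximalIdeal A).map (algebraMap A A')).IsPrime ∧
      ((IsLocalRing.maximalIdeal A).map (algebraMap A A')).height = 1 := by
  have := h.1
  let mA := IsLocalRing.maximalIdeal A
  let q := IsLocalRing.maximalIdeal A'
  have hq : q.comap (algebraMap A A') = mA :=
    ((IsLocalRing.local_hom_TFAE (algebraMap A A')).out 0 4 rfl rfl).mp inferInstance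
  obtain ⟨Q, _, ⟨e⟩⟩ := Groth.Agent.FlatAscent.exists_fibre_prime (A := A) q
  let p := q.comap (algebraMap A A')
  have hn : EGA4.IsNormalRing (p.Fiber A') := by
    have h1 := h.2 p p.ResidueField inferInstance
    exact Groth.Agent.FlatAscent.isNormalRing_of_ringEquiv
      (Algebra.TensorProduct.lid p.ResidueField (p.Fiber A')).toRingEquiv h1
  have := (hn Q).1
  have hd : IsDomain (EGA4.FibLocRing A A' q) := e.symm.toMulEquiv.isDomain
  let eA : A' ≃ₐ[A'] Localization.AtPrime q :=
    IsLocalization.atUnits A' q.primeCompl (fun x hx => IsLocalRing.notMem_maximalIdeal.mp hx)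
  let eA' : A' ≃+* Localization.AtPrime q := eA.toRingEquiv
  have hmap : (q.comap (algebraMap A A')).map (algebraMap A (Localization.AtPrime q)) =
      (mA.map (algebraMap A A')).map (eA' : A' →+* Localization.AtPrime q) := by
    rw [hq, Ideal.map_map]
    congr 1
  have hprime : (mA.map (algebraMap A A')).IsPrime :=
    (Ideal.Quotient.isDomain_iff_prime _).mp
      (Ideal.quotientEquiv _ _ eA' hmap).toMulEquiv.isDomain
  refine ⟨hprime, ?_⟩
  have : (mA.map (algebraMap A A')).LiesOver mA := ⟨(IsLocalRing.maximalIdeal.isMaximal A).eq_of_le
    (Ideal.IsPrime.ne_top inferInstance) Ideal.le_comap_map⟩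
  have hf := Ideal.height_eq_height_add_of_liesOver_of_hasGoingDown mA (mA.map (algebraMap A A'))
  rw [hf, Ideal.map_quotient_self]
  have : IsDomain (A' ⧸ mA.map (algebraMap A A')) := (Ideal.Quotient.isDomain_iff_prime _).mpr hprime
  rw [Ideal.height_bot, add_zero]
  have h1 := IsLocalRing.maximalIdeal_height_eq_ringKrullDim (R := A)
  rw [hA] at h1
  exact_mod_cast h1

end Groth.Agent.S4728
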