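import Mathlib
import Groth.Statements.S4729
-- import your own Groth.Agent.* helpers here

set_option autoImplicit false
universe u
open EGA4

namespace Groth.Agent.S4729

/-- Let A be a commutative ring, M a finite A-module and p ⊆ q prime ideals of A (so that p is a
generization of q). Then the dimension of the A_p-module M_p is at most the dimension of the
A_q-module M_q. -/
theorem result (A : Type u) [CommRing A] (M : Type u) [AddCommGroup M] [Module A M]
    [Module.Finite A M] (p q : Ideal A) [p.IsPrime] [q.IsPrime] (hpq : p ≤ q) :
    Module.supportDim (Localization.AtPrime p) (LocalizedModule p.primeCompl M) ≤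
      Module.supportDim (Localization.AtPrime q) (LocalizedModule q.primeCompl M) := by
  set Ap := Localization.AtPrime p
  set Aq := Localization.AtPrime q
  have hu : ∀ y : q.primeCompl, IsUnit (algebraMap A Ap y) := fun y =>
    IsLocalization.map_units Ap (⟨y, fun h => y.2 (hpq h)⟩ : p.primeCompl)
  let f : Aq →+* Ap := IsLocalization.lift hu
  have hf : f.comp (algebraMap A Aq) = algebraMap A Ap := IsLocalization.lift_comp hu
  have hinj : Function.Injective (PrimeSpectrum.comap f) := fun P Q h => by
    apply PrimeSpectrum.localization_comap_injective Ap p.primeCompl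
    have := congrArg (PrimeSpectrum.comap (algebraMap A Aq)) h
    rwa [← PrimeSpectrum.comap_comp_apply, ← PrimeSpectrum.comap_comp_apply, hf] at this
  have hmem : ∀ P ∈ Module.support Ap (LocalizedModule p.primeCompl M),
      PrimeSpectrum.comap f P ∈ Module.support Aq (LocalizedModule q.primeCompl M) := by
    intro P hP
    rw [Module.mem_support_iff_exists_annihilator] at hP ⊢
    obtain ⟨z, hz⟩ := hP
    induction z using LocalizedModule.induction_on with
    | _ m s =>
      refine ⟨LocalizedModule.mk m 1, fun w hw => ?_⟩
      obtain ⟨a, t, rfl⟩ := IsLocalization.exists_mk'_eq q.primeCompl w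
      rw [Submodule.mem_annihilator_span_singleton] at hw
      rw [← Localization.mk_eq_mk', LocalizedModule.mk_smul_mk, mul_one, ← LocalizedModule.zero_mk t, LocalizedModule.mk_eq] at hw
      obtain ⟨u, hu'⟩ := hw
      simp only [smul_zero, Submonoid.smul_def, ← mul_smul] at hu'
      have h1 : algebraMap A Ap ((u : A) * (t : A) * a) ∈ P.asIdeal := hz (by
        rw [Submodule.mem_annihilator_span_singleton, ← Localization.mk_one_eq_algebraMap, LocalizedModule.mk_smul_mk, mul_assoc, hu', LocalizedModule.zero_mk])
      rw [map_mul] at h1
      have h2 := (P.isPrime.mem_or_mem h1).resolve_left fun h => P.isPrime.ne_top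
        (Ideal.eq_top_of_isUnit_mem _ h (by rw [map_mul]; exact (hu u).mul (hu t)))
      show f (IsLocalization.mk' Aq a t) ∈ P.asIdeal
      rw [IsLocalization.lift_mk']
      exact Ideal.mul_mem_right _ _ h2
  refine Order.krullDim_le_of_strictMono
    (fun P => (⟨PrimeSpectrum.comap f P.1, hmem P.1 P.2⟩ : Module.support Aq (LocalizedModule q.primeCompl M))) ?_
  intro P Q h
  refine lt_of_le_of_ne (show PrimeSpectrum.comap f P.1 ≤ PrimeSpectrum.comap f Q.1 from Ideal.comap_mono h.le) fun e => h.ne (Subtype.ext (hinj (congrArg Subtype.val e)))

end Groth.Agent.S4729
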