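import Groth.Statements.S4730
import Mathlib

set_option autoImplicit false
universe u
open EGA4

namespace Groth.Agent.S4730

section
attribute [local instance] Polynomial.algebra Polynomial.isLocalization
open Polynomial in
lemma height_eq_one (D : Type u) [CommRing D] [IsDomain D] (P : Ideal D[X]) [P.IsPrime] (h0 : P ≠ ⊥)
    (h1 : P.comap C = ⊥) : P.height = 1 := by
  let K := FractionRing D
  have disj : Disjoint ((nonZeroDivisors D).map C : Set D[X]) P := by
    refine Set.disjoint_left.mpr fun a ⟨b, hb, hab⟩ ha => ?_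
    have : b ∈ P.comap C := show C b ∈ P from hab.symm ▸ ha
    rw [h1] at this
    exact nonZeroDivisors.ne_zero hb this
  have hp : (P.map (algebraMap D[X] K[X])).IsPrime :=
    IsLocalization.isPrime_of_isPrime_disjoint ((nonZeroDivisors D).map C) _ _ ‹_› disj
  have hne : P.map (algebraMap D[X] K[X]) ≠ ⊥ := by
    intro h
    rw [Ideal.map_eq_bot_iff_of_injective] at h
    · exact h0 h
    · intro a b hab
      exact Polynomial.map_injective (algebraMap D K) (IsFractionRing.injective D K) hab
  rw [← IsLocalization.height_map_of_disjoint (S := K[X]) ((nonZeroDivisors D).map C) P disj]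
  haveI := hp.isMaximal hne
  exact IsPrincipalIdealRing.height_eq_one_of_isMaximal _ (Polynomial.not_isField K)
end

open Polynomial in
/-- Let A be a Noetherian ring, p a prime ideal of A and q a prime ideal of the polynomial ring A[T]
lying over p. Then ht(p) + 1 = ht(q) + deg.tr_{κ(p)} κ(q), the transcendence degree being that of
the domain A[T]/q over the domain A/p. -/
theorem result (A : Type u) [CommRing A] [IsNoetherianRing A]
    (p : Ideal A) [p.IsPrime] (q : Ideal A[X]) [q.IsPrime] [q.LiesOver p] :
    (p.height : Cardinal.{u}) + 1 = (q.height : Cardinal.{u}) + Algebra.trdeg (A ⧸ p) (A[X] ⧸ q) := by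
  let e : (A ⧸ p)[X] ≃+* A[X] ⧸ (p.map C : Ideal A[X]) := Ideal.polynomialQuotientEquivQuotientPolynomial p
  have hover : q.comap C = p := (Ideal.over_def q p).symm
  have hle : p.map C ≤ q := by rw [← hover]; exact Ideal.map_comap_le
  have hmk : ∀ a : A, algebraMap (A ⧸ p) (A[X] ⧸ q) (Ideal.Quotient.mk p a) = Ideal.Quotient.mk q (C a) :=
    fun a => rfl
  have hh := Ideal.height_eq_height_add_of_liesOver_of_hasGoingDown p q
  rw [Polynomial.algebraMap_eq] at hh
  by_cases hq : q = p.map C
  · have ht : Algebra.trdeg (A ⧸ p) (A[X] ⧸ q) = 1 := by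
      rw [← Polynomial.trdeg_of_isDomain (R := A ⧸ p)]
      refine (AlgEquiv.trdeg_eq (AlgEquiv.ofRingEquiv (f := e.trans (Ideal.quotEquivOfEq hq.symm)) ?_)).symm
      intro x
      obtain ⟨a, rfl⟩ := Ideal.Quotient.mk_surjective x
      rw [hmk]
      show Ideal.quotEquivOfEq hq.symm (e (C (Ideal.Quotient.mk p a))) = _
      rw [← Polynomial.map_C, Ideal.polynomialQuotientEquivQuotientPolynomial_map_mk, Ideal.quotEquivOfEq_mk]
    have h2 : (q.map (Ideal.Quotient.mk (p.map C : Ideal A[X]))).height = 0 := by
      haveI : IsDomain (A[X] ⧸ (p.map C : Ideal A[X])) := e.symm.toMulEquiv.isDomain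
      conv_lhs => rw [hq, Ideal.map_quotient_self, Ideal.height_bot]
    rw [ht, hh, h2, add_zero]
  · obtain ⟨g, hg, hgp⟩ := SetLike.exists_of_lt (lt_of_le_of_ne hle (Ne.symm hq))
    have hg0 : g.map (Ideal.Quotient.mk p) ≠ 0 := fun h => hgp (by
      rw [← Ideal.Quotient.eq_zero_iff_mem, ← Ideal.polynomialQuotientEquivQuotientPolynomial_map_mk, h, map_zero])
    have halg : IsAlgebraic (A ⧸ p) (Ideal.Quotient.mk q X) := by
      refine ⟨_, hg0, ?_⟩
      rw [aeval_def, eval₂_map]
      have : (algebraMap (A ⧸ p) (A[X] ⧸ q)).comp (Ideal.Quotient.mk p) = (Ideal.Quotient.mk q).comp C :=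
        RingHom.ext hmk
      rw [this, ← hom_eval₂, eval₂_C_X]
      exact Ideal.Quotient.eq_zero_iff_mem.2 hg
    haveI : Algebra.IsAlgebraic (A ⧸ p) (A[X] ⧸ q) := ⟨fun x => by
      obtain ⟨f, rfl⟩ := Ideal.Quotient.mk_surjective x
      rw [← Subalgebra.mem_algebraicClosure]
      induction f using Polynomial.induction_on with
      | C a => rw [← hmk]; exact Subalgebra.algebraMap_mem _ _
      | add f g hf hg => rw [map_add]; exact add_mem hf hg
      | monomial n a ih =>
        rw [pow_succ, ← mul_assoc, map_mul]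
        exact mul_mem ih halg⟩
    let Q : Ideal (A ⧸ p)[X] := q.map (Polynomial.mapRingHom (Ideal.Quotient.mk p))
    have hQ : q.map (Ideal.Quotient.mk (p.map C : Ideal A[X])) = Q.map e := by
      have hc : (Ideal.Quotient.mk (p.map C : Ideal A[X])) =
          (e : (A ⧸ p)[X] →+* A[X] ⧸ (p.map C : Ideal A[X])).comp (Polynomial.mapRingHom (Ideal.Quotient.mk p)) :=
        RingHom.ext fun f => (Ideal.polynomialQuotientEquivQuotientPolynomial_map_mk p f).symm
      exact (congrArg (fun φ : A[X] →+* A[X] ⧸ (p.map C : Ideal A[X]) => q.map φ) hc).trans (Ideal.map_map _ _).symm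
    have hker : RingHom.ker (Polynomial.mapRingHom (Ideal.Quotient.mk p)) ≤ q := by
      rw [Polynomial.ker_mapRingHom, Ideal.mk_ker]; exact hle
    haveI : Q.IsPrime := Ideal.map_isPrime_of_surjective (Polynomial.map_surjective _ Ideal.Quotient.mk_surjective) hker
    have hQ1 : Q.height = 1 := by
      refine height_eq_one (A ⧸ p) Q (fun h => hg0 ?_) (eq_bot_iff.2 fun x hx => ?_)
      · have : g.map (Ideal.Quotient.mk p) ∈ Q := Ideal.mem_map_of_mem _ hg
        rw [h] at this
        exact this
      · obtain ⟨a, rfl⟩ := Ideal.Quotient.mk_surjective x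
        have hx' : C a ∈ Q.comap (Polynomial.mapRingHom (Ideal.Quotient.mk p)) := by
          show Polynomial.map _ (C a) ∈ Q
          rw [Polynomial.map_C]; exact hx
        rw [Ideal.comap_map_of_surjective _ (Polynomial.map_surjective _ Ideal.Quotient.mk_surjective)] at hx'
        rw [Ideal.mem_bot, Ideal.Quotient.eq_zero_iff_mem, ← hover]
        exact (sup_le le_rfl hker) hx'
    rw [hh, hQ, e.height_map, hQ1, trdeg_eq_zero, add_zero]
    push_cast
    rfl

end Groth.Agent.S4730
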