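import Mathlib
import Groth.Statements.S4731
-- import your own Groth.Agent.* helpers here

set_option autoImplicit false
universe u
open EGA4

namespace Groth.Agent.S4731

/-- Let S → R be an injective homomorphism of commutative rings making R a finite S-module, with R
Noetherian; let c be the conductor of S in R, the ideal of those s in S with s R contained in (the
image of) S. If S/c is Noetherian, then every increasing sequence of ideals of S contained in c is
eventually constant. -/
theorem result (S R : Type u) [CommRing S] [CommRing R] [Algebra S R]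
    [FaithfulSMul S R] [IsNoetherianRing R] [Module.Finite S R] (c : Ideal S)
    (hc : ∀ s : S, s ∈ c ↔ ∀ r : R, ∃ s' : S, algebraMap S R s' = algebraMap S R s * r)
    [IsNoetherianRing (S ⧸ c)] (a : ℕ →o Ideal S) (ha : ∀ n, a n ≤ c) :
    ∃ N : ℕ, ∀ n, N ≤ n → a n = a N := by
  let e := Algebra.linearMap S R
  let J : ℕ →o Ideal R := ⟨fun n => (a n).map (algebraMap S R), fun i j h => Ideal.map_mono (a.2 h)⟩
  obtain ⟨N, hN⟩ := monotone_stabilizes_iff_noetherian.2 ‹IsNoetherianRing R› J
  let K : Submodule S R := (J N).restrictScalars S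
  let L : Submodule S K := (Submodule.map e (a N)).comap K.subtype
  haveI : Module.Finite S K := Module.Finite.iff_fg.2 ((IsNoetherian.noetherian (J N)).restrictScalars (R := S))
  have htor : ∀ (x : K ⧸ L) (s : c), (s : S) • x = 0 := by
    intro x s
    obtain ⟨⟨y, hy⟩, rfl⟩ := Submodule.Quotient.mk_surjective L x
    rw [← Submodule.Quotient.mk_smul, Submodule.Quotient.mk_eq_zero]
    show (s : S) • y ∈ Submodule.map e (a N)
    have hy' : y ∈ Ideal.map (algebraMap S R) (a N) := hy
    suffices H : ∀ z ∈ Ideal.map (algebraMap S R) (a N), ∀ s ∈ c, s • z ∈ Submodule.map e (a N) from H y hy' s s.2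
    intro z hz
    induction hz using Submodule.span_induction with
    | mem z hz =>
      obtain ⟨b, hb, rfl⟩ := hz
      exact fun s _ => ⟨s * b, (a N).mul_mem_left s hb, by simp [e, Algebra.smul_def]⟩
    | zero => intro s _; simp
    | add z w _ _ h h' => intro s hs; rw [smul_add]; exact add_mem (h s hs) (h' s hs)
    | smul r z _ h =>
      intro s hs
      obtain ⟨s', hs'⟩ := (hc s).1 hs r
      have hs'c : s' ∈ c := (hc s').2 fun r' => by
        obtain ⟨u, hu⟩ := (hc s).1 hs (r * r'); exact ⟨u, by rw [hu, hs', mul_assoc]⟩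
      have := h s' hs'c
      rwa [Algebra.smul_def, hs', mul_assoc, ← smul_eq_mul (a := r), ← Algebra.smul_def] at this
  letI : Module (S ⧸ c) (K ⧸ L) := Module.IsTorsionBySet.module (fun x s => htor x s)
  haveI : IsScalarTower S (S ⧸ c) (K ⧸ L) := Module.IsTorsionBySet.isScalarTower (fun x s => htor x s)
  haveI : Module.Finite (S ⧸ c) (K ⧸ L) := Module.Finite.of_restrictScalars_finite S _ _
  haveI : IsNoetherian S (K ⧸ L) := by
    rw [isNoetherian_def]
    intro T
    let T' : Submodule (S ⧸ c) (K ⧸ L) :=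
      { carrier := T, add_mem' := T.add_mem, zero_mem' := T.zero_mem,
        smul_mem' := fun q x hx => by obtain ⟨s, rfl⟩ := Ideal.Quotient.mk_surjective q; exact T.smul_mem s hx }
    obtain ⟨g, hg⟩ := IsNoetherian.noetherian T'
    refine ⟨g, le_antisymm (Submodule.span_le.2 fun x hx => (hg ▸ Submodule.subset_span hx : x ∈ T')) fun x hx => ?_⟩
    have : x ∈ Submodule.span (S ⧸ c) (g : Set (K ⧸ L)) := hg ▸ hx
    rwa [← Submodule.restrictScalars_mem S, Submodule.restrictScalars_span S (S ⧸ c) Ideal.Quotient.mk_surjective] at this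
  have hK : ∀ n (b : S), b ∈ a (N + n) → algebraMap S R b ∈ J N := fun n b hb => by
    rw [hN (N + n) (Nat.le_add_right _ _)]; exact Ideal.mem_map_of_mem _ hb
  let φ : ℕ →o Submodule S (K ⧸ L) := ⟨fun n => ((Submodule.map e (a (N + n))).comap K.subtype).map L.mkQ,
    fun i j h => Submodule.map_mono (Submodule.comap_mono (Submodule.map_mono (a.2 (by omega))))⟩
  obtain ⟨k, hk⟩ := monotone_stabilizes_iff_noetherian.2 ‹IsNoetherian S (K ⧸ L)› φ
  refine ⟨N + k, fun n hn => le_antisymm (fun b hb => ?_) (a.2 hn)⟩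
  obtain ⟨j, rfl⟩ : ∃ j, n = N + j := ⟨n - N, by omega⟩
  have hb' : L.mkQ ⟨algebraMap S R b, hK j b hb⟩ ∈ φ j := Submodule.mem_map_of_mem ⟨b, hb, rfl⟩
  rw [← hk j (by omega)] at hb'
  obtain ⟨⟨y, hy⟩, hy', hyb⟩ := hb'
  obtain ⟨b', hb'', he⟩ := hy'
  obtain ⟨d, hd, hde⟩ : ∃ d ∈ a N, e d = y - algebraMap S R b := (Submodule.Quotient.eq L).1 hyb
  have : b = b' - d := FaithfulSMul.algebraMap_injective S R (by
    simp only [e, Algebra.linearMap_apply] at he hde
    rw [map_sub, he, hde]; simp)
  rw [this]
  exact sub_mem hb'' (a.2 (Nat.le_add_right _ _) hd)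

end Groth.Agent.S4731
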