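import Groth.Statements.S4732
import Mathlib
-- import your own Groth.Agent.* helpers here

set_option autoImplicit false
universe u
open EGA4

namespace Groth.Agent.S4732

open AlgebraicGeometry CategoryTheory in
/-- Let k be a field, X a scheme locally of finite type over k and x a point of X. Then there are an
open neighbourhood U of x, a k-scheme Y all of whose local rings are regular, and an immersion U → Y
compatible with the structure morphisms to Spec k. -/
theorem result (k : Type u) [Field k] {X : Scheme.{u}}
    (f : X ⟶ Spec (CommRingCat.of k)) [LocallyOfFiniteType f] (x : X) :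
    ∃ (U : X.Opens) (_ : x ∈ U) (Y : Scheme.{u}) (g : Y ⟶ Spec (CommRingCat.of k)) (i : (U : Scheme.{u}) ⟶ Y),
      IsImmersion i ∧ i ≫ g = U.ι ≫ f ∧ ∀ y : Y, IsRegularLocalRing (Y.presheaf.stalk y) := by
  obtain ⟨U, hU, hxU, -⟩ := TopologicalSpace.Opens.isBasis_iff_nbhd.1 X.isBasis_affineOpens (TopologicalSpace.Opens.mem_top x)
  replace hU : IsAffineOpen U := hU
  let h := Scheme.Opens.ι U ≫ f
  obtain ⟨ψ, hψ⟩ := Spec.map_surjective (hU.isoSpec.inv ≫ h)
  have hft : ψ.hom.FiniteType := by
    rw [← HasRingHomProperty.Spec_iff (P := @LocallyOfFiniteType), hψ]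
    infer_instance
  algebraize [ψ.hom]
  obtain ⟨n, g, hg⟩ := Algebra.FiniteType.iff_quotient_mvPolynomial''.1 hft
  let R := CommRingCat.of (MvPolynomial (Fin n) k)
  refine ⟨U, hxU, Spec R, Spec.map (CommRingCat.ofHom (algebraMap k (MvPolynomial (Fin n) k))),
    hU.isoSpec.hom ≫ Spec.map (CommRingCat.ofHom g.toRingHom), ?_, ?_, ?_⟩
  · haveI : IsClosedImmersion (Spec.map (CommRingCat.ofHom g.toRingHom)) :=
      IsClosedImmersion.spec_of_surjective _ hg
    infer_instance
  · have e : Spec.map (CommRingCat.ofHom g.toRingHom) ≫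
        Spec.map (CommRingCat.ofHom (algebraMap k (MvPolynomial (Fin n) k))) = Spec.map ψ := by
      rw [← Spec.map_comp]
      congr 1
      ext1
      exact g.comp_algebraMap
    rw [Category.assoc, e, hψ, Iso.hom_inv_id_assoc]
  · intro y
    exact IsRegularLocalRing.of_ringEquiv
      (R := Localization.AtPrime (PrimeSpectrum.asIdeal y))
      (StructureSheaf.stalkIso R y).toRingEquiv

end Groth.Agent.S4732
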