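import Groth.Statements.S4733
import Groth.Agent.FlatAscent.FieldExt
import Groth.Agent.FlatSerre.Invariants
import Groth.Agent.J2Lib.Descent

set_option autoImplicit false
universe u
open EGA4

namespace Groth.Agent.S4733

open TensorProduct in
/-- For the property 'regular' (affine form): let k be a field, S a Noetherian k-algebra and k' an
extension field of k such that S is of finite type over k or k' is essentially of finite type over
k; let q' be a prime of S ⊗_k k' and q its contraction to S. If (S ⊗_k k')_{q'} is a regular local
ring then so is S_q; conversely, if k' is separable over k (geometrically reduced) and S_q is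
regular, then (S ⊗_k k')_{q'} is regular. -/
theorem result (k S k' : Type u) [Field k] [CommRing S] [Algebra k S]
    [IsNoetherianRing S] [Field k'] [Algebra k k'] (hft : Algebra.FiniteType k S ∨ Algebra.EssFiniteType k k')
    [IsNoetherianRing (S ⊗[k] k')] (q' : Ideal (S ⊗[k] k')) [q'.IsPrime] :
    (IsRegularLocalRing (Localization.AtPrime q') →
        IsRegularLocalRing (Localization.AtPrime (q'.comap (algebraMap S (S ⊗[k] k'))))) ∧
      (Algebra.IsGeometricallyReduced k k' →
        IsRegularLocalRing (Localization.AtPrime (q'.comap (algebraMap S (S ⊗[k] k')))) →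
          IsRegularLocalRing (Localization.AtPrime q')) := by
  refine ⟨fun h => ?_, fun hgr h => ?_⟩
  · obtain ⟨_, _, _, -⟩ := Groth.Agent.FlatAscent.exists_local_setting (A := S) q'
    haveI := h
    exact Groth.Agent.J2Lib.isRegularLocalRing_of_flat
      (Localization.AtPrime (q'.comap (algebraMap S (S ⊗[k] k')))) (Localization.AtPrime q')
  · have hS' : CAlg.IsGeometricallyRegular k k' := fun L _ _ _ => by
      haveI := hgr
      haveI : IsReduced (k' ⊗[k] L) := Groth.Agent.EGA41Lib.isReduced_tensor L
      haveI : IsArtinianRing (k' ⊗[k] L) := IsArtinianRing.of_finite k' _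
      haveI := Groth.Agent.FlatAscent.isRegularRing_of_isArtinianRing (k' ⊗[k] L)
      exact IsRegularRing.of_ringEquiv (R := k' ⊗[k] L) (Algebra.TensorProduct.comm k k' L).toRingEquiv
    let p := q'.comap (algebraMap S (S ⊗[k] k'))
    haveI := Groth.Agent.FlatSerre.isNoetherianRing_fiber (B := S ⊗[k] k') p
    haveI : IsNoetherianRing (p.ResidueField ⊗[k] k') := isNoetherianRing_of_ringEquiv _
      (Algebra.TensorProduct.cancelBaseChange k S p.ResidueField p.ResidueField k').toRingEquiv
    haveI := Groth.Agent.FlatAscent.isRegularRing_tensor_of_geometricallyRegular hS' p.ResidueField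
    haveI : IsRegularRing (p.Fiber (S ⊗[k] k')) := IsRegularRing.of_ringEquiv (R := p.ResidueField ⊗[k] k')
      (Algebra.TensorProduct.cancelBaseChange k S p.ResidueField p.ResidueField k').symm.toRingEquiv
    obtain ⟨Q, _, ⟨e⟩⟩ := Groth.Agent.FlatAscent.exists_fibre_prime (A := S) q'
    exact Groth.Agent.FlatAscent.isRegularLocalRing_atPrime q' h
      (IsRegularLocalRing.of_ringEquiv (R := Localization.AtPrime Q) e)

end Groth.Agent.S4733
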