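import Groth.Statements.S4734
import Groth.Agent.S2612
import Groth.Agent.S2683
import Groth.Agent.FlatSerre.Localize

set_option autoImplicit false
universe u
open EGA4

namespace Groth.Agent.S4734

open Groth.FlatDescent Groth.FlatDescent.NormallyFlat in
theorem isNormallyFlat_localization {A : Type u} [CommRing A] {I : Ideal A} {M : Type u} [AddCommGroup M] [Module A M]
    (hM : EGA4.IsNormallyFlat I M) (S : Submonoid A) :
    EGA4.IsNormallyFlat (I.map (algebraMap A (Localization S))) (LocalizedModule S M) := by
  intro n
  let D := A ⧸ I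
  haveI : Module.Flat D (Gr I M n) := hM n
  let As := Localization S
  let Ms := LocalizedModule S M
  let g := grMap I (LocalizedModule.mkLinearMap S M) n
  haveI hg : IsLocalizedModule S g := isLocalizedModule_grMap I _ _ n
  obtain ⟨ψ, hψ⟩ := Groth.Agent.S2683.exists_gr_equiv (Af := As) (N := Ms) I n
  let Db := As ⧸ I.map (algebraMap A As)
  let L := Gr (I.map (algebraMap A As)) Ms n
  letI : Algebra D Db := (Ideal.quotientMap (I.map (algebraMap A As)) (algebraMap A As) Ideal.le_comap_map).toAlgebra
  haveI : IsScalarTower A D Db := IsScalarTower.of_algebraMap_eq fun _ => rfl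
  haveI hDb : IsLocalization (S.map (Ideal.Quotient.mk I)) Db :=
    IsLocalization.of_surjective S As (Ideal.Quotient.mk I) Ideal.Quotient.mk_surjective
      (Ideal.Quotient.mk (I.map (algebraMap A As))) Ideal.Quotient.mk_surjective rfl (by rw [Ideal.mk_ker, Ideal.mk_ker])
  letI : Module D L := Module.compHom L (algebraMap D Db)
  haveI : IsScalarTower D Db L := IsScalarTower.of_algebraMap_smul fun _ _ => rfl
  haveI : IsScalarTower A D L := IsScalarTower.of_algebraMap_smul fun a x => by
    show algebraMap D Db (algebraMap A D a) • x = a • x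
    rw [← IsScalarTower.algebraMap_apply A D Db, IsScalarTower.algebraMap_apply A As Db, algebraMap_smul, algebraMap_smul]
  let G : Gr I M n →ₗ[D] L := (ψ.comp g).extendScalarsOfSurjective Ideal.Quotient.mk_surjective
  haveI : IsLocalizedModule S (ψ.comp g) :=
    IsLocalizedModule.of_linearEquiv S g (LinearEquiv.ofBijective ψ hψ)
  haveI : IsLocalizedModule (S.map (Ideal.Quotient.mk I)) G := by
    refine ⟨fun s => ?_, fun y => ?_, fun {x₁ x₂} hx => ?_⟩
    · obtain ⟨t, ht, hts⟩ := s.2
      rw [Module.End.isUnit_iff]
      convert (Module.End.isUnit_iff _).mp (IsLocalizedModule.map_units (ψ.comp g) ⟨t, ht⟩) using 1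
      funext z
      show (s : D) • z = t • z
      rw [← hts]
      exact algebraMap_smul D t z
    · obtain ⟨⟨x, t⟩, hx⟩ := IsLocalizedModule.surj S (ψ.comp g) y
      exact ⟨⟨x, ⟨Ideal.Quotient.mk I t, t, t.2, rfl⟩⟩, (algebraMap_smul D (t : A) y).trans hx⟩
    · obtain ⟨c, hc⟩ := IsLocalizedModule.exists_of_eq (S := S) (f := ψ.comp g) hx
      exact ⟨⟨Ideal.Quotient.mk I c, c, c.2, rfl⟩,
        (algebraMap_smul D (c : A) x₁).trans (hc.trans (algebraMap_smul D (c : A) x₂).symm)⟩
  exact Module.Flat.of_isLocalizedModule (S.map (Ideal.Quotient.mk I)) (Rp := Db) G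

/-- Let A be a Noetherian ring, I a nilpotent ideal of A and M a finite A-module whose support is all of
Spec A and which is normally flat along I. Then for every prime p of A: M satisfies Serre's
condition (S_n) at p if and only if the A-module A/I does; and the codepth of M_p is at most n if
and only if the codepth of the A_p-module (A/I)_p is at most n (codepth written additively as dim ≤
depth + n). -/
theorem result (n : ℕ) (A : Type u) [CommRing A] [IsNoetherianRing A]
    (I : Ideal A) (hI : IsNilpotent I) (M : Type u) [AddCommGroup M] [Module A M] [Module.Finite A M]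
    (hsupp : Module.support A M = Set.univ) (hM : EGA4.IsNormallyFlat I M) (p : Ideal A) [p.IsPrime] :
    (EGA4.HasSkAt n A M p ↔ EGA4.HasSkAt n A (A ⧸ I) p) ∧
      (Module.supportDim (Localization.AtPrime p) (LocalizedModule p.primeCompl M) ≤
          ((LocCoh.depth (Localization.AtPrime p) (LocalizedModule p.primeCompl M) : ℕ∞) : WithBot ℕ∞) + n ↔
        Module.supportDim (Localization.AtPrime p) (LocalizedModule p.primeCompl (A ⧸ I)) ≤
          ((LocCoh.depth (Localization.AtPrime p) (LocalizedModule p.primeCompl (A ⧸ I)) : ℕ∞) : WithBot ℕ∞) + n) := by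
  have key : ∀ (P : Ideal A) [P.IsPrime],
      Module.supportDim (Localization.AtPrime P) (LocalizedModule P.primeCompl M) =
          Module.supportDim (Localization.AtPrime P) (LocalizedModule P.primeCompl (A ⧸ I)) ∧
        LocCoh.depth (Localization.AtPrime P) (LocalizedModule P.primeCompl M) =
          LocCoh.depth (Localization.AtPrime P) (LocalizedModule P.primeCompl (A ⧸ I)) := by
    intro P _
    haveI : Nontrivial (LocalizedModule P.primeCompl M) :=
      Module.mem_support_iff.mp (hsupp ▸ Set.mem_univ _ : (⟨P, inferInstance⟩ : PrimeSpectrum A) ∈ _)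
    haveI : Module.Finite (Localization.AtPrime P) (LocalizedModule P.primeCompl M) :=
      Module.Finite.of_isLocalizedModule P.primeCompl (LocalizedModule.mkLinearMap P.primeCompl M)
    obtain ⟨e1, e2⟩ := Groth.Agent.S2612.result (Localization.AtPrime P) (I.map (algebraMap A (Localization.AtPrime P)))
      (by obtain ⟨k, hk⟩ := hI; exact ⟨k, by rw [← Ideal.map_pow, hk]; exact Ideal.map_bot⟩)
      (LocalizedModule P.primeCompl M) (isNormallyFlat_localization hM P.primeCompl)
    obtain ⟨E⟩ := Groth.Agent.OpenLoci.exists_localizedQuotient I P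
    rw [e1, e2, Module.supportDim_eq_of_equiv E, Groth.Agent.DepthLib.depth_congr E,
      Module.supportDim_quotient_eq_ringKrullDim]
    exact ⟨rfl, rfl⟩
  refine ⟨?_, ?_⟩
  · rw [Groth.Agent.FlatSerre.hasSkAt_iff, Groth.Agent.FlatSerre.hasSkAt_iff]
    refine forall_congr' fun P => forall_congr' fun hP => forall_congr' fun _ => ?_
    rw [(key P).1, (key P).2]
  · rw [(key p).1, (key p).2]

end Groth.Agent.S4734
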