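import Groth.Statements.S4739
import Groth.Agent.GRing17.HenselCpl
import Groth.Agent.GRingLib.Transport
import Mathlib.RingTheory.AdicCompletion.LocalRing

set_option autoImplicit false
universe u
open EGA4

namespace Groth.Agent.S4739

open TensorProduct in
/-- Let A → B be a local homomorphism of Noetherian local rings and Â the completion of A, and suppose
B' = B ⊗_A Â is Noetherian. Then for every prime ideal n' of B' lying over the maximal ideal of B
and containing the image of the maximal ideal of A through Â (that is, lying over the maximal ideal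
m_A Â of Â), the completion of B and the completion of the local ring B'_{n'} are isomorphic
(existence of a ring isomorphism only). -/
theorem result (A B : Type u) [CommRing A] [CommRing B] [IsNoetherianRing A]
    [IsNoetherianRing B] [IsLocalRing A] [IsLocalRing B] [Algebra A B] [IsLocalHom (algebraMap A B)]
    [IsNoetherianRing (B ⊗[A] EGA4.Cpl A)] (n' : Ideal (B ⊗[A] EGA4.Cpl A)) [n'.IsPrime]
    (h1 : n'.comap (algebraMap B (B ⊗[A] EGA4.Cpl A)) = IsLocalRing.maximalIdeal B)
    (h2 : (IsLocalRing.maximalIdeal A).map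
        ((Algebra.TensorProduct.includeRight.toRingHom : EGA4.Cpl A →+* B ⊗[A] EGA4.Cpl A).comp
          (algebraMap A (EGA4.Cpl A))) ≤ n') :
    Nonempty (EGA4.Cpl B ≃+* EGA4.Cpl (Localization.AtPrime n')) := by
  classical
  let Ah := EGA4.Cpl A
  let B' := B ⊗[A] Ah
  let mA := IsLocalRing.maximalIdeal A
  let mB := IsLocalRing.maximalIdeal B
  let ι := algebraMap A Ah
  have hAB : mA.map (algebraMap A B) ≤ mB := ((IsLocalRing.local_hom_TFAE (algebraMap A B)).out 0 2).mp ‹IsLocalHom (algebraMap A B)›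
  have h1z : ∀ z : Ah, ∃ a, z - ι a ∈ mA.map ι := fun z => by
    obtain ⟨a, ha⟩ := Ideal.Quotient.mk_surjective (AdicCompletion.evalOneₐ mA z)
    refine ⟨a, ?_⟩
    rw [← AdicCompletion.ker_evalOneₐ_eq_map mA (IsNoetherian.noetherian _), RingHom.mem_ker]
    show (AdicCompletion.evalOneₐ mA) (z - ι a) = 0
    rw [map_sub, AlgHom.commutes, ← ha]
    exact sub_self _
  have happ : ∀ (k : ℕ) (z : Ah), ∃ a, z - ι a ∈ (mA ^ k).map ι := by
    intro k
    induction k with
    | zero => exact fun z => ⟨0, by rw [pow_zero, Ideal.one_eq_top, Ideal.map_top]; trivial⟩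
    | succ k ih =>
      intro z
      obtain ⟨a, ha⟩ := ih z
      suffices h : ∀ w ∈ (mA ^ k).map ι, ∃ b, w - ι b ∈ (mA ^ (k + 1)).map ι by
        obtain ⟨b, hb⟩ := h _ ha
        exact ⟨a + b, by rw [map_add, ← sub_sub]; exact hb⟩
      intro w hw
      suffices ∃ b ∈ mA ^ k, w - ι b ∈ (mA ^ (k + 1)).map ι from ⟨this.choose, this.choose_spec.2⟩
      induction hw using Submodule.span_induction with
      | mem w hw => obtain ⟨b, hb, rfl⟩ := hw; exact ⟨b, hb, by simp⟩
      | zero => exact ⟨0, zero_mem _, by simp⟩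
      | add u v _ _ hu hv =>
        obtain ⟨b, hb, hu⟩ := hu
        obtain ⟨c, hc, hv⟩ := hv
        exact ⟨b + c, add_mem hb hc, by rw [map_add, add_sub_add_comm]; exact add_mem hu hv⟩
      | smul r u hu' hu =>
        obtain ⟨b, hb, hu⟩ := hu
        obtain ⟨c, hc⟩ := h1z r
        refine ⟨c * b, Ideal.mul_mem_left _ _ hb, ?_⟩
        rw [smul_eq_mul, map_mul, show r * u - ι c * ι b = (r - ι c) * u + ι c * (u - ι b) by ring]
        refine add_mem ?_ (Ideal.mul_mem_left _ _ hu)
        rw [pow_succ', Ideal.map_mul]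
        exact Ideal.mul_mem_mul hc hu'
  have hlev : ∀ k, Function.Bijective
      (Ideal.quotientMap ((mB ^ k).map (algebraMap B B')) (algebraMap B B') Ideal.le_comap_map) := by
    intro k
    have hmA : mA ^ k ≤ (mB ^ k).comap (algebraMap A B) := Ideal.map_le_iff_le_comap.mp
      (by rw [Ideal.map_pow]; exact Ideal.pow_right_mono hAB k)
    let χ : Ah →ₐ[A] B ⧸ mB ^ k :=
      (Ideal.Quotient.liftₐ (mA ^ k) ((Ideal.Quotient.mkₐ A (mB ^ k)).comp (Algebra.ofId A B)) fun x hx =>
        Ideal.Quotient.eq_zero_iff_mem.mpr (hmA hx)).comp (AdicCompletion.evalₐ mA k)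
    let ρ : B' →ₐ[A] B ⧸ mB ^ k :=
      Algebra.TensorProduct.lift (Ideal.Quotient.mkₐ A (mB ^ k)) χ fun _ _ => .all _ _
    have hρ : (mB ^ k).map (algebraMap B B') ≤ RingHom.ker ρ.toRingHom :=
      Ideal.map_le_iff_le_comap.mpr fun b hb => by
        rw [Ideal.mem_comap, RingHom.mem_ker]
        show ρ (b ⊗ₜ 1) = 0
        rw [Algebra.TensorProduct.lift_tmul, map_one, mul_one]
        exact Ideal.Quotient.eq_zero_iff_mem.mpr hb
    refine ⟨Ideal.quotientMap_injective' fun b hb => ?_, fun y => ?_⟩
    · have h := RingHom.mem_ker.mp (hρ hb)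
      change ρ (b ⊗ₜ 1) = 0 at h
      rw [Algebra.TensorProduct.lift_tmul, map_one, mul_one] at h
      exact Ideal.Quotient.eq_zero_iff_mem.mp h
    · obtain ⟨y, rfl⟩ := Ideal.Quotient.mk_surjective y
      suffices ∃ b, algebraMap B B' b - y ∈ (mB ^ k).map (algebraMap B B') by
        obtain ⟨b, hb⟩ := this
        exact ⟨Ideal.Quotient.mk _ b, by rw [Ideal.quotientMap_mk, Ideal.Quotient.eq]; exact hb⟩
      induction y using TensorProduct.induction_on with
      | zero => exact ⟨0, by simp⟩
      | add u v hu hv =>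
        obtain ⟨b, hb⟩ := hu
        obtain ⟨c, hc⟩ := hv
        exact ⟨b + c, by rw [map_add, add_sub_add_comm]; exact add_mem hb hc⟩
      | tmul b z =>
        obtain ⟨a, ha⟩ := happ k z
        refine ⟨algebraMap A B a * b, ?_⟩
        have hsub : (mA ^ k).map ι ≤ ((mB ^ k).map (algebraMap B B')).comap
            (Algebra.TensorProduct.includeRight.toRingHom : Ah →+* B') := by
          rw [Ideal.map_le_iff_le_comap]
          intro x hx
          rw [Ideal.mem_comap, Ideal.mem_comap]
          show Algebra.TensorProduct.includeRight (R := A) (A := B) (algebraMap A Ah x) ∈ _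
          rw [AlgHom.commutes, IsScalarTower.algebraMap_apply A B B']
          exact Ideal.mem_map_of_mem _ (hmA hx)
        have e : algebraMap B B' (algebraMap A B a * b) - b ⊗ₜ[A] z =
            -((b ⊗ₜ[A] 1) * (1 ⊗ₜ[A] (z - ι a))) := by
          rw [Algebra.TensorProduct.tmul_mul_tmul, mul_one, one_mul, TensorProduct.tmul_sub, neg_sub]
          congr 1
          show (algebraMap A B a * b) ⊗ₜ[A] (1 : Ah) = b ⊗ₜ[A] algebraMap A Ah a
          rw [← Algebra.smul_def, TensorProduct.smul_tmul, Algebra.algebraMap_eq_smul_one]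
        rw [e]
        exact neg_mem (Ideal.mul_mem_left _ _ (hsub ha))
  have hIn : mB.map (algebraMap B B') ≤ n' := Ideal.map_le_iff_le_comap.mpr h1.ge
  have hmax : n'.IsMaximal := by
    refine Ideal.Quotient.maximal_of_isField _ ?_
    let g : B ⧸ mB →+* B' ⧸ n' := Ideal.Quotient.lift mB ((Ideal.Quotient.mk n').comp (algebraMap B B'))
      fun x hx => Ideal.Quotient.eq_zero_iff_mem.mpr (hIn (Ideal.mem_map_of_mem _ hx))
    have hbij : Function.Bijective g := by
      refine ⟨?_, fun y => ?_⟩
      · letI := Ideal.Quotient.field mB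
        exact RingHom.injective _
      · obtain ⟨y, rfl⟩ := Ideal.Quotient.mk_surjective y
        obtain ⟨b, hb⟩ := (hlev 1).2 (Ideal.Quotient.mk _ y)
        obtain ⟨b, rfl⟩ := Ideal.Quotient.mk_surjective b
        rw [Ideal.quotientMap_mk, Ideal.Quotient.eq] at hb
        exact ⟨Ideal.Quotient.mk _ b, Ideal.Quotient.eq.mpr (hIn (by rwa [pow_one] at hb))⟩
    letI := Ideal.Quotient.field mB
    exact (RingEquiv.ofBijective _ hbij).symm.toMulEquiv.isField (Field.toIsField _)
  obtain ⟨m, hm, ⟨e⟩⟩ := GRing17.exists_cpl_equiv_of_levels mB hlev n' hIn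
  obtain rfl : m = mB := IsLocalRing.eq_maximalIdeal hm
  let f : B ≃+* Localization.AtPrime mB :=
    (IsLocalization.atUnits B mB.primeCompl fun x hx => IsLocalRing.notMem_maximalIdeal.mp hx).toRingEquiv
  exact ⟨(GRingLib.cequiv mB _ f (IsLocalRing.map_maximalIdeal_of_surjective f.toRingHom f.surjective)).trans e.toRingEquiv⟩

end Groth.Agent.S4739
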