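import Groth.Statements.S4740
import Groth.Agent.CTensorSemilocal.Basic

set_option autoImplicit false
universe u
attribute [local instance] Algebra.TensorProduct.rightAlgebra
open EGA4

namespace Groth.Agent.S4740

open TensorProduct in
/-- Let k be a field and A, B complete Noetherian local rings containing k, the residue field of A being
a finite extension of k; let C be the completed tensor product of A and B over k (the completion of
A ⊗_k B at the ideal m_A ⊗ B + A ⊗ m_B). Then (i) C is Noetherian with finitely many maximal ideals;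
(ii) C is flat over A and over B; (iii) m_A C is contained in the Jacobson radical of C and C/m_A C
is isomorphic to (A/m_A) ⊗_k B; (iv) the residue field of C at each of its maximal ideals is a
finite B-module. (Completeness of C, also asserted in the published item, is not restated; the
isomorphism in (iii) is asserted to exist only.) -/
theorem result (k A B : Type u) [Field k] [CommRing A] [CommRing B] [Algebra k A] [Algebra k B]
    [IsNoetherianRing A] [IsNoetherianRing B] [IsLocalRing A] [IsLocalRing B]
    [IsAdicComplete (IsLocalRing.maximalIdeal A) A] [IsAdicComplete (IsLocalRing.maximalIdeal B) B]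
    [Module.Finite k (IsLocalRing.ResidueField A)] :
    (IsNoetherianRing (EGA4.CTensor k A B) ∧ (Set.univ : Set (MaximalSpectrum (EGA4.CTensor k A B))).Finite) ∧
      (Module.Flat A (EGA4.CTensor k A B) ∧ Module.Flat B (EGA4.CTensor k A B)) ∧
      ((IsLocalRing.maximalIdeal A).map (algebraMap A (EGA4.CTensor k A B)) ≤ (⊥ : Ideal (EGA4.CTensor k A B)).jacobson ∧
        Nonempty ((EGA4.CTensor k A B ⧸ (IsLocalRing.maximalIdeal A).map (algebraMap A (EGA4.CTensor k A B))) ≃+*
          ((A ⧸ IsLocalRing.maximalIdeal A) ⊗[k] B))) ∧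
      (∀ (M : Ideal (EGA4.CTensor k A B)) [M.IsMaximal], Module.Finite B (EGA4.CTensor k A B ⧸ M)) := by
  have hD : IsAdicComplete (CTensorSemilocal.idealD k A B ⊔
      (IsLocalRing.maximalIdeal B).map (algebraMap B (CTensorSemilocal.Cpl k A B)))
      (CTensorSemilocal.Cpl k A B) := CTensorSemilocal.isAdicComplete_sup_idealD k A B
  set L := CTensorSemilocal.idealD k A B ⊔
    (IsLocalRing.maximalIdeal B).map (algebraMap B (CTensorSemilocal.Cpl k A B)) with hLdef
  set f : (A ⊗[k] B) →+* CTensorSemilocal.Cpl k A B := algebraMap _ _ with hf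
  have hJ : (EGA4.cTensorIdeal k A B).map f = L := by
    rw [hLdef, EGA4.cTensorIdeal, Ideal.map_sup]
    congr 1
    rw [IsScalarTower.algebraMap_eq B (A ⊗[k] B) (CTensorSemilocal.Cpl k A B), ← Ideal.map_map]
    rfl
  have hPJ : CTensorSemilocal.idealA k A B ≤ EGA4.cTensorIdeal k A B := le_sup_left
  have h2 : ∀ n d, ∃ s, d - f s ∈ L ^ n := fun n d => by
    obtain ⟨s, hs⟩ := CTensorSemilocal.exists_sub_mem n d
    exact ⟨s, Ideal.pow_right_mono le_sup_left n hs⟩
  have h1 : ∀ n s, f s ∈ L ^ n ↔ s ∈ EGA4.cTensorIdeal k A B ^ n := by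
    intro n s
    rw [← hJ, ← Ideal.map_pow]
    refine ⟨fun h => ?_, Ideal.mem_map_of_mem f⟩
    -- modulo `P ^ n` the map is an isomorphism
    obtain ⟨e⟩ := CTensorSemilocal.exists_levelEquiv k A B n
    have hc : ∀ t, e (Ideal.Quotient.mk _ t) = Ideal.Quotient.mk _ (f t) := fun t => e.commutes t
    have h' := Ideal.mem_map_of_mem (Ideal.Quotient.mk (CTensorSemilocal.idealD k A B ^ n)) h
    rw [Ideal.map_map] at h'
    have h'' := Ideal.mem_map_of_mem e.symm.toRingEquiv.toRingHom h'
    rw [Ideal.map_map, ← hc] at h''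
    have hcomp : e.symm.toRingEquiv.toRingHom.comp ((Ideal.Quotient.mk (CTensorSemilocal.idealD k A B ^ n)).comp f)
        = Ideal.Quotient.mk (CTensorSemilocal.idealA k A B ^ n) := RingHom.ext fun t => by
      show e.symm (Ideal.Quotient.mk _ (f t)) = _
      rw [← hc, e.symm_apply_apply]
    have hes : e.symm.toRingEquiv.toRingHom (e (Ideal.Quotient.mk _ s)) = Ideal.Quotient.mk _ s :=
      e.symm_apply_apply _
    rw [hcomp, hes, ← Ideal.mem_comap, Ideal.comap_map_of_surjective _ Ideal.Quotient.mk_surjective,
      ← RingHom.ker_eq_comap_bot, Ideal.mk_ker, sup_eq_left.2 (Ideal.pow_right_mono hPJ n)] at h''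
    exact h''
  obtain ⟨e, he⟩ := CTensorSemilocal.exists_equiv_of_levels (EGA4.cTensorIdeal k A B) L f h1 h2
  have heA : ∀ a, e (algebraMap A (EGA4.CTensor k A B) a) = algebraMap A _ a := fun a => by
    rw [IsScalarTower.algebraMap_apply A (A ⊗[k] B) (EGA4.CTensor k A B), he,
      IsScalarTower.algebraMap_apply A (A ⊗[k] B) (CTensorSemilocal.Cpl k A B)]
  have heB : ∀ b, e (algebraMap B (EGA4.CTensor k A B) b) = algebraMap B _ b := fun b => by
    rw [IsScalarTower.algebraMap_apply B (A ⊗[k] B) (EGA4.CTensor k A B), he,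
      IsScalarTower.algebraMap_apply B (A ⊗[k] B) (CTensorSemilocal.Cpl k A B)]
  let eA := AlgEquiv.ofRingEquiv (f := e) heA
  let eB := AlgEquiv.ofRingEquiv (f := e) heB
  have hmap : ((IsLocalRing.maximalIdeal A).map (algebraMap A (EGA4.CTensor k A B))).map e.toRingHom =
      CTensorSemilocal.idealD k A B := by
    rw [Ideal.map_map, ← CTensorSemilocal.map_maximalIdeal_eq]
    congr 1
    exact RingHom.ext heA
  refine ⟨⟨?_, ?_⟩, ⟨?_, ?_⟩, ⟨?_, ?_⟩, ?_⟩
  · have := CTensorSemilocal.isNoetherianRing k A B
    exact isNoetherianRing_of_ringEquiv _ e.symm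
  · have := CTensorSemilocal.finite_maximalSpectrum k A B
    have : Finite (MaximalSpectrum (EGA4.CTensor k A B)) := by
      refine Finite.of_injective (fun M : MaximalSpectrum (EGA4.CTensor k A B) =>
        (⟨M.asIdeal.comap e.symm.toRingHom, have := M.isMaximal; Ideal.comap_isMaximal_of_surjective _
          e.symm.surjective⟩ : MaximalSpectrum (CTensorSemilocal.Cpl k A B)))
        fun M N h => MaximalSpectrum.ext ?_
      exact Ideal.comap_injective_of_surjective _ e.symm.surjective (congrArg MaximalSpectrum.asIdeal h)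
    exact Set.finite_univ
  · have := CTensorSemilocal.flat_left k A B
    exact Module.Flat.of_linearEquiv eA.toLinearEquiv
  · have := CTensorSemilocal.flat_right k A B
    exact Module.Flat.of_linearEquiv eB.toLinearEquiv
  · have := CTensorSemilocal.isAdicComplete_idealD k A B
    rw [← Ideal.comap_map_of_bijective e.toRingHom e.bijective
      (I := (IsLocalRing.maximalIdeal A).map (algebraMap A (EGA4.CTensor k A B))), hmap]
    have hj : (⊥ : Ideal (EGA4.CTensor k A B)).jacobson =
        (⊥ : Ideal (CTensorSemilocal.Cpl k A B)).jacobson.comap e.toRingHom := by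
      rw [Ideal.comap_jacobson_of_surjective e.surjective, Ideal.comap_bot_of_injective e.toRingHom e.injective]
    rw [hj]
    exact Ideal.comap_mono (IsAdicComplete.le_jacobson_bot _)
  · obtain ⟨g⟩ := CTensorSemilocal.exists_fibreEquiv k A B
    exact ⟨(Ideal.quotientEquiv _ _ e hmap.symm).trans g⟩
  · intro M hM
    have : (M.map e.toRingHom).IsMaximal := Ideal.IsMaximal.map_of_surjective_of_ker_le e.surjective
      (by rw [(RingHom.injective_iff_ker_eq_bot _).1 e.injective]; exact bot_le)
    have := CTensorSemilocal.finite_quotient_of_isMaximal k A B (M.map e.toRingHom)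
    exact Module.Finite.equiv (Ideal.quotientEquivAlg M (M.map e.toRingHom) eB rfl).symm.toLinearEquiv

end Groth.Agent.S4740
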