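import Groth.Statements.S4741
import Groth.Agent.S3447
import Groth.Agent.J2Lib.Descent

set_option autoImplicit false
universe u
open EGA4

namespace Groth.Agent.S4741

open AlgebraicGeometry CategoryTheory

theorem exists_maximal_point (W : Scheme.{u}) [Nonempty W] : ∃ w : W, ringKrullDim (W.presheaf.stalk w) ≤ 0 := by
  obtain ⟨w₀⟩ := ‹Nonempty W›
  obtain ⟨w, hw⟩ := QuasiSober.sober (isIrreducible_irreducibleComponent (x := w₀)) isClosed_irreducibleComponent
  refine ⟨w, ?_⟩
  have hmax : ∀ z : W, z ⤳ w → z = w := fun z hz => by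
    have h1 : irreducibleComponent w₀ ⊆ closure {z} := by
      rw [← hw.def]
      exact hz.closure_subset
    exact ((IsGenericPoint.def (isGenericPoint_closure (x := z))).trans
      (eq_irreducibleComponent isIrreducible_singleton.closure.isPreirreducible h1) |> fun e =>
        (show IsGenericPoint z (irreducibleComponent w₀) from e).eq hw)
  haveI : Subsingleton (PrimeSpectrum (W.presheaf.stalk w)) := ⟨fun a b => by
    have h : ∀ c : Spec (W.presheaf.stalk w), W.fromSpecStalk w c = w := fun c => hmax _
      ((Scheme.range_fromSpecStalk (X := W) (x := w)).le ⟨c, rfl⟩)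
    exact (W.fromSpecStalk w).isEmbedding.injective ((h a).trans (h b).symm)⟩
  exact Order.krullDim_nonpos_of_subsingleton

/-- Suppose X and Y are locally Noetherian schemes, f : X → Y is a morphism that is surjective, and Z is
a closed subset of Y. Then codim(f⁻¹(Z), X) ≤ codim(Z, Y), where the codimension of a closed subset
means the infimum over its points of the dimensions of the local rings there; when f is in addition
flat, these two codimensions coincide. (In the published version the equality part assumes f
quasi-flat; here f is taken to be flat.) -/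
theorem result {X Y : Scheme.{u}} (f : X ⟶ Y) [IsLocallyNoetherian X]
    [IsLocallyNoetherian Y] (hf : Function.Surjective f.base) (Z : Set Y) (hZ : IsClosed Z) :
    (⨅ x ∈ f.base ⁻¹' Z, ringKrullDim (X.presheaf.stalk x)) ≤ ⨅ y ∈ Z, ringKrullDim (Y.presheaf.stalk y) ∧
      (Flat f → (⨅ x ∈ f.base ⁻¹' Z, ringKrullDim (X.presheaf.stalk x)) = ⨅ y ∈ Z, ringKrullDim (Y.presheaf.stalk y)) := by
  refine ⟨le_iInf₂ fun y hy => ?_, fun hflat => le_antisymm (le_iInf₂ fun y hy => ?_) (le_iInf₂ fun x hx => ?_)⟩
  rotate_left
  rotate_left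
  · refine (iInf₂_le (f.base x) hx).trans ?_
    haveI := hflat
    algebraize [(f.stalkMap x).hom]
    haveI : IsLocalHom (algebraMap (Y.presheaf.stalk (f.base x)) (X.presheaf.stalk x)) :=
      inferInstanceAs (IsLocalHom (f.stalkMap x).hom)
    haveI : Module.Flat (Y.presheaf.stalk (f.base x)) (X.presheaf.stalk x) := Flat.stalkMap f x
    exact Groth.Agent.J2Lib.ringKrullDim_le_of_flat _ _
  all_goals
    obtain ⟨x₀, hx₀⟩ := hf y
    subst hx₀
    haveI : Nonempty (f.fiber (f x₀)) := ⟨f.asFiber x₀⟩
    obtain ⟨w, hw⟩ := exists_maximal_point (f.fiber (f x₀))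
    have hfw : f.base (f.fiberι (f x₀) w) = f x₀ := (f.range_fiberι (f x₀)).le ⟨w, rfl⟩
    refine (iInf₂_le (f.fiberι (f x₀) w) (show f.base (f.fiberι (f x₀) w) ∈ Z from hfw.symm ▸ hy)).trans ?_
    refine (Groth.Agent.S3447.aux f (f x₀) w).trans ?_
    refine ((add_le_add le_rfl hw).trans_eq (add_zero _)).trans_eq ?_
    exact congrArg (fun p => ringKrullDim (Y.presheaf.stalk p)) hfw

end Groth.Agent.S4741
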