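import Groth.Statements.S4742
import Groth.Agent.Catenary.Equidim
import Mathlib.RingTheory.Ideal.KrullsHeightTheorem

set_option autoImplicit false
universe u
open EGA4

namespace Groth.Agent.S4742

/-- Let A be a Noetherian local ring which is equidimensional and catenary, t an element of A belonging
to a system of parameters (dim A/tA + 1 = dim A), and Z a set of prime ideals of A stable under
specialization. Write X = Spec A, X₀ = V(t), X₁ = X ∖ X₀ and Z₀ = Z ∩ X₀, Z₁ = Z ∩ X₁. Then
codim(Z₀, X₀) ≤ codim(Z, X) ≤ codim(Z₁, X₁), where each codimension is the infimum of the heights of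
the primes concerned, heights for Z₀ being taken in A/tA. -/
theorem result (A : Type u) [CommRing A] [IsNoetherianRing A] [IsLocalRing A]
    (hA : EGA4.IsEquidim A) (hA' : CAlg.IsCatenary A) (t : A)
    (ht : ringKrullDim (A ⧸ Ideal.span {t}) + 1 = ringKrullDim A) (Z : Set (PrimeSpectrum A))
    (hZ : StableUnderSpecialization Z) :
    (⨅ p ∈ {p ∈ Z | t ∈ p.asIdeal}, (p.asIdeal.map (Ideal.Quotient.mk (Ideal.span {t}))).height) ≤
        ⨅ p ∈ Z, p.asIdeal.height ∧
      (⨅ p ∈ Z, p.asIdeal.height) ≤ ⨅ p ∈ {p ∈ Z | t ∉ p.asIdeal}, p.asIdeal.height := by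
  have hA2 : Catenary.HeightCat A := Catenary.heightCat_of_equidim hA' hA
  obtain ⟨d, hd⟩ : ∃ d : ℕ, ringKrullDim A = (d : WithBot ℕ∞) := by
    obtain ⟨n, hn⟩ := Catenary.exists_height_eq (⟨IsLocalRing.maximalIdeal A, inferInstance⟩ : PrimeSpectrum A)
    exact ⟨n, by rw [← IsLocalRing.maximalIdeal_height_eq_ringKrullDim, show (IsLocalRing.maximalIdeal A).height = n from hn]; rfl⟩
  have hunit : ¬ IsUnit t := fun hu => by
    have : Subsingleton (A ⧸ Ideal.span {t}) :=
      Ideal.Quotient.subsingleton_iff.mpr (Ideal.span_singleton_eq_top.mpr hu)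
    rw [ringKrullDim_eq_bot_of_subsingleton, hd] at ht
    simp at ht
  have hmin : ∀ m ∈ minimalPrimes A, t ∉ m := fun m hm htm => by
    have h1 : ringKrullDim (A ⧸ m) ≤ ringKrullDim (A ⧸ Ideal.span {t}) :=
      ringKrullDim_le_of_surjective (Ideal.Quotient.factor ((Ideal.span_singleton_le_iff_mem m).mpr htm))
        (Ideal.Quotient.factor_surjective _)
    rw [hA m hm, hd] at h1
    obtain ⟨u, hu⟩ : ∃ u : ℕ∞, ringKrullDim (A ⧸ Ideal.span {t}) = u := by
      cases h : ringKrullDim (A ⧸ Ideal.span {t}) with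
      | bot => rw [h, hd] at ht; simp at ht
      | coe u => exact ⟨u, rfl⟩
    rw [hu, hd, ← WithBot.coe_natCast, ← WithBot.coe_one, ← WithBot.coe_add, WithBot.coe_inj] at ht
    have hfin : u ≠ ⊤ := fun e => by rw [e, top_add] at ht; exact ENat.natCast_ne_top d ht.symm
    rw [hu, ← WithBot.coe_natCast, WithBot.coe_le_coe, ← ht] at h1
    exact absurd h1 (not_le.mpr ((ENat.lt_add_one_iff hfin).mpr le_rfl))
  refine ⟨le_iInf₂ fun p hp => ?_, le_iInf₂ fun p hp => iInf₂_le p hp.1⟩
  obtain ⟨q, hqZ, htq, hq⟩ : ∃ q : PrimeSpectrum A, q ∈ Z ∧ t ∈ q.asIdeal ∧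
      q.asIdeal.height ≤ p.asIdeal.height + 1 := by
    by_cases htp : t ∈ p.asIdeal
    · exact ⟨p, hp, htp, le_self_add⟩
    have hle : p.asIdeal ⊔ Ideal.span {t} ≤ IsLocalRing.maximalIdeal A :=
      sup_le (IsLocalRing.le_maximalIdeal p.2.ne_top)
        ((Ideal.span_singleton_le_iff_mem _).mpr hunit)
    obtain ⟨q, hq, -⟩ := Ideal.exists_minimalPrimes_le hle
    have := hq.isPrime
    have hpq : p ≤ (⟨q, this⟩ : PrimeSpectrum A) := le_sup_left.trans hq.le
    have htq : t ∈ q := hq.le (Ideal.mem_sup_right (Ideal.mem_span_singleton_self t))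
    refine ⟨⟨q, this⟩, hZ ((PrimeSpectrum.le_iff_specializes _ _).mp hpq) hp, htq, (hA2 p ⟨q, this⟩ ?_).le⟩
    refine ⟨lt_of_le_of_ne hpq fun e => htp (e ▸ htq), fun r h1 h2 => ?_⟩
    have h3 := Ideal.map_height_le_one_of_mem_minimalPrimes hq
    let π := Ideal.Quotient.mk p.asIdeal
    have hker : RingHom.ker π ≤ r.asIdeal := (Ideal.mk_ker (I := p.asIdeal)).trans_le h1.le
    have hker' : RingHom.ker π ≤ q := (Ideal.mk_ker (I := p.asIdeal)).trans_le hpq
    have := Ideal.map_isPrime_of_surjective (f := π) Ideal.Quotient.mk_surjective hker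
    have := Ideal.map_isPrime_of_surjective (f := π) Ideal.Quotient.mk_surjective hker'
    have hc : ∀ a : Ideal A, RingHom.ker π ≤ a → (a.map π).comap π = a := fun a ha => by
      rw [Ideal.comap_map_of_surjective π Ideal.Quotient.mk_surjective]
      exact sup_eq_left.mpr ha
    have l2 : r.asIdeal.map π < q.map π := lt_of_le_of_ne (Ideal.map_mono h2.le) fun e =>
      h2.ne (PrimeSpectrum.ext (by rw [← hc _ hker, e, hc _ hker']))
    have l3 := Ideal.height_le_iff.mp h3 _ inferInstance l2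
    rw [Nat.cast_one, Order.lt_one_iff, Ideal.height_eq_zero_iff_eq_bot] at l3
    exact h1.ne (PrimeSpectrum.ext (by rw [← hc _ hker, l3, ← RingHom.ker_eq_comap_bot, Ideal.mk_ker]))
  refine le_trans (iInf₂_le q ⟨hqZ, htq⟩) ?_
  let π := Ideal.Quotient.mk (Ideal.span {t})
  have hker : RingHom.ker π ≤ q.asIdeal :=
    (Ideal.mk_ker (I := Ideal.span {t})).trans_le ((Ideal.span_singleton_le_iff_mem _).mpr htq)
  have := Ideal.map_isPrime_of_surjective (f := π) Ideal.Quotient.mk_surjective hker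
  obtain ⟨l, hl, hlen⟩ := (q.asIdeal.map π).exists_ltSeries_length_eq_height
  let l' : LTSeries (PrimeSpectrum A) := l.map (PrimeSpectrum.comap π)
    (RingHom.strictMono_comap_of_surjective Ideal.Quotient.mk_surjective)
  have hlast : l'.last = q := by
    rw [LTSeries.last_map, hl]
    refine PrimeSpectrum.ext ?_
    change (q.asIdeal.map π).comap π = _
    rw [Ideal.comap_map_of_surjective π Ideal.Quotient.mk_surjective]
    exact sup_eq_left.mpr hker
  obtain ⟨m, hm, hml⟩ := Ideal.exists_minimalPrimes_le (bot_le : (⊥ : Ideal A) ≤ l'.head.asIdeal)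
  have hlt : (⟨m, hm.isPrime⟩ : PrimeSpectrum A) < l'.head := by
    refine lt_of_le_of_ne hml fun e => hmin m hm ?_
    have h0 : π t = 0 := Ideal.Quotient.eq_zero_iff_mem.mpr (Ideal.mem_span_singleton_self t)
    rw [show m = l'.head.asIdeal from congrArg PrimeSpectrum.asIdeal e]
    change π t ∈ l.head.asIdeal
    rw [h0]
    exact zero_mem _
  have h4 := Catenary.length_le_height (l'.cons _ hlt)
  rw [RelSeries.last_cons, hlast, RelSeries.cons_length, show l'.length = l.length from rfl] at h4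
  rw [Nat.cast_add, Nat.cast_one, hlen] at h4
  obtain ⟨k, hk⟩ := Catenary.exists_height_eq p
  rw [hk] at hq ⊢
  exact ENat.add_le_add_iff_right (ENat.natCast_ne_top 1) |>.mp (h4.trans hq)

end Groth.Agent.S4742
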