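import Groth.Statements.S4743
import Groth.Agent.FormalFibre.Reduced

set_option autoImplicit false
universe u
open EGA4

namespace Groth.Agent.S4743

open TensorProduct in
/-- For the property 'geometrically reduced', case of a local ring: let A be a Noetherian local ring
with completion Â. Then the formal fibres of A are geometrically reduced if and only if, for every
finite A-algebra B which is a domain and every prime ideal q of B ⊗_A Â whose contraction to B is
zero, the local ring of B ⊗_A Â at q is reduced. (The published statement is for semi-local rings;
this row takes A local.) -/
theorem result (A : Type u) [CommRing A] [IsNoetherianRing A]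
    [IsLocalRing A] :
    EGA4.HasGeomReducedFormalFibres A ↔
      ∀ (B : Type u) [CommRing B] [IsDomain B] [Algebra A B] [Module.Finite A B]
        (q : Ideal (B ⊗[A] EGA4.Cpl A)) [q.IsPrime],
        q.comap (algebraMap B (B ⊗[A] EGA4.Cpl A)) = ⊥ → IsReduced (Localization.AtPrime q) := by
  refine ⟨fun h B _ _ _ _ q _ _ => ?_,
    fun h => FormalFibre.geomReduced_of_finDomReduced (FormalFibre.finDomReduced_of_local fun B _ _ _ _ q _ hq =>
      h B q hq)⟩
  have := FormalFibre.finDomReduced_of_geomReduced h B
  infer_instance

end Groth.Agent.S4743
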