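import Groth.Statements.S4744
import Groth.Agent.FibreP.Closed
import Groth.Agent.FormalFibre.FlatCompletion
-- import your own Groth.Agent.* helpers here

set_option autoImplicit false
universe u
open EGA4

namespace Groth.Agent.S4744

/-- Let A → A' be a flat local homomorphism of Noetherian local rings all of whose fibre rings k(p) ⊗_A
A' are Cohen–Macaulay. If the completion map of A' is regular (the formal fibres of A' are
geometrically regular), then the formal fibres of A are Cohen–Macaulay. -/
theorem result (A A' : Type u) [CommRing A] [CommRing A'] [IsNoetherianRing A]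
    [IsNoetherianRing A'] [IsLocalRing A] [IsLocalRing A'] [Algebra A A'] [IsLocalHom (algebraMap A A')]
    [Module.Flat A A'] (hf : ∀ (p : Ideal A) [p.IsPrime], LocCoh.IsCohenMacaulayRing (p.Fiber A'))
    (hA' : CAlg.IsRegularHom A' (EGA4.Cpl A')) : EGA4.HasCMFormalFibres A := by
  have := CohenStruct.isNoetherianRing_completion A
  have := CohenStruct.isNoetherianRing_completion A'
  obtain ⟨alg, htow, hff⟩ := FormalFibre.exists_faithfullyFlat_cplMap (C := A) (D := A')
  let _ := alg
  have := htow
  have := hff
  have hP := FibreP.good_isCohenMacaulayRing.{u}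
  have h1 : FibreP.GeomFib (fun R _ => LocCoh.IsCohenMacaulayRing R) A A' := fun p _ K _ _ hK => by
    have := FibreP.isNoetherianRing_tensor A A' p.ResidueField
    exact FibreP.isCohenMacaulayRing_tensor_field K (hf p)
  have h2 := hP.geomFib_comp h1 (hP.geomFib_of_isRegularHom hA')
  have h3 := hP.geomFib_desc (B := EGA4.Cpl A) h2
  intro p _
  exact hP.iso _ _ (Algebra.TensorProduct.lid p.ResidueField (p.Fiber (EGA4.Cpl A))).toRingEquiv
    (h3 p p.ResidueField inferInstance)

end Groth.Agent.S4744
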