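import Groth.Statements.S4746
import Groth.Agent.FibreP.Closed
import Groth.Agent.S9634

set_option autoImplicit false
universe u
open EGA4

namespace Groth.Agent.S4746

/-- For the property 'reduced': let A → B be a local homomorphism of Noetherian local rings making B a
flat A-module, such that the residue field of B is a finite extension of the residue field k of A,
and such that the formal fibres of A are geometrically reduced. If the k-algebra k ⊗_A B̂, where B̂
is the completion of B, is geometrically reduced over k, then every fibre k(p) ⊗_A B of A → B is
geometrically reduced over k(p). -/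
theorem result (A B : Type u) [CommRing A] [CommRing B]
    [IsNoetherianRing A] [IsNoetherianRing B] [IsLocalRing A] [IsLocalRing B] [Algebra A B]
    [IsLocalHom (algebraMap A B)] [Module.Flat A B]
    [Module.Finite (IsLocalRing.ResidueField A) (IsLocalRing.ResidueField B)]
    (hA : EGA4.HasGeomReducedFormalFibres A)
    (h : Algebra.IsGeometricallyReduced (IsLocalRing.maximalIdeal A).ResidueField
      ((IsLocalRing.maximalIdeal A).Fiber (EGA4.Cpl B))) :
    ∀ (p : Ideal A) [p.IsPrime], Algebra.IsGeometricallyReduced p.ResidueField (p.Fiber B) := by
  have hP := FibreP.good_isReduced.{u}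
  have hto : ∀ (k S : Type u) [Field k] [CommRing S] [Algebra k S], Algebra.IsGeometricallyReduced k S →
      ∀ (K : Type u) [Field K] [Algebra k K], IsReduced (TensorProduct k K S) :=
    fun k S _ _ _ hg => ((S9634.result (k := k) (S := S)).out 1 2).mp hg
  have key := hP.geomFib_of_closed (fun p _ K _ _ _ => hto _ _ (hA p) K)
    (hP.closedFib_of_fiber fun K _ _ _ => hto _ _ h K)
  intro p _
  have h1 : (∀ (k' : Type u) [Field k'] [Algebra p.ResidueField k'] [Module.Finite p.ResidueField k']
      [IsPurelyInseparable p.ResidueField k'], IsReduced (TensorProduct p.ResidueField k' (p.Fiber B))) ↔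
      Algebra.IsGeometricallyReduced p.ResidueField (p.Fiber B) :=
    (S9634.result (k := p.ResidueField) (S := p.Fiber B)).out 0 1
  exact h1.mp fun K _ _ hK _ => key p K hK

end Groth.Agent.S4746
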