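import Groth.Statements.S4748
import Groth.Agent.FlatAscent.Tensor
import Groth.Agent.FlatAscent.NormalLocal

set_option autoImplicit false
universe u
open EGA4

namespace Groth.Agent.S4748

open TensorProduct in
/-- For the property 'normal' (affine form): let k be a field, S a Noetherian k-algebra and k' an
extension field of k such that S is of finite type over k or k' is essentially of finite type over
k; let q' be a prime of S ⊗_k k' and q its contraction to S. If (S ⊗_k k')_{q'} is an integrally
closed domain then so is S_q; conversely, if k' is separable over k (geometrically reduced) and S_q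
is an integrally closed domain, then so is (S ⊗_k k')_{q'}. -/
theorem result (k S k' : Type u) [Field k] [CommRing S] [Algebra k S]
    [IsNoetherianRing S] [Field k'] [Algebra k k'] (hft : Algebra.FiniteType k S ∨ Algebra.EssFiniteType k k')
    [IsNoetherianRing (S ⊗[k] k')] (q' : Ideal (S ⊗[k] k')) [q'.IsPrime] :
    ((IsDomain (Localization.AtPrime q') ∧ IsIntegrallyClosed (Localization.AtPrime q')) →
        (IsDomain (Localization.AtPrime (q'.comap (algebraMap S (S ⊗[k] k')))) ∧
          IsIntegrallyClosed (Localization.AtPrime (q'.comap (algebraMap S (S ⊗[k] k')))))) ∧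
      (Algebra.IsGeometricallyReduced k k' →
        (IsDomain (Localization.AtPrime (q'.comap (algebraMap S (S ⊗[k] k')))) ∧
          IsIntegrallyClosed (Localization.AtPrime (q'.comap (algebraMap S (S ⊗[k] k'))))) →
          (IsDomain (Localization.AtPrime q') ∧ IsIntegrallyClosed (Localization.AtPrime q'))) := by
  let T := S ⊗[k] k'
  refine ⟨fun ⟨_, _⟩ => ?_, fun hk ⟨_, _⟩ => ?_⟩
  · let q := q'.comap (algebraMap S T)
    letI : Algebra (Localization.AtPrime q) (Localization.AtPrime q') :=
      (Localization.localRingHom q q' (algebraMap S T) rfl).toAlgebra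
    haveI : IsScalarTower S (Localization.AtPrime q) (Localization.AtPrime q') := IsScalarTower.of_algebraMap_eq fun x => by
      rw [RingHom.algebraMap_toAlgebra, Localization.localRingHom_to_map, ← IsScalarTower.algebraMap_apply]
    haveI : IsLocalHom (algebraMap (Localization.AtPrime q) (Localization.AtPrime q')) :=
      Localization.isLocalHom_localRingHom q q' (algebraMap S T) rfl
    haveI : Module.Flat S (Localization.AtPrime q') := Module.Flat.trans S T _
    haveI : Module.Flat (Localization.AtPrime q) (Localization.AtPrime q') :=
      (Module.flat_iff_of_isLocalization (Localization.AtPrime q) q.primeCompl _).2 inferInstance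
    haveI := Module.FaithfullyFlat.of_flat_of_isLocalHom (A := Localization.AtPrime q) (B := Localization.AtPrime q')
    exact ⟨HenselLib.isDomain_of_faithfullyFlat _ (Localization.AtPrime q'),
      HenselLib.isIntegrallyClosed_of_faithfullyFlat _ (Localization.AtPrime q')⟩
  · have hgeo : EGA4.IsGeomNormal k k' := fun L _ _ hL => by
      have : IsArtinianRing (L ⊗[k] k') := by
        have : IsArtinianRing (k' ⊗[k] L) := IsArtinianRing.of_finite k' _
        exact (Algebra.TensorProduct.comm k k' L).toRingEquiv.isArtinianRing
      have : IsReduced (k' ⊗[k] L) := Groth.Agent.EGA41Lib.isReduced_tensor L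
      have : IsReduced (L ⊗[k] k') := isReduced_of_injective _ (Algebra.TensorProduct.comm k L k').injective
      have := FlatAscent.isRegularRing_of_isArtinianRing (L ⊗[k] k')
      exact FlatAscent.isNormalRing_of_isRegularRing
    refine FlatAscent.normal_atPrime (A := S) q' fun Q _ _ => ?_
    obtain ⟨Q', _, ⟨e⟩⟩ := FlatAscent.exists_fibre_prime (A := S) Q
    let p := Q.comap (algebraMap S T)
    let e' : p.ResidueField ⊗[k] k' ≃+* p.Fiber T :=
      (Algebra.TensorProduct.cancelBaseChange k S p.ResidueField p.ResidueField k').symm.toRingEquiv
    have hNF : IsNoetherianRing (p.Fiber T) := by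
      have : Algebra.EssFiniteType T (T ⊗[S] p.ResidueField) := inferInstance
      have := Algebra.EssFiniteType.isNoetherianRing T (T ⊗[S] p.ResidueField)
      exact isNoetherianRing_of_ringEquiv _ (Algebra.TensorProduct.comm S T p.ResidueField).toRingEquiv
    have : IsNoetherianRing (p.ResidueField ⊗[k] k') := isNoetherianRing_of_ringEquiv _ e'.symm
    obtain ⟨hd, hi⟩ := FlatAscent.isNormalRing_of_ringEquiv e'
      (FlatAscent.isNormalRing_tensor_of_geomNormal (S := k') hgeo p.ResidueField) Q'
    exact FlatAscent.normal_transport e ⟨hd, hi⟩

end Groth.Agent.S4748
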