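import Groth.Statements.S4749
import Groth.Agent.FlatAscent.BaseChange

set_option autoImplicit false
universe u
open EGA4

namespace Groth.Agent.S4749

open scoped TensorProduct

open TensorProduct in
/-- Case of normal morphisms, affine form: let A → B be a homomorphism of Noetherian rings and A' a
Noetherian A-algebra, and assume that B or A' is of finite type over A. If A → B is normal then the
base change A' → A' ⊗_A B is normal; the converse holds when A' is faithfully flat over A. -/
theorem result (A B A' : Type u) [CommRing A] [CommRing B] [CommRing A']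
    [IsNoetherianRing A] [IsNoetherianRing B] [IsNoetherianRing A'] [Algebra A B] [Algebra A A']
    (hft : Algebra.FiniteType A B ∨ Algebra.FiniteType A A') :
    (EGA4.IsNormalHom A B → EGA4.IsNormalHom A' (A' ⊗[A] B)) ∧
      (Module.FaithfullyFlat A A' → EGA4.IsNormalHom A' (A' ⊗[A] B) → EGA4.IsNormalHom A B) := by
  have hN : ∀ (p : Ideal A) [p.IsPrime], IsNoetherianRing (p.Fiber B) := fun p _ => by
    have := Algebra.EssFiniteType.isNoetherianRing B (B ⊗[A] p.ResidueField)
    exact isNoetherianRing_of_ringEquiv (B ⊗[A] p.ResidueField)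
      (Algebra.TensorProduct.comm A B p.ResidueField).toRingEquiv
  have hft' : Algebra.FiniteType A B ∨ Algebra.EssFiniteType A A' := hft.imp id fun (h : Algebra.FiniteType A A') => @Algebra.EssFiniteType.of_finiteType A A' _ _ _ h
  refine ⟨fun h => ?_, fun _ h => ?_⟩
  · have := h.1
    refine ⟨inferInstance, fun P _ => fun k' _ _ _ => ?_⟩
    exact Groth.Agent.FlatAscent.base_change_fibre hft' (fun R _ => EGA4.IsNormalRing R)
      (fun R _ _ _ e h => Groth.Agent.FlatAscent.isNormalRing_of_ringEquiv e h) hN
      (fun p _ L _ _ _ hL => haveI := hL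
        Groth.Agent.FlatAscent.isNormalRing_tensor_of_geomNormal (h.2 p) L) P k'
  · have := h.1
    refine ⟨?_, fun p _ => fun k' _ _ _ => ?_⟩
    · exact Module.Flat.of_flat_tensorProduct A B A'
    · exact Groth.Agent.FlatAscent.base_change_fibre_desc (A' := A') (fun R _ => EGA4.IsNormalRing R)
        (fun R _ _ _ e h => Groth.Agent.FlatAscent.isNormalRing_of_ringEquiv e h)
        (fun R T _ _ _ _ h => Groth.Agent.FlatAscent.isNormalRing_of_faithfullyFlat h)
        (fun P _ L _ _ hL => h.2 P L hL) p k'

end Groth.Agent.S4749
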