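import Groth.Statements.S4751
import Groth.Agent.S2694
import Groth.Agent.FlatSerre.Descent
-- import your own Groth.Agent.* helpers here

set_option autoImplicit false
universe u
open EGA4
open scoped TensorProduct

namespace Groth.Agent.S4751

/-- Let A → B → C be homomorphisms of Noetherian rings such that B → C is faithfully flat with (S_n)
fibres and the composite A → C is flat with (S_n) fibres. Then A → B is flat with (S_n) fibres. -/
theorem result (n : ℕ) (A B C : Type u) [CommRing A] [CommRing B] [CommRing C]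
    [IsNoetherianRing A] [IsNoetherianRing B] [IsNoetherianRing C] [Algebra A B] [Algebra B C] [Algebra A C]
    [IsScalarTower A B C] [Module.FaithfullyFlat B C] [Module.Flat A C]
    (hBC : ∀ (q : Ideal B) [q.IsPrime], LocCoh.HasSk n (q.Fiber C) (q.Fiber C))
    (hAC : ∀ (p : Ideal A) [p.IsPrime], LocCoh.HasSk n (p.Fiber C) (p.Fiber C)) :
    Module.Flat A B ∧ ∀ (p : Ideal A) [p.IsPrime], LocCoh.HasSk n (p.Fiber B) (p.Fiber B) := by
  refine ⟨Groth.Agent.FlatSerre.flat_of_flat_of_faithfullyFlat A B C, fun p _ => ?_⟩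
  let k := p.ResidueField
  let e₁ : B ⊗[A] k ≃+* p.Fiber B := (Algebra.TensorProduct.comm A B k).toRingEquiv
  let e₂ : (B ⊗[A] k) ⊗[B] C ≃+* p.Fiber C :=
    ((Algebra.TensorProduct.comm B (B ⊗[A] k) C).toRingEquiv.trans
      (Algebra.TensorProduct.cancelBaseChange A B C C k).toRingEquiv).trans
        (Algebra.TensorProduct.comm A C k).toRingEquiv
  haveI hB : IsNoetherianRing (p.Fiber B) := Groth.Agent.FlatSerre.isNoetherianRing_fiber p
  haveI hC : IsNoetherianRing (p.Fiber C) := Groth.Agent.FlatSerre.isNoetherianRing_fiber p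
  haveI : IsNoetherianRing (B ⊗[A] k) := isNoetherianRing_of_ringEquiv _ e₁.symm
  haveI : IsNoetherianRing ((B ⊗[A] k) ⊗[B] C) := isNoetherianRing_of_ringEquiv _ e₂.symm
  exact Groth.Agent.S2694.hasSk_transport e₁ (Groth.Agent.FlatSerre.hasSk_descend
    (Groth.Agent.S2694.hasSk_transport e₂.symm (hAC p)))

end Groth.Agent.S4751
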