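import Groth.Statements.S4753
import Mathlib

set_option autoImplicit false
universe u
open EGA4

namespace Groth.Agent.S4753

open scoped TensorProduct

/-- Case of reduced morphisms, affine form: let A → B → C be homomorphisms of Noetherian rings such that
B → C is faithfully flat with geometrically reduced fibres and the composite A → C is flat with
geometrically reduced fibres. Then A → B is flat with geometrically reduced fibres. -/
theorem result (A B C : Type u) [CommRing A] [CommRing B] [CommRing C]
    [IsNoetherianRing A] [IsNoetherianRing B] [IsNoetherianRing C] [Algebra A B] [Algebra B C] [Algebra A C]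
    [IsScalarTower A B C] [Module.FaithfullyFlat B C] [Module.Flat A C]
    (hBC : ∀ (q : Ideal B) [q.IsPrime], Algebra.IsGeometricallyReduced q.ResidueField (q.Fiber C))
    (hAC : ∀ (p : Ideal A) [p.IsPrime], Algebra.IsGeometricallyReduced p.ResidueField (p.Fiber C)) :
    Module.Flat A B ∧ ∀ (p : Ideal A) [p.IsPrime], Algebra.IsGeometricallyReduced p.ResidueField (p.Fiber B) := by
  have hflat : Module.Flat A B := by
    rw [Module.Flat.iff_lTensor_preserves_injective_linearMap]
    intro N M _ _ _ _ f hf
    have h1 : Function.Injective (LinearMap.lTensor C f) :=
      Module.Flat.lTensor_preserves_injective_linearMap f hf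
    have hcomm : ∀ z, TensorProduct.AlgebraTensorModule.cancelBaseChange A B B C M
        (LinearMap.lTensor C (f.baseChange B) z) =
        LinearMap.lTensor C f (TensorProduct.AlgebraTensorModule.cancelBaseChange A B B C N z) := by
      intro z
      induction z using TensorProduct.induction_on with
      | zero => simp
      | add x y hx hy => simp only [map_add, hx, hy]
      | tmul c y =>
        induction y using TensorProduct.induction_on with
        | zero => simp
        | add x y hx hy => simp only [TensorProduct.tmul_add, map_add, hx, hy]
        | tmul b n => simp
    have h2 : Function.Injective (LinearMap.lTensor C (f.baseChange B)) := fun x y hxy =>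
      (TensorProduct.AlgebraTensorModule.cancelBaseChange A B B C N).injective
        (h1 (by rw [← hcomm, ← hcomm, hxy]))
    exact (Module.FaithfullyFlat.lTensor_injective_iff_injective B C (f.baseChange B)).mp h2
  refine ⟨hflat, fun p _ => ?_⟩
  have := hAC p
  rw [Algebra.isGeometricallyReduced_field_iff] at this ⊢
  let K := AlgebraicClosure p.ResidueField
  have : IsReduced (K ⊗[A] C) :=
    isReduced_of_injective (Algebra.TensorProduct.cancelBaseChange A p.ResidueField K K C).symm
      (AlgEquiv.injective _)
  have hinj : Function.Injective (Algebra.TensorProduct.map (AlgHom.id A K) (IsScalarTower.toAlgHom A B C)) := by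
    let e := (TensorProduct.AlgebraTensorModule.cancelBaseChange A B B C K).toEquiv
    have he : ∀ x : K ⊗[A] B, Algebra.TensorProduct.map (AlgHom.id A K) (IsScalarTower.toAlgHom A B C) x =
        TensorProduct.comm A C K (e ((1 : C) ⊗ₜ[B] TensorProduct.comm A K B x)) := by
      intro x
      induction x using TensorProduct.induction_on with
      | zero => simp [e]
      | tmul k b => simp [e, Algebra.smul_def]
      | add x y hx hy => simp [e, TensorProduct.tmul_add] at hx hy ⊢; rw [hx, hy]
    intro x y hxy
    rw [he, he] at hxy
    exact (TensorProduct.comm A K B).injective (Module.FaithfullyFlat.tensorProduct_mk_injective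
      (A := B) (B := C) (B ⊗[A] K) (e.injective ((TensorProduct.comm A C K).injective hxy)))
  have : IsReduced (K ⊗[A] B) := isReduced_of_injective _ hinj
  exact isReduced_of_injective (Algebra.TensorProduct.cancelBaseChange A p.ResidueField K K B)
    (AlgEquiv.injective _)

end Groth.Agent.S4753
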