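import Groth.Statements.S4756
import Groth.Agent.FlatAscent.BaseChange

set_option autoImplicit false
universe u
open EGA4

namespace Groth.Agent.S4756

open scoped TensorProduct

/-- Let A → B be a normal homomorphism of Noetherian rings (flat, with geometrically normal fibres) and
S a multiplicative subset of A. Then the induced homomorphism S⁻¹A → S⁻¹B (arbitrary localizations
at S and at its image) is normal. -/
theorem result (A B : Type u) [CommRing A] [CommRing B] [IsNoetherianRing A] [IsNoetherianRing B]
    [Algebra A B] (h : EGA4.IsNormalHom A B) (S : Submonoid A)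
    (A' B' : Type u) [CommRing A'] [CommRing B'] [Algebra A A'] [Algebra B B'] [Algebra A' B'] [Algebra A B']
    [IsScalarTower A A' B'] [IsScalarTower A B B'] [IsLocalization S A']
    [IsLocalization (Algebra.algebraMapSubmonoid B S) B'] :
    EGA4.IsNormalHom A' B' := by
  obtain ⟨e⟩ := Groth.Agent.FlatAscent.nonempty_localization_equiv A B S A' B'
  have hft : Algebra.FiniteType A B ∨ Algebra.EssFiniteType A A' :=
    Or.inr (Groth.Agent.FlatAscent.essFiniteType_of_isLocalization S)
  have hN : ∀ (p : Ideal A) [p.IsPrime], IsNoetherianRing (p.Fiber B) := fun p _ => by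
    have := Algebra.EssFiniteType.isNoetherianRing B (B ⊗[A] p.ResidueField)
    exact isNoetherianRing_of_ringEquiv (B ⊗[A] p.ResidueField)
      (Algebra.TensorProduct.comm A B p.ResidueField).toRingEquiv
  have := h.1
  refine ⟨Module.Flat.of_linearEquiv e.symm.toLinearEquiv, fun P _ k' _ _ _ => ?_⟩
  exact Groth.Agent.FlatAscent.isNormalRing_of_ringEquiv
    (Algebra.TensorProduct.congr (AlgEquiv.refl (A₁ := k') (R := P.ResidueField))
      (Algebra.TensorProduct.congr (AlgEquiv.refl (A₁ := P.ResidueField) (R := P.ResidueField)) e)).toRingEquiv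
    (Groth.Agent.FlatAscent.base_change_fibre (A' := A') hft (fun R _ => EGA4.IsNormalRing R)
      (fun R _ _ _ e h => Groth.Agent.FlatAscent.isNormalRing_of_ringEquiv e h) hN
      (fun p _ L _ _ _ hL => haveI := hL
        Groth.Agent.FlatAscent.isNormalRing_tensor_of_geomNormal (h.2 p) L) P k')

end Groth.Agent.S4756
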