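import Groth.Statements.S4757
import Groth.Agent.FlatAscent.BaseChange
import Groth.Agent.S9634

set_option autoImplicit false
universe u
open EGA4

namespace Groth.Agent.S4757

open scoped TensorProduct

/-- Let A → B be a flat homomorphism of Noetherian rings with geometrically reduced fibres and S a
multiplicative subset of A. Then the induced homomorphism S⁻¹A → S⁻¹B (arbitrary localizations at S
and at its image) is flat with geometrically reduced fibres. -/
theorem result (A B : Type u) [CommRing A] [CommRing B] [IsNoetherianRing A]
    [IsNoetherianRing B] [Algebra A B] [Module.Flat A B]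
    (h : ∀ (p : Ideal A) [p.IsPrime], Algebra.IsGeometricallyReduced p.ResidueField (p.Fiber B)) (S : Submonoid A)
    (A' B' : Type u) [CommRing A'] [CommRing B'] [Algebra A A'] [Algebra B B'] [Algebra A' B'] [Algebra A B']
    [IsScalarTower A A' B'] [IsScalarTower A B B'] [IsLocalization S A']
    [IsLocalization (Algebra.algebraMapSubmonoid B S) B'] :
    Module.Flat A' B' ∧ ∀ (p' : Ideal A') [p'.IsPrime], Algebra.IsGeometricallyReduced p'.ResidueField (p'.Fiber B') := by
  obtain ⟨e⟩ := Groth.Agent.FlatAscent.nonempty_localization_equiv A B S A' B'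
  have hft : Algebra.FiniteType A B ∨ Algebra.EssFiniteType A A' :=
    Or.inr (Groth.Agent.FlatAscent.essFiniteType_of_isLocalization S)
  have hN : ∀ (p : Ideal A) [p.IsPrime], IsNoetherianRing (p.Fiber B) := fun p _ => by
    have := Algebra.EssFiniteType.isNoetherianRing B (B ⊗[A] p.ResidueField)
    exact isNoetherianRing_of_ringEquiv (B ⊗[A] p.ResidueField)
      (Algebra.TensorProduct.comm A B p.ResidueField).toRingEquiv
  refine ⟨Module.Flat.of_linearEquiv e.symm.toLinearEquiv, fun P _ => ?_⟩
  rw [Algebra.isGeometricallyReduced_field_iff]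
  let K := AlgebraicClosure P.ResidueField
  let p : Ideal A := RingHom.ker (algebraMap A K)
  have : p.IsPrime := RingHom.ker_isPrime _
  let : Algebra p.ResidueField K := (Ideal.ResidueField.lift p (algebraMap A K) le_rfl
    fun x hx => isUnit_iff_ne_zero.mpr hx).toAlgebra
  have : IsScalarTower A p.ResidueField K :=
    .of_algebraMap_eq fun x => (Ideal.ResidueField.lift_algebraMap ..).symm
  have h1 := h p
  have : _root_.IsReduced (K ⊗[p.ResidueField] p.Fiber B) := by
    have := ((Groth.Agent.S9634.result (k := p.ResidueField) (S := p.Fiber B)).out 1 2 rfl rfl).mp h1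
    exact this K
  have : _root_.IsReduced (K ⊗[A'] (A' ⊗[A] B)) :=
    isReduced_of_injective ((Algebra.TensorProduct.cancelBaseChange A A' K K B).toRingEquiv.trans
      (Algebra.TensorProduct.cancelBaseChange A p.ResidueField K K B).symm.toRingEquiv)
      (RingEquiv.injective _)
  have : _root_.IsReduced (K ⊗[A'] B') :=
    isReduced_of_injective (Algebra.TensorProduct.congr (AlgEquiv.refl (A₁ := K) (R := K)) e).symm
      (AlgEquiv.injective _)
  exact isReduced_of_injective (Algebra.TensorProduct.cancelBaseChange A' P.ResidueField K K B')
    (AlgEquiv.injective _)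

end Groth.Agent.S4757
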