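import Groth.Statements.S4767
import Groth.Agent.LimLib.Components

set_option autoImplicit false
universe u
open CategoryTheory AlgebraicGeometry
open Lim8

namespace Groth.Agent.S4767

/-- Let S = lim S_i be a cofiltered limit of schemes with affine transition maps, some stage S_{i₀}
being quasi-compact and quasi-separated, and assume that the underlying topological space of S is
Noetherian. If S is not irreducible, then there is an index i over i₀ such that S_j is not
irreducible for every index j over i. -/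
theorem result {I : Type u} [SmallCategory I] [IsCofiltered I]
    (D : I ⥤ Scheme.{u}) (c : Limits.Cone D) (hc : Limits.IsLimit c)
    [∀ (i j : I) (f : i ⟶ j), IsAffineHom (D.map f)] (i₀ : I)
    [CompactSpace (D.obj i₀)] [QuasiSeparatedSpace (D.obj i₀)]
    [TopologicalSpace.NoetherianSpace c.pt] (h : ¬ IrreducibleSpace c.pt) :
    ∃ (i : I) (_ : i ⟶ i₀), ∀ (j : I) (_ : j ⟶ i), ¬ IrreducibleSpace (D.obj j) := by
  by_cases hne : Nonempty c.pt
  · have hni : ¬ IsPreirreducible (Set.univ : Set c.pt) := fun h' =>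
      h ((irreducibleSpace_def _).2 ⟨Set.univ_nonempty, h'⟩)
    simp only [IsPreirreducible, Set.univ_inter, not_forall] at hni
    obtain ⟨A, B, hA, hB, hAne, hBne, hAB⟩ := hni
    obtain ⟨i₁, φ₁, V₁, hV₁, e₁⟩ := Groth.Agent.LimLib.exists_preimage_eq_over hc (i := i₀)
      ⟨A, hA⟩ (TopologicalSpace.NoetherianSpace.isCompact _)
    obtain ⟨i₂, φ₂, V₂, hV₂, e₂⟩ := Groth.Agent.LimLib.exists_preimage_eq_over hc (i := i₁)
      ⟨B, hB⟩ (TopologicalSpace.NoetherianSpace.isCompact _)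
    haveI : CompactSpace (D.obj i₂) :=
      QuasiCompact.compactSpace_of_compactSpace (D.map (φ₂ ≫ φ₁))
    haveI : QuasiSeparatedSpace (D.obj i₂) :=
      quasiSeparatedSpace_of_quasiSeparated (D.map (φ₂ ≫ φ₁))
    have hc₁ : IsCompact (D.map φ₂ ⁻¹ᵁ V₁ : Set (D.obj i₂)) :=
      QuasiCompact.isCompact_preimage (f := D.map φ₂) _ V₁.2 hV₁
    have hA' : (⇑(c.π.app i₂) ⁻¹' (⇑(D.map φ₂) ⁻¹' (V₁ : Set (D.obj i₁))) : Set c.pt) = A :=
      (Groth.Agent.LimLib.preimage_preimage_eq (c.w φ₂) _).trans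
        (congrArg TopologicalSpace.Opens.carrier e₁)
    obtain ⟨i, ψ, hi⟩ := Groth.Agent.LimLib.exists_preimage_eq_empty_lc hc
      (Groth.Agent.LimLib.lcClosed_of_isConstructible
        ((hc₁.isConstructible (D.map φ₂ ⁻¹ᵁ V₁).2).inter (hV₂.isConstructible V₂.2)))
      (Set.eq_empty_of_forall_notMem fun s hs => hAB
        ⟨s, hA'.le hs.1, (congrArg TopologicalSpace.Opens.carrier e₂).le hs.2⟩)
    refine ⟨i, ψ ≫ φ₂ ≫ φ₁, fun j χ hirr => ?_⟩
    obtain ⟨a, ha⟩ := hAne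
    obtain ⟨b, hb⟩ := hBne
    have hwa : D.map (χ ≫ ψ ≫ φ₂) (c.π.app j a) ∈ V₁ := by
      rw [← Scheme.Hom.comp_apply, c.w]
      exact (congrArg TopologicalSpace.Opens.carrier e₁).ge ha
    have hwb : D.map (χ ≫ ψ) (c.π.app j b) ∈ V₂ := by
      rw [← Scheme.Hom.comp_apply, c.w]
      exact (congrArg TopologicalSpace.Opens.carrier e₂).ge hb
    obtain ⟨x, -, hx₁, hx₂⟩ := (IrreducibleSpace.isIrreducible_univ (D.obj j)).2 _ _
      (V₁.2.preimage (D.map (χ ≫ ψ ≫ φ₂)).continuous) (V₂.2.preimage (D.map (χ ≫ ψ)).continuous)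
      ⟨c.π.app j a, Set.mem_univ _, hwa⟩ ⟨c.π.app j b, Set.mem_univ _, hwb⟩
    refine hi.le (show D.map χ x ∈ _ from ⟨?_, ?_⟩)
    · simpa [Scheme.Hom.comp_apply] using hx₁
    · simpa [Scheme.Hom.comp_apply] using hx₂
  · rw [not_nonempty_iff] at hne
    obtain ⟨i, ψ, hi⟩ := Groth.Agent.LimLib.exists_preimage_eq_empty_lc hc
      (Groth.Agent.LimLib.lcClosed_of_isClosed (isClosed_univ (X := D.obj i₀)))
      (Set.eq_empty_of_isEmpty _)
    refine ⟨i, ψ, fun j χ hirr => ?_⟩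
    obtain ⟨x⟩ := hirr.toNonempty
    exact hi.le (show D.map χ x ∈ ⇑(D.map ψ) ⁻¹' Set.univ from Set.mem_univ _)

end Groth.Agent.S4767
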