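import Groth.Statements.S4768
import Groth.Agent.LimLib.Components

set_option autoImplicit false
universe u
open CategoryTheory AlgebraicGeometry
open Lim8

namespace Groth.Agent.S4768

/-- Let S = lim S_i be a cofiltered limit of schemes with affine transition maps, some stage S_{i₀}
being quasi-compact and quasi-separated. If S is not preconnected (that is, S is the disjoint union
of two nonempty open subsets), then there is an index i over i₀ such that S_j is not preconnected
for every index j over i. (The published statement assumes the stage only quasi-compact, which is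
not enough: over the affine space in infinitely many variables with a doubled origin, the closed
subschemes cut out by the first n coordinates form a system with affine transition maps in which
every stage is connected while the limit consists of two disjoint points. The published proof
descends the two pieces of S to quasi-compact open subsets of a stage and needs their intersection
to become empty at a later stage, which uses that quasi-compact open subsets of the stage are
constructible; so the stage is taken quasi-separated here, as in part (i).) -/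
theorem result {I : Type u} [SmallCategory I] [IsCofiltered I]
    (D : I ⥤ Scheme.{u}) (c : Limits.Cone D) (hc : Limits.IsLimit c)
    [∀ (i j : I) (f : i ⟶ j), IsAffineHom (D.map f)] (i₀ : I)
    [CompactSpace (D.obj i₀)] [QuasiSeparatedSpace (D.obj i₀)] (h : ¬ PreconnectedSpace c.pt) :
    ∃ (i : I) (_ : i ⟶ i₀), ∀ (j : I) (_ : j ⟶ i), ¬ PreconnectedSpace (D.obj j) := by
  obtain ⟨S, hS, hS0, hS1⟩ : ∃ S : Set c.pt, IsClopen S ∧ S.Nonempty ∧ S ≠ Set.univ := by
    by_contra! h'
    exact h (preconnectedSpace_iff_clopen.2 fun S hS =>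
      S.eq_empty_or_nonempty.imp_right fun hne => h' S hS hne)
  haveI := isAffineHom_π_app D c hc i₀
  haveI : CompactSpace c.pt := QuasiCompact.compactSpace_of_compactSpace (c.π.app i₀)
  obtain ⟨i₁, φ₁, V₁, hV₁, e₁⟩ := Groth.Agent.LimLib.exists_preimage_eq_over hc (i := i₀)
    ⟨S, hS.2⟩ hS.1.isCompact
  obtain ⟨i₂, φ₂, V₂, hV₂, e₂⟩ := Groth.Agent.LimLib.exists_preimage_eq_over hc (i := i₁)
    ⟨Sᶜ, hS.1.isOpen_compl⟩ hS.2.isClosed_compl.isCompact
  haveI : CompactSpace (D.obj i₂) :=
    QuasiCompact.compactSpace_of_compactSpace (D.map (φ₂ ≫ φ₁))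
  haveI : QuasiSeparatedSpace (D.obj i₂) :=
    quasiSeparatedSpace_of_quasiSeparated (D.map (φ₂ ≫ φ₁))
  have hc₁ : IsCompact (D.map φ₂ ⁻¹ᵁ V₁ : Set (D.obj i₂)) :=
    QuasiCompact.isCompact_preimage (f := D.map φ₂) _ V₁.2 hV₁
  let A : Set (D.obj i₂) := ⇑(D.map φ₂) ⁻¹' (V₁ : Set (D.obj i₁))
  have hA : (⇑(c.π.app i₂) ⁻¹' A : Set c.pt) = S :=
    (Groth.Agent.LimLib.preimage_preimage_eq (c.w φ₂) _).trans
      (congrArg TopologicalSpace.Opens.carrier e₁)
  have hB : (⇑(c.π.app i₂) ⁻¹' (V₂ : Set (D.obj i₂)) : Set c.pt) = Sᶜ :=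
    congrArg TopologicalSpace.Opens.carrier e₂
  have hAc : Topology.IsConstructible A := hc₁.isConstructible (D.map φ₂ ⁻¹ᵁ V₁).2
  have hBc := hV₂.isConstructible V₂.2
  obtain ⟨i, ψ, hi⟩ := Groth.Agent.LimLib.exists_preimage_eq_of_isConstructible hc
    (A := A) (B := (V₂ : Set (D.obj i₂))ᶜ) hAc hBc.compl
    (by rw [Set.preimage_compl, hB, compl_compl, hA])
  refine ⟨i, ψ ≫ φ₂ ≫ φ₁, fun j χ hpre => ?_⟩
  let T : Set (D.obj j) := ⇑(D.map χ) ⁻¹' (⇑(D.map ψ) ⁻¹' A)
  have hT : IsClopen T := by
    refine ⟨IsClosed.preimage (D.map χ).continuous ?_,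
      (V₁.2.preimage (D.map φ₂).continuous).preimage (D.map ψ).continuous |>.preimage
        (D.map χ).continuous⟩
    rw [hi]
    exact V₂.2.isClosed_compl.preimage (D.map ψ).continuous
  have hTS : (⇑(c.π.app j) ⁻¹' T : Set c.pt) = S := by
    simp only [T]
    rw [Groth.Agent.LimLib.preimage_preimage_eq rfl A, Groth.Agent.LimLib.preimage_preimage_eq rfl A]
    rw [← hA, ← Functor.map_comp]
    exact congrArg (fun g : c.pt ⟶ D.obj i₂ => ⇑g ⁻¹' A) (c.w (χ ≫ ψ))
  rcases isClopen_iff.1 hT with e | e
  · exact hS0.ne_empty (by rw [← hTS, e, Set.preimage_empty])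
  · exact hS1 (by rw [← hTS, e, Set.preimage_univ])

end Groth.Agent.S4768
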