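import Groth.Statements.S4771
import Groth.Agent.LimLib.Components

set_option autoImplicit false
universe u
open CategoryTheory AlgebraicGeometry
open Lim8

namespace Groth.Agent.S4771

/-- Let S = lim S_i be a cofiltered limit of schemes whose transition maps are affine and dominant, some
stage S_{i₀} being quasi-compact, and assume that the underlying topological space of S is
Noetherian. Then S is irreducible if and only if there is an index i over i₀ such that S_j is
irreducible for every j over i. -/
theorem result {I : Type u} [SmallCategory I] [IsCofiltered I]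
    (D : I ⥤ Scheme.{u}) (c : Limits.Cone D) (hc : Limits.IsLimit c)
    [∀ (i j : I) (f : i ⟶ j), IsAffineHom (D.map f)] (i₀ : I)
    [CompactSpace (D.obj i₀)] [TopologicalSpace.NoetherianSpace c.pt]
    (hd : ∀ (i j : I) (φ : i ⟶ j), IsDominant (D.map φ)) :
    IrreducibleSpace c.pt ↔ ∃ (i : I) (_ : i ⟶ i₀), ∀ (j : I) (_ : j ⟶ i), IrreducibleSpace (D.obj j) := by
  have hdom : ∀ j, DenseRange ⇑(c.π.app j) := fun j =>
    ((Groth.Agent.LimLib.isDominant_π_iff hc j).2 fun k φ => hd k j φ).denseRange
  constructor
  · intro h
    refine ⟨i₀, 𝟙 i₀, fun j _ => ?_⟩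
    have := IrreducibleSpace.isIrreducible_univ c.pt
    have h2 := (this.image (⇑(c.π.app j)) (c.π.app j).continuous.continuousOn).closure
    rw [Set.image_univ, (hdom j).closure_range] at h2
    exact (irreducibleSpace_def _).2 h2
  · rintro ⟨i, φ, hi⟩
    obtain ⟨k, ψ, hk⟩ :=
      Groth.Agent.LimLib.exists_bijOn_irreducibleComponents hc (i₁ := i) fun j _ => hdom j
    haveI := hi k ψ
    have e : irreducibleComponents (D.obj k) = {Set.univ} := irreducibleComponents_eq_singleton
    have hb := hk k (𝟙 k)
    rw [e] at hb
    obtain ⟨Z, hZ, -⟩ := hb.surjOn rfl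
    have hall : ∀ W ∈ irreducibleComponents c.pt, W = Z := fun W hW =>
      hb.injOn hW hZ ((hb.mapsTo hW).trans (hb.mapsTo hZ).symm)
    rw [irreducibleSpace_def]
    have : (Set.univ : Set c.pt) = Z := Set.eq_univ_of_forall (fun x => hall _
      (irreducibleComponent_mem_irreducibleComponents x) ▸ mem_irreducibleComponent) |>.symm
    exact (this ▸ hZ.1 : IsIrreducible (Set.univ : Set c.pt))

end Groth.Agent.S4771
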