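import Groth.Statements.S4772
import Groth.Agent.LimLib.Components

set_option autoImplicit false
universe u
open CategoryTheory AlgebraicGeometry
open Lim8

namespace Groth.Agent.S4772

/-- Let S = lim S_i be a cofiltered limit of schemes whose transition maps are affine and dominant, some
stage S_{i₀} being quasi-compact. Then S is connected (in particular nonempty) if and only if there
is an index i over i₀ such that S_j is connected for every j over i. -/
theorem result {I : Type u} [SmallCategory I] [IsCofiltered I]
    (D : I ⥤ Scheme.{u}) (c : Limits.Cone D) (hc : Limits.IsLimit c)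
    [∀ (i j : I) (f : i ⟶ j), IsAffineHom (D.map f)] (i₀ : I)
    [CompactSpace (D.obj i₀)] (hd : ∀ (i j : I) (φ : i ⟶ j), IsDominant (D.map φ)) :
    ConnectedSpace c.pt ↔ ∃ (i : I) (_ : i ⟶ i₀), ∀ (j : I) (_ : j ⟶ i), ConnectedSpace (D.obj j) := by
  have hdom : ∀ j, DenseRange ⇑(c.π.app j) := fun j =>
    ((Groth.Agent.LimLib.isDominant_π_iff hc j).2 fun k φ => hd k j φ).denseRange
  constructor
  · intro h
    refine ⟨i₀, 𝟙 i₀, fun j _ => ?_⟩
    exact { toPreconnectedSpace := DenseRange.preconnectedSpace (α := c.pt) (hdom j) (c.π.app j).continuous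
            toNonempty := ‹ConnectedSpace c.pt›.toNonempty.map ⇑(c.π.app j) }
  · rintro ⟨i, φ, hi⟩
    haveI : CompactSpace (D.obj i) := QuasiCompact.compactSpace_of_compactSpace (D.map φ)
    haveI : Nonempty c.pt := by
      by_contra hne
      rw [not_nonempty_iff] at hne
      obtain ⟨j, ψ, hj⟩ := Groth.Agent.LimLib.exists_preimage_eq_empty_lc hc
        (Groth.Agent.LimLib.lcClosed_of_isClosed (isClosed_univ (X := D.obj i)))
        (Set.eq_empty_of_isEmpty _)
      obtain ⟨x⟩ := (hi j ψ).toNonempty
      exact hj.le (show x ∈ ⇑(D.map ψ) ⁻¹' Set.univ from Set.mem_univ _)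
    haveI : PreconnectedSpace c.pt := by
      refine preconnectedSpace_iff_clopen.2 fun S hS => ?_
      by_contra! h
      obtain ⟨k, ψ, hk⟩ := Groth.Agent.LimLib.exists_clopen_partition_descend hc (i₁ := i)
        (fun j _ => hdom j) (fun a : ULift.{u} Bool => bif a.down then S else Sᶜ)
        (fun a => by cases a with | up b => cases b <;> simp [hS, hS.compl])
        (by
          intro a b hab
          rcases a with ⟨_ | _⟩ <;> rcases b with ⟨_ | _⟩ <;>
            simp_all [Function.onFun, disjoint_compl_left, disjoint_compl_right])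
        (Set.eq_univ_of_forall fun x => by
          by_cases hx : x ∈ S
          · exact Set.mem_iUnion.2 ⟨⟨true⟩, hx⟩
          · exact Set.mem_iUnion.2 ⟨⟨false⟩, hx⟩)
      obtain ⟨O, hO, hpre, -⟩ := hk k (𝟙 k)
      haveI := (hi k ψ).toPreconnectedSpace
      rcases isClopen_iff.1 (hO ⟨true⟩) with e | e
      · refine h.1.ne_empty ?_
        simpa [e] using (hpre ⟨true⟩).symm
      · refine h.2 ?_
        simpa [e] using (hpre ⟨true⟩).symm
    exact ⟨‹Nonempty c.pt›⟩

end Groth.Agent.S4772
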