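import Groth.Statements.S4774
import Mathlib

set_option autoImplicit false
universe u
open CategoryTheory AlgebraicGeometry
open Lim8

namespace Groth.Agent.S4774

/-- Let S = lim S_i be a cofiltered limit of schemes with affine transition maps. If S is not reduced,
then there is an index i such that S_j is not reduced for every index j over i. -/
theorem result {I : Type u} [SmallCategory I] [IsCofiltered I]
    (D : I ⥤ Scheme.{u}) (c : Limits.Cone D) (hc : Limits.IsLimit c)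
    [∀ (i j : I) (f : i ⟶ j), IsAffineHom (D.map f)] (h : ¬ IsReduced c.pt) :
    ∃ (i : I), ∀ (j : I) (_ : j ⟶ i), ¬ IsReduced (D.obj j) := by
  haveI : ∀ {i j : I} (f : i ⟶ j), IsAffineHom (D.map f) := fun {i j} f => inferInstance
  obtain ⟨i₀⟩ := IsCofiltered.nonempty (C := I)
  have hV : ∃ (i : I) (V : (D.obj i).Opens), IsAffineOpen V ∧
      ∃ s : Γ(c.pt, c.π.app i ⁻¹ᵁ V), IsNilpotent s ∧ s ≠ 0 := by
    by_contra hc'
    apply h
    refine ⟨fun U => ⟨fun s hs => ?_⟩⟩
    apply c.pt.IsSheaf.section_ext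
    intro x hx
    obtain ⟨_, ⟨i, V, hV, rfl⟩, hxV, hVU⟩ :=
      TopologicalSpace.Opens.isBasis_iff_nbhd.mp (isBasis_preimage_isAffineOpen D c hc) hx
    refine ⟨_, hVU, hxV, ?_⟩
    show c.pt.presheaf.map (homOfLE hVU).op s = c.pt.presheaf.map (homOfLE hVU).op 0
    rw [map_zero]
    by_contra hne
    exact hc' ⟨i, V, hV, _, hs.map (c.pt.presheaf.map (homOfLE hVU).op).hom, hne⟩
  obtain ⟨i, V, hV, s, hsn, hs0⟩ := hV
  haveI (j : Over i) : IsAffine ((opensDiagram D i V).obj j) := hV.preimage (D.map _)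
  have hl := isLimitOpensCone D c hc i V
  let s' : Γ((opensCone D c i V).pt, ⊤) := (c.π.app i ⁻¹ᵁ V).topIso.inv s
  obtain ⟨j, t, ht⟩ := exists_appTop_π_eq_of_isAffine_of_isLimit _ _ hl s'
  have hs' : s' ≠ 0 := fun h0 => hs0 ((c.π.app i ⁻¹ᵁ V).topIso.commRingCatIsoToRingEquiv.symm.injective (h0.trans (map_zero _).symm))
  obtain ⟨n, hn⟩ := hsn
  have htn : ((opensCone D c i V).π.app j).appTop (t ^ n) = 0 := by
    rw [map_pow, ht]
    show ((c.π.app i ⁻¹ᵁ V).topIso.inv.hom s) ^ n = 0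
    rw [← map_pow, hn, map_zero]
  obtain ⟨j', f, hf⟩ := exists_appTop_map_eq_zero_of_isAffine_of_isLimit _ _ hl j (t ^ n) htn
  refine ⟨j'.left, fun k g hred => ?_⟩
  let k' : Over i := Over.mk (g ≫ j'.hom)
  let g' : k' ⟶ j' := Over.homMk g
  haveI : IsReduced ((opensDiagram D i V).obj k') :=
    haveI := hred
    inferInstanceAs (IsReduced (D.map (g ≫ j'.hom) ⁻¹ᵁ V).toScheme)
  have hzero : ((opensDiagram D i V).map (g' ≫ f)).appTop t = 0 := by
    refine IsNilpotent.eq_zero ⟨n, ?_⟩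
    rw [← map_pow, Functor.map_comp, Scheme.Hom.comp_appTop, CommRingCat.comp_apply, hf, map_zero]
  apply hs'
  rw [← ht, ← Limits.Cone.w (opensCone D c i V) (g' ≫ f), Scheme.Hom.comp_appTop, CommRingCat.comp_apply,
    hzero, map_zero]

end Groth.Agent.S4774
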