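import Groth.Statements.S4775
import Groth.Agent.LimLib.Flat
import Groth.Agent.GeomFibre.Descent
-- import your own Groth.Agent.* helpers here

set_option autoImplicit false
universe u
open CategoryTheory AlgebraicGeometry
open Lim8

namespace Groth.Agent.S4775
open CategoryTheory CategoryTheory.Limits AlgebraicGeometry

theorem isReduced_of_isColimit {K : Type u} [SmallCategory K] [IsFiltered K]
    (G : K ⥤ CommRingCat.{u}) (s : Cocone G) (hs : IsColimit s) (h : ∀ k, _root_.IsReduced (G.obj k)) :
    _root_.IsReduced s.pt := by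
  refine ⟨fun x hx => ?_⟩
  obtain ⟨n, hn⟩ := hx
  obtain ⟨k, y, rfl⟩ := Concrete.isColimit_exists_rep G hs x
  obtain ⟨k', g, g', hg⟩ := Concrete.isColimit_exists_of_rep_eq.{u} G hs (y ^ n) 0 (by
    rw [map_pow, map_zero]; exact hn)
  rw [map_pow, map_zero] at hg
  have h0 : G.map g y = 0 := (h k').eq_zero _ ⟨n, hg⟩
  rw [← s.w g, CommRingCat.comp_apply, h0, map_zero]

theorem red_opens {X : Scheme.{u}} (U : X.Opens) (h : AlgebraicGeometry.IsReduced X) : AlgebraicGeometry.IsReduced U.toScheme :=
  haveI := h; isReduced_of_isOpenImmersion U.ι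

theorem key {I : Type u} [SmallCategory I] [IsCofiltered I] {D : I ⥤ Scheme.{u}} {c : Cone D}
    [∀ {i j : I} (f : i ⟶ j), IsAffineHom (D.map f)] (hc : IsLimit c) (i : I) (V : (D.obj i).Opens)
    (hV : IsAffineOpen V) (h : ∀ j, IsReduced (D.obj j)) : IsReduced (c.π.app i ⁻¹ᵁ V).toScheme := by
  have (j : Over i) : IsAffine ((opensDiagram D i V).obj j) := hV.preimage (D.map j.hom)
  have := isAffineHom_π_app D c hc i
  have : IsAffine (c.π.app i ⁻¹ᵁ V).toScheme := hV.preimage (c.π.app i)
  obtain ⟨hcol⟩ := nonempty_isColimit_Γ_mapCocone (opensDiagram D i V)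
    (opensCone D c i V) (isLimitOpensCone D c hc i V)
  have hk : ∀ k : (Over i)ᵒᵖ, _root_.IsReduced ↑(((opensDiagram D i V).op ⋙ Scheme.Γ).obj k) := fun k => by
    haveI := h k.unop.left
    haveI : IsReduced ((opensDiagram D i V).obj k.unop) :=
      red_opens _ (h k.unop.left)
    exact IsReduced.component_reduced _
  haveI : _root_.IsReduced Γ((c.π.app i ⁻¹ᵁ V).toScheme, ⊤) := isReduced_of_isColimit _ _ hcol hk
  exact isReduced_of_isAffine_isReduced _

/-- Let S = lim S_i be a cofiltered limit of schemes whose transition maps are affine, flat and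
surjective. Then S is reduced if and only if every S_i is reduced. -/
theorem result {I : Type u} [SmallCategory I] [IsCofiltered I]
    (D : I ⥤ Scheme.{u}) (c : Limits.Cone D) (hc : Limits.IsLimit c)
    [∀ (i j : I) (f : i ⟶ j), IsAffineHom (D.map f)]
    (hf : ∀ (i j : I) (φ : i ⟶ j), Flat (D.map φ) ∧ Surjective (D.map φ)) :
    IsReduced c.pt ↔ ∀ (i : I), IsReduced (D.obj i) := by
  haveI : ∀ {i j : I} (f : i ⟶ j), IsAffineHom (D.map f) := fun f => inferInstance
  constructor
  · intro h i
    haveI := h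
    haveI : Flat (c.π.app i) := Groth.Agent.LimLib.flat_π hc i fun j φ => (hf j i φ).1
    haveI : Surjective (c.π.app i) := (Groth.Agent.LimLib.surjective_π_iff hc i).2 fun j φ => (hf j i φ).2
    exact Groth.Agent.GeomFibre.isReduced_of_flat_surjective (Z := c.pt) (c.π.app i)
  · intro h
    obtain ⟨i⟩ := IsCofiltered.nonempty (C := I)
    have hco : TopologicalSpace.IsOpenCover fun V : (D.obj i).affineOpens => c.π.app i ⁻¹ᵁ V.1 := by
      rw [TopologicalSpace.IsOpenCover, ← Scheme.Hom.preimage_iSup, iSup_affineOpens_eq_top]; rfl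
    refine @AlgebraicGeometry.IsReduced.of_openCover c.pt (Scheme.openCoverOfIsOpenCover c.pt _ hco) fun V => ?_
    exact key hc i V.1 V.2 h

end Groth.Agent.S4775
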