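import Groth.Statements.S4776
import Groth.Agent.S4771
import Groth.Agent.S4775
import Mathlib
-- import your own Groth.Agent.* helpers here

set_option autoImplicit false
universe u
open CategoryTheory AlgebraicGeometry
open Lim8

namespace Groth.Agent.S4776

/-- Let S = lim S_i be a cofiltered limit of schemes whose transition maps are affine, flat and
surjective, some stage S_{i₀} being quasi-compact, and assume that the underlying topological space
of S is Noetherian. Then S is integral if and only if there is an index i over i₀ such that S_j is
integral for every j over i. (The published statement carries neither the quasi-compactness nor the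
Noetherian hypothesis; its proof combines the reducedness criterion with the irreducibility
criterion for limits, and the latter is proved only under these two hypotheses, so they are assumed
here.) -/
theorem result {I : Type u} [SmallCategory I] [IsCofiltered I]
    (D : I ⥤ Scheme.{u}) (c : Limits.Cone D) (hc : Limits.IsLimit c)
    [∀ (i j : I) (f : i ⟶ j), IsAffineHom (D.map f)] (i₀ : I)
    [CompactSpace (D.obj i₀)] [TopologicalSpace.NoetherianSpace c.pt]
    (hf : ∀ (i j : I) (φ : i ⟶ j), Flat (D.map φ) ∧ Surjective (D.map φ)) :
    IsIntegral c.pt ↔ ∃ (i : I) (_ : i ⟶ i₀), ∀ (j : I) (_ : j ⟶ i), IsIntegral (D.obj j) := by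
  have hd : ∀ (a b : I) (φ : a ⟶ b), IsDominant (D.map φ) := fun a b φ =>
    haveI := (hf a b φ).2
    inferInstance
  constructor
  · intro h
    haveI := h
    obtain ⟨i, φ, hi⟩ := (Groth.Agent.S4771.result D c hc i₀ hd).mp inferInstance
    refine ⟨i, φ, fun j g => ?_⟩
    haveI := hi j g
    haveI : IsReduced (D.obj j) := (Groth.Agent.S4775.result D c hc hf).mp inferInstance j
    exact isIntegral_of_irreducibleSpace_of_isReduced _
  · rintro ⟨i, φ, hi⟩
    haveI : IrreducibleSpace c.pt := (Groth.Agent.S4771.result D c hc i₀ hd).mpr ⟨i, φ, fun j g => by
      haveI := hi j g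
      infer_instance⟩
    haveI : IsReduced c.pt := (Groth.Agent.S4775.result D c hc hf).mpr fun a => by
      obtain ⟨j, α, β, -⟩ := IsCofilteredOrEmpty.cone_objs a i
      haveI := hi j β
      haveI := (hf j a α).1
      haveI := (hf j a α).2
      exact Groth.Agent.GeomFibre.isReduced_of_flat_surjective (D.map α)
    exact isIntegral_of_irreducibleSpace_of_isReduced _

end Groth.Agent.S4776
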