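import Mathlib
import Groth.Agent.IndFP.Colimit
import Groth.Statements.S4777
-- import your own Groth.Agent.* helpers here

set_option autoImplicit false
universe u
open CategoryTheory
open Lim8

namespace Groth.Agent.S4777

set_option backward.isDefEq.respectTransparency false
set_option backward.isDefEq.respectTransparency.types false

/-- Let B be an algebra over a commutative ring A. If, for every inductive system (C_λ) of A-algebras
indexed by a nonempty directed preordered set, the canonical map colim Hom_A(B, C_λ) → Hom_A(B,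
colim C_λ) is bijective (that is, Hom_A(B, -) preserves the colimit of the system), then B is an
A-algebra of finite presentation. (This is the necessity half of the characterization of algebras of
finite presentation by this property; the converse is standard.) -/
theorem result {A B : CommRingCat.{u}} (f : A ⟶ B)
    (h : ∀ (J : Type u) [Preorder J] [IsDirected J (· ≤ ·)] [Nonempty J] (F : J ⥤ Under A),
      Limits.PreservesColimit F (coyoneda.obj (Opposite.op (Under.mk f)))) :
    f.hom.FinitePresentation := by
  algebraize [f.hom]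
  classical
  haveI : Nonempty (Groth.Agent.IndFP.Idx A B) := by
    obtain ⟨j, -, -⟩ := Groth.Agent.IndFP.exists_idx (A := A) (B := B) ∅ ∅ (by simp)
    exact ⟨j⟩
  haveI : IsDirectedOrder (Groth.Agent.IndFP.Idx A B) := ⟨fun j k => Groth.Agent.IndFP.idx_directed j k⟩
  have hc := (Groth.Agent.IndFP.nonempty_isColimit_cocone (A := A) (B := B)).some
  haveI := h (Groth.Agent.IndFP.Idx A B) (Groth.Agent.IndFP.diagram A B)
  obtain ⟨j, s, hs⟩ := Limits.Types.jointly_surjective _
    (Limits.isColimitOfPreserves (coyoneda.obj (Opposite.op (Under.mk f))) hc) (𝟙 (Under.mk f))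
  let s' : B →ₐ[A] Groth.Agent.IndFP.Poly A j.S ⧸ j.I :=
    { (show Under.mk f ⟶ (Groth.Agent.IndFP.diagram A B).obj j from s).right.hom with
      commutes' := fun a => DFunLike.congr_fun (congrArg CommRingCat.Hom.hom (Under.w (show Under.mk f ⟶ (Groth.Agent.IndFP.diagram A B).obj j from s))) a }
  let l := Groth.Agent.IndFP.leg A B j
  have hls : ∀ b, l (s' b) = b := fun b => DFunLike.congr_fun (congrArg (fun φ : Under.mk f ⟶ Under.mk f => φ.right.hom) hs) b
  haveI : Algebra.FinitePresentation A (Groth.Agent.IndFP.Poly A j.S ⧸ j.I) := Algebra.FinitePresentation.quotient j.fg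
  obtain ⟨T, hT⟩ := (inferInstance : Algebra.FiniteType A (Groth.Agent.IndFP.Poly A j.S ⧸ j.I)).out
  let e := s'.comp l
  have hker : (RingHom.ker l.toRingHom) = Ideal.span ((fun t => t - e t) '' (T : Set (Groth.Agent.IndFP.Poly A j.S ⧸ j.I))) := by
    refine le_antisymm (fun x hx => ?_) (Ideal.span_le.mpr ?_)
    · set J := Ideal.span ((fun t => t - e t) '' (T : Set (Groth.Agent.IndFP.Poly A j.S ⧸ j.I)))
      have hall : Algebra.adjoin A (T : Set (Groth.Agent.IndFP.Poly A j.S ⧸ j.I)) ≤ AlgHom.equalizer (Ideal.Quotient.mkₐ A J) ((Ideal.Quotient.mkₐ A J).comp e) :=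
        Algebra.adjoin_le fun t ht => Ideal.Quotient.eq.mpr (Ideal.subset_span ⟨t, ht, rfl⟩)
      have h1 : Ideal.Quotient.mk J x = Ideal.Quotient.mk J (s' (l x)) := hall (hT ▸ Algebra.mem_top)
      rw [show l x = 0 from hx, map_zero, map_zero] at h1
      exact Ideal.Quotient.eq_zero_iff_mem.mp h1
    · rintro _ ⟨t, -, rfl⟩
      show l (t - s' (l t)) = 0
      rw [map_sub, hls, sub_self]
  exact Algebra.FinitePresentation.of_surjective (f := l) (fun b => ⟨s' b, hls b⟩)
    (by rw [hker]; exact Submodule.fg_span (T.finite_toSet.image _))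

end Groth.Agent.S4777
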