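import Groth.Statements.S4779
import Groth.Agent.LimLib.BaseChange
-- import your own Groth.Agent.* helpers here

set_option autoImplicit false
universe u
open CategoryTheory AlgebraicGeometry
open Lim8

set_option backward.isDefEq.respectTransparency false

namespace Groth.Agent.S4779

/-- Let S = lim S_i be a cofiltered limit of schemes with affine transition maps, let f₀ : X₀ ⟶ Y₀ be a
morphism of schemes over a stage S_{i₀}, and let f : X ⟶ Y be its base change along S ⟶ S_{i₀} (all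
base changes are expressed by pullback squares). If there is an index i over i₀ such that, for every
j over i, the base change f_j : X_j ⟶ Y_j of f₀ along S_j ⟶ S_{i₀} is an open map, then f is an open
map. (The corresponding statement for universally open morphisms follows from this one by base
change.) -/
theorem result {I : Type u} [SmallCategory I] [IsCofiltered I]
    (D : I ⥤ Scheme.{u}) (c : Limits.Cone D) (hc : Limits.IsLimit c)
    [∀ (i j : I) (f : i ⟶ j), IsAffineHom (D.map f)] (i₀ : I)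
    {X₀ Y₀ : Scheme.{u}} (f₀ : X₀ ⟶ Y₀) (g₀ : Y₀ ⟶ D.obj i₀)
    {X Y : Scheme.{u}} (f : X ⟶ Y) (g : Y ⟶ c.pt) (qY : Y ⟶ Y₀) (qX : X ⟶ X₀)
    (hY : IsPullback qY g g₀ (c.π.app i₀)) (hX : IsPullback qX f f₀ qY)
    (h : ∃ (i : I) (φ : i ⟶ i₀), ∀ (j : I) (ψ : j ⟶ i) (Xj Yj : Scheme.{u}) (fj : Xj ⟶ Yj)
      (gj : Yj ⟶ D.obj j) (pY : Yj ⟶ Y₀) (pX : Xj ⟶ X₀),
      IsPullback pY gj g₀ (D.map (ψ ≫ φ)) → IsPullback pX fj f₀ pY → IsOpenMap ⇑fj) :
    IsOpenMap ⇑f := by
  obtain ⟨i, φ, h⟩ := h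
  let a := f₀ ≫ g₀
  have hXY : IsPullback qX (f ≫ g) a (c.π.app i₀) := hX.paste_vert hY
  let e := hXY.flip.isoPullback
  have heb : IsOpenMap (⇑e.inv) := (Scheme.Hom.isOpenEmbedding e.inv).isOpenMap
  intro U hU
  rw [isOpen_iff_forall_mem_open]
  rintro _ ⟨x, hxU, rfl⟩
  let U' : (LimLib.bcCone c a).pt.Opens := ⟨⇑e.inv ⁻¹' U, hU.preimage e.inv.continuous⟩
  have hxU' : e.hom x ∈ U' := by
    show e.inv (e.hom x) ∈ U
    rw [← Scheme.Hom.comp_apply, e.hom_inv_id]; exact hxU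
  obtain ⟨_, ⟨k, V, -, rfl⟩, hxV, hVU⟩ := TopologicalSpace.Opens.isBasis_iff_nbhd.1
    (isBasis_preimage_isAffineOpen (LimLib.bcDiagram D a) (LimLib.bcCone c a) (LimLib.isLimitBcCone a hc)) hxU'
  obtain ⟨m, ψ, χ, hψ⟩ := IsCofiltered.cospan φ k.hom
  let Yj := Limits.pullback g₀ (D.map (ψ ≫ φ))
  let pY : Yj ⟶ Y₀ := Limits.pullback.fst _ _
  let gj : Yj ⟶ D.obj m := Limits.pullback.snd _ _
  let Xj := Limits.pullback f₀ pY
  let pX : Xj ⟶ X₀ := Limits.pullback.fst _ _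
  let fj : Xj ⟶ Yj := Limits.pullback.snd _ _
  have hop := h m ψ Xj Yj fj gj pY pX (.of_hasPullback _ _) (.of_hasPullback _ _)
  let rY : Y ⟶ Yj := Limits.pullback.lift qY (g ≫ c.π.app m) (by rw [Category.assoc, c.w]; exact hY.w)
  have hrY : rY ≫ pY = qY := Limits.pullback.lift_fst _ _ _
  let rX : X ⟶ Xj := Limits.pullback.lift qX (f ≫ rY) (by rw [Category.assoc, hrY]; exact hX.w)
  have hr : IsPullback rX f fj rY := by
    refine IsPullback.of_right ?_ (Limits.pullback.lift_snd _ _ _) (IsPullback.of_hasPullback f₀ pY)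
    rw [Limits.pullback.lift_fst, hrY]
    exact hX
  let n : Xj ⟶ (LimLib.bcDiagram D a).obj k := Limits.pullback.lift (fj ≫ gj ≫ D.map χ) pX (by
    rw [Category.assoc, Category.assoc, ← D.map_comp, ← hψ]
    simp only [fj, gj, pX, a]
    rw [← Limits.pullback.condition (f := g₀), Limits.pullback.condition_assoc])
  have hn : rX ≫ n = e.hom ≫ (LimLib.bcCone c a).π.app k := by
    apply Limits.pullback.hom_ext
    · simp [rX, rY, n, fj, gj, e, c.w]
    · simp [rX, n, pX, e]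
  have hn' : ∀ z, n (rX z) = (LimLib.bcCone c a).π.app k (e.hom z) := fun z =>
    (Scheme.Hom.comp_apply rX n z).symm.trans
      ((congrArg (fun q : X ⟶ (LimLib.bcDiagram D a).obj k => q z) hn).trans (Scheme.Hom.comp_apply _ _ z))
  refine ⟨⇑rY ⁻¹' (⇑fj '' (⇑n ⁻¹' (V : Set ↥((LimLib.bcDiagram D a).obj k)))), ?_,
    (hop _ (V.2.preimage n.continuous)).preimage rY.continuous, ⟨rX x, ?_, ?_⟩⟩
  · rintro y ⟨w, hw, hwy⟩
    obtain ⟨z, hz1, rfl⟩ := Scheme.exists_preimage_of_isPullback hr w y hwy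
    refine ⟨z, ?_, rfl⟩
    have : e.hom z ∈ U' := hVU (show (LimLib.bcCone c a).π.app k (e.hom z) ∈ V by
      rw [← hn' z, hz1]; exact hw)
    rwa [show e.hom z ∈ U' ↔ e.inv (e.hom z) ∈ U from Iff.rfl, ← Scheme.Hom.comp_apply, e.hom_inv_id] at this
  · show n (rX x) ∈ V
    rw [hn' x]
    exact hxV
  · rw [← Scheme.Hom.comp_apply, ← Scheme.Hom.comp_apply, hr.w]

end Groth.Agent.S4779
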