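import Groth.Statements.S4780
import Groth.Agent.S1373
-- import your own Groth.Agent.* helpers here

set_option autoImplicit false
universe u
open CategoryTheory AlgebraicGeometry
open Lim8

namespace Groth.Agent.S4780

/-- Let f : X ⟶ Y be a morphism of schemes. If, for every integer n > 0, the base change of f to affine
n-space over Y, X ×_Y 𝔸ⁿ_Y ⟶ 𝔸ⁿ_Y, is an open map of topological spaces, then f is universally open. -/
theorem result {X Y : Scheme.{u}} (f : X ⟶ Y)
    (h : ∀ n : ℕ, 0 < n →
      IsOpenMap ⇑(Limits.pullback.snd f (AffineSpace (ULift.{u} (Fin n)) Y ↘ Y))) :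
    UniversallyOpen f := by
  refine (S1373.result f).2 fun n => ?_
  have key : ∀ m : ℕ, IsOpenMap ⇑(Limits.pullback.snd f (AffineSpace (ULift.{u} (Fin m)) Y ↘ Y)) → 0 < m →
      IsOpenMap ⇑f := by
    intro m hm hpos
    have : Nonempty (Fin m) := ⟨⟨0, hpos⟩⟩
    let π := AffineSpace (ULift.{u} (Fin m)) Y ↘ Y
    intro U hU
    have e : ⇑f '' U = ⇑π '' (⇑(Limits.pullback.snd f π) '' (⇑(Limits.pullback.fst f π) ⁻¹' U)) := by
      rw [← Set.image_comp, ← TopCat.coe_comp, ← Scheme.Hom.comp_base, ← Limits.pullback.condition,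
        Scheme.Hom.comp_base, TopCat.coe_comp, Set.image_comp,
        Set.image_preimage_eq _ (Limits.pullback.fst f π).surjective]
    rw [e]
    exact AffineSpace.isOpenMap_over (n := ULift.{u} (Fin m)) (S := Y) _ (hm _ (hU.preimage (Limits.pullback.fst f π).continuous))
  have hsq := AffineSpace.isPullback_map (n := ULift.{u} (Fin n)) f
  have hsnd : IsOpenMap ⇑(Limits.pullback.snd f (AffineSpace (ULift.{u} (Fin n)) Y ↘ Y)) := by
    rcases Nat.eq_zero_or_pos n with rfl | hn
    · have hf := key 1 (h 1 one_pos) one_pos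
      rw [show Limits.pullback.snd f (AffineSpace (ULift.{u} (Fin 0)) Y ↘ Y) =
        (Limits.pullback.fst f _ ≫ f) ≫ inv (AffineSpace (ULift.{u} (Fin 0)) Y ↘ Y) by
          rw [Limits.pullback.condition, Category.assoc, IsIso.hom_inv_id, Category.comp_id],
        Scheme.Hom.comp_base, TopCat.coe_comp, Scheme.Hom.comp_base, TopCat.coe_comp]
      exact (Scheme.Hom.isOpenEmbedding _).isOpenMap.comp (hf.comp (Scheme.Hom.isOpenEmbedding _).isOpenMap)
    · exact h n hn
  rw [← hsq.flip.isoPullback_hom_snd, Scheme.Hom.comp_base, TopCat.coe_comp]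
  exact hsnd.comp (Scheme.Hom.isOpenEmbedding _).isOpenMap

end Groth.Agent.S4780
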