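import Groth.Statements.S4782
import Mathlib
import Groth.Agent.S4774

set_option autoImplicit false
universe u
open CategoryTheory AlgebraicGeometry
open Lim8

namespace Groth.Agent.S4782

/-- Let S = lim S_i be a cofiltered limit of schemes whose transition maps are open immersions (in
particular affine), and let S_{i₀} be a quasi-compact stage whose nilradical is an ideal of finite
type, i.e. for every affine open U of S_{i₀} the nilradical of Γ(S_{i₀}, U) is finitely generated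
(automatic when S_{i₀} is Noetherian). Then S is reduced if and only if there is an index i over i₀
such that S_j is reduced for every j over i. -/
theorem result {I : Type u} [SmallCategory I] [IsCofiltered I]
    (D : I ⥤ Scheme.{u}) (c : Limits.Cone D) (hc : Limits.IsLimit c)
    [∀ (i j : I) (f : i ⟶ j), IsAffineHom (D.map f)] (i₀ : I)
    [CompactSpace (D.obj i₀)] (hoi : ∀ (i j : I) (φ : i ⟶ j), IsOpenImmersion (D.map φ))
    (hN : ∀ U : (D.obj i₀).affineOpens, (nilradical Γ(D.obj i₀, U)).FG) :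
    IsReduced c.pt ↔ ∃ (i : I) (_ : i ⟶ i₀), ∀ (j : I) (_ : j ⟶ i), IsReduced (D.obj j) := by
  classical
  have hcomp : ∀ {X Y Z : Scheme.{u}} (p : X ⟶ Y) (q : Y ⟶ Z) (U : Z.Opens) (a : Γ(Z, U)), q.app U a = 0 →
      (p ≫ q).app U a = 0 := by
    intro X Y Z p q U a h
    rw [Scheme.Hom.comp_app]
    exact (congrArg (p.app (q ⁻¹ᵁ U)) h).trans (map_zero _)
  haveI : ∀ {i j : I} (f : i ⟶ j), IsAffineHom (D.map f) := fun {i j} f => inferInstance
  constructor
  · intro hred
    obtain ⟨T, hT⟩ : ∃ T : Finset (D.obj i₀).affineOpens, ∀ y : D.obj i₀, ∃ U ∈ T, y ∈ (U : (D.obj i₀).Opens) := by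
      have hcov : (Set.univ : Set (D.obj i₀)) ⊆ ⋃ U : (D.obj i₀).affineOpens, ((U : (D.obj i₀).Opens) : Set (D.obj i₀)) := by
        intro y _
        obtain ⟨U, hU, hyU, -⟩ := exists_isAffineOpen_mem_and_subset (X := D.obj i₀) (x := y) (U := ⊤) trivial
        exact Set.mem_iUnion.2 ⟨⟨U, hU⟩, hyU⟩
      obtain ⟨T, hT⟩ := isCompact_univ.elim_finite_subcover _ (fun U => U.1.isOpen) hcov
      exact ⟨T, fun y => by simpa using hT (Set.mem_univ y)⟩
    choose G hG using hN
    let P : Finset ((U : (D.obj i₀).affineOpens) × Γ(D.obj i₀, U)) := T.sigma G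
    have key : ∀ Q : Finset ((U : (D.obj i₀).affineOpens) × Γ(D.obj i₀, U)), Q ⊆ P →
        ∃ (j : I) (φ : j ⟶ i₀), ∀ a ∈ Q, (D.map φ).app a.1 a.2 = 0 := by
      intro Q
      induction Q using Finset.induction_on with
      | empty => exact fun _ => ⟨i₀, 𝟙 _, by simp⟩
      | @insert a Q ha ih =>
        intro hQ
        obtain ⟨j₁, φ₁, h₁⟩ := ih (fun x hx => hQ (Finset.mem_insert_of_mem hx))
        have hnil : IsNilpotent a.2 := by
          have hmem := (Finset.mem_sigma.1 (hQ (Finset.mem_insert_self _ _))).2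
          exact mem_nilradical.1 (hG a.1 ▸ Ideal.subset_span hmem)
        haveI : IsReduced (((Functor.const I).obj c.pt).obj i₀) := hred
        obtain ⟨j₂, φ₂, h₂⟩ := exists_app_map_eq_zero_of_isLimit D c hc a.1.2.isCompact a.2
          ((hnil.map _).eq_zero)
        obtain ⟨j, α, β, w⟩ : ∃ (j : I) (α : j ⟶ j₁) (β : j ⟶ j₂), α ≫ φ₁ = β ≫ φ₂ := by
          obtain ⟨j, α, β, -⟩ := IsCofilteredOrEmpty.cone_objs j₁ j₂
          obtain ⟨j', γ, hγ⟩ := IsCofilteredOrEmpty.cone_maps (α ≫ φ₁) (β ≫ φ₂)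
          exact ⟨j', γ ≫ α, γ ≫ β, by simpa using hγ⟩
        refine ⟨j, α ≫ φ₁, fun b hb => ?_⟩
        rcases Finset.mem_insert.1 hb with rfl | hb
        · rw [w, D.map_comp]
          exact hcomp _ _ _ _ h₂
        · rw [D.map_comp]
          exact hcomp _ _ _ _ (h₁ b hb)
    obtain ⟨j, φ, hφ⟩ := key P (Finset.Subset.refl _)
    refine ⟨j, φ, fun k g => ?_⟩
    have hz : ∀ U ∈ T, ∀ a : Γ(D.obj i₀, (U : (D.obj i₀).Opens)), IsNilpotent a → (D.map (g ≫ φ)).app U a = 0 := by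
      intro U hU a ha
      have hle : nilradical Γ(D.obj i₀, (U : (D.obj i₀).Opens)) ≤ RingHom.ker ((D.map (g ≫ φ)).app U).hom := by
        rw [← hG U]
        refine Ideal.span_le.2 fun b hb => ?_
        show (D.map (g ≫ φ)).app U b = 0
        rw [D.map_comp]
        exact hcomp _ _ _ _ (hφ ⟨U, b⟩ (Finset.mem_sigma.2 ⟨hU, hb⟩))
      exact hle (mem_nilradical.2 ha)
    haveI := hoi k i₀ (g ≫ φ)
    apply +allowSynthFailures isReduced_of_isReduced_stalk
    intro x
    refine ⟨fun e he => ?_⟩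
    obtain ⟨U, hU, hxU⟩ := hT ((D.map (g ≫ φ)).base x)
    let y : (U : (D.obj i₀).Opens) := ⟨_, hxU⟩
    letI : Algebra Γ(D.obj i₀, (U : (D.obj i₀).Opens)) ((D.obj i₀).presheaf.stalk ((D.map (g ≫ φ)) x)) :=
      ((D.obj i₀).presheaf.germ U _ hxU).hom.toAlgebra
    haveI : IsLocalization.AtPrime ((D.obj i₀).presheaf.stalk ((D.map (g ≫ φ)) x)) (U.2.primeIdealOf y).asIdeal :=
      U.2.isLocalization_stalk y
    obtain ⟨e', rfl⟩ := (asIso ((D.map (g ≫ φ)).stalkMap x)).commRingCatIsoToRingEquiv.surjective e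
    obtain ⟨n, hn⟩ := he
    have hn' : e' ^ n = 0 :=
      (asIso ((D.map (g ≫ φ)).stalkMap x)).commRingCatIsoToRingEquiv.injective
        ((map_pow _ e' n).trans (hn.trans (map_zero _).symm))
    obtain ⟨⟨a, s⟩, has⟩ := IsLocalization.surj (U.2.primeIdealOf y).asIdeal.primeCompl e'
    have : algebraMap Γ(D.obj i₀, (U : (D.obj i₀).Opens)) ((D.obj i₀).presheaf.stalk ((D.map (g ≫ φ)) x)) (a ^ n) = algebraMap Γ(D.obj i₀, (U : (D.obj i₀).Opens)) _ 0 := by
      rw [map_pow, ← has, mul_pow, hn', zero_mul, map_zero]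
    obtain ⟨s', hs'⟩ := (IsLocalization.eq_iff_exists (U.2.primeIdealOf y).asIdeal.primeCompl _).1 this
    have hnil : IsNilpotent ((s' : Γ(D.obj i₀, (U : (D.obj i₀).Opens))) * a) := ⟨n + 1, by
      rw [mul_pow, pow_succ _ n, pow_succ a n, mul_zero] at *
      calc _ = (s' : Γ(D.obj i₀, (U : (D.obj i₀).Opens))) ^ n * ((s' : Γ(D.obj i₀, (U : (D.obj i₀).Opens))) * a ^ n) * a := by ring
        _ = 0 := by rw [hs', mul_zero, zero_mul]⟩
    have h0 : (D.map (g ≫ φ)).stalkMap x (algebraMap Γ(D.obj i₀, (U : (D.obj i₀).Opens)) ((D.obj i₀).presheaf.stalk ((D.map (g ≫ φ)) x)) ((s' : Γ(D.obj i₀, (U : (D.obj i₀).Opens))) * a)) = 0 := by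
      show (D.map (g ≫ φ)).stalkMap x ((D.obj i₀).presheaf.germ U _ hxU _) = 0
      rw [Scheme.Hom.germ_stalkMap_apply, hz U hU _ hnil, map_zero]
    rw [map_mul, ← has, map_mul, map_mul] at h0
    have hu1 := (IsLocalization.map_units ((D.obj i₀).presheaf.stalk ((D.map (g ≫ φ)) x)) s').map ((D.map (g ≫ φ)).stalkMap x).hom
    have hu2 := (IsLocalization.map_units ((D.obj i₀).presheaf.stalk ((D.map (g ≫ φ)) x)) s).map ((D.map (g ≫ φ)).stalkMap x).hom
    exact (hu2.mul_left_eq_zero).1 ((hu1.mul_right_eq_zero).1 h0)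
  · rintro ⟨i, _, hi⟩
    by_contra hred
    obtain ⟨j, hj⟩ := Groth.Agent.S4774.result D c hc hred
    obtain ⟨k, α, β, -⟩ := IsCofilteredOrEmpty.cone_objs i j
    exact hj k β (hi k α)

end Groth.Agent.S4782
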