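import Groth.Statements.S4783
import Mathlib
import Groth.Agent.S4782

set_option autoImplicit false
universe u
open CategoryTheory AlgebraicGeometry
open Lim8

namespace Groth.Agent.S4783

/-- Let S = lim S_i be a cofiltered limit of schemes whose transition maps are open immersions (in
particular affine), and let S_{i₀} be a Noetherian stage. Then S is integral if and only if there is
an index i over i₀ such that S_j is integral for every j over i. -/
theorem result {I : Type u} [SmallCategory I] [IsCofiltered I]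
    (D : I ⥤ Scheme.{u}) (c : Limits.Cone D) (hc : Limits.IsLimit c)
    [∀ (i j : I) (f : i ⟶ j), IsAffineHom (D.map f)] (i₀ : I)
    [IsNoetherian (D.obj i₀)] (hoi : ∀ (i j : I) (φ : i ⟶ j), IsOpenImmersion (D.map φ)) :
    IsIntegral c.pt ↔ ∃ (i : I) (_ : i ⟶ i₀), ∀ (j : I) (_ : j ⟶ i), IsIntegral (D.obj j) := by
  classical
  haveI : ∀ {i j : I} (f : i ⟶ j), IsAffineHom (D.map f) := fun {i j} f => inferInstance
  have hfg : ∀ U : (D.obj i₀).affineOpens, (nilradical Γ(D.obj i₀, U)).FG := fun U => by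
    haveI := IsLocallyNoetherian.component_noetherian (X := D.obj i₀) U
    exact IsNoetherian.noetherian _
  have hne : ∀ (i : I) (W : (D.obj i).Opens), IsAffineOpen W →
      (∀ (k : I) (φ : k ⟶ i), ∃ x : D.obj k, (D.map φ).base x ∈ W) → ∃ y : c.pt, (c.π.app i).base y ∈ W := by
    intro i W hW hk
    haveI (k : Over i) : IsAffine ((opensDiagram D i W).obj k) := hW.preimage (D.map _)
    haveI (k : Over i) : Nonempty ((opensDiagram D i W).obj k) := by
      obtain ⟨x, hx⟩ := hk k.left k.hom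
      exact ⟨⟨x, hx⟩⟩
    obtain ⟨y, hy⟩ := (Scheme.nonempty_of_isLimit _ _ (isLimitOpensCone D c hc i W)).some
    exact ⟨y, hy⟩
  constructor
  · intro hint
    haveI := hint
    obtain ⟨i₁, φ₁, h₁⟩ := (Groth.Agent.S4782.result D c hc i₀ hoi hfg).1 inferInstance
    let T := irreducibleComponents (D.obj i₀)
    have hT : T.Finite := TopologicalSpace.NoetherianSpace.finite_irreducibleComponents
    have hgen : ∀ Z ∈ T, ∃ η : D.obj i₀, IsGenericPoint η Z := fun Z hZ => by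
      refine ⟨hZ.1.genericPoint, ?_⟩
      simpa [(isClosed_of_mem_irreducibleComponents Z hZ).closure_eq] using hZ.1.isGenericPoint_genericPoint_closure
    choose η hη using hgen
    let good : Set (D.obj i₀) → Prop := fun Z => ∀ hZ : Z ∈ T, ∀ (k : I) (φ : k ⟶ i₀), η Z hZ ∈ Set.range (D.map φ).base
    have hbad : ∀ Q : Finset (Set (D.obj i₀)), ∃ (j : I) (φ : j ⟶ i₁), ∀ Z ∈ Q, ¬ good Z →
        ∃ hZ : Z ∈ T, η Z hZ ∉ Set.range (D.map (φ ≫ φ₁)).base := by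
      intro Q
      induction Q using Finset.induction_on with
      | empty => exact ⟨i₁, 𝟙 _, by simp⟩
      | @insert Z Q hZQ ih =>
        obtain ⟨j, φ, hj⟩ := ih
        by_cases hg : good Z
        · refine ⟨j, φ, fun Z' hZ' hg' => ?_⟩
          rcases Finset.mem_insert.1 hZ' with rfl | h'
          · exact absurd hg hg'
          · exact hj Z' h' hg'
        · simp only [good, not_forall] at hg
          obtain ⟨hZT, k, ψ, hk⟩ := hg
          obtain ⟨m, α, β, w⟩ : ∃ (m : I) (α : m ⟶ j) (β : m ⟶ k), α ≫ φ ≫ φ₁ = β ≫ ψ := by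
            obtain ⟨m, α, β, -⟩ := IsCofilteredOrEmpty.cone_objs j k
            obtain ⟨m', γ, hγ⟩ := IsCofilteredOrEmpty.cone_maps (α ≫ φ ≫ φ₁) (β ≫ ψ)
            exact ⟨m', γ ≫ α, γ ≫ β, by simpa using hγ⟩
          have hsub : ∀ {a b : I} (f : a ⟶ b) (g : b ⟶ i₀),
              Set.range (D.map (f ≫ g)).base ⊆ Set.range (D.map g).base := by
            intro a b f g
            rintro _ ⟨x, rfl⟩
            exact ⟨(D.map f).base x, by rw [D.map_comp]; rfl⟩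
          refine ⟨m, α ≫ φ, fun Z' hZ' hg' => ?_⟩
          rcases Finset.mem_insert.1 hZ' with rfl | h'
          · refine ⟨hZT, fun hmem => hk ?_⟩
            rw [Category.assoc, w] at hmem
            exact hsub β ψ hmem
          · obtain ⟨hT', hn⟩ := hj Z' h' hg'
            refine ⟨hT', fun hmem => hn ?_⟩
            rw [Category.assoc] at hmem
            exact hsub α (φ ≫ φ₁) hmem
    obtain ⟨j₀, φ₀, hj₀⟩ := hbad hT.toFinset
    have hcomp : ∀ x : D.obj i₀, ∃ Z ∈ T, x ∈ Z := fun x =>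
      ⟨irreducibleComponent x, irreducibleComponent_mem_irreducibleComponents x, mem_irreducibleComponent⟩
    have huniq : ∀ Z₁ Z₂ (h₁ : Z₁ ∈ T) (h₂ : Z₂ ∈ T), good Z₁ → good Z₂ → Z₁ = Z₂ := by
      intro Z₁ Z₂ h₁ h₂ g₁ g₂
      by_contra hne'
      have hopen : ∀ Z (hZ : Z ∈ T), good Z → ∃ y : c.pt, ∀ Z' ∈ T, Z' ≠ Z → (c.π.app i₀).base y ∉ Z' := by
        intro Z hZ hg
        have hcl : IsClosed (⋃ Z' ∈ T \ {Z}, Z') :=
          (hT.subset Set.sdiff_subset).isClosed_biUnion fun Z' h' => isClosed_of_mem_irreducibleComponents Z' h'.1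
        have hηO : η Z hZ ∈ (⟨_, hcl.isOpen_compl⟩ : (D.obj i₀).Opens) := by
          simp only [TopologicalSpace.Opens.mem_mk, Set.mem_compl_iff, Set.mem_iUnion, not_exists]
          rintro Z' ⟨hZ', hne''⟩ hmem
          exact hne'' (hZ.eq_of_ge hZ'.1 (((hη Z hZ).mem_closed_set_iff (isClosed_of_mem_irreducibleComponents Z' hZ')).1 hmem))
        obtain ⟨W, hW, hηW, hWO⟩ := exists_isAffineOpen_mem_and_subset hηO
        obtain ⟨y, hy⟩ := hne i₀ W hW fun k φ => by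
          obtain ⟨x, hx⟩ := hg hZ k φ
          exact ⟨x, hx ▸ hηW⟩
        refine ⟨y, fun Z' hZ' hne'' hmem => hWO hy (Set.mem_biUnion ⟨hZ', hne''⟩ hmem)⟩
      have hop : ∀ Z, IsOpen {y : c.pt | ∀ Z' ∈ T, Z' ≠ Z → (c.π.app i₀).base y ∉ Z'} := fun Z => by
        have : {y : c.pt | ∀ Z' ∈ T, Z' ≠ Z → (c.π.app i₀).base y ∉ Z'} =
            (c.π.app i₀).base ⁻¹' (⋃ Z' ∈ T \ {Z}, Z')ᶜ := by
          ext y
          simp only [Set.mem_ofPred_eq, Set.mem_preimage, Set.mem_compl_iff, Set.mem_iUnion, not_exists,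
            Set.mem_sdiff, Set.mem_singleton_iff]
          exact ⟨fun h Z' h' hm => h Z' h'.1 h'.2 hm, fun h Z' ha hb hm => h Z' ⟨ha, hb⟩ hm⟩
        rw [this]
        exact ((hT.subset Set.sdiff_subset).isClosed_biUnion fun Z' h' =>
          isClosed_of_mem_irreducibleComponents Z' h'.1).isOpen_compl.preimage (c.π.app i₀).continuous
      obtain ⟨y, hy₁, hy₂⟩ := nonempty_preirreducible_inter (hop Z₁) (hop Z₂) (hopen Z₁ h₁ g₁) (hopen Z₂ h₂ g₂)
      obtain ⟨Z, hZ, hyZ⟩ := hcomp ((c.π.app i₀).base y)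
      rcases eq_or_ne Z Z₁ with rfl | h
      · exact hy₂ Z hZ hne' hyZ
      · exact hy₁ Z hZ h hyZ
    refine ⟨j₀, φ₀ ≫ φ₁, fun k g => ?_⟩
    haveI : IsReduced (D.obj k) := h₁ k (g ≫ φ₀)
    have himm := hoi k i₀ (g ≫ φ₀ ≫ φ₁)
    let f := D.map (g ≫ φ₀ ≫ φ₁)
    have hin : ∀ x : D.obj k, ∀ Z (hZ : Z ∈ T), f.base x ∈ Z → η Z hZ ∈ Set.range f.base ∧ good Z := by
      intro x Z hZ hx
      have h1 : η Z hZ ∈ Set.range f.base :=
        ((hη Z hZ).specializes hx).mem_open f.isOpenEmbedding.isOpen_range ⟨x, rfl⟩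
      refine ⟨h1, by_contra fun hg => ?_⟩
      obtain ⟨_, hn⟩ := hj₀ Z (hT.mem_toFinset.2 hZ) hg
      obtain ⟨x', hx'⟩ := h1
      refine hn ⟨(D.map g).base x', ?_⟩
      rw [← hx']
      simp only [f, D.map_comp g (φ₀ ≫ φ₁)]
      rfl
    obtain ⟨y⟩ : Nonempty c.pt := inferInstance
    obtain ⟨Z₀, hZ₀, hyZ₀⟩ := hcomp (f.base ((c.π.app k).base y))
    obtain ⟨⟨ζ, hζ⟩, hg₀⟩ := hin _ Z₀ hZ₀ hyZ₀
    haveI : IrreducibleSpace (D.obj k) := by
      have hcl : closure ({ζ} : Set (D.obj k)) = Set.univ := by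
        rw [Set.eq_univ_iff_forall]
        intro x
        obtain ⟨Z, hZ, hxZ⟩ := hcomp (f.base x)
        obtain rfl := huniq Z Z₀ hZ hZ₀ (hin x Z hZ hxZ).2 hg₀
        rw [← specializes_iff_mem_closure, ← f.isOpenEmbedding.isInducing.specializes_iff, hζ]
        exact (hη _ hZ).specializes hxZ
      have hirr : IsIrreducible (Set.univ : Set (D.obj k)) := hcl ▸ isIrreducible_singleton.closure
      exact irreducibleSpace_def _ |>.2 hirr
    exact isIntegral_of_irreducibleSpace_of_isReduced (D.obj k)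
  · rintro ⟨i, φi, hi⟩
    haveI : IsReduced c.pt := (Groth.Agent.S4782.result D c hc i₀ hoi hfg).2
      ⟨i, φi, fun j g => by haveI := hi j g; infer_instance⟩
    have hpt : ∀ (j : I) (_ : j ⟶ i) (O : (D.obj j).Opens), (O : Set (D.obj j)).Nonempty →
        ∃ y : c.pt, (c.π.app j).base y ∈ O := by
      intro j g O ⟨x, hx⟩
      obtain ⟨W, hW, hxW, hWO⟩ := exists_isAffineOpen_mem_and_subset hx
      obtain ⟨y, hy⟩ := hne j W hW fun k φ => by
        haveI := hi k (φ ≫ g)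
        haveI := hi j g
        have hop := (hoi k j φ).base_open.isOpen_range
        obtain ⟨_, hz, ⟨x', rfl⟩⟩ := nonempty_preirreducible_inter W.isOpen hop ⟨x, hxW⟩ (Set.range_nonempty _)
        exact ⟨x', hz⟩
      exact ⟨y, hWO hy⟩
    haveI := hi i (𝟙 i)
    haveI : Nonempty c.pt := by
      obtain ⟨x⟩ : Nonempty (D.obj i) := inferInstance
      exact ⟨(hpt i (𝟙 i) ⊤ ⟨x, trivial⟩).choose⟩
    haveI : PreirreducibleSpace c.pt := ⟨by
      rintro O₁ O₂ hO₁ hO₂ ⟨y₁, -, hy₁⟩ ⟨y₂, -, hy₂⟩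
      have hB : ∀ (U : c.pt.Opens) (x : c.pt), x ∈ U → ∃ U' ∈ {x | ∃ (i : I) (V : (D.obj i).Opens), ∃ (_ : IsAffineOpen V), c.π.app i ⁻¹ᵁ V = x}, x ∈ U' ∧ U' ≤ U :=
        fun U x hx => TopologicalSpace.Opens.isBasis_iff_nbhd.mp (isBasis_preimage_isAffineOpen D c hc) hx
      obtain ⟨_, ⟨a, V₁, -, rfl⟩, hV₁, hle₁⟩ := hB ⟨O₁, hO₁⟩ y₁ hy₁
      obtain ⟨_, ⟨b, V₂, -, rfl⟩, hV₂, hle₂⟩ := hB ⟨O₂, hO₂⟩ y₂ hy₂
      obtain ⟨m, α, β, -⟩ := IsCofilteredOrEmpty.cone_objs a b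
      obtain ⟨j, γ, dl, -⟩ := IsCofilteredOrEmpty.cone_objs m i
      haveI := hi j dl
      have e : ∀ {a : I} (f : j ⟶ a) (V : (D.obj a).Opens) (y : c.pt),
          (c.π.app j).base y ∈ D.map f ⁻¹ᵁ V ↔ (c.π.app a).base y ∈ V := by
        intro a f V y
        rw [← c.w f]
        rfl
      have n₁ : ((D.map (γ ≫ α) ⁻¹ᵁ V₁ : (D.obj j).Opens) : Set (D.obj j)).Nonempty := ⟨_, (e _ V₁ y₁).2 hV₁⟩
      have n₂ : ((D.map (γ ≫ β) ⁻¹ᵁ V₂ : (D.obj j).Opens) : Set (D.obj j)).Nonempty := ⟨_, (e _ V₂ y₂).2 hV₂⟩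
      obtain ⟨z, hz⟩ := nonempty_preirreducible_inter (D.map (γ ≫ α) ⁻¹ᵁ V₁).isOpen (D.map (γ ≫ β) ⁻¹ᵁ V₂).isOpen n₁ n₂
      obtain ⟨y, hy⟩ := hpt j dl (D.map (γ ≫ α) ⁻¹ᵁ V₁ ⊓ D.map (γ ≫ β) ⁻¹ᵁ V₂) ⟨z, hz⟩
      exact ⟨y, trivial, hle₁ ((e _ V₁ y).1 hy.1), hle₂ ((e _ V₂ y).1 hy.2)⟩⟩
    haveI : IrreducibleSpace c.pt := ⟨inferInstance⟩
    exact isIntegral_of_irreducibleSpace_of_isReduced c.pt

end Groth.Agent.S4783
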