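import Groth.Statements.S4785
import Groth.Agent.S4764
import Groth.Agent.SchFinLib.Points
import Mathlib.AlgebraicGeometry.AffineTransitionLimit
import Mathlib.Algebra.Category.Ring.Epi
-- import your own Groth.Agent.* helpers here

set_option autoImplicit false
universe u
open CategoryTheory AlgebraicGeometry
open Lim8

set_option linter.style.haveILetI false

namespace Groth.Agent.S4785

/-- Let S = lim S_i be a cofiltered limit of schemes whose transition maps are open immersions, so that
each S_j with j over i is an open subscheme of S_i. Then, for every index i, the projection S ⟶ S_i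
is a topological embedding and every stalk map O_{S_i, π(s)} ⟶ O_{S, s} is an isomorphism; that is,
S is the subspace ⋂_j S_j of S_i with the induced structure sheaf. -/
theorem result {I : Type u} [SmallCategory I] [IsCofiltered I]
    (D : I ⥤ Scheme.{u}) (c : Limits.Cone D) (hc : Limits.IsLimit c)
    [∀ (i j : I) (f : i ⟶ j), IsAffineHom (D.map f)]
    (hoi : ∀ (i j : I) (φ : i ⟶ j), IsOpenImmersion (D.map φ)) (i : I) :
    Topology.IsEmbedding ⇑(c.π.app i) ∧ ∀ s : c.pt, IsIso ((c.π.app i).stalkMap s) := by
  classical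
  haveI : ∀ (j k : I) (φ : j ⟶ k), Mono (D.map φ) := fun j k φ => by haveI := hoi j k φ; infer_instance
  haveI hm : Mono (c.π.app i) := ⟨fun a b e => hc.hom_ext fun j => by
    have key : a ≫ c.π.app (IsCofiltered.min i j) = b ≫ c.π.app (IsCofiltered.min i j) := by
      rw [← cancel_mono (D.map (IsCofiltered.minToLeft i j)), Category.assoc, Category.assoc, c.w, e]
    rw [← c.w (IsCofiltered.minToRight i j), ← Category.assoc, key, Category.assoc]⟩
  haveI : Flat (c.π.app i) := S4764.result D c hc i fun j φ => by haveI := hoi j i φ; infer_instance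
  refine ⟨?_, fun s => ?_⟩
  · have hind : Topology.IsInducing ⇑(c.π.app i) := by
      refine ⟨le_antisymm (continuous_iff_le_induced.1 (c.π.app i).continuous) fun U hU => ?_⟩
      rw [@isOpen_iff_forall_mem_open _ (TopologicalSpace.induced _ _)]
      intro x hx
      obtain ⟨_, ⟨j, V, -, rfl⟩, hxV, hVU⟩ := TopologicalSpace.Opens.isBasis_iff_nbhd.1
        (isBasis_preimage_isAffineOpen D c hc) (U := ⟨U, hU⟩) (x := x) hx
      let k := IsCofiltered.min i j
      let φ : k ⟶ i := IsCofiltered.minToLeft i j
      let ψ : k ⟶ j := IsCofiltered.minToRight i j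
      haveI := hoi k i φ
      refine ⟨((c.π.app j ⁻¹ᵁ V : c.pt.Opens) : Set c.pt), hVU, ⟨D.map φ '' (D.map ψ ⁻¹ᵁ V : (D.obj k).Opens),
        (D.map φ).isOpenEmbedding.isOpenMap _ (D.map ψ ⁻¹ᵁ V).2, ?_⟩, hxV⟩
      rw [← c.w φ, Scheme.Hom.comp_base, TopCat.coe_comp, Set.preimage_comp,
        Set.preimage_image_eq _ (D.map φ).isOpenEmbedding.injective, ← Scheme.Hom.coe_preimage,
        ← Scheme.Hom.comp_preimage, c.w]
    exact hind.isEmbedding
  · rw [ConcreteCategory.isIso_iff_bijective]
    let φ := (c.π.app i).stalkMap s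
    haveI : Mono (Spec.map φ) := by
      haveI : Mono (Spec.map φ ≫ (D.obj i).fromSpecStalk ((c.π.app i) s)) := by
        rw [Scheme.SpecMap_stalkMap_fromSpecStalk]; infer_instance
      exact mono_of_mono (Spec.map φ) ((D.obj i).fromSpecStalk ((c.π.app i) s))
    haveI : Epi φ := ⟨fun a b e => Spec.map_injective ((cancel_mono (Spec.map φ)).1 (by
      rw [← Spec.map_comp, ← Spec.map_comp, e]))⟩
    letI : Algebra ((D.obj i).presheaf.stalk ((c.π.app i) s)) (c.pt.presheaf.stalk s) := φ.hom.toAlgebra
    haveI : Algebra.IsEpi ((D.obj i).presheaf.stalk ((c.π.app i) s)) (c.pt.presheaf.stalk s) :=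
      CommRingCat.epi_iff_epi.mp (inferInstanceAs (Epi φ))
    haveI : Module.Flat ((D.obj i).presheaf.stalk ((c.π.app i) s)) (c.pt.presheaf.stalk s) :=
      Flat.stalkMap (c.π.app i) s
    haveI : IsLocalHom (algebraMap ((D.obj i).presheaf.stalk ((c.π.app i) s)) (c.pt.presheaf.stalk s)) :=
      inferInstanceAs (IsLocalHom φ.hom)
    haveI := Module.FaithfullyFlat.of_flat_of_isLocalHom
      (A := (D.obj i).presheaf.stalk ((c.π.app i) s)) (B := c.pt.presheaf.stalk s)
    exact SchFinLib.bijective_of_isEpi_of_faithfullyFlat ((D.obj i).presheaf.stalk ((c.π.app i) s)) (c.pt.presheaf.stalk s)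

end Groth.Agent.S4785
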