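import Groth.Statements.S4787
import Groth.Agent.LimLib.Constr

set_option autoImplicit false
universe u
open CategoryTheory AlgebraicGeometry
open Lim8

namespace Groth.Agent.S4787

/-- Let S = lim S_i be a cofiltered limit of schemes with affine transition maps, some stage S_{i₀}
being quasi-compact. For every index let E_i be a pro-constructible and F_i an ind-constructible
subset of S_i such that, for every transition map S_i ⟶ S_j, E_i lies in the preimage of E_j and F_i
contains the preimage of F_j. Put E = ⋂ (preimage of E_i in S) and F = ⋃ (preimage of F_i in S).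
Then E ⊆ F if and only if there is an index i over i₀ such that E_j ⊆ F_j for every j over i. -/
theorem result {I : Type u} [SmallCategory I] [IsCofiltered I]
    (D : I ⥤ Scheme.{u}) (c : Limits.Cone D) (hc : Limits.IsLimit c)
    [∀ (i j : I) (f : i ⟶ j), IsAffineHom (D.map f)] (i₀ : I)
    [CompactSpace (D.obj i₀)] (E F : ∀ i : I, Set (D.obj i))
    (hE : ∀ i, ProCons.IsProConstructible (E i)) (hF : ∀ i, ProCons.IsIndConstructible (F i))
    (hEm : ∀ (i j : I) (φ : i ⟶ j), E i ⊆ ⇑(D.map φ) ⁻¹' E j)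
    (hFm : ∀ (i j : I) (φ : i ⟶ j), ⇑(D.map φ) ⁻¹' F j ⊆ F i) :
    (⋂ i, ⇑(c.π.app i) ⁻¹' E i : Set c.pt) ⊆ (⋃ i, ⇑(c.π.app i) ⁻¹' F i : Set c.pt) ↔
      ∃ (i : I) (_ : i ⟶ i₀), ∀ (j : I) (_ : j ⟶ i), E j ⊆ F j := by
  constructor
  · intro h
    have hG (j : Over i₀) : Groth.Agent.LimLib.LCClosed (E j.left ∩ (F j.left)ᶜ) :=
      (Groth.Agent.LimLib.lcClosed_of_isProConstructible (hE _)).inter
        (Groth.Agent.LimLib.lcClosed_of_isProConstructible
          (Groth.Agent.LimLib.isProConstructible_compl (hF _)))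
    have hm {j k : I} (φ : j ⟶ k) (x : D.obj j) (hx : x ∈ E j ∩ (F j)ᶜ) :
        D.map φ x ∈ E k ∩ (F k)ᶜ :=
      ⟨hEm j k φ hx.1, fun hx' => hx.2 (hFm j k φ hx')⟩
    by_contra! H
    obtain ⟨s, hs⟩ := Groth.Agent.LimLib.exists_mem_of_lcClosed hc _
      (fun j : Over i₀ => by
        by_contra hcon
        obtain ⟨k, φ, hk⟩ := H j.left j.hom
        obtain ⟨x, hx, hx'⟩ := Set.not_subset.1 hk
        exact hcon ⟨D.map φ x, hm φ x ⟨hx, hx'⟩⟩)
      hG (fun {j k} f => hm f.left)
    have hsE : s ∈ (⋂ i, ⇑(c.π.app i) ⁻¹' E i : Set c.pt) := by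
      refine Set.mem_iInter.2 fun i => ?_
      let m := IsCofiltered.min i i₀
      have h1 := hEm m i (IsCofiltered.minToLeft i i₀)
        (hs (Over.mk (IsCofiltered.minToRight i i₀))).1
      rw [Set.mem_preimage, ← c.w (IsCofiltered.minToLeft i i₀)]
      exact h1
    obtain ⟨i, hi⟩ := Set.mem_iUnion.1 (h hsE)
    let m := IsCofiltered.min i i₀
    refine (hs (Over.mk (IsCofiltered.minToRight i i₀))).2 (hFm m i (IsCofiltered.minToLeft i i₀) ?_)
    rw [Set.mem_preimage, ← c.w (IsCofiltered.minToLeft i i₀)] at hi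
    exact hi
  · rintro ⟨i, -, hi⟩ s hs
    exact Set.mem_iUnion.2 ⟨i, hi i (𝟙 i) (Set.mem_iInter.1 hs i)⟩

end Groth.Agent.S4787
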