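import Groth.Statements.S4804
import Groth.Agent.FibConstr.DescentMore
-- import your own Groth.Agent.* helpers here

set_option autoImplicit false
universe u
open CategoryTheory AlgebraicGeometry
open Lim8

namespace Groth.Agent.S4804

/-- Let S = lim S_i be a cofiltered limit of schemes with affine transition maps, let f₀ : X₀ ⟶ Y₀ be a
morphism of schemes over a stage S_{i₀}, with Y₀ quasi-compact and f₀ of finite type and
quasi-separated, and let f : X ⟶ Y be the base change of f₀ along S ⟶ S_{i₀} (base changes are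
expressed by pullback squares). Then f is separated if and only if, for some index j over i₀, the
base change f_j : X_j ⟶ Y_j of f₀ along S_j ⟶ S_{i₀} is separated. -/
theorem result {I : Type u} [SmallCategory I] [IsCofiltered I]
    (D : I ⥤ Scheme.{u}) (c : Limits.Cone D) (hc : Limits.IsLimit c)
    [∀ (i j : I) (f : i ⟶ j), IsAffineHom (D.map f)] (i₀ : I)
    {X₀ Y₀ : Scheme.{u}} (f₀ : X₀ ⟶ Y₀) (g₀ : Y₀ ⟶ D.obj i₀) [CompactSpace Y₀]
    [LocallyOfFiniteType f₀] [QuasiCompact f₀] [QuasiSeparated f₀]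
    {X Y : Scheme.{u}} (f : X ⟶ Y) (g : Y ⟶ c.pt) (qY : Y ⟶ Y₀) (qX : X ⟶ X₀)
    (hY : IsPullback qY g g₀ (c.π.app i₀)) (hX : IsPullback qX f f₀ qY) :
    IsSeparated f ↔
      ∃ (j : I) (φ : j ⟶ i₀) (Xj Yj : Scheme.{u}) (fj : Xj ⟶ Yj) (gj : Yj ⟶ D.obj j) (pY : Yj ⟶ Y₀)
        (pX : Xj ⟶ X₀), IsPullback pY gj g₀ (D.map φ) ∧ IsPullback pX fj f₀ pY ∧ IsSeparated fj := by
  constructor
  · intro hf
    refine FibConstr.exists_stage_of_target @IsSeparated hY hX hf fun h he hl => ?_
    let o : Over i₀ := Over.mk (𝟙 i₀)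
    haveI : IsIso (D.map o.hom) := by
      show IsIso (D.map (𝟙 i₀))
      rw [D.map_id]; infer_instance
    let E : (Groth.Agent.LimLib.bcDiagram D g₀).obj o ≅ Y₀ :=
      @asIso _ _ _ _ (Limits.pullback.snd (D.map o.hom) g₀)
        (IsPullback.of_hasPullback (D.map o.hom) g₀).isIso_snd_of_isIso
    haveI : CompactSpace ((Groth.Agent.LimLib.bcDiagram D g₀).obj o) := QuasiCompact.compactSpace_of_compactSpace E.hom
    have hh : h = f₀ ≫ E.inv := (Iso.eq_comp_inv E).2 he
    haveI : QuasiCompact h := hh ▸ inferInstance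
    haveI : QuasiSeparated h := hh ▸ inferInstance
    haveI : LocallyOfFiniteType h := hh ▸ inferInstance
    exact FibConstr.exists_stage_of_qc (H := @LocallyOfFiniteType)
      (fun hc' _ _ _ _ _ _ h _ hl => FibConstr.exists_stage_isSeparated hc' h hl)
      (Groth.Agent.LimLib.isLimitBcCone g₀ hc) h inferInstance hl
  · rintro ⟨j, φ, Xj, Yj, fj, gj, pY, pX, h1, h2, h3⟩
    exact FibConstr.prop_limit_of_stage @IsSeparated hY hX h1 h2 h3

end Groth.Agent.S4804
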