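import Groth.Statements.S4805
import Groth.Agent.FibConstr.DescentMore
-- import your own Groth.Agent.* helpers here

set_option autoImplicit false
universe u
open CategoryTheory AlgebraicGeometry
open Lim8

namespace Groth.Agent.S4805

/-- Let S = lim S_i be a cofiltered limit of schemes with affine transition maps and S_{i₀} a
quasi-compact stage; let Y₀ ⟶ S_{i₀} be of finite type and quasi-separated, X₀ ⟶ S_{i₀} of finite
presentation (locally of finite presentation, quasi-compact and quasi-separated), f₀ : X₀ ⟶ Y₀ an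
S_{i₀}-morphism, and f : X ⟶ Y its base change along S ⟶ S_{i₀} (base changes are expressed by
pullback squares). If f is an isomorphism, then for some index j over i₀ the base change f_j : X_j ⟶
Y_j of f₀ along S_j ⟶ S_{i₀} is an isomorphism. (Note the hypotheses: the stage S_{i₀} is only
assumed quasi-compact, and Y₀ only of finite type and quasi-separated over it.) -/
theorem result {I : Type u} [SmallCategory I] [IsCofiltered I]
    (D : I ⥤ Scheme.{u}) (c : Limits.Cone D) (hc : Limits.IsLimit c)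
    [∀ (i j : I) (f : i ⟶ j), IsAffineHom (D.map f)] (i₀ : I) [CompactSpace (D.obj i₀)]
    {X₀ Y₀ : Scheme.{u}} (f₀ : X₀ ⟶ Y₀) (g₀ : Y₀ ⟶ D.obj i₀)
    [LocallyOfFiniteType g₀] [QuasiCompact g₀] [QuasiSeparated g₀]
    [LocallyOfFinitePresentation (f₀ ≫ g₀)] [QuasiCompact (f₀ ≫ g₀)] [QuasiSeparated (f₀ ≫ g₀)]
    {X Y : Scheme.{u}} (f : X ⟶ Y) (g : Y ⟶ c.pt) (qY : Y ⟶ Y₀) (qX : X ⟶ X₀)
    (hY : IsPullback qY g g₀ (c.π.app i₀)) (hX : IsPullback qX f f₀ qY) [IsIso f] :
    ∃ (j : I) (φ : j ⟶ i₀) (Xj Yj : Scheme.{u}) (fj : Xj ⟶ Yj) (gj : Yj ⟶ D.obj j) (pY : Yj ⟶ Y₀)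
      (pX : Xj ⟶ X₀), IsPullback pY gj g₀ (D.map φ) ∧ IsPullback pX fj f₀ pY ∧ IsIso fj := by
  refine FibConstr.exists_stage_of_target (MorphismProperty.isomorphisms Scheme) hY hX ‹_› fun h he hl => ?_
  let o : Over i₀ := Over.mk (𝟙 i₀)
  haveI : IsIso (D.map o.hom) := by
    show IsIso (D.map (𝟙 i₀))
    rw [D.map_id]; infer_instance
  let E : (Groth.Agent.LimLib.bcDiagram D g₀).obj o ≅ Y₀ :=
    @asIso _ _ _ _ (Limits.pullback.snd (D.map o.hom) g₀)
      (IsPullback.of_hasPullback (D.map o.hom) g₀).isIso_snd_of_isIso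
  haveI : CompactSpace Y₀ := QuasiCompact.compactSpace_of_compactSpace g₀
  haveI : CompactSpace ((Groth.Agent.LimLib.bcDiagram D g₀).obj o) := QuasiCompact.compactSpace_of_compactSpace E.hom
  have hh : h = f₀ ≫ E.inv := (Iso.eq_comp_inv E).2 he
  haveI : QuasiCompact f₀ := QuasiCompact.of_comp f₀ g₀
  haveI : QuasiSeparated f₀ := QuasiSeparated.of_comp f₀ g₀
  haveI : QuasiCompact h := hh ▸ inferInstance
  haveI : QuasiSeparated h := hh ▸ inferInstance
  haveI : LocallyOfFinitePresentation f₀ :=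
    FibrewiseCrit.locallyOfFinitePresentation_of_comp f₀ g₀ ‹_› inferInstance
  haveI : LocallyOfFinitePresentation h := hh ▸ inferInstance
  exact FibConstr.exists_stage_isIso_qc (Groth.Agent.LimLib.isLimitBcCone g₀ hc) h inferInstance hl

end Groth.Agent.S4805
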