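import Groth.Statements.S4806
import Groth.Agent.ClosedImmNhd.Basic
-- import your own Groth.Agent.* helpers here

set_option autoImplicit false
set_option backward.isDefEq.respectTransparency false
universe u
open CategoryTheory AlgebraicGeometry
open Lim8

namespace Groth.Agent.S4806

/-- Let f : X ⟶ Y be a proper morphism of finite presentation. Then f is a closed immersion if and only
if, for every point y of Y, the scheme-theoretic fibre of f at y is empty or its structure morphism
to Spec κ(y) is an isomorphism. -/
theorem result {X Y : Scheme.{u}} (f : X ⟶ Y) [IsProper f]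
    [LocallyOfFinitePresentation f] :
    IsClosedImmersion f ↔ ∀ y : Y, IsEmpty (f.fiber y) ∨ IsIso (f.fiberToSpecResidueField y) := by
  refine ⟨fun _ y => ?_, fun h => ?_⟩
  · haveI : IsClosedImmersion (f.fiberToSpecResidueField y) := MorphismProperty.pullback_snd _ _ inferInstance
    exact ClosedImmNhd.isEmpty_or_isIso_of_isClosedImmersion f y
  · haveI : UniversallyClosed (f ∣_ (⊤ : Y.Opens)) := IsZariskiLocalAtTarget.restrict ‹IsProper f›.toUniversallyClosed _
    choose U hU hcl using fun y => ClosedImmNhd.exists_isClosedImmersion_of_fiber f y (h y) ⊤ trivial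
    exact IsZariskiLocalAtTarget.of_iSup_eq_top (P := @IsClosedImmersion) U
      (eq_top_iff.2 fun y _ => TopologicalSpace.Opens.mem_iSup.2 ⟨y, hU y⟩) hcl

end Groth.Agent.S4806
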