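import Groth.Statements.S4808
import Groth.Agent.NormalSect.Basic
-- import your own Groth.Agent.* helpers here

set_option autoImplicit false
universe u
open CategoryTheory AlgebraicGeometry
open Lim8

set_option linter.style.haveILetI false

namespace Groth.Agent.S4808

/-- Let Y' and Y be integral schemes, Y normal (every local ring of Y is integrally closed), and u : Y'
⟶ Y a finite morphism which is birational: u maps the generic point of Y' to the generic point of Y
and the stalk map of u at the generic point of Y', which is the induced homomorphism of function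
fields, is an isomorphism. Then u is an isomorphism. -/
theorem result {Y' Y : Scheme.{u}} [IsIntegral Y'] [IsIntegral Y]
    (hN : ∀ y : Y, IsIntegrallyClosed (Y.presheaf.stalk y)) (u : Y' ⟶ Y) [IsFinite u]
    (hgen : u (genericPoint Y') = genericPoint Y)
    (hbir : IsIso (u.stalkMap (genericPoint Y'))) : IsIso u := by
  have hX : Pi1.IsNormalScheme Y := fun y => ⟨inferInstance, hN y⟩
  have key : ∀ U : Y.affineOpens, IsIso (u ∣_ U.1) := by
    rintro ⟨U, hU⟩
    rw [isIso_morphismRestrict_iff_isIso_app u hU, ConcreteCategory.isIso_iff_bijective]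
    rcases isEmpty_or_nonempty U with hU0 | hU0
    · have h0 : U = ⊥ := TopologicalSpace.Opens.ext (Set.eq_empty_iff_forall_notMem.2 fun y hy => hU0.elim ⟨y, hy⟩)
      subst h0
      haveI : Subsingleton Γ(Y', u ⁻¹ᵁ (⊥ : Y.Opens)) :=
        CommRingCat.subsingleton_of_isTerminal (Y'.sheaf.isTerminalOfEqEmpty (by simp))
      haveI : Subsingleton Γ(Y, (⊥ : Y.Opens)) :=
        CommRingCat.subsingleton_of_isTerminal Y.sheaf.isTerminalOfEmpty
      exact ⟨fun a b _ => Subsingleton.elim a b, fun b => ⟨0, Subsingleton.elim _ b⟩⟩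
    have hη : genericPoint Y ∈ U :=
      ((genericPoint_spec Y).mem_open_set_iff U.isOpen).mpr (by simpa using hU0)
    have hξ : genericPoint Y' ∈ u ⁻¹ᵁ U := show u (genericPoint Y') ∈ U from hgen.symm ▸ hη
    haveI : IsIntegrallyClosed Γ(Y, U) := NormalSect.isIntegrallyClosed_section hX hU
    let γ := (Y.presheaf.germ U (u (genericPoint Y')) hξ).hom
    have hfrac : letI := γ.toAlgebra; IsFractionRing Γ(Y, U) (Y.presheaf.stalk (u (genericPoint Y'))) := by
      have : ∀ (η : Y) (h : η ∈ U), η = genericPoint Y →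
          letI := (Y.presheaf.germ U η h).hom.toAlgebra
          IsFractionRing Γ(Y, U) (Y.presheaf.stalk η) := by
        rintro η h rfl
        exact functionField_isFractionRing_of_isAffineOpen (X := Y) U hU
      exact this _ hξ hgen
    letI := γ.toAlgebra
    haveI := hfrac
    have hbij := ConcreteCategory.bijective_of_isIso (u.stalkMap (genericPoint Y'))
    have hcomm : ∀ a, u.stalkMap (genericPoint Y') (γ a) =
        Y'.presheaf.germ (u ⁻¹ᵁ U) (genericPoint Y') hξ (u.app U a) :=
      fun a => Scheme.Hom.germ_stalkMap_apply u U (genericPoint Y') hξ a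
    refine ⟨fun a b e => germ_injective_of_isIntegral (X := Y) _ hξ (hbij.1 ?_), fun b => ?_⟩
    · exact (hcomm a).trans ((congrArg _ e).trans (hcomm b).symm)
    obtain ⟨k, hk⟩ := hbij.2 (Y'.presheaf.germ (u ⁻¹ᵁ U) (genericPoint Y') hξ b)
    obtain ⟨p, hp, hb⟩ := IsIntegralHom.isIntegral_app u U hU b
    have hcomp : (u.stalkMap (genericPoint Y')).hom.comp γ =
        (Y'.presheaf.germ (u ⁻¹ᵁ U) (genericPoint Y') hξ).hom.comp (u.app U).hom := RingHom.ext hcomm
    have hint : IsIntegral Γ(Y, U) k := by
      refine ⟨p, hp, hbij.1 ?_⟩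
      show (u.stalkMap (genericPoint Y')).hom (p.eval₂ γ k) = (u.stalkMap (genericPoint Y')).hom 0
      rw [Polynomial.hom_eval₂, hcomp, map_zero, show (u.stalkMap (genericPoint Y')).hom k = _ from hk]
      show p.eval₂ _ ((Y'.presheaf.germ (u ⁻¹ᵁ U) (genericPoint Y') hξ).hom b) = 0
      rw [← Polynomial.hom_eval₂, hb, map_zero]
    obtain ⟨a, rfl⟩ := IsIntegrallyClosed.isIntegral_iff.1 hint
    exact ⟨a, germ_injective_of_isIntegral (X := Y') _ hξ ((hcomm a).symm.trans hk)⟩
  exact (IsZariskiLocalAtTarget.iff_of_iSup_eq_top (P := MorphismProperty.isomorphisms Scheme.{u})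
    (fun U : Y.affineOpens => U.1) (iSup_affineOpens_eq_top Y)).2 key

end Groth.Agent.S4808
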