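import Groth.Statements.S4809
import Groth.Agent.BirQF.Basic
-- import your own Groth.Agent.* helpers here

set_option autoImplicit false
universe u
open CategoryTheory AlgebraicGeometry
open Lim8

namespace Groth.Agent.S4809

/-- Let Y be an integral normal scheme (every local ring integrally closed), X an integral scheme, and f
: X ⟶ Y a locally quasi-finite morphism (locally of finite type with discrete fibres) which is
birational: f maps the generic point of X to that of Y and its stalk map at the generic point of X,
the induced homomorphism of function fields, is an isomorphism. Then f is a local isomorphism, and f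
is an open immersion as soon as it is separated. -/
theorem result {X Y : Scheme.{u}} [IsIntegral X] [IsIntegral Y]
    (hN : ∀ y : Y, IsIntegrallyClosed (Y.presheaf.stalk y)) (f : X ⟶ Y) [LocallyQuasiFinite f]
    [LocallyOfFiniteType f] (hgen : f (genericPoint X) = genericPoint Y)
    (hbir : IsIso (f.stalkMap (genericPoint X))) :
    IsLocalIso f ∧ (IsSeparated f → IsOpenImmersion f) := by
  refine ⟨⟨fun x => ?_⟩, fun hs => BirQF.isOpenImmersion_of_birational f hN hbir⟩
  obtain ⟨W, hW, hxW, -⟩ := exists_isAffineOpen_mem_and_subset (X := X) (x := x) (U := ⊤) trivial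
  haveI : IsAffine W.toScheme := hW
  haveI : Nonempty W.toScheme := ⟨⟨x, hxW⟩⟩
  haveI : IsSeparated (W.ι ≫ f) := by
    haveI : IsSeparated ((W.ι ≫ f) ≫ Limits.terminal.from Y) := by
      rw [Limits.terminal.comp_from]; infer_instance
    exact IsSeparated.of_comp (W.ι ≫ f) (Limits.terminal.from Y)
  refine ⟨W, hxW, BirQF.isOpenImmersion_of_birational (W.ι ≫ f) hN ?_⟩
  refine SpreadFP.isIso_stalkMap_comp f W.ι _ ?_
  rw [genericPoint_eq_of_isOpenImmersion W.ι]
  exact hbir

end Groth.Agent.S4809
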