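import Groth.Statements.S4816
import Groth.Agent.FibConstr.DescentMore
-- import your own Groth.Agent.* helpers here

set_option autoImplicit false
universe u
open CategoryTheory AlgebraicGeometry
open Lim8

namespace Groth.Agent.S4816

open CategoryTheory.Limits in
/-- Let S = lim S_i be a cofiltered limit of schemes with affine transition maps and S_{i₀} a
quasi-compact stage; let ι₁ : Z₁ ⟶ S_{i₀} and ι₂ : Z₂ ⟶ S_{i₀} be two subschemes of finite
presentation of S_{i₀} (immersions which are locally of finite presentation and quasi-compact), with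
base changes Z₁ ×_{S_{i₀}} T ⟶ T to T = S and to T = S_j. Then Z₁ ×_{S_{i₀}} S is a subscheme of Z₂
×_{S_{i₀}} S (its immersion into S factors through that of Z₂ ×_{S_{i₀}} S) if and only if, for some
index j over i₀, Z₁ ×_{S_{i₀}} S_j is a subscheme of Z₂ ×_{S_{i₀}} S_j. -/
theorem result {I : Type u} [SmallCategory I] [IsCofiltered I]
    (D : I ⥤ Scheme.{u}) (c : Limits.Cone D) (hc : Limits.IsLimit c)
    [∀ (i j : I) (f : i ⟶ j), IsAffineHom (D.map f)] (i₀ : I) [CompactSpace (D.obj i₀)]
    {Z₁ Z₂ : Scheme.{u}} (ι₁ : Z₁ ⟶ D.obj i₀) (ι₂ : Z₂ ⟶ D.obj i₀)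
    [IsImmersion ι₁] [LocallyOfFinitePresentation ι₁] [QuasiCompact ι₁]
    [IsImmersion ι₂] [LocallyOfFinitePresentation ι₂] [QuasiCompact ι₂] :
    (∃ k : pullback ι₁ (c.π.app i₀) ⟶ pullback ι₂ (c.π.app i₀),
        k ≫ pullback.snd ι₂ (c.π.app i₀) = pullback.snd ι₁ (c.π.app i₀)) ↔
      ∃ (j : I) (φ : j ⟶ i₀) (k : pullback ι₁ (D.map φ) ⟶ pullback ι₂ (D.map φ)),
        k ≫ pullback.snd ι₂ (D.map φ) = pullback.snd ι₁ (D.map φ) := by
  let w := pullback.fst ι₁ ι₂
  have hY := IsPullback.of_hasPullback ι₁ (c.π.app i₀)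
  have hX := (IsPullback.of_hasPullback (pullback.fst ι₁ (c.π.app i₀)) w).flip
  constructor
  · intro hk
    have hiso := (FibConstr.exists_factor_iff_isIso ι₁ ι₂ (c.π.app i₀)).1 hk
    obtain ⟨j, φ, Xj, Yj, fj, gj, pY, pX, h1, h2, h3⟩ :=
      FibConstr.exists_stage_of_target (MorphismProperty.isomorphisms Scheme) hY hX hiso fun h he hl => by
        let o : Over i₀ := Over.mk (𝟙 i₀)
        haveI : IsIso (D.map o.hom) := by
          show IsIso (D.map (𝟙 i₀))
          rw [D.map_id]; infer_instance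
        let E : (Groth.Agent.LimLib.bcDiagram D ι₁).obj o ≅ Z₁ :=
          @asIso _ _ _ _ (pullback.snd (D.map o.hom) ι₁)
            (IsPullback.of_hasPullback (D.map o.hom) ι₁).isIso_snd_of_isIso
        haveI : CompactSpace Z₁ := QuasiCompact.compactSpace_of_compactSpace ι₁
        haveI : CompactSpace ((Groth.Agent.LimLib.bcDiagram D ι₁).obj o) :=
          QuasiCompact.compactSpace_of_compactSpace E.hom
        have hh : h = w ≫ E.inv := (Iso.eq_comp_inv E).2 he
        haveI : QuasiCompact h := hh ▸ inferInstance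
        haveI : QuasiSeparated h := hh ▸ inferInstance
        haveI : LocallyOfFinitePresentation h := hh ▸ inferInstance
        exact FibConstr.exists_stage_isIso_qc (Groth.Agent.LimLib.isLimitBcCone ι₁ hc) h inferInstance hl
    refine ⟨j, φ, (FibConstr.exists_factor_iff_isIso ι₁ ι₂ (D.map φ)).2 ?_⟩
    have h4 := (FibConstr.prop_fst_iff_of_isPullback (MorphismProperty.isomorphisms Scheme) h2.flip).1 h3
    have h5 := FibConstr.prop_fst_comp (MorphismProperty.isomorphisms Scheme) h1.isoPullback.inv pY w h4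
    rw [IsPullback.isoPullback_inv_fst] at h5
    exact h5
  · rintro ⟨j, φ, hk⟩
    refine (FibConstr.exists_factor_iff_isIso ι₁ ι₂ (c.π.app i₀)).2 ?_
    exact FibConstr.prop_limit_of_stage (MorphismProperty.isomorphisms Scheme) hY hX
      (IsPullback.of_hasPullback ι₁ (D.map φ))
      (IsPullback.of_hasPullback (pullback.fst ι₁ (D.map φ)) w).flip
      ((FibConstr.exists_factor_iff_isIso ι₁ ι₂ (D.map φ)).1 hk)

end Groth.Agent.S4816
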