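import Groth.Statements.S4819
import Groth.Agent.FlatDescent.FibreFlat.Rank
import Groth.Agent.ModGroth.FinLocFree

set_option autoImplicit false
universe u
open CategoryTheory AlgebraicGeometry
open Cons9

namespace Groth.Agent.S4819

/-- Let f : X ⟶ S be a morphism of finite presentation (locally of finite presentation, quasi-compact
and quasi-separated) and F a quasi-coherent O_X-module of finite presentation; for s in S let F_s be
the pullback of F to the scheme-theoretic fibre X_s. Then the set of s such that F_s is a finite
locally free O_{X_s}-module is locally constructible in S. This is the case of locally free modules. -/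
theorem result {X S : Scheme.{u}} (f : X ⟶ S)
    [LocallyOfFinitePresentation f] [QuasiCompact f] [QuasiSeparated f]
    (F : X.Modules) [Coh.IsQCoh F] (hF : CohB1.IsFP F) :
    Topology.IsLocallyConstructible
      {s : S | FlatMod.IsFinLocFree ((Scheme.Modules.pullback (f.fiberι s)).obj F)} := by

  haveI : LocallyOfFinitePresentation (𝟙 X ≫ f) := by rw [Category.id_comp]; infer_instance
  haveI : QuasiCompact (𝟙 X ≫ f) := by rw [Category.id_comp]; infer_instance
  convert Groth.FlatDescent.FibreFlat.isLocallyConstructible_forall_modFibFlat (𝟙 X) f F hF using 1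
  ext s
  show FlatMod.IsFinLocFree _ ↔ ∀ x, (𝟙 X ≫ f) x = s → _
  constructor
  · intro h x hx
    rw [Category.id_comp] at hx
    obtain ⟨v, rfl⟩ : x ∈ Set.range (f.fiberι s) := by rw [Scheme.Hom.range_fiberι]; exact hx
    exact (Groth.FlatDescent.FibreFlat.isFlatAt_fibre_iff f F v).1
      (Groth.Agent.ModGroth.Perf.isFlat_of_isFinLocFree h v)
  · intro h
    refine Groth.Agent.DCohPerf.isFinLocFree_of_isFP_flat (Groth.Agent.QCohLib.isFinitePresentation_pullback _ _ hF)
      fun v => (Groth.FlatDescent.FibreFlat.isFlatAt_fibre_iff f F v).2 (h _ ?_)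
    rw [Category.id_comp]
    exact (f.range_fiberι s).le ⟨v, rfl⟩

end Groth.Agent.S4819
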