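import Groth.Statements.S4820
import Groth.Agent.FlatDescent.FibreFlat.Rank
import Groth.Agent.ModGroth.FinLocFree

set_option autoImplicit false
universe u
open CategoryTheory AlgebraicGeometry
open Cons9

namespace Groth.Agent.S4820

/-- Let f : X ⟶ S be a morphism of finite presentation (locally of finite presentation, quasi-compact
and quasi-separated), F a quasi-coherent O_X-module of finite presentation and n a natural number;
for s in S let F_s be the pullback of F to the scheme-theoretic fibre X_s. Then the set of s such
that F_s is locally free of rank n is locally constructible in S. The case of locally free modules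
of rank n. -/
theorem result {X S : Scheme.{u}} (f : X ⟶ S)
    [LocallyOfFinitePresentation f] [QuasiCompact f] [QuasiSeparated f]
    (F : X.Modules) [Coh.IsQCoh F] (hF : CohB1.IsFP F) (n : ℕ) :
    Topology.IsLocallyConstructible
      {s : S | FlatMod.IsFinLocFreeOfRank n ((Scheme.Modules.pullback (f.fiberι s)).obj F)} := by

  haveI : LocallyOfFinitePresentation (𝟙 X ≫ f) := by rw [Category.id_comp]; infer_instance
  convert Groth.Agent.FibConstr.isLocallyConstructible_forall f
    ((Groth.FlatDescent.FibreFlat.isLocallyConstructible_modFibFlat (𝟙 X) f F hF).inter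
      (Groth.FlatDescent.FibreFlat.isLocallyConstructible_rk_eq F hF n)) using 1
  ext s
  show FlatMod.IsFinLocFreeOfRank n _ ↔ ∀ x, f x = s → _
  rw [Groth.FlatDescent.FibreFlat.isFinLocFreeOfRank_iff]
  constructor
  · rintro ⟨h, hr⟩ x hx
    obtain ⟨v, rfl⟩ : x ∈ Set.range (f.fiberι s) := by rw [Scheme.Hom.range_fiberι]; exact hx
    have hv := Groth.Agent.ModGroth.Perf.isFlat_of_isFinLocFree h v
    exact ⟨(Groth.FlatDescent.FibreFlat.isFlatAt_fibre_iff f F v).1 hv,
      (Groth.FlatDescent.FibreFlat.finrank_fibre_stalk f F hF v hv).symm.trans (hr v)⟩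
  · intro h
    have hv : FlatMod.IsFlat ((Scheme.Modules.pullback (f.fiberι s)).obj F) := fun v =>
      (Groth.FlatDescent.FibreFlat.isFlatAt_fibre_iff f F v).2 (h _ ((f.range_fiberι s).le ⟨v, rfl⟩)).1
    exact ⟨Groth.Agent.DCohPerf.isFinLocFree_of_isFP_flat (Groth.Agent.QCohLib.isFinitePresentation_pullback _ _ hF) hv,
      fun v => (Groth.FlatDescent.FibreFlat.finrank_fibre_stalk f F hF v (hv v)).trans
        (h _ ((f.range_fiberι s).le ⟨v, rfl⟩)).2⟩

end Groth.Agent.S4820
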