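import Groth.Statements.S4821
import Mathlib.RingTheory.MvPolynomial.Localization
-- import your own Groth.Agent.* helpers here

set_option autoImplicit false
universe u
open Cons9

namespace Groth.Agent.S4821

attribute [local instance] MvPolynomial.algebraMvPolynomial

/-- Let A be an integral domain with fraction field K, and (P_i) a finite family of polynomials in
A[T_1, …, T_m], generating an ideal 𝔞; for a point s of Spec A write 𝔞_s for the ideal of κ(s)[T_1,
…, T_m] generated by the images of the P_i. If the zero locus of 𝔞_η in affine m-space over K = κ(η)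
is empty, that is if 𝔞_η is the unit ideal, then there is an open neighbourhood D(f) (f ≠ 0) of the
generic point such that 𝔞_s is the unit ideal (its zero locus is empty) for every s in D(f). -/
theorem result {A : Type u} [CommRing A] [IsDomain A] {m : ℕ}
    (P : Finset (MvPolynomial (Fin m) A))
    (hη : Ideal.span ((MvPolynomial.map (algebraMap A (FractionRing A))) '' (P : Set (MvPolynomial (Fin m) A))) = ⊤) :
    ∃ f : A, f ≠ 0 ∧ ∀ p : PrimeSpectrum A, f ∉ p.asIdeal →
      Ideal.span ((MvPolynomial.map (algebraMap A p.asIdeal.ResidueField)) '' (P : Set (MvPolynomial (Fin m) A))) = ⊤ := by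
  classical
  set K := FractionRing A
  haveI : IsLocalization (Submonoid.map (MvPolynomial.C : A →+* MvPolynomial (Fin m) A) (nonZeroDivisors A))
      (MvPolynomial (Fin m) K) := MvPolynomial.isLocalization _ _
  rw [← Ideal.map_span, ← MvPolynomial.algebraMap_def] at hη
  have h1 : (1 : MvPolynomial (Fin m) K) ∈
      Ideal.map (algebraMap (MvPolynomial (Fin m) A) (MvPolynomial (Fin m) K))
        (Ideal.span (P : Set (MvPolynomial (Fin m) A))) := by
    rw [show Ideal.map _ _ = _ from hη]; trivial
  rw [IsLocalization.mem_map_algebraMap_iff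
    (Submonoid.map (MvPolynomial.C : A →+* MvPolynomial (Fin m) A) (nonZeroDivisors A))] at h1
  obtain ⟨⟨⟨a, ha⟩, ⟨s, c, hc, rfl⟩⟩, he⟩ := h1
  have hae : (MvPolynomial.C c : MvPolynomial (Fin m) A) = a := by
    apply MvPolynomial.map_injective (algebraMap A K) (IsFractionRing.injective A K)
    simp only [one_mul, mul_one] at he
    exact he
  refine ⟨c, nonZeroDivisors.ne_zero hc, fun p hp => ?_⟩
  rw [← Ideal.map_span]
  refine Ideal.eq_top_of_isUnit_mem _ (Ideal.mem_map_of_mem _ (hae ▸ ha)) ?_
  rw [MvPolynomial.map_C]
  refine IsUnit.map MvPolynomial.C (isUnit_iff_ne_zero.mpr ?_)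
  rwa [ne_eq, Ideal.algebraMap_residueField_eq_zero]

end Groth.Agent.S4821
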