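import Groth.Statements.S4833
import Groth.Agent.FlatDescent.FibreFlat.Transfer
import Groth.Agent.FlatDescent.FibreDepth.GenericDims

set_option autoImplicit false
open CategoryTheory AlgebraicGeometry
universe u
open Cons9

namespace Groth.Agent.S4833

open CategoryTheory.Limits in
/-- Let S be an integral Noetherian scheme with generic point η, let g : X ⟶ Y be an S-morphism between
schemes of finite type over S (structure morphisms h : Y ⟶ S and g ≫ h), and let F be a coherent
O_X-module. For s in S write g_s : X_s ⟶ Y_s for the morphism induced on the fibres over s and F_s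
for the pullback of F to X_s. If F_η is not flat relative to g_η (not flat over O_{Y_η, g_η(x)} at
some point x of X_η), then there is an open neighbourhood U of η such that for every s in U the
module F_s is not flat relative to g_s. -/
theorem result {X Y S : Scheme.{u}} [IsIntegral S] [IsNoetherian S]
    (g : X ⟶ Y) (h : Y ⟶ S) [LocallyOfFiniteType h] [QuasiCompact h]
    [LocallyOfFiniteType (g ≫ h)] [QuasiCompact (g ≫ h)]
    (F : X.Modules) [Coh.IsQCoh F] (hF : CohB1.IsFP F)
    (hη : ¬ FlatMod.IsFlatOver
      (pullback.lift (pullback.fst (g ≫ h) (S.fromSpecResidueField (genericPoint S)) ≫ g)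
          (pullback.snd (g ≫ h) (S.fromSpecResidueField (genericPoint S)))
          ((Category.assoc _ _ _).trans pullback.condition) :
        pullback (g ≫ h) (S.fromSpecResidueField (genericPoint S)) ⟶ pullback h (S.fromSpecResidueField (genericPoint S)))
      ((Scheme.Modules.pullback (pullback.fst (g ≫ h) (S.fromSpecResidueField (genericPoint S)))).obj F)) :
    ∃ U : S.Opens, genericPoint S ∈ U ∧ ∀ s ∈ U, ¬ FlatMod.IsFlatOver
      (pullback.lift (pullback.fst (g ≫ h) (S.fromSpecResidueField s) ≫ g) (pullback.snd (g ≫ h) (S.fromSpecResidueField s))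
          ((Category.assoc _ _ _).trans pullback.condition) :
        pullback (g ≫ h) (S.fromSpecResidueField s) ⟶ pullback h (S.fromSpecResidueField s))
      ((Scheme.Modules.pullback (pullback.fst (g ≫ h) (S.fromSpecResidueField s))).obj F) := by

  haveI : LocallyOfFinitePresentation h := LocallyOfFinitePresentation.iff_locallyOfFiniteType.2 inferInstance
  haveI : LocallyOfFinitePresentation (g ≫ h) := LocallyOfFinitePresentation.iff_locallyOfFiniteType.2 inferInstance
  let A := {s : S | ∀ x, (g ≫ h) x = s → Groth.FlatDescent.FibreFlat.ModFibFlat g h F x}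
  have key : ∀ s : S, s ∈ A ↔ FlatMod.IsFlatOver
      (Groth.Agent.FibConstr.fibreMap g h s) ((Scheme.Modules.pullback ((g ≫ h).fiberι s)).obj F) := by
    intro s
    have iff' := fun v => Groth.FlatDescent.FibreFlat.isFlatOverAt_fibre_iff g h F
      (IsPullback.of_hasPullback h (S.fromSpecResidueField s)) (Groth.Agent.FibConstr.isPullback_fibreMap g h s) v
    constructor
    · intro hs v
      exact (iff' v).2 (hs _ (((g ≫ h).range_fiberι s).le ⟨v, rfl⟩))
    · intro hs x hx
      obtain ⟨v, rfl⟩ : x ∈ Set.range ((g ≫ h).fiberι s) := by rw [Scheme.Hom.range_fiberι]; exact hx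
      exact (iff' v).1 (hs v)
  obtain ⟨U, hU, hUA⟩ := Groth.FlatDescent.FibreDepth.exists_isOpen_of_generic
    (A := Aᶜ) (Groth.Agent.FibConstr.isLocallyConstructible_compl
      (Groth.FlatDescent.FibreFlat.isLocallyConstructible_forall_modFibFlat g h F hF))
    (fun hA => hη ((key _).1 hA))
  exact ⟨U, hU, fun s hs hf => hUA s hs ((key s).2 hf)⟩

end Groth.Agent.S4833
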