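import Mathlib
import Groth.Statements.S4834
-- import your own Groth.Agent.* helpers here

set_option autoImplicit false
open CategoryTheory CategoryTheory.Limits
universe u
open Lim8

namespace Groth.Agent.S4834

/-- Let A be a commutative ring, M an A-module of finite type and (N_λ) an inductive system of A-modules
indexed by a nonempty directed preordered set. Then the canonical map colim_λ Hom_A(M, N_λ) →
Hom_A(M, colim_λ N_λ), sending a compatible system of homomorphisms to its inductive limit, is
injective. This is the finite type case, in the form its proof gives. -/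
theorem result {A : Type u} [CommRing A] (M : ModuleCat.{u} A)
    [Module.Finite A M] {J : Type u} [Preorder J] [IsDirected J (· ≤ ·)] [Nonempty J]
    (N : J ⥤ ModuleCat.{u} A) :
    Function.Injective (colimit.post N (coyoneda.obj (Opposite.op M))) := by
  classical
  haveI : IsDirectedOrder J := ‹_›
  intro a b hab
  obtain ⟨i, u, rfl⟩ := Concrete.colimit_exists_rep (N ⋙ coyoneda.obj (Opposite.op M)) a
  obtain ⟨j, v, rfl⟩ := Concrete.colimit_exists_rep (N ⋙ coyoneda.obj (Opposite.op M)) b
  rw [← ConcreteCategory.comp_apply, ← ConcreteCategory.comp_apply, colimit.ι_post, colimit.ι_post] at hab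
  let u' : M ⟶ N.obj i := u
  let v' : M ⟶ N.obj j := v
  have hab' : u' ≫ colimit.ι N i = v' ≫ colimit.ι N j := hab
  obtain ⟨d, s, hs⟩ := Module.Finite.exists_fin (R := A) (M := M)
  have hpt : ∀ t : Fin d, ∃ (k : J) (f : i ⟶ k) (g : j ⟶ k), N.map f (u' (s t)) = N.map g (v' (s t)) := fun t =>
    Concrete.colimit_exists_of_rep_eq N _ _ (ConcreteCategory.congr_hom hab' (s t))
  choose k f g hfg using hpt
  obtain ⟨K, hK⟩ := (Finset.univ.image k ∪ {i, j}).exists_le
  have hiK : i ≤ K := hK i (by simp)
  have hjK : j ≤ K := hK j (by simp)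
  have heq : u' ≫ N.map (homOfLE hiK) = v' ≫ N.map (homOfLE hjK) := by
    refine ModuleCat.hom_ext (LinearMap.ext_on_range hs fun t => ?_)
    have e1 : homOfLE hiK = f t ≫ homOfLE (hK (k t) (by simp)) := Subsingleton.elim _ _
    have e2 : homOfLE hjK = g t ≫ homOfLE (hK (k t) (by simp)) := Subsingleton.elim _ _
    show N.map (homOfLE hiK) (u' (s t)) = N.map (homOfLE hjK) (v' (s t))
    rw [e1, e2, N.map_comp, N.map_comp, ConcreteCategory.comp_apply, ConcreteCategory.comp_apply, hfg]
  refine (Concrete.colimit_rep_eq_iff_exists _ _ _).2 ⟨K, homOfLE hiK, homOfLE hjK, ?_⟩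
  exact heq

end Groth.Agent.S4834
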