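import Groth.Statements.S4835
import Mathlib
import Groth.Agent.S4834
-- import your own Groth.Agent.* helpers here

set_option autoImplicit false
open CategoryTheory CategoryTheory.Limits
universe u
open Lim8

namespace Groth.Agent.S4835

/-- Let A be a commutative ring, M an A-module of finite presentation and (N_λ) an inductive system of
A-modules indexed by a nonempty directed preordered set. Then the canonical map colim_λ Hom_A(M,
N_λ) → Hom_A(M, colim_λ N_λ), sending a compatible system of homomorphisms to its inductive limit,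
is bijective. This is the form established in the source's proof (finite presentation case). -/
theorem result {A : Type u} [CommRing A] (M : ModuleCat.{u} A)
    [Module.FinitePresentation A M] {J : Type u} [Preorder J] [IsDirected J (· ≤ ·)] [Nonempty J]
    (N : J ⥤ ModuleCat.{u} A) :
    Function.Bijective (colimit.post N (coyoneda.obj (Opposite.op M))) := by
  classical
  refine ⟨Groth.Agent.S4834.result M N, fun g => ?_⟩
  haveI : IsDirectedOrder J := ‹_›
  let g' : M ⟶ colimit N := g
  obtain ⟨n, π, hπ⟩ := Module.Finite.exists_fin' A M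
  let e : Fin n → M := fun t => π (Pi.single t 1)
  have hlift : ∀ t, ∃ (k : J) (y : N.obj k), colimit.ι N k y = g' (e t) := fun t =>
    Concrete.colimit_exists_rep N (g' (e t))
  choose k y hy using hlift
  obtain ⟨j₀⟩ := (inferInstance : Nonempty J)
  obtain ⟨K, hK⟩ := (Finset.univ.image k ∪ {j₀}).exists_le
  let l : (Fin n → A) →ₗ[A] N.obj K :=
    Fintype.linearCombination A fun t => N.map (homOfLE (hK (k t) (by simp))) (y t)
  have hl : ∀ v, colimit.ι N K (l v) = g' (π v) := by
    have : (colimit.ι N K).hom ∘ₗ l = g'.hom ∘ₗ π := by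
      refine LinearMap.pi_ext fun t a => ?_
      have h1 : (Pi.single t a : Fin n → A) = a • Pi.single t 1 := by
        rw [← Pi.single_smul, smul_eq_mul, mul_one]
      rw [h1, map_smul, map_smul]
      congr 1
      simp only [LinearMap.comp_apply, l, Fintype.linearCombination_apply_single, one_smul]
      rw [← ConcreteCategory.comp_apply, colimit.w, hy]
    exact fun v => LinearMap.congr_fun this v
  obtain ⟨r, hr⟩ := Module.FinitePresentation.fg_ker π hπ
  have hvan : ∀ v : {v // v ∈ r}, ∃ (L : J) (f : K ⟶ L), N.map f (l v.1) = 0 := by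
    intro v
    have : colimit.ι N K (l v.1) = colimit.ι N K 0 := by
      rw [hl, map_zero, LinearMap.mem_ker.mp (show v.1 ∈ LinearMap.ker π from hr.le (Submodule.subset_span v.2))]
      exact map_zero g'.hom
    obtain ⟨L, f, f', hf⟩ := Concrete.colimit_exists_of_rep_eq N _ _ this
    exact ⟨L, f, by rw [hf]; exact map_zero _⟩
  choose L f hf using hvan
  obtain ⟨P, hP⟩ := (Finset.univ.image L ∪ {K}).exists_le
  have hKP : K ≤ P := hP K (by simp)
  let lP : (Fin n → A) →ₗ[A] N.obj P := (N.map (homOfLE hKP)).hom ∘ₗ l
  have hker : LinearMap.ker π ≤ LinearMap.ker lP := by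
    rw [← hr, Submodule.span_le]
    intro v hv
    show N.map (homOfLE hKP) (l v) = 0
    rw [show homOfLE hKP = f ⟨v, hv⟩ ≫ homOfLE (hP (L ⟨v, hv⟩) (by simp)) from Subsingleton.elim _ _,
      N.map_comp, ConcreteCategory.comp_apply, hf ⟨v, hv⟩]
    exact map_zero _
  let h : M →ₗ[A] N.obj P :=
    (LinearMap.ker π).liftQ lP hker ∘ₗ (π.quotKerEquivOfSurjective hπ).symm.toLinearMap
  have hh : ∀ v, h (π v) = lP v := by
    intro v
    have : (π.quotKerEquivOfSurjective hπ).symm (π v) = Submodule.Quotient.mk v := by
      rw [LinearEquiv.symm_apply_eq]; rfl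
    simp [h, this]
  refine ⟨colimit.ι (N ⋙ coyoneda.obj (Opposite.op M)) P (ModuleCat.ofHom h), ?_⟩
  rw [← ConcreteCategory.comp_apply, colimit.ι_post]
  show ModuleCat.ofHom h ≫ colimit.ι N P = g'
  refine ModuleCat.hom_ext (LinearMap.ext fun m => ?_)
  obtain ⟨v, rfl⟩ := hπ m
  show colimit.ι N P (h (π v)) = _
  rw [hh, ← hl v]
  show (N.map (homOfLE hKP) ≫ colimit.ι N P) (l v) = _
  rw [colimit.w]

end Groth.Agent.S4835
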