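import Groth.Statements.S4847
import Groth.Agent.FlatDescent.Sheaf
import Groth.Agent.FlatDescent.Local
import Groth.Agent.QCohLib.Coherent

set_option autoImplicit false
universe u
open EGA43

namespace Groth.Agent.S4847

open AlgebraicGeometry CategoryTheory Limits in
/-- Case 1° (fibrewise flatness criterion for locally Noetherian schemes): let S, X and Y be locally
Noetherian schemes, f : X ⟶ Y and h : Y ⟶ S arbitrary morphisms, F a coherent O_X-module and x a
point of X with images y in Y and s in S, such that the stalk F_x is nonzero. Then F is flat over S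
at x and F_x / m_s F_x is flat over O_{Y,y} / m_s O_{Y,y} (that is, the fibre module F_s is flat
over the fibre Y_s at x) if and only if h is flat at y and F is flat over Y at x. No finiteness
hypothesis on f or h is required in this case. -/
theorem result {X Y S : Scheme.{u}}
    [IsLocallyNoetherian X] [IsLocallyNoetherian Y] [IsLocallyNoetherian S]
    (f : X ⟶ Y) (h : Y ⟶ S) (F : X.Modules) (hF : Coh.IsCoh F) (x : X)
    (hx : Nontrivial ↑(F.presheaf.stalk x)) :
    letI := FlatMod.moduleStalkOver f F x
    (FlatMod.IsFlatOverAt (f ≫ h) F x ∧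
      Module.Flat (↑(Y.presheaf.stalk (f x)) ⧸ Ideal.map (h.stalkMap (f x)).hom (IsLocalRing.maximalIdeal ↑(S.presheaf.stalk (h (f x)))))
        (↑(F.presheaf.stalk x) ⧸ (Ideal.map (h.stalkMap (f x)).hom (IsLocalRing.maximalIdeal ↑(S.presheaf.stalk (h (f x)))) •
          (⊤ : Submodule ↑(Y.presheaf.stalk (f x)) ↑(F.presheaf.stalk x))))) ↔
    ((h.stalkMap (f x)).hom.Flat ∧ FlatMod.IsFlatOverAt f F x) := by
  let R := S.presheaf.stalk (h (f x))
  let A := Y.presheaf.stalk (f x)
  let C := X.presheaf.stalk x
  let M := F.presheaf.stalk x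
  letI := FlatMod.moduleStalkOver f F x
  letI : Algebra R A := (h.stalkMap (f x)).hom.toAlgebra
  letI : Algebra A C := (f.stalkMap x).hom.toAlgebra
  letI : Algebra R C := ((algebraMap A C).comp (algebraMap R A)).toAlgebra
  haveI : IsScalarTower R A C := IsScalarTower.of_algebraMap_eq fun _ => rfl
  haveI : IsScalarTower A C M := IsScalarTower.of_algebraMap_smul fun _ _ => rfl
  letI : Module R M := Module.compHom _ (algebraMap R A)
  haveI : IsScalarTower R A M := IsScalarTower.of_algebraMap_smul fun _ _ => rfl
  have hiff : FlatMod.IsFlatOverAt (f ≫ h) F x ↔ Module.Flat R M := by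
    have hmod : FlatMod.moduleStalkOver (f ≫ h) F x = (inferInstance : Module R M) := by
      refine Module.ext' _ _ fun r m => ?_
      show ((f ≫ h).stalkMap x) r • m = (f.stalkMap x) ((h.stalkMap (f x)) r) • m
      rw [Scheme.Hom.stalkMap_comp]
      rfl
    show @Module.Flat R M _ _ (FlatMod.moduleStalkOver (f ≫ h) F x) ↔ _
    rw [hmod]
  have hcoh := (Groth.Agent.QCohLib.isCoh_iff.mp hF).2
  haveI := hF.1
  haveI : Module.Finite C M := by
    obtain ⟨_, ⟨U, hU, rfl⟩, hxU, -⟩ :=
      X.isBasis_affineOpens.exists_subset_of_mem_open (Set.mem_univ x) isOpen_univ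
    haveI := hcoh ⟨U, hU⟩
    letI := Groth.Agent.QCohLib.germModule F x hxU
    haveI := Groth.Agent.QCohLib.isLocalizedModule_germ (M := F) hU x hxU
    letI := X.presheaf.algebra_section_stalk (U := U) ⟨x, hxU⟩
    haveI := hU.isLocalization_stalk ⟨x, hxU⟩
    haveI : IsScalarTower Γ(X, U) C M := IsScalarTower.of_algebraMap_smul fun _ _ => rfl
    exact Module.Finite.of_isLocalizedModule (hU.primeIdealOf ⟨x, hxU⟩).asIdeal.primeCompl
      (Groth.Agent.QCohLib.germLinearMap F x hxU)
  let J : Ideal A := Ideal.map (algebraMap R A) (IsLocalRing.maximalIdeal R)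
  have eJ := LinearEquiv.extendScalarsOfSurjective (R := A) (S := A ⧸ J) Ideal.Quotient.mk_surjective
    (TensorProduct.quotTensorEquivQuotSMul M J)
  constructor
  · rintro ⟨hM, hfib⟩
    haveI : Module.Flat R M := hiff.mp hM
    haveI : Module.Flat (A ⧸ J) (M ⧸ J • (⊤ : Submodule A M)) := hfib
    haveI : Module.Flat (A ⧸ J) (TensorProduct A (A ⧸ J) M) := Module.Flat.of_linearEquiv eJ
    have hlocRA : IsLocalHom (algebraMap R A) := inferInstanceAs (IsLocalHom (h.stalkMap (f x)).hom)
    have hlocAC : IsLocalHom (algebraMap A C) := inferInstanceAs (IsLocalHom (f.stalkMap x).hom)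
    haveI hAM : Module.Flat A M := by
      refine Groth.FlatDescent.flat_of_flat_fibre (R := R) (S' := C) (IsLocalRing.maximalIdeal R) ?_
      refine le_trans ?_ (IsLocalRing.jacobson_eq_maximalIdeal (⊥ : Ideal C) bot_ne_top).ge
      rw [Ideal.map_map, Ideal.map_le_iff_le_comap]
      intro r hr
      exact map_nonunit (algebraMap A C) _ (map_nonunit (algebraMap R A) r hr)
    haveI : Module.FaithfullyFlat A M := by
      refine ⟨fun {m} hm htop => ?_⟩
      rw [IsLocalRing.eq_maximalIdeal hm] at htop
      haveI : Nontrivial M := hx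
      have h2 : (⊤ : Submodule C M) ≤ IsLocalRing.maximalIdeal C • ⊤ := by
        intro y hy0
        clear hy0
        have hy : y ∈ IsLocalRing.maximalIdeal A • (⊤ : Submodule A M) := by rw [htop]; trivial
        induction hy using Submodule.smul_induction_on' with
        | smul r hr z _ =>
          rw [← algebraMap_smul C r z]
          exact Submodule.smul_mem_smul (map_nonunit (algebraMap A C) r hr) trivial
        | add a _ b _ ha hb => exact add_mem ha hb
      exact top_ne_bot (Submodule.eq_bot_of_le_smul_of_le_jacobson_bot _ _ Module.Finite.fg_top h2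
        (IsLocalRing.jacobson_eq_maximalIdeal _ bot_ne_top).ge)
    have := Groth.FlatDescent.flat_of_faithfullyFlat_of_flat (R := R) (S := A) (M := M)
    exact ⟨this, hAM⟩
  · rintro ⟨hh, hfM⟩
    haveI : Module.Flat R A := hh
    haveI : Module.Flat A M := hfM
    refine ⟨hiff.mpr (Module.Flat.trans R A M), ?_⟩
    exact Module.Flat.of_linearEquiv eJ.symm

end Groth.Agent.S4847
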