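import Groth.Statements.S4851
import Groth.Agent.FlatDescent.LocalFP.Sheaf

set_option autoImplicit false
universe u
open EGA43

namespace Groth.Agent.S4851

open AlgebraicGeometry CategoryTheory Limits in
/-- Let f : X ⟶ Y be locally of finite presentation, F and F' quasi-coherent O_X-modules of finite
presentation and u : F' ⟶ F a homomorphism. Then the set of points x of X at which the stalk map u_x
is injective and Coker u is f-flat at x is open in X. (No flatness hypothesis on F is made; the form
of this openness statement in which F is moreover assumed f-flat is a special case.) -/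
theorem result {X Y : Scheme.{u}} (f : X ⟶ Y)
    [LocallyOfFinitePresentation f] (F F' : X.Modules) [Coh.IsQCoh F] [Coh.IsQCoh F']
    (hF : CohB1.IsFP F) (hF' : CohB1.IsFP F') (u : F' ⟶ F) :
    IsOpen {x : X | Function.Injective ((TopCat.Presheaf.stalkFunctor Ab x).map (Scheme.Modules.Hom.mapPresheaf u)) ∧
      FlatMod.IsFlatOverAt f (cokernel u) x} := by
  haveI : (cokernel u).IsQuasicoherent := Groth.Agent.QCohLib.isQuasicoherent_cokernel u
  refine Groth.FlatDescent.LocalFP.isOpen_injective_flat f hF hF' u ?_
  refine (Groth.Agent.QCohLib.isFinitePresentation_iff_affine (cokernel u)).2 fun ⟨U, hU⟩ => ?_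
  haveI := Groth.Agent.QCohLib.finitePresentation_sections (M := F) hF hU
  haveI := Groth.Agent.QCohLib.finitePresentation_sections (M := F') hF' hU
  have hk : LinearMap.ker (Groth.Agent.QCohLib.appLinearMap (cokernel.π u) U) =
      LinearMap.range (Groth.Agent.QCohLib.appLinearMap u U) := by
    ext s
    constructor
    · intro hs
      haveI := Groth.Agent.QCohLib.isQuasicoherent_kernel (cokernel.π u)
      obtain ⟨c, hc⟩ := (Groth.Agent.QCohLib.exists_kernel_app_eq (cokernel.π u) U s).1 hs
      obtain ⟨d, hd⟩ := Groth.Agent.QCohLib.app_surjective_of_epi (Abelian.factorThruImage u) hU c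
      refine ⟨d, ?_⟩
      show u.app U d = s
      rw [← hc, ← hd, ← CategoryTheory.comp_apply, ← Scheme.Modules.Hom.comp_app]
      exact congrArg (fun q : F' ⟶ F => q.app U d) (Abelian.image.fac u).symm
    · rintro ⟨d, rfl⟩
      show (cokernel.π u).app U (u.app U d) = 0
      rw [← CategoryTheory.comp_apply, ← Scheme.Modules.Hom.comp_app, cokernel.condition]
      rfl
  refine Module.finitePresentation_of_surjective (Groth.Agent.QCohLib.appLinearMap (cokernel.π u) U)
    (Groth.Agent.QCohLib.app_surjective_of_epi (cokernel.π u) hU) ?_
  rw [hk, LinearMap.range_eq_map]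
  exact Module.Finite.fg_top.map _

end Groth.Agent.S4851
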