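import Groth.Statements.S4852
import Groth.Agent.S4853
import Mathlib

set_option autoImplicit false
universe u
open TensorProduct
open EGA43

namespace Groth.Agent.S4852

/-- Let A be a semi-local ring (finitely many maximal ideals) whose Jacobson radical is nilpotent, for
instance an Artinian ring, and let (u_i : A → B_i) be a family of ring homomorphisms whose kernels
have zero intersection. Then an A-module M is flat if and only if, for every i, the B_i-module B_i
⊗_A M is flat. -/
theorem result {A : Type u} [CommRing A]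
    [Finite (MaximalSpectrum A)] (hnil : IsNilpotent (Ring.jacobson A))
    {ι : Type u} (B : ι → Type u) [∀ i, CommRing (B i)] [∀ i, Algebra A (B i)]
    (hB : ∀ a : A, (∀ i, algebraMap A (B i) a = 0) → a = 0)
    (M : Type u) [AddCommGroup M] [Module A M] :
    Module.Flat A M ↔ ∀ i, Module.Flat (B i) (B i ⊗[A] M) := by
  classical
  constructor
  · intro h i
    infer_instance
  intro h
  obtain ⟨N, hN⟩ := hnil
  apply Module.flat_of_localized_maximal
  intro m hm
  -- an element killing a power of `m` outside `m`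
  obtain ⟨e, hem, hev⟩ : ∃ e : A, e ∉ m ∧ ∀ v ∈ m ^ N, e * v = 0 := by
    let := Fintype.ofFinite (MaximalSpectrum A)
    let I : Ideal A := ∏ q ∈ Finset.univ.filter (fun q : MaximalSpectrum A => q.asIdeal ≠ m), q.asIdeal
    have hI : ¬ I ≤ m := by
      intro hle
      obtain ⟨q, hq, hqm⟩ := (hm.isPrime.prod_le).mp hle
      exact (Finset.mem_filter.mp hq).2 (q.isMaximal.eq_of_le hm.ne_top hqm)
    obtain ⟨z, hz, hzm⟩ := Set.not_subset.mp hI
    refine ⟨z ^ N, fun h => hzm (hm.isPrime.mem_of_pow_mem N h), fun v hv => ?_⟩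
    have hle : I * m ≤ Ring.jacobson A := by
      rw [Ring.jacobson_eq_sInf_isMaximal]
      refine le_sInf fun q hq => ?_
      by_cases hqm : q = m
      · exact hqm ▸ Ideal.mul_le_right
      · refine Ideal.mul_le_left.trans (Ideal.le_of_dvd ?_)
        exact Finset.dvd_prod_of_mem (a := (⟨q, hq⟩ : MaximalSpectrum A))
          (fun q : MaximalSpectrum A => q.asIdeal) (Finset.mem_filter.mpr ⟨Finset.mem_univ _, hqm⟩)
    have h0 : z ^ N * v ∈ (I * m) ^ N := by
      rw [mul_pow]; exact Ideal.mul_mem_mul (Ideal.pow_mem_pow hz N) hv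
    have h1 := Ideal.pow_right_mono hle N h0
    rw [hN] at h1
    exact h1
  let L := Localization.AtPrime m
  have hnilL : IsNilpotent (IsLocalRing.maximalIdeal L) := ⟨N, by
    rw [← Localization.AtPrime.map_eq_maximalIdeal, ← Ideal.map_pow]
    refine le_bot_iff.mp (Ideal.map_le_iff_le_comap.mpr fun v hv => ?_)
    rw [Ideal.mem_comap, Submodule.mem_bot, IsLocalization.map_eq_zero_iff m.primeCompl]
    exact ⟨⟨e, hem⟩, hev v hv⟩⟩
  let ML := L ⊗[A] M
  let := Ideal.Quotient.field (IsLocalRing.maximalIdeal L)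
  obtain ⟨R₀, -, -, hR₀⟩ := Groth.Agent.S4853.result ML (IsLocalRing.maximalIdeal L) hnilL
    (Module.Free.of_divisionRing _ _)
  suffices hbot : R₀ = ⊥ by
    have h1 : Module.Flat L (L ⊗[L] ML) := ((hR₀ L).2).mpr (by simp [hbot])
    have h2 : Module.Flat L ML := Module.Flat.of_linearEquiv (TensorProduct.lid L ML).symm
    have h4 : Module.Flat A ML := Module.Flat.trans A L ML
    exact Module.Flat.of_linearEquiv (LocalizedModule.equivTensorProduct m.primeCompl M |>.restrictScalars A)
  refine le_bot_iff.mp fun x hx => ?_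
  obtain ⟨a, s, rfl⟩ := IsLocalization.exists_mk'_eq m.primeCompl x
  rw [Submodule.mem_bot, IsLocalization.mk'_eq_zero_iff]
  refine ⟨⟨e, hem⟩, hB _ fun i => ?_⟩
  let S := Algebra.algebraMapSubmonoid (B i) m.primeCompl
  let B' := Localization S
  let : Algebra L B' := localizationAlgebra m.primeCompl (B i)
  have : IsScalarTower A L B' := IsScalarTower.of_algebraMap_eq' (by
    ext r
    simp [RingHom.algebraMap_toAlgebra, B', IsLocalization.map_eq, ← IsScalarTower.algebraMap_apply])
  have := h i
  have hflat : Module.Flat B' (B' ⊗[L] ML) := by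
    have : Module.Flat B' (B' ⊗[A] M) := Module.Flat.of_linearEquiv
      (TensorProduct.AlgebraTensorModule.cancelBaseChange A (B i) B' B' M).symm
    exact Module.Flat.of_linearEquiv (TensorProduct.AlgebraTensorModule.cancelBaseChange A L B' B' M)
  have h0 := ((hR₀ B').2).mp hflat
  have h1 : algebraMap L B' (IsLocalization.mk' L a s) = 0 :=
    (Submodule.mem_bot B').mp (h0 ▸ Ideal.mem_map_of_mem _ hx)
  have h2 : algebraMap (B i) B' (algebraMap A (B i) a) = 0 := by
    rw [← IsScalarTower.algebraMap_apply, IsScalarTower.algebraMap_apply A L B',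
      ← IsLocalization.mk'_spec L a s, map_mul, h1, zero_mul]
  obtain ⟨⟨_, t, ht, rfl⟩, htz⟩ := (IsLocalization.map_eq_zero_iff S B' _).mp h2
  obtain ⟨u, v, hv, huv⟩ := hm.exists_inv (x := t) ht
  obtain ⟨w, hw⟩ : ∃ w, ∀ c, e * c = e * (w * t * c) := by
    have hv' : ∀ k, ∃ w, ∃ r ∈ m ^ k, w * t + r = 1 := by
      intro k
      induction k with
      | zero => exact ⟨0, 1, by simp, by ring⟩
      | succ k ih =>
        obtain ⟨w, r, hr, hwr⟩ := ih
        refine ⟨w + r * u, r * v, by rw [pow_succ]; exact Ideal.mul_mem_mul hr hv, ?_⟩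
        linear_combination hwr + r * huv
    obtain ⟨w, r, hr, hwr⟩ := hv' N
    refine ⟨w, fun c => ?_⟩
    linear_combination (-e * c) * hwr + c * hev r hr
  rw [hw, map_mul, map_mul, map_mul, mul_assoc, htz, mul_zero, mul_zero]

end Groth.Agent.S4852
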