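import Groth.Statements.S4856
import Groth.Agent.FlatDescent.Joint.Scheme

set_option autoImplicit false
universe u
open CategoryTheory AlgebraicGeometry
open EGA43

namespace Groth.Agent.S4856

open TensorProduct Groth.FlatDescent.Joint in
open CategoryTheory.Limits in
/-- Let A be an Artinian local ring, f : X ⟶ Spec A locally of finite type, F a coherent O_X-module and
x a point of X. Let (u_i : A → A_i) be a family of ring homomorphisms into local rings such that an
element of A killed by every u_i is zero. If, for every i, the pullback of F to X_i = X ×_{Spec A}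
Spec A_i is flat over Spec A_i at every point of X_i whose images are x in X and the closed point in
Spec A_i, then F is f-flat at x. -/
theorem result {A : Type u} [CommRing A]
    [IsArtinianRing A] [IsLocalRing A] {X : Scheme.{u}} (f : X ⟶ Spec (CommRingCat.of A))
    [LocallyOfFiniteType f] (F : X.Modules) (hF : Coh.IsCoh F) (x : X)
    {ι : Type u} (A' : ι → Type u) [∀ i, CommRing (A' i)] [∀ i, IsLocalRing (A' i)] (u : ∀ i, A →+* A' i)
    (hu : ∀ a : A, (∀ i, u i a = 0) → a = 0)
    (hflat : ∀ (i : ι) (x' : ↥(pullback f (Spec.map (CommRingCat.ofHom (u i))))),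
      pullback.fst f (Spec.map (CommRingCat.ofHom (u i))) x' = x →
      pullback.snd f (Spec.map (CommRingCat.ofHom (u i))) x' = IsLocalRing.closedPoint (A' i) →
      FlatMod.IsFlatOverAt (pullback.snd f (Spec.map (CommRingCat.ofHom (u i))))
        ((Scheme.Modules.pullback (pullback.fst f (Spec.map (CommRingCat.ofHom (u i))))).obj F) x') :
    FlatMod.IsFlatOverAt f F x := by
  letI : ∀ i, Algebra A (A' i) := fun i => (u i).toAlgebra
  haveI : ∀ i, IsLocalHom (algebraMap A (A' i)) := fun i =>
    ((IsLocalRing.local_hom_TFAE (algebraMap A (A' i))).out 0 2 rfl rfl).mpr (Ideal.map_le_iff_le_comap.mpr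
      (IsLocalRing.eq_maximalIdeal ((IsArtinianRing.isPrime_iff_isMaximal _).mp
        (Ideal.IsPrime.comap (algebraMap A (A' i))))).ge)
  haveI := hF.1
  refine isFlatOverAt_of_joint f F hF x A' hu ?_
  intro B _ _ k _ hk M eM _ _ Q hQ _ i W E _ _ _ _ _ _ _ _ φ hφ z hz
  obtain ⟨k', hk₁, hk₂, hk₃, hk₄⟩ := exists_chart f F k hk M eM (A' i)
  letI : Algebra (A' i) (B ⊗[A] A' i) := Algebra.TensorProduct.rightAlgebra
  refine exists_mem_map_nzd_of_forall (A' i) Q.asIdeal _ fun q hq hqB hqA hle => ?_
  let w : PrimeSpectrum (B ⊗[A] A' i) := ⟨q, hq⟩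
  have hwB : PrimeSpectrum.comap (Algebra.TensorProduct.includeLeftRingHom : B →+* B ⊗[A] A' i) w = Q :=
    PrimeSpectrum.ext hqB
  have hflat' := (hk₄ w).mp (hflat i (k' w) (by rw [← hQ, ← hwB]; exact hk₁ w) ((hk₂ w).trans (PrimeSpectrum.ext hqA)))
  haveI : Module.Flat (A' i) (LocalizedModule q.primeCompl ((B ⊗[A] A' i) ⊗[B] M)) := hflat'
  obtain ⟨c, hc, hcq⟩ := exists_notMem_ann (fun _ => rfl) φ hφ z hz q
  exact hcq (hle hc)

end Groth.Agent.S4856
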