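import Mathlib
import Groth.Statements.S4858
-- import your own Groth.Agent.* helpers here

set_option autoImplicit false
universe u
open EGA43

namespace Groth.Agent.S4858

/-- Conditions a), a′), c), c′) (very dense subsets): for a subset X₀ of a topological space X the
following are equivalent: every nonempty locally closed subset of X meets X₀; every closed subset Z
of X equals the closure of Z ∩ X₀; the map U ↦ U ∩ X₀ is injective on open subsets of X; the map F ↦
F ∩ X₀ is injective on closed subsets of X. -/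
theorem result {X : Type u} [TopologicalSpace X] (X₀ : Set X) :
    [∀ Z : Set X, IsLocallyClosed Z → Z.Nonempty → (Z ∩ X₀).Nonempty,
      ∀ Z : Set X, IsClosed Z → closure (Z ∩ X₀) = Z,
      ∀ U V : Set X, IsOpen U → IsOpen V → U ∩ X₀ = V ∩ X₀ → U = V,
      ∀ F F' : Set X, IsClosed F → IsClosed F' → F ∩ X₀ = F' ∩ X₀ → F = F'].TFAE := by
  tfae_have 1 → 2 := fun h Z hZ => by
    refine subset_antisymm (closure_minimal Set.inter_subset_left hZ) fun x hx => mem_closure_iff.mpr fun o ho hxo => ?_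
    obtain ⟨y, ⟨hy1, hy2⟩, hy⟩ := h (o ∩ Z) ⟨o, Z, ho, hZ, rfl⟩ ⟨x, hxo, hx⟩
    exact ⟨y, hy1, hy2, hy⟩
  tfae_have 2 → 4 := fun h F F' hF hF' he => by rw [← h F hF, he, h F' hF']
  tfae_have 4 → 3 := fun h U V hU hV he => compl_injective (h _ _ hU.isClosed_compl hV.isClosed_compl (by
    ext x
    have := Set.ext_iff.mp he x
    simp only [Set.mem_inter_iff, Set.mem_compl_iff] at this ⊢
    tauto))
  tfae_have 3 → 1 := fun h Z hZ hne => by
    obtain ⟨o, C, ho, hC, rfl⟩ := hZ
    by_contra hem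
    obtain ⟨x, hxo, hxC⟩ := hne
    have := h o (o ∩ Cᶜ) ho (ho.inter hC.isOpen_compl) (by
      ext y
      simp only [Set.mem_inter_iff, Set.mem_compl_iff]
      refine ⟨fun ⟨a, b⟩ => ⟨⟨a, fun c => hem ⟨y, ⟨a, c⟩, b⟩⟩, b⟩, fun ⟨⟨a, _⟩, b⟩ => ⟨a, b⟩⟩)
    exact (this.le hxo).2 hxC
  tfae_finish

end Groth.Agent.S4858
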