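import Groth.Statements.S4859
import Mathlib
-- import your own Groth.Agent.* helpers here

set_option autoImplicit false
universe u
open EGA43

namespace Groth.Agent.S4859

/-- Conditions a), a′), b) (quasi-homeomorphisms): for a continuous map f : X₀ → X the following are
equivalent: taking preimages is a bijection from the open subsets of X onto the open subsets of X₀;
taking preimages is a bijection from the closed subsets of X onto the closed subsets of X₀; the
topology of X₀ is induced from X through f and the image f(X₀) is very dense in X, in the sense that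
two open subsets of X with the same trace on f(X₀) coincide. -/
theorem result {X₀ X : Type u} [TopologicalSpace X₀] [TopologicalSpace X]
    (f : X₀ → X) (hf : Continuous f) :
    [Function.Bijective (fun U : TopologicalSpace.Opens X =>
        (⟨f ⁻¹' (U : Set X), U.isOpen.preimage hf⟩ : TopologicalSpace.Opens X₀)),
      Function.Bijective (fun F : TopologicalSpace.Closeds X =>
        (⟨f ⁻¹' (F : Set X), F.isClosed.preimage hf⟩ : TopologicalSpace.Closeds X₀)),
      Topology.IsInducing f ∧
        ∀ U V : Set X, IsOpen U → IsOpen V → U ∩ Set.range f = V ∩ Set.range f → U = V].TFAE := by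
  tfae_have 1 → 2 := by
    intro h
    refine ⟨fun F F' hFF => ?_, fun F₀ => ?_⟩
    · have := @h.1 ⟨(F : Set X)ᶜ, F.isClosed.isOpen_compl⟩ ⟨(F' : Set X)ᶜ, F'.isClosed.isOpen_compl⟩ (by
        ext1; exact congrArg compl (congrArg SetLike.coe hFF))
      ext1
      exact compl_injective (congrArg SetLike.coe this)
    · obtain ⟨U, hU⟩ := h.2 ⟨(F₀ : Set X₀)ᶜ, F₀.isClosed.isOpen_compl⟩
      refine ⟨⟨(U : Set X)ᶜ, U.isOpen.isClosed_compl⟩, ?_⟩
      ext1
      exact (congrArg compl (congrArg SetLike.coe hU)).trans (compl_compl _)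
  tfae_have 2 → 3 := by
    intro h
    refine ⟨⟨le_antisymm (continuous_iff_le_induced.1 hf) fun s hs => ?_⟩, fun U V hU hV e => ?_⟩
    · obtain ⟨F, hF⟩ := h.2 ⟨sᶜ, hs.isClosed_compl⟩
      exact ⟨(F : Set X)ᶜ, F.isClosed.isOpen_compl, (congrArg compl (congrArg SetLike.coe hF)).trans (compl_compl s)⟩
    · have e' : f ⁻¹' U = f ⁻¹' V := by
        have := congrArg (f ⁻¹' ·) e
        simpa only [Set.preimage_inter_range] using this
      have := @h.1 ⟨Uᶜ, hU.isClosed_compl⟩ ⟨Vᶜ, hV.isClosed_compl⟩ (by ext1; exact congrArg compl e')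
      exact compl_injective (congrArg SetLike.coe this)
  tfae_have 3 → 1 := by
    rintro ⟨hi, hd⟩
    refine ⟨fun U V e => ?_, fun U₀ => ?_⟩
    · ext1
      refine hd _ _ U.isOpen V.isOpen ?_
      have := congrArg (f '' ·) (congrArg SetLike.coe e)
      simpa only [TopologicalSpace.Opens.coe_mk, Set.image_preimage_eq_inter_range] using this
    · obtain ⟨U, hU, e⟩ := hi.isOpen_iff.1 U₀.isOpen
      exact ⟨⟨U, hU⟩, TopologicalSpace.Opens.ext e⟩
  tfae_finish

end Groth.Agent.S4859
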