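import Groth.Statements.S9613
import Mathlib
-- import your own Groth.Agent.* helpers here

set_option autoImplicit false
universe u
open CAlg

namespace Groth.Agent.S9613

theorem exists_away_field {R K : Type u} [CommRing R] [Field K] [Algebra R K]
    (hinj : Function.Injective (algebraMap R K)) [Algebra.FiniteType R K] :
    ∃ f : R, f ≠ 0 ∧ ∃ Rf : Subalgebra R K, IsLocalization.Away f Rf ∧ IsField Rf ∧ Module.Finite Rf K := by
  classical
  haveI : IsDomain R := hinj.isDomain (algebraMap R K)
  haveI : FaithfulSMul R K := (faithfulSMul_iff_algebraMap_injective R K).mpr hinj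
  letI : Algebra (FractionRing R) K := FractionRing.liftAlgebra R K
  haveI : Algebra.FiniteType (FractionRing R) K :=
    Algebra.FiniteType.of_restrictScalars_finiteType R (FractionRing R) K
  haveI : Module.Finite (FractionRing R) K := finite_of_finite_type_of_isJacobsonRing (FractionRing R) K
  haveI : Algebra.IsAlgebraic R K :=
    (IsFractionRing.comap_isAlgebraic_iff (A := R) (K := FractionRing R) (C := K)).mpr inferInstance
  obtain ⟨s, hs⟩ := (‹Algebra.FiniteType R K›).out
  choose y hy hyi using fun x : K => (Algebra.IsAlgebraic.isAlgebraic (R := R) x).exists_integral_multiple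
  let f := ∏ x ∈ s, y x
  have hf : f ≠ 0 := Finset.prod_ne_zero_iff.mpr fun x _ => hy x
  have hf' : algebraMap R K f ≠ 0 := fun e => hf (hinj (e.trans (map_zero _).symm))
  let Rf : Subalgebra R K := Algebra.adjoin R {(algebraMap R K f)⁻¹}
  have hinv : (algebraMap R K f)⁻¹ ∈ Rf := Algebra.subset_adjoin rfl
  have hint : ∀ x ∈ s, IsIntegral Rf x := by
    intro x hx
    have hc : (algebraMap R K f)⁻¹ * algebraMap R K (∏ z ∈ s.erase x, y z) ∈ Rf :=
      Rf.mul_mem hinv (Rf.algebraMap_mem _)
    have e : x = (⟨_, hc⟩ : Rf) • (y x • x) := by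
      rw [Subalgebra.smul_def, smul_eq_mul, Algebra.smul_def, ← mul_assoc, mul_assoc _ _ (algebraMap R K (y x)),
        ← map_mul, Finset.prod_erase_mul _ _ hx, inv_mul_cancel₀ hf', one_mul]
    rw [e]
    exact IsIntegral.smul _ ((hyi x).tower_top)
  haveI : Algebra.IsIntegral Rf K := by
    refine ⟨fun z => ?_⟩
    have hz : z ∈ Algebra.adjoin R (s : Set K) := hs ▸ Algebra.mem_top
    induction hz using Algebra.adjoin_induction with
    | mem w hw => exact hint w hw
    | algebraMap r => exact isIntegral_algebraMap (R := Rf) (x := algebraMap R Rf r)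
    | add u v _ _ hu hv => exact hu.add hv
    | mul u v _ _ hu hv => exact hu.mul hv
  haveI : Algebra.FiniteType Rf K := Algebra.FiniteType.of_restrictScalars_finiteType R Rf K
  refine ⟨f, hf, Rf, ?_, isField_of_isIntegral_of_isField Subtype.val_injective (Field.toIsField K),
    Algebra.IsIntegral.finite⟩
  have hu : IsUnit (algebraMap R Rf f) :=
    ⟨⟨algebraMap R Rf f, ⟨_, hinv⟩, Subtype.ext (mul_inv_cancel₀ hf'), Subtype.ext (inv_mul_cancel₀ hf')⟩, rfl⟩
  refine IsLocalization.Away.mk f hu (fun z => ?_) fun a b hab => ?_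
  · obtain ⟨z, hz⟩ := z
    induction hz using Algebra.adjoin_induction with
    | mem w hw =>
      obtain rfl : w = _ := hw
      exact ⟨1, 1, Subtype.ext (by simp [hf'])⟩
    | algebraMap r => exact ⟨0, r, Subtype.ext (by simp)⟩
    | add u v hu' hv' hu hv =>
      obtain ⟨n, a, ha⟩ := hu; obtain ⟨m, b, hb⟩ := hv
      refine ⟨n + m, a * f ^ m + b * f ^ n, ?_⟩
      have ha' := congrArg Subtype.val ha
      have hb' := congrArg Subtype.val hb
      apply Subtype.ext
      simp only [MulMemClass.coe_mul, AddMemClass.coe_add, SubalgebraClass.coe_algebraMap, SubmonoidClass.coe_pow, Subalgebra.coe_algebraMap, map_add, map_mul, map_pow] at ha' hb' ⊢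
      rw [← ha', ← hb']
      ring
    | mul u v hu' hv' hu hv =>
      obtain ⟨n, a, ha⟩ := hu; obtain ⟨m, b, hb⟩ := hv
      refine ⟨n + m, a * b, ?_⟩
      have ha' := congrArg Subtype.val ha
      have hb' := congrArg Subtype.val hb
      apply Subtype.ext
      simp only [MulMemClass.coe_mul, AddMemClass.coe_add, SubalgebraClass.coe_algebraMap, SubmonoidClass.coe_pow, Subalgebra.coe_algebraMap, map_mul] at ha' hb' ⊢
      rw [← ha', ← hb']
      ring
  · exact ⟨0, by simpa using hinj (congrArg Subtype.val hab)⟩


/-- Let R → K be an injective ring map into a field K which makes K an R-algebra of finite type. Then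
for some nonzero f ∈ R the localization R_f is a field over which K is finite; here R_f is realised
as the R-subalgebra of K that is a localization of R away from f. -/
theorem result {R K : Type u} [CommRing R] [Field K] [Algebra R K] (hinj : Function.Injective (algebraMap R K)) [Algebra.FiniteType R K] :
    ∃ f : R, f ≠ 0 ∧ ∃ Rf : Subalgebra R K, IsLocalization.Away f Rf ∧ IsField Rf ∧ Module.Finite Rf K := by
  exact exists_away_field hinj

end Groth.Agent.S9613
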