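import Groth.Statements.S4860
import Mathlib
import Groth.Agent.S9613
-- import your own Groth.Agent.* helpers here

set_option autoImplicit false
universe u
open EGA43

namespace Groth.Agent.S4860

/-- For an integral domain B the following are equivalent: a) the localization B_f is a field for some
nonzero f; b) the fraction field of B is a finitely generated B-algebra; c) there is a field
containing B (an injective algebra map from B) which is a finitely generated B-algebra; d) the
generic point of Spec B is open. -/
theorem result (B : Type u) [CommRing B] [IsDomain B] :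
    [∃ f : B, f ≠ 0 ∧ IsField (Localization.Away f),
      Algebra.FiniteType B (FractionRing B),
      ∃ (K : Type u) (_ : Field K) (_ : Algebra B K), Function.Injective (algebraMap B K) ∧ Algebra.FiniteType B K,
      IsOpen ({⟨⊥, Ideal.bot_prime⟩} : Set (PrimeSpectrum B))].TFAE := by
  tfae_have 2 → 3 := fun h => ⟨FractionRing B, inferInstance, inferInstance, IsFractionRing.injective B _, h⟩
  tfae_have 3 → 1 := by
    rintro ⟨K, _, _, hinj, hft⟩
    obtain ⟨f, hf, Rf, hloc, hfield, -⟩ := S9613.exists_away_field hinj
    exact ⟨f, hf, MulEquiv.isField hfield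
      (IsLocalization.algEquiv (Submonoid.powers f) (Localization.Away f) Rf).toMulEquiv⟩
  tfae_have 1 → 2 := by
    rintro ⟨f, hf, hfield⟩
    letI := hfield.toField
    have hu : IsUnit (algebraMap B (FractionRing B) f) :=
      IsUnit.mk0 _ fun e => hf (IsFractionRing.injective B _ (e.trans (map_zero _).symm))
    let φ : Localization.Away f →ₐ[B] FractionRing B :=
      { IsLocalization.Away.lift f hu with commutes' := fun r => IsLocalization.Away.lift_eq f hu r }
    refine Algebra.FiniteType.of_surjective φ fun z => ?_
    obtain ⟨a, s, hs, rfl⟩ := IsFractionRing.div_surjective (A := B) z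
    have hs0 : algebraMap B (Localization.Away f) s ≠ 0 := fun e => nonZeroDivisors.ne_zero hs
      (IsLocalization.injective (Localization.Away f) (powers_le_nonZeroDivisors_of_noZeroDivisors hf)
        (e.trans (map_zero _).symm))
    exact ⟨algebraMap B _ a / algebraMap B _ s, by rw [map_div₀, φ.commutes, φ.commutes]⟩
  tfae_have 4 → 1 := by
    intro ho
    obtain ⟨_, ⟨f, rfl⟩, hmem, hsub⟩ :=
      PrimeSpectrum.isTopologicalBasis_basic_opens.exists_subset_of_mem_open (Set.mem_singleton _) ho
    have hf : f ≠ 0 := fun e => hmem (by simp [e])
    haveI : IsDomain (Localization.Away f) :=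
      IsLocalization.isDomain_localization (powers_le_nonZeroDivisors_of_noZeroDivisors hf)
    refine ⟨f, hf, ?_⟩
    obtain ⟨m, hm⟩ := Ideal.exists_maximal (Localization.Away f)
    have hm0 : m.comap (algebraMap B (Localization.Away f)) = ⊥ := by
      have := hsub (a := ⟨m.comap (algebraMap B (Localization.Away f)), inferInstance⟩) fun h =>
        hm.ne_top (Ideal.eq_top_of_isUnit_mem _ h (IsLocalization.Away.algebraMap_isUnit f))
      exact congrArg PrimeSpectrum.asIdeal this
    refine Ring.isField_iff_maximal_bot.mpr ?_
    have : m = ⊥ := by
      rw [← IsLocalization.map_under (Submonoid.powers f) (Localization.Away f) m, Ideal.under, hm0, Ideal.map_bot]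
    exact this ▸ hm
  tfae_have 1 → 4 := by
    rintro ⟨f, hf, hfield⟩
    convert (PrimeSpectrum.basicOpen f).2
    ext p
    constructor
    · rintro rfl
      exact fun h => hf ((Submodule.mem_bot B).mp h)
    · intro hp
      letI := hfield.toField
      have hdisj : Disjoint (Submonoid.powers f : Set B) p.asIdeal := by
        rw [Set.disjoint_left]
        rintro _ ⟨n, rfl⟩ hn
        exact hp (p.isPrime.mem_of_pow_mem n hn)
      have hprime := IsLocalization.isPrime_of_isPrime_disjoint (Submonoid.powers f) (Localization.Away f) p.asIdeal p.isPrime hdisj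
      have h1 : p.asIdeal.map (algebraMap B (Localization.Away f)) = ⊥ :=
        ((Ideal.eq_bot_or_top _).resolve_right hprime.ne_top)
      refine PrimeSpectrum.ext (eq_bot_iff.mpr fun x hx => ?_)
      have := h1.le (Ideal.mem_map_of_mem _ hx)
      rw [Ideal.mem_bot] at this
      exact (Submodule.mem_bot B).mpr (IsLocalization.injective (Localization.Away f)
        (powers_le_nonZeroDivisors_of_noZeroDivisors hf) (this.trans (map_zero _).symm))
  tfae_finish

end Groth.Agent.S4860
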