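import Groth.Statements.S4861
import Mathlib.RingTheory.Ideal.KrullsHeightTheorem
import Mathlib.RingTheory.Ideal.MinimalPrime.Noetherian
import Mathlib.RingTheory.KrullDimension.Basic
import Mathlib.RingTheory.Spectrum.Maximal.Basic

set_option autoImplicit false
universe u
open EGA43

namespace Groth.Agent.S4861

/-- For a Noetherian integral domain B the following are equivalent (and hence equivalent to: the
fraction field of B is a finitely generated B-algebra; the generic point of Spec B is open): a) the
localization B_f is a field for some nonzero f; e) Spec B is finite; f) B is semi-local (finitely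
many maximal ideals) of Krull dimension at most 1. -/
theorem result (B : Type u) [CommRing B] [IsDomain B]
    [IsNoetherianRing B] :
    [∃ f : B, f ≠ 0 ∧ IsField (Localization.Away f),
      Finite (PrimeSpectrum B),
      Finite (MaximalSpectrum B) ∧ ringKrullDim B ≤ 1].TFAE := by
  classical
  tfae_have 1 → 3 := by
    rintro ⟨f, hf, hF⟩
    haveI : IsDomain (Localization.Away f) :=
      IsLocalization.isDomain_localization (powers_le_nonZeroDivisors_of_noZeroDivisors hf)
    letI := hF.toField
    have hmem : ∀ q : Ideal B, q.IsPrime → q ≠ ⊥ → f ∈ q := fun q hq hq0 => by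
      by_contra hfq
      have hdis : Disjoint (Submonoid.powers f : Set B) q := Set.disjoint_left.mpr fun y hy hy' => by
        obtain ⟨n, rfl⟩ := hy
        exact hfq (hq.mem_of_pow_mem n hy')
      have hp := IsLocalization.isPrime_of_isPrime_disjoint (Submonoid.powers f) (Localization.Away f) q hq hdis
      rcases Ideal.eq_bot_or_top (q.map (algebraMap B (Localization.Away f))) with h | h
      · refine hq0 ?_
        rw [← IsLocalization.under_map_of_isPrime_disjoint (Submonoid.powers f) (Localization.Away f) hq hdis]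
        show Ideal.comap (algebraMap B (Localization.Away f)) _ = ⊥
        rw [h, Ideal.comap_bot_of_injective]
        exact IsLocalization.injective (Localization.Away f) (powers_le_nonZeroDivisors_of_noZeroDivisors hf)
      · exact hp.ne_top h
    let S := (Ideal.span {f}).minimalPrimes
    have hS : S.Finite := Ideal.finite_minimalPrimes_of_isNoetherianRing B _
    have hSbot : ∀ p ∈ S, p ≠ ⊥ := fun p hp e => hf (by
      have := hp.1.2 (Ideal.mem_span_singleton_self f)
      rwa [e] at this)
    have hmain : ∀ q : Ideal B, q.IsPrime → q ≠ ⊥ → q ∈ S := fun q hq hq0 => by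
      by_contra hqS
      have hnle : ∀ p ∈ S, ¬ q ≤ p := fun p hp hle => by
        haveI := hp.1.1
        obtain ⟨p', hp', hp'q⟩ := Ideal.exists_minimalPrimes_le (J := q)
          ((Ideal.span_singleton_le_iff_mem q).mpr (hmem q hq hq0))
        have := hp.2 hp'.1 (hp'q.trans hle)
        have hpp : p = p' := le_antisymm this (hp'q.trans hle)
        exact hqS (le_antisymm (hle) (hpp ▸ hp'q) ▸ hp)
      obtain ⟨y, hy, hy0⟩ := Submodule.exists_mem_ne_zero_of_ne_bot hq0
      obtain ⟨x, hxq, hxS⟩ : ∃ x ∈ q, ∀ p ∈ insert ⊥ S, x ∉ p := by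
        by_contra hcon
        push_neg at hcon
        have hsub : (q : Set B) ⊆ ⋃ p ∈ ((hS.insert ⊥).toFinset : Set (Ideal B)), (p : Set B) := fun x hx => by
          obtain ⟨p, hp, hxp⟩ := hcon x hx
          exact Set.mem_biUnion ((hS.insert ⊥).coe_toFinset.symm ▸ hp) hxp
        obtain ⟨p, hp, hle⟩ := (Ideal.subset_union_prime ⊥ ⊥ fun p hp _ _ =>
          ((hS.insert ⊥).mem_toFinset.mp hp).elim (fun e => e ▸ Ideal.isPrime_bot) fun h => h.1.1).mp hsub
        rcases (hS.insert ⊥).mem_toFinset.mp hp with rfl | hp'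
        · exact hq0 (le_bot_iff.mp hle)
        · exact hnle p hp' hle
      have hx0 : x ≠ 0 := fun e => hxS ⊥ (Set.mem_insert _ _) (e ▸ zero_mem _)
      obtain ⟨p, hp, hpq⟩ := Ideal.exists_minimalPrimes_le (J := q) ((Ideal.span_singleton_le_iff_mem q).mpr hxq)
      haveI := hp.1.1
      have hxp : x ∈ p := hp.1.2 (Ideal.mem_span_singleton_self x)
      have hp0 : p ≠ ⊥ := fun e => hx0 (by rwa [e] at hxp)
      obtain ⟨p', hp', hp'p⟩ := Ideal.exists_minimalPrimes_le (J := p)
        ((Ideal.span_singleton_le_iff_mem p).mpr (hmem p hp.1.1 hp0))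
      haveI := hp'.1.1
      rcases eq_or_lt_of_le hp'p with e | hlt
      · exact hxS p' (Set.mem_insert_of_mem _ hp') (e ▸ hxp)
      · have h1 : p.height ≤ 1 := Ideal.height_le_one_of_isPrincipal_of_mem_minimalPrimes (Ideal.span {x}) p hp
        haveI : p'.FiniteHeight := Ideal.finiteHeight_of_le hp'p hp.1.1.ne_top
        have h2 := Ideal.height_strict_mono_of_isPrime hlt
        have h3 : p'.height ≠ 0 := fun e => hSbot p' hp' (Ideal.height_eq_zero_iff_eq_bot.mp e)
        exact absurd (h2.trans_le h1) (not_lt.mpr (Order.one_le_iff_ne_zero.mpr h3))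
    refine ⟨?_, ?_⟩
    · haveI := (hS.insert ⊥).to_subtype
      refine Finite.of_injective (β := (insert ⊥ S : Set (Ideal B))) (fun M : MaximalSpectrum B =>
        ⟨M.asIdeal, (em (M.asIdeal = ⊥)).elim (fun e => Or.inl e) fun e => Or.inr (hmain _ M.isMaximal.isPrime e)⟩) ?_
      intro M N h
      exact MaximalSpectrum.ext (congrArg Subtype.val h)
    · rw [← Nat.cast_one, ← Ring.krullDimLE_iff, Ring.krullDimLE_one_iff_of_noZeroDivisors]
      intro q hq0 hq
      obtain ⟨M, hM, hqM⟩ := Ideal.exists_le_maximal q hq.ne_top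
      have hM0 : M ≠ ⊥ := fun e => hq0 (le_bot_iff.mp (e ▸ hqM))
      have hMS := hmain M hM.isPrime hM0
      have hqS := hmain q hq hq0
      rwa [le_antisymm hqM (hMS.2 hqS.1 hqM)]
  tfae_have 3 → 2 := by
    rintro ⟨hfin, hdim⟩
    haveI : Ring.KrullDimLE 1 B := Ring.krullDimLE_iff.mpr (by simpa using hdim)
    have hinj : Function.Injective (fun q : PrimeSpectrum B =>
        if h : q.asIdeal = ⊥ then none else some (⟨q.asIdeal, Ring.krullDimLE_one_iff_of_noZeroDivisors.mp ‹_› _ h q.isPrime⟩ : MaximalSpectrum B)) := by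
      intro p q h
      by_cases hp : p.asIdeal = ⊥
      · by_cases hq : q.asIdeal = ⊥
        · exact PrimeSpectrum.ext (hp.trans hq.symm)
        · simp [hp, hq] at h
      · by_cases hq : q.asIdeal = ⊥
        · simp [hp, hq] at h
        · simp only [hp, hq, dite_false, Option.some.injEq] at h
          exact PrimeSpectrum.ext (congrArg MaximalSpectrum.asIdeal h)
    exact Finite.of_injective _ hinj
  tfae_have 2 → 1 := by
    intro hfin
    haveI := Fintype.ofFinite (PrimeSpectrum B)
    have hpick : ∀ q : PrimeSpectrum B, ∃ y : B, y ≠ 0 ∧ (q.asIdeal ≠ ⊥ → y ∈ q.asIdeal) := fun q => by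
      by_cases h : q.asIdeal = ⊥
      · exact ⟨1, one_ne_zero, fun h' => absurd h h'⟩
      · obtain ⟨y, hy, hy0⟩ := Submodule.exists_mem_ne_zero_of_ne_bot h
        exact ⟨y, hy0, fun _ => hy⟩
    choose y hy0 hy using hpick
    let f := ∏ q, y q
    have hf : f ≠ 0 := Finset.prod_ne_zero_iff.mpr fun q _ => hy0 q
    haveI : IsDomain (Localization.Away f) :=
      IsLocalization.isDomain_localization (powers_le_nonZeroDivisors_of_noZeroDivisors hf)
    refine ⟨f, hf, not_not.mp fun hne => ?_⟩
    obtain ⟨P, hP0, hP⟩ := Ring.not_isField_iff_exists_prime.mp hne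
    have h1 := (IsLocalization.isPrime_iff_isPrime_disjoint (Submonoid.powers f) (Localization.Away f) P).mp hP
    have hq0 : P.comap (algebraMap B (Localization.Away f)) ≠ ⊥ := fun e => hP0 (by
      rw [← IsLocalization.map_under (Submonoid.powers f) (Localization.Away f) P]
      show Ideal.map _ (Ideal.comap (algebraMap B _) P) = ⊥
      rw [e, Ideal.map_bot])
    refine Set.disjoint_left.mp h1.2 (Submonoid.mem_powers f) ?_
    have hyq := hy ⟨_, h1.1⟩ hq0
    exact Ideal.mem_of_dvd _ (Finset.dvd_prod_of_mem y (Finset.mem_univ _)) hyq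
  tfae_finish

end Groth.Agent.S4861
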