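import Mathlib
import Groth.Statements.S4862
-- import your own Groth.Agent.* helpers here

set_option autoImplicit false
universe u
open EGA43

namespace Groth.Agent.S4862

/-- For a commutative ring A the following are equivalent: a) A is a Jacobson ring; b) for every prime
ideal p of A which is not maximal and every nonzero f of B = A/p, the localization B_f is not a
field; b′) every finitely generated A-algebra which is a field is a finite A-module. -/
theorem result (A : Type u) [CommRing A] :
    [IsJacobsonRing A,
      ∀ (p : Ideal A) [p.IsPrime], ¬ p.IsMaximal → ∀ f : A ⧸ p, f ≠ 0 → ¬ IsField (Localization.Away f),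
      ∀ (K : Type u) [Field K] [Algebra A K], Algebra.FiniteType A K → Module.Finite A K].TFAE := by
  tfae_have 1 → 3 := fun h K _ _ hK => finite_of_finite_type_of_isJacobsonRing A K
  tfae_have 3 → 2 := by
    intro h p hp hmax f hf hfield
    let := hfield.toField
    haveI : Module.Finite A (Localization.Away f) := h _
      (inferInstance : Algebra.FiniteType A (Localization.Away f))
    haveI : Algebra.IsIntegral (A ⧸ p) (Localization.Away f) := Algebra.IsIntegral.tower_top A
    refine hmax (Ideal.Quotient.maximal_of_isField _ (isField_of_isIntegral_of_isField (S := Localization.Away f) ?_ hfield))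
    exact IsLocalization.injective _ (powers_le_nonZeroDivisors_of_noZeroDivisors hf)
  tfae_have 2 → 1 := by
    intro h
    rw [isJacobsonRing_iff_prime_eq]
    intro P hP
    refine le_antisymm (fun x hx => ?_) Ideal.le_jacobson
    by_contra hxP
    let L := Localization.Away x
    have hne : P.map (algebraMap A L) ≠ ⊤ :=
      (IsLocalization.map_algebraMap_ne_top_iff_disjoint (Submonoid.powers x) L P).2
        ((Ideal.disjoint_powers_iff_notMem x hP.isRadical).2 hxP)
    obtain ⟨m, hm, hPm⟩ := Ideal.exists_le_maximal _ hne
    let q := m.comap (algebraMap A L)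
    have hxq : x ∉ q := fun hx' => hm.ne_top
      (Ideal.eq_top_of_isUnit_mem _ hx' (IsLocalization.Away.algebraMap_isUnit x))
    have hPq : P ≤ q := Ideal.map_le_iff_le_comap.1 hPm
    haveI : q.IsPrime := Ideal.comap_isPrime _ _
    have hqmax : ¬ q.IsMaximal := fun hq => hxq (Ideal.mem_sInf.1 hx ⟨hPq, hq⟩)
    have hf : Ideal.Quotient.mk q x ≠ 0 := by rwa [Ne, Ideal.Quotient.eq_zero_iff_mem]
    refine h q hqmax _ hf ?_
    haveI : IsDomain (Localization.Away (Ideal.Quotient.mk q x)) :=
      IsLocalization.isDomain_localization (powers_le_nonZeroDivisors_of_noZeroDivisors hf)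
    refine ⟨⟨0, 1, zero_ne_one⟩, mul_comm, fun {z} hz => ?_⟩
    obtain ⟨⟨a', s⟩, e⟩ := IsLocalization.surj (Submonoid.powers (Ideal.Quotient.mk q x)) z
    obtain ⟨a, rfl⟩ := Ideal.Quotient.mk_surjective a'
    have hs := IsLocalization.map_units (Localization.Away (Ideal.Quotient.mk q x)) s
    have haq : a ∉ q := fun ha => hz (hs.mul_left_eq_zero.1 (by
      rw [e, Ideal.Quotient.eq_zero_iff_mem.2 ha, map_zero]))
    obtain ⟨y, i, hi, hyi⟩ := hm.exists_inv (x := algebraMap A L a) haq
    obtain ⟨⟨b, ⟨_, k, rfl⟩⟩, eb⟩ := IsLocalization.surj (Submonoid.powers x) y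
    have hmem : algebraMap A L (a * b - x ^ k) ∈ m := by
      have : algebraMap A L (a * b - x ^ k) = algebraMap A L (x ^ k) * -i := by
        have eb' : y * algebraMap A L (x ^ k) = algebraMap A L b := eb
        rw [map_sub, map_mul, ← eb']
        linear_combination (algebraMap A L (x ^ k)) * hyi
      rw [this]
      exact m.mul_mem_left _ (m.neg_mem hi)
    have hab : Ideal.Quotient.mk q a * Ideal.Quotient.mk q b = Ideal.Quotient.mk q x ^ k := by
      rw [← map_mul, ← map_pow, Ideal.Quotient.eq]
      exact hmem
    have hu : IsUnit (z * algebraMap _ (Localization.Away (Ideal.Quotient.mk q x)) (s : A ⧸ q)) := by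
      rw [e]
      refine isUnit_of_mul_isUnit_left (y := algebraMap _ _ (Ideal.Quotient.mk q b)) ?_
      rw [← map_mul, hab, map_pow]
      exact (IsLocalization.Away.algebraMap_isUnit _).pow k
    exact (isUnit_of_mul_isUnit_left hu).exists_right_inv
  tfae_finish

end Groth.Agent.S4862
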