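import Groth.Statements.S4869
import Groth.Agent.FlatDescent.Trunc.Descent
import Mathlib

set_option autoImplicit false
universe u
open TensorProduct
open EGA43

namespace Groth.Agent.S4869

open Groth.FlatDescent Groth.FlatDescent.Trunc

/-- The template's quotient as a base change. -/
theorem flat_quotient_iff {R C M : Type u} [CommRing R] [CommRing C] [Algebra R C] [AddCommGroup M] [Module R M]
    (L : Submodule R M) :
    Module.Flat C ((C ⊗[R] M) ⧸ LinearMap.range (L.subtype.baseChange C)) ↔ Module.Flat C (C ⊗[R] (M ⧸ L)) := by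
  let q : (C ⊗[R] M) →ₗ[C] C ⊗[R] (M ⧸ L) := L.mkQ.baseChange C
  have hq : Function.Surjective q := LinearMap.lTensor_surjective C (g := L.mkQ) L.mkQ_surjective
  have hk : LinearMap.range (L.subtype.baseChange C) = LinearMap.ker q := by
    ext x
    exact ((lTensor_exact C (f := L.subtype) (g := L.mkQ) (LinearMap.exact_subtype_mkQ L) L.mkQ_surjective) x).symm
  exact Module.Flat.equiv_iff ((Submodule.quotEquivOfEq _ _ hk).trans (q.quotKerEquivOfSurjective hq))

/-- Let A₀ be a commutative ring, (A_i) a directed system of A₀-algebras with colimit A, B₀ a finitely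
presented A₀-algebra, J₀ a finitely generated ideal of B₀ and M₀ a finitely presented B₀-module; put
M = A ⊗_{A₀} M₀ and J = J₀B, and likewise M_i, J_i over each A_i. Then the associated graded module
gr_J(M) = ⊕_k J^k M / J^{k+1} M is flat over A if and only if, for some index i, gr_{J_i}(M_i) is
flat over A_i. Flatness of the graded module is expressed through the equivalent condition that
every truncation M / J^k M (k ≥ 0) is flat (the pieces J^k M / J^{k+1} M are the kernels of the
surjections M / J^{k+1} M → M / J^k M), and J^k M is realised as the image of A ⊗_{A₀} J₀^k M₀ in A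
⊗_{A₀} M₀. (The published statement also asserts that the canonical maps from gr_{J_i}(M_i) ⊗_{A_i}
A to gr_J(M) are then bijective; this row states only the equivalence.) -/
theorem result {A₀ : Type u} [CommRing A₀]
    {ι : Type u} [Preorder ι] (G : ι → Type u) [∀ i, CommRing (G i)] [∀ i, Algebra A₀ (G i)]
    (g : ∀ i j, i ≤ j → G i →ₐ[A₀] G j)
    (A : Type u) [CommRing A] [Algebra A₀ A] [∀ i, Algebra (G i) A] [∀ i, IsScalarTower A₀ (G i) A]
    (hcolim : FlatCA.IsDirectedColimitRing G (fun i j h => (g i j h).toRingHom) A)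
    {B₀ : Type u} [CommRing B₀] [Algebra A₀ B₀] [Algebra.FinitePresentation A₀ B₀]
    (J₀ : Ideal B₀) (hJ₀ : J₀.FG)
    (M₀ : Type u) [AddCommGroup M₀] [Module B₀ M₀] [Module A₀ M₀] [IsScalarTower A₀ B₀ M₀]
    [Module.FinitePresentation B₀ M₀] :
    (∀ k : ℕ, Module.Flat A ((A ⊗[A₀] M₀) ⧸
        LinearMap.range (((J₀ ^ k • (⊤ : Submodule B₀ M₀)).restrictScalars A₀).subtype.baseChange A))) ↔
      ∃ i : ι, ∀ k : ℕ, Module.Flat (G i) ((G i ⊗[A₀] M₀) ⧸
        LinearMap.range (((J₀ ^ k • (⊤ : Submodule B₀ M₀)).restrictScalars A₀).subtype.baseChange (G i))) := by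
  obtain ⟨⟨n, m, π, -, N, f, -, -, -, A₁, hA₁, J₁, N₁, -, -, e⟩⟩ := exists_model (A₀ := A₀) J₀ hJ₀ M₀
  haveI : Algebra.FiniteType ℤ A₁ := ⟨A₁.fg_top.mpr hA₁⟩
  haveI : IsNoetherianRing A₁ := Algebra.FiniteType.isNoetherianRing ℤ A₁
  obtain ⟨K, hK⟩ := exists_bound_good J₁ N₁
  haveI : ∀ i, IsScalarTower A₁ (G i) A := fun i =>
    IsScalarTower.of_algebraMap_eq fun a => IsScalarTower.algebraMap_apply A₀ (G i) A (algebraMap A₁ A₀ a)
  have key : ∀ (C : Type u) [CommRing C] [Algebra A₀ C] (k : ℕ),
      Module.Flat C ((C ⊗[A₀] M₀) ⧸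
        LinearMap.range (((J₀ ^ k • (⊤ : Submodule B₀ M₀)).restrictScalars A₀).subtype.baseChange C)) ↔
        Good J₁ N₁ C k := by
    intro C _ _ k
    obtain ⟨ek⟩ := e k
    exact (flat_quotient_iff _).trans (Module.Flat.equiv_iff
      ((AlgebraTensorModule.congr (LinearEquiv.refl C C) ek.symm) ≪≫ₗ
        AlgebraTensorModule.cancelBaseChange A₁ A₀ C C _))
  constructor
  · intro h
    obtain ⟨i, hi⟩ := exists_stage_good (J := J₁) (IsNoetherian.noetherian J₁) (IsNoetherian.noetherian N₁)
      (fun i j hij => (g i j hij).restrictScalars A₁) hcolim K fun k _ => (key A k).mp (h k)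
    exact ⟨i, fun k => (key (G i) k).mpr ((hK (G i) hi).1 k)⟩
  · rintro ⟨i, hi⟩ k
    exact (key A k).mpr ((key (G i) k).mp (hi k)).baseChange

end Groth.Agent.S4869
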