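import Groth.Statements.S4873
import Mathlib
-- import your own Groth.Agent.* helpers here

set_option autoImplicit false
universe u
open CategoryTheory AlgebraicGeometry
open EGA43

namespace Groth.Agent.S4873

/-- Let (f_i : Z_i ⟶ X) be a family of morphisms. If the family is schematically dominant, i.e. a
section of O_X over an open V whose pullback to every f_i⁻¹(V) vanishes is zero, then the union of
the images f_i(Z_i) is dense in X. Conversely, if X is reduced and this union is dense, the family
is schematically dominant. -/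
theorem result {X : Scheme.{u}} {ι : Type u} (Z : ι → Scheme.{u})
    (f : ∀ i, Z i ⟶ X) :
    ((∀ (V : (X).Opens) (t : Γ(X, V)), (∀ i, (f i).app V t = 0) → t = 0) → Dense (⋃ i, Set.range (f i))) ∧
    (IsReduced X → Dense (⋃ i, Set.range (f i)) → (∀ (V : (X).Opens) (t : Γ(X, V)), (∀ i, (f i).app V t = 0) → t = 0)) := by
  constructor
  · intro h
    rw [dense_iff_inter_open]
    intro W hW hne
    by_contra hem
    rw [Set.not_nonempty_iff_eq_empty] at hem
    let V : X.Opens := ⟨W, hW⟩
    haveI : Nonempty V := hne.to_subtype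
    refine one_ne_zero (α := Γ(X, V)) (h V 1 fun i => ?_)
    have he : f i ⁻¹ᵁ V = ⊥ := by
      ext x
      refine ⟨fun hx => ?_, fun hx => absurd hx (by simp)⟩
      have : f i x ∈ W ∩ ⋃ j, Set.range (f j) := ⟨hx, Set.mem_iUnion.mpr ⟨i, x, rfl⟩⟩
      rw [hem] at this
      exact absurd this (Set.notMem_empty _)
    haveI : Subsingleton Γ(Z i, f i ⁻¹ᵁ V) := by rw [he]; infer_instance
    exact Subsingleton.elim _ _
  · intro hX hd V t ht
    apply (basicOpen_eq_bot_iff t).mp
    by_contra hne
    obtain ⟨y, hy, hy'⟩ := dense_iff_inter_open.mp hd _ (X.basicOpen t).2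
      (Set.nonempty_iff_ne_empty.mpr fun e => hne (TopologicalSpace.Opens.ext (by simpa using e)))
    obtain ⟨i, x, rfl⟩ := Set.mem_iUnion.mp hy'
    have hx : x ∈ f i ⁻¹ᵁ X.basicOpen t := hy
    rw [Scheme.preimage_basicOpen, ht i, Scheme.basicOpen_zero] at hx
    exact hx

end Groth.Agent.S4873
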