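import Groth.Statements.S4874
import Groth.Agent.TrivSec.Local
-- import your own Groth.Agent.* helpers here

set_option autoImplicit false
universe u
open CategoryTheory AlgebraicGeometry
open EGA43

namespace Groth.Agent.S4874

/-- Let (f_i : Z_i ⟶ X) be a family of morphisms, g : X' ⟶ X a faithfully flat morphism and f'_i : Z_i
×_X X' ⟶ X' the base changes. If the family (f'_i) is schematically dominant, then so is the family
(f_i). (Schematically dominant: a section of the structure sheaf over an open whose pullback along
every member of the family vanishes is zero.) -/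
theorem result {X X' : Scheme.{u}} {ι : Type u} (Z : ι → Scheme.{u})
    (f : ∀ i, Z i ⟶ X) (g : X' ⟶ X) [Flat g] [Surjective g]
    (h : (∀ (V : (X').Opens) (t : Γ(X', V)), (∀ i, (Limits.pullback.snd (f i) g).app V t = 0) → t = 0)) :
    (∀ (V : (X).Opens) (t : Γ(X, V)), (∀ i, (f i).app V t = 0) → t = 0) := by
  intro V t ht
  have h0 : g.app V t = 0 := h (g ⁻¹ᵁ V) (g.app V t) fun i => by
    have key : (Limits.pullback.snd (f i) g ≫ g).app V t = 0 := by
      rw [Scheme.Hom.congr_app Limits.pullback.condition.symm V]
      have e : (Limits.pullback.fst (f i) g ≫ f i).app V t = 0 := by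
        rw [Scheme.Hom.comp_app]
        show (Limits.pullback.fst (f i) g).app _ ((f i).app V t) = 0
        rw [ht i, map_zero]
      show (Limits.pullback (f i) g).presheaf.map _ ((Limits.pullback.fst (f i) g ≫ f i).app V t) = 0
      rw [e]
      exact map_zero _
    rw [Scheme.Hom.comp_app] at key
    exact key
  refine TopCat.Presheaf.section_ext X.sheaf V t 0 fun x hx => ?_
  obtain ⟨x', rfl⟩ := g.surjective x
  apply Groth.Agent.TrivSec.stalkMap_injective_of_flat g x'
  rw [map_zero]
  erw [map_zero]
  exact (Scheme.Hom.germ_stalkMap_apply g V x' hx t).trans (by rw [h0]; exact map_zero _)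

end Groth.Agent.S4874
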