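import Groth.Statements.S4876
import Groth.Agent.FlatDescent.Dom.Chart

set_option autoImplicit false
universe u
open CategoryTheory AlgebraicGeometry
open EGA43

namespace Groth.Agent.S4876

open CategoryTheory.Limits Groth.FlatDescent.Dom

/-- The point of an affine chart as a chart of the spectrum of a residue field. -/
theorem exists_residueChart {S : Scheme.{u}} {A : Type u} [CommRing A] (j : Spec (CommRingCat.of A) ⟶ S)
    [IsOpenImmersion j] (q : PrimeSpectrum A) :
    ∃ a : Spec (CommRingCat.of q.asIdeal.ResidueField) ⟶ Spec (S.residueField (j q)), IsIso a ∧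
      a ≫ S.fromSpecResidueField (j q) =
        Spec.map (CommRingCat.ofHom (algebraMap A q.asIdeal.ResidueField)) ≫ j := by
  refine ⟨Spec.map (Scheme.Spec.residueFieldIso (CommRingCat.of A) q).hom ≫ Spec.map (j.residueFieldMap q),
    inferInstance, ?_⟩
  have h1 : Spec.map (j.residueFieldMap q) ≫ S.fromSpecResidueField (j q) =
      (Spec (CommRingCat.of A)).fromSpecResidueField q ≫ j := Scheme.Hom.SpecMap_residueFieldMap_fromSpecResidueField j q
  rw [Category.assoc, h1, ← Scheme.Spec.map_residueFieldIso_inv_eq_fromSpecResidueField (CommRingCat.of A) q]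
  simp only [← Category.assoc, ← Spec.map_comp, Iso.inv_hom_id, Spec.map_id, Category.id_comp]
  simp

theorem flat_piece {S X : Scheme.{u}} (p : X ⟶ S) {ι : Type u} (Z : ι → Scheme.{u}) (f : ∀ i, Z i ⟶ X)
    [∀ i, Flat (f i ≫ p)] {A B : Type u} [CommRing A] [CommRing B] [Algebra A B]
    (j : Spec (CommRingCat.of A) ⟶ S) [IsOpenImmersion j] {k : Spec (CommRingCat.of B) ⟶ X} [IsOpenImmersion k]
    (hk : k ≫ p = Spec.map (CommRingCat.ofHom (algebraMap A B)) ≫ j) (w : AffPiece f k) :
    Module.Flat A Γ(Z w.idx, w.W) := by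
  have h1 : Flat (Spec.map (CommRingCat.ofHom (algebraMap A Γ(Z w.idx, w.W))) ≫ j) :=
    piece_fac p f j hk w ▸ (inferInstance : Flat (w.affine.fromSpec ≫ f w.idx ≫ p))
  have h2 : Flat (Spec.map (CommRingCat.ofHom (algebraMap A Γ(Z w.idx, w.W)))) :=
    MorphismProperty.of_postcomp (W' := @IsOpenImmersion) (W := @Flat) _ j inferInstance h1
  exact (HasRingHomProperty.Spec_iff (P := @Flat)).mp h2

/-- Let p : X ⟶ S be a morphism with X locally Noetherian and (f_i : Z_i ⟶ X) a family of morphisms with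
every Z_i flat over S. Then the family (f_i) is universally schematically dominant relative to S,
i.e. for every base change S' ⟶ S the family Z_i ×_S S' ⟶ X ×_S S' is schematically dominant, if and
only if for every point s of S the family of fibres (Z_i)_s ⟶ X_s is schematically dominant.
(Schematically dominant: a section of the structure sheaf over an open whose pullback along every
member vanishes is zero.) -/
theorem result {X S : Scheme.{u}} [IsLocallyNoetherian X]
    (p : X ⟶ S) {ι : Type u} (Z : ι → Scheme.{u}) (f : ∀ i, Z i ⟶ X) [∀ i, Flat (f i ≫ p)] :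
    (∀ (S' : Scheme.{u}) (g : S' ⟶ S),
      (∀ (V : (Limits.pullback p g).Opens) (t : Γ(Limits.pullback p g, V)), (∀ i, (Limits.pullback.map (f i ≫ p) g p g (f i) (𝟙 S') (𝟙 S) (Category.comp_id _) ((Category.comp_id _).trans (Category.id_comp _).symm)).app V t = 0) → t = 0)) ↔
    ∀ s : S, (∀ (V : (p.fiber s).Opens) (t : Γ(p.fiber s, V)), (∀ i, (MoreMor.fiberMap (f i) p s).app V t = 0) → t = 0) := by
  have hfm : ∀ (s : S) (i : ι), bcFam p f (S.fromSpecResidueField s) i = MoreMor.fiberMap (f i) p s := fun s i => by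
    refine pullback.hom_ext ?_ ?_
    · exact (pullback.lift_fst _ _ _).trans (pullback.lift_fst _ _ _).symm
    · refine (pullback.lift_snd _ _ _).trans ?_
      exact (Category.comp_id _).trans (pullback.lift_snd _ _ _).symm
  constructor
  · intro h s V t ht
    exact h _ (S.fromSpecResidueField s) V t fun i => by
      show (bcFam p f (S.fromSpecResidueField s) i).app V t = 0
      rw [hfm]
      exact ht i
  intro h S' g
  refine schDom_of_local (bcFam p f g) fun z => ?_
  obtain ⟨_, ⟨S₀, hS₀, rfl⟩, hxS₀, -⟩ :=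
    S.isBasis_affineOpens.exists_subset_of_mem_open (Set.mem_univ (p (pullback.fst p g z))) isOpen_univ
  obtain ⟨_, ⟨U, hU, rfl⟩, hxU, hUle⟩ := X.isBasis_affineOpens.exists_subset_of_mem_open
    (show pullback.fst p g z ∈ (p ⁻¹ᵁ S₀ : X.Opens) from hxS₀) (p ⁻¹ᵁ S₀).isOpen
  have hzT' : g (pullback.snd p g z) ∈ S₀ := by
    rw [← Scheme.Hom.comp_apply, ← pullback.condition, Scheme.Hom.comp_apply]
    exact hxS₀
  obtain ⟨_, ⟨T, hT, rfl⟩, hzT, hTle⟩ := S'.isBasis_affineOpens.exists_subset_of_mem_open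
    (show pullback.snd p g z ∈ (g ⁻¹ᵁ S₀ : S'.Opens) from hzT') (g ⁻¹ᵁ S₀).isOpen
  letI : Algebra Γ(S, S₀) Γ(X, U) := (p.appLE S₀ U hUle).hom.toAlgebra
  letI : Algebra Γ(S, S₀) Γ(S', T) := (g.appLE S₀ T hTle).hom.toAlgebra
  haveI : IsNoetherianRing Γ(X, U) := IsLocallyNoetherian.component_noetherian ⟨U, hU⟩
  have hk : hU.fromSpec ≫ p = Spec.map (CommRingCat.ofHom (algebraMap Γ(S, S₀) Γ(X, U))) ≫ hS₀.fromSpec :=
    (IsAffineOpen.SpecMap_appLE_fromSpec p hS₀ hU hUle).symm
  have ha : hT.fromSpec ≫ g = Spec.map (CommRingCat.ofHom (algebraMap Γ(S, S₀) Γ(S', T))) ≫ hS₀.fromSpec :=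
    (IsAffineOpen.SpecMap_appLE_fromSpec g hS₀ hT hTle).symm
  haveI : ∀ w : AffPiece f hU.fromSpec, Module.Flat Γ(S, S₀) Γ(Z w.idx, w.W) := flat_piece p Z f hS₀.fromSpec hk
  refine schDom_local_of_domAt p f hS₀.fromSpec hk ha (domAt_of_fibres _ (fun q hq => ?_) Γ(S', T)) z
    (hU.range_fromSpec.symm.le hxU) (hT.range_fromSpec.symm.le hzT)
  let q' : PrimeSpectrum Γ(S, S₀) := ⟨q, hq⟩
  obtain ⟨a, _, hq'⟩ := exists_residueChart hS₀.fromSpec q'
  refine ⟨q'.asIdeal.ResidueField, inferInstance, inferInstance, Ideal.ker_algebraMap_residueField q,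
    domAt_of_schDom p f hS₀.fromSpec hk hq' fun V t ht => h _ V t fun i => ?_⟩
  rw [← hfm]
  exact ht i

end Groth.Agent.S4876
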