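import Mathlib
import Groth.Statements.S4878
-- import your own Groth.Agent.* helpers here

set_option autoImplicit false
universe u
open TensorProduct
open EGA43

namespace Groth.Agent.S4878

/-- Let A be a commutative ring, (u_i : M → M_i) a family of A-linear maps whose kernels have zero
intersection, and N a projective A-module. Then the kernels of the maps u_i ⊗ 1 : M ⊗_A N → M_i ⊗_A
N have zero intersection. -/
theorem result {A : Type u} [CommRing A]
    {M : Type u} [AddCommGroup M] [Module A M] {ι : Type u} (M' : ι → Type u)
    [∀ i, AddCommGroup (M' i)] [∀ i, Module A (M' i)] (u : ∀ i, M →ₗ[A] M' i)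
    (hu : ⨅ i, LinearMap.ker (u i) = ⊥)
    (N : Type u) [AddCommGroup N] [Module A N] [Module.Projective A N] :
    ⨅ i, LinearMap.ker ((u i).rTensor N) = ⊥ := by
  classical
  obtain ⟨s, hs⟩ := Module.projective_def'.mp ‹Module.Projective A N›
  rw [eq_bot_iff]
  intro x hx
  simp only [Submodule.mem_iInf, LinearMap.mem_ker] at hx
  have h0 : TensorProduct.finsuppScalarRight A A M N (s.lTensor M x) = 0 := by
    ext j
    have : (TensorProduct.finsuppScalarRight A A M N (s.lTensor M x)) j ∈ ⨅ i, LinearMap.ker (u i) := by
      simp only [Submodule.mem_iInf, LinearMap.mem_ker]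
      intro i
      have key : ∀ y : M ⊗[A] N, u i ((TensorProduct.finsuppScalarRight A A M N (s.lTensor M y)) j) =
          (TensorProduct.finsuppScalarRight A A (M' i) N (s.lTensor (M' i) ((u i).rTensor N y))) j := fun y => by
        induction y using TensorProduct.induction_on with
        | zero => simp
        | tmul a b => simp [TensorProduct.finsuppScalarRight_apply_tmul_apply]
        | add a b ha hb => simp only [map_add, Finsupp.add_apply, ha, hb]
      rw [key, hx i]; simp
    rw [hu] at this
    simpa using this
  have := congrArg (LinearMap.lTensor M (Finsupp.linearCombination A id)) ((LinearEquiv.map_eq_zero_iff _).mp h0)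
  rw [← LinearMap.comp_apply, ← LinearMap.lTensor_comp, hs, LinearMap.lTensor_id, map_zero] at this
  simpa using this

end Groth.Agent.S4878
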