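import Mathlib
import Groth.Agent.GoldmanLib.Basic
import Groth.Statements.S4880
-- import your own Groth.Agent.* helpers here

set_option autoImplicit false
universe u
open CategoryTheory AlgebraicGeometry
open EGA43

namespace Groth.Agent.S4880

/-- For a Noetherian irreducible scheme X the following are equivalent: a) the generic point of X is an
isolated point; b) the underlying set of X is finite; c) X has dimension at most 1 and finitely many
closed points. -/
theorem result (X : Scheme.{u}) [IsNoetherian X]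
    [IrreducibleSpace X] :
    [IsOpen ({genericPoint X} : Set X),
      Finite X,
      topologicalKrullDim X ≤ 1 ∧ {x : X | IsClosed ({x} : Set X)}.Finite].TFAE := by
  classical
  have hdim : topologicalKrullDim ↥X = Order.krullDim ↥X := Order.krullDim_eq_of_orderIso irreducibleSetEquivPoints
  have hclosedfin : ∀ x : X, IsClosed ({x} : Set X) → ∀ y, x ⤳ y → y = x := fun x hx y h => h.mem_closed hx rfl
  tfae_have 1 → 2 := by
    intro hη
    obtain ⟨s, hs⟩ := isCompact_univ.elim_finite_subcover (fun U : X.affineOpens => ((U : X.Opens) : Set X))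
      (fun U => (U : X.Opens).isOpen) (fun x _ => by
        obtain ⟨_, ⟨U, hU, rfl⟩, hx, -⟩ := X.isBasis_affineOpens.exists_subset_of_mem_open (Set.mem_univ x) isOpen_univ
        exact Set.mem_iUnion.2 ⟨⟨U, hU⟩, hx⟩)
    refine Set.finite_univ_iff.1 ((Set.Finite.biUnion s.finite_toSet fun U _ => ?_).subset hs)
    obtain ⟨V, hV⟩ := U
    haveI := IsLocallyNoetherian.component_noetherian (X := X) ⟨V, hV⟩
    show (V : Set X).Finite
    rw [← hV.range_fromSpec]
    rcases isEmpty_or_nonempty (Spec Γ(X, V)) with he | ⟨⟨q₀⟩⟩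
    · rw [Set.range_eq_empty]
      exact Set.finite_empty
    obtain ⟨p, hp⟩ : genericPoint X ∈ Set.range hV.fromSpec := by
      rw [hV.range_fromSpec]
      refine (genericPoint_spec X).mem_open_set_iff V.isOpen |>.2 ⟨hV.fromSpec q₀, trivial, ?_⟩
      show hV.fromSpec q₀ ∈ (V : Set X)
      rw [← hV.range_fromSpec]; exact ⟨q₀, rfl⟩
    obtain ⟨_, ⟨f, rfl⟩, hpf, hfη⟩ := PrimeSpectrum.isTopologicalBasis_basic_opens.exists_subset_of_mem_open
      (show p ∈ hV.fromSpec ⁻¹' {genericPoint X} from hp) (hη.preimage hV.fromSpec.continuous)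
    have hle : ∀ q : PrimeSpectrum Γ(X, V), p.asIdeal ≤ q.asIdeal := fun q => (PrimeSpectrum.le_iff_specializes p q).2
      (hV.fromSpec.isOpenEmbedding.isInducing.specializes_iff.1 (hp ▸ genericPoint_specializes _))
    have hsub : (Set.univ : Set (PrimeSpectrum Γ(X, V))) ⊆ insert p (PrimeSpectrum.asIdeal ⁻¹' (p.asIdeal ⊔ Ideal.span {f}).minimalPrimes) := by
      intro q _
      by_cases hq : q = p
      · exact Or.inl hq
      refine Or.inr ⟨⟨q.2, sup_le (hle q) ((Ideal.span_singleton_le_iff_mem _).2 ?_)⟩, fun r hr hrq => ?_⟩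
      · by_contra h
        exact hq (hV.fromSpec.isOpenEmbedding.injective ((hfη h).trans hp.symm))
      · have hlt : p.asIdeal < r := lt_of_le_of_ne (le_sup_left.trans hr.2) fun e => hpf (e ▸ hr.2 (Ideal.mem_sup_right (Ideal.mem_span_singleton_self f)))
        refine (GoldmanLib.eq_of_le_of_lt p.asIdeal f hpf (fun r hr hle' hfr => ?_) hr.1 q.2 hlt hrq).ge
        exact congrArg PrimeSpectrum.asIdeal (hV.fromSpec.isOpenEmbedding.injective ((hfη (show (⟨r, hr⟩ : PrimeSpectrum Γ(X, V)) ∈ PrimeSpectrum.basicOpen f from hfr)).trans hp.symm) : (⟨r, hr⟩ : PrimeSpectrum Γ(X, V)) = p)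
    haveI : Finite (PrimeSpectrum Γ(X, V)) := Set.finite_univ_iff.1 (((((Ideal.finite_minimalPrimes_of_isNoetherianRing _ _).preimage (fun a _ b _ h => PrimeSpectrum.ext h))).insert p).subset hsub)
    haveI : Finite ↥(Spec Γ(X, V)) := ‹Finite (PrimeSpectrum Γ(X, V))›
    exact Set.finite_range _
  tfae_have 2 → 3 := by
    intro hfin
    refine ⟨?_, Set.toFinite _⟩
    rw [hdim]
    refine iSup_le fun l => ?_
    by_contra hl
    have h2 : 2 ≤ l.length := by
      by_contra h
      exact hl (by exact_mod_cast (show l.length ≤ 1 by omega))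
    set c := l ⟨2, by omega⟩
    set b := l ⟨1, by omega⟩
    set a := l ⟨0, by omega⟩
    have hab : a < b := l.strictMono (Fin.mk_lt_mk.2 zero_lt_one)
    have hbc : b < c := l.strictMono (Fin.mk_lt_mk.2 one_lt_two)
    obtain ⟨_, ⟨V, hV, rfl⟩, haV, -⟩ := X.isBasis_affineOpens.exists_subset_of_mem_open (Set.mem_univ a) isOpen_univ
    haveI := IsLocallyNoetherian.component_noetherian (X := X) ⟨V, hV⟩
    have hspec1 : b ⤳ a := hab.le
    have hspec2 : c ⤳ b := hbc.le
    obtain ⟨pa, hpa⟩ : a ∈ Set.range hV.fromSpec := by rw [hV.range_fromSpec]; exact haV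
    obtain ⟨pb, hpb⟩ : b ∈ Set.range hV.fromSpec := by rw [hV.range_fromSpec]; exact hspec1.mem_open V.isOpen haV
    obtain ⟨pc, hpc⟩ : c ∈ Set.range hV.fromSpec := by rw [hV.range_fromSpec]; exact (hspec2.trans hspec1).mem_open V.isOpen haV
    haveI : Finite (PrimeSpectrum Γ(X, V)) := Finite.of_injective _ hV.fromSpec.isOpenEmbedding.injective
    have hind := hV.fromSpec.isOpenEmbedding.isInducing
    have hba : pb.asIdeal ≤ pa.asIdeal := (PrimeSpectrum.le_iff_specializes pb pa).2 (hind.specializes_iff.1 (hpa ▸ hpb ▸ hspec1))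
    have hcb : pc.asIdeal < pb.asIdeal := lt_of_le_of_ne ((PrimeSpectrum.le_iff_specializes pc pb).2 (hind.specializes_iff.1 (hpb ▸ hpc ▸ hspec2)))
      fun e => hbc.ne (by rw [← hpb, ← hpc, PrimeSpectrum.ext e])
    haveI := Fintype.ofFinite (PrimeSpectrum Γ(X, V))
    have hg : ∀ q : PrimeSpectrum Γ(X, V), ∃ g, g ∉ pc.asIdeal ∧ (pc.asIdeal < q.asIdeal → g ∈ q.asIdeal) := by
      intro q
      by_cases h : pc.asIdeal < q.asIdeal
      · obtain ⟨g, hg1, hg2⟩ := SetLike.exists_of_lt h
        exact ⟨g, hg2, fun _ => hg1⟩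
      · exact ⟨1, fun h1 => pc.2.ne_top ((Ideal.eq_top_iff_one _).2 h1), fun h' => absurd h' h⟩
    choose g hg1 hg2 using hg
    have e := GoldmanLib.eq_of_le_of_lt pc.asIdeal (∏ q, g q)
      (fun h => by
        obtain ⟨q, -, hq⟩ := (Ideal.IsPrime.prod_mem_iff (hp := pc.2)).1 h
        exact hg1 q hq)
      (fun r hr hle hfr => by
        by_contra hne
        exact hfr (Ideal.mem_of_dvd _ (Finset.dvd_prod_of_mem g (Finset.mem_univ ⟨r, hr⟩)) (hg2 ⟨r, hr⟩ (lt_of_le_of_ne hle (Ne.symm hne)))))
      pb.2 pa.2 hcb hba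
    exact hab.ne (by rw [← hpa, ← hpb, PrimeSpectrum.ext e])
  tfae_have 3 → 1 := by
    rintro ⟨hd, hfin⟩
    have hrest : ({genericPoint X} : Set X)ᶜ ⊆ {x : X | IsClosed ({x} : Set X)} := by
      intro x hx
      show IsClosed ({x} : Set X)
      refine closure_eq_iff_isClosed.1 (Set.Subset.antisymm (fun y hy => ?_) subset_closure)
      by_contra hne
      have hxy : x ⤳ y := specializes_iff_mem_closure.2 hy
      have h1 : y < x := lt_of_le_not_ge hxy fun h => hne (Specializes.antisymm h hxy).eq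
      have h2 : x < genericPoint X := lt_of_le_not_ge (genericPoint_specializes x) fun h => hx (Specializes.antisymm h (genericPoint_specializes x)).eq
      let l : LTSeries ↥X := ((RelSeries.singleton _ (genericPoint X)).cons x h2).cons y (by simpa using h1)
      have := hdim ▸ (Order.LTSeries.length_le_krullDim l)
      have h3 : ((l.length : ℕ) : WithBot ℕ∞) ≤ 1 := this.trans hd
      have : l.length = 2 := rfl
      rw [this] at h3
      exact absurd (by exact_mod_cast h3 : (2 : ℕ) ≤ 1) (by norm_num)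
    have hcl : IsClosed (({genericPoint X} : Set X)ᶜ) := by
      rw [← Set.biUnion_of_singleton (({genericPoint X} : Set X)ᶜ)]
      exact (hfin.subset hrest).isClosed_biUnion fun x hx => hrest hx
    exact isClosed_compl_iff.1 hcl
  tfae_finish

end Groth.Agent.S4880
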