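import Groth.Statements.S4881
import Groth.Agent.FibDim.MaxPoints
-- import your own Groth.Agent.* helpers here

set_option autoImplicit false
universe u
open CategoryTheory AlgebraicGeometry
open EGA43

namespace Groth.Agent.S4881

/-- Let X be a locally Noetherian scheme which is Jacobson, whose local rings are universally catenary,
and whose irreducible components X' are equidimensional in the sense that for every closed point x
of X' the dimension of X' equals the dimension of the set of generizations of x in X'. Then for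
every dense open subset U of X, dim U = dim X. -/
theorem result (X : Scheme.{u}) [IsLocallyNoetherian X] [JacobsonSpace X]
    (h2 : ∀ x : X, CAlg.IsUniversallyCatenary (X.presheaf.stalk x))
    (h3 : ∀ X' ∈ irreducibleComponents (X : Type u), ∀ x ∈ X', IsClosed ({x} : Set X) →
      topologicalKrullDim (↥X' : Type u) = topologicalKrullDim ↥{t : X | t ∈ X' ∧ t ⤳ x})
    (U : Set X) (hU : IsOpen U) (hd : Dense U) :
    topologicalKrullDim ↥U = topologicalKrullDim X := by
  refine le_antisymm Topology.IsInducing.subtypeVal.topologicalKrullDim_le (FibDim.topologicalKrullDim_le_of_max fun η hη => ?_)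
  obtain ⟨V, hV, hηV, -⟩ := exists_isAffineOpen_mem_and_subset (X := X) (x := η) (U := ⊤) trivial
  haveI : IsNoetherianRing Γ(X, V) := IsLocallyNoetherian.component_noetherian ⟨V, hV⟩
  haveI : TopologicalSpace.NoetherianSpace ↥V.toScheme := noetherianSpace_of_isAffineOpen _ hV
  let η' : ↥V.toScheme := ⟨η, hηV⟩
  have hη' : FibDim.IsMax' η' := fun z hz => V.ι.isOpenEmbedding.injective (hη _ (hz.map V.ι.continuous))
  obtain ⟨o, ho, ⟨w₀, hw₀⟩, hoC⟩ :=
    TopologicalSpace.NoetherianSpace.exists_isOpen_nonempty_subset_irreducibleComponent _ (FibDim.closure_mem_components hη')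
  obtain ⟨_, hwU, w, hw, rfl⟩ := hd.inter_open_nonempty _ (V.ι.isOpenEmbedding.isOpenMap o ho) ⟨_, w₀, hw₀, rfl⟩ |>.mono
    (show (V.ι '' o) ∩ U ⊆ U ∩ (V.ι '' o) from fun a ha => ⟨ha.2, ha.1⟩)
  have hηU : η ∈ U :=
    ((specializes_iff_mem_closure.2 (hoC hw) : η' ⤳ w).map V.ι.continuous).mem_open hU hwU
  obtain ⟨x, hx, hxc⟩ := nonempty_inter_closedPoints (X := X) (Z := closure {η} ∩ U) ⟨η, subset_closure rfl, hηU⟩
    (isClosed_closure.isLocallyClosed.inter hU.isLocallyClosed)
  rw [h3 _ (FibDim.closure_mem_components hη) x hx.1 (mem_closedPoints_iff.1 hxc)]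
  exact FibreDim.dim_mono fun t ht => ht.2.mem_open hU hx.2

end Groth.Agent.S4881
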