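import Groth.Statements.S4882
import Mathlib
-- import your own Groth.Agent.* helpers here

set_option autoImplicit false
universe u
open EGA43

namespace Groth.Agent.S4882

/-- Let X be a Jacobson space and Z a locally quasi-constructible subset of X, i.e. every point of X has
an open neighbourhood U such that U ∩ Z is a finite union of locally closed subsets of X. Then the
subspace Z is a Jacobson space, and a point of Z is closed in Z if and only if it is closed in X. -/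
theorem result {X : Type u} [TopologicalSpace X] [JacobsonSpace X]
    (Z : Set X)
    (hZ : ∀ x : X, ∃ U : Set X, IsOpen U ∧ x ∈ U ∧
      ∃ T : Set (Set X), T.Finite ∧ (∀ t ∈ T, IsLocallyClosed t) ∧ U ∩ Z = ⋃₀ T) :
    JacobsonSpace ↥Z ∧ ∀ z : ↥Z, IsClosed ({z} : Set ↥Z) ↔ IsClosed ({(z : X)} : Set X) := by
  have key : ∀ (L : Set X), IsLocallyClosed L → ∀ z ∈ Z ∩ L, ∃ t, IsLocallyClosed t ∧ t ⊆ Z ∩ L ∧ z ∈ t := by
    intro L hL z hz
    obtain ⟨U, hU, hzU, T, -, hT, hTU⟩ := hZ z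
    obtain ⟨t, ht, hzt⟩ := (hTU ▸ (⟨hzU, hz.1⟩ : z ∈ U ∩ Z) : z ∈ ⋃₀ T)
    refine ⟨t ∩ L, (hT t ht).inter hL, fun w hw => ⟨?_, hw.2⟩, hzt, hz.2⟩
    exact ((hTU ▸ Set.mem_sUnion_of_mem hw.1 ht : w ∈ U ∩ Z)).2
  have hcl : ∀ z : ↥Z, IsClosed ({z} : Set ↥Z) ↔ IsClosed ({(z : X)} : Set X) := by
    intro z
    refine ⟨fun h => ?_, fun h => ?_⟩
    · obtain ⟨K, hK, hKz⟩ := isClosed_induced_iff.mp h
      have hzK : (z : X) ∈ K := (hKz ▸ (Set.mem_singleton z) : z ∈ Subtype.val ⁻¹' K)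
      obtain ⟨t, ht, htZ, hzt⟩ := key K hK.isLocallyClosed z ⟨z.2, hzK⟩
      have : t = {(z : X)} := Set.Subset.antisymm (fun w hw => by
        have : (⟨w, (htZ hw).1⟩ : ↥Z) ∈ ({z} : Set ↥Z) := hKz ▸ (htZ hw).2
        exact congrArg Subtype.val this) (Set.singleton_subset_iff.mpr hzt)
      exact isClosed_singleton_of_isLocallyClosed_singleton (this ▸ ht)
    · have := h.preimage (continuous_subtype_val (p := fun x => x ∈ Z))
      convert this using 1
      ext w; simp [Subtype.ext_iff]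
  refine ⟨jacobsonSpace_iff_locallyClosed.mpr fun C hC hC' => ?_, hcl⟩
  obtain ⟨z, hz⟩ := hC
  obtain ⟨A, B, hA, hB, rfl⟩ := hC'
  obtain ⟨A', hA', rfl⟩ := isOpen_induced_iff.mp hA
  obtain ⟨B', hB', rfl⟩ := isClosed_induced_iff.mp hB
  obtain ⟨t, ht, htZ, hzt⟩ := key (A' ∩ B') (hA'.isLocallyClosed.inter hB'.isLocallyClosed) z ⟨z.2, hz⟩
  obtain ⟨w, hwt, hwc⟩ := nonempty_inter_closedPoints ⟨_, hzt⟩ ht
  exact ⟨⟨w, (htZ hwt).1⟩, (htZ hwt).2, (hcl _).mpr hwc⟩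

end Groth.Agent.S4882
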