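import Groth.Statements.S4883
import Groth.Agent.S5913
-- import your own Groth.Agent.* helpers here

set_option autoImplicit false
universe u
open CategoryTheory AlgebraicGeometry
open EGA43

namespace Groth.Agent.S4883

/-- Let X be a Noetherian scheme. Then the set of points x of X whose closure is finite is very dense in
X: every nonempty locally closed subset of X contains a point with finite closure. -/
theorem result (X : Scheme.{u}) [IsNoetherian X]
    (Z : Set X) (hZ : IsLocallyClosed Z) (hne : Z.Nonempty) :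
    ∃ x ∈ Z, (closure ({x} : Set X)).Finite := by
  haveI : CompactSpace ↥Z := isCompact_iff_compactSpace.mp (TopologicalSpace.NoetherianSpace.isCompact Z)
  obtain ⟨z₀, hz₀⟩ := hne
  obtain ⟨⟨z, hz⟩, -, hzc⟩ := IsClosed.exists_closed_singleton (X := ↥Z) isClosed_univ ⟨⟨z₀, hz₀⟩, trivial⟩
  refine ⟨z, hz, ?_⟩
  obtain ⟨o, c, ho, hc, hoc⟩ := hZ
  have hzo : z ∈ o ∧ z ∈ c := hoc.le hz
  have hiso : ∀ y, z ⤳ y → y ∈ o → y = z := by
    intro y hy hyo
    have hyZ : y ∈ Z := hoc.ge ⟨hyo, hy.mem_closed hc hzo.2⟩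
    have h1 : (⟨y, hyZ⟩ : ↥Z) ∈ closure {(⟨z, hz⟩ : ↥Z)} := by
      rw [closure_subtype, Set.image_singleton]; exact hy.mem_closure
    rw [hzc.closure_eq] at h1
    exact congrArg Subtype.val h1
  let 𝒰 := X.affineCover.finiteSubcover
  haveI : Finite 𝒰.I₀ := Finite.of_fintype _
  have key : ∀ j : 𝒰.I₀, ((𝒰.f j).opensRange.1 ∩ closure {z} : Set X).Finite := by
    intro j
    have hV : IsAffineOpen (𝒰.f j).opensRange := isAffineOpen_opensRange _
    set V := (𝒰.f j).opensRange with hVdef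
    haveI : IsNoetherianRing Γ(X, V) := IsLocallyNoetherian.component_noetherian (X := X) ⟨V, hV⟩
    by_cases hzV : z ∈ V
    swap
    · refine Set.finite_empty.subset ?_
      rintro y ⟨hy, hy'⟩
      exact hzV ((specializes_iff_mem_closure.2 hy').mem_open V.2 hy)
    rw [← SetLike.mem_coe, ← IsAffineOpen.range_fromSpec hV] at hzV
    obtain ⟨p, rfl⟩ := hzV
    let π := Ideal.Quotient.mk p.asIdeal
    let T : Set (PrimeSpectrum (Γ(X, V) ⧸ p.asIdeal)) := Set.univ
    have hsub : (V.1 ∩ closure {hV.fromSpec p} : Set X) ⊆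
        (fun Q : PrimeSpectrum (Γ(X, V) ⧸ p.asIdeal) => hV.fromSpec (PrimeSpectrum.comap π Q)) '' T := by
      rintro y ⟨hyV, hy⟩
      obtain ⟨q, rfl⟩ : y ∈ Set.range hV.fromSpec := hV.range_fromSpec.ge hyV
      have hle : p.asIdeal ≤ q.asIdeal := (PrimeSpectrum.le_iff_specializes p q).mpr
        (hV.fromSpec.isOpenEmbedding.isInducing.specializes_iff.mp (specializes_iff_mem_closure.2 hy))
      haveI : (q.asIdeal.map π).IsPrime :=
        Ideal.map_isPrime_of_surjective Ideal.Quotient.mk_surjective (Ideal.mk_ker.le.trans hle)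
      refine ⟨⟨q.asIdeal.map π, inferInstance⟩, trivial, congrArg hV.fromSpec (PrimeSpectrum.ext ?_)⟩
      show (q.asIdeal.map π).comap π = q.asIdeal
      rw [Ideal.comap_map_of_surjective π Ideal.Quotient.mk_surjective]
      simpa [π, ← RingHom.ker_eq_comap_bot, Ideal.mk_ker] using hle
    refine (Set.Finite.image _ ?_).subset hsub
    obtain ⟨_, ⟨g, rfl⟩, hpg, hgo⟩ := PrimeSpectrum.isTopologicalBasis_basic_opens.exists_subset_of_mem_open
      (show p ∈ hV.fromSpec ⁻¹' o from hzo.1) (ho.preimage hV.fromSpec.continuous)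
    have hkey : ∀ P : Ideal (Γ(X, V) ⧸ p.asIdeal), P.IsPrime → P ≠ ⊥ → π g ∈ P := by
      intro P hP hP0
      by_contra hg
      apply hP0
      have h2 : p.asIdeal ≤ P.comap π := fun x hx => by
        rw [Ideal.mem_comap, Ideal.Quotient.eq_zero_iff_mem.mpr hx]; exact P.zero_mem
      have h3 := hiso (hV.fromSpec ⟨P.comap π, inferInstance⟩)
        (((PrimeSpectrum.le_iff_specializes p ⟨P.comap π, inferInstance⟩).mp h2).map hV.fromSpec.continuous)
        (hgo (show g ∉ P.comap π from hg))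
      have h4 : P.comap π = p.asIdeal := congrArg PrimeSpectrum.asIdeal (hV.fromSpec.isOpenEmbedding.injective h3)
      rw [← Ideal.map_comap_of_surjective π Ideal.Quotient.mk_surjective P, h4, Ideal.map_quotient_self]
    by_cases hf : IsField (Γ(X, V) ⧸ p.asIdeal)
    · letI := hf.toField
      exact Set.toFinite _
    · obtain ⟨hfin, hdim⟩ := Groth.Agent.S5913.finite_maximalSpectrum (g := π g)
        (fun h => hpg (Ideal.Quotient.eq_zero_iff_mem.mp h)) hkey hf
      haveI : Ring.KrullDimLE 1 (Γ(X, V) ⧸ p.asIdeal) := Ring.krullDimLE_iff.mpr hdim.le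
      refine ((Set.finite_range fun m : MaximalSpectrum (Γ(X, V) ⧸ p.asIdeal) =>
        (⟨m.asIdeal, m.isMaximal.isPrime⟩ : PrimeSpectrum (Γ(X, V) ⧸ p.asIdeal))).insert ⊥).subset fun Q _ => ?_
      by_cases hQ : Q.asIdeal = ⊥
      · exact Or.inl (PrimeSpectrum.ext hQ)
      · exact Or.inr ⟨⟨Q.asIdeal, Ring.krullDimLE_one_iff_of_noZeroDivisors.1 inferInstance _ hQ Q.isPrime⟩, rfl⟩
  refine (Set.finite_iUnion key).subset fun y hy => ?_
  exact Set.mem_iUnion.2 ⟨_, Scheme.Cover.covers 𝒰 y, hy⟩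

end Groth.Agent.S4883
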