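import Groth.Statements.S4886
import Groth.Agent.ArithZeta.Points
import Mathlib

set_option autoImplicit false
universe u
open CategoryTheory AlgebraicGeometry
open EGA43

namespace Groth.Agent.S4886

theorem finite_pts {Y : Scheme.{u}} (F : Type u) [Field F] (hF : Finite (Spec (CommRingCat.of F) ⟶ Y)) :
    {y : Y | Nonempty (↑(Y.residueField y) →+* F)}.Finite := by
  let α : ∀ y : {y : Y | Nonempty (↑(Y.residueField y) →+* F)}, Spec (CommRingCat.of F) ⟶ Y := fun y =>
    Spec.map (CommRingCat.ofHom y.2.some) ≫ Y.fromSpecResidueField y.1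
  refine Set.finite_coe_iff.mp (Finite.of_injective α fun a b h => Subtype.ext ?_)
  have hx : ∀ z, (α z) (IsLocalRing.closedPoint F) = z.1 := fun z => by
    show (Y.fromSpecResidueField z.1) _ = z.1
    exact Scheme.fromSpecResidueField_apply _ _
  rw [← hx a, ← hx b, h]

/-- Let Y be a scheme of finite type over ℤ. (i) A point y of Y is closed if and only if the residue
field k(y) is finite. (ii) For every prime number p and every integer d ≥ 1, the set of points y of
Y such that k(y) is an extension of 𝔽_p of degree dividing d, i.e. admits a ring homomorphism into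
the field with p^d elements, is finite. -/
theorem result (Y : Scheme.{u}) [CompactSpace Y]
    [LocallyOfFiniteType (Limits.IsTerminal.from specULiftZIsTerminal Y)] :
    (∀ y : Y, IsClosed ({y} : Set Y) ↔ Finite ↑(Y.residueField y)) ∧
    ∀ (p d : ℕ) [Fact p.Prime], 0 < d →
      {y : Y | Nonempty (↑(Y.residueField y) →+* GaloisField p d)}.Finite := by
  let f : Y ⟶ Spec (CommRingCat.of (ULift.{u} ℤ)) := Limits.IsTerminal.from specULiftZIsTerminal Y
  have : LocallyOfFiniteType f := ‹_›
  have : QuasiCompact f := (quasiCompact_iff_compactSpace f).mpr ‹_›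
  refine ⟨fun y => ⟨fun hy => Groth.Agent.ArithZeta.finite_residueField f y hy, fun hfin => ?_⟩, fun p d _ hd => ?_⟩
  · have hc : TopologicalSpace.IsOpenCover (fun U : Y.affineOpens => (U : Y.Opens)) :=
      Y.isBasis_affineOpens.isOpenCover
    rw [hc.isClosed_iff_coe_preimage]
    rintro ⟨U, hU⟩
    by_cases hyU : y ∈ U
    · obtain ⟨q, hq⟩ : ∃ q, hU.fromSpec q = y := by
        have h : y ∈ Set.range hU.fromSpec := by rw [hU.range_fromSpec]; exact hyU
        exact h
      obtain ⟨φ, hφ⟩ : ∃ φ : Γ(Y, U) ⟶ Y.residueField y, Spec.map φ ≫ hU.fromSpec = Y.fromSpecResidueField y := by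
        refine ⟨Spec.preimage (IsOpenImmersion.lift hU.fromSpec (Y.fromSpecResidueField y) ?_), ?_⟩
        · rw [hU.range_fromSpec, Scheme.range_fromSpecResidueField]
          exact Set.singleton_subset_iff.mpr hyU
        · rw [Spec.map_preimage, IsOpenImmersion.lift_fac]
      have hker : q.asIdeal = RingHom.ker φ.hom := by
        have h1 : Spec.map φ (IsLocalRing.closedPoint (Y.residueField y)) = q := by
          apply hU.fromSpec.isOpenEmbedding.injective
          rw [← Scheme.Hom.comp_apply, hφ, Scheme.fromSpecResidueField_apply, hq]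
        rw [← h1]
        show Ideal.comap φ.hom (IsLocalRing.maximalIdeal _) = _
        rw [IsLocalRing.maximalIdeal_eq_bot]; rfl
      have : Finite (Γ(Y, U) ⧸ q.asIdeal) :=
        Finite.of_injective _ (RingHom.lift_injective_of_ker_le_ideal q.asIdeal
          (fun a ha => by rw [hker] at ha; exact ha) hker.ge)
      have hmax : q.asIdeal.IsMaximal := Ideal.Quotient.maximal_of_isField _ (Finite.isField_of_domain _)
      let e := hU.fromSpec.isOpenEmbedding.isEmbedding.toHomeomorph
      have hcl := (PrimeSpectrum.isClosed_singleton_iff_isMaximal q).mpr hmax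
      have h2 : (Subtype.val ⁻¹' {y} : Set ↥U) = Subtype.val ⁻¹' (hU.fromSpec '' {q}) := by
        rw [Set.image_singleton, hq]
      show IsClosed (Subtype.val ⁻¹' {y} : Set ↥U)
      rw [h2]
      obtain ⟨o, ho, hoq⟩ : ∃ o : Set Y, IsOpen o ∧ o = hU.fromSpec '' {q}ᶜ :=
        ⟨_, hU.fromSpec.isOpenEmbedding.isOpenMap _ hcl.isOpen_compl, rfl⟩
      have h3 : (Subtype.val ⁻¹' (hU.fromSpec '' {q}) : Set ↥U) = (Subtype.val ⁻¹' o)ᶜ := by
        ext ⟨z, hz⟩
        rw [← SetLike.mem_coe, ← hU.range_fromSpec] at hz
        obtain ⟨w, rfl⟩ := hz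
        simp [hoq, hU.fromSpec.isOpenEmbedding.injective.eq_iff]
      rw [h3]
      exact (ho.preimage continuous_subtype_val).isClosed_compl
    · convert! isClosed_empty
      ext ⟨z, hz⟩
      simp only [Set.mem_preimage, Set.mem_singleton_iff, Set.mem_empty_iff_false, iff_false]
      rintro rfl
      exact hyU hz
  · let F := ULift.{u} (GaloisField p d)
    have hfin := Groth.Agent.ArithZeta.finite_points f F
    refine (finite_pts F hfin).subset ?_
    rintro y ⟨φ⟩
    exact ⟨(ULift.ringEquiv (R := GaloisField p d)).symm.toRingHom.comp φ⟩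

end Groth.Agent.S4886
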