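import Mathlib
import Groth.Statements.S4890
-- import your own Groth.Agent.* helpers here

set_option autoImplicit false
universe u
open EGA43

namespace Groth.Agent.S4890

/-- Let f : X → Y be a quasi-homeomorphism (U ↦ f⁻¹(U) is a bijection on open subsets) and Y' a locally
quasi-constructible subset of Y, i.e. every point of Y has an open neighbourhood whose trace on Y'
is a finite union of locally closed subsets; put X' = f⁻¹(Y'). Then Y' is quasi-compact if and only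
if X' is, and Y' is a Noetherian space if and only if X' is. -/
theorem result {X Y : Type u} [TopologicalSpace X]
    [TopologicalSpace Y] (f : X → Y) (hf : Continuous f)
    (hq : Function.Bijective (fun U : TopologicalSpace.Opens Y =>
      (⟨f ⁻¹' (U : Set Y), U.isOpen.preimage hf⟩ : TopologicalSpace.Opens X)))
    (Y' : Set Y)
    (hY' : ∀ y : Y, ∃ U : Set Y, IsOpen U ∧ y ∈ U ∧
      ∃ T : Set (Set Y), T.Finite ∧ (∀ t ∈ T, IsLocallyClosed t) ∧ U ∩ Y' = ⋃₀ T) :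
    (IsCompact Y' ↔ IsCompact (f ⁻¹' Y')) ∧
      (TopologicalSpace.NoetherianSpace ↥Y' ↔ TopologicalSpace.NoetherianSpace ↥(f ⁻¹' Y')) := by
  classical
  have key : ∀ U V : Set Y, IsOpen U → IsOpen V → f ⁻¹' U ∩ f ⁻¹' Y' ⊆ f ⁻¹' V → U ∩ Y' ⊆ V := by
    rintro U V hU hV hsub y ⟨hyU, hyY⟩
    by_contra hyV
    obtain ⟨W, hW, hyW, T, -, hlc, hT⟩ := hY' y
    obtain ⟨t, htT, hyt⟩ := (hT ▸ ⟨hyW, hyY⟩ : y ∈ ⋃₀ T)
    obtain ⟨O, C, hO, hC, rfl⟩ := hlc t htT
    let A₁ : TopologicalSpace.Opens Y := ⟨U ∩ O, hU.inter hO⟩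
    let A₂ : TopologicalSpace.Opens Y := ⟨(U ∩ O) ∩ (C ∩ Vᶜ)ᶜ, (hU.inter hO).inter (hC.inter hV.isClosed_compl).isOpen_compl⟩
    have : A₁ = A₂ := hq.1 (TopologicalSpace.Opens.ext (Set.ext fun a => by
      refine ⟨fun ha => ⟨ha, fun hc => hc.2 (hsub ⟨ha.1, ?_⟩)⟩, fun ha => ha.1⟩
      have : f a ∈ W ∩ Y' := hT ▸ Set.subset_sUnion_of_mem htT ⟨ha.2, hc.1⟩
      exact this.2))
    have hy1 : y ∈ A₁ := ⟨hyU, hyt.1⟩
    rw [this] at hy1
    exact hy1.2 ⟨hyt.2, hyV⟩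
  have surj : ∀ W : Set X, IsOpen W → ∃ U : Set Y, IsOpen U ∧ f ⁻¹' U = W := fun W hW => by
    obtain ⟨U, hU⟩ := hq.2 ⟨W, hW⟩
    exact ⟨U, U.isOpen, congrArg SetLike.coe hU⟩
  refine ⟨⟨fun h => isCompact_of_finite_subcover fun {ι} U hUo hcov => ?_, fun h => isCompact_of_finite_subcover fun {ι} U hUo hcov => ?_⟩, ?_⟩
  · choose U' hU'o hU' using fun i => surj (U i) (hUo i)
    have hc : Y' ⊆ ⋃ i, U' i := by
      have := key Set.univ (⋃ i, U' i) isOpen_univ (isOpen_iUnion hU'o) (fun a ha => by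
        rw [Set.preimage_iUnion]; simpa only [hU'] using hcov ha.2)
      simpa using this
    obtain ⟨t, ht⟩ := h.elim_finite_subcover U' hU'o hc
    refine ⟨t, fun a ha => ?_⟩
    have := ht ha
    simp only [Set.mem_iUnion] at this ⊢
    obtain ⟨i, hi, hai⟩ := this
    exact ⟨i, hi, hU' i ▸ hai⟩
  · obtain ⟨t, ht⟩ := h.elim_finite_subcover (fun i => f ⁻¹' U i) (fun i => (hUo i).preimage hf)
      (by rw [← Set.preimage_iUnion]; exact Set.preimage_mono hcov)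
    refine ⟨t, ?_⟩
    have := key Set.univ (⋃ i ∈ t, U i) isOpen_univ (isOpen_biUnion fun i _ => hUo i) (fun a ha => by
      simpa using ht ha.2)
    simpa using this
  · let g : C(↥(f ⁻¹' Y'), ↥Y') := ⟨Set.MapsTo.restrict f _ _ (Set.mapsTo_preimage f Y'), hf.restrict _⟩
    let φ : TopologicalSpace.Opens ↥Y' → TopologicalSpace.Opens ↥(f ⁻¹' Y') := fun O => TopologicalSpace.Opens.comap g O
    have hle : ∀ O O', φ O ≤ φ O' → O ≤ O' := by
      intro O O' hOO a ha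
      obtain ⟨U, hU, hU'⟩ := isOpen_induced_iff.1 O.isOpen
      obtain ⟨V, hV, hV'⟩ := isOpen_induced_iff.1 O'.isOpen
      have := key U V hU hV (fun b hb => by
        have h1 : (⟨b, hb.2⟩ : ↥(f ⁻¹' Y')) ∈ φ O := show g ⟨b, hb.2⟩ ∈ (O : Set ↥Y') by rw [← hU']; exact hb.1
        have h2 : g ⟨b, hb.2⟩ ∈ (O' : Set ↥Y') := hOO h1
        rw [← hV'] at h2
        exact h2)
      show a ∈ (O' : Set ↥Y')
      rw [← hV']
      exact this ⟨(hU' ▸ ha : a ∈ Subtype.val ⁻¹' U), a.2⟩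
    have hsurj : Function.Surjective φ := by
      intro O
      obtain ⟨W, hW, hW'⟩ := isOpen_induced_iff.1 O.isOpen
      obtain ⟨U, hU, rfl⟩ := surj W hW
      exact ⟨⟨Subtype.val ⁻¹' U, hU.preimage continuous_subtype_val⟩, TopologicalSpace.Opens.ext hW'⟩
    let e : TopologicalSpace.Opens ↥Y' ≃o TopologicalSpace.Opens ↥(f ⁻¹' Y') :=
      { Equiv.ofBijective φ ⟨fun O O' h => le_antisymm (hle _ _ h.le) (hle _ _ h.ge), hsurj⟩ with
        map_rel_iff' := fun {O O'} => ⟨hle O O', fun h => fun b hb => h hb⟩ }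
    exact ⟨fun h => e.symm.strictMono.wellFoundedGT, fun h => e.strictMono.wellFoundedGT⟩

end Groth.Agent.S4890
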