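import Groth.Statements.S4891
import Groth.Agent.FlatDescent.Nilpotent
import Groth.Agent.FlatDescent.Local

set_option autoImplicit false
universe u
open TensorProduct
open EGA43

namespace Groth.Agent.S4891

/-- Let A be a commutative ring, J a nilpotent ideal of A, B a commutative A-algebra and M a B-module.
If M is flat over A, M/JM is flat over B/JB, B/JB is flat over A/J and mM ≠ M for every maximal
ideal m of B containing JB, then B is flat over A. (Under the first two hypotheses M is also flat
over B; that implication is stated elsewhere and not repeated here.) -/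
theorem result {A B : Type u} [CommRing A] [CommRing B] [Algebra A B]
    (J : Ideal A) (hJ : IsNilpotent J) (M : Type u) [AddCommGroup M] [Module B M] [Module A M] [IsScalarTower A B M]
    (hc1 : Module.Flat A M)
    (hc2 : Module.Flat (B ⧸ J.map (algebraMap A B)) ((B ⧸ J.map (algebraMap A B)) ⊗[B] M))
    (hd1 : Module.Flat (A ⧸ J) ((A ⧸ J) ⊗[A] B))
    (hd2 : ∀ m : Ideal B, m.IsMaximal → J.map (algebraMap A B) ≤ m → (m • (⊤ : Submodule B M)) ≠ ⊤) :
    Module.Flat A B := by
  haveI := hc1
  haveI := hc2
  haveI : Module.Flat B M := Groth.FlatDescent.flat_of_flat_mod_nilpotent J hJ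
  haveI : Module.FaithfullyFlat B M := by
    refine ⟨fun {m} hm => hd2 m hm (Ideal.map_le_iff_le_comap.mpr fun a ha => ?_)⟩
    obtain ⟨n, hn⟩ := hJ
    refine hm.isPrime.mem_of_pow_mem n ?_
    rw [← map_pow, show a ^ n = 0 from by
      have := Ideal.pow_mem_pow ha n
      rw [hn] at this
      exact (Submodule.mem_bot A).mp this, map_zero]
    exact m.zero_mem
  exact Groth.FlatDescent.flat_of_faithfullyFlat_of_flat (M := M)

end Groth.Agent.S4891
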