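import Groth.Statements.S4892
import Groth.Agent.FlatDescent.Trunc.Normal
import Mathlib

set_option autoImplicit false
universe u
open TensorProduct
open EGA43

namespace Groth.Agent.S4892

open Groth.FlatDescent Groth.FlatDescent.Trunc

/-- The comparison of a piece of the model with the piece of `M`, over `B ⧸ J`. -/
theorem bijective_compare {A S P' B : Type u} [CommRing A] [CommRing S] [CommRing P'] [CommRing B] [Algebra S A]
    [Algebra S P'] [Algebra A B] [Algebra P' B] [Algebra S B] [IsScalarTower S P' B] [IsScalarTower S A B]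
    (J : Ideal B) (J' : Ideal P') (hJ : ∀ r ∈ J', algebraMap P' B r ∈ J)
    (hgen : ∀ b : B, b ∈ Submodule.span A (Set.range (algebraMap P' B)))
    {M' M : Type u} [AddCommGroup M'] [Module P' M'] [Module S M'] [IsScalarTower S P' M'] [AddCommGroup M]
    [Module B M] [Module A M] [IsScalarTower A B M] [Module S M] [IsScalarTower S A M] [Module P' M]
    [IsScalarTower P' B M] [IsScalarTower S B M] (ι : M' →ₗ[P'] M) (ιS : M' →ₗ[S] M) (heq : ∀ x, ιS x = ι x)
    (hι : ∀ k, ∀ x ∈ (J' ^ k • (⊤ : Submodule P' M')), ιS x ∈ J ^ k • (⊤ : Submodule B M)) (k : ℕ)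
    (hψ : Function.Bijective (LinearMap.liftBaseChange A (pieceMap J' J ιS hι k))) :
    Nonempty (((B ⧸ J) ⊗[P'] ↥(J' ^ k • (⊤ : Submodule P' M'))) ≃ₗ[B ⧸ J] (B ⧸ J) ⊗[B] Piece J M k) := by
  let C := B ⧸ J
  let Y := ↥(J' ^ k • (⊤ : Submodule P' M'))
  let g : Y →ₗ[P'] C ⊗[B] Piece J M k :=
    ((TensorProduct.mk B C (Piece J M k) 1).restrictScalars P') ∘ₗ
      ((Submodule.comap (J ^ k • (⊤ : Submodule B M)).subtype (J ^ (k + 1) • ⊤)).mkQ.restrictScalars P') ∘ₗ
        LinearMap.codRestrict ((J ^ k • (⊤ : Submodule B M)).restrictScalars P') (ι ∘ₗ (J' ^ k • (⊤ : Submodule P' M')).subtype)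
          fun x => (show ι x ∈ J ^ k • (⊤ : Submodule B M) from heq x ▸ hι k x x.2)
  let φ : C ⊗[P'] Y →ₗ[C] C ⊗[B] Piece J M k := LinearMap.liftBaseChange C g
  have hkill : ∀ x : Y, (x : M') ∈ J' ^ (k + 1) • (⊤ : Submodule P' M') → (1 : C) ⊗ₜ[P'] x = 0 := by
    intro x hx
    rw [pow_succ', mul_smul, ← Submodule.mem_smul_top_iff] at hx
    refine Submodule.smul_induction_on hx (fun r hr y _ => ?_) (fun a b ha hb => by rw [tmul_add, ha, hb, add_zero])
    rw [tmul_smul, smul_tmul', Algebra.smul_def, mul_one,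
      show algebraMap P' C r = 0 from Ideal.Quotient.eq_zero_iff_mem.mpr (hJ r hr), zero_tmul]
  let θ₀ : Piece J' M' k →ₗ[S] C ⊗[P'] Y :=
    (Submodule.liftQ ((Submodule.comap (J' ^ k • (⊤ : Submodule P' M')).subtype (J' ^ (k + 1) • ⊤)).restrictScalars S)
      ((TensorProduct.mk P' C Y 1).restrictScalars S) fun x hx => LinearMap.mem_ker.mpr (hkill x hx)) ∘ₗ
      (Submodule.Quotient.restrictScalarsEquiv S _).symm.toLinearMap
  let θ : A ⊗[S] Piece J' M' k →ₗ[A] C ⊗[P'] Y := LinearMap.liftBaseChange A θ₀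
  have hθ : Function.Surjective θ := by
    have key : ∀ (b : B), ∀ x : Y, Ideal.Quotient.mk J b ⊗ₜ[P'] x ∈ LinearMap.range θ := by
      intro b
      induction hgen b using Submodule.span_induction with
      | mem b hb =>
        obtain ⟨r, rfl⟩ := hb
        intro x
        refine ⟨1 ⊗ₜ Submodule.Quotient.mk (r • x), ?_⟩
        rw [LinearMap.liftBaseChange_tmul, one_smul]
        show (1 : C) ⊗ₜ[P'] (r • x) = _
        rw [tmul_smul, smul_tmul', Algebra.smul_def, mul_one]
        rfl
      | zero => intro x; rw [map_zero, zero_tmul]; exact zero_mem _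
      | add a b _ _ ha hb => intro x; rw [map_add, add_tmul]; exact add_mem (ha x) (hb x)
      | smul a b _ hb =>
        intro x
        have : Ideal.Quotient.mk J (a • b) ⊗ₜ[P'] x = a • (Ideal.Quotient.mk J b ⊗ₜ[P'] x) := by
          rw [smul_tmul']
          rfl
        rw [this]
        exact Submodule.smul_mem _ a (hb x)
    intro z
    induction z with
    | zero => exact ⟨0, map_zero θ⟩
    | tmul c x =>
      obtain ⟨b, rfl⟩ := Ideal.Quotient.mk_surjective c
      exact key b x
    | add a b ha hb =>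
      obtain ⟨u, rfl⟩ := ha
      obtain ⟨v, rfl⟩ := hb
      exact ⟨u + v, map_add θ u v⟩
  have hone := bijective_mk_one J (Piece J M k) fun b hb t => by
    obtain ⟨x, rfl⟩ := Submodule.Quotient.mk_surjective _ t
    rw [← Submodule.Quotient.mk_smul]
    refine (Submodule.Quotient.mk_eq_zero _).mpr ?_
    show b • (x : M) ∈ J ^ (k + 1) • (⊤ : Submodule B M)
    rw [pow_succ', mul_smul]
    exact Submodule.smul_mem_smul hb x.2
  have hcomp : ∀ z, φ (θ z) = (1 : C) ⊗ₜ[B] LinearMap.liftBaseChange A (pieceMap J' J ιS hι k) z := by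
    intro z
    induction z with
    | zero => rw [map_zero, map_zero, map_zero, tmul_zero]
    | tmul a t =>
      obtain ⟨x, rfl⟩ := Submodule.Quotient.mk_surjective _ t
      rw [LinearMap.liftBaseChange_tmul, LinearMap.liftBaseChange_tmul, pieceMap_mk, LinearMap.map_smul_of_tower,
        tmul_smul]
      refine congrArg (a • ·) ?_
      show φ ((1 : C) ⊗ₜ[P'] x) = _
      rw [LinearMap.liftBaseChange_tmul, one_smul]
      show (1 : C) ⊗ₜ[B] (Submodule.Quotient.mk (⟨ι x, heq x ▸ hι k x x.2⟩ : ↥(J ^ k • (⊤ : Submodule B M))) : Piece J M k) = _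
      exact congrArg (fun y => (1 : C) ⊗ₜ[B] (Submodule.Quotient.mk y : Piece J M k)) (Subtype.ext (heq x).symm)
    | add u v hu hv => rw [map_add, map_add, hu, hv, map_add, tmul_add]
  refine ⟨LinearEquiv.ofBijective φ ⟨fun a b hab => ?_, fun t => ?_⟩⟩
  · obtain ⟨u, rfl⟩ := hθ a
    obtain ⟨v, rfl⟩ := hθ b
    rw [hcomp, hcomp] at hab
    rw [hψ.1 (hone.1 hab)]
  · obtain ⟨y, rfl⟩ := hone.2 t
    obtain ⟨z, rfl⟩ := hψ.2 y
    exact ⟨θ z, hcomp z⟩

/-- Openness in `Spec B` from openness in `V(J)`. -/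
theorem isOpen_of_quotient {B : Type u} [CommRing B] (J : Ideal B) {U : Set (PrimeSpectrum (B ⧸ J))} (hU : IsOpen U)
    {Q : PrimeSpectrum B → Prop} (hUiff : ∀ qb, qb ∈ U ↔ Q (PrimeSpectrum.comap (Ideal.Quotient.mk J) qb)) :
    IsOpen {q : PrimeSpectrum B | J ≤ q.asIdeal → Q q} := by
  have hclosed : IsClosed (PrimeSpectrum.comap (Ideal.Quotient.mk J) '' Uᶜ) :=
    (PrimeSpectrum.isClosedEmbedding_comap_of_surjective _ (Ideal.Quotient.mk J) Ideal.Quotient.mk_surjective).isClosedMap _
      hU.isClosed_compl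
  convert hclosed.isOpen_compl using 1
  ext q
  simp only [Set.mem_setOf_eq, Set.mem_compl_iff, Set.mem_image, not_exists, not_and]
  constructor
  · rintro h qb hqb rfl
    refine hqb ((hUiff qb).mpr (h fun b hb => ?_))
    show Ideal.Quotient.mk J b ∈ qb.asIdeal
    rw [Ideal.Quotient.eq_zero_iff_mem.mpr hb]
    exact zero_mem _
  · intro h hJq
    obtain ⟨qb, rfl⟩ : q ∈ Set.range (PrimeSpectrum.comap (Ideal.Quotient.mk J)) := by
      rw [range_comap_of_surjective _ _ Ideal.Quotient.mk_surjective, Ideal.mk_ker]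
      exact hJq
    exact (hUiff qb).mp (not_not.mp fun hc => h qb hc rfl)


/-- The map from the model. -/
theorem exists_iota {A S B : Type u} [CommRing A] [CommRing S] [CommRing B] [Algebra S A] [Algebra A B]
    {n m : ℕ} {M : Type u} [AddCommGroup M] [Module B M] [Module (MvPolynomial (Fin n) S) M]
    (π : MvPolynomial (Fin n) A →ₐ[A] B) (f : (Fin m → MvPolynomial (Fin n) A) →+ M)
    (hsmul : ∀ (r : MvPolynomial (Fin n) A) x, f (r • x) = π r • f x)
    {N : Submodule (MvPolynomial (Fin n) A) (Fin m → MvPolynomial (Fin n) A)} (hker : ∀ x, f x = 0 ↔ x ∈ N)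
    (N' : Submodule (MvPolynomial (Fin n) S) (Fin m → MvPolynomial (Fin n) S)) (hN' : baseN (algebraMap S A) N' = N)
    (hχ : ∀ (r : MvPolynomial (Fin n) S) (x : M), r • x = π (MvPolynomial.map (algebraMap S A) r) • x) :
    ∃ ι : ((Fin m → MvPolynomial (Fin n) S) ⧸ N') →ₗ[MvPolynomial (Fin n) S] M,
      ∀ y, ι (Submodule.Quotient.mk y) = f (mapF (algebraMap S A) y) := by
  let ι₀ : (Fin m → MvPolynomial (Fin n) S) →ₗ[MvPolynomial (Fin n) S] M :=
    { toFun := fun y => f (mapF (algebraMap S A) y)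
      map_add' := fun a b => by rw [map_add, map_add]
      map_smul' := fun r y => by rw [mapF_smul, hsmul, RingHom.id_apply, hχ] }
  have hι₀ : N' ≤ LinearMap.ker ι₀ := fun y hy => by
    show f (mapF (algebraMap S A) y) = 0
    rw [hker, ← hN']
    exact mapF_mem_baseN hy
  exact ⟨Submodule.liftQ N' ι₀ hι₀, fun _ => rfl⟩

/-- Truncations of the model module. -/
theorem flat_quotient_quotient {S : Type u} [CommRing S] {n m : ℕ} (J' : Ideal (MvPolynomial (Fin n) S))
    (N' : Submodule (MvPolynomial (Fin n) S) (Fin m → MvPolynomial (Fin n) S)) (k : ℕ)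
    (h : Module.Flat S ((Fin m → MvPolynomial (Fin n) S) ⧸ truncN J' N' k)) :
    Module.Flat S (((Fin m → MvPolynomial (Fin n) S) ⧸ N') ⧸
      (J' ^ k • (⊤ : Submodule (MvPolynomial (Fin n) S) ((Fin m → MvPolynomial (Fin n) S) ⧸ N')))) := by
  let e := (Submodule.quotEquivOfEq _ (Submodule.map N'.mkQ (J' ^ k • ⊤))
    (show (J' ^ k • (⊤ : Submodule (MvPolynomial (Fin n) S) ((Fin m → MvPolynomial (Fin n) S) ⧸ N'))) = _ by
      rw [Submodule.map_smul'', Submodule.map_top, Submodule.range_mkQ])).trans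
    (Submodule.quotientQuotientEquivQuotientSup N' (J' ^ k • ⊤))
  haveI : Module.Flat S ((Fin m → MvPolynomial (Fin n) S) ⧸ (N' ⊔ J' ^ k • ⊤)) := h
  exact Module.Flat.of_linearEquiv (e.restrictScalars S)

/-- The truncations of the model base change to those of `M`. -/
theorem bijective_truncMap {A S B : Type u} [CommRing A] [CommRing S] [CommRing B] [Algebra S A] [Algebra A B]
    [Algebra S B] [IsScalarTower S A B] {n m : ℕ} {M : Type u} [AddCommGroup M] [Module B M] [Module A M]
    [IsScalarTower A B M] [Module S M] [IsScalarTower S A M] [IsScalarTower S B M]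
    (π : MvPolynomial (Fin n) A →ₐ[A] B) (hπ : Function.Surjective π)
    (f : (Fin m → MvPolynomial (Fin n) A) →+ M) (hf : Function.Surjective f)
    (hfsmul : ∀ (a : A) (v : Fin m → MvPolynomial (Fin n) A), f (a • v) = a • f v)
    (hsmul : ∀ (r : MvPolynomial (Fin n) A) x, f (r • x) = π r • f x)
    {N : Submodule (MvPolynomial (Fin n) A) (Fin m → MvPolynomial (Fin n) A)} (hker : ∀ x, f x = 0 ↔ x ∈ N)
    (N' : Submodule (MvPolynomial (Fin n) S) (Fin m → MvPolynomial (Fin n) S)) (hN' : baseN (algebraMap S A) N' = N)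
    (J' : Ideal (MvPolynomial (Fin n) S)) {J : Ideal B}
    (hJ : (J'.map (MvPolynomial.map (algebraMap S A))).map π.toRingHom = J)
    (ιS : ((Fin m → MvPolynomial (Fin n) S) ⧸ N') →ₗ[S] M)
    (hιdef : ∀ y, ιS (Submodule.Quotient.mk y) = f (mapF (algebraMap S A) y))
    (hι : ∀ k, ∀ x ∈ (J' ^ k • (⊤ : Submodule (MvPolynomial (Fin n) S) ((Fin m → MvPolynomial (Fin n) S) ⧸ N'))),
      ιS x ∈ J ^ k • (⊤ : Submodule B M)) (k : ℕ) :
    Function.Bijective (LinearMap.liftBaseChange A (truncMap J' J ιS hι k)) := by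
  let P' := MvPolynomial (Fin n) S
  let F := Fin m → MvPolynomial (Fin n) A
  let M' := (Fin m → P') ⧸ N'
  let Φ := LinearMap.liftBaseChange A (truncMap J' J (ιS) hι k)
  let L : Submodule (MvPolynomial (Fin n) S) (Fin m → MvPolynomial (Fin n) S) := truncN J' N' k
  let E : ((Fin m → P') ⧸ L) →ₗ[S] M' ⧸ (J' ^ k • ⊤ : Submodule P' M') :=
    (Submodule.liftQ (L.restrictScalars S) (((J' ^ k • ⊤ : Submodule P' M').mkQ ∘ₗ N'.mkQ).restrictScalars S)
      fun v hv => by
        obtain ⟨a, ha, b, hb, rfl⟩ := Submodule.mem_sup.mp (show v ∈ N' ⊔ J' ^ k • ⊤ from hv)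
        refine LinearMap.mem_ker.mpr ((Submodule.Quotient.mk_eq_zero _).mpr ?_)
        rw [map_add, show N'.mkQ a = 0 from (Submodule.Quotient.mk_eq_zero N').mpr ha, zero_add]
        exact NormallyFlat.map_mem_smul_top (J' ^ k) N'.mkQ hb) ∘ₗ
      (Submodule.Quotient.restrictScalarsEquiv S L).symm.toLinearMap
  have hE : ∀ y, E (Submodule.Quotient.mk y) = Submodule.Quotient.mk (Submodule.Quotient.mk y) := fun _ => rfl
  obtain ⟨Θ₀, hΘ₀, hΘ0⟩ := exists_back (R := A) L
  let Θ : F →ₗ[A] A ⊗[S] (M' ⧸ (J' ^ k • ⊤ : Submodule P' M')) := E.baseChange A ∘ₗ Θ₀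
  have hΘ : ∀ y, Θ (mapF (algebraMap S A) y) = 1 ⊗ₜ Submodule.Quotient.mk (Submodule.Quotient.mk y) := fun y => by
    show E.baseChange A (Θ₀ _) = _
    rw [hΘ₀, LinearMap.baseChange_tmul, hE]
  let G : F →ₗ[A] M ⧸ (J ^ k • ⊤ : Submodule B M) :=
    { toFun := fun v => Submodule.Quotient.mk (f v)
      map_add' := fun a b => by rw [map_add]; rfl
      map_smul' := fun a v => by rw [hfsmul]; rfl }
  have hspan : ∀ v : F, v ∈ Submodule.span A (Set.range (mapF (σ := Fin n) (κ := Fin m) (algebraMap S A))) := fun v => by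
    have := mem_span_coeff_of_mem_baseN (φ := algebraMap S A) (N := ⊤)
      (show v ∈ baseN (algebraMap S A) ⊤ by rw [baseN_top]; trivial)
    exact Submodule.span_mono (Set.image_subset_range _ _) this
  have hΦΘ : ∀ v, Φ (Θ v) = G v := by
    intro v
    induction hspan v using Submodule.span_induction with
    | mem v hv =>
      obtain ⟨y, rfl⟩ := hv
      rw [hΘ, LinearMap.liftBaseChange_tmul, one_smul, truncMap_mk]
      exact congrArg Submodule.Quotient.mk (hιdef y)
    | zero => rw [map_zero, map_zero, map_zero]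
    | add a b _ _ ha hb => rw [map_add, map_add, ha, hb, map_add]
    | smul a v _ hv => rw [map_smul, map_smul, hv, map_smul]
  have hΘsurj : Function.Surjective Θ := by
    intro z
    induction z with
    | zero => exact ⟨0, map_zero Θ⟩
    | tmul a t =>
      obtain ⟨t', rfl⟩ := Submodule.Quotient.mk_surjective _ t
      obtain ⟨y, rfl⟩ := Submodule.Quotient.mk_surjective _ t'
      exact ⟨a • mapF (algebraMap S A) y, by rw [map_smul, hΘ, smul_tmul', smul_eq_mul, mul_one]⟩
    | add a b ha hb =>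
      obtain ⟨u, rfl⟩ := ha
      obtain ⟨v, rfl⟩ := hb
      exact ⟨u + v, map_add Θ u v⟩
  refine ⟨(injective_iff_map_eq_zero Φ).mpr fun z hz => ?_, fun t => ?_⟩
  · obtain ⟨v, rfl⟩ := hΘsurj z
    rw [hΦΘ] at hz
    have hv : f v ∈ J ^ k • (⊤ : Submodule B M) := (Submodule.Quotient.mk_eq_zero _).mp hz
    suffices hmem : v ∈ baseN (algebraMap S A) L by
      show E.baseChange A (Θ₀ v) = 0
      rw [hΘ0 v hmem, map_zero]
    rw [baseN_truncN, hN']
    rw [← hJ, ← Ideal.map_pow] at hv
    obtain ⟨w, hw, hvw⟩ : ∃ w ∈ (J'.map (MvPolynomial.map (algebraMap S A))) ^ k • (⊤ : Submodule (MvPolynomial (Fin n) A) F), f w = f v := by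
      refine Submodule.smul_induction_on hv (fun r hr y _ => ?_) (fun a b ha hb => ?_)
      · obtain ⟨r', hr', rfl⟩ := (Ideal.mem_map_iff_of_surjective π.toRingHom hπ).mp hr
        obtain ⟨y', rfl⟩ := hf y
        exact ⟨r' • y', Submodule.smul_mem_smul hr' trivial, hsmul r' y'⟩
      · obtain ⟨w₁, h1, e1⟩ := ha
        obtain ⟨w₂, h2, e2⟩ := hb
        exact ⟨w₁ + w₂, add_mem h1 h2, by rw [map_add, e1, e2]⟩
    have hvw' : v - w ∈ N := (hker _).mp (by rw [map_sub, hvw, sub_self])
    simpa [truncN] using Submodule.add_mem_sup hvw' hw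
  · obtain ⟨x, rfl⟩ := Submodule.Quotient.mk_surjective _ t
    obtain ⟨v, rfl⟩ := hf x
    exact ⟨Θ v, hΦΘ v⟩

/-- Openness of normal flatness, abstractly. -/
theorem isOpen_normal_abstract {A S P' B : Type u} [CommRing A] [CommRing S] [CommRing P'] [IsNoetherianRing P']
    [CommRing B] [Algebra S A] [Algebra S P'] [Algebra A B] [Algebra P' B] [Algebra S B] [IsScalarTower S P' B]
    [IsScalarTower S A B] (J : Ideal B) (J' : Ideal P') (hJ : ∀ r ∈ J', algebraMap P' B r ∈ J)
    (hgen : ∀ b : B, b ∈ Submodule.span A (Set.range (algebraMap P' B)))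
    {M' M : Type u} [AddCommGroup M'] [Module P' M'] [Module.Finite P' M'] [Module S M'] [IsScalarTower S P' M']
    [AddCommGroup M] [Module B M] [Module A M] [IsScalarTower A B M] [Module S M] [IsScalarTower S A M] [Module P' M]
    [IsScalarTower P' B M] [IsScalarTower S B M] (ι : M' →ₗ[P'] M) (ιS : M' →ₗ[S] M) (heq : ∀ x, ιS x = ι x)
    (hι : ∀ k, ∀ x ∈ (J' ^ k • (⊤ : Submodule P' M')), ιS x ∈ J ^ k • (⊤ : Submodule B M))
    (hbij : ∀ k, Function.Bijective (LinearMap.liftBaseChange A (truncMap J' J ιS hι k)))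
    (hflat : ∀ k, Module.Flat S (M' ⧸ (J' ^ k • (⊤ : Submodule P' M')))) :
    IsOpen {q : PrimeSpectrum B | J ≤ q.asIdeal → ∀ k : ℕ,
      Module.Flat (B ⧸ J) ((B ⧸ J) ⊗[B] LocalizedModule q.asIdeal.primeCompl (Piece J M k))} := by
  refine isOpen_of_quotient J (isOpen_forall_flatAt_pieces J' M' (B ⧸ J)) fun qb => forall_congr' fun k => ?_
  obtain ⟨ek⟩ := bijective_compare J J' hJ hgen ι ιS heq hι k (bijective_pieceMap J' J ιS hι hbij hflat k)
  rw [flatAt_congr ek qb.asIdeal, flatAt_quotient_iff]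
  rfl

/-- Openness of normal flatness from a Noetherian model with flat truncations. -/
theorem isOpen_normal_of_model {A S B : Type u} [CommRing A] [CommRing S] [IsNoetherianRing S] [CommRing B]
    [Algebra S A] [Algebra A B] [Algebra S B] [IsScalarTower S A B] {n m : ℕ} {M : Type u} [AddCommGroup M]
    [Module B M] [Module A M] [IsScalarTower A B M] [Module S M] [IsScalarTower S A M] (J : Ideal B)
    (π : MvPolynomial (Fin n) A →ₐ[A] B) (hπ : Function.Surjective π)
    (f : (Fin m → MvPolynomial (Fin n) A) →+ M) (hf : Function.Surjective f)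
    (hsmul : ∀ (r : MvPolynomial (Fin n) A) x, f (r • x) = π r • f x)
    {N : Submodule (MvPolynomial (Fin n) A) (Fin m → MvPolynomial (Fin n) A)} (hker : ∀ x, f x = 0 ↔ x ∈ N)
    (N' : Submodule (MvPolynomial (Fin n) S) (Fin m → MvPolynomial (Fin n) S)) (hN' : baseN (algebraMap S A) N' = N)
    (J' : Ideal (MvPolynomial (Fin n) S))
    (hJ : (J'.map (MvPolynomial.map (algebraMap S A))).map π.toRingHom = J)
    (hflat : ∀ k, Module.Flat S ((Fin m → MvPolynomial (Fin n) S) ⧸ truncN J' N' k)) :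
    IsOpen {q : PrimeSpectrum B | J ≤ q.asIdeal → ∀ k : ℕ,
      Module.Flat (B ⧸ J) ((B ⧸ J) ⊗[B] LocalizedModule q.asIdeal.primeCompl (Piece J M k))} := by
  letI : Algebra (MvPolynomial (Fin n) S) B := (π.toRingHom.comp (MvPolynomial.map (algebraMap S A))).toAlgebra
  haveI : IsScalarTower S (MvPolynomial (Fin n) S) B := IsScalarTower.of_algebraMap_eq fun c => by
    show algebraMap S B c = π (MvPolynomial.map (algebraMap S A) (MvPolynomial.C c))
    rw [MvPolynomial.map_C, ← MvPolynomial.algebraMap_eq, π.commutes, ← IsScalarTower.algebraMap_apply]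
  letI : Module (MvPolynomial (Fin n) S) M :=
    Module.compHom M (π.toRingHom.comp (MvPolynomial.map (algebraMap S A)))
  haveI : IsScalarTower (MvPolynomial (Fin n) S) B M := IsScalarTower.of_algebraMap_smul fun _ _ => rfl
  haveI : IsScalarTower S B M := IsScalarTower.of_algebraMap_smul fun c x => by
    rw [IsScalarTower.algebraMap_apply S A B, algebraMap_smul, algebraMap_smul]
  haveI : IsScalarTower S (MvPolynomial (Fin n) S) M := IsScalarTower.of_algebraMap_smul fun c x => by
    show (π.toRingHom.comp (MvPolynomial.map (algebraMap S A))) (algebraMap S (MvPolynomial (Fin n) S) c) • x = _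
    rw [show (π.toRingHom.comp (MvPolynomial.map (algebraMap S A))) (algebraMap S (MvPolynomial (Fin n) S) c) =
      algebraMap S B c from (IsScalarTower.algebraMap_apply S (MvPolynomial (Fin n) S) B c).symm, algebraMap_smul]
  have hfsmul : ∀ (a : A) (v : Fin m → MvPolynomial (Fin n) A), f (a • v) = a • f v := fun a v => by
    rw [← algebraMap_smul (MvPolynomial (Fin n) A) a v, hsmul, π.commutes, algebraMap_smul]
  obtain ⟨ι, hιdef⟩ := exists_iota (S := S) π f hsmul hker N' hN' (fun r x => rfl)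
  have hJχ : ∀ r ∈ J', algebraMap (MvPolynomial (Fin n) S) B r ∈ J := fun r hr => by
    rw [← hJ]
    exact Ideal.mem_map_of_mem _ (Ideal.mem_map_of_mem _ hr)
  have hgen : ∀ b : B, b ∈ Submodule.span A (Set.range (algebraMap (MvPolynomial (Fin n) S) B)) := fun b => by
    obtain ⟨p, rfl⟩ := hπ b
    induction p using MvPolynomial.induction_on' with
    | monomial d a =>
      have h1 : π (MvPolynomial.monomial d a) = a • algebraMap (MvPolynomial (Fin n) S) B (MvPolynomial.monomial d 1) := by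
        show _ = a • π (MvPolynomial.map (algebraMap S A) (MvPolynomial.monomial d 1))
        rw [MvPolynomial.map_monomial, map_one, ← map_smul, MvPolynomial.smul_monomial, smul_eq_mul, mul_one]
      rw [h1]
      exact Submodule.smul_mem _ a (Submodule.subset_span ⟨_, rfl⟩)
    | add p q hp hq => rw [map_add]; exact add_mem hp hq
  have hι : ∀ k, ∀ x ∈ (J' ^ k • (⊤ : Submodule (MvPolynomial (Fin n) S) ((Fin m → MvPolynomial (Fin n) S) ⧸ N'))),
      (ι.restrictScalars S) x ∈ J ^ k • (⊤ : Submodule B M) := by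
    intro k x hx
    refine Submodule.smul_induction_on hx (fun r hr y _ => ?_) (fun a b ha hb => by rw [map_add]; exact add_mem ha hb)
    show ι (r • y) ∈ _
    rw [map_smul, ← algebraMap_smul B r (ι y)]
    refine Submodule.smul_mem_smul ?_ trivial
    have h1 := Ideal.mem_map_of_mem (algebraMap (MvPolynomial (Fin n) S) B) hr
    rw [Ideal.map_pow] at h1
    exact Ideal.pow_right_mono (Ideal.map_le_iff_le_comap.mpr hJχ) k h1
  exact isOpen_normal_abstract J J' hJχ hgen ι (ι.restrictScalars S) (fun _ => rfl) hι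
    (fun k => bijective_truncMap π hπ f hf hfsmul hsmul hker N' hN' J' hJ (ι.restrictScalars S) hιdef hι k)
    (fun k => flat_quotient_quotient J' N' k (hflat k))

/-- Affine form: let A be a commutative ring, B a finitely presented A-algebra, J a finitely generated
ideal of B and M a finitely presented B-module; assume that every graded piece J^k / J^{k+1} of B
and every graded piece J^k M / J^{k+1} M of M is flat over A. Then the set W of primes q ⊇ J of B at
which M is normally flat along V(J) — every localisation (J^k M / J^{k+1} M)_q is flat over B/J — is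
open in V(J); equivalently the set of primes q such that J ⊆ q implies this condition is open in
Spec B. Flatness over B/J of the localised piece N_q (a module killed by J) is expressed as flatness
of (B/J) ⊗_B N_q. -/
theorem result {A B : Type u} [CommRing A] [CommRing B] [Algebra A B]
    [Algebra.FinitePresentation A B] (J : Ideal B) (hJ : J.FG)
    (M : Type u) [AddCommGroup M] [Module B M] [Module A M] [IsScalarTower A B M] [Module.FinitePresentation B M]
    (hgrB : ∀ k : ℕ, Module.Flat A (↥(J ^ k) ⧸ Submodule.comap (J ^ k).subtype (J ^ (k + 1))))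
    (hgrM : ∀ k : ℕ, Module.Flat A
      (↥(J ^ k • (⊤ : Submodule B M)) ⧸ Submodule.comap (J ^ k • (⊤ : Submodule B M)).subtype (J ^ (k + 1) • ⊤))) :
    IsOpen {q : PrimeSpectrum B | J ≤ q.asIdeal → ∀ k : ℕ,
      Module.Flat (B ⧸ J) ((B ⧸ J) ⊗[B] LocalizedModule q.asIdeal.primeCompl
        (↥(J ^ k • (⊤ : Submodule B M)) ⧸ Submodule.comap (J ^ k • (⊤ : Submodule B M)).subtype (J ^ (k + 1) • ⊤)))} := by
  classical
  obtain ⟨⟨n, m, π, hπ, N, f, hf, hsmul, hker, A₁, hA₁, J₁, N₁, hN₁, hJ₁, e⟩⟩ := exists_model (A₀ := A) J hJ M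
  haveI : Algebra.FiniteType ℤ A₁ := ⟨A₁.fg_top.mpr hA₁⟩
  haveI : IsNoetherianRing A₁ := Algebra.FiniteType.isNoetherianRing ℤ A₁
  obtain ⟨K, hK⟩ := exists_bound_good J₁ N₁
  have hgood : ∀ k, Good J₁ N₁ A k := fun k => by
    haveI := flat_quotient_of_flat_pieces J M hgrM k
    obtain ⟨ek⟩ := e k
    exact (Module.Flat.equiv_iff (ek.trans (Submodule.Quotient.restrictScalarsEquiv A _))).mpr inferInstance
  obtain ⟨-, S, hS, hSgood⟩ := hK A fun k _ => hgood k
  haveI : Algebra.FiniteType A₁ S := ⟨S.fg_top.mpr hS⟩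
  haveI : IsNoetherianRing S := Algebra.FiniteType.isNoetherianRing A₁ S
  refine isOpen_normal_of_model (S := S) J π hπ f hf hsmul hker (baseN (algebraMap A₁ S) N₁) ?_
    (J₁.map (MvPolynomial.map (algebraMap A₁ S))) ?_ fun k => (good_iff (A' := S) J₁ N₁ k).mp (hSgood k)
  · rw [baseN_baseN, show (algebraMap S A).comp (algebraMap A₁ S) = algebraMap A₁ A from rfl, hN₁]
  · rw [Ideal.map_map (MvPolynomial.map (algebraMap A₁ S)), show (MvPolynomial.map (algebraMap S A)).comp (MvPolynomial.map (algebraMap A₁ S)) =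
      MvPolynomial.map (σ := Fin n) (algebraMap A₁ A) from RingHom.ext fun p => MvPolynomial.map_map _ _ p]
    exact hJ₁

end Groth.Agent.S4892
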