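import Mathlib
import Groth.Statements.S4893
-- import your own Groth.Agent.* helpers here

set_option autoImplicit false
universe u
open EGA43

namespace Groth.Agent.S4893

/-- Let f : X → Y be a quasi-homeomorphism (continuous, with U ↦ f⁻¹(U) a bijection from the open
subsets of Y onto the open subsets of X) and Y' a locally quasi-constructible subset of Y. Then the
restriction f⁻¹(Y') → Y' of f is a quasi-homeomorphism. -/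
theorem result {X Y : Type u} [TopologicalSpace X]
    [TopologicalSpace Y] (f : X → Y) (hf : Continuous f)
    (hq : ((∀ U₁ U₂ : Set Y, IsOpen U₁ → IsOpen U₂ → (f) ⁻¹' U₁ = (f) ⁻¹' U₂ → U₁ = U₂) ∧ (∀ V : Set X, IsOpen V → ∃ U : Set Y, IsOpen U ∧ (f) ⁻¹' U = V)))
    (Y' : Set Y) (hY' : (∀ y : Y, ∃ U : Set Y, IsOpen U ∧ y ∈ U ∧ ∃ T : Set (Set Y), T.Finite ∧ (∀ t ∈ T, IsLocallyClosed t) ∧ U ∩ Y' = ⋃₀ T)) :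
    ((∀ U₁ U₂ : Set ↥Y', IsOpen U₁ → IsOpen U₂ → (Y'.restrictPreimage f) ⁻¹' U₁ = (Y'.restrictPreimage f) ⁻¹' U₂ → U₁ = U₂) ∧ (∀ V : Set ↥(f ⁻¹' Y'), IsOpen V → ∃ U : Set ↥Y', IsOpen U ∧ (Y'.restrictPreimage f) ⁻¹' U = V)) := by
  have hne : ∀ O Z : Set Y, IsOpen O → IsClosed Z → (O ∩ Z).Nonempty → (f ⁻¹' (O ∩ Z)).Nonempty := by
    intro O Z hO hZ ⟨y, hyO, hyZ⟩
    by_contra hc
    rw [Set.not_nonempty_iff_eq_empty] at hc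
    have := hq.1 O (O ∩ Zᶜ) hO (hO.inter hZ.isOpen_compl) (by
      ext x
      refine ⟨fun hx => ⟨hx, fun hxZ => ?_⟩, fun hx => hx.1⟩
      exact Set.eq_empty_iff_forall_notMem.mp hc x ⟨hx, hxZ⟩)
    exact (this ▸ hyO : y ∈ O ∩ Zᶜ).2 hyZ
  have hmain : ∀ U₁ U₂ : Set ↥Y', IsOpen U₁ → IsOpen U₂ → (Y'.restrictPreimage f) ⁻¹' U₁ = (Y'.restrictPreimage f) ⁻¹' U₂ → U₁ ⊆ U₂ := by
    intro U₁ U₂ h1 h2 he y hy1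
    by_contra hy2
    obtain ⟨O₁, hO₁, rfl⟩ := isOpen_induced_iff.mp h1
    obtain ⟨O₂, hO₂, rfl⟩ := isOpen_induced_iff.mp h2
    obtain ⟨U, hU, hyU, T, -, hT, hUT⟩ := hY' y.1
    obtain ⟨t, ht, hyt⟩ : ∃ t ∈ T, y.1 ∈ t := Set.mem_sUnion.mp (hUT ▸ ⟨hyU, y.2⟩)
    obtain ⟨Ω, Z, hΩ, hZ, rfl⟩ := hT t ht
    obtain ⟨x, ⟨hx1, hxΩ⟩, hxZ, hx2⟩ := hne (O₁ ∩ Ω) (Z ∩ O₂ᶜ) (hO₁.inter hΩ) (hZ.inter hO₂.isClosed_compl)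
      ⟨y.1, ⟨hy1, hyt.1⟩, hyt.2, hy2⟩
    have hxY : f x ∈ U ∩ Y' := hUT ▸ Set.mem_sUnion.mpr ⟨_, ht, hxΩ, hxZ⟩
    exact hx2 ((Set.ext_iff.mp he ⟨x, hxY.2⟩).mp hx1)
  refine ⟨fun U₁ U₂ h1 h2 he => (hmain U₁ U₂ h1 h2 he).antisymm (hmain U₂ U₁ h2 h1 he.symm), fun V hV => ?_⟩
  obtain ⟨V', hV', rfl⟩ := isOpen_induced_iff.mp hV
  obtain ⟨U, hU, rfl⟩ := hq.2 V' hV'
  exact ⟨Subtype.val ⁻¹' U, hU.preimage continuous_subtype_val, rfl⟩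

end Groth.Agent.S4893
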