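import Groth.Statements.S4897
import Groth.Agent.VeryDense.Local
-- import your own Groth.Agent.* helpers here

set_option autoImplicit false
universe u
open EGA43

namespace Groth.Agent.S4897

/-- Let f : X → Y be a quasi-homeomorphism, i.e. a continuous map such that U ↦ f⁻¹(U) is a bijection
from the open subsets of Y onto the open subsets of X. Then Z ↦ f⁻¹(Z) induces bijections from the
locally closed (resp. constructible, resp. locally constructible) subsets of Y onto those of X. -/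
theorem result {X Y : Type u}
    [TopologicalSpace X] [TopologicalSpace Y] (f : X → Y) (hf : Continuous f)
    (hq : Function.Bijective (fun U : TopologicalSpace.Opens Y =>
      (⟨f ⁻¹' (U : Set Y), U.isOpen.preimage hf⟩ : TopologicalSpace.Opens X))) :
    Function.Bijective (fun Z : {Z : Set Y // IsLocallyClosed Z} =>
        (⟨f ⁻¹' Z.1, Z.2.preimage hf⟩ : {Z : Set X // IsLocallyClosed Z})) ∧
      Set.BijOn (fun Z : Set Y => f ⁻¹' Z) {Z | Topology.IsConstructible Z} {Z | Topology.IsConstructible Z} ∧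
      Set.BijOn (fun Z : Set Y => f ⁻¹' Z) {Z | Topology.IsLocallyConstructible Z}
        {Z | Topology.IsLocallyConstructible Z} := by
  classical
  have inj : ∀ {Z Z' : Set Y}, VeryDense.LCClopen Z → VeryDense.LCClopen Z' → f ⁻¹' Z = f ⁻¹' Z' → Z = Z' :=
    fun h h' e => VeryDense.preimage_injective (hf := hf) hq h h' e
  refine ⟨⟨fun Z Z' e => Subtype.ext (inj (.of_isLocallyClosed Z.2) (.of_isLocallyClosed Z'.2) (congrArg Subtype.val e)),
    fun W => ?_⟩, ⟨fun Z hZ => VeryDense.isConstructible_preimage (hf := hf) hq hZ,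
      fun Z hZ Z' hZ' e => inj (.of_isConstructible hZ) (.of_isConstructible hZ') e,
      fun W hW => VeryDense.exists_isConstructible (hf := hf) hq hW⟩,
    ⟨fun Z hZ x => ?_, fun Z hZ Z' hZ' e => inj (.of_isLocallyConstructible hZ) (.of_isLocallyConstructible hZ') e,
      fun W hW => ?_⟩⟩
  · obtain ⟨O, C, hO, hC, hW⟩ := W.2
    obtain ⟨O', hO', rfl⟩ := VeryDense.exists_open (hf := hf) hq hO
    obtain ⟨C', hC', e⟩ := VeryDense.exists_open (hf := hf) hq hC.isOpen_compl
    refine ⟨⟨O' ∩ C'ᶜ, hO'.isLocallyClosed.inter hC'.isClosed_compl.isLocallyClosed⟩, Subtype.ext ?_⟩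
    show f ⁻¹' (O' ∩ C'ᶜ) = W.1
    rw [Set.preimage_inter, Set.preimage_compl, e, compl_compl, hW]
  · obtain ⟨U, hU, hUo, hc⟩ := hZ (f x)
    exact ⟨f ⁻¹' U, hf.continuousAt.preimage_mem_nhds hU, hUo.preimage hf,
      VeryDense.isConstructible_preimage (f := U.restrictPreimage f) (hf := hf.restrictPreimage)
        (VeryDense.restrictPreimage_bijective (hf := hf) hq hUo) hc⟩
  · choose V hxV hVo hVc using hW
    choose U hUo hUV using fun x => VeryDense.exists_open (hf := hf) hq (hVo x)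
    have hcov : ⋃ x, U x = Set.univ := inj (.of_isOpen (isOpen_iUnion hUo)) (.of_isOpen isOpen_univ) (by
      rw [Set.preimage_iUnion, Set.preimage_univ, Set.eq_univ_iff_forall]
      exact fun x => Set.mem_iUnion.2 ⟨x, (hUV x).ge (mem_of_mem_nhds (hxV x))⟩)
    have hex : ∀ x, ∃ T : Set ↥(U x), Topology.IsConstructible T ∧
        (U x).restrictPreimage f ⁻¹' T = Subtype.val ⁻¹' W := fun x => by
      refine VeryDense.exists_isConstructible (f := (U x).restrictPreimage f) (hf := hf.restrictPreimage)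
        (VeryDense.restrictPreimage_bijective (hf := hf) hq (hUo x)) ?_
      rw [hUV x]
      exact hVc x
    choose T hT hTW using hex
    let Zx : X → Set Y := fun x => Subtype.val '' T x
    have hlc : ∀ x, VeryDense.LCClopen (Zx x) := fun x =>
      (VeryDense.LCClopen.of_isConstructible (hT x)).image_subtypeVal (hUo x)
    have hpre : ∀ x, f ⁻¹' Zx x = f ⁻¹' U x ∩ W := fun x => by
      ext a
      constructor
      · rintro ⟨⟨_, ha⟩, hb, rfl⟩
        exact ⟨ha, (Set.ext_iff.1 (hTW x) ⟨a, ha⟩).1 hb⟩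
      · exact fun ⟨ha, haW⟩ => ⟨⟨f a, ha⟩, (Set.ext_iff.1 (hTW x) ⟨a, ha⟩).2 haW, rfl⟩
    have hagree : ∀ x x', U x' ∩ Zx x = U x ∩ Zx x' := fun x x' => by
      refine inj ((VeryDense.LCClopen.of_isOpen (hUo x')).inter (hlc x))
        ((VeryDense.LCClopen.of_isOpen (hUo x)).inter (hlc x')) ?_
      rw [Set.preimage_inter, Set.preimage_inter, hpre, hpre, Set.inter_left_comm]
    refine ⟨⋃ x, Zx x, fun y => ?_, ?_⟩
    · obtain ⟨x, hx⟩ := Set.mem_iUnion.1 (hcov.ge (Set.mem_univ y))
      refine ⟨U x, (hUo x).mem_nhds hx, hUo x, ?_⟩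
      convert hT x using 1
      ext a
      refine ⟨fun ha => ?_, fun ha => Set.mem_iUnion.2 ⟨x, a, ha, rfl⟩⟩
      obtain ⟨x', hx'⟩ := Set.mem_iUnion.1 ha
      obtain ⟨b, hb, e⟩ := ((hagree x' x).le ⟨a.2, hx'⟩).2
      rwa [← Subtype.ext e]
    · show f ⁻¹' (⋃ x, Zx x) = W
      rw [Set.preimage_iUnion]
      ext a
      simp only [hpre, Set.mem_iUnion]
      exact ⟨fun ⟨x, hx⟩ => hx.2, fun ha => ⟨a, (hUV a).ge (mem_of_mem_nhds (hxV a)), ha⟩⟩

end Groth.Agent.S4897
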