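import Groth.Statements.S4898
import Groth.Agent.FlatDescent.Flattening
import Groth.Agent.FlatDescent.RestrictFlat
import Groth.Agent.QCohLib.Pullback
import Groth.Agent.QCohLib.TildeFlat
import Groth.Agent.QCohLib.Affine
import Groth.Agent.QCohLib.FiniteType

set_option autoImplicit false
universe u
open CategoryTheory AlgebraicGeometry
open EGA43

namespace Groth.Agent.S4898

open AlgebraicGeometry CategoryTheory CategoryTheory.Limits TensorProduct Groth.Agent.QCohLib Groth.FlatDescent

/-- Flatness of the pullback over an affine chart. -/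
theorem chart {X : Scheme.{u}} {A : Type u} [CommRing A] (f : X ⟶ Spec (CommRingCat.of A))
    (F : X.Modules) [F.IsQuasicoherent] {B : Type u} [CommRing B] [Algebra A B]
    (k : Spec (CommRingCat.of B) ⟶ X) [IsOpenImmersion k]
    (hk : k ≫ f = Spec.map (CommRingCat.ofHom (algebraMap A B)))
    (M : ModuleCat.{u} (CommRingCat.of B)) (eM : tilde M ≅ F.restrict k) [Module A M] [IsScalarTower A B M]
    (A' : Type u) [CommRing A'] [Algebra A A'] :
    (∀ x' : ↥(pullback f (Spec.map (CommRingCat.ofHom (algebraMap A A')))),
        pullback.fst f (Spec.map (CommRingCat.ofHom (algebraMap A A'))) x' ∈ Set.range k →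
        FlatMod.IsFlatOverAt (pullback.snd f (Spec.map (CommRingCat.ofHom (algebraMap A A'))))
          ((Scheme.Modules.pullback (pullback.fst f (Spec.map (CommRingCat.ofHom (algebraMap A A'))))).obj F) x') ↔
      Module.Flat A' (A' ⊗[A] M) := by
  let g := Spec.map (CommRingCat.ofHom (algebraMap A A'))
  let B' := B ⊗[A] A'
  let ψ : CommRingCat.of B ⟶ CommRingCat.of B' := CommRingCat.ofHom Algebra.TensorProduct.includeLeftRingHom
  let m := pullback.map (Spec.map (CommRingCat.ofHom (algebraMap A B))) g f g k (𝟙 _) (𝟙 _)
    (by rw [Category.comp_id, hk]) (by simp)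
  let k' : Spec (CommRingCat.of B') ⟶ pullback f g := (pullbackSpecIso A B A').inv ≫ m
  haveI : IsOpenImmersion k' := inferInstance
  have hfst : k' ≫ pullback.fst f g = Spec.map ψ ≫ k := by
    simp only [k', m, Category.assoc, pullback.lift_fst]
    exact pullbackSpecIso_inv_fst_assoc A B A' k
  have hsnd : k' ≫ pullback.snd f g =
      Spec.map (CommRingCat.ofHom (Algebra.TensorProduct.includeRight (R := A) (A := B) (B := A')).toRingHom) := by
    simp only [k', m, Category.assoc, pullback.lift_snd, Category.comp_id]
    exact pullbackSpecIso_inv_snd A B A'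
  have hrange : ∀ x' : ↥(pullback f g), pullback.fst f g x' ∈ Set.range k → x' ∈ Set.range k' := by
    intro x' hx'
    have h1 : x' ∈ Set.range m := by
      rw [Scheme.Pullback.range_map]
      exact ⟨hx', ⟨pullback.snd f g x', rfl⟩⟩
    obtain ⟨z, rfl⟩ := h1
    obtain ⟨w, rfl⟩ := (pullbackSpecIso A B A').inv.surjective z
    exact ⟨w, rfl⟩
  let F' := (Scheme.Modules.pullback (pullback.fst f g)).obj F
  let N := (ModuleCat.extendScalars ψ.hom).obj M
  let e : tilde N ≅ F'.restrict k' :=
    (pullbackTildeIso ψ).app M ≪≫ (Scheme.Modules.pullback (Spec.map ψ)).mapIso eM ≪≫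
      pullbackRestrictIso (pullback.fst f g) F (Spec.map ψ) k' k hfst.symm
  letI : Algebra A' B' := Algebra.TensorProduct.rightAlgebra
  have hsnd' : k' ≫ pullback.snd f g = Spec.map (CommRingCat.ofHom (algebraMap A' B')) := hsnd
  letI : Module A' N := Module.compHom N (algebraMap A' B')
  haveI : IsScalarTower A' B' N := IsScalarTower.of_algebraMap_smul fun _ _ => rfl
  have h1 : (∀ x' : ↥(pullback f g), pullback.fst f g x' ∈ Set.range k →
      FlatMod.IsFlatOverAt (pullback.snd f g) F' x') ↔
      FlatMod.IsFlatOver (Spec.map (CommRingCat.ofHom (algebraMap A' B'))) (tilde N) := by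
    rw [← hsnd']
    constructor
    · intro h w
      rw [isFlatOverAt_congr e, isFlatOverAt_restrict]
      exact h _ ⟨(Spec.map ψ) w, by rw [← Scheme.Hom.comp_apply, ← hfst]; rfl⟩
    · intro h x' hx'
      obtain ⟨w, rfl⟩ := hrange x' hx'
      rw [← isFlatOverAt_restrict, ← isFlatOverAt_congr e]
      exact h w
  refine h1.trans ((isFlatOver_tilde_iff N).trans ?_)
  letI : Algebra B B' := Algebra.TensorProduct.leftAlgebra
  let e₁ : (ModuleCat.restrictScalars ψ.hom).obj (ModuleCat.of B' B') ≃ₗ[B] B' :=
    { toFun := fun x => x
      map_add' := fun _ _ => rfl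
      map_smul' := fun b x => (Algebra.smul_def (A := B') b x).symm
      invFun := fun x => x
      left_inv := fun _ => rfl
      right_inv := fun _ => rfl }
  let T₀ := TensorProduct.congr e₁ (LinearEquiv.refl B M)
  let T : N ≃+ B' ⊗[B] M :=
    { toFun := fun n => T₀ n
      map_add' := fun x y => T₀.map_add x y
      invFun := fun z => T₀.symm z
      left_inv := fun n => T₀.symm_apply_apply n
      right_inv := fun z => T₀.apply_symm_apply z }
  let c := Algebra.IsPushout.cancelBaseChange A A' B B' M
  have hT : ∀ (a : A') (n : N), T (algebraMap A' B' a • n) = algebraMap A' B' a • T n := by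
    intro a
    let f₁ : N →+ B' ⊗[B] M := T.toAddMonoidHom.comp (DistribSMul.toAddMonoidHom N (algebraMap A' B' a))
    let f₂ : N →+ B' ⊗[B] M := (DistribSMul.toAddMonoidHom (B' ⊗[B] M) (algebraMap A' B' a)).comp T.toAddMonoidHom
    suffices h : ∀ n, f₁ n = f₂ n from h
    intro n
    induction n using TensorProduct.induction_on with
    | zero => exact (map_zero f₁).trans (map_zero f₂).symm
    | add x y hx hy => exact (map_add f₁ x y).trans ((congrArg₂ (· + ·) hx hy).trans (map_add f₂ x y).symm)
    | tmul x m => rfl
  let j : N ≃ₗ[A'] A' ⊗[A] M :=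
    { toFun := fun n => c (T n)
      map_add' := fun x y => by rw [map_add, map_add]
      map_smul' := fun a n => by
        show c (T (algebraMap A' B' a • n)) = a • c (T n)
        rw [hT, algebraMap_smul]
        exact c.map_smul a _
      invFun := fun z => T.symm (c.symm z)
      left_inv := fun n => by simp
      right_inv := fun z => by simp }
  exact Module.Flat.equiv_iff j

open CategoryTheory.Limits in
/-- Over an affine irreducible base, tested on affine base changes, to which the general statement
reduces: let A be a commutative ring whose spectrum is irreducible, f : X ⟶ Spec A a morphism of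
finite presentation and F a quasi-coherent O_X-module of finite presentation. Then there are an
element h of A which is not nilpotent (so that U = Spec A_h is a nonempty open subset of Spec A) and
a finitely generated ideal J of A_h contained in the nilradical (so that the closed subscheme Z =
V(J) of U, of finite presentation over U, has the same underlying space as U) such that for every
A_h-algebra A' the pullback of F to X ×_{Spec A} Spec A' is flat over Spec A' if and only if J
generates the zero ideal of A', i.e. if and only if Spec A' ⟶ U factors through Z. (The published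
statement also asserts that, for a finite affine open cover (W_i) of X, U can be chosen so that the
sections of the pullback of F over each W_i ×_{Spec A} Spec A' form a free A'-module whenever Spec
A' ⟶ U factors through Z; this row omits that assertion.) -/
theorem result {A : Type u} [CommRing A] [IrreducibleSpace (PrimeSpectrum A)]
    {X : Scheme.{u}} (f : X ⟶ Spec (CommRingCat.of A))
    [LocallyOfFinitePresentation f] [QuasiCompact f] [QuasiSeparated f]
    (F : X.Modules) [Coh.IsQCoh F] (hF : CohB1.IsFP F) :
    ∃ (h : A) (_ : ¬ IsNilpotent h) (J : Ideal (Localization.Away h)) (_ : J.FG)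
      (_ : J ≤ nilradical (Localization.Away h)),
      ∀ (A' : Type u) [CommRing A'] [Algebra (Localization.Away h) A'],
        letI g : Spec (CommRingCat.of A') ⟶ Spec (CommRingCat.of A) :=
          Spec.map (CommRingCat.ofHom ((algebraMap (Localization.Away h) A').comp (algebraMap A (Localization.Away h))))
        (FlatMod.IsFlatOver (pullback.snd f g) ((Scheme.Modules.pullback (pullback.fst f g)).obj F) ↔
          Ideal.map (algebraMap (Localization.Away h) A') J = ⊥) := by
  classical
  haveI : CompactSpace X := QuasiCompact.compactSpace_of_compactSpace f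
  have hcov : (Set.univ : Set X) ⊆ ⋃ U : X.affineOpens, (U.1 : Set X) := fun x _ => by
    obtain ⟨_, ⟨U, hU, rfl⟩, hxU, -⟩ := X.isBasis_affineOpens.exists_subset_of_mem_open (Set.mem_univ x) isOpen_univ
    exact Set.mem_iUnion.mpr ⟨⟨U, hU⟩, hxU⟩
  obtain ⟨T, hT⟩ := isCompact_univ.elim_finite_subcover _ (fun U : X.affineOpens => U.1.2) hcov
  have key : ∀ U : X.affineOpens, ∃ h : A, ¬IsNilpotent h ∧ ∃ J : Ideal A, J.FG ∧ J ≤ nilradical A ∧
      ∀ (A' : Type u) [CommRing A'] [Algebra A A'], IsUnit (algebraMap A A' h) →
        ((∀ x' : ↥(pullback f (Spec.map (CommRingCat.ofHom (algebraMap A A')))),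
          pullback.fst f (Spec.map (CommRingCat.ofHom (algebraMap A A'))) x' ∈ U.1 →
          FlatMod.IsFlatOverAt (pullback.snd f (Spec.map (CommRingCat.ofHom (algebraMap A A'))))
            ((Scheme.Modules.pullback (pullback.fst f (Spec.map (CommRingCat.ofHom (algebraMap A A'))))).obj F) x') ↔
          J.map (algebraMap A A') = ⊥) := by
    rintro ⟨U, hU⟩
    obtain ⟨φ, hφ⟩ := Spec.map_surjective (hU.fromSpec ≫ f)
    letI : Algebra A Γ(X, U) := φ.hom.toAlgebra
    have hk : hU.fromSpec ≫ f = Spec.map (CommRingCat.ofHom (algebraMap A Γ(X, U))) := hφ.symm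
    haveI : Algebra.FinitePresentation A Γ(X, U) := by
      have : LocallyOfFinitePresentation (Spec.map φ) := hφ ▸ inferInstance
      exact (HasRingHomProperty.Spec_iff (P := @LocallyOfFinitePresentation)).mp this
    haveI : (F.restrict hU.fromSpec).IsQuasicoherent := inferInstance
    let M : ModuleCat.{u} (CommRingCat.of Γ(X, U)) := ΓR (F.restrict hU.fromSpec)
    haveI : Module.FinitePresentation Γ(X, U) M :=
      haveI := finitePresentation_sections (M := F) hF hU
      Module.FinitePresentation.of_equiv (onSpecΓ F hU).symm
    letI : Module A M := Module.compHom M (algebraMap A Γ(X, U))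
    haveI : IsScalarTower A Γ(X, U) M := IsScalarTower.of_algebraMap_smul fun _ _ => rfl
    obtain ⟨h, hh, J, hJ, hJn, huniv⟩ := exists_flattening Γ(X, U) M (A := A)
    refine ⟨h, hh, J, hJ, hJn, fun A' _ _ hu => ?_⟩
    rw [← huniv A' hu, ← chart f F hU.fromSpec hk M (counitIso (F.restrict hU.fromSpec)) A']
    refine forall_congr' fun x' => imp_congr_left ?_
    rw [hU.range_fromSpec]
    rfl
  choose h hh J hJfg hJn huniv using key
  have hnil : (nilradical A).IsPrime := PrimeSpectrum.irreducibleSpace_iff_isPrime_nilradical.mp inferInstance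
  let H : A := ∏ U ∈ T, h U
  have hH : ¬IsNilpotent H := fun hc => by
    obtain ⟨U, -, hU⟩ := (Ideal.IsPrime.prod_mem_iff (hp := hnil)).mp (mem_nilradical.mpr hc)
    exact hh U (mem_nilradical.mp hU)
  let J' : Ideal A := T.sup J
  refine ⟨H, hH, J'.map (algebraMap A (Localization.Away H)), Ideal.FG.map (Submodule.fg_finset_sup T J fun U _ => hJfg U) _,
    ?_, fun A' _ _ => ?_⟩
  · rw [Ideal.map_le_iff_le_comap]
    refine Finset.sup_le fun U _ a ha => ?_
    rw [Ideal.mem_comap, mem_nilradical]
    exact (mem_nilradical.mp (hJn U ha)).map _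
  · letI : Algebra A A' := ((algebraMap (Localization.Away H) A').comp (algebraMap A (Localization.Away H))).toAlgebra
    have hu : ∀ U ∈ T, IsUnit (algebraMap A A' (h U)) := fun U hU => by
      have h1 : IsUnit (algebraMap A A' H) :=
        (IsLocalization.Away.algebraMap_isUnit (S := Localization.Away H) H).map (algebraMap (Localization.Away H) A')
      rw [map_prod] at h1
      exact (IsUnit.prod_iff.mp h1) U hU
    rw [Ideal.map_map]
    show FlatMod.IsFlatOver (pullback.snd f (Spec.map (CommRingCat.ofHom (algebraMap A A')))) _ ↔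
      J'.map (algebraMap A A') = ⊥
    constructor
    · intro hflat
      rw [eq_bot_iff, Ideal.map_le_iff_le_comap]
      exact Finset.sup_le fun U hU => Ideal.map_le_iff_le_comap.mp
        ((huniv U A' (hu U hU)).mp fun x' _ => hflat x').le
    · intro hJ' x'
      obtain ⟨U, hU, hx⟩ := Set.mem_iUnion₂.mp (hT (Set.mem_univ (pullback.fst f _ x')))
      refine (huniv U A' (hu U hU)).mpr ?_ x' hx
      exact le_bot_iff.mp ((Ideal.map_mono (Finset.le_sup hU)).trans hJ'.le)

end Groth.Agent.S4898
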