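import Groth.Statements.S4899
import Groth.Agent.FlatDescent.Joint.Scheme

set_option autoImplicit false
universe u
open CategoryTheory AlgebraicGeometry
open EGA43

namespace Groth.Agent.S4899

open TensorProduct Groth.FlatDescent.Joint in
open CategoryTheory.Limits in
/-- Let A be an Artinian local ring, f : X ⟶ Spec A locally of finite type, F a coherent O_X-module and
x a point of X; let (u_i : A → A_i) be a family of ring homomorphisms into local rings such that an
element of A killed by every u_i is zero. Assume (ii) that the residue field k(x) is a primary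
extension of the residue field of the base (every element of k(x) which is separable algebraic over
it already lies in it; automatic when that field is separably closed), and (iii) that for every i
there is a point x' of X_i = X ×_{Spec A} Spec A_i above x and above the closed point of Spec A_i at
which the pullback of F is flat over Spec A_i. Then F is f-flat at x. -/
theorem result {A : Type u} [CommRing A]
    [IsArtinianRing A] [IsLocalRing A] {X : Scheme.{u}} (f : X ⟶ Spec (CommRingCat.of A))
    [LocallyOfFiniteType f] (F : X.Modules) (hF : Coh.IsCoh F) (x : X)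
    {ι : Type u} (A' : ι → Type u) [∀ i, CommRing (A' i)] [∀ i, IsLocalRing (A' i)] (u : ∀ i, A →+* A' i)
    (hu : ∀ a : A, (∀ i, u i a = 0) → a = 0)
    (hprim : letI := (f.residueFieldMap x).hom.toAlgebra
      ∀ a : ↑(X.residueField x), IsSeparable ↑((Spec (CommRingCat.of A)).residueField (f x)) a →
        a ∈ (f.residueFieldMap x).hom.range)
    (hflat : ∀ i : ι, ∃ x' : ↥(pullback f (Spec.map (CommRingCat.ofHom (u i)))),
      pullback.fst f (Spec.map (CommRingCat.ofHom (u i))) x' = x ∧
      pullback.snd f (Spec.map (CommRingCat.ofHom (u i))) x' = IsLocalRing.closedPoint (A' i) ∧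
      FlatMod.IsFlatOverAt (pullback.snd f (Spec.map (CommRingCat.ofHom (u i))))
        ((Scheme.Modules.pullback (pullback.fst f (Spec.map (CommRingCat.ofHom (u i))))).obj F) x') :
    FlatMod.IsFlatOverAt f F x := by
  letI : ∀ i, Algebra A (A' i) := fun i => (u i).toAlgebra
  haveI : ∀ i, IsLocalHom (algebraMap A (A' i)) := fun i =>
    ((IsLocalRing.local_hom_TFAE (algebraMap A (A' i))).out 0 2 rfl rfl).mpr (Ideal.map_le_iff_le_comap.mpr
      (IsLocalRing.eq_maximalIdeal ((IsArtinianRing.isPrime_iff_isMaximal _).mp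
        (Ideal.IsPrime.comap (algebraMap A (A' i))))).ge)
  haveI := hF.1
  refine isFlatOverAt_of_joint f F hF x A' hu ?_
  intro B _ _ k _ hk M eM _ _ Q hQ _ i W E _ _ _ _ _ _ _ _ φ hφ z hz
  obtain ⟨k', hk₁, hk₂, hk₃, hk₄⟩ := exists_chart f F k hk M eM (A' i)
  letI : Algebra (A' i) (B ⊗[A] A' i) := Algebra.TensorProduct.rightAlgebra
  obtain ⟨x', hx₁, hx₂, hx₃⟩ := hflat i
  obtain ⟨w, rfl⟩ := hk₃ x' ⟨Q, hQ.trans hx₁.symm⟩
  have hwB : PrimeSpectrum.comap (Algebra.TensorProduct.includeLeftRingHom : B →+* B ⊗[A] A' i) w = Q :=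
    k.injective ((hk₁ w).symm.trans (hx₁.trans hQ.symm))
  haveI := w.2
  haveI : Module.Flat (A' i) (LocalizedModule w.asIdeal.primeCompl ((B ⊗[A] A' i) ⊗[B] M)) := (hk₄ w).mp hx₃
  obtain ⟨c, hc, hcq⟩ := exists_notMem_ann (fun _ => rfl) φ hφ z hz w.asIdeal
  refine exists_mem_map_nzd_of_primary (A' i) Q.asIdeal ?_ w.asIdeal (congrArg PrimeSpectrum.asIdeal hwB)
    (congrArg PrimeSpectrum.asIdeal ((hk₂ w).symm.trans hx₂)) _ fun hle => hcq (hle hc)
  exact separableClosure_eq_bot_of_primary f k hk Q x hQ hprim

end Groth.Agent.S4899
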