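import Groth.Statements.S4903
import Groth.Agent.VeryDense.Local
import Mathlib.Tactic.TFAE
-- import your own Groth.Agent.* helpers here

set_option autoImplicit false
universe u
open EGA43

namespace Groth.Agent.S4903

/-- Conditions a), b), b′), c″), c‴) and its last assertion: given a topological space X and a subset X₀
⊆ X, the statements below are equivalent. Every locally closed subset of X that is nonempty
intersects X₀. Every nonempty locally quasi-constructible subset of X intersects X₀; here a subset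
is locally quasi-constructible when each point of X has an open neighbourhood on which the subset's
trace can be written as a union of finitely many locally closed sets. Each locally
quasi-constructible Z ⊆ X is contained in the closure of Z ∩ X₀. Any two quasi-constructible subsets
of X (unions of finitely many locally closed sets) having equal traces on X₀ coincide. Any two
locally quasi-constructible subsets of X having equal traces on X₀ coincide. Assuming these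
conditions, each locally quasi-constructible subset of the subspace X₀ arises as the trace on X₀ of
some locally quasi-constructible subset of X. -/
theorem result {X : Type u} [TopologicalSpace X] (X₀ : Set X) :
    [∀ Z : Set X, IsLocallyClosed Z → Z.Nonempty → (Z ∩ X₀).Nonempty,
      ∀ Z : Set X, (∀ x : X, ∃ U : Set X, IsOpen U ∧ x ∈ U ∧ ∃ T : Set (Set X), T.Finite ∧ (∀ t ∈ T, IsLocallyClosed t) ∧ U ∩ Z = ⋃₀ T) → Z.Nonempty → (Z ∩ X₀).Nonempty,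
      ∀ Z : Set X, (∀ x : X, ∃ U : Set X, IsOpen U ∧ x ∈ U ∧ ∃ T : Set (Set X), T.Finite ∧ (∀ t ∈ T, IsLocallyClosed t) ∧ U ∩ Z = ⋃₀ T) → Z ⊆ closure (Z ∩ X₀),
      ∀ Z Z' : Set X, (∃ T : Set (Set X), T.Finite ∧ (∀ t ∈ T, IsLocallyClosed t) ∧ Z = ⋃₀ T) → (∃ T : Set (Set X), T.Finite ∧ (∀ t ∈ T, IsLocallyClosed t) ∧ Z' = ⋃₀ T) → Z ∩ X₀ = Z' ∩ X₀ → Z = Z',
      ∀ Z Z' : Set X, (∀ x : X, ∃ U : Set X, IsOpen U ∧ x ∈ U ∧ ∃ T : Set (Set X), T.Finite ∧ (∀ t ∈ T, IsLocallyClosed t) ∧ U ∩ Z = ⋃₀ T) → (∀ x : X, ∃ U : Set X, IsOpen U ∧ x ∈ U ∧ ∃ T : Set (Set X), T.Finite ∧ (∀ t ∈ T, IsLocallyClosed t) ∧ U ∩ Z' = ⋃₀ T) → Z ∩ X₀ = Z' ∩ X₀ → Z = Z'].TFAE ∧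
    ((∀ Z : Set X, IsLocallyClosed Z → Z.Nonempty → (Z ∩ X₀).Nonempty) →
      ∀ Z₀ : Set ↥X₀, (∀ x : ↥X₀, ∃ U : Set ↥X₀, IsOpen U ∧ x ∈ U ∧ ∃ T : Set (Set ↥X₀), T.Finite ∧ (∀ t ∈ T, IsLocallyClosed t) ∧ U ∩ Z₀ = ⋃₀ T) →
        ∃ Z : Set X, (∀ x : X, ∃ U : Set X, IsOpen U ∧ x ∈ U ∧ ∃ T : Set (Set X), T.Finite ∧ (∀ t ∈ T, IsLocallyClosed t) ∧ U ∩ Z = ⋃₀ T) ∧ Subtype.val ⁻¹' Z = Z₀) := by
  classical
  have h1 : ∀ Z : Set X, (∃ T : Set (Set X), T.Finite ∧ (∀ t ∈ T, IsLocallyClosed t) ∧ Z = ⋃₀ T) →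
      ∀ x : X, ∃ U : Set X, IsOpen U ∧ x ∈ U ∧ ∃ T : Set (Set X), T.Finite ∧ (∀ t ∈ T, IsLocallyClosed t) ∧ U ∩ Z = ⋃₀ T :=
    fun Z ⟨T, hT, hlc, e⟩ x => ⟨Set.univ, isOpen_univ, trivial, T, hT, hlc, by rw [Set.univ_inter, e]⟩
  refine ⟨?_, fun hd Z₀ hZ₀ => ?_⟩
  · tfae_have 1 → 5 := fun hd Z Z' h h' e =>
      (VeryDense.LCClopen.of_locallyQuasiConstructible h).eq_of_inter_eq hd
        (VeryDense.LCClopen.of_locallyQuasiConstructible h') e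
    tfae_have 5 → 4 := fun h Z Z' hZ hZ' e => h Z Z' (h1 Z hZ) (h1 Z' hZ') e
    tfae_have 4 → 1 := fun h Z hZ hne => by
      by_contra hc
      exact hne.ne_empty (h Z ∅ ⟨{Z}, Set.finite_singleton Z, fun t ht => ht ▸ hZ, (Set.sUnion_singleton Z).symm⟩
        ⟨∅, Set.finite_empty, fun t ht => ht.elim, Set.sUnion_empty.symm⟩
        (by rw [Set.empty_inter, ← Set.not_nonempty_iff_eq_empty]; exact hc))
    tfae_have 1 → 3 := fun hd Z hZ z hz => by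
      rw [mem_closure_iff]
      intro O hO hzO
      obtain ⟨U, hU, hzU, T, -, hlc, e⟩ := hZ z
      obtain ⟨t, ht, hzt⟩ := e.le ⟨hzU, hz⟩
      obtain ⟨a, ⟨haO, hat⟩, haX⟩ := hd (O ∩ t) (hO.isLocallyClosed.inter (hlc t ht)) ⟨z, hzO, hzt⟩
      exact ⟨a, haO, (e.ge ⟨t, ht, hat⟩).2, haX⟩
    tfae_have 3 → 2 := fun h Z hZ hne => by
      obtain ⟨z, hz⟩ := hne
      exact closure_nonempty_iff.1 ⟨z, h Z hZ hz⟩
    tfae_have 2 → 1 := fun h Z hZ hne => h Z (h1 Z ⟨{Z}, Set.finite_singleton Z, fun t ht => ht ▸ hZ, (Set.sUnion_singleton Z).symm⟩) hne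
    tfae_finish
  · choose U₀ hU₀ hxU₀ T hTf hTlc he using hZ₀
    choose U hUo hUe using fun x => isOpen_induced_iff.1 (hU₀ x)
    have hlift : ∀ x, ∀ t ∈ T x, ∃ s : Set X, IsLocallyClosed s ∧ Subtype.val ⁻¹' s = t := fun x t ht => by
      obtain ⟨O, C, hO, hC, rfl⟩ := hTlc x t ht
      obtain ⟨O', hO', rfl⟩ := isOpen_induced_iff.1 hO
      obtain ⟨C', hC', rfl⟩ := isClosed_induced_iff.1 hC
      exact ⟨O' ∩ C', hO'.isLocallyClosed.inter hC'.isLocallyClosed, rfl⟩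
    choose s hs hst using hlift
    let Zx : ↥X₀ → Set X := fun x => U x ∩ ⋃ (t : Set ↥X₀) (ht : t ∈ T x), s x t ht
    have hZx : ∀ x, ∃ S : Set (Set X), S.Finite ∧ (∀ t ∈ S, IsLocallyClosed t) ∧ Zx x = ⋃₀ S := fun x => by
      have := (hTf x).to_subtype
      refine ⟨Set.range fun t : T x => U x ∩ s x t.1 t.2, Set.finite_range _, ?_, ?_⟩
      · rintro _ ⟨t, rfl⟩
        exact (hUo x).isLocallyClosed.inter (hs x t.1 t.2)
      · simp only [Zx, Set.sUnion_range, Set.inter_iUnion]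
        ext a
        simp
    have hpre : ∀ x (a : ↥X₀), (a : X) ∈ Zx x ↔ a ∈ U₀ x ∧ a ∈ Z₀ := fun x a => by
      have hU : (a : X) ∈ U x ↔ a ∈ U₀ x := Set.ext_iff.1 (hUe x) a
      constructor
      · rintro ⟨ha, hb⟩
        obtain ⟨t, ht, hat⟩ := Set.mem_iUnion₂.1 hb
        exact (he x).ge ⟨t, ht, (Set.ext_iff.1 (hst x t ht) a).1 hat⟩
      · intro ha
        obtain ⟨t, ht, hat⟩ := (he x).le ha
        exact ⟨hU.2 ha.1, Set.mem_iUnion₂.2 ⟨t, ht, (Set.ext_iff.1 (hst x t ht) a).2 hat⟩⟩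
    have hcov : ∀ y : X, ∃ x, y ∈ U x := fun y => by
      by_contra hc
      obtain ⟨a, ha, haX⟩ := hd (⋃ x, U x)ᶜ (isOpen_iUnion hUo).isClosed_compl.isLocallyClosed
        ⟨y, fun h => hc (Set.mem_iUnion.1 h)⟩
      exact ha (Set.mem_iUnion.2 ⟨⟨a, haX⟩, (Set.ext_iff.1 (hUe _) ⟨a, haX⟩).2 (hxU₀ _)⟩)
    have hagree : ∀ x x', U x' ∩ Zx x = U x ∩ Zx x' := fun x x' => by
      refine VeryDense.LCClopen.eq_of_inter_eq hd
        ((VeryDense.LCClopen.of_isOpen (hUo x')).inter (.of_quasiConstructible (hZx x)))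
        ((VeryDense.LCClopen.of_isOpen (hUo x)).inter (.of_quasiConstructible (hZx x'))) ?_
      ext a
      constructor
      · rintro ⟨⟨ha', ha⟩, haX⟩
        exact ⟨⟨ha.1, (hpre x' ⟨a, haX⟩).2 ⟨(Set.ext_iff.1 (hUe x') _).1 ha', ((hpre x ⟨a, haX⟩).1 ha).2⟩⟩, haX⟩
      · rintro ⟨⟨ha', ha⟩, haX⟩
        exact ⟨⟨ha.1, (hpre x ⟨a, haX⟩).2 ⟨(Set.ext_iff.1 (hUe x) _).1 ha', ((hpre x' ⟨a, haX⟩).1 ha).2⟩⟩, haX⟩
    refine ⟨⋃ x, Zx x, fun y => ?_, ?_⟩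
    · obtain ⟨x, hx⟩ := hcov y
      obtain ⟨S, hS, hSlc, hSe⟩ := hZx x
      refine ⟨U x, hUo x, hx, S, hS, hSlc, ?_⟩
      rw [← hSe]
      refine subset_antisymm (fun a ha => ?_) (fun a ha => ⟨ha.1, Set.mem_iUnion.2 ⟨x, ha⟩⟩)
      obtain ⟨x', hx'⟩ := Set.mem_iUnion.1 ha.2
      exact ((hagree x' x).le ⟨ha.1, hx'⟩).2
    · ext a
      simp only [Set.mem_preimage, Set.mem_iUnion, hpre]
      exact ⟨fun ⟨x, hx⟩ => hx.2, fun ha => ⟨a, hxU₀ a, ha⟩⟩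

end Groth.Agent.S4903
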