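import Groth.Statements.S4914
import Groth.Agent.OpenAt.Basic

set_option autoImplicit false
open CategoryTheory AlgebraicGeometry
universe u v w
open EGA43

namespace Groth.Agent.S4914

/-- Let ψ : X → Y be a continuous map, x a point of X, and (Y_i) a locally finite covering of Y by
closed subsets. If for every index i with ψ x ∈ Y_i the restriction ψ⁻¹(Y_i) → Y_i of ψ is open at
x, then ψ is open at x. -/
theorem result {α : Type u} {β : Type v} {ι : Type w} [TopologicalSpace α]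
    [TopologicalSpace β] (ψ : α → β) (hψ : Continuous ψ) (x : α) (Y : ι → Set β) (hY : LocallyFinite Y)
    (hcl : ∀ i, IsClosed (Y i)) (hcov : ⋃ i, Y i = Set.univ)
    (h : ∀ i, ∀ hi : ψ x ∈ Y i, EGA43.IsOpenAt ((Y i).restrictPreimage ψ) ⟨x, hi⟩) :
    EGA43.IsOpenAt ψ x := by
  intro U hU
  have hfin : {i | ψ x ∈ Y i}.Finite := hY.point_finite (ψ x)
  have hR : ∀ i, ψ x ∈ Y i → ∀ᶠ b in nhds (ψ x), b ∈ Y i → b ∈ ψ '' U := by
    intro i hi
    have h1 := h i hi (Subtype.val ⁻¹' U) (continuous_subtype_val.continuousAt.preimage_mem_nhds hU)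
    rw [nhds_subtype] at h1
    obtain ⟨W, hW, hWU⟩ := h1
    refine Filter.mem_of_superset hW fun b hb hbi => ?_
    obtain ⟨a, ha, e⟩ := @hWU ⟨b, hbi⟩ hb
    exact ⟨a.1, ha, congrArg Subtype.val e⟩
  have h2 : ∀ᶠ b in nhds (ψ x), ∀ i ∈ {i | ψ x ∈ Y i}, b ∈ Y i → b ∈ ψ '' U :=
    (Filter.eventually_all_finite hfin).mpr hR
  have h3 : ∀ᶠ b in nhds (ψ x), ∀ i, b ∈ Y i → ψ x ∈ Y i := by
    filter_upwards [hY.iInter_compl_mem_nhds hcl (ψ x)] with b hb i hi
    by_contra hc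
    exact Set.mem_iInter₂.mp hb i hc hi
  filter_upwards [h2, h3] with b hb2 hb3
  obtain ⟨_, ⟨i, rfl⟩, hi⟩ := Set.eq_univ_iff_forall.mp hcov b
  exact hb2 i (hb3 i hi) hi

end Groth.Agent.S4914
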