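import Groth.Statements.S4917
import Groth.Agent.GeomUnib.EquidimCriterion
import Groth.Agent.GeomUnib.FibreGenGeneral
import Groth.Agent.GeomUnib.Crit
-- import your own Groth.Agent.* helpers here

set_option autoImplicit false
open CategoryTheory AlgebraicGeometry
universe u v w
open EGA43

namespace Groth.Agent.S4917

/-- Assume Y is a locally Noetherian scheme and X is an irreducible scheme, and consider a dominant
morphism f : X ⟶ Y that is locally of finite type. Fix a point x of X and write y = f x. If, for
every irreducible component of the fibre X_y that contains x, the morphism f is open at the generic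
point of that component, then f is equidimensional at x. -/
theorem result {X Y : Scheme.{u}} [IsLocallyNoetherian Y]
    [IrreducibleSpace X] (f : X ⟶ Y) [LocallyOfFiniteType f] [IsDominant f] (x : X)
    (h : ∀ z : ↥(f.fiber (f.base x)), f.asFiber x ∈ closure {z} →
      (∀ z' : ↥(f.fiber (f.base x)), z ∈ closure {z'} → z' = z) →
      EGA43.IsOpenAt f.base ((f.fiberι (f.base x)).base z)) :
    EGA43.IsEquidimAt f x := by
  have hd : Dense (Set.range f.base) := f.denseRange
  haveI : Nonempty X := ⟨x⟩
  have hg : IsGenericPoint (f.base (genericPoint X)) Set.univ := by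
    have h1 := ((genericPoint_spec X).image f.continuous)
    rwa [Set.image_univ, hd.closure_eq] at h1
  obtain ⟨n, hn, ⟨u, hu, hux, hun⟩, -⟩ := FibreDim.exists_fibreDimAt_eq f x
  obtain ⟨m, hm, hmu, hdm, hmax⟩ := GeomUnib.exists_maximal_gen f u
  have hmy : f.base m = f.base x := hm.trans hu
  obtain ⟨z, hzm⟩ : m ∈ Set.range (f.fiberι (f.base x)) := by
    rw [f.range_fiberι]; exact hmy
  have hopen' := h z (by
      rw [← specializes_iff_mem_closure]
      refine (f.fiberι (f.base x)).isEmbedding.toIsInducing.specializes_iff.1 ?_
      rw [hzm, f.fiberι_asFiber]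
      exact hmu.trans hux) (fun z' hz' => by
      refine (f.fiberι (f.base x)).isEmbedding.injective ?_
      rw [hzm]
      refine hmax _ ?_ ?_
      · have : (f.fiberι (f.base x)).base z' ∈ Set.range (f.fiberι (f.base x)) := ⟨z', rfl⟩
        rw [f.range_fiberι] at this
        exact (this : f.base ((f.fiberι (f.base x)).base z') = f.base x).trans hmy.symm
      · rw [← hzm, ← specializes_iff_mem_closure]
        exact (specializes_iff_mem_closure.2 hz').map (f.fiberι (f.base x)).continuous)
  rw [hzm] at hopen'
  obtain ⟨v, hvm, hv, hd'⟩ := GeomUnib.exists_gen_of_isOpenAt f m hmax hopen' (f.base (genericPoint X))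
    (hg.specializes trivial)
  refine GeomUnib.isEquidimAt_of_generic f x (genericPoint X) genericPoint_specializes
    (fun y _ => hg.specializes trivial) ?_
  exact hn.trans_le (((hun.ge.trans hdm).trans hd').trans
    (FibreDim.fdim_mono f (genericPoint_specializes v) hv.symm))

end Groth.Agent.S4917
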