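import Groth.Statements.S4919
import Groth.Agent.GeomUnib.DominantComp
import Groth.Agent.GeomUnib.SectionDimSemi
-- import your own Groth.Agent.* helpers here

set_option autoImplicit false
open CategoryTheory AlgebraicGeometry
universe u v w
open EGA43

namespace Groth.Agent.S4919

/-- Let Y be an irreducible locally Noetherian scheme with generic point η, f : X ⟶ Y a morphism locally
of finite type, y a point of Y and Z an irreducible component of the fibre f⁻¹(y) (a maximal
irreducible subset of f⁻¹(y), with the topology induced from X) such that f is open at the generic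
point ζ of Z. Then there is an irreducible component X' of X containing Z and dominating Y such that
the local dimension of X' ∩ f⁻¹(y) at ζ equals dim Z, and dim Z = dim (X' ∩ f⁻¹(η)). (The published
statement writes the middle term as the dimension of the whole of X' ∩ f⁻¹(y); its proof yields only
the local dimension at the generic point of Z, and the global equality can fail: for the
endomorphism (a, b) ↦ (ab, b² − b) of the affine plane over a field, the fibre over the origin is
the line b = 0 together with the isolated point (0, 1), at which the map is étale, hence open; with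
Z that point, X' is the whole plane, X' ∩ f⁻¹(y) has dimension 1 and dim Z = 0. So the local form is
stated here.) -/
theorem result {X Y : Scheme.{u}} [IrreducibleSpace Y]
    [IsLocallyNoetherian Y] (f : X ⟶ Y) [LocallyOfFiniteType f] (y : Y) (Z : Set X)
    (hZy : Z ⊆ f.base ⁻¹' {y}) (hZ : IsIrreducible Z)
    (hZmax : ∀ Z' : Set X, IsIrreducible Z' → Z' ⊆ f.base ⁻¹' {y} → Z ⊆ Z' → Z' = Z)
    (hopen : ∀ ζ ∈ Z, Z ⊆ closure {ζ} → EGA43.IsOpenAt f.base ζ) :
    ∃ X' ∈ irreducibleComponents (X : Type u), Z ⊆ X' ∧ Dense (f.base '' X') ∧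
      (∀ ζ ∈ Z, Z ⊆ closure {ζ} → ∀ hζ : ζ ∈ X' ∩ f.base ⁻¹' {y},
        FlatMor.localDim ↥(X' ∩ f.base ⁻¹' {y}) ⟨ζ, hζ⟩ = topologicalKrullDim ↥Z) ∧
      topologicalKrullDim ↥Z = topologicalKrullDim ↥(X' ∩ f.base ⁻¹' {genericPoint Y}) := by
  obtain ⟨ζ, hζy, hZeq⟩ := Groth.Agent.GeomUnib.SectionDimSemi.exists_generic_point f hZ hZy hZmax
  subst hζy
  have hζZ : ζ ∈ Z := hZeq.ge ⟨subset_closure rfl, rfl⟩
  have hsub : Z ⊆ closure {ζ} := fun w hw => (hZeq.le hw).1
  have hmax : ∀ x' : X, f.base x' = f.base ζ → ζ ∈ closure {x'} → x' = ζ := by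
    intro x' hx' hcl
    have h1 := hZmax _ (hx' ▸ Groth.Agent.GeomUnib.SectionDimSemi.isIrreducible_closure_inter f x') Set.inter_subset_right
      (fun w hw => ⟨(Groth.Agent.GeomUnib.DominantComp.closure_subset_of_mem hcl) (hsub hw), hZy hw⟩)
    have h2 : x' ∈ closure {ζ} := hsub (h1.le ⟨subset_closure rfl, hx'⟩)
    exact ((specializes_iff_mem_closure.2 hcl).antisymm (specializes_iff_mem_closure.2 h2)).eq
  obtain ⟨z, hz, hzζ, hzη, hd, hloc⟩ :=
    Groth.Agent.GeomUnib.DominantComp.exists_dominant_component f hmax (hopen ζ hζZ hsub)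
  have hdim : topologicalKrullDim ↥Z = Groth.Agent.FibreDim.fdim f ζ := by rw [hZeq]; rfl
  refine ⟨closure {z}, hz, fun w hw => Groth.Agent.GeomUnib.DominantComp.closure_subset_of_mem hzζ.mem_closure (hsub hw),
    fun y' => closure_mono (Set.singleton_subset_iff.2 (show genericPoint ↥Y ∈ f.base '' closure {z} from
      ⟨z, subset_closure rfl, hzη⟩)) (genericPoint_specializes y').mem_closure, fun ζ' hζ' hsub' hmem => ?_, ?_⟩
  · obtain rfl : ζ' = ζ := ((specializes_iff_mem_closure.2 (hsub' hζZ)).antisymm
      (specializes_iff_mem_closure.2 (hsub hζ'))).eq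
    rw [hdim]
    exact hloc hmem
  · rw [hdim, ← hd, ← hzη]
    rfl

end Groth.Agent.S4919
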