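import Groth.Statements.S4920
import Groth.Agent.GeomUnib.FibreDimNhds
-- import your own Groth.Agent.* helpers here

set_option autoImplicit false
open CategoryTheory AlgebraicGeometry
universe u v w
open EGA43

namespace Groth.Agent.S4920

/-- Let Y be an irreducible locally Noetherian scheme with generic point η, f : X ⟶ Y a morphism locally
of finite type and y a point of Y such that f is open at every point of the fibre over y. For z in Y
write E(z) for the set of dimensions of the irreducible components of the fibre X_z. Then E(y) ⊆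
E(η), and consequently dim X_y ≤ dim X_η. -/
theorem result {X Y : Scheme.{u}} [IrreducibleSpace Y] [IsLocallyNoetherian Y]
    (f : X ⟶ Y) [LocallyOfFiniteType f] (y : Y) (h : ∀ x : X, f.base x = y → EGA43.IsOpenAt f.base x) :
    letI E : Y → Set (WithBot ℕ∞) := fun z =>
      (fun Z : Set ↥(f.fiber z) => topologicalKrullDim ↥Z) '' irreducibleComponents ↥(f.fiber z)
    E y ⊆ E (genericPoint Y) ∧
      topologicalKrullDim ↥(f.fiber y) ≤ topologicalKrullDim ↥(f.fiber (genericPoint Y)) := by
  have hη : genericPoint Y ⤳ y := genericPoint_specializes y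
  refine ⟨?_, ?_⟩
  · rintro _ ⟨Z, hZ, rfl⟩
    obtain ⟨m₀, hm₀⟩ := QuasiSober.sober hZ.1 (isClosed_of_mem_irreducibleComponents Z hZ)
    have hxy : f.base (f.fiberι y m₀) = y := (f.range_fiberι y).le ⟨m₀, rfl⟩
    have hmax : ∀ x' : X, f.base x' = f.base (f.fiberι y m₀) → f.fiberι y m₀ ∈ closure {x'} → x' = f.fiberι y m₀ := by
      intro x' hx' hcl
      obtain ⟨t, rfl⟩ : x' ∈ Set.range (f.fiberι y) := by rw [f.range_fiberι]; exact hx'.trans hxy
      have htm : t ⤳ m₀ := (f.fiberι y).isEmbedding.toIsInducing.specializes_iff.1 (specializes_iff_mem_closure.2 hcl)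
      have hge : closure ({t} : Set ↥(f.fiber y)) ⊆ Z := hZ.2 isIrreducible_singleton.closure (hm₀.def ▸
        closure_minimal (Set.singleton_subset_iff.2 htm.mem_closure) isClosed_closure)
      exact congrArg _ (htm.antisymm (hm₀.specializes (hge (subset_closure rfl)))).eq
    have hd : topologicalKrullDim ↥Z = FibreDim.fdim f (f.fiberι y m₀) := by
      rw [← FibreDim.dim_closure_fibre f y m₀, hm₀.def]
    obtain ⟨w, hwx, hw, hle⟩ := GeomUnib.exists_gen_of_isOpenAt f (f.fiberι y m₀) hmax (h _ hxy) (genericPoint Y)
      (hxy.symm ▸ hη)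
    obtain ⟨m, hm, hmw, hmmax⟩ := GeomUnib.FibreDimNhds.exists_maximal f w
    obtain ⟨t, ht⟩ : m ∈ Set.range (f.fiberι (genericPoint Y)) := by rw [f.range_fiberι]; exact hm.trans hw
    obtain ⟨t', ht'⟩ := QuasiSober.sober (isIrreducible_irreducibleComponent (x := t)) isClosed_irreducibleComponent
    have hspec : t' ⤳ t := ht'.specializes mem_irreducibleComponent
    have htt : t' = t := by
      refine (f.fiberι (genericPoint Y)).isEmbedding.injective ?_
      rw [ht]
      refine hmmax _ ?_ ?_
      · exact ((f.range_fiberι (genericPoint Y)).le ⟨t', rfl⟩).trans (hm.trans hw).symm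
      · rw [← ht]
        exact (hspec.map (f.fiberι _).continuous).mem_closure
    refine ⟨_, irreducibleComponent_mem_irreducibleComponents t, ?_⟩
    show topologicalKrullDim ↥(irreducibleComponent t) = topologicalKrullDim ↥Z
    rw [← ht'.def, htt, FibreDim.dim_closure_fibre, ht, hd]
    exact le_antisymm ((FibreDim.fdim_le_fibreDimAt f (hmw.trans hwx)).trans_eq
      (FibreDim.fibreDimAt_of_maximal f _ hmax)) (hle.trans (FibreDim.fdim_mono f hmw hm))
  · exact GeomUnib.FibreDimNhds.le_of_forall_nat_le fun n hn =>
      GeomUnib.FibreDimNhds.le_dim_fibre_of_specializes f hη h hn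

end Groth.Agent.S4920
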