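import Groth.Statements.S4921
import Groth.Agent.GeomUnib.FibreDimNhds
import Groth.Agent.S3387
-- import your own Groth.Agent.* helpers here

set_option autoImplicit false
open CategoryTheory AlgebraicGeometry
universe u v w
open EGA43

namespace Groth.Agent.S4921

/-- Let Y be a locally Noetherian scheme, f : X ⟶ Y a proper morphism and y a point of Y such that f is
open at every point of the fibre over y. Then the function z ↦ dim X_z is constant on a
neighbourhood of y. -/
theorem result {X Y : Scheme.{u}} [IsLocallyNoetherian Y] (f : X ⟶ Y)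
    [IsProper f] (y : Y) (h : ∀ x : X, f.base x = y → EGA43.IsOpenAt f.base x) :
    ∃ V ∈ nhds y, ∀ z ∈ V, topologicalKrullDim ↥(f.fiber z) = topologicalKrullDim ↥(f.fiber y) := by
  obtain ⟨n, hn⟩ : ∃ n : ℕ, topologicalKrullDim ↥(f.fiber y) ≤ (n : WithBot ℕ∞) := by
    obtain ⟨n, hn⟩ := GeomUnib.FibreDimNhds.exists_bound_fdim f (f.isCompact_preimage_singleton y)
    exact ⟨n, GeomUnib.FibreDimNhds.dim_fibre_le f fun w hw => hn w hw⟩
  have hcl : ∀ m : ℕ, IsClosed {z : Y | (m : WithBot ℕ∞) ≤ topologicalKrullDim ↥(f.fiber z)} :=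
    fun m => S3387.result f f.isClosedMap m
  have hev : ∀ m : ℕ, ∀ᶠ z in nhds y,
      ((m : WithBot ℕ∞) ≤ topologicalKrullDim ↥(f.fiber z) ↔ (m : WithBot ℕ∞) ≤ topologicalKrullDim ↥(f.fiber y)) := by
    intro m
    by_cases hm : (m : WithBot ℕ∞) ≤ topologicalKrullDim ↥(f.fiber y)
    · filter_upwards [GeomUnib.FibreDimNhds.mem_nhds_of_isClosed (hcl m) fun η hη =>
        GeomUnib.FibreDimNhds.le_dim_fibre_of_specializes f hη h hm] with z hz
      exact iff_of_true hz hm
    · filter_upwards [(hcl m).isOpen_compl.mem_nhds hm] with z hz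
      exact iff_of_false hz hm
  have hfin := (Finset.range (n + 2)).eventually_all.2 fun m _ => hev m
  refine ⟨_, hfin, fun z hz => ?_⟩
  change ∀ m ∈ Finset.range (n + 2), _ at hz
  refine GeomUnib.FibreDimNhds.eq_of_forall_nat_le_iff hn fun m hm => hz m (Finset.mem_range.2 (by omega))

end Groth.Agent.S4921
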