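import Groth.Statements.S4922
import Groth.Agent.GeomUnib.FibreDimNhds
import Groth.Agent.UnivOpenAt.Core
-- import your own Groth.Agent.* helpers here

set_option autoImplicit false
open CategoryTheory AlgebraicGeometry
universe u v w
open EGA43

namespace Groth.Agent.S4922

/-- Let Y be a locally Noetherian scheme, f : X ⟶ Y an open morphism of finite type and y a point of Y.
If dim X_y = dim X_{η} for the generic point η of every irreducible component of Y containing y,
then z ↦ dim X_z is constant on a neighbourhood of y. -/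
theorem result {X Y : Scheme.{u}} [IsLocallyNoetherian Y]
    (f : X ⟶ Y) [LocallyOfFiniteType f] [QuasiCompact f] (hf : IsOpenMap f.base) (y : Y)
    (h : ∀ η : Y, y ∈ closure {η} → closure {η} ∈ irreducibleComponents (Y : Type u) →
      topologicalKrullDim ↥(f.fiber y) = topologicalKrullDim ↥(f.fiber η)) :
    ∃ V ∈ nhds y, ∀ z ∈ V, topologicalKrullDim ↥(f.fiber z) = topologicalKrullDim ↥(f.fiber y) := by
  classical
  haveI : IsLocallyNoetherian X := LocallyOfFiniteType.isLocallyNoetherian f
  obtain ⟨n, hn⟩ : ∃ n : ℕ, topologicalKrullDim ↥(f.fiber y) ≤ (n : WithBot ℕ∞) := by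
    obtain ⟨n, hn⟩ := GeomUnib.FibreDimNhds.exists_bound_fdim f (f.isCompact_preimage_singleton y)
    exact ⟨n, GeomUnib.FibreDimNhds.dim_fibre_le f fun w hw => hn w hw⟩
  obtain ⟨U, hU, hyU, -⟩ := exists_isAffineOpen_mem_and_subset (U := (⊤ : Y.Opens)) (x := y) trivial
  haveI : IsNoetherianRing Γ(Y, U) := IsLocallyNoetherian.component_noetherian ⟨U, hU⟩
  have hcon : ∀ m : ℕ, Topology.IsConstructible
      (hU.fromSpec ⁻¹' {z : Y | (m : WithBot ℕ∞) ≤ topologicalKrullDim ↥(f.fiber z)}) := by
    intro m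
    rw [GeomUnib.FibreDimNhds.setOf_le_dim_eq_image f m]
    exact ((f.isLocallyConstructible_image (GeomUnib.FibreDimNhds.isLocallyConstructible_of_isClosed
      (GeomUnib.FibreDimNhds.isClosed_le_fibreDimAt f m))).preimage_of_isOpenEmbedding
        hU.fromSpec.isOpenEmbedding).isConstructible
  have hup : ∀ (m : ℕ) (z η : Y), η ⤳ z → (m : WithBot ℕ∞) ≤ topologicalKrullDim ↥(f.fiber z) →
      (m : WithBot ℕ∞) ≤ topologicalKrullDim ↥(f.fiber η) := fun m z η hη hz =>
    GeomUnib.FibreDimNhds.le_dim_fibre_of_specializes f hη (fun x _ O hO => hf.image_mem_nhds hO) hz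
  have hev : ∀ m : ℕ, ∀ᶠ z in nhds y,
      ((m : WithBot ℕ∞) ≤ topologicalKrullDim ↥(f.fiber z) ↔ (m : WithBot ℕ∞) ≤ topologicalKrullDim ↥(f.fiber y)) := by
    intro m
    have hgen : ∀ q' ≤ hU.primeIdealOf ⟨y, hyU⟩, hU.fromSpec q' ⤳ y := fun q' hq' => by
      have := ((PrimeSpectrum.le_iff_specializes q' (hU.primeIdealOf ⟨y, hyU⟩)).1 hq').map hU.fromSpec.continuous
      rwa [hU.fromSpec_primeIdealOf] at this
    have hmk : ∀ (s : Set (PrimeSpectrum Γ(Y, U))), Topology.IsConstructible s →
        (∀ q' ≤ hU.primeIdealOf ⟨y, hyU⟩, q' ∈ s) → ∀ᶠ z in nhds y, z ∈ hU.fromSpec '' s := by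
      intro s hs h'
      have h1 := hU.fromSpec.isOpenEmbedding.isOpenMap.image_mem_nhds (UnivOpenAt.mem_nhds_of_isConstructible hs h')
      rwa [hU.fromSpec_primeIdealOf] at h1
    by_cases hm : (m : WithBot ℕ∞) ≤ topologicalKrullDim ↥(f.fiber y)
    · filter_upwards [hmk _ (hcon m) fun q' hq' => hup m y _ (hgen q' hq') hm] with z hz
      obtain ⟨q', hq', rfl⟩ := hz
      exact iff_of_true hq' hm
    · filter_upwards [hmk _ (hcon m).compl fun q' hq' hbad => hm (by
        obtain ⟨η, hη⟩ := QuasiSober.sober (isIrreducible_irreducibleComponent (x := hU.fromSpec q'))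
          isClosed_irreducibleComponent
        have hηq : η ⤳ hU.fromSpec q' := hη.specializes mem_irreducibleComponent
        rw [h η (hηq.trans (hgen q' hq')).mem_closure
          (by rw [hη.def]; exact irreducibleComponent_mem_irreducibleComponents _)]
        exact hup m _ η hηq hbad)] with z hz
      obtain ⟨q', hq', rfl⟩ := hz
      exact iff_of_false hq' hm
  have hfin := (Finset.range (n + 2)).eventually_all.2 fun m _ => hev m
  refine ⟨_, hfin, fun z hz => ?_⟩
  change ∀ m ∈ Finset.range (n + 2), _ at hz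
  refine GeomUnib.FibreDimNhds.eq_of_forall_nat_le_iff hn fun m hm => hz m (Finset.mem_range.2 (by omega))

end Groth.Agent.S4922
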