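import Groth.Statements.S4924
import Groth.Agent.GeomUnib.DominantComp
-- import your own Groth.Agent.* helpers here

set_option autoImplicit false
open CategoryTheory AlgebraicGeometry
universe u v w
open EGA43

namespace Groth.Agent.S4924

/-- Let Y be a locally Noetherian scheme, f : X ⟶ Y an open morphism of finite type and y a point of Y.
Then there is an open neighbourhood U of the fibre f⁻¹(y) in X such that the function z ↦ dim (U ∩
f⁻¹(z)) is constant on a neighbourhood of y. -/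
theorem result {X Y : Scheme.{u}} [IsLocallyNoetherian Y]
    (f : X ⟶ Y) [LocallyOfFiniteType f] [QuasiCompact f] (hf : IsOpenMap f.base) (y : Y) :
    ∃ U : X.Opens, f.base ⁻¹' {y} ⊆ (U : Set X) ∧ ∃ V ∈ nhds y, ∀ z ∈ V,
      topologicalKrullDim ↥((U : Set X) ∩ f.base ⁻¹' {z}) = topologicalKrullDim ↥((U : Set X) ∩ f.base ⁻¹' {y}) := by
  classical
  haveI : IsLocallyNoetherian X := LocallyOfFiniteType.isLocallyNoetherian f
  rcases Set.eq_empty_or_nonempty (f.base ⁻¹' {y}) with hE | ⟨x₀, hx₀⟩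
  · exact ⟨⊥, hE.le.trans (Set.empty_subset _), Set.univ, Filter.univ_mem, fun z _ => by rw [TopologicalSpace.Opens.coe_bot, Set.empty_inter, Set.empty_inter]⟩
  obtain ⟨B, hB⟩ := Groth.Agent.GeomUnib.FibreDimNhds.exists_bound_fdim f
    (f.isCompact_preimage_singleton y)
  let S : Set ℕ := {k | ∃ w, f.base w = y ∧ Groth.Agent.FibreDim.fdim f w = k}
  have hSne : S.Nonempty := by
    obtain ⟨k, hk, -⟩ := Groth.Agent.FibreDim.exists_fdim f x₀
    exact ⟨k, x₀, hx₀, hk⟩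
  have hSb : BddAbove S := ⟨B, by
    rintro k ⟨w, hw, hwk⟩
    have := hB w hw
    rw [hwk] at this
    exact_mod_cast this⟩
  obtain ⟨m₀, hm₀, hm₀n⟩ := Nat.sSup_mem hSne hSb
  set n := sSup S
  have hn : ∀ w, f.base w = y → ∀ k : ℕ, Groth.Agent.FibreDim.fdim f w = k → k ≤ n := fun w hw k hk =>
    le_csSup hSb ⟨w, hw, hk⟩
  let U : X.Opens := ⟨{x | ((n + 1 : ℕ) : WithBot ℕ∞) ≤ FlatMor.fibreDimAt f x}ᶜ,
    (Groth.Agent.GeomUnib.FibreDimNhds.isClosed_le_fibreDimAt f (n + 1)).isOpen_compl⟩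
  have hUsub : f.base ⁻¹' {y} ⊆ (U : Set X) := by
    intro x hx hbad
    obtain ⟨k, hk, ⟨w, hw, -, hwk⟩, -⟩ := Groth.Agent.FibreDim.exists_fibreDimAt_eq f x
    have h1 := hn w (hw.trans hx) k hwk
    replace hbad : ((n + 1 : ℕ) : WithBot ℕ∞) ≤ FlatMor.fibreDimAt f x := hbad
    rw [hk] at hbad
    have h2 : n + 1 ≤ k := by exact_mod_cast hbad
    omega
  have hUn : ∀ x ∈ U, Groth.Agent.FibreDim.fdim f x ≤ (n : WithBot ℕ∞) := by
    intro x hx
    obtain ⟨k, hk, -, hall⟩ := Groth.Agent.FibreDim.exists_fibreDimAt_eq f x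
    have h1 : ¬ ((n + 1 : ℕ) : WithBot ℕ∞) ≤ FlatMor.fibreDimAt f x := hx
    rw [hk] at h1
    have h2 : k ≤ n := by
      by_contra hlt
      exact h1 (by exact_mod_cast (show n + 1 ≤ k by omega))
    exact (hall x rfl (specializes_refl x)).trans (by exact_mod_cast h2)
  let T : Set Y := f.base '' ((U : Set X) ∩ {x | (n : WithBot ℕ∞) ≤ FlatMor.fibreDimAt f x})
  have hTc : Topology.IsLocallyConstructible T := by
    refine Scheme.Hom.isLocallyConstructible_image f ?_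
    exact (Groth.Agent.GeomUnib.DominantComp.isLocallyConstructible_of_isOpen U.2).inter
      (Groth.Agent.GeomUnib.FibreDimNhds.isLocallyConstructible_of_isClosed
        (Groth.Agent.GeomUnib.FibreDimNhds.isClosed_le_fibreDimAt f n))
  have hTn : ∀ z ∈ T, (n : WithBot ℕ∞) ≤ topologicalKrullDim ↥((U : Set X) ∩ f.base ⁻¹' {z}) := by
    rintro _ ⟨x, ⟨hxU, hxn⟩, rfl⟩
    obtain ⟨k, hk, ⟨w, hw, hwx, hwk⟩, -⟩ := Groth.Agent.FibreDim.exists_fibreDimAt_eq f x
    change (n : WithBot ℕ∞) ≤ _ at hxn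
    rw [hk, ← hwk] at hxn
    have h2 := Groth.Agent.FibreDim.fdim_le_dim_inter f (Z := Set.univ) isClosed_univ U.2 (f.base x) w trivial
      (hwx.mem_open U.2 hxU) hw
    rw [Set.univ_inter, Set.inter_comm] at h2
    exact hxn.trans h2
  have hT : T ∈ nhds y := by
    refine Groth.Agent.GeomUnib.DominantComp.mem_nhds_of_generisations hTc fun η hη => ?_
    obtain ⟨m, hm, hmm₀, hmax⟩ := Groth.Agent.GeomUnib.FibreDimNhds.exists_maximal f m₀
    have hmy : f.base m = y := hm.trans hm₀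
    obtain ⟨w, hwm, hwη, hle⟩ := Groth.Agent.GeomUnib.exists_gen_of_isOpenAt f m hmax
      (fun N hN => hf.image_mem_nhds hN) η (hmy.symm ▸ hη)
    refine ⟨w, ⟨hwm.mem_open U.2 (hUsub hmy), ?_⟩, hwη⟩
    show (n : WithBot ℕ∞) ≤ _
    rw [← hm₀n]
    exact (Groth.Agent.FibreDim.fdim_mono f hmm₀ hm).trans (hle.trans
      (Groth.Agent.FibreDim.fdim_le_fibreDimAt f (specializes_refl w)))
  have heq : ∀ z, z ∈ T → topologicalKrullDim ↥((U : Set X) ∩ f.base ⁻¹' {z}) = (n : WithBot ℕ∞) := by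
    intro z hz
    refine le_antisymm ?_ (hTn z hz)
    have h2 := Groth.Agent.FibreDim.dim_inter_le f (Z := Set.univ) isClosed_univ U.2 z (c := (n : WithBot ℕ∞))
      fun w _ hwU _ => hUn w hwU
    rwa [Set.univ_inter, Set.inter_comm] at h2
  exact ⟨U, hUsub, T, hT, fun z hz => (heq z hz).trans (heq y (mem_of_mem_nhds hT)).symm⟩

end Groth.Agent.S4924
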