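import Groth.Statements.S4928
import Groth.Agent.GeomUnib.DominantCrit
import Groth.Agent.UnivOpenAt.Scheme
import Groth.Agent.OpenAt.Basic
-- import your own Groth.Agent.* helpers here

set_option autoImplicit false
open CategoryTheory AlgebraicGeometry
universe u v w
open EGA43

namespace Groth.Agent.S4928

set_option backward.isDefEq.respectTransparency false
set_option maxHeartbeats 1000000

open CategoryTheory.Limits
open scoped TensorProduct

open CategoryTheory.Limits in
/-- Let f : X ⟶ Y be locally of finite presentation, x a point of X, y = f x, and f₁ : X ×_Y Spec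
O_{Y,y} ⟶ Spec O_{Y,y} the base change of f to the local scheme of Y at y. Then for every point x₁
of X ×_Y Spec O_{Y,y} projecting to x, f is universally open at x if and only if f₁ is universally
open at x₁. -/
theorem result {X Y : Scheme.{u}} (f : X ⟶ Y) [LocallyOfFinitePresentation f]
    (x : X) (x₁ : ↥(pullback f (Y.fromSpecStalk (f.base x))))
    (hx₁ : (pullback.fst f (Y.fromSpecStalk (f.base x))).base x₁ = x) :
    EGA43.IsUnivOpenAt f x ↔ EGA43.IsUnivOpenAt (pullback.snd f (Y.fromSpecStalk (f.base x))) x₁ := by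
  let c₀ := Y.fromSpecStalk (f.base x)
  refine ⟨fun h => Groth.Agent.OpenAt.isUnivOpenAt_of_isPullback (IsPullback.of_hasPullback f c₀) h x₁ hx₁, fun h => ?_⟩
  obtain ⟨U, hU, hyU, -⟩ := exists_isAffineOpen_mem_and_subset (U := (⊤ : Y.Opens)) (x := f.base x) trivial
  obtain ⟨V, hV, hxV, hVU⟩ := exists_isAffineOpen_mem_and_subset (U := f ⁻¹ᵁ U) (x := x) hyU
  letI := (f.appLE U V hVU).hom.toAlgebra
  refine Groth.Agent.GeomUnib.DominantCrit.isUnivOpenAt_of_torAt_fp f hU hV hVU hxV fun C _ _ _ => ?_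
  intro s u hs hsu P hP hPq
  haveI := hP
  let 𝔭 := P.comap (Groth.Agent.UnivOpenAt.inl Γ(Y, U) Γ(X, V) C)
  let C' := Localization.AtPrime 𝔭
  haveI : IsDomain C' := IsLocalization.isDomain_localization 𝔭.primeCompl_le_nonZeroDivisors
  let g : Spec (CommRingCat.of C') ⟶ Y := Spec.map (CommRingCat.ofHom (algebraMap Γ(Y, U) C')) ≫ hU.fromSpec
  have hgc : g.base (IsLocalRing.closedPoint C') = f.base x := by
    refine Eq.trans ?_ (hU.fromSpec_primeIdealOf ⟨f.base x, hyU⟩)
    refine congrArg hU.fromSpec.base (PrimeSpectrum.ext ?_)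
    rw [← congrArg PrimeSpectrum.asIdeal (IsAffineOpen.comap_primeIdealOf_appLE U hU V hV hVU hxV)]
    show (IsLocalRing.maximalIdeal C').comap (algebraMap Γ(Y, U) C') = Ideal.comap (algebraMap Γ(Y, U) Γ(X, V)) (hV.primeIdealOf ⟨x, hxV⟩).asIdeal
    rw [IsScalarTower.algebraMap_eq Γ(Y, U) C C', ← Ideal.comap_comap]
    rw [show (IsLocalRing.maximalIdeal C').comap (algebraMap C C') = 𝔭 from Localization.AtPrime.under_maximalIdeal]
    rw [← hPq, Ideal.comap_comap, Ideal.comap_comap]
    congr 1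
    ext a
    simp [Groth.Agent.UnivOpenAt.inl, Groth.Agent.UnivOpenAt.inr, Algebra.TensorProduct.algebraMap_apply]
  obtain ⟨b, hb⟩ : ∃ b : Spec (CommRingCat.of C') ⟶ Spec (Y.presheaf.stalk (f.base x)), b ≫ c₀ = g := by
    have h0 := Scheme.Spec_stalkClosedPointTo_fromSpecStalk g
    revert h0
    generalize Scheme.stalkClosedPointTo g = φ
    revert φ
    rw [hgc]
    exact fun φ h0 => ⟨_, h0⟩
  have htor := Groth.Agent.UnivOpenAt.bot_mem_image_of_isOpenAt f hU hV hVU hxV g C' (𝟙 _) (Category.id_comp g)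
    fun w hw => by
      let m : pullback f g ⟶ pullback f c₀ :=
        pullback.lift (pullback.fst f g) (pullback.snd f g ≫ b) (by rw [pullback.condition, Category.assoc, hb])
      have sq : IsPullback m (pullback.snd f g) (pullback.snd f c₀) b := by
        refine IsPullback.of_right ?_ (pullback.lift_snd _ _ _) (IsPullback.of_hasPullback f c₀)
        rw [pullback.lift_fst, hb]
        exact IsPullback.of_hasPullback f g
      refine Groth.Agent.OpenAt.isOpenAt_of_isPullback sq h w ?_
      refine (pullback.fst f c₀).isEmbedding.injective ?_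
      rw [hx₁, ← Scheme.Hom.comp_apply, pullback.lift_fst, hw]
  let L := Localization.AtPrime P
  let can : C ⊗[Γ(Y, U)] Γ(X, V) →+* L := algebraMap _ L
  have hunit : ∀ c : 𝔭.primeCompl, IsUnit (can.comp (Groth.Agent.UnivOpenAt.inl Γ(Y, U) Γ(X, V) C) c) := fun c =>
    IsLocalization.map_units L (⟨_, c.2⟩ : P.primeCompl)
  letI : Algebra C' L := (IsLocalization.lift hunit).toAlgebra
  haveI : IsScalarTower C C' L := IsScalarTower.of_algebraMap_eq fun c =>
    (IsLocalization.lift_eq hunit c).symm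
  haveI : IsScalarTower Γ(Y, U) C' L := IsScalarTower.to₁₃₄ Γ(Y, U) C C' L
  let μ : C' ⊗[Γ(Y, U)] Γ(X, V) →ₐ[Γ(Y, U)] L :=
    Algebra.TensorProduct.lift (IsScalarTower.toAlgHom _ C' L)
      ((IsScalarTower.toAlgHom _ (C ⊗[Γ(Y, U)] Γ(X, V)) L).comp Algebra.TensorProduct.includeRight)
      fun _ _ => Commute.all _ _
  let m := Algebra.TensorProduct.map (IsScalarTower.toAlgHom Γ(Y, U) C C') (AlgHom.id Γ(Y, U) Γ(X, V))
  have hμm : ∀ v, μ (m v) = can v := fun v => by
    induction v using TensorProduct.induction_on with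
    | zero => simp
    | add a b ha hb => rw [map_add, map_add, ha, hb, map_add]
    | tmul c d =>
      simp only [μ, m, Algebra.TensorProduct.map_tmul, Algebra.TensorProduct.lift_tmul, AlgHom.coe_id, id_eq]
      show IsLocalization.lift hunit (algebraMap C C' c) * can ((1 : C) ⊗ₜ d) = can (c ⊗ₜ d)
      rw [IsLocalization.lift_eq, RingHom.comp_apply, ← map_mul]
      simp [Groth.Agent.UnivOpenAt.inl]
  have h1 : m u ∈ (IsLocalRing.maximalIdeal L).comap μ := by
    refine htor (algebraMap C C' s) (m u)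
      ((map_ne_zero_iff _ (IsLocalization.injective C' 𝔭.primeCompl_le_nonZeroDivisors)).2 hs) ?_ _ inferInstance ?_
    · have : m ((s ⊗ₜ[Γ(Y, U)] (1 : Γ(X, V))) * u) = 0 := by rw [hsu, map_zero]
      rw [map_mul] at this
      simpa [m] using this
    · rw [← hPq]
      ext d
      show μ (Groth.Agent.UnivOpenAt.inr Γ(Y, U) Γ(X, V) C' d) ∈ IsLocalRing.maximalIdeal L ↔
        Groth.Agent.UnivOpenAt.inr Γ(Y, U) Γ(X, V) C d ∈ P
      rw [show μ (Groth.Agent.UnivOpenAt.inr Γ(Y, U) Γ(X, V) C' d) =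
        can (Groth.Agent.UnivOpenAt.inr Γ(Y, U) Γ(X, V) C d) by simp [μ, Groth.Agent.UnivOpenAt.inr, can]]
      exact IsLocalization.AtPrime.to_map_mem_maximal_iff L P _
  have h2 : can u ∈ IsLocalRing.maximalIdeal L := hμm u ▸ h1
  exact (IsLocalization.AtPrime.to_map_mem_maximal_iff L P u).1 h2

end Groth.Agent.S4928
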