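import Groth.Statements.S4930
import Groth.Agent.UnivOpenAt.Scheme

set_option autoImplicit false
open CategoryTheory AlgebraicGeometry
universe u v w
open EGA43

namespace Groth.Agent.S4930

open CategoryTheory.Limits in
/-- Let Y be a locally Noetherian scheme, f : X ⟶ Y a morphism locally of finite type and y a point of
Y. Then f is universally open at all points of the fibre over y if and only if, for every discrete
valuation ring A and every morphism g : Spec A ⟶ Y mapping the closed point to y, every irreducible
component of X ×_Y Spec A dominates Spec A. -/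
theorem result {X Y : Scheme.{u}} [IsLocallyNoetherian Y] (f : X ⟶ Y)
    [LocallyOfFiniteType f] (y : Y) :
    (∀ x : X, f.base x = y → EGA43.IsUnivOpenAt f x) ↔
      ∀ (A : Type u) [CommRing A] [IsDomain A] [IsDiscreteValuationRing A] (g : Spec (CommRingCat.of A) ⟶ Y),
        g.base (IsLocalRing.closedPoint A) = y →
        ∀ Z ∈ irreducibleComponents (↥(pullback f g) : Type u), Dense ((pullback.snd f g).base '' Z) := by
  constructor
  · intro h A _ _ _ g hg Z hZ
    obtain ⟨η, hη⟩ := QuasiSober.sober hZ.1 (isClosed_of_mem_irreducibleComponents _ hZ)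
    have hbot : (pullback.snd f g).base η ≠ IsLocalRing.closedPoint A := fun hc => by
      have hf : f.base ((pullback.fst f g).base η) = y := by
        show f (pullback.fst f g η) = y
        rw [← Scheme.Hom.comp_apply, pullback.condition, Scheme.Hom.comp_apply]
        exact (congrArg g.base hc).trans hg
      obtain ⟨z, hz, hzc⟩ := (UnivOpenAt.isUnivOpenAt_iff_dvr f).1 (h _ hf) A g (hg.trans hf.symm) η rfl hc
      have hZz : closure {z} = Z := (hZ.eq_of_subset isIrreducible_singleton.closure
        (hη.def ▸ closure_minimal (Set.singleton_subset_iff.2 (specializes_iff_mem_closure.1 hz)) isClosed_closure)).symm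
      exact hzc ((hη.eq (hZz : IsGenericPoint z Z)) ▸ hc)
    have h0 : (pullback.snd f g).base η = (⊥ : PrimeSpectrum A) := by
      refine PrimeSpectrum.ext ?_
      by_contra hb
      exact hbot (PrimeSpectrum.ext (IsLocalRing.eq_maximalIdeal (((pullback.snd f g).base η).isPrime.isMaximal hb)))
    refine Dense.mono (Set.singleton_subset_iff.2 ⟨η, hη.mem, h0⟩) ?_
    intro w
    exact specializes_iff_mem_closure.1 ((PrimeSpectrum.le_iff_specializes (⊥ : PrimeSpectrum A) w).1 bot_le)
  · intro h x hx
    refine (UnivOpenAt.isUnivOpenAt_iff_dvr f).2 fun A _ _ _ g hg x' hx' hc => ?_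
    obtain ⟨Z, hZ, hxZ⟩ := exists_mem_irreducibleComponents_subset_of_isIrreducible {x'} isIrreducible_singleton
    obtain ⟨η, hη⟩ := QuasiSober.sober hZ.1 (isClosed_of_mem_irreducibleComponents _ hZ)
    refine ⟨η, hη.specializes (hxZ rfl), fun hcl => ?_⟩
    have hd := h A g (hg.trans hx) Z hZ
    have hcp : IsClosed ({IsLocalRing.closedPoint A} : Set ↥(Spec (CommRingCat.of A))) :=
      IsLocalRing.isClosed_singleton_closedPoint A
    have hsub : (pullback.snd f g).base '' Z ⊆ {IsLocalRing.closedPoint A} := by
      rintro _ ⟨w, hw, rfl⟩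
      have := (hη.specializes hw).map (pullback.snd f g).continuous
      rw [specializes_iff_mem_closure] at this
      exact closure_minimal (Set.singleton_subset_iff.2 (Set.mem_singleton_iff.2 hcl)) hcp this
    have h1 := (hd.mono hsub).closure_eq
    rw [hcp.closure_eq] at h1
    have h2 : (⊥ : PrimeSpectrum A) ∈ ({IsLocalRing.closedPoint A} : Set (PrimeSpectrum A)) := h1 ▸ Set.mem_univ _
    exact IsDiscreteValuationRing.not_a_field A (congrArg PrimeSpectrum.asIdeal h2).symm

end Groth.Agent.S4930
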