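import Groth.Statements.S4931
import Groth.Agent.GeomUnib.Irred
import Groth.Agent.GeomUnib.Scheme
import Groth.Agent.UnivOpenAt.Scheme
-- import your own Groth.Agent.* helpers here

set_option autoImplicit false
open CategoryTheory AlgebraicGeometry
universe u v w
open EGA43

namespace Groth.Agent.S4931

open CategoryTheory.Limits in
/-- Suppose Y is a locally Noetherian scheme and the morphism f : X ⟶ Y is locally of finite type. The
morphism f is universally open exactly when the following holds: given any discrete valuation ring A
together with any morphism g : Spec A ⟶ Y, each irreducible component of the fibre product X ×_Y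
Spec A dominates Spec A (i.e. its image under the second projection is dense). -/
theorem result {X Y : Scheme.{u}} [IsLocallyNoetherian Y] (f : X ⟶ Y)
    [LocallyOfFiniteType f] :
    UniversallyOpen f ↔
      ∀ (A : Type u) [CommRing A] [IsDomain A] [IsDiscreteValuationRing A] (g : Spec (CommRingCat.of A) ⟶ Y),
        ∀ Z ∈ irreducibleComponents (↥(pullback f g) : Type u), Dense ((pullback.snd f g).base '' Z) := by
  have hdvr : ∀ (A : Type u) [CommRing A] [IsDomain A] [IsDiscreteValuationRing A] (a : Spec (CommRingCat.of A)),
      a ≠ IsLocalRing.closedPoint A → ∀ b : Spec (CommRingCat.of A), a ⤳ b := by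
    intro A _ _ _ a ha b
    have h0 : (a : PrimeSpectrum A).asIdeal = ⊥ := by
      by_contra hne
      refine ha (PrimeSpectrum.ext ?_)
      exact IsLocalRing.eq_maximalIdeal (Ideal.IsPrime.isMaximal inferInstance hne)
    exact (PrimeSpectrum.le_iff_specializes (a : PrimeSpectrum A) b).1 (show (a : PrimeSpectrum A).asIdeal ≤ _ by
      rw [h0]; exact bot_le)
  have hclosed : ∀ (A : Type u) [CommRing A] [IsDomain A] [IsDiscreteValuationRing A]
      (s : Set (Spec (CommRingCat.of A))), s ⊆ {IsLocalRing.closedPoint A} → ¬ Dense s := by
    intro A _ _ _ s hs hd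
    have h1 : IsClosed ({IsLocalRing.closedPoint A} : Set (Spec (CommRingCat.of A))) :=
      IsLocalRing.isClosed_singleton_closedPoint A
    have h2 : (⟨⊥, Ideal.isPrime_bot⟩ : PrimeSpectrum A) ∈ ({IsLocalRing.closedPoint A} : Set (PrimeSpectrum A)) :=
      closure_minimal hs h1 (hd _)
    exact IsDiscreteValuationRing.not_a_field A (congrArg PrimeSpectrum.asIdeal h2).symm
  constructor
  · intro h A _ _ _ g Z hZ
    obtain ⟨z, hz⟩ := QuasiSober.sober hZ.1 (isClosed_of_mem_irreducibleComponents _ hZ)
    have hne : (Limits.pullback.snd f g).base z ≠ IsLocalRing.closedPoint A := by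
      intro hzc
      have hg : g.base (IsLocalRing.closedPoint A) = f.base ((Limits.pullback.fst f g).base z) := by
        rw [← hzc]
        exact (congrArg (fun k => k.base z) (Limits.pullback.condition (f := f) (g := g))).symm
      have huniv : EGA43.IsUnivOpenAt f ((Limits.pullback.fst f g).base z) := fun Y' g' x' _ U hU =>
        (Limits.pullback.snd f g').isOpenMap.image_mem_nhds hU
      obtain ⟨z', hz', hne'⟩ := (Groth.Agent.UnivOpenAt.isUnivOpenAt_iff_dvr f).1 huniv A g hg z rfl hzc
      obtain rfl : z' = z :=
        ((Groth.Agent.GeomUnib.maximal_of_component z Z hZ hz z' hz').antisymm hz').eq.symm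
      exact hne' hzc
    refine fun b => closure_mono (s := {(Limits.pullback.snd f g).base z}) (Set.singleton_subset_iff.2 (Set.mem_image_of_mem _ hz.mem)) ?_
    exact ((hdvr A _ hne) b).mem_closure
  · intro h
    refine Groth.Agent.GeomUnib.universallyOpen_of_forall f fun x => ?_
    refine (Groth.Agent.UnivOpenAt.isUnivOpenAt_iff_dvr f).2 fun A _ _ _ g hg x' hx' hx'c => ?_
    obtain ⟨z, hz⟩ := QuasiSober.sober (isIrreducible_irreducibleComponent (x := x'))
      isClosed_irreducibleComponent
    refine ⟨z, hz.specializes mem_irreducibleComponent, fun hzc => ?_⟩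
    refine hclosed A _ ?_ (h A g _ (irreducibleComponent_mem_irreducibleComponents x'))
    rintro _ ⟨w, hw, rfl⟩
    have hsp := (hz.specializes hw).map (Limits.pullback.snd f g).continuous
    rw [hzc] at hsp
    exact hsp.mem_closed (IsLocalRing.isClosed_singleton_closedPoint A) rfl

end Groth.Agent.S4931
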