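import Groth.Statements.S4932
import Groth.Agent.GeomUnib.ValuationFibre
-- import your own Groth.Agent.* helpers here

set_option autoImplicit false
open CategoryTheory AlgebraicGeometry
universe u v w
open EGA43

namespace Groth.Agent.S4932

/-- Let A be a valuation ring (not necessarily discrete), X an irreducible scheme and f : X ⟶ Spec A a
dominant morphism of finite type. If the fibre X_0 of f over the closed point is nonempty, then dim
X_0 = dim X_1, where X_1 is the fibre over the generic point. -/
theorem result {A : Type u} [CommRing A] [IsDomain A]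
    [ValuationRing A] {X : Scheme.{u}} [IrreducibleSpace X] (f : X ⟶ Spec (CommRingCat.of A))
    [LocallyOfFiniteType f] [QuasiCompact f] [IsDominant f]
    (h0 : Nonempty ↥(f.fiber (IsLocalRing.closedPoint A))) :
    topologicalKrullDim ↥(f.fiber (IsLocalRing.closedPoint A)) =
      topologicalKrullDim ↥(f.fiber (genericPoint (Spec (CommRingCat.of A)))) := by
  obtain ⟨c₀⟩ := h0
  have hxy : ∀ (y : Spec (CommRingCat.of A)) (t : ↥(f.fiber y)), f.base (f.fiberι y t) = y := fun y t => by
    have : f.fiberι y t ∈ Set.range (f.fiberι y) := ⟨t, rfl⟩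
    rwa [f.range_fiberι] at this
  have hgen : genericPoint (Spec (CommRingCat.of A)) = (⟨⊥, Ideal.isPrime_bot⟩ : PrimeSpectrum A) :=
    genericPoint_eq_bot_of_affine _
  have hfz : f.base (genericPoint X) = genericPoint (Spec (CommRingCat.of A)) := by
    refine IsGenericPoint.eq (S := (⊤ : Set (Spec (CommRingCat.of A)))) ?_ ?_
    · refine (Set.eq_univ_of_forall fun y => ?_)
      have hsub : Set.range f.base ⊆ closure {f.base (genericPoint X)} := by
        rintro _ ⟨a, rfl⟩
        exact specializes_iff_mem_closure.1 ((genericPoint_specializes a).map f.continuous)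
      exact closure_minimal hsub isClosed_closure (f.denseRange y)
    · exact genericPoint_spec _
  have hX1 : topologicalKrullDim ↥(f.fiber (genericPoint (Spec (CommRingCat.of A)))) =
      Groth.Agent.FibreDim.fdim f (genericPoint X) := by
    rw [Groth.Agent.FibreDim.fdim, genericPoint_closure, Set.univ_inter, hfz]
    exact Groth.Agent.FibreDim.dim_homeo (f.fiberHomeo _)
  rw [hX1, Groth.Agent.FibreDim.dim_homeo ((f.fiberHomeo _).trans (Homeomorph.setCongr
    (show f.base ⁻¹' {IsLocalRing.closedPoint A} =
      (Set.univ : Set X) ∩ f.base ⁻¹' {IsLocalRing.closedPoint A} ∩ Set.univ by simp)))]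
  refine le_antisymm ?_ ?_
  · refine Groth.Agent.FibreDim.dim_inter_le f isClosed_univ isOpen_univ _ fun w _ _ hw => ?_
    exact Groth.Agent.GeomUnib.fdim_le_of_valuationRing f (genericPoint_specializes w) hw (hfz.trans hgen)
  · obtain ⟨n, hn, ⟨w, hw, -, hwn⟩, -⟩ :=
      Groth.Agent.FibreDim.exists_fibreDimAt_eq f (f.fiberι (IsLocalRing.closedPoint A) c₀)
    refine (Groth.Agent.FibreDim.fdim_le_fibreDimAt f (genericPoint_specializes (f.fiberι (IsLocalRing.closedPoint A) c₀))).trans ?_
    rw [hn, ← hwn]
    exact Groth.Agent.FibreDim.fdim_le_dim_inter f isClosed_univ isOpen_univ _ w trivial trivial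
      (hw.trans (hxy _ c₀))

end Groth.Agent.S4932
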