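import Groth.Statements.S4933
import Groth.Agent.GeomUnib.FibreGenGeneral
import Groth.Agent.GeomUnib.Crit
-- import your own Groth.Agent.* helpers here

set_option autoImplicit false
open CategoryTheory AlgebraicGeometry
universe u v w
open EGA43

namespace Groth.Agent.S4933

/-- Let f : X ⟶ Y be a morphism locally of finite type, x a point of X which is a maximal point of its
fibre X_y, y = f x. Consider: a) f is universally open at x; b) for every irreducible component Y₀
of Y containing y, with generic point η, there is an irreducible component Z of X containing x and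
dominating Y₀ such that dim_x(X_y) = dim_x(Z ∩ X_y) = dim(Z ∩ X_η); b') for every open neighbourhood
U of x and every generization y' of y one has dim(U ∩ X_{y'}) ≥ dim_x(X_y). Then a) implies b'), and
b') implies b). (Subsets of X carry the induced topology; dim_x(U ∩ X_y) = dim_x(X_y). The published
statement asserts moreover that b) implies b'); that implication can fail, because a generization y'
of y need not lie under any point of U ∩ Z: for the finite birational morphism from the affine plane
onto the surface obtained from it by identifying two rational points p and q, at x = p condition b)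
holds with all dimensions equal to 0, while for U the complement of a line L through q avoiding p
and y' the image of the generic point of L the set U ∩ X_{y'} is empty. So only a) ⇒ b') and b') ⇒
b) are stated here.) -/
theorem result {X Y : Scheme.{u}} (f : X ⟶ Y) [LocallyOfFiniteType f]
    (x : X) (hmax : ∀ x' : X, f.base x' = f.base x → x ∈ closure {x'} → x' = x) :
    (EGA43.IsUnivOpenAt f x → (∀ U : X.Opens, x ∈ U → ∀ y' : Y, y' ⤳ f.base x →
        FlatMor.fibreDimAt f x ≤ topologicalKrullDim ↥((U : Set X) ∩ f.base ⁻¹' {y'}))) ∧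
    ((∀ U : X.Opens, x ∈ U → ∀ y' : Y, y' ⤳ f.base x →
        FlatMor.fibreDimAt f x ≤ topologicalKrullDim ↥((U : Set X) ∩ f.base ⁻¹' {y'})) →
      (∀ Y₀ ∈ irreducibleComponents (Y : Type u), f.base x ∈ Y₀ →
        ∃ Z ∈ irreducibleComponents (X : Type u), ∃ hx : x ∈ Z, closure (f.base '' Z) = Y₀ ∧
          ∀ η : Y, closure ({η} : Set Y) = Y₀ →
            FlatMor.fibreDimAt f x = FlatMor.localDim ↥(Z ∩ f.base ⁻¹' {f.base x}) ⟨x, ⟨hx, rfl⟩⟩ ∧
            FlatMor.localDim ↥(Z ∩ f.base ⁻¹' {f.base x}) ⟨x, ⟨hx, rfl⟩⟩ =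
              topologicalKrullDim ↥(Z ∩ f.base ⁻¹' {η}))) := by
  refine ⟨fun hopen U hxU y' hy' => ?_, fun h Y₀ hY₀ hyY => ?_⟩
  · obtain ⟨w, hwx, hw, hd⟩ := Groth.Agent.GeomUnib.exists_gen_of_isUnivOpenAt f x hopen y' hy'
    rw [Groth.Agent.FibreDim.fibreDimAt_of_maximal f x hmax]
    refine hd.trans ?_
    have := Groth.Agent.FibreDim.fdim_le_dim_inter f (Z := Set.univ) isClosed_univ U.2 y' w trivial
      (hwx.mem_open U.2 hxU) hw
    rwa [Set.univ_inter, Set.inter_comm] at this
  · obtain ⟨η, hη⟩ := QuasiSober.sober hY₀.1 (isClosed_of_mem_irreducibleComponents _ hY₀)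
    obtain ⟨n, hn, -, -⟩ := Groth.Agent.FibreDim.exists_fibreDimAt_eq f x
    obtain ⟨v, hvx, hv, hd⟩ := Groth.Agent.GeomUnib.exists_gen_of_forall_nhds' f x η (hη.specializes hyY)
      (n : WithBot ℕ∞) fun O hxO => Groth.Agent.GeomUnib.exists_point_of_le_dim f O η n
        (hn ▸ h O hxO η (hη.specializes hyY))
    obtain ⟨Z, hZ, hx, hcl, hdim⟩ := Groth.Agent.GeomUnib.exists_component_of_gen f x
      (fun η' h => Groth.Agent.GeomUnib.maximal_of_component η Y₀ hY₀ hη η' h) hvx hv (hn.le.trans hd)
    refine ⟨Z, hZ, hx, hcl.trans hη.def, fun η' hη' => ⟨?_, hdim η' (hη'.trans hη.def.symm)⟩⟩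
    have hZc := isClosed_of_mem_irreducibleComponents Z hZ
    obtain ⟨k, hk, ⟨w, hwZ, hw, hwx, hwk⟩, -⟩ :=
      Groth.Agent.FibreDim.exists_localDim_eq f hZc (f.base x) x ⟨hx, rfl⟩
    obtain rfl : w = x := hmax w hw (specializes_iff_mem_closure.1 hwx)
    rw [Groth.Agent.FibreDim.fibreDimAt_of_maximal f w hmax, hk, hwk]

end Groth.Agent.S4933
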