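import Groth.Statements.S4934
import Groth.Agent.GeomUnib.Crit
-- import your own Groth.Agent.* helpers here

set_option autoImplicit false
open CategoryTheory AlgebraicGeometry
universe u v w
open EGA43

namespace Groth.Agent.S4934

/-- Let Y be a locally Noetherian scheme, f : X ⟶ Y a morphism locally of finite type, x a maximal point
of its fibre X_y, and suppose y = f x is a geometrically unibranch point of Y (so that y lies on
exactly one irreducible component Y₀ of Y, with generic point η). The following are equivalent: a) f
is universally open at x; b) there is an irreducible component Z of X containing x and dominating Y₀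
with dim_x(Z ∩ X_y) = dim(Z ∩ X_η); b') for every open neighbourhood U of x and every generization
y' of y, dim(U ∩ X_{y'}) ≥ dim_x(X_y); c) f is open at x. (The published statement asserts a) ⇔ b) ⇔
b') over an arbitrary base and adds c) for a locally Noetherian one; over the spectrum Y of an
infinite product of copies of a field, the inclusion of a non-open closed point satisfies b) and not
a), and the published proof of b) ⇒ a) uses the openness criterion by lifting of generizations and a
finiteness of irreducible components, both available over a locally Noetherian base, which is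
assumed here throughout.) -/
theorem result {X Y : Scheme.{u}} [IsLocallyNoetherian Y] (f : X ⟶ Y)
    [LocallyOfFiniteType f] (x : X) (hmax : ∀ x' : X, f.base x' = f.base x → x ∈ closure {x'} → x' = x)
    (hy : CAlg2.IsGeomUnibranch (Y.presheaf.stalk (f.base x))) :
    List.TFAE [EGA43.IsUnivOpenAt f x,
      (∀ Y₀ ∈ irreducibleComponents (Y : Type u), f.base x ∈ Y₀ →
        ∃ Z ∈ irreducibleComponents (X : Type u), ∃ hx : x ∈ Z, closure (f.base '' Z) = Y₀ ∧
          ∀ η : Y, closure ({η} : Set Y) = Y₀ →
            FlatMor.localDim ↥(Z ∩ f.base ⁻¹' {f.base x}) ⟨x, ⟨hx, rfl⟩⟩ =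
              topologicalKrullDim ↥(Z ∩ f.base ⁻¹' {η})),
      (∀ U : X.Opens, x ∈ U → ∀ y' : Y, y' ⤳ f.base x →
        FlatMor.fibreDimAt f x ≤ topologicalKrullDim ↥((U : Set X) ∩ f.base ⁻¹' {y'})),
      EGA43.IsOpenAt f.base x] := by
  tfae_have 1 → 4 := fun h => Groth.Agent.GeomUnib.isOpenAt_of_isUnivOpenAt f h
  tfae_have 4 → 3 := by
    intro h U hxU y' hy'
    obtain ⟨w, hwx, hw, hd⟩ := Groth.Agent.GeomUnib.exists_gen_of_isOpenAt f x hmax h y' hy'
    rw [Groth.Agent.FibreDim.fibreDimAt_of_maximal f x hmax]
    refine hd.trans ?_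
    have := Groth.Agent.FibreDim.fdim_le_dim_inter f (Z := Set.univ) isClosed_univ U.2 y' w trivial
      (hwx.mem_open U.2 hxU) hw
    rwa [Set.univ_inter, Set.inter_comm] at this
  tfae_have 3 → 2 := by
    intro h Y₀ hY₀ hyY
    obtain ⟨η, hη⟩ := QuasiSober.sober hY₀.1 (isClosed_of_mem_irreducibleComponents _ hY₀)
    obtain ⟨n, hn, -, -⟩ := Groth.Agent.FibreDim.exists_fibreDimAt_eq f x
    obtain ⟨v, hvx, hv, hd⟩ := Groth.Agent.GeomUnib.exists_gen_of_forall_nhds f x η (hη.specializes hyY)
      (n : WithBot ℕ∞) fun O hxO => Groth.Agent.GeomUnib.exists_point_of_le_dim f O η n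
        (hn ▸ h O hxO η (hη.specializes hyY))
    obtain ⟨Z, hZ, hx, hcl, hdim⟩ := Groth.Agent.GeomUnib.exists_component_of_gen f x
      (fun η' h => Groth.Agent.GeomUnib.maximal_of_component η Y₀ hY₀ hη η' h) hvx hv (hn.le.trans hd)
    exact ⟨Z, hZ, hx, hcl.trans hη.def, fun η' hη' => hdim η' (hη'.trans hη.def.symm)⟩
  tfae_have 2 → 1 := by
    intro h
    obtain ⟨Z, hZ, hx, hcl, hdim⟩ := h _ (irreducibleComponent_mem_irreducibleComponents (f.base x))
      mem_irreducibleComponent
    exact Groth.Agent.GeomUnib.isUnivOpenAt_of_component_data f x hy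
      (irreducibleComponent_mem_irreducibleComponents (f.base x)) mem_irreducibleComponent hZ hx hcl hdim
  tfae_finish

end Groth.Agent.S4934
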