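import Groth.Statements.S4935
import Groth.Agent.GeomUnib.Main
-- import your own Groth.Agent.* helpers here

set_option autoImplicit false
universe u
open EGA43

namespace Groth.Agent.S4935

/-- Let A be a unibranch local domain, B a domain containing A and integral over A, and 𝔫 a prime ideal
of B lying over the maximal ideal of A. Then Spec B_𝔫 → Spec A is surjective: for every prime ideal
𝔭 of A there is a prime ideal 𝔮 ⊆ 𝔫 of B with 𝔮 ∩ A = 𝔭. -/
theorem result {A B : Type u} [CommRing A] [IsDomain A]
    [IsLocalRing A] (hA : CAlg2.IsUnibranch A) [CommRing B] [IsDomain B] [Algebra A B]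
    (hinj : Function.Injective (algebraMap A B)) [Algebra.IsIntegral A B] (n : Ideal B) [n.IsPrime]
    (hn : n.comap (algebraMap A B) = IsLocalRing.maximalIdeal A) (p : Ideal A) [p.IsPrime] :
    ∃ q : Ideal B, q.IsPrime ∧ q ≤ n ∧ q.comap (algebraMap A B) = p := by
  have : FaithfulSMul A B := (faithfulSMul_iff_algebraMap_injective A B).2 hinj
  let A' := integralClosure A (FractionRing A)
  have hiic : IsIntegrallyClosed A' := integralClosure.isIntegrallyClosedOfFiniteExtension (FractionRing A)
  have : FaithfulSMul A A' := (faithfulSMul_iff_algebraMap_injective A A').2 fun _ _ h =>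
    IsFractionRing.injective A (FractionRing A) (congrArg Subtype.val h)
  obtain ⟨D, _, _, _, _, _, _, hcomm, hsurj⟩ := GeomUnib.exists_common (A := A) A' B
  obtain ⟨n', hn'⟩ := hsurj ⟨n, inferInstance⟩
  have hn'' : n'.asIdeal.comap (algebraMap B D) = n := congrArg PrimeSpectrum.asIdeal hn'
  obtain ⟨p', hp'⟩ := GeomUnib.exists_comap_eq (R := A) (S := A') (FaithfulSMul.algebraMap_injective A A') ⟨p, inferInstance⟩
  have hu : GeomUnib.UniqueAt A' (IsLocalRing.maximalIdeal A) :=
    GeomUnib.uniqueAt_of_isUnibranch (K := FractionRing A) hA (RingHom.id A) Function.surjective_id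
      (by rw [(RingHom.injective_iff_ker_eq_bot _).1 Function.injective_id]; exact bot_le) A'
  have hm : n'.asIdeal.comap ((algebraMap A' D).comp (algebraMap A A')) = IsLocalRing.maximalIdeal A := by
    rw [hcomm, ← Ideal.comap_comap, hn'', hn]
  obtain ⟨m', hm'le, hm'⟩ : ∃ m' : Ideal A', p'.asIdeal ≤ m' ∧ m'.IsMaximal := by
    obtain ⟨m', hm', hle⟩ := p'.asIdeal.exists_le_maximal p'.2.ne_top
    exact ⟨m', hle, hm'⟩
  have e : m' = n'.asIdeal.comap (algebraMap A' D) := hu _ _ inferInstance inferInstance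
    (IsLocalRing.eq_maximalIdeal (Ideal.isMaximal_comap_of_isIntegral_of_isMaximal m'))
    (by rw [Ideal.comap_comap, hm])
  have hlies : n'.asIdeal.LiesOver (n'.asIdeal.comap (algebraMap A' D)) := ⟨rfl⟩
  obtain ⟨Q, hQle, hQp, hQ⟩ := Ideal.exists_ideal_le_liesOver_of_le (R := A') (p := p'.asIdeal)
    (q := n'.asIdeal.comap (algebraMap A' D)) n'.asIdeal (e ▸ hm'le)
  refine ⟨Q.comap (algebraMap B D), inferInstance, (Ideal.comap_mono hQle).trans hn''.le, ?_⟩
  rw [Ideal.comap_comap, ← hcomm, ← Ideal.comap_comap]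
  exact (congrArg (Ideal.comap (algebraMap A A')) hQ.over.symm).trans (congrArg PrimeSpectrum.asIdeal hp')

end Groth.Agent.S4935
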