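import Groth.Statements.S4937
import Groth.Agent.GeomUnib.Scheme
-- import your own Groth.Agent.* helpers here

set_option autoImplicit false
open CategoryTheory AlgebraicGeometry
universe u v w
open EGA43

namespace Groth.Agent.S4937

/-- Let X and Y be irreducible schemes and f : X ⟶ Y a dominant morphism which is locally of finite
presentation and locally quasi-finite. If x is a point of X whose image y = f x has unibranch local
ring O_{Y,y}, then f is open at x. (Stated for f locally of finite presentation, the class to which
the openness criterion by lifting of generizations used in the published argument applies; the
published hypothesis is 'locally quasi-finite', which includes locally of finite type.) -/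
theorem result {X Y : Scheme.{u}} [IrreducibleSpace X]
    [IrreducibleSpace Y] (f : X ⟶ Y) [LocallyOfFinitePresentation f] [LocallyQuasiFinite f] [IsDominant f]
    (x : X) (hy : CAlg2.IsUnibranch (Y.presheaf.stalk (f.base x))) : EGA43.IsOpenAt f.base x := by
  refine GeomUnib.isOpenAt_of_quasiFinite f x (f.quasiFiniteAt x) (genericPoint X)
    (genericPoint_specializes x) ⊤ trivial ?_ hy
  intro z _
  have h := f.denseRange.closure_range ▸ Set.mem_univ z
  refine closure_minimal ?_ isClosed_closure h
  rintro _ ⟨w, rfl⟩
  exact ((genericPoint_specializes w).map f.continuous).mem_closure

end Groth.Agent.S4937
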