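import Groth.Statements.S4939
import Groth.Agent.GeomUnib.EquidimLocal
-- import your own Groth.Agent.* helpers here

set_option autoImplicit false
open CategoryTheory AlgebraicGeometry
universe u v w
open EGA43

namespace Groth.Agent.S4939

/-- Suppose Y is a locally Noetherian scheme and f : X ⟶ Y is locally of finite type; take a point x of
X whose image y = f x is geometrically unibranch on Y. Then these three conditions are equivalent:
a) f is equidimensional at x; b) O_{X,x} is an equidimensional local ring, and f is open at every
generic point of an irreducible component of the fibre X_y that contains x; c) O_{X,x} is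
equidimensional, and f is universally open at every such generic point of an irreducible component
of X_y passing through x. (Not formalized here is the additional claim that, when these hold,
restricting f to any reduced irreducible component of X through x gives a morphism equidimensional
at x and universally open at the points of the components of its fibre through x.) -/
theorem result {X Y : Scheme.{u}} [IsLocallyNoetherian Y] (f : X ⟶ Y)
    [LocallyOfFiniteType f] (x : X) (hy : CAlg2.IsGeomUnibranch (Y.presheaf.stalk (f.base x))) :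
    List.TFAE [EGA43.IsEquidimAt f x,
      EGA4.IsEquidim (X.presheaf.stalk x) ∧ (∀ z : ↥(f.fiber (f.base x)), f.asFiber x ∈ closure {z} →
        (∀ z' : ↥(f.fiber (f.base x)), z ∈ closure {z'} → z' = z) → EGA43.IsOpenAt f.base ((f.fiberι (f.base x)).base z)),
      EGA4.IsEquidim (X.presheaf.stalk x) ∧ (∀ z : ↥(f.fiber (f.base x)), f.asFiber x ∈ closure {z} →
        (∀ z' : ↥(f.fiber (f.base x)), z ∈ closure {z'} → z' = z) → EGA43.IsUnivOpenAt f ((f.fiberι (f.base x)).base z))] := by
  tfae_have 1 → 3 := by
    intro h
    refine ⟨Groth.Agent.GeomUnib.isEquidim_stalk f x hy h, fun z hz _ => ?_⟩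
    have hzx : (f.fiberι (f.base x)).base z ⤳ x := by
      have h1 := (specializes_iff_mem_closure.2 hz).map (f.fiberι (f.base x)).continuous
      exact (f.fiberι_asFiber x).subst (motive := fun a => (f.fiberι (f.base x)).base z ⤳ a) h1
    have hzy : f.base ((f.fiberι (f.base x)).base z) = f.base x := by
      have : (f.fiberι (f.base x)).base z ∈ Set.range (f.fiberι (f.base x)) := ⟨z, rfl⟩
      rwa [f.range_fiberι] at this
    obtain ⟨e, U, hxU, hcomp, hdim⟩ := h
    refine Groth.Agent.GeomUnib.isUnivOpenAt_of_isEquidimAt f _
      ⟨e, U, hzx.mem_open U.2 hxU, fun C hC => ?_, hdim⟩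
      (fun W hW hyW η hη => Groth.Agent.GeomUnib.exists_nhds_of_component (hzy.symm ▸ hy) hW hyW hη.def)
      (hzy.symm ▸ hy)
    obtain ⟨W, hW, hxW, hWeq⟩ := hcomp C hC
    exact ⟨W, hW, hzy.symm ▸ hxW, hWeq⟩
  tfae_have 3 → 2 := fun h =>
    ⟨h.1, fun z hz hz' => Groth.Agent.GeomUnib.isOpenAt_of_isUnivOpenAt f (h.2 z hz hz')⟩
  tfae_have 2 → 1 := by
    intro ⟨hE, hopen⟩
    obtain ⟨η, hη⟩ := QuasiSober.sober (isIrreducible_irreducibleComponent (x := f.base x))
      isClosed_irreducibleComponent
    refine Groth.Agent.GeomUnib.isEquidimAt_of_isEquidim f x hy hE hη.def ?_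
    obtain ⟨n, hn, ⟨w, hw, hwx, hwn⟩, -⟩ := Groth.Agent.FibreDim.exists_fibreDimAt_eq f x
    obtain ⟨m, hm, hmw, hd, hmax⟩ := Groth.Agent.GeomUnib.exists_maximal_gen f w
    have hmy : f.base m = f.base x := hm.trans hw
    obtain ⟨z, hzm⟩ : m ∈ Set.range (f.fiberι (f.base x)) := by
      rw [f.range_fiberι]; exact hmy
    have hopen' := hopen z (by
        rw [← specializes_iff_mem_closure]
        refine (f.fiberι (f.base x)).isEmbedding.toIsInducing.specializes_iff.1 ?_
        rw [hzm, f.fiberι_asFiber]
        exact hmw.trans hwx) (fun z' hz' => by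
        refine (f.fiberι (f.base x)).isEmbedding.injective ?_
        rw [hzm]
        refine hmax _ ?_ ?_
        · have : (f.fiberι (f.base x)).base z' ∈ Set.range (f.fiberι (f.base x)) := ⟨z', rfl⟩
          rw [f.range_fiberι] at this
          exact (this : f.base ((f.fiberι (f.base x)).base z') = f.base x).trans hmy.symm
        · rw [← hzm, ← specializes_iff_mem_closure]
          exact (specializes_iff_mem_closure.2 hz').map (f.fiberι (f.base x)).continuous)
    rw [hzm] at hopen'
    obtain ⟨v, hvm, hv, hd'⟩ := Groth.Agent.GeomUnib.exists_gen_of_isOpenAt f m hmax hopen' η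
      (by rw [hmy]; exact hη.specializes mem_irreducibleComponent)
    exact ⟨v, hvm.trans (hmw.trans hwx), hv, hn.trans_le ((hwn.ge.trans hd).trans hd')⟩
  tfae_finish

end Groth.Agent.S4939
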