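import Groth.Statements.S4943
import Groth.Agent.GeomUnib.CodimFibre
-- import your own Groth.Agent.* helpers here

set_option autoImplicit false
open CategoryTheory AlgebraicGeometry
universe u v w
open EGA43

namespace Groth.Agent.S4943

/-- Let Y be an irreducible locally Noetherian scheme, f : X ⟶ Y a morphism locally of finite type which
is equidimensional at the point x, y = f x and e = dim_x(X_y). Let X' be an irreducible closed
subset of X containing x, with generic point x', and n a natural number such that codim(X', X) ≤ n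
(the codimension being dim O_{X,x'}) and dim_x(X' ∩ X_y) ≤ e − n. Then codim(X', X) = n, dim_x(X' ∩
X_y) = e − n, and the restriction of f to X' with its reduced subscheme structure is equidimensional
at x. -/
theorem result {X Y : Scheme.{u}} [IrreducibleSpace Y]
    [IsLocallyNoetherian Y] (f : X ⟶ Y) [LocallyOfFiniteType f] (x : X) (hf : EGA43.IsEquidimAt f x)
    (X' : TopologicalSpace.Closeds X) (x' : X) (hx' : closure ({x'} : Set X) = (X' : Set X)) (hx : x ∈ X') (n : ℕ)
    (hcodim : ringKrullDim (X.presheaf.stalk x') ≤ n)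
    (hdim : FlatMor.localDim ↥((X' : Set X) ∩ f.base ⁻¹' {f.base x}) ⟨x, ⟨hx, rfl⟩⟩ + n ≤ FlatMor.fibreDimAt f x) :
    ringKrullDim (X.presheaf.stalk x') = n ∧
      FlatMor.localDim ↥((X' : Set X) ∩ f.base ⁻¹' {f.base x}) ⟨x, ⟨hx, rfl⟩⟩ + n = FlatMor.fibreDimAt f x ∧
      ∀ w : ↥(Scheme.IdealSheafData.vanishingIdeal X').subscheme,
        (Scheme.IdealSheafData.vanishingIdeal X').subschemeι.base w = x →
        EGA43.IsEquidimAt ((Scheme.IdealSheafData.vanishingIdeal X').subschemeι ≫ f) w := by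
  have h' : x' ⤳ x := specializes_iff_mem_closure.2 (hx'.ge hx)
  obtain ⟨e, b, he, hb, h1, h2⟩ := GeomUnib.coheight_ge f hf h'
  rw [ringKrullDim_stalk_eq_coheight] at hcodim ⊢
  have hcn : Order.coheight x' ≤ (n : ℕ∞) := WithBot.coe_le_coe.1 hcodim
  obtain ⟨c, hc⟩ := ENat.ne_top_iff_exists.1 (ne_top_of_le_ne_top (ENat.coe_ne_top n) hcn)
  obtain ⟨d, hd, -, hall⟩ := FibreDim.exists_localDim_eq f X'.isClosed (f.base x) x ⟨hx, rfl⟩
  have hbd : b ≤ d := by
    have := GeomUnib.fdim_le_localDim f X'.isClosed (hx'.le (subset_closure rfl)) h' (f.base x) ⟨hx, rfl⟩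
    rw [hb, hd] at this
    exact_mod_cast this
  rw [hd, he] at hdim
  have hdn : d + n ≤ e := by exact_mod_cast hdim
  rw [← hc] at hcn h1 h2 ⊢
  have hcn' : c ≤ n := by exact_mod_cast hcn
  have h1' : e ≤ c + b := by exact_mod_cast h1
  refine ⟨?_, ?_, fun w hw => ?_⟩
  · rw [show c = n by omega]; rfl
  · rw [hd, he]; exact_mod_cast (show d + n = e by omega)
  have hη : f.base x' = genericPoint Y := by
    by_contra hne
    have : e + 1 ≤ c + b := by exact_mod_cast h2 hne
    omega
  let I := Scheme.IdealSheafData.vanishingIdeal X'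
  have hr : Set.range I.subschemeι.base = (X' : Set X) := by
    rw [I.range_subschemeι]; rfl
  obtain ⟨a₀, ha₀⟩ : x' ∈ Set.range I.subschemeι.base := hr.ge (hx'.le (subset_closure rfl))
  refine GeomUnib.isEquidimAt_of_irreducible (I.subschemeι ≫ f) w a₀ (fun s => ?_)
    ((congrArg f.base ha₀).trans hη) (d := d) ?_ ?_
  · refine I.subschemeι.isClosedEmbedding.isEmbedding.toIsInducing.specializes_iff.1 ?_
    rw [ha₀]
    exact specializes_iff_mem_closure.2 (hx'.ge (hr.le ⟨s, rfl⟩))
  · rw [GeomUnib.fdim_comp_closedImmersion, ha₀, hb, show b = d by omega]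
  · obtain ⟨m, hm, ⟨v, hv, hvw, hvm⟩, -⟩ := FibreDim.exists_fibreDimAt_eq (I.subschemeι ≫ f) w
    rw [hm, ← hvm, GeomUnib.fdim_comp_closedImmersion]
    refine hall _ (hr.le ⟨v, rfl⟩) ?_ ?_
    · exact hv.trans (congrArg f.base hw)
    · exact hw ▸ hvw.map I.subschemeι.continuous

end Groth.Agent.S4943
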