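import Groth.Statements.S4944
import Groth.Agent.GeomUnib.Multisection
-- import your own Groth.Agent.* helpers here

set_option autoImplicit false
open CategoryTheory AlgebraicGeometry
universe u v w
open EGA43

namespace Groth.Agent.S4944

/-- Suppose Y is an irreducible, locally Noetherian scheme and f : X ⟶ Y is locally of finite type. Take
a point x of X at which f is equidimensional and which is closed in its fibre f⁻¹(f x). Then one can
find an irreducible reduced scheme T together with an immersion i : T ⟶ X whose image contains x,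
such that the composite T ⟶ Y is dominant and quasi-finite (meaning locally quasi-finite and of
finite type). -/
theorem result {X Y : Scheme.{u}} [IrreducibleSpace Y]
    [IsLocallyNoetherian Y] (f : X ⟶ Y) [LocallyOfFiniteType f] (x : X) (hf : EGA43.IsEquidimAt f x)
    (hcl : ∀ x' : X, f.base x' = f.base x → x ⤳ x' → x' = x) :
    ∃ (T : Scheme.{u}) (i : T ⟶ X), IsImmersion i ∧ IrreducibleSpace ↥T ∧ IsReduced T ∧ x ∈ Set.range i.base ∧
        LocallyOfFiniteType (i ≫ f) ∧ LocallyQuasiFinite (i ≫ f) ∧ QuasiCompact (i ≫ f) ∧ IsDominant (i ≫ f) := by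
  obtain ⟨e, U, hxU, hcomp, hdim⟩ := hf
  let x' : ↥U.toScheme := ⟨x, hxU⟩
  obtain ⟨W, hW, hxW, hWeq⟩ := hcomp _ (irreducibleComponent_mem_irreducibleComponents x')
  obtain ⟨x₀, hx₀⟩ := QuasiSober.sober (isIrreducible_irreducibleComponent (x := x'))
    isClosed_irreducibleComponent
  have hgen : IsGenericPoint ((U.ι ≫ f).base x₀) W := by
    have := hx₀.image (U.ι ≫ f).continuous
    rwa [hWeq] at this
  have hWu : W = closure {genericPoint Y} := by
    rw [genericPoint_closure]
    exact Set.eq_univ_of_univ_subset (hW.2 (IrreducibleSpace.isIrreducible_univ Y) (Set.subset_univ _))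
  obtain ⟨w, hwx, hw, hiso⟩ := Groth.Agent.GeomUnib.exists_gen_isolated (U.ι ≫ f) x' x₀
    (hx₀.specializes mem_irreducibleComponent) ⊤ trivial
    (fun y _ => by
      rw [show closure {(U.ι ≫ f).base x₀} = W from hgen.def, hWu]
      exact (genericPoint_specializes y).mem_closure)
    (by
      rw [← Groth.Agent.FibreDim.fibreDimAt_of_maximal (U.ι ≫ f) x₀ ?_,
        Groth.Agent.FibreDim.fibreDimAt_eq_of_components (U.ι ≫ f) (e : WithBot ℕ∞) x₀ (hdim x₀),
        Groth.Agent.FibreDim.fibreDimAt_eq_of_components (U.ι ≫ f) (e : WithBot ℕ∞) x' (hdim x')]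
      intro z hz hzx
      have hsub : irreducibleComponent x' ⊆ closure {z} := hx₀.def.symm.le.trans
        (closure_minimal (Set.singleton_subset_iff.2 hzx) isClosed_closure)
      have := (irreducibleComponent_mem_irreducibleComponents x').2 isIrreducible_singleton.closure hsub
      exact ((hx₀.specializes (this (subset_closure rfl))).antisymm
        (specializes_iff_mem_closure.2 hzx)).eq.symm)
    (fun z hz hxz => Subtype.ext (hcl z.1 hz (hxz.map U.ι.continuous)))
  refine Groth.Agent.GeomUnib.exists_multisection f x (U.ι.base w) (hwx.map U.ι.continuous) ?_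
    (fun v hwv hvx hv => ?_) hcl
  · exact IsGenericPoint.eq (hw ▸ hgen : IsGenericPoint (f (U.ι.base w)) W) (hWu ▸ isGenericPoint_closure)
  · exact congrArg Subtype.val (hiso ⟨v, hvx.mem_open U.2 hxU⟩
      ((U.ι).isEmbedding.toIsInducing.specializes_iff.1 hwv)
      ((U.ι).isEmbedding.toIsInducing.specializes_iff.1 hvx) hv)

end Groth.Agent.S4944
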