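import Groth.Statements.S4945
import Groth.Agent.GeomUnib.Multisection
-- import your own Groth.Agent.* helpers here

set_option autoImplicit false
open CategoryTheory AlgebraicGeometry
universe u v w
open EGA43

namespace Groth.Agent.S4945

/-- Let Y be an irreducible locally Noetherian scheme with generic point η, f : X ⟶ Y a morphism locally
of finite type and y a geometrically unibranch point of Y. The following are equivalent: a) f is
universally open at every point of X_y; b) f is open at every point of X_y; c) for every maximal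
point z of X_y there is an irreducible component Z of X containing z and dominating Y with dim_z(Z ∩
X_y) = dim(Z ∩ X_η); d) for every point x closed in X_y there are an irreducible reduced scheme T
and an immersion T ⟶ X with image containing x such that T ⟶ Y is quasi-finite and dominant. -/
theorem result {X Y : Scheme.{u}} [IrreducibleSpace Y]
    [IsLocallyNoetherian Y] (f : X ⟶ Y) [LocallyOfFiniteType f] (y : Y) (hy : CAlg2.IsGeomUnibranch (Y.presheaf.stalk y)) :
    List.TFAE [∀ x : X, f.base x = y → EGA43.IsUnivOpenAt f x,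
      ∀ x : X, f.base x = y → EGA43.IsOpenAt f.base x,
      ∀ z : X, ∀ hzy : f.base z = y, (∀ z' : X, f.base z' = y → z ∈ closure {z'} → z' = z) →
        ∃ Z ∈ irreducibleComponents (X : Type u), ∃ hz : z ∈ Z, Dense (f.base '' Z) ∧
          FlatMor.localDim ↥(Z ∩ f.base ⁻¹' {y}) ⟨z, ⟨hz, hzy⟩⟩ = topologicalKrullDim ↥(Z ∩ f.base ⁻¹' {genericPoint Y}),
      ∀ x : X, f.base x = y → (∀ x' : X, f.base x' = y → x ⤳ x' → x' = x) →
        ∃ (T : Scheme.{u}) (i : T ⟶ X), IsImmersion i ∧ IrreducibleSpace ↥T ∧ IsReduced T ∧ x ∈ Set.range i.base ∧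
        LocallyOfFiniteType (i ≫ f) ∧ LocallyQuasiFinite (i ≫ f) ∧ QuasiCompact (i ≫ f) ∧ IsDominant (i ≫ f)] := by
  have hgenY : ∀ η' : Y, η' ⤳ genericPoint Y → genericPoint Y ⤳ η' := fun η' _ => genericPoint_specializes η'
  have hcomp : ∀ {Y₀ : Set Y}, Y₀ ∈ irreducibleComponents (Y : Type u) → Y₀ = closure {genericPoint Y} := by
    intro Y₀ hY₀
    rw [genericPoint_closure]
    exact Set.eq_univ_of_univ_subset (hY₀.2 (IrreducibleSpace.isIrreducible_univ Y) (Set.subset_univ _))
  tfae_have 1 → 2 := fun h x hx => Groth.Agent.GeomUnib.isOpenAt_of_isUnivOpenAt f (h x hx)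
  tfae_have 2 → 3 := by
    intro h z hzy hmax
    subst hzy
    obtain ⟨v, hvz, hv, hd⟩ := Groth.Agent.GeomUnib.exists_gen_of_isOpenAt f z hmax (h z rfl) (genericPoint Y)
      (genericPoint_specializes _)
    obtain ⟨Z, hZ, hz, hcl, hdim⟩ := Groth.Agent.GeomUnib.exists_component_of_gen f z hgenY hvz hv
      ((Groth.Agent.FibreDim.fibreDimAt_of_maximal f z hmax).le.trans hd)
    exact ⟨Z, hZ, hz, dense_iff_closure_eq.2 (hcl.trans (genericPoint_closure (α := Y))), hdim _ rfl⟩
  have h31 : (∀ z : X, ∀ hzy : f.base z = y, (∀ z' : X, f.base z' = y → z ∈ closure {z'} → z' = z) →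
        ∃ Z ∈ irreducibleComponents (X : Type u), ∃ hz : z ∈ Z, Dense (f.base '' Z) ∧
          FlatMor.localDim ↥(Z ∩ f.base ⁻¹' {y}) ⟨z, ⟨hz, hzy⟩⟩ = topologicalKrullDim ↥(Z ∩ f.base ⁻¹' {genericPoint Y})) →
      ∀ x : X, f.base x = y → ∃ v, v ⤳ x ∧ f.base v = genericPoint Y ∧
        FlatMor.fibreDimAt f x ≤ Groth.Agent.FibreDim.fdim f v := by
    intro h x hx
    subst hx
    obtain ⟨n, hn, ⟨w, hw, hwx, hwn⟩, -⟩ := Groth.Agent.FibreDim.exists_fibreDimAt_eq f x
    obtain ⟨m, hm, hmw, hd, hmax⟩ := Groth.Agent.GeomUnib.exists_maximal_gen f w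
    have hmy : f.base m = f.base x := hm.trans hw
    obtain ⟨Z, hZ, hz, hdense, hdim⟩ := h m hmy (fun z' hz' => hmax z' (hz'.trans hmy.symm))
    have hZc := isClosed_of_mem_irreducibleComponents Z hZ
    obtain ⟨z, hgz⟩ := QuasiSober.sober hZ.1 hZc
    have hfz : f.base z = genericPoint Y := by
      refine IsGenericPoint.eq (show IsGenericPoint (f.base z) (closure (f.base '' Z)) from hgz.image f.continuous) ?_
      rw [hdense.closure_eq]
      exact genericPoint_spec Y
    refine ⟨z, (hgz.specializes hz).trans (hmw.trans hwx), hfz, ?_⟩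
    obtain ⟨k, hk, -, hall⟩ := Groth.Agent.FibreDim.exists_localDim_eq f hZc (f.base x) m ⟨hz, hmy⟩
    rw [show Groth.Agent.FibreDim.fdim f z = topologicalKrullDim ↥(Z ∩ f.base ⁻¹' {genericPoint Y}) by
      rw [Groth.Agent.FibreDim.fdim, hgz.def, hfz], ← hdim, hk, hn, ← hwn]
    exact hd.trans (hall m hz hmy specializes_rfl)
  tfae_have 3 → 1 := by
    intro h x hx
    obtain ⟨v, hvx, hv, hd⟩ := h31 h x hx
    obtain ⟨Z, hZ, hxZ, hcl, hdim⟩ := Groth.Agent.GeomUnib.exists_component_of_gen f x hgenY hvx hv hd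
    have hY₀ := irreducibleComponent_mem_irreducibleComponents (f.base x)
    exact Groth.Agent.GeomUnib.isUnivOpenAt_of_component_data f x (hx ▸ hy) hY₀ mem_irreducibleComponent
      hZ hxZ (hcl.trans (hcomp hY₀).symm) (fun η hη => hdim η (hη.trans (hcomp hY₀)))
  tfae_have 3 → 4 := by
    intro h x hx hcl
    subst hx
    obtain ⟨v, hvx, hv, hd⟩ := h31 h x rfl
    obtain ⟨w, hwx, hw, hiso⟩ := Groth.Agent.GeomUnib.exists_gen_isolated f x v hvx ⊤ trivial
      (by
        intro z _
        rw [show f v = genericPoint Y from hv]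
        exact (genericPoint_specializes z).mem_closure)
      (le_antisymm (Groth.Agent.FibreDim.fdim_le_fibreDimAt f hvx) hd) hcl
    exact Groth.Agent.GeomUnib.exists_multisection f x w hwx (hw.trans hv) hiso hcl
  tfae_have 4 → 1 := by
    intro h x hx
    refine Groth.Agent.GeomUnib.isUnivOpenAt_of_dense f y (fun O hO => ?_) x hx
    obtain ⟨o, hoO, hoy⟩ := hO
    obtain ⟨o', rfl⟩ : o ∈ Set.range (f.fiberι y) := by rw [f.range_fiberι]; exact hoy
    haveI : LocallyOfFiniteType (f.fiberToSpecResidueField y) :=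
      MorphismProperty.pullback_snd f (Y.fromSpecResidueField y) ‹_›
    haveI : JacobsonSpace ↥(f.fiber y) := LocallyOfFiniteType.jacobsonSpace (f.fiberToSpecResidueField y)
    obtain ⟨c, hcO, hc⟩ := nonempty_inter_closedPoints (X := ↥(f.fiber y)) ⟨o', hoO⟩
      (O.2.preimage (f.fiberι y).continuous).isLocallyClosed
    have hcy : f.base (f.fiberι y c) = y := by
      have : f.fiberι y c ∈ Set.range (f.fiberι y) := ⟨c, rfl⟩
      rwa [f.range_fiberι] at this
    refine ⟨f.fiberι y c, hcO, hcy, ?_⟩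
    obtain ⟨T, i, -, hT, -, hxi, h1, h2, -, h4⟩ := h _ hcy fun x' hx' hsp => by
      obtain ⟨c', rfl⟩ : x' ∈ Set.range (f.fiberι y) := by rw [f.range_fiberι]; exact hx'
      have hcc : c ⤳ c' := (f.fiberι y).isEmbedding.toIsInducing.specializes_iff.1 hsp
      exact congrArg _ ((mem_closedPoints_iff.1 hc).closure_eq ▸ hcc.mem_closure : c' ∈ ({c} : Set ↥(f.fiber y)))
    exact Groth.Agent.GeomUnib.isUnivOpenAt_of_multisection f _ i hxi (hcy.symm ▸ hy)
  tfae_finish

end Groth.Agent.S4945
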