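import Groth.Statements.S4947
import Groth.Agent.QReg.RegularLocal
import Mathlib.RingTheory.AlgebraicIndependent.Basic
import Mathlib.FieldTheory.IntermediateField.Adjoin.Defs

set_option autoImplicit false
universe u
open EGA43

namespace Groth.Agent.S4947

open IsLocalRing MvPolynomial

section order

variable {A : Type u} [CommRing A] [IsLocalRing A] [IsDomain A] [IsNoetherianRing A] {d : ℕ}
  {x : Fin d → A} (hx : CAlgX.IsQuasiRegular x) (hspan : Ideal.span (Set.range x) = maximalIdeal A)

/-- `z` is a quotient `a / b` with `ord b ≤ ord a`. -/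
def InV (A : Type u) [CommRing A] [IsLocalRing A] (z : FractionRing A) : Prop :=
  ∃ a b : A, ∃ n : ℕ, b ∈ maximalIdeal A ^ n ∧ b ∉ maximalIdeal A ^ (n + 1) ∧ a ∈ maximalIdeal A ^ n ∧
    z * algebraMap A (FractionRing A) b = algebraMap A (FractionRing A) a

include hx hspan in
/-- The order valuation ring. -/
noncomputable def ordRing : Subalgebra A (FractionRing A) where
  carrier := {z | InV A z}
  mul_mem' := by
    rintro z w ⟨a, b, n, hb, hb', ha, hz⟩ ⟨a', b', n', hc, hc', ha', hw⟩
    refine ⟨a * a', b * b', n + n', by rw [pow_add]; exact Ideal.mul_mem_mul hb hc,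
      QReg.mul_not_mem hx hspan hb hb' hc hc', by rw [pow_add]; exact Ideal.mul_mem_mul ha ha', ?_⟩
    rw [map_mul, map_mul, ← hz, ← hw]; ring
  add_mem' := by
    rintro z w ⟨a, b, n, hb, hb', ha, hz⟩ ⟨a', b', n', hc, hc', ha', hw⟩
    refine ⟨a * b' + b * a', b * b', n + n', by rw [pow_add]; exact Ideal.mul_mem_mul hb hc,
      QReg.mul_not_mem hx hspan hb hb' hc hc', ?_, ?_⟩
    · rw [pow_add]; exact add_mem (Ideal.mul_mem_mul ha hc) (Ideal.mul_mem_mul hb ha')
    · rw [map_add, map_mul, map_mul, map_mul, ← hz, ← hw]; ring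
  algebraMap_mem' r := ⟨r, 1, 0, by simp, by
    simpa using (Ideal.ne_top_iff_one _).mp (maximalIdeal.isMaximal A).ne_top, by simp, by simp⟩

theorem mem_ordRing {z : FractionRing A} : z ∈ ordRing hx hspan ↔ InV A z := Iff.rfl

theorem isUnit_iff {z : ordRing hx hspan} {a b : A} {n : ℕ} (hb : b ∈ maximalIdeal A ^ n)
    (hb' : b ∉ maximalIdeal A ^ (n + 1)) (ha : a ∈ maximalIdeal A ^ n)
    (hz : (z : FractionRing A) * algebraMap A (FractionRing A) b = algebraMap A (FractionRing A) a) :
    IsUnit z ↔ a ∉ maximalIdeal A ^ (n + 1) := by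
  have hinj := IsFractionRing.injective A (FractionRing A)
  constructor
  · intro hu haa
    obtain ⟨w, hw⟩ := hu.exists_right_inv
    obtain ⟨c, e, k, he, he', hc, hwe⟩ := (mem_ordRing hx hspan).mp w.2
    have h1 : a * c = b * e := hinj (by
      have hw' : (z : FractionRing A) * w = 1 := congrArg Subtype.val hw
      rw [map_mul, map_mul, ← hz, ← hwe]
      linear_combination (algebraMap A (FractionRing A) b * algebraMap A (FractionRing A) e) * hw')
    refine QReg.mul_not_mem hx hspan hb hb' he he' ?_
    rw [← h1, show n + k + 1 = (n + 1) + k by omega, pow_add]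
    exact Ideal.mul_mem_mul haa hc
  · intro haa
    have ha0 : algebraMap A (FractionRing A) a ≠ 0 :=
      (map_ne_zero_iff _ hinj).mpr fun h => haa (by rw [h]; exact zero_mem _)
    refine IsUnit.of_mul_eq_one (⟨algebraMap A (FractionRing A) b / algebraMap A (FractionRing A) a,
      b, a, n, ha, haa, hb, div_mul_cancel₀ _ ha0⟩ : ordRing hx hspan) (Subtype.ext ?_)
    show (z : FractionRing A) * (_ / _) = 1
    rw [mul_div_assoc', hz, div_self ha0]

theorem isLocalRing_ordRing : IsLocalRing (ordRing hx hspan) := by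
  refine IsLocalRing.of_nonunits_add fun z w hz hw => ?_
  obtain ⟨a, b, n, hb, hb', ha, hza⟩ := (mem_ordRing hx hspan).mp z.2
  obtain ⟨a', b', n', hc, hc', ha', hwa⟩ := (mem_ordRing hx hspan).mp w.2
  rw [mem_nonunits_iff, isUnit_iff hx hspan hb hb' ha hza, not_not] at hz
  rw [mem_nonunits_iff, isUnit_iff hx hspan hc hc' ha' hwa, not_not] at hw
  rw [mem_nonunits_iff, isUnit_iff hx hspan (z := z + w) (a := a * b' + b * a') (b := b * b') (n := n + n')
    (by rw [pow_add]; exact Ideal.mul_mem_mul hb hc) (QReg.mul_not_mem hx hspan hb hb' hc hc')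
    (by rw [pow_add]; exact add_mem (Ideal.mul_mem_mul ha hc) (Ideal.mul_mem_mul hb ha'))
    (by rw [map_add, map_mul, map_mul, map_mul, ← hza, ← hwa]; push_cast; ring), not_not]
  refine add_mem ?_ ?_
  · rw [show n + n' + 1 = (n + 1) + n' by omega, pow_add]; exact Ideal.mul_mem_mul hz hc
  · rw [add_assoc, pow_add]; exact Ideal.mul_mem_mul hb hw

end order


/-- Let A be a regular local ring which is not a field, K its fraction field and k its residue field.
Then there is a discrete valuation ring V between A and K, with fraction field K, dominating A,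
whose residue field is a purely transcendental extension of k: for some ring map from k compatible
with A → V there is an algebraically independent family generating the residue field of V as a field
over k. -/
theorem result (A : Type u) [CommRing A] [IsRegularLocalRing A]
    (hA : ¬ IsField A) :
    ∃ (V : Subalgebra A (FractionRing A)) (_ : IsDomain V) (_ : IsDiscreteValuationRing V), IsFractionRing V (FractionRing A) ∧
      (IsLocalRing.maximalIdeal V).comap (algebraMap A V) = IsLocalRing.maximalIdeal A ∧
      ∃ (φ : IsLocalRing.ResidueField A →+* IsLocalRing.ResidueField V),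
        φ.comp (IsLocalRing.residue A) = (IsLocalRing.residue V).comp (algebraMap A V) ∧
        letI := φ.toAlgebra
        ∃ (ι : Type u) (t : ι → IsLocalRing.ResidueField V), AlgebraicIndependent (IsLocalRing.ResidueField A) t ∧
          IntermediateField.adjoin (IsLocalRing.ResidueField A) (Set.range t) = ⊤ := by
  classical
  haveI := DepthLib.isDomain_of_isRegularLocalRing A
  obtain ⟨e, he⟩ : ∃ e, (maximalIdeal A).spanFinrank = e + 1 := by
    refine Nat.exists_eq_succ_of_ne_zero fun h => hA ?_
    rw [Submodule.spanFinrank_eq_zero_iff_eq_bot (IsNoetherian.noetherian _)] at h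
    exact IsLocalRing.isField_iff_maximalIdeal_eq.mpr h
  obtain ⟨x, hx, hspan⟩ : ∃ x : Fin (e + 1) → A, CAlgX.IsQuasiRegular x ∧
      Ideal.span (Set.range x) = maximalIdeal A := he ▸ QReg.exists_quasiRegular_parameters A
  have hinj := IsFractionRing.injective A (FractionRing A)
  set am := algebraMap A (FractionRing A)
  set V := ordRing hx hspan
  haveI hloc : IsLocalRing V := isLocalRing_ordRing hx hspan
  have hxpow : ∀ j, x 0 ^ j ∈ maximalIdeal A ^ j ∧ x 0 ^ j ∉ maximalIdeal A ^ (j + 1) := fun j => by
    simpa using QReg.eval_not_mem hx hspan (isHomogeneous_X_pow (R := A) (0 : Fin (e + 1)) j)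
      (by simp [map_pow, MvPolynomial.X_ne_zero])
  have hx0 : am (x 0) ≠ 0 := (map_ne_zero_iff _ hinj).mpr fun h =>
    (hxpow 1).2 (by rw [pow_one, h]; exact zero_mem _)
  let p : V := algebraMap A V (x 0)
  have hone : (1 : A) ∉ maximalIdeal A := (Ideal.ne_top_iff_one _).mp (maximalIdeal.isMaximal A).ne_top
  have hamap : ∀ a : A, IsUnit (algebraMap A V a) ↔ a ∉ maximalIdeal A := fun a => by
    simpa using isUnit_iff hx hspan (z := algebraMap A V a) (a := a) (b := 1) (n := 0)
      (by simp) (by simpa using hone) (by simp) (by rw [map_one, mul_one]; rfl)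
  have hp : ¬ IsUnit p := by
    rw [hamap, not_not]; exact hspan ▸ Ideal.subset_span (Set.mem_range_self 0)
  have hp0 : p ≠ 0 := fun h => hx0 (congrArg Subtype.val h)
  have hfact : ∀ {z : V}, z ≠ 0 → ∃ j : ℕ, Associated (p ^ j) z := by
    intro z hz
    obtain ⟨a, b, n, hb, hb', ha, hza⟩ := (mem_ordRing hx hspan).mp z.2
    have hb0 : am b ≠ 0 := (map_ne_zero_iff _ hinj).mpr fun h => hb' (by rw [h]; exact zero_mem _)
    have ha0 : a ≠ 0 := fun h => hz (Subtype.ext (by
      have := hza; rw [h, map_zero] at this; exact (mul_eq_zero.mp this).resolve_right hb0))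
    obtain ⟨k, F, hF, hF0, hFa⟩ := QReg.exists_form hspan ha0
    obtain ⟨hak, hak'⟩ := QReg.eval_not_mem hx hspan hF hF0
    rw [hFa] at hak hak'
    have hnk : n ≤ k := by
      by_contra hlt
      exact hak' (Ideal.pow_le_pow_right (by omega) ha)
    have hden : x 0 ^ (k - n) * b ∈ maximalIdeal A ^ k ∧ x 0 ^ (k - n) * b ∉ maximalIdeal A ^ (k + 1) := by
      have h1 := Ideal.mul_mem_mul (hxpow (k - n)).1 hb
      have h2 := QReg.mul_not_mem hx hspan (hxpow (k - n)).1 (hxpow (k - n)).2 hb hb'
      rw [← pow_add, Nat.sub_add_cancel hnk] at h1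
      rw [Nat.sub_add_cancel hnk] at h2
      exact ⟨h1, h2⟩
    have hd0 : am (x 0 ^ (k - n) * b) ≠ 0 :=
      (map_ne_zero_iff _ hinj).mpr fun h => hden.2 (by rw [h]; exact zero_mem _)
    let u : V := ⟨am a / am (x 0 ^ (k - n) * b), a, _, k, hden.1, hden.2, hak, div_mul_cancel₀ _ hd0⟩
    have hu : IsUnit u := (isUnit_iff hx hspan hden.1 hden.2 hak (div_mul_cancel₀ _ hd0)).mpr hak'
    refine ⟨k - n, hu.unit, Subtype.ext ?_⟩
    show (am (x 0)) ^ (k - n) * (am a / am (x 0 ^ (k - n) * b)) = z
    rw [← hza, map_mul, map_pow]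
    field_simp
    rfl
  haveI hdvr : IsDiscreteValuationRing V := by
    refine IsDiscreteValuationRing.ofHasUnitMulPowIrreducibleFactorization ⟨p, ⟨hp, ?_⟩, hfact⟩
    intro y z hyz
    have hy : y ≠ 0 := fun h => hp0 (by rw [hyz, h, zero_mul])
    have hz : z ≠ 0 := fun h => hp0 (by rw [hyz, h, mul_zero])
    obtain ⟨i, u, hi⟩ := hfact hy
    obtain ⟨j, w, hj⟩ := hfact hz
    rcases i with _ | i
    · exact Or.inl ⟨u, by simpa using hi⟩
    rcases j with _ | j
    · exact Or.inr ⟨w, by simpa using hj⟩
    exfalso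
    apply hp
    refine IsUnit.of_mul_eq_one (p ^ (i + j) * (u * w : V)) (mul_left_cancel₀ hp0 ?_)
    rw [mul_one]
    conv_rhs => rw [hyz, ← hi, ← hj]
    ring
  haveI : FaithfulSMul V (FractionRing A) := (faithfulSMul_iff_algebraMap_injective _ _).mpr Subtype.val_injective
  refine ⟨V, inferInstance, hdvr, IsFractionRing.of_field V _ fun z => ?_, ?_, ?_⟩
  · obtain ⟨a, b, _, rfl⟩ := IsFractionRing.div_surjective A z
    exact ⟨algebraMap A V a, algebraMap A V b, rfl⟩
  · refine Ideal.ext fun a => ?_
    rw [Ideal.mem_comap, IsLocalRing.mem_maximalIdeal, mem_nonunits_iff, hamap, not_not]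
  haveI : IsLocalHom (algebraMap A V) :=
    ⟨fun a ha => IsLocalRing.notMem_maximalIdeal.mp ((hamap a).mp ha)⟩
  let φ : ResidueField A →+* ResidueField V := ResidueField.map (algebraMap A V)
  have hφ : φ.comp (residue A) = (residue V).comp (algebraMap A V) := ResidueField.map_comp_residue _
  refine ⟨φ, hφ, ?_⟩
  letI := φ.toAlgebra
  have hx1 : x 0 ∈ maximalIdeal A ^ 1 ∧ x 0 ∉ maximalIdeal A ^ (1 + 1) := by simpa using hxpow 1
  let T : Fin (e + 1) → V := fun i => ⟨am (x i) / am (x 0), x i, x 0, 1, hx1.1, hx1.2,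
    by rw [pow_one]; exact hspan ▸ Ideal.subset_span (Set.mem_range_self i), div_mul_cancel₀ _ hx0⟩
  let ψ : MvPolynomial (Fin (e + 1)) A →+* V := eval₂Hom (algebraMap A V) T
  have hψ : ∀ {n : ℕ} {F : MvPolynomial (Fin (e + 1)) A}, F.IsHomogeneous n →
      (ψ F : FractionRing A) * am (x 0 ^ n) = am (eval x F) := by
    intro n F hF
    have h1 : (ψ F : FractionRing A) = eval₂ am (fun i => am (x i) / am (x 0)) F := by
      show V.val.toRingHom (eval₂ (algebraMap A V) T F) = _
      rw [eval₂_comp_left]
      rfl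
    rw [h1, eval₂_eq, eval_eq, map_sum, Finset.sum_mul]
    refine Finset.sum_congr rfl fun m hm => ?_
    simp only [map_mul, map_prod, map_pow, mul_assoc]
    congr 1
    rw [hF.degree_eq_sum_deg_support hm, ← Finset.prod_pow_eq_pow_sum, ← Finset.prod_mul_distrib]
    exact Finset.prod_congr rfl fun i _ => by rw [← mul_pow, div_mul_cancel₀ _ hx0]
  have hψu : ∀ {n : ℕ} {F : MvPolynomial (Fin (e + 1)) A}, F.IsHomogeneous n →
      map (residue A) F ≠ 0 → residue V (ψ F) ≠ 0 := by
    intro n F hF h0
    rw [IsLocalRing.residue_ne_zero_iff_isUnit]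
    exact (isUnit_iff hx hspan (hxpow n).1 (hxpow n).2 (QReg.eval_not_mem hx hspan hF h0).1 (hψ hF)).mpr
      (QReg.eval_not_mem hx hspan hF h0).2
  let t : ULift.{u} (Fin e) → ResidueField V := fun i => residue V (T i.down.succ)
  have hT0 : T 0 = 1 := Subtype.ext (div_self hx0)
  refine ⟨ULift.{u} (Fin e), t, ?_, ?_⟩
  · refine AlgebraicIndependent.comp (x := fun i : Fin e => residue V (T i.succ)) ?_ ULift.down
      ULift.down_injective
    rw [algebraicIndependent_iff]
    intro P hP
    by_contra hP0
    let N := P.support.sup fun α => α.sum fun _ k => k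
    let q : (Fin e →₀ ℕ) → (Fin (e + 1) →₀ ℕ) := fun α => Finsupp.cons (N - α.sum fun _ k => k) α
    have hq : Function.Injective q := fun α β h => by
      have := congrArg Finsupp.tail h
      simpa [q] using this
    choose l hl using fun α => residue_surjective (P.coeff α)
    let H : MvPolynomial (Fin (e + 1)) A := ∑ α ∈ P.support, monomial (q α) (l α)
    have hH : H.IsHomogeneous N := IsHomogeneous.sum _ _ _ fun α hα => isHomogeneous_monomial _ (by
      have hle : (α.sum fun _ k => k) ≤ N := Finset.le_sup (f := fun α => α.sum fun _ k => k) hα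
      show (q α).sum (fun _ k => k) = N
      rw [Finsupp.sum_cons]
      omega)
    have hH0 : map (residue A) H ≠ 0 := by
      obtain ⟨α, hα⟩ := exists_coeff_ne_zero hP0
      refine fun h => hα ?_
      have := congrArg (coeff (q α)) h
      simpa [H, coeff_sum, coeff_monomial, hq.eq_iff, hl, hα] using this
    refine hψu hH hH0 ?_
    rw [← hP]
    simp only [ψ, H, map_sum, eval₂Hom_monomial]
    conv_rhs => rw [← P.support_sum_monomial_coeff, map_sum]
    refine Finset.sum_congr rfl fun α _ => ?_
    rw [map_mul, aeval_monomial, ← hl α, Finsupp.prod_fintype _ _ (fun i => pow_zero _),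
      Finsupp.prod_fintype _ _ (fun i => pow_zero _), Fin.prod_univ_succ]
    simp only [q, Finsupp.cons_zero, Finsupp.cons_succ, hT0, one_pow, one_mul, map_prod, map_pow]
    congr 1
  · rw [eq_top_iff]
    intro r _
    obtain ⟨z, rfl⟩ := residue_surjective r
    set L := IntermediateField.adjoin (ResidueField A) (Set.range t)
    have hmem : ∀ F : MvPolynomial (Fin (e + 1)) A, residue V (ψ F) ∈ L := by
      intro F
      induction F using MvPolynomial.induction_on with
      | C a =>
        rw [show ψ (C a) = algebraMap A V a from eval₂Hom_C _ _ a,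
          show residue V (algebraMap A V a) = φ (residue A a) from (RingHom.congr_fun hφ a).symm]
        exact L.algebraMap_mem (residue A a)
      | add f g hf hg => rw [map_add, map_add]; exact add_mem hf hg
      | mul_X f i hf =>
        rw [map_mul, map_mul]
        refine mul_mem hf ?_
        induction i using Fin.cases with
        | zero => simp [ψ, hT0]
        | succ i =>
          simp only [ψ, eval₂Hom_X']
          exact IntermediateField.subset_adjoin _ _ ⟨⟨i⟩, rfl⟩
    by_cases hu : IsUnit z
    · obtain ⟨a, b, n, hb, hb', ha, hza⟩ := (mem_ordRing hx hspan).mp z.2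
      obtain ⟨F, hF, hFa⟩ := AdicLim.exists_isHomogeneous_eval x hspan ha
      obtain ⟨G, hG, hGb⟩ := AdicLim.exists_isHomogeneous_eval x hspan hb
      have hG0 : map (residue A) G ≠ 0 := fun h => hb' (hGb ▸ QReg.eval_mem_pow_succ
        (fun i => hspan ▸ Ideal.subset_span (Set.mem_range_self i)) hG ((QReg.map_mk_eq_zero_iff _ _).mp h))
      have hzG : z * ψ G = ψ F := Subtype.ext (by
        apply mul_right_cancel₀ ((map_ne_zero_iff _ hinj).mpr fun h => (hxpow n).2 (by rw [h]; exact zero_mem _) :
          am (x 0 ^ n) ≠ 0)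
        show (z : FractionRing A) * ψ G * _ = _
        rw [mul_assoc, hψ hG, hψ hF, hGb, hFa, hza])
      have : residue V z = residue V (ψ F) / residue V (ψ G) := by
        rw [eq_div_iff (hψu hG hG0), ← map_mul, hzG]
      rw [this]
      exact div_mem (hmem F) (hmem G)
    · rw [(residue_eq_zero_iff z).mpr hu]
      exact zero_mem _

end Groth.Agent.S4947
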