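import Groth.Statements.S4951
-- import your own Groth.Agent.* helpers here

set_option autoImplicit false
universe u
open EGA43

namespace Groth.Agent.S4951

/-- Let X be a locally Noetherian topological space in which every irreducible closed subset has a
unique generic point (X quasi-sober and T₀), and Z a closed nowhere dense subset of X such that for
every point x of Z the set of generizations of x distinct from x is connected (possibly empty). If X
is connected, then X − Z is connected. (Uniqueness of generic points, automatic for the underlying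
space of a scheme, is needed: in the four-point space {u, v, z₁, z₂} whose open sets are ∅, {u},
{v}, {u, v} and the whole space, the closed nowhere dense set Z = {z₁, z₂} satisfies the hypothesis,
since z₂ is a generization of z₁ and conversely, yet X − Z = {u, v} is not connected.) -/
theorem result {X : Type u} [TopologicalSpace X]
    [QuasiSober X] [T0Space X] (hloc : ∀ x : X, ∃ U ∈ nhds x, TopologicalSpace.NoetherianSpace ↥U) [ConnectedSpace X]
    (Z : Set X) (hZ : IsClosed Z) (hZn : IsNowhereDense Z)
    (hgen : ∀ x ∈ Z, IsPreconnected ({x' : X | x' ⤳ x} \ {x})) :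
    IsConnected Zᶜ := by
  classical
  have hd : Dense Zᶜ := by
    rw [← interior_eq_empty_iff_dense_compl]
    rw [← hZ.closure_eq]; exact hZn
  have hop : IsOpen Zᶜ := hZ.isOpen_compl
  refine ⟨hd.nonempty, ?_⟩
  rintro U V hU hV hcov ⟨u, huZ, huU⟩ ⟨v, hvZ, hvV⟩
  by_contra hno
  rw [Set.not_nonempty_iff_eq_empty] at hno
  -- replace by open subsets of the complement
  set U' := Zᶜ ∩ U with hU'def
  set V' := Zᶜ ∩ V with hV'def
  have hU' : IsOpen U' := hop.inter hU
  have hV' : IsOpen V' := hop.inter hV
  have hdisj : Disjoint U' V' := by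
    rw [Set.disjoint_iff_inter_eq_empty, ← hno]
    ext z; simp [hU'def, hV'def]; tauto
  have hcov' : Zᶜ = U' ∪ V' := by
    ext z; constructor
    · intro hz; rcases hcov hz with h | h
      · exact Or.inl ⟨hz, h⟩
      · exact Or.inr ⟨hz, h⟩
    · rintro (h | h) <;> exact h.1
  have htot : closure U' ∪ closure V' = Set.univ := by
    rw [← closure_union, ← hcov', hd.closure_eq]
  have hAB : (closure U' ∩ closure V').Nonempty := by
    have := isPreconnected_closed_iff.mp (PreconnectedSpace.isPreconnected_univ (α := X))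
      (closure U') (closure V') isClosed_closure isClosed_closure htot.ge
      ⟨u, trivial, subset_closure ⟨huZ, huU⟩⟩ ⟨v, trivial, subset_closure ⟨hvZ, hvV⟩⟩
    simpa using this
  -- a maximal point of the intersection
  obtain ⟨x₀, hx₀⟩ := hAB
  have hClosed : IsClosed (closure U' ∩ closure V') := isClosed_closure.inter isClosed_closure
  obtain ⟨C, hC, hmax⟩ : ∃ C, C ∈ irreducibleComponents ↥(closure U' ∩ closure V') ∧ (⟨x₀, hx₀⟩ : ↥(closure U' ∩ closure V')) ∈ C :=
    ⟨_, irreducibleComponent_mem_irreducibleComponents _, mem_irreducibleComponent⟩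
  have hCi : IsIrreducible (Subtype.val '' C) :=
    hC.1.image _ continuous_subtype_val.continuousOn
  have hCc : IsClosed (Subtype.val '' C) :=
    hClosed.isClosedEmbedding_subtypeVal.isClosedMap _ (isClosed_of_mem_irreducibleComponents C hC)
  obtain ⟨x, hx⟩ := QuasiSober.sober hCi hCc
  have hxmem : x ∈ closure U' ∩ closure V' := by
    obtain ⟨c, -, hc⟩ := hx.mem
    exact hc ▸ c.2
  have hxZ : x ∈ Z := by
    by_contra hxZ
    have hx' : x ∈ U' ∪ V' := by rw [← hcov']; exact hxZ
    rcases hx' with h | h
    · exact (hdisj.closure_right hU').le_bot ⟨h, hxmem.2⟩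
    · exact (hdisj.closure_left hV').le_bot ⟨hxmem.1, h⟩
  have hG : ∀ y, y ⤳ x → y ≠ x → y ∉ closure U' ∩ closure V' := by
    intro y hyx hne hy
    apply hne
    have hy' : IsIrreducible (Subtype.val ⁻¹' closure {y} : Set ↥(closure U' ∩ closure V')) := by
      have hsub : closure {y} ⊆ closure U' ∩ closure V' := closure_minimal (by simpa using hy) hClosed
      have he : (Subtype.val ⁻¹' closure {y} : Set ↥(closure U' ∩ closure V')) =
          closure {(⟨y, hy⟩ : ↥(closure U' ∩ closure V'))} := by
        ext z
        rw [closure_subtype]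
        simp
      rw [he]
      exact isIrreducible_singleton.closure
    have hle : C ⊆ (Subtype.val ⁻¹' closure {y} : Set ↥(closure U' ∩ closure V')) := by
      intro c hc
      have h1 : x ⤳ (c : X) := hx.specializes ⟨c, hc, rfl⟩
      exact (hyx.trans h1).mem_closure
    have hge := hC.2 hy' hle
    have hyC : (⟨y, hy⟩ : ↥(closure U' ∩ closure V')) ∈ C := hge (subset_closure rfl)
    exact (Specializes.antisymm hyx (hx.specializes ⟨_, hyC, rfl⟩)).eq
  -- generisations inside an open set
  have hgenV : ∀ W : Set X, IsOpen W → x ∈ closure W → ∃ y ∈ W, y ⤳ x := by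
    intro W hW hxW
    obtain ⟨N, hN, hNs⟩ := hloc x
    obtain ⟨N', hN'sub, hN'o, hxN'⟩ := mem_nhds_iff.mp hN
    have : TopologicalSpace.NoetherianSpace ↥(W ∩ N') :=
      TopologicalSpace.NoetherianSpace.of_subset (W := N) (Set.inter_subset_right.trans hN'sub)
    have hfin := TopologicalSpace.NoetherianSpace.finite_irreducibleComponents (α := ↥(W ∩ N'))
    have hcl : x ∈ closure (W ∩ N') := by
      rw [mem_closure_iff] at hxW ⊢
      intro o ho hxo
      obtain ⟨w, hw, hwW⟩ := hxW (o ∩ N') (ho.inter hN'o) ⟨hxo, hxN'⟩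
      exact ⟨w, hw.1, hwW, hw.2⟩
    have hun : W ∩ N' = ⋃ D ∈ irreducibleComponents ↥(W ∩ N'), Subtype.val '' D := by
      ext w; simp only [Set.mem_iUnion, Set.mem_image, exists_prop]
      constructor
      · intro hw
        exact ⟨_, irreducibleComponent_mem_irreducibleComponents ⟨w, hw⟩, ⟨w, hw⟩, mem_irreducibleComponent, rfl⟩
      · rintro ⟨D, -, a, -, rfl⟩; exact a.2
    rw [hun, hfin.closure_biUnion] at hcl
    simp only [Set.mem_iUnion] at hcl
    obtain ⟨D, hD, hxD⟩ := hcl
    obtain ⟨η, hη⟩ := QuasiSober.sober (hD.1.image _ continuous_subtype_val.continuousOn).closure isClosed_closure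
    obtain ⟨d, hd⟩ := hD.1.nonempty
    refine ⟨η, ?_, hη.specializes hxD⟩
    exact ((hW.inter hN'o).stableUnderGeneralization
      (hη.specializes (subset_closure ⟨d, hd, rfl⟩)) d.2).1
  obtain ⟨a, haU, hax⟩ := hgenV U' hU' hxmem.1
  obtain ⟨b, hbV, hbx⟩ := hgenV V' hV' hxmem.2
  have hane : a ≠ x := fun h => haU.1 (h ▸ hxZ)
  have hbne : b ≠ x := fun h => hbV.1 (h ▸ hxZ)
  obtain ⟨z, ⟨hzx, hzne⟩, hz⟩ := isPreconnected_closed_iff.mp (hgen x hxZ) (closure U') (closure V')
    isClosed_closure isClosed_closure (by rw [htot]; exact Set.subset_univ _)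
    ⟨a, ⟨hax, hane⟩, subset_closure haU⟩ ⟨b, ⟨hbx, hbne⟩, subset_closure hbV⟩
  exact hG z hzx hzne hz

end Groth.Agent.S4951
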