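import Groth.Statements.S4954
import Groth.Agent.GeomUnib.FibreDimSemi
-- import your own Groth.Agent.* helpers here

set_option autoImplicit false
open CategoryTheory AlgebraicGeometry
universe u v w
open EGA43

namespace Groth.Agent.S4954

/-- Let f : X ⟶ Y be a morphism of finite presentation with a section g : Y ⟶ X, and for y in Y let
X_y^0 be the connected component of f⁻¹(y) containing g y. Suppose that every X_y^0 is geometrically
irreducible over κ(y) (its preimage in X_y ⊗ K is irreducible for every field extension K of κ(y)).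
Then the function y ↦ dim X_y^0 is upper semicontinuous on Y. -/
theorem result {X Y : Scheme.{u}} (f : X ⟶ Y)
    [LocallyOfFinitePresentation f] [QuasiCompact f] [QuasiSeparated f] (g : Y ⟶ X) (hg : g ≫ f = 𝟙 Y)
    (hirr : ∀ y : Y, (∀ (K : Type u) [Field K] [Algebra (IsLocalRing.ResidueField (Y.presheaf.stalk y)) K],
        IsIrreducible ((FBase.bcπ (f.fiberToSpecResidueField y) K ≫ f.fiberι y).base ⁻¹' connectedComponentIn (f.base ⁻¹' {y}) (g.base y)))) :
    UpperSemicontinuous (fun y : Y => topologicalKrullDim ↥(connectedComponentIn (f.base ⁻¹' {y}) (g.base y))) := by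
  open Groth.Agent in
  have hgf : ∀ y, f.base (g.base y) = y := fun y => by rw [← Scheme.Hom.comp_apply, hg]; rfl
  have key : ∀ y, topologicalKrullDim ↥(connectedComponentIn (f.base ⁻¹' {y}) (g.base y)) =
      FlatMor.fibreDimAt f (g.base y) := by
    intro y
    refine GeomUnib.dim_component_eq f y _ (hgf y) ?_
    let k := IsLocalRing.ResidueField (Y.presheaf.stalk y)
    have h := hirr y k
    let π := FBase.bcπ (f.fiberToSpecResidueField y) k
    haveI : Surjective π := inferInstanceAs (Surjective (Limits.pullback.fst _ (Spec.map (CommRingCat.ofHom (algebraMap k k)))))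
    have hsurj : (π ≫ f.fiberι y).base '' ((π ≫ f.fiberι y).base ⁻¹' connectedComponentIn (f.base ⁻¹' {y}) (g.base y)) =
        connectedComponentIn (f.base ⁻¹' {y}) (g.base y) := by
      refine Set.image_preimage_eq_of_subset fun w hw => ?_
      obtain ⟨v, rfl⟩ := (f.range_fiberι y).ge (connectedComponentIn_subset _ _ hw)
      obtain ⟨u', rfl⟩ := π.surjective v
      exact ⟨u', rfl⟩
    rw [← hsurj]
    exact h.image _ (π ≫ f.fiberι y).continuous.continuousOn
  show UpperSemicontinuous _
  simp only [key]
  intro y c hc
  obtain ⟨O, hO, hle⟩ := GeomUnib.exists_nhds_fibreDimAt_le f (g.base y)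
  filter_upwards [(g ⁻¹ᵁ O).2.mem_nhds hO] with z hz
  exact lt_of_le_of_lt (hle _ hz) hc

end Groth.Agent.S4954
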