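import Groth.Statements.S4955
import Groth.Agent.GeomUnib.SectionUnivOpen
import Groth.Agent.GeomUnib.SectionOpenGeneral
-- import your own Groth.Agent.* helpers here

set_option autoImplicit false
open CategoryTheory AlgebraicGeometry
universe u v w
open EGA43

namespace Groth.Agent.S4955

/-- Let f : X ⟶ Y be a morphism of finite presentation with a section g, X_y^0 the connected component
of f⁻¹(y) containing g y, X^0 their union, and suppose every X_y^0 is geometrically irreducible over
κ(y). Let x₀ be a point of X^0 and y₀ = f x₀, and suppose y ↦ dim X_y^0 is constant on a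
neighbourhood of y₀. Then there is an open neighbourhood U of y₀ such that f is universally open at
every point of X^0 lying over U; and if moreover Y is reduced and the fibre over y₀ is geometrically
reduced at x₀, then f is flat at x₀. -/
theorem result {X Y : Scheme.{u}} (f : X ⟶ Y)
    [LocallyOfFinitePresentation f] [QuasiCompact f] [QuasiSeparated f] (g : Y ⟶ X) (hg : g ≫ f = 𝟙 Y)
    (hirr : ∀ y : Y, (∀ (K : Type u) [Field K] [Algebra (IsLocalRing.ResidueField (Y.presheaf.stalk y)) K],
        IsIrreducible ((FBase.bcπ (f.fiberToSpecResidueField y) K ≫ f.fiberι y).base ⁻¹' connectedComponentIn (f.base ⁻¹' {y}) (g.base y))))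
    (x₀ : X) (hx₀ : x₀ ∈ MoreMor.sectionComponents f g)
    (hconst : ∃ V ∈ nhds (f.base x₀), ∀ z ∈ V, topologicalKrullDim ↥(connectedComponentIn (f.base ⁻¹' {z}) (g.base z)) = topologicalKrullDim ↥(connectedComponentIn (f.base ⁻¹' {(f.base x₀)}) (g.base (f.base x₀)))) :
    (∃ U : Y.Opens, f.base x₀ ∈ U ∧ ∀ x ∈ MoreMor.sectionComponents f g, f.base x ∈ U → EGA43.IsUnivOpenAt f x) ∧
      (IsReduced Y → FBase.IsGeomReducedAt (f.fiberToSpecResidueField (f.base x₀)) (f.asFiber x₀) →
        (f.stalkMap x₀).hom.Flat) := by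
  classical
  obtain ⟨V, hV, hVd⟩ := hconst
  obtain ⟨W, hWV, hW, hxW⟩ := mem_nhds_iff.1 hV
  let W' : Y.Opens := ⟨W, hW⟩
  have hcst : ∀ a ∈ W', ∀ b ∈ W', GeomUnib.SectionComp.d0 f g a = GeomUnib.SectionComp.d0 f g b :=
    fun a ha b hb => (hVd a (hWV ha)).trans (hVd b (hWV hb)).symm
  refine ⟨⟨W', hxW, fun x hx hxW' => GeomUnib.SectionBC.isUnivOpenAt_of_fibreDimAt_le hg hx (hirr _) fun η hη => ?_⟩,
    fun hY hred => ?_⟩
  · rw [GeomUnib.SectionComp.fibreDimAt_section hg hirr, hcst _ hxW' η (hη.mem_open hW hxW')]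
  · haveI := hY
    exact (GeomUnib.SectionBC.flat_and_nhds_of_const hg hirr hcst hxW hx₀ ((GeomUnib.SectionBC.grk_iff f x₀).2 hred)).1

end Groth.Agent.S4955
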