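import Groth.Statements.S4958
import Groth.Agent.GeomUnib.DimFormulaPoints
import Groth.Agent.GeomUnib.Equidim
-- import your own Groth.Agent.* helpers here

set_option autoImplicit false
open CategoryTheory AlgebraicGeometry
universe u v w
open EGA43

namespace Groth.Agent.S4958

/-- Let Y be an irreducible locally Noetherian scheme with generic point η, f : X ⟶ Y a morphism of
finite type and y a point of Y whose local ring O_{Y,y} is universally catenary. Suppose that dim
O_{X,z} = dim O_{Y,y} for every maximal point z of the fibre X_y. For z' in Y let E(z') be the set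
of dimensions of the irreducible components of X_{z'}. Then E(y) ⊆ E(η), and hence dim X_y ≤ dim
X_η. -/
theorem result {X Y : Scheme.{u}} [IrreducibleSpace Y]
    [IsLocallyNoetherian Y] (f : X ⟶ Y) [LocallyOfFiniteType f] [QuasiCompact f] (y : Y)
    (hcat : CAlg.IsUniversallyCatenary (Y.presheaf.stalk y))
    (hb : ∀ z : X, f.base z = y → (∀ z' : X, f.base z' = y → z ∈ closure {z'} → z' = z) →
      ringKrullDim (X.presheaf.stalk z) = ringKrullDim (Y.presheaf.stalk y)) :
    letI E : Y → Set (WithBot ℕ∞) := fun z =>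
      (fun Z : Set ↥(f.fiber z) => topologicalKrullDim ↥Z) '' irreducibleComponents ↥(f.fiber z)
    E y ⊆ E (genericPoint Y) ∧
      topologicalKrullDim ↥(f.fiber y) ≤ topologicalKrullDim ↥(f.fiber (genericPoint Y)) := by
  haveI := LocallyOfFiniteType.isLocallyNoetherian f
  have key : ∀ m : ↥(f.fiber y), FibDim.IsMax' m → ∃ η' : ↥(f.fiber (genericPoint Y)),
      FibDim.IsMax' η' ∧ topologicalKrullDim ↥(closure ({η'} : Set ↥(f.fiber (genericPoint Y)))) =
        topologicalKrullDim ↥(closure ({m} : Set ↥(f.fiber y))) := by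
    intro m hm
    set z := f.fiberι y m with hz
    have hzy : f.base z = y := (f.range_fiberι y).le ⟨m, rfl⟩
    have hmax : ∀ z' : X, f.base z' = y → z ∈ closure {z'} → z' = z := fun z' hz' hc => by
      obtain ⟨m', rfl⟩ := (f.range_fiberι y).ge hz'
      rw [hz, hm m' ((f.fiberι y).isEmbedding.toIsInducing.specializes_iff.1 (specializes_iff_mem_closure.2 hc))]
    have hmax' : ∀ z' : X, f.base z' = f.base z → z ∈ closure {z'} → z' = z :=
      fun z' hz' hc => hmax z' (hz'.trans hzy) hc
    obtain ⟨ξ, hξ, -, hξη, hd⟩ := GeomUnib.DimFormulaPoints.exists_dominating_component f hmax'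
      (by rw [hb z hzy hmax, hzy])
    obtain ⟨η', hη'⟩ := (f.range_fiberι (genericPoint Y)).ge hξη
    refine ⟨η', fun w hw => ?_, ?_⟩
    · refine (f.fiberι _).isEmbedding.injective ?_
      rw [hη']
      exact hξ _ (hη' ▸ hw.map (f.fiberι _).continuous)
    · rw [FibreDim.dim_closure_fibre, FibreDim.dim_closure_fibre, hη', hd, FibreDim.fibreDimAt_of_maximal f z hmax']
  refine ⟨?_, ?_⟩
  · rintro _ ⟨Z, hZ, rfl⟩
    obtain ⟨m, rfl, hm⟩ := FibDim.exists_isMax'_component hZ
    obtain ⟨η', hη', hd⟩ := key m hm
    exact ⟨closure {η'}, FibDim.closure_mem_components hη', hd⟩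
  · refine FibDim.topologicalKrullDim_le_of_max fun m hm => ?_
    obtain ⟨η', -, hd⟩ := key m hm
    rw [← hd]
    exact FibDim.dim_closure_le η'

end Groth.Agent.S4958
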