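import Groth.Statements.S4983
import Groth.Agent.FlatDescent.FibreDepth.Main

set_option autoImplicit false
open CategoryTheory AlgebraicGeometry
universe u v w
open EGA43

namespace Groth.Agent.S4983

/-- Let f : X ⟶ Y be a morphism locally of finite presentation and F a finitely presented O_X-module
which is f-flat; for x in X write F_{f x} for the restriction of F to the fibre of f through x. Then
the set of points x which lie on no embedded associated cycle of F_{f x} — every associated point of
F_{f x} specializing to x is not a specialization of another associated point — is open in X. -/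
theorem result {X Y : Scheme.{u}} (f : X ⟶ Y) [LocallyOfFinitePresentation f]
    (F : X.Modules) (hF : CohB1.IsFP F) (hflat : FlatMod.IsFlatOver f F) :
    IsOpen {x : X | ∀ z ∈ AssSch.Ass ((Scheme.Modules.pullback (f.fiberι (f.base x))).obj F), f.asFiber x ∈ closure {z} →
      ∀ z' ∈ AssSch.Ass ((Scheme.Modules.pullback (f.fiberι (f.base x))).obj F), z ∈ closure {z'} → z' = z} := by
  convert Groth.FlatDescent.FibreDepth.isOpen_noEmbAt f F hF hflat using 1
  ext x
  simp only [Groth.FlatDescent.FibreDepth.mem_ass_iff f F hF]
  constructor
  · intro h z hzx hf hz z' hz'z hf' hz'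
    obtain ⟨v, rfl⟩ : z ∈ Set.range (f.fiberι (f x)) := (f.range_fiberι (f x)).ge hf
    obtain ⟨v', rfl⟩ : z' ∈ Set.range (f.fiberι (f x)) := (f.range_fiberι (f x)).ge (hf'.trans hf)
    rw [h v hz ?_ v' hz' ?_]
    · rw [← specializes_iff_mem_closure, ← Groth.FlatDescent.FibreDepth.fiberι_specializes f, f.fiberι_asFiber]
      exact hzx
    · rw [← specializes_iff_mem_closure, ← Groth.FlatDescent.FibreDepth.fiberι_specializes f]
      exact hz'z
  · intro h v hv hvx v' hv' hv'v
    rw [← specializes_iff_mem_closure, ← Groth.FlatDescent.FibreDepth.fiberι_specializes f] at hvx hv'v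
    rw [f.fiberι_asFiber] at hvx
    exact (f.fiberι _).isEmbedding.injective (h _ hvx (Groth.FlatDescent.FibreDepth.apply_fiberι f v) hv _ hv'v
      ((Groth.FlatDescent.FibreDepth.apply_fiberι f v').trans (Groth.FlatDescent.FibreDepth.apply_fiberι f v).symm) hv')

end Groth.Agent.S4983
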