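import Groth.Statements.S4966
import Groth.Agent.FlatDescent.FibreDepth.Components
import Groth.Agent.S4983
import Groth.Agent.S4964

set_option autoImplicit false
open CategoryTheory AlgebraicGeometry
universe u v w
open EGA43

namespace Groth.Agent.S4966

/-- Let f : X ⟶ Y be a proper morphism of finite presentation and F a finitely presented O_X-module
which is f-flat; for y in Y write F_y for the restriction of F to the fibre X_y. Let Φ be a finite
set of natural numbers. Then the set of points y of Y such that F_y has no embedded associated point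
and the set of dimensions of the irreducible components of Supp(F_y) is exactly Φ is open in Y. -/
theorem result {X Y : Scheme.{u}} (f : X ⟶ Y) [IsProper f]
    [LocallyOfFinitePresentation f] (F : X.Modules) (hF : CohB1.IsFP F) (hflat : FlatMod.IsFlatOver f F) (Φ : Finset ℕ) :
    IsOpen {y : Y | AssSch.NoEmbedded ((Scheme.Modules.pullback (f.fiberι y)).obj F) ∧
      (fun Z : Set ↥{z : ↥(f.fiber y) | Nontrivial (((Scheme.Modules.pullback (f.fiberι y)).obj F).presheaf.stalk z)} => topologicalKrullDim ↥Z) '' irreducibleComponents ↥{z : ↥(f.fiber y) | Nontrivial (((Scheme.Modules.pullback (f.fiberι y)).obj F).presheaf.stalk z)} =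
        (fun n : ℕ => (n : WithBot ℕ∞)) '' (Φ : Set ℕ)} := by
  have h1 : IsOpen {y : Y | ∀ v : ↥(f.fiber y), ∀ z ∈ AssSch.Ass ((Scheme.Modules.pullback (f.fiberι y)).obj F),
      v ∈ closure {z} → ∀ z' ∈ AssSch.Ass ((Scheme.Modules.pullback (f.fiberι y)).obj F),
        z ∈ closure {z'} → z' = z} :=
    Groth.FlatDescent.FibreDepth.isOpen_forall_fibre f (fun y v => ∀ z ∈ AssSch.Ass ((Scheme.Modules.pullback (f.fiberι y)).obj F),
      v ∈ closure {z} → ∀ z' ∈ AssSch.Ass ((Scheme.Modules.pullback (f.fiberι y)).obj F),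
        z ∈ closure {z'} → z' = z) (Groth.Agent.S4983.result f F hF hflat)
  have h3 : IsOpen (⋂ n ∈ (Φ : Set ℕ), {y : Y | ∃ Z ∈ irreducibleComponents
      ↥{z : ↥(f.fiber y) | Nontrivial (Groth.FlatDescent.FibreDepth.fibN f F z)}, topologicalKrullDim ↥Z = (n : WithBot ℕ∞)}) :=
    Φ.finite_toSet.isOpen_biInter fun n _ => Groth.FlatDescent.FibreDepth.isOpen_exists_component f F hF hflat n
  convert (h1.inter (Groth.Agent.S4964.result f F hF hflat Φ)).inter h3 using 1
  ext y
  refine (Groth.FlatDescent.FibreDepth.noEmbedded_and_dims_iff f F hF y Φ).trans ?_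
  simp only [Set.mem_inter_iff, Set.mem_iInter, Finset.mem_coe, Set.mem_setOf_eq]
  constructor
  · rintro ⟨ha, hb, hc⟩
    exact ⟨⟨fun v z hz _ z' hz' hzz' => (ha z hz z' hz' (specializes_iff_mem_closure.mpr hzz')).symm, hb⟩, hc⟩
  · rintro ⟨⟨ha, hb⟩, hc⟩
    exact ⟨fun z hz z' hz' hsp => (ha z z hz (subset_closure rfl) z' hz' (specializes_iff_mem_closure.mp hsp)).symm,
      hb, hc⟩

end Groth.Agent.S4966
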