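import Groth.Statements.S4969
import Groth.Agent.FlatDescent.FibreDepth.Apps

set_option autoImplicit false
open CategoryTheory AlgebraicGeometry
universe u v w
open EGA43

namespace Groth.Agent.S4969

/-- Let f : X ⟶ Y be a proper morphism of finite presentation and F a finitely presented O_X-module
which is f-flat; for y in Y let F_y be the restriction of F to the fibre X_y. Then the function y ↦
dim Supp(F_y) is locally constant on Y. -/
theorem result {X Y : Scheme.{u}} (f : X ⟶ Y) [IsProper f]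
    [LocallyOfFinitePresentation f] (F : X.Modules) (hF : CohB1.IsFP F) (hflat : FlatMod.IsFlatOver f F) :
    IsLocallyConstant (fun y : Y => topologicalKrullDim ↥{z : ↥(f.fiber y) | Nontrivial (((Scheme.Modules.pullback (f.fiberι y)).obj F).presheaf.stalk z)}) := by
  refine (IsLocallyConstant.iff_exists_open _).mpr fun y => ?_
  by_cases hne : ∃ v : f.fiber y, f.fiberι y v ∈ Groth.FlatDescent.FibreDepth.Sp F
  · have hbd : ∃ d : ℕ, ∀ v : f.fiber y, Groth.FlatDescent.FibreDepth.delta f F (f.fiberι y v) ≤ (d : WithBot ℕ∞) := by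
      haveI : CompactSpace (f.fiber y) := inferInstance
      obtain ⟨s, hs⟩ := isCompact_univ.elim_finite_subcover
        (fun d : ℕ => f.fiberι y ⁻¹' {x | Groth.FlatDescent.FibreDepth.delta f F x ≤ (d : WithBot ℕ∞)})
        (fun d => (Groth.FlatDescent.FibreDepth.isOpen_delta_le f F hF d).preimage (f.fiberι y).continuous)
        (fun v _ => Set.mem_iUnion.mpr (Groth.FlatDescent.FibreDepth.exists_delta_le f F hF (f.fiberι y v)))
      refine ⟨s.sup id, fun v => ?_⟩
      obtain ⟨d, hd, hv⟩ := Set.mem_iUnion₂.mp (hs (Set.mem_univ v))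
      exact le_trans hv (by exact_mod_cast Finset.le_sup (f := id) hd)
    classical
    let n := Nat.find hbd
    have hn := Nat.find_spec hbd
    have hmem : ∀ y' : Y, (∀ v : f.fiber y', Groth.FlatDescent.FibreDepth.delta f F (f.fiberι y' v) ≤ (n : WithBot ℕ∞)) →
        y' ∈ f '' Groth.FlatDescent.FibreDepth.onDim f F n →
        topologicalKrullDim ↥{z : ↥(f.fiber y') | Nontrivial (Groth.FlatDescent.FibreDepth.fibN f F z)} = (n : WithBot ℕ∞) := by
      intro y' hle hc
      refine le_antisymm ((Groth.FlatDescent.FibreDepth.dim_support_fibre_le_iff f F hF y' n).mpr hle) ?_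
      obtain ⟨Z, -, hZ⟩ := (Groth.FlatDescent.FibreDepth.exists_component_iff f F hF y' n).mpr hc
      rw [← hZ]
      exact Topology.IsInducing.subtypeVal.topologicalKrullDim_le
    have hy : y ∈ f '' Groth.FlatDescent.FibreDepth.onDim f F n := by
      obtain ⟨v, hv⟩ : ∃ v : f.fiber y, f.fiberι y v ∈ Groth.FlatDescent.FibreDepth.Sp F ∧ Groth.FlatDescent.FibreDepth.delta f F (f.fiberι y v) = (n : WithBot ℕ∞) := by
        by_contra hc
        obtain ⟨v₀, hv₀⟩ := hne
        rcases Groth.FlatDescent.FibreDepth.nat_data f F hF (f.fiberι y v₀) with ⟨h, -⟩ | ⟨-, D, d, c, -, -, -, -, -, hδ⟩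
        · exact h hv₀
        have h0 : D + c ≤ n := by
          have := hn v₀
          rw [hδ] at this
          exact_mod_cast this
        have hne0 : D + c ≠ n := fun h => hc ⟨v₀, hv₀, by rw [hδ, h]⟩
        refine Nat.find_min hbd (m := n - 1) (by omega) fun v => ?_
        rcases Groth.FlatDescent.FibreDepth.nat_data f F hF (f.fiberι y v) with ⟨-, -, -, hδ', -⟩ | ⟨hS, D', d', c', -, -, -, -, -, hδ'⟩
        · rw [hδ']; exact bot_le
        · have h1 : D' + c' ≤ n := by
            have := hn v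
            rw [hδ'] at this
            exact_mod_cast this
          have h2 : D' + c' ≠ n := fun h => hc ⟨v, hS, by rw [hδ', h]⟩
          rw [hδ']
          exact_mod_cast (by omega : D' + c' ≤ n - 1)
      obtain ⟨w, hwv, hfw, hwS, hw, hmin⟩ := Groth.FlatDescent.FibreDepth.exists_minimal_below f F hF hv.1
      obtain ⟨-, hp, hδ⟩ := Groth.FlatDescent.FibreDepth.minimal_data f F hF hwS hmin
      exact ⟨w, ⟨hwS, (hp.trans (hw.trans hv.2)).ge, (hδ.trans (hw.trans hv.2)).le⟩,
        hfw.trans (Groth.FlatDescent.FibreDepth.apply_fiberι f v)⟩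
    refine ⟨{y' : Y | ∀ v : f.fiber y', Groth.FlatDescent.FibreDepth.delta f F (f.fiberι y' v) ≤ (n : WithBot ℕ∞)} ∩ (f '' Groth.FlatDescent.FibreDepth.onDim f F n),
      IsOpen.inter ?_ ?_, ⟨hn, hy⟩, fun y' hy' => (hmem y' hy'.1 hy'.2).trans (hmem y hn hy).symm⟩
    · refine Groth.FlatDescent.FibreDepth.isOpen_forall_fibre f (fun y' v => Groth.FlatDescent.FibreDepth.delta f F (f.fiberι y' v) ≤ (n : WithBot ℕ∞)) ?_
      simp only [f.fiberι_asFiber]
      exact Groth.FlatDescent.FibreDepth.isOpen_delta_le f F hF n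
    · exact Groth.FlatDescent.FibreDepth.isOpen_image_Sp f F hF hflat
        ((Groth.FlatDescent.FibreDepth.isOpen_le_prof f F hF hflat n).inter (Groth.FlatDescent.FibreDepth.isOpen_delta_le f F hF n))
  · refine ⟨(f '' Groth.FlatDescent.FibreDepth.Sp F)ᶜ, (f.isClosedMap _ (Groth.FlatDescent.FibreDepth.isClosed_Sp F hF)).isOpen_compl, ?_, fun y' hy' => ?_⟩
    · rintro ⟨x, hx, rfl⟩
      exact hne ⟨f.asFiber x, by rwa [f.fiberι_asFiber]⟩
    · have key : ∀ y₀ : Y, (∀ v : f.fiber y₀, f.fiberι y₀ v ∉ Groth.FlatDescent.FibreDepth.Sp F) →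
          topologicalKrullDim ↥{z : ↥(f.fiber y₀) | Nontrivial (Groth.FlatDescent.FibreDepth.fibN f F z)} = ⊥ := fun y₀ h => by
        haveI : IsEmpty ↥{z : ↥(f.fiber y₀) | Nontrivial (Groth.FlatDescent.FibreDepth.fibN f F z)} :=
          ⟨fun z => h z.1 ((Groth.FlatDescent.FibreDepth.nontrivial_fibN_iff f F hF z.1).mp z.2)⟩
        haveI : IsEmpty (TopologicalSpace.IrreducibleCloseds ↥{z : ↥(f.fiber y₀) | Nontrivial (Groth.FlatDescent.FibreDepth.fibN f F z)}) :=
          ⟨fun Z => isEmptyElim Z.isIrreducible.nonempty.choose⟩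
        exact Order.krullDim_eq_bot
      exact (key y' fun v hv => hy' ⟨_, hv, Groth.FlatDescent.FibreDepth.apply_fiberι f v⟩).trans (key y fun v hv => hne ⟨v, hv⟩).symm

end Groth.Agent.S4969
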