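import Groth.Statements.S4971
import Mathlib

set_option autoImplicit false
universe u
open EGA43

namespace Groth.Agent.S4971

/-- Let B be a Noetherian local ring, M, N, P three B-modules with N finitely generated, u : M → N and v
: N → P linear maps with v ∘ u = 0, and t an element of the maximal ideal of B which is P-regular.
If the induced sequence M/tM → N/tN → P/tP is exact, then M → N → P is exact. -/
theorem result {B : Type u} [CommRing B] [IsNoetherianRing B] [IsLocalRing B]
    {M N P : Type u} [AddCommGroup M] [Module B M] [AddCommGroup N] [Module B N] [Module.Finite B N]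
    [AddCommGroup P] [Module B P] (u : M →ₗ[B] N) (v : N →ₗ[B] P) (huv : v ∘ₗ u = 0) (t : B)
    (ht : t ∈ IsLocalRing.maximalIdeal B) (hreg : IsSMulRegular P t)
    (hu : (Ideal.span {t} • ⊤ : Submodule B M) ≤ (Ideal.span {t} • ⊤ : Submodule B N).comap u)
    (hv : (Ideal.span {t} • ⊤ : Submodule B N) ≤ (Ideal.span {t} • ⊤ : Submodule B P).comap v)
    (hex : LinearMap.ker ((Ideal.span {t} • ⊤ : Submodule B N).mapQ (Ideal.span {t} • ⊤ : Submodule B P) v hv) ≤
      LinearMap.range ((Ideal.span {t} • ⊤ : Submodule B M).mapQ (Ideal.span {t} • ⊤ : Submodule B N) u hu)) :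
    LinearMap.ker v ≤ LinearMap.range u := by
  refine Submodule.le_of_le_smul_of_le_jacobson_bot (I := Ideal.span {t})
    (IsNoetherian.noetherian (LinearMap.ker v)) ?_ ?_
  · rw [IsLocalRing.jacobson_eq_maximalIdeal ⊥ bot_ne_top, Ideal.span_singleton_le_iff_mem]
    exact ht
  · intro n hn
    have h1 : (Submodule.Quotient.mk n : N ⧸ (Ideal.span {t} • ⊤ : Submodule B N)) ∈
        LinearMap.ker ((Ideal.span {t} • ⊤ : Submodule B N).mapQ
          (Ideal.span {t} • ⊤ : Submodule B P) v hv) := by
      simp [LinearMap.mem_ker.mp hn]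
    obtain ⟨m', hm'⟩ := hex h1
    obtain ⟨m, rfl⟩ := Submodule.Quotient.mk_surjective _ m'
    rw [Submodule.mapQ_apply, Submodule.Quotient.eq] at hm'
    rw [Submodule.ideal_span_singleton_smul, Submodule.mem_smul_pointwise_iff_exists] at hm'
    obtain ⟨n', -, hn'⟩ := hm'
    have hvu : v (u m) = 0 := LinearMap.congr_fun huv m
    have hvn' : v n' = 0 := by
      apply hreg
      show t • v n' = t • 0
      rw [← v.map_smul, hn', map_sub, hvu, LinearMap.mem_ker.mp hn, sub_zero, smul_zero]
    rw [Submodule.mem_sup]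
    refine ⟨u m, ⟨m, rfl⟩, -(t • n'), ?_, ?_⟩
    · exact neg_mem (Submodule.smul_mem_smul (Ideal.mem_span_singleton_self t) hvn')
    · rw [hn']; abel

end Groth.Agent.S4971
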