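import Groth.Statements.S4973
import Mathlib

set_option autoImplicit false
open CategoryTheory AlgebraicGeometry
universe u v w
open EGA43

namespace Groth.Agent.S4973

open CategoryTheory.Limits in
/-- Let Y₀ and Y be integral schemes, g : Y ⟶ Y₀ a dominant morphism, f₀ : X₀ ⟶ Y₀ a dominant morphism
whose fibre over the generic point of Y₀ is irreducible, and X'₀ an irreducible component of X₀
meeting that generic fibre (it is unique), regarded as a reduced closed subscheme of X₀. If X = X₀
×_{Y₀} Y is an integral scheme, then the morphism X'₀ ×_{Y₀} Y ⟶ X induced by the inclusion of X'₀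
is an isomorphism. -/
theorem result {X₀ Y₀ Y : Scheme.{u}} [IsIntegral Y₀] [IsIntegral Y]
    (g : Y ⟶ Y₀) [IsDominant g] (f₀ : X₀ ⟶ Y₀) [IsDominant f₀]
    (hirr : IsIrreducible (f₀.base ⁻¹' {genericPoint Y₀}))
    (C : TopologicalSpace.Closeds X₀) (hC : (C : Set X₀) ∈ irreducibleComponents (X₀ : Type u))
    (hCη : ((C : Set X₀) ∩ f₀.base ⁻¹' {genericPoint Y₀}).Nonempty) [IsIntegral (pullback f₀ g)]
    (e₁ : ((Scheme.IdealSheafData.vanishingIdeal C).subschemeι ≫ f₀) ≫ 𝟙 Y₀ =
      (Scheme.IdealSheafData.vanishingIdeal C).subschemeι ≫ f₀) (e₂ : g ≫ 𝟙 Y₀ = 𝟙 Y ≫ g) :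
    IsIso (pullback.map ((Scheme.IdealSheafData.vanishingIdeal C).subschemeι ≫ f₀) g f₀ g
      (Scheme.IdealSheafData.vanishingIdeal C).subschemeι (𝟙 Y) (𝟙 Y₀) e₁ e₂) := by
  let i := (Scheme.IdealSheafData.vanishingIdeal C).subschemeι
  let κ := pullback.map (i ≫ f₀) g f₀ g i (𝟙 Y) (𝟙 Y₀) e₁ e₂
  have hr : Set.range i = (C : Set X₀) := by
    rw [Scheme.IdealSheafData.range_subschemeι, Scheme.IdealSheafData.coe_support_vanishingIdeal]
  have hκ : IsClosedImmersion κ := by
    have hκ1 : κ ≫ pullback.fst f₀ g = pullback.fst (i ≫ f₀) g ≫ i := pullback.lift_fst _ _ _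
    have hκ2 : κ ≫ pullback.snd f₀ g = pullback.snd (i ≫ f₀) g :=
      (pullback.lift_snd _ _ _).trans (Category.comp_id _)
    refine MorphismProperty.of_isPullback (P := @IsClosedImmersion) (g := i) (g' := κ)
      (f' := pullback.fst (i ≫ f₀) g) (f := pullback.fst f₀ g) ?_ inferInstance
    refine (IsPullback.of_right ?_ hκ1 (IsPullback.of_hasPullback f₀ g).flip).flip
    rw [hκ2]
    exact (IsPullback.of_hasPullback (i ≫ f₀) g).flip
  -- the generic fibre lies in the component
  obtain ⟨c, hc⟩ := QuasiSober.sober hC.1 C.2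
  have hcη : f₀ c = genericPoint Y₀ := by
    obtain ⟨x, hxC, hx⟩ := hCη
    exact ((genericPoint_specializes _).antisymm (((hc.specializes hxC).map f₀.continuous).trans
      (specializes_of_eq (hx : f₀ x = _)))).eq.symm
  have hsub : f₀ ⁻¹' {genericPoint Y₀} ⊆ (C : Set X₀) := by
    have h1 : (C : Set X₀) ⊆ closure (f₀ ⁻¹' {genericPoint Y₀}) := by
      rw [← hc.def]
      exact closure_mono (Set.singleton_subset_iff.mpr hcη)
    exact subset_closure.trans (hC.2 hirr.closure h1)
  let ξ := genericPoint ↥(pullback f₀ g)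
  have hξ : ξ ∈ Set.range κ := by
    have hgη : g (genericPoint Y) = genericPoint Y₀ := by
      apply ((genericPoint_spec Y₀).eq _).symm
      have := (genericPoint_spec Y).image g.continuous
      rwa [Set.image_univ, g.denseRange.closure_range] at this
    obtain ⟨x, hxC, hx⟩ := hCη
    obtain ⟨w, hw, hw'⟩ := Scheme.Pullback.exists_preimage_pullback (f := f₀) (g := g) x (genericPoint Y)
      ((hx : f₀ x = _).trans hgη.symm)
    have h1 : pullback.snd f₀ g ξ = genericPoint Y := by
      refine (((genericPoint_specializes w).map (pullback.snd f₀ g).continuous).antisymm ?_).eq.trans hw'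
      rw [hw']; exact genericPoint_specializes _
    rw [Scheme.Pullback.range_map]
    refine ⟨?_, ⟨pullback.snd f₀ g ξ, rfl⟩⟩
    rw [Set.mem_preimage, hr]
    apply hsub
    show f₀ (pullback.fst f₀ g ξ) = genericPoint Y₀
    rw [← Scheme.Hom.comp_apply, pullback.condition, Scheme.Hom.comp_apply, h1, hgη]
  have : Surjective κ := ⟨Set.range_eq_univ.mp (Set.eq_univ_of_forall fun z =>
    (genericPoint_specializes z).mem_closed κ.isClosedEmbedding.isClosed_range hξ)⟩
  exact isIso_of_isClosedImmersion_of_surjective κ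

end Groth.Agent.S4973
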