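import Groth.Statements.S4974
import Groth.Agent.GeomUnib.CodimFibre
import Groth.Agent.GeomUnib.Multisection
import Groth.Agent.HenselLib.Split
-- import your own Groth.Agent.* helpers here

set_option autoImplicit false
open CategoryTheory AlgebraicGeometry
universe u v w
open EGA43

namespace Groth.Agent.S4974

/-- Consider a complete Noetherian local domain A and put Y = Spec A. Suppose f : X ⟶ Y is locally of
finite type, and take a point x ∈ X mapping to the closed point of Y, where f is equidimensional at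
x and x is closed in the fibre containing it. Then one can find a local domain A' that contains A
and is finite as an A-algebra, together with a Y-morphism h : Spec A' ⟶ X that is an immersion and
has x in its image. -/
theorem result {A : Type u} [CommRing A] [IsDomain A]
    [IsNoetherianRing A] [IsLocalRing A] [IsAdicComplete (IsLocalRing.maximalIdeal A) A] {X : Scheme.{u}}
    (f : X ⟶ Spec (CommRingCat.of A)) [LocallyOfFiniteType f] (x : X) (hx : f.base x = IsLocalRing.closedPoint A)
    (hf : EGA43.IsEquidimAt f x) (hcl : ∀ x' : X, f.base x' = f.base x → x ⤳ x' → x' = x) :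
    ∃ (A' : Type u) (_ : CommRing A') (_ : IsDomain A') (_ : IsLocalRing A') (_ : Algebra A A') (_ : Module.Finite A A'),
      Function.Injective (algebraMap A A') ∧
      ∃ h : Spec (CommRingCat.of A') ⟶ X, h ≫ f = Spec.map (CommRingCat.ofHom (algebraMap A A')) ∧
        IsImmersion h ∧ x ∈ Set.range h.base := by
  classical
  obtain ⟨e, U, hxU, he, hgen, hm⟩ := GeomUnib.exists_equidim_data f hf
  obtain ⟨g, hg⟩ := QuasiSober.sober (isIrreducible_irreducibleComponent (x := x))
    isClosed_irreducibleComponent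
  have hgx := hg.specializes mem_irreducibleComponent
  have hgmax := fun b hb => GeomUnib.maximal_of_component g _ (irreducibleComponent_mem_irreducibleComponents x) hg b hb
  have hfg := hgen g (hgx.mem_open U.2 hxU) hgmax
  have hdim : FibreDim.fdim f g = FlatMor.fibreDimAt f x := by
    rw [he, hm g (hgx.mem_open U.2 hxU) fun b _ hb =>
      ((specializes_iff_mem_closure.2 hb).antisymm (hgmax b (specializes_iff_mem_closure.2 hb))).eq]
  obtain ⟨w, hwx, hw, hiso⟩ := GeomUnib.exists_gen_isolated f x g hgx ⊤ trivial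
    (fun y _ => hfg ▸ (genericPoint_specializes y).mem_closure) hdim hcl
  obtain ⟨T, i, hi, hT, hTr, ⟨t, rfl⟩, hft, hqf, -, hdom⟩ :=
    GeomUnib.exists_multisection f x w hwx (hw.trans hfg) hiso hcl
  haveI : IsIntegral T := isIntegral_of_irreducibleSpace_of_isReduced T
  obtain ⟨V, hV, htV, -⟩ := exists_isAffineOpen_mem_and_subset (X := T) (x := t) (U := ⊤) trivial
  haveI : Nonempty V.toScheme := ⟨⟨t, htV⟩⟩
  obtain ⟨ψ, hψ⟩ := Spec.map_surjective (hV.fromSpec ≫ i ≫ f)
  letI : Algebra A Γ(T, V) := ψ.hom.toAlgebra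
  haveI hlft : LocallyOfFiniteType (Spec.map ψ) := by rw [hψ]; infer_instance
  haveI hlqf : LocallyQuasiFinite (Spec.map ψ) := by rw [hψ]; infer_instance
  haveI : Algebra.FiniteType A Γ(T, V) :=
    RingHom.finiteType_algebraMap.mp ((HasRingHomProperty.Spec_iff (P := @LocallyOfFiniteType)).mp hlft)
  haveI : Algebra.QuasiFinite A Γ(T, V) :=
    (HasRingHomProperty.Spec_iff (P := @LocallyQuasiFinite)).mp hlqf
  haveI : HenselianRing A (IsLocalRing.maximalIdeal A) := inferInstance
  let q : PrimeSpectrum Γ(T, V) := hV.primeIdealOf ⟨t, htV⟩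
  have hqt : hV.fromSpec q = t := hV.fromSpec_primeIdealOf _
  have hqm : q.asIdeal.under A = IsLocalRing.maximalIdeal A := by
    have h1 : (Spec.map ψ).base q = IsLocalRing.closedPoint A := by
      rw [hψ, Scheme.Hom.comp_apply, hqt, Scheme.Hom.comp_apply]; exact hx
    exact congrArg PrimeSpectrum.asIdeal h1
  have hidem : ∀ a : Γ(T, V), IsIdempotentElem a → a ∉ q.asIdeal → a = 1 := fun a ha haq =>
    (IsIdempotentElem.iff_eq_zero_or_one.1 ha).resolve_left fun h0 => haq (h0 ▸ zero_mem _)
  obtain ⟨ε, hε, hεq, hεfg⟩ := HenselLib.exists_idem_at (R := A) q.asIdeal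
    (Ideal.map_le_iff_le_comap.2 hqm.ge)
  obtain rfl := hidem ε hε hεq
  haveI : Module.Finite A Γ(T, V) := ⟨by
    rwa [LinearMap.mulLeft_one, LinearMap.range_id] at hεfg⟩
  haveI : q.asIdeal.IsMaximal := Ideal.isMaximal_of_isIntegral_of_isMaximal_comap (R := A) q.asIdeal (by
    show (q.asIdeal.under A).IsMaximal
    rw [hqm]; infer_instance)
  haveI : IsLocalRing Γ(T, V) := by
    refine IsLocalRing.of_unique_max_ideal ⟨q.asIdeal, inferInstance, fun N hN => ?_⟩
    by_contra hne
    obtain ⟨a, ha, haq, hother⟩ := HenselLib.exists_separating_idem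
      (HenselLib.bijOn_idem (IsLocalRing.maximalIdeal A) Γ(T, V)).surjOn q.asIdeal
    exact hN.ne_top ((Ideal.eq_top_iff_one _).2 (hidem a ha haq ▸ hother N hN hne))
  refine ⟨Γ(T, V), inferInstance, inferInstance, inferInstance, inferInstance, inferInstance, ?_,
    hV.fromSpec ≫ i, ?_, inferInstance, ⟨q, ?_⟩⟩
  · rw [RingHom.injective_iff_ker_eq_bot]
    have hgp : (Spec.map ψ).base (⊥ : PrimeSpectrum Γ(T, V)) = (⊥ : PrimeSpectrum A) := by
      have h2 : hV.fromSpec (⊥ : PrimeSpectrum Γ(T, V)) = genericPoint T := by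
        refine ((genericPoint_specializes _).antisymm ?_).eq.symm
        obtain ⟨b, hb⟩ : genericPoint T ∈ Set.range hV.fromSpec := by
          rw [hV.range_fromSpec]
          exact (genericPoint_specializes t).mem_open V.2 htV
        rw [← hb]
        exact ((PrimeSpectrum.le_iff_specializes (⊥ : PrimeSpectrum Γ(T, V)) b).1 bot_le).map hV.fromSpec.continuous
      rw [hψ, Scheme.Hom.comp_apply, h2]
      refine ((PrimeSpectrum.le_iff_specializes ⊥ _).1 bot_le).antisymm ?_ |>.eq.symm
      have hd : (⊥ : PrimeSpectrum A) ∈ closure (Set.range (i ≫ f).base) := (i ≫ f).denseRange _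
      refine specializes_iff_mem_closure.2 (closure_minimal ?_ isClosed_closure hd)
      rintro _ ⟨s, rfl⟩
      exact ((genericPoint_specializes s).map (i ≫ f).continuous).mem_closure
    have h3 := congrArg PrimeSpectrum.asIdeal hgp
    change (⊥ : Ideal Γ(T, V)).comap ψ.hom = (⊥ : Ideal A) at h3
    rwa [← RingHom.ker_eq_comap_bot] at h3
  · rw [Category.assoc, ← hψ]; rfl
  · rw [Scheme.Hom.comp_apply, hqt]

end Groth.Agent.S4974
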