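import Groth.Statements.S4975
import Groth.Agent.GeomUnib.SectionOpen
-- import your own Groth.Agent.* helpers here

set_option autoImplicit false
open CategoryTheory AlgebraicGeometry
universe u v w
open EGA43
open Groth.Agent.GeomUnib

namespace Groth.Agent.S4975

/-- Let f : X ⟶ Y be a morphism locally of finite type with Y locally Noetherian, g : Y ⟶ X a section of
f, X_y^0 the connected component of f⁻¹(y) containing g y, and X^0 ⊆ X their union. Suppose every
X_y^0 is geometrically integral over κ(y) (its preimage in X_y ⊗ K is irreducible and has reduced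
local rings, for every field extension K of κ(y)). Then y ↦ dim X_y^0 is locally constant on Y if
and only if f is universally open at every point of X^0; and when this holds, X^0 is open in X. (The
published statement also lists, as a further equivalent condition, flatness of the base change of f
to the reduced closed subscheme Y_red at the points of X^0; that condition is not stated here.) -/
theorem result {X Y : Scheme.{u}}
    [IsLocallyNoetherian Y] (f : X ⟶ Y) [LocallyOfFiniteType f] (g : Y ⟶ X) (hg : g ≫ f = 𝟙 Y)
    (hint : ∀ y : Y, (∀ (K : Type u) [Field K] [Algebra (IsLocalRing.ResidueField (Y.presheaf.stalk y)) K],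
        IsIrreducible ((FBase.bcπ (f.fiberToSpecResidueField y) K ≫ f.fiberι y).base ⁻¹' connectedComponentIn (f.base ⁻¹' {y}) (g.base y)) ∧
        ∀ x' : ↥(FBase.bc (f.fiberToSpecResidueField y) K),
          (FBase.bcπ (f.fiberToSpecResidueField y) K ≫ f.fiberι y).base x' ∈ connectedComponentIn (f.base ⁻¹' {y}) (g.base y) →
          _root_.IsReduced ((FBase.bc (f.fiberToSpecResidueField y) K).presheaf.stalk x'))) :
    (IsLocallyConstant (fun y : Y => topologicalKrullDim ↥(connectedComponentIn (f.base ⁻¹' {y}) (g.base y))) ↔ ∀ x ∈ MoreMor.sectionComponents f g, EGA43.IsUnivOpenAt f x) ∧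
      (IsLocallyConstant (fun y : Y => topologicalKrullDim ↥(connectedComponentIn (f.base ⁻¹' {y}) (g.base y))) → IsOpen (MoreMor.sectionComponents f g)) := by
  have hirr : SectionComp.GeomIrred f g := fun y K _ _ => (hint y K).1
  have hred : ∀ (y : Y) (a : ↥(f.fiber y)), (f.fiberι y).base a ∈ SectionComp.X0 f g y →
      FBase.IsGeomReducedAt (f.fiberToSpecResidueField y) a := fun y a ha K _ _ x' hx' =>
    (hint y K).2 x' (by rw [Scheme.Hom.comp_apply, hx']; exact ha)
  have hredx : ∀ x : X, x ∈ SectionComp.X0 f g (f.base x) →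
      FBase.IsGeomReducedAt (f.fiberToSpecResidueField (f.base x)) (f.asFiber x) := fun x hx =>
    hred _ _ (by rw [Scheme.Hom.fiberι_asFiber]; exact hx)
  have hspec : IsLocallyConstant (fun y : Y => SectionComp.d0 f g y) →
      ∀ η y : Y, η ⤳ y → SectionComp.d0 f g η = SectionComp.d0 f g y := fun hc η y h => by
    obtain ⟨V, hV, hy, hVc⟩ := hc.exists_open y
    exact hVc η (h.mem_open hV hy)
  refine ⟨⟨fun hc x hx => SectionComp.isUnivOpenAt_of_d0_const hg hirr hx fun η hη => hspec hc η _ hη,
    fun hopen => (IsLocallyConstant.iff_exists_open _).2 fun y => ?_⟩, fun hc => ?_⟩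
  · obtain ⟨V, hV, hVc⟩ := SectionComp.exists_nhds_d0_eq hg hirr y fun η hη _ =>
      SectionComp.d0_le_of_geomReduced hg hirr (fun ξ hξ _ => hopen ξ (by
        show ξ ∈ SectionComp.X0 f g (f.base ξ)
        rw [SectionComp.apply_of_mem_X0 hξ]; exact hξ))
        (hredx _ (by rw [SectionComp.section_apply hg]; exact SectionComp.mem_X0 hg y)) hη
    obtain ⟨W, hWV, hW, hyW⟩ := mem_nhds_iff.1 hV
    exact ⟨W, hW, hyW, fun z hz => hVc z (hWV hz)⟩
  · haveI : IsLocallyNoetherian X := LocallyOfFiniteType.isLocallyNoetherian f
    exact SectionComp.isOpen_of_locallyNoetherian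
      (fun x z hzx hx => SectionComp.mem_X0_of_gen hg hirr hzx hx (hspec hc _ _ (hzx.map f.continuous)) (hredx x hx))
      (fun x hx => SectionComp.exists_nhds_closure_subset hg hirr hx (hredx x hx))

end Groth.Agent.S4975
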