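import Groth.Statements.S4978
import Groth.Agent.GeomUnib.DvrPoint
-- import your own Groth.Agent.* helpers here

set_option autoImplicit false
open CategoryTheory AlgebraicGeometry
universe u v w
open EGA43

namespace Groth.Agent.S4978

open CategoryTheory.Limits in
/-- Let Y be a Noetherian scheme, f : X ⟶ Y a separated morphism of finite type, Z a subset of X such
that every maximal point of the closure of Z belongs to Z, and y a point of Y. Then the closure of Z
is proper over Y at y (for some open U ∋ y, its trace on f⁻¹(U) is proper over U with the reduced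
structure) if and only if: for every discrete valuation ring A' and every morphism g : Spec A' ⟶ Y
mapping the closed point to y, every point x' of X' = X ×_Y Spec A' which projects into Z, lies over
the generic point η' of Spec A' and is rational over κ(η') is in the image of some section of X' ⟶
Spec A'. -/
theorem result {X Y : Scheme.{u}} [IsNoetherian Y] (f : X ⟶ Y) [IsSeparated f]
    [LocallyOfFiniteType f] [QuasiCompact f] (Z : Set X)
    (hZ : ∀ z ∈ closure Z, (∀ z' ∈ closure Z, z ∈ closure {z'} → z' = z) → z ∈ Z) (y : Y) :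
    (∃ U : Y.Opens, y ∈ U ∧ ∃ hC : IsClosed ((f ⁻¹ᵁ U).ι.base ⁻¹' closure Z),
      IsProper ((Scheme.IdealSheafData.vanishingIdeal
        (⟨(f ⁻¹ᵁ U).ι.base ⁻¹' closure Z, hC⟩ : TopologicalSpace.Closeds ↥(f ⁻¹ᵁ U))).subschemeι ≫ (f ∣_ U))) ↔
      ∀ (A' : Type u) [CommRing A'] [IsDomain A'] [IsDiscreteValuationRing A'] (g : Spec (CommRingCat.of A') ⟶ Y),
        g.base (IsLocalRing.closedPoint A') = y →
        ∀ x' : ↥(pullback f g), (pullback.fst f g).base x' ∈ Z →
          (pullback.snd f g).base x' = genericPoint (Spec (CommRingCat.of A')) →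
          Function.Bijective ((pullback.snd f g).residueFieldMap x').hom →
          ∃ s : Spec (CommRingCat.of A') ⟶ pullback f g, s ≫ pullback.snd f g = 𝟙 _ ∧ x' ∈ Set.range s.base := by
  open CategoryTheory.Limits IsLocalRing Groth.Agent in
  classical
  constructor
  · rintro ⟨U, hyU, hC, hprop⟩ A' _ _ _ g hg x' hxZ hxgen hbij
    let T := Scheme.IdealSheafData.vanishingIdeal (X := (f ⁻¹ᵁ U).toScheme)
      (⟨(f ⁻¹ᵁ U).ι.base ⁻¹' closure Z, hC⟩ : TopologicalSpace.Closeds ↥(f ⁻¹ᵁ U))
    obtain ⟨σ, hσx, hσ⟩ := GeomUnib.exists_gen_point (K := FractionRing A') (pullback.snd f g) x' hxgen hbij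
    have hgU : ∀ a, g a ∈ U := fun a =>
      ((specializes_closedPoint a).map g.continuous).mem_open U.isOpen (hg.symm ▸ hyU)
    let gU := IsOpenImmersion.lift U.ι g (by
      rintro _ ⟨a, rfl⟩
      rw [Scheme.Opens.range_ι]
      exact hgU a)
    have hgU' : gU ≫ U.ι = g := IsOpenImmersion.lift_fac _ _ _
    have hσc : (σ ≫ pullback.fst f g) ≫ f = GeomUnib.genMap A' (FractionRing A') ≫ g := by
      rw [Category.assoc, pullback.condition, reassoc_of% hσ]
    have hpt : ∀ p, (σ ≫ pullback.fst f g) p = pullback.fst f g x' := fun p => by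
      rw [Subsingleton.elim p (closedPoint _), Scheme.Hom.comp_apply, hσx]
    let xU := IsOpenImmersion.lift (f ⁻¹ᵁ U).ι (σ ≫ pullback.fst f g) (by
      rintro _ ⟨a, rfl⟩
      rw [Scheme.Opens.range_ι]
      show f ((σ ≫ pullback.fst f g) a) ∈ U
      rw [← Scheme.Hom.comp_apply, hσc]
      exact hgU _)
    have hxU : xU ≫ (f ⁻¹ᵁ U).ι = σ ≫ pullback.fst f g := IsOpenImmersion.lift_fac _ _ _
    obtain ⟨xT, hxT⟩ := S4367.result xU T.subschemeι (by
      rintro _ ⟨a, rfl⟩
      rw [Scheme.IdealSheafData.range_subschemeι, Scheme.IdealSheafData.coe_support_vanishingIdeal]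
      show (f ⁻¹ᵁ U).ι (xU a) ∈ closure Z
      rw [← Scheme.Hom.comp_apply, hxU, hpt]
      exact subset_closure hxZ)
    have hv : ValuativeCriterion (T.subschemeι ≫ (f ∣_ U)) := by
      have := hprop
      rw [IsProper.eq_valuativeCriterion] at this
      exact this.1.1.1
    have hsq : xT ≫ T.subschemeι ≫ (f ∣_ U) = GeomUnib.genMap A' (FractionRing A') ≫ gU := by
      rw [← cancel_mono U.ι]
      simp only [Category.assoc, hgU', morphismRestrict_ι]
      rw [reassoc_of% hxT, reassoc_of% hxU, ← hσc, Category.assoc]
    obtain ⟨hu⟩ := hv { R := A', K := FractionRing A', i₁ := xT, i₂ := gU, commSq := ⟨hsq⟩ }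
    obtain ⟨l₀, hl₀, hl₀'⟩ : ∃ l₀ : Spec (CommRingCat.of A') ⟶ T.subscheme,
        GeomUnib.genMap A' (FractionRing A') ≫ l₀ = xT ∧ l₀ ≫ T.subschemeι ≫ (f ∣_ U) = gU :=
      ⟨hu.default.l, hu.default.fac_left, hu.default.fac_right⟩
    let l := l₀ ≫ T.subschemeι ≫ (f ⁻¹ᵁ U).ι
    have hl1 : GeomUnib.genMap A' (FractionRing A') ≫ l = σ ≫ pullback.fst f g := by
      rw [reassoc_of% hl₀, reassoc_of% hxT, hxU]
    have hl2 : l ≫ f = 𝟙 _ ≫ g := by
      rw [Category.id_comp, ← hgU', ← hl₀']
      simp only [l, Category.assoc, morphismRestrict_ι]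
    refine ⟨pullback.lift l (𝟙 _) hl2, pullback.lift_snd _ _ _,
      GeomUnib.genMap A' (FractionRing A') (closedPoint _), ?_⟩
    rw [← hσx, ← Scheme.Hom.comp_apply]
    refine congrArg (fun m : Spec (CommRingCat.of (FractionRing A')) ⟶ pullback f g => m (closedPoint _)) ?_
    apply pullback.hom_ext
    · rw [Category.assoc, pullback.lift_fst, hl1]
    · rw [Category.assoc, pullback.lift_snd, Category.comp_id, hσ]
  · intro H
    haveI : IsLocallyNoetherian X := LocallyOfFiniteType.isLocallyNoetherian f
    haveI : CompactSpace X := QuasiCompact.compactSpace_of_compactSpace f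
    haveI : IsNoetherian X := {}
    have hcomp : ∀ z ∈ closure Z, (∀ z' ∈ closure Z, z ∈ closure {z'} → z' = z) →
        ∃ U : Y.Opens, y ∈ U ∧ IsProper (((Scheme.IdealSheafData.vanishingIdeal
          (⟨closure {z}, isClosed_closure⟩ : TopologicalSpace.Closeds X)).subschemeι ≫ f) ∣_ U) := by
      intro z hz hmax
      let T := Scheme.IdealSheafData.vanishingIdeal (⟨closure {z}, isClosed_closure⟩ : TopologicalSpace.Closeds X)
      have hr : Set.range T.subschemeι = closure {z} := by
        rw [Scheme.IdealSheafData.range_subschemeι, Scheme.IdealSheafData.coe_support_vanishingIdeal]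
        rfl
      haveI : IrreducibleSpace ↥T.subscheme := by
        have h1 : IsIrreducible (Set.range T.subschemeι) := hr ▸ isIrreducible_singleton.closure
        exact T.subschemeι.isEmbedding.toHomeomorph.irreducibleSpace_iff.2
          (Subtype.irreducibleSpace h1)
      haveI : IsReduced T.subscheme := GeomUnib.isReduced_vanishing _
      haveI : IsIntegral T.subscheme := isIntegral_of_irreducibleSpace_of_isReduced _
      let h := T.subschemeι ≫ f
      have hξz : T.subschemeι (genericPoint T.subscheme) = z := by
        have h1 := (genericPoint_spec T.subscheme).image T.subschemeι.continuous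
        rw [Set.image_univ, hr, closure_closure] at h1
        exact h1.eq isGenericPoint_closure
      by_cases hy : h (genericPoint T.subscheme) ⤳ y
      swap
      · refine ⟨⟨(closure {h (genericPoint T.subscheme)})ᶜ, isClosed_closure.isOpen_compl⟩,
          fun hc => hy (specializes_iff_mem_closure.2 hc), ?_⟩
        haveI : IsEmpty ↥((h ⁻¹ᵁ ⟨(closure {h (genericPoint T.subscheme)})ᶜ, isClosed_closure.isOpen_compl⟩).toScheme) := by
          refine ⟨fun a => a.2 ?_⟩
          exact ((genericPoint_specializes a.1).map h.continuous).mem_closure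
        haveI : IsClosedImmersion (h ∣_ ⟨(closure {h (genericPoint T.subscheme)})ᶜ, isClosed_closure.isOpen_compl⟩) :=
          inferInstance
        infer_instance
      refine UnivClosed.exists_proper_nhd h y hy fun A hA hmem hdom => ?_
      haveI := hA
      let ψ : Y.presheaf.stalk y ⟶ CommRingCat.of A :=
        CommRingCat.ofHom ((Y.presheaf.stalkSpecializes hy ≫ h.stalkMap (genericPoint T.subscheme) ≫
          T.subscheme.residue _).hom.codRestrict A.toSubring hmem)
      haveI : IsLocalHom ψ.hom := ⟨fun a ha => by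
        by_contra hna
        have h2 := (A.valuation_eq_one_iff (ψ a)).1 ha
        exact (hdom a hna).ne h2⟩
      let g := Spec.map ψ ≫ Y.fromSpecStalk y
      have hgc : g (closedPoint A) = y := by
        rw [Scheme.Hom.comp_apply, show Spec.map ψ (closedPoint A) = closedPoint (Y.presheaf.stalk y)
          from IsLocalRing.comap_closedPoint ψ.hom]
        exact Scheme.fromSpecStalk_closedPoint
      let x₀ := T.subscheme.fromSpecResidueField (genericPoint T.subscheme) ≫ T.subschemeι
      have hx₀ : x₀ ≫ f = GeomUnib.genMap A ↑(T.subscheme.residueField (genericPoint T.subscheme)) ≫ g := by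
        show _ = Spec.map _ ≫ Spec.map ψ ≫ _
        rw [← Spec.map_comp_assoc, show ψ ≫ CommRingCat.ofHom (algebraMap A (T.subscheme.residueField (genericPoint T.subscheme))) =
          Y.presheaf.stalkSpecializes hy ≫ h.stalkMap (genericPoint T.subscheme) ≫ T.subscheme.residue _ from rfl]
        simp only [Spec.map_comp, Category.assoc]
        rw [Scheme.SpecMap_stalkSpecializes_fromSpecStalk, Scheme.SpecMap_stalkMap_fromSpecStalk]
        simp [x₀, h, Scheme.fromSpecResidueField]
      obtain ⟨l₁, hl, hl'₁⟩ := GeomUnib.exists_lift_of_section (A := A)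
        (K := ↑(T.subscheme.residueField (genericPoint T.subscheme))) f g (H A g hgc) x₀ (by
        rw [Scheme.Hom.comp_apply, Scheme.fromSpecResidueField_apply, hξz]
        exact hZ z hz hmax) hx₀
      obtain ⟨l, hlT⟩ := S4367.result l₁ T.subschemeι (by
        rintro _ ⟨b, rfl⟩
        rw [hr, ← hξz]
        have h1 : genericPoint (Spec (CommRingCat.of A)) ⤳ b := genericPoint_specializes b
        have h2 := (h1.map l₁.continuous).mem_closure
        rwa [← GeomUnib.genMap_apply (K := T.subscheme.residueField (genericPoint T.subscheme)) (closedPoint _),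
          ← Scheme.Hom.comp_apply (GeomUnib.genMap A ↑(T.subscheme.residueField (genericPoint T.subscheme))), hl, Scheme.Hom.comp_apply,
          Scheme.fromSpecResidueField_apply] at h2)
      refine ⟨l (closedPoint A), ?_, fun b => ?_⟩
      · show h (l (closedPoint A)) = y
        rw [← Scheme.Hom.comp_apply, show l ≫ h = g by
          show l ≫ T.subschemeι ≫ f = g
          rw [reassoc_of% hlT, hl'₁], hgc]
      have hl' : GeomUnib.genMap A ↑(T.subscheme.residueField (genericPoint T.subscheme)) ≫ l = T.subscheme.fromSpecResidueField (genericPoint T.subscheme) := by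
        rw [← cancel_mono T.subschemeι, Category.assoc, hlT, hl]
      let θ : T.subscheme.presheaf.stalk (l (closedPoint A)) ⟶ CommRingCat.of A := Scheme.stalkClosedPointTo l
      have hθl : Spec.map θ ≫ T.subscheme.fromSpecStalk (l (closedPoint A)) = l :=
        Scheme.Spec_stalkClosedPointTo_fromSpecStalk (R := CommRingCat.of A) l
      have hθ : θ ≫ CommRingCat.ofHom A.subtype =
          T.subscheme.presheaf.stalkSpecializes (genericPoint_specializes (l (closedPoint A))) ≫
            T.subscheme.residue _ := by
        apply Spec.map_injective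
        rw [← cancel_mono (T.subscheme.fromSpecStalk (l (closedPoint A))), Spec.map_comp, Category.assoc, hθl,
          show Spec.map (CommRingCat.ofHom A.subtype) ≫ l = _ from hl', Spec.map_comp,
          Category.assoc, Scheme.SpecMap_stalkSpecializes_fromSpecStalk]
        rfl
      rw [← hθ]
      exact (θ b).2
    have hfin : {z : X | z ∈ closure Z ∧ ∀ z' ∈ closure Z, z ∈ closure {z'} → z' = z}.Finite := by
      have h1 := TopologicalSpace.NoetherianSpace.finite_irreducibleComponents (α := ↥(closure Z))
      refine Set.Finite.of_finite_image (f := fun z => (Subtype.val ⁻¹' closure {z} : Set ↥(closure Z))) ?_ ?_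
      · refine h1.subset ?_
        rintro _ ⟨z, ⟨hz, hmax⟩, rfl⟩
        refine ⟨⟨⟨⟨z, hz⟩, subset_closure rfl⟩, ?_⟩, fun T hT hle => ?_⟩
        · show IsPreirreducible (Subtype.val ⁻¹' closure {z} : Set ↥(closure Z))
          have : (Subtype.val ⁻¹' closure {z} : Set ↥(closure Z)) = closure {⟨z, hz⟩} := by
            rw [Topology.IsInducing.subtypeVal.closure_eq_preimage_closure_image, Set.image_singleton]
          rw [this]
          exact isIrreducible_singleton.closure.2
        · have hT' := hT.closure
          obtain ⟨w, hw⟩ := QuasiSober.sober (hT'.image Subtype.val continuous_subtype_val.continuousOn).closure isClosed_closure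
          have hsub : closure (Subtype.val '' closure T) ⊆ closure Z :=
            closure_minimal (by rintro _ ⟨a, -, rfl⟩; exact a.2) isClosed_closure
          have hzw : z ∈ closure {w} := hw.def.ge (subset_closure ⟨⟨z, hz⟩, subset_closure (hle (subset_closure rfl)), rfl⟩)
          have hwz := hmax w (hsub (hw.def.le (subset_closure rfl))) hzw
          intro a ha
          show (a : X) ∈ closure {z}
          rw [← hwz]
          exact hw.def.ge (subset_closure ⟨a, subset_closure ha, rfl⟩)
      · intro z hz z' hz' he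
        have e1 : z' ∈ closure {z} :=
          (Set.ext_iff.1 he ⟨z', hz'.1⟩).2 (subset_closure rfl)
        exact hz'.2 z hz.1 e1
    haveI := hfin.to_subtype
    choose! U hyU hU using fun z : {z : X | z ∈ closure Z ∧ ∀ z' ∈ closure Z, z ∈ closure {z'} → z' = z} =>
      hcomp z.1 z.2.1 z.2.2
    let V : Y.Opens := ⟨⋂ z, (U z : Set Y), isOpen_iInter_of_finite fun z => (U z).isOpen⟩
    refine ⟨V, Set.mem_iInter.2 hyU, ?_⟩
    suffices hP : ClSub.IsProperOver (f ∣_ V) ((f ⁻¹ᵁ V).ι.base ⁻¹' closure Z) from hP
    have hcov : (f ⁻¹ᵁ V).ι.base ⁻¹' closure Z =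
        ⋃ z : {z : X | z ∈ closure Z ∧ ∀ z' ∈ closure Z, z ∈ closure {z'} → z' = z},
          Set.range ((Scheme.IdealSheafData.vanishingIdeal
          (⟨closure {z.1}, isClosed_closure⟩ : TopologicalSpace.Closeds X)).subschemeι ∣_ (f ⁻¹ᵁ V)) := by
      ext a
      simp only [Set.mem_iUnion]
      constructor
      · intro ha
        obtain ⟨S', hS', haS'⟩ : ∃ S' ∈ irreducibleComponents ↥(closure Z), (⟨_, ha⟩ : ↥(closure Z)) ∈ S' :=
          ⟨_, irreducibleComponent_mem_irreducibleComponents _, mem_irreducibleComponent⟩
        obtain ⟨w, hw⟩ := QuasiSober.sober (hS'.1.image Subtype.val continuous_subtype_val.continuousOn).closure isClosed_closure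
        have hwZ : w ∈ closure Z :=
          closure_minimal (by rintro _ ⟨b, -, rfl⟩; exact b.2) isClosed_closure (hw.def.le (subset_closure rfl))
        refine ⟨⟨w, hwZ, fun z' hz' hwz' => ?_⟩, ?_⟩
        · have h2 : S' ≤ (Subtype.val ⁻¹' closure {z'} : Set ↥(closure Z)) := by
            intro b hb
            have hb1 : (b : X) ∈ closure {w} := hw.def.ge (subset_closure ⟨b, hb, rfl⟩)
            exact closure_minimal (Set.singleton_subset_iff.2 hwz') isClosed_closure hb1
          have hirr : IsIrreducible (Subtype.val ⁻¹' closure {z'} : Set ↥(closure Z)) := by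
            rw [show (Subtype.val ⁻¹' closure {z'} : Set ↥(closure Z)) = closure {⟨z', hz'⟩} by
              rw [Topology.IsInducing.subtypeVal.closure_eq_preimage_closure_image, Set.image_singleton]]
            exact isIrreducible_singleton.closure
          have h3 := hS'.2 hirr h2 (show (⟨z', hz'⟩ : ↥(closure Z)) ∈ _ from subset_closure rfl)
          have h4 : z' ∈ closure {w} := hw.def.ge (subset_closure ⟨_, h3, rfl⟩)
          exact ((specializes_iff_mem_closure.2 hwz').antisymm (specializes_iff_mem_closure.2 h4)).eq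
        · obtain ⟨b, hb⟩ : (f ⁻¹ᵁ V).ι a ∈ Set.range (Scheme.IdealSheafData.vanishingIdeal
              (⟨closure {w}, isClosed_closure⟩ : TopologicalSpace.Closeds X)).subschemeι := by
            rw [Scheme.IdealSheafData.range_subschemeι, Scheme.IdealSheafData.coe_support_vanishingIdeal]
            exact hw.def.ge (subset_closure ⟨_, haS', rfl⟩)
          refine ⟨⟨b, ?_⟩, (f ⁻¹ᵁ V).ι.isOpenEmbedding.injective ?_⟩
          · show _ ∈ (f ⁻¹ᵁ V)
            rw [hb]; exact a.2
          · rw [← Scheme.Hom.comp_apply, morphismRestrict_ι]; exact hb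
      · rintro ⟨z, b, rfl⟩
        show (f ⁻¹ᵁ V).ι _ ∈ closure Z
        rw [← Scheme.Hom.comp_apply, morphismRestrict_ι, Scheme.Hom.comp_apply]
        refine closure_minimal (Set.singleton_subset_iff.2 z.2.1) isClosed_closure ?_
        have := Set.mem_range_self (f := (Scheme.IdealSheafData.vanishingIdeal
          (⟨closure {z.1}, isClosed_closure⟩ : TopologicalSpace.Closeds X)).subschemeι) (((Scheme.IdealSheafData.vanishingIdeal
          (⟨closure {z.1}, isClosed_closure⟩ : TopologicalSpace.Closeds X)).subschemeι ⁻¹ᵁ (f ⁻¹ᵁ V)).ι b)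
        rwa [Scheme.IdealSheafData.range_subschemeι, Scheme.IdealSheafData.coe_support_vanishingIdeal] at this
    rw [hcov]
    refine ProperOver.iUnion _ fun z => ?_
    haveI := hU z
    haveI hres := GeomUnib.isProper_restrict_le ((Scheme.IdealSheafData.vanishingIdeal
          (⟨closure {z.1}, isClosed_closure⟩ : TopologicalSpace.Closeds X)).subschemeι ≫ f) (U := V) (V := U z)
      (fun a ha => Set.mem_iInter.1 ha z)
    haveI : IsProper ((Scheme.IdealSheafData.vanishingIdeal
          (⟨closure {z.1}, isClosed_closure⟩ : TopologicalSpace.Closeds X)).subschemeι ∣_ (f ⁻¹ᵁ V) ≫ f ∣_ V) := by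
      rw [← morphismRestrict_comp]; exact hres
    exact ProperOver.of_range _

end Groth.Agent.S4978
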