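import Groth.Statements.S4980
import Groth.Agent.GeomUnib.DvrFlat
import Groth.Agent.QCohLib.Pullback
-- import your own Groth.Agent.* helpers here

set_option autoImplicit false
open CategoryTheory AlgebraicGeometry
universe u v w
open EGA43

namespace Groth.Agent.S4980

/-- Let A be a discrete valuation ring, Y = Spec A with closed point y and generic point y', f : X ⟶ Y a
proper morphism and F a coherent O_X-module which is f-flat; write F_y, F_{y'} for the restrictions
of F to the two fibres and suppose F_y has no embedded associated point. Then the sum, over the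
maximal points z' of Supp(F_{y'}), of the lengths of the stalks (F_{y'})_{z'} is at most the sum,
over the maximal points z of Supp(F_y), of the lengths of the stalks (F_y)_z (lengths over the local
rings of the fibres). -/
theorem result {A : Type u} [CommRing A] [IsDomain A]
    [IsDiscreteValuationRing A] {X : Scheme.{u}} (f : X ⟶ Spec (CommRingCat.of A)) [IsProper f] (F : X.Modules)
    (hF : Coh.IsCoh F) (hflat : FlatMod.IsFlatOver f F)
    (hemb : AssSch.NoEmbedded ((Scheme.Modules.pullback (f.fiberι (IsLocalRing.closedPoint A))).obj F)) :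
    letI y : ↥(Spec (CommRingCat.of A)) := IsLocalRing.closedPoint A
    letI y' : ↥(Spec (CommRingCat.of A)) := genericPoint (Spec (CommRingCat.of A))
    ∑ᶠ z' : {v : ↥(f.fiber y') // Nontrivial (((Scheme.Modules.pullback (f.fiberι y')).obj F).presheaf.stalk v) ∧
        ∀ w : ↥(f.fiber y'), Nontrivial (((Scheme.Modules.pullback (f.fiberι y')).obj F).presheaf.stalk w) → v ∈ closure {w} → w = v},
        Module.length ((f.fiber y').presheaf.stalk z'.1) (((Scheme.Modules.pullback (f.fiberι y')).obj F).presheaf.stalk z'.1) ≤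
      ∑ᶠ z : {v : ↥(f.fiber y) // Nontrivial (((Scheme.Modules.pullback (f.fiberι y)).obj F).presheaf.stalk v) ∧
        ∀ w : ↥(f.fiber y), Nontrivial (((Scheme.Modules.pullback (f.fiberι y)).obj F).presheaf.stalk w) → v ∈ closure {w} → w = v},
        Module.length ((f.fiber y).presheaf.stalk z.1) (((Scheme.Modules.pullback (f.fiberι y)).obj F).presheaf.stalk z.1) := by
  open Groth.Agent IsLocalRing in
  classical
  let y : ↥(Spec (CommRingCat.of A)) := closedPoint A
  let y' : ↥(Spec (CommRingCat.of A)) := genericPoint (Spec (CommRingCat.of A))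
  haveI := hF.1
  haveI : IsLocallyNoetherian X := LocallyOfFiniteType.isLocallyNoetherian f
  have hfin : ∀ x : X, Module.Finite (X.presheaf.stalk x) (F.presheaf.stalk x) := CohFinite.finite_stalk hF
  set G := (Scheme.Modules.pullback (f.fiberι y)).obj F
  set G' := (Scheme.Modules.pullback (f.fiberι y')).obj F
  haveI hGq : G.IsQuasicoherent := QCohLib.isQuasicoherent_pullback _ _
  haveI hlftf : ∀ s, LocallyOfFiniteType (f.fiberToSpecResidueField s) := fun s =>
    MorphismProperty.pullback_snd (P := @LocallyOfFiniteType) _ _ inferInstance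
  haveI : IsLocallyNoetherian (f.fiber y) := LocallyOfFiniteType.isLocallyNoetherian (f.fiberToSpecResidueField y)
  haveI : IsLocallyNoetherian (f.fiber y') := LocallyOfFiniteType.isLocallyNoetherian (f.fiberToSpecResidueField y')
  haveI : CompactSpace X := QuasiCompact.compactSpace_of_compactSpace f
  haveI : IsNoetherian X := {}
  haveI : TopologicalSpace.NoetherianSpace (f.fiber y) := (f.fiberι y).isEmbedding.isInducing.noetherianSpace
  haveI : TopologicalSpace.NoetherianSpace (f.fiber y') := (f.fiberι y').isEmbedding.isInducing.noetherianSpace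
  have hyι : ∀ v : f.fiber y, f (f.fiberι y v) = y := fun v => (f.range_fiberι y).le ⟨v, rfl⟩
  have hy'ι : ∀ v : f.fiber y', f (f.fiberι y' v) = y' := fun v => (f.range_fiberι y').le ⟨v, rfl⟩
  have hne : y' ≠ y := fun h => by
    change genericPoint (Spec (CommRingCat.of A)) = closedPoint A at h
    rw [genericPoint_eq_bot_of_affine] at h
    exact IsDiscreteValuationRing.not_isField A
      (IsLocalRing.isField_iff_maximalIdeal_eq.2 (congrArg PrimeSpectrum.asIdeal h).symm)
  have hnt : ∀ v : f.fiber y, Nontrivial (G.presheaf.stalk v) ↔ Nontrivial (F.presheaf.stalk (f.fiberι y v)) :=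
    fun v => haveI := hfin (f.fiberι y v); GeomUnib.fibre_nontrivial F f y v
  have hnt' : ∀ v : f.fiber y', Nontrivial (G'.presheaf.stalk v) ↔ Nontrivial (F.presheaf.stalk (f.fiberι y' v)) :=
    fun v => haveI := hfin (f.fiberι y' v); GeomUnib.fibre_nontrivial F f y' v
  have hup : ∀ {a b : X}, a ⤳ b → Nontrivial (F.presheaf.stalk a) → Nontrivial (F.presheaf.stalk b) := fun h ha => by
    have h1 := (GeomUnib.lenAt_genPrime F h).2.2 ha
    by_contra hn
    rw [not_nontrivial_iff_subsingleton] at hn
    rw [Module.support_eq_empty (R := X.presheaf.stalk _) (M := F.presheaf.stalk _)] at h1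
    exact h1
  -- finiteness of the two index types
  have hclosed : ∀ s : ↥(Spec (CommRingCat.of A)),
      IsClosed {v : f.fiber s | Nontrivial (F.presheaf.stalk (f.fiberι s v))} := fun s => by
    have h1 : IsClosed {x : X | Nontrivial (F.presheaf.stalk x)} := by
      have h2 := Groth.Agent.QCohLib.isClosed_support (M := F) hF.2
      have e : {x : X | Nontrivial (F.presheaf.stalk x)} = CohB1.support F :=
        Set.ext fun x => (not_subsingleton_iff_nontrivial (α := F.presheaf.stalk x)).symm
      rw [e]; exact h2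
    exact h1.preimage (f.fiberι s).continuous
  haveI : Finite {v : ↥(f.fiber y) // Nontrivial (G.presheaf.stalk v) ∧
      ∀ w : ↥(f.fiber y), Nontrivial (G.presheaf.stalk w) → v ∈ closure {w} → w = v} := by
    refine Set.Finite.to_subtype ((GeomUnib.finite_maximal_points (hclosed y)).subset ?_)
    rintro v ⟨hv, hmax⟩
    exact ⟨(hnt v).1 hv, fun w hw => hmax w ((hnt w).2 hw)⟩
  haveI : Finite {v : ↥(f.fiber y') // Nontrivial (G'.presheaf.stalk v) ∧
      ∀ w : ↥(f.fiber y'), Nontrivial (G'.presheaf.stalk w) → v ∈ closure {w} → w = v} := by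
    refine Set.Finite.to_subtype ((GeomUnib.finite_maximal_points (hclosed y')).subset ?_)
    rintro v ⟨hv, hmax⟩
    exact ⟨(hnt' v).1 hv, fun w hw => hmax w ((hnt' w).2 hw)⟩
  -- maximality in `X` of the generic maximal points
  have hmaxX : ∀ v : {v : ↥(f.fiber y') // Nontrivial (G'.presheaf.stalk v) ∧
      ∀ w : ↥(f.fiber y'), Nontrivial (G'.presheaf.stalk w) → v ∈ closure {w} → w = v},
      ∀ w : X, Nontrivial (F.presheaf.stalk w) → w ⤳ f.fiberι y' v.1 → w = f.fiberι y' v.1 := by
    intro v w hw hwv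
    have h1 : f w = y' := by
      have h2 : f w ⤳ y' := hy'ι v.1 ▸ hwv.map f.continuous
      exact (h2.antisymm (genericPoint_specializes (f w))).eq
    obtain ⟨w', rfl⟩ := (f.range_fiberι y').ge h1
    rw [v.2.2 w' ((hnt' w').2 hw) ((f.fiberι y').isEmbedding.isInducing.specializes_iff.1 hwv).mem_closure]
  -- a maximal specialisation in the special fibre
  have hspec : ∀ v : {v : ↥(f.fiber y') // Nontrivial (G'.presheaf.stalk v) ∧
      ∀ w : ↥(f.fiber y'), Nontrivial (G'.presheaf.stalk w) → v ∈ closure {w} → w = v},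
      ∃ z : {v : ↥(f.fiber y) // Nontrivial (G.presheaf.stalk v) ∧
        ∀ w : ↥(f.fiber y), Nontrivial (G.presheaf.stalk w) → v ∈ closure {w} → w = v},
        f.fiberι y' v.1 ⤳ f.fiberι y z.1 := by
    intro v
    have hx'η := hy'ι v.1
    have hxN : Nontrivial (F.presheaf.stalk (f.fiberι y' v.1)) := (hnt' v.1).1 v.2.1
    obtain ⟨w₀, hw₀, hw₀y⟩ : y ∈ f '' closure {f.fiberι y' v.1} := by
      refine (f.isClosedMap _ isClosed_closure).closure_subset_iff.2 ?_
        ((genericPoint_specializes y).mem_closure : y ∈ closure {y'})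
      exact Set.singleton_subset_iff.2 ⟨_, subset_closure rfl, hx'η⟩
    have hxw : f.fiberι y' v.1 ⤳ w₀ := specializes_iff_mem_closure.2 hw₀
    let t := GeomUnib.unifAt f w₀
    have hle : (GeomUnib.genPrime hxw).asIdeal ⊔ Ideal.span {t} ≤ maximalIdeal _ :=
      sup_le (le_maximalIdeal (GeomUnib.genPrime hxw).2.ne_top)
        ((Ideal.span_singleton_le_iff_mem _).2 (GeomUnib.unifAt_mem_maximal f hw₀y))
    obtain ⟨q, hq, -⟩ := Ideal.exists_minimalPrimes_le hle
    let Q : PrimeSpectrum (X.presheaf.stalk w₀) := ⟨q, hq.isPrime⟩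
    let z := X.fromSpecStalk w₀ Q
    have hzw : z ⤳ w₀ := GeomUnib.fromSpecStalk_specializes Q
    have hQ : GeomUnib.genPrime hzw = Q := GeomUnib.genPrime_fromSpecStalk Q
    have hxz : f.fiberι y' v.1 ⤳ z := by
      rw [← GeomUnib.fromSpecStalk_genPrime hxw]
      exact GeomUnib.specializes_of_prime_le (show GeomUnib.genPrime hxw ≤ Q from le_sup_left.trans hq.le)
    have hover : ∀ {w : X} (h : w ⤳ w₀), GeomUnib.unifAt f w₀ ∈ (GeomUnib.genPrime h).asIdeal ↔ f w = y := by
      intro w h
      rw [GeomUnib.mem_genPrime, GeomUnib.stalkSpecializes_unifAt]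
      exact ⟨fun h1 => not_not.1 fun h2 => h1 (GeomUnib.isUnit_unifAt f h2),
        fun h1 => GeomUnib.unifAt_mem_maximal f h1⟩
    have hzy : f z = y := (hover hzw).1 (hQ ▸ hq.le (Ideal.mem_sup_right (Ideal.mem_span_singleton_self t)))
    have hzmax : ∀ w : X, f w = y → f.fiberι y' v.1 ⤳ w → w ⤳ z → w = z := by
      intro w hwy hxw' hwz
      have h1 : w ⤳ w₀ := hwz.trans hzw
      have h2 : GeomUnib.genPrime h1 ≤ Q := hQ ▸ GeomUnib.prime_le_of_specializes h1 hzw hwz
      have h3 : Q ≤ GeomUnib.genPrime h1 := hq.2 ⟨(GeomUnib.genPrime h1).2,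
        sup_le (GeomUnib.prime_le_of_specializes hxw h1 hxw') ((Ideal.span_singleton_le_iff_mem _).2 ((hover h1).2 hwy))⟩ h2
      rw [← GeomUnib.fromSpecStalk_genPrime h1, le_antisymm h2 h3]
    obtain ⟨zf, hzf⟩ := (f.range_fiberι y).ge hzy
    rw [← hzf] at hxz hzmax
    refine ⟨⟨zf, (hnt zf).2 (hup hxz hxN), ?_⟩, hxz⟩
    haveI := hfin (f.fiberι y zf)
    have htm := GeomUnib.unifAt_mem_maximal f (hyι zf)
    have hass : IsAssociatedPrime (maximalIdeal (X.presheaf.stalk (f.fiberι y zf)))
        (F.presheaf.stalk (f.fiberι y zf) ⧸ (FlatDescent.maxExt f (f.fiberι y zf) •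
          (⊤ : Submodule (X.presheaf.stalk (f.fiberι y zf)) (F.presheaf.stalk (f.fiberι y zf))))) := by
      rw [GeomUnib.maxExt_closed f (hyι zf)]
      refine ((Submodule.quotEquivOfEq _ _ (Submodule.ideal_span_singleton_smul _ _)).isAssociatedPrime_iff).2
        (GeomUnib.isAssociatedPrime_quotSMulTop (P := (GeomUnib.genPrime hxz).asIdeal) htm
          (GeomUnib.isSMulRegular_unifAt f F hflat _) ?_ ?_)
      · refine Module.associatedPrimes.minimalPrimes_annihilator_subset_associatedPrimes _ _ ?_
        have h1 := (GeomUnib.lenAt_genPrime F hxz).2.2 hxN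
        rw [Module.support_eq_zeroLocus, PrimeSpectrum.mem_zeroLocus] at h1
        refine ⟨⟨(GeomUnib.genPrime hxz).2, h1⟩, fun p hp hpP => ?_⟩
        let R : PrimeSpectrum (X.presheaf.stalk (f.fiberι y zf)) := ⟨p, hp.1⟩
        have hR : R ∈ Module.support _ (F.presheaf.stalk (f.fiberι y zf)) := by
          rw [Module.support_eq_zeroLocus, PrimeSpectrum.mem_zeroLocus]; exact hp.2
        have h2 := hmaxX v _ ((GeomUnib.lenAt_genPrime F (GeomUnib.fromSpecStalk_specializes R)).2.1
          ((GeomUnib.genPrime_fromSpecStalk R).symm ▸ hR))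
          (GeomUnib.fromSpecStalk_genPrime hxz ▸ GeomUnib.specializes_of_prime_le (show R ≤ GeomUnib.genPrime hxz from hpP))
        have h3 : R = GeomUnib.genPrime hxz :=
          (X.fromSpecStalk _).isEmbedding.injective (h2.trans (GeomUnib.fromSpecStalk_genPrime hxz).symm)
        exact (congrArg PrimeSpectrum.asIdeal h3).ge
      · rw [Ideal.radical_eq_sInf]
        refine le_sInf fun p hp => ?_
        let R : PrimeSpectrum (X.presheaf.stalk (f.fiberι y zf)) := ⟨p, hp.2⟩
        have hsp := GeomUnib.fromSpecStalk_specializes R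
        have hxR : f.fiberι y' v.1 ⤳ X.fromSpecStalk _ R := by
          rw [← GeomUnib.fromSpecStalk_genPrime hxz]
          exact GeomUnib.specializes_of_prime_le (show GeomUnib.genPrime hxz ≤ R from le_sup_left.trans hp.1)
        have hRy : f (X.fromSpecStalk _ R) = y := by
          by_contra hn
          have h1 := GeomUnib.isUnit_unifAt f hn
          rw [← GeomUnib.stalkSpecializes_unifAt f hsp] at h1
          have h2 : GeomUnib.unifAt f (f.fiberι y zf) ∈ (GeomUnib.genPrime hsp).asIdeal := by
            rw [GeomUnib.genPrime_fromSpecStalk]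
            exact hp.1 (Ideal.mem_sup_right (Ideal.mem_span_singleton_self _))
          exact (GeomUnib.mem_genPrime hsp _).1 h2 h1
        have h4 := hzmax _ hRy hxR hsp
        have h5 : R = closedPoint (X.presheaf.stalk (f.fiberι y zf)) :=
          (X.fromSpecStalk _).isEmbedding.injective (h4.trans Scheme.fromSpecStalk_closedPoint.symm)
        exact (congrArg PrimeSpectrum.asIdeal h5).ge
    have hzA : zf ∈ AssSch.Ass G := GeomUnib.fibre_isAssPoint F f y zf hass
    intro w hw hwz
    have hfinG : ∀ x : f.fiber y, Module.Finite ((f.fiber y).presheaf.stalk x) (G.presheaf.stalk x) :=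
      CohFinite.finite_stalk ⟨hGq, QCohLib.isFiniteType_pullback _ _ hF.2⟩
    obtain ⟨w₁, hw₁, hw₁N, hw₁max⟩ := GeomUnib.exists_maximal_supp G hfinG hw
    have hw₁A : w₁ ∈ AssSch.Ass G := AssPoints.isWeakAssPoint_iff_isAssPoint.1
      (AssPoints.isWeakAssPoint_of_maximal_support hGq (not_subsingleton_iff_nontrivial.2 hw₁N)
        fun x hx h => hw₁max x (not_subsingleton_iff_nontrivial.1 hx) h)
    have hwz' : w ⤳ zf := specializes_iff_mem_closure.2 hwz
    have h6 : zf = w₁ := hemb zf hzA w₁ hw₁A (hw₁.trans hwz')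
    exact (hwz'.antisymm (h6 ▸ hw₁)).eq
  choose φ hφ using hspec
  haveI := Fintype.ofFinite {v : ↥(f.fiber y) // Nontrivial (G.presheaf.stalk v) ∧
      ∀ w : ↥(f.fiber y), Nontrivial (G.presheaf.stalk w) → v ∈ closure {w} → w = v}
  haveI := Fintype.ofFinite {v : ↥(f.fiber y') // Nontrivial (G'.presheaf.stalk v) ∧
      ∀ w : ↥(f.fiber y'), Nontrivial (G'.presheaf.stalk w) → v ∈ closure {w} → w = v}
  rw [finsum_eq_sum_of_fintype, finsum_eq_sum_of_fintype, ← Finset.sum_fiberwise Finset.univ φ]
  refine Finset.sum_le_sum fun z _ => ?_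
  haveI := hfin (f.fiberι y z.1)
  rw [← Finset.sum_subtype_eq_sum_filter, Finset.subtype_univ]
  have hsp : ∀ v : {v // φ v = z}, f.fiberι y' v.1.1 ⤳ f.fiberι y z.1 := fun v => by
    have h0 := hφ v.1
    rwa [v.2] at h0
  refine le_of_eq_of_le (Finset.sum_congr rfl fun v _ => ?_) ((GeomUnib.sum_lenAt_le
    (M := F.presheaf.stalk (f.fiberι y z.1)) (fun v : {v // φ v = z} => GeomUnib.genPrime (hsp v)) ?_
    (GeomUnib.unifAt f (f.fiberι y z.1)) (GeomUnib.unifAt_mem_maximal f (hyι z.1))
    (GeomUnib.isSMulRegular_unifAt f F hflat _) ?_ ?_).trans_eq ?_)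
  · rw [(GeomUnib.lenAt_genPrime F (hsp v)).1, GeomUnib.fibre_length F f y' v.1.1,
      GeomUnib.maxExt_generic f (hy'ι v.1.1)]
    exact (Submodule.quotEquivOfEqBot _ (Submodule.bot_smul _)).length_eq
  · intro a b hab
    have h1 := GeomUnib.fromSpecStalk_genPrime (hsp a)
    rw [show GeomUnib.genPrime (hsp a) = GeomUnib.genPrime (hsp b) from hab, GeomUnib.fromSpecStalk_genPrime] at h1
    exact Subtype.ext (Subtype.ext ((f.fiberι y').isEmbedding.injective h1.symm))
  · intro v h1
    rw [GeomUnib.mem_genPrime, GeomUnib.stalkSpecializes_unifAt] at h1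
    exact h1 (GeomUnib.isUnit_unifAt f (fun h2 => hne ((hy'ι v.1.1).symm.trans h2)))
  · intro v q hq hqP
    refine (X.fromSpecStalk _).isEmbedding.injective ?_
    show X.fromSpecStalk _ q = X.fromSpecStalk _ (GeomUnib.genPrime (hsp v))
    rw [GeomUnib.fromSpecStalk_genPrime]
    exact hmaxX v.1 _ ((GeomUnib.lenAt_genPrime F (GeomUnib.fromSpecStalk_specializes q)).2.1
      ((GeomUnib.genPrime_fromSpecStalk q).symm ▸ hq))
      (GeomUnib.fromSpecStalk_genPrime (hsp v) ▸ GeomUnib.specializes_of_prime_le hqP)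
  · rw [GeomUnib.fibre_length F f y z.1, GeomUnib.maxExt_closed f (hyι z.1)]
    exact (Submodule.quotEquivOfEq _ _ (Submodule.ideal_span_singleton_smul _ _).symm).length_eq

end Groth.Agent.S4980
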