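import Groth.Statements.S4981
import Groth.Agent.UnivOpenAt.DvrLift
import Groth.Agent.UnivOpenAt.Scheme
-- import your own Groth.Agent.* helpers here

set_option autoImplicit false
open CategoryTheory AlgebraicGeometry
universe u v w
open EGA43

namespace Groth.Agent.S4981

set_option backward.isDefEq.respectTransparency false
set_option maxHeartbeats 1000000

open CategoryTheory.Limits

/-- Let Y be a locally Noetherian scheme, f : X ⟶ Y a morphism locally of finite type, y a point of Y
and x a point of the fibre X_y. Then f is universally open at x if and only if the following holds: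
for every complete discrete valuation ring A with algebraically closed residue field k, every
morphism g : Spec A ⟶ Y sending the closed point to y, and every Y-morphism u₀ : Spec k ⟶ X with
image x, there exist a discrete valuation ring B which is a finite A-algebra through a local
homomorphism φ : A → B, and a Y-morphism u : Spec B ⟶ X, such that the restriction of u to the
closed point Spec κ(B) equals u₀ composed with the morphism Spec κ(B) ⟶ Spec k. -/
theorem result {X Y : Scheme.{u}} [IsLocallyNoetherian Y]
    (f : X ⟶ Y) [LocallyOfFiniteType f] (x : X) :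
    EGA43.IsUnivOpenAt f x ↔
      ∀ (A : Type u) [CommRing A] [IsDomain A] [IsDiscreteValuationRing A]
        [IsAdicComplete (IsLocalRing.maximalIdeal A) A] [IsAlgClosed (IsLocalRing.ResidueField A)]
        (g : Spec (CommRingCat.of A) ⟶ Y), g.base (IsLocalRing.closedPoint A) = f.base x →
        ∀ u₀ : Spec (CommRingCat.of (IsLocalRing.ResidueField A)) ⟶ X,
          u₀ ≫ f = Spec.map (CommRingCat.ofHom (IsLocalRing.residue A)) ≫ g → x ∈ Set.range u₀.base →
          ∃ (B : CommRingCat.{u}) (_ : IsDomain B) (_ : IsDiscreteValuationRing B) (φ : A →+* B)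
            (_ : IsLocalHom φ) (v : Spec B ⟶ X),
            φ.Finite ∧ v ≫ f = Spec.map (CommRingCat.ofHom φ) ≫ g ∧
            Spec.map (CommRingCat.ofHom (IsLocalRing.ResidueField.map φ)) ≫ u₀ =
              Spec.map (CommRingCat.ofHom (IsLocalRing.residue B)) ≫ v := by
  constructor
  · intro h A _ _ _ _ _ g hg u₀ hu₀ hx
    let P := pullback f g
    let k := IsLocalRing.ResidueField A
    let s₀ : Spec (CommRingCat.of k) ⟶ P :=
      pullback.lift u₀ (Spec.map (CommRingCat.ofHom (IsLocalRing.residue A))) hu₀
    let x' : P := s₀.base (IsLocalRing.closedPoint k)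
    have hx' : (pullback.fst f g).base x' = x := by
      obtain ⟨p, hp⟩ := hx
      rw [← hp]
      show (pullback.fst f g).base (s₀.base _) = _
      rw [← Scheme.Hom.comp_apply, pullback.lift_fst]
      exact congrArg u₀.base (Subsingleton.elim (α := Spec (CommRingCat.of k)) _ _)
    have hx'c : (pullback.snd f g).base x' = IsLocalRing.closedPoint A := by
      show (pullback.snd f g).base (s₀.base _) = _
      rw [← Scheme.Hom.comp_apply, pullback.lift_snd]
      refine PrimeSpectrum.ext ?_
      show (IsLocalRing.closedPoint k).asIdeal.comap (IsLocalRing.residue A) = _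
      rw [Ideal.eq_bot_of_prime (IsLocalRing.closedPoint k).asIdeal, ← RingHom.ker_eq_comap_bot,
        IsLocalRing.ker_residue]
      rfl
    obtain ⟨z', hz', hz'c⟩ :=
      (Groth.Agent.UnivOpenAt.isUnivOpenAt_iff_dvr f (x := x)).1 h A g hg x' hx' hx'c
    obtain ⟨V, hV, hxV, -⟩ := exists_isAffineOpen_mem_and_subset (U := (⊤ : P.Opens)) (x := x') trivial
    let R := Γ(P, V)
    obtain ⟨χ, hχ⟩ := Spec.map_surjective (hV.fromSpec ≫ pullback.snd f g)
    letI : Algebra A R := χ.hom.toAlgebra
    haveI : LocallyOfFiniteType (pullback.snd f g) := MorphismProperty.pullback_snd f g ‹_›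
    haveI : Algebra.FiniteType A R := by
      have h1 : LocallyOfFiniteType (Spec.map χ) := hχ ▸ inferInstance
      exact RingHom.finiteType_algebraMap.1 ((HasRingHomProperty.Spec_iff (P := @LocallyOfFiniteType)).1 h1)
    have hs₀ : Set.range s₀ ⊆ Set.range hV.fromSpec := by
      rintro _ ⟨p, rfl⟩
      rw [hV.range_fromSpec, show p = IsLocalRing.closedPoint k from Subsingleton.elim (α := Spec (CommRingCat.of k)) _ _]
      exact hxV
    obtain ⟨σ, hσ⟩ := Spec.map_surjective (IsOpenImmersion.lift hV.fromSpec s₀ hs₀)
    have hσ' : Spec.map σ ≫ hV.fromSpec = s₀ := by rw [hσ, IsOpenImmersion.lift_fac]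
    have hσχ : ∀ a, σ.hom (algebraMap A R a) = IsLocalRing.residue A a := by
      have h1 : Spec.map (χ ≫ σ) = Spec.map (CommRingCat.ofHom (IsLocalRing.residue A)) := by
        rw [Spec.map_comp, hχ, ← Category.assoc, hσ', pullback.lift_snd]
      intro a
      exact congr(($(Spec.map_injective h1)).hom a)
    let q := RingHom.ker σ.hom
    haveI : q.IsPrime := RingHom.ker_isPrime _
    have hq : (IsLocalRing.maximalIdeal A).map (algebraMap A R) ≤ q := Ideal.map_le_iff_le_comap.2 fun a ha => by
      show σ.hom _ = 0
      rw [hσχ]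
      exact (IsLocalRing.residue_eq_zero_iff a).2 ha
    have hsurj : ∀ z : R, ∃ a : A, z - algebraMap A R a ∈ q := fun z => by
      obtain ⟨a, ha⟩ := IsLocalRing.residue_surjective (σ.hom z)
      exact ⟨a, show σ.hom _ = 0 by rw [map_sub, hσχ, ha, sub_self]⟩
    obtain ⟨ρ, rfl⟩ : z' ∈ Set.range hV.fromSpec := by
      rw [hV.range_fromSpec]; exact hz'.mem_open V.2 hxV
    have hρq : ρ.asIdeal ≤ q := by
      have e : x' = hV.fromSpec (PrimeSpectrum.comap σ.hom (IsLocalRing.closedPoint k)) := congr($hσ'.symm _)
      rw [e, hV.fromSpec.isOpenEmbedding.toIsInducing.specializes_iff, ← PrimeSpectrum.le_iff_specializes] at hz'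
      exact (show ρ.asIdeal ≤ (IsLocalRing.closedPoint k).asIdeal.comap σ.hom from hz').trans (le_of_eq (by
        rw [Ideal.eq_bot_of_prime (IsLocalRing.closedPoint k).asIdeal, ← RingHom.ker_eq_comap_bot]))
    have hρ : ρ.asIdeal.comap (algebraMap A R) = ⊥ := by
      by_contra hne
      refine hz'c (PrimeSpectrum.ext ?_)
      have e : (pullback.snd f g).base (hV.fromSpec ρ) = PrimeSpectrum.comap χ.hom ρ := congr($hχ.symm ρ)
      rw [e]
      exact IsLocalRing.eq_maximalIdeal ((inferInstance : (ρ.asIdeal.comap (algebraMap A R)).IsPrime).isMaximal hne)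
    obtain ⟨B, _, _, _, φ, hφ, ψ, hfin, hψ, hψq⟩ :=
      Groth.Agent.UnivOpenAt.DvrLift.exists_finite_dvr A R q ρ.asIdeal hρq hq hsurj hρ
    refine ⟨CommRingCat.of B, inferInstance, inferInstance, φ, hφ,
      Spec.map (CommRingCat.ofHom ψ) ≫ hV.fromSpec ≫ pullback.fst f g, hfin, ?_, ?_⟩
    · rw [Category.assoc, Category.assoc, pullback.condition, ← Category.assoc hV.fromSpec, ← hχ,
        ← Category.assoc, ← Spec.map_comp]
      congr 2
      exact CommRingCat.hom_ext hψ
    · rw [show u₀ = s₀ ≫ pullback.fst f g from (pullback.lift_fst _ _ _).symm, ← hσ', ← Category.assoc,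
        ← Category.assoc, ← Category.assoc, ← Category.assoc, ← Spec.map_comp, ← Spec.map_comp]
      congr 3
      refine CommRingCat.hom_ext (RingHom.ext fun z => ?_)
      obtain ⟨a, ha⟩ := hsurj z
      have h0 : IsLocalRing.residue B (ψ (z - algebraMap A R a)) = 0 := (IsLocalRing.residue_eq_zero_iff _).2 (hψq _ ha)
      have h1 : σ.hom z = IsLocalRing.residue A a := by
        have : σ.hom (z - algebraMap A R a) = 0 := ha
        rwa [map_sub, hσχ, sub_eq_zero] at this
      rw [map_sub, map_sub, sub_eq_zero] at h0
      show IsLocalRing.ResidueField.map φ (σ.hom z) = IsLocalRing.residue B (ψ z)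
      rw [h0, h1, IsLocalRing.ResidueField.map_residue]
      exact congrArg _ (RingHom.congr_fun hψ a).symm
  · intro hyp
    refine (Groth.Agent.UnivOpenAt.isUnivOpenAt_iff_dvr f (x := x)).2 fun A _ _ _ g hg x' hx' hx'c => ?_
    let P := pullback f g
    let K := AlgebraicClosure (P.residueField x')
    let w : Spec (CommRingCat.of K) ⟶ P :=
      Spec.map (CommRingCat.ofHom (algebraMap (P.residueField x') K)) ≫ P.fromSpecResidueField x'
    have hw : ∀ p, w.base p = x' := fun p => by
      rw [Scheme.Hom.comp_apply]; exact Scheme.fromSpecResidueField_apply _ _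
    obtain ⟨θ, hθ⟩ := Spec.map_surjective (w ≫ pullback.snd f g)
    have hθm : RingHom.ker θ.hom = IsLocalRing.maximalIdeal A := by
      have h1 : PrimeSpectrum.comap θ.hom (IsLocalRing.closedPoint K) = IsLocalRing.closedPoint A :=
        (congr($hθ (IsLocalRing.closedPoint K)) : _).trans ((congrArg (pullback.snd f g).base (hw _)).trans hx'c)
      have h2 := congrArg PrimeSpectrum.asIdeal h1
      change (IsLocalRing.closedPoint K).asIdeal.comap θ.hom = _ at h2
      rwa [Ideal.eq_bot_of_prime (IsLocalRing.closedPoint K).asIdeal, ← RingHom.ker_eq_comap_bot] at h2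
    letI : Algebra (IsLocalRing.ResidueField A) K := (Ideal.Quotient.lift (IsLocalRing.maximalIdeal A) θ.hom
      fun a ha => hθm.ge ha).toAlgebra
    obtain ⟨A', _, _, _, _, ψ, e, hψinj, hψloc, he⟩ :=
      Groth.Agent.UnivOpenAt.DvrLift.exists_complete_extension A K
    haveI : IsAlgClosed (IsLocalRing.ResidueField A') := IsAlgClosed.of_ringEquiv K _ e.symm
    let g' : Spec (CommRingCat.of A') ⟶ Y := Spec.map (CommRingCat.ofHom ψ) ≫ g
    let ee : Spec (CommRingCat.of (IsLocalRing.ResidueField A')) ⟶ Spec (CommRingCat.of K) :=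
      Spec.map (CommRingCat.ofHom e.symm.toRingHom)
    let u₀ := ee ≫ w ≫ pullback.fst f g
    have heθ : ee ≫ w ≫ pullback.snd f g =
        Spec.map (CommRingCat.ofHom (IsLocalRing.residue A')) ≫ Spec.map (CommRingCat.ofHom ψ) := by
      rw [← hθ, ← Spec.map_comp, ← Spec.map_comp]
      congr 1
      refine CommRingCat.hom_ext (RingHom.ext fun a => ?_)
      show e.symm (θ.hom a) = IsLocalRing.residue A' (ψ a)
      rw [RingEquiv.symm_apply_eq, he]
      rfl
    have hu₀ : u₀ ≫ f = Spec.map (CommRingCat.ofHom (IsLocalRing.residue A')) ≫ g' := by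
      simp only [u₀, g', Category.assoc, pullback.condition]
      rw [← Category.assoc w, ← Category.assoc ee, heθ, Category.assoc]
    have hg' : g'.base (IsLocalRing.closedPoint A') = f.base x := by
      rw [← hg]
      exact congrArg g.base (PrimeSpectrum.ext (show (IsLocalRing.maximalIdeal A').comap ψ = IsLocalRing.maximalIdeal A from
        (((IsLocalRing.local_hom_TFAE ψ).out 0 4).mp hψloc)))
    obtain ⟨B, _, _, φ, hφ, v, hfin, hv, hvu⟩ := hyp A' g' hg' u₀ hu₀
      ⟨IsLocalRing.closedPoint _, by
        rw [← hx']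
        exact congrArg (pullback.fst f g).base (hw _)⟩
    let ν : Spec B ⟶ P := pullback.lift v (Spec.map (CommRingCat.ofHom (φ.comp ψ)))
      (by rw [hv, CommRingCat.ofHom_comp, Spec.map_comp, Category.assoc])
    have hν : Spec.map (CommRingCat.ofHom (IsLocalRing.residue B)) ≫ ν =
        Spec.map (CommRingCat.ofHom (IsLocalRing.ResidueField.map φ)) ≫ ee ≫ w := by
      refine pullback.hom_ext ?_ ?_
      · simp only [ν, Category.assoc, pullback.lift_fst]
        exact hvu.symm
      · simp only [ν, Category.assoc, pullback.lift_snd, heθ]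
        rw [← Spec.map_comp, ← Spec.map_comp, ← Spec.map_comp]
        congr 1
    have hc : ν.base (IsLocalRing.closedPoint B) = x' := by
      have h1 : (Spec.map (CommRingCat.ofHom (IsLocalRing.residue B))).base (IsLocalRing.closedPoint (IsLocalRing.ResidueField B)) =
          IsLocalRing.closedPoint B := by
        refine PrimeSpectrum.ext ?_
        show (IsLocalRing.closedPoint (IsLocalRing.ResidueField B)).asIdeal.comap (IsLocalRing.residue B) = _
        rw [Ideal.eq_bot_of_prime (IsLocalRing.closedPoint (IsLocalRing.ResidueField B)).asIdeal,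
          ← RingHom.ker_eq_comap_bot, IsLocalRing.ker_residue]
        rfl
      rw [← h1]
      exact (congr($hν (IsLocalRing.closedPoint (IsLocalRing.ResidueField B))) : _).trans (hw _)
    let η : PrimeSpectrum B := ⟨⊥, Ideal.isPrime_bot⟩
    refine ⟨ν.base η, hc ▸ (IsLocalRing.specializes_closedPoint η).map ν.continuous, ?_⟩
    rw [← Scheme.Hom.comp_apply, pullback.lift_snd]
    intro hcl
    have h1 : (⊥ : Ideal B).comap (φ.comp ψ) = IsLocalRing.maximalIdeal A := congrArg PrimeSpectrum.asIdeal hcl
    rw [← Ideal.comap_comap] at h1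
    by_cases hker : (⊥ : Ideal B).comap φ = ⊥
    · rw [hker, ← RingHom.ker_eq_comap_bot, (RingHom.injective_iff_ker_eq_bot ψ).1 hψinj] at h1
      exact IsDiscreteValuationRing.not_a_field A h1.symm
    · letI : Algebra A' B := φ.toAlgebra
      haveI : Module.Finite A' B := RingHom.finite_algebraMap.1 hfin
      haveI : Algebra.IsIntegral A' B := Algebra.IsIntegral.of_finite _ _
      have hmax : ((⊥ : Ideal B).comap (algebraMap A' B)).IsMaximal :=
        (inferInstance : ((⊥ : Ideal B).comap φ).IsPrime).isMaximal hker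
      have := Ideal.isMaximal_of_isIntegral_of_isMaximal_comap (R := A') (⊥ : Ideal B) hmax
      exact IsDiscreteValuationRing.not_a_field B (IsLocalRing.eq_maximalIdeal this).symm

end Groth.Agent.S4981
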