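import Groth.Statements.S4985
import Groth.Agent.GeomUnib.DimIneq
import Groth.Agent.BMCoh.Basic
-- import your own Groth.Agent.* helpers here

set_option autoImplicit false
open CategoryTheory AlgebraicGeometry
universe u v w
open EGA43

namespace Groth.Agent.S4985

/-- Let Y be a locally Noetherian scheme, f : X ⟶ Y a morphism of finite type, x a point of X with y = f
x, X' an irreducible closed subset of X containing x, regarded as a reduced closed subscheme, and Y'
the closure of f(X') regarded as a reduced closed subscheme of Y, with generic point η'. Write A, B,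
A', B' for the local rings of Y at y, of X at x, of Y' at y and of X' at x, and B ⊗ κ(y), B' ⊗ κ(y)
for the local rings at x of the fibres over y of X and of X'. Then dim B' = dim A + dim(B ⊗ κ(y)) if
and only if all of the following hold: (i) dim A' = dim A; (ii) dim(B' ⊗ κ(y)) = dim(B ⊗ κ(y));
(iii) X' is equidimensional over Y' at x, i.e. the local dimension at x of the fibre of X' over y
equals dim(X' ∩ f⁻¹(η')); (iv) dim B' = dim A' + dim(B' ⊗ κ(y)) (the published (iv) carries the
correction term dim_x − dim of (iii), which vanishes under (iii)). -/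
theorem result {X Y : Scheme.{u}} [IsLocallyNoetherian Y] (f : X ⟶ Y)
    [LocallyOfFiniteType f] [QuasiCompact f] (x : X) (X' : TopologicalSpace.Closeds X) (hirr : IsIrreducible (X' : Set X))
    (hx : x ∈ X') (w : ↥(Scheme.IdealSheafData.vanishingIdeal X').subscheme)
    (hw : (Scheme.IdealSheafData.vanishingIdeal X').subschemeι.base w = x)
    (v : ↥(Scheme.IdealSheafData.vanishingIdeal
      (⟨closure (f.base '' (X' : Set X)), isClosed_closure⟩ : TopologicalSpace.Closeds Y)).subscheme)
    (hv : (Scheme.IdealSheafData.vanishingIdeal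
      (⟨closure (f.base '' (X' : Set X)), isClosed_closure⟩ : TopologicalSpace.Closeds Y)).subschemeι.base v = f.base x)
    (η' : Y) (hη' : closure ({η'} : Set Y) = closure (f.base '' (X' : Set X))) :
    letI ιX := (Scheme.IdealSheafData.vanishingIdeal X').subschemeι
    letI dA := ringKrullDim (Y.presheaf.stalk (f.base x))
    letI dB := ringKrullDim (X.presheaf.stalk x)
    letI dA' := ringKrullDim ((Scheme.IdealSheafData.vanishingIdeal
      (⟨closure (f.base '' (X' : Set X)), isClosed_closure⟩ : TopologicalSpace.Closeds Y)).subscheme.presheaf.stalk v)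
    letI dB' := ringKrullDim ((Scheme.IdealSheafData.vanishingIdeal X').subscheme.presheaf.stalk w)
    letI dBk := ringKrullDim ((f.fiber (f.base x)).presheaf.stalk (f.asFiber x))
    letI dB'k := ringKrullDim (((ιX ≫ f).fiber ((ιX ≫ f).base w)).presheaf.stalk ((ιX ≫ f).asFiber w))
    letI e' := topologicalKrullDim ↥((X' : Set X) ∩ f.base ⁻¹' {η'})
    (dB' = dA + dBk ↔
      (dA' = dA ∧ dB'k = dBk ∧ FlatMor.fibreDimAt (ιX ≫ f) w = e' ∧ dB' = dA' + dB'k)) := by
  let I := Scheme.IdealSheafData.vanishingIdeal X'
  let J := Scheme.IdealSheafData.vanishingIdeal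
    (⟨closure (f.base '' (X' : Set X)), isClosed_closure⟩ : TopologicalSpace.Closeds Y)
  haveI : IsReduced I.subscheme := BMCoh.isReduced_vanishingIdeal_subscheme _
  have hr : Set.range I.subschemeι.base = (X' : Set X) := by rw [I.range_subschemeι]; rfl
  have hrJ : Set.range J.subschemeι.base = closure (f.base '' (X' : Set X)) := by rw [J.range_subschemeι]; rfl
  have hι := I.subschemeι.isClosedEmbedding.isEmbedding
  haveI : IrreducibleSpace I.subscheme := by
    obtain ⟨p₀, hp₀⟩ := QuasiSober.sober hirr X'.isClosed
    obtain ⟨b, hb⟩ : p₀ ∈ Set.range I.subschemeι.base := hr.ge hp₀.mem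
    haveI : Nonempty I.subscheme := ⟨b⟩
    refine { isPreirreducible_univ := ?_, toNonempty := inferInstance }
    have : (Set.univ : Set I.subscheme) = closure {b} := (Set.eq_univ_of_forall fun c =>
      specializes_iff_mem_closure.1 (hι.toIsInducing.specializes_iff.1 (hb.symm ▸ hp₀.specializes (hr.le ⟨c, rfl⟩)))).symm
    rw [this]; exact isIrreducible_singleton.closure.2
  haveI : IsIntegral I.subscheme := isIntegral_of_irreducibleSpace_of_isReduced _
  set g := I.subschemeι ≫ f
  have hgp : closure ({I.subschemeι (genericPoint I.subscheme)} : Set X) = (X' : Set X) := by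
    rw [← Set.image_singleton, I.subschemeι.isClosedEmbedding.closure_image_eq, genericPoint_spec,
      Set.image_univ, hr]
  have hη : η' = g (genericPoint I.subscheme) := by
    have h1 : closure ({g (genericPoint I.subscheme)} : Set Y) = closure (f.base '' (X' : Set X)) := by
      rw [← hgp]
      exact (((isGenericPoint_closure (x := I.subschemeι (genericPoint I.subscheme))).image f.continuous).def)
    exact IsGenericPoint.eq (show IsGenericPoint η' (closure (f.base '' (X' : Set X))) from hη') h1
  have hgw : g w = f x := congrArg f.base hw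
  haveI : IsLocallyNoetherian X := LocallyOfFiniteType.isLocallyNoetherian f
  haveI : IsLocallyNoetherian I.subscheme := LocallyOfFiniteType.isLocallyNoetherian g
  haveI : IsLocallyNoetherian J.subscheme := LocallyOfFiniteType.isLocallyNoetherian J.subschemeι
  haveI : LocallyOfFiniteType (f.fiberToSpecResidueField (f.base x)) :=
    MorphismProperty.pullback_snd f (Y.fromSpecResidueField (f.base x)) ‹_›
  haveI : IsLocallyNoetherian (f.fiber (f.base x)) :=
    LocallyOfFiniteType.isLocallyNoetherian (f.fiberToSpecResidueField (f.base x))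
  haveI : LocallyOfFiniteType (g.fiberToSpecResidueField (g w)) :=
    MorphismProperty.pullback_snd g (Y.fromSpecResidueField (g w)) inferInstance
  haveI : IsLocallyNoetherian (g.fiber (g w)) :=
    LocallyOfFiniteType.isLocallyNoetherian (g.fiberToSpecResidueField (g w))
  obtain ⟨n, b, e, hn, -, he, hen, h1, h2, h3⟩ := GeomUnib.dim_inequalities g w J.subschemeι
    J.subschemeι.isClosedEmbedding.isEmbedding (fun y hy => by
      rw [hrJ, ← hη']
      exact specializes_iff_mem_closure.1 (hη ▸ hy)) v (hv.trans hgw.symm)
  obtain ⟨a, ha, ha'⟩ := GeomUnib.exists_coheight_eq (f.base x)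
  obtain ⟨bx, -, hbx⟩ := GeomUnib.exists_coheight_eq x
  obtain ⟨a₁, ha₁, ha₁'⟩ := GeomUnib.exists_coheight_eq v
  obtain ⟨b₁, hb₁, hb₁'⟩ := GeomUnib.exists_coheight_eq w
  obtain ⟨k, hk, hk'⟩ := GeomUnib.exists_coheight_eq (f.asFiber x)
  obtain ⟨k₁, hk₁, hk₁'⟩ := GeomUnib.exists_coheight_eq (g.asFiber w)
  have hle1 : a₁ ≤ a := by
    have := Order.coheight_le_coheight_apply_of_strictMono J.subschemeι
      (GeomUnib.strictMono_of_injective _ J.subschemeι.isClosedEmbedding.injective) v
    rw [hv, ha₁, ha] at this
    exact_mod_cast this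
  have hle2 : k₁ ≤ k := by
    obtain ⟨l, hl0, hlen⟩ := Order.exists_series_of_le_coheight (g.asFiber w) hk₁.ge
    have hm : StrictMono fun t => I.subschemeι (g.fiberι (g w) t) :=
      (GeomUnib.strictMono_of_injective _ I.subschemeι.isClosedEmbedding.injective).comp
        (GeomUnib.strictMono_of_injective _ (g.fiberι (g w)).isEmbedding.injective)
    have := GeomUnib.length_le_coheight_of_range (f.fiberι (f.base x)) (f.fiberι _).isEmbedding
      (l.map _ hm) (fun i => by
        rw [f.range_fiberι]
        have h4 : g.fiberι (g w) (l i) ∈ Set.range (g.fiberι (g w)) := ⟨_, rfl⟩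
        rw [g.range_fiberι] at h4
        exact (show g (g.fiberι (g w) (l i)) = g w from h4).trans hgw) (f.asFiber x) (by
        rw [LTSeries.head_map, hl0, g.fiberι_asFiber, f.fiberι_asFiber, hw])
    change (l.length : ℕ∞) ≤ _ at this
    rw [hk, hlen] at this
    exact_mod_cast this
  have he' : topologicalKrullDim ↥((X' : Set X) ∩ f.base ⁻¹' {η'}) = (e : WithBot ℕ∞) := by
    rw [← he, GeomUnib.fdim_comp_closedImmersion, FibreDim.fdim, hgp, hη]
    rfl
  rw [hk₁, hb₁, ha₁] at h2
  rw [hb₁, ha₁] at h3
  rw [hk₁] at h1
  have h1' : n ≤ k₁ + b := by exact_mod_cast h1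
  have h2' : b₁ ≤ a₁ + k₁ := by exact_mod_cast h2
  have h3' : e < n → b₁ + 1 + b ≤ a₁ + n := fun h => by exact_mod_cast h3 h
  dsimp only
  rw [ha', ha₁', hb₁', hk', hk₁', he', hn]
  constructor
  · intro h
    have h' : b₁ = a + k := by exact_mod_cast h
    refine ⟨?_, ?_, ?_, ?_⟩
    · exact_mod_cast (by omega : a₁ = a)
    · exact_mod_cast (by omega : k₁ = k)
    · exact_mod_cast (by by_contra hne; have := h3' (by omega); omega : n = e)
    · exact_mod_cast (by omega : b₁ = a₁ + k₁)
  · rintro ⟨e1, e2, -, e4⟩
    rw [e4, e1, e2]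

end Groth.Agent.S4985
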