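import Groth.Statements.S4986
import Groth.Agent.GeomUnib.DimIneq
import Groth.Agent.GeomUnib.CodimFibre
import Groth.Agent.GeomUnib.HyperplaneFibre
import Groth.Agent.GeomUnib.FibreGen
import Groth.Agent.BMCoh.Basic
-- import your own Groth.Agent.* helpers here

set_option autoImplicit false
open CategoryTheory AlgebraicGeometry
universe u v w
open EGA43

namespace Groth.Agent.S4986

/-- The fibre dimension is bounded by the coheight in the fibre plus the dimension of the closure. -/
theorem fibreDimAt_le_coheight_add {X Y : Scheme.{u}} [IsLocallyNoetherian Y] (f : X ⟶ Y)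
    [LocallyOfFiniteType f] (x : X) {b : ℕ} (hb : FibreDim.fdim f x = b) :
    ∃ N : ℕ, FlatMor.fibreDimAt f x = N ∧ (N : ℕ∞) ≤ Order.coheight (f.asFiber x) + b := by
  obtain ⟨N, hN, ⟨u, hu, hux, huN⟩, -⟩ := FibreDim.exists_fibreDimAt_eq f x
  obtain ⟨a, b₁, ha, hb₁, l, hl, hlast, hlen⟩ := GeomUnib.exists_series_fibre f hux hu
  obtain rfl : b₁ = b := by exact_mod_cast hb₁.symm.trans hb
  obtain rfl : a = N := by exact_mod_cast ha.symm.trans huN
  refine ⟨a, hN, ?_⟩
  have hrange : ∀ i, l i ∈ Set.range (f.fiberι (f x)).base := fun i => by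
    rw [f.range_fiberι]
    have h1 : u ⤳ l i := hlast.trans (show l.last ⤳ l i from l.monotone (Fin.le_last i))
    have h2 : l i ⤳ x := hl ▸ (l.head_le i : l i ⤳ l.head)
    have h3 := h1.map f.continuous
    rw [hu] at h3
    exact ((h2.map f.continuous).antisymm h3).eq
  have hco := GeomUnib.length_le_coheight_of_range (f.fiberι (f x)) (f.fiberι _).isEmbedding l hrange
    (f.asFiber x) (by rw [f.fiberι_asFiber, hl])
  refine le_trans ?_ (add_le_add hco le_rfl)
  exact_mod_cast hlen

/-- A chain of generisations in a fibre raises the dimension of the closure. -/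
theorem length_add_le_fdim {X Y : Scheme.{u}} (f : X ⟶ Y) [LocallyOfFiniteType f] (x : X)
    (l : LTSeries ↥(f.fiber (f x))) (hl : l.head = f.asFiber x) {b c : ℕ}
    (hb : FibreDim.fdim f x = b) (hc : FibreDim.fdim f (f.fiberι (f x) l.last) = c) :
    l.length + b ≤ c := by
  have hval : ∀ i, f (f.fiberι (f x) (l i)) = f x := fun i => by
    have h : f.fiberι (f x) (l i) ∈ Set.range (f.fiberι (f x)) := ⟨_, rfl⟩
    rw [f.range_fiberι] at h
    exact h
  have key : ∀ j : ℕ, ∀ hj : j < l.length + 1, ∀ c : ℕ,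
      FibreDim.fdim f (f.fiberι (f x) (l ⟨j, hj⟩)) = c → j + b ≤ c := by
    intro j
    induction j with
    | zero =>
      intro hj c hc
      have : l ⟨0, hj⟩ = f.asFiber x := hl
      rw [this, f.fiberι_asFiber] at hc
      have h' : b = c := by exact_mod_cast hb.symm.trans hc
      omega
    | succ j ih =>
      intro hj c hc
      obtain ⟨a, ha, -⟩ := FibreDim.exists_fdim f (f.fiberι (f x) (l ⟨j, by omega⟩))
      have hlt : l ⟨j, by omega⟩ < l ⟨j + 1, hj⟩ := l.strictMono (Fin.mk_lt_mk.2 (by omega))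
      have hs : f.fiberι (f x) (l ⟨j + 1, hj⟩) ⤳ f.fiberι (f x) (l ⟨j, by omega⟩) :=
        (hlt.le : l ⟨j + 1, hj⟩ ⤳ l ⟨j, by omega⟩).map (f.fiberι (f x)).continuous
      have := GeomUnib.fdim_add_one_le f hs ((hval _).trans (hval _).symm)
        (fun h => hlt.ne ((f.fiberι (f x)).isEmbedding.injective h)) ha hc
      have := ih (by omega) a ha
      omega
  exact key l.length (by omega) c hc


/-- Let Y be locally Noetherian, f : X ⟶ Y of finite type, x ∈ X, y = f x, X' an irreducible closed
subset containing x with its reduced structure, Y' the closure of f(X') with its reduced structure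
and generic point η', and A, B, A', B' the local rings of Y at y, of X at x, of Y' at y and of X' at
x. Suppose dim B = dim A + dim(B ⊗ κ(y)). Then X' satisfies the four conditions (i) dim A' = dim A,
(ii) dim_x(X' ∩ X_y) = dim_x(X_y), (iii) X' equidimensional over Y' at x, (iv) dim B' = dim A' +
dim(B' ⊗ κ(y)), if and only if dim B' = dim B. -/
theorem result {X Y : Scheme.{u}} [IsLocallyNoetherian Y] (f : X ⟶ Y)
    [LocallyOfFiniteType f] [QuasiCompact f] (x : X) (X' : TopologicalSpace.Closeds X) (hirr : IsIrreducible (X' : Set X))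
    (hx : x ∈ X') (w : ↥(Scheme.IdealSheafData.vanishingIdeal X').subscheme)
    (hw : (Scheme.IdealSheafData.vanishingIdeal X').subschemeι.base w = x)
    (v : ↥(Scheme.IdealSheafData.vanishingIdeal
      (⟨closure (f.base '' (X' : Set X)), isClosed_closure⟩ : TopologicalSpace.Closeds Y)).subscheme)
    (hv : (Scheme.IdealSheafData.vanishingIdeal
      (⟨closure (f.base '' (X' : Set X)), isClosed_closure⟩ : TopologicalSpace.Closeds Y)).subschemeι.base v = f.base x)
    (η' : Y) (hη' : closure ({η'} : Set Y) = closure (f.base '' (X' : Set X))) :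
    letI ιX := (Scheme.IdealSheafData.vanishingIdeal X').subschemeι
    letI dA := ringKrullDim (Y.presheaf.stalk (f.base x))
    letI dB := ringKrullDim (X.presheaf.stalk x)
    letI dA' := ringKrullDim ((Scheme.IdealSheafData.vanishingIdeal
      (⟨closure (f.base '' (X' : Set X)), isClosed_closure⟩ : TopologicalSpace.Closeds Y)).subscheme.presheaf.stalk v)
    letI dB' := ringKrullDim ((Scheme.IdealSheafData.vanishingIdeal X').subscheme.presheaf.stalk w)
    letI dBk := ringKrullDim ((f.fiber (f.base x)).presheaf.stalk (f.asFiber x))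
    letI dB'k := ringKrullDim (((ιX ≫ f).fiber ((ιX ≫ f).base w)).presheaf.stalk ((ιX ≫ f).asFiber w))
    letI e' := topologicalKrullDim ↥((X' : Set X) ∩ f.base ⁻¹' {η'})
    dB = dA + dBk →
      ((dA' = dA ∧ FlatMor.localDim ↥((X' : Set X) ∩ f.base ⁻¹' {f.base x}) ⟨x, ⟨hx, rfl⟩⟩ = FlatMor.fibreDimAt f x ∧
        FlatMor.fibreDimAt (ιX ≫ f) w = e' ∧ dB' = dA' + dB'k) ↔ dB' = dB) := by
  let I := Scheme.IdealSheafData.vanishingIdeal X'
  let J := Scheme.IdealSheafData.vanishingIdeal
    (⟨closure (f.base '' (X' : Set X)), isClosed_closure⟩ : TopologicalSpace.Closeds Y)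
  haveI : IsReduced I.subscheme := BMCoh.isReduced_vanishingIdeal_subscheme _
  have hr : Set.range I.subschemeι.base = (X' : Set X) := by rw [I.range_subschemeι]; rfl
  have hrJ : Set.range J.subschemeι.base = closure (f.base '' (X' : Set X)) := by rw [J.range_subschemeι]; rfl
  have hι := I.subschemeι.isClosedEmbedding.isEmbedding
  haveI : IrreducibleSpace I.subscheme := by
    obtain ⟨p₀, hp₀⟩ := QuasiSober.sober hirr X'.isClosed
    obtain ⟨b, hb⟩ : p₀ ∈ Set.range I.subschemeι.base := hr.ge hp₀.mem
    haveI : Nonempty I.subscheme := ⟨b⟩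
    refine { isPreirreducible_univ := ?_, toNonempty := inferInstance }
    have : (Set.univ : Set I.subscheme) = closure {b} := (Set.eq_univ_of_forall fun c =>
      specializes_iff_mem_closure.1 (hι.toIsInducing.specializes_iff.1 (hb.symm ▸ hp₀.specializes (hr.le ⟨c, rfl⟩)))).symm
    rw [this]; exact isIrreducible_singleton.closure.2
  haveI : IsIntegral I.subscheme := isIntegral_of_irreducibleSpace_of_isReduced _
  set g := I.subschemeι ≫ f
  have hgp : closure ({I.subschemeι (genericPoint I.subscheme)} : Set X) = (X' : Set X) := by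
    rw [← Set.image_singleton, I.subschemeι.isClosedEmbedding.closure_image_eq, genericPoint_spec,
      Set.image_univ, hr]
  have hη : η' = g (genericPoint I.subscheme) := by
    have h1 : closure ({g (genericPoint I.subscheme)} : Set Y) = closure (f.base '' (X' : Set X)) := by
      rw [← hgp]
      exact (((isGenericPoint_closure (x := I.subschemeι (genericPoint I.subscheme))).image f.continuous).def)
    exact IsGenericPoint.eq (show IsGenericPoint η' (closure (f.base '' (X' : Set X))) from hη') h1
  have hgw : g w = f x := congrArg f.base hw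
  haveI : IsLocallyNoetherian X := LocallyOfFiniteType.isLocallyNoetherian f
  haveI : IsLocallyNoetherian I.subscheme := LocallyOfFiniteType.isLocallyNoetherian g
  haveI : IsLocallyNoetherian J.subscheme := LocallyOfFiniteType.isLocallyNoetherian J.subschemeι
  haveI : LocallyOfFiniteType (f.fiberToSpecResidueField (f.base x)) :=
    MorphismProperty.pullback_snd f (Y.fromSpecResidueField (f.base x)) ‹_›
  haveI : IsLocallyNoetherian (f.fiber (f.base x)) :=
    LocallyOfFiniteType.isLocallyNoetherian (f.fiberToSpecResidueField (f.base x))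
  haveI : LocallyOfFiniteType (g.fiberToSpecResidueField (g w)) :=
    MorphismProperty.pullback_snd g (Y.fromSpecResidueField (g w)) inferInstance
  haveI : IsLocallyNoetherian (g.fiber (g w)) :=
    LocallyOfFiniteType.isLocallyNoetherian (g.fiberToSpecResidueField (g w))
  obtain ⟨n, b, e, hn, hgb, he, hen, h1, h2, h3⟩ := GeomUnib.dim_inequalities g w J.subschemeι
    J.subschemeι.isClosedEmbedding.isEmbedding (fun y hy => by
      rw [hrJ, ← hη']
      exact specializes_iff_mem_closure.1 (hη ▸ hy)) v (hv.trans hgw.symm)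
  obtain ⟨a, ha, ha'⟩ := GeomUnib.exists_coheight_eq (f.base x)
  obtain ⟨bx, -, hbx'⟩ := GeomUnib.exists_coheight_eq x
  obtain ⟨a₁, ha₁, ha₁'⟩ := GeomUnib.exists_coheight_eq v
  obtain ⟨b₁, hb₁, hb₁'⟩ := GeomUnib.exists_coheight_eq w
  obtain ⟨k, hk, hk'⟩ := GeomUnib.exists_coheight_eq (f.asFiber x)
  obtain ⟨k₁, hk₁, hk₁'⟩ := GeomUnib.exists_coheight_eq (g.asFiber w)
  have hle1 : a₁ ≤ a := by
    have := Order.coheight_le_coheight_apply_of_strictMono J.subschemeι
      (GeomUnib.strictMono_of_injective _ J.subschemeι.isClosedEmbedding.injective) v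
    rw [hv, ha₁, ha] at this
    exact_mod_cast this
  have hle2 : k₁ ≤ k := by
    obtain ⟨l, hl0, hlen⟩ := Order.exists_series_of_le_coheight (g.asFiber w) hk₁.ge
    have hm : StrictMono fun t => I.subschemeι (g.fiberι (g w) t) :=
      (GeomUnib.strictMono_of_injective _ I.subschemeι.isClosedEmbedding.injective).comp
        (GeomUnib.strictMono_of_injective _ (g.fiberι (g w)).isEmbedding.injective)
    have := GeomUnib.length_le_coheight_of_range (f.fiberι (f.base x)) (f.fiberι _).isEmbedding
      (l.map _ hm) (fun i => by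
        rw [f.range_fiberι]
        have h4 : g.fiberι (g w) (l i) ∈ Set.range (g.fiberι (g w)) := ⟨_, rfl⟩
        rw [g.range_fiberι] at h4
        exact (show g (g.fiberι (g w) (l i)) = g w from h4).trans hgw) (f.asFiber x) (by
        rw [LTSeries.head_map, hl0, g.fiberι_asFiber, f.fiberι_asFiber, hw])
    change (l.length : ℕ∞) ≤ _ at this
    rw [hk, hlen] at this
    exact_mod_cast this
  have he' : topologicalKrullDim ↥((X' : Set X) ∩ f.base ⁻¹' {η'}) = (e : WithBot ℕ∞) := by
    rw [← he, GeomUnib.fdim_comp_closedImmersion, FibreDim.fdim, hgp, hη]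
    rfl
  rw [hk₁, hb₁, ha₁] at h2
  rw [hb₁, ha₁] at h3
  rw [hk₁] at h1
  have h1' : n ≤ k₁ + b := by exact_mod_cast h1
  have h2' : b₁ ≤ a₁ + k₁ := by exact_mod_cast h2
  have h3' : e < n → b₁ + 1 + b ≤ a₁ + n := fun h => by exact_mod_cast h3 h
  obtain ⟨N, hN, hNle⟩ := fibreDimAt_le_coheight_add f x (b := b) (by
    rw [← hgb, GeomUnib.fdim_comp_closedImmersion]
    exact congrArg _ hw.symm)
  rw [hk] at hNle
  have hNle' : N ≤ k + b := by exact_mod_cast hNle
  have hloc : FlatMor.localDim ↥((X' : Set X) ∩ f.base ⁻¹' {f.base x}) ⟨x, ⟨hx, rfl⟩⟩ = n := by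
    rw [← hn, FibreDim.fibreDimAt_eq]
    let e₁ : ↥((Set.univ : Set I.subscheme) ∩ g.base ⁻¹' {g.base w}) ≃ₜ
        ↥((X' : Set X) ∩ f.base ⁻¹' {f.base x}) :=
      (hι.homeomorphImage _).trans (Homeomorph.setCongr (by
        ext z
        constructor
        · rintro ⟨t, ⟨-, ht⟩, rfl⟩
          exact ⟨hr.le ⟨t, rfl⟩, (show g t = g w from ht).trans hgw⟩
        · rintro ⟨hz, hzy⟩
          obtain ⟨t, rfl⟩ := hr.ge hz
          exact ⟨t, ⟨trivial, (show f (I.subschemeι t) = f x from hzy).trans hgw.symm⟩, rfl⟩))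
    rw [FibreDim.localDim_homeo e₁]
    exact congrArg _ (Subtype.ext hw.symm)
  have hnk : k₁ + b ≤ n := by
    obtain ⟨l, hl0, hlen⟩ := Order.exists_series_of_le_coheight (g.asFiber w) hk₁.ge
    obtain ⟨c, hc, -⟩ := FibreDim.exists_fdim g (g.fiberι (g w) l.last)
    have h5 := length_add_le_fdim g w l hl0 hgb hc
    have hs : g.fiberι (g w) l.last ⤳ w := by
      have := ((l.head_le (Fin.last _) : l.last ⤳ l.head).map (g.fiberι (g w)).continuous)
      rwa [hl0, g.fiberι_asFiber] at this
    have h6 := FibreDim.fdim_le_fibreDimAt g hs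
    rw [hc, hn] at h6
    have h6' : c ≤ n := by exact_mod_cast h6
    omega
  have hnN : n ≤ N := by
    obtain ⟨k', hk'', ⟨u, hu, hux, huk⟩, -⟩ := FibreDim.exists_fibreDimAt_eq g w
    have h7 := FibreDim.fdim_le_fibreDimAt f (hux.map I.subschemeι.continuous)
    rw [hw, ← GeomUnib.fdim_comp_closedImmersion f I.subschemeι, huk, hN, ← hk'', hn] at h7
    exact_mod_cast h7
  have hkN : k + b ≤ N := by
    obtain ⟨l, hl0, hlen⟩ := Order.exists_series_of_le_coheight (f.asFiber x) hk.ge
    obtain ⟨c, hc, -⟩ := FibreDim.exists_fdim f (f.fiberι (f x) l.last)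
    have h5 := length_add_le_fdim f x l hl0 (b := b) (by
      rw [← hgb, GeomUnib.fdim_comp_closedImmersion]
      exact congrArg _ hw.symm) hc
    have hs : f.fiberι (f x) l.last ⤳ x := by
      have := ((l.head_le (Fin.last _) : l.last ⤳ l.head).map (f.fiberι (f x)).continuous)
      rwa [hl0, f.fiberι_asFiber] at this
    have h6 := FibreDim.fdim_le_fibreDimAt f hs
    rw [hc, hN] at h6
    have h6' : c ≤ N := by exact_mod_cast h6
    omega
  dsimp only
  rw [ha', hbx', ha₁', hb₁', hk', hk₁', he', hn, hloc, hN]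
  intro hd
  have hd' : bx = a + k := by exact_mod_cast hd
  constructor
  · rintro ⟨e1, e2, -, e4⟩
    have e1' : a₁ = a := by exact_mod_cast e1
    have e2' : n = N := by exact_mod_cast e2
    have e4' : b₁ = a₁ + k₁ := by exact_mod_cast e4
    exact_mod_cast (by omega : b₁ = bx)
  · intro h
    have h' : b₁ = bx := by exact_mod_cast h
    refine ⟨?_, ?_, ?_, ?_⟩
    · exact_mod_cast (by omega : a₁ = a)
    · exact_mod_cast (by omega : n = N)
    · exact_mod_cast (by by_contra hne; have := h3' (by omega); omega : n = e)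
    · exact_mod_cast (by omega : b₁ = a₁ + k₁)

end Groth.Agent.S4986
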