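import Groth.Statements.S4987
import Mathlib
-- import your own Groth.Agent.* helpers here

set_option autoImplicit false
universe u
open CategoryTheory CategoryTheory.Limits AlgebraicGeometry TopologicalSpace
open Unram17

namespace Groth.Agent.S4987

/-- Let h : Y ⟶ S be formally unramified and locally of finite type, let f, g : X ⟶ Y be two morphisms
over S whose common composite X ⟶ S is closed as a map of topological spaces, and let s be a point
of S such that f and g have the same restriction to the scheme-theoretic fibre of X over s. Then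
there is an open neighbourhood V of s such that f and g agree on the preimage of V. -/
theorem result {X Y S : Scheme.{u}} (h : Y ⟶ S)
    [FormallyUnramified h] [LocallyOfFiniteType h] (f g : X ⟶ Y) (w : g ≫ h = f ≫ h)
    (hc : IsClosedMap (f ≫ h).base) (s : ↥S)
    (hs : (f ≫ h).fiberι s ≫ f = (f ≫ h).fiberι s ≫ g) :
    ∃ V : S.Opens, s ∈ V ∧ ((f ≫ h) ⁻¹ᵁ V).ι ≫ f = ((f ≫ h) ⁻¹ᵁ V).ι ≫ g := by
  let E := pullback.diagonal h
  let φ : X ⟶ pullback h h := pullback.lift f g w.symm
  let T : X.Opens := φ ⁻¹ᵁ E.opensRange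
  have hT : T.ι ≫ f = T.ι ≫ g := by
    have hr : Set.range (T.ι ≫ φ) ⊆ Set.range E := by
      rintro _ ⟨t, rfl⟩; exact t.2
    have hl := IsOpenImmersion.lift_fac E (T.ι ≫ φ) hr
    have h1 := congr($hl ≫ pullback.fst h h)
    have h2 := congr($hl ≫ pullback.snd h h)
    rw [Category.assoc, pullback.diagonal_fst, Category.comp_id, Category.assoc, pullback.lift_fst] at h1
    rw [Category.assoc, pullback.diagonal_snd, Category.comp_id, Category.assoc, pullback.lift_snd] at h2
    exact h1.symm.trans h2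
  have hfib : ∀ x, (f ≫ h) x = s → x ∈ T := by
    intro x hx
    let z := ((f ≫ h).fiberHomeo s).symm ⟨x, hx⟩
    have hz : (f ≫ h).fiberι s z = x := (f ≫ h).fiberι_fiberHomeo_symm s ⟨x, hx⟩
    refine ⟨((f ≫ h).fiberι s ≫ f) z, ?_⟩
    have hk : ((f ≫ h).fiberι s ≫ f) ≫ E = (f ≫ h).fiberι s ≫ φ := by
      apply pullback.hom_ext
      · rw [Category.assoc, pullback.diagonal_fst, Category.comp_id, Category.assoc, pullback.lift_fst]
      · rw [Category.assoc, pullback.diagonal_snd, Category.comp_id, Category.assoc, pullback.lift_snd, hs]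
    have := congrArg (fun m : (f ≫ h).fiber s ⟶ pullback h h => m z) hk
    exact this.trans (congrArg φ hz)
  refine ⟨⟨((f ≫ h).base '' (T : Set X)ᶜ)ᶜ, (hc _ T.2.isClosed_compl).isOpen_compl⟩, ?_, ?_⟩
  · rintro ⟨x, hx, hxs⟩
    exact hx (hfib x hxs)
  · have hle : (f ≫ h) ⁻¹ᵁ ⟨((f ≫ h).base '' (T : Set X)ᶜ)ᶜ, (hc _ T.2.isClosed_compl).isOpen_compl⟩ ≤ T :=
      fun x hx => by
        by_contra hn
        exact hx ⟨x, hn, rfl⟩
    rw [← X.homOfLE_ι hle, Category.assoc, Category.assoc, hT]

end Groth.Agent.S4987
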