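import Groth.Statements.S4989
import Groth.Agent.S1182
import Groth.Agent.S4366
import Groth.Agent.AlgSpPts.Descend
import Groth.Agent.FibrewiseCrit.Pointwise
-- import your own Groth.Agent.* helpers here

set_option autoImplicit false
universe u
open CategoryTheory CategoryTheory.Limits AlgebraicGeometry TopologicalSpace
open Unram17

set_option linter.style.haveILetI false
set_option backward.isDefEq.respectTransparency false

namespace Groth.Agent.S4989

/-- Let f : X ⟶ Y be locally of finite presentation and smooth at a point x with image y. Then the local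
ring of X at x is reduced if and only if the local ring of Y at y is reduced, and it is an
integrally closed domain if and only if the local ring of Y at y is one. (The published statement
also covers geometrically unibranch local rings; this row states only the reduced and the integrally
closed cases.) -/
theorem result {X Y : Scheme.{u}} (f : X ⟶ Y)
    [LocallyOfFinitePresentation f] (x : ↥X) (hx : x ∈ f.smoothLocus) :
    (IsReduced ↑(X.presheaf.stalk x) ↔ IsReduced ↑(Y.presheaf.stalk (f.base x))) ∧
    ((IsDomain ↑(X.presheaf.stalk x) ∧ IsIntegrallyClosed ↑(X.presheaf.stalk x)) ↔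
      (IsDomain ↑(Y.presheaf.stalk (f.base x)) ∧ IsIntegrallyClosed ↑(Y.presheaf.stalk (f.base x)))) := by
  classical
  let A := Y.presheaf.stalk (f.base x)
  let B := X.presheaf.stalk x
  letI : Algebra A B := (f.stalkMap x).hom.toAlgebra
  haveI : Module.Flat A B := FibrewiseCrit.flat_stalkMap_of_mem_smoothLocus f x hx
  haveI : IsLocalHom (algebraMap A B) := inferInstanceAs (IsLocalHom (f.stalkMap x).hom)
  haveI : Module.FaithfullyFlat A B := Module.FaithfullyFlat.of_flat_of_isLocalHom
  have hinj : Function.Injective (algebraMap A B) := FaithfulSMul.algebraMap_injective A B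
  let V : X.Opens := f.smoothLocus
  haveI : Smooth (V.ι ≫ f) := by
    rw [← Scheme.Hom.smoothLocus_eq_top_iff, ← Scheme.Hom.preimage_smoothLocus_eq, Scheme.Opens.ι_preimage_self]
  let g := Y.fromSpecStalk (f.base x)
  let P := pullback (V.ι ≫ f) g
  obtain ⟨z, hz1, -⟩ := Scheme.Pullback.exists_preimage_pullback (f := V.ι ≫ f) (g := g)
    (⟨x, hx⟩ : V.toScheme) (IsLocalRing.closedPoint A) (by rw [Scheme.fromSpecStalk_closedPoint]; rfl)
  haveI : IsIso ((pullback.fst (V.ι ≫ f) g).stalkMap z) := S4366.result (V.ι ≫ f) (f.base x) z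
  let e : B ≃+* P.presheaf.stalk z :=
    ((X.presheaf.stalkCongr (.of_eq (show x = V.ι (pullback.fst (V.ι ≫ f) g z) by rw [hz1]; rfl))) ≪≫
      asIso (V.ι.stalkMap (pullback.fst (V.ι ≫ f) g z)) ≪≫
      asIso ((pullback.fst (V.ι ≫ f) g).stalkMap z)).commRingCatIsoToRingEquiv
  refine ⟨⟨fun h => isReduced_of_injective (algebraMap A B) hinj, fun h => ?_⟩, ⟨fun ⟨hd, hc⟩ => ?_, fun ⟨hd, hc⟩ => ?_⟩⟩
  · haveI : _root_.IsReduced A := h
    haveI : AlgebraicGeometry.IsReduced P := AlgSpPts.isReduced_of_smooth (pullback.snd (V.ι ≫ f) g)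
    exact isReduced_of_injective e e.injective
  · haveI : IsDomain A := hinj.isDomain (algebraMap A B)
    refine ⟨inferInstance, (isIntegrallyClosed_iff (FractionRing A)).2 fun {w} hw => ?_⟩
    obtain ⟨a, s, rfl⟩ := IsLocalization.exists_mk'_eq (nonZeroDivisors A) w
    have hs : algebraMap A B s ≠ 0 := (map_ne_zero_iff _ hinj).2 (nonZeroDivisors.ne_zero s.2)
    let θ : FractionRing A →+* FractionRing B := IsFractionRing.map (A := A) (B := B) hinj
    have hθ : ∀ a, θ (algebraMap A (FractionRing A) a) = algebraMap B (FractionRing B) (algebraMap A B a) :=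
      fun a => IsLocalization.map_eq _ a
    have hint : IsIntegral B (θ (IsLocalization.mk' _ a s)) := by
      obtain ⟨q, hq, hroot⟩ := hw
      refine ⟨q.map (algebraMap A B), hq.map _, ?_⟩
      rw [Polynomial.eval₂_map, show (algebraMap B (FractionRing B)).comp (algebraMap A B) =
        θ.comp (algebraMap A (FractionRing A)) from RingHom.ext fun a => (hθ a).symm, ← Polynomial.hom_eval₂,
        hroot, map_zero]
    haveI := hd
    haveI := hc
    obtain ⟨b, hb⟩ := IsIntegrallyClosed.isIntegral_iff.1 hint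
    have hab : algebraMap A B a = algebraMap A B s * b := by
      apply IsFractionRing.injective B (FractionRing B)
      rw [map_mul, hb, ← hθ, ← hθ, ← map_mul, IsLocalization.mk'_spec']
    have hmem : a ∈ Ideal.span {(s : A)} := by
      rw [← Ideal.comap_map_eq_self_of_faithfullyFlat (B := B) (Ideal.span {(s : A)}), Ideal.mem_comap,
        Ideal.map_span, Set.image_singleton, hab]
      exact Ideal.mul_mem_right _ _ (Ideal.subset_span rfl)
    obtain ⟨c, rfl⟩ := Ideal.mem_span_singleton'.1 hmem
    exact ⟨c, (IsLocalization.eq_mk'_iff_mul_eq.2 (map_mul _ _ _).symm)⟩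
  · haveI := hd
    haveI := hc
    obtain ⟨_, ⟨W, hW, rfl⟩, hzW, -⟩ :=
      P.isBasis_affineOpens.exists_subset_of_mem_open (Set.mem_univ z) isOpen_univ
    have hle : W ≤ pullback.snd (V.ι ≫ f) g ⁻¹ᵁ ⊤ := le_top
    have hs := HasRingHomProperty.appLE @Smooth (pullback.snd (V.ι ≫ f) g) inferInstance
      ⟨⊤, isAffineOpen_top _⟩ ⟨W, hW⟩ hle
    algebraize [((pullback.snd (V.ι ≫ f) g).appLE ⊤ W hle).hom]
    haveI : IsDomain Γ(Spec A, ⊤) := (Scheme.ΓSpecIso A).commRingCatIsoToRingEquiv.injective.isDomain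
      (Scheme.ΓSpecIso A).commRingCatIsoToRingEquiv.toRingHom
    haveI : IsIntegrallyClosed Γ(Spec A, ⊤) :=
      IsIntegrallyClosed.of_equiv (Scheme.ΓSpecIso A).commRingCatIsoToRingEquiv.symm
    have hN : EGA4.IsNormalRing Γ(P, W) := (S1182.result Γ(Spec A, ⊤) Γ(P, W)).1 fun p _ =>
      ⟨inferInstance, isIntegrallyClosed_of_isLocalization (R := Γ(Spec A, ⊤)) (S := Localization.AtPrime p) p.primeCompl p.primeCompl_le_nonZeroDivisors⟩
    letI := TopCat.Presheaf.algebra_section_stalk P.presheaf ⟨z, hzW⟩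
    haveI : IsLocalization.AtPrime (P.presheaf.stalk z) (hW.primeIdealOf ⟨z, hzW⟩).asIdeal :=
      hW.isLocalization_stalk ⟨z, hzW⟩
    obtain ⟨h1, h2⟩ := hN (hW.primeIdealOf ⟨z, hzW⟩).asIdeal
    let e' : Localization.AtPrime (hW.primeIdealOf ⟨z, hzW⟩).asIdeal ≃+* B :=
      ((IsLocalization.algEquiv (hW.primeIdealOf ⟨z, hzW⟩).asIdeal.primeCompl _ (P.presheaf.stalk z)).toRingEquiv).trans e.symm
    exact ⟨e'.symm.injective.isDomain e'.symm.toRingHom, IsIntegrallyClosed.of_equiv e'⟩

end Groth.Agent.S4989
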