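import Groth.Statements.S4993
import Groth.Agent.FibrewiseCrit.Basic
import Groth.Agent.Miracle.Basic
import Groth.Agent.DepthLib.RegularLocal
import Groth.Agent.S1535
import Groth.Agent.EquidimFlat.Basic
import Groth.Agent.LocalDim.Closure
import Groth.Agent.S3694
import Groth.Agent.AlgSpFin.EtaleDim
-- import your own Groth.Agent.* helpers here

set_option autoImplicit false
universe u
open CategoryTheory CategoryTheory.Limits AlgebraicGeometry TopologicalSpace
open Unram17

namespace Groth.Agent.S4993

/-- The local dimension of a fibre. -/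
theorem localDim_fibre {X S : Scheme.{u}} (f : X ⟶ S) (s : S) (y : f.fiber s) :
    FlatMor.localDim ↑(f.fiber s) y = FlatMor.fibreDimAt f (f.fiberι s y) := by
  have key : ∀ (s : S) (y : f.fiber s) (x : X), f.base x = s → f.fiberι s y = x →
      FlatMor.localDim ↑(f.fiber s) y = FlatMor.fibreDimAt f x := by
    rintro _ y x rfl hx
    have : f.asFiber x = y := (f.fiberι (f.base x)).isEmbedding.injective
      ((f.fiberι_asFiber x).trans hx.symm)
    rw [FlatMor.fibreDimAt, this]
  exact key s y _ ((f.range_fiberι s).le ⟨y, rfl⟩) rfl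

theorem add_natCast_cancel {a b : WithBot ℕ∞} {n : ℕ} (h : a + n = b + n) : a = b := by
  cases a <;> cases b
  · rfl
  · rename_i b
    exact absurd h.symm (by rw [WithBot.bot_add]; exact WithBot.coe_ne_bot)
  · rename_i a
    exact absurd h (by rw [WithBot.bot_add]; exact WithBot.coe_ne_bot)
  · rename_i a b
    refine congrArg _ ((ENat.addLECancellable_of_ne_top (ENat.natCast_ne_top n)).inj_left.mp ?_)
    exact WithBot.coe_inj.mp h

/-- A monomorphism of schemes smooth over a field preserving local dimensions is flat. -/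
theorem flat_of_mono {k : Type u} [Field k] {X Y : Scheme.{u}} (q : Y ⟶ Spec (CommRingCat.of k)) (g : X ⟶ Y)
    [Smooth q] [Smooth (g ≫ q)] [Mono g] (hd : ∀ x, FlatMor.localDim X x = FlatMor.localDim Y (g x)) : Flat g := by
  haveI : LocallyOfFiniteType g := locallyOfFiniteType_of_comp g q
  rw [Flat.iff_flat_stalkMap]
  intro x
  obtain ⟨a, b, c, ha, hb, hc, hsum⟩ := EquidimFlat.fdim_comp g q x
  have hb0 : b = 0 := by
    have hsing : closure ({x} : Set X) ∩ g.base ⁻¹' {g.base x} = {x} := by
      ext z
      exact ⟨fun hz => g.injective hz.2, fun hz => ⟨subset_closure hz, by rw [Set.mem_singleton_iff.1 hz]; rfl⟩⟩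
    rw [FibreDim.fdim, hsing] at hb
    have h0 : topologicalKrullDim ({x} : Set X) ≤ 0 := topologicalKrullDim_zero_of_discreteTopology _
    rw [hb] at h0
    have : b ≤ 0 := by exact_mod_cast h0
    omega
  have hX := LocalDim.localDim_eq_stalk_add_closure (g ≫ q) x
  have hY := LocalDim.localDim_eq_stalk_add_closure q (g x)
  rw [← EquidimFlat.fdim_eq_closure (g ≫ q), hc] at hX
  rw [← EquidimFlat.fdim_eq_closure q, ha] at hY
  rw [hd x, hY, show c = a by omega] at hX
  have hdim := add_natCast_cancel hX
  haveI hrY : IsRegularLocalRing (Y.presheaf.stalk (g x)) :=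
    letI : Y.Over (Spec (CommRingCat.of k)) := ⟨q⟩
    haveI : Smooth (Y ↘ Spec (CommRingCat.of k)) := ‹Smooth q›
    Groth.Agent.S1535.result k Y (g x)
  haveI hrX : IsRegularLocalRing (X.presheaf.stalk x) :=
    letI : X.Over (Spec (CommRingCat.of k)) := ⟨g ≫ q⟩
    haveI : Smooth (X ↘ Spec (CommRingCat.of k)) := ‹Smooth (g ≫ q)›
    Groth.Agent.S1535.result k X x
  haveI : LocCoh.IsCohenMacaulayLocalRing (X.presheaf.stalk x) := DepthLib.isCohenMacaulayLocalRing_of_isRegularLocalRing _
  have hfu := FormallyUnramified.stalkMap g x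
  algebraize [(g.stalkMap x).hom]
  haveI : IsLocalHom (algebraMap (Y.presheaf.stalk (g x)) (X.presheaf.stalk x)) :=
    inferInstanceAs <| IsLocalHom (g.stalkMap x).hom
  haveI : Algebra.EssFiniteType (Y.presheaf.stalk (g x)) (X.presheaf.stalk x) := by
    rw [← RingHom.essFiniteType_algebraMap, RingHom.algebraMap_toAlgebra]
    exact LocallyOfFiniteType.stalkMap g x
  refine Miracle.flat _ rfl ?_
  rw [Algebra.FormallyUnramified.map_maximalIdeal, ringKrullDim_eq_zero_of_isField
    ((Ideal.Quotient.maximal_ideal_iff_isField_quotient _).mp inferInstance), add_zero, hdim]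

/-- Let f : Y ⟶ S and h : X ⟶ S be smooth and let g : X ⟶ Y satisfy g ≫ f = h. Then g is an open
immersion if and only if g is a monomorphism and, for every point x of X, the local dimension at
g(x) of the fibre of f through g(x) equals the local dimension at x of the fibre of h through x. -/
theorem result {X Y S : Scheme.{u}} (f : Y ⟶ S) (h : X ⟶ S)
    [Smooth f] [Smooth h] (g : X ⟶ Y) (w : g ≫ f = h) :
    IsOpenImmersion g ↔ Mono g ∧ ∀ x : ↥X, FlatMor.fibreDimAt f (g.base x) = FlatMor.fibreDimAt h x := by
  subst w
  constructor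
  · intro _
    exact ⟨inferInstance, fun x => (AlgSpFin.fibreDimAt_etale_comp g f x).symm⟩
  rintro ⟨_, hd⟩
  haveI hlfp : LocallyOfFinitePresentation g :=
    FibrewiseCrit.locallyOfFinitePresentation_of_comp g f inferInstance inferInstance
  haveI : Flat g := by
    refine FibrewiseCrit.flat_of_fibres g f fun s => ?_
    let e := pullbackRightPullbackFstIso f (S.fromSpecResidueField s) g
    have hw : pullback.snd g (f.fiberι s) ≫ f.fiberToSpecResidueField s =
        e.hom ≫ (g ≫ f).fiberToSpecResidueField s := (pullbackRightPullbackFstIso_hom_snd _ _ _).symm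
    haveI := smooth_isStableUnderBaseChange.{u}
    haveI : Smooth ((g ≫ f).fiberToSpecResidueField s) :=
      smooth_isStableUnderBaseChange.of_isPullback (IsPullback.of_hasPullback (g ≫ f) _) inferInstance
    haveI : Smooth (f.fiberToSpecResidueField s) :=
      smooth_isStableUnderBaseChange.of_isPullback (IsPullback.of_hasPullback f _) inferInstance
    haveI hs1 : Smooth (pullback.snd g (f.fiberι s) ≫ f.fiberToSpecResidueField s) := by
      rw [hw]
      haveI : MorphismProperty.RespectsIso @Smooth.{u} := smooth_isStableUnderBaseChange.respectsIso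
      exact (MorphismProperty.cancel_left_of_respectsIso @Smooth e.hom _).mpr
        (smooth_isStableUnderBaseChange.of_isPullback (IsPullback.of_hasPullback (g ≫ f) _) inferInstance)
    refine @flat_of_mono _ _ _ _ (f.fiberToSpecResidueField s) (pullback.snd g (f.fiberι s))
      (smooth_isStableUnderBaseChange.of_isPullback (IsPullback.of_hasPullback f _) inferInstance) hs1 inferInstance
      fun p => ?_
    have hp : f.fiberι s (pullback.snd g (f.fiberι s) p) = g (pullback.fst g (f.fiberι s) p) := by
      rw [← Scheme.Hom.comp_apply, ← Scheme.Hom.comp_apply, pullback.condition]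
    have hfst : (g ≫ f).fiberι s (e.hom p) = pullback.fst g (f.fiberι s) p := by
      refine Eq.trans (Scheme.Hom.comp_apply e.hom ((g ≫ f).fiberι s) p).symm ?_
      exact congrArg (fun t : pullback g (f.fiberι s) ⟶ X => t p) (pullbackRightPullbackFstIso_hom_fst _ _ _)
    refine (FibreDim.localDim_homeo (Scheme.homeoOfIso e) p).trans ?_
    refine (localDim_fibre (g ≫ f) s (e.hom p)).trans (Eq.trans ?_ (localDim_fibre f s _).symm)
    rw [hfst, hp]
    exact (hd _).symm
  haveI : Etale g := Etale.of_formallyUnramified_of_flat g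
  exact Groth.Agent.S3694.result g

end Groth.Agent.S4993
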