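import Groth.Statements.S4997
import Mathlib
import Groth.Agent.SmoothQF.Basic
-- import your own Groth.Agent.* helpers here

set_option autoImplicit false
universe u
open CategoryTheory CategoryTheory.Limits AlgebraicGeometry TopologicalSpace
open Unram17

namespace Groth.Agent.S4997

/-- A morphism of schemes is etale if and only if it is smooth and locally quasi-finite. -/
theorem result {X Y : Scheme.{u}} (f : X ⟶ Y) :
    Etale f ↔ Smooth f ∧ LocallyQuasiFinite f := by
  constructor
  · intro h
    refine ⟨inferInstance, ⟨fun {U} hU {V} hV e => ?_⟩⟩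
    have hh : (f.appLE U V e).hom.Etale := (HasRingHomProperty.iff_appLE (P := @Etale)).mp h ⟨U, hU⟩ ⟨V, hV⟩ e
    algebraize [(f.appLE U V e).hom]
    exact (inferInstance : Algebra.QuasiFinite Γ(Y, U) Γ(X, V))
  · rintro ⟨hs, hq⟩
    rw [HasRingHomProperty.iff_appLE (P := @Etale)]
    intro U V e
    have h1 : (f.appLE U.1 V.1 e).hom.Smooth := (HasRingHomProperty.iff_appLE (P := @Smooth)).mp hs U V e
    have h2 : (f.appLE U.1 V.1 e).hom.QuasiFinite := hq.quasiFinite_appLE U.2 V.2 e
    algebraize [(f.appLE U.1 V.1 e).hom]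
    show Algebra.Etale Γ(Y, U.1) Γ(X, V.1)
    rw [← Algebra.etaleLocus_eq_univ_iff_etale, Set.eq_univ_iff_forall]
    intro q
    haveI : Algebra.IsSmoothAt Γ(Y, U.1) q.asIdeal := Algebra.FormallySmooth.comp Γ(Y, U.1) Γ(X, V.1) _
    exact SmoothQF.isEtaleAt_of_isSmoothAt_of_quasiFiniteAt q.asIdeal this

end Groth.Agent.S4997
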