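import Mathlib
import Groth.Statements.S4998
-- import your own Groth.Agent.* helpers here

set_option autoImplicit false
universe u
open Unram17

namespace Groth.Agent.S4998

open scoped TensorProduct

/-- Let A be an algebra of finite type over a field k. Then A is formally unramified over k if and only
if A is finite over k and every element of A has separable minimal polynomial over k (equivalently,
A is a finite product of finite separable extensions of k). -/
theorem result (k A : Type u) [Field k] [CommRing A]
    [Algebra k A] [Algebra.FiniteType k A] :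
    Algebra.FormallyUnramified k A ↔ Module.Finite k A ∧ Algebra.IsSeparable k A := by
  classical
  constructor
  · intro h
    haveI : Module.Free k A := Module.Free.of_divisionRing k A
    haveI hfin : Module.Finite k A := Algebra.FormallyUnramified.finite_of_free k A
    refine ⟨hfin, ⟨fun x => ?_⟩⟩
    have hint : IsIntegral k x := Algebra.IsIntegral.isIntegral x
    let K := AlgebraicClosure k
    haveI : IsReduced (K ⊗[k] A) := Algebra.FormallyUnramified.isReduced_of_field K _
    show (minpoly k x).Separable
    rw [← Polynomial.separable_map (algebraMap k K), PerfectField.separable_iff_squarefree]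
    intro q hq
    by_contra hqu
    set μ := (minpoly k x).map (algebraMap k K) with hμ
    have hμ0 : μ ≠ 0 := Polynomial.map_ne_zero (minpoly.ne_zero hint)
    obtain ⟨c, hc⟩ := hq
    have hx : Polynomial.aeval ((1 : K) ⊗ₜ[k] x) μ = 0 := by
      rw [hμ, Polynomial.aeval_map_algebraMap]
      show Polynomial.aeval (Algebra.TensorProduct.includeRight (R := k) (A := K) x) (minpoly k x) = 0
      rw [Polynomial.aeval_algHom_apply, minpoly.aeval, map_zero]
    have hqc : Polynomial.aeval ((1 : K) ⊗ₜ[k] x) (q * c) = 0 := by
      refine IsReduced.eq_zero _ ⟨2, ?_⟩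
      rw [← map_pow, show (q * c) ^ 2 = μ * c by rw [hc]; ring, map_mul, hx, zero_mul]
    have hq0 : q ≠ 0 := fun h => hμ0 (by rw [hc, h]; ring)
    have hc0 : c ≠ 0 := fun h => hμ0 (by rw [hc, h]; ring)
    have hdeg : (q * c).natDegree < (minpoly k x).natDegree := by
      rw [← Polynomial.natDegree_map_eq_of_injective (algebraMap k K).injective (p := minpoly k x), ← hμ, hc, mul_assoc,
        Polynomial.natDegree_mul hq0 (mul_ne_zero hq0 hc0)]
      have : 0 < q.natDegree := Nat.pos_of_ne_zero fun h => hqu ((Polynomial.isUnit_iff_degree_eq_zero).2 (by rw [Polynomial.degree_eq_natDegree hq0, h]; rfl))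
      omega
    have hli : LinearIndependent K fun i : Fin (minpoly k x).natDegree => (1 : K) ⊗ₜ[k] (x ^ (i : ℕ)) :=
      Module.Flat.linearIndependent_one_tmul (linearIndependent_pow x)
    have hsum : ∑ i : Fin (minpoly k x).natDegree, (q * c).coeff i • ((1 : K) ⊗ₜ[k] (x ^ (i : ℕ))) = 0 := by
      rw [← hqc, Polynomial.aeval_eq_sum_range' hdeg, Finset.sum_range]
      simp [Algebra.TensorProduct.tmul_pow]
    have h0 := Fintype.linearIndependent_iff.1 hli _ hsum
    apply mul_ne_zero hq0 hc0
    ext i
    rw [Polynomial.coeff_zero]
    by_cases hi : i < (minpoly k x).natDegree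
    · exact h0 ⟨i, hi⟩
    · exact Polynomial.coeff_eq_zero_of_natDegree_lt (by omega)
  · rintro ⟨hfin, hsep⟩
    haveI := hfin
    haveI := hsep
    haveI : IsReduced A := ⟨fun x hx => by
      obtain ⟨n, hn⟩ := hx
      have h1 : minpoly k x ∣ Polynomial.X ^ n := minpoly.dvd k x (by simp [hn])
      have h3 : minpoly k x ∣ Polynomial.X :=
        (Algebra.IsSeparable.isSeparable k x).squarefree.isRadical n _ h1
      obtain ⟨e, he⟩ := h3
      have := congrArg (Polynomial.aeval x) he
      rwa [Polynomial.aeval_X, map_mul, minpoly.aeval, zero_mul] at this⟩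
    haveI : IsArtinianRing A := IsArtinianRing.of_finite k A
    haveI : ∀ m : MaximalSpectrum A, Algebra.FormallyUnramified k (A ⧸ m.asIdeal) := fun m => by
      haveI := m.isMaximal
      letI := Ideal.Quotient.field m.asIdeal
      haveI : Algebra.IsSeparable k (A ⧸ m.asIdeal) := ⟨fun y => by
        obtain ⟨a, rfl⟩ := Ideal.Quotient.mk_surjective y
        have : minpoly k (Ideal.Quotient.mk m.asIdeal a) ∣ minpoly k a := minpoly.dvd k _ (by
          show Polynomial.aeval (Ideal.Quotient.mkₐ k m.asIdeal a) (minpoly k a) = 0
          rw [Polynomial.aeval_algHom_apply, minpoly.aeval, map_zero])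
        exact (Algebra.IsSeparable.isSeparable k a).of_dvd this⟩
      exact Algebra.FormallyUnramified.of_isSeparable k _
    haveI : Finite (MaximalSpectrum A) := inferInstance
    haveI := (Algebra.FormallyUnramified.pi_iff (R := k) (fun m : MaximalSpectrum A => A ⧸ m.asIdeal)).2 inferInstance
    exact Algebra.FormallyUnramified.of_equiv ((IsArtinianRing.equivPi A).restrictScalars k).symm

end Groth.Agent.S4998
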