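import Groth.Statements.S5001
import Groth.Agent.EtaleCrit.Basic
-- import your own Groth.Agent.* helpers here

set_option autoImplicit false
universe u
open Unram17

namespace Groth.Agent.S5001

/-- Let k be a field, A a k-algebra of finite type equipped with a k-algebra map from the polynomial
ring in n variables, with images g_i of the variables, and p a prime of A such that Spec A has local
dimension n at p, the residue field of p is a finite separable extension of k, and every g_i lies in
p. Then A is etale over the polynomial ring at p if and only if the images of the g_i generate the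
maximal ideal of the local ring A_p. -/
theorem result (k A : Type u) [Field k] [CommRing A] [Algebra k A]
    [Algebra.FiniteType k A] (n : ℕ) [Algebra (MvPolynomial (Fin n) k) A]
    [IsScalarTower k (MvPolynomial (Fin n) k) A] (p : Ideal A) [p.IsPrime]
    (hn : FlatMor.localDim (PrimeSpectrum A) ⟨p, inferInstance⟩ = (n : WithBot ℕ∞))
    [Module.Finite k p.ResidueField] [Algebra.IsSeparable k p.ResidueField]
    (hg : ∀ i : Fin n, algebraMap (MvPolynomial (Fin n) k) A (MvPolynomial.X i) ∈ p) :
    Algebra.IsEtaleAt (MvPolynomial (Fin n) k) p ↔
      Ideal.span (Set.range fun i : Fin n =>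
        algebraMap A (Localization.AtPrime p) (algebraMap (MvPolynomial (Fin n) k) A (MvPolynomial.X i))) =
        IsLocalRing.maximalIdeal (Localization.AtPrime p) := by
  let P := MvPolynomial (Fin n) k
  haveI : Algebra.FiniteType P A := Algebra.FiniteType.of_restrictScalars_finiteType k P A
  let q := p.under P
  haveI : p.LiesOver q := ⟨rfl⟩
  letI := Localization.AtPrime.algebraOfLiesOver q p
  let X : Ideal P := Ideal.span (Set.range fun i : Fin n => (MvPolynomial.X i : P))
  have hXle : X ≤ q := Ideal.span_le.2 (by rintro _ ⟨i, rfl⟩; exact hg i)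
  have hq : q = X := by
    refine le_antisymm (fun x hx => ?_) hXle
    have hsub : x - MvPolynomial.C (MvPolynomial.constantCoeff x) ∈ X := by
      show _ ∈ Ideal.span (Set.range (MvPolynomial.X : Fin n → P))
      rw [← Set.image_univ, MvPolynomial.mem_ideal_span_X_image]
      intro m hm
      rcases eq_or_ne m 0 with rfl | hm0
      · refine absurd (MvPolynomial.mem_support_iff.1 hm) (not_not.2 ?_)
        rw [MvPolynomial.coeff_sub, MvPolynomial.coeff_C, if_pos rfl, ← MvPolynomial.constantCoeff_eq, sub_self]
      · obtain ⟨i, hi⟩ := Finsupp.ne_iff.1 hm0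
        exact ⟨i, trivial, hi⟩
    have hc : MvPolynomial.C (MvPolynomial.constantCoeff x) ∈ q := by
      simpa using q.sub_mem hx (hXle hsub)
    by_contra hne
    have hc0 : MvPolynomial.constantCoeff x ≠ 0 := fun h0 => hne (by simpa [h0] using hsub)
    exact (inferInstance : q.IsPrime).ne_top (Ideal.eq_top_of_isUnit_mem _ hc ((isUnit_iff_ne_zero.2 hc0).map MvPolynomial.C))
  have hmap : q.map (algebraMap P (Localization.AtPrime p)) = Ideal.span (Set.range fun i : Fin n =>
      algebraMap A (Localization.AtPrime p) (algebraMap P A (MvPolynomial.X i))) := by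
    rw [hq, Ideal.map_span, ← Set.range_comp]
    simp only [Function.comp_def, IsScalarTower.algebraMap_apply P A (Localization.AtPrime p)]
  rw [← hmap]
  refine ⟨fun h => ?_, fun h => ?_⟩
  · haveI := h
    exact ((Algebra.isUnramifiedAt_iff_map_eq P q p).1 inferInstance).2
  · haveI : Algebra.IsSeparable q.ResidueField p.ResidueField := Algebra.isSeparable_tower_top_of_isSeparable k _ _
    haveI : Algebra.IsUnramifiedAt P p := (Algebra.isUnramifiedAt_iff_map_eq P q p).2 ⟨inferInstance, h⟩
    exact Groth.Agent.EtaleCrit.isEtaleAt_of_isUnramifiedAt p hn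

end Groth.Agent.S5001
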