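import Groth.Statements.S5006
import Mathlib
-- import your own Groth.Agent.* helpers here

set_option autoImplicit false
universe u
open Nrm16

namespace Groth.Agent.S5006

/-- Let A be a commutative ring, I a finitely generated ideal and p a prime ideal containing I. Then
some basic open neighbourhood of p in Spec A is contained in the closed set V(I) (so that V(I) ⟶
Spec A is a local homeomorphism onto an open set near p) if and only if there is an integer n > 0
with I^n A_p = I^(n+1) A_p in the local ring at p. Affine form. -/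
theorem result (A : Type u) [CommRing A] (I : Ideal A) (hI : I.FG)
    (p : Ideal A) [p.IsPrime] (hp : I ≤ p) :
    (∃ f : A, f ∉ p ∧ ∀ q : Ideal A, q.IsPrime → f ∉ q → I ≤ q) ↔
      ∃ n : ℕ, 0 < n ∧
        (I ^ n).map (algebraMap A (Localization.AtPrime p)) =
          (I ^ (n + 1)).map (algebraMap A (Localization.AtPrime p)) := by
  classical
  constructor
  · rintro ⟨f, hf, hq⟩
    have hle : I ≤ (⊥ : Ideal A).radical.colon {f} := by
      intro x hx
      rw [Submodule.mem_colon_singleton, Ideal.radical_eq_sInf, smul_eq_mul, Submodule.mem_sInf]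
      rintro q ⟨-, hqp⟩
      by_cases hfq : f ∈ q
      · exact Ideal.mul_mem_left q x hfq
      · exact Ideal.mul_mem_right f q (hq q hqp hfq hx)
    obtain ⟨n, hn⟩ : ∃ n, (Ideal.span {f} * I) ^ n = ⊥ := by
      obtain ⟨n, hn⟩ := Ideal.exists_pow_le_of_le_radical_of_fg (J := (⊥ : Ideal A))
        (I := Ideal.span {f} * I) (Ideal.span_singleton_mul_le_iff.mpr fun x hx => by
          have := Submodule.mem_colon_singleton.mp (hle hx)
          rwa [smul_eq_mul, mul_comm] at this) ((Submodule.fg_span_singleton f).mul hI)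
      exact ⟨n, le_bot_iff.mp hn⟩
    have hz : ∀ k, n ≤ k → (I ^ k).map (algebraMap A (Localization.AtPrime p)) = ⊥ := by
      intro k hk
      rw [← le_bot_iff]
      refine (Ideal.map_mono (Ideal.pow_le_pow_right hk)).trans ?_
      rw [Ideal.map_le_iff_le_comap]
      intro x hx
      have h1 : f ^ n * x = 0 := by
        rw [← Ideal.mem_bot, ← hn, mul_pow, Ideal.span_singleton_pow]
        exact Ideal.mul_mem_mul (Ideal.mem_span_singleton_self _) hx
      rw [Ideal.mem_comap, Ideal.mem_bot, IsLocalization.map_eq_zero_iff p.primeCompl]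
      exact ⟨⟨f ^ n, fun h => hf (‹p.IsPrime›.mem_of_pow_mem n h)⟩, h1⟩
    exact ⟨n + 1, n.succ_pos, by rw [hz _ (by omega), hz _ (by omega)]⟩
  · rintro ⟨n, -, hn⟩
    set L := Localization.AtPrime p
    have hm : (I ^ n).map (algebraMap A L) = ⊥ := by
      refine Submodule.eq_bot_of_le_smul_of_le_jacobson_bot (I.map (algebraMap A L)) _
        (Ideal.FG.map (Submodule.FG.pow hI n) (algebraMap A L)) ?_ ?_
      · rw [smul_eq_mul, ← Ideal.map_mul, ← pow_succ']
        exact hn.le
      · refine le_trans ?_ (IsLocalRing.maximalIdeal_le_jacobson ⊥)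
        rw [← Localization.AtPrime.map_eq_maximalIdeal (I := p)]
        exact Ideal.map_mono hp
    obtain ⟨t, ht⟩ := Submodule.FG.pow hI n
    have : ∀ x ∈ t, ∃ s ∈ p.primeCompl, s * x = 0 := fun x hx => by
      have h0 : algebraMap A L x = 0 := by
        rw [← Ideal.mem_bot, ← hm]
        exact Ideal.mem_map_of_mem _ (ht ▸ Submodule.subset_span hx)
      obtain ⟨⟨s, hs⟩, hsx⟩ := (IsLocalization.map_eq_zero_iff p.primeCompl L x).mp h0
      exact ⟨s, hs, hsx⟩
    choose! s hs hsx using this
    refine ⟨∏ x ∈ t, s x, prod_mem (S := p.primeCompl) hs, fun q hq hfq => ?_⟩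
    refine hq.le_of_pow_le (n := n) ?_
    rw [← ht, Ideal.submodule_span_eq, Ideal.span_le]
    intro x hx
    refine (hq.mem_or_mem ?_).resolve_left hfq
    rw [← Finset.mul_prod_erase t s hx, mul_comm (s x), mul_assoc, hsx x hx, mul_zero]
    exact q.zero_mem

end Groth.Agent.S5006
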