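import Groth.Statements.S5008
import Mathlib.AlgebraicGeometry.Morphisms.Smooth
import Mathlib.AlgebraicGeometry.Stalk
import Mathlib.RingTheory.Smooth.Basic
import Mathlib
-- import your own Groth.Agent.* helpers here

set_option autoImplicit false
universe u
open CategoryTheory CategoryTheory.Limits AlgebraicGeometry TopologicalSpace
open Unram17

set_option linter.style.haveILetI false
set_option backward.isDefEq.respectTransparency false

namespace Groth.Agent.S5008

/-- Lifts to local square-zero extensions give formal smoothness of local algebras. -/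
theorem formallySmooth_of_sqZero {A B : Type u} [CommRing A] [CommRing B] [IsLocalRing B] [Algebra A B]
    (h : ∀ (T : Type u) [CommRing T] [IsLocalRing T] (π : T →+* B), Function.Surjective π → RingHom.ker π ^ 2 = ⊥ →
      ∀ β : A →+* T, π.comp β = algebraMap A B →
        ∃ g : B →+* T, π.comp g = RingHom.id B ∧ g.comp (algebraMap A B) = β) :
    Algebra.FormallySmooth A B := by
  have aux : ∀ (T : Type u) [CommRing T] [Algebra A T] [IsLocalRing T] (k : T →ₐ[A] B),
      Function.Surjective k → RingHom.ker k.toRingHom ^ 2 = ⊥ → ∃ u : B →ₐ[A] T, k.comp u = AlgHom.id A B := by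
    intro T _ _ _ k hk hker
    obtain ⟨g, hg1, hg2⟩ := h T k.toRingHom hk hker (algebraMap A T) k.comp_algebraMap
    exact ⟨⟨g, fun r => RingHom.congr_fun hg2 r⟩, AlgHom.ext fun b => RingHom.congr_fun hg1 b⟩
  let P := MvPolynomial B A
  let π₀ : P →ₐ[A] B := MvPolynomial.aeval id
  let q : Ideal P := (IsLocalRing.maximalIdeal B).comap π₀
  let P' := Localization.AtPrime q
  have : Algebra.FormallyEtale P P' := Algebra.FormallyEtale.of_isLocalization q.primeCompl
  have : Algebra.FormallySmooth A P' := Algebra.FormallySmooth.comp A P P'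
  let π : P' →ₐ[A] B := IsLocalization.liftAlgHom (M := q.primeCompl) (f := π₀) fun y =>
    IsLocalRing.notMem_maximalIdeal.1 y.2
  have hπ : Function.Surjective π := fun b => ⟨algebraMap P P' (MvPolynomial.X b), by
    show IsLocalization.lift _ (algebraMap P P' _) = _
    rw [IsLocalization.lift_eq]
    exact MvPolynomial.aeval_X _ _⟩
  let J := RingHom.ker π.toRingHom ^ 2
  have hJ : J ≠ ⊤ := ne_top_of_le_ne_top (RingHom.ker_ne_top π.toRingHom) (Ideal.pow_le_self two_ne_zero)
  haveI : Nontrivial (P' ⧸ J) := Ideal.Quotient.nontrivial_iff.2 hJ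
  haveI : IsLocalRing (P' ⧸ J) := IsLocalRing.of_surjective' (Ideal.Quotient.mk J) Ideal.Quotient.mk_surjective
  have hlift : Function.Surjective π.kerSquareLift := fun b => by
    obtain ⟨a, rfl⟩ := hπ b
    exact ⟨Ideal.Quotient.mk J a, rfl⟩
  obtain ⟨u, hu⟩ := aux (P' ⧸ J) π.kerSquareLift hlift (by rw [AlgHom.ker_kerSquareLift, Ideal.cotangentIdeal_square])
  exact Algebra.FormallySmooth.of_split π u hu

/-- Let f : X ⟶ Y be locally of finite presentation and x a point of X. Then f is smooth at x if and
only if for every surjection of local rings B' → B with square-zero kernel, every morphism Spec B ⟶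
X sending the closed point to x and every morphism Spec B' ⟶ Y making the square commute, there is a
lift Spec B' ⟶ X compatible with both. (No Noetherian hypothesis on Y.) -/
theorem result {X Y : Scheme.{u}} (f : X ⟶ Y)
    [LocallyOfFinitePresentation f] (x : ↥X) :
    x ∈ f.smoothLocus ↔ ∀ (B B' : Type u) [CommRing B] [CommRing B'] [IsLocalRing B] [IsLocalRing B'] (φ : B' →+* B),
      Function.Surjective φ → RingHom.ker φ ^ 2 = ⊥ →
      ∀ (α : Spec (CommRingCat.of B) ⟶ X) (β : Spec (CommRingCat.of B') ⟶ Y),
        α.base (IsLocalRing.closedPoint B) = x → Spec.map (CommRingCat.ofHom φ) ≫ β = α ≫ f →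
        ∃ γ : Spec (CommRingCat.of B') ⟶ X, Spec.map (CommRingCat.ofHom φ) ≫ γ = α ∧ γ ≫ f = β := by
  classical
  constructor
  · intro hx B B' _ _ _ _ φ hφ hker α β hα hαβ
    haveI : IsLocalHom φ := hφ.isLocalHom φ
    obtain ⟨⟨p, g, hg⟩, rfl⟩ := (SpecToEquivOfLocalRing X (CommRingCat.of B)).symm.surjective α
    obtain ⟨⟨q, h, hh⟩, rfl⟩ := (SpecToEquivOfLocalRing Y (CommRingCat.of B')).symm.surjective β
    simp only [SpecToEquivOfLocalRing, Equiv.coe_fn_symm_mk] at hα hαβ ⊢
    haveI := hg
    haveI := hh
    have hp : p = x := by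
      rw [← hα, Scheme.Hom.comp_apply, Spec_closedPoint, Scheme.fromSpecStalk_closedPoint]
    subst hp
    have hq : q = f p := by
      have := congrArg (fun u : Spec (CommRingCat.of B) ⟶ Y => u (IsLocalRing.closedPoint B)) hαβ
      rw [Scheme.Hom.comp_apply, Scheme.Hom.comp_apply, Scheme.Hom.comp_apply, Scheme.Hom.comp_apply] at this
      erw [Spec_closedPoint, Spec_closedPoint, Spec_closedPoint, Scheme.fromSpecStalk_closedPoint,
        Scheme.fromSpecStalk_closedPoint] at this
      exact this
    subst hq
    have e : φ.comp h.hom = g.hom.comp (f.stalkMap p).hom := by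
      rw [Category.assoc, ← Scheme.SpecMap_stalkMap_fromSpecStalk, ← Category.assoc, ← Category.assoc,
        ← Spec.map_comp, ← Spec.map_comp, cancel_mono] at hαβ
      exact congrArg CommRingCat.Hom.hom (Spec.map_injective hαβ)
    letI : Algebra (Y.presheaf.stalk (f p)) (X.presheaf.stalk p) := (f.stalkMap p).hom.toAlgebra
    letI : Algebra (Y.presheaf.stalk (f p)) B' := h.hom.toAlgebra
    letI : Algebra (Y.presheaf.stalk (f p)) B := (φ.comp h.hom).toAlgebra
    haveI : Algebra.FormallySmooth (Y.presheaf.stalk (f p)) (X.presheaf.stalk p) := hx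
    let g' : X.presheaf.stalk p →ₐ[Y.presheaf.stalk (f p)] B :=
      { g.hom with commutes' := fun r => (RingHom.congr_fun e r).symm }
    let φ' : B' →ₐ[Y.presheaf.stalk (f p)] B := { φ with commutes' := fun r => rfl }
    have hnil : IsNilpotent (RingHom.ker (φ' : B' →+* B)) := ⟨2, by
      rw [show (φ' : B' →+* B) = φ from RingHom.ext fun a => rfl, hker]; rfl⟩
    let l := Algebra.FormallySmooth.liftOfSurjective g' φ' hφ hnil
    refine ⟨Spec.map (CommRingCat.ofHom l.toRingHom) ≫ X.fromSpecStalk p, ?_, ?_⟩
    · rw [← Category.assoc, ← Spec.map_comp]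
      congr 2
      exact CommRingCat.hom_ext (RingHom.ext fun a =>
        Algebra.FormallySmooth.liftOfSurjective_apply g' φ' hφ hnil a)
    · rw [Category.assoc, ← Scheme.SpecMap_stalkMap_fromSpecStalk, ← Category.assoc, ← Spec.map_comp]
      congr 2
      exact CommRingCat.hom_ext (RingHom.ext fun a => l.commutes a)
  · intro H
    rw [Scheme.Hom.mem_smoothLocus]
    letI : Algebra (Y.presheaf.stalk (f.base x)) (X.presheaf.stalk x) := (f.stalkMap x).hom.toAlgebra
    show Algebra.FormallySmooth (Y.presheaf.stalk (f.base x)) (X.presheaf.stalk x)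
    refine formallySmooth_of_sqZero fun T _ _ π hπ hker β hβ => ?_
    obtain ⟨γ, h1, h2⟩ := H (X.presheaf.stalk x) T π hπ hker (X.fromSpecStalk x)
      (Spec.map (CommRingCat.ofHom β) ≫ Y.fromSpecStalk (f.base x)) X.fromSpecStalk_closedPoint (by
        rw [← Category.assoc, ← Spec.map_comp, ← Scheme.SpecMap_stalkMap_fromSpecStalk]
        congr 2
        exact CommRingCat.hom_ext hβ)
    haveI : IsLocalHom π := hπ.isLocalHom π
    obtain ⟨⟨p, g, hg⟩, rfl⟩ := (SpecToEquivOfLocalRing X (CommRingCat.of T)).symm.surjective γ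
    simp only [SpecToEquivOfLocalRing, Equiv.coe_fn_symm_mk] at h1 h2
    haveI := hg
    have hp : p = x := by
      have := congrArg (fun u : Spec (X.presheaf.stalk x) ⟶ X => u (IsLocalRing.closedPoint (X.presheaf.stalk x))) h1
      rw [Scheme.Hom.comp_apply, Scheme.Hom.comp_apply] at this
      erw [Spec_closedPoint, Spec_closedPoint, Scheme.fromSpecStalk_closedPoint,
        Scheme.fromSpecStalk_closedPoint] at this
      exact this
    subst hp
    refine ⟨g.hom, ?_, ?_⟩
    · have e : Spec.map (g ≫ CommRingCat.ofHom π) ≫ X.fromSpecStalk p = Spec.map (𝟙 _) ≫ X.fromSpecStalk p := by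
        rw [Spec.map_id, Category.id_comp, Spec.map_comp, Category.assoc]
        exact h1
      exact congrArg CommRingCat.Hom.hom (Spec.map_injective ((cancel_mono _).1 e))
    · rw [Category.assoc, ← Scheme.SpecMap_stalkMap_fromSpecStalk, ← Category.assoc, ← Spec.map_comp,
        cancel_mono] at h2
      exact congrArg CommRingCat.Hom.hom (Spec.map_injective h2)

end Groth.Agent.S5008
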