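import Groth.Statements.S5009
import Groth.Agent.FibrewiseCrit.Unramified
import Mathlib.Algebra.TrivSqZeroExt.Ideal
-- import your own Groth.Agent.* helpers here

set_option autoImplicit false
universe u
open CategoryTheory CategoryTheory.Limits AlgebraicGeometry TopologicalSpace
open Unram17

set_option linter.style.haveILetI false
set_option backward.isDefEq.respectTransparency false

namespace Groth.Agent.S5009

set_option backward.isDefEq.respectTransparency true in
/-- Uniqueness of lifts to local square-zero extensions gives formal unramifiedness. -/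
theorem formallyUnramified_of_sqZero {A B : Type u} [CommRing A] [CommRing B] [IsLocalRing B] [Algebra A B]
    (h : ∀ (T : Type u) [CommRing T] [IsLocalRing T] (π : T →+* B), Function.Surjective π → RingHom.ker π ^ 2 = ⊥ →
      ∀ g₁ g₂ : B →+* T, π.comp g₁ = RingHom.id B → π.comp g₂ = RingHom.id B →
        g₂.comp (algebraMap A B) = g₁.comp (algebraMap A B) → g₁ = g₂) :
    Algebra.FormallyUnramified A B := by
  classical
  refine ⟨subsingleton_of_forall_eq 0 fun w => ?_⟩
  letI : Module Bᵐᵒᵖ (KaehlerDifferential A B) := Module.compHom _ ((RingHom.id B).fromOpposite mul_comm)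
  haveI : IsCentralScalar B (KaehlerDifferential A B) := ⟨fun _ _ => rfl⟩
  haveI : IsLocalRing (TrivSqZeroExt B (KaehlerDifferential A B)) :=
    IsLocalRing.of_isUnit_or_isUnit_one_sub_self fun a => by
      simp only [TrivSqZeroExt.isUnit_iff_isUnit_fst, TrivSqZeroExt.fst_sub, TrivSqZeroExt.fst_one]
      exact IsLocalRing.isUnit_or_isUnit_one_sub_self _
  let g₂ : B →+* TrivSqZeroExt B (KaehlerDifferential A B) :=
    { toFun := fun b => TrivSqZeroExt.inl b + TrivSqZeroExt.inr (KaehlerDifferential.D A B b)
      map_one' := by simp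
      map_mul' := fun a b => by
        refine TrivSqZeroExt.ext (by simp) ?_
        simp [Derivation.leibniz, op_smul_eq_smul]
      map_zero' := by simp
      map_add' := fun a b => TrivSqZeroExt.ext (by simp) (by simp) }
  have key := h (TrivSqZeroExt B (KaehlerDifferential A B)) (TrivSqZeroExt.fstHom B B _).toRingHom
    (fun b => ⟨TrivSqZeroExt.inl b, rfl⟩) (TrivSqZeroExt.kerIdeal_sq B _)
    (TrivSqZeroExt.inlHom B _) g₂ (RingHom.ext fun b => rfl) (RingHom.ext fun b => by simp [g₂])
    (RingHom.ext fun a => by simp [g₂])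
  have hD : ∀ b, KaehlerDifferential.D A B b = 0 := fun b => by
    have := congr(TrivSqZeroExt.snd ($key b))
    simpa [g₂] using this.symm
  have hw : w ∈ Submodule.span B (Set.range (KaehlerDifferential.D A B)) := by
    rw [KaehlerDifferential.span_range_derivation]; trivial
  induction hw using Submodule.span_induction with
  | mem a h => obtain ⟨b, rfl⟩ := h; exact hD b
  | zero => rfl
  | add a b _ _ ha hb => rw [ha, hb, add_zero]
  | smul c a _ ha => rw [ha, smul_zero]

/-- Let f : X ⟶ Y be locally of finite presentation and x a point of X. Then f is (formally) unramified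
on an open neighbourhood of x if and only if for every surjection of local rings B' → B with
square-zero kernel, every morphism Spec B ⟶ X sending the closed point to x and every morphism Spec
B' ⟶ Y making the square commute, any two lifts Spec B' ⟶ X compatible with both are equal. -/
theorem result {X Y : Scheme.{u}} (f : X ⟶ Y)
    [LocallyOfFinitePresentation f] (x : ↥X) :
    (∃ U : X.Opens, x ∈ U ∧ FormallyUnramified (U.ι ≫ f)) ↔
      ∀ (B B' : Type u) [CommRing B] [CommRing B'] [IsLocalRing B] [IsLocalRing B'] (φ : B' →+* B),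
      Function.Surjective φ → RingHom.ker φ ^ 2 = ⊥ →
      ∀ (α : Spec (CommRingCat.of B) ⟶ X) (β : Spec (CommRingCat.of B') ⟶ Y),
        α.base (IsLocalRing.closedPoint B) = x → Spec.map (CommRingCat.ofHom φ) ≫ β = α ≫ f →
        ∀ γ₁ γ₂ : Spec (CommRingCat.of B') ⟶ X,
          Spec.map (CommRingCat.ofHom φ) ≫ γ₁ = α → γ₁ ≫ f = β →
          Spec.map (CommRingCat.ofHom φ) ≫ γ₂ = α → γ₂ ≫ f = β → γ₁ = γ₂ := by
  classical
  constructor
  · intro h B B' _ _ _ _ φ hφ hker α β hα hαβ γ₁ γ₂ h11 h12 h21 h22
    have hfu := (FibrewiseCrit.exists_nhd_formallyUnramified_iff f x).1 h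
    haveI : IsLocalHom φ := hφ.isLocalHom φ
    obtain ⟨⟨p₁, g₁, hg₁⟩, rfl⟩ := (SpecToEquivOfLocalRing X (CommRingCat.of B')).symm.surjective γ₁
    obtain ⟨⟨p₂, g₂, hg₂⟩, rfl⟩ := (SpecToEquivOfLocalRing X (CommRingCat.of B')).symm.surjective γ₂
    simp only [SpecToEquivOfLocalRing, Equiv.coe_fn_symm_mk] at h11 h12 h21 h22 ⊢
    have hp : ∀ (p : X) (g : X.presheaf.stalk p ⟶ CommRingCat.of B'), IsLocalHom g.hom →
        Spec.map (CommRingCat.ofHom φ) ≫ Spec.map g ≫ X.fromSpecStalk p = α → p = x := by
      intro p g hg e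
      haveI := hg
      rw [← hα, ← e, Scheme.Hom.comp_apply, Scheme.Hom.comp_apply, Spec_closedPoint, Spec_closedPoint,
        Scheme.fromSpecStalk_closedPoint]
    obtain rfl := hp p₁ g₁ hg₁ h11
    obtain rfl := hp p₂ g₂ hg₂ h21
    have e1 : CommRingCat.Hom.hom g₁ ∘ (f.stalkMap p₂).hom = CommRingCat.Hom.hom g₂ ∘ (f.stalkMap p₂).hom := by
      have e := h12.trans h22.symm
      rw [Category.assoc, Category.assoc, ← Scheme.SpecMap_stalkMap_fromSpecStalk, ← Category.assoc,
        ← Category.assoc, ← Spec.map_comp, ← Spec.map_comp, cancel_mono] at e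
      exact congrArg (fun u => ⇑(CommRingCat.Hom.hom u)) (Spec.map_injective e)
    have e2 : ∀ a, φ (g₁.hom a) = φ (g₂.hom a) := by
      have e := h11.trans h21.symm
      rw [← Category.assoc, ← Category.assoc, ← Spec.map_comp, ← Spec.map_comp, cancel_mono] at e
      exact fun a => congr($(Spec.map_injective e).hom a)
    letI : Algebra (Y.presheaf.stalk (f.base p₂)) (X.presheaf.stalk p₂) := (f.stalkMap p₂).hom.toAlgebra
    letI : Algebra (Y.presheaf.stalk (f.base p₂)) B' := (g₁.hom.comp (f.stalkMap p₂).hom).toAlgebra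
    haveI : Algebra.FormallyUnramified (Y.presheaf.stalk (f.base p₂)) (X.presheaf.stalk p₂) := hfu
    let G₁ : X.presheaf.stalk p₂ →ₐ[Y.presheaf.stalk (f.base p₂)] B' := { g₁.hom with commutes' := fun _ => rfl }
    let G₂ : X.presheaf.stalk p₂ →ₐ[Y.presheaf.stalk (f.base p₂)] B' :=
      { g₂.hom with commutes' := fun r => (congrFun e1 r).symm }
    have hG := Algebra.FormallyUnramified.ext' φ ⟨2, by rw [hker]; rfl⟩ G₁ G₂ e2
    have : g₁ = g₂ := CommRingCat.hom_ext (RingHom.ext fun a => AlgHom.congr_fun hG a)
    rw [this]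
  · intro H
    rw [FibrewiseCrit.exists_nhd_formallyUnramified_iff]
    let A := Y.presheaf.stalk (f.base x)
    let B := X.presheaf.stalk x
    letI : Algebra A B := (f.stalkMap x).hom.toAlgebra
    show Algebra.FormallyUnramified A B
    refine formallyUnramified_of_sqZero fun T _ _ π hπ hker g₁ g₂ hπ₁ hπ₂ hf => ?_
    let γ : (B →+* T) → (Spec (CommRingCat.of T) ⟶ X) := fun g => Spec.map (CommRingCat.ofHom g) ≫ X.fromSpecStalk x
    have key := H B T π hπ hker (X.fromSpecStalk x) (γ g₁ ≫ f) X.fromSpecStalk_closedPoint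
      (by
        simp only [γ, ← Category.assoc, ← Spec.map_comp]
        rw [← CommRingCat.ofHom_comp, hπ₁]
        simp)
      (γ g₁) (γ g₂)
      (by simp only [γ, ← Category.assoc, ← Spec.map_comp]; rw [← CommRingCat.ofHom_comp, hπ₁]; simp) rfl
      (by simp only [γ, ← Category.assoc, ← Spec.map_comp]; rw [← CommRingCat.ofHom_comp, hπ₂]; simp)
      (by
        simp only [γ, Category.assoc]
        rw [← Scheme.SpecMap_stalkMap_fromSpecStalk, ← Category.assoc, ← Category.assoc, ← Spec.map_comp,
          ← Spec.map_comp]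
        congr 2
        exact CommRingCat.hom_ext hf)
    simp only [γ, cancel_mono] at key
    exact congrArg CommRingCat.Hom.hom (Spec.map_injective key)

end Groth.Agent.S5009
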