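import Groth.Statements.S5010
import Groth.Agent.PP16Lib.Basic
import Mathlib.RingTheory.Localization.FractionRing
import Mathlib.RingTheory.MvPolynomial.Basic

set_option autoImplicit false
universe u
open PP16

namespace Groth.Agent.S5010

open scoped TensorProduct nonZeroDivisors

theorem aux (n : ℕ) (k : Type u) [Field k] {σ : Type} (K : Type u) [Field K]
    [Algebra (MvPolynomial σ k) K] [IsFractionRing (MvPolynomial σ k) K] [Algebra k K]
    [IsScalarTower k (MvPolynomial σ k) K] (ι : Type) (e : ι ≃ σ) :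
    let T : ι → K := fun i => algebraMap (MvPolynomial σ k) K (MvPolynomial.X (e i))
    let Φ := MvPolynomial.aeval (R := K) (S₁ := PP16.P n k K)
        (fun i => PP16.dn n k K (T i) - algebraMap K (PP16.P n k K) (T i))
    Function.Surjective Φ ∧
      RingHom.ker Φ.toRingHom = (Ideal.span (Set.range (MvPolynomial.X : ι → MvPolynomial ι K))) ^ (n + 1) := by
  intro T Φ
  set J := Ideal.span (Set.range (MvPolynomial.X : ι → MvPolynomial ι K)) with hJ
  let K' : Ideal (MvPolynomial ι K ⧸ J ^ (n + 1)) := J.map (Ideal.Quotient.mk (J ^ (n + 1)))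
  have hK : K' ^ (n + 1) = ⊥ := PP16Lib.map_mk_pow_eq_bot J (n + 1)
  let g : MvPolynomial σ k →ₐ[k] MvPolynomial ι K ⧸ J ^ (n + 1) :=
    MvPolynomial.aeval fun s => algebraMap K _ (T (e.symm s)) + Ideal.Quotient.mk _ (MvPolynomial.X (e.symm s))
  let c : MvPolynomial σ k →ₐ[k] MvPolynomial ι K ⧸ J ^ (n + 1) :=
    (IsScalarTower.toAlgHom k K _).comp (IsScalarTower.toAlgHom k (MvPolynomial σ k) K)
  have hgc : ∀ f, g f - c f ∈ K' := by
    refine PP16Lib.algHom_congr_mod g c K' (MvPolynomial.algHom_ext fun s => ?_)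
    show Ideal.Quotient.mk K' (g (MvPolynomial.X s)) = Ideal.Quotient.mk K' (c (MvPolynomial.X s))
    rw [Ideal.Quotient.eq]
    simp only [g, c, MvPolynomial.aeval_X, AlgHom.comp_apply, IsScalarTower.coe_toAlgHom', T,
      Equiv.apply_symm_apply, add_sub_cancel_left]
    exact Ideal.mem_map_of_mem _ (Ideal.subset_span ⟨e.symm s, rfl⟩)
  have hu : ∀ s : (MvPolynomial σ k)⁰, IsUnit (g s) := fun s => by
    have hc : IsUnit (c s) := (IsLocalization.map_units K s).map (algebraMap K (MvPolynomial ι K ⧸ J ^ (n + 1)))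
    have hn : IsNilpotent (g s - c s) := ⟨n + 1, by simpa [hK] using Ideal.pow_mem_pow (hgc s) (n + 1)⟩
    have h := hn.isUnit_add_left_of_commute hc (Commute.all _ _)
    rwa [add_sub_cancel] at h
  let f : K →ₐ[k] MvPolynomial ι K ⧸ J ^ (n + 1) := IsLocalization.liftAlgHom hu
  have hfg : ∀ p, f (algebraMap (MvPolynomial σ k) K p) = g p := fun p => IsLocalization.lift_eq hu p
  have hf : ∀ x, f x - algebraMap K _ x ∈ K' := by
    refine PP16Lib.algHom_congr_mod f (IsScalarTower.toAlgHom k K _) K'
      (AlgHom.coe_ringHom_injective (IsLocalization.ringHom_ext (MvPolynomial σ k)⁰ (RingHom.ext fun p => ?_)))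
    show Ideal.Quotient.mk K' (f (algebraMap (MvPolynomial σ k) K p)) = Ideal.Quotient.mk K' (c p)
    rw [hfg, Ideal.Quotient.eq]
    exact hgc p
  let ψ : PP16.P n k K →ₐ[K] MvPolynomial ι K ⧸ J ^ (n + 1) := PP16Lib.lift f K' hK hf
  have hψΦ : ψ.comp Φ = Ideal.Quotient.mkₐ K (J ^ (n + 1)) := MvPolynomial.algHom_ext fun i => by
    show ψ (Φ (MvPolynomial.X i)) = Ideal.Quotient.mk _ (MvPolynomial.X i)
    simp only [Φ, MvPolynomial.aeval_X, map_sub, AlgHom.commutes, ψ, PP16Lib.lift_dn, T, hfg, g,
      Equiv.symm_apply_apply, add_sub_cancel_left]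
  have hker : J ^ (n + 1) ≤ RingHom.ker Φ.toRingHom := by
    refine (Ideal.pow_right_mono (J := (PP16.augIdeal n k K).comap Φ.toRingHom) ?_ _).trans
      ((Ideal.le_comap_pow _ _).trans ?_)
    · rw [hJ, Ideal.span_le]
      rintro _ ⟨i, rfl⟩
      rw [SetLike.mem_coe, Ideal.mem_comap]
      show Φ (MvPolynomial.X i) ∈ _
      simp only [Φ, MvPolynomial.aeval_X]
      exact PP16Lib.dn_sub_mem_augIdeal _
    · rw [PP16Lib.augIdeal_pow]
      exact le_rfl
  let G : (MvPolynomial ι K ⧸ J ^ (n + 1)) →ₐ[K] PP16.P n k K := Ideal.Quotient.liftₐ _ Φ hker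
  have hGψ : G.comp ψ = AlgHom.id K _ := PP16Lib.algHom_ext fun x => by
    show G (ψ (PP16.dn n k K x)) = _
    rw [PP16Lib.lift_dn]
    refine DFunLike.congr_fun (F := K →ₐ[k] PP16.P n k K) (f := (G.restrictScalars k).comp f)
      (g := PP16.dn n k K)
      (AlgHom.coe_ringHom_injective (IsLocalization.ringHom_ext (MvPolynomial σ k)⁰ (RingHom.ext fun p => ?_))) x
    show G (f (algebraMap (MvPolynomial σ k) K p)) = PP16.dn n k K (algebraMap (MvPolynomial σ k) K p)
    rw [hfg]
    refine DFunLike.congr_fun (F := MvPolynomial σ k →ₐ[k] PP16.P n k K) (f := (G.restrictScalars k).comp g)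
      (g := (PP16.dn n k K).comp (IsScalarTower.toAlgHom k (MvPolynomial σ k) K)) (MvPolynomial.algHom_ext fun s => ?_) p
    show G (g (MvPolynomial.X s)) = PP16.dn n k K (algebraMap (MvPolynomial σ k) K (MvPolynomial.X s))
    simp only [g, MvPolynomial.aeval_X, map_add, AlgHom.commutes]
    show algebraMap K _ _ + Φ (MvPolynomial.X (e.symm s)) = _
    simp only [Φ, MvPolynomial.aeval_X, T, Equiv.apply_symm_apply, add_sub_cancel]
  refine ⟨fun y => ?_, le_antisymm (fun x hx => ?_) hker⟩
  · obtain ⟨x, hx⟩ := Ideal.Quotient.mk_surjective (ψ y)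
    refine ⟨x, ?_⟩
    have h2 : G (ψ y) = y := DFunLike.congr_fun hGψ y
    rwa [← hx] at h2
  · rw [← Ideal.Quotient.eq_zero_iff_mem]
    refine (DFunLike.congr_fun hψΦ x).symm.trans ?_
    show ψ (Φ x) = 0
    rw [show Φ x = 0 from hx, map_zero]

/-- Let k be a field and K the field of fractions of the polynomial ring k[T_1, ..., T_r]. For every n,
the K-algebra map from the polynomial ring K[U_1, ..., U_r] to the ring of principal parts of order
n of K over k (a K-algebra through the first factor) that sends U_i to d^n(T_i) − T_i · 1 is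
surjective, and its kernel is the (n+1)-st power of the ideal generated by the U_i. -/
theorem result (k : Type u) [Field k] (r n : ℕ) :
    Function.Surjective
        (MvPolynomial.aeval (R := FractionRing (MvPolynomial (Fin r) k))
          (S₁ := PP16.P n k (FractionRing (MvPolynomial (Fin r) k)))
          (fun i : Fin r =>
            PP16.dn n k (FractionRing (MvPolynomial (Fin r) k))
                (algebraMap (MvPolynomial (Fin r) k) (FractionRing (MvPolynomial (Fin r) k)) (MvPolynomial.X i)) -
              algebraMap (FractionRing (MvPolynomial (Fin r) k)) (PP16.P n k (FractionRing (MvPolynomial (Fin r) k)))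
                (algebraMap (MvPolynomial (Fin r) k) (FractionRing (MvPolynomial (Fin r) k)) (MvPolynomial.X i)))) ∧
      RingHom.ker
          (MvPolynomial.aeval (R := FractionRing (MvPolynomial (Fin r) k))
            (S₁ := PP16.P n k (FractionRing (MvPolynomial (Fin r) k)))
            (fun i : Fin r =>
              PP16.dn n k (FractionRing (MvPolynomial (Fin r) k))
                  (algebraMap (MvPolynomial (Fin r) k) (FractionRing (MvPolynomial (Fin r) k)) (MvPolynomial.X i)) -
                algebraMap (FractionRing (MvPolynomial (Fin r) k)) (PP16.P n k (FractionRing (MvPolynomial (Fin r) k)))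
                  (algebraMap (MvPolynomial (Fin r) k) (FractionRing (MvPolynomial (Fin r) k)) (MvPolynomial.X i)))).toRingHom =
        (Ideal.span (Set.range (MvPolynomial.X : Fin r → MvPolynomial (Fin r) (FractionRing (MvPolynomial (Fin r) k))))) ^ (n + 1) := by
  exact aux n k (σ := Fin r) (FractionRing (MvPolynomial (Fin r) k)) (Fin r) (Equiv.refl _)

end Groth.Agent.S5010
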