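import Groth.Statements.S5011
import Groth.Agent.FibrewiseCrit.Unramified
-- import your own Groth.Agent.* helpers here

set_option autoImplicit false
universe u
open CategoryTheory CategoryTheory.Limits AlgebraicGeometry TopologicalSpace
open Unram17

set_option linter.style.haveILetI false
set_option backward.isDefEq.respectTransparency false

namespace Groth.Agent.S5011

/-- Let f : X ⟶ Y be locally of finite presentation. Then f is etale if and only if f is flat and, for
every point x of X with image y, the quotient of the local ring of X at x by the extension of the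
maximal ideal of the local ring of Y at y is a field, finite and separable over the residue field
κ(y); that is, every fibre of f is a sum of spectra of finite separable extensions of the residue
field. -/
theorem result {X Y : Scheme.{u}} (f : X ⟶ Y)
    [LocallyOfFinitePresentation f] :
    Etale f ↔ Flat f ∧ ∀ x : ↥X,
      letI φ := (f.stalkMap x).hom
      letI 𝔪 := IsLocalRing.maximalIdeal ↑(Y.presheaf.stalk (f.base x))
      letI := (Ideal.quotientMap (𝔪.map φ) φ Ideal.le_comap_map).toAlgebra
      IsField (↑(X.presheaf.stalk x) ⧸ 𝔪.map φ) ∧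
        Module.Finite (↑(Y.presheaf.stalk (f.base x)) ⧸ 𝔪) (↑(X.presheaf.stalk x) ⧸ 𝔪.map φ) ∧
        Algebra.IsSeparable (↑(Y.presheaf.stalk (f.base x)) ⧸ 𝔪) (↑(X.presheaf.stalk x) ⧸ 𝔪.map φ) := by
  refine ⟨fun _ => ⟨inferInstance, fun x => ?_⟩, fun ⟨hflat, H⟩ => ?_⟩
  · let φ := (f.stalkMap x).hom
    let 𝔪 := IsLocalRing.maximalIdeal ↑(Y.presheaf.stalk (f.base x))
    letI : Algebra (Y.presheaf.stalk (f.base x)) (X.presheaf.stalk x) := φ.toAlgebra
    haveI : IsLocalHom (algebraMap (Y.presheaf.stalk (f.base x)) (X.presheaf.stalk x)) :=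
      inferInstanceAs (IsLocalHom (f.stalkMap x).hom)
    haveI : Algebra.EssFiniteType (Y.presheaf.stalk (f.base x)) (X.presheaf.stalk x) := LocallyOfFiniteType.stalkMap f x
    haveI : Algebra.FormallyUnramified (Y.presheaf.stalk (f.base x)) (X.presheaf.stalk x) :=
      FormallyUnramified.stalkMap f x
    refine ⟨Algebra.FormallyUnramified.isField_quotient_map_maximalIdeal, ?_⟩
    letI : Algebra (IsLocalRing.ResidueField (Y.presheaf.stalk (f.base x))) (↑(X.presheaf.stalk x) ⧸ 𝔪.map φ) :=
      (Ideal.quotientMap (𝔪.map φ) φ Ideal.le_comap_map).toAlgebra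
    let e : (↑(X.presheaf.stalk x) ⧸ 𝔪.map φ) ≃+* IsLocalRing.ResidueField (X.presheaf.stalk x) :=
      Ideal.quotEquivOfEq Algebra.FormallyUnramified.map_maximalIdeal
    let e' : IsLocalRing.ResidueField (X.presheaf.stalk x) ≃ₐ[IsLocalRing.ResidueField (Y.presheaf.stalk (f.base x))]
        (↑(X.presheaf.stalk x) ⧸ 𝔪.map φ) :=
      AlgEquiv.ofRingEquiv (f := e.symm) fun r => by
        obtain ⟨r, rfl⟩ := IsLocalRing.residue_surjective r
        exact e.symm_apply_eq.2 rfl
    haveI h1 : Module.Finite (IsLocalRing.ResidueField (Y.presheaf.stalk (f.base x))) (↑(X.presheaf.stalk x) ⧸ 𝔪.map φ) :=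
      Module.Finite.equiv e'.toLinearEquiv
    haveI h2 := AlgEquiv.Algebra.isSeparable e'
    exact ⟨h1, h2⟩
  · haveI := hflat
    haveI : FormallyUnramified f := by
      rw [FibrewiseCrit.formallyUnramified_iff_forall_mem_fuLocus]
      intro x
      obtain ⟨hF, -, hsep⟩ := H x
      let φ := (f.stalkMap x).hom
      let 𝔪 := IsLocalRing.maximalIdeal ↑(Y.presheaf.stalk (f.base x))
      letI : Algebra (Y.presheaf.stalk (f.base x)) (X.presheaf.stalk x) := φ.toAlgebra
      haveI : IsLocalHom (algebraMap (Y.presheaf.stalk (f.base x)) (X.presheaf.stalk x)) :=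
        inferInstanceAs (IsLocalHom (f.stalkMap x).hom)
      haveI : Algebra.EssFiniteType (Y.presheaf.stalk (f.base x)) (X.presheaf.stalk x) := LocallyOfFiniteType.stalkMap f x
      letI : Algebra (IsLocalRing.ResidueField (Y.presheaf.stalk (f.base x))) (↑(X.presheaf.stalk x) ⧸ 𝔪.map φ) :=
        (Ideal.quotientMap (𝔪.map φ) φ Ideal.le_comap_map).toAlgebra
      have hm : 𝔪.map φ = IsLocalRing.maximalIdeal (X.presheaf.stalk x) :=
        IsLocalRing.eq_maximalIdeal (Ideal.Quotient.maximal_of_isField _ hF)
      let e' : (↑(X.presheaf.stalk x) ⧸ 𝔪.map φ) ≃ₐ[IsLocalRing.ResidueField (Y.presheaf.stalk (f.base x))]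
          IsLocalRing.ResidueField (X.presheaf.stalk x) :=
        AlgEquiv.ofRingEquiv (f := Ideal.quotEquivOfEq hm) fun r => by
          obtain ⟨r, rfl⟩ := IsLocalRing.residue_surjective r
          rfl
      haveI hsep' : Algebra.IsSeparable (IsLocalRing.ResidueField (Y.presheaf.stalk (f.base x)))
          (↑(X.presheaf.stalk x) ⧸ 𝔪.map φ) := hsep
      haveI := AlgEquiv.Algebra.isSeparable e'
      exact Algebra.FormallyUnramified.of_map_maximalIdeal hm
    exact Etale.of_formallyUnramified_of_flat f

end Groth.Agent.S5011
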