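import Groth.Statements.S5028
import Groth.Agent.GeomUnib.SmoothFibre
import Groth.Agent.GeomUnib.EquidimOpen
import Groth.Agent.S2561
-- import your own Groth.Agent.* helpers here

set_option autoImplicit false
universe u
open CategoryTheory CategoryTheory.Limits AlgebraicGeometry TopologicalSpace
open Unram17

namespace Groth.Agent.S5028

/-- Let Y be locally Noetherian, f : X ⟶ Y locally of finite type, x a point of X with image y, and
suppose the local ring of Y at y is reduced. Then f is smooth on an open neighbourhood of x if and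
only if f is universally open at every point of some neighbourhood of x in the fibre over y (that
is, for the points x' of some open neighbourhood of x in X lying over y, every base change of f is
open at each point lying over x') and the local ring of the fibre at x (the quotient of the local
ring of X at x by the extension of the maximal ideal at y) is geometrically regular over the residue
field κ(y). -/
theorem result {X Y : Scheme.{u}} (f : X ⟶ Y)
    [IsLocallyNoetherian Y] [LocallyOfFiniteType f] (x : ↥X)
    (hred : IsReduced ↑(Y.presheaf.stalk (f.base x))) :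
    letI φ := (f.stalkMap x).hom
    letI 𝔪 := IsLocalRing.maximalIdeal ↑(Y.presheaf.stalk (f.base x))
    letI : Algebra (IsLocalRing.ResidueField ↑(Y.presheaf.stalk (f.base x))) (↑(X.presheaf.stalk x) ⧸ 𝔪.map φ) :=
      (Ideal.quotientMap (𝔪.map φ) φ Ideal.le_comap_map).toAlgebra
    (∃ U : X.Opens, x ∈ U ∧ Smooth (U.ι ≫ f)) ↔
      (∃ W : X.Opens, x ∈ W ∧ ∀ x' ∈ W, f.base x' = f.base x → EGA43.IsUnivOpenAt f x') ∧
        CAlg.IsGeometricallyRegular (IsLocalRing.ResidueField ↑(Y.presheaf.stalk (f.base x)))
          (↑(X.presheaf.stalk x) ⧸ 𝔪.map φ) := by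
  classical
  haveI : LocallyOfFinitePresentation f := LocallyOfFinitePresentation.iff_locallyOfFiniteType.2 inferInstance
  refine ⟨fun ⟨U, hxU, hU⟩ => ?_, fun ⟨⟨W, hxW, hW⟩, hreg⟩ => ⟨f.smoothLocus, ?_, ?_⟩⟩
  · have hx : x ∈ f.smoothLocus := by
      have h : (⟨x, hxU⟩ : U.toScheme) ∈ U.ι ⁻¹ᵁ f.smoothLocus := by
        rw [Scheme.Hom.preimage_smoothLocus_eq, Scheme.Hom.smoothLocus_eq_top_iff.2 hU]
        trivial
      exact h
    refine ⟨⟨U, hxU, fun x' hx' _ => ?_⟩, ((GeomUnib.SmoothFibre.mem_smoothLocus_iff_flat_and_geomRegular f x).1 hx).2⟩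
    exact OpenAt.isUnivOpenAt_of_comp (f := U.ι) (x := (⟨x', hx'⟩ : U.toScheme))
      (GeomUnib.isUnivOpenAt_of_universallyOpen _ _)
  · refine (GeomUnib.SmoothFibre.mem_smoothLocus_iff_flat_and_geomRegular f x).2 ⟨?_, hreg⟩
    refine S2561.result f x (fun z hz _ => ?_) (GeomUnib.SmoothFibre.isGeomReducedAt_of_geomRegular f x hreg) hred
    have h : (f.fiberι (f.base x)).base z ⤳ x := by
      have := (specializes_iff_mem_closure.2 hz).map (f.fiberι (f.base x)).continuous
      rwa [f.fiberι_asFiber x] at this
    exact hW _ (h.mem_open W.isOpen hxW) ((f.range_fiberι (f.base x)).le ⟨z, rfl⟩)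
  · rw [← Scheme.Hom.smoothLocus_eq_top_iff, ← Scheme.Hom.preimage_smoothLocus_eq, Scheme.Opens.ι_preimage_self]

end Groth.Agent.S5028
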