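import Groth.Statements.S5014
import Groth.Agent.S17854
-- import your own Groth.Agent.* helpers here

set_option autoImplicit false
universe u
open Unram17

namespace Groth.Agent.S5014

/-- Let C be a smooth algebra over a commutative ring A, equipped with an A-algebra map from the
polynomial ring in r variables (images s_i of the variables), and let q be a prime of C. Then C is
etale at q over the polynomial ring if and only if the differentials of the s_i are linearly
independent and generate the module of differentials of the local ring C_q over A, i.e. form a basis
of it. -/
theorem result (A C : Type u) [CommRing A] [CommRing C]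
    [Algebra A C] [Algebra.Smooth A C] (r : ℕ) [Algebra (MvPolynomial (Fin r) A) C]
    [IsScalarTower A (MvPolynomial (Fin r) A) C] (q : Ideal C) [q.IsPrime] :
    Algebra.IsEtaleAt (MvPolynomial (Fin r) A) q ↔
      LinearIndependent (Localization.AtPrime q)
          (fun i : Fin r => KaehlerDifferential.D A (Localization.AtPrime q)
            (algebraMap C (Localization.AtPrime q) (algebraMap (MvPolynomial (Fin r) A) C (MvPolynomial.X i)))) ∧
        Submodule.span (Localization.AtPrime q)
          (Set.range fun i : Fin r => KaehlerDifferential.D A (Localization.AtPrime q)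
            (algebraMap C (Localization.AtPrime q) (algebraMap (MvPolynomial (Fin r) A) C (MvPolynomial.X i)))) = ⊤ := by
  classical
  let P := MvPolynomial (Fin r) A
  let T := Localization.AtPrime q
  haveI : Algebra.FormallyEtale C T := Algebra.FormallyEtale.of_isLocalization q.primeCompl
  haveI : Algebra.FormallySmooth A T := Algebra.FormallySmooth.comp A C T
  set v : Fin r → Ω[T⁄A] := fun i => KaehlerDifferential.D A T
    (algebraMap C T (algebraMap P C (MvPolynomial.X i)))
  let b : Module.Basis (Fin r) T (TensorProduct P T Ω[P⁄A]) :=
    Algebra.TensorProduct.basis T (KaehlerDifferential.mvPolynomialBasis A (Fin r))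
  have hb : KaehlerDifferential.mapBaseChange A P T = (Finsupp.linearCombination T v).comp b.repr.toLinearMap := by
    refine b.ext fun i => ?_
    rw [LinearMap.comp_apply, LinearEquiv.coe_coe, b.repr_self, Finsupp.linearCombination_single, one_smul,
      Algebra.TensorProduct.basis_apply, KaehlerDifferential.mvPolynomialBasis_apply,
      KaehlerDifferential.mapBaseChange_tmul, one_smul, KaehlerDifferential.map_D,
      IsScalarTower.algebraMap_apply P C T]
  have hbij : (LinearIndependent T v ∧ Submodule.span T (Set.range v) = ⊤) ↔
      Function.Bijective (KaehlerDifferential.mapBaseChange A P T) := by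
    rw [hb, LinearMap.coe_comp, LinearEquiv.coe_coe, Function.Bijective.of_comp_iff _ b.repr.bijective,
      LinearIndependent, ← Finsupp.range_linearCombination, LinearMap.range_eq_top]
    rfl
  show Algebra.FormallyEtale P T ↔ LinearIndependent T v ∧ Submodule.span T (Set.range v) = ⊤
  rw [hbij]
  refine ⟨fun h => ⟨?_, fun z => ?_⟩, fun h => S17854.formallyEtale_of_bijective_mapBaseChange h⟩
  · refine (injective_iff_map_eq_zero _).2 fun z hz => ?_
    obtain ⟨y, rfl⟩ := (Algebra.H1Cotangent.exact_δ_mapBaseChange A P T z).1 hz
    rw [Subsingleton.elim y 0, map_zero]
  · exact (KaehlerDifferential.exact_mapBaseChange_map A P T z).1 (Subsingleton.elim _ _)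

end Groth.Agent.S5014
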