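import Groth.Statements.S5017
import Groth.Agent.S3042
import Groth.Agent.ConsFib.Mono
import Groth.Agent.SchFinLib.Points
import Groth.Agent.FlatDescent.Scheme
import Groth.Agent.SpreadFP.PointPullback
import Mathlib.Algebra.Category.Ring.Epi
-- import your own Groth.Agent.* helpers here

set_option autoImplicit false
universe u
open CategoryTheory CategoryTheory.Limits AlgebraicGeometry TopologicalSpace
open Unram17

set_option linter.style.haveILetI false
set_option backward.isDefEq.respectTransparency false

namespace Groth.Agent.S5017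

/-- Let f : X ⟶ Y be locally of finite type. Then f is a monomorphism if and only if, for every point x
of X with image y, x is the only point of its fibre and the canonical map from the residue field
κ(y) to the quotient of the local ring of X at x by the extension of the maximal ideal at y is
bijective (each nonempty fibre is Spec κ(y)). -/
theorem result {X Y : Scheme.{u}} (f : X ⟶ Y) [LocallyOfFiniteType f] :
    Mono f ↔ ∀ x : ↥X,
      (∀ x' : ↥X, f.base x' = f.base x → x' = x) ∧
        Function.Bijective
          (Ideal.quotientMap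
            ((IsLocalRing.maximalIdeal ↑(Y.presheaf.stalk (f.base x))).map (f.stalkMap x).hom)
            (f.stalkMap x).hom Ideal.le_comap_map) := by
  classical
  refine ⟨fun hf x => ?_, fun h => (S3042.result X Y f).2 fun y => ?_⟩
  · refine ⟨fun x' hx' => ?_, ?_⟩
    · haveI : UniversallyInjective f := ((ConsFib.mono_iff f).1 hf).2
      exact (Scheme.Hom.injective f) hx'
    let φ := f.stalkMap x
    let J : Ideal (X.presheaf.stalk x) := (IsLocalRing.maximalIdeal (Y.presheaf.stalk (f.base x))).map φ.hom
    let ψ := Ideal.quotientMap J φ.hom Ideal.le_comap_map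
    show Function.Bijective ψ
    letI : Algebra (IsLocalRing.ResidueField (Y.presheaf.stalk (f.base x))) (↑(X.presheaf.stalk x) ⧸ J) := ψ.toAlgebra
    have hJ : J ≠ ⊤ := ne_top_of_le_ne_top (IsLocalRing.maximalIdeal.isMaximal _).ne_top
      (((IsLocalRing.local_hom_TFAE φ.hom).out 0 2 rfl rfl).mp inferInstance)
    haveI : Nontrivial (↑(X.presheaf.stalk x) ⧸ J) := Ideal.Quotient.nontrivial_iff.mpr hJ
    haveI : Module.Free (IsLocalRing.ResidueField (Y.presheaf.stalk (f.base x))) (↑(X.presheaf.stalk x) ⧸ J) :=
      Module.Free.of_divisionRing _ _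
    haveI : Module.FaithfullyFlat (IsLocalRing.ResidueField (Y.presheaf.stalk (f.base x))) (↑(X.presheaf.stalk x) ⧸ J) :=
      inferInstance
    let a := Spec.map (CommRingCat.ofHom ψ)
    let i := Spec.map (CommRingCat.ofHom (Ideal.Quotient.mk J)) ≫ X.fromSpecStalk x
    haveI : IsClosedImmersion (Spec.map (CommRingCat.ofHom (Ideal.Quotient.mk J))) :=
      IsClosedImmersion.spec_of_surjective _ Ideal.Quotient.mk_surjective
    haveI : Mono i := mono_comp _ _
    have hi : i ≫ f = a ≫ Spec.map (CommRingCat.ofHom (IsLocalRing.residue (Y.presheaf.stalk (f.base x)))) ≫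
        Y.fromSpecStalk (f.base x) := by
      simp only [i, a, Category.assoc]
      rw [← Scheme.SpecMap_stalkMap_fromSpecStalk, ← Category.assoc, ← Category.assoc, ← Spec.map_comp,
        ← Spec.map_comp]
      congr 2
    haveI : Mono a := ⟨fun u v e => by
      rw [← cancel_mono i, ← cancel_mono f]
      calc (u ≫ i) ≫ f = u ≫ i ≫ f := Category.assoc _ _ _
        _ = (u ≫ a) ≫ _ := by rw [hi, ← Category.assoc u a]
        _ = (v ≫ a) ≫ _ := by rw [e]
        _ = v ≫ i ≫ f := by rw [hi, ← Category.assoc v a]
        _ = (v ≫ i) ≫ f := (Category.assoc _ _ _).symm⟩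
    haveI : Epi (CommRingCat.ofHom ψ) := ⟨fun u v e => Spec.map_injective ((cancel_mono a).1 (by
      rw [← Spec.map_comp, ← Spec.map_comp, e]))⟩
    haveI : Algebra.IsEpi (IsLocalRing.ResidueField (Y.presheaf.stalk (f.base x))) (↑(X.presheaf.stalk x) ⧸ J) :=
      CommRingCat.epi_iff_epi.mp (inferInstanceAs (Epi (CommRingCat.ofHom ψ)))
    exact SchFinLib.bijective_of_isEpi_of_faithfullyFlat
      (IsLocalRing.ResidueField (Y.presheaf.stalk (f.base x))) (↑(X.presheaf.stalk x) ⧸ J)
  · rcases isEmpty_or_nonempty (f.fiber y) with he | ⟨⟨z⟩⟩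
    · exact ⟨fun {T} u v _ => by
        haveI : IsEmpty T := Function.isEmpty u
        exact (isInitialOfIsEmpty (X := T)).hom_ext u v⟩
    have hxy : f (f.fiberι y z) = y := (f.range_fiberι y).le ⟨z, rfl⟩
    haveI : Subsingleton (f.fiber y) := ⟨fun a b => (f.fiberι y).isEmbedding.injective
      ((h _).1 _ (((f.range_fiberι y).le ⟨a, rfl⟩ : f (f.fiberι y a) = y).trans
        ((f.range_fiberι y).le ⟨b, rfl⟩ : f (f.fiberι y b) = y).symm))⟩
    haveI := SpreadFP.isIso_fromSpecStalk_of_subsingleton (f.fiber y) z
    let e := Y.residueFieldCongr hxy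
    let ψ : Y.residueField y ⟶ (f.fiber y).presheaf.stalk z :=
      Spec.preimage ((f.fiber y).fromSpecStalk z ≫ f.fiberToSpecResidueField y)
    have hψ : Spec.map ψ = (f.fiber y).fromSpecStalk z ≫ f.fiberToSpecResidueField y := Spec.map_preimage _
    have hcomp : f.stalkMap (f.fiberι y z) ≫ (f.fiberι y).stalkMap z =
        Y.residue (f (f.fiberι y z)) ≫ e.hom ≫ ψ := Spec.map_injective (by
      rw [← cancel_mono (Y.fromSpecStalk (f (f.fiberι y z))), Spec.map_comp, Spec.map_comp, Spec.map_comp,
        Category.assoc, Scheme.SpecMap_stalkMap_fromSpecStalk, ← Category.assoc, Scheme.SpecMap_stalkMap_fromSpecStalk,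
        Category.assoc, Category.assoc, Category.assoc,
        show Spec.map (Y.residue (f (f.fiberι y z))) ≫ Y.fromSpecStalk (f (f.fiberι y z)) =
          Y.fromSpecResidueField (f (f.fiberι y z)) from rfl,
        Scheme.residueFieldCongr_fromSpecResidueField, hψ, Category.assoc]
      congr 1
      exact pullback.condition)
    have hbij : Function.Bijective ψ.hom := by
      refine ⟨RingHom.injective _, fun s => ?_⟩
      obtain ⟨t, rfl⟩ := (f.fiberι y).stalkMap_surjective z s
      obtain ⟨w, hw⟩ := (h (f.fiberι y z)).2.2 (Ideal.Quotient.mk _ t)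
      obtain ⟨a, rfl⟩ := Ideal.Quotient.mk_surjective w
      rw [Ideal.quotientMap_mk, Ideal.Quotient.eq] at hw
      have hker : t - (f.stalkMap (f.fiberι y z)).hom a ∈ RingHom.ker ((f.fiberι y).stalkMap z).hom := by
        rw [Groth.FlatDescent.ker_stalkMap_fiberι f y z, ← neg_sub]
        exact neg_mem hw
      rw [RingHom.mem_ker, map_sub, sub_eq_zero] at hker
      exact ⟨e.hom (Y.residue _ a), (congr($(hcomp).hom a)).symm.trans hker.symm⟩
    haveI : IsIso ψ := (ConcreteCategory.isIso_iff_bijective ψ).2 hbij
    rw [show f.fiberToSpecResidueField y = inv ((f.fiber y).fromSpecStalk z) ≫ Spec.map ψ by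
      rw [hψ, IsIso.inv_hom_id_assoc]]
    infer_instance

end Groth.Agent.S5017
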