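import Groth.Statements.S5024
import Groth.Agent.GeomUnib.SmoothLocal
import Groth.Agent.FlatSerre.Descent
import Groth.Agent.FlatDescent.Point
-- import your own Groth.Agent.* helpers here

set_option autoImplicit false
universe u
open CategoryTheory CategoryTheory.Limits AlgebraicGeometry TopologicalSpace
open Unram17

set_option linter.style.haveILetI false

namespace Groth.Agent.S5024

set_option backward.isDefEq.respectTransparency false
open CategoryTheory AlgebraicGeometry FlatSerre

/-- Localizations of a local ring of a scheme are local rings of generisations. -/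
theorem nonempty_stalk_equiv {Z : Scheme.{u}} (z : Z) (P : Ideal (Z.presheaf.stalk z)) [hP : P.IsPrime] :
    Nonempty (Z.presheaf.stalk (Z.fromSpecStalk z (⟨P, hP⟩ : PrimeSpectrum (Z.presheaf.stalk z))) ≃+*
      Localization.AtPrime P) := by
  let p := Z.fromSpecStalk z
  let t : ↥(Spec (Z.presheaf.stalk z)) := (⟨P, hP⟩ : PrimeSpectrum (Z.presheaf.stalk z))
  haveI : Flat p := Groth.FlatDescent.flat_fromSpecStalk z
  haveI : IsIso (p.stalkMap t) := by
    rw [ConcreteCategory.isIso_iff_bijective]
    refine ⟨?_, p.stalkMap_surjective t⟩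
    have hfl : (p.stalkMap t).hom.Flat := Flat.stalkMap p t
    algebraize [(p.stalkMap t).hom]
    haveI : IsLocalHom (algebraMap (Z.presheaf.stalk (p t)) ((Spec (Z.presheaf.stalk z)).presheaf.stalk t)) :=
      inferInstanceAs (IsLocalHom (p.stalkMap t).hom)
    haveI := Module.FaithfullyFlat.of_flat_of_isLocalHom (A := Z.presheaf.stalk (p t))
      (B := (Spec (Z.presheaf.stalk z)).presheaf.stalk t)
    exact FaithfulSMul.algebraMap_injective (Z.presheaf.stalk (p t)) ((Spec (Z.presheaf.stalk z)).presheaf.stalk t)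
  exact ⟨(asIso (p.stalkMap t)).commRingCatIsoToRingEquiv.trans
    (StructureSheaf.stalkIso (Z.presheaf.stalk z) t).toRingEquiv.symm⟩

/-- Let Y be locally Noetherian and f : X ⟶ Y locally of finite type, smooth on an open neighbourhood of
a point x with image y. Then for every n the local ring of X at x has Serre's property (S_n),
respectively (R_n), if and only if the local ring of Y at y has it. -/
theorem result {X Y : Scheme.{u}} (f : X ⟶ Y)
    [IsLocallyNoetherian Y] [LocallyOfFiniteType f] (x : ↥X)
    (hx : ∃ U : X.Opens, x ∈ U ∧ Smooth (U.ι ≫ f)) (n : ℕ) :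
    (LocCoh.HasSk n ↑(X.presheaf.stalk x) ↑(X.presheaf.stalk x) ↔
        LocCoh.HasSk n ↑(Y.presheaf.stalk (f.base x)) ↑(Y.presheaf.stalk (f.base x))) ∧
      (LocCoh.HasRk n ↑(X.presheaf.stalk x) ↔ LocCoh.HasRk n ↑(Y.presheaf.stalk (f.base x))) := by
  haveI : LocallyOfFinitePresentation f := LocallyOfFinitePresentation.iff_locallyOfFiniteType.2 inferInstance
  have hsm := GeomUnib.SmoothLocal.mem_smoothLocus_of_exists f hx
  haveI := LocallyOfFiniteType.isLocallyNoetherian f
  letI := (f.stalkMap x).hom.toAlgebra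
  let A := Y.presheaf.stalk (f.base x)
  let B := X.presheaf.stalk x
  haveI : Module.Flat A B := ((FibrewiseCrit.mem_smoothLocus_iff_flat_and_fibre f x).1 hsm).1
  haveI : IsLocalHom (algebraMap A B) := inferInstanceAs (IsLocalHom (f.stalkMap x).hom)
  haveI : Module.FaithfullyFlat A B := Module.FaithfullyFlat.of_flat_of_isLocalHom
  have key : ∀ (P : Ideal B) [P.IsPrime],
      (IsRegularLocalRing (Localization.AtPrime P) ↔
          IsRegularLocalRing (Localization.AtPrime (P.comap (algebraMap A B)))) ∧
        (SkLoc n (Localization.AtPrime (P.comap (algebraMap A B))) → SkLoc n (Localization.AtPrime P)) := by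
    intro P hP
    let x' := X.fromSpecStalk x (⟨P, hP⟩ : PrimeSpectrum B)
    have hy' : f.base x' = Y.fromSpecStalk (f.base x) (⟨P.comap (algebraMap A B), inferInstance⟩ : PrimeSpectrum A) := by
      show f (X.fromSpecStalk x _) = _
      rw [← Scheme.Hom.comp_apply, ← Scheme.SpecMap_stalkMap_fromSpecStalk, Scheme.Hom.comp_apply]
      rfl
    have hx' : x' ∈ f.smoothLocus :=
      (Scheme.range_fromSpecStalk.le (⟨_, rfl⟩ : x' ∈ Set.range (X.fromSpecStalk x))).mem_open f.smoothLocus.2 hsm
    obtain ⟨eX⟩ := nonempty_stalk_equiv x P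
    obtain ⟨eY'⟩ := nonempty_stalk_equiv (f.base x) (P.comap (algebraMap A B))
    let eY : Y.presheaf.stalk (f.base x') ≃+* Localization.AtPrime (P.comap (algebraMap A B)) :=
      (Y.presheaf.stalkCongr (.of_eq hy')).commRingCatIsoToRingEquiv.trans eY'
    obtain ⟨hdim, ⟨d, hd, hdepth⟩, hreg⟩ := GeomUnib.SmoothLocal.invariants f hx'
    refine ⟨⟨fun h => ?_, fun h => ?_⟩, fun h => ?_⟩
    · haveI := h
      haveI := hreg.1 (IsRegularLocalRing.of_ringEquiv eX.symm)
      exact IsRegularLocalRing.of_ringEquiv eY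
    · haveI := h
      haveI := hreg.2 (IsRegularLocalRing.of_ringEquiv eY.symm)
      exact IsRegularLocalRing.of_ringEquiv eX
    · refine SkLoc.congr eX ?_
      have h1 := SkLoc.congr eY.symm h
      unfold SkLoc at h1 ⊢
      rw [hdim, hd, hdepth]
      refine min_add_le n ringKrullDim_ne_bot (WithBot.natCast_ne_bot d) h1 ?_
      exact (min_le_right _ _).trans le_rfl
  refine ⟨⟨fun h => hasSk_descend h, fun h => hasSk_iff_forall_skLoc.mpr fun P _ =>
    (key P).2 (hasSk_iff_forall_skLoc.mp h _)⟩, ⟨fun h p _ hp => ?_, fun h P _ hP => ?_⟩⟩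
  · obtain ⟨Q, hQ⟩ := PrimeSpectrum.comap_surjective_of_faithfullyFlat (A := A) (B := B) ⟨p, inferInstance⟩
    haveI : Q.asIdeal.LiesOver p := ⟨(congrArg PrimeSpectrum.asIdeal hQ).symm⟩
    obtain ⟨P, hPmin, hPle⟩ := Ideal.exists_minimalPrimes_le (I := p.map (algebraMap A B)) (J := Q.asIdeal)
      (Ideal.map_le_iff_le_comap.mpr (Ideal.LiesOver.over (P := Q.asIdeal) (p := p)).le)
    haveI := hPmin.1.1
    haveI : P.LiesOver p := DepthLib.liesOver_of_mem_minimalPrimes_map hPmin hPle (Ideal.LiesOver.over (P := Q.asIdeal) (p := p)).symm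
    have h2 := (key P).1.1 (h P (by rw [DepthLib.height_eq_of_mem_minimalPrimes_map p P hPmin]; exact hp))
    have e : P.comap (algebraMap A B) = p := (Ideal.LiesOver.over (P := P) (p := p)).symm
    subst e
    exact h2
  · refine (key P).1.2 (h _ (le_trans ?_ hP))
    rw [Ideal.height_eq_height_add_of_liesOver_of_hasGoingDown (P.comap (algebraMap A B)) P]
    exact le_self_add

end Groth.Agent.S5024
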