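import Groth.Statements.S5026
import Groth.Agent.EtaleCrit.Params
-- import your own Groth.Agent.* helpers here

set_option autoImplicit false
universe u
open Unram17

namespace Groth.Agent.S5026

/-- Let k be a field, A a k-algebra of finite type equipped with a k-algebra map from the polynomial
ring in n variables (images g_i of the variables), p a prime of A such that Spec A has local
dimension n at p, r the Krull dimension of the local ring A_p, and suppose g_i ∈ p for the indices i
< r. Then A is etale at p over the polynomial ring if and only if the images of the g_i with i < r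
generate the maximal ideal of A_p and the differentials of the residue classes of the g_i with i ≥ r
generate the module of differentials of the residue field κ(p) over k. (The published statement adds
that these conditions imply that A is smooth at p over k and that κ(p) is separable over k; this row
does not state that consequence.) -/
theorem result (k A : Type u) [Field k]
    [CommRing A] [Algebra k A] [Algebra.FiniteType k A] (n r : ℕ) [Algebra (MvPolynomial (Fin n) k) A]
    [IsScalarTower k (MvPolynomial (Fin n) k) A] (p : Ideal A) [p.IsPrime]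
    (hn : FlatMor.localDim (PrimeSpectrum A) ⟨p, inferInstance⟩ = (n : WithBot ℕ∞))
    (hr : ringKrullDim (Localization.AtPrime p) = (r : WithBot ℕ∞))
    (hg : ∀ i : Fin n, (i : ℕ) < r → algebraMap (MvPolynomial (Fin n) k) A (MvPolynomial.X i) ∈ p) :
    Algebra.IsEtaleAt (MvPolynomial (Fin n) k) p ↔
      Ideal.span ((fun i : Fin n =>
          algebraMap A (Localization.AtPrime p) (algebraMap (MvPolynomial (Fin n) k) A (MvPolynomial.X i))) ''
            {i : Fin n | (i : ℕ) < r}) = IsLocalRing.maximalIdeal (Localization.AtPrime p) ∧
        Submodule.span p.ResidueField ((fun i : Fin n =>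
          KaehlerDifferential.D k p.ResidueField
            (IsLocalRing.residue (Localization.AtPrime p)
              (algebraMap A (Localization.AtPrime p) (algebraMap (MvPolynomial (Fin n) k) A (MvPolynomial.X i))))) ''
            {i : Fin n | r ≤ (i : ℕ)}) = ⊤ := by
  let P := MvPolynomial (Fin n) k
  let T := Localization.AtPrime p
  let κ := p.ResidueField
  haveI : Algebra.FiniteType P A := Algebra.FiniteType.of_restrictScalars_finiteType k P A
  haveI : IsScalarTower k P T := IsScalarTower.of_algebraMap_eq fun x => by
    rw [IsScalarTower.algebraMap_apply k A T, IsScalarTower.algebraMap_apply P A T,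
      ← IsScalarTower.algebraMap_apply k P A]
  haveI : IsScalarTower k P κ := IsScalarTower.of_algebraMap_eq fun x => by
    rw [IsScalarTower.algebraMap_apply k A κ, IsScalarTower.algebraMap_apply P A κ,
      ← IsScalarTower.algebraMap_apply k P A]
  have hrn : r ≤ n := by
    haveI : Nontrivial (A ⧸ p) := Ideal.Quotient.nontrivial_iff.2 (inferInstance : p.IsPrime).ne_top
    have h := Groth.Agent.LocalDim.localDim_eq k p
    rw [hn, ← IsLocalization.AtPrime.ringKrullDim_eq_height p T, hr] at h
    obtain ⟨d, -, hd⟩ := Groth.Agent.DimTrdeg.exists_trdeg_eq_ringKrullDim k (A ⧸ p)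
    rw [hd] at h
    norm_cast at h
    omega
  let q := p.under P
  haveI : p.LiesOver q := ⟨rfl⟩
  letI := Localization.AtPrime.algebraOfLiesOver q p
  let J : Ideal P := Ideal.span ((fun i : Fin n => (MvPolynomial.X i : P)) '' {i : Fin n | (i : ℕ) < r})
  have hJmap : J.map (algebraMap P T) = Ideal.span ((fun i : Fin n =>
      algebraMap A T (algebraMap P A (MvPolynomial.X i))) '' {i : Fin n | (i : ℕ) < r}) := by
    rw [Ideal.map_span, ← Set.image_comp]
    simp only [Function.comp_def, IsScalarTower.algebraMap_apply P A T]
  have hJq : J ≤ q := Ideal.span_le.2 (by rintro _ ⟨i, hi, rfl⟩; exact hg i hi)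
  have hv : (fun i : Fin n => KaehlerDifferential.D k κ (algebraMap P κ (MvPolynomial.X i))) =
      fun i : Fin n => KaehlerDifferential.D k κ
        (IsLocalRing.residue T (algebraMap A T (algebraMap P A (MvPolynomial.X i)))) := funext fun i =>
    congrArg (KaehlerDifferential.D k κ) ((IsScalarTower.algebraMap_apply P A κ _).trans
      (IsScalarTower.algebraMap_apply A T κ _))
  have key : Algebra.FormallyUnramified P κ ↔ Submodule.span κ ((fun i : Fin n =>
      KaehlerDifferential.D k κ (IsLocalRing.residue T (algebraMap A T (algebraMap P A (MvPolynomial.X i))))) ''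
        {i : Fin n | r ≤ (i : ℕ)}) = ⊤ := by
    rw [← Groth.Agent.EtaleCrit.span_D_X_eq_top_iff (k := k) (n := n) κ, hv]
    refine Eq.congr_left (le_antisymm (Submodule.span_le.2 ?_) (Submodule.span_mono (Set.image_subset_range _ _)))
    rintro _ ⟨i, rfl⟩
    by_cases hi : (i : ℕ) < r
    · have h0 : IsLocalRing.residue T (algebraMap A T (algebraMap P A (MvPolynomial.X i))) = 0 :=
        (IsLocalRing.residue_eq_zero_iff _).2 ((IsLocalization.AtPrime.to_map_mem_maximal_iff T p _).2 (hg i hi))
      simp only [h0, map_zero, SetLike.mem_coe]
      exact zero_mem _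
    · exact Submodule.subset_span ⟨i, Nat.le_of_not_lt hi, rfl⟩
  refine ⟨fun h => ?_, fun ⟨hm, hs⟩ => ?_⟩
  · haveI := h
    haveI : Algebra.IsUnramifiedAt P p := inferInstance
    refine ⟨?_, key.1 ?_⟩
    · rw [← hJmap, show J = q from (Groth.Agent.EtaleCrit.under_eq_of_isEtaleAt p r hrn hr hg).symm]
      exact ((Algebra.isUnramifiedAt_iff_map_eq P q p).1 inferInstance).2
    · haveI : Algebra.FormallyUnramified P T := ‹Algebra.IsUnramifiedAt P p›
      exact Algebra.FormallyUnramified.of_surjective (IsScalarTower.toAlgHom P T κ) IsLocalRing.residue_surjective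
  · haveI hu : Algebra.FormallyUnramified P κ := key.2 hs
    haveI : Algebra.FormallyUnramified q.ResidueField κ := Algebra.FormallyUnramified.of_restrictScalars P _ _
    haveI : Algebra.EssFiniteType A κ := inferInstance
    haveI : Algebra.EssFiniteType P κ := Algebra.EssFiniteType.comp P A κ
    haveI : Algebra.EssFiniteType q.ResidueField κ := Algebra.EssFiniteType.of_comp P q.ResidueField κ
    haveI : Algebra.IsSeparable q.ResidueField κ := Algebra.FormallyUnramified.isSeparable _ _
    haveI : Algebra.IsUnramifiedAt P p := by
      refine (Algebra.isUnramifiedAt_iff_map_eq P q p).2 ⟨inferInstance, le_antisymm ?_ ?_⟩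
      · refine (Ideal.map_le_iff_le_comap).2 fun x hx => ?_
        show algebraMap P T x ∈ IsLocalRing.maximalIdeal T
        rw [IsScalarTower.algebraMap_apply P A T]
        exact (IsLocalization.AtPrime.to_map_mem_maximal_iff T p _).2 hx
      · rw [← hm, ← hJmap]
        exact Ideal.map_mono hJq
    exact Groth.Agent.EtaleCrit.isEtaleAt_of_isUnramifiedAt p hn

end Groth.Agent.S5026
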