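import Groth.Statements.S5027
import Groth.Agent.EtaleCrit.Residue
-- import your own Groth.Agent.* helpers here

set_option autoImplicit false
universe u
open Unram17

namespace Groth.Agent.S5027

/-- Let A be an algebra of finite type over a field k, p a prime of A such that Spec A has local
dimension n at p, and r the Krull dimension of the local ring A_p. Then A_p is regular and the
residue field κ(p) is a separable extension of k (geometrically reduced over k) if and only if there
exist n elements of the local ring A_p (germs at p in place of sections over an open neighbourhood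
of p, which is equivalent) of which those with index < r generate the maximal ideal and the residue
classes of the remaining ones have differentials generating the module of differentials of κ(p) over
k. -/
theorem result (k A : Type u) [Field k]
    [CommRing A] [Algebra k A] [Algebra.FiniteType k A] (n r : ℕ) (p : Ideal A) [p.IsPrime]
    (hn : FlatMor.localDim (PrimeSpectrum A) ⟨p, inferInstance⟩ = (n : WithBot ℕ∞))
    (hr : ringKrullDim (Localization.AtPrime p) = (r : WithBot ℕ∞)) :
    (IsRegularLocalRing (Localization.AtPrime p) ∧ Algebra.IsGeometricallyReduced k p.ResidueField) ↔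
      ∃ g : Fin n → Localization.AtPrime p,
        Ideal.span (g '' {i : Fin n | (i : ℕ) < r}) = IsLocalRing.maximalIdeal (Localization.AtPrime p) ∧
          Submodule.span p.ResidueField ((fun i : Fin n =>
            KaehlerDifferential.D k p.ResidueField (IsLocalRing.residue (Localization.AtPrime p) (g i))) ''
              {i : Fin n | r ≤ (i : ℕ)}) = ⊤ := by
  classical
  let T := Localization.AtPrime p
  let κ := p.ResidueField
  haveI : IsNoetherianRing A := Algebra.FiniteType.isNoetherianRing k A
  haveI : IsNoetherianRing T := IsLocalization.isNoetherianRing p.primeCompl T inferInstance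
  haveI : Algebra.EssFiniteType A κ := inferInstance
  haveI : Algebra.EssFiniteType k κ := Algebra.EssFiniteType.comp k A κ
  obtain ⟨t, ht1, ht2⟩ := Groth.Agent.DimTrdeg.exists_trdeg_eq_ringKrullDim k (A ⧸ p)
  have htκ : Algebra.trdeg k κ = t := by rw [Groth.Agent.DimTrdeg.trdeg_fractionRing k (A ⧸ p) κ, ht1]
  have hnrt : n = r + t := by
    have h := Groth.Agent.LocalDim.localDim_eq k p
    rw [hn, ← IsLocalization.AtPrime.ringKrullDim_eq_height p T, hr, ht2] at h
    exact_mod_cast h
  subst hnrt
  have himg : ∀ g : Fin (r + t) → T, ((fun i : Fin (r + t) =>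
        KaehlerDifferential.D k κ (IsLocalRing.residue T (g i))) '' {i : Fin (r + t) | r ≤ (i : ℕ)}) =
      Set.range fun j : Fin t => KaehlerDifferential.D k κ (IsLocalRing.residue T (g (Fin.natAdd r j))) := fun g => by
    ext x
    constructor
    · rintro ⟨i, hi, rfl⟩
      have hi' : r ≤ (i : ℕ) := hi
      refine ⟨⟨(i : ℕ) - r, by omega⟩, ?_⟩
      simp only
      congr 3
      exact Fin.ext (show r + ((i : ℕ) - r) = (i : ℕ) by omega)
    · rintro ⟨j, rfl⟩
      exact ⟨Fin.natAdd r j, Nat.le_add_right r (j : ℕ), rfl⟩
  have himg' : ∀ g : Fin (r + t) → T,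
      g '' {i : Fin (r + t) | (i : ℕ) < r} = Set.range fun j : Fin r => g (Fin.castAdd t j) := fun g => by
    ext x
    constructor
    · rintro ⟨i, hi, rfl⟩
      exact ⟨⟨(i : ℕ), hi⟩, rfl⟩
    · rintro ⟨j, rfl⟩
      exact ⟨Fin.castAdd t j, j.2, rfl⟩
  constructor
  · rintro ⟨hreg, hgr⟩
    haveI := hreg
    haveI := hgr
    obtain ⟨b, hb⟩ := Groth.Agent.EtaleCrit.exists_span_of_isGeometricallyReduced (k := k) (L := κ) t htκ
    have hlift : ∀ j, ∃ a : T, IsLocalRing.residue T a = b j := fun j => IsLocalRing.residue_surjective (b j)
    choose a ha using hlift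
    have hfg : (IsLocalRing.maximalIdeal T).FG := IsNoetherian.noetherian _
    have hcard : (Submodule.generators (IsLocalRing.maximalIdeal T)).ncard = r := by
      have h1 := Submodule.FG.generators_ncard hfg
      have h2 := IsRegularLocalRing.spanFinrank_maximalIdeal (R := T)
      rw [hr, ← h1] at h2
      exact_mod_cast h2
    have hfin : (Submodule.generators (IsLocalRing.maximalIdeal T)).Finite := Submodule.FG.finite_generators hfg
    obtain ⟨f, hf⟩ : ∃ f : Fin r → T, Set.range f = Submodule.generators (IsLocalRing.maximalIdeal T) := by
      have := hfin.fintype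
      let e := (Fintype.equivFinOfCardEq (show Fintype.card ↥(Submodule.generators (IsLocalRing.maximalIdeal T)) = r by
        rw [← Nat.card_eq_fintype_card, Nat.card_coe_set_eq, hcard])).symm
      exact ⟨fun j => (e j : T), by
        rw [show (fun j => (e j : T)) = Subtype.val ∘ e from rfl, Set.range_comp, e.surjective.range_eq,
          Set.image_univ, Subtype.range_coe]⟩
    refine ⟨Fin.append f a, ?_, ?_⟩
    · rw [himg']
      simp only [Fin.append_left]
      show Ideal.span (Set.range f) = _
      rw [hf]
      exact Submodule.span_generators _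
    · rw [himg]
      simp only [Fin.append_right, ha]
      exact hb
  · rintro ⟨g, hgm, hgs⟩
    rw [himg] at hgs
    rw [himg'] at hgm
    refine ⟨IsRegularLocalRing.of_spanFinrank_maximalIdeal_le _ ?_,
      Groth.Agent.EtaleCrit.isGeometricallyReduced_of_span_trdeg htκ.ge _ hgs⟩
    rw [hr, ← hgm]
    refine Nat.cast_le.2 ((Submodule.spanFinrank_span_le_ncard_of_finite (Set.finite_range _)).trans ?_)
    rw [← Nat.card_coe_set_eq]
    exact (Finite.card_range_le _).trans_eq (Nat.card_fin r)

end Groth.Agent.S5027
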