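import Groth.Statements.S5033
import Groth.Agent.RegEmbed.Local
import Mathlib
-- import your own Groth.Agent.* helpers here

set_option autoImplicit false
universe u
open CInt

namespace Groth.Agent.S5033

/-- Let A be a Noetherian local ring and J an ideal such that A/J is a regular local ring. Then A is a
regular local ring if and only if J is generated by a regular sequence of A. -/
theorem result (A : Type u) [CommRing A] [IsNoetherianRing A]
    [IsLocalRing A] (J : Ideal A) [IsRegularLocalRing (A ⧸ J)] :
    IsRegularLocalRing A ↔ CInt.IsRegularIdeal J := by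
  constructor
  · intro hA
    obtain ⟨rs, hrs, rfl⟩ := Groth.Agent.RegEmbed.exists_weaklyRegular_of_regular_quotient J inferInstance
    refine ⟨rs, (IsLocalRing.isRegular_iff_isWeaklyRegular_of_subset_maximalIdeal fun r hr => ?_).mpr hrs, rfl⟩
    exact IsLocalRing.le_maximalIdeal (fun h => not_subsingleton (A ⧸ Ideal.ofList rs) (Ideal.Quotient.subsingleton_iff.mpr h))
      (Ideal.subset_span hr)
  · rintro ⟨rs, hrs, rfl⟩
    exact Groth.Agent.RegEmbed.isRegularLocalRing_of_quotient_list (List.replicate rs.length ⟨()⟩) A rs (by simp)
      hrs.toIsWeaklyRegular (A ⧸ Ideal.ofList rs) (Ideal.Quotient.mk _) Ideal.Quotient.mk_surjective Ideal.mk_ker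

end Groth.Agent.S5033
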