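import Groth.Statements.S5038
import Groth.Agent.HenselLib.SmoothLift
import Mathlib

set_option autoImplicit false
open CategoryTheory AlgebraicGeometry
universe u
open Hensel

namespace Groth.Agent.S5038

/-- Let A be a henselian local ring with residue field k, S = Spec A, and f : X ⟶ S a smooth morphism.
Then the map from sections of f to k-points of the closed fibre is surjective: every u₀ : Spec k ⟶ X
lying over the closed point extends to a section u of f. -/
theorem result (A : Type u) [CommRing A] [HenselianLocalRing A]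
    {X : Scheme.{u}} (f : X ⟶ Spec (CommRingCat.of A)) [Smooth f]
    (u₀ : Spec (CommRingCat.of (IsLocalRing.ResidueField A)) ⟶ X)
    (h₀ : u₀ ≫ f = Spec.map (CommRingCat.ofHom (IsLocalRing.residue A))) :
    ∃ u : Spec (CommRingCat.of A) ⟶ X, u ≫ f = 𝟙 _ ∧
      Spec.map (CommRingCat.ofHom (IsLocalRing.residue A)) ≫ u = u₀ := by
  obtain ⟨x⟩ : Nonempty (PrimeSpectrum (IsLocalRing.ResidueField A)) := inferInstance
  obtain ⟨V, hV, hxV, -⟩ := X.isBasis_affineOpens.exists_subset_of_mem_open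
    (Set.mem_univ (u₀ x)) isOpen_univ
  let V' : X.Opens := ⟨V, by obtain ⟨W, hW, rfl⟩ := hV; exact W.2⟩
  have hV' : IsAffineOpen V' := by
    obtain ⟨W, hW, rfl⟩ := hV
    exact hW
  have hrange : Set.range u₀ ⊆ Set.range hV'.fromSpec := by
    rintro _ ⟨y, rfl⟩
    rw [hV'.range_fromSpec]
    have : y = x := Subsingleton.elim _ _
    subst this
    exact hxV
  obtain ⟨φ, hφ⟩ := Spec.map_surjective (IsOpenImmersion.lift hV'.fromSpec u₀ hrange)
  have hu₀ : Spec.map φ ≫ hV'.fromSpec = u₀ := by rw [hφ, IsOpenImmersion.lift_fac]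
  obtain ⟨ψ, hψ⟩ := Spec.map_surjective (hV'.fromSpec ≫ f)
  have hsm : Smooth (Spec.map ψ) := by rw [hψ]; infer_instance
  have hψs : ψ.hom.Smooth := (HasRingHomProperty.Spec_iff (P := @Smooth)).1 hsm
  let _ : Algebra A Γ(X, V') := ψ.hom.toAlgebra
  have hsmA : Algebra.Smooth A Γ(X, V') := hψs
  have hcomp : ψ ≫ φ = CommRingCat.ofHom (IsLocalRing.residue A) := by
    apply Spec.map_injective
    rw [Spec.map_comp, hψ, ← Category.assoc, hu₀, h₀]
  let σ : Γ(X, V') →ₐ[A] A ⧸ IsLocalRing.maximalIdeal A :=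
    { φ.hom with commutes' := fun a => RingHom.congr_fun (congrArg CommRingCat.Hom.hom hcomp) a }
  obtain ⟨τ, hτ⟩ := Groth.Agent.HenselLib.exists_smooth_lift Γ(X, V') A _ σ
  have h1 : ψ ≫ CommRingCat.ofHom τ.toRingHom = 𝟙 _ := by
    ext a
    exact τ.commutes a
  have h2 : CommRingCat.ofHom τ.toRingHom ≫ CommRingCat.ofHom (IsLocalRing.residue A) = φ := by
    ext a
    exact AlgHom.congr_fun hτ a
  refine ⟨Spec.map (CommRingCat.ofHom τ.toRingHom) ≫ hV'.fromSpec, ?_, ?_⟩
  · rw [Category.assoc, ← hψ, ← Spec.map_comp, h1, Spec.map_id]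
  · rw [← Category.assoc, ← Spec.map_comp, h2, hu₀]

end Groth.Agent.S5038
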