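import Groth.Statements.S5040
import Groth.Agent.Catenary.Equidim
import Groth.Agent.FlatAscent.IadicFibre
import Groth.Agent.IndEtaleOps.Fibre
import Groth.Agent.S0733
import Groth.Agent.S12236
import Groth.Agent.S0510
import Groth.Agent.S0511
import Groth.Agent.HenselLib.HenselizationAlg
-- import your own Groth.Agent.* helpers here

set_option autoImplicit false
universe u
open Hensel

namespace Groth.Agent.S5040

/-- Let R be a Noetherian local ring with henselization S. If R is formally catenary (the completion of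
R/p is equidimensional for every prime ideal p), then S is formally catenary. -/
theorem result (R S : Type u) [CommRing R] [IsLocalRing R] [IsNoetherianRing R]
    [CommRing S] [IsLocalRing S] [Algebra R S] [IsLocalHom (algebraMap R S)] [Hensel.IsHenselization R S]
    (h : EGA4.IsFormallyCatenary R) : EGA4.IsFormallyCatenary S := by
  intro q _
  have : IsNoetherianRing S := (Groth.Agent.S0511.result R S).mp inferInstance
  obtain ⟨ρ, hcol⟩ := Groth.Agent.HenselLib.exists_colim_of_isHenselization R S
  have : Module.Flat R S := hcol.flat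
  have hmax : (IsLocalRing.maximalIdeal R).map (algebraMap R S) = IsLocalRing.maximalIdeal S :=
    hcol.map_maximalIdeal fun r hr => Groth.Agent.HenselLib.algebraMap_residueField_eq_zero hr
  let Rh := AdicCompletion (IsLocalRing.maximalIdeal R) R
  let Sh := AdicCompletion (IsLocalRing.maximalIdeal S) S
  have : IsNoetherianRing Sh := Groth.Agent.CohenStruct.isNoetherianRing_completion S
  have : IsNoetherianRing Rh := Groth.Agent.CohenStruct.isNoetherianRing_completion R
  let θ : ∀ k, R ⧸ IsLocalRing.maximalIdeal R ^ k ≃+* S ⧸ IsLocalRing.maximalIdeal S ^ k := fun k =>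
    (RingEquiv.ofBijective _ (Groth.Agent.S0510.result R S k)).trans
      (Ideal.quotEquivOfEq (by rw [Ideal.map_pow, hmax]))
  obtain ⟨e, he⟩ := Groth.Agent.FlatAscent.Iadic.exists_completion_equiv (IsLocalRing.maximalIdeal R)
    (IsLocalRing.maximalIdeal S) (algebraMap R S) θ fun k c => rfl
  let p := q.comap (algebraMap R S)
  obtain ⟨Φ⟩ := Groth.Agent.Catenary.exists_completion_quotient_equiv p
  obtain ⟨Ψ⟩ := Groth.Agent.Catenary.exists_completion_quotient_equiv q
  let g : Sh →+* AdicCompletion (IsLocalRing.maximalIdeal (R ⧸ p)) (R ⧸ p) :=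
    Φ.symm.toRingHom.comp ((Ideal.Quotient.mk (p.map (algebraMap R Rh))).comp e.symm.toRingHom)
  have hg : Function.Surjective g :=
    Φ.symm.surjective.comp (Ideal.Quotient.mk_surjective.comp e.symm.surjective)
  let f : Sh →+* AdicCompletion (IsLocalRing.maximalIdeal (S ⧸ q)) (S ⧸ q) :=
    Ψ.symm.toRingHom.comp (Ideal.Quotient.mk (q.map (algebraMap S Sh)))
  have hf : Function.Surjective f := Ψ.symm.surjective.comp Ideal.Quotient.mk_surjective
  have hkerf : RingHom.ker f = q.map (algebraMap S Sh) := by
    ext x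
    rw [RingHom.mem_ker]
    change Ψ.symm (Ideal.Quotient.mk _ x) = 0 ↔ _
    rw [map_eq_zero_iff _ Ψ.symm.injective, Ideal.Quotient.eq_zero_iff_mem]
  have hkerg : RingHom.ker g = (p.map (algebraMap R S)).map (algebraMap S Sh) := by
    have h1 : RingHom.ker g = (p.map (algebraMap R Rh)).map (e : Rh →+* Sh) := by
      ext x
      rw [RingHom.mem_ker, Ideal.map_comap_of_equiv, Ideal.mem_comap]
      change Φ.symm (Ideal.Quotient.mk _ (e.symm x)) = 0 ↔ _
      rw [map_eq_zero_iff _ Φ.symm.injective, Ideal.Quotient.eq_zero_iff_mem]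
    rw [h1, Ideal.map_map, Ideal.map_map]
    exact congrArg (fun φ : R →+* Sh => p.map φ) (RingHom.ext he)
  have hfibre : ∀ q' : Ideal S, q'.IsPrime → q' ≤ q → p.map (algebraMap R S) ≤ q' → q' = q := by
    intro q' hq' hle hp'
    have h1 : q'.comap (algebraMap R S) = p :=
      le_antisymm (Ideal.comap_mono hle) (Ideal.map_le_iff_le_comap.mp hp')
    let α := PrimeSpectrum.primesOverOrderIsoFiber R S p
    let a : p.primesOver S := ⟨q', hq', ⟨h1.symm⟩⟩
    let b : p.primesOver S := ⟨q, inferInstance, ⟨rfl⟩⟩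
    have hab : α a ≤ α b := α.monotone hle
    have : Algebra.IsIntegral p.ResidueField (p.Fiber S) := Groth.Agent.IndEtaleOps.isIntegral_of_isIndEtale
      (Groth.Agent.S0733.result R S p.ResidueField (Groth.Agent.S12236.result R S))
    have hmaxa : (α a).asIdeal.IsMaximal :=
      Ideal.isMaximal_of_isIntegral_of_isMaximal_comap (R := p.ResidueField) _
        ((Ideal.eq_bot_or_top ((α a).asIdeal.comap (algebraMap p.ResidueField (p.Fiber S)))).resolve_right
          (Ideal.comap_ne_top _ (α a).isPrime.ne_top) ▸ Ideal.bot_isMaximal)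
    have : α a = α b := PrimeSpectrum.ext (hmaxa.eq_of_le (α b).isPrime.ne_top hab)
    exact congrArg Subtype.val (α.injective this)
  have hR := (Groth.Agent.Catenary.isEquidim_iff_of_surjective g hg).mp (h p)
  rw [hkerg] at hR
  refine (Groth.Agent.Catenary.isEquidim_iff_of_surjective f hf).mpr fun P hP => ?_
  rw [hkerf] at hP
  have := hP.isPrime
  have hPq : q ≤ P.comap (algebraMap S Sh) := Ideal.map_le_iff_le_comap.mp hP.le
  have : P.LiesOver (P.comap (algebraMap S Sh)) := ⟨rfl⟩
  obtain ⟨P₁, hP₁, hP₁', hP₁q⟩ := Ideal.exists_ideal_le_liesOver_of_le (p := q) (q := P.comap (algebraMap S Sh)) P hPq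
  have hP₁c : q = P₁.comap (algebraMap S Sh) := hP₁q.over
  have hPc : P.comap (algebraMap S Sh) ≤ q := by
    rw [hP₁c]
    exact Ideal.comap_mono (hP.2 ⟨hP₁', Ideal.map_le_iff_le_comap.mpr hP₁c.le⟩ hP₁)
  have hle : (p.map (algebraMap R S)).map (algebraMap S Sh) ≤ P :=
    (Ideal.map_mono Ideal.map_comap_le).trans hP.le
  have hmin : P ∈ ((p.map (algebraMap R S)).map (algebraMap S Sh)).minimalPrimes := by
    refine ⟨⟨inferInstance, hle⟩, fun P' hP' hP'P => ?_⟩
    have := hP'.1
    have h1 := hfibre (P'.comap (algebraMap S Sh)) inferInstance ((Ideal.comap_mono hP'P).trans hPc)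
      (Ideal.map_le_iff_le_comap.mp hP'.2)
    exact hP.2 ⟨hP'.1, Ideal.map_le_iff_le_comap.mpr h1.ge⟩ hP'P
  have hd := hR P hmin
  rw [← ringKrullDim_eq_of_ringEquiv (RingHom.quotientKerEquivOfSurjective hf)]
  rw [← ringKrullDim_eq_of_ringEquiv (RingHom.quotientKerEquivOfSurjective hg)] at hd
  refine le_antisymm (ringKrullDim_le_of_surjective (Ideal.Quotient.factor (hkerf ▸ hP.le))
    (Ideal.Quotient.factor_surjective _)) ?_
  rw [hd]
  refine ringKrullDim_le_of_surjective (Ideal.Quotient.factor ?_) (Ideal.Quotient.factor_surjective _)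
  rw [hkerf, hkerg]
  exact Ideal.map_mono Ideal.map_comap_le

end Groth.Agent.S5040
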