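import Groth.Statements.S5042
import Groth.Agent.S5040
import Groth.Agent.S9228
import Groth.Agent.S2636
import Groth.Agent.S2045
import Groth.Agent.S0599
import Groth.Agent.S2701
import Groth.Agent.S0499
import Groth.Agent.J2Lib.Main
import Groth.Agent.GRing17.Excellent
-- import your own Groth.Agent.* helpers here

set_option autoImplicit false
universe u
open Hensel

namespace Groth.Agent.S5042

/-- The henselization S of an excellent local ring R is excellent. -/
theorem result (R S : Type u) [CommRing R] [IsLocalRing R]
    [CommRing S] [IsLocalRing S] [Algebra R S] [IsLocalHom (algebraMap R S)] [Hensel.IsHenselization R S]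
    (h : EGA4.IsExcellent R) : EGA4.IsExcellent S := by
  obtain ⟨hN, hC, hG, -⟩ := h
  have : IsNoetherianRing S := (Groth.Agent.S0511.result R S).mp inferInstance
  have hSG : CAlg.IsGRing S := Groth.Agent.S2045.result hG
  have hSC : CAlg.IsUniversallyCatenary S :=
    Groth.Agent.S2636.result S (Groth.Agent.S5040.result R S (Groth.Agent.S9228.result R hC))
  have : HenselianLocalRing S := (inferInstance : Hensel.IsHenselization R S).henselian
  refine ⟨inferInstance, hSC, hSG, Groth.Agent.J2Lib.isJ2_of_finite fun A' _ _ _ hfin => ?_⟩
  -- a finite domain over a henselian local ring is local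
  obtain ⟨ι, _, B, _, hB, ⟨e⟩⟩ := Groth.Agent.S0499.result S A'
  classical
  have hsub : ∀ i j : ι, i = j := fun i j => by
    by_contra hij
    have := hB i
    have := hB j
    have h0 : e.symm (Pi.single i 1) * e.symm (Pi.single j 1) = 0 := by
      rw [← map_mul, ← map_zero e.symm]
      congr 1
      ext k
      rcases eq_or_ne k i with rfl | hk
      · rw [Pi.mul_apply, Pi.single_eq_of_ne (M := B) hij, mul_zero]; rfl
      · rw [Pi.mul_apply, Pi.single_eq_of_ne (M := B) hk, zero_mul]; rfl
    rcases mul_eq_zero.mp h0 with h1 | h1
    · have h2 := congrFun ((map_eq_zero_iff _ e.symm.injective).mp h1) i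
      rw [Pi.single_eq_same] at h2
      exact one_ne_zero (α := B i) h2
    · have h2 := congrFun ((map_eq_zero_iff _ e.symm.injective).mp h1) j
      rw [Pi.single_eq_same] at h2
      exact one_ne_zero (α := B j) h2
  obtain ⟨i⟩ : Nonempty ι := by
    by_contra hne
    rw [not_nonempty_iff] at hne
    exact zero_ne_one (e.injective (funext fun i => isEmptyElim i : e 0 = e 1))
  have : IsLocalRing A' := by
    let : Unique ι := ⟨⟨i⟩, fun j => hsub j i⟩
    have := hB default
    exact (e.trans (RingEquiv.piUnique B)).symm.isLocalRing
  have hAG : CAlg.IsGRing A' := Groth.Agent.S0599.result S hSG A'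
  have := hAG.1
  let m := IsLocalRing.maximalIdeal A'
  have : IsLocalization m.primeCompl A' := IsLocalization.of_le_isUnit fun x hx => by
    by_contra hu
    exact hx ((IsLocalRing.mem_maximalIdeal x).mpr hu)
  have hreg := Groth.Agent.GRing17.regular_cpl_congr
    (IsLocalization.algEquiv m.primeCompl A' (Localization.AtPrime m)) (hAG.2 m)
  refine ⟨EGA4.regLocus A', Groth.Agent.S2701.result A' hreg, ⟨⟨⊥, Ideal.isPrime_bot⟩, ?_⟩, fun _ h => h⟩
  have hF : IsField (Localization.AtPrime (⊥ : Ideal A')) := by
    rw [IsLocalRing.isField_iff_maximalIdeal_eq, ← Localization.AtPrime.map_eq_maximalIdeal, Ideal.map_bot]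
  let := hF.toField
  show IsRegularLocalRing (Localization.AtPrime (⊥ : Ideal A'))
  infer_instance

end Groth.Agent.S5042
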