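import Groth.Statements.S5046
import Groth.Agent.ConnCompl.Base

set_option autoImplicit false
open CategoryTheory AlgebraicGeometry
universe u
open Unram

namespace Groth.Agent.S5046

/-- Let A be a Noetherian local domain of Krull dimension at least 2 which is geometrically unibranch, X
a connected locally Noetherian scheme and f : X ⟶ Spec A a flat morphism. Then for every closed
subset T of X lying over the closed point of Spec A, the complement of T in X is connected. -/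
theorem result (A : Type u) [CommRing A]
    [IsNoetherianRing A] [IsLocalRing A] [IsDomain A] (hA : CAlg2.IsGeomUnibranch A) (hdim : 2 ≤ ringKrullDim A)
    {X : Scheme.{u}} [IsLocallyNoetherian X] [ConnectedSpace ↥X] (f : X ⟶ Spec (CommRingCat.of A)) [Flat f]
    (T : Set ↥X) (hT : IsClosed T) (hTy : ∀ x ∈ T, f.base x = IsLocalRing.closedPoint A) :
    IsConnected Tᶜ := by
  classical
  -- every point generalizes to a point outside `T`
  have hgen : ∀ x : ↥X, ∃ z, z ⤳ x ∧ z ∉ T := by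
    intro x
    have hy : (⊥ : PrimeSpectrum A) ⤳ f.base x := (PrimeSpectrum.le_iff_specializes _ _).1 bot_le
    obtain ⟨z, hzx, hz⟩ := Flat.generalizingMap f hy
    refine ⟨z, hzx, fun hzT => ?_⟩
    have h0 : (⊥ : PrimeSpectrum A) = IsLocalRing.closedPoint A := hz.symm.trans (hTy z hzT)
    obtain ⟨q, _, hq0, hqm⟩ := ConnCompl.exists_between A hdim
    exact (lt_of_le_of_lt bot_le hqm).ne (congrArg PrimeSpectrum.asIdeal h0)
  obtain ⟨x₀⟩ := (inferInstance : Nonempty ↥X)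
  obtain ⟨z₀, -, hz₀⟩ := hgen x₀
  refine ⟨⟨z₀, hz₀⟩, fun U V hU hV hcov hUne hVne => ?_⟩
  by_contra hne
  rw [Set.not_nonempty_iff_eq_empty] at hne
  let W₁ := Tᶜ ∩ U
  let W₂ := Tᶜ ∩ V
  have hW₁ : IsOpen W₁ := hT.isOpen_compl.inter hU
  have hW₂ : IsOpen W₂ := hT.isOpen_compl.inter hV
  have hWd : Disjoint W₁ W₂ := Set.disjoint_left.2 fun z h₁ h₂ =>
    (Set.eq_empty_iff_forall_notMem.1 hne) z ⟨h₁.1, h₁.2, h₂.2⟩
  have hW : ∀ z, z ∉ T → z ∈ W₁ ∪ W₂ := fun z hz =>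
    (hcov hz).imp (fun h => ⟨hz, h⟩) (fun h => ⟨hz, h⟩)
  -- the closures are disjoint
  have hcl : ∀ x, x ∈ closure W₁ → x ∈ closure W₂ → False := by
    intro x hx₁ hx₂
    by_cases hxT : x ∈ T
    swap
    · rcases hW x hxT with h | h
      · obtain ⟨z, hz₁, hz₂⟩ := mem_closure_iff.1 hx₂ W₁ hW₁ h
        exact hWd.le_bot ⟨hz₁, hz₂⟩
      · obtain ⟨z, hz₁, hz₂⟩ := mem_closure_iff.1 hx₁ W₂ hW₂ h
        exact hWd.le_bot ⟨hz₂, hz₁⟩
    obtain ⟨R₀, ι, hι, hxι, -⟩ :=
      AlgebraicGeometry.Scheme.exists_affine_mem_range_and_range_subset (X := X) (U := ⊤) (x := x) trivial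
    obtain ⟨φ, hφ⟩ := Spec.map_surjective (ι ≫ f)
    letI : Algebra A R₀ := φ.hom.toAlgebra
    haveI : Flat (Spec.map φ) := hφ ▸ inferInstance
    haveI : Module.Flat A R₀ := (HasRingHomProperty.Spec_iff (P := @Flat)).1 ‹Flat (Spec.map φ)›
    obtain ⟨p₀, rfl⟩ := hxι
    have hf : ∀ p, f.base (ι.base p) = PrimeSpectrum.comap φ.hom p := fun p =>
      (Scheme.Hom.comp_apply ι f p).symm.trans (by rw [← hφ]; rfl)
    obtain ⟨N, hN, hpN, hd⟩ := ConnCompl.exists_open_disjoint_of_isGeomUnibranch A R₀ hA hdim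
      (ι.base ⁻¹' W₁) (ι.base ⁻¹' W₂) (hW₁.preimage ι.base.hom.continuous)
      (hW₂.preimage ι.base.hom.continuous) (hWd.preimage _)
      (fun p hp => hW (ι.base p) fun hpT => hp (congrArg PrimeSpectrum.asIdeal ((hf p).symm.trans (hTy _ hpT))))
      p₀ (congrArg PrimeSpectrum.asIdeal ((hf p₀).symm.trans (hTy _ hxT)))
    have hopen : IsOpen (ι.base '' N) := ι.isOpenEmbedding.isOpenMap _ hN
    rcases hd with h | h
    · obtain ⟨_, ⟨z, hz, rfl⟩, hzW⟩ := mem_closure_iff.1 hx₁ _ hopen ⟨p₀, hpN, rfl⟩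
      exact h.le_bot ⟨hz, hzW⟩
    · obtain ⟨_, ⟨z, hz, rfl⟩, hzW⟩ := mem_closure_iff.1 hx₂ _ hopen ⟨p₀, hpN, rfl⟩
      exact h.le_bot ⟨hz, hzW⟩
  have hall : (Set.univ : Set ↥X) ⊆ closure W₁ ∪ closure W₂ := by
    intro x _
    obtain ⟨z, hzx, hz⟩ := hgen x
    rcases hW z hz with h | h
    · exact Or.inl (hzx.mem_closed isClosed_closure (subset_closure h))
    · exact Or.inr (hzx.mem_closed isClosed_closure (subset_closure h))
  obtain ⟨u, hu⟩ := hUne
  obtain ⟨v, hv⟩ := hVne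
  obtain ⟨x, -, h₁, h₂⟩ := isPreconnected_closed_iff.1 isPreconnected_univ (closure W₁) (closure W₂)
    isClosed_closure isClosed_closure hall ⟨u, trivial, subset_closure hu⟩
    ⟨v, trivial, subset_closure hv⟩
  exact hcl x h₁ h₂

end Groth.Agent.S5046
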