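import Groth.Statements.S5048
import Mathlib


set_option autoImplicit false
open CategoryTheory AlgebraicGeometry
universe u
open Unram

namespace Groth.Agent.S5048

/-- Let Y be an irreducible scheme with generic point η and f : X ⟶ Y flat, locally of finite type and
locally quasi-finite. Then a point x of X maps to η if and only if its closure is an irreducible
component of X; thus the irreducible components of X are in canonical bijection with the fibre over
η. -/
theorem result {X Y : Scheme.{u}} [IrreducibleSpace ↥Y] (f : X ⟶ Y)
    [Flat f] [LocallyOfFiniteType f] [LocallyQuasiFinite f] (x : X) :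
    f.base x = genericPoint Y ↔ closure ({x} : Set ↥X) ∈ irreducibleComponents ↥X := by

  constructor
  · intro h
    refine ⟨isIrreducible_singleton.closure, fun Z hZ hle => ?_⟩
    obtain ⟨z, hz⟩ := QuasiSober.sober hZ.closure isClosed_closure
    have hx : z ⤳ x := hz.specializes (subset_closure (hle (subset_closure rfl)))
    have hfz : f z = f x := by
      refine (Specializes.antisymm (hx.map f.continuous) ?_).eq
      have : f.base x ⤳ f z := h ▸ genericPoint_specializes (f z)
      exact this
    have : DiscreteTopology (f ⁻¹' {f x}) := (f.isDiscrete_preimage_singleton (f x)).to_subtype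
    have e : (⟨z, hfz⟩ : f ⁻¹' {f x}) = ⟨x, rfl⟩ :=
      ((subtype_specializes_iff _ _).2 hx).eq
    have e' : z = x := congrArg Subtype.val e
    exact (subset_closure.trans hz.def.ge).trans (by rw [e'])
  · intro h
    obtain ⟨c, hc, hcb⟩ := Flat.generalizingMap f (genericPoint_specializes (f x))
    have hle : closure ({x} : Set X) ⊆ closure {c} := specializes_iff_closure_subset.1 hc
    have hxc : x ⤳ c := specializes_iff_closure_subset.2 (h.2 isIrreducible_singleton.closure hle)
    show f x = _
    rw [(hxc.antisymm hc).eq]
    exact hcb

end Groth.Agent.S5048
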