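import Groth.Statements.S5049
import Mathlib.AlgebraicGeometry.Morphisms.UniversallyOpen
import Mathlib.AlgebraicGeometry.Morphisms.QuasiFinite
import Mathlib.Topology.Sober

set_option autoImplicit false
open CategoryTheory AlgebraicGeometry
universe u
open Unram

namespace Groth.Agent.S5049

/-- Let f : X ⟶ Y be flat, locally of finite type and locally quasi-finite. If the irreducible
components of Y form a locally finite family of subsets, then so do the irreducible components of X. -/
theorem result {X Y : Scheme.{u}} (f : X ⟶ Y)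
    [Flat f] [LocallyOfFiniteType f] [LocallyQuasiFinite f]
    (hY : LocallyFinite (fun Z : ↥(irreducibleComponents ↥Y) => (Z : Set ↥Y))) :
    LocallyFinite (fun Z : ↥(irreducibleComponents ↥X) => (Z : Set ↥X)) := by
  intro x
  obtain ⟨t, ht, htfin⟩ := hY (f x)
  obtain ⟨O, hOt, hO, hxO⟩ := mem_nhds_iff.mp ht
  obtain ⟨V, hV, hxV, hVO⟩ := exists_isAffineOpen_mem_and_subset (X := Y) (x := f x) (U := ⟨O, hO⟩) hxO
  obtain ⟨U, hU, hxU, hUV⟩ := exists_isAffineOpen_mem_and_subset (X := X) (x := x) (U := f ⁻¹ᵁ V) hxV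
  refine ⟨U, U.isOpen.mem_nhds hxU, ?_⟩
  have hle : U ≤ f ⁻¹ᵁ V := hUV
  have : IsAffine (U : Scheme.{u}) := hU
  have : IsAffine (V : Scheme.{u}) := hV
  have : LocallyQuasiFinite (f.resLE V U hle ≫ V.ι) := by
    rw [Scheme.Hom.resLE_comp_ι]; infer_instance
  have : LocallyQuasiFinite (f.resLE V U hle) := LocallyQuasiFinite.of_comp _ V.ι
  -- generic points of the components of `Y` meeting `V`
  set G := {y : Y | y ∈ genericPoints Y ∧ y ∈ V} with hG
  have hGfin : G.Finite := by
    have h1 := htfin.preimage (f := genericPoints.component (α := Y)) genericPoints.component_injective.injOn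
    refine (h1.image Subtype.val).subset fun y hy => ⟨⟨y, hy.1⟩, ⟨y, subset_closure rfl, hOt (hVO hy.2)⟩, rfl⟩
  have hfib : ((f ⁻¹' G) ∩ (U : Set X)).Finite := by
    refine (((f.resLE V U hle).finite_preimage (hGfin.preimage (f := V.ι) V.ι.isOpenEmbedding.injective.injOn)).image U.ι).subset ?_
    rintro z ⟨hz, hzU⟩
    refine ⟨⟨z, hzU⟩, ?_, rfl⟩
    show V.ι (f.resLE V U hle ⟨z, hzU⟩) ∈ G
    rw [← Scheme.Hom.comp_apply, Scheme.Hom.resLE_comp_ι]
    exact hz
  have hsurj : Function.Surjective (genericPoints.component (α := X)) := genericPoints.component_surjective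
  refine ((hfib.preimage (f := Subtype.val) Subtype.val_injective.injOn).image (genericPoints.component (α := X))).subset ?_
  intro Z hZ
  obtain ⟨η, rfl⟩ := hsurj Z
  obtain ⟨z, hzη, hzU⟩ := hZ
  have hηU : η.1 ∈ U :=
    (show η.1 ⤳ z from ((genericPoints.isGenericPoint η).specializes hzη)).mem_open U.isOpen hzU
  refine ⟨η, ⟨⟨?_, hle hηU⟩, hηU⟩, rfl⟩
  refine ⟨isIrreducible_singleton.closure, fun S hS hle' w hw => ?_⟩
  have hcl : f η.1 ∈ closure S := subset_closure (hle' (subset_closure rfl))
  obtain ⟨w', hw'η, hw'⟩ := Flat.generalizingMap f (hS.isGenericPoint_genericPoint_closure.specializes hcl)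
  have hw'eq : w' ∈ closure {η.1} := by
    have h3 : closure {w'} ⊆ closure {η.1} :=
      η.2.2 isIrreducible_singleton.closure (closure_minimal (Set.singleton_subset_iff.mpr hw'η.mem_closure) isClosed_closure)
    exact h3 (subset_closure rfl)
  have h4 : f w' ∈ closure {f η.1} :=
    image_closure_subset_closure_image f.continuous ⟨w', hw'eq, rfl⟩ |> (fun h => by rwa [Set.image_singleton] at h)
  have h5 : closure S ⊆ closure {f η.1} := by
    rw [← hS.isGenericPoint_genericPoint_closure.def, ← hw']
    exact closure_minimal (Set.singleton_subset_iff.mpr h4) isClosed_closure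
  exact h5 (subset_closure hw)

end Groth.Agent.S5049
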