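import Mathlib
import Groth.Statements.S5050
-- import your own Groth.Agent.* helpers here

set_option autoImplicit false
universe u v
open CInt

namespace Groth.Agent.S5050

/-- Let A be a Noetherian ring, N a finitely generated A-module, E and F submodules of N and Q an ideal
of A. For every natural number k there is h > 0 with E ⊓ (F ⊔ Q^h N) ≤ (E ⊓ F) ⊔ Q^k N. -/
theorem result {A : Type u} [CommRing A] [IsNoetherianRing A] {N : Type v} [AddCommGroup N]
    [Module A N] [Module.Finite A N] (E F : Submodule A N) (Q : Ideal A) (k : ℕ) :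
    ∃ h : ℕ, 0 < h ∧ E ⊓ (F ⊔ Q ^ h • (⊤ : Submodule A N)) ≤ (E ⊓ F) ⊔ Q ^ k • (⊤ : Submodule A N) := by
  obtain ⟨c, hc⟩ := Q.exists_pow_inf_eq_pow_smul (E.map F.mkQ)
  refine ⟨k + c + 1, by omega, fun x hx => ?_⟩
  obtain ⟨hxE, hxF⟩ := hx
  have h1 : F.mkQ x ∈ (Q ^ (k + c + 1) • ⊤ : Submodule A (N ⧸ F)) ⊓ E.map F.mkQ := by
    refine ⟨?_, Submodule.mem_map_of_mem hxE⟩
    obtain ⟨a, ha, b, hb, rfl⟩ := Submodule.mem_sup.mp hxF
    rw [map_add, Submodule.mkQ_apply, (Submodule.Quotient.mk_eq_zero F).mpr ha, zero_add, ← Submodule.range_mkQ F, ← Submodule.map_top,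
      ← Submodule.map_smul'']
    exact Submodule.mem_map_of_mem hb
  rw [hc _ (by omega)] at h1
  have h2 : F.mkQ x ∈ (Q ^ k • E).map F.mkQ := by
    rw [Submodule.map_smul'']
    exact Submodule.smul_mono (Ideal.pow_le_pow_right (by omega)) inf_le_right h1
  obtain ⟨e, he, hex⟩ := h2
  rw [← sub_add_cancel x e]
  refine Submodule.add_mem_sup ⟨sub_mem hxE (Submodule.smul_le_right he), ?_⟩ (Submodule.smul_mono le_rfl le_top he)
  exact (Submodule.Quotient.eq F).mp hex.symm

end Groth.Agent.S5050
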