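import Groth.Statements.S5055
import Groth.Agent.ComplDeriv.Free
import Groth.Agent.ComplDeriv.GeomReg

set_option autoImplicit false
universe u
open EGA418

namespace Groth.Agent.S5055

/-- Let k be a field, A a complete Noetherian local k-algebra of Krull dimension n whose residue field
is a finite extension of k, p a prime ideal distinct from the maximal ideal and containing a minimal
prime q with dim A/q = n, and Ω̂ the completion of the module of differentials of A over k. If the
A_p-module Ω̂_p is generated by n elements, then it is free of rank n and A_p is a geometrically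
regular k-algebra. -/
theorem result (k A : Type u) [Field k] [CommRing A]
    [IsLocalRing A] [IsNoetherianRing A] [Algebra k A] [IsAdicComplete (IsLocalRing.maximalIdeal A) A]
    [Module.Finite k (IsLocalRing.ResidueField A)]
    (n : ℕ) (hn : ringKrullDim A = n) (p : Ideal A) [p.IsPrime] (hp : p ≠ IsLocalRing.maximalIdeal A)
    (hq : ∃ q ∈ minimalPrimes A, q ≤ p ∧ ringKrullDim (A ⧸ q) = n)
    (hgen : ∃ s : Fin n → (LocalizedModule p.primeCompl (AdicCompletion (IsLocalRing.maximalIdeal A) (KaehlerDifferential k A))), Submodule.span (Localization.AtPrime p) (Set.range s) = ⊤) :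
    (Module.Free (Localization.AtPrime p) (LocalizedModule p.primeCompl (AdicCompletion (IsLocalRing.maximalIdeal A) (KaehlerDifferential k A))) ∧
      Module.finrank (Localization.AtPrime p) (LocalizedModule p.primeCompl (AdicCompletion (IsLocalRing.maximalIdeal A) (KaehlerDifferential k A))) = n) ∧
      CAlg.IsGeometricallyRegular k (Localization.AtPrime p) := by
  classical
  obtain ⟨w, hw⟩ := hgen
  obtain ⟨q, hq, hqp, hdim⟩ := hq
  have := hq.isPrime
  have hfinOm := (ComplDeriv.exists_finite_gen k A).1
  have hV := ComplDeriv.finrank_fibre_le_of_span k A p w hw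
  obtain ⟨_, _, hloc, hf, hu⟩ := ComplDeriv.exists_unramified k A p hp n hn.le hV
  let P := MvPowerSeries (Fin n) k
  have hreg := PP16Lib.isRegularLocalRing_mvPowerSeries n k
  have : IsDomain P := NoZeroDivisors.to_isDomain _
  have : IsRegularRing P := RegularSerre.isRegularRing_of_isRegularLocalRing _
  have : IsIntegrallyClosed P := DepthLib.isIntegrallyClosed_of_isRegularLocalRing _
  have hinj : q.comap (algebraMap P A) = ⊥ := by
    have hPdim := CohenStruct.ringKrullDim_mvPowerSeries_le (Λ := k) n ∅
      (by rw [Finset.coe_empty, Ideal.span_empty]; exact IsLocalRing.isField_iff_maximalIdeal_eq.mp (Field.toIsField k))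
    have hfin : ((Ideal.Quotient.mk q).comp (algebraMap P A)).Finite :=
      (RingHom.Finite.of_surjective _ Ideal.Quotient.mk_surjective).comp (RingHom.finite_algebraMap.mpr hf)
    have h1 := CohenStruct.injective_of_finite_of_dim _ hfin (by simpa using hPdim) hdim.ge
    rw [RingHom.injective_iff_ker_eq_bot, ← RingHom.comap_ker, Ideal.mk_ker] at h1
    exact h1
  have hregp : IsRegularLocalRing (Localization.AtPrime p) :=
    ComplDeriv.isRegularLocalRing_atPrime_of_unramified (P := P) q p hqp hinj
  have := DepthLib.isDomain_of_isRegularLocalRing (Localization.AtPrime p)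
  have hbot := ComplDeriv.map_minimalPrime_eq_bot hq hqp
  have hsp := ComplDeriv.span_of_unramified k A p (m := n)
  let b := Module.Basis.mk (ComplDeriv.linearIndependent_of_span k A q p hqp n hdim hbot _ hsp)
    ((ComplDeriv.localized_span_eq_top_iff p _).mpr hsp).ge
  exact ⟨⟨Module.Free.of_basis b, (Module.finrank_eq_card_basis b).trans (Fintype.card_fin n)⟩,
    ComplDeriv.isGeometricallyRegular_atPrime k A q p hq hinj hbot⟩
end Groth.Agent.S5055
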