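import Groth.Statements.S5057
import Mathlib
-- import your own Groth.Agent.* helpers here

set_option autoImplicit false
open CategoryTheory CategoryTheory.Limits AlgebraicGeometry
universe u
open Hensel

namespace Groth.Agent.S5057

/-- Let i : S₀ ⟶ S be a closed immersion such that for every finite morphism g : S' ⟶ S every
open-closed subset of S' ×_S S₀ is the inverse image under the first projection of exactly one
open-closed subset of S'. Then for every finite morphism g : S' ⟶ S, every open subset of S'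
containing the image of S' ×_S S₀ is all of S'. -/
theorem result {S S₀ : Scheme.{u}} (i : S₀ ⟶ S) [IsClosedImmersion i]
    (ha : ∀ (S' : Scheme.{u}) (g : S' ⟶ S), IsFinite g →
      ∀ V : Set ↥(pullback g i), IsClopen V → ∃! U : Set ↥S', IsClopen U ∧ (pullback.fst g i).base ⁻¹' U = V)
    {S' : Scheme.{u}} (g : S' ⟶ S) [IsFinite g] (U : Set ↥S') (hU : IsOpen U)
    (hU₀ : Set.range (pullback.fst g i).base ⊆ U) : U = Set.univ := by
  let Z : TopologicalSpace.Closeds ↥S' := ⟨Uᶜ, hU.isClosed_compl⟩
  let I := Scheme.IdealSheafData.vanishingIdeal Z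
  have hrange : Set.range I.subschemeι.base = (Uᶜ : Set ↥S') :=
    I.range_subschemeι.trans (Scheme.IdealSheafData.coe_support_vanishingIdeal _)
  haveI hfin : IsFinite (I.subschemeι ≫ g) := inferInstance
  have hempty : IsEmpty ↥(pullback (I.subschemeι ≫ g) i) := by
    refine ⟨fun w => ?_⟩
    let m : pullback (I.subschemeι ≫ g) i ⟶ pullback g i :=
      pullback.map _ _ _ _ I.subschemeι (𝟙 _) (𝟙 _) (by simp) (by simp)
    have h1 : (pullback.fst g i).base (m.base w) ∈ U := hU₀ ⟨_, rfl⟩
    have h2 : I.subschemeι.base ((pullback.fst (I.subschemeι ≫ g) i).base w) ∈ (Uᶜ : Set ↥S') :=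
      hrange ▸ ⟨_, rfl⟩
    apply h2
    have e : m ≫ pullback.fst g i = pullback.fst (I.subschemeι ≫ g) i ≫ I.subschemeι :=
      pullback.lift_fst _ _ _
    have e' := congr(($e).base w)
    simp at e'
    rwa [← e']
  obtain ⟨W, -, hW⟩ := ha I.subscheme (I.subschemeι ≫ g) hfin ∅ isClopen_empty
  have e1 := hW ∅ ⟨isClopen_empty, Set.preimage_empty⟩
  have e2 := hW Set.univ ⟨isClopen_univ, Set.eq_empty_of_isEmpty _⟩
  refine Set.eq_univ_of_forall fun y => ?_
  by_contra hy
  obtain ⟨z, -⟩ : y ∈ Set.range I.subschemeι.base := hrange ▸ hy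
  have : z ∈ (∅ : Set ↥I.subscheme) := by rw [e1, ← e2]; trivial
  exact this

end Groth.Agent.S5057
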