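import Groth.Statements.S5060
import Groth.Agent.FlatDescent.NormallyFlat

set_option autoImplicit false
universe u
open CInt

namespace Groth.Agent.S5060

/-- a) iff d) in the Noetherian case: let A be a Noetherian ring, R an ideal, f_1, …, f_n elements of
the Jacobson radical of A forming a regular sequence on A/R and on every R^k/R^(k+1), Q = R + (f_1,
…, f_n), and M a finitely generated A-module. Then every R^k M / R^(k+1) M is flat over A/R if and
only if every Q^k M / Q^(k+1) M is flat over A/Q and, for every associated prime p of A/Q viewed as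
an (A/R)-module, every localized piece (R^k M / R^(k+1) M)_p is flat over (A/R)_p. -/
theorem result (A : Type u) [CommRing A] [IsNoetherianRing A]
    (R : Ideal A) {n : ℕ} (f : Fin n → A) (hrad : ∀ i, f i ∈ (⊥ : Ideal A).jacobson)
    (hreg : RingTheory.Sequence.IsWeaklyRegular (A ⧸ R) (List.ofFn f))
    (hreggr : ∀ k : ℕ, RingTheory.Sequence.IsWeaklyRegular (↥(R ^ k • (⊤ : Submodule A A)) ⧸ (R • (⊤ : Submodule A ↥(R ^ k • (⊤ : Submodule A A))))) (List.ofFn f))
    (M : Type u) [AddCommGroup M] [Module A M] [Module.Finite A M] :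
    EGA4.IsNormallyFlat R M ↔
      EGA4.IsNormallyFlat (R ⊔ Ideal.span (Set.range f)) M ∧
        ∀ (p : Ideal (A ⧸ R)) [p.IsPrime],
          p ∈ associatedPrimes (A ⧸ R) ((A ⧸ R) ⧸ Ideal.map (Ideal.Quotient.mk R) (R ⊔ Ideal.span (Set.range f))) →
            ∀ k : ℕ, Module.Flat (Localization.AtPrime p) (LocalizedModule p.primeCompl (↥(R ^ k • (⊤ : Submodule A M)) ⧸ (R • (⊤ : Submodule A ↥(R ^ k • (⊤ : Submodule A M)))))) := by
  have hspan : Ideal.span (Set.range f) = Ideal.ofList (List.ofFn f) := by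
    rw [Ideal.ofList]
    congr 1
    ext x
    simp [List.mem_ofFn]
  rw [hspan]
  set Q := R ⊔ Ideal.ofList (List.ofFn f) with hQdef
  constructor
  · intro h
    refine ⟨Groth.FlatDescent.NormallyFlat.isNormallyFlat_sup_ofList hreg h, fun p _ _ k => ?_⟩
    haveI := h k
    infer_instance
  · rintro ⟨hQ, hloc⟩
    let Qb : Ideal (A ⧸ R) := Q.map (Ideal.Quotient.mk R)
    let T : Set (Ideal A) :=
      {q | ∃ p ∈ associatedPrimes (A ⧸ R) ((A ⧸ R) ⧸ Qb), p.comap (Ideal.Quotient.mk R) = q}
    have hT : Groth.FlatDescent.NormallyFlat.Covers T Q := by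
      intro P hP
      let φ : A →ₗ[A] (A ⧸ R) ⧸ Qb :=
        ((Submodule.mkQ Qb).restrictScalars A).comp (Algebra.linearMap A (A ⧸ R))
      have hφ : Function.Surjective φ := (Submodule.mkQ_surjective _).comp Ideal.Quotient.mk_surjective
      have hker : LinearMap.ker φ = Q := by
        ext a
        have h1 : φ a = 0 ↔ a ∈ Qb.comap (Ideal.Quotient.mk R) := Submodule.Quotient.mk_eq_zero _
        rw [LinearMap.mem_ker, h1, Ideal.comap_map_of_surjective _ Ideal.Quotient.mk_surjective,
          ← RingHom.ker_eq_comap_bot, Ideal.mk_ker, sup_eq_left.mpr le_sup_left]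
      let e : (A ⧸ Q) ≃ₗ[A] (A ⧸ R) ⧸ Qb :=
        Submodule.quotEquivOfEq _ _ hker.symm ≪≫ₗ φ.quotKerEquivOfSurjective hφ
      obtain ⟨hprime, x, hx⟩ := isAssociatedPrime_iff.mp (e.isAssociatedPrime_iff.mp (AssociatedPrimes.mem_iff.mp hP))
      set p := Submodule.colon (⊥ : Submodule (A ⧸ R) ((A ⧸ R) ⧸ Qb)) {x} with hp
      have hcomap : p.comap (Ideal.Quotient.mk R) = P := by
        ext a
        rw [Ideal.mem_comap, hp, hx, Submodule.mem_colon_singleton, Submodule.mem_colon_singleton,
          Submodule.mem_bot, Submodule.mem_bot, ← Ideal.Quotient.algebraMap_eq, algebraMap_smul]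
      refine ⟨P, ⟨p, ?_, hcomap⟩, le_rfl⟩
      rw [AssociatedPrimes.mem_iff, isAssociatedPrime_iff]
      refine ⟨?_, x, hp⟩
      rw [← Ideal.map_comap_of_surjective _ Ideal.Quotient.mk_surjective p, hcomap]
      refine Ideal.map_isPrime_of_surjective (H := hprime) Ideal.Quotient.mk_surjective ?_
      rw [Ideal.mk_ker, ← hcomap]
      intro a ha
      rw [Ideal.mem_comap, Ideal.Quotient.eq_zero_iff_mem.mpr ha]
      exact zero_mem _
    refine (Groth.FlatDescent.NormallyFlat.isNormallyFlat_of_sup_ofList (fun g hg => ?_) hreg hT hQ ?_).1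
    · obtain ⟨i, rfl⟩ := List.mem_ofFn.mp hg
      exact hrad i
    · rintro q ⟨p, hp, rfl⟩
      haveI := hp.isPrime
      exact ⟨inferInstance,
        (Groth.FlatDescent.NormallyFlat.isNormallyFlat_localizedModule_iff R p).mpr (hloc p hp)⟩

end Groth.Agent.S5060
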