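import Groth.Statements.S5064
import Groth.Agent.EtLocalLib.Split
import Groth.Agent.FibrewiseCrit.Unramified
import Groth.Agent.FlatDescent.FieldDescent
-- import your own Groth.Agent.* helpers here

set_option autoImplicit false
open CategoryTheory CategoryTheory.Limits AlgebraicGeometry
universe u
open Unram

namespace Groth.Agent.S5064

/-- Let f : X ⟶ Y be locally of finite presentation. If f is étale then there are étale morphisms g_a :
Y'_a ⟶ Y and opens U_a of the fibre products X ×_Y Y'_a whose images under the first projections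
cover X, such that each U_a ⟶ Y'_a (inclusion followed by the second projection) is an open
immersion. Conversely, the existence of such a family with the g_a only assumed flat implies that f
is étale. -/
theorem result {X Y : Scheme.{u}} (f : X ⟶ Y) [LocallyOfFinitePresentation f] :
    (Etale f → ∃ (ι : Type u) (Y' : ι → Scheme.{u}) (g : ∀ a, Y' a ⟶ Y) (U : ∀ a, (pullback f (g a)).Opens),
      (∀ a, Etale (g a)) ∧ (∀ x : X, ∃ a, x ∈ (pullback.fst f (g a)).base '' (U a : Set ↥(pullback f (g a)))) ∧
        ∀ a, IsOpenImmersion ((U a).ι ≫ pullback.snd f (g a))) ∧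
    ((∃ (ι : Type u) (Y' : ι → Scheme.{u}) (g : ∀ a, Y' a ⟶ Y) (U : ∀ a, (pullback f (g a)).Opens),
      (∀ a, Flat (g a)) ∧ (∀ x : X, ∃ a, x ∈ (pullback.fst f (g a)).base '' (U a : Set ↥(pullback f (g a)))) ∧
        ∀ a, IsOpenImmersion ((U a).ι ≫ pullback.snd f (g a))) → Etale f) := by
  refine ⟨fun hf => ?_, ?_⟩
  · have key : ∀ x : X, ∃ (Y' : Scheme.{u}) (g : Y' ⟶ Y) (U : (Limits.pullback f g).Opens),
        Etale g ∧ x ∈ (Limits.pullback.fst f g).base '' (U : Set ↥(Limits.pullback f g)) ∧
          IsOpenImmersion (U.ι ≫ Limits.pullback.snd f g) := by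
      intro x
      obtain ⟨W, g, u, hg, hgu, K, hK, lab, V, hV, -, hcov⟩ :=
        Groth.Agent.EtLocalLib.exists_sheets_of_etale f (f x) (ι := Unit) (fun _ => x)
          (fun _ _ _ => rfl) (fun _ => rfl) (fun _ => ⟨⊤, trivial, inferInstance⟩)
      obtain ⟨w, hw1, hw2⟩ := Scheme.Pullback.exists_preimage_pullback (f := f) (g := g) x u hgu.symm
      obtain ⟨k, -, hk⟩ := hcov w () hw2 hw1
      haveI : IsIso ((V k).ι ≫ Limits.pullback.snd f g) := (hV k).1
      exact ⟨W, g, V k, hg, ⟨w, hk, hw1⟩, inferInstance⟩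
    choose Y' g U hg hx hU using key
    exact ⟨X, Y', g, U, hg, fun x => ⟨x, hx x⟩, hU⟩
  · rintro ⟨ι, Y', g, U, hg, hcov, hU⟩
    haveI : FormallyUnramified f := by
      rw [Groth.FibrewiseCrit.formallyUnramified_iff_forall_mem_fuLocus]
      intro x
      obtain ⟨a, w, hw, rfl⟩ := hcov x
      haveI := hU a
      refine (Groth.FibrewiseCrit.mem_fuLocus_snd f (g a) w).1 ?_
      let z : (U a).toScheme := ⟨w, hw⟩
      have hz := (Groth.FibrewiseCrit.formallyUnramified_iff_forall_mem_fuLocus ((U a).ι ≫ Limits.pullback.snd f (g a))).1 inferInstance z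
      exact (Groth.FibrewiseCrit.mem_fuLocus_comp_left (U a).ι (Limits.pullback.snd f (g a)) z).1 hz
    have key : ∀ {P Q T : Scheme.{u}} (i : P ⟶ Q) [IsOpenImmersion i] (s : Q ⟶ T) (z : P),
        ((i ≫ s).stalkMap z).hom.Flat → (s.stalkMap (i z)).hom.Flat := by
      intro P Q T i _ s z h
      rw [Scheme.Hom.stalkMap_comp] at h
      exact (RingHom.Flat.respectsIso.cancel_right_isIso _ _).1 h
    haveI : Flat f := by
      refine (Flat.iff_flat_stalkMap f).2 fun x => ?_
      obtain ⟨a, w, hw, rfl⟩ := hcov x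
      haveI := hU a
      haveI := hg a
      have h1 : ((Limits.pullback.snd f (g a)).stalkMap w).hom.Flat := by
        let z : (U a).toScheme := ⟨w, hw⟩
        have h := Flat.stalkMap ((U a).ι ≫ Limits.pullback.snd f (g a)) z
        exact key (U a).ι (Limits.pullback.snd f (g a)) z h
      have h2 : ((Limits.pullback.snd f (g a) ≫ g a).stalkMap w).hom.Flat := by
        rw [Scheme.Hom.stalkMap_comp]
        exact RingHom.Flat.comp (Flat.stalkMap (g a) _) h1
      rw [← Limits.pullback.condition] at h2
      exact Groth.FlatDescent.flat_stalkMap_of_comp (Limits.pullback.fst f (g a)) f w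
        (Flat.stalkMap (Limits.pullback.fst f (g a)) w) h2
    exact Etale.of_formallyUnramified_of_flat f

end Groth.Agent.S5064
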