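import Groth.Statements.S5065
import Groth.Agent.HenselLib.EtaleNormal
import Mathlib
-- import your own Groth.Agent.* helpers here

set_option autoImplicit false
universe u
open Unram

namespace Groth.Agent.S5065

section
open scoped TensorProduct

theorem main (A' C' L₁ : Type u) [CommRing A'] [IsDomain A'] [IsIntegrallyClosed A'] [CommRing C'] [Algebra A' C']
    [Algebra.Etale A' C'] [Field L₁] [Algebra A' L₁] (hinj' : Function.Injective (algebraMap A' L₁))
    (φ : C' →ₐ[A'] L₁) (hφint : ∀ c, IsIntegral A' (φ c))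
    (hgen : Subfield.closure (φ.range : Set L₁) = ⊤) :
    integralClosure A' L₁ = φ.range ∧ Algebra.Etale A' φ.range := by
  classical
  let K := FractionRing A'
  letI algK : Algebra K L₁ := (IsFractionRing.lift hinj').toAlgebra
  haveI : IsScalarTower A' K L₁ := IsScalarTower.of_algebraMap_eq fun x => (IsFractionRing.lift_algebraMap hinj' x).symm
  let Ψ : C' ⊗[A'] K →ₐ[A'] L₁ :=
    Algebra.TensorProduct.lift φ (IsScalarTower.toAlgHom A' K L₁) (fun _ _ => mul_comm _ _)
  let Ψ' : K ⊗[A'] C' →ₐ[K] L₁ :=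
    Algebra.TensorProduct.lift (Algebra.ofId K L₁) φ (fun _ _ => mul_comm _ _)
  have : Module.Finite K (K ⊗[A'] C') := Algebra.FormallyUnramified.finite_of_free K (K ⊗[A'] C')
  have : IsArtinianRing (K ⊗[A'] C') := IsArtinianRing.of_finite K (K ⊗[A'] C')
  have : IsReduced (K ⊗[A'] C') := Algebra.FormallyUnramified.isReduced_of_field K (K ⊗[A'] C')
  haveI : Module.Finite K Ψ'.range := Module.Finite.range Ψ'.toLinearMap
  have hfield : IsField Ψ'.range := by
    haveI : IsArtinianRing Ψ'.range := IsArtinianRing.of_finite K _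
    exact IsArtinianRing.isField_of_isDomain _
  have hinv : ∀ z ∈ Ψ'.range, z⁻¹ ∈ Ψ'.range := fun z hz => by
    by_cases h0 : z = 0
    · simp [h0]
    obtain ⟨w, hw⟩ := hfield.mul_inv_cancel (a := (⟨z, hz⟩ : Ψ'.range)) (fun h => h0 (congrArg Subtype.val h))
    have hzw : z * (w : L₁) = 1 := congrArg Subtype.val hw
    rw [← eq_inv_of_mul_eq_one_right hzw]
    exact w.2
  let F : Subfield L₁ := { Ψ'.range.toSubring with inv_mem' := hinv }
  have htop : ∀ z : L₁, z ∈ Ψ'.range := by
    intro z
    have h : Subfield.closure (φ.range : Set L₁) ≤ F := by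
      refine Subfield.closure_le.2 ?_
      rintro _ ⟨c, rfl⟩
      exact ⟨1 ⊗ₜ c, by simp [Ψ']⟩
    exact h (hgen ▸ Subfield.mem_top z)
  have hcomm : ∀ z, Ψ (Algebra.TensorProduct.comm A' K C' z) = Ψ' z := by
    intro z
    induction z using TensorProduct.induction_on with
    | zero => simp
    | tmul k c => simp [Ψ, Ψ', mul_comm]
    | add a b ha hb => simp only [map_add, ha, hb]
  have hΨs : Function.Surjective Ψ := fun z => by
    obtain ⟨w, hw⟩ := htop z
    exact ⟨_, (hcomm w).trans hw⟩
  let J := RingHom.ker Ψ'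
  have hJ : IsIdempotentElem J := by
    refine le_antisymm Ideal.mul_le_left fun x hx => ?_
    obtain ⟨y, hy⟩ := HenselLib.exists_mul_self_mul_eq x
    rw [← hy, mul_assoc]
    exact Ideal.mul_mem_mul hx (J.mul_mem_right _ hx)
  haveI : IsNoetherianRing (K ⊗[A'] C') := inferInstance
  obtain ⟨eK, heK, hJe⟩ := (Ideal.isIdempotentElem_iff_of_fg J (IsNoetherian.noetherian J)).1 hJ
  let eK' := Algebra.TensorProduct.comm A' K C' eK
  have heK' : IsIdempotentElem eK' := heK.map (Algebra.TensorProduct.comm A' K C')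
  obtain ⟨e, he⟩ := HenselLib.exists_tmul_one_eq_of_isIntegral A' C' (z := eK')
    ⟨.X ^ 2 - .X, Polynomial.monic_X_pow_sub (Polynomial.degree_X_le.trans_lt (by norm_num)), by simp [pow_two, heK'.eq]⟩
  have hker : ∀ z, Ψ z = 0 → z = (e ⊗ₜ[A'] (1 : K)) * z := by
    intro z hz
    obtain ⟨w, rfl⟩ := (Algebra.TensorProduct.comm A' K C').surjective z
    rw [hcomm] at hz
    have hw : w ∈ J := hz
    rw [hJe] at hw
    obtain ⟨c, rfl⟩ := Ideal.mem_span_singleton'.1 hw
    rw [he, ← map_mul]
    congr 1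
    rw [mul_left_comm, heK.eq]
  have hΨe : Ψ (e ⊗ₜ[A'] (1 : K)) = 0 := by
    rw [he, hcomm]
    exact (hJe ▸ Ideal.mem_span_singleton_self eK : eK ∈ J)
  have inj : ∀ a b : C', a ⊗ₜ[A'] (1 : K) = b ⊗ₜ 1 → a = b := fun a b h => sub_eq_zero.mp
    (HenselLib.etale_tmul_eq_zero A' C' (by rw [TensorProduct.sub_tmul, h, sub_self]))
  have hΨ1 : ∀ c : C', Ψ (c ⊗ₜ 1) = φ c := fun c => by simp [Ψ]
  have hφker : RingHom.ker φ = Ideal.span {e} := by
    refine le_antisymm (fun x hx => ?_) ((Ideal.span_singleton_le_iff_mem _).2 ?_)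
    · refine Ideal.mem_span_singleton.2 ⟨x, inj _ _ ?_⟩
      conv_lhs => rw [hker (x ⊗ₜ 1) (by rw [hΨ1]; exact hx)]
      rw [Algebra.TensorProduct.tmul_mul_tmul, one_mul]
    · rw [RingHom.mem_ker, ← hΨ1, hΨe]
  have heC : IsIdempotentElem e := inj _ _ (by
    rw [← one_mul (1 : K), ← Algebra.TensorProduct.tmul_mul_tmul, one_mul, he, heK'.eq])
  have heq : integralClosure A' L₁ = φ.range := by
    refine le_antisymm (fun y hy => ?_) ?_
    · obtain ⟨p, hp, hpy⟩ := (hy : IsIntegral A' y)
      obtain ⟨z, rfl⟩ := hΨs y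
      have hf0 : (1 - e ⊗ₜ[A'] (1 : K)) * (e ⊗ₜ[A'] (1 : K)) = 0 := by
        rw [he, sub_mul, one_mul, heK'.eq, sub_self]
      set f := 1 - e ⊗ₜ[A'] (1 : K) with hfdef
      have hΨw : Ψ (z * f) = Ψ z := by rw [map_mul, hfdef, map_sub, map_one, hΨe, sub_zero, mul_one]
      have h0 : Polynomial.aeval (z * f) (Polynomial.X * p) = 0 := by
        rw [map_mul, Polynomial.aeval_X, mul_assoc]
        have h1 : Ψ (Polynomial.aeval (z * f) p) = 0 := by
          rw [← Polynomial.aeval_algHom_apply, hΨw]; exact hpy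
        rw [hker _ h1, ← mul_assoc f, hf0, zero_mul, mul_zero]
      have hint : IsIntegral C' (z * f) :=
        IsIntegral.tower_top (⟨Polynomial.X * p, Polynomial.monic_X.mul hp, h0⟩ : IsIntegral A' (z * f))
      obtain ⟨c, hc⟩ := HenselLib.exists_tmul_one_eq_of_isIntegral A' C' hint
      exact ⟨c, by show φ c = _; rw [← hΨ1, hc, hΨw]⟩
    · rintro _ ⟨c, rfl⟩
      exact hφint c
  refine ⟨heq, ?_⟩
  let eq1 : (C' ⧸ Ideal.span {e}) ≃ₐ[A'] φ.range :=
    (Ideal.quotientEquivAlgOfEq A' hφker.symm).trans (Ideal.quotientKerEquivRange φ)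
  haveI : IsLocalization.Away (1 - e) (C' ⧸ Ideal.span {e}) :=
    IsLocalization.away_of_isIdempotentElem heC.one_sub (by simp [Ideal.Quotient.algebraMap_eq, Ideal.mk_ker]) Ideal.Quotient.mk_surjective
  haveI : Algebra.Etale C' (C' ⧸ Ideal.span {e}) := Algebra.Etale.of_isLocalizationAway (1 - e)
  haveI : Algebra.Etale A' (C' ⧸ Ideal.span {e}) := Algebra.Etale.comp A' C' _
  exact Algebra.Etale.of_equiv eq1

end

/-- Let A ⊆ A' be integrally closed domains, L a field algebraic over the fraction field of A in which A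
embeds and whose integral closure C over A is an étale A-algebra, and L₁ a field in which A' and L
both embed, compatibly over A, and which is generated as a field by the images of A' and L (a
compositum of L with the fraction field of A'; the map A' → L₁ is injective, so that the fraction
field of A' is a subfield of L₁). Then the integral closure of A' in L₁ is an étale A'-algebra and
coincides with the A'-subalgebra generated by the image of C. -/
theorem result (A A' L L₁ : Type u) [CommRing A] [IsDomain A]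
    [IsIntegrallyClosed A] [CommRing A'] [IsDomain A'] [IsIntegrallyClosed A'] [Algebra A A']
    [Field L] [Algebra A L] [Algebra.IsAlgebraic A L] (hinj : Function.Injective (algebraMap A L))
    [Algebra.Etale A ↥(integralClosure A L)]
    [Field L₁] [Algebra A' L₁] [Algebra L L₁] [Algebra A L₁] [IsScalarTower A A' L₁] [IsScalarTower A L L₁]
    (hinj' : Function.Injective (algebraMap A' L₁))
    (hgen : Subfield.closure (Set.range (algebraMap A' L₁) ∪ Set.range (algebraMap L L₁)) = ⊤) :
    Algebra.Etale A' ↥(integralClosure A' L₁) ∧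
      integralClosure A' L₁ = Algebra.adjoin A' ((algebraMap L L₁) '' {x : L | IsIntegral A x}) := by
  classical
  letI : Algebra A' (TensorProduct A A' (integralClosure A L)) := Algebra.TensorProduct.leftAlgebra
  let iC : integralClosure A L →ₐ[A] L₁ := (IsScalarTower.toAlgHom A L L₁).comp (integralClosure A L).val
  let φ : TensorProduct A A' (integralClosure A L) →ₐ[A'] L₁ :=
    Algebra.TensorProduct.lift (Algebra.ofId A' L₁) iC (fun _ _ => mul_comm _ _)
  have hφt : ∀ a c, φ (a ⊗ₜ c) = algebraMap A' L₁ a * algebraMap L L₁ (c : L) := fun a c => by simp [φ, iC]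
  have hrange : Algebra.adjoin A' ((algebraMap L L₁) '' {x : L | IsIntegral A x}) = φ.range := by
    refine le_antisymm (Algebra.adjoin_le ?_) ?_
    · rintro _ ⟨x, hx, rfl⟩
      exact ⟨1 ⊗ₜ ⟨x, hx⟩, by show φ _ = _; rw [hφt, map_one, one_mul]⟩
    · rintro _ ⟨z, rfl⟩
      show φ z ∈ _
      induction z using TensorProduct.induction_on with
      | zero => rw [map_zero]; exact Subalgebra.zero_mem _
      | tmul a c =>
        rw [hφt]
        exact Subalgebra.mul_mem _ (Subalgebra.algebraMap_mem _ a) (Algebra.subset_adjoin ⟨c, c.2, rfl⟩)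
      | add a b ha hb => rw [map_add]; exact Subalgebra.add_mem _ ha hb
  have hint : ∀ c, IsIntegral A' (φ c) := fun c => by
    induction c using TensorProduct.induction_on with
    | zero => rw [map_zero]; exact isIntegral_zero
    | tmul a c =>
      rw [hφt]
      exact isIntegral_algebraMap.mul (IsIntegral.tower_top (c.2.map (IsScalarTower.toAlgHom A L L₁)))
    | add a b ha hb => rw [map_add]; exact ha.add hb
  have hgen' : Subfield.closure (φ.range : Set L₁) = ⊤ := by
    refine eq_top_iff.2 (hgen.ge.trans (Subfield.closure_le.2 (Set.union_subset ?_ ?_)))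
    · rintro _ ⟨a, rfl⟩
      exact Subfield.subset_closure ⟨a ⊗ₜ 1, by show φ _ = _; rw [hφt]; simp⟩
    · rintro _ ⟨l, rfl⟩
      obtain ⟨a, ha, hal⟩ := (Algebra.IsAlgebraic.isAlgebraic (R := A) l).exists_integral_multiple
      have ha' : algebraMap A L a ≠ 0 := fun h => ha (hinj (h.trans (map_zero _).symm))
      have ha'' : algebraMap L L₁ (algebraMap A L a) ≠ 0 := (map_ne_zero _).2 ha'
      have hl : algebraMap L L₁ l = algebraMap L L₁ (a • l) / algebraMap L L₁ (algebraMap A L a) := by
        rw [eq_div_iff ha'', ← map_mul, Algebra.smul_def, mul_comm]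
      rw [SetLike.mem_coe, hl]
      exact div_mem (Subfield.subset_closure ⟨1 ⊗ₜ ⟨a • l, hal⟩, by show φ _ = _; rw [hφt, map_one, one_mul]⟩)
        (Subfield.subset_closure ⟨1 ⊗ₜ ⟨algebraMap A L a, isIntegral_algebraMap⟩, by show φ _ = _; rw [hφt, map_one, one_mul]⟩)
  obtain ⟨h1, h2⟩ := main A' (TensorProduct A A' (integralClosure A L)) L₁ hinj' φ hint hgen'
  exact ⟨h1 ▸ h2, h1.trans hrange.symm⟩

end Groth.Agent.S5065
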