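import Groth.Statements.S5066
import Groth.Agent.HenselLib.Unique

set_option autoImplicit false
universe u
open Hensel

namespace Groth.Agent.S5066

/-- Case of a local ring, affine étale schemes: a local ring A with maximal ideal m is henselian if and
only if, for every finite A-algebra C and every étale A-algebra E, composing with the projection C →
C/mC is a bijection from the set of A-algebra homomorphisms E → C onto the set of A-algebra
homomorphisms E → C/mC. -/
theorem result (A : Type u) [CommRing A] [IsLocalRing A] :
    HenselianLocalRing A ↔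
      ∀ (C : Type u) [CommRing C] [Algebra A C] [Module.Finite A C] (E : Type u) [CommRing E] [Algebra A E] [Algebra.Etale A E],
        Function.Bijective (fun φ : E →ₐ[A] C =>
          (Ideal.Quotient.mkₐ A (Ideal.map (algebraMap A C) (IsLocalRing.maximalIdeal A))).comp φ) := by
  constructor
  · intro H C _ _ _ E _ _ _
    haveI := HenselLib.henselianRing_of_isIntegral (IsLocalRing.maximalIdeal A) C
    refine ⟨fun φ ψ h => ?_, fun σ => ?_⟩
    · exact HenselLib.algHom_ext_of_jacobson
        (HenselianRing.jac (I := (IsLocalRing.maximalIdeal A).map (algebraMap A C)))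
        fun x => Ideal.Quotient.eq.mp (AlgHom.congr_fun h x)
    · exact (HenselLib.existsUnique_lift
        ((IsLocalRing.maximalIdeal A).map (algebraMap A C)) σ).exists
  · intro h
    haveI : HenselianRing A (IsLocalRing.maximalIdeal A) := by
      refine HenselLib.henselianRing_of_liftsEtale fun E _ _ _ σ => ?_
      have e : (IsLocalRing.maximalIdeal A).map (algebraMap A A) = IsLocalRing.maximalIdeal A :=
        Ideal.map_id _
      obtain ⟨τ, hτ⟩ := (h A E).2 ((Ideal.quotientEquivAlgOfEq A e.symm).toAlgHom.comp σ)
      refine ⟨τ, AlgHom.ext fun x => ?_⟩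
      have h' := congrArg (Ideal.quotientEquivAlgOfEq A e) (AlgHom.congr_fun hτ x)
      obtain ⟨y, hy⟩ := Ideal.Quotient.mk_surjective (σ x)
      rw [AlgHom.comp_apply] at h'
      simp only [AlgHom.comp_apply, AlgEquiv.toAlgHom_eq_coe, AlgHom.coe_coe,
        Ideal.Quotient.mkₐ_eq_mk, ← hy, Ideal.quotientEquivAlgOfEq_mk] at h' ⊢
      exact h'
    exact HenselLib.henselianLocalRing_of_henselianRing

end Groth.Agent.S5066
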