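import Groth.Statements.S5067
import Mathlib
-- import your own Groth.Agent.* helpers here

set_option autoImplicit false
open CategoryTheory AlgebraicGeometry
universe u
open Unram

namespace Groth.Agent.S5067

/-- Let f : X ⟶ Y be an étale separated morphism of integral schemes which maps the generic point of X
to the generic point of Y and induces a bijection between the residue fields of the generic points
(f is birational). Then f is an open immersion. -/
theorem result {X Y : Scheme.{u}} [IsIntegral X] [IsIntegral Y]
    (f : X ⟶ Y) [Etale f] [IsSeparated f] (hgen : f.base (genericPoint X) = genericPoint Y)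
    (hbir : Function.Bijective (f.residueFieldMap (genericPoint X)).hom) : IsOpenImmersion f := by
  let p₁ := Limits.pullback.fst f f
  let p₂ := Limits.pullback.snd f f
  let Δ := Limits.pullback.diagonal f
  have hpre : ∀ x : X, f x = genericPoint Y → x = genericPoint X := fun x hx => by
    have : LocallyQuasiFinite f := by
      rw [HasRingHomProperty.iff_appLE (P := @LocallyQuasiFinite)]
      intro U V e
      have h₁ : (f.appLE U V e).hom.FiniteType := HasRingHomProperty.appLE (P := @LocallyOfFiniteType) f inferInstance U V e
      have h₂ : (f.appLE U V e).hom.FormallyUnramified :=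
        HasRingHomProperty.appLE (P := @FormallyUnramified) f inferInstance U V e
      algebraize [(f.appLE U V e).hom]
      exact { finite_fiber := fun P _ => Algebra.FormallyUnramified.finite_of_free P.ResidueField _ }
    have hdisc : _root_.IsDiscrete (f ⁻¹' {genericPoint Y}) := f.isDiscrete_preimage_singleton _
    have := hdisc.to_subtype
    have h : genericPoint X ⤳ x := genericPoint_specializes x
    exact ((subtype_specializes_iff (x := (⟨_, hgen⟩ : f ⁻¹' {genericPoint Y})) (y := ⟨x, hx⟩)).mpr h
      |> fun h' => congrArg Subtype.val h'.eq).symm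
  have hsurj : Surjective Δ := by
    refine ⟨fun z => ?_⟩
    obtain ⟨z', hz', hfst⟩ := Flat.generalizingMap p₁ (genericPoint_specializes (p₁ z))
    have hsnd : p₂ z' = genericPoint X := by
      refine hpre _ ?_
      rw [← Scheme.Hom.comp_apply, ← Limits.pullback.condition, Scheme.Hom.comp_apply, hfst, hgen]
    have hz'Δ : z' = Δ (genericPoint X) := by
      let T : Scheme.Pullback.Triplet f f :=
        Scheme.Pullback.Triplet.mk (genericPoint X) (genericPoint X) (f (genericPoint X)) rfl rfl
      have : Subsingleton {w : ↥(Limits.pullback f f) // p₁ w = genericPoint X ∧ p₂ w = genericPoint X} := by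
        refine ⟨fun a b => ?_⟩
        let e := Scheme.Pullback.carrierEquiv (f := f) (g := f)
        have key : ∀ w : ↥(Limits.pullback f f), p₁ w = genericPoint X → p₂ w = genericPoint X → (e w).1 = T :=
          fun w h1 h2 => Scheme.Pullback.Triplet.ext h1 h2
        have hs : Subsingleton (Spec T.tensor) := by
          let φ := f.residueFieldMap (genericPoint X)
          have : IsIso φ := (ConcreteCategory.isIso_iff_bijective φ).mpr hbir
          have : IsIso T.tensorInl := by
            dsimp [T, Scheme.Pullback.Triplet.tensorInl]
            have : IsIso (f.residueFieldMap (genericPoint X)) := (ConcreteCategory.isIso_iff_bijective _).mpr hbir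
            have : IsIso (𝟙 (Y.residueField (f (genericPoint X))) ≫ f.residueFieldMap (genericPoint X)) := by
              rw [Category.id_comp]; infer_instance
            exact (IsPushout.of_hasPushout _ _).isIso_inl_of_isIso this
          exact (Scheme.homeoOfIso (asIso (Spec.map T.tensorInl))).injective.subsingleton
        apply Subtype.ext
        apply e.injective
        obtain ⟨⟨Ta, pa⟩, ha⟩ : ∃ c, e a.1 = c := ⟨_, rfl⟩
        obtain ⟨⟨Tb, pb⟩, hb⟩ : ∃ c, e b.1 = c := ⟨_, rfl⟩
        have hTa := key a.1 a.2.1 a.2.2
        have hTb := key b.1 b.2.1 b.2.2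
        rw [ha] at hTa
        rw [hb] at hTb
        rw [ha, hb]
        subst hTa hTb
        exact congrArg (Sigma.mk T) (Subsingleton.elim pa pb)
      refine congrArg Subtype.val (Subsingleton.elim (α := {w : ↥(Limits.pullback f f) // p₁ w = genericPoint X ∧ p₂ w = genericPoint X})
        ⟨z', hfst, hsnd⟩ ⟨Δ (genericPoint X), ?_, ?_⟩)
      · rw [← Scheme.Hom.comp_apply, Limits.pullback.diagonal_fst]; rfl
      · rw [← Scheme.Hom.comp_apply, Limits.pullback.diagonal_snd]; rfl
    have : z ∈ Set.range Δ := hz'.mem_closed Δ.isClosedEmbedding.isClosed_range ⟨_, hz'Δ.symm⟩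
    exact this
  have : IsIso Δ := (isIso_iff_isOpenImmersion_and_surjective Δ).mpr ⟨inferInstance, hsurj⟩
  have : Mono f := (Limits.pullback.isIso_diagonal_iff f).mp this
  exact IsOpenImmersion.of_flat_of_mono f

end Groth.Agent.S5067
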