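import Groth.Statements.S5071
import Groth.Agent.QRegBC.Basic
import Groth.Agent.RegSeq.Imm
import Groth.Agent.GorLib.FlatFibre
import Groth.Agent.FlatDescent.SheafBC.Rings
import Mathlib.RingTheory.Localization.BaseChange

set_option autoImplicit false
universe u
open CInt

namespace Groth.Agent.S5071

open scoped TensorProduct
open Groth.Agent Groth.Agent.RegSeq

/-- A `B`-linear map as an `A`-linear map out of the restriction of scalars. -/
noncomputable def restrictHom (A B : Type u) [CommRing A] [CommRing B] [Algebra A B] {X Y : Type u}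
    [AddCommGroup X] [Module B X] [AddCommGroup Y] [Module B Y] [Module A Y] [IsScalarTower A B Y]
    (f : X →ₗ[B] Y) : RestrictScalars A B X →ₗ[A] Y where
  toFun x := f (RestrictScalars.addEquiv A B X x)
  map_add' x y := by simp
  map_smul' c x := by
    rw [RestrictScalars.addEquiv_map_smul, map_smul, algebraMap_smul, RingHom.id_apply]

/-- Let B be an A-algebra and J an ideal of B generated by a sequence which is transversally regular
relative to A. Then for n < m the module J^n/J^m is flat over A, and for every prime q of B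
containing J the localisation (J^n)_q is flat over A (modules regarded as A-modules by restriction
of scalars). -/
theorem result (A B : Type u) [CommRing A] [CommRing B] [Algebra A B]
    (rs : List B) (hrs : RegImm.IsTransRegularSeq A B rs) (n m : ℕ) (hnm : n < m) :
    Module.Flat A (RestrictScalars A B
      (↥(Ideal.ofList rs ^ n) ⧸ (Submodule.comap (Ideal.ofList rs ^ n).subtype (Ideal.ofList rs ^ m)))) ∧
      ∀ (q : Ideal B) [q.IsPrime], Ideal.ofList rs ≤ q →
        Module.Flat A (RestrictScalars A B (LocalizedModule q.primeCompl ↥(Ideal.ofList rs ^ n))) := by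
  obtain ⟨hw, hfl⟩ := hrs
  haveI hB : Module.Flat A B := by
    haveI h0 : Module.Flat A (B ⧸ Ideal.ofList ([] : List B)) := hfl 0 (Nat.zero_le _)
    exact Module.Flat.of_linearEquiv
      ((Submodule.quotEquivOfEqBot (Ideal.ofList ([] : List B)) Ideal.ofList_nil).restrictScalars A).symm
  have hspan : Ideal.span (Set.range rs.get) = Ideal.ofList rs := congrArg Ideal.span (Set.range_list_get rs)
  have hq : CAlgX.IsQuasiRegular rs.get :=
    S2103.result _ (isH1Regular_of_isKoszulRegularSeq (isKoszulRegularSeq_of_isWeaklyRegular hw))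
  have hJ : Module.Flat A (B ⧸ Ideal.span (Set.range rs.get)) := by
    have h := hfl rs.length le_rfl
    rw [List.take_length] at h
    rw [hspan]; exact h
  have hpow : ∀ k, Module.Flat A (B ⧸ Ideal.ofList rs ^ k) := fun k => by
    have h := QRegBC.flat_quotient_pow hJ hq k
    rwa [hspan] at h
  generalize Ideal.ofList rs = J at hpow ⊢
  haveI hJn : Module.Flat A ↥(J ^ n) := by
    haveI := hpow n
    exact GorLib.flat_of_exact ((J ^ n).subtype.restrictScalars A) (Submodule.injective_subtype _)
      (Ideal.Quotient.mkₐ A (J ^ n)).toLinearMap Ideal.Quotient.mk_surjective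
      (fun y => ⟨fun hy => ⟨⟨y, Ideal.Quotient.eq_zero_iff_mem.1 hy⟩, rfl⟩,
        fun ⟨x, hx⟩ => hx ▸ Ideal.Quotient.eq_zero_iff_mem.2 x.2⟩)
  constructor
  · haveI := hpow n
    haveI := hpow m
    let C := Submodule.comap (J ^ n).subtype (J ^ m)
    let f₀ : (↥(J ^ n) ⧸ C) →ₗ[B] B ⧸ J ^ m :=
      C.liftQ ((Ideal.Quotient.mkₐ B (J ^ m)).toLinearMap.comp (J ^ n).subtype) (fun x hx => by
        rw [LinearMap.mem_ker]
        exact Ideal.Quotient.eq_zero_iff_mem.2 hx)
    let f : RestrictScalars A B (↥(J ^ n) ⧸ C) →ₗ[A] B ⧸ J ^ m := restrictHom A B f₀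
    let g : (B ⧸ J ^ m) →ₗ[A] B ⧸ J ^ n :=
      (Ideal.Quotient.factorₐ A (Ideal.pow_le_pow_right hnm.le)).toLinearMap
    haveI : Module.Flat A (LinearMap.ker g) := GorLib.flat_of_exact (LinearMap.ker g).subtype
      (Submodule.injective_subtype _) g (Ideal.Quotient.factor_surjective (Ideal.pow_le_pow_right hnm.le))
      (fun y => ⟨fun hy => ⟨⟨y, hy⟩, rfl⟩, fun ⟨x, hx⟩ => hx ▸ x.2⟩)
    suffices h : Function.Injective f ∧ Function.Exact f g by
      exact Module.Flat.of_linearEquiv (LinearEquiv.ofBijective
        (f.codRestrict (LinearMap.ker g) fun x => LinearMap.mem_ker.2 ((h.2 (f x)).2 ⟨x, rfl⟩))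
        ⟨fun x y hxy => h.1 (congrArg Subtype.val hxy), fun y => by
          obtain ⟨x, hx⟩ := (h.2 y.1).1 (LinearMap.mem_ker.1 y.2)
          exact ⟨x, Subtype.ext hx⟩⟩)
    refine ⟨?_, ?_⟩
    · intro x y h
      apply (RestrictScalars.addEquiv A B (↥(J ^ n) ⧸ C)).injective
      have hi : Function.Injective f₀ := by
        rw [injective_iff_map_eq_zero]
        intro z hz
        obtain ⟨z, rfl⟩ := Submodule.Quotient.mk_surjective C z
        exact (Submodule.Quotient.mk_eq_zero _).2 (Ideal.Quotient.eq_zero_iff_mem.1 hz)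
      exact hi h
    · intro y
      obtain ⟨y, rfl⟩ := Ideal.Quotient.mk_surjective y
      constructor
      · intro hy
        refine ⟨(RestrictScalars.addEquiv A B (↥(J ^ n) ⧸ C)).symm
          (Submodule.Quotient.mk ⟨y, Ideal.Quotient.eq_zero_iff_mem.1 hy⟩), ?_⟩
        rfl
      · rintro ⟨x, hx⟩
        obtain ⟨z, hz⟩ := Submodule.Quotient.mk_surjective C (RestrictScalars.addEquiv A B (↥(J ^ n) ⧸ C) x)
        rw [← hx]
        show g (f₀ (RestrictScalars.addEquiv A B (↥(J ^ n) ⧸ C) x)) = 0
        rw [← hz]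
        exact Ideal.Quotient.eq_zero_iff_mem.2 z.2
  · intro q _ _
    let T := Localization q.primeCompl
    haveI : Module.Flat B T := IsLocalization.flat T q.primeCompl
    haveI : Module.Flat A (T ⊗[B] ↥(J ^ n)) := Groth.FlatDescent.SheafBC.flat_tensor_of_flat
    let e₀ : LocalizedModule q.primeCompl ↥(J ^ n) ≃ₗ[B] T ⊗[B] ↥(J ^ n) :=
      (LocalizedModule.equivTensorProduct q.primeCompl ↥(J ^ n)).restrictScalars B
    let f := restrictHom A B e₀.toLinearMap
    exact Module.Flat.of_linearEquiv
      (LinearEquiv.ofBijective f (show Function.Bijective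
        (e₀ ∘ RestrictScalars.addEquiv A B (LocalizedModule q.primeCompl ↥(J ^ n))) from
        e₀.bijective.comp (AddEquiv.bijective _)))

end Groth.Agent.S5071
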