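import Groth.Statements.S5072
import Groth.Agent.SHensel17.Henselian

set_option autoImplicit false
set_option linter.style.haveILetI false
open scoped TensorProduct
universe u
open Hensel

namespace Groth.Agent.S5072

/-- Case of a local ring A and a local finite A-algebra B: let S be a strict henselization of A and T a
strict henselization of B. Then there is a maximal ideal q of B ⊗_A S such that T is isomorphic, as
a B-algebra, to the local ring (B ⊗_A S)_q. -/
theorem result (A B S T : Type u) [CommRing A] [IsLocalRing A]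
    [CommRing B] [IsLocalRing B] [Algebra A B] [Module.Finite A B]
    [CommRing S] [IsLocalRing S] [Algebra A S] [IsLocalHom (algebraMap A S)] [Hensel.IsStrictHenselization A S]
    [CommRing T] [IsLocalRing T] [Algebra B T] [IsLocalHom (algebraMap B T)] [Hensel.IsStrictHenselization B T] :
    ∃ (q : Ideal (B ⊗[A] S)) (_ : q.IsMaximal), Nonempty (Localization.AtPrime q ≃ₐ[B] T) := by
  haveI := (‹Hensel.IsStrictHenselization A S›).henselian
  haveI := (‹Hensel.IsStrictHenselization B T›).henselian
  haveI hS := (‹Hensel.IsStrictHenselization A S›).isSepClosure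
  haveI : IsSepClosed (IsLocalRing.ResidueField S) := hS.sep_closed
  haveI : IsSepClosed (IsLocalRing.ResidueField T) :=
    (‹Hensel.IsStrictHenselization B T›).isSepClosure.sep_closed
  haveI : IsLocalHom (algebraMap A B) := ((IsLocalRing.local_hom_TFAE (algebraMap A B)).out 0 4 :).2
    (IsLocalRing.eq_maximalIdeal (Ideal.isMaximal_comap_of_isIntegral_of_isMaximal (R := A) _))
  letI : Algebra A T := ((algebraMap B T).comp (algebraMap A B)).toAlgebra
  haveI : IsScalarTower A B T := .of_algebraMap_eq fun _ => rfl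
  haveI : IsLocalHom (algebraMap A T) := ⟨fun a ha =>
    IsLocalHom.map_nonunit (f := algebraMap A B) a (IsLocalHom.map_nonunit (f := algebraMap B T) _ ha)⟩
  let ι : IsLocalRing.ResidueField S →ₐ[IsLocalRing.ResidueField A] IsLocalRing.ResidueField T :=
    IsSepClosed.lift
  obtain ⟨g, ⟨hg, hgr⟩, -⟩ := (‹Hensel.IsStrictHenselization A S›).universal T (algebraMap A T)
    ι.toRingHom (RingHom.ext fun x => ι.commutes x)
  letI : Algebra S T := g.toAlgebra
  haveI : IsScalarTower A S T := .of_algebraMap_eq fun r => (RingHom.congr_fun hg r).symm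
  haveI : IsLocalHom (algebraMap S T) := ⟨fun x hx => by
    by_contra h
    refine (hx.map (IsLocalRing.residue T)).ne_zero ?_
    show IsLocalRing.residue T (g x) = 0
    rw [hgr, (IsLocalRing.residue_eq_zero_iff x).2 h, map_zero]⟩
  haveI : Algebra.WeaklyEtale A S := Groth.Agent.SHensel17.weaklyEtale_of_isStrictHenselization A S
  haveI : Algebra.WeaklyEtale B T := Groth.Agent.SHensel17.weaklyEtale_of_isStrictHenselization B T
  let φ : B ⊗[A] S →ₐ[B] T := Algebra.TensorProduct.lift (Algebra.ofId B T)
    (IsScalarTower.toAlgHom A S T) (fun _ _ => Commute.all _ _)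
  letI : Algebra S (B ⊗[A] S) := Algebra.TensorProduct.rightAlgebra
  letI : Algebra (B ⊗[A] S) T := φ.toRingHom.toAlgebra
  haveI : IsScalarTower B (B ⊗[A] S) T := .of_algebraMap_eq fun x => (φ.commutes x).symm
  haveI : IsScalarTower S (B ⊗[A] S) T := .of_algebraMap_eq fun x => by
    rw [RingHom.algebraMap_toAlgebra φ.toRingHom]
    show algebraMap S T x = φ ((1 : B) ⊗ₜ[A] x)
    simp [φ]
  haveI : IsScalarTower A S (B ⊗[A] S) := .of_algebraMap_eq fun a =>
    ((Algebra.TensorProduct.includeRight : S →ₐ[A] B ⊗[A] S).commutes a).symm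
  haveI : Algebra.WeaklyEtale (B ⊗[A] S) T := by
    refine (Groth.Agent.SHensel17.RWE.cancel
      (f := (Algebra.TensorProduct.includeLeftRingHom : B →+* B ⊗[A] S)) ?_
      (Groth.Agent.SHensel17.rwe_includeLeft A S B)).weaklyEtale rfl
    convert! Groth.Agent.SHensel17.rwe_algebraMap B T using 1
    exact RingHom.ext fun b => φ.commutes b
  let q := (IsLocalRing.maximalIdeal T).comap (algebraMap (B ⊗[A] S) T)
  have hint : ∀ z : B ⊗[A] S, IsIntegral S z := fun z => by
    induction z using TensorProduct.induction_on with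
    | zero => exact isIntegral_zero
    | add x y hx hy => exact hx.add hy
    | tmul b s =>
      have h1 : IsIntegral S (b ⊗ₜ[A] (1 : S)) :=
        (IsIntegral.map (Algebra.TensorProduct.includeLeft : B →ₐ[A] B ⊗[A] S)
          (Algebra.IsIntegral.isIntegral (R := A) b)).tower_top
      rw [show b ⊗ₜ[A] s = algebraMap S (B ⊗[A] S) s * (b ⊗ₜ[A] (1 : S)) by
        show _ = ((1 : B) ⊗ₜ[A] s) * (b ⊗ₜ[A] (1 : S))
        rw [Algebra.TensorProduct.tmul_mul_tmul, one_mul, mul_one]]
      exact isIntegral_algebraMap.mul h1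
  haveI : Algebra.IsIntegral S (B ⊗[A] S) := ⟨hint⟩
  have hqmax : q.IsMaximal := by
    refine Ideal.isMaximal_of_isIntegral_of_isMaximal_comap (R := S) q ?_
    rw [Ideal.comap_comap, ← IsScalarTower.algebraMap_eq S (B ⊗[A] S) T,
      ((IsLocalRing.local_hom_TFAE (algebraMap S T)).out 0 4 :).1 ‹_›]
    exact IsLocalRing.maximalIdeal.isMaximal S
  let TQ := Localization.AtPrime q
  have hlift : ∀ y : q.primeCompl, IsUnit (algebraMap (B ⊗[A] S) T y) := fun y => not_not.1 y.2
  letI : Algebra TQ T := (IsLocalization.lift hlift : TQ →+* T).toAlgebra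
  haveI : IsScalarTower (B ⊗[A] S) TQ T :=
    .of_algebraMap_eq fun x => (IsLocalization.lift_eq hlift x).symm
  haveI : IsScalarTower B TQ T := .of_algebraMap_eq fun x => by
    rw [IsScalarTower.algebraMap_apply B (B ⊗[A] S) TQ,
      ← IsScalarTower.algebraMap_apply (B ⊗[A] S) TQ T, ← IsScalarTower.algebraMap_apply B (B ⊗[A] S) T]
  haveI : IsScalarTower S TQ T := .of_algebraMap_eq fun x => by
    rw [IsScalarTower.algebraMap_apply S (B ⊗[A] S) TQ,
      ← IsScalarTower.algebraMap_apply (B ⊗[A] S) TQ T, ← IsScalarTower.algebraMap_apply S (B ⊗[A] S) T]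
  obtain ⟨hb, -, -⟩ := Groth.Agent.SHensel17.bijective_localization (H := S) (T := B ⊗[A] S) (C := T)
    (TQ := TQ) (fun _ t => (hint t).map (IsScalarTower.toAlgHom S (B ⊗[A] S) TQ)) (Or.inl ‹_›)
  exact ⟨q, hqmax, ⟨AlgEquiv.ofBijective (IsScalarTower.toAlgHom B TQ T) hb⟩⟩

end Groth.Agent.S5072
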