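import Mathlib
import Groth.Agent.S6298
import Groth.Statements.S5073
-- import your own Groth.Agent.* helpers here

set_option autoImplicit false
universe u
open EGA418

namespace Groth.Agent.S5073

/-- Let A be a Noetherian local ring, p a prime ideal and x an element of A. Then there is an element x'
of A whose image in A_p equals that of x and which belongs to no minimal prime ideal of A not
contained in p. -/
theorem result (A : Type u) [CommRing A] [IsNoetherianRing A] [IsLocalRing A]
    (p : Ideal A) [p.IsPrime] (x : A) :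
    ∃ x' : A, algebraMap A (Localization.AtPrime p) x' = algebraMap A (Localization.AtPrime p) x ∧
      ∀ q ∈ minimalPrimes A, ¬ q ≤ p → x' ∉ q := by
  classical
  have hfin := minimalPrimes.finite_of_isNoetherianRing A
  have hfin' : {q | q ∈ minimalPrimes A ∧ ¬ q ≤ p}.Finite := hfin.subset fun q hq => hq.1
  let K : Ideal A := RingHom.ker (algebraMap A (Localization.AtPrime p))
  let e := hfin'.toFinset.equivFin
  have hmem : ∀ i, (e.symm i : Ideal A) ∈ minimalPrimes A ∧ ¬ (e.symm i : Ideal A) ≤ p :=
    fun i => hfin'.mem_toFinset.1 (e.symm i).2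
  haveI : ∀ i, ((fun i => (e.symm i : Ideal A)) i).IsPrime := fun i => (hmem i).1.1.1
  have hK : ∀ i, ¬ K ≤ (e.symm i : Ideal A) := by
    intro i hle
    obtain ⟨hq, hqp⟩ := hmem i
    haveI : (e.symm i : Ideal A).IsPrime := hq.1.1
    obtain ⟨t, ht, htp⟩ := SetLike.not_le_iff_exists.1 hqp
    have hnil : IsNilpotent (algebraMap A (Localization.AtPrime (e.symm i : Ideal A)) t) := by
      rw [← mem_nilradical]
      haveI : Ring.KrullDimLE 0 (Localization.AtPrime (e.symm i : Ideal A)) := by
        rw [Ring.krullDimLE_zero_iff]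
        intro P hP
        have h1 : P.comap (algebraMap A (Localization.AtPrime (e.symm i : Ideal A))) = (e.symm i : Ideal A) := by
          have hle' : P.comap (algebraMap A (Localization.AtPrime (e.symm i : Ideal A))) ≤ (e.symm i : Ideal A) := by
            intro z hz
            by_contra hzq
            exact hP.ne_top (Ideal.eq_top_of_isUnit_mem _ hz (IsLocalization.map_units _ (⟨z, hzq⟩ : (e.symm i : Ideal A).primeCompl)))
          exact le_antisymm hle' (hq.2 ⟨Ideal.IsPrime.comap _, bot_le⟩ hle')
        have h2 : P = IsLocalRing.maximalIdeal (Localization.AtPrime (e.symm i : Ideal A)) := by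
          rw [← IsLocalization.map_comap (e.symm i : Ideal A).primeCompl (Localization.AtPrime (e.symm i : Ideal A)) P,
            show P.under A = (e.symm i : Ideal A) from h1, IsLocalization.AtPrime.map_eq_maximalIdeal]
        rw [h2]
        exact IsLocalRing.maximalIdeal.isMaximal _
      rw [nilradical_eq_sInf, Ideal.mem_sInf]
      intro P hP
      haveI : P.IsPrime := hP
      have hPm : P.IsMaximal := Ideal.isMaximal_of_isPrime P
      rw [IsLocalRing.eq_maximalIdeal hPm]
      rwa [IsLocalization.AtPrime.to_map_mem_maximal_iff (Localization.AtPrime (e.symm i : Ideal A)) (e.symm i : Ideal A)]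
    obtain ⟨n, hn⟩ := hnil
    rw [← map_pow, IsLocalization.map_eq_zero_iff (e.symm i : Ideal A).primeCompl] at hn
    obtain ⟨s, hs⟩ := hn
    have hsK : (s : A) ∈ K := by
      rw [RingHom.mem_ker, IsLocalization.map_eq_zero_iff p.primeCompl]
      exact ⟨⟨t ^ n, fun h => htp ((inferInstance : p.IsPrime).mem_of_pow_mem n h)⟩, by rw [mul_comm]; exact hs⟩
    exact s.2 (hle hsK)
  have hcond : ∀ i, ∃ y ∈ K, x + y ∉ (e.symm i : Ideal A) := by
    intro i
    by_contra hcon
    push Not at hcon
    have hx : x ∈ (e.symm i : Ideal A) := by simpa using hcon 0 K.zero_mem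
    exact hK i fun y hy => (Submodule.add_mem_iff_right _ hx).1 (hcon y hy)
  obtain ⟨y, hy, hyn⟩ := Groth.Agent.S6298.result x K (fun i => (e.symm i : Ideal A)) hcond
  refine ⟨x + y, by rw [map_add, RingHom.mem_ker.1 hy, add_zero], fun q hq hqp => ?_⟩
  have := hyn (e ⟨q, hfin'.mem_toFinset.2 ⟨hq, hqp⟩⟩)
  simpa using this

end Groth.Agent.S5073
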