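import Groth.Statements.S5074
import Groth.Agent.ComplDeriv.CharZeroRank
import Groth.Agent.ComplDeriv.Free
import Groth.Agent.ComplDeriv.RegUnram

set_option autoImplicit false
universe u
open EGA418

namespace Groth.Agent.S5074

/-- Let k be a field of characteristic exponent p such that k is finite over k^p (the Frobenius
endomorphism of k is a finite ring map), A a complete Noetherian local k-algebra whose residue field
is a finite extension of k, and P a prime ideal of A such that A_P is geometrically regular over k.
Then for every minimal prime q of A contained in P (there is exactly one), the A_P-module obtained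
by localising at P the completion of the module of differentials of A over k is free of rank equal
to dim(A/q). -/
theorem result (p : ℕ) (k A : Type u) [Field k] [ExpChar k p]
    (hk : (frobenius k p).Finite) [CommRing A] [IsLocalRing A] [IsNoetherianRing A] [Algebra k A]
    [IsAdicComplete (IsLocalRing.maximalIdeal A) A] [Module.Finite k (IsLocalRing.ResidueField A)]
    (P : Ideal A) [P.IsPrime] (hP : CAlg.IsGeometricallyRegular k (Localization.AtPrime P))
    (q : Ideal A) (hq : q ∈ minimalPrimes A) (hqP : q ≤ P) (n : ℕ) (hn : ringKrullDim (A ⧸ q) = n) :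
    Module.Free (Localization.AtPrime P) (LocalizedModule P.primeCompl (AdicCompletion (IsLocalRing.maximalIdeal A) (KaehlerDifferential k A))) ∧
      Module.finrank (Localization.AtPrime P) (LocalizedModule P.primeCompl (AdicCompletion (IsLocalRing.maximalIdeal A) (KaehlerDifferential k A))) = n := by
  classical
  have := hq.isPrime
  have hfinOm := (ComplDeriv.exists_finite_gen k A).1
  obtain ⟨hreg, hinj⟩ := ComplDeriv.kInj_of_isAdicFormallySmooth
    ((S4573.result (k := k) (A := Localization.AtPrime P) p).mpr fun k' _ _ hf _ => hP k' hf)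
  have := DepthLib.isDomain_of_isRegularLocalRing (Localization.AtPrime P)
  have hbot := ComplDeriv.map_minimalPrime_eq_bot hq hqP
  obtain ⟨hlB, -, -⟩ := ComplDeriv.quotient_data k A P
  obtain ⟨e, he⟩ := DepthLib.exists_nat_ringKrullDim_quotient P
  have hdim := ComplDeriv.dim_add_dim_le P q hqP hbot
  rw [hn, he] at hdim
  have hV : Module.finrank P.ResidueField (TensorProduct A P.ResidueField (ComplDeriv.Om k A)) ≤ n := by
    suffices h : (Module.finrank P.ResidueField (TensorProduct A P.ResidueField (ComplDeriv.Om k A)) : WithBot ℕ∞) ≤
        ringKrullDim (Localization.AtPrime P) + e by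
      exact_mod_cast h.trans hdim
    rcases ‹ExpChar k p› with _ | ⟨hprime⟩
    · exact ComplDeriv.finrank_fibre_le_charZero k A P e he
    · have : Fact p.Prime := ⟨hprime⟩
      exact ComplDeriv.finrank_fibre_le_charP k A p hk P hinj e he
  obtain ⟨f, hf⟩ : ∃ f : Fin n → A,
      Submodule.span P.ResidueField (Set.range fun i => ComplDeriv.dAt k A P (f i)) = ⊤ := by
    obtain ⟨g, hg⟩ := Submodule.exists_fun_fin_finrank_span_eq P.ResidueField (Set.range (ComplDeriv.dAt k A P))
    have htop := ComplDeriv.span_dAt_eq_top k A P
    choose a ha using fun i => hg.1 i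
    refine ⟨fun i => if h : (i : ℕ) < Module.finrank P.ResidueField (Submodule.span P.ResidueField (Set.range (ComplDeriv.dAt k A P))) then a ⟨i, h⟩ else 0, ?_⟩
    refine eq_top_iff.mpr (htop.ge.trans (hg.2.1.ge.trans (Submodule.span_mono ?_)))
    rintro _ ⟨j, rfl⟩
    have hj : (j : ℕ) < n := lt_of_lt_of_le j.isLt ((Submodule.finrank_le _).trans hV)
    refine ⟨⟨j, hj⟩, ?_⟩
    simp only [j.isLt, ↓reduceDIte]
    exact ha j
  have hsp := (ComplDeriv.span_fibre_eq_top_iff A P fun i => ComplDeriv.dOm k A (f i)).mp hf
  let b := Module.Basis.mk (ComplDeriv.linearIndependent_of_span k A q P hqP n hn hbot f hsp)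
    ((ComplDeriv.localized_span_eq_top_iff P _).mpr hsp).ge
  exact ⟨Module.Free.of_basis b, (Module.finrank_eq_card_basis b).trans (Fintype.card_fin n)⟩
end Groth.Agent.S5074
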