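import Groth.Statements.S5075
import Groth.Agent.EtSite.TopInv
-- import your own Groth.Agent.* helpers here

set_option autoImplicit false
open CategoryTheory AlgebraicGeometry
universe u
open Unram

namespace Groth.Agent.S5075

/-- Let p : X ⟶ S be étale, g : S' ⟶ S a morphism and i : S'₀ ⟶ S' a surjective closed immersion (a
closed subscheme with the same underlying space). Then for every f₀ : S'₀ ⟶ X over S there is
exactly one f : S' ⟶ X over S with i ≫ f = f₀. -/
theorem result {X S S' S'₀ : Scheme.{u}} (p : X ⟶ S) [Etale p]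
    (g : S' ⟶ S) (i : S'₀ ⟶ S') [IsClosedImmersion i] [Surjective i]
    (f₀ : S'₀ ⟶ X) (h₀ : f₀ ≫ p = i ≫ g) :
    ∃! f : S' ⟶ X, f ≫ p = g ∧ i ≫ f = f₀ := by
  obtain ⟨b, ⟨hb1, hb2⟩, huniq⟩ := Groth.Agent.EtSite.existsUnique_descent i
    (Limits.pullback.snd p g) (Limits.pullback.lift f₀ i h₀) (Limits.pullback.lift_snd _ _ _)
  refine ⟨b ≫ Limits.pullback.fst p g, ⟨?_, ?_⟩, ?_⟩
  · rw [Category.assoc, Limits.pullback.condition, reassoc_of% hb1]
  · rw [reassoc_of% hb2, Limits.pullback.lift_fst]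
  · rintro f ⟨hf1, hf2⟩
    have h := huniq (Limits.pullback.lift f (𝟙 _) (by simp [hf1])) ⟨Limits.pullback.lift_snd _ _ _, by
      apply Limits.pullback.hom_ext
      · rw [Category.assoc, Limits.pullback.lift_fst, Limits.pullback.lift_fst, hf2]
      · rw [Category.assoc, Limits.pullback.lift_snd, Limits.pullback.lift_snd, Category.comp_id]⟩
    rw [← h, Limits.pullback.lift_fst]

end Groth.Agent.S5075
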