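import Groth.Statements.S5076
import Mathlib
-- import your own Groth.Agent.* helpers here

set_option autoImplicit false
universe u
open Unram

namespace Groth.Agent.S5076

/-- Let A be a local ring with maximal ideal m, C a finite A-algebra, r a maximal ideal of C, and u an
element of C which lies in every maximal ideal of C other than r, does not lie in r, and whose image
generates C_r modulo m C_r as an A-algebra. Let B = A[u] be the A-subalgebra of C generated by u and
n the inverse image of r in B. Then the canonical homomorphism B_n → C_r is bijective. -/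
theorem result (A C : Type u) [CommRing A] [IsLocalRing A]
    [CommRing C] [Algebra A C] [Module.Finite A C] (r : Ideal C) [r.IsMaximal] (u : C)
    (hu₁ : ∀ r' : Ideal C, r'.IsMaximal → r' ≠ r → u ∈ r') (hu₂ : u ∉ r)
    (hu₃ : Subalgebra.toSubmodule (Algebra.adjoin A {algebraMap C (Localization.AtPrime r) u}) ⊔
        Submodule.restrictScalars A (Ideal.map (algebraMap A (Localization.AtPrime r)) (IsLocalRing.maximalIdeal A)) = ⊤) :
    Function.Bijective (Localization.localRingHom (Ideal.comap (Algebra.adjoin A ({u} : Set C)).val.toRingHom r) r
      (Algebra.adjoin A ({u} : Set C)).val.toRingHom rfl) := by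
  classical
  let S : Subalgebra A C := Algebra.adjoin A ({u} : Set C)
  let φ : S →+* C := S.val.toRingHom
  let n : Ideal S := Ideal.comap φ r
  haveI : Module.Finite S C := Module.Finite.of_restrictScalars_finite A S C
  haveI : n.IsMaximal := Ideal.isMaximal_comap_of_isIntegral_of_isMaximal (R := S) r
  have hφ : φ = algebraMap S C := rfl
  -- (a)
  have hunit : ∀ s : C, s ∉ r → ∃ b : S, b ∉ n ∧ ∃ d : C, φ b = s * d := by
    intro s hs
    by_contra hc
    push Not at hc
    obtain ⟨Q, hQs, hQ, hQn⟩ := Ideal.exists_ideal_over_prime_of_isIntegral n (Ideal.span {s}) (by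
      intro b hb
      by_contra hbn
      obtain ⟨d, hd⟩ := Ideal.mem_span_singleton.1 (Ideal.mem_comap.1 hb)
      exact hc b hbn d (hφ ▸ hd))
    haveI := hQ
    have hQmax : Q.IsMaximal :=
      Ideal.isMaximal_of_isIntegral_of_isMaximal_comap Q (by rw [hQn]; infer_instance)
    have hQr : Q ≠ r := fun e => hs (e ▸ hQs (Ideal.mem_span_singleton_self s))
    have huS : (⟨u, Algebra.self_mem_adjoin_singleton A u⟩ : S) ∈ n := by
      rw [← hQn]
      exact hu₁ Q hQmax hQr
    exact hu₂ huS
  let ψ := Localization.localRingHom n r φ rfl
  show Function.Bijective ψ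
  have hψ : ∀ b : S, ψ (algebraMap S _ b) = algebraMap C (Localization.AtPrime r) (φ b) :=
    Localization.localRingHom_to_map n r φ rfl
  constructor
  · rw [injective_iff_map_eq_zero]
    intro z hz
    obtain ⟨⟨b, t⟩, rfl⟩ := IsLocalization.mk'_surjective n.primeCompl z
    rw [Localization.localRingHom_mk', IsLocalization.mk'_eq_zero_iff] at hz
    obtain ⟨⟨c, hc⟩, hcb⟩ := hz
    obtain ⟨b', hb', d, hd⟩ := hunit c hc
    rw [IsLocalization.mk'_eq_zero_iff]
    refine ⟨⟨b', hb'⟩, Subtype.val_injective ?_⟩
    show φ (b' * b) = ((0 : S) : C)
    rw [map_mul, hd, mul_comm c d, mul_assoc]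
    exact (congrArg (d * ·) hcb).trans (by simp)
  · letI : Algebra (Localization.AtPrime n) (Localization.AtPrime r) := ψ.toAlgebra
    have hsm : ∀ (x : Localization.AtPrime n) (y : Localization.AtPrime r), x • y = ψ x * y :=
      fun _ _ => rfl
    obtain ⟨k, g, hg⟩ := Module.Finite.exists_fin (R := S) (M := C)
    haveI : Module.Finite (Localization.AtPrime n) (Localization.AtPrime r) := by
      refine Module.Finite.of_surjective
        (Fintype.linearCombination (Localization.AtPrime n)
          (fun i => algebraMap C (Localization.AtPrime r) (g i))) fun z => ?_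
      obtain ⟨⟨c, s⟩, rfl⟩ := IsLocalization.mk'_surjective r.primeCompl z
      obtain ⟨b', hb', d, hd⟩ := hunit s.1 s.2
      obtain ⟨w, hw⟩ := (Submodule.mem_span_range_iff_exists_fun S).1
        (hg ▸ Submodule.mem_top : c * d ∈ Submodule.span S (Set.range g))
      refine ⟨fun i => IsLocalization.mk' _ (w i) (⟨b', hb'⟩ : n.primeCompl), ?_⟩
      rw [Fintype.linearCombination_apply, IsLocalization.eq_mk'_iff_mul_eq, Finset.sum_mul]
      have hs : IsUnit (ψ (algebraMap S _ b')) :=
        (IsLocalization.map_units (Localization.AtPrime n) (⟨b', hb'⟩ : n.primeCompl)).map ψ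
      refine hs.mul_left_cancel ?_
      rw [Finset.mul_sum]
      calc ∑ i, ψ (algebraMap S _ b') *
            (IsLocalization.mk' _ (w i) (⟨b', hb'⟩ : n.primeCompl) •
              algebraMap C (Localization.AtPrime r) (g i) * algebraMap C _ (s : C))
          = ∑ i, algebraMap C (Localization.AtPrime r) (w i • g i * (s : C)) := by
            refine Finset.sum_congr rfl fun i _ => ?_
            rw [hsm, ← mul_assoc, ← mul_assoc, ← map_mul ψ,
              IsLocalization.mk'_spec'_mk, hψ, ← map_mul, ← map_mul]
            rfl
        _ = ψ (algebraMap S _ b') * algebraMap C (Localization.AtPrime r) c := by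
            rw [← map_sum, ← Finset.sum_mul, hw, hψ, ← map_mul, hd]
            congr 1
            ring
    have key : (⊤ : Submodule (Localization.AtPrime n) (Localization.AtPrime r)) ≤
        Submodule.span (Localization.AtPrime n) {1} := by
      refine Submodule.le_of_le_smul_of_le_jacobson_bot (I := IsLocalRing.maximalIdeal _)
        Module.Finite.fg_top (IsLocalRing.maximalIdeal_le_jacobson _) ?_
      intro z _
      obtain ⟨p, hp, y, hy, rfl⟩ := Submodule.mem_sup.1
        (hu₃.symm ▸ Submodule.mem_top : z ∈ Subalgebra.toSubmodule
          (Algebra.adjoin A {algebraMap C (Localization.AtPrime r) u}) ⊔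
          Submodule.restrictScalars A (Ideal.map (algebraMap A (Localization.AtPrime r))
            (IsLocalRing.maximalIdeal A)))
      refine Submodule.add_mem_sup ?_ ?_
      · have hle : Algebra.adjoin A {algebraMap C (Localization.AtPrime r) u} ≤
            ((IsScalarTower.toAlgHom A C (Localization.AtPrime r)).comp S.val).range := by
          refine Algebra.adjoin_le (Set.singleton_subset_iff.2 ?_)
          exact ⟨⟨u, Algebra.self_mem_adjoin_singleton A u⟩, rfl⟩
        obtain ⟨b, hb⟩ := hle hp
        refine Submodule.mem_span_singleton.2 ⟨algebraMap S _ b, ?_⟩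
        rw [hsm, mul_one, hψ, ← hb]
        rfl
      · rw [Submodule.restrictScalars_mem, Ideal.map] at hy
        rename_i hz0
        clear hz0
        induction hy using Submodule.span_induction with
        | mem y hy =>
          obtain ⟨a, ha, rfl⟩ := hy
          have e : algebraMap A (Localization.AtPrime r) a =
              (algebraMap S (Localization.AtPrime n) (algebraMap A S a)) •
                (1 : Localization.AtPrime r) := by
            rw [hsm, mul_one, hψ, IsScalarTower.algebraMap_apply A C (Localization.AtPrime r)]
            rfl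
          rw [e]
          refine Submodule.smul_mem_smul ?_ Submodule.mem_top
          refine (IsLocalization.AtPrime.to_map_mem_maximal_iff _ n _).2 ?_
          haveI : (Ideal.comap (algebraMap A C) r).IsMaximal :=
            Ideal.isMaximal_comap_of_isIntegral_of_isMaximal r
          show algebraMap A C a ∈ r
          exact Ideal.mem_comap.1 ((IsLocalRing.eq_maximalIdeal
            (I := Ideal.comap (algebraMap A C) r) inferInstance).symm ▸ ha)
        | zero => exact Submodule.zero_mem _
        | add y y' _ _ h h' => exact Submodule.add_mem _ h h'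
        | smul t y _ h =>
          refine Submodule.smul_induction_on h (fun a ha m _ => ?_) fun y y' h h' => ?_
          · rw [smul_comm]; exact Submodule.smul_mem_smul ha Submodule.mem_top
          · rw [smul_add]; exact Submodule.add_mem _ h h'
    intro z
    obtain ⟨x, hx⟩ := Submodule.mem_span_singleton.1 (key (Submodule.mem_top (x := z)))
    exact ⟨x, by rw [← hx, hsm, mul_one]⟩

end Groth.Agent.S5076
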