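import Groth.Statements.S5077
import Groth.Agent.UnramLib.Separable
-- import your own Groth.Agent.* helpers here

set_option autoImplicit false
universe u
open Unram

namespace Groth.Agent.S5077

/-- Let A be a local ring and B a finite A-algebra generated by a single element u. Then there is a
monic polynomial F with coefficients in A such that F(u) = 0 and F'(u) does not belong to any
maximal ideal n of B at which B is unramified over A. -/
theorem result (A B : Type u) [CommRing A] [IsLocalRing A]
    [CommRing B] [Algebra A B] [Module.Finite A B] (u : B) (hu : Algebra.adjoin A ({u} : Set B) = ⊤) :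
    ∃ F : Polynomial A, F.Monic ∧ Polynomial.aeval u F = 0 ∧
      ∀ (n : Ideal B) [n.IsMaximal], Algebra.IsUnramifiedAt A n → Polynomial.aeval u (Polynomial.derivative F) ∉ n := by
  have hu' : Algebra.adjoin (IsLocalRing.ResidueField A)
      {(1 : IsLocalRing.ResidueField A) ⊗ₜ[A] u} = ⊤ := by
    rw [← Set.image_singleton, ← Algebra.TensorProduct.adjoin_one_tmul_image_eq_top ({u} : Set B) hu]
  obtain ⟨F, hFm, hF, -, hmin, hsurj⟩ := Groth.Agent.UnramLib.exists_monic_of_gen A B u hu'
  refine ⟨F, hFm, hF, fun n hn hun hmem => ?_⟩
  have hle := Groth.Agent.UnramLib.annihilator_le u hsurj _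
    (Groth.Agent.UnramLib.derivative_mem A B hFm hF hmin)
  have hn' : (IsLocalRing.maximalIdeal A).map (algebraMap A B) ⊔
      Ideal.span {Polynomial.aeval u (Polynomial.derivative F)} ≤ n := by
    refine sup_le ((Groth.Agent.UnramLib.map_le_jacobson A B).trans
      (sInf_le ⟨bot_le, hn⟩)) ?_
    rwa [Ideal.span_le, Set.singleton_subset_iff]
  haveI : Algebra.EssFiniteType A B := inferInstance
  have hns : (⟨n, hn.isPrime⟩ : PrimeSpectrum B) ∈ Algebra.unramifiedLocus A B := hun
  rw [Algebra.unramifiedLocus_eq_compl_support, Set.mem_compl_iff,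
    Module.support_eq_zeroLocus, PrimeSpectrum.mem_zeroLocus] at hns
  exact hns (hle.trans hn')

end Groth.Agent.S5077
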