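import Groth.Statements.S5078
import Mathlib


set_option autoImplicit false
universe u v
open Hensel

namespace Groth.Agent.S5078

/-- Let A be a ring, I an ideal such that A is I-adically separated and complete, and M a finitely
generated projective A-module. Then M is I-adically separated and complete. -/
theorem result {A : Type u} [CommRing A] (I : Ideal A) [IsAdicComplete I A]
    (M : Type v) [AddCommGroup M] [Module A M] [Module.Finite A M] [Module.Projective A M] :
    IsAdicComplete I M := by
  classical
  obtain ⟨k, π, hπ⟩ := Module.Finite.exists_fin' A M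
  obtain ⟨s, hs⟩ := Module.projective_lifting_property π LinearMap.id hπ
  have hs' : ∀ x, π (s x) = x := fun x => LinearMap.congr_fun hs x
  have key : ∀ (n : ℕ) (x : M) (φ : M →ₗ[A] A), x ∈ (I ^ n • ⊤ : Submodule A M) →
      φ x ∈ (I ^ n • ⊤ : Submodule A A) := by
    intro n x φ hx
    exact (Submodule.map_smul'' (I ^ n) ⊤ φ).trans_le (Submodule.smul_mono le_rfl le_top)
      (Submodule.mem_map_of_mem hx)
  refine { haus' := fun x hx => ?_, prec' := fun f hf => ?_ }
  · have h0 : s x = 0 := by
      funext i
      refine IsHausdorff.haus (I := I) inferInstance _ fun n => ?_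
      have h1 := key n x ((LinearMap.proj i).comp s) (SModEq.zero.1 (hx n))
      exact SModEq.zero.2 h1
    rw [← hs' x, h0, map_zero]
  · have hc : ∀ i : Fin k, ∃ L : A, ∀ n, (s (f n)) i ≡ L [SMOD (I ^ n • ⊤ : Submodule A A)] := by
      intro i
      refine IsPrecomplete.prec (I := I) inferInstance (f := fun n => (s (f n)) i) fun {m n} hmn => ?_
      rw [SModEq.sub_mem]
      have h1 := key m _ ((LinearMap.proj i).comp s) (SModEq.sub_mem.1 (hf hmn))
      simpa using h1
    choose L hL using hc
    refine ⟨π L, fun n => ?_⟩
    rw [SModEq.sub_mem, ← hs' (f n), ← map_sub, pi_eq_sum_univ (s (f n) - L), map_sum]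
    refine Submodule.sum_mem _ fun i _ => ?_
    rw [map_smul]
    refine Submodule.smul_mem_smul ?_ Submodule.mem_top
    have h1 := SModEq.sub_mem.1 (hL i n)
    rw [smul_eq_mul, Ideal.mul_top] at h1
    simpa using h1

end Groth.Agent.S5078
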