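import Groth.Statements.S5080
import Groth.Agent.ComplDeriv.Unram

set_option autoImplicit false
universe u
open EGA418

namespace Groth.Agent.S5080

/-- Let k be a field, A a complete Noetherian local k-algebra with maximal ideal m whose residue field
is a finite extension of k, p a prime ideal distinct from m, Ω̂ the completion of the module of
differentials of A over k, and M the least number of generators of the A_p-module Ω̂_p. Then for
every family x_1, …, x_M of elements of m not in p there are units u_1, …, u_M of A such that the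
images in Ω̂_p of the differentials d(u_i x_i) generate Ω̂_p. -/
theorem result (k A : Type u) [Field k] [CommRing A]
    [IsLocalRing A] [IsNoetherianRing A] [Algebra k A] [IsAdicComplete (IsLocalRing.maximalIdeal A) A]
    [Module.Finite k (IsLocalRing.ResidueField A)] (p : Ideal A) [p.IsPrime] (hp : p ≠ IsLocalRing.maximalIdeal A)
    (M : ℕ) (hgen : ∃ s : Fin M → (LocalizedModule p.primeCompl (AdicCompletion (IsLocalRing.maximalIdeal A) (KaehlerDifferential k A))), Submodule.span (Localization.AtPrime p) (Set.range s) = ⊤)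
    (hmin : ∀ (s : Finset (LocalizedModule p.primeCompl (AdicCompletion (IsLocalRing.maximalIdeal A) (KaehlerDifferential k A)))), Submodule.span (Localization.AtPrime p) (↑s : Set (LocalizedModule p.primeCompl (AdicCompletion (IsLocalRing.maximalIdeal A) (KaehlerDifferential k A)))) = ⊤ → M ≤ s.card)
    (x : Fin M → A) (hx : ∀ i, x i ∈ IsLocalRing.maximalIdeal A ∧ x i ∉ p) :
    ∃ u : Fin M → Aˣ, Submodule.span (Localization.AtPrime p)
      (Set.range (fun i => LocalizedModule.mkLinearMap p.primeCompl (AdicCompletion (IsLocalRing.maximalIdeal A) (KaehlerDifferential k A)) (AdicCompletion.of (IsLocalRing.maximalIdeal A) (KaehlerDifferential k A) (KaehlerDifferential.D k A ((u i : A) * x i))))) = ⊤ := by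
  classical
  have hfinOm := (ComplDeriv.exists_finite_gen k A).1
  obtain ⟨s, hs⟩ := hgen
  have hV := ComplDeriv.finrank_fibre_le_of_span k A p s hs
  let V := TensorProduct A p.ResidueField (ComplDeriv.Om k A)
  suffices key : ∀ j, ∀ hj : j ≤ M, ∃ u : Fin j → Aˣ,
      Submodule.span p.ResidueField (Set.range fun i : Fin j => ComplDeriv.dAt k A p ((u i : A) * x (Fin.castLE hj i))) = ⊤ ∨
        j ≤ Module.finrank p.ResidueField (Submodule.span p.ResidueField
          (Set.range fun i : Fin j => ComplDeriv.dAt k A p ((u i : A) * x (Fin.castLE hj i)))) by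
    obtain ⟨u, hu⟩ := key M le_rfl
    simp only [Fin.castLE_rfl, id_eq] at hu
    refine ⟨u, (ComplDeriv.localized_span_eq_top_iff p fun i => ComplDeriv.dOm k A ((u i : A) * x i)).mpr
      ((ComplDeriv.span_fibre_eq_top_iff A p fun i => ComplDeriv.dOm k A ((u i : A) * x i)).mp ?_)⟩
    exact hu.elim id fun h => Submodule.eq_top_of_finrank_eq (le_antisymm (Submodule.finrank_le _) (hV.trans h))
  intro j
  induction j with
  | zero => exact fun _ => ⟨Fin.elim0, Or.inr (Nat.zero_le _)⟩
  | succ j ih =>
    intro hj
    obtain ⟨u, hu⟩ := ih (by omega)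
    let W := Submodule.span p.ResidueField
      (Set.range fun i : Fin j => ComplDeriv.dAt k A p ((u i : A) * x (Fin.castLE (Nat.le_of_succ_le hj) i)))
    let y := x (Fin.castLE hj (Fin.last j))
    obtain ⟨v, hv⟩ : ∃ v : Aˣ, W = ⊤ ∨ ComplDeriv.dAt k A p ((v : A) * y) ∉ W := by
      by_cases hW : W = ⊤
      · exact ⟨1, Or.inl hW⟩
      by_cases h0 : ComplDeriv.dAt k A p y ∈ W
      swap
      · exact ⟨1, Or.inr (by rwa [Units.val_one, one_mul])⟩
      obtain ⟨h, hh, hhW⟩ := ComplDeriv.exists_mem_maximalIdeal_dAt_notMem k A p hp W hW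
      obtain ⟨v, hv⟩ : IsUnit (1 + h) :=
        (Ideal.mem_jacobson_bot.mp (IsLocalRing.maximalIdeal_le_jacobson ⊥ hh) 1).elim fun w hw =>
          ⟨w, by rw [hw]; ring⟩
      refine ⟨v, Or.inr fun hmem => hhW ?_⟩
      have h2 : algebraMap A p.ResidueField y ≠ 0 := by
        rw [ne_eq, Ideal.algebraMap_residueField_eq_zero]; exact (hx _).2
      have h3 : ComplDeriv.dAt k A p (1 + h) = ComplDeriv.dAt k A p h := by
        rw [ComplDeriv.dAt_add]; simp [ComplDeriv.dAt]
      rw [ComplDeriv.dAt_mul, hv, h3] at hmem
      have h1 := (W.add_mem_iff_right (W.smul_mem _ h0)).mp hmem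
      have h4 := W.smul_mem (algebraMap A p.ResidueField y)⁻¹ h1
      rwa [smul_smul, inv_mul_cancel₀ h2, one_smul] at h4
    refine ⟨Fin.snoc u v, ?_⟩
    have hspan : Submodule.span p.ResidueField (Set.range fun i : Fin (j + 1) =>
        ComplDeriv.dAt k A p (((Fin.snoc u v : Fin (j + 1) → Aˣ) i : A) * x (Fin.castLE hj i))) =
        Submodule.span p.ResidueField {ComplDeriv.dAt k A p ((v : A) * y)} ⊔ W := by
      rw [show (fun i : Fin (j + 1) =>
          ComplDeriv.dAt k A p (((Fin.snoc u v : Fin (j + 1) → Aˣ) i : A) * x (Fin.castLE hj i))) =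
          Fin.snoc (fun i : Fin j => ComplDeriv.dAt k A p ((u i : A) * x (Fin.castLE (Nat.le_of_succ_le hj) i)))
            (ComplDeriv.dAt k A p ((v : A) * y)) from funext fun i => by
          induction i using Fin.lastCases with
          | last => simp [y]
          | cast i => simp,
        Fin.range_snoc, Submodule.span_insert]
    rw [hspan]
    by_cases hW : W = ⊤
    · exact Or.inl (by rw [hW, sup_top_eq])
    refine Or.inr (Nat.succ_le_of_lt (lt_of_le_of_lt (hu.resolve_left hW) (Submodule.finrank_lt_finrank_of_lt ?_)))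
    refine lt_of_le_of_ne le_sup_right fun h => hv.resolve_left hW ?_
    change _ ∈ W
    rw [show W = _ from h]
    exact Submodule.mem_sup_left (Submodule.mem_span_singleton_self _)
end Groth.Agent.S5080
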