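import Groth.Statements.S5081
import Groth.Agent.UnramLib.Separable
-- import your own Groth.Agent.* helpers here

set_option autoImplicit false
universe u
open Unram

namespace Groth.Agent.S5081

/-- Let B be a finite A-algebra generated by a single element u and F a polynomial with coefficients in
A such that F(u) = 0. Then the ideal generated by F'(u) is contained in the annihilator of the
module of differentials of B over A, and equals it when the kernel of the surjection A[T] → B
sending T to u is generated by F. -/
theorem result (A B : Type u) [CommRing A] [CommRing B] [Algebra A B]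
    [Module.Finite A B] (u : B) (hu : Algebra.adjoin A ({u} : Set B) = ⊤) (F : Polynomial A) (hF : Polynomial.aeval u F = 0) :
    Ideal.span {Polynomial.aeval u (Polynomial.derivative F)} ≤ Module.annihilator B (KaehlerDifferential A B) ∧
      (RingHom.ker (Polynomial.aeval u : Polynomial A →ₐ[A] B) = Ideal.span {F} →
        Module.annihilator B (KaehlerDifferential A B) = Ideal.span {Polynomial.aeval u (Polynomial.derivative F)}) := by
  have hsurj : Function.Surjective (Polynomial.aeval u : Polynomial A →ₐ[A] B) := by
    intro b
    have : b ∈ Algebra.adjoin A ({u} : Set B) := hu ▸ Algebra.mem_top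
    rwa [Algebra.adjoin_singleton_eq_range_aeval, AlgHom.mem_range] at this
  refine ⟨?_, fun hker => le_antisymm ?_ ?_⟩
  rotate_left
  · refine Groth.Agent.UnramLib.annihilator_le u hsurj _ fun h hh => ?_
    obtain ⟨q, rfl⟩ := Ideal.mem_span_singleton.1 (hker ▸ (RingHom.mem_ker.2 hh))
    rw [Polynomial.derivative_mul, map_add, map_mul, map_mul, hF, zero_mul, add_zero]
    exact Ideal.mem_span_singleton.2 (dvd_mul_right _ _)
  all_goals
    rw [Ideal.span_le, Set.singleton_subset_iff, SetLike.mem_coe, Module.mem_annihilator]
    intro w
    have hD : Polynomial.aeval u (Polynomial.derivative F) • KaehlerDifferential.D A B u = 0 := by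
      rw [← Derivation.map_aeval, hF, map_zero]
    have hw : w ∈ Submodule.span B (Set.range (KaehlerDifferential.D A B)) :=
      KaehlerDifferential.span_range_derivation A B ▸ Submodule.mem_top
    induction hw using Submodule.span_induction with
    | mem x hx =>
      obtain ⟨b, rfl⟩ := hx
      obtain ⟨g, rfl⟩ := hsurj b
      rw [Derivation.map_aeval, smul_comm, hD, smul_zero]
    | zero => rw [smul_zero]
    | add x y _ _ hx hy => rw [smul_add, hx, hy, add_zero]
    | smul t x _ hx => rw [smul_comm, hx, smul_zero]

end Groth.Agent.S5081
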