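import Groth.Statements.S5082
import Groth.Agent.MeroBasic.KSections
import Groth.Agent.DepthLib.Basic

set_option autoImplicit false
universe u
open CategoryTheory CategoryTheory.Limits AlgebraicGeometry TopologicalSpace
open Mero

namespace Groth.Agent.S5082

/-- Let A be a Noetherian local ring. Then the group of divisors of Spec A is trivial (every divisor
equals the unit divisor, divisors being written multiplicatively) if and only if A has depth 0, that
is, if and only if every element of the maximal ideal of A is a zero-divisor. -/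
theorem result (A : Type u) [CommRing A] [IsNoetherianRing A] [IsLocalRing A] :
    (∀ D : Mero.Divisor (Spec (CommRingCat.of A)), D = 1) ↔ LocCoh.depth A A = 0 := by
  let X := Spec (CommRingCat.of A)
  have hU : IsAffineOpen (⊤ : X.Opens) := isAffineOpen_top X
  let R := Γ(X, (⊤ : X.Opens))
  let e : A ≃+* R := (Scheme.ΓSpecIso (CommRingCat.of A)).commRingCatIsoToRingEquiv.symm
  have : IsLocalRing R := e.isLocalRing
  let c : X := IsLocalRing.closedPoint A
  have hc : ∀ y : X, y ⤳ c := fun y =>
    (PrimeSpectrum.le_iff_specializes _ _).mp (IsLocalRing.le_maximalIdeal y.isPrime.ne_top)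
  obtain ⟨S, h1, h2⟩ := Groth.Agent.MeroBasic.noetherian_good (X := X) hU
  let := (Mero.toK X ⊤).toAlgebra
  have hloc : IsLocalization (nonZeroDivisors R) Γ(Mero.kmod X, ⊤) :=
    Groth.Agent.MeroBasic.isLocalization_kmod hU S h1 h2
  have hdepth : LocCoh.depth A A = 0 ↔ ∀ r ∈ nonZeroDivisors R, IsUnit r := by
    constructor
    · intro h r hr
      by_contra hu
      have h1 : (1 : ℕ∞) ≤ LocCoh.depth A A := by
        rw [LocCoh.depth, Groth.Agent.DepthLib.one_le_idealDepth_iff]
        refine ⟨e.symm r, fun h => hu (by simpa using h.map e), fun a b hab => e.injective ?_⟩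
        refine (isRegular_iff_mem_nonZeroDivisors.mpr hr).left ?_
        have := congrArg e hab
        simpa [smul_eq_mul] using this
      rw [h] at h1
      simp at h1
    · intro h
      by_contra hne
      have h1 : (1 : ℕ∞) ≤ LocCoh.depth A A := Order.one_le_iff_pos.mpr (pos_iff_ne_zero.mpr hne)
      rw [LocCoh.depth, Groth.Agent.DepthLib.one_le_idealDepth_iff] at h1
      obtain ⟨x, hx, hreg⟩ := h1
      have hx' : x ∈ nonZeroDivisors A := by
        rw [mem_nonZeroDivisors_iff_left]
        intro a ha
        exact hreg (show x • a = x • 0 by rw [smul_eq_mul, ha, smul_zero])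
      have := h (e x) (by
        rw [mem_nonZeroDivisors_iff_left]
        intro a ha
        exact e.symm.injective (by
          rw [map_zero]
          refine mem_nonZeroDivisors_iff_left.mp hx' _ ?_
          simpa using congrArg e.symm ha))
      exact hx (by simpa using this.map e.symm)
  rw [hdepth]
  constructor
  · intro h r hr
    have hu : IsUnit (Mero.toK X ⊤ r) := IsLocalization.map_units Γ(Mero.kmod X, ⊤) (⟨r, hr⟩ : nonZeroDivisors R)
    have h0 := congrFun (congrArg Subtype.val (h (Mero.div hu.unit))) c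
    obtain ⟨v, hv⟩ := (QuotientGroup.eq_one_iff _).mp h0
    have hgu : IsUnit (X.presheaf.germ ⊤ c trivial r) := by
      have hv' : algebraMap (X.presheaf.stalk c) (Mero.KStalk X c) v =
          algebraMap (X.presheaf.stalk c) (Mero.KStalk X c) (X.presheaf.germ ⊤ c trivial r) :=
        congrArg Units.val hv
      exact Mero.algebraMap_KStalk_injective c hv' ▸ v.isUnit
    by_contra hnu
    obtain ⟨M, hM, hrM⟩ := exists_max_ideal_of_mem_nonunits hnu
    let q : PrimeSpectrum R := ⟨M, hM.isPrime⟩
    have hpr := congrArg PrimeSpectrum.asIdeal (Groth.Agent.MeroBasic.primeIdealOf_fromSpec hU q)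
    have hle := Groth.Agent.MeroBasic.pr_le_pr hU (hx := (trivial : c ∈ (⊤ : X.Opens)))
      (hy := Groth.Agent.MeroBasic.fromSpec_mem hU q) (hc (hU.fromSpec q))
    exact (Groth.Agent.MeroBasic.isUnit_germ_iff hU r).mp hgu (hle (hpr.ge hrM))
  · intro h D
    obtain ⟨V, hcV, g, hg⟩ := D.2 c
    obtain rfl : V = ⊤ := top_unique fun y _ => (hc y).mem_open V.isOpen hcV
    obtain ⟨⟨r, s⟩, hrs⟩ := IsLocalization.surj (nonZeroDivisors R) (g : Γ(Mero.kmod X, ⊤))
    obtain ⟨s', hs'⟩ := h s.1 s.2
    refine Subtype.ext (funext fun y => ?_)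
    rw [hg ⟨y, trivial⟩]
    refine (QuotientGroup.eq_one_iff _).mpr ?_
    have hgr : (g : Γ(Mero.kmod X, ⊤)) = Mero.toK X ⊤ (r * (s'⁻¹ : Rˣ)) := by
      rw [map_mul, ← show (g : Γ(Mero.kmod X, ⊤)) * Mero.toK X ⊤ s.1 = Mero.toK X ⊤ r from hrs,
        mul_assoc, ← map_mul, ← hs', Units.mul_inv, map_one, mul_one]
    have hru : IsUnit (r * (s'⁻¹ : Rˣ) : R) := by
      refine h _ ?_
      rw [mem_nonZeroDivisors_iff_left]
      intro a ha
      refine Groth.Agent.MeroBasic.toK_injective ⊤ ?_
      rw [map_zero]
      refine g.isUnit.mul_right_eq_zero.mp ?_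
      rw [hgr, ← map_mul, ha, map_zero]
    refine ⟨(hru.map (X.presheaf.germ ⊤ y trivial).hom).unit, Units.ext ?_⟩
    exact (congrFun (congrArg Subtype.val hgr) ⟨y, trivial⟩).symm

end Groth.Agent.S5082
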