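import Groth.Statements.S5083
import Groth.Agent.MeroBasic.DivBasic
-- import your own Groth.Agent.* helpers here

set_option autoImplicit false
universe u
open CategoryTheory CategoryTheory.Limits AlgebraicGeometry TopologicalSpace
open Mero

namespace Groth.Agent.S5083

/-- Let X be a scheme and D, D' divisors on X (global sections of the sheaf of units of K_X modulo units
of O_X, written multiplicatively). If D and D' are linearly equivalent, i.e. D · D'⁻¹ is the divisor
of a unit of the ring of global sections of K_X, then the O_X-modules O_X(D) and O_X(D') are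
isomorphic. (The published statement is an equivalence: O_X(D) and O_X(D') are isomorphic if and
only if D and D' are linearly equivalent; this row states only that linearly equivalent divisors
have isomorphic modules.) -/
theorem result (X : Scheme.{u}) (D D' : Mero.Divisor X) (h : Mero.LinEquiv D D') :
    Nonempty (Mero.divMod D ≅ Mero.divMod D') := by
  obtain ⟨f, hf⟩ := h
  refine Groth.Agent.MeroBasic.nonempty_iso_of_eq_mul_div f fun x => ?_
  have h1 : D.1 x * (D'.1 x)⁻¹ = Mero.germOf f ⟨x, trivial⟩ := congrFun (congrArg Subtype.val hf) x
  have e : ∀ a b : Mero.Germ X x, a = b * (a * b⁻¹) := fun a b => by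
    obtain ⟨u, rfl⟩ := QuotientGroup.mk_surjective a
    obtain ⟨v, rfl⟩ := QuotientGroup.mk_surjective b
    rw [← QuotientGroup.mk_inv, ← QuotientGroup.mk_mul, ← QuotientGroup.mk_mul, mul_left_comm, mul_inv_cancel, mul_one]
  exact (e (D.1 x) (D'.1 x)).trans (congrArg (fun t => D'.1 x * t) h1)

end Groth.Agent.S5083
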