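import Groth.Statements.S5084
import Groth.Agent.AssPoints.Basic
import Groth.Agent.MeroBasic.Minimal

set_option autoImplicit false
universe u
open CategoryTheory CategoryTheory.Limits AlgebraicGeometry TopologicalSpace
open Mero

namespace Groth.Agent.S5084

/-- Let X be a locally Noetherian scheme and F a quasi-coherent O_X-module. Then F is torsion-free — the
canonical map from F to its sheaf of meromorphic sections K_X(F), m ↦ m/1, is a monomorphism, i.e.
at every point no germ of a regular function kills a nonzero element of the stalk of F — if and only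
if every associated point of F is an associated point of the structure sheaf (a point x such that
the maximal ideal of O_{X,x} is an associated prime of O_{X,x}). -/
theorem result (X : Scheme.{u}) [IsLocallyNoetherian X]
    (F : X.Modules) (hF : Coh.IsQCoh F) :
    Mono (Mero.toMer F) ↔
      ∀ x : ↥X, Curv2.IsAssPoint F x →
        IsAssociatedPrime (IsLocalRing.maximalIdeal ↑(X.presheaf.stalk x)) ↑(X.presheaf.stalk x) := by
  constructor
  · intro hmono x hx
    by_contra hnot
    have := Groth.Agent.QCohLib.mono_iff_app_injective (Mero.toMer F) |>.mp hmono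
    obtain ⟨_, m, hm⟩ := hx
    -- a nonzerodivisor in the maximal ideal
    obtain ⟨g, hgm, hg⟩ : ∃ g ∈ IsLocalRing.maximalIdeal (X.presheaf.stalk x),
        g ∈ nonZeroDivisors (X.presheaf.stalk x) := by
      by_contra! hne
      have hsub : (IsLocalRing.maximalIdeal (X.presheaf.stalk x) : Set (X.presheaf.stalk x)) ⊆
          ⋃ q ∈ associatedPrimes (X.presheaf.stalk x) (X.presheaf.stalk x), (q : Set (X.presheaf.stalk x)) := by
        intro g hg
        rw [biUnion_associatedPrimes_eq_compl_nonZeroDivisors]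
        exact hne g hg
      obtain ⟨q, hq, hle⟩ := (Ideal.subset_union_prime_finite (associatedPrimes.finite _ _) (f := id) ⊥ ⊥
        fun q hq _ _ => hq.isPrime).mp hsub
      exact hnot ((IsLocalRing.maximalIdeal.isMaximal _).eq_of_le hq.isPrime.ne_top hle ▸ hq)
    rw [hm] at hgm
    obtain ⟨k, hk⟩ := hgm
    rw [Submodule.mem_colon_singleton, Submodule.mem_bot] at hk
    have hreg : g ^ k ∈ Mero.regStalk X x := by
      obtain ⟨_, ⟨U, hU, rfl⟩, hxU, -⟩ :=
        X.isBasis_affineOpens.exists_subset_of_mem_open (Set.mem_univ x) isOpen_univ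
      obtain ⟨S, h1, h2⟩ := Groth.Agent.MeroBasic.noetherian_good (X := X) hU
      rw [Groth.Agent.MeroBasic.regStalk_eq hU S h1 h2 hxU]
      exact pow_mem hg k
    obtain ⟨V, hxV, b, hb, hbg⟩ := hreg
    obtain ⟨W, hxW, a, ha⟩ := F.presheaf.exists_germ_eq m
    obtain ⟨Z, hxZ, i, j, e⟩ := F.presheaf.germ_eq x (show x ∈ V ⊓ W from ⟨hxV, hxW⟩) (show x ∈ V ⊓ W from ⟨hxV, hxW⟩)
      (X.presheaf.map (homOfLE (inf_le_left : V ⊓ W ≤ V)).op b • F.presheaf.map (homOfLE (inf_le_right : V ⊓ W ≤ W)).op a)
      (0 : Γ(F, V ⊓ W)) (by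
        rw [Groth.Agent.QCohLib.germ_smul, TopCat.Presheaf.germ_res_apply, TopCat.Presheaf.germ_res_apply,
          map_zero, ha, hbg]
        exact hk)
    rw [map_zero, Scheme.Modules.map_smul] at e
    have h0 : F.presheaf.map i.op (F.presheaf.map (homOfLE (inf_le_right : V ⊓ W ≤ W)).op a) = 0 := by
      refine this Z ?_
      rw [map_zero]
      refine Subtype.ext (funext fun z => ?_)
      change LocalizedModule.mk _ 1 = 0
      rw [← LocalizedModule.zero_mk (S := Mero.regStalk X z.1) 1, LocalizedModule.mk_eq]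
      refine ⟨Mero.regGerm z ⟨X.presheaf.map i.op (X.presheaf.map (homOfLE inf_le_left).op b),
        Mero.regSub_res _ (Mero.regSub_res _ hb)⟩, ?_⟩
      have e1 := congrArg (F.presheaf.germ Z z.1 z.2) e
      rw [Groth.Agent.QCohLib.germ_smul, map_zero] at e1
      simp only [one_smul, smul_zero, Submonoid.smul_def]
      exact e1
    have hm0 : m = 0 := by
      have := congrArg (F.presheaf.germ Z x hxZ) h0
      rwa [TopCat.Presheaf.germ_res_apply, TopCat.Presheaf.germ_res_apply, map_zero, ha] at this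
    apply (IsLocalRing.maximalIdeal.isMaximal (X.presheaf.stalk x)).ne_top
    rw [hm, hm0, Ideal.radical_eq_top, Ideal.eq_top_iff_one, Submodule.mem_colon_singleton, smul_zero]
    exact zero_mem _
  · intro h
    rw [Groth.Agent.QCohLib.mono_iff_app_injective]
    intro U
    rw [injective_iff_map_eq_zero]
    intro a ha
    refine Groth.Agent.QCohLib.section_ext _ _ fun x hx => ?_
    rw [map_zero]
    have h1 : (LocalizedModule.mk (F.presheaf.germ U x hx a) 1 : Mero.MStalk F x) = 0 :=
      congrFun (congrArg Subtype.val ha) ⟨x, hx⟩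
    rw [← LocalizedModule.zero_mk (S := Mero.regStalk X x) 1, LocalizedModule.mk_eq] at h1
    obtain ⟨⟨g, V, hxV, b, hb, hbg⟩, hw⟩ := h1
    simp only [one_smul, smul_zero, Submonoid.smul_def] at hw
    by_contra hne
    obtain ⟨Z, hxZ, i, j, e⟩ := F.presheaf.germ_eq x (show x ∈ V ⊓ U from ⟨hxV, hx⟩) (show x ∈ V ⊓ U from ⟨hxV, hx⟩)
      (X.presheaf.map (homOfLE (inf_le_left : V ⊓ U ≤ V)).op b • F.presheaf.map (homOfLE (inf_le_right : V ⊓ U ≤ U)).op a)
      (0 : Γ(F, V ⊓ U)) (by
        rw [Groth.Agent.QCohLib.germ_smul, TopCat.Presheaf.germ_res_apply, TopCat.Presheaf.germ_res_apply,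
          map_zero, hbg]
        exact hw)
    rw [map_zero, Scheme.Modules.map_smul] at e
    obtain ⟨x', hsp, hwk, hne'⟩ := Groth.Agent.AssPoints.exists_isWeakAssPoint_of_germ_ne_zero hF hxZ
      (F.presheaf.map i.op (F.presheaf.map (homOfLE (inf_le_right : V ⊓ U ≤ U)).op a))
      (by rwa [TopCat.Presheaf.germ_res_apply, TopCat.Presheaf.germ_res_apply])
    have hx'Z := hsp.mem_open Z.isOpen hxZ
    have hu := Groth.Agent.MeroBasic.isUnit_of_mem_nonZeroDivisors_of_isAssociatedPrime
      (h x' (Groth.Agent.AssPoints.isWeakAssPoint_iff_isAssPoint.mp hwk)) (hb ⟨x', (i.le hx'Z).1⟩)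
    apply hne'
    have e1 := congrArg (F.presheaf.germ Z x' hx'Z) e
    rw [Groth.Agent.QCohLib.germ_smul, map_zero, TopCat.Presheaf.germ_res_apply, TopCat.Presheaf.germ_res_apply] at e1
    exact hu.smul_eq_zero.mp e1

end Groth.Agent.S5084
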