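import Groth.Statements.S5091
import Groth.Agent.S1699
import Groth.Agent.DepthSections.ZPure
-- import your own Groth.Agent.* helpers here

set_option autoImplicit false
set_option linter.style.haveILetI false
set_option backward.isDefEq.respectTransparency false
universe u
open CategoryTheory CategoryTheory.Limits AlgebraicGeometry TopologicalSpace
open Div21

namespace Groth.Agent.S5091

/-- Let X be a locally Noetherian scheme, Y a closed subset and U = X − Y, with j : U → X the inclusion.
Then O_X → j_*O_U is injective — restriction of functions from every open V to V ∩ U is injective,
i.e. U is schematically dense in X — if and only if the local ring of X at every point of Y has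
depth at least 1. -/
theorem result (X : Scheme.{u}) [IsLocallyNoetherian X] (U : X.Opens) :
    CInt.IsSchematicallyDense U ↔
      ∀ x : ↥X, x ∉ U → (1 : ℕ∞) ≤ LocCoh.depth ↑(X.presheaf.stalk x) ↑(X.presheaf.stalk x) := by
  rw [S1699.result]
  refine forall_congr' fun x => ?_
  constructor
  · intro h hxU
    refine DepthLib.one_le_idealDepth_iff_forall_associatedPrimes.mpr fun p hp hle => hxU (h ?_)
    obtain rfl := (IsLocalRing.maximalIdeal.isMaximal _).eq_of_le hp.isPrime.ne_top hle
    exact hp
  · intro h hass
    by_contra hxU
    exact DepthLib.one_le_idealDepth_iff_forall_associatedPrimes.mp (h hxU) _ hass le_rfl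

end Groth.Agent.S5091
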