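import Groth.Statements.S5099
import Groth.Agent.MeroBasic.DepthOne
-- import your own Groth.Agent.* helpers here

set_option autoImplicit false
universe u
open CategoryTheory CategoryTheory.Limits AlgebraicGeometry TopologicalSpace
open Mero

namespace Groth.Agent.S5099

/-- General form, for divisors on a scheme that need not be integral: let X be a locally Noetherian
scheme, D a divisor on X and x a maximal point of the support of D (a point at which the germ of D
is not trivial and none of whose proper generizations has that property). Then the local ring of X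
at x has depth 1. -/
theorem result (X : Scheme.{u}) [IsLocallyNoetherian X] (D : Mero.Divisor X)
    (x : ↥X) (hx : x ∈ Mero.supp D) (hmax : ∀ z : ↥X, z ∈ Mero.supp D → z ⤳ x → z = x) :
    LocCoh.depth ↑(X.presheaf.stalk x) ↑(X.presheaf.stalk x) = 1 := by
  have key : ∀ E : Mero.Divisor X, ¬ Mero.IsEffectiveAt E x → (∀ z, E.1 z ≠ 1 → z ∈ Mero.supp D) →
      LocCoh.depth (X.presheaf.stalk x) (X.presheaf.stalk x) = 1 := fun E hE hsub => by
    obtain ⟨y, hyx, hy, hd⟩ := Groth.Agent.MeroBasic.exists_depth_one_not_isEffectiveAt E hE
    have hy1 := hmax y (hsub y fun h1 => hy (Groth.Agent.MeroBasic.isEffectiveAt_of_eq_one h1)) hyx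
    exact hy1 ▸ hd
  by_cases h : Mero.IsEffectiveAt D x
  · refine key D⁻¹ (fun h1 => hx (Groth.Agent.MeroBasic.eq_one_of_isEffectiveAt h h1)) fun z hz hz1 => hz ?_
    rw [show (D⁻¹).1 z = (D.1 z)⁻¹ from rfl, hz1, inv_one]
  · exact key D h fun z hz => hz

end Groth.Agent.S5099
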