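import Groth.Statements.S5102
import Groth.Agent.MeroBasic.DivBasic

set_option autoImplicit false
universe u
open CategoryTheory CategoryTheory.Limits AlgebraicGeometry TopologicalSpace
open Mero

namespace Groth.Agent.S5102

/-- Let X be a scheme and J a fractional ideal, i.e. a sub-O_X-module of the sheaf of meromorphic
functions K_X (given by a monomorphism J → K_X). Then J is an invertible O_X-module if and only if
every point of X has an open neighbourhood U together with a unit f of the ring Γ(U, K_X) such that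
J|_U = O_U · f: over every open subset V of U, the sections of J are exactly the r · f|_V with r a
function on V. -/
theorem result (X : Scheme.{u}) (J : X.Modules)
    (ι : J ⟶ Mero.kmod X) [Mono ι] :
    PicF.IsInvertible J ↔ ∀ x : ↥X, ∃ (U : X.Opens) (_ : x ∈ U) (f : (Γ(Mero.kmod X, U))ˣ),
      ∀ (V : X.Opens) (hV : V ≤ U),
        Set.range ⇑(ι.val.app (Opposite.op V)) =
          {t : Γ(Mero.kmod X, V) | ∃ r : Γ(X, V),
            t = Mero.toK X V r * (Mero.kmod X).presheaf.map (homOfLE hV).op (f : Γ(Mero.kmod X, U))} := by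
  have hinj := Groth.Agent.QCohLib.mono_iff_app_injective ι |>.mp inferInstance
  have key : ∀ {U : X.Opens} (ℓ : Γ(J, U)) (V : X.Opens) (hV : V ≤ U) (r : Γ(X, V)),
      ι.app V (r • (J.presheaf.map (homOfLE hV).op ℓ : Γ(J, V))) =
        Mero.toK X V r * (Mero.kmod X).presheaf.map (homOfLE hV).op (ι.app U ℓ) := by
    intro U ℓ V hV r
    rw [Scheme.Modules.Hom.app_smul, Groth.Agent.QCohLib.app_map]
    exact Subtype.ext (funext fun z => Algebra.smul_def (A := Mero.KStalk X z.1) _ _)
  constructor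
  · intro hJ x
    obtain ⟨U, hxU, ℓ, hℓ⟩ := Groth.Agent.InvBasic.exists_isBasis hJ x
    obtain ⟨V, hxV, i, a, b, hab⟩ := Groth.Agent.MeroBasic.exists_fraction (ι.app U ℓ) ⟨x, hxU⟩
    have hareg : a ∈ Mero.regSub X V := fun y => by
      rw [mem_nonZeroDivisors_iff_left]
      intro c hc
      obtain ⟨W, hyW, c', rfl⟩ := X.presheaf.exists_germ_eq c
      have h3 : X.presheaf.germ (V ⊓ W) y.1 ⟨y.2, hyW⟩
          (X.presheaf.map (homOfLE inf_le_left).op a * X.presheaf.map (homOfLE inf_le_right).op c') =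
          X.presheaf.germ (V ⊓ W) y.1 ⟨y.2, hyW⟩ 0 := by
        rw [map_mul, TopCat.Presheaf.germ_res_apply, TopCat.Presheaf.germ_res_apply, map_zero]
        exact hc
      obtain ⟨Z, hyZ, j, k, e⟩ := X.presheaf.germ_eq y.1 _ _ _ _ h3
      rw [map_zero] at e
      have hZU : Z ≤ U := j.le.trans (inf_le_left.trans i)
      have h0 : X.presheaf.map j.op (X.presheaf.map (homOfLE inf_le_right).op c') = 0 := by
        refine (hℓ Z hZU).1 ?_
        simp only [zero_smul]
        apply hinj Z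
        rw [key ℓ Z hZU, map_zero]
        refine Groth.Agent.MeroBasic.kmod_ext fun z => ?_
        rw [Groth.Agent.MeroBasic.toK_mul_apply,
          show ((Mero.kmod X).presheaf.map (homOfLE hZU).op (ι.app U ℓ)).1 z = _ from hab ⟨z.1, (j.le z.2).1⟩,
          Groth.Agent.MeroBasic.kstalk_mk_mul]
        refine (Groth.Agent.MeroBasic.kstalk_mk_eq_zero_iff _ _).mpr ?_
        have e1 := congrArg (X.presheaf.germ Z z.1 z.2) e
        simp only [map_mul, map_zero, TopCat.Presheaf.germ_res_apply] at e1 ⊢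
        rw [mul_comm]
        exact e1
      have e2 := congrArg (X.presheaf.germ Z y.1 hyZ) h0
      simpa only [TopCat.Presheaf.germ_res_apply, map_zero] using e2
    let g' : Γ(Mero.kmod X, V) :=
      ⟨fun y => LocalizedModule.mk (X.presheaf.germ V y.1 y.2 b.1) (Mero.regGerm y ⟨a, hareg⟩),
        fun y => ⟨V, y.2, 𝟙 _, b.1, ⟨a, hareg⟩, fun _ => rfl⟩⟩
    have hgg : (Mero.kmod X).presheaf.map (homOfLE i).op (ι.app U ℓ) * g' = 1 :=
      Groth.Agent.MeroBasic.kmod_ext fun y => by
        rw [Mero.kmod_mul_apply, Mero.kmod_one_apply,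
          show ((Mero.kmod X).presheaf.map (homOfLE i).op (ι.app U ℓ)).1 y = _ from hab y]
        refine LocalizedModule.mk_mul_mk.trans ?_
        refine Eq.trans ?_ (Mero.mk_self_eq_one (Mero.regGerm y b * Mero.regGerm y ⟨a, hareg⟩))
        exact Mero.mk_congr (mul_comm _ _) rfl
    refine ⟨V, hxV, Units.mkOfMulEqOne _ g' hgg, fun W hW => Set.ext fun t => ⟨?_, ?_⟩⟩
    · rintro ⟨m, rfl⟩
      obtain ⟨r, rfl⟩ := (hℓ W (hW.trans i)).2 m
      exact ⟨r, key ℓ W (hW.trans i) r⟩
    · rintro ⟨r, rfl⟩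
      exact ⟨_, key ℓ W (hW.trans i) r⟩
  · intro h
    refine Groth.Agent.InvBasic.isInvertible_of_isBasis fun x => ?_
    obtain ⟨U, hxU, f, hf⟩ := h x
    have hmem : (f : Γ(Mero.kmod X, U)) ∈ Set.range (ι.app U) := by
      refine (hf U le_rfl).symm.subset ⟨1, ?_⟩
      rw [map_one, one_mul]
      exact Subtype.ext rfl
    obtain ⟨ℓ, hℓ⟩ := hmem
    refine ⟨U, hxU, ℓ, fun W hW => ⟨fun a b hab => ?_, fun m => ?_⟩⟩
    · have h1 := congrArg (ι.app W) hab
      simp only at h1
      rw [key ℓ W hW, key ℓ W hW, hℓ] at h1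
      refine Groth.Agent.MeroBasic.toK_injective W (Groth.Agent.MeroBasic.kmod_ext fun z => ?_)
      exact (IsUnit.of_mul_eq_one ((↑f⁻¹ : Γ(Mero.kmod X, U)).1 ⟨z.1, hW z.2⟩)
        (congrFun (congrArg Subtype.val f.mul_inv) ⟨z.1, hW z.2⟩)).mul_right_cancel
        (congrFun (congrArg Subtype.val h1) z)
    · obtain ⟨r, hr⟩ := (hf W hW).subset ⟨m, rfl⟩
      refine ⟨r, hinj W ?_⟩
      simp only
      rw [key ℓ W hW, hℓ]
      exact hr.symm

end Groth.Agent.S5102
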