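import Groth.Statements.S5103
import Groth.Agent.Ref1.Classes

set_option autoImplicit false
universe u
open CategoryTheory CategoryTheory.Limits AlgebraicGeometry TopologicalSpace
open Div21

namespace Groth.Agent.S5103

/-- For an integral scheme (the canonical homomorphism Pic(X) → Cl(X) to the group of codimension-1
cycle classes is injective): let X be a normal locally Noetherian integral scheme, L an invertible
O_X-module and s a nonzero rational section of L (a nonzero element of the fibre of L at the generic
point). If the Weil divisor of s is principal — there is a nonzero rational function f whose order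
of vanishing at every point of codimension 1 (coheight 1 in the specialization order) equals the
order of s there — then L is isomorphic to O_X. -/
theorem result (X : Scheme.{u}) [IsIntegral X] [IsLocallyNoetherian X]
    (hX : Pi1.IsNormalScheme X) (L : X.Modules) (hL : PicF.IsInvertible L)
    (s : Cyc.secFibre L (genericPoint ↥X)) (hs : s ≠ 0) (f : ↑X.functionField) (hf : f ≠ 0)
    (h : ∀ x : ↥X, Order.coheight x = 1 →
      Cyc.secOrdAt L (genericPoint ↥X) x (genericPoint_specializes x) s = Scheme.ord f x) :
    Nonempty (L ≅ Coh.structureModule X) := by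
  classical
  obtain ⟨t, rfl⟩ := Submodule.Quotient.mk_surjective _ s
  have ht : t ≠ 0 := fun e => hs (by rw [e]; rfl)
  have hb : ∀ x : ↥X, ∃ e : L.presheaf.stalk x,
      Function.Bijective (fun c : X.presheaf.stalk x => c • e) ∧
      (∀ z : L.presheaf.stalk (genericPoint ↥X), ∃ c : X.functionField, z = c • Ref1.sp L x e) ∧
      ∀ c : X.functionField, c • Ref1.sp L x e = 0 → c = 0 := fun x => by
    obtain ⟨U, hxU, l, hl⟩ := InvBasic.exists_isBasis hL x
    have hη := hl.stalk_bijective (Ref1.eta_mem hxU)
    refine ⟨L.presheaf.germ U x hxU l, hl.stalk_bijective hxU, fun z => ?_, fun c hc => ?_⟩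
    · rw [Ref1.sp_germ]
      exact (hη.2 z).imp fun _ h => h.symm
    · rw [Ref1.sp_germ] at hc
      exact hη.1 (hc.trans (zero_smul _ _).symm)
  choose e he hspan hfree using hb
  choose a ha using fun x => hspan x t
  have ha0 : ∀ x, a x ≠ 0 := fun x h => ht (by rw [ha x, h, zero_smul])
  let D : ↥X → ℤ := fun y => Scheme.ord (a y) y
  have hD : ∀ y x : ↥X, y ⤳ x → Scheme.ord (a x) y = D y := by
    intro y x hyx
    obtain ⟨b, hb'⟩ := (he y).2 (L.presheaf.stalkSpecializes hyx (e x))
    have e1 : Ref1.sp L x (e x) = algebraMap (X.presheaf.stalk y) X.functionField b • Ref1.sp L y (e y) := by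
      rw [← Ref1.sp_smul, ← Ref1.sp_specializes L hyx (e x)]
      exact congrArg _ hb'.symm
    have e2 : a y = a x * algebraMap (X.presheaf.stalk y) X.functionField b := by
      refine sub_eq_zero.1 (hfree y _ ?_)
      rw [sub_smul, mul_smul, ← e1, ← ha x, ← ha y, sub_self]
    have hbu : IsUnit b := by
      obtain ⟨U, hxU, l, hl⟩ := InvBasic.exists_isBasis hL x
      obtain ⟨c, hc⟩ := (he x).2 (L.presheaf.germ U x hxU l)
      obtain ⟨d, hd⟩ := (hl.stalk_bijective (hyx.mem_open U.isOpen hxU)).2 (e y)
      let φ := algebraMap (X.presheaf.stalk y) X.functionField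
      have hd1 : φ d • Ref1.sp L y (L.presheaf.germ U y (hyx.mem_open U.isOpen hxU) l) = Ref1.sp L y (e y) :=
        (Ref1.sp_smul L y d _).symm.trans (congrArg _ hd)
      have hc1 : Ref1.sp L y (L.presheaf.germ U y (hyx.mem_open U.isOpen hxU) l) =
          φ (X.presheaf.stalkSpecializes hyx c) • Ref1.sp L x (e x) := by
        rw [Ref1.sp_germ, ← Ref1.sp_germ L x hxU l, ← hc, Ref1.sp_smul, Ref1.algebraMap_specializes hyx c]
      have key : (φ (b * (d * X.presheaf.stalkSpecializes hyx c)) - 1) • Ref1.sp L y (e y) = 0 := by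
        rw [sub_smul, one_smul, sub_eq_zero, map_mul, map_mul]
        conv_rhs => rw [← hd1, hc1, e1, ← mul_smul, ← mul_smul]
        congr 1
        ring
      exact IsUnit.of_mul_eq_one _ (IsFractionRing.injective (X.presheaf.stalk y) X.functionField
        ((sub_eq_zero.1 (hfree y _ key)).trans (map_one _).symm))
    change _ = Scheme.ord (a y) y
    rw [e2, Scheme.ord_mul (ha0 x) ((map_ne_zero_iff _ (Ref1.algebraMap_stalk_injective y)).2 hbu.ne_zero),
      Ref1.ord_algebraMap_of_isUnit hbu, add_zero]
  have hinj : ∀ y, Function.Injective (Ref1.sp L y) := fun y p q hpq => by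
    obtain ⟨p', rfl⟩ := (he y).2 p
    obtain ⟨q', rfl⟩ := (he y).2 q
    simp only [Ref1.sp_smul] at hpq
    have := hfree y _ ((sub_smul _ _ _).trans (sub_eq_zero.2 hpq))
    rw [IsFractionRing.injective (X.presheaf.stalk y) X.functionField (sub_eq_zero.1 this)]
  have hR : Ref1.Rep L t D := by
    refine ⟨fun z => ?_, fun c hc => ?_, hinj, fun x c => ?_⟩
    · obtain ⟨c, hc⟩ := hspan (genericPoint ↥X) z
      exact ⟨c / a (genericPoint ↥X), by
        conv_rhs => rw [ha (genericPoint ↥X), ← mul_smul, div_mul_cancel₀ _ (ha0 _)]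
        exact hc⟩
    · have := hfree (genericPoint ↥X) (c * a (genericPoint ↥X)) (by rw [mul_smul, ← ha]; exact hc)
      exact (mul_eq_zero.1 this).resolve_right (ha0 _)
    · have hm : (∃ m, Ref1.sp L x m = c • t) ↔
          c * a x ∈ Set.range (algebraMap (X.presheaf.stalk x) X.functionField) := by
        constructor
        · rintro ⟨m, hm⟩
          obtain ⟨r, rfl⟩ := (he x).2 m
          refine ⟨r, sub_eq_zero.1 (hfree x _ ?_)⟩
          rw [sub_smul, ← Ref1.sp_smul, mul_smul, ← ha x, sub_eq_zero]
          exact hm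
        · rintro ⟨r, hr⟩
          exact ⟨r • e x, by rw [Ref1.sp_smul, hr, mul_smul, ← ha x]⟩
      rw [hm]
      by_cases hc : c = 0
      · subst hc
        exact iff_of_true ⟨0, by rw [map_zero, zero_mul]⟩ fun y _ _ => Or.inl rfl
      rw [Ref1.mem_range_iff_ord hX x (mul_ne_zero hc (ha0 x))]
      refine forall_congr' fun y => forall_congr' fun hy => forall_congr' fun hy1 => ?_
      rw [Scheme.ord_mul hc (ha0 x), hD y x hy]
      simp only [Ref1.Ge, hc, false_or]
      omega
  obtain ⟨-, t₁, hR₁⟩ := Ref1.hasDiv_structureModule hX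
  refine (hR.rescale (inv_ne_zero hf)).exists_iso hR₁ fun y hy => ?_
  have h1 := h y hy
  rw [hR.secOrdAt_self hX hy] at h1
  rw [Ref1.ord_inv hf, h1]
  ring

end Groth.Agent.S5103
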