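import Groth.Statements.S5106
import Groth.Agent.LimLib.Space
import Mathlib.CategoryTheory.CofilteredSystem

set_option autoImplicit false
universe u
open CategoryTheory CategoryTheory.Limits AlgebraicGeometry TopologicalSpace
open Lim8

namespace Groth.Agent.S5106

/-- Let (S_i) be a cofiltered system of schemes with affine transition morphisms and S its limit.
Suppose that every S_i has only finitely many maximal points (points with no proper generization,
i.e. generic points of irreducible components) and that the transition morphisms send maximal points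
to maximal points. Then the set of maximal points of S is the limit of the sets of maximal points of
the S_i: a point of S is maximal if and only if its image in every S_i is a maximal point of S_i. -/
theorem result {I : Type u} [SmallCategory I] [IsCofiltered I]
    (D : I ⥤ Scheme.{u}) (c : Limits.Cone D) (hc : Limits.IsLimit c)
    [∀ (i j : I) (g : i ⟶ j), IsAffineHom (D.map g)]
    (hfin : ∀ i : I, {s : ↥(D.obj i) | ∀ z : ↥(D.obj i), z ⤳ s → z = s}.Finite)
    (hsys : ∀ (i j : I) (g : i ⟶ j) (s : ↥(D.obj i)), (∀ z : ↥(D.obj i), z ⤳ s → z = s) →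
      ∀ z : ↥(D.obj j), z ⤳ D.map g s → z = D.map g s)
    (s : ↥c.pt) :
    (∀ z : ↥c.pt, z ⤳ s → z = s) ↔ ∀ (i : I) (z : ↥(D.obj i)), z ⤳ c.π.app i s → z = c.π.app i s := by
  refine ⟨fun h => ?_, fun h z hz => Groth.Agent.LimLib.ext_of_forall_π hc fun i =>
    h i _ (hz.map (c.π.app i).continuous)⟩
  let M (i : I) : Set ↥(D.obj i) := {t | t ⤳ c.π.app i s ∧ ∀ z, z ⤳ t → z = t}
  have hMne (i : I) : (M i).Nonempty := by
    obtain ⟨t, ht⟩ : ∃ t, IsGenericPoint t (irreducibleComponent (c.π.app i s)) :=
      QuasiSober.sober isIrreducible_irreducibleComponent isClosed_irreducibleComponent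
    refine ⟨t, ht.specializes mem_irreducibleComponent, fun z hz => ?_⟩
    refine (Specializes.antisymm hz (ht.specializes ?_)).eq
    have hmax := (irreducibleComponent_mem_irreducibleComponents (c.π.app i s)).2
      isIrreducible_singleton.closure
      (ht.def ▸ closure_minimal (Set.singleton_subset_iff.2 hz.mem_closure) isClosed_closure)
    exact hmax (subset_closure rfl)
  have hmap {i j : I} (f : i ⟶ j) : Set.MapsTo (D.map f) (M i) (M j) := fun t ht =>
    ⟨by
      rw [← show D.map f (c.π.app i s) = c.π.app j s from
        congrArg (fun g : c.pt ⟶ D.obj j => g s) (c.w f)]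
      exact ht.1.map (D.map f).continuous, hsys i j f t ht.2⟩
  let F : I ⥤ Type u :=
    { obj := fun i => M i
      map := fun {i j} f => TypeCat.ofHom (fun t : M i => ⟨D.map f t.1, hmap f t.2⟩)
      map_id := fun i => by ext t; exact congrArg (fun g : D.obj i ⟶ D.obj i => g t.1) (D.map_id i)
      map_comp := fun {i j k} f g => by ext t; exact congrArg (fun q : D.obj i ⟶ D.obj k => q t.1) (D.map_comp f g) }
  haveI (i : I) : Finite (F.obj i) := ((hfin i).subset fun t ht => ht.2).to_subtype
  haveI (i : I) : Nonempty (F.obj i) := (hMne i).to_subtype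
  obtain ⟨x, hx⟩ := nonempty_sections_of_finite_cofiltered_system F
  obtain ⟨t, ht⟩ := Groth.Agent.LimLib.exists_π_eq hc (fun i => (x i).1)
    fun f => congrArg Subtype.val (hx f)
  have hts : t ⤳ s := by
    rw [specializes_iff_forall_open]
    intro W hW hsW
    obtain ⟨_, ⟨_, ⟨i, V, -, rfl⟩, rfl⟩, hsV, hVW⟩ :=
      (isBasis_preimage_isAffineOpen D c hc).exists_subset_of_mem_open hsW hW
    refine hVW ?_
    show c.π.app i t ∈ V
    rw [ht]
    exact (x i).2.1.mem_open V.2 hsV
  intro i
  rw [← h t hts, ht]
  exact (x i).2.2

end Groth.Agent.S5106
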