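import Groth.Statements.S5111
import Groth.Agent.S3848
-- import your own Groth.Agent.* helpers here

set_option autoImplicit false
universe u
open CategoryTheory CategoryTheory.Limits AlgebraicGeometry TopologicalSpace
open Rat20

namespace Groth.Agent.S5111

/-- Let S and X be locally Noetherian schemes, f : X → S a flat morphism, g : Y → S a morphism locally
of finite type, U a dense open subset of S, h : f⁻¹(U) → Y an S-morphism, Z the reduced closed
subscheme of X with underlying space f⁻¹(S − U), and h₀ : Z → Y an S-morphism; suppose X is normal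
at every point of Z. Then there is an S-morphism h' : X → Y extending h and inducing h₀ on Z if and
only if: for every spectrum S₁ of a discrete valuation ring and every morphism u : S₁ → S sending
the closed point outside U and the generic point into U, there is an S₁-morphism h'₁ : X ×_S S₁ → Y
×_S S₁ which extends the base change of h on the inverse image of U and which, at every point z₁ of
Z ×_S S₁, agrees on Spec k(z₁) with the base change of h₀. (Morphisms into Y ×_S S₁ over S₁ are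
compared through their components in Y.) -/
theorem result {X Y S : Scheme.{u}} [IsLocallyNoetherian S]
    [IsLocallyNoetherian X] (f : X ⟶ S) [Flat f] (g : Y ⟶ S) [LocallyOfFiniteType g]
    (U : S.Opens) (hU : Dense (U : Set ↥S)) (h : ↑(f ⁻¹ᵁ U) ⟶ Y) (hh : h ≫ g = (f ⁻¹ᵁ U).ι ≫ f)
    (Z : Scheme.{u}) (iZ : Z ⟶ X) [IsClosedImmersion iZ] [IsReduced Z]
    (hZ : Set.range ⇑iZ = ((f ⁻¹ᵁ U : X.Opens) : Set ↥X)ᶜ) (h₀ : Z ⟶ Y) (hh₀ : h₀ ≫ g = iZ ≫ f)
    (hnorm : ∀ z : ↥Z, IsDomain ↑(X.presheaf.stalk (iZ z)) ∧ IsIntegrallyClosed ↑(X.presheaf.stalk (iZ z))) :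
    (∃ h' : X ⟶ Y, h' ≫ g = f ∧ (f ⁻¹ᵁ U).ι ≫ h' = h ∧ iZ ≫ h' = h₀) ↔
      ∀ (R : Type u) [CommRing R] [IsDomain R] [IsDiscreteValuationRing R]
        (u : Spec (CommRingCat.of R) ⟶ S),
        u (IsLocalRing.closedPoint R) ∉ U → u (genericPoint ↥(Spec (CommRingCat.of R))) ∈ U →
        ∃ h₁ : pullback f u ⟶ pullback g u,
          h₁ ≫ pullback.snd g u = pullback.snd f u ∧
          ((pullback.fst f u) ⁻¹ᵁ (f ⁻¹ᵁ U)).ι ≫ h₁ ≫ pullback.fst g u = (pullback.fst f u ∣_ (f ⁻¹ᵁ U)) ≫ h ∧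
          ∀ z₁ : ↥(pullback (iZ ≫ f) u),
            (pullback (iZ ≫ f) u).fromSpecResidueField z₁ ≫
                pullback.lift (pullback.fst (iZ ≫ f) u ≫ iZ) (pullback.snd (iZ ≫ f) u)
                  ((Category.assoc _ _ _).trans pullback.condition) ≫ h₁ ≫ pullback.fst g u =
              (pullback (iZ ≫ f) u).fromSpecResidueField z₁ ≫ pullback.fst (iZ ≫ f) u ≫ h₀ := by
  classical
  constructor
  · rintro ⟨h', hh', hU', hZ'⟩ R _ _ _ u _ _
    refine ⟨pullback.lift (pullback.fst f u ≫ h') (pullback.snd f u)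
      (by rw [Category.assoc, hh', pullback.condition]), pullback.lift_snd _ _ _, ?_, fun z₁ => ?_⟩
    · rw [pullback.lift_fst, ← hU', reassoc_of% (morphismRestrict_ι (pullback.fst f u) (f ⁻¹ᵁ U))]
    · rw [pullback.lift_fst, pullback.lift_fst_assoc, Category.assoc, hZ']
  intro H
  let U' := f ⁻¹ᵁ U
  have hmemU : ∀ x : X, x ∉ U' → ∃ z, iZ z = x := fun x hx => hZ.ge hx
  have hZU : ∀ z, iZ z ∉ U' := fun z => hZ.le ⟨z, rfl⟩
  -- generalisations in `U'`
  have hgen : ∀ x : X, ∃ b ∈ U', b ⤳ x := by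
    intro x
    obtain ⟨V, hV, hxV, -⟩ := exists_isAffineOpen_mem_and_subset (U := (⊤ : S.Opens)) (x := f x) trivial
    haveI : IsNoetherianRing Γ(S, V) := IsLocallyNoetherian.component_noetherian (X := S) ⟨V, hV⟩
    haveI : NoetherianSpace (V : Set S) := noetherianSpace_of_isAffineOpen V hV
    haveI : QuasiSober (V : Set S) := V.isOpen.isOpenEmbedding_subtypeVal.quasiSober
    have hd : Dense (Subtype.val ⁻¹' (U : Set S) : Set (V : Set S)) :=
      hU.preimage V.isOpen.isOpenMap_subtype_val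
    obtain ⟨b, ⟨hbU, -⟩, hb⟩ := SectExt.exists_specializes_of_mem_closure
      (U.isOpen.preimage continuous_subtype_val) isClosed_univ (x := ⟨f x, hxV⟩) (by
        rw [Set.inter_univ]
        exact hd _)
    obtain ⟨x', hx', hfx'⟩ := Flat.generalizingMap f (hb.map continuous_subtype_val : b.1 ⤳ f x)
    exact ⟨x', show f x' ∈ U from hfx'.symm ▸ hbU, hx'⟩
  have hU'd : Dense (U' : Set X) := fun x => by
    obtain ⟨b, hb, hbx⟩ := hgen x
    exact closure_mono (Set.singleton_subset_iff.mpr hb) hbx.mem_closure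
  -- the lifts given by the hypothesis
  have hlift : ∀ (z : Z) (R : Type u) [CommRing R] [IsDomain R] [IsDiscreteValuationRing R]
      (u' : Spec (CommRingCat.of R) ⟶ X), u' (IsLocalRing.closedPoint R) = iZ z →
      ∀ ub : Spec (CommRingCat.of (FractionRing R)) ⟶ (U' : Scheme.{u}),
        ub ≫ U'.ι = Spec.map (CommRingCat.ofHom (algebraMap R (FractionRing R))) ≫ u' →
      ∃ (h₁ : Spec (CommRingCat.of R) ⟶ Y) (a : Spec (CommRingCat.of (IsLocalRing.ResidueField R)) ⟶ Z),
        h₁ ≫ g = u' ≫ f ∧ Spec.map (CommRingCat.ofHom (algebraMap R (FractionRing R))) ≫ h₁ = ub ≫ h ∧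
        a (IsLocalRing.closedPoint _) = z ∧
        a ≫ iZ = Spec.map (CommRingCat.ofHom (IsLocalRing.residue R)) ≫ u' ∧
        Spec.map (CommRingCat.ofHom (IsLocalRing.residue R)) ≫ h₁ = a ≫ h₀ := by
    intro z R _ _ _ u' hu' ub hub
    let al := CommRingCat.ofHom (algebraMap R (FractionRing R))
    let q := Spec.map (CommRingCat.ofHom (IsLocalRing.residue R))
    have hq : q (IsLocalRing.closedPoint _) = IsLocalRing.closedPoint R :=
      IsLocalRing.PrimeSpectrum.comap_residue R _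
    have hgenR : u' (genericPoint ↥(Spec (CommRingCat.of R))) ∈ U' := by
      have h1 : u' (genericPoint ↥(Spec (CommRingCat.of R))) ⤳
          u' (Spec.map al (IsLocalRing.closedPoint (FractionRing R))) :=
        ((genericPoint_spec _).specializes trivial).map u'.continuous
      refine h1.mem_open U'.isOpen ?_
      rw [← Scheme.Hom.comp_apply, ← hub]
      exact (ub _).2
    obtain ⟨h₁, h1s, h1U, h1Z⟩ := H R (u' ≫ f)
      (by rw [Scheme.Hom.comp_apply, hu']; exact hZU z)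
      (by rw [Scheme.Hom.comp_apply]; exact hgenR)
    let L := pullback.lift u' (𝟙 _) (by simp) ≫ h₁
    -- the point of `Z` through the closed point
    let c := pullback.snd iZ (q ≫ u')
    haveI : IsClosedImmersion c := inferInstance
    haveI : Surjective c := by
      refine ⟨fun t => ?_⟩
      have : t ∈ Set.range c := by
        rw [Scheme.Pullback.range_snd, Set.mem_preimage]
        refine ⟨z, ?_⟩
        rw [show t = IsLocalRing.closedPoint (IsLocalRing.ResidueField R) from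
          Subsingleton.elim (α := PrimeSpectrum (IsLocalRing.ResidueField R)) _ _,
          Scheme.Hom.comp_apply, hq, hu']
      exact this
    haveI : IsIso c := isIso_of_isClosedImmersion_of_surjective c
    let a := inv c ≫ pullback.fst iZ (q ≫ u')
    have ha : a ≫ iZ = q ≫ u' := by rw [Category.assoc, pullback.condition, IsIso.inv_hom_id_assoc]
    refine ⟨L ≫ pullback.fst g (u' ≫ f), a, ?_, ?_, ?_, ha, ?_⟩
    · simp only [L, Category.assoc, pullback.condition, reassoc_of% h1s, pullback.lift_snd_assoc,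
        Category.id_comp]
    · let r : Spec (CommRingCat.of (FractionRing R)) ⟶
          ((pullback.fst f (u' ≫ f)) ⁻¹ᵁ U' : (pullback f (u' ≫ f)).Opens) :=
        IsOpenImmersion.lift ((pullback.fst f (u' ≫ f)) ⁻¹ᵁ U').ι
          (Spec.map al ≫ pullback.lift u' (𝟙 _) (by simp)) (by
          rintro _ ⟨t, rfl⟩
          rw [Scheme.Opens.range_ι]
          change pullback.fst f (u' ≫ f) _ ∈ U'
          rw [← Scheme.Hom.comp_apply, Category.assoc, pullback.lift_fst, ← hub]
          exact (ub t).2)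
      have hr : r ≫ ((pullback.fst f (u' ≫ f)) ⁻¹ᵁ U').ι = Spec.map al ≫ pullback.lift u' (𝟙 _) (by simp) :=
        IsOpenImmersion.lift_fac _ _ _
      have hr' : r ≫ (pullback.fst f (u' ≫ f) ∣_ U') = ub := by
        rw [← cancel_mono U'.ι, Category.assoc, morphismRestrict_ι, reassoc_of% hr, pullback.lift_fst, hub]
      simp only [L, Category.assoc]
      rw [← reassoc_of% hr, h1U]
      exact (Category.assoc _ _ _).symm.trans (congrArg (· ≫ h) hr')
    · apply iZ.isClosedEmbedding.injective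
      rw [← Scheme.Hom.comp_apply, ha, Scheme.Hom.comp_apply, hq, hu']
    · let P := pullback (iZ ≫ f) (u' ≫ f)
      let p : Spec (CommRingCat.of (IsLocalRing.ResidueField R)) ⟶ P :=
        pullback.lift a q (by rw [reassoc_of% ha])
      let z₁ : P := p (IsLocalRing.closedPoint _)
      let d := P.descResidueField (Scheme.stalkClosedPointTo p)
      have hd : Spec.map d ≫ P.fromSpecResidueField z₁ = p :=
        Scheme.descResidueField_stalkClosedPointTo_fromSpecResidueField _ P p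
      have h2 : p ≫ pullback.lift (pullback.fst (iZ ≫ f) (u' ≫ f) ≫ iZ) (pullback.snd (iZ ≫ f) (u' ≫ f))
            ((Category.assoc _ _ _).trans pullback.condition) ≫ h₁ ≫ pullback.fst g (u' ≫ f) =
          p ≫ pullback.fst (iZ ≫ f) (u' ≫ f) ≫ h₀ :=
        ((congrArg (· ≫ _) hd.symm).trans (Category.assoc _ _ _)).trans ((congrArg (Spec.map d ≫ ·) (h1Z z₁)).trans
          ((Category.assoc _ _ _).symm.trans (congrArg (· ≫ _) hd)))
      rw [show p ≫ pullback.fst (iZ ≫ f) (u' ≫ f) ≫ h₀ = a ≫ h₀ from pullback.lift_fst_assoc _ _ _ _] at h2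
      rw [← h2, ← Category.assoc p]
      simp only [L, ← Category.assoc]
      congr 2
      apply pullback.hom_ext
      · rw [Category.assoc, Category.assoc, pullback.lift_fst, pullback.lift_fst, pullback.lift_fst_assoc, ha]
      · rw [Category.assoc, Category.assoc, pullback.lift_snd, pullback.lift_snd, pullback.lift_snd,
          Category.comp_id]
  -- a local extension near each point of `Z`, with affine target
  have hloc : ∀ z : Z, ∃ (V : X.Opens) (a : (V : Scheme.{u}) ⟶ Y), iZ z ∈ V ∧ a ≫ g = V.ι ≫ f ∧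
      (X.homOfLE (inf_le_left : U' ⊓ V ≤ U') ≫ h = X.homOfLE (inf_le_right : U' ⊓ V ≤ V) ≫ a) ∧
      ∀ (k : Type u) [Field k] (r : Spec (CommRingCat.of k) ⟶ Z) (r' : Spec (CommRingCat.of k) ⟶ (V : Scheme.{u})),
        r' ≫ V.ι = r ≫ iZ → r' ≫ a = r ≫ h₀ := by
    intro z
    let q' := pullback.snd g f
    let σ : (U' : Scheme.{u}) ⟶ pullback g f := pullback.lift h U'.ι hh
    let L₀ : Z ⟶ pullback g f := pullback.lift h₀ iZ hh₀
    have hL₀ : L₀ ≫ q' = iZ := pullback.lift_snd _ _ _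
    have hy : q' (L₀ z) = iZ z := by rw [← Scheme.Hom.comp_apply, hL₀]
    haveI := (hnorm z).1
    have hk : Function.Bijective (q'.residueFieldMap (L₀ z)) := by
      haveI : IsClosedImmersion (L₀ ≫ q') := by rw [hL₀]; infer_instance
      have hs : Function.Surjective ((L₀ ≫ q').residueFieldMap z) := by
        intro c
        obtain ⟨c, rfl⟩ := IsLocalRing.residue_surjective c
        obtain ⟨d, rfl⟩ := (L₀ ≫ q').stalkMap_surjective z c
        exact ⟨X.residue _ d, rfl⟩
      rw [Scheme.residueFieldMap_comp] at hs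
      refine ⟨RingHom.injective _, fun c => ?_⟩
      obtain ⟨d, hd⟩ := hs (L₀.residueFieldMap z c)
      exact ⟨d, RingHom.injective (L₀.residueFieldMap z).hom hd⟩
    obtain ⟨U₂, hUU₂, hxU₂, σ', hσ', hσU, hval⟩ := (S3848.result q' U' hU'd σ (pullback.lift_snd _ _ _)
      (iZ z) (hZU z) (hnorm z).2 (L₀ z) hy hk).mpr (by
      intro R _ _ _ u' hu' ub hub
      obtain ⟨h₁, a, h1g, h1U, haz, ha, h1a⟩ := hlift z R u' hu' ub hub
      refine ⟨pullback.lift h₁ u' h1g, pullback.lift_snd _ _ _, ?_, ?_⟩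
      · have e : Spec.map (CommRingCat.ofHom (IsLocalRing.residue R)) ≫ pullback.lift h₁ u' h1g = a ≫ L₀ := by
          apply pullback.hom_ext
          · rw [Category.assoc, pullback.lift_fst, Category.assoc, pullback.lift_fst, h1a]
          · rw [Category.assoc, pullback.lift_snd, Category.assoc, pullback.lift_snd, ha]
        have h2 := congrArg (fun (m : Spec (CommRingCat.of (IsLocalRing.ResidueField R)) ⟶ pullback g f) =>
          m (IsLocalRing.closedPoint _)) e
        simp only [Scheme.Hom.comp_apply, haz] at h2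
        rwa [show Spec.map (CommRingCat.ofHom (IsLocalRing.residue R)) (IsLocalRing.closedPoint _) =
          IsLocalRing.closedPoint R from IsLocalRing.PrimeSpectrum.comap_residue R _] at h2
      · apply pullback.hom_ext
        · rw [Category.assoc, pullback.lift_fst, Category.assoc, pullback.lift_fst, h1U]
        · rw [Category.assoc, pullback.lift_snd, Category.assoc, pullback.lift_snd, hub])
    let a₂ := σ' ≫ pullback.fst g f
    have ha₂x : a₂ ⟨iZ z, hxU₂⟩ = h₀ z := by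
      rw [Scheme.Hom.comp_apply, hval, ← Scheme.Hom.comp_apply, pullback.lift_fst]
    obtain ⟨Y₀, hY₀, hzY, -⟩ := exists_isAffineOpen_mem_and_subset (U := (⊤ : Y.Opens)) (x := h₀ z) trivial
    let V : X.Opens := U₂.ι ''ᵁ (a₂ ⁻¹ᵁ Y₀) ⊓
      ⟨(iZ '' (h₀ ⁻¹ᵁ Y₀ : Set Z)ᶜ)ᶜ,
        (iZ.isClosedEmbedding.isClosedMap _ (h₀ ⁻¹ᵁ Y₀).isOpen.isClosed_compl).isOpen_compl⟩
    have hV : V ≤ U₂ := inf_le_left.trans (U₂.ι_image_le _)
    let a := X.homOfLE hV ≫ a₂
    have haY : ∀ t : V, a t ∈ Y₀ := fun t => by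
      obtain ⟨c, hc, hct⟩ := t.2.1
      rw [Scheme.Hom.comp_apply, show X.homOfLE hV t = c from U₂.ι.isOpenEmbedding.injective
        (by rw [← Scheme.Hom.comp_apply, Scheme.homOfLE_ι]; exact hct.symm)]
      exact hc
    have hhY : ∀ z' : Z, iZ z' ∈ V → h₀ z' ∈ Y₀ := fun z' hz' => by
      by_contra hc
      exact hz'.2 ⟨z', hc, rfl⟩
    have hag : X.homOfLE (inf_le_left : U' ⊓ V ≤ U') ≫ h = X.homOfLE (inf_le_right : U' ⊓ V ≤ V) ≫ a := by
      rw [show h = X.homOfLE hUU₂ ≫ a₂ by rw [← Category.assoc, hσU, pullback.lift_fst]]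
      simp only [a, Scheme.homOfLE_homOfLE_assoc]
    refine ⟨V, a, ⟨⟨⟨iZ z, hxU₂⟩, by rw [SetLike.mem_coe]; exact (ha₂x ▸ hzY : a₂ _ ∈ Y₀), rfl⟩,
      fun ⟨z', hz', he⟩ => hz' (by rw [iZ.isClosedEmbedding.injective he]; exact hzY)⟩, ?_, hag, ?_⟩
    · have hσ'' : σ' ≫ pullback.snd g f = U₂.ι := hσ'
      simp only [a, a₂, Category.assoc, pullback.condition, reassoc_of% hσ'', Scheme.homOfLE_ι_assoc]
    intro k _ r r' hrr'
    let pt : Spec (CommRingCat.of k) := IsLocalRing.closedPoint k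
    let z' := r pt
    have hz'V : iZ z' ∈ V := by
      rw [← Scheme.Hom.comp_apply, ← hrr', Scheme.Hom.comp_apply]
      exact (r' pt).2
    obtain ⟨b, hbU, hbx⟩ := hgen (iZ z')
    obtain ⟨R, i1, i2, i3, u', gK, hu', hgK, -⟩ := SectExt.exists_dvr_of_specializes U'.ι ⟨b, hbU⟩ (iZ z')
      hbx (fun e => hZU z' (e ▸ hbU))
    obtain ⟨h₁, a', -, h1U, haz, ha', h1a⟩ := hlift z' R u' hu' gK hgK
    have hr₀ : Set.range u' ⊆ Set.range V.ι := by
      rintro _ ⟨t, rfl⟩
      rw [Scheme.Opens.range_ι]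
      exact ((IsLocalRing.specializes_closedPoint t).map u'.continuous).mem_open V.isOpen (hu'.symm ▸ hz'V)
    let r₀ := IsOpenImmersion.lift V.ι u' hr₀
    have hr₀ι : r₀ ≫ V.ι = u' := IsOpenImmersion.lift_fac _ _ _
    let q := Spec.map (CommRingCat.ofHom (IsLocalRing.residue R))
    have hq : q (IsLocalRing.closedPoint _) = IsLocalRing.closedPoint R :=
      IsLocalRing.PrimeSpectrum.comap_residue R _
    have hl : r₀ ≫ a = h₁ := by
      refine UnivClosed.ext_of_mem (O := CommRingCat.of R) hY₀ _ _ (haY _) ?_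
        (CommRingCat.ofHom (algebraMap R (FractionRing R))) (IsFractionRing.injective R _) ?_
      · have h2 : q (IsLocalRing.closedPoint _) = IsLocalRing.closedPoint R := hq
        rw [← h2, ← Scheme.Hom.comp_apply, h1a, Scheme.Hom.comp_apply, haz]
        exact hhY z' hz'V
      · rw [h1U]
        let al := Spec.map (CommRingCat.ofHom (algebraMap R (FractionRing R)))
        let c : Spec (CommRingCat.of (FractionRing R)) ⟶ ((U' ⊓ V : X.Opens) : Scheme.{u}) :=
          IsOpenImmersion.lift (U' ⊓ V).ι (gK ≫ U'.ι) (by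
            rintro _ ⟨t, rfl⟩
            rw [Scheme.Opens.range_ι]
            refine ⟨(gK t).2, ?_⟩
            rw [hgK]
            exact hr₀.trans V.range_ι.le ⟨al t, rfl⟩)
        have hc : c ≫ (U' ⊓ V).ι = gK ≫ U'.ι := IsOpenImmersion.lift_fac _ _ _
        have hc1 : c ≫ X.homOfLE inf_le_left = gK := by
          rw [← cancel_mono U'.ι, Category.assoc, Scheme.homOfLE_ι, hc]
        have hc2 : c ≫ X.homOfLE inf_le_right = al ≫ r₀ := by
          rw [← cancel_mono V.ι, Category.assoc, Scheme.homOfLE_ι, hc, Category.assoc, hr₀ι, hgK]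
        rw [← reassoc_of% hc2, ← hag, reassoc_of% hc1]
    let d := Z.descResidueField (Scheme.stalkClosedPointTo a')
    let d' := Z.descResidueField (Scheme.stalkClosedPointTo r)
    have hd : Spec.map d ≫ Z.fromSpecResidueField (a' (IsLocalRing.closedPoint _)) = a' :=
      Scheme.descResidueField_stalkClosedPointTo_fromSpecResidueField _ Z a'
    have hd' : Spec.map d' ≫ Z.fromSpecResidueField z' = r :=
      Scheme.descResidueField_stalkClosedPointTo_fromSpecResidueField _ Z r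
    let e := (Z.residueFieldCongr haz).inv ≫ d
    have he : Spec.map e ≫ Z.fromSpecResidueField z' = a' := by
      refine Eq.trans ?_ hd
      simp only [e, Spec.map_comp, Category.assoc]
      congr 1
      rw [← Scheme.residueFieldCongr_fromSpecResidueField haz, ← Spec.map_comp_assoc, Iso.hom_inv_id,
        Spec.map_id, Category.id_comp]
    let m : Spec (Z.residueField z') ⟶ (V : Scheme.{u}) :=
      IsOpenImmersion.lift V.ι (Z.fromSpecResidueField z' ≫ iZ) (by
        rintro _ ⟨t, rfl⟩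
        rw [Scheme.Opens.range_ι, Scheme.Hom.comp_apply, Scheme.fromSpecResidueField_apply]
        exact hz'V)
    have hm : m ≫ V.ι = Z.fromSpecResidueField z' ≫ iZ := IsOpenImmersion.lift_fac _ _ _
    have hm1 : Spec.map e ≫ m = q ≫ r₀ := by
      rw [← cancel_mono V.ι, Category.assoc, hm, reassoc_of% he, Category.assoc, hr₀ι, ha']
    have hm2 : Spec.map d' ≫ m = r' := by
      rw [← cancel_mono V.ι, Category.assoc, hm, reassoc_of% hd', hrr']
    have key : m ≫ a = Z.fromSpecResidueField z' ≫ h₀ := by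
      refine UnivClosed.ext_of_mem (O := Z.residueField z') hY₀ _ _ (haY _) ?_ e (RingHom.injective _) ?_
      · rw [Scheme.Hom.comp_apply, Scheme.fromSpecResidueField_apply]
        exact hhY z' hz'V
      · rw [reassoc_of% hm1, hl, h1a, reassoc_of% he]
    rw [← hm2, Category.assoc, key, reassoc_of% hd']
  choose V a hxV hag hagU hkey using hloc
  let F : Option Z → X.Opens := fun i => i.elim U' V
  let m : ∀ i, (F i : Scheme.{u}) ⟶ Y := fun i => Option.rec h a i
  have hcov : IsOpenCover F := by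
    rw [IsOpenCover, ← top_le_iff]
    rintro x -
    by_cases hx : x ∈ U'
    · exact Opens.mem_iSup.mpr ⟨none, hx⟩
    · obtain ⟨z, rfl⟩ := hmemU x hx
      exact Opens.mem_iSup.mpr ⟨some z, hxV z⟩
  -- a field-valued point over `Z` in one of the opens
  have hpt : ∀ (i : Z) (z : Z) (hz : iZ z ∈ V i), a i ⟨iZ z, hz⟩ = h₀ z := by
    intro i z hz
    let r' : Spec (Z.residueField z) ⟶ (V i : Scheme.{u}) :=
      IsOpenImmersion.lift (V i).ι (Z.fromSpecResidueField z ≫ iZ) (by
        rintro _ ⟨t, rfl⟩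
        rw [Scheme.Opens.range_ι, Scheme.Hom.comp_apply, Scheme.fromSpecResidueField_apply]
        exact hz)
    have hr' : r' ≫ (V i).ι = Z.fromSpecResidueField z ≫ iZ := IsOpenImmersion.lift_fac _ _ _
    have h2 := congrArg (fun (m : Spec (Z.residueField z) ⟶ Y) => m (IsLocalRing.closedPoint _))
      (hkey i (Z.residueField z) (Z.fromSpecResidueField z) r' hr')
    simp only [Scheme.Hom.comp_apply, Scheme.fromSpecResidueField_apply] at h2
    rw [← h2]
    refine congrArg (a i) ((V i).ι.isOpenEmbedding.injective ?_)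
    rw [← Scheme.Hom.comp_apply, hr', Scheme.Hom.comp_apply, Scheme.fromSpecResidueField_apply]
    rfl
  have hagree : ∀ i j, X.homOfLE (inf_le_left : F i ⊓ F j ≤ F i) ≫ m i =
      X.homOfLE (inf_le_right : F i ⊓ F j ≤ F j) ≫ m j := by
    rintro (_ | i) (_ | j)
    · rfl
    · exact hagU j
    · have h1 := congrArg (X.homOfLE (le_inf inf_le_right inf_le_left : V i ⊓ U' ≤ U' ⊓ V i) ≫ ·) (hagU i)
      simp only [Scheme.homOfLE_homOfLE_assoc] at h1
      exact h1.symm
    · change X.homOfLE (inf_le_left : V i ⊓ V j ≤ V i) ≫ a i = X.homOfLE inf_le_right ≫ a j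
      refine Scheme.hom_ext_of_forall _ _ fun t => ?_
      let W₂ := V i ⊓ V j
      let l := X.homOfLE (inf_le_left : W₂ ≤ V i) ≫ a i
      let r := X.homOfLE (inf_le_right : W₂ ≤ V j) ≫ a j
      have hU₂ : (W₂.ι ⁻¹ᵁ U').ι ≫ l = (W₂.ι ⁻¹ᵁ U').ι ≫ r := by
        let c := W₂.ι.resLE U' (W₂.ι ⁻¹ᵁ U') le_rfl
        have hc : c ≫ U'.ι = (W₂.ι ⁻¹ᵁ U').ι ≫ W₂.ι := Scheme.Hom.resLE_comp_ι _ _
        have hone : ∀ (i : Z) (hi : W₂ ≤ V i),
            (W₂.ι ⁻¹ᵁ U').ι ≫ X.homOfLE hi ≫ a i = c ≫ h := by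
          intro i hi
          let c' : ((W₂.ι ⁻¹ᵁ U' : (W₂ : Scheme.{u}).Opens) : Scheme.{u}) ⟶ ((U' ⊓ V i : X.Opens) : Scheme.{u}) :=
            IsOpenImmersion.lift (U' ⊓ V i).ι ((W₂.ι ⁻¹ᵁ U').ι ≫ W₂.ι) (by
              rintro _ ⟨s, rfl⟩
              rw [Scheme.Opens.range_ι]
              exact ⟨s.2, hi s.1.2⟩)
          have hc' : c' ≫ (U' ⊓ V i).ι = (W₂.ι ⁻¹ᵁ U').ι ≫ W₂.ι := IsOpenImmersion.lift_fac _ _ _
          have e1 : c' ≫ X.homOfLE inf_le_right = (W₂.ι ⁻¹ᵁ U').ι ≫ X.homOfLE hi := by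
            rw [← cancel_mono (V i).ι, Category.assoc, Scheme.homOfLE_ι, hc', Category.assoc, Scheme.homOfLE_ι]
          have e2 : c' ≫ X.homOfLE inf_le_left = c := by
            rw [← cancel_mono U'.ι, Category.assoc, Scheme.homOfLE_ι, hc', hc]
          rw [← reassoc_of% e1, ← hagU i, reassoc_of% e2]
        exact (hone i inf_le_left).trans (hone j inf_le_right).symm
      by_cases htU : t.1 ∈ U'
      · exact ⟨W₂.ι ⁻¹ᵁ U', htU, hU₂⟩
      obtain ⟨z, hz⟩ := hmemU t.1 htU
      obtain ⟨W, htW, -, hW⟩ : ∃ W : X.Opens, t.1 ∈ W ∧ IsAffineOpen W ∧ IsIntegral (W : Scheme.{u}) := by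
        haveI := (hnorm z).1
        rw [← hz]
        exact SectExt.exists_isIntegral_nhd _
      obtain ⟨Y₀, hY₀, hzY, -⟩ := exists_isAffineOpen_mem_and_subset (U := (⊤ : Y.Opens)) (x := h₀ z) trivial
      have hlr : l t = h₀ z ∧ r t = h₀ z := by
        constructor
        all_goals
          rw [Scheme.Hom.comp_apply]
        · rw [show X.homOfLE (inf_le_left : W₂ ≤ V i) t = ⟨iZ z, hz.symm ▸ t.2.1⟩ from
            (V i).ι.isOpenEmbedding.injective (by rw [← Scheme.Hom.comp_apply, Scheme.homOfLE_ι]; exact hz.symm)]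
          exact hpt i z _
        · rw [show X.homOfLE (inf_le_right : W₂ ≤ V j) t = ⟨iZ z, hz.symm ▸ t.2.2⟩ from
            (V j).ι.isOpenEmbedding.injective (by rw [← Scheme.Hom.comp_apply, Scheme.homOfLE_ι]; exact hz.symm)]
          exact hpt j z _
      let O : (W₂ : Scheme.{u}).Opens := W₂.ι ⁻¹ᵁ W ⊓ l ⁻¹ᵁ Y₀ ⊓ r ⁻¹ᵁ Y₀
      have htO : t ∈ O := ⟨⟨htW, show l t ∈ Y₀ from hlr.1.symm ▸ hzY⟩, show r t ∈ Y₀ from hlr.2.symm ▸ hzY⟩
      refine ⟨O, htO, ?_⟩
      haveI : IsAffine (Y₀ : Scheme.{u}) := hY₀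
      haveI : Nonempty O := ⟨⟨t, htO⟩⟩
      haveI : IsIntegral (O : Scheme.{u}) :=
        haveI : IsOpenImmersion (W₂.ι.resLE W O (inf_le_left.trans inf_le_left) ≫ W.ι) := by
          rw [Scheme.Hom.resLE_comp_ι]; infer_instance
        haveI : IsOpenImmersion (W₂.ι.resLE W O (inf_le_left.trans inf_le_left)) := .of_comp _ W.ι
        isIntegral_of_isOpenImmersion (W₂.ι.resLE W O (inf_le_left.trans inf_le_left))
      let l₀ := IsOpenImmersion.lift Y₀.ι (O.ι ≫ l) (by
        rintro _ ⟨s, rfl⟩; rw [Scheme.Opens.range_ι]; exact s.2.1.2)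
      let r₀ := IsOpenImmersion.lift Y₀.ι (O.ι ≫ r) (by
        rintro _ ⟨s, rfl⟩; rw [Scheme.Opens.range_ι]; exact s.2.2)
      have hl₀ : l₀ ≫ Y₀.ι = O.ι ≫ l := IsOpenImmersion.lift_fac _ _ _
      have hr₀ : r₀ ≫ Y₀.ι = O.ι ≫ r := IsOpenImmersion.lift_fac _ _ _
      obtain ⟨b, hbU, hbt⟩ := hgen t.1
      let P : (O : Scheme.{u}).Opens := O.ι ⁻¹ᵁ (W₂.ι ⁻¹ᵁ U')
      haveI : IsDominant P.ι := by
        refine ⟨?_⟩
        rw [DenseRange, Scheme.Opens.range_ι]
        refine P.isOpen.dense ?_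
        have hb₂ : b ∈ W₂ := hbt.mem_open W₂.isOpen t.2
        have hb : (⟨b, hb₂⟩ : W₂) ⤳ t := W₂.ι.isOpenEmbedding.toIsInducing.specializes_iff.mp hbt
        exact ⟨⟨⟨b, hb₂⟩, hb.mem_open O.isOpen htO⟩, hbU⟩
      have hlr₀ : l₀ = r₀ := by
        refine ext_of_isDominant P.ι ?_
        rw [← cancel_mono Y₀.ι, Category.assoc, Category.assoc, hl₀, hr₀]
        let c := O.ι.resLE (W₂.ι ⁻¹ᵁ U') P le_rfl
        have hc : c ≫ (W₂.ι ⁻¹ᵁ U').ι = P.ι ≫ O.ι := Scheme.Hom.resLE_comp_ι _ _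
        rw [← reassoc_of% hc, hU₂, reassoc_of% hc]
      change O.ι ≫ l = O.ι ≫ r
      rw [← hl₀, ← hr₀, hlr₀]
  let 𝒰 : Scheme.OpenCover.{u} X := X.openCoverOfIsOpenCover F hcov
  have hcomp : ∀ i j, pullback.fst (𝒰.f i) (𝒰.f j) ≫ m i = pullback.snd (𝒰.f i) (𝒰.f j) ≫ m j := by
    intro i j
    let c : pullback (F i).ι (F j).ι ⟶ ((F i ⊓ F j : X.Opens) : Scheme.{u}) :=
      IsOpenImmersion.lift (F i ⊓ F j).ι (pullback.fst _ _ ≫ (F i).ι) (by
        rintro _ ⟨s, rfl⟩
        rw [Scheme.Opens.range_ι]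
        refine ⟨(pullback.fst (F i).ι (F j).ι s).2, ?_⟩
        rw [pullback.condition]
        exact (pullback.snd (F i).ι (F j).ι s).2)
    have hc : c ≫ (F i ⊓ F j).ι = pullback.fst _ _ ≫ (F i).ι := IsOpenImmersion.lift_fac _ _ _
    have e1 : c ≫ X.homOfLE inf_le_left = pullback.fst (F i).ι (F j).ι := by
      rw [← cancel_mono (F i).ι, Category.assoc, Scheme.homOfLE_ι, hc]
    have e2 : c ≫ X.homOfLE inf_le_right = pullback.snd (F i).ι (F j).ι := by
      rw [← cancel_mono (F j).ι, Category.assoc, Scheme.homOfLE_ι, hc, pullback.condition]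
    change pullback.fst (F i).ι (F j).ι ≫ m i = pullback.snd (F i).ι (F j).ι ≫ m j
    rw [← e1, ← e2, Category.assoc, Category.assoc, hagree]
  let h' := 𝒰.glueMorphisms m hcomp
  have hι : ∀ i, (F i).ι ≫ h' = m i := fun i => 𝒰.ι_glueMorphisms m hcomp i
  refine ⟨h', ?_, hι none, ?_⟩
  · refine 𝒰.hom_ext _ _ fun i => ?_
    change (F i).ι ≫ h' ≫ g = (F i).ι ≫ f
    rw [reassoc_of% (hι i)]
    cases i with
    | none => exact hh
    | some z => exact hag z
  · refine Scheme.hom_ext_of_forall _ _ fun z => ?_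
    obtain ⟨Y₀, hY₀, hzY, -⟩ := exists_isAffineOpen_mem_and_subset (U := (⊤ : Y.Opens)) (x := h₀ z) trivial
    have hlz : (iZ ≫ h') z = h₀ z := by
      rw [Scheme.Hom.comp_apply, show iZ z = (V z).ι ⟨iZ z, hxV z⟩ from rfl, ← Scheme.Hom.comp_apply]
      exact (congrArg (fun (m : (V z : Scheme.{u}) ⟶ Y) => m ⟨iZ z, hxV z⟩) (hι (some z))).trans (hpt z z _)
    let O : Z.Opens := iZ ⁻¹ᵁ V z ⊓ (iZ ≫ h') ⁻¹ᵁ Y₀ ⊓ h₀ ⁻¹ᵁ Y₀
    refine ⟨O, ⟨⟨hxV z, show _ ∈ Y₀ from hlz.symm ▸ hzY⟩, hzY⟩, ?_⟩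
    haveI : IsAffine (Y₀ : Scheme.{u}) := hY₀
    let l₀ := IsOpenImmersion.lift Y₀.ι (O.ι ≫ iZ ≫ h') (by
      rintro _ ⟨s, rfl⟩; rw [Scheme.Opens.range_ι]; exact s.2.1.2)
    let r₀ := IsOpenImmersion.lift Y₀.ι (O.ι ≫ h₀) (by
      rintro _ ⟨s, rfl⟩; rw [Scheme.Opens.range_ι]; exact s.2.2)
    have hl₀ : l₀ ≫ Y₀.ι = O.ι ≫ iZ ≫ h' := IsOpenImmersion.lift_fac _ _ _
    have hr₀ : r₀ ≫ Y₀.ι = O.ι ≫ h₀ := IsOpenImmersion.lift_fac _ _ _
    have hlr : l₀ = r₀ := by
      refine ext_of_fromSpecResidueField_eq l₀ r₀ (terminal.from _) Set.univ dense_univ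
        (fun t _ => ?_) (terminal.hom_ext _ _)
      rw [← cancel_mono Y₀.ι, Category.assoc, Category.assoc, hl₀, hr₀]
      let r' : Spec ((O : Scheme.{u}).residueField t) ⟶ (V z : Scheme.{u}) :=
        IsOpenImmersion.lift (V z).ι (((O : Scheme.{u}).fromSpecResidueField t ≫ O.ι) ≫ iZ) (by
          rintro _ ⟨s, rfl⟩
          rw [Scheme.Opens.range_ι, Scheme.Hom.comp_apply, Scheme.Hom.comp_apply,
            Scheme.fromSpecResidueField_apply]
          exact t.2.1.1)
      have hr' : r' ≫ (V z).ι = ((O : Scheme.{u}).fromSpecResidueField t ≫ O.ι) ≫ iZ :=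
        IsOpenImmersion.lift_fac _ _ _
      have h2 := hkey z ((O : Scheme.{u}).residueField t) _ r' hr'
      rw [show a z = (V z).ι ≫ h' from (hι (some z)).symm, reassoc_of% hr'] at h2
      simpa only [Category.assoc] using h2
    rw [← hl₀, ← hr₀, hlr]

end Groth.Agent.S5111
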