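import Groth.Statements.S5113
import Mathlib
-- import your own Groth.Agent.* helpers here

set_option autoImplicit false
universe u
open SGA1

namespace Groth.Agent.S5113

open AlgebraicGeometry CategoryTheory CategoryTheory.Limits in
/-- Let g : S' ⟶ S be submersive, i.e. surjective and making S a topological quotient of S'. Then the
sequence of sets of open subsets Ouv(S) → Ouv(S') ⇉ Ouv(S' ×_S S') (inverse images along g and along
the two projections) is exact: an open subset U' of S' whose inverse images under the two
projections of S' ×_S S' agree is the inverse image of one and only one open subset of S. -/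
theorem result {S' S : Scheme.{u}} (g : S' ⟶ S)
    (hg : Topology.IsQuotientMap g.base) (U' : S'.Opens)
    (h : (pullback.fst g g) ⁻¹ᵁ U' = (pullback.snd g g) ⁻¹ᵁ U') :
    ∃! U : S.Opens, g ⁻¹ᵁ U = U' := by
  have hpre : g.base ⁻¹' (g.base '' (U' : Set S')) = (U' : Set S') := by
    refine Set.Subset.antisymm ?_ (Set.subset_preimage_image _ _)
    rintro x ⟨y, hy, hyx⟩
    obtain ⟨z, hz1, hz2⟩ := Scheme.Pullback.exists_preimage_pullback y x hyx
    have hz : z ∈ (pullback.fst g g) ⁻¹ᵁ U' := by
      show (pullback.fst g g).base z ∈ U'
      rw [hz1]; exact hy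
    rw [h] at hz
    have : (pullback.snd g g).base z ∈ U' := hz
    rwa [hz2] at this
  refine ⟨⟨g.base '' U', hg.isOpen_preimage.1 (by rw [hpre]; exact U'.isOpen)⟩, TopologicalSpace.Opens.ext hpre, fun U hU => ?_⟩
  refine TopologicalSpace.Opens.ext ?_
  show (U : Set S) = g.base '' (U' : Set S')
  rw [← hU]
  exact (Set.image_preimage_eq _ hg.surjective).symm

end Groth.Agent.S5113
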