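import Groth.Statements.S5114
import Groth.Agent.HenselLib.Split
import Mathlib.AlgebraicGeometry.Morphisms.Finite
import Mathlib.AlgebraicGeometry.Morphisms.UniversallyClosed
import Mathlib.RingTheory.Idempotents

set_option linter.style.haveILetI false
set_option backward.isDefEq.respectTransparency false
set_option backward.isDefEq.respectTransparency.types false

set_option autoImplicit false
universe u
open SGA1

namespace Groth.Agent.S5114

open AlgebraicGeometry CategoryTheory CategoryTheory.Limits in
/-- A point with finite closed fibre has an open neighbourhood finite over the complete local base. -/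
theorem exists_finite_nhd (A : Type u) [CommRing A]
    [IsNoetherianRing A] [IsLocalRing A] [IsAdicComplete (IsLocalRing.maximalIdeal A) A]
    {S' : Scheme.{u}} (g : S' ⟶ Spec (CommRingCat.of A)) [LocallyOfFiniteType g]
    (hfin : (g.base ⁻¹' {IsLocalRing.closedPoint A}).Finite) (s' : S')
    (hs : g.base s' = IsLocalRing.closedPoint A) :
    ∃ (W : Scheme.{u}) (j : W ⟶ S'), IsOpenImmersion j ∧ s' ∈ Set.range j ∧ IsFinite (j ≫ g) := by
  obtain ⟨U, hU, hsU, -⟩ := exists_isAffineOpen_mem_and_subset (X := S') (x := s') (U := ⊤) trivial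
  obtain ⟨φ, hφ⟩ := Spec.map_surjective (hU.fromSpec ≫ g)
  haveI hft : LocallyOfFiniteType (Spec.map φ) := hφ ▸ inferInstance
  rw [HasRingHomProperty.Spec_iff (P := @LocallyOfFiniteType)] at hft
  algebraize [φ.hom]
  let q : PrimeSpectrum Γ(S', U) := hU.primeIdealOf ⟨s', hsU⟩
  have hq : hU.fromSpec q = s' := hU.fromSpec_primeIdealOf ⟨s', hsU⟩
  have hbase : ∀ p : Spec Γ(S', U), g (hU.fromSpec p) = PrimeSpectrum.comap (algebraMap A Γ(S', U)) p := by
    intro p
    rw [← Scheme.Hom.comp_apply, ← hφ]
    rfl
  have hqm : q.comap (algebraMap A Γ(S', U)) = IsLocalRing.closedPoint A := by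
    rw [← hbase, hq]; exact hs
  haveI : Algebra.QuasiFiniteAt A q.asIdeal := by
    refine Algebra.QuasiFiniteAt.of_isOpen_singleton_fiber q ?_
    let p := q.comap (algebraMap A Γ(S', U))
    let e := PrimeSpectrum.preimageHomeomorphFiber A Γ(S', U) p
    have hf : (PrimeSpectrum.comap (algebraMap A Γ(S', U)) ⁻¹' {p}).Finite := by
      refine (hfin.preimage hU.fromSpec.isOpenEmbedding.injective.injOn).subset fun x hx => ?_
      show g (hU.fromSpec x) = _
      rw [hbase, ← hqm]
      exact hx
    haveI : Finite (PrimeSpectrum.comap (algebraMap A Γ(S', U)) ⁻¹' {p}) := hf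
    haveI : Finite (PrimeSpectrum (p.asIdeal.Fiber Γ(S', U))) := Finite.of_equiv _ e.toEquiv
    haveI : IsJacobsonRing (p.asIdeal.Fiber Γ(S', U)) := isJacobsonRing_of_finiteType (A := p.asIdeal.ResidueField)
    haveI : DiscreteTopology (PrimeSpectrum (p.asIdeal.Fiber Γ(S', U))) := inferInstance
    haveI := e.symm.discreteTopology
    exact isOpen_discrete _
  have hle : (IsLocalRing.maximalIdeal A).map (algebraMap A Γ(S', U)) ≤ q.asIdeal := by
    rw [Ideal.map_le_iff_le_comap]
    exact (congrArg PrimeSpectrum.asIdeal hqm).ge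
  obtain ⟨ε, hε, hεq, hfg⟩ := Groth.Agent.HenselLib.exists_idem_at (R := A) q.asIdeal hle
  haveI hfinB : Module.Finite A (Γ(S', U) ⧸ Ideal.span ({1 - ε} : Set Γ(S', U))) := by
    refine ⟨?_⟩
    have htop : (⊤ : Submodule A (Γ(S', U) ⧸ Ideal.span ({1 - ε} : Set Γ(S', U)))) =
        (LinearMap.range (LinearMap.mulLeft A ε)).map
          (Ideal.Quotient.mkₐ A (Ideal.span ({1 - ε} : Set Γ(S', U)))).toLinearMap := by
      refine (top_unique fun y _ => ?_).symm
      obtain ⟨y, rfl⟩ := Ideal.Quotient.mk_surjective y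
      refine ⟨ε * y, ⟨y, rfl⟩, Ideal.Quotient.eq.mpr (Ideal.mem_span_singleton'.mpr ⟨-y, ?_⟩)⟩
      ring
    rw [htop]
    exact hfg.map _
  let π : Γ(S', U) →+* Γ(S', U) ⧸ Ideal.span ({1 - ε} : Set Γ(S', U)) := Ideal.Quotient.mk _
  haveI : IsLocalization.Away ε (Γ(S', U) ⧸ Ideal.span ({1 - ε} : Set Γ(S', U))) :=
    IsLocalization.away_of_isIdempotentElem hε (Ideal.mk_ker) Ideal.Quotient.mk_surjective
  refine ⟨Spec (CommRingCat.of (Γ(S', U) ⧸ Ideal.span ({1 - ε} : Set Γ(S', U)))),
    Spec.map (CommRingCat.ofHom π) ≫ hU.fromSpec, ?_, ?_, ?_⟩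
  · haveI : IsOpenImmersion (Spec.map (CommRingCat.ofHom π)) :=
      IsOpenImmersion.of_isLocalization ε
    infer_instance
  · have hmem : q ∈ Set.range (PrimeSpectrum.comap π) := by
      rw [show π = algebraMap _ _ from rfl, PrimeSpectrum.localization_away_comap_range _ ε]
      exact hεq
    obtain ⟨w, hw⟩ := hmem
    exact ⟨w, by rw [Scheme.Hom.comp_apply, ← hq, ← hw]; rfl⟩
  · rw [Category.assoc, ← hφ, ← Spec.map_comp]
    rw [IsFinite.SpecMap_iff]
    exact RingHom.finite_algebraMap.2 hfinB

open AlgebraicGeometry CategoryTheory CategoryTheory.Limits in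
/-- Let A be a complete Noetherian local ring, S = Spec A, and g : S' ⟶ S a surjective morphism of
finite type whose fibre over the closed point s is finite. If every point of S' specialises to some
point of the fibre over s (equivalently: the disjoint union of the spectra of the local rings of S'
at the points over s maps onto S'), then g is universally submersive. (The published statement
asserts an equivalence and does not mention surjectivity of g; the converse fails: for A a complete
discrete valuation ring with fraction field K, S' = S ⊔ Spec K ⟶ S has a section, hence is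
universally submersive, while the isolated point Spec K specialises to no point over s. This row
states the implication the published proof establishes, with the surjectivity it uses.) -/
theorem result (A : Type u) [CommRing A]
    [IsNoetherianRing A] [IsLocalRing A] [IsAdicComplete (IsLocalRing.maximalIdeal A) A]
    {S' : Scheme.{u}} (g : S' ⟶ Spec (CommRingCat.of A)) [LocallyOfFiniteType g] [QuasiCompact g]
    [Surjective g]
    (hfin : (g.base ⁻¹' {IsLocalRing.closedPoint A}).Finite)
    (hsp : ∀ t : S', ∃ s' : S', g.base s' = IsLocalRing.closedPoint A ∧ t ⤳ s') :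
    SGA1.UnivSubmersive g := by
  intro P T iP bas g' hp
  show Topology.IsQuotientMap g'
  rw [Topology.isQuotientMap_iff_isClosed]
  choose W j hj hmem hfinW using fun s : (g.base ⁻¹' {IsLocalRing.closedPoint A}) =>
    exists_finite_nhd A g hfin s.1 s.2
  haveI : Finite (g.base ⁻¹' {IsLocalRing.closedPoint A}) := hfin
  have hcov : ∀ t : S', ∃ s, t ∈ Set.range (j s) := by
    intro t
    obtain ⟨s', hs', hts⟩ := hsp t
    haveI := hj ⟨s', hs'⟩
    exact ⟨⟨s', hs'⟩, hts.mem_open (j ⟨s', hs'⟩).isOpenEmbedding.isOpen_range (hmem ⟨s', hs'⟩)⟩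
  haveI : MorphismProperty.IsStableUnderBaseChange @Surjective := inferInstance
  have hsurj : Surjective g' := MorphismProperty.of_isPullback (P := @Surjective) hp.flip inferInstance
  refine ⟨hsurj.surj, fun Z => ⟨fun hZ => hZ.preimage g'.continuous, fun hZ => ?_⟩⟩
  let q := fun s => pullback.fst iP (j s)
  haveI : ∀ s, IsFinite (j s ≫ g) := hfinW
  have hc : ∀ s, IsClosedMap (q s ≫ g') := fun s => by
    have hpb : IsPullback (pullback.snd iP (j s)) (q s ≫ g') (j s ≫ g) bas :=
      (IsPullback.of_hasPullback iP (j s)).flip.paste_vert hp.flip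
    haveI : IsFinite (q s ≫ g') := MorphismProperty.of_isPullback (P := @IsFinite) hpb inferInstance
    exact (q s ≫ g').isClosedMap
  have hZeq : Z = ⋃ s, (q s ≫ g') '' (⇑(q s) ⁻¹' (⇑g' ⁻¹' Z)) := by
    ext z
    simp only [Set.mem_iUnion, Set.mem_image]
    constructor
    · intro hz
      obtain ⟨p, hp'⟩ := hsurj.surj z
      obtain ⟨s, w, hw⟩ := hcov (iP p)
      obtain ⟨r, hr, -⟩ := Scheme.Pullback.exists_preimage_pullback p w hw.symm
      refine ⟨s, r, ?_, by rw [Scheme.Hom.comp_apply, hr, hp']⟩
      show g' (q s r) ∈ Z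
      rw [hr, hp']; exact hz
    · rintro ⟨s, r, hr, rfl⟩
      exact hr
  rw [hZeq]
  exact isClosed_iUnion_of_finite fun s => hc s _ (hZ.preimage (q s).continuous)

end Groth.Agent.S5114
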