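import Groth.Statements.S5119
import Mathlib
-- import your own Groth.Agent.* helpers here

set_option autoImplicit false
universe u
open scoped LaurentPolynomial
open SGA1t

namespace Groth.Agent.S5119

/-- The computation behind the exactness of the Kummer sequence 0 → μ_n → G_m → G_m → 0, i.e. faithful
flatness of the n-th power map u_n of G_m: Let A be a commutative ring and n ≥ 1, and let u_n be the
ring endomorphism of A[t, t⁻¹] with u_n(t) = t^n (on monomials, t^k ↦ t^{nk}). Then A[t, t⁻¹] is
free of rank n over itself via u_n, with basis 1, t, …, t^{n−1}: every Laurent polynomial q can be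
written in exactly one way as Σ_{i<n} u_n(c_i) t^i. -/
theorem result (A : Type u) [CommRing A] (n : ℕ) (hn : 1 ≤ n) (q : A[T;T⁻¹]) :
    ∃! c : Fin n → A[T;T⁻¹],
      q = ∑ i : Fin n, (AddMonoidAlgebra.mapDomainRingHom A (AddMonoidHom.mulLeft (n : ℤ)) : A[T;T⁻¹] →+* A[T;T⁻¹]) (c i) *
        LaurentPolynomial.T (i : ℤ) := by
  classical
  set u : A[T;T⁻¹] →+* A[T;T⁻¹] := AddMonoidAlgebra.mapDomainRingHom A (AddMonoidHom.mulLeft (n : ℤ))
  have hn0 : (n : ℤ) ≠ 0 := by omega
  have hmod : ∀ (a : ℤ) (j : Fin n), ((n : ℤ) * a + j) % n = j ∧ ((n : ℤ) * a + j) / n = a := by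
    intro a j
    have hj : ((j : ℕ) : ℤ) < n := by exact_mod_cast j.isLt
    refine ⟨?_, ?_⟩
    · rw [Int.mul_add_emod_self_left, Int.emod_eq_of_lt (Int.natCast_nonneg _) hj]
    · rw [Int.mul_add_ediv_left _ _ hn0, Int.ediv_eq_zero_of_lt (Int.natCast_nonneg _) hj, add_zero]
  have key : ∀ (c : A[T;T⁻¹]) (i j : Fin n) (m : ℤ),
      (u c * LaurentPolynomial.T (j : ℤ)).coeff ((n : ℤ) * m + i) = if i = j then c.coeff m else 0 := by
    intro c i j m
    induction c using AddMonoidAlgebra.induction_linear with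
    | zero => simp
    | add x y hx hy =>
      rw [map_add u, add_mul, AddMonoidAlgebra.coeff_add, Finsupp.add_apply, hx, hy]
      split <;> simp
    | single a r =>
      simp only [u, AddMonoidAlgebra.mapDomainRingHom_apply, AddMonoidAlgebra.mapDomain_single,
        AddMonoidHom.coe_mulLeft, LaurentPolynomial.T, AddMonoidAlgebra.single_mul_single, mul_one,
        AddMonoidAlgebra.coeff_single, Finsupp.single_apply]
      by_cases h : i = j ∧ a = m
      · obtain ⟨rfl, rfl⟩ := h
        simp
      · rw [if_neg]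
        · by_cases hij : i = j
          · rw [if_pos hij, if_neg fun ham => h ⟨hij, ham⟩]
          · rw [if_neg hij]
        · intro he
          refine h ⟨?_, ?_⟩
          · have := (hmod a j).1.symm.trans ((congrArg (· % (n : ℤ)) he).trans (hmod m i).1)
            exact (Fin.ext (by exact_mod_cast this)).symm
          · exact (hmod a j).2.symm.trans ((congrArg (· / (n : ℤ)) he).trans (hmod m i).2)
  have hsum : ∀ (c : Fin n → A[T;T⁻¹]) (i : Fin n) (m : ℤ),
      (∑ j, u (c j) * LaurentPolynomial.T (j : ℤ)).coeff ((n : ℤ) * m + i) = (c i).coeff m := by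
    intro c i m
    rw [AddMonoidAlgebra.coeff_sum, Finsupp.finsetSum_apply]
    simp [key]
  let c : Fin n → A[T;T⁻¹] := fun i =>
    AddMonoidAlgebra.ofCoeff (Finsupp.comapDomain (fun m : ℤ => (n : ℤ) * m + i) q.coeff
      (fun x _ y _ h => mul_left_cancel₀ hn0 (add_right_cancel h)))
  refine ⟨c, ?_, ?_⟩
  · apply AddMonoidAlgebra.ext
    ext k
    obtain ⟨i, hi⟩ : ∃ i : Fin n, ((i : ℕ) : ℤ) = k % n := by
      have h0 := Int.emod_nonneg k hn0
      have h1 := Int.emod_lt_of_pos k (show (0 : ℤ) < n by omega)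
      exact ⟨⟨(k % n).toNat, by omega⟩, by simp [Int.toNat_of_nonneg h0]⟩
    have hk : k = (n : ℤ) * (k / n) + i := by rw [hi, Int.mul_ediv_add_emod]
    rw [hk, hsum]
    simp [c]
    try rfl
  · intro c' hc'
    funext i
    apply AddMonoidAlgebra.ext
    ext m
    have h1 := hsum c' i m
    rw [← hc'] at h1
    rw [← h1]
    simp [c]
    try rfl

end Groth.Agent.S5119
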