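import Groth.Statements.S5120
import Mathlib
-- import your own Groth.Agent.* helpers here

set_option autoImplicit false
universe u
open SGA1t

namespace Groth.Agent.S5120

open Polynomial

variable {p : ℕ} {A : Type u} [CommRing A]

theorem eval_ite (g : A[X]) (a : Fin p → A) (d : Fin p → A[X]) :
    ∑ i, aeval g (C (a i) + X * d i) * X ^ (i : ℕ) =
      ∑ i, C (a i) * X ^ (i : ℕ) + g * ∑ i, aeval g (d i) * X ^ (i : ℕ) := by
  rw [Finset.mul_sum, ← Finset.sum_add_distrib]
  refine Finset.sum_congr rfl fun i _ => ?_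
  rw [map_add, map_mul, aeval_C, aeval_X, add_mul, mul_assoc]
  rfl

theorem low_degree (hp : 0 < p) (a : Fin p → A) :
    (∑ i, C (a i) * X ^ (i : ℕ)).degree < (p : WithBot ℕ) :=
  (degree_sum_le _ _).trans_lt ((Finset.sup_lt_iff (WithBot.bot_lt_coe p)).mpr fun i _ =>
    (degree_C_mul_X_pow_le _ _).trans_lt (WithBot.coe_lt_coe.mpr i.2))

theorem exists_rep [Nontrivial A] (hp : 0 < p) (f : A[X]) (hf : f.Monic) (hdeg : f.natDegree = p) :
    ∀ n (q : A[X]), q.natDegree ≤ n → ∃ c : Fin p → A[X], q = ∑ i, aeval (-f) (c i) * X ^ (i : ℕ) := by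
  intro n
  induction n using Nat.strong_induction_on with
  | _ n ih =>
    intro q hq
    obtain ⟨d, hd⟩ : ∃ d : Fin p → A[X], q /ₘ f = ∑ i, aeval (-f) (d i) * X ^ (i : ℕ) := by
      rcases Nat.eq_zero_or_pos n with rfl | hn
      · refine ⟨0, ?_⟩
        rw [(divByMonic_eq_zero_iff hf).mpr]
        · simp
        · refine degree_le_natDegree.trans_lt ?_
          rw [degree_eq_natDegree hf.ne_zero, hdeg]
          exact_mod_cast (show q.natDegree < p by omega)
      · refine ih (n - 1) (by omega) _ ?_
        rw [natDegree_divByMonic q hf, hdeg]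
        omega
    refine ⟨fun i => C ((q %ₘ f).coeff i) + X * (- d i), ?_⟩
    rw [eval_ite (-f) (fun i => (q %ₘ f).coeff i) (fun i => - d i)]
    simp only [map_neg, neg_mul, Finset.sum_neg_distrib, ← hd, mul_neg, neg_neg]
    have hlt : (q %ₘ f).natDegree < p := by
      rw [← hdeg]
      exact natDegree_modByMonic_lt q hf (fun e => by simp [e] at hdeg; omega)
    rw [Fin.sum_univ_eq_sum_range (fun i => C ((q %ₘ f).coeff i) * X ^ i),
      show (∑ i ∈ Finset.range p, C ((q %ₘ f).coeff i) * X ^ i) = q %ₘ f from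
        (as_sum_range_C_mul_X_pow' (q %ₘ f) hlt).symm, modByMonic_add_div]

theorem unique_rep [Nontrivial A] (hp : 0 < p) (f : A[X]) (hf : f.Monic) (hdeg : f.natDegree = p) :
    ∀ n (c : Fin p → A[X]), (∀ i, (c i).natDegree ≤ n) →
      ∑ i, aeval (-f) (c i) * X ^ (i : ℕ) = 0 → c = 0 := by
  intro n
  induction n using Nat.strong_induction_on with
  | _ n ih =>
    intro c hc h0
    have hdec : ∀ i, c i = C ((c i).coeff 0) + X * (c i).divX := fun i => by
      rw [add_comm, X_mul_divX_add]
    have h1 : ∑ i, C ((c i).coeff 0) * X ^ (i : ℕ) +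
        (-f) * ∑ i, aeval (-f) (c i).divX * X ^ (i : ℕ) = 0 := by
      rw [← eval_ite]
      simpa only [← hdec] using h0
    have hlow := low_degree hp fun i => (c i).coeff 0
    set r := ∑ i, C ((c i).coeff 0) * X ^ (i : ℕ) with hr
    set Q := ∑ i, aeval (-f) (c i).divX * X ^ (i : ℕ) with hQ
    have hQ0 : Q = 0 := by
      by_contra hne
      rw [neg_mul, ← sub_eq_add_neg, sub_eq_zero] at h1
      rw [h1, mul_comm, hf.degree_mul, degree_eq_natDegree hf.ne_zero, hdeg,
        degree_eq_natDegree hne] at hlow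
      exact absurd hlow (not_lt.mpr (by exact_mod_cast Nat.le_add_left p Q.natDegree))
    have ha : ∀ i, (c i).coeff 0 = 0 := fun i => by
      rw [hQ0, mul_zero, add_zero] at h1
      have := congrArg (fun P : A[X] => P.coeff i) h1
      simp [hr, finsetSum_coeff, coeff_X_pow, Fin.val_inj] at this
      exact this
    have hd : (fun i => (c i).divX) = 0 := by
      rcases Nat.eq_zero_or_pos n with rfl | hn
      · funext i
        rw [eq_C_of_natDegree_eq_zero (Nat.le_zero.mp (hc i)), divX_C]
        rfl
      · exact ih (n - 1) (by omega) _ (fun i => by rw [natDegree_divX_eq_natDegree_tsub_one]; have := hc i; omega) hQ0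
    funext i
    rw [hdec i, ha i, congrFun hd i]
    simp

open Polynomial in
/-- The computation behind the exactness of the Artin-Schreier sequence 0 → Z/p → G_a → G_a → 0 in
characteristic p, i.e. faithful flatness of ℘ = id − F: Let p be a prime and A a ring of
characteristic p. Then A[t] is free of rank p over itself via the endomorphism t ↦ t − t^p, with
basis 1, t, …, t^{p−1}: every polynomial q can be written in exactly one way as Σ_{i<p} c_i(t − t^p)
t^i. -/
theorem result (p : ℕ) [Fact p.Prime] (A : Type u) [CommRing A] [CharP A p]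
    (q : A[X]) :
    ∃! c : Fin p → A[X], q = ∑ i : Fin p, aeval (X - X ^ p : A[X]) (c i) * X ^ (i : ℕ) := by
  haveI : Nontrivial A := CharP.nontrivial_of_char_ne_one (R := A) (Fact.out : p.Prime).ne_one
  have hp := (Fact.out : p.Prime).one_lt
  have hf : (X ^ p - X : A[X]).Monic := monic_X_pow_sub (by rw [degree_X]; exact_mod_cast hp)
  have hdeg : (X ^ p - X : A[X]).natDegree = p := by
    refine natDegree_eq_of_degree_eq_some ?_
    rw [degree_sub_eq_left_of_degree_lt, degree_X_pow]
    rw [degree_X_pow, degree_X]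
    exact_mod_cast hp
  rw [show (X - X ^ p : A[X]) = -(X ^ p - X) by ring]
  obtain ⟨c, hc⟩ := exists_rep (by omega) _ hf hdeg _ q le_rfl
  refine ⟨c, hc, fun c' hc' => sub_eq_zero.mp ?_⟩
  refine unique_rep (by omega) _ hf hdeg (Finset.univ.sup fun i => ((c' - c) i).natDegree) _
    (fun i => Finset.le_sup (f := fun i => ((c' - c) i).natDegree) (Finset.mem_univ i)) ?_
  simp only [Pi.sub_apply, map_sub, sub_mul, Finset.sum_sub_distrib]
  rw [← hc, ← hc', sub_self]

end Groth.Agent.S5120
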