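import Groth.Statements.S5128
import Groth.Agent.EtSite.TopInv
-- import your own Groth.Agent.* helpers here

set_option autoImplicit false
universe u
open SGA1

namespace Groth.Agent.S5128

open AlgebraicGeometry CategoryTheory CategoryTheory.Limits in
/-- Let X and Y be S-schemes with Y etale over S. The map f ↦ Γ_f sending an S-morphism f : X ⟶ Y to the
subset of X ×_S Y underlying its graph is a bijection from Hom_S(X, Y) onto the set of open subsets
Γ of X ×_S Y for which the restriction Γ → X of the first projection is radicial (universally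
injective) and surjective. Stated as: the graph of every S-morphism is an open immersion, and every
such open Γ is the image of the graph of exactly one S-morphism. -/
theorem result {S X Y : Scheme.{u}} (p : X ⟶ S)
    (q : Y ⟶ S) [Etale q] :
    (∀ f : {f : X ⟶ Y // f ≫ q = p},
      IsOpenImmersion (pullback.lift (𝟙 X) f.1 ((Category.id_comp p).trans f.2.symm) : X ⟶ pullback p q)) ∧
    ∀ Γ : (pullback p q).Opens, UniversallyInjective (Γ.ι ≫ pullback.fst p q) → Surjective (Γ.ι ≫ pullback.fst p q) →
      ∃! f : {f : X ⟶ Y // f ≫ q = p},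
        Set.range (pullback.lift (𝟙 X) f.1 ((Category.id_comp p).trans f.2.symm) : X ⟶ pullback p q).base =
          (Γ : Set ↥(pullback p q)) := by
  haveI hq : Etale (pullback.fst p q) := MorphismProperty.pullback_fst (P := @Etale) _ _ inferInstance
  refine ⟨fun f => Groth.Agent.EtSite.isOpenImmersion_of_section (pullback.fst p q) _ (pullback.lift_fst _ _ _),
    fun Γ h1 h2 => ?_⟩
  haveI : IsOpenImmersion (Γ.ι ≫ pullback.fst p q) :=
    Groth.Agent.Rigidity.isOpenImmersion_of_etale_of_universallyInjective _
  haveI : IsIso (Γ.ι ≫ pullback.fst p q) :=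
    (isIso_iff_isOpenImmersion_and_surjective _).2 ⟨inferInstance, h2⟩
  let s : X ⟶ pullback p q := inv (Γ.ι ≫ pullback.fst p q) ≫ Γ.ι
  have hs : s ≫ pullback.fst p q = 𝟙 X := by simp [s]
  have hr : Set.range s = (Γ : Set ↥(pullback p q)) := by
    rw [show ⇑s = ⇑Γ.ι ∘ ⇑(inv (Γ.ι ≫ pullback.fst p q)) from funext fun _ => Scheme.Hom.comp_apply _ _ _,
      Set.range_comp, (inv (Γ.ι ≫ pullback.fst p q)).surjective.range_eq, Set.image_univ, Scheme.Opens.range_ι]
  have hf : (s ≫ pullback.snd p q) ≫ q = p := by
    rw [Category.assoc, ← pullback.condition, reassoc_of% hs]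
  refine ⟨⟨s ≫ pullback.snd p q, hf⟩, ?_, fun f hfr => Subtype.ext ?_⟩
  · have e : pullback.lift (𝟙 X) (s ≫ pullback.snd p q) ((Category.id_comp p).trans hf.symm) = s :=
      pullback.hom_ext ((pullback.lift_fst _ _ _).trans hs.symm) (pullback.lift_snd _ _ _)
    show Set.range ⇑(pullback.lift (𝟙 X) (s ≫ pullback.snd p q) _ : X ⟶ pullback p q) = _
    rw [e, hr]
  · let g : X ⟶ pullback p q := pullback.lift (𝟙 X) f.1 ((Category.id_comp p).trans f.2.symm)
    have hl := IsOpenImmersion.lift_fac Γ.ι g (by rw [Scheme.Opens.range_ι]; exact hfr.le)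
    generalize IsOpenImmersion.lift Γ.ι g _ = l at hl
    have h3 : l = inv (Γ.ι ≫ pullback.fst p q) := by
      rw [← cancel_mono (Γ.ι ≫ pullback.fst p q), IsIso.inv_hom_id, reassoc_of% hl]
      exact pullback.lift_fst _ _ _
    have h4 : g = s := by rw [← hl, h3]
    exact (pullback.lift_snd _ _ _).symm.trans (congrArg (· ≫ pullback.snd p q) h4)

end Groth.Agent.S5128
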