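import Groth.Statements.S5129
import Groth.Agent.FEtHensel.Proper

set_option autoImplicit false
universe u
open Pi1

namespace Groth.Agent.S5129

open AlgebraicGeometry CategoryTheory CategoryTheory.Limits in
/-- Surjectivity of π₁(X) → π₁(Spec A), in terms of covers. Let A be a complete Noetherian local ring
with residue field k, k̄ an algebraic closure of k, ξ : Spec k̄ ⟶ Spec A the resulting geometric
point, and X a proper A-scheme with X ×_A Spec k̄ connected. Then pulling back finite etale covers
along X ⟶ Spec A is fully faithful. -/
theorem result (A : Type u) [CommRing A]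
    [IsNoetherianRing A] [IsLocalRing A] [IsAdicComplete (IsLocalRing.maximalIdeal A) A]
    {X : Scheme.{u}} (f : X ⟶ Spec (CommRingCat.of A)) [IsProper f]
    (ξ : Spec (CommRingCat.of (AlgebraicClosure (IsLocalRing.ResidueField A))) ⟶ Spec (CommRingCat.of A))
    (hξ : ξ = Spec.map (CommRingCat.ofHom ((algebraMap (IsLocalRing.ResidueField A)
      (AlgebraicClosure (IsLocalRing.ResidueField A))).comp (IsLocalRing.residue A))))
    [ConnectedSpace ↥(pullback f ξ)] :
    (FEt.restrict f).Full ∧ (FEt.restrict f).Faithful := by
  let k := IsLocalRing.ResidueField A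
  let i : Spec (CommRingCat.of k) ⟶ Spec (CommRingCat.of A) :=
    Spec.map (CommRingCat.ofHom (IsLocalRing.residue A))
  let a := Groth.Agent.FieldExtConn.ext k (AlgebraicClosure k)
  have hξ' : a ≫ i = ξ := by rw [hξ, ← Spec.map_comp]; rfl
  haveI : ConnectedSpace (pullback (pullback.snd f i) a : Scheme.{u}) := by
    subst hξ'
    let e := pullbackLeftPullbackSndIso f i a
    exact e.inv.surjective.connectedSpace e.inv.continuous
  let ι : separableClosure k (AlgebraicClosure k) →ₐ[k] AlgebraicClosure k :=
    IsScalarTower.toAlgHom k _ (AlgebraicClosure k)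
  haveI : ConnectedSpace (pullback (pullback.snd f i)
      (Groth.Agent.FieldExtConn.ext k (separableClosure k (AlgebraicClosure k))) : Scheme.{u}) :=
    (Groth.Agent.FieldExtConn.baseMap (pullback.snd f i) ι).surjective.connectedSpace
      (Groth.Agent.FieldExtConn.baseMap (pullback.snd f i) ι).continuous
  haveI : GeometricallyConnected (pullback.snd f i) :=
    Groth.Agent.FieldExtConn.geometricallyConnected_of_sepClosure (pullback.snd f i)
  haveI : HenselianRing A (IsLocalRing.maximalIdeal A) := inferInstance
  exact Groth.Agent.FEtHensel.fullyFaithful_of_closedFibre A f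

end Groth.Agent.S5129
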