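import Groth.Statements.S5135
import Mathlib
-- import your own Groth.Agent.* helpers here

set_option autoImplicit false
universe u
open scoped TensorProduct
open SGA1

namespace Groth.Agent.S5135

/-- The affine case, in submodule form (descent of submodules, equivalently of quotient modules): for A
⟶ A' faithfully flat, M an A-module and N' an A'-submodule of A' ⊗ M whose two extensions to (A' ⊗
A') ⊗ M, along a ↦ a ⊗ 1 and a ↦ 1 ⊗ a, generate the same submodule, N' is the base change of the
submodule of M formed by the elements m with 1 ⊗ m in N'. -/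
theorem result (A A' : Type u) [CommRing A] [CommRing A'] [Algebra A A']
    [Module.FaithfullyFlat A A'] (M : Type u) [AddCommGroup M] [Module A M] (N' : Submodule A' (A' ⊗[A] M))
    (h : Submodule.span (A' ⊗[A] A')
          ((N'.restrictScalars A).map
            ((Algebra.TensorProduct.includeLeft : A' →ₐ[A] A' ⊗[A] A').toLinearMap.rTensor M) : Set ((A' ⊗[A] A') ⊗[A] M)) =
        Submodule.span (A' ⊗[A] A')
          ((N'.restrictScalars A).map
            ((Algebra.TensorProduct.includeRight : A' →ₐ[A] A' ⊗[A] A').toLinearMap.rTensor M) : Set ((A' ⊗[A] A') ⊗[A] M))) :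
    ((N'.restrictScalars A).comap (TensorProduct.mk A A' M 1)).baseChange A' = N' := by
    set M0 := (N'.restrictScalars A).comap (TensorProduct.mk A A' M 1) with hM0
    refine le_antisymm ?_ (fun x hx => ?_)
    · rw [Submodule.baseChange_eq_span, Submodule.span_le]
      rintro _ ⟨m, hm, rfl⟩
      exact hm
    let Q := (A' ⊗[A] M) ⧸ N'
    let q : (A' ⊗[A] M) →ₗ[A] Q := N'.mkQ.restrictScalars A
    let Φ : (A' ⊗[A] A') ⊗[A] M →ₗ[A] A' ⊗[A] Q :=
      q.lTensor A' ∘ₗ (TensorProduct.assoc A A' A' M).toLinearMap
    let ψ : (M ⧸ M0) →ₗ[A] Q := M0.liftQ (q ∘ₗ TensorProduct.mk A A' M 1)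
      (fun m hm => (Submodule.Quotient.mk_eq_zero N').mpr hm)
    have hψ : Function.Injective ψ := by
      rw [injective_iff_map_eq_zero]
      intro m hm
      obtain ⟨m, rfl⟩ := M0.mkQ_surjective m
      exact (Submodule.Quotient.mk_eq_zero M0).mpr ((Submodule.Quotient.mk_eq_zero N').mp hm)
    have hR : ∀ (r : A' ⊗[A] A') (y : A' ⊗[A] M), y ∈ N' →
        Φ (r • (Algebra.TensorProduct.includeRight : A' →ₐ[A] A' ⊗[A] A').toLinearMap.rTensor M y) = 0 := by
      intro r y hy
      induction r using TensorProduct.induction_on with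
      | zero => rw [zero_smul, map_zero]
      | add r s hr hs => rw [add_smul, map_add, hr, hs, add_zero]
      | tmul a b =>
        have e : Φ ((a ⊗ₜ[A] b) • (Algebra.TensorProduct.includeRight : A' →ₐ[A] A' ⊗[A] A').toLinearMap.rTensor M y)
            = a ⊗ₜ[A] q (b • y) := by
          clear hy
          induction y using TensorProduct.induction_on with
          | zero => simp
          | add y z h1 h2 => simp only [map_add, smul_add, TensorProduct.tmul_add, h1, h2]
          | tmul c m => simp [Φ, TensorProduct.smul_tmul', Algebra.TensorProduct.tmul_mul_tmul]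
        rw [e, show q (b • y) = 0 from (Submodule.Quotient.mk_eq_zero N').mpr (N'.smul_mem b hy), TensorProduct.tmul_zero]
    have hL : Φ ((Algebra.TensorProduct.includeLeft : A' →ₐ[A] A' ⊗[A] A').toLinearMap.rTensor M x) =
        ψ.lTensor A' (M0.mkQ.lTensor A' x) := by
      clear hx
      induction x using TensorProduct.induction_on with
      | zero => simp
      | add y z h1 h2 => simp only [map_add, h1, h2]
      | tmul c m =>
        simp [Φ, ψ, q]
        all_goals rfl
    have hz : Φ ((Algebra.TensorProduct.includeLeft : A' →ₐ[A] A' ⊗[A] A').toLinearMap.rTensor M x) = 0 := by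
      have hmem := h ▸ Submodule.subset_span (R := A' ⊗[A] A') (Submodule.mem_map_of_mem (p := N'.restrictScalars A) hx)
      suffices ∀ z ∈ Submodule.span (A' ⊗[A] A') ((N'.restrictScalars A).map
          ((Algebra.TensorProduct.includeRight : A' →ₐ[A] A' ⊗[A] A').toLinearMap.rTensor M) : Set ((A' ⊗[A] A') ⊗[A] M)),
          ∀ r : A' ⊗[A] A', Φ (r • z) = 0 by simpa using this _ hmem 1
      intro z hz'
      induction hz' using Submodule.span_induction with
      | mem z hz => obtain ⟨y, hy, rfl⟩ := hz; exact fun r => hR r y hy
      | zero => intro r; simp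
      | add y z _ _ h1 h2 => intro r; rw [smul_add, map_add, h1, h2, add_zero]
      | smul s z _ h1 => intro r; rw [smul_smul]; exact h1 _
    rw [hL] at hz
    have h0 : M0.mkQ.lTensor A' x = 0 :=
      Module.Flat.lTensor_preserves_injective_linearMap ψ hψ (by rw [hz, map_zero])
    obtain ⟨y, rfl⟩ := (lTensor_exact A' (LinearMap.exact_subtype_mkQ M0) M0.mkQ_surjective x).mp h0
    clear * -
    induction y using TensorProduct.induction_on with
    | zero => simp
    | add y z h1 h2 => rw [map_add]; exact add_mem h1 h2
    | tmul c m => rw [LinearMap.lTensor_tmul]; exact Submodule.tmul_mem_baseChange_of_mem c m.2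

end Groth.Agent.S5135
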