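import Groth.Statements.S5136
import Groth.Agent.S4667
import Groth.Agent.S5233
-- import your own Groth.Agent.* helpers here

set_option autoImplicit false
open CategoryTheory CategoryTheory.Limits AlgebraicGeometry
universe u
open SGA1

namespace Groth.Agent.S5136

/-- The existence half of the exactness of H(S) ⟶ H(S') ⇉ H(S'') for closed subschemes: for g : S' ⟶ S
flat, surjective and quasi-compact, a quasi-coherent ideal sheaf on S' whose pullbacks along the two
projections of S' ×_S S' agree is the pullback of a quasi-coherent ideal sheaf on S. (Injectivity of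
the pullback of ideal sheaves along g is the other half.) -/
theorem result {S S' : Scheme.{u}} (g : S' ⟶ S) [Flat g] [Surjective g]
    [QuasiCompact g] (J' : S'.IdealSheafData)
    (h : J'.comap (pullback.fst g g) = J'.comap (pullback.snd g g)) :
    ∃ J : S.IdealSheafData, J.comap g = J' := by
    let f : J'.subscheme ⟶ S := J'.subschemeι ≫ g
    refine ⟨f.ker, ?_⟩
    rw [← Groth.Agent.S4667.result f g]
    let p := pullback.fst g g
    let q := pullback.snd g g
    have sq : IsPullback (pullback.snd p J'.subschemeι) (pullback.fst p J'.subschemeι ≫ q) f g :=
      (IsPullback.of_hasPullback p J'.subschemeι).flip.paste_vert (IsPullback.of_hasPullback g g)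
    have e1 : (pullback.snd f g).ker = (J'.comap p).map q := by
      rw [Scheme.IdealSheafData.comap, Scheme.IdealSheafData.map_ker, ← sq.isoPullback_hom_snd,
        Scheme.Hom.ker_comp_of_isIso]
    rw [e1]
    change (J'.comap (pullback.fst g g)).map q = J'
    rw [h]
    change (J'.comap q).map q = J'
    haveI : Flat q := MorphismProperty.of_isPullback (P := @Flat) (IsPullback.of_hasPullback g g) ‹_›
    haveI : Surjective q := MorphismProperty.of_isPullback (P := @Surjective) (IsPullback.of_hasPullback g g) ‹_›
    haveI : QuasiCompact q := MorphismProperty.of_isPullback (P := @QuasiCompact) (IsPullback.of_hasPullback g g) ‹_›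
    haveI : Flat (pullback.snd q J'.subschemeι) :=
      MorphismProperty.of_isPullback (P := @Flat) (IsPullback.of_hasPullback q J'.subschemeι) ‹_›
    haveI : Surjective (pullback.snd q J'.subschemeι) :=
      MorphismProperty.of_isPullback (P := @Surjective) (IsPullback.of_hasPullback q J'.subschemeι) ‹_›
    haveI : QuasiCompact (pullback.snd q J'.subschemeι) :=
      MorphismProperty.of_isPullback (P := @QuasiCompact) (IsPullback.of_hasPullback q J'.subschemeι) ‹_›
    rw [Scheme.IdealSheafData.comap, Scheme.IdealSheafData.map_ker, pullback.condition,
      ← Scheme.IdealSheafData.map_ker, Groth.Agent.S5233.ker_eq_bot_of_flat, Scheme.IdealSheafData.map_bot,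
      Scheme.IdealSheafData.ker_subschemeι]

end Groth.Agent.S5136
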