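import Groth.Statements.S5138
import Groth.Agent.SourceDescent.Basic
-- import your own Groth.Agent.* helpers here

set_option autoImplicit false
set_option backward.isDefEq.respectTransparency.types false
open CategoryTheory AlgebraicGeometry
universe u
open SGA1

namespace Groth.Agent.S5138
open CategoryTheory CategoryTheory.Limits AlgebraicGeometry

theorem etale_of_le {X Y : Scheme.{u}} (f : X ⟶ Y) (U : X.Opens) (hU : U ≤ Pi1X.etaleLocus f) : Etale (U.ι ≫ f) := by
  let S := {W : X.Opens // Etale (W.ι ≫ f)}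
  rw [IsZariskiLocalAtSource.iff_of_iSup_eq_top (P := @Etale) (fun W : S => U.ι ⁻¹ᵁ W.1) (by
    refine top_le_iff.mp fun z _ => ?_
    obtain ⟨W, hW, hz⟩ := TopologicalSpace.Opens.mem_sSup.mp (hU z.2)
    exact TopologicalSpace.Opens.mem_iSup.mpr ⟨⟨W, hW⟩, hz⟩)]
  intro W
  have e : (U.ι ⁻¹ᵁ W.1).ι ≫ U.ι ≫ f = (U.ι.resLE W.1 _ le_rfl) ≫ W.1.ι ≫ f := by
    rw [Scheme.Hom.resLE_comp_ι_assoc]
  rw [e]
  haveI := W.2
  haveI : IsOpenImmersion (U.ι.resLE W.1 (U.ι ⁻¹ᵁ W.1) le_rfl) := by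
    rw [Scheme.Hom.resLE_eq_morphismRestrict]; infer_instance
  exact MorphismProperty.comp_mem _ _ _ inferInstance W.2

/-- For X ⟶ X' ⟶ Y locally of finite type over a locally Noetherian Y and a point x of X, if X ⟶ X' and
the composite X ⟶ Y are both etale near x then X' ⟶ Y is etale near the image of x; 'etale near a
point' is membership in the etale locus, the union of the opens on which the morphism is etale. (The
published statement takes the morphisms of finite type; quasi-compactness plays no role in this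
assertion about single points, so only local finiteness is assumed.) -/
theorem result {X X' Y : Scheme.{u}} (f : X ⟶ X') (g : X' ⟶ Y)
    [IsLocallyNoetherian Y] [LocallyOfFiniteType f] [LocallyOfFiniteType g] (x : X)
    (hf : x ∈ Pi1X.etaleLocus f) (hfg : x ∈ Pi1X.etaleLocus (f ≫ g)) : f.base x ∈ Pi1X.etaleLocus g := by
  let U : X.Opens := Pi1X.etaleLocus f ⊓ Pi1X.etaleLocus (f ≫ g)
  have h1 : Etale (U.ι ≫ f) := etale_of_le f U inf_le_left
  have h2 : Etale (U.ι ≫ f ≫ g) := etale_of_le (f ≫ g) U inf_le_right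
  let U' : X'.Opens := ⟨Set.range (U.ι ≫ f), (Groth.Agent.SourceDescent.isOpenMap_of_etale (U.ι ≫ f) h1).isOpen_range⟩
  let h : U.toScheme ⟶ U'.toScheme := IsOpenImmersion.lift U'.ι (U.ι ≫ f) (by rw [Scheme.Opens.range_ι]; exact subset_rfl)
  have e : h ≫ U'.ι = U.ι ≫ f := IsOpenImmersion.lift_fac _ _ _
  haveI : Etale (h ≫ U'.ι) := e.symm ▸ h1
  haveI : Etale h := Etale.of_comp h U'.ι
  haveI : Surjective h := ⟨fun y => by
    obtain ⟨x, hx⟩ : (U'.ι y) ∈ Set.range (U.ι ≫ f) := y.2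
    exact ⟨x, U'.ι.isOpenEmbedding.injective (by rw [← Scheme.Hom.comp_apply, e]; exact hx)⟩⟩
  haveI : Etale (h ≫ U'.ι ≫ g) := by rw [← Category.assoc, e, Category.assoc]; exact h2
  have h3 : Etale (U'.ι ≫ g) := Groth.Agent.SourceDescent.etale_of_comp h (U'.ι ≫ g)
  exact le_sSup (show U' ∈ {U : X'.Opens | Etale (U.ι ≫ g)} from h3) ⟨⟨x, hf, hfg⟩, rfl⟩

end Groth.Agent.S5138
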