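import Mathlib
import Groth.Statements.S5150
-- import your own Groth.Agent.* helpers here

set_option autoImplicit false
universe u
open CategoryTheory
open LocCoh

namespace Groth.Agent.S5150

/-- Let A be a commutative ring, I an ideal, M and N A-modules, and f_1, …, f_r a weakly M-regular
sequence of elements of I. If N is killed by a power of I then Ext^i_A(N, M) vanishes for all i < r.
(No Noetherian or finiteness hypothesis on A, M or N.) -/
theorem result (A : Type u) [CommRing A] (I : Ideal A) (M N : Type u) [AddCommGroup M] [Module A M] [AddCommGroup N] [Module A N] (rs : List A) (hreg : RingTheory.Sequence.IsWeaklyRegular M rs) (hI : ∀ r ∈ rs, r ∈ I) (k : ℕ) (hN : (I ^ k) • (⊤ : Submodule A N) = ⊥) (i : ℕ) (hi : i < rs.length) : Subsingleton (Abelian.Ext (ModuleCat.of A N) (ModuleCat.of A M) i) := by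
  suffices H : ∀ (rs : List A) (M : Type u) [AddCommGroup M] [Module A M],
      RingTheory.Sequence.IsWeaklyRegular M rs → (∀ r ∈ rs, r ∈ I) → ∀ i < rs.length,
        Subsingleton (CategoryTheory.Abelian.Ext (ModuleCat.of A N) (ModuleCat.of A M) i) from
    H rs M hreg hI i hi
  intro rs
  induction rs with
  | nil => intro M _ _ _ _ i hi; simp at hi
  | cons r rs ih =>
    intro M _ _ hreg hI i hi
    rw [RingTheory.Sequence.isWeaklyRegular_cons_iff] at hreg
    obtain ⟨hr, hrs⟩ := hreg
    have hrk : r ^ k • 𝟙 (ModuleCat.of A N) = 0 := by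
      ext n
      have : r ^ k • n ∈ (I ^ k) • (⊤ : Submodule A N) :=
        Submodule.smul_mem_smul (Ideal.pow_mem_pow (hI r (List.mem_cons_self ..)) k) trivial
      rw [hN] at this
      exact this
    have hkill : ∀ x : CategoryTheory.Abelian.Ext (ModuleCat.of A N) (ModuleCat.of A M) i, r ^ k • x = 0 := by
      intro x
      have h : r ^ k • x = (CategoryTheory.Abelian.Ext.mk₀ (r ^ k • 𝟙 (ModuleCat.of A N))).comp x (zero_add i) := by
        simp [CategoryTheory.Abelian.Ext.mk₀_smul]
      rw [h, hrk, CategoryTheory.Abelian.Ext.mk₀_zero, CategoryTheory.Abelian.Ext.zero_comp]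
    have hinj : ∀ x : CategoryTheory.Abelian.Ext (ModuleCat.of A N) (ModuleCat.of A M) i, r • x = 0 → x = 0 := by
      intro x hx
      have hS := hr.smulShortComplex_shortExact (M := ModuleCat.of A M)
      cases i with
      | zero =>
        obtain ⟨f, rfl⟩ : ∃ f : (ModuleCat.of A N ⟶ ModuleCat.of A M), CategoryTheory.Abelian.Ext.mk₀ f = x :=
          ⟨CategoryTheory.Abelian.Ext.addEquiv₀ x, CategoryTheory.Abelian.Ext.mk₀_addEquiv₀_apply x⟩
        rw [← CategoryTheory.Abelian.Ext.mk₀_smul, CategoryTheory.Abelian.Ext.mk₀_eq_zero_iff] at hx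
        rw [CategoryTheory.Abelian.Ext.mk₀_eq_zero_iff]
        ext n
        apply hr
        show r • f n = r • (0 : M)
        rw [smul_zero]
        exact congrArg (fun g : ModuleCat.of A N ⟶ ModuleCat.of A M => g n) hx
      | succ j =>
        have hx' : x.comp (CategoryTheory.Abelian.Ext.mk₀ (ModuleCat.smulShortComplex (ModuleCat.of A M) r).f) (add_zero _) = 0 := by
          have e : x.comp (CategoryTheory.Abelian.Ext.mk₀ (r • 𝟙 (ModuleCat.of A M))) (add_zero _) = r • x := by
            simp [CategoryTheory.Abelian.Ext.mk₀_smul]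
          exact e.trans hx
        obtain ⟨y, hy⟩ := CategoryTheory.Abelian.Ext.covariant_sequence_exact₁ _ hS x hx' rfl
        have : Subsingleton (CategoryTheory.Abelian.Ext (ModuleCat.of A N) (ModuleCat.of A (QuotSMulTop r M)) j) :=
          ih (QuotSMulTop r M) hrs (fun s hs => hI s (List.mem_cons_of_mem _ hs)) j (by simp at hi; omega)
        rw [← hy]
        exact (congrArg (fun z => CategoryTheory.Abelian.Ext.comp z hS.extClass rfl) (@Subsingleton.elim _ this y 0)).trans (CategoryTheory.Abelian.Ext.zero_comp _ _ _ _ _)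
    refine subsingleton_of_forall_eq 0 fun x => ?_
    have hpow : ∀ m, r ^ m • x = 0 → x = 0 := by
      intro m
      induction m with
      | zero => simp
      | succ m ihm =>
        intro h
        rw [pow_succ', mul_smul] at h
        exact ihm (hinj _ h)
    exact hpow k (hkill x)

end Groth.Agent.S5150
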