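import Groth.Statements.S5153
import Groth.Agent.DepthSections.Apps
import Mathlib
-- import your own Groth.Agent.* helpers here

set_option autoImplicit false
universe u
open AlgebraicGeometry
open LocCoh

namespace Groth.Agent.S5153

/-- Let X be a locally Noetherian scheme and Y = X − U a closed subset such that depth O_{X,x} ≥ 2 for
every x ∈ Y. Then the inclusion U → X induces a bijection on sets of connected components. -/
theorem result (X : Scheme.{u}) [IsLocallyNoetherian X] (U : X.Opens) (h : ∀ x : X, x ∉ (U : Set X) → (2 : ℕ∞) ≤ LocCoh.depth (X.presheaf.stalk x) (X.presheaf.stalk x)) : Function.Bijective (Continuous.connectedComponentsMap (continuous_subtype_val : Continuous (fun x : U => (x : X)))) := by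
  constructor
  · intro a b hab
    obtain ⟨x, rfl⟩ := ConnectedComponents.surjective_coe a
    obtain ⟨y, rfl⟩ := ConnectedComponents.surjective_coe b
    simp only [Continuous.connectedComponentsMap_mk, ConnectedComponents.coe_eq_coe'] at hab
    let C : X.Opens := ⟨connectedComponent (y : X),
      Groth.Agent.DepthSections.isOpen_connectedComponent _⟩
    have hpre := Groth.Agent.DepthSections.isPreconnected_inf
      (Groth.Agent.DepthSections.bijective_restrict_ring U h C) isPreconnected_connectedComponent
    have himg : (Subtype.val ⁻¹' ((C ⊓ U : X.Opens) : Set X) : Set U) ⊆ connectedComponent y := by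
      refine IsPreconnected.subset_connectedComponent ?_ ⟨mem_connectedComponent, y.2⟩
      refine (Topology.IsInducing.subtypeVal (t := ((U : Set X)))).isPreconnected_image.mp ?_
      convert hpre using 1
      ext z
      exact ⟨fun ⟨w, hw, e⟩ => e ▸ hw, fun hz => ⟨⟨z, hz.2⟩, hz, rfl⟩⟩
    exact ConnectedComponents.coe_eq_coe'.mpr (himg ⟨hab, x.2⟩)
  · intro a
    obtain ⟨x, rfl⟩ := ConnectedComponents.surjective_coe a
    let C : X.Opens := ⟨connectedComponent x, Groth.Agent.DepthSections.isOpen_connectedComponent _⟩
    suffices hne : ∃ z, z ∈ C ∧ z ∈ U by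
      obtain ⟨z, hzC, hzU⟩ := hne
      refine ⟨ConnectedComponents.mk ⟨z, hzU⟩, ?_⟩
      rw [Continuous.connectedComponentsMap_mk]
      exact ConnectedComponents.coe_eq_coe'.mpr hzC
    by_contra hne
    have hbot : C ⊓ U = ⊥ := TopologicalSpace.Opens.ext (Set.eq_empty_iff_forall_notMem.mpr
      fun z hz => hne ⟨z, hz.1, hz.2⟩)
    haveI : Subsingleton Γ(X, C ⊓ U) := by
      rw [hbot]
      exact CommRingCat.subsingleton_of_isTerminal (X.sheaf.isTerminalOfEmpty)
    have h0 : (1 : Γ(X, C)) = 0 :=
      (Groth.Agent.DepthSections.bijective_restrict_ring U h C).1 (Subsingleton.elim _ _)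
    have h1 := congrArg (X.presheaf.germ C x mem_connectedComponent) h0
    rw [map_one, map_zero] at h1
    exact one_ne_zero h1

end Groth.Agent.S5153
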