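import Groth.Statements.S5154
import Groth.Agent.S0335
import Groth.Agent.Hironaka.Catenary
import Mathlib


set_option autoImplicit false
universe u
open LocCoh

namespace Groth.Agent.S5154

open Order in
/-- Minimal primes of a catenary local ring with the S2 property have equal coheight. -/
theorem coheight_eq {A : Type u} [CommRing A] [IsLocalRing A] [IsNoetherianRing A] (hc : CAlg.IsCatenary A)
    (h : ∀ p : PrimeSpectrum A, (2 : ℕ∞) ≤ p.asIdeal.height →
      (2 : ℕ∞) ≤ LocCoh.depth (Localization.AtPrime p.asIdeal) (Localization.AtPrime p.asIdeal))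
    {p q : PrimeSpectrum A} (hp : p.asIdeal ∈ minimalPrimes A) (hq : q.asIdeal ∈ minimalPrimes A) :
    Order.coheight q = Order.coheight p := by
  by_contra hne
  let c := Order.coheight p
  let M1 : Set (PrimeSpectrum A) := {m | m.asIdeal ∈ minimalPrimes A ∧ Order.coheight m = c}
  let M2 : Set (PrimeSpectrum A) := {m | m.asIdeal ∈ minimalPrimes A ∧ Order.coheight m ≠ c}
  have hfin : {m : PrimeSpectrum A | m.asIdeal ∈ minimalPrimes A}.Finite :=
    (minimalPrimes.finite_of_isNoetherianRing A).preimage fun a _ b _ e => PrimeSpectrum.ext e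
  let Y : Set (PrimeSpectrum A) → Set (PrimeSpectrum A) := fun M => ⋃ m ∈ M, PrimeSpectrum.zeroLocus (m.asIdeal : Set A)
  have hclosed : ∀ M : Set (PrimeSpectrum A), (∀ m ∈ M, m.asIdeal ∈ minimalPrimes A) → IsClosed (Y M) := fun M hM =>
    (hfin.subset hM).isClosed_biUnion fun m _ => PrimeSpectrum.isClosed_zeroLocus _
  have hY1 : IsClosed (Y M1) := hclosed M1 fun m hm => hm.1
  have hY2 : IsClosed (Y M2) := hclosed M2 fun m hm => hm.1
  have hmem : ∀ {M : Set (PrimeSpectrum A)} {x : PrimeSpectrum A}, x ∈ Y M ↔ ∃ m ∈ M, m ≤ x := by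
    intro M x
    simp only [Y, Set.mem_iUnion, PrimeSpectrum.mem_zeroLocus, SetLike.coe_subset_coe, exists_prop]
    rfl
  have hp1 : IsLocalRing.closedPoint A ∈ Y M1 :=
    hmem.mpr ⟨p, ⟨hp, rfl⟩, IsLocalRing.le_maximalIdeal p.isPrime.ne_top⟩
  have hq2 : IsLocalRing.closedPoint A ∈ Y M2 :=
    hmem.mpr ⟨q, ⟨hq, hne⟩, IsLocalRing.le_maximalIdeal q.isPrime.ne_top⟩
  obtain ⟨r₀, hr₀, hmax⟩ := WellFounded.has_min
    (InvImage.wf (fun x : PrimeSpectrum A => x.asIdeal.height) wellFounded_lt)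
    (Y M1 ∩ Y M2) ⟨_, hp1, hq2⟩
  obtain ⟨q₁, hq₁, hq₁r⟩ := hmem.mp hr₀.1
  obtain ⟨q₂, hq₂, hq₂r⟩ := hmem.mp hr₀.2
  have hmin : ∀ {m m' : PrimeSpectrum A}, m.asIdeal ∈ minimalPrimes A → m' ≤ m → m' = m := fun hm hle =>
    PrimeSpectrum.ext (le_antisymm hle (hm.2 ⟨PrimeSpectrum.isPrime _, bot_le⟩ hle))
  have hne1 : q₁ ≠ r₀ := fun e => hq₂.2 (by rw [hmin hq₁.1 (hq₂r.trans e.ge)]; exact hq₁.2)
  have hne2 : q₂ ≠ r₀ := fun e => hq₂.2 (by rw [← hmin hq₂.1 (hq₁r.trans e.ge)]; exact hq₁.2)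
  have hht : r₀.asIdeal.height < 2 := by
    refine lt_of_not_ge fun h2 => ?_
    let R := Localization.AtPrime r₀.asIdeal
    have hconn := Groth.Agent.S0335.result R (h r₀ h2)
    let f : PrimeSpectrum R → PrimeSpectrum A := PrimeSpectrum.comap (algebraMap A R)
    have hf : Continuous f := PrimeSpectrum.continuous_comap (algebraMap A R)
    have hfle : ∀ x, f x ≤ r₀ := fun x => by
      intro a ha
      by_contra hna
      exact x.isPrime.ne_top (Ideal.eq_top_of_isUnit_mem _ ha (IsLocalization.map_units R (⟨a, hna⟩ : r₀.asIdeal.primeCompl)))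
    have hfr : ∀ x, f x = r₀ → x.asIdeal = IsLocalRing.maximalIdeal R := fun x e => by
      refine le_antisymm (IsLocalRing.le_maximalIdeal x.isPrime.ne_top) ?_
      rw [← IsLocalization.AtPrime.map_eq_maximalIdeal r₀.asIdeal R, Ideal.map_le_iff_le_comap]
      exact (congrArg PrimeSpectrum.asIdeal e).symm.le
    have hlift : ∀ m : PrimeSpectrum A, m ≤ r₀ → m ≠ r₀ →
        ∃ x : PrimeSpectrum R, x.asIdeal ≠ IsLocalRing.maximalIdeal R ∧ f x = m := by
      intro m hm hne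
      have hd : Disjoint (r₀.asIdeal.primeCompl : Set A) m.asIdeal :=
        Set.disjoint_left.mpr fun a ha ham => ha (hm ham)
      haveI := IsLocalization.isPrime_of_isPrime_disjoint r₀.asIdeal.primeCompl R m.asIdeal m.isPrime hd
      refine ⟨⟨m.asIdeal.map (algebraMap A R), this⟩, fun e => hne (PrimeSpectrum.ext ?_), PrimeSpectrum.ext ?_⟩
      · exact (IsLocalization.comap_map_of_isPrime_disjoint r₀.asIdeal.primeCompl R m.isPrime hd).symm.trans
          ((congrArg (Ideal.comap (algebraMap A R)) e).trans (IsLocalization.AtPrime.comap_maximalIdeal R r₀.asIdeal))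
      · exact IsLocalization.comap_map_of_isPrime_disjoint r₀.asIdeal.primeCompl R m.isPrime hd
    obtain ⟨x₁, hx₁, hfx₁⟩ := hlift q₁ hq₁r hne1
    obtain ⟨x₂, hx₂, hfx₂⟩ := hlift q₂ hq₂r hne2
    obtain ⟨z, hz, hz1, hz2⟩ := (isPreconnected_closed_iff.mp hconn.isPreconnected) (f ⁻¹' Y M1) (f ⁻¹' Y M2)
      (hY1.preimage hf) (hY2.preimage hf) (fun x _ => by
        obtain ⟨m, hm, hmx⟩ := Ideal.exists_minimalPrimes_le (bot_le (a := (f x).asIdeal))
        by_cases e : Order.coheight (⟨m, hm.1.1⟩ : PrimeSpectrum A) = c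
        · exact Or.inl (hmem.mpr ⟨⟨m, hm.1.1⟩, ⟨hm, e⟩, hmx⟩)
        · exact Or.inr (hmem.mpr ⟨⟨m, hm.1.1⟩, ⟨hm, e⟩, hmx⟩))
      ⟨x₁, hx₁, hmem.mpr ⟨q₁, hq₁, hfx₁.ge⟩⟩ ⟨x₂, hx₂, hmem.mpr ⟨q₂, hq₂, hfx₂.ge⟩⟩
    exact hmax (f z) ⟨hz1, hz2⟩ (Ideal.height_strict_mono_of_isPrime (lt_of_le_of_ne (hfle z) fun e => hz (hfr z (PrimeSpectrum.ext e))))
  have hcov : ∀ m : PrimeSpectrum A, m ≤ r₀ → m ≠ r₀ → m ⋖ r₀ := by
    refine fun m hm hne => ⟨lt_of_le_of_ne hm hne, fun s hs hsr => ?_⟩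
    have h1 := Ideal.height_strict_mono_of_isPrime (I := m.asIdeal) (J := s.asIdeal) hs
    have h2 := Ideal.height_strict_mono_of_isPrime (I := s.asIdeal) (J := r₀.asIdeal) hsr
    have h3 := (Order.add_one_le_of_lt h2)
    have h4 : (1 : ℕ∞) ≤ s.asIdeal.height := Order.one_le_iff_pos.mpr (lt_of_le_of_lt bot_le h1)
    have h5 : (2 : ℕ∞) ≤ r₀.asIdeal.height := le_trans (by rw [← one_add_one_eq_two]; exact add_le_add h4 le_rfl) h3
    exact absurd h5 hht.not_ge
  exact hq₂.2 ((Groth.Agent.Hironaka.coheight_of_covBy hc (hcov q₂ hq₂r hne2)).trans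
    ((Groth.Agent.Hironaka.coheight_of_covBy hc (hcov q₁ hq₁r hne1)).symm.trans hq₁.2))

/-- Let A be a Noetherian local ring which is catenary and such that depth A_p ≥ 2 for every prime p
with dim A_p ≥ 2. Then all irreducible components of Spec A have dimension dim A: for every minimal
prime p, dim A/p = dim A. -/
theorem result (A : Type u) [CommRing A] [IsLocalRing A] [IsNoetherianRing A] (hc : CAlg.IsCatenary A) (h : ∀ p : PrimeSpectrum A, (2 : ℕ∞) ≤ p.asIdeal.height → (2 : ℕ∞) ≤ LocCoh.depth (Localization.AtPrime p.asIdeal) (Localization.AtPrime p.asIdeal)) (p : Ideal A) (hp : p ∈ minimalPrimes A) : ringKrullDim (A ⧸ p) = ringKrullDim A := by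
  haveI : p.IsPrime := hp.1.1
  let P : PrimeSpectrum A := ⟨p, ‹_›⟩
  rw [show ringKrullDim (A ⧸ p) = (Order.coheight P : WithBot ℕ∞) from
    (Groth.Agent.Hironaka.coheight_eq_ringKrullDim_quotient P).symm]
  refine le_antisymm (Order.coheight_le_krullDim P) ?_
  unfold ringKrullDim
  rw [Order.krullDim_eq_iSup_coheight_of_nonempty, WithBot.coe_le_coe]
  refine iSup_le fun x => ?_
  obtain ⟨m, hm, hmx⟩ := Ideal.exists_minimalPrimes_le (bot_le (a := x.asIdeal))
  exact (Order.coheight_anti (show (⟨m, hm.1.1⟩ : PrimeSpectrum A) ≤ x from hmx)).trans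
    (coheight_eq hc h (p := P) (q := ⟨m, hm.1.1⟩) hp hm).le

end Groth.Agent.S5154
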