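import Groth.Statements.S5156
import Groth.Agent.S11184

set_option autoImplicit false
universe u
open Matlis

namespace Groth.Agent.S5156

/-- Let A and B be Noetherian local rings with B a finite A-algebra, and E an injective hull of the
residue field of A (a dualizing module for A). Then Hom_A(B, E), as a B-module through the action on
the source, is an injective hull of the residue field of B (a dualizing module for B). -/
theorem result (A B : Type u) [CommRing A] [IsLocalRing A] [IsNoetherianRing A] [CommRing B] [IsLocalRing B] [IsNoetherianRing B] [Algebra A B] [Module.Finite A B] (E : Type u) [AddCommGroup E] [Module A E] (f : IsLocalRing.ResidueField A →ₗ[A] E) (hf : InjHull.IsInjectiveHull f) : ∃ g : IsLocalRing.ResidueField B →ₗ[B] (ModuleCat.coextendScalars (algebraMap A B)).obj (ModuleCat.of A E), InjHull.IsInjectiveHull g := by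
  obtain ⟨J, -, htop, hJ⟩ := S11184.result A B E f hf
  have huniq : ∀ n : MaximalSpectrum B, n = ⟨IsLocalRing.maximalIdeal B, inferInstance⟩ := fun n =>
    MaximalSpectrum.ext (IsLocalRing.eq_maximalIdeal n.isMaximal)
  let n₀ : MaximalSpectrum B := ⟨IsLocalRing.maximalIdeal B, inferInstance⟩
  have hn : J n₀ = ⊤ := eq_top_iff.2 (htop.ge.trans (iSup_le fun j => by rw [huniq j]))
  obtain ⟨g, hg⟩ := hJ n₀
  refine ⟨(J n₀).subtype.comp g, MatlisLib.isInjectiveHull_iff.2 ⟨?_, ?_, fun x hx => ?_⟩⟩
  · exact (J n₀).injective_subtype.comp hg.injective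
  · exact InjHullBasic.injective_of_retraction hg.isInjective
      (LinearMap.codRestrict (J n₀) LinearMap.id fun c => hn.ge Submodule.mem_top) (J n₀).subtype
      fun c => rfl
  · obtain ⟨r, hr0, c, hc⟩ := MatlisLib.exists_smul_mem_range hg.toIsEssentialInj
      (x := ⟨x, hn.ge Submodule.mem_top⟩) fun h => hx (congrArg Subtype.val h)
    exact ⟨r, fun h => hr0 (Subtype.ext h), c, congrArg Subtype.val hc⟩

end Groth.Agent.S5156
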