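import Groth.Statements.S5157
import Groth.Agent.MatlisLib.Local
import Groth.Agent.S11662

set_option autoImplicit false
universe u
open Matlis

namespace Groth.Agent.S5157

/-- Let A be a Noetherian local ring, a an ideal with A/a local (i.e. a ≠ A) and E an injective hull of
the residue field of A. Then the annihilator of a in E, E[a] = {e | a e = 0}, is an injective hull
of the residue field of A/a over A/a. -/
theorem result (A : Type u) [CommRing A] [IsLocalRing A] [IsNoetherianRing A] (a : Ideal A) [IsLocalRing (A ⧸ a)] (E : Type u) [AddCommGroup E] [Module A E] (f : IsLocalRing.ResidueField A →ₗ[A] E) (hf : InjHull.IsInjectiveHull f) : ∃ g : IsLocalRing.ResidueField (A ⧸ a) →ₗ[A ⧸ a] (LocCoh.torsionBy a E), InjHull.IsInjectiveHull g := by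
  letI : Algebra A (IsLocalRing.ResidueField (A ⧸ a)) := inferInstance
  let k := IsLocalRing.ResidueField (A ⧸ a)
  have hsurj : Function.Surjective (algebraMap A k) := fun x => by
    obtain ⟨y, rfl⟩ := IsLocalRing.residue_surjective x
    obtain ⟨z, rfl⟩ := Ideal.Quotient.mk_surjective y
    exact ⟨z, rfl⟩
  have hker : LinearMap.ker (Algebra.linearMap A k) = IsLocalRing.maximalIdeal A :=
    IsLocalRing.eq_maximalIdeal (RingHom.ker_isMaximal_of_surjective (algebraMap A k) hsurj)
  let e : IsLocalRing.ResidueField A ≃ₗ[A] k :=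
    (Submodule.quotEquivOfEq _ _ hker.symm).trans
      ((Algebra.linearMap A k).quotKerEquivOfSurjective hsurj)
  have hf' : InjHull.IsInjectiveHull (f.comp e.symm.toLinearMap) := MatlisLib.isInjectiveHull_iff.2
    ⟨hf.injective.comp e.symm.injective, hf.isInjective, fun x hx => by
      obtain ⟨r, hr0, c, hc⟩ := MatlisLib.exists_smul_mem_range hf.toIsEssentialInj hx
      exact ⟨r, hr0, e c, by rw [LinearMap.comp_apply, LinearEquiv.coe_coe, e.symm_apply_apply, hc]⟩⟩
  obtain ⟨g, hg, -⟩ := S11662.result A a k E _ hf'
  exact ⟨g, hg⟩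

end Groth.Agent.S5157
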