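import Groth.Statements.S5158
import Groth.Agent.MatlisLib.Local
import Mathlib.RingTheory.AdicCompletion.Completeness

set_option autoImplicit false
universe u
open scoped TensorProduct
open Matlis

namespace Groth.Agent.S5158

/-- Let A be a Noetherian local ring, Â its m-adic completion and I an m-power torsion A-module (a union
of submodules of finite length). Then x ↦ 1 ⊗ x is a bijection I → Â ⊗_A I. -/
theorem result (A : Type u) [CommRing A] [IsLocalRing A] [IsNoetherianRing A] (I : Type u) [AddCommGroup I] [Module A I] (hI : LocCoh.IsPowerTorsion (IsLocalRing.maximalIdeal A) I) : Function.Bijective (TensorProduct.mk A (AdicCompletion (IsLocalRing.maximalIdeal A) A) I 1) := by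
  classical
  let m := IsLocalRing.maximalIdeal A
  let L : AdicCompletion m A ⊗[A] I →ₗ[A] I :=
    TensorProduct.lift (MatlisLib.actHom hI).toLinearMap
  have hL : ∀ t x, L (t ⊗ₜ x) = MatlisLib.act hI t x := fun t x => rfl
  constructor
  · intro x y hxy
    have := congrArg L hxy
    rw [TensorProduct.mk_apply, TensorProduct.mk_apply, hL, hL] at this
    rwa [← MatlisLib.actHom_apply hI, ← MatlisLib.actHom_apply hI, map_one] at this
  · intro z
    induction z using TensorProduct.induction_on with
    | zero => exact ⟨0, map_zero _⟩
    | add a b ha hb =>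
      obtain ⟨x, rfl⟩ := ha
      obtain ⟨y, rfl⟩ := hb
      exact ⟨x + y, map_add _ x y⟩
    | tmul t x =>
      obtain ⟨n, hn⟩ := hI x
      obtain ⟨a, ha⟩ := Submodule.Quotient.mk_surjective _ (AdicCompletion.eval m A n t)
      have hker : t - AdicCompletion.of m A a ∈ (m ^ n) • (⊤ : Submodule A (AdicCompletion m A)) := by
        rw [AdicCompletion.pow_smul_top_eq_ker_eval (IsNoetherian.noetherian m), LinearMap.mem_ker,
          map_sub, AdicCompletion.eval_of, ← ha]
        exact sub_self _
      have h0 : (t - AdicCompletion.of m A a) ⊗ₜ[A] x = 0 := by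
        refine Submodule.smul_induction_on hker (fun r hr s _ => ?_) fun u v hu hv => ?_
        · rw [TensorProduct.smul_tmul, hn r hr, TensorProduct.tmul_zero]
        · rw [TensorProduct.add_tmul, hu, hv, add_zero]
      refine ⟨a • x, ?_⟩
      rw [TensorProduct.sub_tmul, sub_eq_zero] at h0
      rw [h0, TensorProduct.mk_apply, ← TensorProduct.smul_tmul]
      congr 1
      rw [show a • (1 : AdicCompletion m A) = algebraMap A _ a from (Algebra.algebraMap_eq_smul_one a).symm]
      rfl

end Groth.Agent.S5158
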