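import Groth.Statements.S5163
import Mathlib.RingTheory.Regular.Depth
import Mathlib.RingTheory.Support

set_option autoImplicit false
universe u
open LocCoh

namespace Groth.Agent.S5163

/-- For modules over a Noetherian ring. Let P be a finite A-module and H any A-module with Supp H ⊆ Supp
P. If Hom_A(P, H) = 0 then H = 0. (The published lemma is stated over an arbitrary prescheme; its
proof uses that a nonzero module has an associated prime, so the ring is taken Noetherian here.) -/
theorem result (A : Type u) [CommRing A] [IsNoetherianRing A] (P H : Type u) [AddCommGroup P] [Module A P] [Module.Finite A P] [AddCommGroup H] [Module A H] (hsupp : Module.support A H ⊆ Module.support A P) (hhom : Subsingleton (P →ₗ[A] H)) : Subsingleton H := by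
  rw [subsingleton_iff_forall_eq 0]
  intro x
  by_contra hx0
  let H' : Submodule A H := A ∙ x
  haveI : Nontrivial H' := Submodule.nontrivial_iff_ne_bot.mpr (by simpa [H'] using hx0)
  haveI : Subsingleton (P →ₗ[A] H') :=
    ⟨fun f g => LinearMap.ext fun p => H'.injective_subtype (LinearMap.congr_fun
      (Subsingleton.elim (H'.subtype ∘ₗ f) (H'.subtype ∘ₗ g)) p)⟩
  obtain ⟨r, hr, hreg⟩ := IsSMulRegular.subsingleton_linearMap_iff.mp this
  have hsub : Module.support A H' ⊆ Module.support A P :=
    (Module.support_subset_of_injective H'.subtype H'.injective_subtype).trans hsupp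
  have hrad : r ∈ (Module.annihilator A H').radical := by
    rw [Ideal.radical_eq_sInf, Submodule.mem_sInf]
    rintro p ⟨hp, hpp⟩
    have h1 : (⟨p, hpp⟩ : PrimeSpectrum A) ∈ Module.support A P :=
      hsub (by rw [Module.support_eq_zeroLocus]; exact hp)
    rw [Module.support_eq_zeroLocus] at h1
    exact h1 hr
  obtain ⟨k, hk⟩ := hrad
  rw [Module.mem_annihilator] at hk
  obtain ⟨y, hy⟩ := exists_ne (0 : H')
  exact hy (hreg.pow k (show r ^ k • y = r ^ k • (0 : H') by rw [hk y, smul_zero]))

end Groth.Agent.S5163
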