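import Mathlib
import Groth.Agent.GoldmanLib.Basic
import Groth.Statements.S5166
-- import your own Groth.Agent.* helpers here

set_option autoImplicit false
universe u
open LocCoh

namespace Groth.Agent.S5166

/-- In its local form at a point y ∈ Y (A = O_{X,y}). Let A be a Noetherian local ring and I ≠ A an
ideal contained in no minimal prime of A. Then some prime p ⊉ I has dim A/p = 1. -/
theorem result (A : Type u) [CommRing A] [IsLocalRing A] [IsNoetherianRing A] (I : Ideal A) (hI : I ≠ ⊤) (hdense : ∀ q ∈ minimalPrimes A, ¬ I ≤ q) : ∃ p : PrimeSpectrum A, ¬ I ≤ p.asIdeal ∧ ringKrullDim (A ⧸ p.asIdeal) = 1 := by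
  classical
  let T : Set (Ideal A) := {p | p.IsPrime ∧ ¬ I ≤ p}
  obtain ⟨⟨q, hq⟩⟩ := Ideal.nonempty_minimalPrimes (I := (⊥ : Ideal A)) bot_ne_top
  have hT : T.Nonempty := ⟨q, hq.1.1, hdense q hq⟩
  obtain ⟨p, hp⟩ := (set_has_maximal_iff_noetherian.2 (inferInstance : IsNoetherian A A) T hT).imp fun p h => (show Maximal (· ∈ T) p from ⟨h.1, fun b hb hle => by
    rcases eq_or_lt_of_le hle with e | e
    · exact e.ge
    · exact absurd e (h.2 b hb)⟩)
  haveI := hp.1.1
  obtain ⟨f, hfI, hfp⟩ := SetLike.not_le_iff_exists.1 hp.1.2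
  refine ⟨⟨p, hp.1.1⟩, hp.1.2, ?_⟩
  have hmax : ∀ r : Ideal A, r.IsPrime → p ≤ r → f ∉ r → r = p := fun r hr hle hfr =>
    le_antisymm (hp.2 ⟨hr, fun h => hfr (h hfI)⟩ hle) hle
  set m := IsLocalRing.maximalIdeal A
  have hpm : p < m := lt_of_le_of_ne (IsLocalRing.le_maximalIdeal hp.1.1.ne_top) fun e => hfp (e ▸ IsLocalRing.le_maximalIdeal hI hfI)
  have honly : ∀ r : Ideal A, r.IsPrime → p < r → r = m := fun r hr hlt =>
    Groth.Agent.GoldmanLib.eq_of_le_of_lt p f hfp hmax hr (IsLocalRing.maximalIdeal.isMaximal A).isPrime hlt (IsLocalRing.le_maximalIdeal hr.ne_top)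
  haveI : IsLocalRing (A ⧸ p) := IsLocalRing.of_surjective' (Ideal.Quotient.mk p) Ideal.Quotient.mk_surjective
  apply le_antisymm
  · haveI : Ring.DimensionLEOne (A ⧸ p) := ⟨fun {Q} hQ0 hQ => by
      have hker : p ≤ Q.comap (Ideal.Quotient.mk p) := fun a ha => by
        simp [Ideal.mem_comap, Ideal.Quotient.eq_zero_iff_mem.2 ha]
      have hne : p ≠ Q.comap (Ideal.Quotient.mk p) := fun e => hQ0 (by
        rw [← Ideal.map_comap_of_surjective (Ideal.Quotient.mk p) Ideal.Quotient.mk_surjective Q, ← e, Ideal.map_quotient_self])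
      have he := honly _ (Ideal.IsPrime.comap _) (lt_of_le_of_ne hker hne)
      haveI : (Q.comap (Ideal.Quotient.mk p)).IsMaximal := he ▸ IsLocalRing.maximalIdeal.isMaximal A
      rw [← Ideal.map_comap_of_surjective (Ideal.Quotient.mk p) Ideal.Quotient.mk_surjective Q]
      exact (Ideal.map_eq_top_or_isMaximal_of_surjective _ Ideal.Quotient.mk_surjective inferInstance).resolve_left
        (by rw [Ideal.map_comap_of_surjective _ Ideal.Quotient.mk_surjective]; exact hQ.ne_top)⟩
    exact Ring.krullDimLE_iff.1 inferInstance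
  · rw [← IsLocalRing.maximalIdeal_height_eq_ringKrullDim]
    have : (IsLocalRing.maximalIdeal (A ⧸ p)).height ≠ 0 := fun h => by
      rw [Ideal.height_eq_zero_iff_eq_bot] at h
      apply hpm.not_ge
      have h2 : Ideal.comap (Ideal.Quotient.mk p) (IsLocalRing.maximalIdeal (A ⧸ p)) = m :=
        IsLocalRing.eq_maximalIdeal (Ideal.comap_isMaximal_of_surjective _ Ideal.Quotient.mk_surjective)
      rw [h, ← RingHom.ker_eq_comap_bot, Ideal.mk_ker] at h2
      exact h2.ge
    exact_mod_cast ENat.one_le_iff_ne_zero.2 this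

end Groth.Agent.S5166
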