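import Groth.Statements.S5171
import Groth.Agent.LocCohLib.NonVanishing
import Groth.Agent.DepthLib.Localization

set_option autoImplicit false
universe u
open LocCoh

namespace Groth.Agent.S5171

/-- Let A be a Noetherian ring, J an ideal, n ≥ 0 and G a finite Cohen–Macaulay A-module (each
localization G_p is zero or Cohen–Macaulay). Then H^i_J(G) = 0 for i < n if and only if codim(V(J) ∩
Supp G, Supp G) ≥ n, i.e. dim Supp(G_p) ≥ n for every p ∈ V(J) ∩ Supp G. -/
theorem result (A : Type u) [CommRing A] [IsNoetherianRing A] (J : Ideal A) (G : Type u) [AddCommGroup G] [Module A G] [Module.Finite A G] (hCM : ∀ p : PrimeSpectrum A, Subsingleton (LocalizedModule p.asIdeal.primeCompl G) ∨ LocCoh.IsCohenMacaulayModule (Localization.AtPrime p.asIdeal) (LocalizedModule p.asIdeal.primeCompl G)) (n : ℕ) : (∀ i : ℕ, i < n → Subsingleton (LocCoh.H J i G)) ↔ ∀ p : PrimeSpectrum A, J ≤ p.asIdeal → p ∈ Module.support A G → (n : WithBot ℕ∞) ≤ Module.supportDim (Localization.AtPrime p.asIdeal) (LocalizedModule p.asIdeal.primeCompl G) := by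
  refine ⟨fun h p hJp hp => ((WithBot.coe_le_coe.2
    ((Groth.Agent.LocCohLib.natCast_le_idealDepth_iff_vanishing J G n).2 h)).trans
      (Groth.Agent.DepthLib.idealDepth_le_supportDim_localization p hJp hp)), fun h => ?_⟩
  refine (Groth.Agent.LocCohLib.natCast_le_idealDepth_iff_vanishing J G n).1
    (Groth.Agent.DepthLib.natCast_le_idealDepth_iff_forall_localization.2 fun p _ hJp => ?_)
  rcases hCM ⟨p, inferInstance⟩ with hs | hcm
  · haveI := hs
    rw [Groth.Agent.DepthLib.depth_eq_top_of_subsingleton]
    exact le_top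
  · by_cases hp : (⟨p, inferInstance⟩ : PrimeSpectrum A) ∈ Module.support A G
    · have h1 := (h ⟨p, inferInstance⟩ hJp hp).trans hcm.le
      exact WithBot.coe_le_coe.1 h1
    · haveI := Module.notMem_support_iff.1 hp
      rw [Groth.Agent.DepthLib.depth_eq_top_of_subsingleton]
      exact le_top

end Groth.Agent.S5171
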