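import Groth.Statements.S5174
import Groth.Agent.LocCohLib.ExtVanishing

set_option autoImplicit false
universe u
open CategoryTheory Opposite
open LocCoh

namespace Groth.Agent.S5174

open Groth.Agent.LocCohLib CategoryTheory Opposite
open CategoryTheory.Limits
open CategoryTheory.Abelian (Ext)

section
variable {A : Type u} [CommRing A] {J : Ideal A}

/-- The map `A/J^r → F` sending `1` to `f`. -/
noncomputable def tmap {F : ModuleCat.{u} A} {r : ℕ} (h : J ^ r ≤ Module.annihilator A F) (f : F) : qMod J r ⟶ F :=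
  ModuleCat.ofHom (Submodule.liftQ (J ^ r) (LinearMap.toSpanSingleton A F f) fun a ha =>
    Module.mem_annihilator.1 (h ha) f)

lemma tmap_one {F : ModuleCat.{u} A} {r : ℕ} (h : J ^ r ≤ Module.annihilator A F) (f : F) :
    tmap h f (one' J r) = f := one_smul A f

lemma tr_tmap {F : ModuleCat.{u} A} {r s : ℕ} (h : J ^ r ≤ Module.annihilator A F)
    (h' : J ^ s ≤ Module.annihilator A F) (hrs : r ≤ s) (f : F) : tr J hrs ≫ tmap h f = tmap h' f :=
  qMod_ext ((tmap_one h f).trans (tmap_one h' f).symm)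

variable (G : ModuleCat.{u} A) (n : ℕ)

/-- The comparison map. -/
noncomputable def Φ {F : ModuleCat.{u} A} {r : ℕ} (h : J ^ r ≤ Module.annihilator A F) :
    Ext F G n →ₗ[A] F →ₗ[A] (localCohomology J n).obj G :=
  LinearMap.mk₂ A (fun x f => cl J n G r ((Ext.mk₀ (tmap h f)).comp x (zero_add n)))
    (fun x y f => by rw [Ext.comp_add, map_add])
    (fun c x f => by rw [Ext.comp_smul, map_smul])
    (fun x f g => by
      rw [show tmap h (f + g) = tmap h f + tmap h g from qMod_ext (by
        change tmap h (f + g) (one' J r) = tmap h f (one' J r) + tmap h g (one' J r)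
        rw [tmap_one, tmap_one, tmap_one]), Ext.mk₀_add, Ext.add_comp, map_add])
    (fun c x f => by
      rw [show tmap h (c • f) = c • tmap h f from qMod_ext (by
        change tmap h (c • f) (one' J r) = c • tmap h f (one' J r)
        rw [tmap_one, tmap_one]), Ext.mk₀_smul, Ext.smul_comp, map_smul])

lemma Φ_apply {F : ModuleCat.{u} A} {r : ℕ} (h : J ^ r ≤ Module.annihilator A F) (x : Ext F G n) (f : F) :
    Φ G n h x f = cl J n G r ((Ext.mk₀ (tmap h f)).comp x (zero_add n)) := rfl

lemma Φ_indep {F : ModuleCat.{u} A} {r s : ℕ} (h : J ^ r ≤ Module.annihilator A F)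
    (h' : J ^ s ≤ Module.annihilator A F) (hrs : r ≤ s) (x : Ext F G n) : Φ G n h x = Φ G n h' x :=
  LinearMap.ext fun f => by
    rw [Φ_apply, Φ_apply, ← cl_tr hrs, ← tr_tmap h h' hrs f, Ext.mk₀_comp_mk₀_assoc]

lemma Φ_natural {K F : ModuleCat.{u} A} {r : ℕ} (hK : J ^ r ≤ Module.annihilator A K)
    (hF : J ^ r ≤ Module.annihilator A F) (ι : K ⟶ F) (x : Ext F G n) (k : K) :
    Φ G n hK ((Ext.mk₀ ι).comp x (zero_add n)) k = Φ G n hF x (ι k) := by
  rw [Φ_apply, Φ_apply, Ext.mk₀_comp_mk₀_assoc]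
  congr 3
  refine qMod_ext ?_
  rw [tmap_one]
  exact congrArg ι (tmap_one hK k)

variable [IsNoetherianRing A]
  (hvan : ∀ F' : ModuleCat.{u} A, Module.Finite A F' →
    Module.support A F' ⊆ PrimeSpectrum.zeroLocus (J : Set A) → ∀ i : ℕ, i + 1 = n → Subsingleton (Ext F' G i))

omit [IsNoetherianRing A] in
lemma supp_subset {F : ModuleCat.{u} A} {r : ℕ} (h : J ^ r ≤ Module.annihilator A F) :
    Module.support A F ⊆ PrimeSpectrum.zeroLocus (J : Set A) := fun q hq a ha => by
  by_contra haq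
  obtain ⟨w, hw⟩ := Module.mem_support_iff'.1 hq
  exact hw (a ^ r) (fun h' => haq (q.2.mem_of_pow_mem r h')) (Module.mem_annihilator.1 (h (Ideal.pow_mem_pow ha r)) w)

include hvan in
omit [IsNoetherianRing A] in
lemma pull_injective {F P : ModuleCat.{u} A} [IsNoetherian A P] {r : ℕ} (hP : J ^ r ≤ Module.annihilator A P)
    (π : P ⟶ F) (hπ : Function.Surjective π) (x : Ext F G n) (hx : (Ext.mk₀ π).comp x (zero_add n) = 0) : x = 0 := by
  let K : ShortComplex (ModuleCat.{u} A) := ShortComplex.mk (X₁ := ModuleCat.of A (LinearMap.ker π.hom))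
    (ModuleCat.ofHom (LinearMap.ker π.hom).subtype) π (ModuleCat.hom_ext (LinearMap.ext fun z => z.2))
  have hK : K.ShortExact :=
    { exact := (ShortComplex.moduleCat_exact_iff _).2 fun z hz => ⟨⟨z, hz⟩, rfl⟩
      mono_f := (ModuleCat.mono_iff_injective _).2 Subtype.val_injective
      epi_g := (ModuleCat.epi_iff_surjective _).2 hπ }
  cases n with
  | zero =>
    haveI : Epi π := (ModuleCat.epi_iff_surjective _).2 hπ
    obtain ⟨f, rfl⟩ := (Ext.mk₀_bijective _ _).2 x
    rw [Ext.mk₀_comp_mk₀, ← Ext.mk₀_zero] at hx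
    rw [← Ext.mk₀_zero, (cancel_epi π).1 (((Ext.mk₀_bijective _ _).1 hx).trans comp_zero.symm)]
  | succ k =>
    obtain ⟨z, rfl⟩ := Ext.contravariant_sequence_exact₃ hK G x hx (add_comm 1 k)
    have hann : J ^ r ≤ Module.annihilator A (LinearMap.ker π.hom) := hP.trans
      (LinearMap.annihilator_le_of_injective (LinearMap.ker π.hom).subtype Subtype.val_injective)
    haveI : Module.Finite A (LinearMap.ker π.hom) := Module.Finite.iff_fg.2 (IsNoetherian.noetherian _)
    haveI := hvan K.X₁ ‹_› (supp_subset (F := K.X₁) hann) k rfl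
    rw [Subsingleton.elim z 0, Ext.comp_zero]

include hvan in
lemma tr_injective {r s : ℕ} (hrs : r ≤ s) (x : Ext (qMod J r) G n)
    (hx : (Ext.mk₀ (tr J hrs)).comp x (zero_add n) = 0) : x = 0 := by
  haveI : Module.Finite A (qMod J s) := inferInstanceAs (Module.Finite A (A ⧸ J ^ s))
  refine pull_injective G n hvan (P := qMod J s) (r := s) (fun a ha => Module.mem_annihilator.2 fun z => ?_)
    (tr J hrs) (fun z => ?_) x hx
  · obtain ⟨z, rfl⟩ := Submodule.Quotient.mk_surjective _ z
    exact (Submodule.Quotient.mk_eq_zero _).2 ((J ^ s).mul_mem_right z ha)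
  · obtain ⟨z, rfl⟩ := Submodule.Quotient.mk_surjective _ z
    exact ⟨Submodule.Quotient.mk z, rfl⟩

omit [IsNoetherianRing A] in
lemma exists_cover (F : ModuleCat.{u} A) [Module.Finite A F] {r : ℕ} (h : J ^ r ≤ Module.annihilator A F) :
    ∃ (m : ℕ) (g : Fin m → F) (π : ModuleCat.of A (Fin m → qMod J r) ⟶ F), Function.Surjective π ∧
      (∀ j, ModuleCat.ofHom (LinearMap.single A (fun _ : Fin m => qMod J r) j) ≫ π = tmap h (g j)) := by
  obtain ⟨m, g, hg⟩ := Module.Finite.exists_fin (R := A) (M := F)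
  refine ⟨m, g, ModuleCat.ofHom (∑ j, (tmap h (g j)).hom ∘ₗ LinearMap.proj j), ?_, fun j => ?_⟩
  · intro y
    have hy : y ∈ Submodule.span A (Set.range g) := hg ▸ Submodule.mem_top
    obtain ⟨c, rfl⟩ := (Submodule.mem_span_range_iff_exists_fun A).1 hy
    refine ⟨fun j => c j • one' J r, ?_⟩
    change (∑ j, (tmap h (g j)).hom ∘ₗ LinearMap.proj j : _ →ₗ[A] F) _ = _
    rw [LinearMap.sum_apply]
    exact Finset.sum_congr rfl fun j _ => (map_smul _ _ _).trans (congrArg (c j • ·) (tmap_one h (g j)))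
  · refine ModuleCat.hom_ext (LinearMap.ext fun z => ?_)
    change (∑ i, (tmap h (g i)).hom ∘ₗ LinearMap.proj i : _ →ₗ[A] F)
      (Pi.single (M := fun _ : Fin m => qMod J r) j z) = tmap h (g j) z
    rw [LinearMap.sum_apply, Finset.sum_eq_single j]
    · exact congrArg (tmap h (g j)).hom (Pi.single_eq_same (M := fun _ : Fin m => qMod J r) j z)
    · intro i _ hij
      exact (congrArg (tmap h (g i)).hom (Pi.single_eq_of_ne (M := fun _ : Fin m => qMod J r) hij z)).trans (map_zero _)
    · exact fun hj => absurd (Finset.mem_univ j) hj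

omit [IsNoetherianRing A] in
lemma ext_pi {m : ℕ} {r : ℕ} (x : Ext (ModuleCat.of A (Fin m → qMod J r)) G n) :
    x = ∑ j, (Ext.mk₀ (ModuleCat.ofHom (LinearMap.proj (R := A) (φ := fun _ : Fin m => qMod J r) j))).comp
      ((Ext.mk₀ (ModuleCat.ofHom (LinearMap.single A (fun _ : Fin m => qMod J r) j))).comp x (zero_add n)) (zero_add n) := by
  conv_lhs => rw [← Ext.mk₀_id_comp x]
  simp only [Ext.mk₀_comp_mk₀_assoc]
  rw [← Ext.sum_comp, ← Ext.mk₀_sum]
  congr 2
  refine ModuleCat.hom_ext (LinearMap.ext fun z => ?_)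
  rw [ModuleCat.hom_sum, LinearMap.sum_apply]
  exact (Finset.univ_sum_single z).symm

include hvan in
lemma Φ_injective {F : ModuleCat.{u} A} [Module.Finite A F] {r : ℕ} (h : J ^ r ≤ Module.annihilator A F)
    (x : Ext F G n) (hx : Φ G n h x = 0) : x = 0 := by
  obtain ⟨m, g, π, hπ, hg⟩ := exists_cover F h
  haveI : Module.Finite A (qMod J r) := inferInstanceAs (Module.Finite A (A ⧸ J ^ r))
  haveI : IsNoetherian A (qMod J r) := isNoetherian_of_isNoetherianRing_of_finite A _
  refine pull_injective G n hvan (P := ModuleCat.of A (Fin m → qMod J r)) (r := r) ?_ π hπ x ?_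
  · intro a ha
    refine Module.mem_annihilator.2 fun z => funext fun j => ?_
    obtain ⟨w, hw⟩ := Submodule.Quotient.mk_surjective _ (z j)
    change a • z j = 0
    rw [← hw]
    exact (Submodule.Quotient.mk_eq_zero _).2 ((J ^ r).mul_mem_right w ha)
  rw [ext_pi G n ((Ext.mk₀ π).comp x (zero_add n))]
  refine Finset.sum_eq_zero fun j _ => ?_
  have h0 : cl J n G r ((Ext.mk₀ (tmap h (g j))).comp x (zero_add n)) = 0 := LinearMap.congr_fun hx (g j)
  obtain ⟨s, hrs, hs⟩ := (cl_eq_zero_iff _).1 h0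
  have hj : (Ext.mk₀ (ModuleCat.ofHom (LinearMap.single A (fun _ : Fin m => qMod J r) j))).comp
      ((Ext.mk₀ π).comp x (zero_add n)) (zero_add n) = 0 := by
    rw [Ext.mk₀_comp_mk₀_assoc, hg j]
    exact tr_injective G n hvan hrs _ hs
  rw [hj, Ext.comp_zero]

include hvan in
lemma Φ_surjective {F : ModuleCat.{u} A} [Module.Finite A F] {r : ℕ} (h : J ^ r ≤ Module.annihilator A F)
    (φ : F →ₗ[A] (localCohomology J n).obj G) : ∃ x, Φ G n h x = φ := by
  obtain ⟨m₀, g₀, hg₀⟩ := Module.Finite.exists_fin (R := A) (M := F)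
  choose N y hy using fun j => exists_cl (φ (g₀ j))
  let s := r + ∑ j, N j
  have hrs : r ≤ s := Nat.le_add_right _ _
  have hs : J ^ s ≤ Module.annihilator A F := (Ideal.pow_le_pow_right hrs).trans h
  have hN : ∀ j, N j ≤ s := fun j =>
    le_add_left (Finset.single_le_sum (fun i _ => Nat.zero_le (N i)) (Finset.mem_univ j))
  let π : ModuleCat.of A (Fin m₀ → qMod J s) ⟶ F :=
    ModuleCat.ofHom (∑ j, (tmap hs (g₀ j)).hom ∘ₗ LinearMap.proj j)
  have hπ : Function.Surjective π := by
    intro z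
    have hz : z ∈ Submodule.span A (Set.range g₀) := hg₀ ▸ Submodule.mem_top
    obtain ⟨c, rfl⟩ := (Submodule.mem_span_range_iff_exists_fun A).1 hz
    refine ⟨fun j => c j • one' J s, ?_⟩
    change (∑ j, (tmap hs (g₀ j)).hom ∘ₗ LinearMap.proj j : _ →ₗ[A] F) _ = _
    rw [LinearMap.sum_apply]
    exact Finset.sum_congr rfl fun j _ => (map_smul _ _ _).trans (congrArg (c j • ·) (tmap_one hs (g₀ j)))
  let P := ModuleCat.of A (Fin m₀ → qMod J s)
  have hP : J ^ s ≤ Module.annihilator A P := by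
    intro a ha
    refine Module.mem_annihilator.2 fun z => funext fun j => ?_
    obtain ⟨w, hw⟩ := Submodule.Quotient.mk_surjective _ (z j)
    change a • z j = 0
    rw [← hw]
    exact (Submodule.Quotient.mk_eq_zero _).2 ((J ^ s).mul_mem_right w ha)
  let pr (j : Fin m₀) : P ⟶ qMod J s :=
    ModuleCat.ofHom (LinearMap.proj (R := A) (φ := fun _ : Fin m₀ => qMod J s) j)
  let z : Ext P G n := ∑ j, (Ext.mk₀ (pr j)).comp ((Ext.mk₀ (tr J (hN j))).comp (y j) (zero_add n)) (zero_add n)
  have hz : ∀ p : P, Φ G n hP z p = φ (π p) := fun p => by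
    change _ = φ ((∑ j, (tmap hs (g₀ j)).hom ∘ₗ LinearMap.proj j : _ →ₗ[A] F) p)
    rw [LinearMap.sum_apply, map_sum, map_sum, LinearMap.sum_apply]
    refine Finset.sum_congr rfl fun j _ => ?_
    obtain ⟨w, hw⟩ := Submodule.Quotient.mk_surjective _ (p j)
    rw [Φ_apply, Ext.mk₀_comp_mk₀_assoc,
      show tmap hP p ≫ pr j = w • 𝟙 (qMod J s) from qMod_ext (by
        change (tmap hP p (one' J s)) j = w • one' J s
        rw [tmap_one, ← hw]
        exact congrArg Submodule.Quotient.mk (mul_one w).symm),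
      Ext.mk₀_smul, Ext.smul_comp, Ext.mk₀_id_comp, map_smul, cl_tr (hN j), hy j, ← map_smul]
    congr 1
    change w • g₀ j = tmap hs (g₀ j) (p j)
    rw [← hw]
    rfl
  let K : ShortComplex (ModuleCat.{u} A) := ShortComplex.mk (X₁ := ModuleCat.of A (LinearMap.ker π.hom))
    (ModuleCat.ofHom (LinearMap.ker π.hom).subtype) π (ModuleCat.hom_ext (LinearMap.ext fun z => z.2))
  have hK : K.ShortExact :=
    { exact := (ShortComplex.moduleCat_exact_iff _).2 fun z hz => ⟨⟨z, hz⟩, rfl⟩
      mono_f := (ModuleCat.mono_iff_injective _).2 Subtype.val_injective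
      epi_g := (ModuleCat.epi_iff_surjective _).2 hπ }
  haveI : Module.Finite A (qMod J s) := inferInstanceAs (Module.Finite A (A ⧸ J ^ s))
  haveI : IsNoetherian A (qMod J s) := isNoetherian_of_isNoetherianRing_of_finite A _
  haveI : Module.Finite A K.X₁ := Module.Finite.iff_fg.2 (IsNoetherian.noetherian _)
  have hKann : J ^ s ≤ Module.annihilator A K.X₁ := hP.trans
    (LinearMap.annihilator_le_of_injective (LinearMap.ker π.hom).subtype Subtype.val_injective)
  have h0 : (Ext.mk₀ K.f).comp z (zero_add n) = 0 := Φ_injective G n hvan hKann _ (LinearMap.ext fun k => by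
    rw [Φ_natural G n hKann hP K.f z k, hz, show π (K.f k) = 0 from k.2, map_zero]
    rfl)
  obtain ⟨x, hx⟩ := Ext.contravariant_sequence_exact₂ hK G z h0
  refine ⟨x, (Φ_indep G n h hs hrs x).trans (LinearMap.ext fun f => ?_)⟩
  obtain ⟨p, rfl⟩ := hπ f
  rw [← hz p, ← Φ_natural G n hP hs π x p]
  exact congrArg (fun v => Φ G n hP v p) hx

end

/-- Affine case with Z = X. Let A be a Noetherian ring, J an ideal, G any A-module and n ≥ 0 with
Ext^{n−1}_A(F', G) = 0 for all finite F' supported in V(J). Then for every finite A-module F with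
Supp F ⊆ V(J) there is an A-linear isomorphism Ext^n_A(F, G) ≅ Hom_A(F, H^n_J(G)). (Existence of the
isomorphism is asserted; in the source it is the canonical one expressing that Ext^n_A(−, G), left
exact on such F, is represented by H^n_J(G).) -/
theorem result (A : Type u) [CommRing A] [IsNoetherianRing A] (J : Ideal A) (G : Type u) [AddCommGroup G] [Module A G] (n : ℕ) (hvan : ∀ (F' : Type u) [AddCommGroup F'] [Module A F'], Module.Finite A F' → Module.support A F' ⊆ PrimeSpectrum.zeroLocus (J : Set A) → ∀ i : ℕ, i + 1 = n → Subsingleton (((Ext A (ModuleCat.{u} A) i).obj (op (ModuleCat.of A F'))).obj (ModuleCat.of A G))) (F : Type u) [AddCommGroup F] [Module A F] [Module.Finite A F] (hF : Module.support A F ⊆ PrimeSpectrum.zeroLocus (J : Set A)) : Nonempty ((((Ext A (ModuleCat.{u} A) n).obj (op (ModuleCat.of A F))).obj (ModuleCat.of A G)) ≃ₗ[A] (F →ₗ[A] LocCoh.H J n G)) := by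
  have hF' := hF
  rw [Module.support_eq_zeroLocus, PrimeSpectrum.zeroLocus_subset_zeroLocus_iff] at hF'
  obtain ⟨r, hr⟩ := Ideal.exists_pow_le_of_le_radical_of_fg hF' (IsNoetherian.noetherian J)
  have hv : ∀ F' : ModuleCat.{u} A, Module.Finite A F' →
      Module.support A F' ⊆ PrimeSpectrum.zeroLocus (J : Set A) → ∀ i : ℕ, i + 1 = n →
        Subsingleton (CategoryTheory.Abelian.Ext F' (ModuleCat.of A G) i) := fun F' h1 h2 i hi =>
    haveI := hvan F' h1 h2 i hi
    (extEquiv i F' (ModuleCat.of A G)).symm.toEquiv.subsingleton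
  let e := LinearEquiv.ofBijective (Φ (ModuleCat.of A G) n (F := ModuleCat.of A F) hr)
    ⟨(injective_iff_map_eq_zero _).2 fun x hx => Φ_injective (ModuleCat.of A G) n hv hr x hx,
      fun φ => Φ_surjective (ModuleCat.of A G) n hv hr φ⟩
  exact ⟨(extEquiv n (ModuleCat.of A F) (ModuleCat.of A G)).trans e⟩

end Groth.Agent.S5174
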