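import Groth.Statements.S5175
import Groth.Agent.MatlisLib.Coext
import Groth.Agent.S0301
import Mathlib.LinearAlgebra.Dual.Lemmas
import Mathlib.RingTheory.SimpleModule.InjectiveProjective

set_option autoImplicit false
universe u
open Matlis

namespace Groth.Agent.S5175

/-- Let k₀ be a field and A a Noetherian local k₀-algebra with [k : k₀] finite, k the residue field.
Then the topological dual A' = colim_n Hom_{k₀}(A/m^n, k₀), i.e. the submodule of Hom_{k₀}(A, k₀) of
forms killing some power of m (A acting through the source), is an injective hull of k (it is the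
dualizing module of A). -/
theorem result (k₀ : Type u) [Field k₀] (A : Type u) [CommRing A] [IsLocalRing A] [IsNoetherianRing A] [Algebra k₀ A] [Module.Finite k₀ (A ⧸ IsLocalRing.maximalIdeal A)] : ∃ f : IsLocalRing.ResidueField A →ₗ[A] ↥(⨆ n : ℕ, Submodule.torsionBySet A ((ModuleCat.coextendScalars (algebraMap k₀ A)).obj (ModuleCat.of k₀ k₀)) ((IsLocalRing.maximalIdeal A ^ n : Ideal A) : Set A)), InjHull.IsInjectiveHull f := by
  let m := IsLocalRing.maximalIdeal A
  let C := MatlisLib.Co k₀ A k₀
  have hk₀ : Module.Injective k₀ k₀ := Module.injective_of_isSemisimpleRing k₀ k₀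
  have hT : Module.Injective A ↥(⨆ n : ℕ, Submodule.torsionBySet A C ((m ^ n : Ideal A) : Set A)) :=
    S0301.result A C (MatlisLib.co_injective hk₀) m
  have hdir : Directed (· ≤ ·) fun k : ℕ =>
      Submodule.torsionBySet A C ((m ^ k : Ideal A) : Set A) :=
    Monotone.directed_le fun a b hab =>
      Submodule.torsionBySet_le_torsionBySet_of_subset (Ideal.pow_le_pow_right hab)
  haveI : Nontrivial (A ⧸ m) := Ideal.Quotient.nontrivial_iff.2 (Ideal.IsMaximal.ne_top inferInstance)
  have hrank : Module.finrank k₀ ((A ⧸ m) →ₗ[k₀] k₀) = Module.finrank k₀ (A ⧸ m) :=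
    Subspace.dual_finrank_eq
  obtain ⟨g, hg, hrange⟩ := MatlisLib.exists_socle_map (A := k₀) (E := k₀) m
    (by rw [Module.length_eq_finrank]; exact ENat.natCast_ne_top _)
    (by rw [Module.length_eq_finrank, Module.length_eq_finrank, hrank])
    (by
      haveI : Nontrivial ((A ⧸ m) →ₗ[k₀] k₀) :=
        Module.nontrivial_of_finrank_pos (R := k₀) (by rw [hrank]; exact Module.finrank_pos)
      exact exists_ne 0)
  refine MatlisLib.exists_hull_submodule m _ hT (fun u => ?_)
    (fun t ht => Submodule.mem_iSup_of_mem 1 ((Submodule.mem_torsionBySet_iff _ _).2 fun a =>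
      ht a (Ideal.pow_le_self one_ne_zero a.2))) g hg hrange
  obtain ⟨n, hn⟩ := (Submodule.mem_iSup_of_directed _ hdir).1 u.2
  exact ⟨n, fun a ha => Subtype.ext ((Submodule.mem_torsionBySet_iff _ _).1 hn ⟨a, ha⟩)⟩

end Groth.Agent.S5175
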