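import Groth.Statements.S5176
import Groth.Agent.EtSite.SuppPull
import Groth.Agent.TriH.RDer
import Groth.Agent.EtSite.SuppLex

set_option autoImplicit false
universe u
open CategoryTheory CategoryTheory.Limits AlgebraicGeometry Opposite
open EtDepth

namespace Groth.Agent.S5176

open Groth.Agent.EtSite.SuppPull in
/-- Vanishing below `n` passes to a smaller closed support. -/
theorem vanish {X U V : Scheme.{u}} (j : U ⟶ X) (k : V ⟶ X) (j₀ : U ⟶ V) (hj : j₀ ≫ k = j) :
    ∀ (n : ℕ) (F : EtCoh.Ab X), EtDepth.DepthGE j F n → EtDepth.DepthGE k F n := by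
  intro n
  have hle : ∀ F : EtCoh.Ab X, kernel.ι (EtDual.unitApp k F) ≫ EtDual.unitApp j F = 0 := fun F => by
    apply map_comp_unit
    let nat := (EtCore.pullComp j₀ k).symm ≪≫ EtCore.pullCongr hj
    have h := nat.hom.naturality (kernel.ι (EtDual.unitApp k F))
    simp only [Functor.comp_map] at h
    rw [pull_map_eq_zero k _ (kernel.condition _), Functor.map_zero, zero_comp] at h
    exact (cancel_epi (nat.hom.app _)).1 (h.symm.trans comp_zero.symm)
  have hsub : ∀ F : EtCoh.Ab X, IsZero (kernel (EtDual.unitApp j F)) →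
      IsZero (kernel (EtDual.unitApp k F)) := fun F h => by
    have : kernel.ι (EtDual.unitApp k F) = 0 := by
      rw [← kernel.lift_ι (EtDual.unitApp j F) _ (hle F), h.eq_of_tgt (kernel.lift _ _ (hle F)) 0,
        zero_comp]
    exact (IsZero.iff_id_eq_zero _).2 ((cancel_mono (kernel.ι (EtDual.unitApp k F))).1
      (by rw [Category.id_comp, zero_comp, this]))
  induction n with
  | zero => exact fun F _ p hp => absurd hp (Nat.not_lt_zero p)
  | succ n ih =>
    intro F h
    have h0 : IsZero (kernel (EtDual.unitApp j F)) :=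
      (h 0 n.succ_pos).of_iso ((EtDual.secSupp j).rightDerivedZeroIsoSelf.app F).symm
    rintro (_ | p) hp
    · exact (hsub F h0).of_iso ((EtDual.secSupp k).rightDerivedZeroIsoSelf.app F)
    let J : EtCoh.Ab U := Injective.under ((EtCoh.pull j).obj F)
    let I : EtCoh.Ab X := (EtCoh.push j).obj J
    have : Injective I := (EtCoh.pullPushAdj j).map_injective J inferInstance
    have hI : IsZero (kernel (EtDual.unitApp j I)) := by
      have : IsSplitMono (EtDual.unitApp j I) := IsSplitMono.mk' ⟨(EtCoh.push j).map
        ((EtCoh.pullPushAdj j).counit.app J), (EtCoh.pullPushAdj j).right_triangle_components J⟩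
      exact (isZero_zero _).of_iso (kernel.ofMono _)
    have hη : Mono (EtDual.unitApp j F) := Preadditive.mono_of_kernel_zero (h0.eq_of_src _ _)
    let f : F ⟶ I := EtDual.unitApp j F ≫ (EtCoh.push j).map (Injective.ι _)
    have : Mono ((EtCoh.push j).map (Injective.ι ((EtCoh.pull j).obj F))) := by
      have : PreservesLimitsOfSize.{0, 0} (EtCoh.push j) :=
        (EtCoh.pullPushAdj j).rightAdjoint_preservesLimits
      infer_instance
    have : Mono f := mono_comp _ _
    let S := ShortComplex.mk f (cokernel.π f) (cokernel.condition f)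
    have hS : S.ShortExact :=
      { exact := ShortComplex.exact_of_g_is_cokernel S (cokernelIsCokernel f) }
    have hIz : ∀ (W : Scheme.{u}) (l : W ⟶ X), IsZero (kernel (EtDual.unitApp l I)) →
        ∀ q, IsZero (((EtDual.secSupp l).rightDerived q).obj I) := fun W l hl => by
      rintro (_ | q)
      · exact hl.of_iso ((EtDual.secSupp l).rightDerivedZeroIsoSelf.app I)
      · exact (EtDual.secSupp l).isZero_rightDerived_obj_injective_succ q I
    have hQ : EtDepth.DepthGE j (cokernel f) n := fun q hq =>
      ((Groth.Agent.TriH.RDer.derivedLES (EtDual.secSupp j)).exact₃ S hS q (q + 1) rfl).isZero_X₂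
        ((hIz U j hI q).eq_of_src _ _) ((h (q + 1) (by omega)).eq_of_tgt _ _)
    exact ((Groth.Agent.TriH.RDer.derivedLES (EtDual.secSupp k)).exact₁ S hS p (p + 1) rfl).isZero_X₂
      (((ih _ hQ) p (by omega)).eq_of_src _ _) ((hIz V k (hsub I hI) (p + 1)).eq_of_tgt _ _)

/-- For an abelian sheaf. Let X be a scheme, j : U → X and k : V → X open immersions with U ⊆ V, so that
the closed complement Z of V is contained in the closed complement Y of U, F an abelian sheaf on the
small étale site of X and n ≥ 0. If the Y-étale depth of F is ≥ n (the local cohomology sheaves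
H^p_Y(F) vanish for p < n), then the Z-étale depth of F is ≥ n. -/
theorem result {X U V : Scheme.{u}} (j : U ⟶ X) [IsOpenImmersion j] [EtCoh.BCCont j] (k : V ⟶ X) [IsOpenImmersion k] [EtCoh.BCCont k] (hUV : Set.range j.base ⊆ Set.range k.base) (F : EtCoh.Ab X) (n : ℕ) (h : EtDepth.DepthGE j F n) : EtDepth.DepthGE k F n := by
  exact vanish j k (IsOpenImmersion.lift k j hUV) (IsOpenImmersion.lift_fac k j hUV) n F h

end Groth.Agent.S5176
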