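import Groth.Statements.S5201
import Groth.Agent.EtSite.SuppPull
import Groth.Agent.EtSite.ConstSheafIso
import Groth.Agent.EtMV.EtaleRestr
import Groth.Agent.TriH.RDer
import Mathlib.GroupTheory.Perm.Cycle.Type
import Mathlib.GroupTheory.SpecificGroups.Cyclic

set_option autoImplicit false
universe u
open CategoryTheory CategoryTheory.Limits AlgebraicGeometry Opposite
open EtDepth

namespace Groth.Agent.S5201

open Groth.Agent.EtSite in
/-- Depth is inherited by constant sheaves with finite `ℓ`-primary value. -/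
theorem depth_const {V U' : Scheme.{u}} (j' : U' ⟶ V) (ℓ : ℕ) (hℓ : ℓ.Prime) (n : ℕ)
    (h : ∀ p, p < n → IsZero ((EtDual.locCoh j' p).obj (EtCoh.const V (ZMod ℓ)))) :
    ∀ (c : ℕ) (A : Type (u + 1)) [AddCommGroup A] [Finite A], Nat.card A = c →
      (∀ a : A, ∃ k : ℕ, ℓ ^ k • a = 0) → ∀ p, p < n →
      IsZero ((EtDual.locCoh j' p).obj
        ((constantSheaf V.smallEtaleTopology AddCommGrpCat.{u + 1}).obj (AddCommGrpCat.of A))) := by
  intro c
  induction c using Nat.strong_induction_on with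
  | _ c ih =>
    intro A _ _ hc hA p hp
    let K := constantSheaf V.smallEtaleTopology AddCommGrpCat.{u + 1}
    have hKl : PreservesFiniteLimits K := by
      dsimp [K, constantSheaf]; infer_instance
    have hKr : PreservesFiniteColimits K := by
      have : PreservesColimitsOfSize.{0, 0} K := (EtCore.constAdj V).leftAdjoint_preservesColimits
      exact PreservesColimitsOfSize.preservesFiniteColimits _
    rcases subsingleton_or_nontrivial A with hs | hn
    · exact ((EtDual.secSupp j').rightDerived p).map_isZero (K.map_isZero (AddCommGrpCat.isZero_of_subsingleton _))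
    obtain ⟨q, hq, hqd⟩ := Nat.exists_prime_and_dvd (Finite.one_lt_card (α := A)).ne'
    have : Fact q.Prime := ⟨hq⟩
    obtain ⟨x, hx⟩ := exists_prime_addOrderOf_dvd_card' (G := A) q hqd
    obtain ⟨k, hk⟩ := hA x
    obtain rfl : q = ℓ := by
      have hd : q ∣ ℓ ^ k := hx ▸ addOrderOf_dvd_of_nsmul_eq_zero hk
      exact (Nat.prime_dvd_prime_iff_eq hq hℓ).1 (hq.dvd_of_dvd_pow hd)
    let H := AddSubgroup.zmultiples x
    have hH : Nat.card H = q := (Nat.card_zmultiples x).trans hx
    let e₀ : ZMod q ≃+ H := hH ▸ zmodAddCyclicAddEquiv (inferInstance : IsAddCyclic H)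
    let e : ULift.{u + 1} (ZMod q) ≃+ H := AddEquiv.ulift.trans e₀
    let S : ShortComplex AddCommGrpCat.{u + 1} :=
      ShortComplex.mk (AddCommGrpCat.ofHom H.subtype) (AddCommGrpCat.ofHom (QuotientAddGroup.mk' H))
        (by ext a; exact (QuotientAddGroup.eq_zero_iff (a : A)).2 a.2)
    have hS : S.ShortExact :=
      { exact := (ShortComplex.ab_exact_iff S).2 fun a ha =>
          ⟨⟨a, (QuotientAddGroup.eq_zero_iff a).1 ha⟩, rfl⟩
        mono_f := (AddCommGrpCat.mono_iff_injective _).2 Subtype.coe_injective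
        epi_g := (AddCommGrpCat.epi_iff_surjective _).2 (QuotientAddGroup.mk'_surjective H) }
    have := preservesBinaryBiproducts_of_preservesBinaryProducts K
    have := Functor.additive_of_preservesBinaryBiproducts K
    have hSK := hS.map_of_exact K
    refine ((Groth.Agent.TriH.RDer.derivedLES (EtDual.secSupp j')).exact₂ (S.map K) hSK p).isZero_X₂
      ((?_ : IsZero _).eq_of_src _ _) ((?_ : IsZero _).eq_of_tgt _ _)
    · exact (h p hp).of_iso ((EtDual.locCoh j' p).mapIso (K.mapIso e.toAddCommGrpIso)).symm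
    · refine ih (Nat.card (A ⧸ H)) ?_ (A ⧸ H) rfl (fun b => ?_) p hp
      · rw [← hc, AddSubgroup.card_eq_card_quotient_mul_card_addSubgroup H, hH]
        exact lt_mul_of_one_lt_right Nat.card_pos hq.one_lt
      · obtain ⟨a, rfl⟩ := QuotientAddGroup.mk'_surjective H b
        obtain ⟨k, hk⟩ := hA a
        exact ⟨k, by rw [← map_nsmul, hk, map_zero]⟩

/-- For a finite locally constant sheaf and a single prime ℓ. Let X be a scheme, j : U → X a
quasi-compact open immersion (U retrocompact in X) with closed complement Y, ℓ a prime and n ≥ 0,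
and suppose the Y-étale depth of X for ℓ is ≥ n, i.e. the local cohomology sheaves H^p_Y(Z/ℓ) vanish
for p < n. Then for every finite locally constant abelian sheaf F on the small étale site of X which
is ℓ-torsion (every section étale-locally killed by a power of ℓ), the Y-étale depth of F is ≥ n. -/
theorem result {X U : Scheme.{u}} (j : U ⟶ X) [IsOpenImmersion j] [QuasiCompact j] [EtCoh.BCCont j] (ℓ : ℕ) (hℓ : ℓ.Prime) (n : ℕ) (hX : EtDepth.DepthGE j (EtCoh.const X (ZMod ℓ)) n) (F : EtCoh.Ab X) (hFlc : EtCoh.IsFiniteLocallyConstant F) (hFt : EtDepth.IsLTorsion ℓ F) : EtDepth.DepthGE j F n := by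
  intro p hp
  refine Groth.Agent.EtSite.isZero_of_stalks _ fun Ω _ _ ξ => ?_
  obtain ⟨U₀, t, M, hM, hMfin, φ, hφ⟩ := Groth.Agent.EtSite.FLCBasic.localData_of_isFLC hFlc Ω ξ
  let g := U₀.hom
  have : Etale g := U₀.prop
  have hinj := Groth.Agent.EtMV.pull_preservesInjectiveObjects g
  let j' := pullback.snd j g
  have sq := IsPullback.of_hasPullback j g
  have hV : ∀ q, q < n → IsZero ((EtDual.locCoh j' q).obj (EtCoh.const U₀.left (ZMod ℓ))) :=
    fun q hq => IsZero.of_iso
      (Groth.Agent.EtSite.SuppPull.isZero_locCoh_pull j g j' (pullback.fst j g) sq _ q (hX q hq) hinj)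
      ((EtDual.locCoh j' q).mapIso (EtCore.pullConst g (ZMod ℓ)).symm)
  have hpow : ∀ a : M, ∃ k : ℕ, ℓ ^ k • a = 0 := fun a => by
    obtain ⟨V, c, ⟨v, hv⟩, k, hk⟩ := hFt U₀ (φ a) (t.left (default : Spec (CommRingCat.of Ω)))
    refine ⟨k, ((hφ.map c) _ _ (Groth.Agent.EtSite.tautPt V v)).1 ?_⟩
    refine congrArg _ ?_
    change F.obj.map c.op (φ (ℓ ^ k • a)) = F.obj.map c.op (φ 0)
    rw [map_nsmul, map_nsmul, hk, map_zero, map_zero]
  let dg : EtCoh.top U₀.left ⟶ (EtCoh.bc g).obj U₀ :=
    MorphismProperty.Over.homMk (pullback.lift (𝟙 _) (𝟙 _) rfl) (pullback.lift_snd _ _ _) trivial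
  obtain ⟨e⟩ := Groth.Agent.EtSite.ConstSheafIso.nonempty_iso
    ((Groth.Agent.EtSite.FLCBasic.germBij_pull g hφ).map dg)
  have hz : IsZero ((EtDual.locCoh j' p).obj ((EtCoh.pull g).obj F)) :=
    (depth_const j' ℓ hℓ n hV _ M rfl hpow p hp).of_iso ((EtDual.locCoh j' p).mapIso e)
  have h2 := Groth.Agent.EtSite.SuppPull.isZero_pull_locCoh j g j' (pullback.fst j g) sq F p hz hinj
  have ht : t.left ≫ g = ξ := Over.w t
  rw [← ht]
  exact IsZero.of_iso ((EtCoh.stalk t.left).map_isZero h2)
    ((Groth.Agent.EtSite.stalkPullIso g t.left).app _)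

end Groth.Agent.S5201
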