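import Groth.Statements.S5204
import Mathlib
-- import your own Groth.Agent.* helpers here

set_option autoImplicit false
open CategoryTheory CategoryTheory.Limits
universe w v₁ u₁
open DescCat

namespace Groth.Agent.S5204

/-- In a category with pullbacks: if `u` and `v` are effective epimorphisms and `v` is a universal
epimorphism (all its base changes are epimorphisms), then the composite `v ≫ u` is an effective
epimorphism. -/
theorem result {C : Type u₁} [Category.{v₁} C] [HasPullbacks C]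
    {U T S : C} (v : U ⟶ T) (u : T ⟶ S) [EffectiveEpi u] [EffectiveEpi v]
    (hv : MorphismProperty.universally (MorphismProperty.epimorphisms C) v) :
    EffectiveEpi (v ≫ u) := by
  have hv' : ∀ {W : C} (e : U ⟶ W),
      (∀ {Z : C} (g₁ g₂ : Z ⟶ U), g₁ ≫ v ≫ u = g₂ ≫ v ≫ u → g₁ ≫ e = g₂ ≫ e) →
      ∀ {Z : C} (g₁ g₂ : Z ⟶ U), g₁ ≫ v = g₂ ≫ v → g₁ ≫ e = g₂ ≫ e := fun e h Z g₁ g₂ he =>
    h g₁ g₂ ((Category.assoc _ _ _).symm.trans ((congrArg (· ≫ u) he).trans (Category.assoc _ _ _)))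
  have hu' : ∀ {W : C} (e : U ⟶ W)
      (h : ∀ {Z : C} (g₁ g₂ : Z ⟶ U), g₁ ≫ v ≫ u = g₂ ≫ v ≫ u → g₁ ≫ e = g₂ ≫ e)
      {Z : C} (g₁ g₂ : Z ⟶ T), g₁ ≫ u = g₂ ≫ u →
        g₁ ≫ EffectiveEpi.desc v e (hv' e h) = g₂ ≫ EffectiveEpi.desc v e (hv' e h) := by
    intro W e h Z g₁ g₂ he
    let p₁ := pullback.fst g₁ v
    let p₂ := pullback.fst (p₁ ≫ g₂) v
    have : Epi p₁ := hv _ _ _ (IsPullback.of_hasPullback g₁ v)
    have : Epi p₂ := hv _ _ _ (IsPullback.of_hasPullback (p₁ ≫ g₂) v)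
    have e1 : p₁ ≫ g₁ = pullback.snd g₁ v ≫ v := pullback.condition
    have e2 : p₂ ≫ p₁ ≫ g₂ = pullback.snd (p₁ ≫ g₂) v ≫ v := pullback.condition
    rw [← cancel_epi p₁, ← cancel_epi p₂, ← Category.assoc p₁ g₁, e1, Category.assoc, EffectiveEpi.fac,
      ← Category.assoc p₁ g₂, ← Category.assoc p₂ (p₁ ≫ g₂), e2, Category.assoc, EffectiveEpi.fac, ← Category.assoc]
    refine h _ _ ?_
    rw [Category.assoc, ← Category.assoc (pullback.snd g₁ v), ← e1, ← Category.assoc (pullback.snd (p₁ ≫ g₂) v), ← e2]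
    simp only [Category.assoc, he]
  refine ⟨⟨{ desc := fun e h => EffectiveEpi.desc u _ (hu' e h), fac := fun e h => ?_, uniq := fun e h m hm => ?_ }⟩⟩
  · rw [Category.assoc, EffectiveEpi.fac, EffectiveEpi.fac]
  · refine EffectiveEpi.uniq u _ (hu' e h) m (EffectiveEpi.uniq v e (hv' e h) (u ≫ m) ?_)
    rw [← Category.assoc]; exact hm

end Groth.Agent.S5204
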