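import Mathlib
import Groth.Statements.S5205
-- import your own Groth.Agent.* helpers here

set_option autoImplicit false
open CategoryTheory CategoryTheory.Limits
universe w v₁ u₁
open DescCat

namespace Groth.Agent.S5205

/-- First assertion: in a category with pullbacks: universal effective epimorphisms (morphisms all of
whose base changes are effective epimorphisms) are stable under composition. -/
theorem result {C : Type u₁} [Category.{v₁} C] [HasPullbacks C]
    {U T S : C} (v : U ⟶ T) (u : T ⟶ S)
    (hu : (MorphismProperty.universally (fun (A B : C) (p : A ⟶ B) => EffectiveEpi p)) u) (hv : (MorphismProperty.universally (fun (A B : C) (p : A ⟶ B) => EffectiveEpi p)) v) :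
    (MorphismProperty.universally (fun (A B : C) (p : A ⟶ B) => EffectiveEpi p)) (v ≫ u) := by
  intro X' Y' i₁ i₂ f' H
  let u' : pullback u i₂ ⟶ Y' := pullback.snd u i₂
  have hp : IsPullback (pullback.fst u i₂) u' u i₂ := IsPullback.of_hasPullback u i₂
  let v' : X' ⟶ pullback u i₂ := hp.lift (i₁ ≫ v) f' (by simpa using H.w.symm)
  have hv1 : v' ≫ pullback.fst u i₂ = i₁ ≫ v := hp.lift_fst _ _ _
  have hv2 : v' ≫ u' = f' := hp.lift_snd _ _ _
  have sq : IsPullback i₁ v' v (pullback.fst u i₂) := by
    refine IsPullback.of_bot ?_ hv1.symm hp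
    rw [hv2]; exact H.flip
  let P : MorphismProperty C := fun _ _ p => EffectiveEpi p
  have hv' : P.universally v' := MorphismProperty.of_isPullback sq hv
  haveI : EffectiveEpi u' := hu _ _ _ hp.flip
  haveI : EffectiveEpi v' := MorphismProperty.universally_le _ _ hv'
  have epi : ∀ {Z : C} (a : Z ⟶ pullback u i₂), Epi (pullback.fst a v') := fun {Z} a => by
    haveI : EffectiveEpi (pullback.fst a v') := hv' _ _ _ (IsPullback.of_hasPullback a v')
    infer_instance
  rw [← hv2]
  constructor
  have hco : ∀ {W : C} (e : X' ⟶ W) (he : ∀ {Z : C} (g₁ g₂ : Z ⟶ X'), g₁ ≫ v' ≫ u' = g₂ ≫ v' ≫ u' → g₁ ≫ e = g₂ ≫ e)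
      {Z : C} (a b : Z ⟶ pullback u i₂), a ≫ u' = b ≫ u' →
      a ≫ EffectiveEpi.desc v' e (fun g₁ g₂ hg => he g₁ g₂ (by rw [← Category.assoc, hg, Category.assoc])) =
        b ≫ EffectiveEpi.desc v' e (fun g₁ g₂ hg => he g₁ g₂ (by rw [← Category.assoc, hg, Category.assoc])) := by
    intro W e he Z a b hab
    haveI := epi a
    haveI := epi (pullback.fst a v' ≫ b)
    rw [← cancel_epi (pullback.fst a v'), ← cancel_epi (pullback.fst (pullback.fst a v' ≫ b) v')]
    have c1 := pullback.condition (f := a) (g := v')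
    have c2 := pullback.condition (f := pullback.fst a v' ≫ b) (g := v')
    rw [reassoc_of% c1, reassoc_of% c2, EffectiveEpi.fac, ← Category.assoc]
    refine he _ _ ?_
    rw [Category.assoc, ← reassoc_of% c1, hab, ← reassoc_of% c2]
  refine ⟨{ desc := fun {W} e he => EffectiveEpi.desc u' (EffectiveEpi.desc v' e fun g₁ g₂ hg => he g₁ g₂ (by rw [← Category.assoc, hg, Category.assoc])) (hco e he),
            fac := fun e he => by rw [Category.assoc, EffectiveEpi.fac, EffectiveEpi.fac],
            uniq := fun e he m hm =>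
              EffectiveEpi.uniq u' _ _ m (EffectiveEpi.uniq v' e _ (u' ≫ m) (by rw [← Category.assoc]; exact hm)) }⟩

end Groth.Agent.S5205
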