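import Groth.Statements.S5206
import Mathlib
-- import your own Groth.Agent.* helpers here

set_option autoImplicit false
open CategoryTheory CategoryTheory.Limits
universe w v₁ u₁
open DescCat

namespace Groth.Agent.S5206

/-- Second assertion: in a category with pullbacks: if `v ≫ u` is a universal effective epimorphism (all
base changes are effective epimorphisms), then so is `u`; nothing is assumed about `v`. -/
theorem result {C : Type u₁} [Category.{v₁} C] [HasPullbacks C]
    {U T S : C} (v : U ⟶ T) (u : T ⟶ S)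
    (h : (MorphismProperty.universally (fun (A B : C) (p : A ⟶ B) => EffectiveEpi p)) (v ≫ u)) :
    (MorphismProperty.universally (fun (A B : C) (p : A ⟶ B) => EffectiveEpi p)) u := by
  have L : ∀ {A B D : C} (v : A ⟶ B) (u : B ⟶ D),
      MorphismProperty.universally (fun (A B : C) (p : A ⟶ B) => EffectiveEpi p) (v ≫ u) → EffectiveEpi u := by
    intro A B D v u hvu
    have : EffectiveEpi (v ≫ u) := MorphismProperty.universally_le _ _ hvu
    have : EffectiveEpi (pullback.fst u (v ≫ u)) := hvu _ _ _ (IsPullback.of_hasPullback u (v ≫ u))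
    have hd : ∀ {W : C} (e : B ⟶ W), (∀ {Z : C} (g₁ g₂ : Z ⟶ B), g₁ ≫ u = g₂ ≫ u → g₁ ≫ e = g₂ ≫ e) →
        ∀ {Z : C} (g₁ g₂ : Z ⟶ A), g₁ ≫ v ≫ u = g₂ ≫ v ≫ u → g₁ ≫ v ≫ e = g₂ ≫ v ≫ e := fun e h Z g₁ g₂ he => by
      simpa using h (g₁ ≫ v) (g₂ ≫ v) (by simpa using he)
    refine ⟨⟨{ desc := fun e h => EffectiveEpi.desc (v ≫ u) (v ≫ e) (hd e h), fac := fun e h => ?_, uniq := fun e h m hm => ?_ }⟩⟩
    · rw [← cancel_epi (pullback.fst u (v ≫ u)), ← Category.assoc, pullback.condition, Category.assoc,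
        EffectiveEpi.fac, ← Category.assoc]
      exact (h _ _ (by rw [Category.assoc]; exact pullback.condition)).symm
    · exact EffectiveEpi.uniq (v ≫ u) _ (hd e h) m (by rw [Category.assoc, hm])
  intro X' Y' i₁ i₂ u' sq
  refine L (pullback.snd v i₁) u' ?_
  have big : IsPullback (pullback.snd v i₁ ≫ u') (pullback.fst v i₁) i₂ (v ≫ u) :=
    (IsPullback.of_hasPullback v i₁).flip.paste_horiz sq
  intro X'' Y'' j₁ j₂ w sq3
  exact h _ _ _ (sq3.paste_vert big)

end Groth.Agent.S5206
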