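import Groth.Statements.S5209
-- import your own Groth.Agent.* helpers here

set_option autoImplicit false
open CategoryTheory CategoryTheory.Limits
universe w v₁ u₁
open DescCat

namespace Groth.Agent.S5209

section Aux
variable {C : Type u₁} [Category.{v₁} C] [HasPullbacks C] {S' S : C} (f : S' ⟶ S)

theorem map_fst {X Y : Over S} (g : X ⟶ Y) :
    ((Over.pullback f).map g).left ≫ pullback.fst Y.hom f = pullback.fst X.hom f ≫ g.left :=
  pullback.lift_fst _ _ _

theorem mono_of_mono_map
    (hf : (MorphismProperty.universally (fun (A B : C) (p : A ⟶ B) => EffectiveEpi p)) f)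
    {X Y : Over S} (g : X ⟶ Y) [Mono ((Over.pullback f).map g)] : Mono g := by
  suffices Mono g.left from Over.mono_of_mono_left g
  haveI : Mono ((Over.pullback f).map g).left := Over.mono_left_of_mono _
  refine ⟨fun {Z} a b hab => ?_⟩
  haveI : EffectiveEpi (pullback.fst (a ≫ X.hom) f) := hf _ _ _ (IsPullback.of_hasPullback (a ≫ X.hom) f)
  have hb : b ≫ X.hom = a ≫ X.hom := by
    rw [← Over.w g, reassoc_of% hab]
  let a' : pullback (a ≫ X.hom) f ⟶ pullback X.hom f :=
    pullback.lift (pullback.fst _ _ ≫ a) (pullback.snd _ _) (by rw [Category.assoc]; exact pullback.condition)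
  let b' : pullback (a ≫ X.hom) f ⟶ pullback X.hom f :=
    pullback.lift (pullback.fst _ _ ≫ b) (pullback.snd _ _) (by rw [Category.assoc, hb]; exact pullback.condition)
  have h : a' ≫ ((Over.pullback f).map g).left = b' ≫ ((Over.pullback f).map g).left := by
    refine pullback.hom_ext ?_ ?_
    · rw [Category.assoc, Category.assoc, map_fst, pullback.lift_fst_assoc, pullback.lift_fst_assoc,
        Category.assoc, Category.assoc, hab]
    · rw [Category.assoc, Category.assoc]
      erw [pullback.lift_snd, pullback.lift_snd, pullback.lift_snd]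
  have h' := congrArg (· ≫ pullback.fst X.hom f) ((cancel_mono _).1 h)
  dsimp only [a', b'] at h'
  rwa [pullback.lift_fst, pullback.lift_fst, cancel_epi] at h'

theorem isIso_of_isIso_map
    (hf : (MorphismProperty.universally (fun (A B : C) (p : A ⟶ B) => EffectiveEpi p)) f)
    {X Y : Over S} (g : X ⟶ Y) [IsIso ((Over.pullback f).map g)] : IsIso g := by
  haveI := mono_of_mono_map f hf g
  haveI : Mono g.left := Over.mono_left_of_mono _
  haveI : EffectiveEpi (pullback.fst Y.hom f) := hf _ _ _ (IsPullback.of_hasPullback Y.hom f)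
  let i := (inv ((Over.pullback f).map g)).left
  have hi : i ≫ pullback.fst X.hom f ≫ g.left = pullback.fst Y.hom f := by
    rw [← map_fst, ← Category.assoc, ← Over.comp_left, IsIso.inv_hom_id]
    exact Category.id_comp _
  have hk : ∀ {Z : C} (a b : Z ⟶ pullback Y.hom f), a ≫ pullback.fst Y.hom f = b ≫ pullback.fst Y.hom f →
      a ≫ i ≫ pullback.fst X.hom f = b ≫ i ≫ pullback.fst X.hom f := fun a b h => by
    rw [← cancel_mono g.left]
    simp only [Category.assoc, hi, h]
  let k : Y.left ⟶ X.left := EffectiveEpi.desc (pullback.fst Y.hom f) (i ≫ pullback.fst X.hom f) hk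
  have hk1 : k ≫ g.left = 𝟙 _ := by
    rw [← cancel_epi (pullback.fst Y.hom f), ← Category.assoc, EffectiveEpi.fac, Category.assoc, hi,
      Category.comp_id]
  haveI : IsIso g.left := ⟨k, by rw [← cancel_mono g.left, Category.assoc, hk1, Category.comp_id, Category.id_comp], hk1⟩
  haveI : IsIso ((Over.forget S).map g) := ‹IsIso g.left›
  exact isIso_of_reflects_iso g (Over.forget S)

end Aux

/-- In a category with pullbacks, let `f : S' ⟶ S` be a universal effective epimorphism, that is, a
morphism all of whose base changes are effective epimorphisms. Then a morphism `g` over `S` is an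
isomorphism (resp. a monomorphism) if and only if its base change along `f` is. -/
theorem result {C : Type u₁} [Category.{v₁} C] [HasPullbacks C]
    {S' S : C} (f : S' ⟶ S) (hf : (MorphismProperty.universally (fun (A B : C) (p : A ⟶ B) => EffectiveEpi p)) f) {X Y : Over S} (g : X ⟶ Y) :
    (IsIso g ↔ IsIso ((Over.pullback f).map g)) ∧ (Mono g ↔ Mono ((Over.pullback f).map g)) := by
  refine ⟨⟨fun _ => inferInstance, fun _ => isIso_of_isIso_map f hf g⟩, fun _ => ?_, fun _ => mono_of_mono_map f hf g⟩
  haveI : (Over.pullback f).IsRightAdjoint := ⟨_, ⟨Over.mapPullbackAdj f⟩⟩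
  infer_instance

end Groth.Agent.S5209
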