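import Groth.Statements.S5210
import Mathlib
-- import your own Groth.Agent.* helpers here

set_option autoImplicit false
open CategoryTheory CategoryTheory.Limits
universe w v₁ u₁
open DescCat

namespace Groth.Agent.S5210

/-- In a category with pullbacks, let `f : S' ⟶ S` be a universal effective epimorphism (all of its base
changes are effective epimorphisms) and `Y ⟶ S` a monomorphism. Then an object `X` over `S` admits a
morphism to `Y` over `S` if and only if it does so after base change along `f`. -/
theorem result {C : Type u₁} [Category.{v₁} C] [HasPullbacks C]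
    {S' S : C} (f : S' ⟶ S) (hf : (MorphismProperty.universally (fun (A B : C) (p : A ⟶ B) => EffectiveEpi p)) f) (X Y : Over S) [Mono Y.hom] :
    Nonempty (X ⟶ Y) ↔ Nonempty ((Over.pullback f).obj X ⟶ (Over.pullback f).obj Y) := by
  refine ⟨fun ⟨g⟩ => ⟨(Over.pullback f).map g⟩, fun ⟨m⟩ => ?_⟩
  have : EffectiveEpi (pullback.fst X.hom f) := hf _ _ _ (IsPullback.of_hasPullback X.hom f)
  let e : pullback X.hom f ⟶ Y.left := m.left ≫ pullback.fst Y.hom f
  have hw : m.left ≫ pullback.snd Y.hom f = pullback.snd X.hom f := Over.w m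
  have he : e ≫ Y.hom = pullback.fst X.hom f ≫ X.hom :=
    calc e ≫ Y.hom = m.left ≫ pullback.fst Y.hom f ≫ Y.hom := Category.assoc _ _ _
      _ = m.left ≫ pullback.snd Y.hom f ≫ f := congrArg (m.left ≫ ·) pullback.condition
      _ = (m.left ≫ pullback.snd Y.hom f) ≫ f := (Category.assoc _ _ _).symm
      _ = pullback.snd X.hom f ≫ f := congrArg (· ≫ f) hw
      _ = pullback.fst X.hom f ≫ X.hom := pullback.condition.symm
  have hk : ∀ {Z : C} (g₁ g₂ : Z ⟶ pullback X.hom f),
      g₁ ≫ pullback.fst X.hom f = g₂ ≫ pullback.fst X.hom f → g₁ ≫ e = g₂ ≫ e := fun g₁ g₂ hg => by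
    exact (cancel_mono Y.hom).1 ((Category.assoc _ _ _).trans ((congrArg (g₁ ≫ ·) he).trans
      (((reassoc_of% hg) X.hom).trans ((congrArg (g₂ ≫ ·) he.symm).trans (Category.assoc _ _ _).symm))))
  refine ⟨Over.homMk (EffectiveEpi.desc _ e hk) ?_⟩
  rw [← cancel_epi (pullback.fst X.hom f), ← Category.assoc, EffectiveEpi.fac, he]

end Groth.Agent.S5210
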