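import Mathlib
import Groth.Statements.S5211
-- import your own Groth.Agent.* helpers here

set_option autoImplicit false
open CategoryTheory CategoryTheory.Limits
universe w v₁ u₁
open DescCat

namespace Groth.Agent.S5211

open CategoryTheory

/-- In a category with pullbacks: if `f : S' ⟶ S` is a universal effective epimorphism and the canonical
map `S' ×_S S' ⟶ S' ×_T S'` induced by `g : S ⟶ T` is an isomorphism, then `g` is a monomorphism. -/
theorem result {C : Type u₁} [Category.{v₁} C] [HasPullbacks C]
    {S' S T : C} (f : S' ⟶ S) (hf : (MorphismProperty.universally (fun (A B : C) (p : A ⟶ B) => EffectiveEpi p)) f) (g : S ⟶ T)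
    [IsIso (pullback.mapDesc f f g)] : Mono g := by
  refine ⟨fun {P} a b hab => ?_⟩
  have e1 : EffectiveEpi (pullback.snd f a) := hf _ _ _ (IsPullback.of_hasPullback f a).flip
  have e2 : EffectiveEpi (pullback.snd f (pullback.snd f a ≫ b)) := hf _ _ _ (IsPullback.of_hasPullback f (pullback.snd f a ≫ b)).flip
  set p := pullback.snd f (pullback.snd f a ≫ b) ≫ pullback.snd f a with hp
  let x := pullback.snd f (pullback.snd f a ≫ b) ≫ pullback.fst f a
  let y := pullback.fst f (pullback.snd f a ≫ b)
  have hx : x ≫ f = p ≫ a := by simp [x, hp, pullback.condition]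
  have hy : y ≫ f = p ≫ b := by simp [y, hp, pullback.condition]
  let z := pullback.lift (f := f ≫ g) (g := f ≫ g) x y (by rw [reassoc_of% hx, reassoc_of% hy, hab])
  let w := z ≫ inv (pullback.mapDesc f f g)
  have hw : w ≫ pullback.mapDesc f f g = z := by simp [w]
  have hw1 : w ≫ pullback.fst f f = x := by
    have := congrArg (fun k => k ≫ pullback.fst (f ≫ g) (f ≫ g)) hw
    simp only [z, pullback.mapDesc, pullback.map, Category.assoc, pullback.lift_fst, Category.comp_id] at this
    exact this
  have hw2 : w ≫ pullback.snd f f = y := by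
    have := congrArg (fun k => k ≫ pullback.snd (f ≫ g) (f ≫ g)) hw
    simp only [z, pullback.mapDesc, pullback.map, Category.assoc, pullback.lift_snd, Category.comp_id] at this
    exact this
  have hpab : p ≫ a = p ≫ b := by
    calc p ≫ a = x ≫ f := hx.symm
      _ = (w ≫ pullback.fst f f) ≫ f := by rw [hw1]
      _ = (w ≫ pullback.snd f f) ≫ f := by simp [w, pullback.condition]
      _ = y ≫ f := by rw [hw2]
      _ = p ≫ b := hy
  rw [hp, Category.assoc, Category.assoc] at hpab
  exact (cancel_epi (pullback.snd f a)).1 ((cancel_epi (pullback.snd f (pullback.snd f a ≫ b))).1 hpab)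

end Groth.Agent.S5211
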