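import Groth.Statements.S5212
import Mathlib
-- import your own Groth.Agent.* helpers here

set_option autoImplicit false
universe u
open GrpQ

namespace Groth.Agent.S5212

open scoped TensorProduct

/-- For `A'` finite and free as an `A`-module, a prime `p` of `A` and `a ∈ A'`, the element `a` belongs
to some prime of `A'` lying over `p` if and only if its norm belongs to `p`. (The published
statement allows `A'` projective of constant rank over `A`; this row takes `A'` free, where the norm
is the determinant of multiplication.) -/
theorem result {A A' : Type u} [CommRing A] [CommRing A'] [Algebra A A']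
    [Module.Free A A'] [Module.Finite A A'] (p : Ideal A) [p.IsPrime] (a : A') :
    (∃ q : Ideal A', q.IsPrime ∧ q.LiesOver p ∧ a ∈ q) ↔ Algebra.norm A a ∈ p := by
  set k := p.ResidueField
  let F := p.Fiber A'
  let e : A' →ₐ[A] F := Algebra.TensorProduct.includeRight
  have hn : Algebra.norm k (e a) = algebraMap A k (Algebra.norm A a) := by
    rw [Algebra.norm_apply, Algebra.norm_apply, ← LinearMap.det_baseChange]
    congr 1
    ext x
    simp only [e, Algebra.TensorProduct.includeRight_apply]
    show ((1 : k) ⊗ₜ[A] a) * ((1 : k) ⊗ₜ[A] x) = (1 : k) ⊗ₜ[A] (a * x)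
    rw [Algebra.TensorProduct.tmul_mul_tmul, mul_one]
  have hunit : Algebra.norm k (e a) ≠ 0 ↔ IsUnit (e a) := by
    constructor
    · intro h
      rw [Algebra.norm_apply] at h
      have hu := (Module.End.isUnit_iff _).mp ((LinearMap.isUnit_iff_isUnit_det _).mpr (IsUnit.mk0 _ h))
      obtain ⟨y, hy⟩ := hu.2 1
      exact IsUnit.of_mul_eq_one y hy
    · exact fun h => (h.map (Algebra.norm k)).ne_zero
  have key : Algebra.norm A a ∈ p ↔ ¬ IsUnit (e a) := by
    rw [← Ideal.algebraMap_residueField_eq_zero, ← hn, ← hunit, not_not]
  rw [key]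
  constructor
  · rintro ⟨q, hq, hlies, haq⟩
    rw [← key]
    let P := (Algebra.lmul A A' a).charpoly
    have h0 : Polynomial.aeval a P = 0 := by
      apply Algebra.lmul_injective (R := A)
      rw [map_zero, ← Polynomial.aeval_algHom_apply]
      exact LinearMap.aeval_self_charpoly _
    have h1 : algebraMap A A' (P.coeff 0) ∈ q := by
      have e1 := congrArg (Polynomial.aeval a) P.X_mul_divX_add
      simp only [map_add, map_mul, Polynomial.aeval_X, Polynomial.aeval_C, h0] at e1
      rw [eq_neg_of_add_eq_zero_right e1]
      exact neg_mem (q.mul_mem_right _ haq)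
    have h2 : P.coeff 0 ∈ p := by rw [hlies.over]; exact h1
    rw [Algebra.norm_apply, LinearMap.det_eq_sign_charpoly_coeff]
    exact p.mul_mem_left _ h2
  · intro hu
    obtain ⟨m, hm, ham⟩ := exists_max_ideal_of_mem_nonunits (a := e a) hu
    refine ⟨m.comap e, inferInstance, ⟨?_⟩, ham⟩
    ext x
    rw [Ideal.mem_comap, Ideal.mem_comap]
    show x ∈ p ↔ e (algebraMap A A' x) ∈ m
    rw [e.commutes, IsScalarTower.algebraMap_apply A k F]
    constructor
    · intro hx
      rw [Ideal.algebraMap_residueField_eq_zero.mpr hx, map_zero]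
      exact m.zero_mem
    · intro hx
      by_contra hxp
      refine hm.ne_top (Ideal.eq_top_of_isUnit_mem _ hx (IsUnit.map _ (IsUnit.mk0 _ ?_)))
      exact fun h => hxp (Ideal.algebraMap_residueField_eq_zero.mp h)

end Groth.Agent.S5212
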