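import Groth.Statements.S5213
import Mathlib
-- import your own Groth.Agent.* helpers here

set_option autoImplicit false
universe u
open GrpQ

namespace Groth.Agent.S5213

/-- Let `B` be a local ring with infinite residue field, `A` a semi-local ring, `B → A` a ring map
carrying the maximal ideal of `B` into the Jacobson radical of `A`, `M` a finite free `A`-module and
`N` a `B`-submodule of `M` generating `M` as an `A`-module. Then `N` contains a basis of `M` over
`A`. -/
theorem result {B A M : Type u} [CommRing B] [CommRing A]
    [IsLocalRing B] [Infinite (IsLocalRing.ResidueField B)] [Algebra B A]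
    [Finite (MaximalSpectrum A)]
    (hBA : (IsLocalRing.maximalIdeal B).map (algebraMap B A) ≤ (⊥ : Ideal A).jacobson)
    [AddCommGroup M] [Module A M] [Module B M] [IsScalarTower B A M]
    [Module.Free A M] [Module.Finite A M]
    (N : Submodule B M) (hN : Submodule.span A (N : Set M) = ⊤) :
    ∃ b : Module.Basis (Fin (Module.finrank A M)) A M, ∀ i, b i ∈ N := by
  classical
  rcases subsingleton_or_nontrivial A with hA | hA
  · haveI : Subsingleton M := Module.subsingleton A M
    exact ⟨Module.Basis.ofRepr (LinearEquiv.ofSubsingleton M (Fin (Module.finrank A M) →₀ A)),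
      fun i => by convert N.zero_mem using 1⟩
  set r := Module.finrank A M
  let b0 := Module.finBasis A M
  let φ : ∀ m : MaximalSpectrum A, M →ₗ[A] (Fin r → A ⧸ m.asIdeal) := fun m =>
    (LinearMap.pi fun i => (Submodule.mkQ m.asIdeal) ∘ₗ LinearMap.proj i) ∘ₗ b0.equivFun.toLinearMap
  have hφ : ∀ m, Function.Surjective (φ m) := fun m y => by
    choose z hz using fun i => Submodule.mkQ_surjective m.asIdeal (y i)
    exact ⟨b0.equivFun.symm z, funext fun i => by
      show Submodule.mkQ _ (b0.equivFun (b0.equivFun.symm z) i) = _
      rw [LinearEquiv.apply_symm_apply, hz]⟩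
  suffices ∀ j, j ≤ r → ∃ v : Fin j → M, (∀ i, v i ∈ N) ∧
      ∀ m : MaximalSpectrum A, LinearIndependent (A ⧸ m.asIdeal) (fun i => φ m (v i)) by
    obtain ⟨v, hvN, hv⟩ := this r le_rfl
    have htop : Submodule.span A (Set.range v) = ⊤ := by
      by_contra hne
      have hann : (Submodule.span A (Set.range v)).colon (⊤ : Submodule A M) ≠ ⊤ := fun h => hne (by
        rw [eq_top_iff]
        intro x _
        have hone : (1 : A) ∈ (Submodule.span A (Set.range v)).colon (⊤ : Submodule A M) := by rw [h]; trivial
        have h1 := Submodule.mem_colon.1 hone x trivial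
        rwa [one_smul] at h1)
      obtain ⟨m, hm, hle⟩ := Ideal.exists_le_maximal _ hann
      letI := Ideal.Quotient.field m
      have hspan := (hv ⟨m, hm⟩).span_eq_top_of_card_eq_finrank' (by simp)
      have hM : (⊤ : Submodule A M) ≤ Submodule.span A (Set.range v) ⊔ m • (⊤ : Submodule A M) := by
        intro x _
        have hx : φ ⟨m, hm⟩ x ∈ Submodule.span (A ⧸ m) (Set.range fun i => φ ⟨m, hm⟩ (v i)) :=
          hspan ▸ Submodule.mem_top
        obtain ⟨c, hc⟩ := (Submodule.mem_span_range_iff_exists_fun (A ⧸ m)).1 hx
        choose z hz using fun i => Ideal.Quotient.mk_surjective (c i)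
        have hker : φ ⟨m, hm⟩ (x - ∑ i, z i • v i) = 0 := by
          rw [map_sub, map_sum, ← hc, sub_eq_zero]
          refine Finset.sum_congr rfl fun i _ => ?_
          rw [map_smul, ← hz i]; rfl
        rw [← add_sub_cancel (∑ i, z i • v i) x]
        refine Submodule.add_mem_sup (Submodule.sum_mem _ fun i _ =>
          Submodule.smul_mem _ _ (Submodule.subset_span ⟨i, rfl⟩)) ?_
        rw [← b0.sum_repr (x - ∑ i, z i • v i)]
        refine Submodule.sum_mem _ fun i _ => Submodule.smul_mem_smul ?_ trivial
        exact (Submodule.Quotient.mk_eq_zero _).1 (congrFun hker i)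
      have hQ : (⊤ : Submodule A (M ⧸ Submodule.span A (Set.range v))) ≤ m • ⊤ := by
        have h := Submodule.map_mono (f := (Submodule.span A (Set.range v)).mkQ) hM
        rw [Submodule.map_sup, Submodule.map_smul'', Submodule.map_top, Submodule.range_mkQ,
          Submodule.mkQ_map_self, bot_sup_eq] at h
        exact h
      obtain ⟨a, ha1, ha⟩ := Submodule.exists_sub_one_mem_and_smul_eq_zero_of_fg_of_le_smul m
        (⊤ : Submodule A (M ⧸ Submodule.span A (Set.range v))) Module.Finite.fg_top hQ
      have ham : a ∈ m := hle (Submodule.mem_colon.2 fun x _ =>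
        (Submodule.Quotient.mk_eq_zero _).1 (by rw [Submodule.Quotient.mk_smul]; exact ha _ trivial))
      refine hm.ne_top ((Ideal.eq_top_iff_one m).2 ?_)
      have := sub_mem ham ha1
      rwa [sub_sub_cancel] at this
    let Φ : (Fin r → A) →ₗ[A] M := Fintype.linearCombination A v
    have hs : Function.Surjective Φ := by
      rw [← LinearMap.range_eq_top, Fintype.range_linearCombination, htop]
    have hinj : Function.Injective Φ := by
      have := OrzechProperty.injective_of_surjective_endomorphism (b0.equivFun.toLinearMap ∘ₗ Φ)
        (b0.equivFun.surjective.comp hs)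
      exact fun a c h => this (by simp [h])
    refine ⟨Module.Basis.mk (v := v) ?_ htop.ge, fun i => by rw [Module.Basis.mk_apply]; exact hvN i⟩
    rw [Fintype.linearIndependent_iff]
    intro c hc i
    exact congrFun (hinj (by simpa [Φ, Fintype.linearCombination_apply] using hc : Φ c = Φ 0)) i
  intro j
  induction j with
  | zero => exact fun _ => ⟨Fin.elim0, fun i => i.elim0, fun m => linearIndependent_empty_type⟩
  | succ j ih =>
    intro hj
    obtain ⟨v, hvN, hv⟩ := ih (by omega)
    let W : MaximalSpectrum A → Submodule A M := fun m =>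
      ((Submodule.span (A ⧸ m.asIdeal) (Set.range fun i => φ m (v i))).restrictScalars A).comap (φ m)
    have hW : ∀ m, ∃ x ∈ N, x ∉ W m := by
      intro m
      by_contra! h
      letI := Ideal.Quotient.field m.asIdeal
      have htop : Submodule.span (A ⧸ m.asIdeal) (Set.range fun i => φ m (v i)) = ⊤ := by
        rw [eq_top_iff]
        intro y _
        obtain ⟨x, rfl⟩ := hφ m y
        exact (Submodule.span_le.2 h : Submodule.span A (N : Set M) ≤ W m) (hN ▸ Submodule.mem_top)
      have := finrank_span_eq_card (hv m)
      rw [htop, finrank_top, Module.finrank_fin_fun, Fintype.card_fin] at this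
      omega
    haveI := Fintype.ofFinite (MaximalSpectrum A)
    suffices ∀ s : Finset (MaximalSpectrum A), ∃ x ∈ N, ∀ m ∈ s, x ∉ W m by
      obtain ⟨x, hx, hxW⟩ := this Finset.univ
      refine ⟨Fin.snoc v x, fun i => ?_, fun m => ?_⟩
      · induction i using Fin.lastCases <;> simp [hx, hvN]
      · letI := Ideal.Quotient.field m.asIdeal
        have : (fun i => φ m ((Fin.snoc v x : Fin (j + 1) → M) i)) = Fin.snoc (fun i => φ m (v i)) (φ m x) := by
          funext i; induction i using Fin.lastCases <;> simp
        rw [this, linearIndependent_finSnoc]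
        exact ⟨hv m, hxW m (Finset.mem_univ _)⟩
    intro s
    induction s using Finset.induction_on with
    | empty => exact ⟨0, N.zero_mem, by simp⟩
    | insert m s hms ihs =>
      obtain ⟨x, hx, hxs⟩ := ihs
      by_cases hxm : x ∈ W m
      swap
      · exact ⟨x, hx, fun m' hm' => (Finset.mem_insert.1 hm').elim (fun h => h ▸ hxm) (hxs m')⟩
      obtain ⟨y, hy, hym⟩ := hW m
      obtain ⟨res, hres⟩ : ∃ res : B →+* IsLocalRing.ResidueField B, Function.Surjective res :=
        ⟨IsLocalRing.residue B, IsLocalRing.residue_surjective⟩
      choose lift hlift using IsLocalRing.residue_surjective (R := B)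
      have hbad : ∀ m' ∈ s, {t : IsLocalRing.ResidueField B | y + lift t • x ∈ W m'}.Subsingleton := by
        intro m' hm' t ht t' ht'
        by_contra hne
        have hu : IsUnit (lift t - lift t') := by
          rw [← IsLocalRing.residue_ne_zero_iff_isUnit, map_sub, hlift, hlift, sub_ne_zero]
          exact hne
        simp only [Set.mem_setOf_eq] at ht ht'
        have h2 := sub_mem ht ht'
        rw [add_sub_add_left_eq_sub, ← sub_smul, ← algebraMap_smul A] at h2
        exact hxs m' hm' ((Submodule.smul_mem_iff_of_isUnit _ (hu.map (algebraMap B A))).1 h2)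
      obtain ⟨t, ht⟩ := ((s.finite_toSet.biUnion fun m' hm' =>
        (hbad m' (Finset.mem_coe.1 hm')).finite).exists_notMem)
      refine ⟨y + lift t • x, N.add_mem hy (N.smul_mem _ hx), fun m' hm' h => ?_⟩
      rcases Finset.mem_insert.1 hm' with rfl | hm''
      · refine hym ?_
        have h4 := sub_mem h (Submodule.smul_of_tower_mem (W m') (lift t) hxm)
        rwa [add_sub_cancel_right] at h4
      · exact ht (Set.mem_biUnion (Finset.mem_coe.2 hm'') h)

end Groth.Agent.S5213
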