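import Groth.Statements.S5214
import Mathlib
import Groth.Agent.S5205
-- import your own Groth.Agent.* helpers here

set_option autoImplicit false
open CategoryTheory CategoryTheory.Limits
universe w v₁ u₁
open DescCat

namespace Groth.Agent.S5214

theorem isPullback_map_id {C : Type*} [Category* C] [HasBinaryProducts C] {X Y : C} (u : X ⟶ Y)
    (Z : C) :
    IsPullback (prod.fst : X ⨯ Z ⟶ X) (prod.map u (𝟙 Z)) u (prod.fst : Y ⨯ Z ⟶ Y) := by
  refine ⟨⟨by simp⟩, ⟨PullbackCone.IsLimit.mk _
    (fun s => prod.lift s.fst (s.snd ≫ prod.snd)) (fun s => by simp [prod.lift_fst]) (fun s => ?_)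
    (fun s m h1 h2 => ?_)⟩⟩
  · ext
    · simp [s.condition, prod.lift_fst, prod.lift_snd]
    · simp [prod.lift_fst, prod.lift_snd]
  · ext
    · simpa [prod.lift_fst, prod.lift_snd] using h1
    · simp [← h2, prod.lift_fst, prod.lift_snd]

theorem isPullback_id_map {C : Type*} [Category* C] [HasBinaryProducts C] {X Y : C} (u : X ⟶ Y)
    (Z : C) :
    IsPullback (prod.snd : Z ⨯ X ⟶ X) (prod.map (𝟙 Z) u) u (prod.snd : Z ⨯ Y ⟶ Y) := by
  refine ⟨⟨by simp⟩, ⟨PullbackCone.IsLimit.mk _
    (fun s => prod.lift (s.snd ≫ prod.fst) s.fst) (fun s => by simp [prod.lift_snd]) (fun s => ?_)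
    (fun s m h1 h2 => ?_)⟩⟩
  · ext
    · simp [prod.lift_fst, prod.lift_snd]
    · simp [s.condition, prod.lift_fst, prod.lift_snd]
  · ext
    · simp [← h2, prod.lift_fst, prod.lift_snd]
    · simpa [prod.lift_fst, prod.lift_snd] using h1

/-- In a category with pullbacks and binary products: the product `u × u'` of two universal effective
epimorphisms (morphisms all of whose base changes are effective epimorphisms) is a universal
effective epimorphism. -/
theorem result {C : Type u₁} [Category.{v₁} C] [HasPullbacks C] [HasBinaryProducts C]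
    {X Y X' Y' : C} (u : X ⟶ Y) (u' : X' ⟶ Y')
    (hu : (MorphismProperty.universally (fun (A B : C) (p : A ⟶ B) => EffectiveEpi p)) u) (hu' : (MorphismProperty.universally (fun (A B : C) (p : A ⟶ B) => EffectiveEpi p)) u') :
    (MorphismProperty.universally (fun (A B : C) (p : A ⟶ B) => EffectiveEpi p)) (prod.map u u') := by
  haveI := MorphismProperty.universally_isStableUnderBaseChange
    (fun (A B : C) (p : A ⟶ B) => EffectiveEpi p)
  rw [show prod.map u u' = prod.map u (𝟙 X') ≫ prod.map (𝟙 Y) u' by simp]
  exact S5205.result _ _ (MorphismProperty.of_isPullback (isPullback_id_map u' Y) hu')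
    (MorphismProperty.of_isPullback (isPullback_map_id u X') hu)

end Groth.Agent.S5214
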