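import Groth.Statements.S5215
-- import your own Groth.Agent.* helpers here

set_option autoImplicit false
open CategoryTheory CategoryTheory.Limits
universe w v₁ u₁
open DescCat

namespace Groth.Agent.S5215

/-- In a category with pullbacks: for a universally effective equivalence relation `p₁, p₂ : R ⇉ X` with
quotient map `π : X ⟶ X/R` and a morphism `g` out of the quotient, `g` is a monomorphism if and only
if `R` is the kernel pair of `π ≫ g`. -/
theorem result {C : Type u₁} [Category.{v₁} C] [HasPullbacks C]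
    {R X Z : C} {p₁ p₂ : R ⟶ X} (e : UniversallyEffectiveEquivalenceRelation p₁ p₂)
    (f : X ⟶ Z) (g : e.B ⟶ Z) (hg : e.π ≫ g = f) :
    Mono g ↔ IsKernelPair f p₁ p₂ := by
  have hπ := e.universally_effectiveEpi_π
  refine ⟨fun _ => ?_, fun hk => ⟨fun {T} a b hab => ?_⟩⟩
  · rw [← hg]
    exact e.isKernelPair.comp_of_mono
  · haveI : EffectiveEpi (pullback.fst a e.π) := hπ _ _ _ (IsPullback.of_hasPullback a e.π)
    haveI : EffectiveEpi (pullback.fst (pullback.fst a e.π ≫ b) e.π) :=
      hπ _ _ _ (IsPullback.of_hasPullback _ e.π)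
    let p₁' := pullback.fst a e.π
    let p₂' := pullback.fst (p₁' ≫ b) e.π
    let x := p₂' ≫ pullback.snd a e.π
    let y := pullback.snd (p₁' ≫ b) e.π
    have hx : x ≫ e.π = p₂' ≫ p₁' ≫ a := by
      simp only [x, p₁', Category.assoc, pullback.condition]
    have hy : y ≫ e.π = p₂' ≫ p₁' ≫ b := (pullback.condition).symm
    have hxy : x ≫ f = y ≫ f := by
      rw [← hg, reassoc_of% hx, reassoc_of% hy, hab]
    have h := congrArg (hk.lift x y hxy ≫ ·) e.isPushout.w
    -- beta
    rw [← Category.assoc, ← Category.assoc, hk.lift_fst, hk.lift_snd, hx, hy] at h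
    rwa [cancel_epi, cancel_epi] at h

end Groth.Agent.S5215
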