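import Mathlib
import Groth.Statements.S5217
-- import your own Groth.Agent.* helpers here

set_option autoImplicit false
open CategoryTheory CategoryTheory.Limits
universe w v₁ u₁
open ShfCat

namespace Groth.Agent.S5217

theorem types_kernelPair {A X Q : Type w} {a b : A ⟶ X} {q : X ⟶ Q} (h : IsPushout a b q q)
    (hinj : ∀ x y : A, a x = a y → b x = b y → x = y)
    (heq : Equivalence fun x y => ∃ r, a r = x ∧ b r = y) : IsPullback a b q q := by
  rw [Types.isPullback_iff]
  refine ⟨h.w, fun x y hxy => hinj x y hxy.1 hxy.2, fun x y hxy => ?_⟩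
  let S : Setoid X := ⟨_, heq⟩
  let f : X ⟶ Quotient S := ↾(Quotient.mk S)
  have hf : a ≫ f = b ≫ f := by
    ext r
    exact Quotient.sound (s := S) ⟨r, rfl, rfl⟩
  have h1 : ∀ z, h.desc f f hf (q z) = f z := fun z => ConcreteCategory.congr_hom (h.inl_desc f f hf) z
  have := congrArg (h.desc f f hf) hxy
  rw [h1, h1] at this
  exact Quotient.exact this

/-- In the category of sheaves of sets on a site, every equivalence relation is universally effective
(its quotient sheaf exists, the relation is the kernel pair of the quotient map, and that map is a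
universal effective epimorphism). Stated for sheaves valued in `Type w` whenever sheafification
exists. -/
theorem result {C : Type u₁} [Category.{v₁} C]
    (J : GrothendieckTopology C) [HasSheafify J (Type w)]
    {R X : Sheaf J (Type w)} (p₁ p₂ : R ⟶ X) [IsEquivalenceRelation p₁ p₂] :
    IsUniversallyEffectiveEquivalenceRelation p₁ p₂ := by
  obtain ⟨e⟩ := IsEquivalenceRelation.nonempty_equivalenceRelation (p₁ := p₁) (p₂ := p₂)
  let U := sheafToPresheaf J (Type w)
  let L := presheafToSheaf J (Type w)
  let ε := (sheafificationAdjunction J (Type w)).counit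
  let a := U.map p₁
  let b := U.map p₂
  let q := coequalizer.π a b
  have hpo : IsPushout a b q q := by
    refine ⟨⟨coequalizer.condition a b⟩, ⟨PushoutCocone.IsColimit.mk _ (fun s => coequalizer.desc s.inl ?_) ?_ ?_ ?_⟩⟩
    · have hs : s.inl = s.inr := by
        have := U.map e.r ≫= s.condition
        rw [← Category.assoc, ← Category.assoc] at this
        erw [← U.map_comp, ← U.map_comp, e.reflexivity₁, e.reflexivity₂] at this
        erw [U.map_id, Category.id_comp, Category.id_comp] at this
        exact this
      rw [s.condition, hs]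
    · intro s
      exact coequalizer.π_desc _ _
    · intro s
      have hs : s.inl = s.inr := by
        have := U.map e.r ≫= s.condition
        rw [← Category.assoc, ← Category.assoc] at this
        erw [← U.map_comp, ← U.map_comp, e.reflexivity₁, e.reflexivity₂] at this
        erw [U.map_id, Category.id_comp, Category.id_comp] at this
        exact this
      exact (coequalizer.π_desc _ _).trans hs
    · intro s m h1 _
      exact coequalizer.hom_ext (h1.trans (coequalizer.π_desc _ _).symm)
  have hpb : IsPullback a b q q := by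
    refine IsPullback.of_forall_isPullback_app fun c => ?_
    let F : Sheaf J (Type w) ⥤ Type w := U ⋙ (evaluation _ _).obj c
    have hm : Mono (prod.lift p₁ p₂) := ⟨fun f g h => e.right_cancellation f g
      (by have := h =≫ prod.fst; erw [Category.assoc, Category.assoc, Limits.prod.lift_fst] at this; exact this)
      (by have := h =≫ prod.snd; erw [Category.assoc, Category.assoc, Limits.prod.lift_snd] at this; exact this)⟩
    have hinj : ∀ x y, F.map p₁ x = F.map p₁ y → F.map p₂ x = F.map p₂ y → x = y := by
      intro x y h1 h2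
      apply (mono_iff_injective (F.map (prod.lift p₁ p₂))).mp inferInstance
      refine Concrete.isLimit_ext _ (mapIsLimitOfPreservesOfIsLimit F _ _ (prodIsProd X X)) _ _ ?_
      rintro ⟨_ | _⟩
      · show F.map prod.fst _ = F.map prod.fst _
        rw [← ConcreteCategory.comp_apply, ← ConcreteCategory.comp_apply, ← F.map_comp, prod.lift_fst]
        exact h1
      · show F.map prod.snd _ = F.map prod.snd _
        rw [← ConcreteCategory.comp_apply, ← ConcreteCategory.comp_apply, ← F.map_comp, prod.lift_snd]
        exact h2
    have hpb' : IsPullback (F.map e.c.fst) (F.map e.c.snd) (F.map p₂) (F.map p₁) :=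
      (IsPullback.of_isLimit e.isLimit).map F
    have heq : Equivalence fun x y => ∃ r, F.map p₁ r = x ∧ F.map p₂ r = y := by
      refine ⟨fun x => ⟨F.map e.r x, ?_, ?_⟩, ?_, ?_⟩
      · rw [← ConcreteCategory.comp_apply, ← F.map_comp, e.reflexivity₁, F.map_id]; rfl
      · rw [← ConcreteCategory.comp_apply, ← F.map_comp, e.reflexivity₂, F.map_id]; rfl
      · rintro x y ⟨r, rfl, rfl⟩
        refine ⟨F.map e.s r, ?_, ?_⟩
        · rw [← ConcreteCategory.comp_apply, ← F.map_comp, e.symmetry₁]
        · rw [← ConcreteCategory.comp_apply, ← F.map_comp, e.symmetry₂]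
      · rintro x y z ⟨r, rfl, rfl⟩ ⟨r', h, rfl⟩
        obtain ⟨v, hv1, hv2⟩ := Types.exists_of_isPullback hpb' r r' h.symm
        refine ⟨F.map e.t v, ?_, ?_⟩
        · rw [← ConcreteCategory.comp_apply, ← F.map_comp, e.transitivity₁, F.map_comp, ConcreteCategory.comp_apply, hv1]
        · rw [← ConcreteCategory.comp_apply, ← F.map_comp, e.transitivity₂, F.map_comp, ConcreteCategory.comp_apply, hv2]
    exact types_kernelPair (hpo.map ((evaluation _ _).obj c)) hinj heq
  let π : X ⟶ L.obj (coequalizer a b) := inv (ε.app X) ≫ L.map q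
  have n1 : L.map a ≫ ε.app X = ε.app R ≫ p₁ := ε.naturality p₁
  have n2 : L.map b ≫ ε.app X = ε.app R ≫ p₂ := ε.naturality p₂
  have hk : IsKernelPair π p₁ p₂ :=
    (hpb.map L).of_iso (asIso (ε.app R)) (asIso (ε.app X)) (asIso (ε.app X)) (Iso.refl _) n1 n2
      (by simp [π]) (by simp [π])
  have hp : IsPushout p₁ p₂ π π :=
    (hpo.map L).of_iso (asIso (ε.app R)) (asIso (ε.app X)) (asIso (ε.app X)) (Iso.refl _) n1 n2
      (by simp [π]) (by simp [π])
  refine ⟨⟨{ toEquivalenceRelation := e, B := _, π := π, isKernelPair := hk, isPushout := hp, universally_effectiveEpi_π := ?_ }⟩⟩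
  have hepi : Epi π := epi_comp _ _
  intro Z W g h f sq
  have hsurj : Sheaf.IsLocallySurjective π := (Sheaf.isLocallySurjective_iff_epi π).mpr hepi
  have : Sheaf.IsLocallySurjective f := ⟨fun {V} s => by
    refine J.superset_covering ?_ (Presheaf.imageSieve_mem J π.hom (U := Opposite.op V) (h.hom.app _ s))
    rintro W' i ⟨x, hx⟩
    have hp' := (sq.flip.map (U ⋙ (evaluation _ _).obj (Opposite.op W')))
    obtain ⟨z, hz1, hz2⟩ := Types.exists_of_isPullback hp' x (W.obj.map i.op s) (by
      show π.hom.app _ x = h.hom.app _ _
      rw [hx, NatTrans.naturality_apply])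
    exact ⟨z, hz2⟩⟩
  have : Epi f := (Sheaf.isLocallySurjective_iff_epi f).mp this
  exact (isRegularEpi_iff_effectiveEpi f).mp (IsRegularEpiCategory.regularEpiOfEpi f)

end Groth.Agent.S5217
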