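import Groth.Statements.S5221
import Groth.Agent.S5220
-- import your own Groth.Agent.* helpers here

set_option autoImplicit false
open CategoryTheory CategoryTheory.Limits
universe w v₁ u₁
open GrpQ

namespace Groth.Agent.S5221

/-- Existence part: in a category with pullbacks: with `d₀ d₁ : X₁ ⇉ X₀` admitting a common section and
`f₀ : Y₀ ⟶ X₀` an effective and universal epimorphism, the pair `(d₀, d₁)` has a coequalizer if and
only if its inverse-image pair on `Y₀` has one. -/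
theorem result {C : Type u₁} [Category.{v₁} C] [HasPullbacks C]
    {X₁ X₀ Y₀ : C} (d₀ d₁ : X₁ ⟶ X₀) (s : X₀ ⟶ X₁) (hs₀ : s ≫ d₀ = 𝟙 X₀) (hs₁ : s ≫ d₁ = 𝟙 X₀)
    (f₀ : Y₀ ⟶ X₀) [EffectiveEpi f₀]
    (hf : MorphismProperty.universally (MorphismProperty.epimorphisms C) f₀) :
    HasCoequalizer d₁ d₀ ↔
      HasCoequalizer (pullback.fst (pullback.snd f₀ d₁ ≫ d₀) f₀ ≫ pullback.fst f₀ d₁)
        (pullback.snd (pullback.snd f₀ d₁ ≫ d₀) f₀) := by
  let a := pullback.fst (pullback.snd f₀ d₁ ≫ d₀) f₀ ≫ pullback.fst f₀ d₁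
  let b := pullback.snd (pullback.snd f₀ d₁ ≫ d₀) f₀
  have key : ∀ {T : C} (h : X₀ ⟶ T), d₁ ≫ h = d₀ ≫ h → a ≫ f₀ ≫ h = b ≫ f₀ ≫ h := by
    intro T h hh
    simp only [a, b, Category.assoc]
    rw [pullback.condition_assoc, hh, ← pullback.condition_assoc (f := pullback.snd f₀ d₁ ≫ d₀) (g := f₀),
      Category.assoc]
  have desc : ∀ {T : C} (g : Y₀ ⟶ T), a ≫ g = b ≫ g → ∃! h : X₀ ⟶ T, d₁ ≫ h = d₀ ≫ h ∧ f₀ ≫ h = g :=
    fun g hg => Groth.Agent.S5220.result d₀ d₁ s hs₀ hs₁ f₀ hf g hg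
  constructor
  · intro hc
    refine HasColimit.mk ⟨Cofork.ofπ (f₀ ≫ coequalizer.π d₁ d₀) (key _ (coequalizer.condition d₁ d₀)), ?_⟩
    refine Cofork.IsColimit.mk _ (fun c => ?_) (fun c => ?_) (fun c m hm => ?_)
    · exact coequalizer.desc (desc c.π c.condition).choose (desc c.π c.condition).choose_spec.1.1
    · simp only [Cofork.π_ofπ, Category.assoc, coequalizer.π_desc]
      exact (desc c.π c.condition).choose_spec.1.2
    · refine coequalizer.hom_ext (f := d₁) (g := d₀) ?_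
      rw [coequalizer.π_desc, ← cancel_epi f₀, (desc c.π c.condition).choose_spec.1.2]
      exact (Category.assoc _ _ _).symm.trans hm
  · intro hc
    obtain ⟨h, ⟨hh1, hh2⟩, -⟩ := desc (coequalizer.π a b) (coequalizer.condition a b)
    refine HasColimit.mk ⟨Cofork.ofπ h hh1, ?_⟩
    refine Cofork.IsColimit.mk _ (fun c => ?_) (fun c => ?_) (fun c m hm => ?_)
    · exact coequalizer.desc (f₀ ≫ c.π) (key _ c.condition)
    · rw [← cancel_epi f₀, Cofork.π_ofπ, reassoc_of% hh2, coequalizer.π_desc]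
    · refine coequalizer.hom_ext (f := a) (g := b) ?_
      rw [coequalizer.π_desc, ← hh2, Category.assoc]
      exact congrArg (f₀ ≫ ·) hm

end Groth.Agent.S5221
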