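import Groth.Statements.S5222
import Mathlib
-- import your own Groth.Agent.* helpers here

set_option autoImplicit false
open CategoryTheory CategoryTheory.Limits MonoidalCategory
universe v₁ u₁
open DescCat

namespace Groth.Agent.S5222

open MonObj CartesianMonoidalCategory SemiCartesianMonoidalCategory in
/-- In a cartesian monoidal category with pullbacks: for a homomorphism `f : G ⟶ G'` of group objects
with kernel `K = G ×_{G'} e`, the pair `G × K ⇉ G` given by the projection and by multiplication is
the kernel pair of `f`. -/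
theorem result {C : Type u₁} [Category.{v₁} C]
    [CartesianMonoidalCategory C] [HasPullbacks C]
    {G G' : C} [GrpObj G] [GrpObj G'] (f : G ⟶ G') [IsMonHom f] :
    IsKernelPair f (fst G (pullback f η[G']))
      ((G ◁ pullback.fst f η[G']) ≫ μ[G]) := by
  have hb : (G ◁ pullback.fst f η[G']) ≫ μ[G] =
      fst G (pullback f η[G']) * (snd G (pullback f η[G']) ≫ pullback.fst f η[G']) := by
    rw [Hom.mul_def]
    congr 1
    ext <;> simp
  have hι : ∀ {T : C} (k : T ⟶ pullback f η[G']), (k ≫ pullback.fst f η[G']) ≫ f = 1 := fun k => by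
    rw [Category.assoc, pullback.condition, ← Category.assoc, Hom.one_def]
    congr 1
    exact Subsingleton.elim _ _
  rw [hb]
  refine IsPullback.mk' ?_ ?_ ?_
  · rw [MonObj.mul_comp, hι, _root_.mul_one]
  · intro T φ φ' h1 h2
    rw [MonObj.comp_mul, MonObj.comp_mul, h1, mul_right_inj] at h2
    refine CartesianMonoidalCategory.hom_ext _ _ h1 (pullback.hom_ext ?_ (Subsingleton.elim _ _))
    simpa using h2
  · intro T a b hab
    have hk : (a⁻¹ * b) ≫ f = toUnit T ≫ η[G'] := by
      rw [MonObj.mul_comp, ← hab, ← MonObj.mul_comp, inv_mul_cancel, MonObj.one_comp, Hom.one_def]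
    refine ⟨CartesianMonoidalCategory.lift a (pullback.lift (a⁻¹ * b) (toUnit T) hk), CartesianMonoidalCategory.lift_fst _ _, ?_⟩
    rw [MonObj.comp_mul, CartesianMonoidalCategory.lift_fst, ← Category.assoc, CartesianMonoidalCategory.lift_snd,
      pullback.lift_fst, mul_inv_cancel_left]

end Groth.Agent.S5222
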