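import Groth.Statements.S5224
import Mathlib
import Groth.Agent.QuotShEff.Basic
-- import your own Groth.Agent.* helpers here

set_option autoImplicit false
open CategoryTheory CategoryTheory.Limits AlgebraicGeometry
universe u
open GrpQ

namespace Groth.Agent.S5224

/-- For the fppf topology: let `s, t : R ⇉ U` be an equivalence relation of schemes over `S` with `s`
faithfully flat and locally of finite presentation. A morphism `q : U ⟶ Y` over `S` is a faithfully
flat, locally finitely presented quotient with kernel pair `R` if and only if `q` identifies `h_Y`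
with the fppf quotient sheaf `U/R`. -/
theorem result {S : Scheme.{u}} {R U Y : Over S} (s t : R ⟶ U)
    [IsEquivalenceRelation s t]
    [Flat s.left] [Surjective s.left] [LocallyOfFinitePresentation s.left]
    (q : U ⟶ Y) :
    (IsKernelPair q s t ∧ Flat q.left ∧ Surjective q.left ∧ LocallyOfFinitePresentation q.left) ↔
      QuotSh.IsQuotient Scheme.fppfPrecoverage s t q := by
  constructor
  · rintro ⟨hk, _, _, _⟩
    refine Groth.Agent.QuotShBasic.isQuotient_of_isPullback Scheme.fppfPrecoverage s t q hk.flip ?_
    exact Groth.Agent.QuotShBasic.generate_singleton_mem _ _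
      (Scheme.Hom.singleton_mem_fppfPrecoverage q.left)
  · intro hq
    have hk := Groth.Agent.QuotShEff.isKernelPair s t q hq
    obtain ⟨V, f, a, hf1, hf2, hf3, hfa⟩ := Groth.Agent.QuotShEff.exists_cover s t q hq
    obtain ⟨h⟩ := IsEquivalenceRelation.nonempty_equivalenceRelation (p₁ := s) (p₂ := t)
    haveI : IsIso h.s := ⟨h.s, h.right_cancellation _ _
        (by rw [Category.assoc, h.symmetry₁, h.symmetry₂, Category.id_comp])
        (by rw [Category.assoc, h.symmetry₂, h.symmetry₁, Category.id_comp]),
      h.right_cancellation _ _
        (by rw [Category.assoc, h.symmetry₁, h.symmetry₂, Category.id_comp])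
        (by rw [Category.assoc, h.symmetry₂, h.symmetry₁, Category.id_comp])⟩
    haveI : IsIso h.s.left := inferInstanceAs (IsIso ((Over.forget S).map h.s))
    have ht : t.left = h.s.left ≫ s.left := by rw [← Over.comp_left, h.symmetry₁]
    haveI : Flat t.left := by rw [ht]; infer_instance
    haveI : LocallyOfFinitePresentation t.left := by rw [ht]; infer_instance
    haveI : Surjective t.left := by rw [ht]; infer_instance
    have hsq : IsPullback s.left t.left q.left q.left := hk.map (Over.forget S)
    have hpb : IsPullback (pullback.fst t.left a ≫ s.left) (pullback.snd t.left a) q.left f := by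
      rw [← hfa]
      exact (IsPullback.of_hasPullback t.left a).paste_horiz hsq |>.of_iso
        (Iso.refl _) (Iso.refl _) (Iso.refl _) (Iso.refl _) (by simp) (by simp) (by simp) (by simp)
    haveI : Flat (pullback.fst t.left a ≫ s.left) := MorphismProperty.of_isPullback hpb.flip hf1
    haveI : Surjective (pullback.fst t.left a ≫ s.left) := MorphismProperty.of_isPullback hpb.flip hf3
    haveI : Flat ((pullback.fst t.left a ≫ s.left) ≫ q.left) := by rw [hpb.w]; infer_instance
    haveI : Surjective ((pullback.fst t.left a ≫ s.left) ≫ q.left) := by rw [hpb.w]; infer_instance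
    refine ⟨hk, Groth.Agent.SourceDescent.flat_of_comp (pullback.fst t.left a ≫ s.left) q.left,
      Surjective.of_comp (pullback.fst t.left a ≫ s.left) q.left, ?_⟩
    exact MorphismProperty.of_isPullback_of_descendsAlong (P := @LocallyOfFinitePresentation)
      (Q := @Surjective ⊓ @Flat ⊓ @LocallyOfFinitePresentation) hpb.flip ⟨⟨hf3, hf1⟩, hf2⟩
      inferInstance

end Groth.Agent.S5224
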