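import Groth.Statements.S5225
import Mathlib
import Groth.Agent.QuotShEff.Et
-- import your own Groth.Agent.* helpers here

set_option autoImplicit false
open CategoryTheory CategoryTheory.Limits AlgebraicGeometry
universe u
open GrpQ

namespace Groth.Agent.S5225

/-- For the étale topology: let `s, t : R ⇉ U` be an equivalence relation of schemes over `S` with `s`
étale and surjective. A morphism `q : U ⟶ Y` over `S` is an étale surjective quotient with kernel
pair `R` if and only if `q` identifies `h_Y` with the étale quotient sheaf `U/R`. -/
theorem result {S : Scheme.{u}} {R U Y : Over S} (s t : R ⟶ U)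
    [IsEquivalenceRelation s t] [Etale s.left] [Surjective s.left]
    (q : U ⟶ Y) :
    (IsKernelPair q s t ∧ Etale q.left ∧ Surjective q.left) ↔
      QuotSh.IsQuotient Scheme.etalePrecoverage s t q := by
  constructor
  · rintro ⟨hk, _, _⟩
    refine Groth.Agent.QuotShBasic.isQuotient_of_isPullback Scheme.etalePrecoverage s t q hk.flip ?_
    exact Groth.Agent.QuotShBasic.generate_singleton_mem _ _
      ((Scheme.singleton_mem_precoverage_iff (P := @Etale) q.left).mpr ⟨q.left.surjective, ‹_›⟩)
  · intro hq
    have hk := Groth.Agent.QuotShEff.Et.isKernelPair s t q hq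
    obtain ⟨V, f, a, hf1, hf3, hfa⟩ := Groth.Agent.QuotShEff.Et.exists_cover s t q hq
    obtain ⟨h⟩ := IsEquivalenceRelation.nonempty_equivalenceRelation (p₁ := s) (p₂ := t)
    haveI : IsIso h.s := ⟨h.s, h.right_cancellation _ _
        (by rw [Category.assoc, h.symmetry₁, h.symmetry₂, Category.id_comp])
        (by rw [Category.assoc, h.symmetry₂, h.symmetry₁, Category.id_comp]),
      h.right_cancellation _ _
        (by rw [Category.assoc, h.symmetry₁, h.symmetry₂, Category.id_comp])
        (by rw [Category.assoc, h.symmetry₂, h.symmetry₁, Category.id_comp])⟩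
    haveI : IsIso h.s.left := inferInstanceAs (IsIso ((Over.forget S).map h.s))
    have ht : t.left = h.s.left ≫ s.left := by rw [← Over.comp_left, h.symmetry₁]
    haveI : Etale t.left := by rw [ht]; infer_instance
    have hsq : IsPullback s.left t.left q.left q.left := hk.map (Over.forget S)
    have hpb : IsPullback (pullback.fst t.left a ≫ s.left) (pullback.snd t.left a) q.left f := by
      rw [← hfa]
      exact (IsPullback.of_hasPullback t.left a).paste_horiz hsq |>.of_iso
        (Iso.refl _) (Iso.refl _) (Iso.refl _) (Iso.refl _) (by simp) (by simp) (by simp) (by simp)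
    haveI : Etale (pullback.fst t.left a ≫ s.left) := MorphismProperty.of_isPullback hpb.flip hf1
    haveI : Surjective (pullback.fst t.left a ≫ s.left) := MorphismProperty.of_isPullback hpb.flip hf3
    haveI : Surjective t.left := by rw [ht]; infer_instance
    haveI : Etale ((pullback.fst t.left a ≫ s.left) ≫ q.left) := by rw [hpb.w]; infer_instance
    haveI : Surjective ((pullback.fst t.left a ≫ s.left) ≫ q.left) := by rw [hpb.w]; infer_instance
    exact ⟨hk, Groth.Agent.SourceDescent.etale_of_comp (pullback.fst t.left a ≫ s.left) q.left,
      Surjective.of_comp (pullback.fst t.left a ≫ s.left) q.left⟩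

end Groth.Agent.S5225
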