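import Groth.Statements.S5228
import Groth.Agent.ComodBasic.Integral
import Mathlib.RingTheory.HopfAlgebra.MonoidAlgebra


set_option autoImplicit false
universe w u
open HopfRep

namespace Groth.Agent.S5228
open Groth.Agent.ComodBasic TensorProduct

section Aux

variable {k : Type u} [CommRing k] {C : Type*} [AddCommGroup C] [Module k C] [Module.Free k C]
variable {V : Type*} [AddCommGroup V] [Module k V]

theorem eq_of_slice_free {x y : V ⊗[k] C} (h : ∀ φ : C →ₗ[k] k, slice φ x = slice φ y) : x = y := by
  classical
  let b := Module.Free.chooseBasis k C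
  refine sub_eq_zero.1 ((LinearEquiv.map_eq_zero_iff (TensorProduct.equivFinsuppOfBasisRight (M := V) b)).1 ?_)
  ext i
  have h' : ∀ z : V ⊗[k] C, TensorProduct.equivFinsuppOfBasisRight (M := V) b z i = slice (b.coord i) z := by
    intro z
    induction z using TensorProduct.induction_on with
    | zero => simp
    | tmul v c => simp [Module.Basis.coord]
    | add a b ha hb => simp [ha, hb]
  rw [h', map_sub, h, sub_self, Finsupp.zero_apply]

end Aux



/-- Over an affine base, in comodule form: for a representation `V` of a diagonalizable group `D(M)`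
over a commutative ring `k` (a `k[M]`-comodule), every sub-representation which is a direct summand
as a `k`-module is a direct summand as a representation. (The published statement: a short exact
sequence of quasi-coherent `D(M)`-modules that splits as a sequence of modules splits
equivariantly.) -/
theorem result {k : Type u} [CommRing k] {M : Type u} [CommGroup M]
    (V : Type w) [AddCommGroup V] [Module k V] [HopfRep.Comod k (MonoidAlgebra k M) V]
    (W : Submodule k V) (hW : HopfRep.IsSubcomod (k := k) (A := MonoidAlgebra k M) W)
    (hsplit : ∃ W' : Submodule k V, IsCompl W W') :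
    ∃ W'' : Submodule k V, HopfRep.IsSubcomod (k := k) (A := MonoidAlgebra k M) W'' ∧ IsCompl W W'' := by
  classical
  obtain ⟨W', hc⟩ := hsplit
  let A := MonoidAlgebra k M
  haveI : Module.Free k A := Module.Free.of_equiv (MonoidAlgebra.coeffLinearEquiv k (M := M) (S := k)).symm
  let δ : A →ₗ[k] k := Finsupp.lapply (1 : M) ∘ₗ (MonoidAlgebra.coeffLinearEquiv k).toLinearMap
  have hδ : IsLeftInt δ := by
    intro x
    have h : ∀ (m : M) (r : k), slice δ (CoalgebraStruct.comul (R := k) (MonoidAlgebra.single m r)) =
        δ (MonoidAlgebra.single m r) • (1 : A) := by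
      intro m r
      by_cases hm : m = 1
      · subst hm
        simp [δ, A, MonoidAlgebra.one_def]
      · simp [δ, A, hm]
    induction x using MonoidAlgebra.induction_linear with
    | zero => simp
    | single m r => exact h m r
    | add a b ha hb => simp only [map_add, add_smul, ha, hb]
  have h1 : δ 1 = 1 := by simp [δ, A, MonoidAlgebra.one_def]
  let p : V →ₗ[k] V := W.subtype ∘ₗ W.projectionOnto W' hc
  have hp : ∀ w ∈ W, p w = w := fun w hw =>
    congrArg Subtype.val (Submodule.projectionOnto_apply_left hc ⟨w, hw⟩)
  let P := average δ p
  have hPmem : ∀ v, P v ∈ W := by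
    intro v
    simp only [P, average, LinearMap.comp_apply]
    generalize HopfRep.Comod.coact (k := k) (A := A) v = z
    induction z using TensorProduct.induction_on with
    | zero => simp
    | add a b ha hb => rw [map_add]; exact W.add_mem ha hb
    | tmul a b =>
      rw [TensorProduct.lift.tmul, LinearMap.mk₂_apply, act_apply]
      obtain ⟨z, hz⟩ := hW (p a) (W.projectionOnto W' hc a).2
      rw [← hz, slice_rTensor]
      exact Subtype.prop _
  have hPid : ∀ w ∈ W, P w = w := by
    intro w hw
    conv_rhs => rw [← average_id h1 w]
    obtain ⟨z, hz⟩ := hW w hw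
    simp only [P, average, LinearMap.comp_apply, ← hz]
    clear hz
    induction z using TensorProduct.induction_on with
    | zero => simp
    | add a b ha hb => simp only [map_add, ha, hb]
    | tmul a b => simp [hp a.1 a.2]
  have hPcomm : ∀ v, P.rTensor A (HopfRep.Comod.coact (k := k) (A := A) v) =
      HopfRep.Comod.coact (k := k) (A := A) (P v) := by
    intro v
    refine eq_of_slice_free fun φ => ?_
    rw [slice_rTensor, ← act_apply, ← act_apply]
    exact average_commute hδ p (WithConv.toConv φ) v
  refine ⟨LinearMap.ker P, fun v hv => ?_, ?_⟩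
  · let q : V →ₗ[k] LinearMap.ker P :=
      (LinearMap.id - P).codRestrict (LinearMap.ker P) fun x => by
        simp [LinearMap.mem_ker, hPid _ (hPmem x)]
    refine ⟨q.rTensor A (HopfRep.Comod.coact (k := k) (A := A) v), ?_⟩
    rw [← LinearMap.rTensor_comp_apply,
      show (LinearMap.ker P).subtype ∘ₗ q = LinearMap.id - P from LinearMap.ext fun x => rfl,
      LinearMap.rTensor_sub, LinearMap.sub_apply, LinearMap.rTensor_id, LinearMap.id_apply, hPcomm,
      LinearMap.mem_ker.1 hv, map_zero, sub_zero]
  · constructor
    · rw [Submodule.disjoint_def]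
      intro x hx hx'
      rw [← hPid x hx, LinearMap.mem_ker.1 hx']
    · rw [codisjoint_iff]
      refine top_unique fun x _ => Submodule.mem_sup.2 ⟨P x, hPmem x, x - P x, ?_, by simp⟩
      simp [LinearMap.mem_ker, hPid _ (hPmem x)]

end Groth.Agent.S5228
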