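import Groth.Statements.S5235
import Mathlib
-- import your own Groth.Agent.* helpers here

set_option autoImplicit false
open CategoryTheory CategoryTheory.Limits AlgebraicGeometry
universe u
open GrpQ

namespace Groth.Agent.S5235

section Aux
theorem range_pullback_arrow {X Y : Scheme.{u}} (f : X ⟶ Y) (y : Subobject Y)
    (hy : IsOpenImmersion y.arrow) :
    IsOpenImmersion ((Subobject.pullback f).obj y).arrow ∧
      Set.range ((Subobject.pullback f).obj y).arrow = f ⁻¹' Set.range y.arrow := by
  haveI := hy
  have h := Subobject.isPullback f y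
  rw [← h.isoPullback_hom_snd]
  refine ⟨inferInstance, ?_⟩
  rw [Scheme.Hom.comp_base, TopCat.coe_comp,
    Set.range_comp, show Set.range h.isoPullback.hom = Set.univ from
      Set.range_eq_univ.2 h.isoPullback.hom.homeomorph.surjective, Set.image_univ,
    IsOpenImmersion.range_pullbackSnd]
  rfl

theorem eq_of_range_eq {X : Scheme.{u}} (y y' : Subobject X) (hy : IsOpenImmersion y.arrow)
    (hy' : IsOpenImmersion y'.arrow) (h : Set.range y.arrow = Set.range y'.arrow) : y = y' := by
  haveI := hy
  haveI := hy'
  exact Subobject.eq_of_comm (IsOpenImmersion.isoOfRangeEq y.arrow y'.arrow h)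
    (IsOpenImmersion.isoOfRangeEq_hom_fac _ _ h)

end Aux

/-- For schemes, with (M) the faithfully flat quasi-compact morphisms and (N) the open immersions: if `π
: X ⟶ X'` is flat, surjective and quasi-compact, then `Y' ↦ π⁻¹(Y')` is a bijection from open
subschemes of `X'` onto the open subschemes of `X` stable under the kernel pair of `π`. -/
theorem result {X X' : Scheme.{u}} (π : X ⟶ X')
    [Flat π] [Surjective π] [QuasiCompact π] :
    Set.BijOn (Subobject.pullback π).obj
      {Y' : Subobject X' | IsOpenImmersion Y'.arrow}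
      {Y : Subobject X | IsOpenImmersion Y.arrow ∧
        (Subobject.pullback (pullback.fst π π)).obj Y = (Subobject.pullback (pullback.snd π π)).obj Y} := by
  refine ⟨fun y hy => ?_, fun y hy y' hy' h => ?_, fun z hz => ?_⟩
  · obtain ⟨h1, h2⟩ := range_pullback_arrow π y hy
    obtain ⟨h3, h4⟩ := range_pullback_arrow (pullback.fst π π) _ h1
    obtain ⟨h5, h6⟩ := range_pullback_arrow (pullback.snd π π) _ h1
    refine ⟨h1, eq_of_range_eq _ _ h3 h5 ?_⟩
    rw [h4, h6, h2, ← Set.preimage_comp, ← Set.preimage_comp]
    congr 1
    funext x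
    change π (pullback.fst π π x) = π (pullback.snd π π x)
    rw [← Scheme.Hom.comp_apply, pullback.condition, Scheme.Hom.comp_apply]
  · obtain ⟨-, h2⟩ := range_pullback_arrow π y hy
    obtain ⟨-, h2'⟩ := range_pullback_arrow π y' hy'
    refine eq_of_range_eq _ _ hy hy' (π.surjective.preimage_injective ?_)
    rw [← h2, ← h2', h]
  · obtain ⟨hz1, hz2⟩ := hz
    obtain ⟨-, h4⟩ := range_pullback_arrow (pullback.fst π π) z hz1
    obtain ⟨-, h6⟩ := range_pullback_arrow (pullback.snd π π) z hz1
    have heq : pullback.fst π π ⁻¹' Set.range z.arrow = pullback.snd π π ⁻¹' Set.range z.arrow := by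
      rw [← h4, ← h6, hz2]
    have hsat : π ⁻¹' (π '' Set.range z.arrow) = Set.range z.arrow := by
      refine Set.Subset.antisymm ?_ (Set.subset_preimage_image _ _)
      rintro x' ⟨x, hx, hxx⟩
      obtain ⟨p, hp1, hp2⟩ := Scheme.Pullback.exists_preimage_pullback x x' hxx
      have : p ∈ pullback.fst π π ⁻¹' Set.range z.arrow := by
        rw [Set.mem_preimage, hp1]; exact hx
      rw [heq, Set.mem_preimage, hp2] at this
      exact this
    have hopen : IsOpen (π '' Set.range z.arrow) := by
      haveI := hz1
      rw [← (Flat.isQuotientMap_of_surjective π).isOpen_preimage, hsat]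
      exact z.arrow.isOpenEmbedding.isOpen_range
    let V : X'.Opens := ⟨_, hopen⟩
    let y := Subobject.mk V.ι
    have hy : IsOpenImmersion y.arrow := by
      rw [← Subobject.underlyingIso_hom_comp_eq_mk]; infer_instance
    have hyr : Set.range y.arrow = (V : Set X') := by
      rw [← Subobject.underlyingIso_hom_comp_eq_mk, Scheme.Hom.comp_base, TopCat.coe_comp,
        Set.range_comp, show Set.range (Subobject.underlyingIso V.ι).hom = Set.univ from
          Set.range_eq_univ.2 (Subobject.underlyingIso V.ι).hom.homeomorph.surjective,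
        Set.image_univ, Scheme.Opens.range_ι]
    obtain ⟨h1, h2⟩ := range_pullback_arrow π y hy
    refine ⟨y, hy, eq_of_range_eq _ _ h1 hz1 ?_⟩
    rw [h2, hyr]
    exact hsat

end Groth.Agent.S5235
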