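import Groth.Statements.S5236
import Mathlib
import Groth.Agent.FppfEpi.Basic
import Groth.Agent.FppfEpi.QuotGrp
-- import your own Groth.Agent.* helpers here

set_option autoImplicit false
open CategoryTheory CategoryTheory.Limits AlgebraicGeometry MonoidalCategory
universe u
open RedSub

open MonObj CartesianMonoidalCategory

namespace Groth.Agent.S5236

/-- For group schemes and the fppf topology: if `i : H ⟶ G` is a normal monomorphism of `S`-group
schemes and `q : G ⟶ Q` exhibits `Q` as the fppf quotient `G/H`, then there is exactly one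
group-scheme structure on `Q` over `S` making `q` a homomorphism. -/
theorem result {S : Scheme.{u}} {H G Q : Over S} [GrpObj H] [hG : GrpObj G]
    (i : H ⟶ G) [IsMonHom i] [Mono i] (hn : AlgGrp.IsNormalHom i)
    (q : G ⟶ Q) (hq : RedSub.IsQuotient i q) :
    ∃! s : GrpObj Q, @IsMonHom (Over S) _ _ G Q hG.toMonObj s.toMonObj q := by
  obtain ⟨h1, h2, h3, hpb⟩ := hq
  have hact : ∀ (T : Over S) (a : T ⟶ G) (h : T ⟶ H),
      lift a h ≫ (G ◁ i) ≫ μ[G] = a * (h ≫ i) := by
    intro T a h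
    rw [lift_whiskerLeft_assoc, Hom.mul_def]
  have hinv : ∀ (T : Over S) (a : T ⟶ G) (h : T ⟶ H), (a * (h ≫ i)) ≫ q = a ≫ q := by
    intro T a h
    have := congrArg (fun f => lift a h ≫ f) hpb.w
    simp only [lift_fst_assoc] at this
    rw [this, ← hact, Category.assoc]
  have hrel : ∀ (T : Over S) (a a' : T ⟶ G), a ≫ q = a' ≫ q → ∃ h : T ⟶ H, a' = a * (h ≫ i) := by
    intro T a a' e
    refine ⟨hpb.lift a a' e ≫ snd G H, ?_⟩
    rw [← hact]
    have : lift a (hpb.lift a a' e ≫ snd G H) = hpb.lift a a' e :=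
      CartesianMonoidalCategory.hom_ext _ _ ((lift_fst _ _).trans (hpb.lift_fst _ _ e).symm) (lift_snd _ _)
    rw [this]
    exact (hpb.lift_snd a a' e).symm
  obtain ⟨hmul, hinv'⟩ := Groth.Agent.FppfEpi.mul_inv_compat q i hn hrel hinv
  have hP : ∀ {A A' B B' : Over S} (f : A ⟶ A') (g : B ⟶ B'),
      (Flat f.left ∧ Surjective f.left ∧ LocallyOfFinitePresentation f.left) →
      (Flat g.left ∧ Surjective g.left ∧ LocallyOfFinitePresentation g.left) →
      (Flat (f ⊗ₘ g).left ∧ Surjective (f ⊗ₘ g).left ∧ LocallyOfFinitePresentation (f ⊗ₘ g).left) := by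
    intro A A' B B' f g hf hg
    rw [CategoryTheory.Over.tensorHom_left]
    exact ⟨MorphismProperty.pullbackMap (P := @Flat) hf.1 hg.1 (Over.w f).symm (Over.w g).symm,
      MorphismProperty.pullbackMap (P := @Surjective) hf.2.1 hg.2.1 (Over.w f).symm (Over.w g).symm,
      MorphismProperty.pullbackMap (P := @LocallyOfFinitePresentation) hf.2.2 hg.2.2 (Over.w f).symm
        (Over.w g).symm⟩
  haveI : Epi q := Groth.Agent.FppfEpi.epi_over q
  obtain ⟨h4, h5, h6⟩ := hP q q ⟨h2, h1, h3⟩ ⟨h2, h1, h3⟩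
  haveI : Epi (q ⊗ₘ q) := Groth.Agent.FppfEpi.epi_over _
  obtain ⟨h7, h8, h9⟩ := hP (q ⊗ₘ q) q ⟨h4, h5, h6⟩ ⟨h2, h1, h3⟩
  obtain ⟨m, hm⟩ := Groth.Agent.FppfEpi.exists_desc_over (q ⊗ₘ q) (μ[G] ≫ q) (fun T a b hab => by
    have e1 := congrArg (· ≫ fst Q Q) hab
    have e2 := congrArg (· ≫ snd Q Q) hab
    simp only [Category.assoc, tensorHom_fst, tensorHom_snd] at e1 e2
    have e := hmul T (a ≫ fst G G) (a ≫ snd G G) (b ≫ fst G G) (b ≫ snd G G)
      (by simpa using e1) (by simpa using e2)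
    rw [← MonObj.comp_mul, ← MonObj.comp_mul, Category.assoc, Category.assoc,
      ← MonObj.mul_eq_mul] at e
    exact e)
  obtain ⟨n, hn'⟩ := Groth.Agent.FppfEpi.exists_desc_over q (ι[G] ≫ q) (fun T a b hab => by
    have e := hinv' T a b hab
    rw [Hom.inv_def, Hom.inv_def, Category.assoc, Category.assoc] at e
    exact e)
  obtain ⟨s, hs⟩ := Groth.Agent.FppfEpi.exists_grpObj q (Groth.Agent.FppfEpi.epi_over _) m hm n hn'
  exact ⟨s, hs, fun s' hs' => Groth.Agent.FppfEpi.grpObj_unique q s' s hs' hs⟩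

end Groth.Agent.S5236
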