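import Groth.Statements.S5237
import Mathlib
import Groth.Agent.FppfEpi.Basic
-- import your own Groth.Agent.* helpers here

set_option autoImplicit false
open CategoryTheory CategoryTheory.Limits AlgebraicGeometry MonoidalCategory
universe u
open RedSub

namespace Groth.Agent.S5237

open MonObj GrpObj CartesianMonoidalCategory in
/-- For group schemes and the fppf topology: if `q : G ⟶ Q = G/H` is the fppf quotient of `G` by a
normal subgroup `H`, with its group structure, then a homomorphism `G ⟶ K` that kills `H` factors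
uniquely through `q`, and the factorisation is a homomorphism. -/
theorem result {S : Scheme.{u}} {H G Q K : Over S}
    [GrpObj H] [GrpObj G] [GrpObj Q] [GrpObj K]
    (i : H ⟶ G) [IsMonHom i] [Mono i] (hn : AlgGrp.IsNormalHom i)
    (q : G ⟶ Q) [IsMonHom q] (hq : RedSub.IsQuotient i q)
    (f : G ⟶ K) [IsMonHom f] (hf : i ≫ f = 1) :
    ∃! g : Q ⟶ K, q ≫ g = f ∧ IsMonHom g := by
  obtain ⟨h1, h2, h3, hpb⟩ := hq
  have hmh : ∀ {T : Over S} (a b : T ⟶ G), (a * b) ≫ f = (a ≫ f) * (b ≫ f) := fun a b => by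
    rw [Hom.mul_def, Category.assoc, IsMonHom.mul_hom, lift_map_assoc, Hom.mul_def]
  have hw : fst G H ≫ f = ((G ◁ i) ≫ μ[G]) ≫ f := by
    have : (G ◁ i) ≫ μ[G] = fst G H * (snd G H ≫ i) := by
      rw [Hom.mul_def, ← Category.id_comp ((G ◁ i) ≫ μ[G]), ← lift_fst_snd, lift_whiskerLeft_assoc]
    rw [this, hmh, Category.assoc, hf, MonObj.comp_one, _root_.mul_one]
  obtain ⟨g, hg⟩ := Groth.Agent.FppfEpi.exists_desc_over q f (fun T a b hab => by
    obtain ⟨l, ha, hb⟩ : ∃ l, l ≫ fst G H = a ∧ l ≫ ((G ◁ i) ≫ μ[G]) = b :=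
      ⟨hpb.lift a b hab, hpb.lift_fst a b hab, hpb.lift_snd a b hab⟩
    rw [← ha, ← hb, Category.assoc, hw]; simp only [Category.assoc])
  haveI : Epi q := Groth.Agent.FppfEpi.epi_over q
  haveI : Epi (q ⊗ₘ q) := by
    haveI : Flat (q ⊗ₘ q).left := by
      rw [CategoryTheory.Over.tensorHom_left]
      exact MorphismProperty.pullbackMap (P := @Flat) h2 h2 (Over.w q).symm (Over.w q).symm
    haveI : Surjective (q ⊗ₘ q).left := by
      rw [CategoryTheory.Over.tensorHom_left]
      exact MorphismProperty.pullbackMap (P := @Surjective) h1 h1 (Over.w q).symm (Over.w q).symm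
    haveI : LocallyOfFinitePresentation (q ⊗ₘ q).left := by
      rw [CategoryTheory.Over.tensorHom_left]
      exact MorphismProperty.pullbackMap (P := @LocallyOfFinitePresentation) h3 h3 (Over.w q).symm (Over.w q).symm
    exact Groth.Agent.FppfEpi.epi_over _
  refine ⟨g, ⟨hg, ⟨?_, ?_⟩⟩, fun g' hg' => by rw [← cancel_epi q, hg'.1, hg]⟩
  · rw [← IsMonHom.one_hom q, Category.assoc, hg, IsMonHom.one_hom f]
  · rw [← cancel_epi (q ⊗ₘ q), ← Category.assoc, ← IsMonHom.mul_hom q, Category.assoc, hg,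
      IsMonHom.mul_hom f, ← Category.assoc, tensorHom_comp_tensorHom, hg]

end Groth.Agent.S5237
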