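import Groth.Statements.S5242
import Groth.Agent.MultType.Torsion
-- import your own Groth.Agent.* helpers here

set_option autoImplicit false
universe u
open TensorProduct SGA3b
open SGA3b

namespace Groth.Agent.S5242

/-- Let G = Spec A be an R-group of multiplicative type and of finite type and n > 0 an integer. Then
the kernel ₙG = Spec (A/J) of the n-th power map of G, J being the ideal generated by the image of
the augmentation ideal under the n-th power endomorphism (a Hopf ideal; the instance hypothesis
holds automatically for this J), is an R-group of multiplicative type which is finite over R.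
(Affine group schemes over an affine base are taken in Hopf-algebra form; base change is the tensor
product; a homomorphism of groups Spec A ⟶ Spec C is a bialgebra map C → A.) -/
theorem result (R : Type u) [CommRing R] (A : Type u) [CommRing A] [HopfAlgebra R A]
    (hft : Algebra.FiniteType R A) (h : IsMultType R A) (n : ℕ) (hn : 0 < n)
    (J : Ideal A) [J.IsHopfIdeal R] (hJ : J = torsionIdeal R A n) :
    IsMultType R (A ⧸ J) ∧ Module.Finite R (A ⧸ J) := by
  haveI := hft
  refine ⟨?_, MultType.finite_quotient_torsion h hn J hJ⟩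
  obtain ⟨s, hs, hc⟩ := h
  refine ⟨s, hs, fun f hf => ?_⟩
  obtain ⟨R', _, _, hff, M, _, ⟨e⟩⟩ := hc f hf
  refine ⟨R', inferInstance, inferInstance, hff, M ⧸ (powMonoidHom n : M →* M).range, inferInstance, ?_⟩
  letI : Algebra R R' := ((algebraMap (Localization.Away f) R').comp (algebraMap R _)).toAlgebra
  haveI : IsScalarTower R (Localization.Away f) R' := IsScalarTower.of_algebraMap_eq fun _ => rfl
  let X := Localization.Away f ⊗[R] A
  let η : X →ₐ[Localization.Away f] MonoidAlgebra R' M :=
    ((e : R' ⊗[Localization.Away f] X →ₐ[R'] MonoidAlgebra R' M).restrictScalars (Localization.Away f)).comp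
      Algebra.TensorProduct.includeRight
  let θ : A →ₐ[R] MonoidAlgebra R' M := (η.restrictScalars R).comp Algebra.TensorProduct.includeRight
  have hη : MultType.Compat R' η := MultType.compat_includeRight.comp_bialgHom e.toBialgHom
  have hθc : MultType.Compat R' θ := MultType.compat_includeRight.comp hη
  have hspan : ∀ (T : Type u) [CommRing T] [Algebra R' T] (a b : MonoidAlgebra R' M →ₐ[R'] T),
      (∀ x, a (θ x) = b (θ x)) → a = b := by
    intro T _ _ a b hab
    refine AlgHom.ext fun y => ?_
    obtain ⟨z, rfl⟩ := e.toAlgEquiv.surjective y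
    induction z using TensorProduct.induction_on with
    | zero => simp
    | tmul c x =>
      induction x using TensorProduct.induction_on with
      | zero => simp
      | tmul r x =>
        have : c ⊗ₜ[Localization.Away f] (r ⊗ₜ[R] x) =
            (c * algebraMap _ R' r) • ((1 : R') ⊗ₜ[Localization.Away f] ((1 : Localization.Away f) ⊗ₜ[R] x)) := by
          rw [show r ⊗ₜ[R] x = r • ((1 : Localization.Away f) ⊗ₜ[R] x) by rw [TensorProduct.smul_tmul', smul_eq_mul, mul_one],
            ← TensorProduct.smul_tmul, TensorProduct.smul_tmul', smul_eq_mul, mul_one, Algebra.smul_def, mul_comm]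
        rw [this, map_smul, map_smul, map_smul, show e.toAlgEquiv ((1 : R') ⊗ₜ (1 ⊗ₜ x)) = θ x from rfl, hab]
      | add x y hx hy => rw [TensorProduct.tmul_add, map_add, map_add, map_add, hx, hy]
    | add x y hx hy => simp only [map_add, hx, hy]
  let q : R' ⊗[Localization.Away f] X →ₐc[R'] R' ⊗[Localization.Away f] (Localization.Away f ⊗[R] (A ⧸ J)) :=
    Bialgebra.TensorProduct.map (BialgHom.id R' R')
      (Bialgebra.TensorProduct.map (BialgHom.id (Localization.Away f) (Localization.Away f))
        (Bialgebra.Quotient.mkBialgHom J))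
  let π : MonoidAlgebra R' M →ₐc[R'] R' ⊗[Localization.Away f] (Localization.Away f ⊗[R] (A ⧸ J)) :=
    q.comp e.symm.toBialgHom
  have hπ : ∀ a, π (θ a) = (1 : R') ⊗ₜ[Localization.Away f] ((1 : Localization.Away f) ⊗ₜ[R] Ideal.Quotient.mk J a) :=
    fun a => by
      show q (e.symm (e _)) = _
      rw [e.symm_apply_apply]
      rfl
  let Q := R' ⊗[Localization.Away f] (Localization.Away f ⊗[R] (A ⧸ J))
  let πA : MonoidAlgebra R' M →ₐ[R'] Q := (π : MonoidAlgebra R' M →ₐ[R'] Q)
  have hJε : ∀ a, Ideal.Quotient.mk J (powConv R A n a) =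
      Ideal.Quotient.mk J (algebraMap R A (Coalgebra.counit a)) := fun a => by
    rw [Ideal.Quotient.eq, ← AlgHom.commutes (powConv R A n), ← map_sub, hJ]
    exact Ideal.mem_map_of_mem _ (by simp [RingHom.mem_ker])
  have hk : ∀ m : M, π (MonoidAlgebra.single (m ^ n) 1) = 1 := by
    intro m
    have he : πA.comp (MultType.powHom R' M n) =
        (Algebra.ofId R' Q).comp (Bialgebra.counitAlgHom R' (MonoidAlgebra R' M)) := hspan Q _ _ fun a => by
      simp only [AlgHom.comp_apply, BialgHom.coe_toAlgHom, ← MultType.map_powConv hθc, Bialgebra.counitAlgHom_apply,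
        hθc.counit, Algebra.ofId_apply, πA]
      rw [hπ, hJε, Ideal.Quotient.mk_algebraMap, IsScalarTower.algebraMap_apply R (Localization.Away f) R',
        Algebra.TensorProduct.algebraMap_apply (S := R'), Algebra.algebraMap_self_apply,
        ← Algebra.TensorProduct.tmul_one_eq_one_tmul, Algebra.algebraMap_eq_smul_one (R := Localization.Away f) (A := R'),
        Algebra.TensorProduct.one_def, TensorProduct.smul_tmul, TensorProduct.smul_tmul', smul_eq_mul, mul_one]
    simpa [MultType.powHom_single, πA] using AlgHom.congr_fun he (MonoidAlgebra.single m 1)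
  let ζ : M ⧸ (powMonoidHom n : M →* M).range →*
      R' ⊗[Localization.Away f] (Localization.Away f ⊗[R] (A ⧸ J)) :=
    QuotientGroup.lift _ ((πA : MonoidAlgebra R' M →* Q).comp (MonoidAlgebra.of R' M))
      (by rintro _ ⟨m, rfl⟩; simpa [πA] using hk m)
  have hζ : ∀ g, IsGroupLikeElem R' (ζ g) := fun g =>
    QuotientGroup.induction_on g fun m => (MonoidAlgebra.isGroupLikeElem_of m).map π
  let qd : MonoidAlgebra R' M →ₐ[R'] MonoidAlgebra R' (M ⧸ (powMonoidHom n : M →* M).range) :=
    MonoidAlgebra.mapDomainAlgHom R' R' (QuotientGroup.mk' _)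
  let lg : MonoidAlgebra R' (M ⧸ (powMonoidHom n : M →* M).range) →ₐc[R'] Q :=
    MultType.liftGroupLike (S := R') (Q := Q) ζ hζ
  have hfact : (lg : MonoidAlgebra R' (M ⧸ (powMonoidHom n : M →* M).range) →ₐ[R'] Q).comp qd = πA :=
    MonoidAlgebra.algHom_ext (fun m => by simp [qd, ζ, πA, lg]) (Subsingleton.elim _ _)
  have hkill : ∀ a ∈ J, ((qd.restrictScalars R).comp θ) a = 0 := by
    intro a ha
    suffices hle : J ≤ RingHom.ker ((qd.restrictScalars R).comp θ) from RingHom.mem_ker.1 (hle ha)
    rw [hJ, torsionIdeal, Ideal.map_le_iff_le_comap]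
    intro b hb
    rw [RingHom.mem_ker, Bialgebra.counitAlgHom_apply] at hb
    rw [Ideal.mem_comap, RingHom.mem_ker, AlgHom.comp_apply, AlgHom.restrictScalars_apply, MultType.map_powConv hθc]
    have hq : qd.comp (MultType.powHom R' M n) = (Algebra.ofId R' _).comp (Bialgebra.counitAlgHom R' _) :=
      MonoidAlgebra.algHom_ext (fun m => by
        have hm : ((m ^ n : M) : M ⧸ (powMonoidHom n : M →* M).range) = 1 :=
          (QuotientGroup.eq_one_iff _).2 ⟨m, rfl⟩
        simp [qd, MultType.powHom_single, hm, MonoidAlgebra.one_def]) (Subsingleton.elim _ _)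
    rw [← AlgHom.comp_apply, hq, AlgHom.comp_apply, Bialgebra.counitAlgHom_apply, hθc.counit, hb, map_zero, map_zero]
  let ψ : R' ⊗[Localization.Away f] (Localization.Away f ⊗[R] (A ⧸ J)) →ₐ[R']
      MonoidAlgebra R' (M ⧸ (powMonoidHom n : M →* M).range) :=
    MultType.liftAlg R' (MultType.liftAlg (Localization.Away f)
      (Ideal.Quotient.liftₐ J ((qd.restrictScalars R).comp θ) hkill))
  have hψ : ψ.comp πA = qd := hspan (MonoidAlgebra R' (M ⧸ (powMonoidHom n : M →* M).range)) _ _ fun a => by
    simp only [AlgHom.comp_apply, BialgHom.coe_toAlgHom, πA]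
    rw [hπ]
    simp [ψ, ← MonoidAlgebra.one_def]
    all_goals rfl
  refine ⟨(BialgEquiv.ofBijective lg ⟨?_, ?_⟩).symm⟩
  · refine Function.LeftInverse.injective (g := ψ) fun y => ?_
    induction y using MonoidAlgebra.induction_linear with
    | zero => simp
    | single g r =>
      induction g using QuotientGroup.induction_on with
      | H m =>
        have h1 := AlgHom.congr_fun hψ (MonoidAlgebra.single m r)
        rw [AlgHom.comp_apply, ← hfact, AlgHom.comp_apply] at h1
        simpa [qd, lg] using h1
    | add x y hx hy => rw [map_add, map_add, hx, hy]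
  · intro z
    induction z using TensorProduct.induction_on with
    | zero => exact ⟨0, map_zero _⟩
    | tmul c x =>
      induction x using TensorProduct.induction_on with
      | zero => exact ⟨0, by simp⟩
      | tmul r b =>
        obtain ⟨b, rfl⟩ := Ideal.Quotient.mk_surjective b
        have h1 : lg (qd (θ b)) = π (θ b) := AlgHom.congr_fun hfact (θ b)
        refine ⟨(c * algebraMap (Localization.Away f) R' r) • qd (θ b), ?_⟩
        rw [map_smul, h1, hπ, TensorProduct.smul_tmul', smul_eq_mul, mul_one, mul_comm, ← Algebra.smul_def,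
          TensorProduct.smul_tmul, TensorProduct.smul_tmul', smul_eq_mul, mul_one]
      | add x y hx hy =>
        obtain ⟨⟨u, hu⟩, ⟨v, hv⟩⟩ := hx, hy
        exact ⟨u + v, by rw [map_add, hu, hv, TensorProduct.tmul_add]⟩
    | add x y hx hy =>
      obtain ⟨⟨u, hu⟩, ⟨v, hv⟩⟩ := hx, hy
      exact ⟨u + v, by rw [map_add, hu, hv]⟩

end Groth.Agent.S5242
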