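import Groth.Statements.S5244
import Groth.Agent.MultType.Quot
-- import your own Groth.Agent.* helpers here

set_option autoImplicit false
universe u
open TensorProduct SGA3b
open SGA3b

namespace Groth.Agent.S5244

/-- Case of a group of multiplicative type, assertion on the subgroup; G is taken of finite type, the
case the printed proof treats in full before a limit argument: Let k be a field, G = Spec A a
k-group of multiplicative type and of finite type, and H = Spec (A/J) a closed subgroup scheme of G
(J a Hopf ideal). Then H is of multiplicative type. (Affine group schemes over an affine base are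
taken in Hopf-algebra form; base change is the tensor product; a homomorphism of groups Spec A ⟶
Spec C is a bialgebra map C → A.) -/
theorem result (k : Type u) [Field k] (A : Type u) [CommRing A] [HopfAlgebra k A]
    (hft : Algebra.FiniteType k A) (h : IsMultType k A) (J : Ideal A) [J.IsHopfIdeal k] :
    IsMultType k (A ⧸ J) := by
  obtain ⟨s, hs, hc⟩ := h
  obtain ⟨f, hf, hf0⟩ : ∃ f ∈ s, IsUnit f := by
    by_contra hcon
    apply top_ne_bot (α := Ideal k)
    rw [← hs, Ideal.span_eq_bot]
    exact fun x hx => by_contra fun h0 => hcon ⟨x, hx, isUnit_iff_ne_zero.2 h0⟩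
  refine ⟨{f}, Ideal.span_singleton_eq_top.2 hf0, fun f' hf' => ?_⟩
  rw [Set.mem_singleton_iff] at hf'
  subst hf'
  let X := Localization.Away f' ⊗[k] A
  obtain ⟨R', _, _, hff, M, _, ⟨e⟩⟩ := hc f' hf
  have hfld : IsField (Localization.Away f') :=
    MulEquiv.isField (Field.toIsField k) (IsLocalization.atUnits k (Submonoid.powers f')
      (S := Localization.Away f') (by rintro _ ⟨n, rfl⟩; exact hf0.pow n)).symm.toMulEquiv
  haveI : Nontrivial (Localization.Away f') := hfld.nontrivial
  haveI : Nontrivial R' := by
    by_contra hR'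
    haveI := not_nontrivial_iff_subsingleton.1 hR'
    have h0 : (1 : R') ⊗ₜ[Localization.Away f'] (1 : Localization.Away f') = 0 := by
      rw [Subsingleton.elim (1 : R') 0, TensorProduct.zero_tmul]
    exact one_ne_zero ((Module.FaithfullyFlat.one_tmul_eq_zero_iff (A := R') _ _ _).1 h0)
  obtain ⟨p, hp⟩ := Ideal.exists_maximal R'
  let K := R' ⧸ p
  letI : Field K := Ideal.Quotient.field p
  have hKff : Module.FaithfullyFlat (Localization.Away f') K := by
    letI := hfld.toField
    infer_instance
  refine ⟨K, inferInstance, inferInstance, hKff, ?_⟩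
  let q1 : X →ₐc[Localization.Away f'] Localization.Away f' ⊗[k] (A ⧸ J) :=
    Bialgebra.TensorProduct.map (BialgHom.id (Localization.Away f') (Localization.Away f'))
      (Bialgebra.Quotient.mkBialgHom J)
  let Q := K ⊗[Localization.Away f'] (Localization.Away f' ⊗[k] (A ⧸ J))
  let θ : X →ₐ[Localization.Away f'] Q :=
    ((Algebra.TensorProduct.includeRight : _ →ₐ[Localization.Away f'] Q).restrictScalars
      (Localization.Away f')).comp (q1 : X →ₐ[Localization.Away f'] _)
  have hθ : MultType.Compat (R := Localization.Away f') (A := X) K (B := Q) θ :=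
    (MultType.compat_bialgHom q1).comp MultType.compat_includeRight
  let L : R' ⊗[Localization.Away f'] X →ₐ[R'] Q := MultType.liftAlg (D := Q) R' θ
  have hL : MultType.Compat (R := R') (A := R' ⊗[Localization.Away f'] X) K (B := Q) L := hθ.liftAlg
  let ζ : M →* Q := (L : R' ⊗[Localization.Away f'] X →* Q).comp
    ((e.symm : MonoidAlgebra R' M →* R' ⊗[Localization.Away f'] X).comp (MonoidAlgebra.of R' M))
  refine MultType.isDiag_of_groupLike ζ
    (fun m => hL.isGroupLikeElem ((MonoidAlgebra.isGroupLikeElem_of m).map e.symm)) ?_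
  rw [eq_top_iff]
  rintro q -
  have hmem : ∀ y : MonoidAlgebra R' M, L (e.symm y) ∈ Submodule.span K (Set.range ζ) := by
    intro y
    induction y using MonoidAlgebra.induction_linear with
    | zero => simp
    | single m r =>
      have he : MonoidAlgebra.single m r = r • MonoidAlgebra.of R' M m := by simp
      rw [he, map_smul, map_smul, ← IsScalarTower.algebraMap_smul K r]
      exact Submodule.smul_mem _ _ (Submodule.subset_span ⟨m, rfl⟩)
    | add x y hx hy => rw [map_add, map_add]; exact add_mem hx hy
  induction q using TensorProduct.induction_on with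
  | zero => simp
  | tmul c b =>
    obtain ⟨x, hx⟩ : ∃ x : X, q1 x = b := by
      induction b using TensorProduct.induction_on with
      | zero => exact ⟨0, map_zero _⟩
      | tmul r a =>
        obtain ⟨a, rfl⟩ := Ideal.Quotient.mk_surjective a
        exact ⟨r ⊗ₜ a, rfl⟩
      | add x y hx hy =>
        obtain ⟨⟨u, rfl⟩, ⟨v, rfl⟩⟩ := hx, hy
        exact ⟨u + v, map_add _ _ _⟩
    rw [show c ⊗ₜ[Localization.Away f'] b = c • ((1 : K) ⊗ₜ b) by rw [TensorProduct.smul_tmul', smul_eq_mul, mul_one]]
    refine Submodule.smul_mem _ _ ?_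
    have := hmem (e ((1 : R') ⊗ₜ x))
    rwa [e.symm_apply_apply, show L ((1 : R') ⊗ₜ x) = (1 : K) ⊗ₜ q1 x by simp [L, θ]; exact _root_.one_mul ((1 : K) ⊗ₜ[Localization.Away f'] q1 x : Q), hx] at this
  | add x y hx hy => exact add_mem hx hy

end Groth.Agent.S5244
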