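import Groth.Statements.S5249
import Groth.Agent.FactLocus.Normalizing

set_option autoImplicit false
open CategoryTheory MonoidalCategory CartesianMonoidalCategory MonObj GrpObj AlgebraicGeometry
universe u
open SGA3x
open Groth.Agent.FactLocus

namespace Groth.Agent.S5249

/-- Let G be an S-group smooth and affine over S, i : H ⟶ G a subgroup scheme of multiplicative type (H
of multiplicative type and of finite type), j : Z ⟶ G the centralizer and k : N ⟶ G the normalizer
of H in G. Then Z ⟶ G factors through N by a morphism which is an open and closed immersion: the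
centralizer is an open and closed subgroup scheme of the normalizer. -/
theorem result {S : Scheme.{u}} (H G Z N : Over S) [GrpObj H] [GrpObj G] [GrpObj Z] [GrpObj N]
    (hH : SGA3x.IsMultTypeFT H) (hG : Smooth G.hom) (hGa : IsAffineHom G.hom) (i : H ⟶ G) [IsMonHom i] [Mono i]
    (j : Z ⟶ G) (k : N ⟶ G) (hj : Red.IsCentralizerOf i j) (hk : Red.IsNormalizerOf i k) :
    ∃ f : Z ⟶ N, f ≫ k = j ∧ IsOpenImmersion f.left ∧ IsClosedImmersion f.left := by
  obtain ⟨_, _, hZ⟩ := hj
  obtain ⟨_, _, hN⟩ := hk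
  have hzc : ∀ (X' : Over S) (x : X' ⟶ Z) (h : X' ⟶ H), (x ≫ j) * (h ≫ i) = (h ≫ i) * (x ≫ j) :=
    (hZ Z j).mp ⟨𝟙 Z, Category.id_comp j⟩
  obtain ⟨f, hf⟩ := (hN Z j).mpr fun X' x h =>
    ⟨⟨h, by rw [hzc X' x h, mul_inv_cancel_right]⟩, ⟨h, by rw [_root_.mul_assoc, ← hzc X' x h, inv_mul_cancel_left]⟩⟩
  obtain ⟨U, hUc, hU⟩ := exists_clopen_commLocus i hH k fun X' x h => ((hN N k).mp ⟨𝟙 N, Category.id_comp k⟩ X' x h).1
  have hfU : Set.range f.left ⊆ Set.range U.ι := by
    rw [Scheme.Opens.range_ι]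
    exact (hU Z f).mpr fun Y' x h => by rw [hf]; exact hzc Y' x h
  let V : Over S := Over.mk (U.ι ≫ N.hom)
  let k' : V ⟶ N := Over.homMk U.ι
  obtain ⟨z, hz⟩ := (hZ V (k' ≫ k)).mpr ((hU V k').mp (Scheme.Opens.range_ι U).le)
  have hzf : z ≫ f = k' := by rw [← cancel_mono k, Category.assoc, hf, hz]
  let f' : Z ⟶ V := Over.homMk (IsOpenImmersion.lift U.ι f.left hfU) (by
    show IsOpenImmersion.lift U.ι f.left hfU ≫ U.ι ≫ N.hom = Z.hom
    rw [IsOpenImmersion.lift_fac_assoc]
    exact Over.w f)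
  have hf' : f' ≫ k' = f := Over.OverMorphism.ext (IsOpenImmersion.lift_fac _ _ _)
  have h1 : f' ≫ z = 𝟙 Z := by
    rw [← cancel_mono j, Category.assoc, hz, ← Category.assoc, hf', hf, Category.id_comp]
  have h2 : z ≫ f' = 𝟙 V := by
    apply Over.OverMorphism.ext
    rw [← cancel_mono U.ι]
    have := congrArg CommaMorphism.left (show (z ≫ f') ≫ k' = k' by rw [Category.assoc, hf', hzf])
    simpa [k'] using this
  haveI : IsIso f'.left := ⟨z.left, congrArg CommaMorphism.left h1, congrArg CommaMorphism.left h2⟩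
  haveI : IsClosedImmersion U.ι := IsClosedImmersion.of_isPreimmersion _ (by rw [Scheme.Opens.range_ι]; exact hUc)
  refine ⟨f, hf, ?_, ?_⟩
  · rw [← hf']
    exact inferInstanceAs (IsOpenImmersion (f'.left ≫ U.ι))
  · rw [← hf']
    exact inferInstanceAs (IsClosedImmersion (f'.left ≫ U.ι))

end Groth.Agent.S5249
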