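import Groth.Statements.S5255
import Groth.Agent.FactLocus.FibreEqual
import Groth.Agent.CoeffLocus.Locus

set_option autoImplicit false
open CategoryTheory MonoidalCategory CartesianMonoidalCategory MonObj GrpObj AlgebraicGeometry
universe u
open SGA3x
open Groth.Agent.DiagAction Groth.Agent.FactLocus Groth.Agent.CentralDescent Groth.Agent.CoeffLocus

set_option backward.isDefEq.respectTransparency false

namespace Groth.Agent.S5255

/-- Let K be an S-group locally of finite type over S whose fibres are connected, and i : H ⟶ K a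
subgroup scheme of multiplicative type and of finite type which is normal in K. Then H is central in
K: for every S-scheme X, every X-point of K commutes with (the image of) every X-point of H. -/
theorem result {S : Scheme.{u}} (K H : Over S) [GrpObj K] [GrpObj H]
    [LocallyOfFiniteType K.hom] (hconn : ∀ s : S, ConnectedSpace ↥(Limits.pullback K.hom (S.fromSpecResidueField s)))
    (i : H ⟶ K) [IsMonHom i] [Mono i] (hH : SGA3x.IsMultTypeFT H) (hn : AlgGrp.IsNormalHom i) :
    ∀ (X : Over S) (k : X ⟶ K) (h : X ⟶ H), k * (h ≫ i) = (h ≫ i) * k := by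
  let t := K.hom
  let Hb := Red.bc t H
  let gY (Y : Over K.left) : (Over.map t).obj Y ⟶ K := Over.homMk Y.hom
  have hgY : ∀ (Y Y' : Over K.left) (a : Y ⟶ Y'), (Over.map t).map a ≫ gY Y' = gY Y := fun Y Y' a =>
    Over.OverMorphism.ext (Over.w a)
  obtain ⟨n', hn'⟩ := hn ((Over.map t).obj Hb) (gY Hb) (downP t (𝟙 Hb))
  let c : Hb ⟶ Hb := upP t n'
  have hpt : ∀ (Y : Over K.left) (a : Y ⟶ Hb), downP t (a ≫ c) ≫ i = gY Y * (downP t a ≫ i) * (gY Y)⁻¹ := by
    intro Y a
    rw [downP_comp, downP_upP, Category.assoc, ← hn']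
    simp only [MonObj.comp_mul, GrpObj.comp_inv, hgY]
    rw [← Category.assoc, ← downP_comp, Category.comp_id]
  haveI : IsMonHom c := isMonHom_of_mul c fun Y a b => by
    apply (Over.mapPullbackAdj t).homEquiv _ _ |>.symm.injective
    show downP t _ = downP t _
    rw [← cancel_mono i, hpt, downP_mul, downP_mul, MonObj.mul_comp, MonObj.mul_comp, hpt, hpt]
    group
  have hHb := Groth.Agent.CentralDescent.isMultTypeFT_bc t H hH
  haveI : IsMonHom (c * (𝟙 Hb)⁻¹) :=
    isMonHom_mul_inv (𝟙 Hb) c fun Y g h => mul_comm_points hHb _ _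
  haveI : IsAffineHom Hb.hom := isAffineHom_of_isMultTypeFT Hb hHb
  haveI : LocallyOfFinitePresentation Hb.hom := locallyOfFinitePresentation_of_isMultTypeFT Hb hHb
  obtain ⟨U, hUc, hU, hUt⟩ := exists_clopen_trivLocus Hb Hb hHb (Or.inr inferInstance) (c * (𝟙 Hb)⁻¹)
  let ε : S ⟶ K.left := (η[K]).left
  have hεt : ε ≫ t = 𝟙 S := Over.w η[K]
  have hεU : ∀ s : S, ε s ∈ U := by
    intro s
    let z : ↥(Spec (S.residueField s)) := IsLocalRing.closedPoint (S.residueField s)
    have hz : (S.fromSpecResidueField s ≫ ε) z = ε s := by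
      rw [Scheme.Hom.comp_apply, Scheme.fromSpecResidueField_apply]
    rw [hU, ← hz]
    refine (triv_residue_iff (u := c * (𝟙 Hb)⁻¹) (S.fromSpecResidueField s ≫ ε) z).mp ?_
    intro Y p h
    rw [MonObj.comp_mul, GrpObj.comp_inv, Category.comp_id, mul_inv_eq_one]
    apply (Over.mapPullbackAdj t).homEquiv _ _ |>.symm.injective
    show downP t _ = downP t _
    rw [← cancel_mono i, hpt]
    have h1 : gY Y = 1 := by
      apply Over.OverMorphism.ext
      rw [Hom.one_def]
      show Y.hom = (toUnit ((Over.map t).obj Y)).left ≫ ε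
      rw [show (toUnit ((Over.map t).obj Y)).left = Y.hom ≫ t from rfl, ← Over.w p]
      simp only [Over.mk_hom, Category.assoc, reassoc_of% hεt]
    rw [h1, _root_.one_mul, inv_one, _root_.mul_one]
  have huniv : ∀ x : K.left, x ∈ U := by
    intro x
    let π := S.fromSpecResidueField (t x)
    haveI := hconn (t x)
    have hfib : ∀ y : K.left, t y = t x → y ∈ Set.range (Limits.pullback.fst t π) := by
      intro y hy
      rw [Scheme.Pullback.range_fst, Scheme.range_fromSpecResidueField]
      exact hy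
    obtain ⟨w, hw⟩ := hfib (ε (t x)) (by rw [← Scheme.Hom.comp_apply, hεt]; rfl)
    obtain ⟨w', hw'⟩ := hfib x rfl
    have := (show IsClopen ((Limits.pullback.fst t π) ⁻¹' (U : Set K.left)) from
      IsClopen.preimage ⟨hUc, U.isOpen⟩ (Limits.pullback.fst t π).continuous).eq_univ
      ⟨w, by show Limits.pullback.fst t π w ∈ U; rw [hw]; exact hεU _⟩
    rw [← hw']
    exact this.ge (Set.mem_univ w')
  have hv : c * (𝟙 Hb)⁻¹ = 1 := by
    have := hUt Hb (Over.homMk (IsOpenImmersion.lift U.ι Hb.hom (by
      rintro _ ⟨y, rfl⟩; exact (Scheme.Opens.range_ι U).ge (huniv _))) (IsOpenImmersion.lift_fac _ _ _)) (𝟙 Hb)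
    rwa [Category.id_comp] at this
  have hc : c = 𝟙 Hb := mul_inv_eq_one.mp hv
  intro X k h
  let Y : Over K.left := Over.mk k.left
  let j : (Over.map t).obj Y ≅ X := Over.isoMk (Iso.refl _) (by simp [t, Y])
  have := hpt Y (upP t (j.hom ≫ h))
  rw [hc, Category.comp_id, downP_upP, show gY Y = j.hom ≫ k from Over.OverMorphism.ext (Category.id_comp _).symm,
    eq_mul_inv_iff_mul_eq] at this
  rw [← cancel_epi j.hom, MonObj.comp_mul, MonObj.comp_mul]
  simpa only [Category.assoc] using this.symm

end Groth.Agent.S5255
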