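import Groth.Statements.S5256
import Groth.Agent.FactLocus.FibreEqual

set_option autoImplicit false
open CategoryTheory MonoidalCategory CartesianMonoidalCategory MonObj GrpObj AlgebraicGeometry
universe u
open SGA3x
open Groth.Agent.DiagAction Groth.Agent.FactLocus Groth.Agent.CentralDescent

set_option backward.isDefEq.respectTransparency false

namespace Groth.Agent.S5256

/-- Let u : H ⟶ G be a homomorphism of S-groups, with H of multiplicative type and of finite type and G
of finite presentation over S (locally of finite presentation, quasi-compact and quasi-separated).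
If for every s ∈ S the homomorphism u_s : H_s ⟶ G_s induced on the fibres at s is central (every
point of G_s commutes with the image of every point of H_s), then u is central. -/
theorem result {S : Scheme.{u}} (H G : Over S) [GrpObj H] [GrpObj G]
    (hH : SGA3x.IsMultTypeFT H) [LocallyOfFinitePresentation G.hom] [QuasiCompact G.hom] [QuasiSeparated G.hom]
    (u : H ⟶ G) [IsMonHom u]
    (hfib : ∀ (s : S) (X : Over (Spec (S.residueField s))) (g : X ⟶ Red.bc (S.fromSpecResidueField s) G)
      (h : X ⟶ Red.bc (S.fromSpecResidueField s) H),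
      g * (h ≫ (Over.pullback (S.fromSpecResidueField s)).map u) = (h ≫ (Over.pullback (S.fromSpecResidueField s)).map u) * g) :
    ∀ (X : Over S) (g : X ⟶ G) (h : X ⟶ H), g * (h ≫ u) = (h ≫ u) * g := by
  intro X g h
  let t := X.hom
  let j : (Over.map t).obj (Over.mk (𝟙 X.left)) ≅ X := Over.isoMk (Iso.refl _) (by simp [t])
  let g₀ : 𝟙_ (Over X.left) ⟶ Red.bc t G := upP t (j.hom ≫ g)
  let ub := (Over.pullback t).map u
  let c : Red.bc t H ⟶ Red.bc t G := (toUnit _ ≫ g₀) * ub * (toUnit _ ≫ g₀)⁻¹
  have hcomp : ∀ (Y : Over X.left) (a : Y ⟶ Red.bc t H), a ≫ c = (toUnit _ ≫ g₀) * (a ≫ ub) * (toUnit _ ≫ g₀)⁻¹ := by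
    intro Y a
    simp only [c, MonObj.comp_mul, GrpObj.comp_inv]
    rw [← Category.assoc, toUnit_unique (a ≫ toUnit _) (toUnit Y)]
  haveI : IsMonHom c := isMonHom_of_mul c fun Y a b => by
    simp only [hcomp, MonObj.mul_comp]
    group
  haveI : LocallyOfFinitePresentation (Red.bc t G).hom :=
    inferInstanceAs (LocallyOfFinitePresentation (Limits.pullback.snd G.hom t))
  have hc : ∀ x : X.left, Cent ub (X.left.fromSpecResidueField x) ∧
      ∀ (Y : Over X.left) (_ : Y ⟶ Over.mk (X.left.fromSpecResidueField x)) (a : Y ⟶ Red.bc t H), a ≫ c = a ≫ ub := by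
    intro x
    have key : ∀ (Y : Over X.left) (_ : Y ⟶ Over.mk (X.left.fromSpecResidueField x)) (b : Y ⟶ Red.bc t G)
        (a : Y ⟶ Red.bc t H), b * (a ≫ ub) = (a ≫ ub) * b := by
      intro Y p b a
      apply (Over.mapPullbackAdj t).homEquiv _ _ |>.symm.injective
      show downP t _ = downP t _
      rw [downP_mul, downP_mul, downP_comp_map]
      refine cent_of_bc (i := u) (S.fromSpecResidueField (t x)) (hfib (t x)) _
        (Over.homMk (p.left ≫ Spec.map (t.residueFieldMap x)) ?_) _ _
      show (p.left ≫ Spec.map (t.residueFieldMap x)) ≫ S.fromSpecResidueField (t x) = Y.hom ≫ t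
      rw [Category.assoc, Scheme.Hom.SpecMap_residueFieldMap_fromSpecResidueField, ← Category.assoc]
      congr 1
      exact Over.w p
    refine ⟨key, fun Y p a => ?_⟩
    rw [hcomp, key Y p, mul_inv_cancel_right]
  have hu : ub = c := hom_eq_of_fibres (Groth.Agent.CentralDescent.isMultTypeFT_bc t H hH) ub c (fun x => (hc x).1)
    (fun x Y p a => ((hc x).2 Y p a).symm)
  have := congrArg (fun z => (upP t (j.hom ≫ h) : 𝟙_ (Over X.left) ⟶ Red.bc t H) ≫ z) hu
  simp only [hcomp] at this
  rw [toUnit_unique (toUnit _) (𝟙 _), Category.id_comp, eq_mul_inv_iff_mul_eq] at this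
  have := congrArg (downP t) this
  rw [downP_mul, downP_mul, downP_comp_map] at this
  erw [downP_upP, downP_upP] at this
  rw [← cancel_epi j.hom, MonObj.comp_mul, MonObj.comp_mul]
  simpa using this.symm

end Groth.Agent.S5256
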