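import Groth.Statements.S5259
import Groth.Agent.SubgroupWeil.Apps
import Groth.Agent.Transporter.Subgroup

set_option autoImplicit false
open CategoryTheory MonoidalCategory CartesianMonoidalCategory MonObj GrpObj AlgebraicGeometry
universe u
open SGA3x

namespace Groth.Agent.S5259

/-- Centralizer: Let G be an S-group locally of finite type and quasi-separated over S, H an S-group
which is smooth and of finite presentation over S with connected fibres, and i : H ⟶ G a
homomorphism which is a monomorphism. Then the centralizer of H in G is representable by a closed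
subgroup scheme of G whose immersion into G is of finite presentation. -/
theorem result {S : Scheme.{u}} (G H : Over S) [GrpObj G] [GrpObj H]
    [LocallyOfFiniteType G.hom] [QuasiSeparated G.hom] [Smooth H.hom] [QuasiCompact H.hom] [QuasiSeparated H.hom]
    (hconn : ∀ s : S, ConnectedSpace ↥(Limits.pullback H.hom (S.fromSpecResidueField s)))
    (i : H ⟶ G) [IsMonHom i] [Mono i] :
    ∃ (Z : Over S) (_ : GrpObj Z) (j : Z ⟶ G), Red.IsCentralizerOf i j ∧ IsClosedImmersion j.left ∧
      LocallyOfFinitePresentation j.left := by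
  haveI := SubgroupWeil.geometricallyConnected_of_fibres H hconn
  obtain ⟨Z, z, hz, hfp, hZ⟩ := SubgroupWeil.exists_closed_centralizer (G := G) i
  haveI := hz
  haveI : Mono z := Over.mono_of_mono_left z
  obtain ⟨I, hI⟩ := Transporter.exists_grpObj_of_closed z
    ((hZ _ 1).mpr fun X' x h => by rw [MonObj.comp_one, _root_.one_mul, _root_.mul_one])
    (fun X a b => (hZ X _).mpr fun X' x h => by
      rw [MonObj.comp_mul]
      exact ((show Commute (x ≫ a ≫ z) (h ≫ i) from (hZ X (a ≫ z)).mp ⟨a, rfl⟩ X' x h).mul_left
        ((hZ X (b ≫ z)).mp ⟨b, rfl⟩ X' x h)).eq)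
    (fun X a => (hZ X _).mpr fun X' x h => by
      rw [GrpObj.comp_inv]
      exact ((show Commute (x ≫ a ≫ z) (h ≫ i) from (hZ X (a ≫ z)).mp ⟨a, rfl⟩ X' x h).inv_left).eq)
  exact ⟨Z, I, z, ⟨hI, inferInstance, hZ⟩, hz, hfp⟩

end Groth.Agent.S5259
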