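import Groth.Statements.S5260
import Groth.Agent.SubgroupWeil.Apps
import Groth.Agent.Transporter.Subgroup

set_option autoImplicit false
open CategoryTheory MonoidalCategory CartesianMonoidalCategory MonObj GrpObj AlgebraicGeometry
universe u
open SGA3x

namespace Groth.Agent.S5260

/-- Normalizer: Let G be an S-group locally of finite type and quasi-separated over S, H an S-group
which is smooth and of finite presentation over S with connected fibres, and i : H ⟶ G a
homomorphism which is a monomorphism. Then the normalizer of H in G is representable by a closed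
subgroup scheme of G whose immersion into G is of finite presentation. -/
theorem result {S : Scheme.{u}} (G H : Over S) [GrpObj G] [GrpObj H]
    [LocallyOfFiniteType G.hom] [QuasiSeparated G.hom] [Smooth H.hom] [QuasiCompact H.hom] [QuasiSeparated H.hom]
    (hconn : ∀ s : S, ConnectedSpace ↥(Limits.pullback H.hom (S.fromSpecResidueField s)))
    (i : H ⟶ G) [IsMonHom i] [Mono i] :
    ∃ (N : Over S) (_ : GrpObj N) (j : N ⟶ G), Red.IsNormalizerOf i j ∧ IsClosedImmersion j.left ∧
      LocallyOfFinitePresentation j.left := by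
  haveI := SubgroupWeil.geometricallyConnected_of_fibres H hconn
  obtain ⟨N, n, hn, hfp, hN⟩ := SubgroupWeil.exists_closed_normalizer (G := G) i
  haveI := hn
  haveI : Mono n := Over.mono_of_mono_left n
  obtain ⟨I, hI⟩ := Transporter.exists_grpObj_of_closed n
    ((hN _ 1).mpr fun X' x a => by
      rw [MonObj.comp_one]
      exact ⟨⟨a, by simp⟩, ⟨a, by simp⟩⟩)
    (fun X p q => (hN X _).mpr fun X' x a => by
      have hp := (hN X (p ≫ n)).mp ⟨p, rfl⟩ X' x
      have hq := (hN X (q ≫ n)).mp ⟨q, rfl⟩ X' x
      obtain ⟨b, hb⟩ := (hq a).1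
      obtain ⟨c, hc⟩ := (hp b).1
      obtain ⟨d, hd⟩ := (hp a).2
      obtain ⟨e, he⟩ := (hq d).2
      simp only [MonObj.comp_mul, _root_.mul_inv_rev]
      refine ⟨⟨c, ?_⟩, ⟨e, ?_⟩⟩
      · rw [← hc, ← hb]; group
      · rw [← he, ← hd]; group)
    (fun X p => (hN X _).mpr fun X' x a => by
      have hp := (hN X (p ≫ n)).mp ⟨p, rfl⟩ X' x
      simp only [GrpObj.comp_inv, _root_.inv_inv]
      exact ⟨(hp a).2, (hp a).1⟩)
  exact ⟨N, I, n, ⟨hI, inferInstance, hN⟩, hn, hfp⟩

end Groth.Agent.S5260
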