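import Groth.Statements.S5270
import Groth.Agent.MultType.Coord
import Mathlib.RingTheory.Filtration
import Mathlib.RingTheory.AdicCompletion.Basic
-- import your own Groth.Agent.* helpers here

set_option autoImplicit false
universe u
open TensorProduct SGA3b
open SGA3b

namespace Groth.Agent.S5270

/-- Injectivity of the map to formal homomorphisms. Let A be a Noetherian ring, separated and complete
for the I-adic topology, H = Spec B an isotrivial A-group of multiplicative type and G = Spec C an
affine A-group. If two homomorphisms H ⟶ G, given by bialgebra maps φ, ψ : C → B, have the same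
reduction modulo I^(n+1) for every n ≥ 0, then φ = ψ. (Affine group schemes over an affine base are
taken in Hopf-algebra form; base change is the tensor product; a homomorphism of groups Spec A ⟶
Spec C is a bialgebra map C → A.) -/
theorem result (A : Type u) [CommRing A] [IsNoetherianRing A] (I : Ideal A) [IsAdicComplete I A]
    (B : Type u) [CommRing B] [HopfAlgebra A B] (hH : IsIsotrivial A B)
    (C : Type u) [CommRing C] [HopfAlgebra A C] (φ ψ : C →ₐc[A] B)
    (h : ∀ (n : ℕ) (c : C), (1 : A ⧸ I ^ (n + 1)) ⊗ₜ[A] (φ c) = (1 : A ⧸ I ^ (n + 1)) ⊗ₜ[A] (ψ c)) :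
    φ = ψ := by
  obtain ⟨R', _, _, -, hfin, hff, M, _, ⟨e⟩⟩ := hH
  refine BialgHom.ext fun c => sub_eq_zero.1 ?_
  refine (Module.FaithfullyFlat.one_tmul_eq_zero_iff (R := A) (A := R') B (φ c - ψ c)).1 ?_
  apply e.injective
  rw [map_zero]
  let θ : B →ₐ[A] MonoidAlgebra R' M :=
    ((e.toBialgHom : R' ⊗[A] B →ₐ[R'] MonoidAlgebra R' M).restrictScalars A).comp Algebra.TensorProduct.includeRight
  show θ (φ c - ψ c) = 0
  haveI : IsNoetherianRing R' := IsNoetherianRing.of_finite A R'
  have hjac : Ideal.map (algebraMap A R') I ≤ Ideal.jacobson ⊥ := by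
    refine le_sInf fun m hm => ?_
    haveI := hm.2
    haveI : Algebra.IsIntegral A R' := Algebra.IsIntegral.of_finite A R'
    haveI := Ideal.isMaximal_comap_of_isIntegral_of_isMaximal (R := A) m
    exact Ideal.map_le_iff_le_comap.2 ((IsAdicComplete.le_jacobson_bot I).trans (sInf_le ⟨bot_le, inferInstance⟩))
  refine MonoidAlgebra.coeff_injective (Finsupp.ext fun m => ?_)
  have h1 : (θ (φ c - ψ c)).coeff m ∈ ⨅ n : ℕ, (Ideal.map (algebraMap A R') I) ^ n • (⊤ : Submodule R' R') := by
    refine Submodule.mem_iInf _ |>.2 fun n => ?_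
    rw [smul_eq_mul, Ideal.mul_top]
    refine Ideal.pow_le_pow_right (Nat.le_succ n) ?_
    rw [← Ideal.map_pow]
    exact MultType.mem_coefIdeal.1 (MultType.map_mem_coefIdeal θ _ (MultType.sub_mem_of_tmul_eq _ (h n c))) m
  rw [Ideal.iInf_pow_smul_eq_bot_of_le_jacobson _ hjac, Submodule.mem_bot] at h1
  simpa using h1

end Groth.Agent.S5270
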