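import Groth.Statements.S5274
import Groth.Agent.ConstLocus.Main

set_option autoImplicit false
open CategoryTheory MonoidalCategory CartesianMonoidalCategory MonObj GrpObj AlgebraicGeometry
universe u
open SGA3x
open Groth.Agent.ConstLocus

set_option backward.isDefEq.respectTransparency false

namespace Groth.Agent.S5274

/-- Let u : G ⟶ H be a homomorphism of S-groups of multiplicative type and of finite type. Then the set
U of points s ∈ S such that u_s : G_s ⟶ H_s is a monomorphism is open and closed in S, and the
homomorphism G|_U ⟶ H|_U induced above U is a monomorphism. -/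
theorem result {S : Scheme.{u}} (G H : Over S) [GrpObj G] [GrpObj H]
    (hG : SGA3x.IsMultTypeFT G) (hH : SGA3x.IsMultTypeFT H) (u : G ⟶ H) [IsMonHom u] :
    ∃ U : S.Opens, IsClosed (U : Set S) ∧
      (∀ s : S, s ∈ U ↔ Mono ((Over.pullback (S.fromSpecResidueField s)).map u).left) ∧
      Mono ((Over.pullback U.ι).map u).left := by
  refine exists_clopen_locus (MorphismProperty.monomorphisms Scheme.{u})
    (fun {X' X Y' Y} a f' f b sq hb hb' (hm : Mono f') => ?_) (fun {N M} _ _ φ => Function.Surjective φ)
    (fun φ A _ h => mono_of_surjective φ h) (fun φ A _ _ h => surjective_of_mono φ h) hG hH u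
  refine ⟨fun {W} g h hgh => ?_⟩
  haveI : Epi (Limits.pullback.fst (g ≫ f) b) := Flat.epi_of_flat_of_surjective _
  rw [← cancel_epi (Limits.pullback.fst (g ≫ f) b)]
  let l₁ := sq.lift (Limits.pullback.fst (g ≫ f) b ≫ g) (Limits.pullback.snd (g ≫ f) b) (by
    rw [Category.assoc, Limits.pullback.condition])
  let l₂ := sq.lift (Limits.pullback.fst (g ≫ f) b ≫ h) (Limits.pullback.snd (g ≫ f) b) (by
    rw [Category.assoc, ← hgh, Limits.pullback.condition])
  have e : l₁ = l₂ := (cancel_mono f').mp (by rw [sq.lift_snd, sq.lift_snd])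
  have := congrArg (· ≫ a) e
  simpa [l₁, l₂] using this

end Groth.Agent.S5274
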