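import Groth.Statements.S5276
import Groth.Agent.ConstLocus.Main

set_option autoImplicit false
open CategoryTheory MonoidalCategory CartesianMonoidalCategory MonObj GrpObj AlgebraicGeometry
universe u
open SGA3x
open Groth.Agent.ConstLocus

set_option backward.isDefEq.respectTransparency false

namespace Groth.Agent.S5276

/-- Case 'faithfully flat (flat and surjective)': Let u : G ⟶ H be a homomorphism of S-groups of
multiplicative type and of finite type. Then the set U of points s ∈ S such that u_s : G_s ⟶ H_s is
faithfully flat (flat and surjective) is open and closed in S, and the homomorphism G|_U ⟶ H|_U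
induced above U is faithfully flat (flat and surjective). -/
theorem result {S : Scheme.{u}} (G H : Over S) [GrpObj G] [GrpObj H]
    (hG : SGA3x.IsMultTypeFT G) (hH : SGA3x.IsMultTypeFT H) (u : G ⟶ H) [IsMonHom u] :
    ∃ U : S.Opens, IsClosed (U : Set S) ∧
      (∀ s : S, s ∈ U ↔ (Flat ((Over.pullback (S.fromSpecResidueField s)).map u).left ∧ Surjective ((Over.pullback (S.fromSpecResidueField s)).map u).left)) ∧
      (Flat ((Over.pullback U.ι).map u).left ∧ Surjective ((Over.pullback U.ι).map u).left) := by
  refine exists_clopen_locus (@Flat ⊓ @Surjective : MorphismProperty Scheme.{u})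
    (fun {X' X Y' Y} a f' f b sq hb hb' ⟨hf1, hf2⟩ => ?_) (fun {N M} _ _ φ => Function.Injective φ)
    (fun φ A _ h => flat_surjective_of_injective φ h) (fun φ A _ _ h => injective_of_flat_surjective φ h.1 h.2) hG hH u
  haveI := hf1
  haveI := hf2
  haveI := hb
  haveI := hb'
  haveI : Flat a := MorphismProperty.of_isPullback sq.flip (P := @Flat) hb
  haveI : Surjective a := MorphismProperty.of_isPullback sq.flip (P := @Surjective) hb'
  haveI : Flat (a ≫ f) := by rw [sq.w]; infer_instance
  haveI : Surjective (a ≫ f) := by rw [sq.w]; infer_instance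
  exact ⟨Groth.Agent.SourceDescent.flat_of_comp a f, Surjective.of_comp a f⟩

end Groth.Agent.S5276
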