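import Groth.Statements.S5275
import Groth.Agent.S5274
import Groth.Agent.S5276
import Groth.Agent.FactLocus.Lfp
import Groth.Agent.FibrewiseCrit.Basic

set_option autoImplicit false
open CategoryTheory MonoidalCategory CartesianMonoidalCategory MonObj GrpObj AlgebraicGeometry
universe u
open SGA3x
open Groth.Agent.ConstLocus

set_option backward.isDefEq.respectTransparency false

namespace Groth.Agent.S5275

/-- Let u : G ⟶ H be a homomorphism of S-groups of multiplicative type and of finite type. Then the set
U of points s ∈ S such that u_s : G_s ⟶ H_s is an isomorphism is open and closed in S, and the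
homomorphism G|_U ⟶ H|_U induced above U is an isomorphism. -/
theorem result {S : Scheme.{u}} (G H : Over S) [GrpObj G] [GrpObj H]
    (hG : SGA3x.IsMultTypeFT G) (hH : SGA3x.IsMultTypeFT H) (u : G ⟶ H) [IsMonHom u] :
    ∃ U : S.Opens, IsClosed (U : Set S) ∧
      (∀ s : S, s ∈ U ↔ IsIso ((Over.pullback (S.fromSpecResidueField s)).map u).left) ∧
      IsIso ((Over.pullback U.ι).map u).left := by
  obtain ⟨U₁, h₁c, h₁, h₁U⟩ := Groth.Agent.S5274.result G H hG hH u
  obtain ⟨U₂, h₂c, h₂, h₂U⟩ := Groth.Agent.S5276.result G H hG hH u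
  haveI := Groth.Agent.FactLocus.locallyOfFinitePresentation_of_isMultTypeFT G hG
  haveI := Groth.Agent.FactLocus.locallyOfFinitePresentation_of_isMultTypeFT H hH
  haveI : LocallyOfFinitePresentation u.left :=
    FibrewiseCrit.locallyOfFinitePresentation_of_comp u.left H.hom (by rw [Over.w u]; infer_instance) inferInstance
  have key : ∀ {T : Scheme.{u}} (t : T ⟶ S), IsIso ((Over.pullback t).map u).left ↔
      Mono ((Over.pullback t).map u).left ∧
        (Flat ((Over.pullback t).map u).left ∧ Surjective ((Over.pullback t).map u).left) := by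
    intro T t
    refine ⟨fun h => ⟨inferInstance, inferInstance, inferInstance⟩, fun ⟨hm, hf, hs⟩ => ?_⟩
    haveI : LocallyOfFinitePresentation ((Over.pullback t).map u).left :=
      MorphismProperty.of_isPullback (P := @LocallyOfFinitePresentation) (isPullback_map t u) inferInstance
    haveI := IsOpenImmersion.of_flat_of_mono ((Over.pullback t).map u).left
    haveI : Epi ((Over.pullback t).map u).left.base :=
      (TopCat.epi_iff_surjective _).mpr ((Over.pullback t).map u).left.surjective
    exact IsOpenImmersion.isIso _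
  refine ⟨U₁ ⊓ U₂, h₁c.inter h₂c, fun s => ?_, ?_⟩
  · rw [key, ← h₁, ← h₂]
    rfl
  · rw [key]
    let j₁ := S.homOfLE (inf_le_left : U₁ ⊓ U₂ ≤ U₁)
    let j₂ := S.homOfLE (inf_le_right : U₁ ⊓ U₂ ≤ U₂)
    have e₁ := (map_map_iff (MorphismProperty.monomorphisms Scheme.{u}) j₁ U₁.ι u).mpr
      (MorphismProperty.of_isPullback (P := MorphismProperty.monomorphisms Scheme.{u}) (isPullback_map j₁ _) h₁U)
    have e₂ := (map_map_iff (@Flat ⊓ @Surjective : MorphismProperty Scheme.{u}) j₂ U₂.ι u).mpr
      (MorphismProperty.of_isPullback (P := (@Flat ⊓ @Surjective : MorphismProperty Scheme.{u})) (isPullback_map j₂ _) h₂U)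
    rw [Scheme.homOfLE_ι] at e₁ e₂
    exact ⟨e₁, e₂⟩

end Groth.Agent.S5275
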