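import Groth.Statements.S5278
import Mathlib
-- import your own Groth.Agent.* helpers here

set_option autoImplicit false
open CategoryTheory AlgebraicGeometry
universe u
open SGA3x

namespace Groth.Agent.S5278

/-- Let X be a connected scheme, f : X' ⟶ X a finite etale morphism and x a point of X. Then every
connected component of X' meets the fibre of f over x; equivalently the map from the connected
components of the fibre (or of the geometric fibre) to those of X' is surjective. -/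
theorem result {X X' : Scheme.{u}} [ConnectedSpace X] (f : X' ⟶ X)
    [IsFinite f] [Etale f] (x : X) (c : X') :
    ∃ x' : X', f.base x' = x ∧ x' ∈ connectedComponent c := by
  have hF : (f ⁻¹' {x}).Finite := f.finite_preimage_singleton x
  have hmeet : ∀ C : Set X', IsClopen C → C.Nonempty → (C ∩ f ⁻¹' {x}).Nonempty := fun C hC hne => by
    have himg : IsClopen (f '' C) := ⟨f.isClosedMap _ hC.isClosed, f.isOpenMap _ hC.isOpen⟩
    have huniv : f '' C = Set.univ := himg.eq_univ (hne.image f)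
    obtain ⟨x', hx', hx'x⟩ := (huniv ▸ Set.mem_univ x : x ∈ f '' C)
    exact ⟨x', hx', hx'x⟩
  let S : Set ℕ := {n | ∃ C : Set X', IsClopen C ∧ c ∈ C ∧ (C ∩ f ⁻¹' {x}).ncard = n}
  have hS : S.Nonempty := ⟨_, Set.univ, isClopen_univ, trivial, rfl⟩
  obtain ⟨C, hC, hcC, hn⟩ := Nat.sInf_mem hS
  have hpre : _root_.IsPreconnected C := by
    intro u v hu hv hCuv hCu hCv
    by_contra hne
    rw [Set.not_nonempty_iff_eq_empty] at hne
    have hd : ∀ z ∈ C, ¬ (z ∈ u ∧ z ∈ v) := fun z hz h => by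
      have : z ∈ C ∩ (u ∩ v) := ⟨hz, h⟩
      rw [hne] at this; exact this
    have key : ∀ a b : Set X', IsOpen a → IsOpen b → C ⊆ a ∪ b → (C ∩ b).Nonempty →
        (∀ z ∈ C, ¬ (z ∈ a ∧ z ∈ b)) → c ∈ a → False := fun a b ha hb hab hCb hdab hca => by
      have h1 : C ∩ a = C ∩ bᶜ := by
        ext z; constructor
        · exact fun hz => ⟨hz.1, fun h => hdab z hz.1 ⟨hz.2, h⟩⟩
        · exact fun hz => ⟨hz.1, (hab hz.1).resolve_right hz.2⟩
      have h2 : IsClopen (C ∩ a) := ⟨h1 ▸ hC.isClosed.inter hb.isClosed_compl, hC.isOpen.inter ha⟩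
      have h3 : IsClopen (C ∩ b) := by
        refine ⟨?_, hC.isOpen.inter hb⟩
        have : C ∩ b = C ∩ aᶜ := by
          ext z; constructor
          · exact fun hz => ⟨hz.1, fun h => hdab z hz.1 ⟨h, hz.2⟩⟩
          · exact fun hz => ⟨hz.1, (hab hz.1).resolve_left hz.2⟩
        exact this ▸ hC.isClosed.inter ha.isClosed_compl
      obtain ⟨z, hz, hzx⟩ := hmeet _ h3 hCb
      have hlt : ((C ∩ a) ∩ f ⁻¹' {x}).ncard < (C ∩ f ⁻¹' {x}).ncard := by
        refine Set.ncard_lt_ncard ⟨fun w hw => ⟨hw.1.1, hw.2⟩, fun h => ?_⟩ (hF.inter_of_right C)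
        exact hdab z hz.1 ⟨(h ⟨hz.1, hzx⟩).1.2, hz.2⟩
      have := Nat.sInf_le (s := S) ⟨C ∩ a, h2, ⟨hcC, hca⟩, rfl⟩
      omega
    rcases hCuv hcC with h | h
    · exact key u v hu hv hCuv hCv hd h
    · exact key v u hv hu (Set.union_comm u v ▸ hCuv) hCu (fun z hz hh => hd z hz ⟨hh.2, hh.1⟩) h
  obtain ⟨x', hx', hx'x⟩ := hmeet C hC ⟨c, hcC⟩
  exact ⟨x', hx'x, hpre.subset_connectedComponent hcC hx'⟩

end Groth.Agent.S5278
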