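import Groth.Statements.S5284
import Groth.Agent.DiagAction.FreeScheme
import Groth.Agent.DiagAction.CentralSubgroup

set_option autoImplicit false
open CategoryTheory Limits MonoidalCategory CartesianMonoidalCategory MonObj GrpObj AlgebraicGeometry
universe u
open SGA3x

namespace Groth.Agent.S5284

/-- Let G be an S-group of multiplicative type (fpqc-locally on S isomorphic, as a group, to
diagonalisable groups D(M), M allowed to vary and taken in Type 0) acting on an S-scheme X which is
affine over S, the action being free (a point g of G fixing a point x of X is the unit). Then the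
graph morphism G ×_S X ⟶ X ×_S X, (g, x) ↦ (g·x, x), is a closed immersion; and for every section σ
of X over S the orbit morphism G ⟶ X, g ↦ g·σ, is a closed immersion. -/
theorem result {S : Scheme.{u}} (G X : Over S) [GrpObj G]
    (hG : TwC.Locally S TwC.Topology.fpqc (fun S' f => ∃ (M : Type) (_ : AddCommGroup M), Nonempty (Grp.mk (Red.bc f G) ≅ Grp.mk (Red.DS S' M)))) (hX : IsAffineHom X.hom) (a : AlgGrp.Action G X)
    (hfree : ∀ (Y : Over S) (g : Y ⟶ G) (x : Y ⟶ X), lift g x ≫ a.act = x → g = 1) :
    IsClosedImmersion (lift a.act (snd G X)).left ∧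
      ∀ σ : 𝟙_ (Over S) ⟶ X, IsClosedImmersion (a.orbitMap σ).left := by
  obtain ⟨S', f, _, _, hcov, hloc⟩ := hG
  let gr : G ⊗ X ⟶ X ⊗ X := lift a.act (snd G X)
  haveI hgr : IsClosedImmersion gr.left := by
    refine DiagAction.isClosedImmersion_of_local gr f hcov fun s' => ?_
    obtain ⟨U, hsU, M, _, hE⟩ := hloc s'
    obtain ⟨_, ⟨V, hV, rfl⟩, hsV, hVU⟩ := S'.isBasis_affineOpens.exists_subset_of_mem_open
      (show s' ∈ (U : Set S') from hsU) U.isOpen
    replace hV : IsAffineOpen V := hV
    refine ⟨Γ(S', V), inferInstance, hV.fromSpec, inferInstance, hV.range_fromSpec.ge hsV, ?_⟩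
    let v := hV.fromSpec ≫ f
    let j : Spec (CommRingCat.of Γ(S', V)) ⟶ U := IsOpenImmersion.lift U.ι hV.fromSpec (by
      intro z hz; exact (Scheme.Opens.range_ι U).ge (hVU (hV.range_fromSpec.le hz)))
    have hj : j ≫ U.ι ≫ f = v := by rw [← Category.assoc, IsOpenImmersion.lift_fac]
    have he := DiagAction.exists_chart_affine j (U.ι ≫ f) v hj G hE
    let L : DiagAction.LocalAction (Red.bc v G) (Red.bc v X) :=
      { act := DiagAction.actV a v, comp := DiagAction.comp_actV a v, one := DiagAction.actV_one a v,
        mul := DiagAction.actV_mul a v }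
    haveI : IsAffine (Red.bc v X).left :=
      @isAffine_of_isAffineHom _ _ (pullback.snd X.hom v) (MorphismProperty.pullback_snd _ _ hX) inferInstance
    have hfreeV : ∀ {Z : Over (Spec (CommRingCat.of Γ(S', V)))} (g : Z ⟶ Red.bc v G) (x : Z ⟶ Red.bc v X),
        L.act g x = x → g = 1 := by
      intro Z g x h
      have h1 := congrArg (DiagAction.downP v) h
      simp only [L, DiagAction.actV, DiagAction.downP_upP] at h1
      have h2 := hfree _ _ _ h1
      rw [← DiagAction.upP_downP v g, h2]
      have h3 := congrArg (DiagAction.upP v) (DiagAction.downP_one v (Y := G) (Z := Z))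
      rwa [DiagAction.upP_downP, eq_comm] at h3
    have hloc' := DiagAction.isClosedImmersion_graph_local L he hfreeV
    let pG := (Over.pullback v).map (fst G X)
    let pX := (Over.pullback v).map (snd G X)
    let δ : Red.bc v (G ⊗ X) ⟶ Red.bc v G ⊗ Red.bc v X := lift pG pX
    let δ' : Red.bc v (X ⊗ X) ⟶ Red.bc v X ⊗ Red.bc v X :=
      lift ((Over.pullback v).map (fst X X)) ((Over.pullback v).map (snd X X))
    haveI : IsIso δ := inferInstanceAs (IsIso (CartesianMonoidalCategory.prodComparison (Over.pullback v) G X))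
    haveI : IsIso δ' := inferInstanceAs (IsIso (CartesianMonoidalCategory.prodComparison (Over.pullback v) X X))
    have hd : ∀ {Y Y' : Over S} (u : Y ⟶ Y'),
        DiagAction.downP v ((Over.pullback v).map u) = DiagAction.downP v (𝟙 (Red.bc v Y)) ≫ u := fun u => by
      rw [← DiagAction.downP_comp_map, Category.id_comp]
    have hact : DiagAction.actV a v pG pX = (Over.pullback v).map a.act := by
      rw [← DiagAction.upP_downP v ((Over.pullback v).map a.act), DiagAction.actV, hd, hd, hd, DiagAction.actT,
        ← comp_lift, lift_fst_snd, Category.comp_id]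
    have key : (Over.pullback v).map gr ≫ δ' = δ ≫ lift (L.act (fst _ _) (snd _ _)) (snd _ _) := by
      simp only [δ, δ', comp_lift, ← Functor.map_comp, gr, lift_fst, lift_snd]
      rw [L.comp, lift_fst, lift_snd, show L.act pG pX = (Over.pullback v).map a.act from hact]
    rw [← (IsIso.comp_inv_eq δ').mpr key.symm, Over.comp_left, Over.comp_left]
    haveI := hloc'
    haveI : IsIso δ.left := (Over.forget _).map_isIso δ
    haveI : IsIso (CategoryTheory.inv δ').left := (Over.forget _).map_isIso (CategoryTheory.inv δ')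
    exact (MorphismProperty.cancel_right_of_respectsIso @IsClosedImmersion _ _).mpr
      ((MorphismProperty.cancel_left_of_respectsIso @IsClosedImmersion _ _).mpr hloc')
  refine ⟨hgr, fun σ => ?_⟩
  haveI : IsSeparated X.hom := inferInstance
  have hsec : ∀ (Y : Over S) (b : Y ⟶ X), IsClosedImmersion (lift (𝟙 Y) b).left := fun Y b => by
    have h : (lift (𝟙 Y) b).left ≫ (fst Y X).left = 𝟙 _ := by rw [← Over.comp_left, lift_fst, Over.id_left]
    haveI : IsSeparated (fst Y X).left := inferInstanceAs (IsSeparated (pullback.fst Y.hom X.hom))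
    haveI : IsClosedImmersion ((lift (𝟙 Y) b).left ≫ (fst Y X).left) := by rw [h]; infer_instance
    exact IsClosedImmersion.of_comp _ (fst Y X).left
  have he : lift (𝟙 G) (toUnit G ≫ σ) ≫ gr = a.orbitMap σ ≫ lift (𝟙 X) (toUnit X ≫ σ) := by
    simp only [gr, comp_lift, AlgGrp.Action.orbitMap, lift_snd, Category.comp_id]
    congr 1
    rw [← Category.assoc, toUnit_unique (_ ≫ toUnit X) (toUnit G)]
  haveI := hsec G (toUnit G ≫ σ)
  haveI : IsClosedImmersion ((a.orbitMap σ).left ≫ (lift (𝟙 X) (toUnit X ≫ σ)).left) := by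
    rw [← Over.comp_left, ← he, Over.comp_left]; infer_instance
  exact IsClosedImmersion.of_comp _ (lift (𝟙 X) (toUnit X ≫ σ)).left

end Groth.Agent.S5284
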