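import Groth.Statements.S5287
import Groth.Agent.Transporter.LandBasic

set_option autoImplicit false
open CategoryTheory MonoidalCategory CartesianMonoidalCategory MonObj GrpObj AlgebraicGeometry
universe u
open SGA3x
open Groth.Agent.Transporter Groth.Agent.DiagAction Groth.Agent.CentralDescent

set_option backward.isDefEq.respectTransparency false

namespace Groth.Agent.S5287

/-- Let G be an S-group smooth and affine over S and i₁ : H₁ ⟶ G, i₂ : H₂ ⟶ G two subgroup schemes of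
multiplicative type (and of finite type). Then the transporter of H₁ into H₂, the subfunctor of G
whose X-points are the g with int(g)(H₁) = H₂ after every base change X' ⟶ X (g H₁ g⁻¹ ⊆ H₂ and g⁻¹
H₂ g ⊆ H₁ on points), is representable by a closed subscheme of G which is smooth over S. -/
theorem result {S : Scheme.{u}} (H₁ H₂ G : Over S) [GrpObj H₁] [GrpObj H₂] [GrpObj G]
    (hH₁ : SGA3x.IsMultTypeFT H₁) (hH₂ : SGA3x.IsMultTypeFT H₂) (hG : Smooth G.hom) (hGa : IsAffineHom G.hom)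
    (i₁ : H₁ ⟶ G) [IsMonHom i₁] [Mono i₁] (i₂ : H₂ ⟶ G) [IsMonHom i₂] [Mono i₂] :
    ∃ (T : Over S) (j : T ⟶ G), IsClosedImmersion j.left ∧ Smooth T.hom ∧
      ∀ (X : Over S) (g : X ⟶ G), (∃ t : X ⟶ T, t ≫ j = g) ↔
        ∀ (X' : Over S) (x : X' ⟶ X),
          (∀ h₁ : X' ⟶ H₁, ∃ h₂ : X' ⟶ H₂, (x ≫ g) * (h₁ ≫ i₁) * (x ≫ g)⁻¹ = h₂ ≫ i₂) ∧
          (∀ h₂ : X' ⟶ H₂, ∃ h₁ : X' ⟶ H₁, (x ≫ g)⁻¹ * (h₂ ≫ i₂) * (x ≫ g) = h₁ ≫ i₁) := by
  haveI := hG
  haveI := hGa
  have h₁ := isMT_of_isMultTypeFT H₁ hH₁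
  have h₂ := isMT_of_isMultTypeFT H₂ hH₂
  haveI := isClosedImmersion_of_mono h₁ i₁
  haveI := isClosedImmersion_of_mono h₂ i₂
  haveI : LocallyOfFinitePresentation i₁.left :=
    FibrewiseCrit.locallyOfFinitePresentation_of_comp i₁.left G.hom
      (by rw [Over.w i₁]; exact FactLocus.locallyOfFinitePresentation_of_isMultTypeFT H₁ hH₁) inferInstance
  haveI : LocallyOfFinitePresentation i₂.left :=
    FibrewiseCrit.locallyOfFinitePresentation_of_comp i₂.left G.hom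
      (by rw [Over.w i₂]; exact FactLocus.locallyOfFinitePresentation_of_isMultTypeFT H₂ hH₂) inferInstance
  obtain ⟨T₁, j₁, hj₁, hT₁, hfp₁⟩ := exists_landTransporter h₁ i₁ i₂
  obtain ⟨T₂, j₂, hj₂, hT₂, hfp₂⟩ := exists_landTransporter h₂ i₂ i₁
  haveI := hj₁
  haveI := hj₂
  haveI := hfp₁ inferInstance
  haveI := hfp₂ inferInstance
  have hι : ι[G] ≫ ι[G] = 𝟙 G := by
    have := GrpObj.comp_inv (ι[G]) (𝟙 G)
    simpa [Hom.inv_def] using (inv_inv (𝟙 G : G ⟶ G))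
  haveI : IsIso (ι[G]).left :=
    ⟨(ι[G]).left, congrArg CommaMorphism.left hι, congrArg CommaMorphism.left hι⟩
  let j₂' : T₂ ⟶ G := j₂ ≫ ι[G]
  haveI : IsClosedImmersion j₂'.left := inferInstanceAs (IsClosedImmersion (j₂.left ≫ (ι[G]).left))
  haveI : LocallyOfFinitePresentation j₂'.left :=
    inferInstanceAs (LocallyOfFinitePresentation (j₂.left ≫ (ι[G]).left))
  haveI : Mono j₁ := Over.mono_of_mono_left j₁
  haveI : Mono j₂ := Over.mono_of_mono_left j₂
  let T : Over S := Over.mk (Limits.pullback.fst j₁.left j₂'.left ≫ T₁.hom)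
  let q₁ : T ⟶ T₁ := Over.homMk (Limits.pullback.fst j₁.left j₂'.left)
  let q₂ : T ⟶ T₂ := Over.homMk (Limits.pullback.snd j₁.left j₂'.left) (by
    show Limits.pullback.snd j₁.left j₂'.left ≫ T₂.hom = Limits.pullback.fst _ _ ≫ T₁.hom
    rw [← Over.w j₁, ← Over.w j₂', Limits.pullback.condition_assoc])
  let j : T ⟶ G := q₁ ≫ j₁
  haveI : IsClosedImmersion j.left :=
    inferInstanceAs (IsClosedImmersion (Limits.pullback.fst j₁.left j₂'.left ≫ j₁.left))
  have hT : ∀ (X : Over S) (g : X ⟶ G), (∃ z : X ⟶ T, z ≫ j = g) ↔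
      Lands i₁ i₂ g ∧ Lands i₂ i₁ g⁻¹ := by
    intro X g
    constructor
    · rintro ⟨z, rfl⟩
      refine ⟨(hT₁ X _).mp ⟨z ≫ q₁, Category.assoc _ _ _⟩, (hT₂ X _).mp ⟨z ≫ q₂, ?_⟩⟩
      have hsq : q₁ ≫ j₁ = q₂ ≫ j₂' := Over.OverMorphism.ext Limits.pullback.condition
      rw [show j = q₂ ≫ j₂' from hsq, Hom.inv_def]
      simp only [j₂', Category.assoc, hι, Category.comp_id]
    · rintro ⟨hg₁, hg₂⟩
      obtain ⟨z₁, hz₁⟩ := (hT₁ X g).mpr hg₁
      obtain ⟨z₂, hz₂⟩ := (hT₂ X g⁻¹).mpr hg₂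
      have hz₂' : z₂ ≫ j₂' = g := by
        simp only [j₂', ← Category.assoc, hz₂]
        rw [← Hom.inv_def, _root_.inv_inv]
      refine ⟨Over.homMk (Limits.pullback.lift z₁.left z₂.left
        (congrArg CommaMorphism.left (hz₁.trans hz₂'.symm))) ?_, ?_⟩
      · show Limits.pullback.lift _ _ _ ≫ Limits.pullback.fst _ _ ≫ T₁.hom = X.hom
        rw [Limits.pullback.lift_fst_assoc]
        exact Over.w z₁
      · refine Eq.trans ?_ hz₁
        simp only [j, ← Category.assoc]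
        congr 1
        exact Over.OverMorphism.ext (Limits.pullback.lift_fst _ _ _)
  refine ⟨T, j, inferInstance, ?_, fun X g => (hT X g).trans ⟨fun h X' x => ⟨h.1 X' x, fun h₂' => ?_⟩,
    fun h => ⟨fun X' x => (h X' x).1, fun X' x h₂' => ?_⟩⟩⟩
  rotate_left
  · obtain ⟨a, ha⟩ := h.2 X' x h₂'
    exact ⟨a, by rwa [GrpObj.comp_inv, _root_.inv_inv] at ha⟩
  · obtain ⟨a, ha⟩ := (h X' x).2 h₂'
    exact ⟨a, by rwa [GrpObj.comp_inv, _root_.inv_inv]⟩
  haveI : LocallyOfFinitePresentation j.left :=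
    inferInstanceAs (LocallyOfFinitePresentation (Limits.pullback.fst j₁.left j₂'.left ≫ j₁.left))
  refine (Groth.FSmooth.smooth_iff T.hom).mpr ⟨by rw [← Over.w j]; infer_instance, ?_⟩
  refine isFormallySmoothHom_of_lifts j (fun g => Lands i₁ i₂ g ∧ Lands i₂ i₁ g⁻¹) hT fun A _ I hI b g₀ h₀ => ?_
  haveI : IsImmersion ((Over.pullback b).map i₁).left := FactLocus.isImmersion_bc b i₁
  haveI : IsImmersion ((Over.pullback b).map i₂).left := FactLocus.isImmersion_bc b i₂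
  haveI : Smooth (Red.bc b G).hom := inferInstanceAs (Smooth (Limits.pullback.snd G.hom b))
  have hinv : ∀ (Z : Over (Spec (CommRingCat.of A))) (p : Z ⟶ Red.bc b G), downP b p⁻¹ = (downP b p)⁻¹ := fun Z p =>
    eq_inv_of_mul_eq_one_left (by rw [← downP_mul, inv_mul_cancel, downP_one])
  rw [← hinv, ← lands_bc_iff, ← lands_bc_iff] at h₀
  obtain ⟨g, hg, φ, hφ⟩ := Groth.Agent.ConjInt.subgroups_conj_nilpotent (J := I) ⟨2, hI⟩
    ((Groth.FSmooth.smooth_iff _).mp inferInstance).2 (isMT_bc b H₁ h₁) (isMT_bc b H₂ h₂)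
    ((Over.pullback b).map i₁) ((Over.pullback b).map i₂) g₀ fun X p => ⟨fun h => h₀.1 X p h, fun h => by
      obtain ⟨a, ha⟩ := h₀.2 X p h
      exact ⟨a, by rwa [GrpObj.comp_inv, _root_.inv_inv] at ha⟩⟩
  refine ⟨g, hg, ?_⟩
  rw [← hinv, ← lands_bc_iff, ← lands_bc_iff]
  have key : ∀ (X : Over (Spec (CommRingCat.of A))) (h : X ⟶ Red.bc b H₁),
      (toUnit X ≫ g) * (h ≫ (Over.pullback b).map i₁) * (toUnit X ≫ g)⁻¹ =
        h ≫ φ.hom ≫ (Over.pullback b).map i₂ := fun X h => by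
    have := congrArg (fun k => h ≫ k) hφ
    simp only [MonObj.comp_mul, GrpObj.comp_inv] at this
    rwa [← Category.assoc h (toUnit _) g, toUnit_unique (h ≫ toUnit _) (toUnit X)] at this
  constructor
  · intro X x h
    refine ⟨h ≫ φ.hom, ?_⟩
    rw [toUnit_unique x (toUnit X), key, Category.assoc]
  · intro X x h
    refine ⟨h ≫ φ.inv, ?_⟩
    rw [toUnit_unique x (toUnit X), GrpObj.comp_inv, _root_.inv_inv]
    have := key X (h ≫ φ.inv)
    rw [Category.assoc, Category.assoc, φ.inv_hom_id_assoc] at this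
    rw [← this, Category.assoc]
    group

end Groth.Agent.S5287
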