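import Groth.Statements.S5302
import Groth.Agent.CentralDescent.Points
import Groth.Agent.CentralDescent.Conn
import Groth.Agent.CoeffLocus.Locus

set_option autoImplicit false
open CategoryTheory MonoidalCategory CartesianMonoidalCategory MonObj GrpObj AlgebraicGeometry
universe u
open SGA3x
open Limits Groth.Agent.DiagGrp Groth.Agent.DiagAction Groth.Agent.CentralDescent Groth.Agent.CoeffLocus

set_option backward.isDefEq.respectTransparency false
set_option linter.style.haveILetI false

namespace Groth.Agent.S5302

/-- Case of an fpqc covering, the example the source names: Let H be an S-group of multiplicative type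
and of finite type, G an S-group separated and of finite presentation over S (locally of finite
presentation, quasi-compact, quasi-separated), and π : S' ⟶ S a flat surjective morphism which is an
fpqc covering (every affine open of S is the image of a quasi-compact open of S') with geometrically
connected fibres. Let u' : H' ⟶ G' be a central homomorphism between the base changes to S' (u'(h)
commutes with every point of G'). Then there is exactly one homomorphism of S-groups u : H ⟶ G whose
base change to S' is u'. -/
theorem result {S S' : Scheme.{u}} (H G : Over S) [GrpObj H] [GrpObj G]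
    (hH : SGA3x.IsMultTypeFT H) [IsSeparated G.hom] [LocallyOfFinitePresentation G.hom] [QuasiCompact G.hom] [QuasiSeparated G.hom]
    (π : S' ⟶ S) [Flat π] [Surjective π]
    (hcov : ∀ V : S.Opens, IsAffineOpen V → ∃ W : S'.Opens, IsCompact (W : Set S') ∧ π.base '' (W : Set S') = (V : Set S))
    (hconn : ∀ s : S, ConnectedSpace ↥(Limits.pullback π (Red.geomPt s)))
    (u' : Red.bc π H ⟶ Red.bc π G) [IsMonHom u']
    (hc : ∀ (X : Over S') (g : X ⟶ Red.bc π G) (h : X ⟶ Red.bc π H), g * (h ≫ u') = (h ≫ u') * g) :
    ∃! u : H ⟶ G, IsMonHom u ∧ (Over.pullback π).map u = u' := by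
  haveI : Flat (pullback.fst H.hom π) := inferInstance
  haveI : Surjective (pullback.fst H.hom π) := inferInstance
  haveI : Epi (pullback.fst H.hom π) := Flat.epi_of_flat_of_surjective _
  haveI : EffectiveEpi (pullback.fst H.hom π) := effectiveEpi_of_cov _ (isFpqcCov_fst π hcov H.hom)
  let φ : pullback H.hom π ⟶ G.left := u'.left ≫ pullback.fst G.hom π
  let p : pullback π π ⟶ S := pullback.fst π π ≫ π
  have hq₂ : pullback.snd π π ≫ π = p := pullback.condition.symm
  let a₁ : Red.bc p H ⟶ Red.bc p G := resHom u' p (pullback.fst π π) rfl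
  let a₂ : Red.bc p H ⟶ Red.bc p G := resHom u' p (pullback.snd π π) hq₂
  haveI : IsMonHom a₁ := isMonHom_resHom _ _ _ _
  haveI : IsMonHom a₂ := isMonHom_resHom _ _ _ _
  haveI : IsMonHom (a₂ * a₁⁻¹) := isMonHom_mul_inv a₁ a₂ (resHom_comm u' p _ rfl hc)
  haveI : IsSeparated (Red.bc p G).hom := inferInstanceAs (IsSeparated (pullback.snd G.hom p))
  haveI : LocallyOfFinitePresentation (Red.bc p G).hom :=
    inferInstanceAs (LocallyOfFinitePresentation (pullback.snd G.hom p))
  obtain ⟨U, hUc, hUmem, hUtriv⟩ := exists_clopen_trivLocus (Red.bc p H) (Red.bc p G) (isMultTypeFT_bc p H hH)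
    (Or.inr inferInstance) (a₂ * a₁⁻¹)
  have hd : Triv (a₂ * a₁⁻¹) (pullback.diagonal π) := by
    intro Y k h
    have hY : k.left ≫ pullback.diagonal π = Y.hom := Over.w k
    have h1 : Y.hom ≫ pullback.fst π π = k.left := by
      rw [← hY, Category.assoc, pullback.diagonal_fst, Category.comp_id]
    have h2 : Y.hom ≫ pullback.snd π π = k.left := by
      rw [← hY, Category.assoc, pullback.diagonal_snd, Category.comp_id]
    rw [MonObj.comp_mul, GrpObj.comp_inv, mul_inv_eq_one]
    simp only [a₁, a₂, comp_resHom, h1, h2]
  have hU : ∀ x, x ∈ U := by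
    have h := clopen_eq_univ π hconn (U : Set ↥(pullback π π)) ⟨hUc, U.isOpen⟩ fun s' => by
      let g : Spec (CommRingCat.of (S'.residueField s')) ⟶ pullback π π :=
        S'.fromSpecResidueField s' ≫ pullback.diagonal π
      let z : Spec (CommRingCat.of (S'.residueField s')) := IsLocalRing.closedPoint (S'.residueField s')
      have hz : g z = pullback.diagonal π s' := by
        simp only [g, Scheme.Hom.comp_apply]
        exact congrArg (pullback.diagonal π) (Scheme.fromSpecResidueField_apply _ _)
      show pullback.diagonal π s' ∈ U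
      rw [hUmem, ← hz, ← triv_residue_iff g z]
      exact hd.comp _
    exact fun x => h.ge (Set.mem_univ x)
  have hcoc : ∀ {Z : Scheme.{u}} (g₁ g₂ : Z ⟶ pullback H.hom π),
      g₁ ≫ pullback.fst H.hom π = g₂ ≫ pullback.fst H.hom π → g₁ ≫ φ = g₂ ≫ φ := by
    intro Z g₁ g₂ hg
    let q : Z ⟶ pullback π π := pullback.lift (g₁ ≫ pullback.snd H.hom π) (g₂ ≫ pullback.snd H.hom π) (by
      simp only [Category.assoc, ← pullback.condition]; rw [reassoc_of% hg])
    let Zo : Over (pullback π π) := Over.mk q
    let zm : (Over.map p).obj Zo ⟶ H := Over.homMk (g₁ ≫ pullback.fst H.hom π) (by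
      show (g₁ ≫ pullback.fst H.hom π) ≫ H.hom = q ≫ pullback.fst π π ≫ π
      rw [pullback.lift_fst_assoc, Category.assoc, pullback.condition, Category.assoc])
    let z : Zo ⟶ Red.bc p H := upP p zm
    let k : Zo ⟶ Over.mk U.ι := Over.homMk (IsOpenImmersion.lift U.ι q (by
      rintro _ ⟨y, rfl⟩; exact (Scheme.Opens.range_ι U).ge (hU _))) (IsOpenImmersion.lift_fac _ _ _)
    have e := hUtriv Zo k z
    rw [MonObj.comp_mul, GrpObj.comp_inv, mul_inv_eq_one] at e
    simp only [a₁, a₂, comp_resHom, z, downP_upP] at e
    have e2 := congrArg (downP p) e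
    simp only [downP_upP] at e2
    have e3 := congrArg CommaMorphism.left e2
    have l1 : ∀ w, pullback.lift zm.left (q ≫ pullback.fst π π) w = g₁ := fun w => by
      apply pullback.hom_ext
      · rw [pullback.lift_fst]; rfl
      · rw [pullback.lift_snd]; exact pullback.lift_fst _ _ _
    have l2 : ∀ w, pullback.lift zm.left (q ≫ pullback.snd π π) w = g₂ := fun w => by
      apply pullback.hom_ext
      · rw [pullback.lift_fst]; exact hg
      · rw [pullback.lift_snd]; exact pullback.lift_snd _ _ _
    simp only [ev, Over.homMk_left, Zo, Over.mk_hom, l1, l2] at e3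
    exact e3.symm
  let ul : H.left ⟶ G.left := EffectiveEpi.desc (pullback.fst H.hom π) φ (fun g₁ g₂ h => hcoc g₁ g₂ h)
  have hul : pullback.fst H.hom π ≫ ul = φ := EffectiveEpi.fac _ _ _
  let u : H ⟶ G := Over.homMk ul (by
    rw [← cancel_epi (pullback.fst H.hom π), reassoc_of% hul]
    simp only [φ, Category.assoc, pullback.condition]
    rw [← Category.assoc u'.left]
    erw [Over.w u']
    exact rfl)
  have hu : (Over.pullback π).map u = u' := by
    apply Over.OverMorphism.ext
    apply pullback.hom_ext
    · exact (pullback.lift_fst _ _ _).trans hul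
    · exact (pullback.lift_snd _ _ _).trans (Over.w u').symm
  have hmul : ∀ (X : Over S) (a b : X ⟶ H), (a * b) ≫ u = (a ≫ u) * (b ≫ u) := by
    intro X a b
    apply Over.OverMorphism.ext
    haveI : Epi (pullback.fst X.hom π) := Flat.epi_of_flat_of_surjective _
    rw [← cancel_epi (pullback.fst X.hom π)]
    let X' : Over S' := Red.bc π X
    let c : (Over.map π).obj X' ⟶ X := downP π (𝟙 X')
    have hcl : c.left = pullback.fst X.hom π := (downP_left π _).trans (Category.id_comp _)
    suffices c ≫ (a * b) ≫ u = c ≫ ((a ≫ u) * (b ≫ u)) by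
      have h := congrArg CommaMorphism.left this
      simp only [Over.comp_left, hcl] at h
      exact h
    have key : ∀ x : (Over.map π).obj X' ⟶ H, x ≫ u = downP π (upP π x ≫ u') := fun x => by
      rw [← hu, downP_comp_map, downP_upP]
    rw [← Category.assoc, key, MonObj.comp_mul, upP_mul, mul_comp', downP_mul, ← key, ← key,
      MonObj.comp_mul, Category.assoc, Category.assoc]
  refine ⟨u, ⟨isMonHom_of_mul u hmul, hu⟩, ?_⟩
  rintro v ⟨-, hv⟩
  apply Over.OverMorphism.ext
  rw [← cancel_epi (pullback.fst H.hom π)]
  show pullback.fst H.hom π ≫ v.left = pullback.fst H.hom π ≫ ul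
  rw [hul]
  exact (pullback.lift_fst _ _ _).symm.trans (congrArg (fun w => w ≫ pullback.fst G.hom π) (congrArg CommaMorphism.left hv))

end Groth.Agent.S5302
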