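import Groth.Statements.S5304
import Groth.Agent.FactLocus.Equal

set_option autoImplicit false
open CategoryTheory MonoidalCategory CartesianMonoidalCategory MonObj GrpObj AlgebraicGeometry
universe u
open SGA3x
open Limits Groth.Agent.DiagAction Groth.Agent.CentralDescent Groth.Agent.FactLocus

set_option backward.isDefEq.respectTransparency false
set_option linter.style.haveILetI false

namespace Groth.Agent.S5304

/-- Let G be an S-group separated over S, suppose S locally Noetherian or G of finite presentation over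
S, and let i₁ : H₁ ⟶ G, i₂ : H₂ ⟶ G be two sub-group-schemes (homomorphisms which are immersions) of
multiplicative type and of finite type, with H₁ central in G. Then the set U of points s ∈ S such
that (H₁)_s = (H₂)_s as subgroups of G_s (an isomorphism of the fibres compatible with the
inclusions) is open and closed, and H₁|_U = H₂|_U as subgroups of G|_U. (The published statement
asks only that the fibres of H₁ be central; this row assumes H₁ central in G.) -/
theorem result {S : Scheme.{u}} (G H₁ H₂ : Over S) [GrpObj G] [GrpObj H₁] [GrpObj H₂]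
    [IsSeparated G.hom] (hG : IsLocallyNoetherian S ∨ (LocallyOfFinitePresentation G.hom ∧ QuasiCompact G.hom ∧ QuasiSeparated G.hom))
    (h₁ : SGA3x.IsMultTypeFT H₁) (h₂ : SGA3x.IsMultTypeFT H₂)
    (i₁ : H₁ ⟶ G) [IsMonHom i₁] [IsImmersion i₁.left] (i₂ : H₂ ⟶ G) [IsMonHom i₂] [IsImmersion i₂.left]
    (hc : ∀ (X : Over S) (g : X ⟶ G) (h : X ⟶ H₁), g * (h ≫ i₁) = (h ≫ i₁) * g) :
    ∃ U : S.Opens, IsClosed (U : Set S) ∧
      (∀ s : S, s ∈ U ↔ ∃ ψ : Red.bc (S.fromSpecResidueField s) H₁ ≅ Red.bc (S.fromSpecResidueField s) H₂,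
        ψ.hom ≫ (Over.pullback (S.fromSpecResidueField s)).map i₂ = (Over.pullback (S.fromSpecResidueField s)).map i₁) ∧
      ∃ ψ : Red.bc U.ι H₁ ≅ Red.bc U.ι H₂, ψ.hom ≫ (Over.pullback U.ι).map i₂ = (Over.pullback U.ι).map i₁ := by
  have hG' : IsLocallyNoetherian S ∨ LocallyOfFinitePresentation G.hom := hG.imp id And.left
  obtain ⟨U₁, hU₁c, hU₁, hU₁f⟩ := exists_clopen_factLocus H₂ G H₁ h₂ h₁ hG' i₁ i₂ hc
  let j := U₁.ι
  haveI : IsSeparated (Red.bc j G).hom := inferInstanceAs (IsSeparated (pullback.snd G.hom j))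
  haveI := isImmersion_bc j i₂
  have hGU : IsLocallyNoetherian (U₁ : Scheme.{u}) ∨ LocallyOfFinitePresentation (Red.bc j G).hom := by
    rcases hG' with h | h
    · exact Or.inl inferInstance
    · exact Or.inr (inferInstanceAs (LocallyOfFinitePresentation (pullback.snd G.hom j)))
  obtain ⟨φ, hφ⟩ := exists_hom_of_fact j hU₁f
  have hc₂ : ∀ (X : Over (U₁ : Scheme.{u})) (g : X ⟶ Red.bc j G) (h : X ⟶ Red.bc j H₂),
      g * (h ≫ (Over.pullback j).map i₂) = (h ≫ (Over.pullback j).map i₂) * g := by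
    intro X g h
    rw [← hφ, ← Category.assoc]
    apply (Over.mapPullbackAdj j).homEquiv _ _ |>.symm.injective
    show downP j _ = downP j _
    rw [downP_mul, downP_mul, downP_comp_map, hc]
  obtain ⟨U₂, hU₂c, hU₂, hU₂f⟩ := exists_clopen_factLocus (Red.bc j H₁) (Red.bc j G) (Red.bc j H₂)
    (isMultTypeFT_bc j H₁ h₁) (isMultTypeFT_bc j H₂ h₂) hGU ((Over.pullback j).map i₂) ((Over.pullback j).map i₁) hc₂
  let U : S.Opens := j ''ᵁ U₂
  have hres : ∀ z : (U₁ : Scheme.{u}), z ∈ U₂ ↔ Fact i₂ i₁ (S.fromSpecResidueField (j z)) := fun z => by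
    rw [hU₂, fact_bc_iff]
    let w : Spec ((U₁ : Scheme.{u}).residueField z) := IsLocalRing.closedPoint ((U₁ : Scheme.{u}).residueField z)
    refine (fact_residue_iff ((U₁ : Scheme.{u}).fromSpecResidueField z ≫ j) w).trans ?_
    rw [Scheme.Hom.comp_apply]
    erw [Scheme.fromSpecResidueField_apply]
  refine ⟨U, ?_, fun s => ?_, ?_⟩
  · show IsClosed (j '' (U₂ : Set (U₁ : Scheme.{u})))
    exact (Topology.IsClosedEmbedding.mk j.isOpenEmbedding.isEmbedding (by
      rw [Scheme.Opens.range_ι]; exact hU₁c)).isClosed_iff_image_isClosed.mp hU₂c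
  · rw [exists_iso_iff]
    constructor
    · rintro ⟨z, hz, rfl⟩
      exact ⟨(hU₁ _).mp z.2, (hres z).mp hz⟩
    · rintro ⟨h1, h2⟩
      exact ⟨⟨s, (hU₁ s).mpr h1⟩, (hres _).mpr h2, rfl⟩
  · rw [exists_iso_iff]
    have hle : U ≤ U₁ := by rintro _ ⟨z, -, rfl⟩; exact z.2
    have h1 : Fact i₁ i₂ U.ι := by
      rw [← Scheme.homOfLE_ι S hle]; exact hU₁f.comp _
    have h2 : Fact i₂ i₁ (U₂.ι ≫ j) := (fact_bc_iff j U₂.ι i₂ i₁).mp hU₂f
    refine ⟨h1, ?_⟩
    let k : (U : Scheme.{u}) ⟶ U₂ := IsOpenImmersion.lift (U₂.ι ≫ j) U.ι (by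
      rw [Scheme.Hom.comp_base, TopCat.coe_comp, Set.range_comp, Scheme.Opens.range_ι, Scheme.Opens.range_ι]
      exact subset_rfl)
    have hk : k ≫ U₂.ι ≫ j = U.ι := IsOpenImmersion.lift_fac _ _ _
    rw [← hk]
    exact h2.comp k

end Groth.Agent.S5304
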