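import Groth.Statements.S5305
import Groth.Agent.Transporter.Basic
import Groth.Agent.S0412

set_option autoImplicit false
open CategoryTheory MonoidalCategory CartesianMonoidalCategory MonObj GrpObj AlgebraicGeometry
universe u
open SGA3x
open Groth.Agent.Transporter Groth.Agent.DiagAction

set_option backward.isDefEq.respectTransparency false

namespace Groth.Agent.S5305

/-- (ii) ⇒ (i): Let H be an S-group of multiplicative type and of finite type, G an S-group smooth and
affine over S, and u₁, u₂ : H ⟶ G two homomorphisms. Suppose that for every s ∈ S, writing s̄ for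
the spectrum of an algebraic closure of κ(s), the homomorphisms u₁ and u₂ restricted to points over
s̄ are conjugate by a point of G with values in s̄. Then u₁ and u₂ are conjugate locally for the
etale topology: every point of S is in the image of an etale S' ⟶ S over which there is an S'-point
g of G ×_S S' with u₂ = int(g) ∘ u₁ on points. -/
theorem result {S : Scheme.{u}} (H G : Over S) [GrpObj H] [GrpObj G]
    (hH : SGA3x.IsMultTypeFT H) (hG : Smooth G.hom) (hGa : IsAffineHom G.hom) (u₁ u₂ : H ⟶ G) [IsMonHom u₁] [IsMonHom u₂]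
    (hgeom : ∀ s : S, ∃ g : Over.mk (Red.geomPt s) ⟶ G, ∀ (X : Over S) (p : X ⟶ Over.mk (Red.geomPt s)) (h : X ⟶ H),
      h ≫ u₂ = (p ≫ g) * (h ≫ u₁) * (p ≫ g)⁻¹) :
    TwC.Locally S TwC.Topology.etale (fun S' f => ∃ g : 𝟙_ (Over S') ⟶ Red.bc f G,
      ∀ (X : Over S') (h : X ⟶ Red.bc f H),
        h ≫ (Over.pullback f).map u₂ = (toUnit X ≫ g) * (h ≫ (Over.pullback f).map u₁) * (toUnit X ≫ g)⁻¹) := by
  haveI := hGa
  obtain ⟨T, j, hj, hT, -, hs⟩ := exists_transporter (isMT_of_isMultTypeFT H hH) u₁ u₂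
  haveI := hs hG
  intro s
  obtain ⟨g, hg⟩ := hgeom s
  obtain ⟨z, -⟩ := (hT _ g).mpr fun X' x h => (hg X' x h).symm
  have hsr : s ∈ Set.range T.hom := by
    let c : ↥(Spec (CommRingCat.of (AlgebraicClosure (S.residueField s)))) :=
      IsLocalRing.closedPoint (AlgebraicClosure (S.residueField s))
    refine ⟨z.left c, ?_⟩
    rw [← Scheme.Hom.comp_apply]
    erw [Over.w z]
    simp only [Red.geomPt, Over.mk_hom, Scheme.Hom.comp_apply]
    exact Scheme.fromSpecResidueField_apply _ _
  obtain ⟨S', f, s', hf, hfs, l, hl⟩ := Groth.Agent.S0412.result T.hom s hsr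
  let X1 : Over S := Over.mk f
  let z1 : X1 ⟶ T := Over.homMk l hl
  let e : (Over.map f).obj (𝟙_ (Over S')) ≅ X1 :=
    Over.isoMk (Iso.refl _) ((Category.id_comp _).trans (Category.id_comp _).symm)
  refine ⟨S', f, hf, ⟨s', hfs⟩, upP f (e.hom ≫ z1 ≫ j), fun X h => ?_⟩
  apply (Over.mapPullbackAdj f).homEquiv _ _ |>.symm.injective
  show downP f _ = downP f _
  rw [downP_comp_map]
  have := (hT X1 (z1 ≫ j)).mp ⟨z1, rfl⟩ _ ((Over.map f).map (toUnit X) ≫ e.hom) (downP f h)
  rw [← this, eq_comm, eq_mul_inv_iff_mul_eq, Category.assoc, ← downP_upP f (e.hom ≫ z1 ≫ j), ← downP_comp,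
    ← downP_comp_map, ← downP_mul, ← downP_mul]
  simp only [upP_downP, inv_mul_cancel_right]

end Groth.Agent.S5305
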