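import Groth.Statements.S5306
import Groth.Agent.S5287
import Groth.Agent.S0412

set_option autoImplicit false
open CategoryTheory MonoidalCategory CartesianMonoidalCategory MonObj GrpObj AlgebraicGeometry
universe u
open SGA3x
open Groth.Agent.Transporter Groth.Agent.DiagAction

set_option backward.isDefEq.respectTransparency false

namespace Groth.Agent.S5306

/-- (ii) ⇒ (i): Let G be an S-group smooth and affine over S and i₁ : H₁ ⟶ G, i₂ : H₂ ⟶ G two subgroup
schemes of multiplicative type (and of finite type). Suppose that for every s ∈ S, writing s̄ for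
the spectrum of an algebraic closure of κ(s), there is a point g of G with values in s̄ such that
int(g)(H₁) = H₂ on points over s̄. Then H₁ and H₂ are conjugate locally for the etale topology:
every point of S is in the image of an etale S' ⟶ S over which some S'-point of G ×_S S' conjugates
H₁ ×_S S' onto H₂ ×_S S'. -/
theorem result {S : Scheme.{u}} (H₁ H₂ G : Over S) [GrpObj H₁] [GrpObj H₂] [GrpObj G]
    (h₁ : SGA3x.IsMultTypeFT H₁) (h₂ : SGA3x.IsMultTypeFT H₂) (hG : Smooth G.hom) (hGa : IsAffineHom G.hom)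
    (i₁ : H₁ ⟶ G) [IsMonHom i₁] [Mono i₁] (i₂ : H₂ ⟶ G) [IsMonHom i₂] [Mono i₂]
    (hgeom : ∀ s : S, ∃ g : Over.mk (Red.geomPt s) ⟶ G, ∀ (X : Over S) (p : X ⟶ Over.mk (Red.geomPt s)),
      (∀ a : X ⟶ H₁, ∃ b : X ⟶ H₂, (p ≫ g) * (a ≫ i₁) * (p ≫ g)⁻¹ = b ≫ i₂) ∧
      (∀ b : X ⟶ H₂, ∃ a : X ⟶ H₁, (p ≫ g)⁻¹ * (b ≫ i₂) * (p ≫ g) = a ≫ i₁)) :
    TwC.Locally S TwC.Topology.etale (fun S' f => ∃ g : 𝟙_ (Over S') ⟶ Red.bc f G,
      SGA3x.ConjBy ((Over.pullback f).map i₁) ((Over.pullback f).map i₂) g) := by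
  obtain ⟨T, j, -, hTs, hT⟩ := Groth.Agent.S5287.result H₁ H₂ G h₁ h₂ hG hGa i₁ i₂
  haveI := hTs
  intro s
  obtain ⟨g, hg⟩ := hgeom s
  obtain ⟨z, -⟩ := (hT _ g).mpr fun X' x => hg X' x
  have hsr : s ∈ Set.range T.hom := by
    let c : ↥(Spec (CommRingCat.of (AlgebraicClosure (S.residueField s)))) :=
      IsLocalRing.closedPoint (AlgebraicClosure (S.residueField s))
    refine ⟨z.left c, ?_⟩
    rw [← Scheme.Hom.comp_apply]
    erw [Over.w z]
    simp only [Red.geomPt, Over.mk_hom, Scheme.Hom.comp_apply]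
    exact Scheme.fromSpecResidueField_apply _ _
  obtain ⟨S', f, s', hf, hfs, l, hl⟩ := Groth.Agent.S0412.result T.hom s hsr
  let X1 : Over S := Over.mk f
  let z1 : X1 ⟶ T := Over.homMk l hl
  let e : (Over.map f).obj (𝟙_ (Over S')) ≅ X1 :=
    Over.isoMk (Iso.refl _) ((Category.id_comp _).trans (Category.id_comp _).symm)
  let γ₀ : 𝟙_ (Over S') ⟶ Red.bc f G := upP f (e.hom ≫ z1 ≫ j)
  refine ⟨S', f, hf, ⟨s', hfs⟩, γ₀, ?_⟩
  have hz := (hT X1 (z1 ≫ j)).mp ⟨z1, rfl⟩
  have hd : ∀ (X : Over S'), downP f (toUnit X ≫ γ₀) = ((Over.map f).map (toUnit X) ≫ e.hom) ≫ z1 ≫ j := fun X => by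
    rw [downP_comp, downP_upP, Category.assoc]
  haveI : Mono ((Over.pullback f).map i₁) := (Over.pullback f).map_mono i₁
  haveI : Mono ((Over.pullback f).map i₂) := (Over.pullback f).map_mono i₂
  obtain ⟨a, ha⟩ := (hz _ ((Over.map f).map (toUnit (Red.bc f H₁)) ≫ e.hom)).1 (downP f (𝟙 _))
  obtain ⟨b, hb⟩ := (hz _ ((Over.map f).map (toUnit (Red.bc f H₂)) ≫ e.hom)).2 (downP f (𝟙 _))
  have ha' : (toUnit _ ≫ γ₀) * (Over.pullback f).map i₁ * (toUnit _ ≫ γ₀)⁻¹ =
      upP f a ≫ (Over.pullback f).map i₂ := by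
    rw [mul_inv_eq_iff_eq_mul] at ha ⊢
    apply (Over.mapPullbackAdj f).homEquiv _ _ |>.symm.injective
    show downP f _ = downP f _
    rw [downP_mul, downP_mul, downP_comp_map, downP_upP, hd]
    rw [← Category.id_comp ((Over.pullback f).map i₁), downP_comp_map]
    exact ha
  have hb' : (toUnit _ ≫ γ₀)⁻¹ * (Over.pullback f).map i₂ * (toUnit _ ≫ γ₀) =
      upP f b ≫ (Over.pullback f).map i₁ := by
    rw [_root_.mul_assoc, inv_mul_eq_iff_eq_mul] at hb ⊢
    apply (Over.mapPullbackAdj f).homEquiv _ _ |>.symm.injective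
    show downP f _ = downP f _
    rw [downP_mul, downP_mul, downP_comp_map, downP_upP, hd]
    rw [← Category.id_comp ((Over.pullback f).map i₂), downP_comp_map]
    exact hb
  have hab : upP f a ≫ upP f b = 𝟙 _ := by
    rw [← cancel_mono ((Over.pullback f).map i₁), Category.assoc, ← hb', Category.id_comp]
    simp only [MonObj.comp_mul, GrpObj.comp_inv, ← ha', ← Category.assoc (upP f a) (toUnit _),
      toUnit_unique (upP f a ≫ toUnit _) (toUnit _)]
    group
  have hba : upP f b ≫ upP f a = 𝟙 _ := by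
    rw [← cancel_mono ((Over.pullback f).map i₂), Category.assoc, ← ha', Category.id_comp]
    simp only [MonObj.comp_mul, GrpObj.comp_inv, ← hb', ← Category.assoc (upP f b) (toUnit _),
      toUnit_unique (upP f b ≫ toUnit _) (toUnit _)]
    group
  exact ⟨⟨upP f a, upP f b, hab, hba⟩, ha'⟩

end Groth.Agent.S5306
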