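import Groth.Statements.S5308
import Groth.Agent.TwConstFinite.Basic


set_option autoImplicit false
open CategoryTheory MonoidalCategory CartesianMonoidalCategory MonObj GrpObj AlgebraicGeometry
universe u
open SGA3x

namespace Groth.Agent.S5308

/-- (i) ⇒ (ii). Let R be a commutative twisted constant S-group which is isotrivial (it becomes a
constant group over the open and closed pieces of one finite etale surjective S' ⟶ S). Then R is a
union of open and closed subschemes which are quasi-compact, indeed finite, over S: every point of R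
has an open and closed neighbourhood U in R with U ⟶ S finite. -/
theorem result {S : Scheme.{u}} (R : Over S) [GrpObj R]
    (hcomm : ∀ (X : Over S) (a b : X ⟶ R), a * b = b * a) (hR : TwC.IsTwConstGrp TwC.Topology.finiteEtale R) (x : R.left) :
    ∃ U : R.left.Opens, x ∈ U ∧ IsClosed (U : Set R.left) ∧ IsFinite (U.ι ≫ R.hom) := by
  classical
  obtain ⟨S', f, hf₁, hf₂, hf₃, hP⟩ := hR
  haveI := hf₁
  haveI := hf₂
  haveI := hf₃
  have hfpqc : TwC.IsTwConst TwC.Topology.fpqc R := by
    refine ⟨S', f, inferInstance, inferInstance, fun V hV => ⟨f ⁻¹ᵁ V, ((hV.preimage f).isCompact), ?_⟩, fun s' => ?_⟩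
    · exact Set.image_preimage_eq _ f.surjective
    · obtain ⟨U, hU, -, M, _, e, -⟩ := hP s'
      exact ⟨U, hU, M, ⟨e⟩⟩
  let g := Limits.pullback.fst R.hom f
  obtain ⟨y, hy⟩ := g.surjective x
  obtain ⟨U, hsU, hUc, M, _, e, -⟩ := hP (Limits.pullback.snd R.hom f y)
  obtain ⟨ψ, hψ, hψs⟩ := Groth.Agent.TwConstFinite.exists_iso_of_bc_iso R (U.ι ≫ f) e (𝟙 (U : Scheme.{u}))
  let p : Limits.pullback R.hom (𝟙 (U : Scheme.{u}) ≫ U.ι ≫ f) ⟶ Limits.pullback R.hom f :=
    Limits.pullback.map _ _ _ _ (𝟙 _) U.ι (𝟙 _) (by simp) (by simp)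
  haveI : IsOpenImmersion p :=
    MorphismProperty.pullbackMap (P := @IsOpenImmersion) (inferInstanceAs (IsOpenImmersion (𝟙 _)))
      (inferInstanceAs (IsOpenImmersion U.ι)) (by simp) (by simp)
  have hyU : ∃ z, p z = y := by
    obtain ⟨z, hz1, hz2⟩ := Scheme.Pullback.exists_preimage_pullback (f := R.hom) (g := 𝟙 (U : Scheme.{u}) ≫ U.ι ≫ f)
      (g y) (⟨Limits.pullback.snd R.hom f y, hsU⟩ : U) (by
        show R.hom (Limits.pullback.fst R.hom f y) = f (Limits.pullback.snd R.hom f y)
        rw [← Scheme.Hom.comp_apply, ← Scheme.Hom.comp_apply, Limits.pullback.condition])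
    haveI : IsClosedImmersion U.ι := IsClosedImmersion.of_isPreimmersion _ (by rw [Scheme.Opens.range_ι]; exact hUc)
    have hsq : IsPullback p (Limits.pullback.snd R.hom (𝟙 (U : Scheme.{u}) ≫ U.ι ≫ f)) (Limits.pullback.snd R.hom f) U.ι := by
      refine IsPullback.of_right ?_ (Limits.pullback.lift_snd _ _ _) (IsPullback.of_hasPullback R.hom f)
      simp only [p, Limits.pullback.map, Limits.pullback.lift_fst, Category.comp_id]
      simpa using IsPullback.of_hasPullback R.hom (𝟙 (U : Scheme.{u}) ≫ U.ι ≫ f)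
    obtain ⟨w, hw1, -⟩ := Scheme.Pullback.exists_preimage_pullback (f := Limits.pullback.snd R.hom f) (g := U.ι)
      y (⟨Limits.pullback.snd R.hom f y, hsU⟩ : U) rfl
    exact ⟨hsq.isoPullback.inv w, by rw [← Scheme.Hom.comp_apply, hsq.isoPullback_inv_fst, hw1]⟩
  obtain ⟨z, hz⟩ := hyU
  obtain ⟨w, hw⟩ := ψ.surjective z
  obtain ⟨m, c, hc⟩ : ∃ (m : M) (c : U), Limits.Sigma.ι (fun _ : M => (U : Scheme.{u})) m c = w :=
    (sigmaOpenCover (fun _ : M => (U : Scheme.{u}))).exists_eq w
  replace hc : Limits.Sigma.ι (fun _ : M => (U : Scheme.{u})) m c = w := hc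
  let σ : (U : Scheme.{u}) ⟶ R.left := Limits.Sigma.ι (fun _ : M => (U : Scheme.{u})) m ≫ ψ ≫ p ≫ g
  have hσ : σ ≫ R.hom = U.ι ≫ f := by
    simp only [σ, Category.assoc, g, Limits.pullback.condition]
    have : p ≫ Limits.pullback.snd R.hom f = Limits.pullback.snd R.hom _ ≫ U.ι := Limits.pullback.lift_snd _ _ _
    rw [reassoc_of% this, reassoc_of% hψs, Limits.Sigma.ι_desc_assoc, Category.id_comp]
  haveI : IsClosedImmersion U.ι := IsClosedImmersion.of_isPreimmersion _ (by rw [Scheme.Opens.range_ι]; exact hUc)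
  haveI : IsOpenImmersion ψ := inferInstance
  have hopen : IsOpen (Set.range σ) := by
    haveI : Etale g := inferInstance
    exact σ.isOpenMap.isOpen_range
  have hclosed : IsClosed (Set.range σ) := by
    haveI : MorphismProperty.IsStableUnderComposition @IsClosedImmersion.{u} :=
      ⟨fun f g (_ : IsClosedImmersion f) (_ : IsClosedImmersion g) => inferInstanceAs (IsClosedImmersion (f ≫ g))⟩
    haveI : IsClosedImmersion p :=
      MorphismProperty.pullbackMap (P := @IsClosedImmersion) (inferInstanceAs (IsClosedImmersion (𝟙 _)))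
        (inferInstanceAs (IsClosedImmersion U.ι)) (by simp) (by simp)
    have hm : IsClosed (Set.range (Limits.Sigma.ι (fun _ : M => (U : Scheme.{u})) m)) := by
      rw [← isOpen_compl_iff]
      have e : (Set.range (Limits.Sigma.ι (fun _ : M => (U : Scheme.{u})) m))ᶜ =
          ⋃ i : {i : M // i ≠ m}, Set.range (Limits.Sigma.ι (fun _ : M => (U : Scheme.{u})) i.1) := by
        ext q
        constructor
        · intro hq
          obtain ⟨i, a, rfl⟩ := (sigmaOpenCover (fun _ : M => (U : Scheme.{u}))).exists_eq q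
          exact Set.mem_iUnion.2 ⟨⟨i, fun h => hq (by subst h; exact ⟨a, rfl⟩)⟩, a, rfl⟩
        · rintro hq ⟨b, rfl⟩
          obtain ⟨i, a, ha⟩ := Set.mem_iUnion.1 hq
          exact i.2 (congrArg Sigma.fst ((sigmaι_eq_iff _ _ _ _ _).1 ha))
      rw [e]
      exact isOpen_iUnion fun i => (Limits.Sigma.ι (fun _ : M => (U : Scheme.{u})) i.1).isOpenEmbedding.isOpen_range
    haveI : IsFinite g := inferInstance
    haveI : IsClosedImmersion ψ := inferInstance
    have e2 : Set.range σ = (ψ ≫ p ≫ g) '' Set.range (Limits.Sigma.ι (fun _ : M => (U : Scheme.{u})) m) := by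
      rw [← Set.range_comp]; rfl
    rw [e2]
    exact (ψ ≫ p ≫ g).isClosedMap _ hm
  let W : R.left.Opens := ⟨Set.range σ, hopen⟩
  haveI : IsClosedImmersion W.ι := IsClosedImmersion.of_isPreimmersion _ (by rw [Scheme.Opens.range_ι]; exact hclosed)
  haveI : QuasiCompact (W.ι ≫ R.hom) := by
    refine ⟨fun V hV hVc => ?_⟩
    haveI : QuasiCompact (σ ≫ R.hom) := by rw [hσ]; infer_instance
    rw [W.ι.isOpenEmbedding.isInducing.isCompact_iff]
    have := (QuasiCompact.isCompact_preimage (f := σ ≫ R.hom) V hV hVc).image σ.continuous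
    convert this using 1
    ext a
    constructor
    · rintro ⟨b, hb, rfl⟩
      obtain ⟨u', hu'⟩ := b.2
      exact ⟨u', by show R.hom (σ u') ∈ V; rw [hu']; exact hb, hu'⟩
    · rintro ⟨b, hb, rfl⟩
      exact ⟨⟨σ b, b, rfl⟩, hb, rfl⟩
  exact ⟨W, ⟨c, by
    show g (p (ψ (Limits.Sigma.ι (fun _ : M => (U : Scheme.{u})) m c))) = x
    rw [hc, hw, hz, hy]⟩, hclosed, Groth.Agent.TwConstFinite.isFinite_comp R hfpqc W.ι⟩

end Groth.Agent.S5308
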