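import Groth.Statements.S5312
import Mathlib
import Groth.Agent.GrpSchField.Translate
-- import your own Groth.Agent.* helpers here

set_option autoImplicit false
universe u
open CategoryTheory CategoryTheory.Limits MonoidalCategory CartesianMonoidalCategory MonObj GrpObj AlgebraicGeometry
open SGA3

namespace Groth.Agent.S5312

/-- Let u : G → H be a homomorphism of S-group schemes, with G flat and locally of finite presentation
over S and H locally of finite type over S. Then the set U of points s of S such that the fibre u_s
: G_s → H_s over κ(s) is flat is open in S, and the set of points of G at which u is flat (the local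
ring of G is flat over that of H) is the inverse image of U in G. (The published statement assumes
the finiteness and flatness conditions only at the points of the unit sections for the openness of
U; this row assumes them on all of G and H, the case in which the second assertion is stated.) -/
theorem result (S : Scheme.{u}) (G H : Over S) [GrpObj G] [GrpObj H] (u : G ⟶ H) [IsMonHom u]
    [Flat G.hom] [LocallyOfFinitePresentation G.hom] [LocallyOfFiniteType H.hom] :
    IsOpen {s : S | Flat ((Over.pullback (S.fromSpecResidueField s)).map u).left} ∧
    {x : G.left | (u.left.stalkMap x).hom.Flat} = G.hom.base ⁻¹' {s : S | Flat ((Over.pullback (S.fromSpecResidueField s)).map u).left} := by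
  have : LocallyOfFinitePresentation (u.left ≫ H.hom) := by rw [Over.w u]; infer_instance
  have : LocallyOfFinitePresentation u.left :=
    Groth.Agent.GrpSchField.locallyOfFinitePresentation_of_comp u.left H.hom inferInstance inferInstance
  have hW : IsOpen {x : G.left | (u.left.stalkMap x).hom.Flat} := Groth.FlatDescent.isOpen_flatLocus_hom u.left
  have heq : {x : G.left | (u.left.stalkMap x).hom.Flat} = G.hom.base ⁻¹' {s : S | Flat ((Over.pullback (S.fromSpecResidueField s)).map u).left} := by
    ext x
    exact ⟨fun hx => Groth.Agent.GrpSchField.flat_fibre_of_flat_stalkMap u fun y hy =>
      Groth.Agent.GrpSchField.flat_stalkMap_of_same_fibre u hx hy.symm,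
      fun hx => (Groth.Agent.GrpSchField.flat_stalkMap_of_flat_fibre u hx).2⟩
  refine ⟨?_, heq⟩
  have hsurj : Function.Surjective G.hom := fun s => ⟨η[G].left s, by
    rw [← Scheme.Hom.comp_apply, Over.w η[G]]; rfl⟩
  rw [← Set.image_preimage_eq {s : S | Flat ((Over.pullback (S.fromSpecResidueField s)).map u).left} hsurj, ← heq]
  exact G.hom.isOpenMap _ hW

end Groth.Agent.S5312
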