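import Groth.Statements.S5313
import Groth.Agent.FibrewiseCrit.Group
import Groth.Agent.FibrewiseCrit.LQF
-- import your own Groth.Agent.* helpers here

set_option autoImplicit false
set_option linter.style.haveILetI false
set_option backward.isDefEq.respectTransparency false
universe u
open CategoryTheory CategoryTheory.Limits MonoidalCategory CartesianMonoidalCategory MonObj GrpObj AlgebraicGeometry
open SGA3

namespace Groth.Agent.S5313

/-- Let u : G → H be a homomorphism of S-group schemes, with G flat and locally of finite presentation
over S and H locally of finite type over S. Then the set U of points s of S such that the fibre u_s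
: G_s → H_s over κ(s) is smooth is open in S, and the set of points of G at which u is smooth (u is
smooth on some open neighbourhood) is the inverse image of U in G. (The published statement assumes
the finiteness and flatness conditions only at the points of the unit sections for the openness of
U; this row assumes them on all of G and H, the case in which the second assertion is stated.) -/
theorem result (S : Scheme.{u}) (G H : Over S) [GrpObj G] [GrpObj H] (u : G ⟶ H) [IsMonHom u]
    [Flat G.hom] [LocallyOfFinitePresentation G.hom] [LocallyOfFiniteType H.hom] :
    IsOpen {s : S | Smooth ((Over.pullback (S.fromSpecResidueField s)).map u).left} ∧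
    {x : G.left | ∃ W : G.left.Opens, x ∈ W ∧ Smooth (W.ι ≫ u.left)} = G.hom.base ⁻¹' {s : S | Smooth ((Over.pullback (S.fromSpecResidueField s)).map u).left} := by
  haveI : LocallyOfFinitePresentation u.left := by
    haveI : LocallyOfFinitePresentation (u.left ≫ H.hom) := by rw [Over.w u]; infer_instance
    exact Groth.FibrewiseCrit.locallyOfFinitePresentation_of_comp _ H.hom inferInstance inferInstance
  haveI hp : ∀ s, LocallyOfFinitePresentation ((Over.pullback (S.fromSpecResidueField s)).map u).left := fun s =>
    MorphismProperty.of_isPullback (Groth.FibrewiseCrit.isPullback_fibreHom' u s) inferInstance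
  have key := Groth.FibrewiseCrit.isOpen_setOf_fibreHom u @Smooth (u.left.smoothLocus : Set G.left) u.left.smoothLocus.2
    (fun h hx => Groth.FibrewiseCrit.smoothLocus_saturated u h hx) (fun s => ?_)
  · refine ⟨key.1, ?_⟩
    rw [← key.2]
    ext x
    exact Groth.FibrewiseCrit.exists_nhd_smooth_iff u.left x
  · rw [← Scheme.Hom.smoothLocus_eq_top_iff, ← top_le_iff]
    exact ⟨fun h z => (Groth.FibrewiseCrit.mem_smoothLocus_fibreHom_iff u s z).mp (h trivial),
      fun h z _ => (Groth.FibrewiseCrit.mem_smoothLocus_fibreHom_iff u s z).mpr (h z)⟩

end Groth.Agent.S5313
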