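import Groth.Statements.S5315
import Groth.Agent.FibrewiseCrit.Group
import Groth.Agent.FibrewiseCrit.LQF
-- import your own Groth.Agent.* helpers here

set_option autoImplicit false
set_option linter.style.haveILetI false
set_option backward.isDefEq.respectTransparency false
universe u
open CategoryTheory CategoryTheory.Limits MonoidalCategory CartesianMonoidalCategory MonObj GrpObj AlgebraicGeometry
open SGA3

namespace Groth.Agent.S5315

/-- Let u : G → H be a homomorphism of S-group schemes which is locally of finite type, and suppose
every fibre G_s is locally of finite type over κ(s). Then the set U of points s of S such that u_s :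
G_s → H_s is locally quasi-finite is open in S, and the set of points of G at which u is
quasi-finite (u is locally quasi-finite on some open neighbourhood) is the inverse image of U in G.
(The published statement assumes u locally of finite type only near the unit section for the
openness of U; this row assumes it on all of G, the case in which the second assertion is stated.) -/
theorem result (S : Scheme.{u}) (G H : Over S) [GrpObj G] [GrpObj H] (u : G ⟶ H)
    [IsMonHom u] [LocallyOfFiniteType u.left] (hG : ∀ s : S, LocallyOfFiniteType (G.hom.fiberToSpecResidueField s)) :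
    IsOpen {s : S | LocallyQuasiFinite ((Over.pullback (S.fromSpecResidueField s)).map u).left} ∧
    {x : G.left | ∃ W : G.left.Opens, x ∈ W ∧ LocallyQuasiFinite (W.ι ≫ u.left)} =
      G.hom.base ⁻¹' {s : S | LocallyQuasiFinite ((Over.pullback (S.fromSpecResidueField s)).map u).left} := by
  have key := Groth.FibrewiseCrit.isOpen_setOf_fibreHom u @LocallyQuasiFinite
    {x | u.left.QuasiFiniteAt x} u.left.isOpen_quasiFiniteAt
    (fun h hx => Groth.FibrewiseCrit.locus_saturated u (fun φ => {x | φ.QuasiFiniteAt x})
      (fun k _ w => Scheme.Hom.quasiFiniteAt_comp_iff_of_isOpenImmersion)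
      (fun j _ w => Scheme.Hom.quasiFiniteAt_comp_iff)
      (fun w => Groth.FibrewiseCrit.quasiFiniteAt_of_isPullback (Groth.FibrewiseCrit.isPullback_whiskerRight u) w) h hx)
    (fun s => ?_)
  · refine ⟨key.1, ?_⟩
    rw [← key.2]
    ext x
    exact Groth.FibrewiseCrit.exists_nhd_locallyQuasiFinite_iff u.left x
  · haveI : LocallyOfFiniteType ((Over.pullback (S.fromSpecResidueField s)).map u).left :=
      MorphismProperty.of_isPullback (Groth.FibrewiseCrit.isPullback_fibreHom' u s) inferInstance
    rw [Groth.FibrewiseCrit.locallyQuasiFinite_iff_forall_quasiFiniteAt]
    exact forall_congr' fun z =>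
      Groth.FibrewiseCrit.quasiFiniteAt_of_isPullback (Groth.FibrewiseCrit.isPullback_fibreHom' u s) z

end Groth.Agent.S5315
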