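import Groth.Statements.S5317
import Groth.Agent.FibrewiseCrit.Group

set_option autoImplicit false
universe u
open CategoryTheory CategoryTheory.Limits MonoidalCategory CartesianMonoidalCategory MonObj GrpObj AlgebraicGeometry
open SGA3 Groth.FibrewiseCrit
set_option linter.style.haveILetI false
set_option backward.isDefEq.respectTransparency false

namespace Groth.Agent.S5317

/-- Let u : G → H be a homomorphism of S-group schemes which is universally injective (for instance a
monomorphism), with G flat and locally of finite presentation over S and H locally of finite type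
over S. Then the set U of points s of S such that u_s : G_s → H_s is an open immersion is open in S,
and the restriction of u over every open of S contained in U is an open immersion. -/
theorem result (S : Scheme.{u}) (G H : Over S) [GrpObj G] [GrpObj H]
    (u : G ⟶ H) [IsMonHom u] [UniversallyInjective u.left]
    [Flat G.hom] [LocallyOfFinitePresentation G.hom] [LocallyOfFiniteType H.hom] :
    IsOpen {s : S | IsOpenImmersion ((Over.pullback (S.fromSpecResidueField s)).map u).left} ∧
    ∀ W : S.Opens, (W : Set S) ⊆ {s : S | IsOpenImmersion ((Over.pullback (S.fromSpecResidueField s)).map u).left} → IsOpenImmersion ((G.hom ⁻¹ᵁ W).ι ≫ u.left) := by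
  haveI : LocallyOfFinitePresentation (u.left ≫ H.hom) := by rw [Over.w u]; infer_instance
  haveI : LocallyOfFinitePresentation u.left :=
    Groth.FibrewiseCrit.locallyOfFinitePresentation_of_comp u.left H.hom inferInstance inferInstance
  have hoi : ∀ {A B : Scheme.{u}} (f : A ⟶ B) [UniversallyInjective f] [LocallyOfFinitePresentation f],
      IsOpenImmersion f ↔ ∀ a, a ∈ f.smoothLocus ∧ a ∈ fuLocus f := by
    intro A B f _ _
    refine ⟨fun _ a => ⟨?_, (formallyUnramified_iff_forall_mem_fuLocus f).mp inferInstance a⟩, fun h => ?_⟩
    · rw [Scheme.Hom.smoothLocus_eq_top]; trivial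
    · haveI : Smooth f := Scheme.Hom.smoothLocus_eq_top_iff.mp (top_le_iff.mp fun a _ => (h a).1)
      haveI : FormallyUnramified f := (formallyUnramified_iff_forall_mem_fuLocus f).mpr fun a => (h a).2
      haveI := mono_of_formallyUnramified_of_universallyInjective f
      exact IsOpenImmersion.of_flat_of_mono f
  have key := isOpen_setOf_fibreHom u @IsOpenImmersion
    {x | x ∈ u.left.smoothLocus ∧ x ∈ fuLocus u.left}
    (u.left.smoothLocus.2.inter (isOpen_fuLocus u.left))
    (fun h hx => ⟨smoothLocus_saturated u h hx.1, fuLocus_saturated u h hx.2⟩)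
    (fun s => ?_)
  · refine ⟨key.1, fun W hW => ?_⟩
    haveI : UniversallyInjective (G.hom ⁻¹ᵁ W).ι := by
      rw [UniversallyInjective.iff_diagonal]; infer_instance
    haveI : UniversallyInjective ((G.hom ⁻¹ᵁ W).ι ≫ u.left) := MorphismProperty.comp_mem _ _ _ inferInstance inferInstance
    refine (hoi _).mpr fun w => ?_
    have hw : (G.hom ⁻¹ᵁ W).ι w ∈ {x | x ∈ u.left.smoothLocus ∧ x ∈ fuLocus u.left} := by
      rw [key.2]; exact hW w.2
    exact ⟨(mem_smoothLocus_comp_left _ _ w).mpr hw.1, (mem_fuLocus_comp_left _ _ w).mpr hw.2⟩
  · have hpb := isPullback_fibreHom' u s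
    haveI : LocallyOfFinitePresentation ((Over.pullback (S.fromSpecResidueField s)).map u).left :=
      MorphismProperty.of_isPullback hpb inferInstance
    haveI : UniversallyInjective ((Over.pullback (S.fromSpecResidueField s)).map u).left :=
      MorphismProperty.of_isPullback hpb inferInstance
    rw [hoi]
    exact forall_congr' fun z => and_congr (mem_smoothLocus_fibreHom_iff u s z)
      (mem_fuLocus_of_isPullback hpb z)

end Groth.Agent.S5317
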