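import Groth.Statements.S5320
import Groth.Agent.FibrewiseCrit.Kernel
import Groth.Agent.S19473

set_option autoImplicit false
universe u
open CategoryTheory CategoryTheory.Limits MonoidalCategory CartesianMonoidalCategory MonObj GrpObj AlgebraicGeometry
open SGA3

namespace Groth.Agent.S5320

/-- Let u : G → H be a homomorphism of S-group schemes which is locally of finite presentation, with
every fibre G_s locally of finite type over κ(s), and let i : K → G be the kernel of u (the square
i, u, unit of H is cartesian, K with the group structure making i a homomorphism). The following are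
equivalent: u is unramified (formally unramified); every fibre u_s : G_s → H_s is unramified; K is
unramified over S; the unit section of K is an open immersion. -/
theorem result (S : Scheme.{u}) (G H : Over S) [GrpObj G] [GrpObj H] (u : G ⟶ H) [IsMonHom u]
    [LocallyOfFinitePresentation u.left] (hG : ∀ s : S, LocallyOfFiniteType (G.hom.fiberToSpecResidueField s)) (K : Over S) [GrpObj K] (i : K ⟶ G) [IsMonHom i] (hK : AlgGrp.IsKernel i u) :
    (FormallyUnramified u.left ↔ ∀ s : S, FormallyUnramified ((Over.pullback (S.fromSpecResidueField s)).map u).left) ∧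
    (FormallyUnramified u.left ↔ FormallyUnramified K.hom) ∧
    (FormallyUnramified u.left ↔ IsOpenImmersion η[K].left) := by
  haveI : LocallyOfFiniteType K.hom := MorphismProperty.of_isPullback (Groth.FibrewiseCrit.isPullback_kernel_left u i hK) inferInstance
  have h2 := Groth.FibrewiseCrit.formallyUnramified_iff_kernel u i hK
  refine ⟨⟨fun h s => ?_, fun h => ?_⟩, h2, h2.trans (Groth.Agent.S19473.result S K)⟩
  · exact MorphismProperty.of_isPullback (Groth.FibrewiseCrit.isPullback_fibreHom' u s) h
  · rw [Groth.FibrewiseCrit.formallyUnramified_iff_forall_mem_fuLocus]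
    intro x
    obtain ⟨z, hz⟩ : x ∈ Set.range (G.hom.fiberι (G.hom x)) := by rw [Scheme.Hom.range_fiberι]; rfl
    rw [← hz]
    exact (Groth.FibrewiseCrit.mem_fuLocus_of_isPullback (Groth.FibrewiseCrit.isPullback_fibreHom' u _) z).mp
      ((Groth.FibrewiseCrit.formallyUnramified_iff_forall_mem_fuLocus _).mp (h (G.hom x)) z)

end Groth.Agent.S5320
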