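import Groth.Statements.S5321
import Groth.Agent.FibrewiseCrit.Unramified
-- import your own Groth.Agent.* helpers here

set_option autoImplicit false
set_option linter.style.haveILetI false
set_option backward.isDefEq.respectTransparency false
universe u
open CategoryTheory CategoryTheory.Limits MonoidalCategory CartesianMonoidalCategory MonObj GrpObj AlgebraicGeometry
open SGA3

namespace Groth.Agent.S5321

/-- Consider a morphism π : X → S admitting a section ε, and assume the map of underlying spaces of π is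
closed. Fix a point s of S, and suppose that on some open neighbourhood of ε(s) the morphism π is
locally of finite presentation, and that the fibre X_s → Spec κ(s) is an isomorphism. Under these
assumptions one can find an open subset U of S containing s such that π restricts to an isomorphism
π⁻¹(U) → U (consequently ε restricted to U is an isomorphism onto π⁻¹(U)). -/
theorem result (X S : Scheme.{u}) (π : X ⟶ S) (ε : S ⟶ X) (hε : ε ≫ π = 𝟙 S)
    (hcl : IsClosedMap π.base) (s : S)
    (hfp : ∃ W : X.Opens, ε.base s ∈ W ∧ LocallyOfFinitePresentation (W.ι ≫ π))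
    (hs : IsIso (π.fiberToSpecResidueField s)) :
    ∃ U : S.Opens, s ∈ U ∧ IsIso (π ∣_ U) := by
  obtain ⟨W, hxW, hlfp⟩ := hfp
  haveI := hlfp
  let f := W.ι ≫ π
  haveI : LocallyOfFiniteType f := inferInstance
  let x : X := ε.base s
  have hxs : π x = s := by
    show (ε ≫ π) s = s
    rw [hε]; rfl
  let c := S.fromSpecResidueField s
  haveI : IsIso (pullback.snd π c) := hs
  -- the fibre of `f` at `s` is an open piece of the point
  let e : pullback f c ≅ pullback W.ι (pullback.fst π c) := (pullbackRightPullbackFstIso π c W.ι).symm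
  have he : e.hom ≫ pullback.snd W.ι (pullback.fst π c) ≫ pullback.snd π c = pullback.snd f c := by
    simp [e, f]
  haveI : IsOpenImmersion (pullback.snd f c) := by rw [← he]; infer_instance
  obtain ⟨w, hw⟩ : x ∈ Set.range W.ι := by rw [Scheme.Opens.range_ι]; exact hxW
  have hwf : f w = s := by
    show π (W.ι w) = s
    rw [hw]; exact hxs
  obtain ⟨q, hq⟩ : ∃ q, c q = s := ⟨default, Scheme.fromSpecResidueField_apply _ _⟩
  obtain ⟨z, hz, -⟩ := Scheme.Pullback.exists_preimage_pullback (f := f) (g := c) w q (hwf.trans hq.symm)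
  have hwF : w ∈ Groth.FibrewiseCrit.fuLocus f := by
    rw [← hz, ← Groth.FibrewiseCrit.mem_fuLocus_snd]
    exact FormallyUnramified.stalkMap _ z
  obtain ⟨W1, hwW1, hW1⟩ := (Groth.FibrewiseCrit.exists_nhd_formallyUnramified_iff f w).2 hwF
  haveI := hW1
  let i := W1.ι ≫ W.ι
  haveI : IsOpenImmersion i := inferInstance
  haveI : FormallyUnramified (i ≫ π) := by simpa [i, f] using hW1
  haveI : LocallyOfFiniteType (i ≫ π) := by simp only [i, Category.assoc]; infer_instance
  have hxi : x ∈ Set.range i := by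
    obtain ⟨w1, hw1⟩ : w ∈ Set.range W1.ι := by rw [Scheme.Opens.range_ι]; exact hwW1
    exact ⟨w1, by simp only [i, Scheme.Hom.comp_apply, hw1, hw]⟩
  let U0 : S.Opens := ε ⁻¹ᵁ i.opensRange
  let ε' := IsOpenImmersion.lift i (U0.ι ≫ ε) (by
    rintro _ ⟨p, rfl⟩
    exact p.2)
  have hε' : ε' ≫ i = U0.ι ≫ ε := IsOpenImmersion.lift_fac _ _ _
  haveI : IsOpenImmersion (ε' ≫ i ≫ π) := by rw [reassoc_of% hε', hε, Category.comp_id]; infer_instance
  haveI : MorphismProperty.HasOfPostcompProperty @IsOpenImmersion (MorphismProperty.diagonal @IsOpenImmersion) :=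
    MorphismProperty.hasOfPostcompProperty_iff_le_diagonal.2 le_rfl
  haveI : IsOpenImmersion ε' := MorphismProperty.of_postcomp (W := @IsOpenImmersion)
    (W' := MorphismProperty.diagonal @IsOpenImmersion) ε' (i ≫ π)
    (inferInstanceAs (IsOpenImmersion (pullback.diagonal (i ≫ π)))) inferInstance
  let j := U0.ι ≫ ε
  haveI : IsOpenImmersion j := by show IsOpenImmersion (U0.ι ≫ ε); rw [← hε']; infer_instance
  let C := π.base '' (Set.range j)ᶜ
  have hC : IsClosed C := hcl _ j.isOpenEmbedding.isOpen_range.isClosed_compl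
  have hsC : s ∉ C := by
    rintro ⟨y, hy, hys⟩
    obtain ⟨a, ha, -⟩ := Scheme.Pullback.exists_preimage_pullback (f := π) (g := c) y q (hys.trans hq.symm)
    obtain ⟨b, hb, -⟩ := Scheme.Pullback.exists_preimage_pullback (f := π) (g := c) x q (hxs.trans hq.symm)
    have hab : a = b := (pullback.snd π c).homeomorph.injective (Subsingleton.elim _ _)
    refine hy ⟨⟨s, hxi⟩, ?_⟩
    rw [← ha, hab, hb]
    rfl
  refine ⟨⟨Cᶜ, hC.isOpen_compl⟩ ⊓ U0, ⟨hsC, hxi⟩, ?_⟩
  set U : S.Opens := ⟨Cᶜ, hC.isOpen_compl⟩ ⊓ U0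
  have hr : Set.range (π ⁻¹ᵁ U).ι ⊆ Set.range j := by
    rintro _ ⟨p, rfl⟩
    by_contra hp
    exact p.2.1 ⟨_, hp, rfl⟩
  let l := IsOpenImmersion.lift j (π ⁻¹ᵁ U).ι hr
  have hl : l ≫ j = (π ⁻¹ᵁ U).ι := IsOpenImmersion.lift_fac _ _ _
  have key : (π ⁻¹ᵁ U).ι ≫ π ≫ ε = (π ⁻¹ᵁ U).ι := by
    rw [← hl]
    simp [j, reassoc_of% hε]
  have hU : U ≤ ε ⁻¹ᵁ (π ⁻¹ᵁ U) := fun p hp => by
    show (ε ≫ π) p ∈ U
    rw [hε]; exact hp
  refine ⟨ε.resLE (π ⁻¹ᵁ U) U hU, ?_, ?_⟩
  · rw [← cancel_mono (π ⁻¹ᵁ U).ι]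
    simp [morphismRestrict_ι_assoc, key]
  · rw [← cancel_mono U.ι]
    simp [morphismRestrict_ι, Scheme.Hom.resLE_comp_ι_assoc, hε]

end Groth.Agent.S5321
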