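import Groth.Statements.S5326
import Groth.Agent.NeutralSet.Represent
-- import your own Groth.Agent.* helpers here

set_option autoImplicit false
universe u
open CategoryTheory CategoryTheory.Limits MonoidalCategory CartesianMonoidalCategory MonObj GrpObj AlgebraicGeometry
open SGA3

namespace Groth.Agent.S5326

/-- Let G be an S-group scheme locally of finite presentation over S, and suppose the neutral component
subfunctor of G is representable: there is a monomorphism i : G⁰ → G of S-schemes such that a point
g : T → G factors through i exactly when the image of the underlying map of g lies in the union of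
the neutral components of the fibres G_s. Then i is an open immersion and G⁰ is quasi-compact over
S. -/
theorem result (S : Scheme.{u}) (G : Over S) [GrpObj G]
    [LocallyOfFinitePresentation G.hom] (G0 : Over S) (i : G0 ⟶ G) [Mono i]
    (hrep : ∀ (T : Over S) (g : T ⟶ G), (∃ z : T ⟶ G0, z ≫ i = g) ↔ Set.range g.left.base ⊆ SGA3x.neutralSet G) :
    IsOpenImmersion i.left ∧ QuasiCompact G0.hom := by
  obtain ⟨hopen, hoi, hr⟩ := NeutralSet.representable_openImmersion G G0 i hrep
  refine ⟨hoi, ?_⟩
  obtain ⟨G1, _, i1, _, hi1, hr1, hqc⟩ := NeutralSet.exists_subgroup G hopen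
  haveI : LocallyOfFiniteType G1.hom := by rw [← Over.w i1]; infer_instance
  haveI := hqc inferInstance
  have he : Set.range i.left = Set.range i1.left := hr.trans hr1.symm
  rw [← Over.w i, ← IsOpenImmersion.lift_fac i1.left i.left he.le, Category.assoc, Over.w i1]
  haveI : IsIso (IsOpenImmersion.lift i1.left i.left he.le) :=
    (IsOpenImmersion.isoOfRangeEq i.left i1.left he).isIso_hom
  infer_instance

end Groth.Agent.S5326
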