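import Groth.Statements.S5329
import Groth.Agent.GrpFibreDim.Basic
import Groth.Agent.FibreSemi.Basic
import Groth.Agent.S9355
-- import your own Groth.Agent.* helpers here

set_option autoImplicit false
universe u
open CategoryTheory CategoryTheory.Limits MonoidalCategory CartesianMonoidalCategory MonObj GrpObj AlgebraicGeometry
open SGA3

namespace Groth.Agent.S5329

open AlgebraicGeometry CategoryTheory

/-- Let G be an S-group scheme locally of finite type over S. Then (i) s ↦ dim G_s is upper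
semicontinuous on S; (ii) if G is locally of finite presentation over S, this function is locally
constructible: every point of S has an open neighbourhood V on which it takes finitely many values
and on which each of its level sets is constructible. (The published statement is for an S-scheme
locally of finite type with a section ε such that dim G_s = dim_{ε(s)} G_s for all s; this row takes
the case of a group scheme, where that condition holds.) -/
theorem result (S : Scheme.{u}) (G : Over S) [GrpObj G] [LocallyOfFiniteType G.hom] :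
    UpperSemicontinuous (fun s : S => topologicalKrullDim ↥(G.hom.base ⁻¹' {s})) ∧
    (LocallyOfFinitePresentation G.hom → ∀ s : S, ∃ V : S.Opens, s ∈ V ∧
      ((fun t : S => topologicalKrullDim ↥(G.hom.base ⁻¹' {t})) '' (V : Set S)).Finite ∧
      ∀ d : WithBot ℕ∞, Topology.IsConstructible {t : V | topologicalKrullDim ↥(G.hom.base ⁻¹' {(t : S)}) = d}) := by
  have he : ∀ s : S, topologicalKrullDim ↥(G.hom.base ⁻¹' {s}) = FlatMor.fibreDimAt G.hom (NeutralSet.e1 G s) :=
    GrpFibreDim.dim_fibre_eq_unit G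
  refine ⟨?_, fun hlfp s => ?_⟩
  · rw [upperSemicontinuous_iff_isOpen_preimage]
    intro c
    have hopen : IsOpen {x : G.left | FlatMor.fibreDimAt G.hom x < c} := by
      rw [isOpen_iff_forall_mem_open]
      intro x hx
      obtain ⟨O, hxO, hO⟩ := GeomUnib.exists_nhds_fibreDimAt_le G.hom x
      exact ⟨O, fun z hz => (hO z hz).trans_lt hx, O.2, hxO⟩
    convert hopen.preimage (NeutralSet.e1 G).continuous using 1
    ext t
    simp only [Set.mem_preimage, Set.mem_Iio, he, Set.mem_ofPred_eq]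
  obtain ⟨O, hsO, hO⟩ := GeomUnib.exists_nhds_fibreDimAt_le G.hom (NeutralSet.e1 G s)
  obtain ⟨n0, hn0, -⟩ := FibreDim.exists_fibreDimAt_eq G.hom (NeutralSet.e1 G s)
  obtain ⟨W, hW, hsW, hWO⟩ := exists_isAffineOpen_mem_and_subset (U := O) hsO
  obtain ⟨V, hV, hsV, hVW⟩ := exists_isAffineOpen_mem_and_subset (U := (NeutralSet.e1 G) ⁻¹ᵁ W) (x := s) hsW
  haveI : IsAffine V.toScheme := hV
  haveI : IsAffine W.toScheme := hW
  let r : V.toScheme ⟶ W.toScheme := (NeutralSet.e1 G).resLE W V hVW
  have hr : ∀ t : V.toScheme, W.ι (r t) = NeutralSet.e1 G (V.ι t) := fun t => by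
    simp only [r, ← Scheme.Hom.comp_apply]
    exact congrArg (fun m : V.toScheme ⟶ G.left => m t) (Scheme.Hom.resLE_comp_ι _ hVW)
  let A : ℕ → Set V.toScheme := fun n => {t : V.toScheme | topologicalKrullDim ↥(G.hom.base ⁻¹' {(V.ι t)}) ≤ (n : WithBot ℕ∞)}
  have hA : ∀ n, Topology.IsConstructible (A n) := fun n => by
    let B : Set W.toScheme := W.ι ⁻¹' {x : G.left | FlatMor.fibreDimAt G.hom x ≤ (n : WithBot ℕ∞)}
    have hBo : IsOpen B := (FibreSemi.isOpen_le G.hom _).preimage W.ι.continuous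
    have hBc : IsCompact B := by
      rw [W.ι.isOpenEmbedding.isInducing.isCompact_iff]
      haveI := hlfp
      have := S9355.result G.hom n hW.isCompact W.2
      convert this using 1
      rw [Set.image_preimage_eq_inter_range, Scheme.Opens.range_ι]
    have hAB : A n = r ⁻¹' B := by
      ext t
      show topologicalKrullDim ↥(G.hom.base ⁻¹' {(V.ι t)}) ≤ (n : WithBot ℕ∞) ↔
        FlatMor.fibreDimAt G.hom (W.ι (r t)) ≤ (n : WithBot ℕ∞)
      rw [hr, he]
    rw [hAB]
    exact ((QuasiCompact.isCompact_preimage (f := r) B hBo hBc).isConstructible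
      (hBo.preimage r.continuous))
  have hval : ∀ t : V.toScheme, ∃ k : ℕ, k ≤ n0 ∧ topologicalKrullDim ↥(G.hom.base ⁻¹' {(V.ι t)}) = k := fun t => by
    obtain ⟨k, hk, -⟩ := FibreDim.exists_fibreDimAt_eq G.hom (NeutralSet.e1 G (V.ι t))
    have h1 : FlatMor.fibreDimAt G.hom (NeutralSet.e1 G (V.ι t)) ≤ _ := hO _ (hWO (hVW t.2))
    rw [hk, hn0] at h1
    exact ⟨k, by exact_mod_cast h1, (he _).trans hk⟩
  refine ⟨V, hsV, ((Set.finite_Iic n0).image fun k : ℕ => (k : WithBot ℕ∞)).subset ?_, fun d => ?_⟩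
  · rintro _ ⟨t, ht, rfl⟩
    obtain ⟨k, hk, hkd⟩ := hval ⟨t, ht⟩
    exact ⟨k, hk, hkd.symm⟩
  suffices h : Topology.IsConstructible
      {t : V.toScheme | topologicalKrullDim ↥(G.hom.base ⁻¹' {(V.ι t)}) = d} from h
  by_cases hd : ∃ k : ℕ, d = k
  · obtain ⟨k, rfl⟩ := hd
    rcases k with _ | k
    · convert hA 0 using 1
      ext t
      obtain ⟨j, -, hj⟩ := hval t
      show topologicalKrullDim ↥(G.hom.base ⁻¹' {(V.ι t)}) = ((0:ℕ) : WithBot ℕ∞) ↔ topologicalKrullDim ↥(G.hom.base ⁻¹' {(V.ι t)}) ≤ ((0:ℕ) : WithBot ℕ∞)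
      rw [hj, Nat.cast_inj, Nat.cast_le, Nat.le_zero]
    · convert (hA (k + 1)).sdiff (hA k) using 1
      ext t
      obtain ⟨j, -, hj⟩ := hval t
      show topologicalKrullDim ↥(G.hom.base ⁻¹' {(V.ι t)}) = ((k + 1 : ℕ) : WithBot ℕ∞) ↔ topologicalKrullDim ↥(G.hom.base ⁻¹' {(V.ι t)}) ≤ ((k + 1 : ℕ) : WithBot ℕ∞) ∧ ¬ topologicalKrullDim ↥(G.hom.base ⁻¹' {(V.ι t)}) ≤ (k : WithBot ℕ∞)
      rw [hj, Nat.cast_inj, Nat.cast_le, Nat.cast_le]
      omega
  · convert (Topology.IsConstructible.empty (X := V.toScheme)) using 1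
    refine Set.eq_empty_of_forall_notMem fun t ht => hd ?_
    obtain ⟨k, -, hk⟩ := hval t
    exact ⟨k, (show _ = d from ht).symm.trans hk⟩

end Groth.Agent.S5329
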