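import Mathlib
import Groth.Agent.GrpSchField.Subgroup
import Groth.Agent.SepDescent.Basic
import Groth.Statements.S5331
-- import your own Groth.Agent.* helpers here

set_option autoImplicit false
universe u
open CategoryTheory CategoryTheory.Limits MonoidalCategory CartesianMonoidalCategory MonObj GrpObj AlgebraicGeometry
open SGA3

namespace Groth.Agent.S5331

/-- Let S be a scheme whose underlying topological space is discrete. Then every S-group scheme is
separated over S. -/
theorem result (S : Scheme.{u}) [DiscreteTopology S] (G : Over S) [GrpObj G] :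
    IsSeparated G.hom := by
  have key : ∀ {Y : Scheme.{u}} [IsAffine Y] [Subsingleton Y] [Nonempty Y] (H : Over Y) [GrpObj H], IsSeparated H.hom := by
    intro Y _ _ _ H _
    let p : PrimeSpectrum Γ(Y, ⊤) := Y.isoSpec.hom.base (Classical.arbitrary Y)
    haveI : Subsingleton (Spec Γ(Y, ⊤)) := Y.isoSpec.inv.homeomorph.subsingleton
    haveI : p.asIdeal.IsMaximal := by
      obtain ⟨m, hm, hle⟩ := Ideal.exists_le_maximal _ p.isPrime.ne_top
      have h : (⟨m, hm.isPrime⟩ : PrimeSpectrum Γ(Y, ⊤)) = p := Subsingleton.elim (α := Spec Γ(Y, ⊤)) _ _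
      rw [← h]; exact hm
    letI : Field (Γ(Y, ⊤) ⧸ p.asIdeal) := Ideal.Quotient.field _
    let jK : Spec (CommRingCat.of (Γ(Y, ⊤) ⧸ p.asIdeal)) ⟶ Y :=
      Spec.map (CommRingCat.ofHom (Ideal.Quotient.mk p.asIdeal)) ≫ Y.isoSpec.inv
    haveI : IsClosedImmersion jK := by
      haveI : IsClosedImmersion (Spec.map (CommRingCat.ofHom (Ideal.Quotient.mk p.asIdeal))) :=
        IsClosedImmersion.spec_of_surjective _ Ideal.Quotient.mk_surjective
      infer_instance
    haveI : Surjective jK :=
      ⟨fun y => ⟨(default : PrimeSpectrum (Γ(Y, ⊤) ⧸ p.asIdeal)), Subsingleton.elim _ _⟩⟩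
    letI : GrpObj ((Over.pullback jK).obj H) := Functor.grpObjObj
    haveI hs : IsSeparated ((Over.pullback jK).obj H).hom := Groth.Agent.GrpSchField.isSeparated_hom
    haveI : IsSeparated (Limits.pullback.fst H.hom jK ≫ H.hom) := by
      haveI : IsSeparated (Limits.pullback.snd H.hom jK) := hs
      rw [Limits.pullback.condition]; infer_instance
    exact Groth.Agent.SepDescent.isSeparated_of_comp (Limits.pullback.fst H.hom jK) H.hom
  classical
  have hU : ∀ y : S, ∃ U : S.Opens, IsAffineOpen U ∧ y ∈ U ∧ (U : Set S) ⊆ {y} := fun y => by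
    obtain ⟨_, ⟨U, hU, rfl⟩, hy, hle⟩ := (S.isBasis_affineOpens).exists_subset_of_mem_open (Set.mem_singleton y) (isOpen_discrete _)
    exact ⟨U, hU, hy, hle⟩
  choose U hUa hUy hUle using hU
  refine (IsZariskiLocalAtTarget.iff_of_iSup_eq_top U ?_).mpr fun y => ?_
  · exact eq_top_iff.mpr fun y _ => TopologicalSpace.Opens.mem_iSup.mpr ⟨y, hUy y⟩
  · haveI : IsAffine (U y).toScheme := hUa y
    haveI : Subsingleton (U y).toScheme :=
      ⟨fun a b => Subtype.ext ((hUle y a.2).trans (hUle y b.2).symm)⟩
    haveI : Nonempty (U y).toScheme := ⟨⟨y, hUy y⟩⟩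
    letI : GrpObj ((Over.pullback (U y).ι).obj G) := Functor.grpObjObj
    haveI : IsSeparated (Limits.pullback.snd G.hom (U y).ι) := key ((Over.pullback (U y).ι).obj G)
    unfold morphismRestrict
    infer_instance

end Groth.Agent.S5331
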