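import Groth.Statements.S5333
import Mathlib
-- import your own Groth.Agent.* helpers here

set_option autoImplicit false
universe u
open CategoryTheory CategoryTheory.Limits MonoidalCategory CartesianMonoidalCategory MonObj GrpObj AlgebraicGeometry
open SGA3

namespace Groth.Agent.S5333

theorem isReduced_vanishing {X : Scheme.{u}} (C : TopologicalSpace.Closeds X) :
    IsReduced (Scheme.IdealSheafData.vanishingIdeal C).subscheme := by
  let I := Scheme.IdealSheafData.vanishingIdeal C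
  have : ∀ i, IsReduced (I.subschemeCover.openCover.X i) := fun U => by
    change IsReduced (Spec (CommRingCat.of (Γ(X, U.1) ⧸ I.ideal U)))
    have : _root_.IsReduced (Γ(X, U.1) ⧸ I.ideal U) := by
      rw [← Ideal.isRadical_iff_quotient_reduced]
      simp only [I]
      exact PrimeSpectrum.isRadical_vanishingIdeal _
    infer_instance
  exact AlgebraicGeometry.IsReduced.of_openCover (X := _) I.subschemeCover.openCover

theorem of_reduced_pairs {X S : Scheme.{u}} (f : X ⟶ S)
    (h : ∀ (T : Scheme.{u}) [IsReduced T] (g₁ g₂ : T ⟶ X) (U : T.Opens), g₁ ≫ f = g₂ ≫ f →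
      Dense (U : Set T) → U.ι ≫ g₁ = U.ι ≫ g₂ → g₁ = g₂) : IsSeparated f := by
  constructor
  let Δ := pullback.diagonal f
  let Z : TopologicalSpace.Closeds (pullback f f : Scheme) := ⟨closure (Set.range Δ), isClosed_closure⟩
  let I := Scheme.IdealSheafData.vanishingIdeal Z
  let j := I.subschemeι
  have hr : Set.range j = closure (Set.range Δ) := by
    rw [Scheme.IdealSheafData.range_subschemeι, Scheme.IdealSheafData.coe_support_vanishingIdeal]; rfl
  haveI : IsReduced I.subscheme := isReduced_vanishing Z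
  let U : I.subscheme.Opens := j ⁻¹ᵁ ⟨coborder (Set.range Δ), Δ.isLocallyClosed_range.isOpen_coborder⟩
  have hU : ∀ x : I.subscheme, x ∈ U ↔ j x ∈ Set.range Δ := fun x => by
    constructor
    · intro hx
      have : j x ∈ closure (Set.range Δ) ∩ coborder (Set.range Δ) := ⟨hr ▸ Set.mem_range_self x, hx⟩
      rwa [closure_inter_coborder] at this
    · exact fun hx => subset_coborder hx
  have hd : Dense (U : Set I.subscheme) := fun x => by
    rw [j.isEmbedding.toIsInducing.closure_eq_preimage_closure_image]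
    refine closure_mono ?_ (hr ▸ Set.mem_range_self x : j x ∈ closure (Set.range Δ))
    rintro _ ⟨y, rfl⟩
    obtain ⟨z, hz⟩ : Δ y ∈ Set.range j := hr ▸ subset_closure (Set.mem_range_self y)
    exact ⟨z, (hU z).2 (hz ▸ Set.mem_range_self y), hz⟩
  let q := pullback.snd Δ (U.ι ≫ j)
  have hq : Surjective q := ⟨fun x => by
    obtain ⟨y, hy⟩ := (hU (U.ι x)).1 x.2
    obtain ⟨z, hz₁, hz₂⟩ := Scheme.Pullback.exists_preimage_pullback (f := Δ) (g := U.ι ≫ j) y x hy
    exact ⟨z, hz₂⟩⟩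
  have : IsClosedImmersion q := .of_isPreimmersion q (by simp [Set.range_eq_univ.2 hq.1])
  have : IsIso q := isIso_of_isClosedImmersion_of_surjective q
  have e : j ≫ pullback.fst f f = j ≫ pullback.snd f f := by
    refine h I.subscheme _ _ U ?_ hd ?_
    · simp only [Category.assoc, pullback.condition]
    · rw [← cancel_epi q]
      have hc : q ≫ U.ι ≫ j = pullback.fst Δ (U.ι ≫ j) ≫ Δ := pullback.condition.symm
      rw [← Category.assoc] at hc
      simp only [← Category.assoc]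
      rw [hc]
      simp [Δ]
  refine .of_isPreimmersion _ ?_
  suffices closure (Set.range Δ) ⊆ Set.range Δ from
    (subset_antisymm subset_closure this) ▸ isClosed_closure
  rw [← hr]
  rintro _ ⟨x, rfl⟩
  refine ⟨(j ≫ pullback.fst f f) x, ?_⟩
  have : j = (j ≫ pullback.fst f f) ≫ Δ := by apply pullback.hom_ext <;> simp [Δ, e]
  exact (congrArg (fun k : I.subscheme ⟶ pullback f f => k x) this).symm

theorem pairs_imp {X S : Scheme.{u}} (f : X ⟶ S)
    (h : ∀ x₁ x₂ : X, f.base x₁ = f.base x₂ →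
      ∃ V : X.Opens, x₁ ∈ V ∧ x₂ ∈ V ∧ IsSeparated (V.ι ≫ f))
    (T : Scheme.{u}) [IsReduced T] (g₁ g₂ : T ⟶ X) (U : T.Opens) (hg : g₁ ≫ f = g₂ ≫ f)
    (hd : Dense (U : Set T)) (hU : U.ι ≫ g₁ = U.ι ≫ g₂) : g₁ = g₂ := by
  choose V h₁ h₂ hs using fun t : T => h (g₁ t) (g₂ t) (by
    rw [← Scheme.Hom.comp_apply, ← Scheme.Hom.comp_apply, hg])
  let W (t : T) : T.Opens := g₁ ⁻¹ᵁ V t ⊓ g₂ ⁻¹ᵁ V t
  refine (T.openCoverOfIsOpenCover W (TopologicalSpace.IsOpenCover.mk (top_le_iff.1 fun t _ =>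
    TopologicalSpace.Opens.mem_iSup.2 ⟨t, h₁ t, h₂ t⟩))).hom_ext _ _ fun t => ?_
  change (W t).ι ≫ g₁ = (W t).ι ≫ g₂
  have := hs t
  have r₁ : Set.range ((W t).ι ≫ g₁) ⊆ Set.range (V t).ι := by
    rintro _ ⟨x, rfl⟩; rw [Scheme.Opens.range_ι]; exact x.2.1
  have r₂ : Set.range ((W t).ι ≫ g₂) ⊆ Set.range (V t).ι := by
    rintro _ ⟨x, rfl⟩; rw [Scheme.Opens.range_ι]; exact x.2.2
  let k₁ := IsOpenImmersion.lift (V t).ι _ r₁
  let k₂ := IsOpenImmersion.lift (V t).ι _ r₂
  suffices k₁ = k₂ by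
    rw [← IsOpenImmersion.lift_fac (V t).ι _ r₁, ← IsOpenImmersion.lift_fac (V t).ι _ r₂]
    exact congrArg (· ≫ (V t).ι) this
  let U' : (W t).toScheme.Opens := (W t).ι ⁻¹ᵁ U
  have : IsDominant U'.ι := ⟨by
    rw [DenseRange, Scheme.Opens.range_ι]; exact hd.preimage (W t).ι.isOpenEmbedding.isOpenMap⟩
  refine ext_of_isDominant_of_isSeparated ((V t).ι ≫ f) ?_ U'.ι ?_
  · simp only [k₁, k₂, IsOpenImmersion.lift_fac_assoc, Category.assoc, hg]
  · rw [← cancel_mono (V t).ι]
    simp only [k₁, k₂, Category.assoc, IsOpenImmersion.lift_fac]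
    rw [← morphismRestrict_ι_assoc, ← morphismRestrict_ι_assoc, hU]


/-- (i) ⟺ (iii) ⟺ (iv'): let f : X → S be a morphism of schemes. Then X is separated over S if and only
if for every reduced scheme T and every two morphisms T → X with the same composite to S which agree
on a dense open subscheme of T are equal; and X is separated over S if and only if every two points
of X in the same fibre over S lie in a common open subscheme of X which is separated over S. -/
theorem result (X S : Scheme.{u}) (f : X ⟶ S) :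
    (IsSeparated f ↔ ∀ (T : Scheme.{u}) [IsReduced T] (g₁ g₂ : T ⟶ X) (U : T.Opens), g₁ ≫ f = g₂ ≫ f →
      Dense (U : Set T) → U.ι ≫ g₁ = U.ι ≫ g₂ → g₁ = g₂) ∧
    (IsSeparated f ↔ ∀ x₁ x₂ : X, f.base x₁ = f.base x₂ →
      ∃ V : X.Opens, x₁ ∈ V ∧ x₂ ∈ V ∧ IsSeparated (V.ι ≫ f)) := by
  have fwd : IsSeparated f → ∀ (T : Scheme.{u}) [IsReduced T] (g₁ g₂ : T ⟶ X) (U : T.Opens),
      g₁ ≫ f = g₂ ≫ f → Dense (U : Set T) → U.ι ≫ g₁ = U.ι ≫ g₂ → g₁ = g₂ := by
    intro _ T _ g₁ g₂ U hg hd hU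
    have : IsDominant U.ι := ⟨by rw [DenseRange, Scheme.Opens.range_ι]; exact hd⟩
    exact ext_of_isDominant_of_isSeparated f hg U.ι hU
  refine ⟨⟨fwd, of_reduced_pairs f⟩, ⟨fun _ x₁ x₂ _ => ⟨⊤, trivial, trivial, inferInstance⟩,
    fun h => of_reduced_pairs f fun T _ g₁ g₂ U => pairs_imp f h T g₁ g₂ U⟩⟩

end Groth.Agent.S5333
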