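import Groth.Statements.S5335
import Groth.Agent.GrpdClosed.Sub
import Groth.Agent.ThickProps.Basic
-- import your own Groth.Agent.* helpers here

set_option autoImplicit false
universe u
open CategoryTheory CategoryTheory.Limits MonoidalCategory CartesianMonoidalCategory MonObj GrpObj AlgebraicGeometry
open SGA3

namespace Groth.Agent.S5335

/-- Let A be a local artinian ring and f : X' → X, g : Y' → Y two quasi-compact dominant morphisms of
schemes over A. Then the product morphism f ×_A g : X' ×_A Y' → X ×_A Y is dominant (and
quasi-compact). -/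
theorem result (A : Type u) [CommRing A] [IsArtinianRing A] [IsLocalRing A] (X X' Y Y' : Over (Spec (CommRingCat.of A)))
    (f : X' ⟶ X) (g : Y' ⟶ Y) [QuasiCompact f.left] [QuasiCompact g.left]
    (hf : DenseRange f.left.base) (hg : DenseRange g.left.base) :
    DenseRange (f ⊗ₘ g).left.base ∧ QuasiCompact (f ⊗ₘ g).left := by
  let jk := Spec.map (CommRingCat.ofHom (IsLocalRing.residue A))
  haveI : IsClosedImmersion jk := IsClosedImmersion.spec_of_surjective _ IsLocalRing.residue_surjective
  haveI : Subsingleton ↥(Spec (CommRingCat.of A)) := inferInstanceAs (Subsingleton (PrimeSpectrum A))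
  haveI : Surjective jk := ⟨fun y => ⟨Classical.arbitrary _, Subsingleton.elim _ _⟩⟩
  haveI : UniversallyOpen jk := Groth.Agent.ThickProps.universallyOpen_of_surjective_closedImmersion jk
  have huo : ∀ Z : Over (Spec (CommRingCat.of A)), UniversallyOpen Z.hom := by
    intro Z
    haveI : UniversallyOpen (Limits.pullback.snd Z.hom jk) :=
      Groth.Agent.GrpdClosed.universallyOpen_to_field (k := IsLocalRing.ResidueField A) (Iso.refl _) _
    haveI : UniversallyOpen (Limits.pullback.fst Z.hom jk ≫ Z.hom) := by
      rw [Limits.pullback.condition]; infer_instance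
    exact Groth.Agent.ThickProps.universallyOpen_of_comp_surjective (Limits.pullback.fst Z.hom jk) Z.hom
  refine ⟨?_, ?_⟩
  · rw [show f ⊗ₘ g = f ▷ Y' ≫ X ◁ g from MonoidalCategory.tensorHom_def f g, Over.comp_left, Scheme.Hom.comp_base, TopCat.coe_comp]
    have h1 : DenseRange (f ▷ Y').left.base := by
      haveI := huo Y'
      rw [← MonoidalCategory.tensorHom_id, Over.tensorHom_left, DenseRange, Scheme.Pullback.range_map]
      simp only [Over.id_left, Scheme.Hom.id_base, TopCat.coe_id, Set.range_id, Set.preimage_univ, Set.inter_univ]
      exact hf.preimage (Limits.pullback.fst X.hom Y'.hom).isOpenMap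
    have h2 : DenseRange (X ◁ g).left.base := by
      haveI := huo X
      rw [← MonoidalCategory.id_tensorHom, Over.tensorHom_left, DenseRange, Scheme.Pullback.range_map]
      simp only [Over.id_left, Scheme.Hom.id_base, TopCat.coe_id, Set.range_id, Set.preimage_univ, Set.univ_inter]
      exact hg.preimage (Limits.pullback.snd X.hom Y.hom).isOpenMap
    exact h2.comp h1 (X ◁ g).left.continuous
  · rw [Over.tensorHom_left]
    exact MorphismProperty.pullbackMap (P := @QuasiCompact) ‹_› ‹_› (Over.w f).symm (Over.w g).symm

end Groth.Agent.S5335
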