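import Groth.Statements.S5337
import Groth.Agent.FibrewiseCrit.LfpDescent
import Groth.Agent.FibrewiseCrit.PowEtale

set_option autoImplicit false
universe u
open CategoryTheory CategoryTheory.Limits MonoidalCategory CartesianMonoidalCategory MonObj GrpObj AlgebraicGeometry
open SGA3 Groth.FibrewiseCrit
set_option linter.style.haveILetI false

namespace Groth.Agent.S5337

/-- Quasi-finite, unramified, smooth and etale cases: let A be a local artinian ring, G an A-group
scheme which is flat and locally of finite type over A, and u : G → H a homomorphism of A-group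
schemes. If u is locally quasi-finite (resp. unramified, that is formally unramified and locally of
finite presentation, resp. smooth, resp. etale) on some nonempty open subscheme of G, then u is
locally quasi-finite (resp. unramified, resp. smooth, resp. etale). (Here u is automatically locally
of finite type.) -/
theorem result (A : Type u) [CommRing A] [IsArtinianRing A] [IsLocalRing A] (G H : Over (Spec (CommRingCat.of A))) [GrpObj G] [GrpObj H]
    [Flat G.hom] [LocallyOfFiniteType G.hom] (u : G ⟶ H) [IsMonHom u] (W : G.left.Opens) (hW : (W : Set G.left).Nonempty) :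
    (LocallyQuasiFinite (W.ι ≫ u.left) → LocallyQuasiFinite u.left) ∧
    (FormallyUnramified (W.ι ≫ u.left) → LocallyOfFinitePresentation (W.ι ≫ u.left) →
      FormallyUnramified u.left ∧ LocallyOfFinitePresentation u.left) ∧
    (Smooth (W.ι ≫ u.left) → Smooth u.left) ∧ (Etale (W.ι ≫ u.left) → Etale u.left) := by
  obtain ⟨x, hx⟩ := hW
  obtain ⟨x₀, hx₀⟩ : x ∈ Set.range W.ι := by rw [Scheme.Opens.range_ι]; exact hx
  have : Subsingleton (Spec (CommRingCat.of A)) :=
    ⟨fun p q => PrimeSpectrum.ext ((IsLocalRing.eq_maximalIdeal (IsArtinianRing.isMaximal_of_isPrime p.asIdeal)).trans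
      (IsLocalRing.eq_maximalIdeal (IsArtinianRing.isMaximal_of_isPrime q.asIdeal)).symm)⟩
  have hs : ∀ y : G.left, G.hom x = G.hom y := fun _ => Subsingleton.elim _ _
  haveI : IsLocallyNoetherian (Spec (CommRingCat.of A)) := inferInstance
  haveI : LocallyOfFinitePresentation G.hom :=
    (LocallyOfFinitePresentation.iff_locallyOfFiniteType (f := G.hom)).mpr inferInstance
  haveI : LocallyOfFiniteType u.left := by
    haveI : LocallyOfFiniteType (u.left ≫ H.hom) := by rw [Over.w u]; infer_instance
    exact locallyOfFiniteType_of_comp u.left H.hom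
  have hlfp : LocallyOfFinitePresentation (W.ι ≫ u.left) → LocallyOfFinitePresentation u.left :=
    fun _ => locallyOfFinitePresentation_of_open u W fun y => ⟨x, hx, hs y⟩
  have hfu : FormallyUnramified (W.ι ≫ u.left) → FormallyUnramified u.left := fun h => by
    rw [formallyUnramified_iff_forall_mem_fuLocus]
    intro y
    exact fuLocus_saturated u (hs y) ((exists_nhd_formallyUnramified_iff u.left x).mp ⟨W, hx, h⟩)
  have hsm : Smooth (W.ι ≫ u.left) → Smooth u.left := fun h => by
    haveI := hlfp inferInstance
    refine Scheme.Hom.smoothLocus_eq_top_iff.mp (top_le_iff.mp fun y _ => ?_)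
    exact smoothLocus_saturated u (hs y) ((exists_nhd_smooth_iff u.left x).mp ⟨W, hx, h⟩)
  refine ⟨fun h => ?_, fun h h' => ⟨hfu h, hlfp h'⟩, hsm, fun h => ?_⟩
  · rw [locallyQuasiFinite_iff_forall_quasiFiniteAt]
    intro y
    exact quasiFiniteAt_saturated u (hs y) ((exists_nhd_locallyQuasiFinite_iff u.left x).mp ⟨W, hx, h⟩)
  · haveI := hsm inferInstance
    haveI := hfu inferInstance
    exact Etale.of_formallyUnramified_of_flat _

end Groth.Agent.S5337
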