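import Groth.Statements.S5341
import Groth.Agent.GrpFibreDim.Basic
-- import your own Groth.Agent.* helpers here

set_option autoImplicit false
universe u
open CategoryTheory CategoryTheory.Limits MonoidalCategory CartesianMonoidalCategory MonObj GrpObj AlgebraicGeometry
open SGA3

namespace Groth.Agent.S5341

/-- Let G be a group scheme locally of finite type over a field k. Then (i) every irreducible component
of G has the same dimension as G; (ii) for every point g of G the local dimension of G at g (the
infimum of the dimensions of the open neighbourhoods of g) equals dim G. -/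
theorem result (k : Type u) [Field k] (G : Over (Spec (CommRingCat.of k))) [GrpObj G]
    [LocallyOfFiniteType G.hom] :
    (∀ Z ∈ irreducibleComponents ↥G.left, topologicalKrullDim ↥Z = topologicalKrullDim ↥G.left) ∧
    (∀ g : G.left, FlatMor.localDim ↥G.left g = topologicalKrullDim ↥G.left) := by
  refine ⟨fun Z hZ => ?_, fun g => GrpFibreDim.localDim_eq_dim G g⟩
  obtain ⟨ξ, hξ⟩ := QuasiSober.sober hZ.1 (isClosed_of_mem_irreducibleComponents Z hZ)
  have hmax : ∀ z : G.left, G.hom.base z = G.hom.base ξ → ξ ∈ closure {z} → z = ξ := fun z _ hz => by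
    have hsub : Z ⊆ closure {z} := by
      rw [← hξ.def]
      exact closure_minimal (Set.singleton_subset_iff.2 hz) isClosed_closure
    have heq : closure {z} ⊆ Z := hZ.2 isIrreducible_singleton.closure hsub
    exact (isGenericPoint_def.2 (Set.Subset.antisymm heq hsub) : IsGenericPoint z Z).eq hξ
  have hsub : Subsingleton ↥(Spec (CommRingCat.of k)) := inferInstanceAs (Subsingleton (PrimeSpectrum k))
  have h := FibreDim.fibreDimAt_of_maximal G.hom ξ hmax
  rw [GrpFibreDim.fibreDimAt_eq, show G.hom.base ⁻¹' {G.hom.base ξ} = Set.univ from
      Set.eq_univ_of_forall fun z => Subsingleton.elim (G.hom.base z) (G.hom.base ξ),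
    FibreDim.dim_homeo (Homeomorph.Set.univ _), EquidimFlat.fdim_eq_closure, hξ.def] at h
  exact h.symm

end Groth.Agent.S5341
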