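import Mathlib
import Groth.Statements.S5343
-- import your own Groth.Agent.* helpers here

set_option autoImplicit false
universe u
open CategoryTheory CategoryTheory.Limits MonoidalCategory CartesianMonoidalCategory MonObj GrpObj AlgebraicGeometry
open SGA3

namespace Groth.Agent.S5343

open scoped TensorProduct

/-- Let R be a commutative ring and B a commutative R-algebra which is projective as an R-module. Then
the image of Spec B → Spec R is an open and closed subset of Spec R. (The published statement
concerns a quasi-coherent algebra on any scheme which is a direct summand of a free module; this row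
is the affine case.) -/
theorem result (R B : Type u) [CommRing R] [CommRing B] [Algebra R B] [Module.Projective R B] :
    IsClopen (Set.range (PrimeSpectrum.comap (algebraMap R B))) := by
  classical
  obtain ⟨s, hs⟩ := Module.projective_def.1 (inferInstance : Module.Projective R B)
  let J : Ideal R := Ideal.span (Set.range fun i : {i // i ∈ (s 1).support} => s 1 i.1)
  have hfg : J.FG := Submodule.fg_span (Set.finite_range _)
  have hJ1 : ∀ i, s 1 i ∈ J := fun i => by
    by_cases h : i ∈ (s 1).support
    · exact Ideal.subset_span ⟨⟨i, h⟩, rfl⟩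
    · rw [Finsupp.notMem_support_iff.1 h]; exact zero_mem _
  have hJB : ∀ b : B, b ∈ J • (⊤ : Submodule R B) := by
    intro b
    have h1 : (1 : B) ∈ J • (⊤ : Submodule R B) := by
      rw [← hs 1, Finsupp.linearCombination_apply]
      exact Submodule.sum_mem _ fun i _ => Submodule.smul_mem_smul (hJ1 i) trivial
    have h2 := Submodule.mem_map_of_mem (f := LinearMap.mulLeft R b) h1
    rw [Submodule.map_smul''] at h2
    simpa using Submodule.smul_mono le_rfl le_top h2
  have hJall : ∀ b i, s b i ∈ J := by
    intro b i
    refine Submodule.smul_induction_on (hJB b) (fun r hr c _ => ?_) (fun x y hx hy => ?_)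
    · rw [map_smul, Finsupp.smul_apply, smul_eq_mul]
      exact J.mul_mem_right _ hr
    · rw [map_add, Finsupp.add_apply]; exact add_mem hx hy
  have hidem : IsIdempotentElem J := by
    refine le_antisymm Ideal.mul_le_left (Ideal.span_le.2 ?_)
    rintro _ ⟨i, rfl⟩
    show s 1 i.1 ∈ J * J
    refine Submodule.smul_induction_on (p := fun z => s z i.1 ∈ J * J) (hJB 1) (fun r hr c _ => ?_) (fun x y hx hy => ?_)
    · rw [map_smul, Finsupp.smul_apply, smul_eq_mul]
      exact Ideal.mul_mem_mul hr (hJall c i.1)
    · rw [map_add, Finsupp.add_apply]; exact add_mem hx hy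
  obtain ⟨e, he, hJe⟩ := (Ideal.isIdempotentElem_iff_of_fg J hfg).1 hidem
  have hrange : Set.range (PrimeSpectrum.comap (algebraMap R B)) = (PrimeSpectrum.basicOpen e : Set (PrimeSpectrum R)) := by
    ext p
    show p ∈ Set.range _ ↔ e ∉ p.asIdeal
    constructor
    · rintro ⟨q, rfl⟩ hep
      apply q.isPrime.ne_top
      rw [Ideal.eq_top_iff_one]
      refine Submodule.smul_induction_on (hJB 1) (fun r hr c _ => ?_) (fun x y hx hy => add_mem hx hy)
      rw [hJe] at hr
      obtain ⟨t, rfl⟩ := Submodule.mem_span_singleton.1 hr
      rw [Algebra.smul_def, smul_eq_mul, map_mul]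
      exact Ideal.mul_mem_right _ _ (Ideal.mul_mem_left _ _ hep)
    · intro hep
      have hnon : Nontrivial (p.asIdeal.Fiber B) := by
        refine ⟨⟨0, (1 : p.asIdeal.ResidueField) ⊗ₜ[R] (1 : B), fun h => hep ?_⟩⟩
        have hJp : J ≤ p.asIdeal := by
          rw [Ideal.span_le]
          rintro _ ⟨i, rfl⟩
          have h1 := congrArg (fun z => TensorProduct.rid R p.asIdeal.ResidueField
            (((Finsupp.lapply i.1 : (B →₀ R) →ₗ[R] R) ∘ₗ s).lTensor p.asIdeal.ResidueField z)) h
          simp only [map_zero, LinearMap.lTensor_tmul, TensorProduct.rid_tmul] at h1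
          rw [Algebra.smul_def, _root_.mul_one, eq_comm, Ideal.algebraMap_residueField_eq_zero] at h1
          exact h1
        exact hJp (hJe ▸ Submodule.mem_span_singleton_self e)
      obtain ⟨Q⟩ := (PrimeSpectrum.nonempty_iff_nontrivial).2 hnon
      exact ⟨((PrimeSpectrum.preimageEquivFiber R B p).symm Q).1, ((PrimeSpectrum.preimageEquivFiber R B p).symm Q).2⟩
  rw [hrange]
  exact PrimeSpectrum.isClopen_iff.2 ⟨e, he, rfl⟩

end Groth.Agent.S5343
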