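import Groth.Statements.S5350
import Groth.Agent.NeutralSet.HomogConn
-- import your own Groth.Agent.* helpers here

set_option autoImplicit false
set_option linter.style.haveILetI false
set_option backward.isDefEq.respectTransparency false
universe u
open CategoryTheory CategoryTheory.Limits MonoidalCategory CartesianMonoidalCategory MonObj GrpObj AlgebraicGeometry
open SGA3

namespace Groth.Agent.S5350

/-- Let G be a group scheme over a field k (not assumed of finite type) acting on a k-scheme X so that G
×_k X → X ×_k X, (g, x) ↦ (gx, x), is surjective; let C⁰ be an irreducible component of G containing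
the unit point and U an open subset of X. Let C⁰·U be the image under the action of the set of
points of G ×_k X whose projections lie in C⁰ and in U. Then (i) C⁰·U is open in X and equals the
union of the irreducible components of X whose generic point lies in U; (ii) if U is retrocompact in
X then C⁰·U is the closure of U (so is open and closed). -/
theorem result (k : Type u) [Field k] (G X : Over (Spec (CommRingCat.of k))) [GrpObj G] (a : AlgGrp.Action G X) (hΦ : Surjective (lift a.act (snd G X)).left)
    (pt : ↥(𝟙_ (Over (Spec (CommRingCat.of k)))).left) (C0 : Set G.left) (hC0 : C0 ∈ irreducibleComponents ↥G.left)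
    (he : η[G].left.base pt ∈ C0) (U : X.left.Opens) :
    letI V : Set X.left := a.act.left.base '' {z : ↥(G ⊗ X).left | (fst G X).left.base z ∈ C0 ∧ (snd G X).left.base z ∈ U}
    IsOpen V ∧ V = ⋃₀ {Z : Set X.left | Z ∈ irreducibleComponents ↥X.left ∧ ∃ ξ ∈ U, closure {ξ} = Z} ∧
    (IsRetrocompact (U : Set X.left) → V = closure (U : Set X.left)) := by
  have hC : C0 = GrpSchField.unitComp G := by
    have hpt : pt = IsLocalRing.closedPoint k := Subsingleton.elim (α := Spec (CommRingCat.of k)) _ _
    subst hpt
    exact GrpSchField.eq_closure_gen_of_mem hC0 he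
  subst hC
  set V : Set X.left := a.act.left '' {z : ↥(G ⊗ X).left | (fst G X).left z ∈ GrpSchField.unitComp G ∧ (snd G X).left z ∈ U} with hV
  have hVeq : V = {x : ↥X.left | Homog.mgen x ∈ U} := by
    ext x
    constructor
    · rintro ⟨w, ⟨hw1, hw2⟩, rfl⟩
      show Homog.mgen (a.act.left w) ∈ U
      rw [Homog.mgen_act a hΦ hw1]
      exact (Homog.mgen_specializes _).mem_open U.2 hw2
    · intro hx
      obtain ⟨w, hw1, hw2, hw3⟩ := Homog.exists_gen_act a hΦ x
      let σ : G ⊗ X ⟶ G ⊗ X := lift (fst G X)⁻¹ a.act
      refine ⟨σ.left w, ⟨?_, ?_⟩, ?_⟩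
      · show (fst G X).left (σ.left w) ∈ _
        rw [← GrpSchField.comp_left_apply, lift_fst, show (fst G X)⁻¹ = fst G X ≫ (𝟙 G)⁻¹ by rw [GrpObj.comp_inv, Category.comp_id],
          GrpSchField.comp_left_apply, hw1, ← GrpSchField.connectedComponent_eq_unitComp]
        have hmem : GrpSchField.gen (GrpSchField.e G) ∈ connectedComponent (GrpSchField.e G) := by
          rw [GrpSchField.connectedComponent_eq_unitComp]; exact subset_closure rfl
        have h := (((𝟙 G)⁻¹ : G ⟶ G)).left.continuous.image_connectedComponent_subset (GrpSchField.e G) ⟨_, hmem, rfl⟩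
        rwa [show (((𝟙 G)⁻¹ : G ⟶ G)).left (GrpSchField.e G) = GrpSchField.e G by
          rw [← GrpSchField.comp_left_apply η[G], GrpObj.comp_inv, Category.comp_id,
            show (η[G])⁻¹ = η[G] by rw [show η[G] = (1 : 𝟙_ _ ⟶ G) by rw [Hom.one_def, toUnit_unique (toUnit _) (𝟙 _), Category.id_comp], inv_one]]] at h
      · show (snd G X).left (σ.left w) ∈ U
        rw [← GrpSchField.comp_left_apply, lift_snd, hw3]
        exact hx
      · rw [← GrpSchField.comp_left_apply]
        have e : σ ≫ a.act = snd G X := by
          have h : lift (fst G X) (snd G X) = 𝟙 (G ⊗ X) := lift_fst_snd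
          show lift (fst G X)⁻¹ a.act ≫ a.act = _
          conv_lhs => arg 1; arg 2; rw [← Category.id_comp a.act, ← h]
          rw [← GrpSchField.lift_act_mul, inv_mul_cancel, GrpSchField.lift_act_one]
        rw [e]; exact hw2
  refine ⟨hVeq ▸ Homog.isOpen_mgen_preimage a hΦ U, ?_, fun hr => ?_⟩
  · rw [hVeq]
    ext x
    constructor
    · intro hx
      refine ⟨closure {Homog.mgen x}, ⟨?_, Homog.mgen x, hx, rfl⟩, (Homog.mgen_specializes x).mem_closure⟩
      rw [← Homog.component_eq a hΦ (irreducibleComponent_mem_irreducibleComponents x) mem_irreducibleComponent]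
      exact irreducibleComponent_mem_irreducibleComponents x
    · rintro ⟨Z, ⟨hZ, ξ, hξ, rfl⟩, hx⟩
      show Homog.mgen x ∈ U
      rw [← Homog.mgen_eq_of_specializes a hΦ (specializes_iff_mem_closure.2 hx)]
      exact (Homog.mgen_specializes ξ).mem_open U.2 hξ
  · rw [hVeq]
    refine subset_antisymm (fun x hx => closure_mono (Set.singleton_subset_iff.2 hx) (Homog.mgen_specializes x).mem_closure)
      fun z hz => ?_
    obtain ⟨W, hW, hzW, -⟩ := exists_isAffineOpen_mem_and_subset (U := (⊤ : X.left.Opens)) (x := z) trivial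
    haveI : IsAffine (W : Scheme.{u}) := hW
    let U' : (W : Scheme.{u}).Opens := W.ι ⁻¹ᵁ U
    have hU' : IsCompact (U' : Set ↥(W : Scheme.{u})) := by
      rw [W.ι.isEmbedding.isCompact_iff]
      have h := hr hW.isCompact W.2
      convert h using 1
      show W.ι '' (W.ι ⁻¹' (U : Set ↥X.left)) = _
      rw [Set.image_preimage_eq_inter_range, W.range_ι]
    have hz' : (⟨z, hzW⟩ : ↥(W : Scheme.{u})) ∈ closure (U' : Set ↥(W : Scheme.{u})) := by
      show _ ∈ closure (W.ι ⁻¹' (U : Set ↥X.left))
      rw [← W.ι.isOpenEmbedding.isOpenMap.preimage_closure_eq_closure_preimage W.ι.continuous]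
      exact hz
    haveI : QuasiSeparatedSpace ↥(Over.mk (W.ι ≫ X.hom)).left := inferInstanceAs (QuasiSeparatedSpace ↥(W : Scheme.{u}))
    obtain ⟨y, hy, hyz⟩ := GrpSchField.exists_specializes_of_mem_closure (G := Over.mk (W.ι ≫ X.hom)) hU' hz'
    show Homog.mgen z ∈ U
    have hyz' : W.ι y ⤳ z := hyz.map W.ι.continuous
    rw [← Homog.mgen_eq_of_specializes a hΦ hyz']
    exact (Homog.mgen_specializes _).mem_open U.2 hy

end Groth.Agent.S5350
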