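import Groth.Statements.S5354
import Groth.Agent.GrpdClosed.GroupImage
-- import your own Groth.Agent.* helpers here

set_option autoImplicit false
universe u
open CategoryTheory CategoryTheory.Limits MonoidalCategory CartesianMonoidalCategory MonObj GrpObj AlgebraicGeometry
open SGA3

namespace Groth.Agent.S5354

/-- Let G be a group scheme over a field k (not assumed of finite type). For every point x of G there is
a point z of G ×_k G with product x whose two projections are maximal points of G (generic points of
irreducible components). -/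
theorem result (k : Type u) [Field k] (G : Over (Spec (CommRingCat.of k))) [GrpObj G] (x : G.left) :
    ∃ z : ↥(G ⊗ G).left, μ[G].left.base z = x ∧
      closure {(fst G G).left.base z} ∈ irreducibleComponents ↥G.left ∧
      closure {(snd G G).left.base z} ∈ irreducibleComponents ↥G.left := by
  let T := Groth.Agent.GrpSchField.pt x
  let gT : T ⟶ G := Groth.Agent.GrpSchField.ptι x
  let θ : G ⊗ T ≅ G ⊗ T :=
    { hom := lift ((fst G T)⁻¹ * (snd G T ≫ gT)) (snd G T)
      inv := lift ((snd G T ≫ gT) * (fst G T)⁻¹) (snd G T)
      hom_inv_id := by ext <;> simp [comp_mul, comp_inv]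
      inv_hom_id := by ext <;> simp [comp_mul, comp_inv] }
  let m : G ⊗ T ⟶ G ⊗ G := lift (fst G T) ((fst G T)⁻¹ * (snd G T ≫ gT))
  have hm : m ≫ μ[G] = snd G T ≫ gT := by rw [← Hom.mul_def, mul_inv_cancel_left]
  let w0 := (lift gT (𝟙 T)).left (Groth.Agent.GrpSchField.ptPt x)
  obtain ⟨w, -, hw⟩ := Groth.Agent.GrpSchField.exists_max_gen w0
  have hmax : ∀ v : (G ⊗ T).left, v ⤳ w → v = w := fun v h => (h.antisymm (hw v h)).eq
  have hθ : ∀ v : (G ⊗ T).left, v ⤳ θ.hom.left w → v = θ.hom.left w := by
    intro v h
    have h1 : θ.inv.left (θ.hom.left w) = w := by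
      rw [← Groth.Agent.GrpSchField.comp_left_apply, Iso.hom_inv_id]; rfl
    have h2 : θ.hom.left (θ.inv.left v) = v := by
      rw [← Groth.Agent.GrpSchField.comp_left_apply, Iso.inv_hom_id]; rfl
    have h3 := h.map θ.inv.left.continuous
    rw [h1] at h3
    rw [← h2, hmax (θ.inv.left v) h3]
  have hfst : ∀ p : (G ⊗ T).left, (∀ v : (G ⊗ T).left, v ⤳ p → v = p) →
      closure {(fst G T).left p} ∈ irreducibleComponents ↥G.left := by
    intro p hp
    let C := irreducibleComponent ((fst G T).left p)
    have hC : IsIrreducible C := isIrreducible_irreducibleComponent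
    have hc : hC.genericPoint ⤳ (fst G T).left p :=
      (hC.isGenericPoint_genericPoint isClosed_irreducibleComponent).specializes mem_irreducibleComponent
    obtain ⟨v, hv, hvc⟩ := Groth.Agent.GrpSchField.exists_lift_gen hc
    rw [hp v hv] at hvc
    rw [hvc, hC.closure_genericPoint isClosed_irreducibleComponent]
    exact irreducibleComponent_mem_irreducibleComponents _
  refine ⟨m.left w, ?_, ?_, ?_⟩
  · rw [← Groth.Agent.GrpSchField.comp_left_apply, hm, Groth.Agent.GrpSchField.comp_left_apply,
      Groth.Agent.GrpSchField.ptι_apply]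
  · rw [← Groth.Agent.GrpSchField.comp_left_apply, lift_fst]
    exact hfst w hmax
  · rw [← Groth.Agent.GrpSchField.comp_left_apply, lift_snd,
      show (fst G T)⁻¹ * (snd G T ≫ gT) = θ.hom ≫ fst G T from (lift_fst _ _).symm,
      Groth.Agent.GrpSchField.comp_left_apply]
    exact hfst _ hθ

end Groth.Agent.S5354
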