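import Groth.Statements.S5355
import Groth.Agent.GrpdClosed.GroupImage
import Groth.Agent.GrpSchField.Translate
-- import your own Groth.Agent.* helpers here

set_option autoImplicit false
universe u
open CategoryTheory CategoryTheory.Limits MonoidalCategory CartesianMonoidalCategory MonObj GrpObj AlgebraicGeometry
open SGA3

namespace Groth.Agent.S5355

/-- Let f : G → H be a homomorphism of group schemes over a field k (not assumed of finite type) which
is quasi-compact and dominant. Then (i) f is surjective; (ii) if H is reduced, f is flat (hence
faithfully flat). -/
theorem result (k : Type u) [Field k] (G H : Over (Spec (CommRingCat.of k))) [GrpObj G] [GrpObj H]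
    (f : G ⟶ H) [IsMonHom f] [QuasiCompact f.left] (hf : DenseRange f.left.base) :
    Surjective f.left ∧ (IsReduced H.left → Flat f.left) := by
  have hs : Surjective f.left := by
    refine ⟨Set.range_eq_univ.mp ?_⟩
    rw [← hf.closure_range]
    exact (Groth.Agent.GrpImage.isClosed_range f).closure_eq.symm
  refine ⟨hs, fun _ => ?_⟩
  let C := irreducibleComponent (Groth.Agent.GrpSchField.e H)
  let c := (isIrreducible_irreducibleComponent (x := Groth.Agent.GrpSchField.e H)).genericPoint
  have hc : IsField (H.left.presheaf.stalk c) := isField_stalk_of_closure_mem_irreducibleComponents _ _ (by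
    rw [(isIrreducible_irreducibleComponent (x := Groth.Agent.GrpSchField.e H)).closure_genericPoint isClosed_irreducibleComponent]
    exact irreducibleComponent_mem_irreducibleComponents _)
  obtain ⟨x, hx⟩ := f.left.surjective c
  have hxf : (f.left.stalkMap x).hom.Flat := by
    have hF : IsField (H.left.presheaf.stalk (f.left x)) := hx ▸ hc
    let := hF.toField
    let := (f.left.stalkMap x).hom.toAlgebra
    exact (inferInstance : Module.Flat (H.left.presheaf.stalk (f.left x)) (G.left.presheaf.stalk x))
  haveI : Flat G.hom := inferInstance
  exact Flat.of_stalkMap _ fun y => Groth.Agent.GrpSchField.flat_stalkMap_of_same_fibre f hxf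
    (Subsingleton.elim (α := Spec (CommRingCat.of k)) _ _)

end Groth.Agent.S5355
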