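import Groth.Statements.S5358
import Groth.Agent.EssFree.Apps
import Groth.Agent.GrpSchField.Subgroup

set_option autoImplicit false
universe u
open CategoryTheory CategoryTheory.Limits MonoidalCategory CartesianMonoidalCategory MonObj GrpObj AlgebraicGeometry
open SGA3

namespace Groth.Agent.S5358

/-- Let G be a group scheme over a field k, y' : Y' → G an immersion and y : Y → G a closed immersion.
(ii) The transporter of Y' into Y, whose points with values in S' are the g such that conjugation by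
g carries every point of Y' (after any base change S'' → S') into Y, is represented by a closed
subscheme of G; if y' is also a closed immersion, so is the strict transporter (g Y' g⁻¹ = Y
functorially). (iii) For every subgroup scheme h : H → G (a homomorphism which is an immersion), the
normalizer of H in G is represented by a closed subscheme of G. -/
theorem result (k : Type u) [Field k] (G Y Y' : Over (Spec (CommRingCat.of k))) [GrpObj G]
    (y : Y ⟶ G) [IsClosedImmersion y.left] (y' : Y' ⟶ G) [IsImmersion y'.left] :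
    (∃ (T : Over (Spec (CommRingCat.of k))) (t : T ⟶ G), IsClosedImmersion t.left ∧
      ∀ (S' : Over (Spec (CommRingCat.of k))) (g : S' ⟶ G), (∃ z : S' ⟶ T, z ≫ t = g) ↔
        ∀ (S'' : Over (Spec (CommRingCat.of k))) (s : S'' ⟶ S') (x : S'' ⟶ Y'),
          ∃ x' : S'' ⟶ Y, (s ≫ g) * (x ≫ y') * (s ≫ g)⁻¹ = x' ≫ y) ∧
    (IsClosedImmersion y'.left →
      ∃ (T : Over (Spec (CommRingCat.of k))) (t : T ⟶ G), IsClosedImmersion t.left ∧
      ∀ (S' : Over (Spec (CommRingCat.of k))) (g : S' ⟶ G), (∃ z : S' ⟶ T, z ≫ t = g) ↔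
        ((∀ (S'' : Over (Spec (CommRingCat.of k))) (s : S'' ⟶ S') (x : S'' ⟶ Y'),
          ∃ x' : S'' ⟶ Y, (s ≫ g) * (x ≫ y') * (s ≫ g)⁻¹ = x' ≫ y) ∧
        (∀ (S'' : Over (Spec (CommRingCat.of k))) (s : S'' ⟶ S') (x' : S'' ⟶ Y),
          ∃ x : S'' ⟶ Y', (s ≫ g)⁻¹ * (x' ≫ y) * (s ≫ g) = x ≫ y'))) ∧
    (∀ (H : Over (Spec (CommRingCat.of k))) [GrpObj H] (h : H ⟶ G) [IsMonHom h] [IsImmersion h.left],
      ∃ (N : Over (Spec (CommRingCat.of k))) (_ : GrpObj N) (n : N ⟶ G), IsClosedImmersion n.left ∧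
        Red.IsNormalizerOf h n) := by
  refine ⟨?_, fun hy' => ?_, fun H _ h _ _ => ?_⟩
  · obtain ⟨T, t, ht, -, hT⟩ := EssFree.exists_closed_transporter (EssFree.isEssentiallyFree_field Y'.hom) y' y
    exact ⟨T, t, ht, hT⟩
  · haveI := hy'
    exact EssFree.exists_closed_strictTransporter (EssFree.isEssentiallyFree_field Y.hom)
      (EssFree.isEssentiallyFree_field Y'.hom) y y'
  · haveI : IsClosedImmersion h.left :=
      IsClosedImmersion.of_isPreimmersion h.left (GrpSchField.isClosed_range h h.left.isLocallyClosed_range)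
    obtain ⟨N, n, hn, hN⟩ := EssFree.exists_closed_strictTransporter (EssFree.isEssentiallyFree_field H.hom)
      (EssFree.isEssentiallyFree_field H.hom) h h
    haveI := hn
    haveI : Mono n := Over.mono_of_mono_left n
    have hN' : ∀ (X : Over (Spec (CommRingCat.of k))) (g : X ⟶ G), (∃ z : X ⟶ N, z ≫ n = g) ↔
        ∀ (X' : Over (Spec (CommRingCat.of k))) (x : X' ⟶ X) (a : X' ⟶ H),
          (∃ a' : X' ⟶ H, (x ≫ g) * (a ≫ h) * (x ≫ g)⁻¹ = a' ≫ h) ∧
          (∃ a' : X' ⟶ H, (x ≫ g)⁻¹ * (a ≫ h) * (x ≫ g) = a' ≫ h) := fun X g =>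
      (hN X g).trans ⟨fun H' X' x a => ⟨H'.1 X' x a, H'.2 X' x a⟩,
        fun H' => ⟨fun X' x a => (H' X' x a).1, fun X' x a => (H' X' x a).2⟩⟩
    obtain ⟨I, hI⟩ := Transporter.exists_grpObj_of_closed n
      ((hN' _ 1).mpr fun X' x a => by
        rw [MonObj.comp_one]
        exact ⟨⟨a, by simp⟩, ⟨a, by simp⟩⟩)
      (fun X p q => (hN' X _).mpr fun X' x a => by
        have hp := (hN' X (p ≫ n)).mp ⟨p, rfl⟩ X' x
        have hq := (hN' X (q ≫ n)).mp ⟨q, rfl⟩ X' x
        obtain ⟨b, hb⟩ := (hq a).1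
        obtain ⟨c, hc⟩ := (hp b).1
        obtain ⟨d, hd⟩ := (hp a).2
        obtain ⟨e, he⟩ := (hq d).2
        simp only [MonObj.comp_mul, _root_.mul_inv_rev]
        refine ⟨⟨c, ?_⟩, ⟨e, ?_⟩⟩
        · rw [← hc, ← hb]; group
        · rw [← he, ← hd]; group)
      (fun X p => (hN' X _).mpr fun X' x a => by
        have hp := (hN' X (p ≫ n)).mp ⟨p, rfl⟩ X' x
        simp only [GrpObj.comp_inv, _root_.inv_inv]
        exact ⟨(hp a).2, (hp a).1⟩)
    exact ⟨N, I, n, hn, hI, inferInstance, hN'⟩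

end Groth.Agent.S5358
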