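import Groth.Statements.S5372
import Mathlib
import Groth.Agent.FppfEpi.Fpqc
import Groth.Agent.FppfEpi.QuotGrp
-- import your own Groth.Agent.* helpers here

set_option autoImplicit false
universe u
open CategoryTheory CategoryTheory.Limits MonoidalCategory CartesianMonoidalCategory MonObj GrpObj AlgebraicGeometry
open SGA3

namespace Groth.Agent.S5372

/-- Let u : G' → G be a monomorphism of S-group schemes which is normal, and p : G → G'' a morphism of
S-schemes which is covering for the fpqc topology (some Z → G'' which is flat, surjective, with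
every affine open of G'' the image of a quasi-compact open of Z, factors through p) and such that
the square (g, h) ↦ g·u(h), first projection G ×_S G' → G, p, p is cartesian, so that G'' represents
the fpqc quotient sheaf G/G'. Then there is a structure of S-group scheme on G'' for which p is a
homomorphism, and it is unique: any morphism m : G'' ×_S G'' → G'' with (p × p) followed by m equal
to the multiplication of G followed by p is its multiplication. -/
theorem result (S : Scheme.{u}) (G G' G'' : Over S) [GrpObj G] [GrpObj G']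
    (u : G' ⟶ G) [IsMonHom u] [Mono u] (p : G ⟶ G'')
    (hcov : (∃ (Z : Scheme.{u}) (q : Z ⟶ G''.left) (r : Z ⟶ G.left), r ≫ p.left = q ∧ Surjective q ∧ Flat q ∧
        ∀ V : G''.left.Opens, IsAffineOpen V → ∃ W : Z.Opens, IsCompact (W : Set Z) ∧ q.base '' (W : Set Z) = (V : Set G''.left)))
    (hsq : IsPullback ((G ◁ u) ≫ μ[G]) (fst G G') p p) (hN : AlgGrp.IsNormalHom u) :
    ∃ _ : GrpObj G'', IsMonHom p ∧ ∀ m : G'' ⊗ G'' ⟶ G'', (p ⊗ₘ p) ≫ m = μ[G] ≫ p → m = μ[G''] := by
  obtain ⟨Z, q, r, hr, hq1, hq2, hq3⟩ := hcov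
  have hp : Groth.Agent.FppfEpi.IsCov p.left := Groth.Agent.FppfEpi.isCov_of_factor _ q r hr hq3
  have hact : ∀ (T : Over S) (a : T ⟶ G) (h : T ⟶ G'),
      lift a h ≫ (G ◁ u) ≫ μ[G] = a * (h ≫ u) := by
    intro T a h
    rw [lift_whiskerLeft_assoc, Hom.mul_def]
  have hinv : ∀ (T : Over S) (a : T ⟶ G) (h : T ⟶ G'), (a * (h ≫ u)) ≫ p = a ≫ p := by
    intro T a h
    have := congrArg (fun f => lift a h ≫ f) hsq.w
    simp only [lift_fst_assoc] at this
    rw [← hact, Category.assoc]; exact this
  have hrel : ∀ (T : Over S) (a a' : T ⟶ G), a ≫ p = a' ≫ p → ∃ h : T ⟶ G', a' = a * (h ≫ u) := by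
    intro T a a' e
    refine ⟨hsq.lift a' a e.symm ≫ snd G G', ?_⟩
    rw [← hact]
    have : lift a (hsq.lift a' a e.symm ≫ snd G G') = hsq.lift a' a e.symm :=
      CartesianMonoidalCategory.hom_ext _ _ ((lift_fst _ _).trans (hsq.lift_snd _ _ e.symm).symm)
        (lift_snd _ _)
    rw [this]
    exact (hsq.lift_fst a' a e.symm).symm
  obtain ⟨hmul, hinv'⟩ := Groth.Agent.FppfEpi.mul_inv_compat p u hN hrel hinv
  haveI : Epi p := hp.epi_over
  haveI : Epi (p ⊗ₘ p) := (hp.tensorHom hp).epi_over
  obtain ⟨m, hm⟩ := (hp.tensorHom hp).exists_desc_over (μ[G] ≫ p) (fun T a b hab => by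
    have e1 := congrArg (· ≫ fst G'' G'') hab
    have e2 := congrArg (· ≫ snd G'' G'') hab
    simp only [Category.assoc, tensorHom_fst, tensorHom_snd] at e1 e2
    have e := hmul T (a ≫ fst G G) (a ≫ snd G G) (b ≫ fst G G) (b ≫ snd G G)
      (by simpa using e1) (by simpa using e2)
    rw [← MonObj.comp_mul, ← MonObj.comp_mul, Category.assoc, Category.assoc,
      ← MonObj.mul_eq_mul] at e
    exact e)
  obtain ⟨n, hn'⟩ := hp.exists_desc_over (ι[G] ≫ p) (fun T a b hab => by
    have e := hinv' T a b hab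
    rw [Hom.inv_def, Hom.inv_def, Category.assoc, Category.assoc] at e
    exact e)
  obtain ⟨s, hs⟩ := Groth.Agent.FppfEpi.exists_grpObj p ((hp.tensorHom hp).tensorHom hp).epi_over m hm n hn'
  refine ⟨s, hs, fun m' hm' => ?_⟩
  rw [← cancel_epi (p ⊗ₘ p), hm']
  exact @IsMonHom.mul_hom (Over S) _ _ G G'' _ s.toMonObj p hs

end Groth.Agent.S5372
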