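import Groth.Statements.S5373

set_option autoImplicit false
set_option backward.isDefEq.respectTransparency false
universe u
open CategoryTheory CategoryTheory.Limits MonoidalCategory CartesianMonoidalCategory MonObj GrpObj AlgebraicGeometry
open SGA3

namespace Groth.Agent.S5373

variable {X Y S : Scheme.{u}} (p : X ⟶ Y) (i : Y ⟶ S) (a : X ⟶ S) (ha : p ≫ i = a)

noncomputable abbrev graphMap : pullback p p ⟶ pullback a a :=
  pullback.lift (pullback.fst p p) (pullback.snd p p)
    (by rw [← ha, reassoc_of% pullback.condition (f := p) (g := p)])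

theorem isPullback_graph :
    IsPullback (pullback.fst p p ≫ p) (graphMap p i a ha) (pullback.diagonal i)
      (pullback.map a a i i p p (𝟙 S) (by simp [ha]) (by simp [ha])) := by
  subst ha
  have e : graphMap p i (p ≫ i) rfl = pullback.map p p (p ≫ i) (p ≫ i) (𝟙 _) (𝟙 _) i
      (Category.id_comp _).symm (Category.id_comp _).symm := by
    apply pullback.hom_ext
    · exact (pullback.lift_fst _ _ _).trans ((pullback.lift_fst _ _ _).trans (Category.comp_id _)).symm
    · exact (pullback.lift_snd _ _ _).trans ((pullback.lift_snd _ _ _).trans (Category.comp_id _)).symm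
  rw [e]
  exact pullback_map_diagonal_isPullback p p i

theorem isSeparated_of_graph [IsClosedImmersion (graphMap p i a ha)] {Z : Scheme.{u}} (q : Z ⟶ Y)
    (r : Z ⟶ X) (hr : r ≫ p = q) [Flat q]
    (hcov : ∀ V : Y.Opens, IsAffineOpen V →
      ∃ W : Z.Opens, IsCompact (W : Set Z) ∧ q.base '' (W : Set Z) = (V : Set Y)) :
    IsSeparated i := by
  rw [isSeparated_iff]
  let Δ := pullback.diagonal i
  suffices h : IsClosed (Set.range Δ) from IsClosedImmersion.of_isPreimmersion Δ h
  let P := pullback.map a a i i p p (𝟙 S) (by simp [ha]) (by simp [ha])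
  have hP : IsClosed (P ⁻¹' Set.range Δ) := by
    have hpb := isPullback_graph p i a ha
    have h1 : Set.range (graphMap p i a ha) = Set.range (pullback.snd Δ P) := by
      rw [← hpb.isoPullback_hom_snd]
      change Set.range (pullback.snd Δ P ∘ hpb.isoPullback.hom) = _
      rw [Set.range_comp, Set.range_eq_univ.2 hpb.isoPullback.hom.surjective, Set.image_univ]
    rw [← Scheme.Pullback.range_snd, ← h1]
    exact (graphMap p i a ha).isClosedEmbedding.isClosed_range
  rw [← isOpen_compl_iff, isOpen_iff_forall_mem_open]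
  intro x hx
  obtain ⟨V₁, hV₁, hx₁, -⟩ := exists_isAffineOpen_mem_and_subset
    (U := (⊤ : Y.Opens)) (x := pullback.fst i i x) trivial
  obtain ⟨V₂, hV₂, hx₂, -⟩ := exists_isAffineOpen_mem_and_subset
    (U := (⊤ : Y.Opens)) (x := pullback.snd i i x) trivial
  obtain ⟨W₁, hW₁, hqW₁⟩ := hcov V₁ hV₁
  obtain ⟨W₂, hW₂, hqW₂⟩ := hcov V₂ hV₂
  have e₁ : W₁ ≤ q ⁻¹ᵁ V₁ := fun z hz =>
    show q z ∈ (V₁ : Set Y) from hqW₁ ▸ Set.mem_image_of_mem _ hz
  have e₂ : W₂ ≤ q ⁻¹ᵁ V₂ := fun z hz =>
    show q z ∈ (V₂ : Set Y) from hqW₂ ▸ Set.mem_image_of_mem _ hz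
  let φ₁ := q.resLE V₁ W₁ e₁
  let φ₂ := q.resLE V₂ W₂ e₂
  have hprop : ∀ (V : Y.Opens) (W : Z.Opens) (e : W ≤ q ⁻¹ᵁ V), IsAffineOpen V →
      IsCompact (W : Set Z) → q.base '' (W : Set Z) = (V : Set Y) →
      (@Surjective ⊓ @Flat ⊓ @QuasiCompact : MorphismProperty Scheme.{u}) (q.resLE V W e) := by
    intro V W e hV hW hqW
    haveI : IsAffine (V : Scheme.{u}) := hV
    haveI : CompactSpace (W : Scheme.{u}) := isCompact_iff_compactSpace.1 hW
    refine ⟨⟨⟨fun y => ?_⟩, inferInstance⟩, inferInstance⟩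
    obtain ⟨z, hz, hzy⟩ := hqW.ge y.2
    refine ⟨⟨z, hz⟩, Subtype.ext ?_⟩
    change ((q.resLE V W e) ≫ V.ι) ⟨z, hz⟩ = _
    rw [Scheme.Hom.resLE_comp_ι]
    exact hzy
  haveI : MorphismProperty.IsStableUnderBaseChange (@Surjective ⊓ @Flat ⊓ @QuasiCompact : MorphismProperty Scheme.{u}) :=
    ⟨fun h hg => ⟨⟨MorphismProperty.of_isPullback h hg.1.1, MorphismProperty.of_isPullback h hg.1.2⟩,
      MorphismProperty.of_isPullback h hg.2⟩⟩
  haveI : MorphismProperty.IsStableUnderComposition (@Surjective ⊓ @Flat ⊓ @QuasiCompact : MorphismProperty Scheme.{u}) :=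
    ⟨fun f g hf hg => ⟨⟨(haveI := hf.1.1; haveI := hg.1.1; inferInstance),
      MorphismProperty.comp_mem _ f g hf.1.2 hg.1.2⟩, MorphismProperty.comp_mem _ f g hf.2 hg.2⟩⟩
  obtain ⟨⟨hs, hf⟩, hq⟩ := MorphismProperty.pullbackMap
    (P := (@Surjective ⊓ @Flat ⊓ @QuasiCompact : MorphismProperty Scheme.{u}))
    (f := φ₁ ≫ V₁.ι ≫ i) (g := φ₂ ≫ V₂.ι ≫ i) (hprop V₁ W₁ e₁ hV₁ hW₁ hqW₁)
    (hprop V₂ W₂ e₂ hV₂ hW₂ hqW₂) rfl rfl
  let Q' := pullback.map (φ₁ ≫ V₁.ι ≫ i) (φ₂ ≫ V₂.ι ≫ i) (V₁.ι ≫ i) (V₂.ι ≫ i) φ₁ φ₂ (𝟙 _)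
    (by simp) (by simp)
  let O := pullback.map (V₁.ι ≫ i) (V₂.ι ≫ i) i i V₁.ι V₂.ι (𝟙 _) (by simp) (by simp)
  let T := pullback.map (φ₁ ≫ V₁.ι ≫ i) (φ₂ ≫ V₂.ι ≫ i) a a (W₁.ι ≫ r) (W₂.ι ≫ r) (𝟙 _)
    (by simp [φ₁, ← ha, reassoc_of% hr]) (by simp [φ₂, ← ha, reassoc_of% hr])
  have hcomm : Q' ≫ O = T ≫ P := by
    apply pullback.hom_ext <;> simp [Q', O, T, P, φ₁, φ₂, hr]
  haveI : Surjective Q' := hs
  haveI : Flat Q' := hf
  haveI : QuasiCompact Q' := hq
  have hO : IsClosed (O ⁻¹' Set.range Δ) := by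
    rw [← (Flat.isQuotientMap_of_surjective Q').isClosed_preimage]
    have : Q' ⁻¹' (O ⁻¹' Set.range Δ) = T ⁻¹' (P ⁻¹' Set.range Δ) := by
      ext z
      simp only [Set.mem_preimage, ← Scheme.Hom.comp_apply, hcomm]
    rw [this]
    exact hP.preimage T.continuous
  refine ⟨O '' (O ⁻¹' Set.range Δ)ᶜ, ?_, O.isOpenEmbedding.isOpenMap _ hO.isOpen_compl, ?_⟩
  · rintro _ ⟨z, hz, rfl⟩ h
    exact hz h
  · have : x ∈ Set.range O := by
      rw [Scheme.Pullback.range_map]
      simp only [Scheme.Opens.range_ι]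
      exact ⟨hx₁, hx₂⟩
    obtain ⟨z, rfl⟩ := this
    exact ⟨z, hx, rfl⟩

end Groth.Agent.S5373

namespace Groth.Agent.S5373

/-- Let p : X → Y be a morphism of S-schemes and v : X ×_Y X → X ×_S X the canonical monomorphism (the
graph of the effective equivalence relation defined by p). Then (i) v is an immersion, and a closed
immersion if Y is separated over S; (ii) if p is covering for the fpqc topology (some Z → Y which is
flat, surjective, with every affine open of Y the image of a quasi-compact open of Z, factors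
through p), so that Y represents the quotient sheaf of X by this equivalence relation, and v is a
closed immersion, then Y is separated over S. -/
theorem result (S : Scheme.{u}) (X Y : Over S) (p : X ⟶ Y) :
    letI v : (pullback p p) ⟶ X ⊗ X := lift (pullback.fst p p) (pullback.snd p p)
    IsImmersion v.left ∧ (IsSeparated Y.hom → IsClosedImmersion v.left) ∧
    ((∃ (Z : Scheme.{u}) (q : Z ⟶ Y.left) (r : Z ⟶ X.left), r ≫ p.left = q ∧ Surjective q ∧ Flat q ∧
        ∀ V : Y.left.Opens, IsAffineOpen V → ∃ W : Z.Opens, IsCompact (W : Set Z) ∧ q.base '' (W : Set Z) = (V : Set Y.left)) →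
      IsClosedImmersion v.left → IsSeparated Y.hom) := by
  have ha : p.left ≫ Y.hom = X.hom := Over.w p
  have hL := (IsPullback.of_hasPullback p p).map (Over.forget S)
  let e : (pullback p p).left ≅ pullback p.left p.left := hL.isoPullback
  have hv : (lift (pullback.fst p p) (pullback.snd p p)).left = e.hom ≫ graphMap p.left Y.hom X.hom ha := by
    rw [CategoryTheory.Over.lift_left]
    apply pullback.hom_ext
    · refine (pullback.lift_fst _ _ _).trans (hL.isoPullback_hom_fst.symm.trans ?_)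
      refine Eq.trans ?_ (Category.assoc _ _ _).symm
      exact congrArg (hL.isoPullback.hom ≫ ·) (pullback.lift_fst _ _ _).symm
    · refine (pullback.lift_snd _ _ _).trans (hL.isoPullback_hom_snd.symm.trans ?_)
      refine Eq.trans ?_ (Category.assoc _ _ _).symm
      exact congrArg (hL.isoPullback.hom ≫ ·) (pullback.lift_snd _ _ _).symm
  have hpb := isPullback_graph p.left Y.hom X.hom ha
  rw [hv]
  refine ⟨?_, fun h => ?_, ?_⟩
  · haveI : IsImmersion (graphMap p.left Y.hom X.hom ha) :=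
      MorphismProperty.of_isPullback hpb inferInstance
    exact (MorphismProperty.cancel_left_of_respectsIso @IsImmersion e.hom _).2 inferInstance
  · haveI : IsClosedImmersion (graphMap p.left Y.hom X.hom ha) :=
      MorphismProperty.of_isPullback hpb inferInstance
    exact (MorphismProperty.cancel_left_of_respectsIso @IsClosedImmersion e.hom _).2 inferInstance
  · rintro ⟨Z, q, r, hr, -, hflat, hcov⟩ h
    haveI : IsClosedImmersion (graphMap p.left Y.hom X.hom ha) := by
      rwa [MorphismProperty.cancel_left_of_respectsIso @IsClosedImmersion] at h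
    exact isSeparated_of_graph p.left Y.hom X.hom ha q r hr hcov

end Groth.Agent.S5373
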