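import Groth.Statements.S5375
import Groth.Agent.ComodBasic.Coalg
import Groth.Agent.ComodBasic.Integral
-- import your own Groth.Agent.* helpers here

set_option autoImplicit false
universe u
open CategoryTheory CategoryTheory.Limits MonoidalCategory CartesianMonoidalCategory MonObj GrpObj AlgebraicGeometry
open SGA3

namespace Groth.Agent.S5375
open Groth.Agent.ComodBasic TensorProduct

/-- Let A be a commutative Hopf algebra over a field k (an affine k-group, not necessarily of finite
type) and x an element of A. Then there is a subalgebra B of A of finite type over k containing x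
which is a sub-Hopf-algebra: the comultiplication sends B into B ⊗ B and the antipode preserves B. -/
theorem result (k : Type u) [Field k] (A : Type u) [CommRing A] [HopfAlgebra k A] (x : A) :
    ∃ B : Subalgebra k A, x ∈ B ∧ B.FG ∧ SGA3.IsHopfSubalgebra k A B := by
  obtain ⟨M, hM, hfin, hxM⟩ :=
    Groth.Agent.ComodBasic.exists_finite_subcoalg (k := k) (C := A) {x} (Set.finite_singleton x)
  set D : Submodule k A := M.restrictScalars k with hD
  have hsub := Groth.Agent.ComodBasic.isSubcoalg_restrict hM
  obtain ⟨t, ht⟩ := Module.Finite.iff_fg.1 hfin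
  classical
  let S : A →ₐ[k] A := HopfAlgebra.antipodeAlgHom k A
  let B : Subalgebra k A := Algebra.adjoin k (↑(t ∪ t.image S) : Set A)
  have hDB : D ≤ B.toSubmodule := by
    rw [← ht, Submodule.span_le]
    exact fun a ha => Algebra.subset_adjoin (by simp [Finset.mem_coe.mp ha])
  have hSDB : ∀ d ∈ D, S d ∈ B := by
    intro d hd
    have h1 : D ≤ B.toSubmodule.comap S.toLinearMap := by
      rw [← ht, Submodule.span_le]
      intro a ha
      exact Algebra.subset_adjoin (by
        simp only [Finset.coe_union, Finset.coe_image, Set.mem_union, Set.mem_image, Finset.mem_coe]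
        exact Or.inr ⟨a, ha, rfl⟩)
    exact h1 hd
  have htD : ∀ a ∈ t, a ∈ D := fun a ha => ht ▸ Submodule.subset_span ha
  refine ⟨B, hDB (hxM rfl), ⟨_, rfl⟩, ?_, ?_⟩
  · intro b hb
    let P : Subalgebra k A :=
      (Algebra.TensorProduct.map B.val B.val).range.comap (Bialgebra.comulAlgHom k A)
    have hr : ∀ z, z ∈ LinearMap.range (TensorProduct.map B.val.toLinearMap B.val.toLinearMap) ↔
        z ∈ (Algebra.TensorProduct.map B.val B.val).range := fun z => Iff.rfl
    rw [hr]
    suffices B ≤ P from this hb
    refine Algebra.adjoin_le fun a ha => ?_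
    simp only [Finset.coe_union, Finset.coe_image, Set.mem_union, Set.mem_image, Finset.mem_coe] at ha
    have key : ∀ (φ : A →ₐ[k] A), (∀ d ∈ D, φ d ∈ B) → ∀ d ∈ D,
        TensorProduct.map φ.toLinearMap φ.toLinearMap (CoalgebraStruct.comul (R := k) d) ∈
          (Algebra.TensorProduct.map B.val B.val).range := by
      intro φ hφ d hd
      obtain ⟨z, hz⟩ := hsub d hd
      rw [← hz]
      clear hz
      induction z using TensorProduct.induction_on with
      | zero => rw [map_zero, map_zero]; exact Subalgebra.zero_mem _
      | add p q hp hq => rw [map_add, map_add]; exact Subalgebra.add_mem _ hp hq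
      | tmul p q => exact ⟨⟨φ p, hφ _ p.2⟩ ⊗ₜ ⟨φ q, hφ _ q.2⟩, rfl⟩
    rcases ha with ha | ⟨a, ha, rfl⟩
    · have h := key (AlgHom.id k A) (fun d hd => hDB hd) a (htD a ha)
      simpa [P] using h
    · show CoalgebraStruct.comul (R := k) (HopfAlgebra.antipode k a) ∈
        (Algebra.TensorProduct.map B.val B.val).range
      rw [Groth.Agent.ComodBasic.comul_antipode]
      obtain ⟨z, hz⟩ := hsub a (htD a ha)
      rw [← hz]
      clear hz
      induction z using TensorProduct.induction_on with
      | zero => simp
      | add p q hp hq => rw [map_add, map_add, map_add]; exact Subalgebra.add_mem _ hp hq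
      | tmul p q =>
        refine ⟨⟨S q, hSDB _ q.2⟩ ⊗ₜ ⟨S p, hSDB _ p.2⟩, ?_⟩
        simp [S]
  · intro b hb
    suffices B ≤ B.comap S from this hb
    refine Algebra.adjoin_le fun a ha => ?_
    simp only [Finset.coe_union, Finset.coe_image, Set.mem_union, Set.mem_image, Finset.mem_coe] at ha
    rcases ha with ha | ⟨a, ha, rfl⟩
    · exact hSDB a (htD a ha)
    · show HopfAlgebra.antipode k (HopfAlgebra.antipode k a) ∈ B
      rw [Groth.Agent.ComodBasic.antipode_antipode]
      exact hDB (htD a ha)

end Groth.Agent.S5375
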