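import Groth.Statements.S5376
import Groth.Agent.ComodBasic.Basic
import Mathlib.RingTheory.Jacobson.Ring
import Mathlib.FieldTheory.IsAlgClosed.Basic
import Mathlib.LinearAlgebra.Dual.Lemmas


set_option autoImplicit false
universe u
open CategoryTheory CategoryTheory.Limits MonoidalCategory CartesianMonoidalCategory MonObj GrpObj AlgebraicGeometry
open SGA3

namespace Groth.Agent.S5376
open Groth.Agent.ComodBasic

theorem exists_point_ne_zero {k : Type*} [Field k] [IsAlgClosed k] {A : Type*} [CommRing A] [Algebra k A]
    [Algebra.FiniteType k A] [IsReduced A] {a : A} (ha : a ≠ 0) : ∃ g : A →ₐ[k] k, g a ≠ 0 := by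
  haveI : IsJacobsonRing A := isJacobsonRing_of_finiteType (A := k)
  obtain ⟨M, hM, haM⟩ : ∃ M : Ideal A, M.IsMaximal ∧ a ∉ M := by
    by_contra h
    push Not at h
    apply ha
    have h1 : a ∈ (⊥ : Ideal A).jacobson := Ideal.mem_sInf.2 fun J hJ => h J hJ.2
    have h2 : (⊥ : Ideal A).jacobson = ⊥ := IsJacobsonRing.out (R := A) ‹_›
      (Ideal.radical_eq_iff.1 (Ideal.radical_bot_of_isReduced (R := A)))
    simpa [h2] using h1
  letI := Ideal.Quotient.field M
  haveI : Algebra.FiniteType k (A ⧸ M) :=
    Algebra.FiniteType.of_surjective (Ideal.Quotient.mkₐ k M) Ideal.Quotient.mk_surjective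
  haveI : Module.Finite k (A ⧸ M) := finite_of_finite_type_of_isJacobsonRing k _
  have hb : Function.Bijective (Algebra.ofId k (A ⧸ M)) :=
    IsAlgClosed.algebraMap_bijective_of_isIntegral
  refine ⟨(AlgEquiv.ofBijective _ hb).symm.toAlgHom.comp (Ideal.Quotient.mkₐ k M), fun h => haM ?_⟩
  simp only [AlgHom.comp_apply, AlgEquiv.coe_toAlgHom] at h
  rw [← Ideal.Quotient.eq_zero_iff_mem]
  exact (AlgEquiv.ofBijective _ hb).symm.map_eq_zero_iff.1 h


/-- Let k be an algebraically closed field, A a finitely generated commutative Hopf algebra over k which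
is reduced (a reduced affine algebraic k-group G), V a finite-dimensional A-comodule and v a vector
of V. Let E be the k-subspace of V spanned by the vectors g·v for g running over the k-points of G
(algebra maps A → k). Then E is a subcomodule of V containing v, and it is the smallest one. -/
theorem result (k : Type u) [Field k] [IsAlgClosed k] (A : Type u) [CommRing A] [HopfAlgebra k A]
    [Algebra.FiniteType k A] [IsReduced A] (V : Type u) [AddCommGroup V] [Module k V] [HopfRep.Comod k A V]
    [Module.Finite k V] (v : V) :
    letI E : Submodule k V := Submodule.span k (Set.range fun g : A →ₐ[k] k => HopfRep.Comod.act k A V g v)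
    HopfRep.IsSubcomod (k := k) (A := A) E ∧ v ∈ E ∧
      ∀ W : Submodule k V, HopfRep.IsSubcomod (k := k) (A := A) W → v ∈ W → E ≤ W := by
  have hact : ∀ g : A →ₐ[k] k, HopfRep.Comod.act k A V g v = (WithConv.toConv g.toLinearMap : Cv k A) • v :=
    fun g => rfl
  let N : Submodule (Cv k A) V := Submodule.span (Cv k A) {v}
  have hE : Submodule.span k (Set.range fun g : A →ₐ[k] k => HopfRep.Comod.act k A V g v) = N.restrictScalars k := by
    refine le_antisymm (Submodule.span_le.2 ?_) ?_
    · rintro _ ⟨g, rfl⟩
      change HopfRep.Comod.act k A V g v ∈ N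
      rw [hact]
      exact N.smul_mem _ (Submodule.mem_span_singleton_self v)
    · intro w hw
      obtain ⟨φ, rfl⟩ := Submodule.mem_span_singleton.1 hw
      by_contra hne
      obtain ⟨ξ, hξne, hξ⟩ := Submodule.exists_dual_map_eq_bot_of_notMem hne inferInstance
      apply hξne
      have hkey : ∀ θ : Cv k A, θ.ofConv (lslice (C := A) ξ (HopfRep.Comod.coact (k := k) (A := A) v)) = ξ (θ • v) := by
        intro θ
        rw [smul_def, act_apply]
        generalize HopfRep.Comod.coact (k := k) (A := A) v = y
        induction y using TensorProduct.induction_on with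
        | zero => simp
        | add a b ha hb => simp [ha, hb]
        | tmul a b => simp [mul_comm]
      have hzero : lslice (C := A) ξ (HopfRep.Comod.coact (k := k) (A := A) v) = 0 := by
        by_contra h
        obtain ⟨g, hg⟩ := exists_point_ne_zero (k := k) h
        apply hg
        have hmem : ξ (HopfRep.Comod.act k A V g v) ∈
            (Submodule.span k (Set.range fun g : A →ₐ[k] k => HopfRep.Comod.act k A V g v)).map ξ :=
          Submodule.mem_map_of_mem (Submodule.subset_span ⟨g, rfl⟩)
        rw [hξ, Submodule.mem_bot] at hmem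
        have h1 := hmem
        rw [hact, ← hkey] at h1
        exact h1
      rw [← hkey, hzero, map_zero]
  refine ⟨?_, ?_, fun W hW hv => ?_⟩
  · rw [hE]; exact isSubcomod_restrict N
  · rw [hE]; exact Submodule.mem_span_singleton_self v
  · rw [hE]
    intro w hw
    obtain ⟨φ, rfl⟩ := Submodule.mem_span_singleton.1 hw
    exact (isSubcomod_iff W).1 hW φ v hv

end Groth.Agent.S5376
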