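import Groth.Statements.S5377
import Mathlib
-- import your own Groth.Agent.* helpers here

set_option autoImplicit false
universe u
open CategoryTheory CategoryTheory.Limits MonoidalCategory CartesianMonoidalCategory MonObj GrpObj AlgebraicGeometry
open SGA3

namespace Groth.Agent.S5377

/-- Let (C_i → A_i)_i be a filtered direct system of homomorphisms of commutative rings, each of which
is faithfully flat. Then the induced homomorphism colim C_i → colim A_i is faithfully flat. -/
theorem result (J : Type u) [SmallCategory J] [IsFiltered J]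
    (C A : J ⥤ CommRingCat.{u}) (φ : C ⟶ A) (h : ∀ j : J, (φ.app j).hom.FaithfullyFlat) :
    (colimMap φ).hom.FaithfullyFlat := by
  classical
  let P : CommRingCat.{u} := colimit C
  let Q : CommRingCat.{u} := colimit A
  let ιC : ∀ j, C.obj j ⟶ P := colimit.ι C
  let ιA : ∀ j, A.obj j ⟶ Q := colimit.ι A
  have hC := colimit.isColimit C
  have hA := colimit.isColimit A
  let f : P ⟶ Q := colimMap φ
  have hf : ∀ j (c : C.obj j), f.hom (ιC j c) = ιA j ((φ.app j) c) := fun j c =>
    ConcreteCategory.congr_hom (ι_colimMap φ j) c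
  have hwC : ∀ {j j' : J} (g : j ⟶ j') (c : C.obj j), ιC j' (C.map g c) = ιC j c := fun g c =>
    ConcreteCategory.congr_hom (colimit.w C g) c
  have hwA : ∀ {j j' : J} (g : j ⟶ j') (a : A.obj j), ιA j' (A.map g a) = ιA j a := fun g a =>
    ConcreteCategory.congr_hom (colimit.w A g) a
  have hn : ∀ {j j' : J} (g : j ⟶ j') (c : C.obj j), A.map g ((φ.app j) c) = (φ.app j') (C.map g c) := fun g c =>
    (ConcreteCategory.congr_hom (φ.naturality g) c).symm
  -- finitely many pairs live at one stage, and a relation between them holds at a later stage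
  have key : ∀ (l : ℕ) (p : Fin l → P) (x : Fin l → Q) (r : ℤ),
      (∀ b, ∃ j c a, ιC j c = p b ∧ ιA j a = x b) → ∑ b, f.hom (p b) * x b = (r : Q) →
      ∃ (j : J) (c : Fin l → C.obj j) (a : Fin l → A.obj j), (∀ b, ιC j (c b) = p b) ∧
        (∀ b, ιA j (a b) = x b) ∧ ∑ b, (φ.app j) (c b) * a b = (r : A.obj j) := by
    intro l p x r hrep hsum
    choose k c a hc ha using hrep
    obtain ⟨j₀⟩ := (IsFiltered.nonempty : Nonempty J)
    obtain ⟨j₁, hj₁⟩ := IsFiltered.sup_objs_exists (insert j₀ (Finset.univ.image k))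
    have ψ (b : Fin l) : k b ⟶ j₁ :=
      (hj₁ (Finset.mem_insert_of_mem (Finset.mem_image_of_mem k (Finset.mem_univ b)))).some
    have hz : ιA j₁ (∑ b, (φ.app j₁) (C.map (ψ b) (c b)) * A.map (ψ b) (a b)) = ιA j₁ (r : A.obj j₁) := by
      rw [map_sum, map_intCast, ← hsum]
      refine Finset.sum_congr rfl fun b _ => ?_
      rw [map_mul, ← hf, hwC, hwA, hc, ha]
    obtain ⟨j₂, g, g', hg⟩ := Concrete.isColimit_exists_of_rep_eq.{u} A hA _ _ hz
    rw [map_sum, map_intCast] at hg
    refine ⟨j₂, fun b => C.map g (C.map (ψ b) (c b)), fun b => A.map g (A.map (ψ b) (a b)),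
      fun b => by rw [hwC, hwC, hc], fun b => by rw [hwA, hwA, ha], ?_⟩
    rw [← hg]
    exact Finset.sum_congr rfl fun b _ => by rw [map_mul, hn]
  have hrep : ∀ (p : P) (x : Q), ∃ j c a, ιC j c = p ∧ ιA j a = x := fun p x => by
    obtain ⟨j, c, rfl⟩ := Concrete.isColimit_exists_rep C hC p
    obtain ⟨j', a, rfl⟩ := Concrete.isColimit_exists_rep A hA x
    exact ⟨IsFiltered.max j j', C.map (IsFiltered.leftToMax j j') c, A.map (IsFiltered.rightToMax j j') a,
      hwC _ c, hwA _ a⟩
  show f.hom.FaithfullyFlat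
  algebraize [f.hom]
  have : Module.Flat P Q := Module.Flat.of_forall_isTrivialRelation fun {l p x} hpx => by
    obtain ⟨j, c, a, hc, ha, hsum⟩ := key l p x 0 (fun b => hrep _ _) (by rw [Int.cast_zero]; exact hpx)
    rw [Int.cast_zero] at hsum
    let _ := (φ.app j).hom.toAlgebra
    have : Module.FaithfullyFlat (C.obj j) (A.obj j) := h j
    obtain ⟨m, d, w, hw, hd⟩ := Module.Flat.isTrivialRelation_of_sum_smul_eq_zero (R := C.obj j) (M := A.obj j)
      (f := c) (x := a) hsum
    refine ⟨m, fun b e => ιC j (d b e), fun e => ιA j (w e), fun b => ?_, fun e => ?_⟩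
    · rw [← ha b, hw b, map_sum]
      refine Finset.sum_congr rfl fun e _ => ?_
      change ιA j ((φ.app j) (d b e) * w e) = f.hom (ιC j (d b e)) * ιA j (w e)
      rw [map_mul, hf]
    · rw [← map_zero (ιC j).hom, ← hd e, map_sum]
      refine Finset.sum_congr rfl fun b _ => ?_
      rw [map_mul, hc]
  refine { toFlat := this, submodule_ne_top := fun m hm htop => ?_ }
  have h1 : (1 : Q) ∈ Submodule.span Q (f.hom '' (m : Set P)) := by
    have h2 : (1 : Q) ∈ m • (⊤ : Submodule P Q) := by
      rw [htop]; exact Submodule.mem_top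
    rw [Ideal.smul_top_eq_map] at h2
    exact h2
  obtain ⟨l, q, g, hqg⟩ := Submodule.mem_span_set'.mp h1
  choose p hp hpg using fun b => (g b).2
  obtain ⟨j, c, a, hc, ha, hsum⟩ := key l p q 1 (fun b => hrep _ _) (by
    rw [Int.cast_one, ← hqg]
    exact Finset.sum_congr rfl fun b _ => by rw [hpg, smul_eq_mul, mul_comm])
  rw [Int.cast_one] at hsum
  let _ := (φ.app j).hom.toAlgebra
  have : Module.FaithfullyFlat (C.obj j) (A.obj j) := h j
  let I : Ideal (C.obj j) := m.comap (ιC j).hom
  have : (1 : A.obj j) ∈ I.map (algebraMap (C.obj j) (A.obj j)) := by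
    rw [← hsum]
    exact Ideal.sum_mem _ fun b _ => Ideal.mul_mem_right _ _ (Ideal.mem_map_of_mem _ (show ιC j (c b) ∈ m from (hc b).symm ▸ hp b))
  have h3 : I = ⊤ := by
    rw [← Ideal.comap_map_eq_self_of_faithfullyFlat (B := A.obj j) I, (Ideal.eq_top_iff_one _).mpr this, Ideal.comap_top]
  refine hm.ne_top ((Ideal.eq_top_iff_one m).mpr ?_)
  have h4 : ιC j 1 ∈ m := (Ideal.eq_top_iff_one I).mp h3
  rwa [map_one] at h4

end Groth.Agent.S5377
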