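import Groth.Statements.S5380
import Mathlib.RingTheory.Flat.Equalizer
import Mathlib.RingTheory.Localization.BaseChange
import Mathlib.RingTheory.Flat.Stability
import Mathlib.LinearAlgebra.TensorProduct.Quotient
import Mathlib.LinearAlgebra.TensorProduct.RightExactness

set_option autoImplicit false
universe u
open CategoryTheory CategoryTheory.Limits MonoidalCategory CartesianMonoidalCategory MonObj GrpObj AlgebraicGeometry
open SGA3

open TensorProduct
namespace Groth.Agent.S5380

/-- Let R be a discrete valuation ring with uniformizer π, A a flat commutative R-algebra and M an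
A-module which is flat over R. Suppose that M/πM is a flat module over A/πA and that M ⊗_R K is a
flat module over A ⊗_R K, K the fraction field of R (equivalently, M[1/π] is flat over A[1/π], the
form used here). Then M is a flat A-module. -/
theorem result (R : Type u) [CommRing R] [IsDomain R] [IsDiscreteValuationRing R]
    (π : R) (hπ : Irreducible π) (A : Type u) [CommRing A] [Algebra R A] [Module.Flat R A]
    (M : Type u) [AddCommGroup M] [Module A M] [Module R M] [IsScalarTower R A M] [Module.Flat R M]
    (h1 : Module.Flat (A ⧸ Ideal.span {algebraMap R A π}) (M ⧸ (Ideal.span {algebraMap R A π} • (⊤ : Submodule A M))))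
    (h2 : Module.Flat (Localization.Away (algebraMap R A π)) (LocalizedModule (Submonoid.powers (algebraMap R A π)) M)) :
    Module.Flat A M := by
  classical
  let a := algebraMap R A π
  let B := A ⧸ Ideal.span {a}
  have hMtf : ∀ m : M, a • m = 0 → m = 0 := fun m hm => by
    refine (smul_eq_zero.1 ((algebraMap_smul A π m).symm.trans hm) : π = 0 ∨ m = 0).resolve_left hπ.ne_zero
  have hAtf : ∀ x : A, a * x = 0 → x = 0 := fun x hx => by
    refine (smul_eq_zero.1 ((Algebra.smul_def π x).trans hx) : π = 0 ∨ x = 0).resolve_left hπ.ne_zero
  let F := M →₀ A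
  let p : F →ₗ[A] M := Finsupp.linearCombination A (id : M → M)
  have hp : Function.Surjective p := Finsupp.linearCombination_id_surjective A M
  let L := LinearMap.ker p
  have hLp : Function.Exact L.subtype p := LinearMap.exact_subtype_ker_map p
  haveI hBM : Module.Flat B (B ⊗[A] M) :=
    Module.Flat.of_linearEquiv ((TensorProduct.quotTensorEquivQuotSMul M (Ideal.span {a})).extendScalarsOfSurjective
      (S := B) Ideal.Quotient.mk_surjective)
  have hBL : Function.Injective (LinearMap.baseChange B L.subtype) := by
    rw [injective_iff_map_eq_zero]
    intro z hz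
    obtain ⟨l, rfl⟩ : ∃ l : L, (1 : B) ⊗ₜ[A] l = z :=
      TensorProduct.mk_surjective A L B Ideal.Quotient.mk_surjective z
    have h3 := congrArg (TensorProduct.quotTensorEquivQuotSMul F (Ideal.span {a})) hz
    rw [LinearMap.baseChange_tmul, TensorProduct.quotTensorEquivQuotSMul_mk_one_tmul, map_zero,
      Submodule.Quotient.mk_eq_zero, Submodule.ideal_span_singleton_smul, Submodule.mem_smul_pointwise_iff_exists] at h3
    obtain ⟨f, -, hf⟩ := h3
    have hfL : f ∈ L := hMtf _ (by
      rw [← map_smul, hf]; exact l.2)
    have : l = a • (⟨f, hfL⟩ : L) := Subtype.ext hf.symm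
    rw [this, TensorProduct.tmul_smul, TensorProduct.smul_tmul']
    have ha : a • (1 : B) = 0 := by
      rw [Algebra.smul_def, _root_.mul_one]
      exact Ideal.Quotient.eq_zero_iff_mem.2 (Ideal.mem_span_singleton_self a)
    rw [ha, TensorProduct.zero_tmul]
  have hexB : Function.Exact (LinearMap.baseChange B L.subtype) (LinearMap.baseChange B p) :=
    show Function.Exact (LinearMap.lTensor B L.subtype) (LinearMap.lTensor B p) from lTensor_exact (M := ↥L) (N := F) (P := M) B hLp hp
  have hsurjB : Function.Surjective (LinearMap.baseChange B p) := LinearMap.lTensor_surjective B hp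
  have hP : ∀ (P : Type u) [AddCommGroup P] [Module A P] [Module B P] [IsScalarTower A B P],
      Function.Injective (LinearMap.lTensor P L.subtype) := by
    intro P _ _ _ _
    have h := LinearMap.lTensor_injective_of_exact_of_flat (LinearMap.baseChange B p) hsurjB
      (LinearMap.baseChange B L.subtype) hBL hexB P
    let e1 := TensorProduct.AlgebraTensorModule.cancelBaseChange A B B P L
    let e2 := TensorProduct.AlgebraTensorModule.cancelBaseChange A B B P F
    have hc : ∀ x, e2 (LinearMap.lTensor P (LinearMap.baseChange B L.subtype) x) =
        LinearMap.lTensor P L.subtype (e1 x) := by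
      intro x
      induction x using TensorProduct.induction_on with
      | zero => simp
      | add s t hs ht => simp only [map_add, hs, ht]
      | tmul q y =>
        induction y using TensorProduct.induction_on with
        | zero => simp
        | add s t hs ht => simp only [TensorProduct.tmul_add, map_add, hs, ht]
        | tmul b l => simp [e1, e2]
    intro x y hxy
    obtain ⟨x, rfl⟩ := e1.surjective x
    obtain ⟨y, rfl⟩ := e1.surjective y
    rw [← hc, ← hc] at hxy
    exact congrArg e1 (h (e2.injective hxy))
  have htf : ∀ (I : Ideal A) (z : M ⊗[A] I), a • z = 0 → z = 0 := by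
    intro I z hz
    obtain ⟨y, rfl⟩ := LinearMap.rTensor_surjective I hp z
    rw [← map_smul] at hz
    obtain ⟨w, hw⟩ := (rTensor_exact (M := ↥L) (N := F) (P := M) I hLp hp _).1 hz
    let Q := I ⧸ (Ideal.span {a} • (⊤ : Submodule A I))
    let q : I →ₗ[A] Q := Submodule.mkQ _
    let mA : I →ₗ[A] I := LinearMap.lsmul A I a
    have hmA : Function.Exact mA q := by
      intro i
      show q i = 0 ↔ _
      rw [Submodule.mkQ_apply, Submodule.Quotient.mk_eq_zero, Submodule.ideal_span_singleton_smul, Submodule.mem_smul_pointwise_iff_exists]
      simp [mA]
    have h0 : LinearMap.lTensor L q w = 0 := by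
      apply (TensorProduct.comm A L Q).injective
      apply hP Q
      rw [map_zero, map_zero]
      have h4 : LinearMap.lTensor F q (LinearMap.rTensor I L.subtype w) = 0 := by
        rw [hw, map_smul, ← LinearMap.smul_apply, ← LinearMap.lTensor_smul]
        have : a • q = 0 := LinearMap.ext fun i => by
          rw [LinearMap.smul_apply, LinearMap.zero_apply, ← map_smul]
          exact (hmA _).2 ⟨i, rfl⟩
        rw [this, LinearMap.lTensor_zero, LinearMap.zero_apply]
      rw [← map_zero (TensorProduct.comm A F Q), ← h4]
      clear hw h4
      induction w using TensorProduct.induction_on with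
      | zero => simp
      | add s t hs ht => simp only [map_add, hs, ht]
      | tmul l i => simp
    obtain ⟨w', hw'⟩ := (lTensor_exact L hmA (Submodule.mkQ_surjective _) _).1 h0
    have hmAa : ∀ (X : Type u) [AddCommGroup X] [Module A X] (x : X ⊗[A] I), LinearMap.lTensor X mA x = a • x := by
      intro X _ _ x
      induction x using TensorProduct.induction_on with
      | zero => simp
      | add s t hs ht => simp only [map_add, smul_add, hs, ht]
      | tmul l i => simp [mA, TensorProduct.tmul_smul]
    replace hw' : a • w' = w := (hmAa L w').symm.trans hw'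
    have h5 : LinearMap.lTensor F mA (y - LinearMap.rTensor I L.subtype w') = 0 := by
      rw [hmAa F, smul_sub, ← map_smul, hw', hw, sub_self]
    have h6 := (injective_iff_map_eq_zero _).1 (Module.Flat.lTensor_preserves_injective_linearMap (M := F) mA
      (fun i j hij => by
        refine Subtype.ext (sub_eq_zero.1 (hAtf _ ?_))
        have := congrArg Subtype.val hij
        simp only [mA, LinearMap.lsmul_apply, SetLike.val_smul, smul_eq_mul] at this
        rw [mul_sub, this, sub_self])) _ h5
    rw [sub_eq_zero.1 h6]
    exact (rTensor_exact (M := ↥L) (N := F) (P := M) I hLp hp _).2 ⟨w', rfl⟩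
  rw [Module.Flat.iff_lTensor_injective']
  intro I
  rw [injective_iff_map_eq_zero]
  intro z hz
  let S := Submonoid.powers a
  let g := LocalizedModule.mkLinearMap S M
  haveI : Module.Flat A (Localization.Away a) := IsLocalization.flat _ S
  haveI : Module.Flat (Localization.Away a) (LocalizedModule S M) := h2
  haveI : Module.Flat A (LocalizedModule S M) := Module.Flat.trans A (Localization.Away a) _
  have hzero : TensorProduct.AlgebraTensorModule.rTensor A I g z = 0 := by
    refine (injective_iff_map_eq_zero _).1 (Module.Flat.lTensor_preserves_injective_linearMap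
      (M := LocalizedModule S M) I.subtype Subtype.val_injective) _ ?_
    show LinearMap.lTensor _ I.subtype (LinearMap.rTensor I g z) = 0
    rw [← LinearMap.comp_apply, LinearMap.lTensor_comp_rTensor, ← LinearMap.rTensor_comp_lTensor,
      LinearMap.comp_apply, hz, map_zero]
  obtain ⟨⟨_, n, rfl⟩, hn⟩ := (IsLocalizedModule.eq_zero_iff S (TensorProduct.AlgebraTensorModule.rTensor A I g)).1 hzero
  change a ^ n • z = 0 at hn
  clear hz hzero
  induction n generalizing z with
  | zero => simpa using hn
  | succ n ih =>
    refine htf I z (ih (a • z) ?_)
    rw [smul_smul, ← pow_succ]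
    exact hn

end Groth.Agent.S5380
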