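import Groth.Statements.S5381
import Mathlib.AlgebraicGeometry.Morphisms.Flat
import Mathlib.RingTheory.Flat.TorsionFree
-- import your own Groth.Agent.* helpers here

set_option autoImplicit false
universe u
open CategoryTheory CategoryTheory.Limits MonoidalCategory CartesianMonoidalCategory MonObj GrpObj AlgebraicGeometry
open SGA3

namespace Groth.Agent.S5381

/-- For S the spectrum of a Dedekind domain R: let X be a scheme which is flat, quasi-compact and
quasi-separated over R. Then the ring of global sections Γ(X, O_X) is a flat R-module. (The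
published remark takes S locally noetherian and regular of dimension 1 and also observes, when S is
local with closed point s and uniformizer π, that Γ(X, O_X)/πΓ(X, O_X) → Γ(X_s, O_{X_s}) is
injective; this row takes S the spectrum of a Dedekind domain and omits the injectivity.) -/
theorem result (R : Type u) [CommRing R] [IsDedekindDomain R]
    (X : Scheme.{u}) (f : X ⟶ Spec (CommRingCat.of R)) [Flat f] [QuasiCompact f] [QuasiSeparated f] :
    letI := ((Scheme.ΓSpecIso (CommRingCat.of R)).inv ≫ f.appTop).hom.toAlgebra
    Module.Flat R Γ(X, ⊤) := by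
    letI := ((Scheme.ΓSpecIso (CommRingCat.of R)).inv ≫ f.appTop).hom.toAlgebra
    suffices Module.IsTorsionFree R Γ(X, ⊤) from inferInstance
    refine ⟨fun r hr => ?_⟩
    intro s t hst
    refine X.sheaf.eq_of_locally_eq' (fun U : X.affineOpens => U.1) ⊤ (fun U => homOfLE le_top)
      (by rw [iSup_affineOpens_eq_top]) s t fun U => ?_
    let ψ := (Scheme.ΓSpecIso (CommRingCat.of R)).inv ≫ f.appLE ⊤ U.1 le_top
    letI := ψ.hom.toAlgebra
    haveI : Module.Flat R Γ(X, U.1) := by
      have h1 : (f.appLE ⊤ U.1 le_top).hom.Flat := Flat.flat_appLE f (isAffineOpen_top _) U.2 le_top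
      exact RingHom.Flat.comp (RingHom.Flat.of_bijective (ConcreteCategory.bijective_of_isIso (Scheme.ΓSpecIso (CommRingCat.of R)).inv)) h1
    have hreg : IsSMulRegular Γ(X, U.1) r := Module.IsTorsionFree.isSMulRegular hr
    refine hreg ?_
    have := congrArg (X.presheaf.map (homOfLE (le_top : U.1 ≤ ⊤)).op) hst
    simp only [Algebra.smul_def, map_mul, RingHom.algebraMap_toAlgebra] at this ⊢
    exact this

end Groth.Agent.S5381
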