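import Groth.Statements.S5383
import Groth.Agent.GeomUnib.Scheme
-- import your own Groth.Agent.* helpers here

set_option autoImplicit false
universe u
open CategoryTheory CategoryTheory.Limits MonoidalCategory CartesianMonoidalCategory MonObj GrpObj AlgebraicGeometry
open SGA3

namespace Groth.Agent.S5383

/-- (i) let A ⊆ B be domains with B integral over A, and q a prime of B such that the local ring of A at
p = q ∩ A is unibranch; then Spec B → Spec A is open at q (it maps neighbourhoods of q to
neighbourhoods of p). (ii) Let f : X → Y be a dominant morphism of irreducible schemes which is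
locally of finite type, x a point of X isolated in its fibre (f quasi-finite at x) such that the
local ring of Y at f(x) is unibranch; then f is open at x. -/
theorem result :
    (∀ (A B : Type u) [CommRing A] [IsDomain A] [CommRing B] [IsDomain B] [Algebra A B],
      Function.Injective (algebraMap A B) → Algebra.IsIntegral A B →
      ∀ q : PrimeSpectrum B, CAlg2.IsUnibranch (Localization.AtPrime (q.asIdeal.comap (algebraMap A B))) →
        EGA43.IsOpenAt (PrimeSpectrum.comap (algebraMap A B)) q) ∧
    (∀ (X Y : Scheme.{u}) (f : X ⟶ Y) [IrreducibleSpace X] [IrreducibleSpace Y] [LocallyOfFiniteType f],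
      DenseRange f.base → ∀ x : X, (nhdsWithin x (f.base ⁻¹' {f.base x})) = pure x →
        CAlg2.IsUnibranch (Y.presheaf.stalk (f.base x)) → EGA43.IsOpenAt f.base x) := by
  refine ⟨fun A B _ _ _ _ _ hinj _ q hq => ?_, fun X Y f _ _ _ hd x hx hy => ?_⟩
  · have : FaithfulSMul A B := (faithfulSMul_iff_algebraMap_injective A B).2 hinj
    obtain ⟨_, _⟩ := GeomUnib.exists_normalisation A
    exact GeomUnib.isOpenAt_of_isIntegral (integralClosure A (FractionRing A)) q
      (GeomUnib.uniqueAt_of_localization (K := FractionRing A) _ hq (RingHom.id _) Function.surjective_id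
        (by rw [(RingHom.injective_iff_ker_eq_bot _).1 Function.injective_id]; exact bot_le))
  · have hqf : f.QuasiFiniteAt x := by
      rw [Scheme.Hom.quasiFiniteAt_iff_isOpen_singleton_asFiber]
      have hmem : {x} ∈ nhdsWithin x (f.base ⁻¹' {f.base x}) := by
        rw [hx]; exact Filter.mem_pure.2 rfl
      obtain ⟨O, hO, hxO, hsub⟩ := mem_nhdsWithin.1 hmem
      rw [← (f.fiberHomeo _).isOpen_image, Set.image_singleton]
      convert hO.preimage (continuous_subtype_val (p := fun z => z ∈ f.base ⁻¹' {f.base x})) using 1
      ext z
      have hz0 : (f.fiberHomeo (f.base x) (f.asFiber x)).1 = x :=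
        congrArg Subtype.val ((f.fiberHomeo (f.base x)).apply_symm_apply ⟨x, rfl⟩)
      refine ⟨fun h => ?_, fun h => Subtype.ext ((hsub ⟨h, z.2⟩ : z.1 = x).trans hz0.symm)⟩
      show z.1 ∈ O
      rw [Set.mem_singleton_iff.1 h, hz0]; exact hxO
    refine GeomUnib.isOpenAt_of_quasiFinite f x hqf (genericPoint X)
      (genericPoint_specializes x) ⊤ trivial ?_ hy
    intro z _
    refine closure_minimal ?_ isClosed_closure (hd z)
    rintro _ ⟨w, rfl⟩
    exact ((genericPoint_specializes w).map f.continuous).mem_closure

end Groth.Agent.S5383
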