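import Groth.Statements.S5384
import Groth.Agent.GrpSchField.Subgroup
import Mathlib

set_option autoImplicit false
universe u
open CategoryTheory CategoryTheory.Limits MonoidalCategory CartesianMonoidalCategory MonObj GrpObj AlgebraicGeometry
open SGA3

namespace Groth.Agent.S5384

/-- Let A be a local artinian ring, G an A-group scheme and u : H → G a homomorphism of A-group schemes
which is an immersion (a subgroup scheme; no finiteness is assumed). Then u is a closed immersion. -/
theorem result (A : Type u) [CommRing A] [IsArtinianRing A] [IsLocalRing A] (G H : Over (Spec (CommRingCat.of A))) [GrpObj G] [GrpObj H]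
    (u : H ⟶ G) [IsMonHom u] [IsImmersion u.left] : IsClosedImmersion u.left := by
  let pk : Spec (CommRingCat.of (IsLocalRing.ResidueField A)) ⟶ Spec (CommRingCat.of A) :=
    Spec.map (CommRingCat.ofHom (IsLocalRing.residue A))
  haveI : IsClosedImmersion pk := IsClosedImmersion.spec_of_surjective _ IsLocalRing.residue_surjective
  have hsurj : Function.Surjective pk := by
    intro y
    refine ⟨IsLocalRing.closedPoint (IsLocalRing.ResidueField A), ?_⟩
    refine PrimeSpectrum.ext ?_
    have hy : y.asIdeal = IsLocalRing.maximalIdeal A :=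
      IsLocalRing.eq_maximalIdeal (Ideal.IsPrime.isMaximal' (R := A) y.isPrime)
    rw [hy]
    show Ideal.comap (IsLocalRing.residue A) (IsLocalRing.maximalIdeal (IsLocalRing.ResidueField A)) = _
    have h0 : IsLocalRing.maximalIdeal (IsLocalRing.ResidueField A) = ⊥ := IsLocalRing.maximalIdeal_eq_bot
    rw [h0, ← RingHom.ker_eq_comap_bot, IsLocalRing.ker_residue]
  haveI : Surjective pk := ⟨hsurj⟩
  let F := Over.pullback pk
  let prG : (F.obj G).left ⟶ G.left := pullback.fst G.hom pk
  let prH : (F.obj H).left ⟶ H.left := pullback.fst H.hom pk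
  haveI : Surjective prG := MorphismProperty.pullback_fst _ _ inferInstance
  haveI : Surjective prH := MorphismProperty.pullback_fst _ _ inferInstance
  haveI : IsClosedImmersion prG := MorphismProperty.pullback_fst _ _ inferInstance
  letI : GrpObj (F.obj G) := Functor.grpObjObj
  letI : GrpObj (F.obj H) := Functor.grpObjObj
  haveI : IsMonHom (F.map u) := inferInstance
  have hcomm : (F.map u).left ≫ prG = prH ≫ u.left := pullback.lift_fst _ _ _
  have hrange : Set.range (F.map u).left = prG ⁻¹' Set.range u.left := by
    refine Set.eq_of_subset_of_subset ?_ ?_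
    · rintro _ ⟨x, rfl⟩
      exact ⟨prH x, by rw [← Scheme.Hom.comp_apply, ← hcomm, Scheme.Hom.comp_apply]⟩
    · intro y ⟨x, hx⟩
      obtain ⟨x', hx'⟩ := prH.surjective x
      exact ⟨x', prG.isClosedEmbedding.injective (by
        rw [← Scheme.Hom.comp_apply, hcomm, Scheme.Hom.comp_apply, hx', hx])⟩
  have hc := Groth.Agent.GrpSchField.isClosed_range (F.map u) (by
    rw [hrange]
    exact (IsImmersion.isLocallyClosed_range (f := u.left)).preimage prG.continuous)
  refine IsClosedImmersion.of_isPreimmersion u.left ?_
  have e : Set.range u.left = prG '' (prG ⁻¹' Set.range u.left) :=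
    (Set.image_preimage_eq _ prG.surjective).symm
  rw [e, ← hrange]
  exact prG.isClosedEmbedding.isClosedMap _ hc

end Groth.Agent.S5384
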