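import Groth.Statements.S5387
import Mathlib.AlgebraicGeometry.AlgClosed.Basic
-- import your own Groth.Agent.* helpers here

set_option autoImplicit false
set_option linter.style.haveILetI false
universe u
open CategoryTheory CategoryTheory.Limits MonoidalCategory CartesianMonoidalCategory MonObj GrpObj AlgebraicGeometry
open SGA3

namespace Groth.Agent.S5387

/-- Let k be an algebraically closed field, G a group scheme locally of finite type over k and x a
closed point of G. Then the local ring of G at x is isomorphic to the local ring of G at the unit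
point (an isomorphism is induced by a translation; this row asserts the existence of an isomorphism
of rings). -/
theorem result (k : Type u) [Field k] [IsAlgClosed k] (G : Over (Spec (CommRingCat.of k))) [GrpObj G]
    [LocallyOfFiniteType G.hom] (pt : ↥(𝟙_ (Over (Spec (CommRingCat.of k)))).left) (x : G.left) (hx : IsClosed ({x} : Set G.left)) :
    Nonempty (G.left.presheaf.stalk (η[G].left.base pt) ≅ G.left.presheaf.stalk x) := by
  let p : 𝟙_ (Over (Spec (CommRingCat.of k))) ⟶ G :=
    Over.homMk (pointOfClosedPoint G.hom x hx) (pointOfClosedPoint_comp G.hom x hx)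
  have hp : p.left.base pt = x := pointOfClosedPoint_apply G.hom x hx pt
  let τ : G ≅ G :=
    { hom := (toUnit G ≫ p) * 𝟙 G
      inv := (toUnit G ≫ p)⁻¹ * 𝟙 G
      hom_inv_id := by simp [MonObj.comp_mul, GrpObj.comp_inv]
      inv_hom_id := by simp [MonObj.comp_mul] }
  have hτ : η[G] ≫ τ.hom = p := by
    show η[G] ≫ ((toUnit G ≫ p) * 𝟙 G) = p
    rw [MonObj.comp_mul, Category.comp_id, ← Category.assoc, toUnit_unique (η[G] ≫ toUnit G) (𝟙 _), Category.id_comp,
      show η[G] = (1 : 𝟙_ _ ⟶ G) by rw [MonObj.one_eq_one], _root_.mul_one]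
  have hpt : τ.hom.left.base (η[G].left.base pt) = x := by
    rw [← hp, ← hτ]
    rfl
  let e : G.left ≅ G.left := (Over.forget _).mapIso τ
  haveI : IsIso τ.hom.left := inferInstanceAs (IsIso e.hom)
  exact ⟨(asIso (τ.hom.left.stalkMap (η[G].left.base pt))).symm ≪≫
    eqToIso (congrArg G.left.presheaf.stalk hpt)⟩

end Groth.Agent.S5387
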