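import Groth.Statements.S5390
import Mathlib
-- import your own Groth.Agent.* helpers here

set_option autoImplicit false
universe u
open CategoryTheory CategoryTheory.Limits MonoidalCategory CartesianMonoidalCategory MonObj GrpObj AlgebraicGeometry
open SGA3

namespace Groth.Agent.S5390

/-- Let P be a property of morphisms of schemes which is local on the target for the fpqc topology
(stable under base change, Zariski-local on the target, descending along flat surjective
quasi-compact morphisms). Let f : X → Y be a morphism, g : Y' → Y a flat morphism whose underlying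
map is open, and f' : X ×_Y Y' → Y' the base change. If W is the largest open of Y over which f has
P and W₁' the largest open of Y' over which f' has P, then W₁' = g⁻¹(W). -/
theorem result (P : MorphismProperty Scheme.{u}) [P.IsStableUnderBaseChange] [IsZariskiLocalAtTarget P]
    [P.DescendsAlong (@Flat ⊓ @Surjective ⊓ @QuasiCompact)]
    (X Y Y' : Scheme.{u}) (f : X ⟶ Y) (g : Y' ⟶ Y) [Flat g] (hg : IsOpenMap g.base)
    (W : Y.Opens) (hW : P (f ∣_ W)) (hmax : ∀ W₀ : Y.Opens, P (f ∣_ W₀) → W₀ ≤ W)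
    (W₁ : Y'.Opens) (hW₁ : P (pullback.snd f g ∣_ W₁)) (hmax₁ : ∀ W₀ : Y'.Opens, P (pullback.snd f g ∣_ W₀) → W₀ ≤ W₁) :
    W₁ = g ⁻¹ᵁ W := by
  refine le_antisymm (fun w hw => ?_) (hmax₁ _ ?_)
  · obtain ⟨U, hU, hwU, hUV⟩ := exists_isAffineOpen_mem_and_subset (X := Y)
      (U := ⟨g '' (W₁ : Set Y'), hg _ W₁.2⟩) (show g w ∈ g '' (W₁ : Set Y') from ⟨w, hw, rfl⟩)
    let Ω : Y'.Opens := W₁ ⊓ g ⁻¹ᵁ U
    have hcov : (U : Set Y) ⊆ ⋃ O : {O : Y'.Opens // IsCompact (O : Set Y') ∧ O ≤ Ω}, g '' (O.1 : Set Y') := by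
      intro u hu
      obtain ⟨w', hw', rfl⟩ := hUV hu
      obtain ⟨O, hO, hwO, hOΩ⟩ := exists_isAffineOpen_mem_and_subset (X := Y') (U := Ω) (x := w') ⟨hw', hu⟩
      exact Set.mem_iUnion.mpr ⟨⟨O, hO.isCompact, hOΩ⟩, w', hwO, rfl⟩
    obtain ⟨t, ht⟩ := hU.isCompact.elim_finite_subcover _ (fun O => hg _ O.1.2) hcov
    let O : Y'.Opens := ⨆ o ∈ t, o.1
    have hOle : O ≤ Ω := iSup₂_le fun o _ => o.2.2
    have hOc : IsCompact (O : Set Y') := by
      simp only [O, TopologicalSpace.Opens.coe_iSup]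
      exact t.isCompact_biUnion fun o _ => o.2.1
    let q : (O : Scheme.{u}) ⟶ U := g.resLE U O (hOle.trans inf_le_right)
    have hq : q ≫ U.ι = O.ι ≫ g := Scheme.Hom.resLE_comp_ι _ _
    have : IsAffine (U : Scheme.{u}) := hU
    have : CompactSpace (O : Scheme.{u}) := isCompact_iff_compactSpace.mp hOc
    have hsurj : Surjective q := ⟨fun v => by
      obtain ⟨o, ho, y, hy, hgy⟩ : ∃ o ∈ t, ∃ y ∈ (o.1 : Set Y'), g y = v.1 := by
        simpa using ht v.2
      refine ⟨⟨y, TopologicalSpace.Opens.mem_iSup.mpr ⟨o, TopologicalSpace.Opens.mem_iSup.mpr ⟨ho, hy⟩⟩⟩, ?_⟩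
      refine U.ι.injective ?_
      rw [← Scheme.Hom.comp_apply, hq]
      exact hgy⟩
    have : Flat q := inferInstanceAs (Flat (g.resLE U O (hOle.trans inf_le_right)))
    have hqc : QuasiCompact q := (quasiCompact_iff_compactSpace q).mpr inferInstance
    have h1 : P (pullback.snd (f ∣_ U) q) := by
      have sq1 : IsPullback (pullback.fst (f ∣_ U) q ≫ (f ⁻¹ᵁ U).ι) (pullback.snd (f ∣_ U) q) f (O.ι ≫ g) := by
        rw [← hq]
        exact (IsPullback.of_hasPullback (f ∣_ U) q).paste_horiz (isPullback_morphismRestrict f U).flip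
      let l := pullback.lift (pullback.fst (f ∣_ U) q ≫ (f ⁻¹ᵁ U).ι) (pullback.snd (f ∣_ U) q ≫ O.ι) (by
        rw [sq1.w, Category.assoc])
      have sq2 : IsPullback l (pullback.snd (f ∣_ U) q) (pullback.snd f g) O.ι :=
        IsPullback.of_right (by rw [pullback.lift_fst]; exact sq1) (pullback.lift_snd _ _ _)
          (IsPullback.of_hasPullback f g)
      have hle : O ≤ W₁ := hOle.trans inf_le_left
      have hι : Y'.homOfLE hle ≫ W₁.ι = O.ι := Scheme.homOfLE_ι _ _
      let l' := (isPullback_morphismRestrict (pullback.snd f g) W₁).flip.lift l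
        (pullback.snd (f ∣_ U) q ≫ Y'.homOfLE hle) (by rw [Category.assoc, hι]; exact sq2.w)
      refine MorphismProperty.of_isPullback (P := P) (IsPullback.of_right (h₁₁ := l')
        (h₁₂ := (pullback.snd f g ⁻¹ᵁ W₁).ι) (h₂₁ := Y'.homOfLE hle) ?_ ?_
        (isPullback_morphismRestrict (pullback.snd f g) W₁).flip) hW₁
      · rw [IsPullback.lift_fst, hι]; exact sq2
      · exact IsPullback.lift_snd _ _ _ _
    have hfst : P (f ∣_ U) := MorphismProperty.of_pullback_snd_of_descendsAlong (P := P)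
      (Q := @Flat ⊓ @Surjective ⊓ @QuasiCompact) (g := q) ⟨⟨inferInstance, hsurj⟩, hqc⟩ h1
    exact hmax U hfst hwU
  · have sq1 : IsPullback ((pullback.snd f g ⁻¹ᵁ (g ⁻¹ᵁ W)).ι ≫ pullback.fst f g) (pullback.snd f g ∣_ g ⁻¹ᵁ W) f
        ((g ∣_ W) ≫ W.ι) := by
      rw [morphismRestrict_ι]
      exact (isPullback_morphismRestrict (pullback.snd f g) (g ⁻¹ᵁ W)).flip.paste_horiz (IsPullback.of_hasPullback f g)
    let l := (isPullback_morphismRestrict f W).flip.lift ((pullback.snd f g ⁻¹ᵁ (g ⁻¹ᵁ W)).ι ≫ pullback.fst f g)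
      ((pullback.snd f g ∣_ g ⁻¹ᵁ W) ≫ (g ∣_ W)) (by rw [sq1.w, Category.assoc])
    refine MorphismProperty.of_isPullback (P := P) (IsPullback.of_right (h₁₁ := l) (h₁₂ := (f ⁻¹ᵁ W).ι) (h₂₁ := g ∣_ W) ?_ ?_
      (isPullback_morphismRestrict f W).flip) hW
    · rw [IsPullback.lift_fst]; exact sq1
    · exact IsPullback.lift_snd _ _ _ _

end Groth.Agent.S5390
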