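import Groth.Statements.S5389
import Groth.Agent.S5390
import Mathlib
-- import your own Groth.Agent.* helpers here

set_option autoImplicit false
universe u
open CategoryTheory CategoryTheory.Limits MonoidalCategory CartesianMonoidalCategory MonObj GrpObj AlgebraicGeometry
open SGA3

namespace Groth.Agent.S5389

open CategoryTheory CategoryTheory.Limits AlgebraicGeometry

theorem exists_maxOpen (P : MorphismProperty Scheme.{u}) [IsZariskiLocalAtTarget P] {X Y : Scheme.{u}} (f : X ⟶ Y) :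
    ∃ W : Y.Opens, P (f ∣_ W) ∧ ∀ W₀ : Y.Opens, P (f ∣_ W₀) → W₀ ≤ W := by
  let W : Y.Opens := ⨆ W₀ : {W₀ : Y.Opens // P (f ∣_ W₀)}, W₀.1
  have hle : ∀ W₀ : {W₀ : Y.Opens // P (f ∣_ W₀)}, W₀.1 ≤ W := fun W₀ =>
    le_iSup (fun W₀ : {W₀ : Y.Opens // P (f ∣_ W₀)} => W₀.1) W₀
  refine ⟨W, (IsZariskiLocalAtTarget.iff_of_iSup_eq_top
    (fun W₀ : {W₀ : Y.Opens // P (f ∣_ W₀)} => W.ι ⁻¹ᵁ W₀.1) ?_).mpr fun W₀ => ?_, fun W₀ h => hle ⟨W₀, h⟩⟩
  · rw [← Scheme.Hom.preimage_iSup]
    exact W.ι_preimage_self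
  · refine ((P.arrow_mk_iso_iff (morphismRestrictRestrict f W _)).trans
      (P.arrow_mk_iso_iff (morphismRestrictEq f ?_))).mpr W₀.2
    rw [W.ι.image_preimage_eq_opensRange_inf, Scheme.Opens.opensRange_ι, inf_eq_right.mpr (hle W₀)]

theorem preimage_maxOpen_eq (P : MorphismProperty Scheme.{u}) [P.RespectsIso] {A B : Scheme.{u}} (v : A ⟶ B)
    (a : A ≅ A) (b : B ≅ B) (h : a.hom ≫ v = v ≫ b.hom) (W : B.Opens) (hW : P (v ∣_ W))
    (hmax : ∀ W₀ : B.Opens, P (v ∣_ W₀) → W₀ ≤ W) : b.hom ⁻¹ᵁ W = W := by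
  have aux : ∀ (a : A ≅ A) (b : B ≅ B), a.hom ≫ v = v ≫ b.hom → b.hom ⁻¹ᵁ W ≤ W := by
    intro a b h
    refine hmax _ ?_
    have e : P ((v ≫ b.hom) ∣_ W) := by
      rw [← h, morphismRestrict_comp]
      haveI : IsIso (a.hom ∣_ v ⁻¹ᵁ W) :=
        IsZariskiLocalAtTarget.restrict (P := MorphismProperty.isomorphisms Scheme) (inferInstanceAs (IsIso a.hom)) _
      exact MorphismProperty.RespectsLeft.precomp (P := P) (Q := MorphismProperty.isomorphisms Scheme) _ this _ hW
    rw [morphismRestrict_comp] at e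
    haveI : IsIso (b.hom ∣_ W) :=
      IsZariskiLocalAtTarget.restrict (P := MorphismProperty.isomorphisms Scheme) (inferInstanceAs (IsIso b.hom)) _
    exact (P.cancel_right_of_respectsIso _ _).mp e
  refine le_antisymm (aux a b h) ?_
  have h2 := aux a.symm b.symm (by rw [Iso.symm_hom, Iso.symm_hom, Iso.inv_comp_eq, ← Category.assoc, h, Category.assoc, b.hom_inv_id, Category.comp_id])
  intro y hy
  have : b.hom y ∈ b.inv ⁻¹ᵁ W := by
    show b.inv (b.hom y) ∈ W
    rw [← Scheme.Hom.comp_apply, b.hom_inv_id]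
    exact hy
  exact h2 this

/-- Let P be a property of morphisms of schemes which is local on the target for the fpqc topology
(stable under base change, Zariski-local on the target, and descending along flat surjective
quasi-compact morphisms). Let u : G → H be a homomorphism of S-group schemes with G flat and
universally open over S, W the largest open subscheme of H over which the restriction of u has P,
and V = u⁻¹(W). Then the image U of V in S is open and V is an open subgroup scheme of G over U: V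
contains the unit point of every fibre of G that it meets, V is stable under the inversion of G, and
the product of a point of G ×_S G whose two projections lie in V lies in V. -/
theorem result (P : MorphismProperty Scheme.{u}) [P.IsStableUnderBaseChange] [IsZariskiLocalAtTarget P]
    [P.DescendsAlong (@Flat ⊓ @Surjective ⊓ @QuasiCompact)]
    (S : Scheme.{u}) (G H : Over S) [GrpObj G] [GrpObj H] (u : G ⟶ H) [IsMonHom u] [Flat G.hom] [UniversallyOpen G.hom]
    (W : H.left.Opens) (hW : P (u.left ∣_ W)) (hmax : ∀ W' : H.left.Opens, P (u.left ∣_ W') → W' ≤ W) :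
    letI V : G.left.Opens := u.left ⁻¹ᵁ W
    IsOpen (G.hom.base '' (V : Set G.left)) ∧
    (∀ g ∈ V, ∀ p : ↥(𝟙_ (Over S)).left, (𝟙_ (Over S)).hom.base p = G.hom.base g → η[G].left.base p ∈ V) ∧
    (∀ g ∈ V, ι[G].left.base g ∈ V) ∧
    (∀ z : ↥(G ⊗ G).left, (fst G G).left.base z ∈ V → (snd G G).left.base z ∈ V → μ[G].left.base z ∈ V) := by
    let v := (u ▷ G).left
    let g₀ : (H ⊗ G).left ⟶ H.left := (fst H G).left
    have sqH : IsPullback (fst H G).left (snd H G).left H.hom G.hom := IsPullback.of_hasPullback H.hom G.hom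
    have sqG : IsPullback (fst G G).left (snd G G).left G.hom G.hom := IsPullback.of_hasPullback G.hom G.hom
    have sq : IsPullback (fst G G).left v u.left g₀ := by
      refine IsPullback.of_bot ?_ ?_ sqH
      · rw [Over.w u, show v ≫ (snd H G).left = (snd G G).left from by rw [← Over.comp_left, whiskerRight_snd]]
        exact sqG
      · rw [← Over.comp_left, ← Over.comp_left, whiskerRight_fst]
    haveI : Flat g₀ := MorphismProperty.of_isPullback (P := @Flat) sqH.flip inferInstance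
    haveI : UniversallyOpen g₀ := MorphismProperty.of_isPullback (P := @UniversallyOpen) sqH.flip inferInstance
    let e := sq.isoPullback
    have he : v = e.hom ≫ pullback.snd u.left g₀ := sq.isoPullback_hom_snd.symm
    let v' := pullback.snd u.left g₀
    have hP : ∀ W' : (H ⊗ G).left.Opens, P (v ∣_ W') ↔ P (v' ∣_ W') := fun W' => by
      rw [he, morphismRestrict_comp]
      haveI : IsIso (e.hom ∣_ pullback.snd u.left g₀ ⁻¹ᵁ W') :=
        IsZariskiLocalAtTarget.restrict (P := MorphismProperty.isomorphisms Scheme) (inferInstanceAs (IsIso e.hom)) _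
      exact @MorphismProperty.cancel_left_of_respectsIso _ _ P _ _ _ _ _ _ this
    obtain ⟨W₁, hW₁, hmax₁⟩ : ∃ W₁, P (v' ∣_ W₁) ∧ ∀ W₀, P (v' ∣_ W₀) → W₀ ≤ W₁ :=
      exists_maxOpen P v'
    have hW₁e : W₁ = g₀ ⁻¹ᵁ W :=
      Groth.Agent.S5390.result P G.left H.left (H ⊗ G).left u.left g₀ g₀.isOpenMap W hW hmax W₁ hW₁ hmax₁
    let φ : H ⊗ G ≅ H ⊗ G :=
      { hom := lift (fst H G * (snd H G ≫ u)) (snd H G)
        inv := lift (fst H G * (snd H G ≫ u)⁻¹) (snd H G)
        hom_inv_id := by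
          apply CartesianMonoidalCategory.hom_ext <;>
            simp [MonObj.comp_mul, GrpObj.comp_inv]
        inv_hom_id := by
          apply CartesianMonoidalCategory.hom_ext <;>
            simp [MonObj.comp_mul, GrpObj.comp_inv] }
    let ψ : G ⊗ G ≅ G ⊗ G :=
      { hom := lift (fst G G * snd G G) (snd G G)
        inv := lift (fst G G * (snd G G)⁻¹) (snd G G)
        hom_inv_id := by
          apply CartesianMonoidalCategory.hom_ext <;>
            simp [MonObj.comp_mul, GrpObj.comp_inv]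
        inv_hom_id := by
          apply CartesianMonoidalCategory.hom_ext <;>
            simp [MonObj.comp_mul, GrpObj.comp_inv] }
    have comm : ψ.hom ≫ (u ▷ G) = (u ▷ G) ≫ φ.hom := by
      apply CartesianMonoidalCategory.hom_ext <;> simp [φ, ψ, MonObj.comp_mul, MonObj.mul_comp]
    have hinv : φ.hom.left ⁻¹ᵁ (g₀ ⁻¹ᵁ W) = g₀ ⁻¹ᵁ W := by
      rw [← hW₁e]
      refine preimage_maxOpen_eq P v ((Over.forget S).mapIso ψ) ((Over.forget S).mapIso φ)
        (congrArg CommaMorphism.left comm) W₁ ((hP _).mpr hW₁) (fun W₀ h => hmax₁ _ ((hP _).mp h))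
    let t : G ⊗ G ⟶ G := fst G G * snd G G
    have key : ∀ z : (G ⊗ G).left, (fst G G).left z ∈ u.left ⁻¹ᵁ W ↔ t.left z ∈ u.left ⁻¹ᵁ W := fun z => by
      have h1 : g₀ (v z) = u.left ((fst G G).left z) := congr($(sq.w.symm) z)
      have h2 : ((u ▷ G) ≫ φ.hom ≫ fst H G) = t ≫ u := by
        rw [← Category.assoc, ← comm]
        simp [ψ, t]
      have h3 : g₀ (φ.hom.left (v z)) = u.left (t.left z) := congr($(congrArg CommaMorphism.left h2) z)
      have h4 : v z ∈ g₀ ⁻¹ᵁ W ↔ v z ∈ φ.hom.left ⁻¹ᵁ (g₀ ⁻¹ᵁ W) := by rw [hinv]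
      show u.left ((fst G G).left z) ∈ W ↔ u.left (t.left z) ∈ W
      rw [← h1, ← h3]
      exact h4
    have hone : ∀ g : G.left, (1 : G ⟶ G).left g ∈ u.left ⁻¹ᵁ W ↔ g ∈ u.left ⁻¹ᵁ W := fun g => by
      have h := key ((lift (1 : G ⟶ G) (𝟙 G)).left g)
      have e1 : lift (1 : G ⟶ G) (𝟙 G) ≫ fst G G = 1 := lift_fst _ _
      have e2 : lift (1 : G ⟶ G) (𝟙 G) ≫ t = 𝟙 G := by simp [t, MonObj.comp_mul]
      rw [← Scheme.Hom.comp_apply, ← Over.comp_left, e1, ← Scheme.Hom.comp_apply, ← Over.comp_left, e2] at h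
      exact h
    refine ⟨G.hom.isOpenMap _ (u.left ⁻¹ᵁ W).2, fun g hg p hp => ?_, fun g hg => ?_, fun z h1 _ => ?_⟩
    · have hp2 : (toUnit G).left g = p := (congr($(Over.w (toUnit G)) g)).trans hp.symm
      have h := (hone g).mpr hg
      rw [show (1 : G ⟶ G) = toUnit G ≫ η[G] from rfl, Over.comp_left, Scheme.Hom.comp_apply] at h
      exact hp2 ▸ h
    · have h := key ((lift (ι[G]) (𝟙 G)).left g)
      have e1 : lift (ι[G]) (𝟙 G) ≫ fst G G = ι[G] := lift_fst _ _
      have e2 : lift (ι[G]) (𝟙 G) ≫ t = 1 := by simp [t, MonObj.comp_mul, GrpObj.inv_eq_inv]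
      rw [← Scheme.Hom.comp_apply, ← Over.comp_left, e1, ← Scheme.Hom.comp_apply, ← Over.comp_left, e2] at h
      exact h.mpr ((hone g).mpr hg)
    · have e : μ[G] = t := by simp [t, MonObj.mul_eq_mul]
      rw [e]
      exact (key z).mp h1

end Groth.Agent.S5389
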