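import Groth.Statements.S5392
import Groth.Agent.SubgroupWeil.Apps

set_option autoImplicit false
universe u
open CategoryTheory CategoryTheory.Limits MonoidalCategory CartesianMonoidalCategory MonObj GrpObj AlgebraicGeometry
open SGA3

namespace Groth.Agent.S5392

/-- Let X be an S-group scheme which is smooth and of finite presentation over S with connected fibres,
Y an S-group scheme of finite presentation over S and i : Y → X a homomorphism which is a
monomorphism. Then there is a closed immersion t : T → S, locally of finite presentation, such that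
a morphism g : S' → S factors through t exactly when the base change of i along g is an isomorphism. -/
theorem result (S : Scheme.{u}) (X Y : Over S) [GrpObj X] [GrpObj Y]
    [Smooth X.hom] [QuasiCompact X.hom] [QuasiSeparated X.hom]
    (hconn : ∀ s : S, _root_.IsConnected (X.hom.base ⁻¹' {s}))
    [LocallyOfFinitePresentation Y.hom] [QuasiCompact Y.hom] [QuasiSeparated Y.hom]
    (i : Y ⟶ X) [IsMonHom i] [Mono i] :
    ∃ (T : Scheme.{u}) (t : T ⟶ S), IsClosedImmersion t ∧ LocallyOfFinitePresentation t ∧
      ∀ (S' : Scheme.{u}) (g : S' ⟶ S),
        (∃ g' : S' ⟶ T, g' ≫ t = g) ↔ IsIso ((Over.pullback g).map i) := by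
  haveI := SubgroupWeil.geometricallyConnected_of_isConnected X hconn
  haveI : Mono i.left := inferInstanceAs (Mono ((Over.forget S).map i))
  haveI : QuasiCompact i.left := MorphismProperty.of_postcomp (W := @QuasiCompact) (W' := @QuasiSeparated) i.left X.hom
    inferInstance (by rw [Over.w i]; infer_instance)
  haveI : LocallyOfFinitePresentation i.left :=
    FibrewiseCrit.locallyOfFinitePresentation_of_comp i.left X.hom (by rw [Over.w i]; infer_instance) inferInstance
  obtain ⟨T, t, ht, hfp, hT⟩ := SubgroupWeil.exists_closed_full_subgroup i η[Y] (IsMonHom.one_hom i)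
    (fun T a b => ⟨a * b, by rw [MonObj.mul_comp]⟩)
  refine ⟨T, t, ht, hfp, fun S' g => (hT g).trans ?_⟩
  let iv := ((Over.pullback g).map i).left
  have hiv1 : iv ≫ Limits.pullback.fst X.hom g = Limits.pullback.fst Y.hom g ≫ i.left := by
    show pullback.lift _ _ _ ≫ _ = _
    rw [pullback.lift_fst]
  have hiv2 : iv ≫ Limits.pullback.snd X.hom g = Limits.pullback.snd Y.hom g := by
    show pullback.lift _ _ _ ≫ _ = _
    rw [pullback.lift_snd]
  constructor
  · rintro ⟨l, hl⟩
    have hmono : Mono iv := ⟨fun a b h => by
      apply Limits.pullback.hom_ext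
      · rw [← cancel_mono i.left, Category.assoc, Category.assoc, ← hiv1, reassoc_of% h]
      · rw [← hiv2, reassoc_of% h]⟩
    let inv' : (Limits.pullback X.hom g) ⟶ Limits.pullback Y.hom g :=
      Limits.pullback.lift l (Limits.pullback.snd _ _) (by rw [← Limits.pullback.condition, ← Over.w i, reassoc_of% hl])
    have h2 : inv' ≫ iv = 𝟙 _ := by
      apply Limits.pullback.hom_ext
      · simp only [Category.assoc]
        rw [hiv1, Limits.pullback.lift_fst_assoc, hl]
        exact (Category.id_comp _).symm
      · simp only [Category.assoc]
        rw [hiv2, Limits.pullback.lift_snd]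
        exact (Category.id_comp _).symm
    have h1 : iv ≫ inv' = 𝟙 _ := by
      rw [← cancel_mono iv, Category.assoc, h2]
      exact (Category.comp_id _).trans (Category.id_comp _).symm
    have : IsIso ((Over.forget S').map ((Over.pullback g).map i)) := ⟨inv', h1, h2⟩
    exact isIso_of_reflects_iso _ (Over.forget S')
  · intro h
    have : IsIso iv := inferInstanceAs (IsIso ((Over.forget S').map ((Over.pullback g).map i)))
    exact ⟨inv iv ≫ Limits.pullback.fst Y.hom g, by rw [Category.assoc, ← hiv1, IsIso.inv_hom_id_assoc]⟩

end Groth.Agent.S5392
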