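import Groth.Statements.S5395

-- import your own Groth.Agent.* helpers here

set_option autoImplicit false
set_option linter.style.haveILetI false
universe u
open CategoryTheory CategoryTheory.Limits MonoidalCategory CartesianMonoidalCategory MonObj GrpObj AlgebraicGeometry
open SGA3

namespace Groth.Agent.S5395

/-- Let k be an algebraically closed field, G a group scheme locally of finite type over k, and A, B two
ind-constructible subsets of G. Let A·B be the image under the multiplication of the set of points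
of G ×_k G whose two projections lie in A and B. Then every closed point z of G lying in A·B is the
product of a closed point of G ×_k G whose two projections lie in A and B (and are then closed
points): the rational points of A·B are the products of rational points of A and of B. -/
theorem result (k : Type u) [Field k] [IsAlgClosed k] (G : Over (Spec (CommRingCat.of k))) [GrpObj G]
    [LocallyOfFiniteType G.hom] (A B : Set G.left) (hA : ProCons.IsIndConstructible A) (hB : ProCons.IsIndConstructible B)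
    (z : G.left) (hz : IsClosed ({z} : Set G.left))
    (hzAB : z ∈ μ[G].left.base '' {w : ↥(G ⊗ G).left | (fst G G).left.base w ∈ A ∧ (snd G G).left.base w ∈ B}) :
    ∃ w : ↥(G ⊗ G).left, IsClosed ({w} : Set ↥(G ⊗ G).left) ∧ (fst G G).left.base w ∈ A ∧ (snd G G).left.base w ∈ B ∧
      μ[G].left.base w = z := by
  have hcons : ∀ {α : Type u} [TopologicalSpace α] (s : Set α), Topology.IsConstructible s →
      (∀ x ∈ s, ∃ L : Set α, IsLocallyClosed L ∧ x ∈ L ∧ L ⊆ s) ∧
      (∀ x ∈ sᶜ, ∃ L : Set α, IsLocallyClosed L ∧ x ∈ L ∧ L ⊆ sᶜ) := by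
    intro α _ s hs
    induction hs using Topology.IsConstructible.empty_union_induction with
    | open_retrocompact U hU _ =>
      exact ⟨fun x hx => ⟨U, hU.isLocallyClosed, hx, subset_rfl⟩,
        fun x hx => ⟨Uᶜ, hU.isClosed_compl.isLocallyClosed, hx, subset_rfl⟩⟩
    | union s _ t _ hs ht =>
      refine ⟨fun x hx => ?_, fun x hx => ?_⟩
      · rcases hx with hx | hx
        · obtain ⟨L, h1, h2, h3⟩ := hs.1 x hx
          exact ⟨L, h1, h2, h3.trans Set.subset_union_left⟩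
        · obtain ⟨L, h1, h2, h3⟩ := ht.1 x hx
          exact ⟨L, h1, h2, h3.trans Set.subset_union_right⟩
      · obtain ⟨L, h1, h2, h3⟩ := hs.2 x fun h => hx (Or.inl h)
        obtain ⟨L', h1', h2', h3'⟩ := ht.2 x fun h => hx (Or.inr h)
        exact ⟨L ∩ L', h1.inter h1', ⟨h2, h2'⟩, fun y hy h => h.elim (h3 hy.1) (h3' hy.2)⟩
    | compl s _ hs => exact ⟨hs.2, by rw [compl_compl]; exact hs.1⟩
  have hlc : ∀ (E : Set G.left), ProCons.IsIndConstructible E → ∀ a ∈ E,
      ∃ L : Set G.left, IsLocallyClosed L ∧ a ∈ L ∧ L ⊆ E := by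
    intro E hE a ha
    obtain ⟨U, hU, haU, 𝒯, h𝒯, hEU⟩ := hE a
    obtain ⟨T, hT, haT⟩ : (⟨a, haU⟩ : U) ∈ ⋃₀ 𝒯 := hEU ▸ ha
    obtain ⟨V, hV, hVo, hTV⟩ := h𝒯 T hT ⟨a, haU⟩
    obtain ⟨L, hL, haL, hLT⟩ := (hcons _ hTV).1 ⟨⟨a, haU⟩, mem_of_mem_nhds hV⟩ haT
    refine ⟨Subtype.val '' (Subtype.val '' L), ?_, ⟨_, ⟨_, haL, rfl⟩, rfl⟩, ?_⟩
    · refine (hL.image Topology.IsInducing.subtypeVal ?_).image Topology.IsInducing.subtypeVal ?_
      · rw [Subtype.range_coe]; exact hVo.isLocallyClosed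
      · rw [Subtype.range_coe]; exact hU.isLocallyClosed
    · rintro _ ⟨_, ⟨l, hl, rfl⟩, rfl⟩
      have h1 : (l : U) ∈ ⋃₀ 𝒯 := ⟨T, hT, hLT hl⟩
      rwa [← hEU] at h1
  obtain ⟨w, ⟨hwA, hwB⟩, hwz⟩ := hzAB
  obtain ⟨LA, hLA, hwLA, hLAA⟩ := hlc A hA _ hwA
  obtain ⟨LB, hLB, hwLB, hLBB⟩ := hlc B hB _ hwB
  haveI : LocallyOfFiniteType (G ⊗ G).hom := by
    show LocallyOfFiniteType (pullback.fst G.hom G.hom ≫ G.hom)
    infer_instance
  haveI : JacobsonSpace ↥(G ⊗ G).left := LocallyOfFiniteType.jacobsonSpace (G ⊗ G).hom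
  have hL : IsLocallyClosed ((fst G G).left.base ⁻¹' LA ∩ (snd G G).left.base ⁻¹' LB ∩ μ[G].left.base ⁻¹' {z}) :=
    ((hLA.preimage (fst G G).left.continuous).inter (hLB.preimage (snd G G).left.continuous)).inter
      ((hz.preimage μ[G].left.continuous).isLocallyClosed)
  obtain ⟨v, ⟨⟨hvA, hvB⟩, hvz⟩, hvc⟩ := nonempty_inter_closedPoints (show Set.Nonempty ((fst G G).left.base ⁻¹' LA ∩ (snd G G).left.base ⁻¹' LB ∩ μ[G].left.base ⁻¹' {z}) from ⟨w, ⟨hwLA, hwLB⟩, hwz⟩) hL
  exact ⟨v, hvc, hLAA hvA, hLBB hvB, hvz⟩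

end Groth.Agent.S5395
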