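import Groth.Statements.S5396
import Mathlib
import Groth.Agent.MLMod.Descent
-- import your own Groth.Agent.* helpers here

set_option autoImplicit false
universe u
open CategoryTheory CategoryTheory.Limits MonoidalCategory CartesianMonoidalCategory MonObj GrpObj AlgebraicGeometry
open SGA3

namespace Groth.Agent.S5396

open scoped TensorProduct

variable {A : Type u} [CommRing A] {C : Type u} [AddCommGroup C] [Module A C] {V : Type u} [AddCommGroup V] [Module A V]

/-- Contraction of the second factor. -/
noncomputable def φ (f : C →ₗ[A] A) : V ⊗[A] C →ₗ[A] V :=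
  (TensorProduct.rid A V).toLinearMap ∘ₗ f.lTensor V

lemma φ_tmul (f : C →ₗ[A] A) (v : V) (c : C) : φ f (v ⊗ₜ[A] c) = f c • v := by simp [φ]

lemma φ_rTensor (f : C →ₗ[A] A) (W : Submodule A V) (x : W ⊗[A] C) :
    φ f (W.subtype.rTensor C x) ∈ W := by
  induction x using TensorProduct.induction_on with
  | zero => simp
  | tmul w c => rw [LinearMap.rTensor_tmul, φ_tmul]; exact W.smul_mem _ w.2
  | add a b ha hb => rw [map_add, map_add]; exact W.add_mem ha hb

/-- Finite expansion of a tensor when `C` is projective. -/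
lemma expand [Module.Projective A C] (x : V ⊗[A] C) :
    ∃ (s : Finset C) (f : C → (C →ₗ[A] A)), x = ∑ c ∈ s, φ (f c) x ⊗ₜ[A] c := by
  classical
  obtain ⟨sec, hsec⟩ := Module.projective_def'.1 (inferInstance : Module.Projective A C)
  let e := TensorProduct.finsuppScalarRight A A V C
  refine ⟨(e (sec.lTensor V x)).support, fun c => Finsupp.lapply c ∘ₗ sec, ?_⟩
  have h1 : ∀ c, φ (Finsupp.lapply c ∘ₗ sec) x = e (sec.lTensor V x) c := by
    intro c
    induction x using TensorProduct.induction_on with
    | zero => simp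
    | tmul v d => rw [φ_tmul, LinearMap.lTensor_tmul, TensorProduct.finsuppScalarRight_apply_tmul_apply]; rfl
    | add a b ha hb => simp [map_add, ha, hb]
  have h2 : ∀ y : V ⊗[A] (C →₀ A), (Finsupp.linearCombination A id).lTensor V y =
      Finsupp.lsum A (fun c => (TensorProduct.mk A V C).flip c) (e y) := by
    intro y
    have : (Finsupp.linearCombination A (id : C → C)).lTensor V =
        Finsupp.lsum A (fun c => (TensorProduct.mk A V C).flip c) ∘ₗ e.toLinearMap := by
      ext v c
      simp [e, TensorProduct.finsuppScalarRight_apply_tmul]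
    exact LinearMap.congr_fun this y
  simp only [h1]
  have h3 := h2 (sec.lTensor V x)
  rw [← LinearMap.comp_apply, ← LinearMap.lTensor_comp, hsec, LinearMap.lTensor_id] at h3
  conv_lhs => rw [show x = _ from h3]
  rw [Finsupp.lsum_apply]
  rfl

lemma mem_range_iff [Module.Projective A C] (W : Submodule A V) (x : V ⊗[A] C) :
    x ∈ LinearMap.range (W.subtype.rTensor C) ↔ ∀ f : C →ₗ[A] A, φ f x ∈ W := by
  refine ⟨fun ⟨y, hy⟩ f => hy ▸ φ_rTensor f W y, fun h => ?_⟩
  obtain ⟨s, f, hx⟩ := expand x
  rw [hx]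
  exact Submodule.sum_mem _ fun c _ => ⟨⟨_, h (f c)⟩ ⊗ₜ c, rfl⟩

lemma coassoc_φ [Coalgebra A C] [HopfRep.Comod A C V] (f g : C →ₗ[A] A) (m : V) :
    φ g (HopfRep.Comod.coact (k := A) (A := C) (φ f (HopfRep.Comod.coact (k := A) (A := C) m))) =
      φ (LinearMap.mul' A A ∘ₗ TensorProduct.map g f ∘ₗ CoalgebraStruct.comul)
        (HopfRep.Comod.coact (k := A) (A := C) m) := by
  let ρ : V →ₗ[A] V ⊗[A] C := HopfRep.Comod.coact (k := A) (A := C)
  let Ψ : (V ⊗[A] C) ⊗[A] C →ₗ[A] V :=
    (TensorProduct.rid A V).toLinearMap ∘ₗ TensorProduct.map (φ g) f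
  have e1 : φ g ∘ₗ ρ ∘ₗ φ f = Ψ ∘ₗ ρ.rTensor C := by
    ext v c; simp [Ψ, φ]
  have e2 : Ψ ∘ₗ (TensorProduct.assoc A V C C).symm.toLinearMap = φ (LinearMap.mul' A A ∘ₗ TensorProduct.map g f) ∘ₗ LinearMap.id := by
    ext v c d; simp [Ψ, φ, smul_smul, mul_comm]
  have e3 : ∀ z : V ⊗[A] C, φ (LinearMap.mul' A A ∘ₗ TensorProduct.map g f ∘ₗ CoalgebraStruct.comul) z =
      φ (LinearMap.mul' A A ∘ₗ TensorProduct.map g f) ((CoalgebraStruct.comul (R := A) (A := C)).lTensor V z) := by
    intro z
    simp [φ, ← LinearMap.lTensor_comp_apply, LinearMap.comp_assoc]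
  have h := LinearMap.congr_fun (HopfRep.Comod.coassoc (k := A) (A := C) (V := V)) m
  have h1 := LinearMap.congr_fun e1 (ρ m)
  simp only [LinearMap.comp_apply] at h1 h
  rw [e3, ← h]
  refine h1.trans ?_
  have h2 := LinearMap.congr_fun e2 ((TensorProduct.assoc A V C C) (ρ.rTensor C (ρ m)))
  simpa using h2

/-- Let A be a commutative ring, C an A-coalgebra, V a C-comodule, M an A-submodule of V, and A' a
faithfully flat commutative A-algebra such that A' ⊗_A C is a projective A'-module. Then there is a
smallest subcomodule of V containing M, and it is finitely generated over A when M is. (The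
published statement also asserts that the formation of this subcomodule commutes with base change;
this row omits it.) -/
theorem result (A : Type u) [CommRing A] (C : Type u) [AddCommGroup C] [Module A C]
    [Coalgebra A C] (V : Type u) [AddCommGroup V] [Module A V] [HopfRep.Comod A C V] (M : Submodule A V)
    (A' : Type u) [CommRing A'] [Algebra A A'] [Module.FaithfullyFlat A A'] [Module.Projective A' (TensorProduct A A' C)] :
    ∃ W : Submodule A V, HopfRep.IsSubcomod (k := A) (A := C) W ∧ M ≤ W ∧
      (∀ W' : Submodule A V, HopfRep.IsSubcomod (k := A) (A := C) W' → M ≤ W' → W ≤ W') ∧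
      (M.FG → W.FG) := by
  classical
  haveI : Module.Projective A C := Groth.MLMod.projective_descent (S := A')
  let ρ : V →ₗ[A] V ⊗[A] C := HopfRep.Comod.coact (k := A) (A := C)
  refine ⟨Submodule.span A {w | ∃ (f : C →ₗ[A] A) (m : V), m ∈ M ∧ φ f (ρ m) = w}, ?_, ?_, ?_, ?_⟩
  · intro w hw
    rw [mem_range_iff]
    intro g
    refine Submodule.span_induction (p := fun v _ => φ g (ρ v) ∈ Submodule.span A _) ?_ (by simp)
      (fun a b _ _ ha hb => by rw [map_add, map_add]; exact add_mem ha hb)
      (fun r a _ ha => by rw [map_smul, map_smul]; exact Submodule.smul_mem _ _ ha) hw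
    rintro _ ⟨f, m, hm, rfl⟩
    exact Submodule.subset_span ⟨_, m, hm, (coassoc_φ f g m).symm⟩
  · intro m hm
    refine Submodule.subset_span ⟨CoalgebraStruct.counit, m, hm, ?_⟩
    have := LinearMap.congr_fun (HopfRep.Comod.counit_comp (k := A) (A := C) (V := V)) m
    simp only [LinearMap.comp_apply] at this
    simp [φ, ρ, this]
  · intro W' hW' hMW'
    rw [Submodule.span_le]
    rintro _ ⟨f, m, hm, rfl⟩
    exact (mem_range_iff W' (ρ m)).1 (hW' m (hMW' hm)) f
  · rintro ⟨gs, hgs⟩
    choose s f hf using fun m : V => expand (ρ m)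
    refine ⟨gs.biUnion fun m => (s m).image fun c => φ (f m c) (ρ m), le_antisymm ?_ ?_⟩
    · rw [Submodule.span_le]
      intro w hw
      simp only [Finset.coe_biUnion, Finset.coe_image, Set.mem_iUnion, Set.mem_image] at hw
      obtain ⟨m, hm, c, -, rfl⟩ := hw
      exact Submodule.subset_span ⟨_, m, hgs ▸ Submodule.subset_span hm, rfl⟩
    · rw [Submodule.span_le]
      rintro _ ⟨g, m, hm, rfl⟩
      rw [← hgs] at hm
      refine Submodule.span_induction (p := fun v _ => φ g (ρ v) ∈ Submodule.span A _) ?_ (by simp)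
        (fun a b _ _ ha hb => by rw [map_add, map_add]; exact add_mem ha hb)
        (fun r a _ ha => by rw [map_smul, map_smul]; exact Submodule.smul_mem _ _ ha) hm
      intro m hm
      rw [hf m, map_sum]
      refine Submodule.sum_mem _ fun c hc => ?_
      rw [φ_tmul]
      refine Submodule.smul_mem _ _ (Submodule.subset_span ?_)
      simp only [Finset.coe_biUnion, Finset.coe_image, Set.mem_iUnion, Set.mem_image]
      exact ⟨m, hm, c, hc, rfl⟩

end Groth.Agent.S5396
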