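import Groth.Statements.S5400
import Groth.Agent.NeutralSet.Represent
import Groth.Agent.LimLib.Descend
import Groth.Agent.LimLib.BaseChange
-- import your own Groth.Agent.* helpers here

set_option autoImplicit false
set_option linter.style.haveILetI false
set_option backward.isDefEq.respectTransparency false
universe u
open Topology CategoryTheory CategoryTheory.Limits MonoidalCategory CartesianMonoidalCategory MonObj GrpObj AlgebraicGeometry
open SGA3

namespace Groth.Agent.S5400

/-- Let S be the limit of a cofiltered system (S_i) of quasi-compact quasi-separated schemes with affine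
transition morphisms, j an index and G_j an S_j-group scheme of finite presentation; put G = G_j
×_{S_j} S. Then the neutral component subfunctor of G is representable (there is a monomorphism G⁰ →
G through which a point factors exactly when its image lies in the union of the neutral components
of the fibres) if and only if there is an index i over j such that the neutral component of G_j
×_{S_j} S_i is representable. -/
theorem result {I : Type u} [SmallCategory I] [IsCofiltered I]
    (D : I ⥤ Scheme.{u}) (c : Limits.Cone D) (hc : Limits.IsLimit c)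
    [∀ (i i' : I) (f : i ⟶ i'), IsAffineHom (D.map f)] [∀ i, CompactSpace (D.obj i)] [∀ i, QuasiSeparatedSpace (D.obj i)]
    (j : I) (Gj : Over (D.obj j)) [GrpObj Gj]
    [LocallyOfFinitePresentation Gj.hom] [QuasiCompact Gj.hom] [QuasiSeparated Gj.hom] :
    (∃ (G0 : Over c.pt) (i0 : G0 ⟶ Red.bc (c.π.app j) Gj), Mono i0 ∧
      ∀ (T : Over c.pt) (g : T ⟶ Red.bc (c.π.app j) Gj), (∃ z : T ⟶ G0, z ≫ i0 = g) ↔
        Set.range g.left.base ⊆ SGA3x.neutralSet (Red.bc (c.π.app j) Gj)) ↔
    ∃ (i : I) (f : i ⟶ j) (G0 : Over (D.obj i)) (i0 : G0 ⟶ Red.bc (D.map f) Gj), Mono i0 ∧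
      ∀ (T : Over (D.obj i)) (g : T ⟶ Red.bc (D.map f) Gj), (∃ z : T ⟶ G0, z ≫ i0 = g) ↔
        Set.range g.left.base ⊆ SGA3x.neutralSet (Red.bc (D.map f) Gj) := by
  haveI : ∀ {i i' : I} (f : i ⟶ i'), IsAffineHom (D.map f) := fun f => inferInstance
  let N : Set ↥Gj.left := SGA3x.neutralSet Gj
  -- representability is openness of the preimage of the neutral set
  have hiff : ∀ (S' : Scheme.{u}) (t : S' ⟶ D.obj j),
      (∃ (G0 : Over S') (i0 : G0 ⟶ Red.bc t Gj), Mono i0 ∧
        ∀ (T : Over S') (g : T ⟶ Red.bc t Gj), (∃ z : T ⟶ G0, z ≫ i0 = g) ↔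
          Set.range g.left.base ⊆ SGA3x.neutralSet (Red.bc t Gj)) ↔
      IsOpen (pullback.snd t Gj.hom ⁻¹' N) := by
    intro S' t
    have hN : SGA3x.neutralSet (Red.bc t Gj) = pullback.fst Gj.hom t ⁻¹' N := NeutralSet.bc_eq Gj t
    have hsym : IsOpen (pullback.snd t Gj.hom ⁻¹' N) ↔ IsOpen (pullback.fst Gj.hom t ⁻¹' N) := by
      constructor
      · intro h
        have h' := h.preimage (pullbackSymmetry Gj.hom t).hom.continuous
        rwa [← Set.preimage_comp, ← TopCat.coe_comp, ← Scheme.Hom.comp_base, pullbackSymmetry_hom_comp_snd] at h'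
      · intro h
        have h' := h.preimage (pullbackSymmetry t Gj.hom).hom.continuous
        rwa [← Set.preimage_comp, ← TopCat.coe_comp, ← Scheme.Hom.comp_base, pullbackSymmetry_hom_comp_fst] at h'
    haveI : LocallyOfFinitePresentation (Red.bc t Gj).hom :=
      inferInstanceAs (LocallyOfFinitePresentation (pullback.snd Gj.hom t))
    rw [hsym, ← hN]
    constructor
    · rintro ⟨G0, i0, _, hrep⟩
      exact (NeutralSet.representable_openImmersion (Red.bc t Gj) G0 i0 hrep).1
    · intro hopen
      let O : (Red.bc t Gj).left.Opens := ⟨_, hopen⟩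
      let i0 : Over.mk (O.ι ≫ (Red.bc t Gj).hom) ⟶ Red.bc t Gj := Over.homMk O.ι rfl
      haveI : Mono i0.left := inferInstanceAs (Mono O.ι)
      refine ⟨_, i0, Over.mono_of_mono_left i0, fun T g => ⟨?_, fun hg => ?_⟩⟩
      · rintro ⟨z, rfl⟩ _ ⟨p, rfl⟩
        show (z.left ≫ O.ι) p ∈ O
        rw [Scheme.Hom.comp_apply]
        exact (z.left p).2
      · have hg' : Set.range g.left ⊆ Set.range O.ι := hg.trans O.range_ι.ge
        refine ⟨Over.homMk (IsOpenImmersion.lift O.ι g.left hg') ?_, Over.OverMorphism.ext (IsOpenImmersion.lift_fac _ _ _)⟩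
        show _ ≫ O.ι ≫ _ = _
        rw [IsOpenImmersion.lift_fac_assoc]; exact Over.w g
  rw [hiff]
  simp only [hiff]
  have hpre : ∀ {A B C : Scheme.{u}} (u : A ⟶ B) (v : B ⟶ C) (w : A ⟶ C) (Z : Set ↥C), u ≫ v = w →
      u ⁻¹' (v ⁻¹' Z) = w ⁻¹' Z := by
    intro A B C u v w Z e; subst e; rfl
  constructor
  · intro h
    haveI : QuasiSeparatedSpace ↥Gj.left := quasiSeparatedSpace_of_quasiSeparated Gj.hom
    haveI : CompactSpace ↥Gj.left := QuasiCompact.compactSpace_of_compactSpace Gj.hom
    haveI : QuasiCompact (pullback.fst (D.map (𝟙 j)) Gj.hom) := MorphismProperty.pullback_fst _ _ inferInstance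
    haveI : CompactSpace ↥((LimLib.bcDiagram D Gj.hom).obj (Over.mk (𝟙 j))) :=
      QuasiCompact.compactSpace_of_compactSpace (pullback.fst (D.map (𝟙 j)) Gj.hom)
    have hE : IsConstructible (pullback.snd (D.map (𝟙 j)) Gj.hom ⁻¹' N) := by
      haveI : QuasiCompact (pullback.snd (D.map (𝟙 j)) Gj.hom) := MorphismProperty.pullback_snd _ _ inferInstance
      exact (pullback.snd (D.map (𝟙 j)) Gj.hom).isConstructible_preimage (NeutralSet.isConstructible_qs Gj)
    obtain ⟨l, φ, hl⟩ := LimLib.exists_isOpen_descend (LimLib.isLimitBcCone Gj.hom hc)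
      (i := Over.mk (𝟙 j)) hE (by
        refine (congrArg IsOpen (hpre ((LimLib.bcCone c Gj.hom).π.app (Over.mk (𝟙 j))) (pullback.snd (D.map (𝟙 j)) Gj.hom)
          (pullback.snd (c.π.app j) Gj.hom) N ?_)).mpr h
        simp)
    refine ⟨l.left, l.hom, (congrArg IsOpen (hpre ((LimLib.bcDiagram D Gj.hom).map φ) (pullback.snd (D.map (𝟙 j)) Gj.hom)
      (pullback.snd (D.map l.hom) Gj.hom) N ?_)).mp hl⟩
    simp
  · rintro ⟨i, f, h⟩
    let m : pullback (c.π.app j) Gj.hom ⟶ pullback (D.map f) Gj.hom :=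
      pullback.map _ _ _ _ (c.π.app i) (𝟙 _) (𝟙 _) (by rw [Category.comp_id, c.w f]) (by simp)
    refine (congrArg IsOpen (hpre m (pullback.snd (D.map f) Gj.hom) (pullback.snd (c.π.app j) Gj.hom) N ?_)).mp
      (h.preimage m.continuous)
    simp [m]

end Groth.Agent.S5400
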