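import Groth.Statements.S5403
import Groth.Agent.NeutralSet.HomogConn
import Groth.Agent.NeutralSet.Torsion
-- import your own Groth.Agent.* helpers here

set_option autoImplicit false
set_option linter.style.haveILetI false
set_option backward.isDefEq.respectTransparency false
universe u
open CategoryTheory CategoryTheory.Limits MonoidalCategory CartesianMonoidalCategory MonObj GrpObj AlgebraicGeometry
open SGA3

namespace Groth.Agent.S5403

/-- Let G be a group scheme over a field k (not assumed of finite type) acting on a quasi-separated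
k-scheme X so that G ×_k X → X ×_k X, (g, x) ↦ (gx, x), is surjective, and let x be a k-rational
point of X and C the connected component of X containing x. Then the orbit morphism g ↦ g·x maps the
irreducible component of G containing the unit point (the underlying set of the neutral component
G⁰) onto C, and for every field extension K of k the inverse image of C in X ⊗_k K is irreducible. -/
theorem result (k : Type u) [Field k] (G X : Over (Spec (CommRingCat.of k)))
    [GrpObj G] [QuasiSeparatedSpace X.left] (a : AlgGrp.Action G X) (hΦ : Surjective (lift a.act (snd G X)).left)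
    (x : 𝟙_ (Over (Spec (CommRingCat.of k))) ⟶ X) (pt : ↥(𝟙_ (Over (Spec (CommRingCat.of k)))).left)
    (C0 : Set G.left) (hC0 : C0 ∈ irreducibleComponents ↥G.left) (he : η[G].left.base pt ∈ C0) :
    (a.orbitMap x).left.base '' C0 = connectedComponent (x.left.base pt) ∧
    ∀ (K : Type u) [Field K] [Algebra k K],
      IsIrreducible ((pullback.fst X.hom (Spec.map (CommRingCat.ofHom (algebraMap k K)))).base ⁻¹' connectedComponent (x.left.base pt)) := by
  have hpt : pt = IsLocalRing.closedPoint k := Subsingleton.elim (α := Spec (CommRingCat.of k)) _ _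
  subst hpt
  set x₀ := x.left (IsLocalRing.closedPoint k)
  rw [Homog.connectedComponent_eq a hΦ x₀,
    GrpSchField.eq_closure_gen_of_mem hC0 he]
  refine ⟨?_, fun K _ _ => Homog.isIrreducible_preimage_closure a hΦ x K⟩
  let o := a.orbitMap x
  have hoe : o.left (GrpSchField.e G) = x₀ := by
    show o.left (η[G].left (IsLocalRing.closedPoint k)) = x.left _
    rw [← GrpSchField.comp_left_apply]
    congr 2
    simp only [o, AlgGrp.Action.orbitMap]
    rw [← Category.assoc, comp_lift, Category.comp_id, ← Category.assoc, toUnit_unique (η[G] ≫ toUnit G) (𝟙 _),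
      Category.id_comp]
    have h := GrpSchField.lift_act_one a x
    rw [Hom.one_def, toUnit_unique (toUnit (𝟙_ (Over (Spec (CommRingCat.of k))))) (𝟙 _), Category.id_comp] at h
    rw [h]
  have hξ : o.left (GrpSchField.gen (GrpSchField.e G)) = Homog.mgen x₀ :=
    Homog.eq_mgen a hΦ (Homog.orbit_gen_maxl a hΦ x)
      (hoe ▸ (GrpSchField.gen_specializes (GrpSchField.e G)).map o.left.continuous)
  show o.left '' closure {GrpSchField.gen (GrpSchField.e G)} = _
  refine subset_antisymm ?_ fun y hy => ?_
  · refine (image_closure_subset_closure_image o.left.continuous).trans ?_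
    rw [Set.image_singleton, hξ]
  · have hy' : Homog.mgen y = Homog.mgen x₀ :=
      (Homog.mgen_eq_of_specializes a hΦ (specializes_iff_mem_closure.2 hy)).symm.trans
        (Homog.mgen_eq_of_specializes a hΦ (Homog.mgen_specializes x₀))
    obtain ⟨w, hw1, hw2, hw3⟩ := Homog.exists_gen_act a hΦ y
    obtain ⟨r, hr1, hr2⟩ := Scheme.Pullback.exists_preimage_pullback (f := a.act.left) (g := o.left) w
      (GrpSchField.gen (GrpSchField.e G)) (by rw [hw3, hy', hξ])
    let K := (pullback a.act.left o.left).residueField r
    let l := (pullback a.act.left o.left).fromSpecResidueField r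
    let T : Over (Spec (CommRingCat.of k)) := Over.mk (l ≫ pullback.snd a.act.left o.left ≫ G.hom)
    let p : T.left := IsLocalRing.closedPoint K
    let u : T ⟶ G ⊗ X := Over.homMk (l ≫ pullback.fst a.act.left o.left) (by
      show (l ≫ pullback.fst a.act.left o.left) ≫ (G ⊗ X).hom = l ≫ pullback.snd a.act.left o.left ≫ G.hom
      rw [← Over.w a.act, ← Over.w o, Category.assoc, pullback.condition_assoc])
    let h₂ : T ⟶ G := Over.homMk (l ≫ pullback.snd a.act.left o.left) (by
      show (l ≫ _) ≫ G.hom = l ≫ _ ≫ G.hom
      rw [Category.assoc])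
    have hu : u ≫ a.act = h₂ ≫ o := by
      apply Over.OverMorphism.ext
      show (l ≫ _) ≫ a.act.left = (l ≫ _) ≫ o.left
      rw [Category.assoc, Category.assoc, pullback.condition]
    let h₁ := u ≫ fst G X
    let c := h₁⁻¹ * h₂
    have hmem : ∀ g : ↥G.left, g ∈ SGA3x.neutralSet G ↔ g ∈ closure {GrpSchField.gen (GrpSchField.e G)} := by
      intro g
      have h1 : NeutralSet.e1 G (G.hom g) = GrpSchField.e G :=
        congrArg η[G].left (Subsingleton.elim (α := Spec (CommRingCat.of k)) _ _)
      have h2 : G.hom.base ⁻¹' {G.hom g} = Set.univ :=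
        Set.eq_univ_of_forall fun z => Subsingleton.elim (α := Spec (CommRingCat.of k)) _ _
      show g ∈ SGA3x.neutralSet G ↔ g ∈ GrpSchField.unitComp G
      rw [NeutralSet.mem_iff, ← GrpSchField.connectedComponent_eq_unitComp, ← h1]
      show g ∈ connectedComponentIn _ _ ↔ _
      rw [h2, connectedComponentIn_univ]
    have hur : u.left p = w := by
      show (l ≫ pullback.fst a.act.left o.left) p = w
      rw [Scheme.Hom.comp_apply, Scheme.fromSpecResidueField_apply, hr1]
    have hc : c ∈ NeutralSet.atPoint G p := by
      refine Subgroup.mul_mem _ (Subgroup.inv_mem _ ?_) ?_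
      · rw [NeutralSet.mem_atPoint, hmem, GrpSchField.comp_left_apply, hur, hw1]
        exact subset_closure rfl
      · rw [NeutralSet.mem_atPoint, hmem]
        show (l ≫ pullback.snd a.act.left o.left) p ∈ _
        rw [Scheme.Hom.comp_apply, Scheme.fromSpecResidueField_apply, hr2]
        exact subset_closure rfl
    rw [NeutralSet.mem_atPoint, hmem] at hc
    refine ⟨c.left p, hc, ?_⟩
    have e : c ≫ o = u ≫ snd G X := by
      have h3 : h₂ ≫ o = lift h₂ (toUnit T ≫ x) ≫ a.act := by
        simp only [o, AlgGrp.Action.orbitMap]
        rw [← Category.assoc, comp_lift, Category.comp_id, ← Category.assoc, toUnit_unique (h₂ ≫ toUnit G) (toUnit T)]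
      have h4 : c ≫ o = lift c (toUnit T ≫ x) ≫ a.act := by
        simp only [o, AlgGrp.Action.orbitMap]
        rw [← Category.assoc, comp_lift, Category.comp_id, ← Category.assoc, toUnit_unique (c ≫ toUnit G) (toUnit T)]
      have h5 : u ≫ a.act = lift h₁ (u ≫ snd G X) ≫ a.act := by
        congr 1
        apply CartesianMonoidalCategory.hom_ext <;> simp [h₁]
      rw [h4, GrpSchField.lift_act_mul, ← h3, ← hu, h5, ← GrpSchField.lift_act_mul, inv_mul_cancel,
        GrpSchField.lift_act_one]
    rw [← GrpSchField.comp_left_apply, e, GrpSchField.comp_left_apply, hur, hw2]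

end Groth.Agent.S5403
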