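import Groth.Statements.S5423
import Groth.Agent.ComodBasic.UnipotentPoints
import Groth.Agent.HopfFF.SmoothRed
import Groth.Agent.S7975


set_option autoImplicit false
universe u
open TensorProduct
open SGA3t2b

namespace Groth.Agent.S5423

open TensorProduct WithConv CoalgebraStruct Groth.Agent.ComodBasic


/-- Let k be an algebraically closed field and A a reduced finitely generated commutative Hopf algebra
over k (a smooth affine algebraic k-group G). Then G is unipotent (every non-zero finite-dimensional
representation has a non-zero fixed vector) if and only if every element of G(k) is unipotent, i.e.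
every k-point g : A → k acts on every finite-dimensional comodule V by an endomorphism g_V with g_V
− 1 nilpotent. -/
theorem result (k : Type u) [Field k] [IsAlgClosed k] (A : Type u) [CommRing A] [HopfAlgebra k A] [Algebra.FiniteType k A]
    [IsReduced A] :
    HopfRep.IsUnipotent k A ↔
      ∀ (g : A →ₐ[k] k) (V : Type u) [AddCommGroup V] [Module k V] [HopfRep.Comod k A V],
        Module.Finite k V → IsNilpotent (HopfRep.Comod.act k A V g - LinearMap.id) := by
  have hact : ∀ (g : A →ₐ[k] k) (V : Type u) [AddCommGroup V] [Module k V] [HopfRep.Comod k A V] (v : V),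
      HopfRep.Comod.act k A V g v = (ptHom k A (toConv g) : Cv k A) • v := fun g V _ _ _ v => rfl
  constructor
  · intro hU g V _ _ _ hV
    obtain ⟨n, hn⟩ := exists_socSeries_eq_top (V := V) hU
    refine ⟨n, LinearMap.ext fun v => ?_⟩
    set T := HopfRep.Comod.act k A V g - LinearMap.id with hT
    have h : ∀ m, ∀ v ∈ socSeries k A V m, (T ^ m) v = 0 := by
      intro m
      induction m with
      | zero => intro v hv; exact (Submodule.mem_bot _).1 hv
      | succ m ih =>
        intro v hv
        rw [pow_succ, Module.End.mul_apply]
        refine ih _ ?_
        have e : T v = (ptHom k A (toConv g) - 1 : Cv k A) • v := by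
          rw [sub_smul, one_smul, ← hact]; rfl
        rw [e]
        exact smul_mem_of_fixStep hv (ptHom_one_apply _)
    exact h n v (hn ▸ Submodule.mem_top)
  · intro h V _ _ _ hV hnt
    let ρ : Representation k (WithConv (A →ₐ[k] k)) V :=
      ((Algebra.lsmul k k V : Cv k A →ₐ[k] Module.End k V) : Cv k A →* Module.End k V).comp (ptHom k A)
    obtain ⟨v, hv0, hv⟩ := S7975.result k _ V ρ fun g => by
      exact h g.ofConv V hV
    refine fun hbot => hv0 ?_
    have hfix : v ∈ HopfRep.fixedPts k A V := by
      refine sub_eq_zero.1 (eq_zero_of_lslice _ fun ξ => ?_)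
      refine (_root_.IsNilpotent.eq_zero (Groth.Agent.HopfFF.SmoothCrit.isNilpotent_of_forall_point (k := k) fun g => ?_))
      have e : ∀ z : V ⊗[k] A, g (lslice ξ z) = ξ (slice g.toLinearMap z) := fun z => by
        induction z using TensorProduct.induction_on with
        | zero => simp
        | add p q hp hq => simp only [map_add, hp, hq]
        | tmul p q => simp [mul_comm]
      have h2 : slice g.toLinearMap (HopfRep.Comod.coact (k := k) (A := A) v) = v := hv (toConv g)
      rw [e, map_sub]
      simp [h2]
    rwa [hbot, Submodule.mem_bot] at hfix

end Groth.Agent.S5423
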