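import Groth.Statements.S5427
import Groth.Agent.Kummer.Points
-- import your own Groth.Agent.* helpers here

set_option autoImplicit false
universe u
open CategoryTheory MonoidalCategory CartesianMonoidalCategory MonObj GrpObj AlgebraicGeometry CategoryTheory.Limits
open Red

namespace Groth.Agent.S5427

/-- Let S be a scheme and G = D_S(M) a diagonalizable S-group of finite type, M a non-trivial finitely
generated commutative group. Then there are a prime number r and a closed subgroup of G isomorphic
to (μ_r)_S: a homomorphism of S-groups D_S(ℤ/r) → D_S(M) which is a closed immersion. -/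
theorem result (S : Scheme.{u}) (M : Type) [AddCommGroup M] [AddGroup.FG M] [Nontrivial M] :
    ∃ (r : ℕ) (_ : r.Prime) (j : Red.DS S (ZMod r) ⟶ Red.DS S M), IsMonHom j ∧ IsClosedImmersion j.left := by
  obtain ⟨r, hr, q, hq⟩ : ∃ (r : ℕ) (_ : r.Prime) (q : M →+ ZMod r), Function.Surjective q := by
    haveI : Module.Finite ℤ M := Module.Finite.iff_addGroup_fg.2 ‹_›
    obtain ⟨N, hN, -⟩ := (eq_top_or_exists_le_coatom (⊥ : Submodule ℤ M)).resolve_left bot_ne_top
    haveI : IsSimpleModule ℤ (M ⧸ N) := isSimpleModule_iff_isCoatom.2 hN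
    obtain ⟨I, hI, ⟨e⟩⟩ := isSimpleModule_iff_quot_maximal.1 (inferInstance : IsSimpleModule ℤ (M ⧸ N))
    obtain ⟨n, rfl⟩ : ∃ n : ℕ, I = Ideal.span {(n : ℤ)} :=
      ⟨(Submodule.IsPrincipal.generator I).natAbs, by rw [Int.span_natAbs, Ideal.span_singleton_generator]⟩
    have hn : n.Prime := by
      rw [Nat.prime_iff_prime_int, ← Ideal.span_singleton_prime]
      · exact hI.isPrime
      · intro h0
        rw [h0, Ideal.span_singleton_eq_bot.2 rfl] at hI
        exact Int.not_isField (Ring.isField_iff_maximal_bot.2 hI)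
    refine ⟨n, hn, ((Int.quotientSpanNatEquivZMod n).toAddEquiv.toAddMonoidHom.comp
      (e.toAddEquiv.toAddMonoidHom.comp N.mkQ.toAddMonoidHom)), ?_⟩
    exact (Int.quotientSpanNatEquivZMod n).surjective.comp (e.surjective.comp N.mkQ_surjective)
  refine ⟨r, hr, Red.DSmap S q, Groth.Agent.Kummer.isMonHom_DSmap q, ?_⟩
  refine MorphismProperty.baseChange_map (P := @IsClosedImmersion) _ _ ?_
  refine IsClosedImmersion.spec_of_surjective _ ?_
  intro x
  induction x using MonoidAlgebra.induction_linear with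
  | zero => exact ⟨0, map_zero _⟩
  | add a b ha hb =>
    obtain ⟨a', rfl⟩ := ha
    obtain ⟨b', rfl⟩ := hb
    exact ⟨a' + b', map_add _ _ _⟩
  | single m c =>
    obtain ⟨m', hm'⟩ := hq m.toAdd
    refine ⟨MonoidAlgebra.single (Multiplicative.ofAdd m') c, ?_⟩
    show MonoidAlgebra.mapDomainAlgHom (ULift.{u} ℤ) (ULift.{u} ℤ) (AddMonoidHom.toMultiplicative q) _ = _
    simp [hm']

end Groth.Agent.S5427
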