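import Groth.Statements.S5430
import Groth.Agent.FactLocus.Normalizing
import Groth.Agent.FactLocus.Comm

set_option autoImplicit false
universe u
open CategoryTheory MonoidalCategory CartesianMonoidalCategory MonObj GrpObj AlgebraicGeometry CategoryTheory.Limits
open SGA3x
open Groth.Agent.FactLocus

set_option backward.isDefEq.respectTransparency false

namespace Groth.Agent.S5430

/-- Let S be a scheme and E an S-group scheme which is an extension of an S-group scheme U with
connected fibres by an S-group H of multiplicative type and of finite type: p : E → U is a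
homomorphism which is surjective, flat and quasi-compact (U is the fpqc quotient E/H) and i : H → E
is its kernel. Then the extension is central: every point of H commutes with every point of E. -/
theorem result (S : Scheme.{u}) (E H U : Over S) [GrpObj E] [GrpObj H] [GrpObj U]
    (p : E ⟶ U) [IsMonHom p] [Surjective p.left] [Flat p.left] [QuasiCompact p.left]
    (i : H ⟶ E) [IsMonHom i] (hker : AlgGrp.IsKernel i p) (hH : SGA3x.IsMultTypeFT H)
    (hU : ∀ s : S, _root_.IsConnected (U.hom.base ⁻¹' {s})) :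
    ∀ (X : Over S) (h : X ⟶ H) (e : X ⟶ E), (h ≫ i) * e = e * (h ≫ i) := by
  haveI : Mono η[U] := ⟨fun a b _ => toUnit_unique a b⟩
  haveI : Mono i := (hker.mono_fst_of_mono)
  have hk : ∀ (X : Over S) (z : X ⟶ E), z ≫ p = 1 → ∃ n : X ⟶ H, z = n ≫ i := fun X z hz =>
    ⟨hker.lift z (toUnit X) (by rw [hz, Hom.one_def]), (hker.lift_fst _ _ _).symm⟩
  have hip : ∀ (X : Over S) (n : X ⟶ H), (n ≫ i) ≫ p = 1 := fun X n => by
    rw [Category.assoc, hker.w, ← Category.assoc, toUnit_unique (n ≫ toUnit H) (toUnit X), ← Hom.one_def]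
  have hn : ∀ (X' : Over S) (x : X' ⟶ E) (h : X' ⟶ H), ∃ h' : X' ⟶ H, (x ≫ 𝟙 E) * (h ≫ i) * (x ≫ 𝟙 E)⁻¹ = h' ≫ i :=
    fun X' x h => hk X' _ (by
      rw [MonObj.mul_comp, MonObj.mul_comp, hip, _root_.mul_one, ← MonObj.mul_comp, mul_inv_cancel, MonObj.one_comp])
  obtain ⟨C, hCc, hC⟩ := exists_clopen_commLocus i hH (𝟙 E) hn
  suffices hall : ∀ y : E.left, y ∈ C by
    intro X h e
    have := (hC X e).mp (fun y _ => hall y) X (𝟙 X) h
    rw [Category.id_comp, Category.comp_id] at this
    exact this.symm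
  have h1 : Set.range (η[E] : 𝟙_ (Over S) ⟶ E).left ⊆ (C : Set E.left) := (hC _ _).mpr fun Y' x h => by
    rw [Category.comp_id, toUnit_unique x (toUnit Y'), ← Hom.one_def, _root_.one_mul, _root_.mul_one]
  let P := p.left
  have hP : ∀ a b : E.left, P a = P b → a ∈ C → b ∈ C := by
    intro a b hab ha
    obtain ⟨z, hza, hzb⟩ := Scheme.Pullback.exists_preimage_pullback (f := P) (g := P) a b hab
    let W : (Limits.pullback P P).Opens := (Limits.pullback.fst P P) ⁻¹ᵁ C
    let Y : Over S := Over.mk ((W.ι ≫ Limits.pullback.fst P P) ≫ E.hom)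
    let k₁ : Y ⟶ E := Over.homMk (W.ι ≫ Limits.pullback.fst P P)
    let k₂ : Y ⟶ E := Over.homMk (W.ι ≫ Limits.pullback.snd P P) (by
      show (W.ι ≫ Limits.pullback.snd P P) ≫ E.hom = (W.ι ≫ Limits.pullback.fst P P) ≫ E.hom
      rw [← Over.w p, Category.assoc, Category.assoc]
      show W.ι ≫ Limits.pullback.snd P P ≫ P ≫ U.hom = W.ι ≫ Limits.pullback.fst P P ≫ P ≫ U.hom
      rw [Limits.pullback.condition_assoc])
    have hkp : k₁ ≫ p = k₂ ≫ p := Over.OverMorphism.ext (by
      show (W.ι ≫ Limits.pullback.fst P P) ≫ P = (W.ι ≫ Limits.pullback.snd P P) ≫ P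
      rw [Category.assoc, Category.assoc, Limits.pullback.condition])
    obtain ⟨n, hn'⟩ := hk Y (k₁⁻¹ * k₂) (by rw [MonObj.mul_comp, GrpObj.inv_comp, hkp, inv_mul_cancel])
    have h₁ : Set.range k₁.left ⊆ (C : Set E.left) := by
      rintro _ ⟨w, rfl⟩
      exact w.2
    have h₂ : Set.range k₂.left ⊆ (C : Set E.left) := (hC Y k₂).mpr fun Y' x h => by
      have e : k₂ = k₁ * (n ≫ i) := by rw [← hn', mul_inv_cancel_left]
      have hc1 := (hC Y k₁).mp h₁ Y' x h
      simp only [Category.comp_id] at hc1 ⊢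
      have hnh : Commute (x ≫ n ≫ i) (h ≫ i) := by
        show _ * _ = _ * _
        rw [← Category.assoc, ← MonObj.mul_comp, ← MonObj.mul_comp, mul_comm_points hH]
      rw [e, MonObj.comp_mul]
      exact (Commute.mul_left hc1 hnh).eq
    rw [← hzb]
    exact h₂ ⟨⟨z, show (Limits.pullback.fst P P) z ∈ C by rw [hza]; exact ha⟩, rfl⟩
  let C' : Set U.left := P '' (C : Set E.left)
  have hpre : P ⁻¹' C' = C := Set.Subset.antisymm (fun b ⟨a, ha, hab⟩ => hP a b hab ha) (Set.subset_preimage_image _ _)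
  have hclopen : IsClopen C' := by
    have hq := Flat.isQuotientMap_of_surjective P
    exact ⟨hq.isClosed_preimage.mp (by rw [hpre]; exact hCc), hq.isOpen_preimage.mp (by rw [hpre]; exact C.isOpen)⟩
  intro y
  let s := E.hom y
  have hfib : U.hom.base ⁻¹' {s} ⊆ C' := by
    refine (hU s).isPreconnected.subset_isClopen hclopen ⟨(η[U] : 𝟙_ (Over S) ⟶ U).left s, ?_, ?_⟩
    · show U.hom ((η[U] : 𝟙_ (Over S) ⟶ U).left s) = s
      rw [← Scheme.Hom.comp_apply, Over.w]
      rfl
    · refine ⟨(η[E] : 𝟙_ (Over S) ⟶ E).left s, h1 ⟨s, rfl⟩, ?_⟩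
      rw [← IsMonHom.one_hom p]
      rfl
  obtain ⟨a, ha, hay⟩ := hfib (show P y ∈ U.hom.base ⁻¹' {s} by
    show U.hom (P y) = s
    rw [← Scheme.Hom.comp_apply, Over.w p])
  exact hP a y hay ha

end Groth.Agent.S5430
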