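import Groth.Statements.S5432
import Groth.Agent.ComodBasic.GeomConn
import Groth.Agent.ComodBasic.UnipotentTriv
import Groth.Agent.MultType.Quot


set_option autoImplicit false
universe u
open TensorProduct
open SGA3t2b

namespace Groth.Agent.S5432

open TensorProduct Groth.Agent.CommGrpDecomp Groth.Agent.ComodBasic in
set_option synthInstance.maxHeartbeats 200000 in
set_option maxHeartbeats 800000 in
private theorem exists_field_diag (k : Type u) [Field k] (Q : Type u) [CommRing Q] [HopfAlgebra k Q]
    (h : SGA3b.IsMultTypeConst k Q) : ∃ (K : Type u) (_ : Field K) (_ : Algebra k K),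
      HopfRep.IsDiagonalizable K (K ⊗[k] Q) := by
  obtain ⟨R', _, _, hff, M, _, ⟨e⟩⟩ := h
  haveI : Nontrivial R' := by
    by_contra h
    rw [not_nontrivial_iff_subsingleton] at h
    exact Module.FaithfullyFlat.submodule_ne_top (R := k) (M := R') (m := ⊥) Ideal.bot_isMaximal
      (Submodule.eq_top_iff'.2 fun x => by rw [Subsingleton.elim x 0]; exact zero_mem _)
  obtain ⟨p, hp⟩ := Ideal.exists_maximal R'
  letI : Field (R' ⧸ p) := Ideal.Quotient.field p
  let qm : R' →ₐ[k] R' ⧸ p := Ideal.Quotient.mkₐ k p
  let f : R' ⊗[k] Q →ₐ[k] (R' ⧸ p) ⊗[k] Q := Algebra.TensorProduct.map qm (AlgHom.id k Q)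
  let θ : R' ⊗[k] Q →ₐ[R'] (R' ⧸ p) ⊗[k] Q :=
    Algebra.TensorProduct.map (Algebra.ofId R' (R' ⧸ p)) (AlgHom.id k Q)
  have hθ : Groth.Agent.MultType.Compat (R' ⧸ p) θ := by
    refine ⟨fun x => ?_, fun x => ?_⟩
    · induction x using TensorProduct.induction_on with
      | zero => simp
      | add a b ha hb => simp only [map_add, ha, hb]
      | tmul r a => simp [θ, Algebra.smul_def]
    · induction x using TensorProduct.induction_on with
      | zero => simp
      | add a b ha hb => simp only [map_add, ha, hb]
      | tmul r a =>
        simp only [θ, Algebra.TensorProduct.map_tmul, AlgHom.coe_id, id_eq, TensorProduct.comul_tmul,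
          CommSemiring.comul_apply]
        generalize Coalgebra.comul (R := k) a = z
        induction z using TensorProduct.induction_on with
        | zero => simp
        | add a b ha hb => simp only [tmul_add, map_add, ha, hb]
        | tmul a b => simp [← Algebra.TensorProduct.one_def]
  have hf : ∀ g, IsGroupLikeElem R' g → IsGroupLikeElem (R' ⧸ p) (f g) := fun g hg =>
    (show f g = θ g by
      clear hg
      induction g using TensorProduct.induction_on with
      | zero => simp
      | add a b ha hb => simp only [map_add, ha, hb]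
      | tmul r a => simp [f, θ, qm]) ▸ hθ.isGroupLikeElem hg
  refine ⟨R' ⧸ p, inferInstance, inferInstance, ?_⟩
  refine top_le_iff.1 fun y _ => ?_
  obtain ⟨x, rfl⟩ := (show Function.Surjective f from by
    intro y
    induction y using TensorProduct.induction_on with
    | zero => exact ⟨0, map_zero f⟩
    | tmul r a =>
      obtain ⟨r, rfl⟩ := Ideal.Quotient.mk_surjective r
      exact ⟨r ⊗ₜ a, by simp [f, qm]⟩
    | add a b ha hb =>
      obtain ⟨a, rfl⟩ := ha
      obtain ⟨b, rfl⟩ := hb
      exact ⟨a + b, map_add f a b⟩) y
  obtain ⟨w, rfl⟩ := (EquivLike.surjective e.symm) x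
  induction w using MonoidAlgebra.induction_linear with
  | zero => simp
  | add a b ha hb => rw [map_add, map_add]; exact add_mem (ha trivial) (hb trivial)
  | single m r =>
    rw [← mul_one r, ← MonoidAlgebra.smul_single', map_smul,
      Algebra.smul_def, map_mul]
    have h1 : f (algebraMap R' (R' ⊗[k] Q) r) = algebraMap (R' ⧸ p) _ (qm r) := by simp [f, qm]
    rw [h1, ← Algebra.smul_def]
    exact Submodule.smul_mem _ _ (Submodule.subset_span (hf _
      ((MonoidAlgebra.isGroupLikeElem_single_one (R := R') (A := R') m).map e.symm)))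


open Groth.Agent.CommGrpDecomp Groth.Agent.ComodBasic


open CoalgebraStruct


/-- Let k be a field, C a finitely generated commutative Hopf algebra which is formally smooth with no
idempotents other than 0 and 1 and unipotent in the fixed-vector sense (a smooth connected unipotent
algebraic group U), and B a commutative Hopf algebra of multiplicative type (isomorphic to a group
algebra after a faithfully flat extension of k; the group H, not assumed of finite type). Then every
morphism of k-schemes U → H is constant: every k-algebra map f : B → C satisfies f(b) = ε_C(f(b)) ·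
1. -/
theorem result (k : Type u) [Field k] (C B : Type u) [CommRing C] [HopfAlgebra k C] [Algebra.FiniteType k C]
    [Algebra.FormallySmooth k C] (hconn : ∀ e : C, IsIdempotentElem e → e = 0 ∨ e = 1)
    (hU : HopfRep.IsUnipotent k C) [CommRing B] [HopfAlgebra k B]
    (hB : SGA3b.IsMultTypeConst k B) (f : B →ₐ[k] C) :
    ∀ b : B, f b = algebraMap k C (Bialgebra.counitAlgHom k C (f b)) := by
  let K := AlgebraicClosure k
  obtain ⟨L0, _, _, hL0⟩ := exists_field_diag k B hB
  have hLs := isDiagonalizable_separableClosure hL0
  let Ls := separableClosure k L0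
  let j : Ls →ₐ[k] K := IsAlgClosed.lift
  haveI : Algebra.Smooth k C :=
    { formallySmooth := inferInstance
      finitePresentation := Algebra.FinitePresentation.of_finiteType.1 inferInstance }
  haveI : Algebra.Smooth K (K ⊗[k] C) := inferInstance
  haveI : IsRegularRing (K ⊗[k] C) := Groth.Agent.ArtinFlat.HB.isRegularRing_of_smooth K _
  haveI : Nontrivial (K ⊗[k] C) := (Bialgebra.counitAlgHom K (K ⊗[k] C)).toRingHom.domain_nontrivial
  have hconn' : ∀ e : K ⊗[k] C, IsIdempotentElem e → e = 0 ∨ e = 1 := fun e he =>
    eq_zero_or_one_baseChange hconn (Bialgebra.counitAlgHom k C) he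
  haveI := isDomain_of_regular_connected hconn'
  let fK : K ⊗[k] B →ₐ[K] K ⊗[k] C := Algebra.TensorProduct.map (AlgHom.id K K) f
  intro b
  have key : ∀ y ∈ Submodule.span Ls {g : Ls ⊗[k] B | IsGroupLikeElem Ls g},
      fK (Algebra.TensorProduct.map j (AlgHom.id k B) y) =
        counit (R := K) (fK (Algebra.TensorProduct.map j (AlgHom.id k B) y)) • (1 : K ⊗[k] C) := by
    intro y hy
    induction hy using Submodule.span_induction with
    | mem g hg =>
      have hu : IsUnit (fK (Algebra.TensorProduct.map j (AlgHom.id k B) g)) :=
        ((groupLike_map_iff j g).2 hg).isUnit.map fK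
      set x := fK (Algebra.TensorProduct.map j (AlgHom.id k B) g)
      have hc : counit (R := K) x ≠ 0 := fun h0 =>
        not_isUnit_zero (h0 ▸ hu.map (Bialgebra.counitAlgHom K (K ⊗[k] C)))
      have hgl : IsGroupLikeElem K ((counit (R := K) x)⁻¹ • x) := by
        refine isGroupLikeElem_of_isUnit hconn' ?_ ?_
        · rw [Algebra.smul_def]
          exact ((inv_ne_zero hc).isUnit.map _).mul hu
        · rw [map_smul, smul_eq_mul, inv_mul_cancel₀ hc]
      have h1 := groupLike_eq_one hU hgl
      conv_lhs => rw [← one_smul K x, ← mul_inv_cancel₀ hc, mul_smul, h1]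
    | zero => simp
    | add u v _ _ hu hv => simp only [map_add, add_smul]; rw [← hu, ← hv]
    | smul c u _ hu =>
      have e : Algebra.TensorProduct.map j (AlgHom.id k B) (c • u) =
          j c • Algebra.TensorProduct.map j (AlgHom.id k B) u := by
        clear hu
        rename_i h1
        clear h1
        induction u using TensorProduct.induction_on with
        | zero => simp
        | add p q hp hq => simp only [smul_add, map_add, hp, hq]
        | tmul d x => simp [smul_tmul']
      rw [e, map_smul, map_smul, smul_assoc, ← hu]
  have h := key _ (hLs.ge (Submodule.mem_top (x := (1 : Ls) ⊗ₜ[k] b)))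
  simp only [fK, Algebra.TensorProduct.map_tmul, map_one, AlgHom.coe_id, id_eq] at h
  refine includeRight_injective' (k := k) (A := C) (K := K) ?_
  refine h.trans ?_
  have e : counit (R := K) ((1 : K) ⊗ₜ[k] f b) = algebraMap k K (Bialgebra.counitAlgHom k C (f b)) := by
    simp [Algebra.algebraMap_eq_smul_one]
  rw [e, algebraMap_smul]
  show _ = (1 : K) ⊗ₜ[k] _
  rw [Algebra.algebraMap_eq_smul_one (R := k) (A := C), tmul_smul, ← Algebra.TensorProduct.one_def]

end Groth.Agent.S5432
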