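import Groth.Statements.S5433
import Groth.Agent.CommGrpDecomp.MultPart
import Groth.Agent.MultType.Quot


set_option autoImplicit false
universe u
open TensorProduct
open SGA3

namespace Groth.Agent.S5433

open TensorProduct Groth.Agent.CommGrpDecomp Groth.Agent.ComodBasic in
private theorem exists_field_diag (k : Type u) [Field k] (Q : Type u) [CommRing Q] [HopfAlgebra k Q]
    (h : SGA3b.IsMultTypeConst k Q) : ∃ (K : Type u) (_ : Field K) (_ : Algebra k K),
      HopfRep.IsDiagonalizable K (K ⊗[k] Q) := by
  obtain ⟨R', _, _, hff, M, _, ⟨e⟩⟩ := h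
  haveI : Nontrivial R' := by
    by_contra h
    rw [not_nontrivial_iff_subsingleton] at h
    exact Module.FaithfullyFlat.submodule_ne_top (R := k) (M := R') (m := ⊥) Ideal.bot_isMaximal
      (Submodule.eq_top_iff'.2 fun x => by rw [Subsingleton.elim x 0]; exact zero_mem _)
  obtain ⟨p, hp⟩ := Ideal.exists_maximal R'
  letI : Field (R' ⧸ p) := Ideal.Quotient.field p
  let qm : R' →ₐ[k] R' ⧸ p := Ideal.Quotient.mkₐ k p
  let f : R' ⊗[k] Q →ₐ[k] (R' ⧸ p) ⊗[k] Q := Algebra.TensorProduct.map qm (AlgHom.id k Q)
  let θ : R' ⊗[k] Q →ₐ[R'] (R' ⧸ p) ⊗[k] Q :=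
    Algebra.TensorProduct.map (Algebra.ofId R' (R' ⧸ p)) (AlgHom.id k Q)
  have hθ : Groth.Agent.MultType.Compat (R' ⧸ p) θ := by
    refine ⟨fun x => ?_, fun x => ?_⟩
    · induction x using TensorProduct.induction_on with
      | zero => simp
      | add a b ha hb => simp only [map_add, ha, hb]
      | tmul r a => simp [θ, Algebra.smul_def]
    · induction x using TensorProduct.induction_on with
      | zero => simp
      | add a b ha hb => simp only [map_add, ha, hb]
      | tmul r a =>
        simp only [θ, Algebra.TensorProduct.map_tmul, AlgHom.coe_id, id_eq, TensorProduct.comul_tmul,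
          CommSemiring.comul_apply]
        generalize Coalgebra.comul (R := k) a = z
        induction z using TensorProduct.induction_on with
        | zero => simp
        | add a b ha hb => simp only [tmul_add, map_add, ha, hb]
        | tmul a b => simp [← Algebra.TensorProduct.one_def]
  have hf : ∀ g, IsGroupLikeElem R' g → IsGroupLikeElem (R' ⧸ p) (f g) := fun g hg =>
    (show f g = θ g by
      clear hg
      induction g using TensorProduct.induction_on with
      | zero => simp
      | add a b ha hb => simp only [map_add, ha, hb]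
      | tmul r a => simp [f, θ, qm]) ▸ hθ.isGroupLikeElem hg
  refine ⟨R' ⧸ p, inferInstance, inferInstance, ?_⟩
  refine top_le_iff.1 fun y _ => ?_
  obtain ⟨x, rfl⟩ := (show Function.Surjective f from by
    intro y
    induction y using TensorProduct.induction_on with
    | zero => exact ⟨0, map_zero f⟩
    | tmul r a =>
      obtain ⟨r, rfl⟩ := Ideal.Quotient.mk_surjective r
      exact ⟨r ⊗ₜ a, by simp [f, qm]⟩
    | add a b ha hb =>
      obtain ⟨a, rfl⟩ := ha
      obtain ⟨b, rfl⟩ := hb
      exact ⟨a + b, map_add f a b⟩) y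
  obtain ⟨w, rfl⟩ := (EquivLike.surjective e.symm) x
  induction w using MonoidAlgebra.induction_linear with
  | zero => simp
  | add a b ha hb => rw [map_add, map_add]; exact add_mem (ha trivial) (hb trivial)
  | single m r =>
    rw [← mul_one r, ← MonoidAlgebra.smul_single', map_smul,
      Algebra.smul_def, map_mul]
    have h1 : f (algebraMap R' (R' ⊗[k] Q) r) = algebraMap (R' ⧸ p) _ (qm r) := by simp [f, qm]
    rw [h1, ← Algebra.smul_def]
    exact Submodule.smul_mem _ _ (Submodule.subset_span (hf _
      ((MonoidAlgebra.isGroupLikeElem_single_one (R := R') (A := R') m).map e.symm)))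


open Groth.Agent.CommGrpDecomp Groth.Agent.ComodBasic


open CoalgebraStruct


/-- Let k be a perfect field and A a finitely generated commutative and cocommutative Hopf algebra over
k (a commutative affine algebraic group G). Let J be the Hopf ideal of the largest subgroup of
multiplicative type M (A/J is of multiplicative type and J lies in every Hopf ideal whose quotient
is of multiplicative type). Then there is exactly one Hopf ideal I of A (a unipotent subgroup U)
such that A/I is unipotent in the fixed-vector sense and the map A → (A/J) ⊗ (A/I), a ↦ Σ ā₁ ⊗ ā₂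
(the comorphism of the multiplication M × U → G), is bijective. -/
theorem result (k : Type u) [Field k] [PerfectField k] (A : Type u) [CommRing A] [HopfAlgebra k A] [Algebra.FiniteType k A]
    [Coalgebra.IsCocomm k A] (J : Ideal A) [J.IsHopfIdeal k] (hJ : SGA3b.IsMultTypeConst k (A ⧸ J))
    (hJmax : ∀ (I : Ideal A) [I.IsHopfIdeal k], SGA3b.IsMultTypeConst k (A ⧸ I) → J ≤ I) :
    ∃! I : Ideal A, ∃ (_ : I.IsHopfIdeal k), HopfRep.IsUnipotent k (A ⧸ I) ∧
      Function.Bijective ((Algebra.TensorProduct.map (Ideal.Quotient.mkₐ k J) (Ideal.Quotient.mkₐ k I)).comp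
        (Bialgebra.comulAlgHom k A)) := by
  let K := AlgebraicClosure k
  haveI : IsGalois k K := inferInstance
  have hfix : ∀ x : K, (∀ σ : K ≃ₐ[k] K, σ x = x) → x ∈ Set.range (algebraMap k K) := fun x h =>
    (InfiniteGalois.mem_range_algebraMap_iff_fixed x).2 h
  have hB := isHopfSubalgebra_unipSub (k := k) (A := A)
  letI hBH := hopfAlgebra hB
  have hJ0 : (SGA3.augIdealSpan k A (unipSub k A)).IsHopfIdeal k := isHopfIdeal_augIdealSpan _ hB
  have hU : HopfRep.IsUnipotent k (unipSub k A) :=
    isUnipotent (valBialg hB) Subtype.val_injective fun b => b.2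
  have hJle : SGA3.augIdealSpan k A (unipSub k A) ≤ J := by
    obtain ⟨L, _, _, hL⟩ := exists_field_diag k (A ⧸ J) hJ
    refine Ideal.span_le.2 fun a ha => ?_
    have h := bialgHom_apply_counit_of_unipotent_source hU hL
      ((Bialgebra.Quotient.mkBialgHom (R := k) J).comp (valBialg hB)) ⟨a, ha.1⟩
    refine Ideal.Quotient.eq_zero_iff_mem.1 (h.trans ?_)
    show algebraMap k (A ⧸ J) (Coalgebra.counit (R := k) a) = 0
    rw [ha.2, map_zero]
  have hJeq : J ≤ SGA3.augIdealSpan k A (unipSub k A) := by
    refine hJmax _ ⟨K, inferInstance, inferInstance, inferInstance, ?_⟩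
    refine Groth.Agent.MultType.isDiag_of_groupLike
      (G := GroupLike K (K ⊗[k] (A ⧸ SGA3.augIdealSpan k A (unipSub k A))))
      { toFun := fun g => (g : K ⊗[k] (A ⧸ SGA3.augIdealSpan k A (unipSub k A)))
        map_one' := rfl
        map_mul' := fun _ _ => rfl } (fun g => g.2) ?_
    rw [eq_top_iff, ← span_groupLike_quotient (K := K)
      (Bialgebra.Quotient.mkBialgHom (R := k) (SGA3.augIdealSpan k A (unipSub k A)))
      Ideal.Quotient.mk_surjective fun a ha => mk_eq_counit _ ha]
    exact Submodule.span_mono fun x hx => ⟨⟨x, hx⟩, rfl⟩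
  have hD := isHopfSubalgebra_multSub (k := k) (K := K) (A := A) hfix
  let D := multSub k K A
  let I : Ideal A := SGA3.augIdealSpan k A D
  haveI hI : I.IsHopfIdeal k := isHopfIdeal_augIdealSpan _ hD
  let f := (Algebra.TensorProduct.map (Ideal.Quotient.mkₐ k J) (Ideal.Quotient.mkₐ k I)).comp
    (Bialgebra.comulAlgHom k A)
  let m := LinearMap.mul' k A ∘ₗ TensorProduct.map D.val.toLinearMap (unipSub k A).val.toLinearMap
  have hm : ∀ a, ∃ z, m z = a := exists_mul_eq hfix
  have hqD : ∀ d ∈ D, Ideal.Quotient.mk I d = algebraMap k (A ⧸ I) (counit (R := k) d) := fun d hd =>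
    mk_eq_counit D hd
  have hqB : ∀ b ∈ unipSub k A, Ideal.Quotient.mk J b = algebraMap k (A ⧸ J) (counit (R := k) b) := by
    intro b hb
    rw [← Ideal.Quotient.mk_algebraMap, Ideal.Quotient.eq]
    exact hJle (Ideal.subset_span ⟨sub_mem hb ((unipSub k A).algebraMap_mem _), by simp⟩)
  -- unipotence of the quotient by `I`
  let q : A →ₐc[k] A ⧸ I := Bialgebra.Quotient.mkBialgHom (R := k) I
  have hsoc : ∀ n, ∀ a ∈ socSeries k A A n, q a ∈ socSeries k (A ⧸ I) (A ⧸ I) n := by
    intro n
    induction n with
    | zero => intro a ha; rw [(Submodule.mem_bot _).1 ha, map_zero]; exact zero_mem _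
    | succ n ih =>
      intro a ha
      show q a ∈ fixStep (socSeries k (A ⧸ I) (A ⧸ I) n)
      refine mem_fixStep_of fun θ hθ => ?_
      rw [← map_smul_regular q θ a]
      exact ih _ (smul_mem_of_fixStep ha (by simp [hθ]))
  have hUI : HopfRep.IsUnipotent k (A ⧸ I) := by
    refine isUnipotent (BialgHom.id k (A ⧸ I)) Function.injective_id fun x => ?_
    obtain ⟨a, rfl⟩ := Ideal.Quotient.mk_surjective x
    obtain ⟨z, rfl⟩ := hm a
    induction z using TensorProduct.induction_on with
    | zero => exact ⟨0, by simp⟩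
    | tmul d b =>
      obtain ⟨n, hn⟩ := b.2
      refine ⟨n, ?_⟩
      show Ideal.Quotient.mk I ((d : A) * b) ∈ _
      rw [map_mul, hqD _ d.2, ← Algebra.smul_def]
      exact Submodule.smul_of_tower_mem _ _ (hsoc n _ hn)
    | add x y hx hy =>
      obtain ⟨n, hn⟩ := hx
      obtain ⟨n', hn'⟩ := hy
      refine ⟨max n n', ?_⟩
      simp only [map_add]
      exact add_mem (socSeries_mono (le_max_left n n') hn) (socSeries_mono (le_max_right n n') hn')
  -- the map on products
  let gD := (Ideal.Quotient.mkₐ k J).toLinearMap ∘ₗ D.val.toLinearMap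
  let gB := (Ideal.Quotient.mkₐ k I).toLinearMap ∘ₗ (unipSub k A).val.toLinearMap
  have hfd : ∀ d : D, f d = gD d ⊗ₜ 1 := by
    intro d
    obtain ⟨z, hz⟩ := hD.1 d d.2
    have h := congrArg (TensorProduct.rid k A) (Coalgebra.lTensor_counit_comul (R := k) (d : A))
    rw [TensorProduct.rid_tmul, one_smul, ← hz] at h
    show Algebra.TensorProduct.map _ _ (comul (R := k) (d : A)) = Ideal.Quotient.mkₐ k J (d : A) ⊗ₜ 1
    rw [← hz, ← h]
    clear hz h
    induction z using TensorProduct.induction_on with
    | zero => simp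
    | add x y hx hy => simp only [map_add, add_tmul, hx, hy]
    | tmul x y =>
      simp [hqD _ y.2, Algebra.algebraMap_eq_smul_one, smul_tmul']
  have hfb : ∀ b : unipSub k A, f b = 1 ⊗ₜ gB b := by
    intro b
    obtain ⟨z, hz⟩ := hB.1 b b.2
    have h := congrArg (TensorProduct.lid k A) (Coalgebra.rTensor_counit_comul (R := k) (b : A))
    rw [TensorProduct.lid_tmul, one_smul, ← hz] at h
    show Algebra.TensorProduct.map _ _ (comul (R := k) (b : A)) = 1 ⊗ₜ Ideal.Quotient.mkₐ k I (b : A)
    rw [← hz, ← h]
    clear hz h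
    induction z using TensorProduct.induction_on with
    | zero => simp
    | add x y hx hy => simp only [map_add, tmul_add, hx, hy]
    | tmul x y =>
      simp [hqB _ x.2, Algebra.algebraMap_eq_smul_one, smul_tmul']
  have hfm : ∀ z, f (m z) = TensorProduct.map gD gB z := by
    intro z
    induction z using TensorProduct.induction_on with
    | zero => simp
    | add x y hx hy => simp only [map_add, hx, hy]
    | tmul d b =>
      show f ((d : A) * b) = _
      rw [map_mul, hfd, hfb, Algebra.TensorProduct.tmul_mul_tmul, one_mul, mul_one, TensorProduct.map_tmul]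
  have hgD : Function.Injective gD := by
    rw [← LinearMap.ker_eq_bot, Submodule.eq_bot_iff]
    intro d hd
    exact Subtype.ext (eq_zero_of_mk_eq_zero hJeq d.2 (LinearMap.mem_ker.1 hd))
  have hgB : ∀ n, ∀ x ∈ socSeries k A A n, Ideal.Quotient.mk I x = 0 → x = 0 := by
    intro n
    induction n with
    | zero => intro x hx _; exact (Submodule.mem_bot _).1 hx
    | succ n ih =>
      intro x hx h0
      obtain ⟨z, hz⟩ := (mem_fixStep_iff_coact (socSeries k A A n) x).2 hx
      let N := (socSeries k A A n).restrictScalars k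
      let mI := (Ideal.Quotient.mkₐ k I).toLinearMap
      have hi : Function.Injective (mI ∘ₗ N.subtype) := by
        rw [← LinearMap.ker_eq_bot, Submodule.eq_bot_iff]
        intro y hy
        exact Subtype.ext (ih _ y.2 (LinearMap.mem_ker.1 hy))
      have h2 : TensorProduct.map mI mI (comul (R := k) x) = 0 := by
        have h := CoalgHomClass.map_comp_comul_apply q x
        rw [show q x = 0 from h0, map_zero] at h
        exact h
      have hz' : mI.lTensor N z = 0 := by
        refine Module.Flat.rTensor_preserves_injective_linearMap (M := A ⧸ I) _ hi ?_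
        rw [map_zero]
        refine Eq.trans ?_ (show TensorProduct.map mI mI (comul (R := k) x - x ⊗ₜ 1) = 0 by
          rw [map_sub, h2, TensorProduct.map_tmul, show mI x = 0 from h0, zero_tmul, sub_zero])
        rw [show comul (R := k) x - x ⊗ₜ[k] (1 : A) = N.subtype.rTensor A z from hz.symm]
        clear hz h2
        induction z using TensorProduct.induction_on with
        | zero => simp
        | add a b ha hb => simp only [map_add, ha, hb]
        | tmul a b => simp [mI]
      have hinv : Algebra.TensorProduct.map (AlgHom.id k A) (Ideal.Quotient.mkₐ k I) (comul (R := k) x) =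
          x ⊗ₜ[k] (1 : A ⧸ I) := by
        rw [show comul (R := k) x = x ⊗ₜ[k] (1 : A) + N.subtype.rTensor A z by
          rw [show N.subtype.rTensor A z = comul (R := k) x - x ⊗ₜ[k] (1 : A) from hz]; abel,
          map_add, Algebra.TensorProduct.map_tmul, map_one, AlgHom.id_apply, add_eq_left]
        refine Eq.trans ?_ (congrArg (N.subtype.rTensor (A ⧸ I)) hz' |>.trans (map_zero _))
        clear hz hz'
        induction z using TensorProduct.induction_on with
        | zero => simp
        | add a b ha hb => simp only [map_add, ha, hb]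
        | tmul a b => simp [mI]
      have hxD : x ∈ D := Groth.Agent.HopfFF.mem_of_invariant hD.1 hD.2 (J := I) le_rfl hinv
      have hxB : x ∈ unipSub k A := ⟨n + 1, hx⟩
      have hx1 := eq_zero_of_mk_eq_zero hJeq (sub_mem hxD (D.algebraMap_mem (counit (R := k) x)))
        (by rw [map_sub, hqB x hxB, Ideal.Quotient.mk_algebraMap, sub_self])
      have hε : counit (R := k) x = 0 := by
        rw [← CoalgHomClass.counit_comp_apply q x, show q x = 0 from h0, map_zero]
      rw [sub_eq_zero.1 hx1, hε, map_zero]
  have hgB' : Function.Injective gB := by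
    rw [← LinearMap.ker_eq_bot, Submodule.eq_bot_iff]
    intro b hb
    obtain ⟨n, hn⟩ := b.2
    exact Subtype.ext (hgB n _ hn (LinearMap.mem_ker.1 hb))
  have hbij : Function.Bijective f := by
    refine ⟨fun a a' h => ?_, fun y => ?_⟩
    · obtain ⟨z, rfl⟩ := hm a
      obtain ⟨z', rfl⟩ := hm a'
      rw [hfm, hfm] at h
      rw [TensorProduct.map_injective_of_flat_flat gD gB hgD hgB' h]
    · induction y using TensorProduct.induction_on with
      | zero => exact ⟨0, map_zero f⟩
      | add x y hx hy =>
        obtain ⟨a, rfl⟩ := hx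
        obtain ⟨b, rfl⟩ := hy
        exact ⟨a + b, map_add f a b⟩
      | tmul x y =>
        obtain ⟨a, rfl⟩ := Ideal.Quotient.mk_surjective x
        obtain ⟨b, rfl⟩ := Ideal.Quotient.mk_surjective y
        have hx : ∀ a, ∃ d : D, gD d = Ideal.Quotient.mk J a := by
          intro a
          obtain ⟨z, rfl⟩ := hm a
          induction z using TensorProduct.induction_on with
          | zero => exact ⟨0, by simp⟩
          | add u v hu hv =>
            obtain ⟨d, hd⟩ := hu
            obtain ⟨e, he⟩ := hv
            exact ⟨d + e, by simp only [map_add, hd, he]⟩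
          | tmul d b =>
            refine ⟨counit (R := k) (b : A) • d, ?_⟩
            show _ = Ideal.Quotient.mk J ((d : A) * b)
            rw [map_mul, hqB _ b.2, mul_comm, ← Algebra.smul_def, map_smul]
            rfl
        have hy : ∀ a, ∃ b : unipSub k A, gB b = Ideal.Quotient.mk I a := by
          intro a
          obtain ⟨z, rfl⟩ := hm a
          induction z using TensorProduct.induction_on with
          | zero => exact ⟨0, by simp⟩
          | add u v hu hv =>
            obtain ⟨d, hd⟩ := hu
            obtain ⟨e, he⟩ := hv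
            exact ⟨d + e, by simp only [map_add, hd, he]⟩
          | tmul d b =>
            refine ⟨counit (R := k) (d : A) • b, ?_⟩
            show _ = Ideal.Quotient.mk I ((d : A) * b)
            rw [map_mul, hqD _ d.2, ← Algebra.smul_def, map_smul]
            rfl
        obtain ⟨d, hd⟩ := hx a
        obtain ⟨e, he⟩ := hy b
        exact ⟨m (d ⊗ₜ e), by rw [hfm, TensorProduct.map_tmul, hd, he]⟩
  refine ⟨I, ⟨hI, hUI, hbij⟩, ?_⟩
  rintro I' ⟨hI', hU', hbij'⟩
  let q' : A →ₐc[k] A ⧸ I' := Bialgebra.Quotient.mkBialgHom (R := k) I'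
  have hle : I ≤ I' := by
    refine Ideal.span_le.2 fun a ⟨ha, hε⟩ => ?_
    let π : K ⊗[k] A →ₐc[K] K ⊗[k] (A ⧸ I') := Bialgebra.TensorProduct.map (BialgHom.id K K) q'
    have key : ∀ y ∈ Submodule.span K {g : K ⊗[k] A | IsGroupLikeElem K g},
        π y = counit (R := K) y • 1 := by
      intro y hy
      induction hy using Submodule.span_induction with
      | mem g hg => rw [groupLike_eq_one hU' (hg.map π), hg.counit_eq_one, one_smul]
      | zero => simp
      | add u v _ _ hu hv => rw [map_add, map_add, hu, hv, add_smul]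
      | smul c u _ hu => rw [map_smul, map_smul, hu, smul_assoc]
    have h := key _ ((mem_multSub k K A).1 ha)
    have e : counit (R := K) ((1 : K) ⊗ₜ[k] a) = 0 := by simp [hε]
    rw [e, zero_smul] at h
    have h' : (1 : K) ⊗ₜ[k] Ideal.Quotient.mk I' a = (1 : K) ⊗ₜ[k] (0 : A ⧸ I') := by
      rw [tmul_zero]; simpa [π, q'] using h
    exact Ideal.Quotient.eq_zero_iff_mem.1 (includeRight_injective' h')
  refine le_antisymm (fun x hx => ?_) hle
  let qf : A ⧸ I →ₐ[k] A ⧸ I' := Ideal.Quotient.factorₐ k hle
  have hcomp : ∀ a, qf.toLinearMap.lTensor (A ⧸ J) (f a) =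
      ((Algebra.TensorProduct.map (Ideal.Quotient.mkₐ k J) (Ideal.Quotient.mkₐ k I')).comp
        (Bialgebra.comulAlgHom k A)) a := by
    intro a
    simp only [f, AlgHom.comp_apply]
    generalize Bialgebra.comulAlgHom k A a = z
    induction z using TensorProduct.induction_on with
    | zero => simp
    | add u v hu hv => simp only [map_add, hu, hv]
    | tmul u v => simp [qf]
  obtain ⟨a, ha⟩ := hbij.2 ((1 : A ⧸ J) ⊗ₜ[k] Ideal.Quotient.mk I x)
  have hzero : ((Algebra.TensorProduct.map (Ideal.Quotient.mkₐ k J) (Ideal.Quotient.mkₐ k I')).comp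
        (Bialgebra.comulAlgHom k A)) a = 0 := by
    rw [← hcomp, ha]
    simp [qf, Ideal.Quotient.eq_zero_iff_mem.2 hx]
  have ha0 : a = 0 := hbij'.1 (hzero.trans (map_zero _).symm)
  rw [ha0, map_zero] at ha
  haveI : Nontrivial (A ⧸ J) := by
    refine ⟨⟨1, 0, fun h => one_ne_zero (α := k) ?_⟩⟩
    have := congrArg (counit (R := k)) h
    rwa [Bialgebra.counit_one, map_zero] at this
  refine Ideal.Quotient.eq_zero_iff_mem.1
    (Algebra.TensorProduct.includeRight_injective (algebraMap k (A ⧸ J)).injective ?_)
  simp [← ha]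

end Groth.Agent.S5433
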