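import Groth.Statements.S5434
import Groth.Agent.SepLocIso.SchDense
-- import your own Groth.Agent.* helpers here

set_option autoImplicit false
universe u
open CategoryTheory MonoidalCategory CartesianMonoidalCategory MonObj GrpObj AlgebraicGeometry CategoryTheory.Limits
open SGA3x

namespace Groth.Agent.S5434

/-- Let X be an S-scheme and U an open subscheme of X which is schematically dense in X relative to S:
for every S′ → S the preimage of U in X ×_S S′ is schematically dense (restriction of functions to
it is injective on every open). Let Y be an S-scheme whose fibres Y_s are separated (over κ(s)). If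
two S-morphisms f, g : X → Y agree on U, then f = g. -/
theorem result (S : Scheme.{u}) (X Y : Over S) (U : X.left.Opens) (hU : (∀ (S' : Scheme.{u}) (g : S' ⟶ S), CInt.IsSchematicallyDense ((pullback.fst X.hom g) ⁻¹ᵁ U)))
    (hY : ∀ s : S, IsSeparated (pullback.snd Y.hom (S.fromSpecResidueField s)))
    (f g : X ⟶ Y) (h : U.ι ≫ f.left = U.ι ≫ g.left) : f = g := by
    have hUtot : CInt.IsSchematicallyDense U := by
      have h1 := hU S (𝟙 S)
      haveI : IsIso (pullback.fst X.hom (𝟙 S)) := inferInstance
      intro V a b hab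
      let p := pullback.fst X.hom (𝟙 S)
      apply (ConcreteCategory.bijective_of_isIso (p.app V)).1
      apply h1 (p ⁻¹ᵁ V)
      have hn := p.naturality (homOfLE (inf_le_left : V ⊓ U ≤ V)).op
      have := congrArg (p.app (V ⊓ U)) hab
      rw [← CommRingCat.comp_apply, ← CommRingCat.comp_apply, hn] at this
      exact this
    have hpt : ∀ x : X.left, f.left x = g.left x := by
      intro x
      let s := X.hom x
      let κ := S.fromSpecResidueField s
      let p := pullback.fst X.hom κ
      obtain ⟨x', hx'⟩ : x ∈ Set.range p := by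
        rw [Scheme.Pullback.range_fst, Scheme.range_fromSpecResidueField]
        rfl
      haveI := hY s
      let F : pullback X.hom κ ⟶ pullback Y.hom κ :=
        pullback.map _ _ _ _ f.left (𝟙 _) (𝟙 _) (by simp) (by simp)
      let G : pullback X.hom κ ⟶ pullback Y.hom κ :=
        pullback.map _ _ _ _ g.left (𝟙 _) (𝟙 _) (by simp) (by simp)
      have hFG : F = G := by
        refine SepLocIso.eq_of_schDense (hU _ κ) (pullback.snd Y.hom κ) F G ((pullback.lift_snd _ _ _).trans (pullback.lift_snd _ _ _).symm) ?_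
        have hl : (p ⁻¹ᵁ U).ι ≫ p = (p ∣_ U) ≫ U.ι := (morphismRestrict_ι p U).symm
        apply pullback.hom_ext
        · simp only [F, G, pullback.map, Category.assoc, pullback.lift_fst]
          rw [reassoc_of% hl, reassoc_of% hl, h]
        · simp only [F, G, pullback.map, Category.assoc, pullback.lift_snd]
      have := congrArg (fun m => (m ≫ pullback.fst Y.hom κ).base x') hFG
      simp only [F, G, pullback.map, pullback.lift_fst] at this
      rw [← hx']
      exact this
    ext : 1
    refine Scheme.Cover.hom_ext (X.left.openCoverOfIsOpenCover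
      (fun V : Y.left.affineOpens => (f.left ⁻¹ᵁ V.1)) ?_) _ _ fun V => ?_
    · refine TopologicalSpace.Opens.ext (Set.eq_univ_of_forall fun x => ?_)
      obtain ⟨_, ⟨V, hV, rfl⟩, hxV, -⟩ :=
        Y.left.isBasis_affineOpens.exists_subset_of_mem_open (Set.mem_univ (f.left x)) isOpen_univ
      simpa using ⟨V, hV, hxV⟩
    · show (f.left ⁻¹ᵁ V.1).ι ≫ f.left = (f.left ⁻¹ᵁ V.1).ι ≫ g.left
      let W := f.left ⁻¹ᵁ V.1
      haveI : IsAffine V.1.toScheme := V.2
      have hr1 : Set.range (W.ι ≫ f.left) ⊆ Set.range V.1.ι := by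
        rintro _ ⟨w, rfl⟩; rw [Scheme.Opens.range_ι]; exact w.2
      have hr2 : Set.range (W.ι ≫ g.left) ⊆ Set.range V.1.ι := by
        rintro _ ⟨w, rfl⟩; rw [Scheme.Opens.range_ι, Scheme.Hom.comp_apply, ← hpt]; exact w.2
      let a := IsOpenImmersion.lift V.1.ι _ hr1
      let b := IsOpenImmersion.lift V.1.ι _ hr2
      have ha : a ≫ V.1.ι = W.ι ≫ f.left := IsOpenImmersion.lift_fac _ _ _
      have hb : b ≫ V.1.ι = W.ι ≫ g.left := IsOpenImmersion.lift_fac _ _ _
      have hW : CInt.IsSchematicallyDense (W.ι ⁻¹ᵁ U) := by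
        intro T x y hxy
        apply (ConcreteCategory.bijective_of_isIso (W.ι.appIso T).inv).1
        apply hUtot (W.ι ''ᵁ T)
        have hle : W.ι ''ᵁ T ⊓ U ≤ W.ι ''ᵁ (T ⊓ W.ι ⁻¹ᵁ U) := by
          rintro z ⟨⟨w, hw, rfl⟩, hz⟩
          exact ⟨w, ⟨hw, hz⟩, rfl⟩
        have := congrArg (X.left.presheaf.map (homOfLE hle).op) hxy
        have hc : W.toScheme.presheaf.map (homOfLE (inf_le_left : T ⊓ W.ι ⁻¹ᵁ U ≤ T)).op ≫ X.left.presheaf.map (homOfLE hle).op
            = (W.ι.appIso T).inv ≫ X.left.presheaf.map (homOfLE (inf_le_left : W.ι ''ᵁ T ⊓ U ≤ W.ι ''ᵁ T)).op := by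
          rw [Scheme.Opens.toScheme_presheaf_map, Scheme.Opens.ι_appIso, Iso.refl_inv]
          exact ((X.left.presheaf.map_comp _ _).symm.trans (Category.id_comp _).symm : _)
        exact (congrArg (fun m => m.hom x) hc).symm.trans (this.trans (congrArg (fun m => m.hom y) hc))
      have hab : a = b := by
        refine SepLocIso.eq_of_schDense hW (terminal.from _) a b (terminal.hom_ext _ _) ?_
        rw [← cancel_mono V.1.ι, Category.assoc, Category.assoc, ha, hb, ← morphismRestrict_ι_assoc, ← morphismRestrict_ι_assoc, h]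
      rw [← ha, ← hb, hab]

end Groth.Agent.S5434
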