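import Groth.Statements.S5435
import Groth.Agent.S0346
import Groth.Agent.S5434
-- import your own Groth.Agent.* helpers here

set_option autoImplicit false
universe u
open CategoryTheory MonoidalCategory CartesianMonoidalCategory MonObj GrpObj AlgebraicGeometry CategoryTheory.Limits
open SGA3x

namespace Groth.Agent.S5435

/-- Let G be an S-group scheme, flat and locally of finite presentation over S, U an open subscheme of G
schematically dense in G relative to S (after every base change), and H an S-group scheme. Then a
homomorphism G → H is determined by its restriction to U: two homomorphisms f, g : G → H with the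
same restriction to U are equal. (No separatedness of H is needed. The published statement allows H
to be any sheaf of groups for the fppf topology; this row takes H a group scheme.) -/
theorem result (S : Scheme.{u}) (G H : Over S) [GrpObj G] [GrpObj H] [Flat G.hom] [LocallyOfFinitePresentation G.hom]
    (U : G.left.Opens) (hU : (∀ (S' : Scheme.{u}) (g : S' ⟶ S), CInt.IsSchematicallyDense ((pullback.fst G.hom g) ⁻¹ᵁ U)))
    (f g : G ⟶ H) [IsMonHom f] [IsMonHom g] (h : U.ι ≫ f.left = U.ι ≫ g.left) : f = g := by
  refine Groth.Agent.S5434.result S G H U hU (fun s => ?_) f g h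
  let κ := S.fromSpecResidueField s
  let H' := (Over.pullback κ).obj H
  letI : GrpObj H' := Functor.grpObjObj
  show IsSeparated H'.hom
  refine (Groth.Agent.S0346.result _ H').1.mpr ?_
  let σ : Spec (S.residueField s) ⟶ H'.left := η[H'].left
  have hσ : σ ≫ H'.hom = 𝟙 _ := Over.w η[H']
  haveI : IsImmersion (σ ≫ H'.hom) := by rw [hσ]; infer_instance
  haveI : IsImmersion σ := IsImmersion.of_comp σ H'.hom
  refine IsClosedImmersion.of_isPreimmersion σ ?_
  let pt : Spec (S.residueField s) := default
  have hr : Set.range σ = {σ pt} := by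
    ext z
    constructor
    · rintro ⟨x, rfl⟩; rw [Subsingleton.elim x pt]; rfl
    · rintro rfl; exact ⟨pt, rfl⟩
  rw [hr, ← closure_subset_iff_isClosed]
  intro y' hy'
  obtain ⟨W, hW, hyW, -⟩ := exists_isAffineOpen_mem_and_subset (x := y') (U := ⊤) trivial
  have hy : σ pt ∈ W := (specializes_iff_mem_closure.mpr hy').mem_open W.2 hyW
  haveI : IsAffine W.toScheme := hW
  have hsub : Set.range σ ⊆ Set.range W.ι := by
    rw [hr, Scheme.Opens.range_ι, Set.singleton_subset_iff]; exact hy
  let σW := IsOpenImmersion.lift W.ι σ hsub
  haveI : IsSeparated (W.ι ≫ H'.hom) := inferInstance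
  haveI : IsClosedImmersion (σW ≫ (W.ι ≫ H'.hom)) := by
    rw [← Category.assoc, IsOpenImmersion.lift_fac, hσ]; infer_instance
  haveI : IsClosedImmersion σW := IsClosedImmersion.of_comp σW (W.ι ≫ H'.hom)
  have hcl : IsClosed (Set.range σW) := σW.isClosedEmbedding.isClosed_range
  have hmem : (⟨y', hyW⟩ : W.toScheme) ∈ closure (Set.range σW) := by
    rw [W.ι.isOpenEmbedding.isEmbedding.closure_eq_preimage_closure_image, ← Set.range_comp]
    show y' ∈ closure _
    have : (⇑W.ι ∘ ⇑σW) = ⇑σ := by
      funext x
      exact congrArg (fun m => m.base x) (IsOpenImmersion.lift_fac W.ι σ hsub)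
    rw [this, hr]
    exact hy'
  rw [hcl.closure_eq] at hmem
  obtain ⟨x, hx⟩ := hmem
  have : σ x = y' := by
    rw [← IsOpenImmersion.lift_fac W.ι σ hsub]
    exact congrArg (fun z => W.ι z) hx
  rw [← this]
  exact Subsingleton.elim x pt ▸ rfl

end Groth.Agent.S5435
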