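import Groth.Statements.S5439
import Groth.Agent.CommGrpDecomp.EtaleKer
import Groth.Agent.MultType.Quot


set_option autoImplicit false
universe u
open TensorProduct
open SGA3

namespace Groth.Agent.S5439

open TensorProduct Groth.Agent.CommGrpDecomp Groth.Agent.ComodBasic in
set_option synthInstance.maxHeartbeats 200000 in
set_option maxHeartbeats 800000 in
private theorem exists_field_diag (k : Type u) [Field k] (Q : Type u) [CommRing Q] [HopfAlgebra k Q]
    (h : SGA3b.IsMultTypeConst k Q) : ∃ (K : Type u) (_ : Field K) (_ : Algebra k K),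
      HopfRep.IsDiagonalizable K (K ⊗[k] Q) := by
  obtain ⟨R', _, _, hff, M, _, ⟨e⟩⟩ := h
  haveI : Nontrivial R' := by
    by_contra h
    rw [not_nontrivial_iff_subsingleton] at h
    exact Module.FaithfullyFlat.submodule_ne_top (R := k) (M := R') (m := ⊥) Ideal.bot_isMaximal
      (Submodule.eq_top_iff'.2 fun x => by rw [Subsingleton.elim x 0]; exact zero_mem _)
  obtain ⟨p, hp⟩ := Ideal.exists_maximal R'
  letI : Field (R' ⧸ p) := Ideal.Quotient.field p
  let qm : R' →ₐ[k] R' ⧸ p := Ideal.Quotient.mkₐ k p
  let f : R' ⊗[k] Q →ₐ[k] (R' ⧸ p) ⊗[k] Q := Algebra.TensorProduct.map qm (AlgHom.id k Q)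
  let θ : R' ⊗[k] Q →ₐ[R'] (R' ⧸ p) ⊗[k] Q :=
    Algebra.TensorProduct.map (Algebra.ofId R' (R' ⧸ p)) (AlgHom.id k Q)
  have hθ : Groth.Agent.MultType.Compat (R' ⧸ p) θ := by
    refine ⟨fun x => ?_, fun x => ?_⟩
    · induction x using TensorProduct.induction_on with
      | zero => simp
      | add a b ha hb => simp only [map_add, ha, hb]
      | tmul r a => simp [θ, Algebra.smul_def]
    · induction x using TensorProduct.induction_on with
      | zero => simp
      | add a b ha hb => simp only [map_add, ha, hb]
      | tmul r a =>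
        simp only [θ, Algebra.TensorProduct.map_tmul, AlgHom.coe_id, id_eq, TensorProduct.comul_tmul,
          CommSemiring.comul_apply]
        generalize Coalgebra.comul (R := k) a = z
        induction z using TensorProduct.induction_on with
        | zero => simp
        | add a b ha hb => simp only [tmul_add, map_add, ha, hb]
        | tmul a b => simp [← Algebra.TensorProduct.one_def]
  have hf : ∀ g, IsGroupLikeElem R' g → IsGroupLikeElem (R' ⧸ p) (f g) := fun g hg =>
    (show f g = θ g by
      clear hg
      induction g using TensorProduct.induction_on with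
      | zero => simp
      | add a b ha hb => simp only [map_add, ha, hb]
      | tmul r a => simp [f, θ, qm]) ▸ hθ.isGroupLikeElem hg
  refine ⟨R' ⧸ p, inferInstance, inferInstance, ?_⟩
  refine top_le_iff.1 fun y _ => ?_
  obtain ⟨x, rfl⟩ := (show Function.Surjective f from by
    intro y
    induction y using TensorProduct.induction_on with
    | zero => exact ⟨0, map_zero f⟩
    | tmul r a =>
      obtain ⟨r, rfl⟩ := Ideal.Quotient.mk_surjective r
      exact ⟨r ⊗ₜ a, by simp [f, qm]⟩
    | add a b ha hb =>
      obtain ⟨a, rfl⟩ := ha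
      obtain ⟨b, rfl⟩ := hb
      exact ⟨a + b, map_add f a b⟩) y
  obtain ⟨w, rfl⟩ := (EquivLike.surjective e.symm) x
  induction w using MonoidAlgebra.induction_linear with
  | zero => simp
  | add a b ha hb => rw [map_add, map_add]; exact add_mem (ha trivial) (hb trivial)
  | single m r =>
    rw [← mul_one r, ← MonoidAlgebra.smul_single', map_smul,
      Algebra.smul_def, map_mul]
    have h1 : f (algebraMap R' (R' ⊗[k] Q) r) = algebraMap (R' ⧸ p) _ (qm r) := by simp [f, qm]
    rw [h1, ← Algebra.smul_def]
    exact Submodule.smul_mem _ _ (Submodule.subset_span (hf _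
      ((MonoidAlgebra.isGroupLikeElem_single_one (R := R') (A := R') m).map e.symm)))


open Groth.Agent.CommGrpDecomp Groth.Agent.ComodBasic


open CoalgebraStruct


/-- Let k be a field, A a finitely generated commutative Hopf algebra (an algebraic group E), ψ : B → A
an injective bialgebra map from a finitely generated Hopf algebra B of multiplicative type (the
quotient H), J the Hopf ideal generated by the image of the augmentation ideal of B (the kernel U =
Spec (A/J)), with U unipotent in the fixed-vector sense and étale over k (A/J an étale k-algebra).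
If H is connected (B has no idempotents other than 0 and 1), then there is exactly one lifting of H
in E, i.e. exactly one bialgebra map r : A → B with r ∘ ψ = id. (The published statement also
identifies this lifting as the identity component of E; this row omits that.) -/
theorem result (k : Type u) [Field k] (A B : Type u) [CommRing A] [HopfAlgebra k A] [Algebra.FiniteType k A] [CommRing B] [HopfAlgebra k B]
    [Algebra.FiniteType k B] (hB : SGA3b.IsMultTypeConst k B) (ψ : B →ₐc[k] A) (hψ : Function.Injective ψ)
    (J : Ideal A) [J.IsHopfIdeal k] (hJ : J = Ideal.map (ψ : B →+* A) (RingHom.ker (Bialgebra.counitAlgHom k B)))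
    (hU : HopfRep.IsUnipotent k (A ⧸ J)) [Algebra.Etale k (A ⧸ J)]
    (hH : ∀ e : B, IsIdempotentElem e → e = 0 ∨ e = 1) :
    ∃! r : A →ₐc[k] B, r.comp ψ = BialgHom.id k B := by
  classical
  let K := AlgebraicClosure k
  obtain ⟨L0, _, _, hL0⟩ := exists_field_diag k B hB
  let j : separableClosure k L0 →ₐ[k] K := IsAlgClosed.lift
  have hBK := isDiagonalizable_map (K := K) j (isDiagonalizable_separableClosure hL0)
  obtain ⟨r, e, he, hre, hεe, hrψ, hdec⟩ := exists_retr_idem hBK ψ hψ J hJ hU
  have hconnK : ∀ g : K ⊗[k] B, IsIdempotentElem g → g = 0 ∨ g = 1 := fun g hg =>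
    eq_zero_or_one_baseChange hH (Bialgebra.counitAlgHom k B) hg
  -- any idempotent away from the origin lies in `(e)`
  have hU' : ∀ g : K ⊗[k] A, IsIdempotentElem g → counit (R := K) g = 0 → g * e = g := by
    intro g hg hε
    have h0 : r g = 0 := by
      refine (hconnK _ (hg.map r)).resolve_right fun h1 => ?_
      have := CoalgHomClass.counit_comp_apply r g
      rw [h1, hε, Bialgebra.counit_one] at this
      exact one_ne_zero this
    have h := hdec g
    rwa [h0, map_zero, zero_mul, mul_sub, mul_one, sub_eq_zero, eq_comm] at h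
  let b := Module.Free.chooseBasis k A
  have hgal : ∀ σ : K ≃ₐ[k] K, σ.toLinearMap.rTensor A e = e := by
    intro σ
    let s : (K ≃ₐ[k] K) → K ⊗[k] A →ₐ[k] K ⊗[k] A := fun τ =>
      Algebra.TensorProduct.map (τ : K →ₐ[k] K) (AlgHom.id k A)
    have hs : ∀ τ x, counit (R := K) (s τ x) = τ (counit (R := K) x) := by
      intro τ x
      induction x using TensorProduct.induction_on with
      | zero => simp
      | add x y hx hy => simp only [map_add, hx, hy]
      | tmul c a => simp [s, map_smul]
    have hsc : ∀ x, s σ (s σ.symm x) = x := by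
      intro x
      induction x using TensorProduct.induction_on with
      | zero => simp
      | add x y hx hy => simp only [map_add, hx, hy]
      | tmul c a => simp [s]
    have h1 := hU' (s σ e) (he.map _) (by rw [hs, hεe, map_zero])
    have h2 := congrArg (s σ) (hU' (s σ.symm e) (he.map _) (by rw [hs, hεe, map_zero]))
    rw [map_mul, hsc] at h2
    show s σ e = e
    rw [← h1, mul_comm, h2]
  haveI : Nontrivial (K ⊗[k] A) := (Bialgebra.counitAlgHom K (K ⊗[k] A)).toRingHom.domain_nontrivial
  obtain ⟨q, hqk⟩ := ExpChar.exists k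
  haveI : ExpChar (K ⊗[k] A) q := expChar_of_injective_ringHom (algebraMap k (K ⊗[k] A)).injective q
  have hcoef : ∀ i, ∃ n, ((b.baseChange K).repr e i) ^ q ^ n ∈ (algebraMap k K).range := by
    intro i
    refine exists_pow_mem_range q fun σ => ?_
    have hcoord : ∀ (v : K ⊗[k] A), (b.baseChange K).repr (σ.toLinearMap.rTensor A v) i = σ ((b.baseChange K).repr v i) := by
      intro v
      induction v using TensorProduct.induction_on with
      | zero => simp
      | add x y hx hy => simp [hx, hy]
      | tmul c a => simp [map_smul]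
    rw [← hcoord, hgal]
  choose n hn using hcoef
  let S := ((b.baseChange K).repr e).support
  let N := S.sup n
  have hcN : ∀ i ∈ S, ∃ c : k, algebraMap k K c = ((b.baseChange K).repr e i) ^ q ^ N := by
    intro i hi
    obtain ⟨c, hc⟩ := hn i
    refine ⟨c ^ q ^ (N - n i), ?_⟩
    rw [map_pow, hc, ← pow_mul, ← pow_add, Nat.add_sub_cancel' (Finset.le_sup hi)]
  choose c hc using hcN
  let e0 : A := ∑ i ∈ S.attach, c i.1 i.2 • b i ^ q ^ N
  have he0 : (1 : K) ⊗ₜ[k] e0 = e := by
    have hq : e ^ q ^ N = e := by
      rcases Nat.eq_zero_or_pos (q ^ N) with h | h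
      · exact absurd h (pow_ne_zero _ (expChar_ne_zero k q))
      · obtain ⟨m, hm⟩ := Nat.exists_eq_succ_of_ne_zero h.ne'
        rw [hm]; exact he.pow_succ_eq m
    conv_rhs => rw [← hq, ← (b.baseChange K).linearCombination_repr e, Finsupp.linearCombination_apply,
      Finsupp.sum, sum_pow_char_pow, ← Finset.sum_attach]
    rw [tmul_sum]
    refine Finset.sum_congr rfl fun i _ => ?_
    rw [Module.Basis.baseChange_apply, smul_tmul', smul_eq_mul, mul_one, Algebra.TensorProduct.tmul_pow,
      ← hc i.1 i.2, Algebra.algebraMap_eq_smul_one, smul_tmul]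
  have hinj : ∀ {X : Type u} [AddCommGroup X] [Module k X] {x y : X},
      (1 : K) ⊗ₜ[k] x = (1 : K) ⊗ₜ[k] y → x = y := by
    intro X _ _ x y h
    rw [← sub_eq_zero]
    refine mem_of_one_tmul (K := K) (R := (⊥ : Submodule k X)) ?_
    rw [tmul_sub, h, sub_self]
    exact zero_mem _
  -- rationality of the retraction
  let μ : B →ₗ[k] A := LinearMap.mulRight k (1 - e0) ∘ₗ (ψ : B →ₐ[k] A).toLinearMap
  have h1e : (1 : K ⊗[k] A) - e = (1 : K) ⊗ₜ[k] (1 - e0) := by
    rw [tmul_sub, he0, ← Algebra.TensorProduct.one_def]
  have hfA : ∀ a, ∃ d : B, r ((1 : K) ⊗ₜ[k] a) = (1 : K) ⊗ₜ[k] d := by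
    intro a
    obtain ⟨d, hd⟩ : a * (1 - e0) ∈ LinearMap.range μ := by
      refine mem_of_one_tmul (K := K) ?_
      have h := hdec ((1 : K) ⊗ₜ[k] a)
      rw [h1e, Algebra.TensorProduct.tmul_mul_tmul, one_mul] at h
      rw [h]
      generalize r ((1 : K) ⊗ₜ[k] a) = w
      induction w using TensorProduct.induction_on with
      | zero => simp
      | add x y hx hy => simp only [map_add, add_mul]; exact add_mem hx hy
      | tmul t d => exact ⟨t ⊗ₜ ⟨μ d, d, rfl⟩, by simp [μ]⟩
    refine ⟨d, ?_⟩
    have h3 : (1 : K) ⊗ₜ[k] a * (1 - e) = (1 : K) ⊗ₜ[k] ψ d * (1 - e) := by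
      rw [h1e, Algebra.TensorProduct.tmul_mul_tmul, Algebra.TensorProduct.tmul_mul_tmul, one_mul]
      exact congrArg _ hd.symm
    have h4 := congrArg r h3
    have h5 := hrψ ((1 : K) ⊗ₜ[k] d)
    rw [Algebra.TensorProduct.map_tmul, AlgHom.id_apply] at h5
    rw [map_mul, map_mul, map_sub, map_one, show r ((1 : K) ⊗ₜ[k] ψ d) = _ from h5, hre, sub_zero, mul_one, mul_one] at h4
    exact h4
  choose fr hfr using hfA
  let fA : A →ₐ[k] B :=
    { toFun := fr
      map_one' := hinj (by rw [← hfr, ← Algebra.TensorProduct.one_def, map_one]; rfl)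
      map_mul' := fun x y => hinj (by
        rw [← hfr, show (1 : K) ⊗ₜ[k] (x * y) = ((1 : K) ⊗ₜ[k] x) * ((1 : K) ⊗ₜ[k] y) by simp, map_mul, hfr, hfr]
        simp)
      map_zero' := hinj (by rw [← hfr, tmul_zero, tmul_zero, map_zero])
      map_add' := fun x y => hinj (by rw [← hfr, tmul_add, map_add, hfr, hfr, tmul_add])
      commutes' := fun t => hinj (by
        rw [← hfr, Algebra.algebraMap_eq_smul_one, Algebra.algebraMap_eq_smul_one, tmul_smul, tmul_smul,
          ← Algebra.TensorProduct.one_def]
        show (r : K ⊗[k] A →ₐ[K] K ⊗[k] B).toLinearMap (t • 1) = _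
        rw [LinearMap.map_smul_of_tower, AlgHom.toLinearMap_apply, map_one]
        rfl) }
  have hcounit : (Bialgebra.counitAlgHom k B).comp fA = Bialgebra.counitAlgHom k A := by
    refine AlgHom.ext fun a => ?_
    refine (algebraMap k K).injective ?_
    have h := CoalgHomClass.counit_comp_apply r ((1 : K) ⊗ₜ[k] a)
    rw [hfr] at h
    simpa [fA, Algebra.smul_def] using h
  have hcomul : (Algebra.TensorProduct.map fA fA).comp (Bialgebra.comulAlgHom k A) =
      (Bialgebra.comulAlgHom k B).comp fA := by
    refine AlgHom.ext fun a => hinj ?_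
    have h := congrArg (phi2 k K B) (CoalgHomClass.map_comp_comul_apply r ((1 : K) ⊗ₜ[k] a))
    rw [phi2_comul, hfr, Algebra.TensorProduct.map_tmul, AlgHom.id_apply] at h
    simp only [AlgHom.comp_apply]
    refine Eq.trans ?_ h
    simp only [TensorProduct.comul_tmul, CommSemiring.comul_apply, Bialgebra.comulAlgHom_apply]
    generalize comul (R := k) a = z
    induction z using TensorProduct.induction_on with
    | zero => simp
    | add p q hp hq => simp only [map_add, tmul_add, hp, hq]
    | tmul p q => simp [phi2, fA, hfr]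
  refine ⟨BialgHom.ofAlgHom fA hcounit hcomul, BialgHom.ext fun d => hinj ?_, fun r' hr' => BialgHom.ext fun a => ?_⟩
  · show (1 : K) ⊗ₜ[k] fr (ψ d) = (1 : K) ⊗ₜ[k] d
    rw [← hfr]
    exact hrψ ((1 : K) ⊗ₜ[k] d)
  · have he0' : IsIdempotentElem e0 := hinj (by
      have := he.eq
      rwa [← he0, Algebra.TensorProduct.tmul_mul_tmul, one_mul] at this)
    have hre0 : r' e0 = 0 := by
      refine (hH _ (he0'.map r')).resolve_right fun h1 => one_ne_zero (α := K) ?_
      have h2 := CoalgHomClass.counit_comp_apply r' e0
      rw [h1, Bialgebra.counit_one] at h2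
      rw [← hεe, ← he0]
      simp [← h2]
    have h := hdec ((1 : K) ⊗ₜ[k] a)
    rw [hfr, Algebra.TensorProduct.map_tmul, AlgHom.id_apply, h1e, Algebra.TensorProduct.tmul_mul_tmul,
      Algebra.TensorProduct.tmul_mul_tmul, one_mul] at h
    have h2 := congrArg r' (hinj h)
    rw [map_mul, map_mul, map_sub, map_one, hre0, sub_zero, mul_one, mul_one] at h2
    exact h2.trans (DFunLike.congr_fun hr' (fr a))

end Groth.Agent.S5439
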