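import Groth.Statements.S5441
import Groth.Agent.CommGrpDecomp.MultPart
import Groth.Agent.PurelyInsepRed.Basic
import Groth.Agent.HopfFF.SmoothRed


set_option autoImplicit false
universe u
open TensorProduct
open SGA3

namespace Groth.Agent.S5441

open TensorProduct WithConv CoalgebraStruct Groth.Agent.CommGrpDecomp Groth.Agent.ComodBasic

theorem point_ext {k : Type u} [Field k] {A C : Type u} [CommRing A] [HopfAlgebra k A] [Algebra.FiniteType k A]
    [CommRing C] [HopfAlgebra k C] (ψ : C →ₐc[k] A) (J : Ideal A) [J.IsHopfIdeal k]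
    (hJ : J = Ideal.map (ψ : C →+* A) (RingHom.ker (Bialgebra.counitAlgHom k C))) [IsLocalRing (A ⧸ J)]
    {L : Type u} [Field L] [Algebra k L] {x y : A →ₐ[k] L} (h : ∀ c, x (ψ c) = y (ψ c)) : x = y := by
  let Y : WithConv (A →ₐ[k] L) := toConv (y.comp (HopfAlgebra.antipodeAlgHom k A))
  have hyY : Y * toConv y = 1 := by
    refine WithConv.ext (AlgHom.ext fun a => ?_)
    rw [AlgHom.convMul_apply, AlgHom.convOne_apply]
    refine Eq.trans ?_ ((congrArg y (HopfAlgebra.mul_antipode_rTensor_comul_apply (R := k) a)).trans (y.commutes _))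
    generalize comul (R := k) a = z
    induction z using TensorProduct.induction_on with
    | zero => simp
    | add p q hp hq => simp only [map_add, hp, hq]
    | tmul p q => simp [Y]
  have hYy : toConv y * Y = 1 := by
    refine WithConv.ext (AlgHom.ext fun a => ?_)
    rw [AlgHom.convMul_apply, AlgHom.convOne_apply]
    refine Eq.trans ?_ ((congrArg y (HopfAlgebra.mul_antipode_lTensor_comul_apply (R := k) a)).trans (y.commutes _))
    generalize comul (R := k) a = z
    induction z using TensorProduct.induction_on with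
    | zero => simp
    | add p q hp hq => simp only [map_add, hp, hq]
    | tmul p q => simp [Y]
  suffices hz : toConv x * Y = 1 by
    have := congrArg (· * toConv y) hz
    simp only [mul_assoc, hyY, mul_one, one_mul] at this
    exact WithConv.toConv_injective this
  have hψc : ∀ c, (toConv x * Y).ofConv (ψ c) = algebraMap k L (counit (R := k) c) := by
    intro c
    have h2 := congrArg (algebraMap k L) (CoalgHomClass.counit_comp_apply ψ c)
    rw [← h2, ← AlgHom.convOne_apply (R := k) (C := A) (A := L) (ψ c), ← hYy]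
    rw [AlgHom.convMul_apply, AlgHom.convMul_apply, ← CoalgHomClass.map_comp_comul_apply ψ]
    generalize comul (R := k) c = z
    induction z using TensorProduct.induction_on with
    | zero => simp
    | add p q hp hq => simp only [map_add, hp, hq]
    | tmul p q => simp [Y, h]
  have hJ0 : J ≤ RingHom.ker (toConv x * Y).ofConv := by
    rw [hJ, Ideal.map_le_iff_le_comap]
    intro c hc
    show (toConv x * Y).ofConv (ψ c) = 0
    rw [hψc, show counit (R := k) c = 0 from hc, map_zero]
  refine WithConv.ext (AlgHom.ext fun a => ?_)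
  rw [AlgHom.convOne_apply, ← sub_eq_zero, ← AlgHom.commutes (toConv x * Y).ofConv, ← map_sub]
  haveI : IsJacobsonRing A := isJacobsonRing_of_finiteType (A := k) (B := A)
  obtain ⟨n, hn⟩ : IsNilpotent (Ideal.Quotient.mk J (a - algebraMap k A (counit (R := k) a))) := by
    rw [← mem_nilradical, nilradical, Ideal.radical_eq_jacobson, Ideal.zero_eq_bot, IsLocalRing.jacobson_eq_maximalIdeal ⊥ bot_ne_top]
    refine (IsLocalRing.mem_maximalIdeal _).2 fun hu => ?_
    have := hu.map (Bialgebra.counitAlgHom k (A ⧸ J))
    refine not_isUnit_zero (M₀ := k) ?_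
    have h0 : Bialgebra.counitAlgHom k (A ⧸ J) (Ideal.Quotient.mk J (a - algebraMap k A (counit (R := k) a))) = 0 :=
      (CoalgHomClass.counit_comp_apply (Bialgebra.Quotient.mkBialgHom (R := k) J) _).trans (by simp)
    rwa [h0] at this
  refine (show IsNilpotent ((toConv x * Y).ofConv (a - algebraMap k A (counit (R := k) a))) from ⟨n, ?_⟩).eq_zero
  rw [← map_pow]
  exact hJ0 (Ideal.Quotient.eq_zero_iff_mem.1 (by rw [map_pow]; exact hn))


/-- Let k be a perfect field, A a finitely generated commutative Hopf algebra (an algebraic group H), ψ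
: C → A an injective bialgebra map with C an étale k-algebra (the étale quotient H″), J the Hopf
ideal of A generated by the image of the augmentation ideal of C (the kernel H′ = Spec (A/J)), with
A/J a local ring (H′ radiciel). Then H″ lifts uniquely into H and the lifting is the reduced
subgroup: there is exactly one bialgebra map r : A → C with r ∘ ψ = id, and every such r has kernel
the nilradical of A. -/
theorem result (k : Type u) [Field k] [PerfectField k] (A C : Type u) [CommRing A] [HopfAlgebra k A] [Algebra.FiniteType k A]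
    [CommRing C] [HopfAlgebra k C] [Algebra.Etale k C] (ψ : C →ₐc[k] A) (hψ : Function.Injective ψ)
    (J : Ideal A) [J.IsHopfIdeal k] (hJ : J = Ideal.map (ψ : C →+* A) (RingHom.ker (Bialgebra.counitAlgHom k C)))
    [IsLocalRing (A ⧸ J)] :
    (∃! r : A →ₐc[k] C, r.comp ψ = BialgHom.id k C) ∧
    ∀ r : A →ₐc[k] C, r.comp ψ = BialgHom.id k C → RingHom.ker (r : A →+* C) = nilradical A := by
  classical
  let N := nilradical A
  haveI : IsReduced C := Algebra.FormallyUnramified.isReduced_of_field k C
  haveI : IsReduced (C ⊗[k] C) := by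
    haveI : Algebra.FiniteType k (C ⊗[k] C) := Algebra.FiniteType.trans (S := C) inferInstance inferInstance
    haveI : Algebra.FormallyUnramified k (C ⊗[k] C) := Algebra.FormallyUnramified.comp k C (C ⊗[k] C)
    exact Algebra.FormallyUnramified.isReduced_of_field k _
  let π := Ideal.Quotient.mkₐ k N
  let ψb : C →ₐ[k] A ⧸ N := π.comp (ψ : C →ₐ[k] A)
  have hinj : Function.Injective ψb := by
    rw [injective_iff_map_eq_zero]
    intro c hc
    obtain ⟨n, hn⟩ := mem_nilradical.1 (Ideal.Quotient.eq_zero_iff_mem.1 hc)
    refine (show IsNilpotent c from ⟨n, hψ ?_⟩).eq_zero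
    rw [map_pow, map_zero]; exact hn
  haveI : IsReduced (A ⧸ N) := (Ideal.isRadical_iff_quotient_reduced N).1 (Ideal.radical_isRadical ⊥)
  have hsurj : Function.Surjective ψb := by
    let K := AlgebraicClosure k
    haveI : IsReduced (K ⊗[k] (A ⧸ N)) := Groth.Agent.PurelyInsepRed.isReduced_tensor_of_perfectField K
    intro q
    obtain ⟨a, rfl⟩ := Ideal.Quotient.mk_surjective q
    refine mem_of_one_tmul (K := K) (R := LinearMap.range ψb.toLinearMap) ?_
    haveI : Module.Finite k C := Algebra.FormallyUnramified.finite_of_free k C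
    haveI : Module.Finite K (K ⊗[k] C) := inferInstance
    let ψK : K ⊗[k] C →ₐ[K] K ⊗[k] A := Algebra.TensorProduct.map (AlgHom.id K K) (ψ : C →ₐ[k] A)
    let val : (K ⊗[k] C →ₐ[K] K) → K := fun g =>
      if hg : ∃ x : K ⊗[k] A →ₐ[K] K, x.comp ψK = g then hg.choose ((1 : K) ⊗ₜ[k] a) else 0
    haveI : Finite (K ⊗[k] C →ₐ[K] K) := Finite.of_fintype _
    obtain ⟨c, hc⟩ := Ideal.exists_forall_sub_mem_ideal
      (I := fun g : (K ⊗[k] C →ₐ[K] K) => RingHom.ker g) (fun g g' hne => by
        have hmax : ∀ g : K ⊗[k] C →ₐ[K] K, (RingHom.ker g).IsMaximal := fun g =>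
          RingHom.ker_isMaximal_of_surjective g fun t => ⟨algebraMap K _ t, g.commutes t⟩
        refine Ideal.isCoprime_iff_sup_eq.2 ((hmax g).coprime_of_ne (hmax g') fun e => hne ?_)
        refine AlgHom.ext fun t => ?_
        have : t - algebraMap K _ (g t) ∈ RingHom.ker g := by
          rw [RingHom.mem_ker, map_sub, AlgHom.commutes]; simp
        rw [e, RingHom.mem_ker, map_sub, AlgHom.commutes, sub_eq_zero] at this
        exact this.symm)
      (fun g => algebraMap K _ (val g))
    have hnil : IsNilpotent ((1 : K) ⊗ₜ[k] a - ψK c) := by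
      refine Groth.Agent.HopfFF.SmoothCrit.isNilpotent_of_forall_point (k := K) fun x => ?_
      have hx : ∃ y : K ⊗[k] A →ₐ[K] K, y.comp ψK = x.comp ψK := ⟨x, rfl⟩
      have h1 := hc (x.comp ψK)
      rw [RingHom.mem_ker, map_sub, AlgHom.commutes, sub_eq_zero] at h1
      have h2 : val (x.comp ψK) = x ((1 : K) ⊗ₜ[k] a) := by
        simp only [val, dif_pos hx]
        refine AlgHom.congr_fun (point_ext ψ J hJ (x := (hx.choose.restrictScalars k).comp
          Algebra.TensorProduct.includeRight) (y := (x.restrictScalars k).comp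
          Algebra.TensorProduct.includeRight) fun d => ?_) a
        have := AlgHom.congr_fun hx.choose_spec ((1 : K) ⊗ₜ[k] d)
        simpa [ψK] using this
      rw [map_sub, sub_eq_zero, ← h2]
      exact h1.symm
    have h0 := (hnil.map (Algebra.TensorProduct.map (AlgHom.id K K) π)).eq_zero
    rw [map_sub, sub_eq_zero] at h0
    have h0' : (1 : K) ⊗ₜ[k] Ideal.Quotient.mk N a = Algebra.TensorProduct.map (AlgHom.id K K) π (ψK c) := by
      rw [← h0]; simp [π]
    rw [h0']
    clear hnil hc h0 h0'
    induction c using TensorProduct.induction_on with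
    | zero => simp
    | add p q hp hq => simp only [map_add]; exact add_mem hp hq
    | tmul t d => exact ⟨t ⊗ₜ ⟨ψb d, d, rfl⟩, by simp [ψK, ψb]; rfl⟩
  let e := AlgEquiv.ofBijective ψb ⟨hinj, hsurj⟩
  let r : A →ₐ[k] C := e.symm.toAlgHom.comp π
  have hr : ∀ c, r (ψ c) = c := fun c => e.symm_apply_apply c
  have hdiff : ∀ a, IsNilpotent (a - ψ (r a)) := fun a => by
    refine mem_nilradical.1 (Ideal.Quotient.eq.1 ?_)
    exact (e.apply_symm_apply (π a)).symm
  have hcounit : (Bialgebra.counitAlgHom k C).comp r = Bialgebra.counitAlgHom k A := by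
    refine AlgHom.ext fun a => ?_
    have h := ((hdiff a).map (Bialgebra.counitAlgHom k A)).eq_zero
    rw [map_sub, sub_eq_zero] at h
    exact (CoalgHomClass.counit_comp_apply ψ (r a)).symm.trans h.symm
  have hcomul : (Algebra.TensorProduct.map r r).comp (Bialgebra.comulAlgHom k A) =
      (Bialgebra.comulAlgHom k C).comp r := by
    refine AlgHom.ext fun a => ?_
    have h := ((hdiff a).map ((Algebra.TensorProduct.map r r).comp (Bialgebra.comulAlgHom k A))).eq_zero
    rw [map_sub, sub_eq_zero] at h
    rw [h]
    simp only [AlgHom.comp_apply, Bialgebra.comulAlgHom_apply, ← CoalgHomClass.map_comp_comul_apply ψ]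
    generalize comul (R := k) (r a) = z
    induction z using TensorProduct.induction_on with
    | zero => simp
    | add p q hp hq => simp only [map_add, hp, hq]
    | tmul p q => simp [hr]
  refine ⟨⟨BialgHom.ofAlgHom r hcounit hcomul, BialgHom.ext hr, fun r' hr' => ?_⟩, fun r' hr' => ?_⟩
  · refine BialgHom.ext fun a => ?_
    have h := ((hdiff a).map (r' : A →ₐ[k] C)).eq_zero
    rw [map_sub, sub_eq_zero] at h
    exact h.trans (DFunLike.congr_fun hr' (r a))
  · refine le_antisymm (fun a ha => ?_) fun a ha => ((mem_nilradical.1 ha).map (r' : A →+* C)).eq_zero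
    have h := ((hdiff a).map (r' : A →ₐ[k] C)).eq_zero
    rw [map_sub, sub_eq_zero] at h
    have h2 : r a = 0 := (DFunLike.congr_fun hr' (r a)).symm.trans (h.symm.trans ha)
    have := hdiff a
    rwa [h2, map_zero, sub_zero, ← mem_nilradical] at this

end Groth.Agent.S5441
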