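import Groth.Statements.S5442
import Groth.Agent.FixLift.Scheme
import Groth.Agent.Transporter.Subgroup

set_option autoImplicit false
universe u
open CategoryTheory MonoidalCategory CartesianMonoidalCategory MonObj GrpObj AlgebraicGeometry CategoryTheory.Limits
open SGA3x
open Groth.Agent.FixLift Groth.Agent.Transporter Groth.Agent.DiagAction

set_option backward.isDefEq.respectTransparency false

namespace Groth.Agent.S5442

/-- Let S be a scheme, G an S-group scheme separated and smooth over S, and H an S-group of
multiplicative type and of finite type acting on G by group automorphisms (on points, h · (g g′) =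
(h · g)(h · g′)). Then the functor Z = G^H of invariants (points of G fixed by all points of H after
any base change) is representable by a closed subgroup scheme of G which is smooth over S: there are
an S-group Z and a homomorphism Z → G which is a closed immersion, with Z smooth over S, whose
points are exactly the invariant points. (The published statement allows any S-group of
multiplicative type; this row assumes it moreover of finite type.) -/
theorem result (S : Scheme.{u}) (H G : Over S) [GrpObj H] [GrpObj G] (hH : SGA3x.IsMultTypeFT H)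
    [IsSeparated G.hom] [Smooth G.hom] (a : AlgGrp.Action H G)
    (hmul : ∀ (X : Over S) (h : X ⟶ H) (g g' : X ⟶ G),
      lift h (g * g') ≫ a.act = (lift h g ≫ a.act) * (lift h g' ≫ a.act)) :
    ∃ (Z : Over S) (_ : GrpObj Z) (z : Z ⟶ G) (_ : IsMonHom z), IsClosedImmersion z.left ∧ Smooth Z.hom ∧
      ∀ (X : Over S) (g : X ⟶ G), (∃ x : X ⟶ Z, x ≫ z = g) ↔
        ∀ (X' : Over S) (f : X' ⟶ X) (h : X' ⟶ H), lift h (f ≫ g) ≫ a.act = f ≫ g := by
  have h := isMT_of_isMultTypeFT H hH
  obtain ⟨T, j, hj, hfp, hT⟩ := exists_fixedLocus a h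
  haveI := hj
  haveI : Mono j := Over.mono_of_mono_left j
  have hm : ∀ {X : Over S} (q : X ⟶ H) (g g' : X ⟶ G), actT a q (g * g') = actT a q g * actT a q g' :=
    fun q g g' => hmul _ q g g'
  have h1 : ∀ {X : Over S} (q : X ⟶ H), actT a q (1 : X ⟶ G) = 1 := fun q =>
    left_eq_mul.mp (show actT a q (1 : _ ⟶ G) = actT a q 1 * actT a q 1 by rw [← hm, _root_.mul_one])
  have hfix : ∀ (X : Over S) (b : X ⟶ T), Fixed a (b ≫ j) := fun X b => (hT X _).mp ⟨b, rfl⟩
  obtain ⟨I, hI⟩ := exists_grpObj_of_closed j
    ((hT _ 1).mpr fun X' p q => by rw [MonObj.comp_one, h1])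
    (fun X b b' => (hT X _).mpr fun X' p q => by rw [MonObj.comp_mul, hm, hfix X b _ p q, hfix X b' _ p q])
    (fun X b => (hT X _).mpr fun X' p q => by
      rw [GrpObj.comp_inv]
      refine eq_inv_of_mul_eq_one_left ?_
      conv_lhs => arg 2; rw [← hfix X b _ p q]
      rw [← hm, inv_mul_cancel, h1])
  exact ⟨T, I, j, hI, hj, smooth_fixed a h j (hfp inferInstance) hT, hT⟩

end Groth.Agent.S5442
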