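import Groth.Statements.S5447
import Groth.Agent.RootDat.Ext

set_option autoImplicit false
open RootD

namespace Groth.Agent.S5447

/-- If every root can be written in exactly one way as an integer combination of the roots indexed by Δ
with coefficients all of the same sign, then these roots are linearly independent (so Δ is a system
of simple roots) and indivisible. -/
theorem result {ι M N : Type*} [AddCommGroup M] [AddCommGroup N]
    (P : RootPairing ι ℤ M N) [Finite ι] (Δ : Set ι)
    (h : ∀ k : ι, ∃! c : ι →₀ ℤ, (↑c.support ⊆ Δ ∧ ((∀ j, 0 ≤ c j) ∨ (∀ j, c j ≤ 0)) ∧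
      Finsupp.linearCombination ℤ P.root c = P.root k)) :
    RootD.IsSimpleSys P Δ ∧ ∀ i ∈ Δ, RootD.IsIndiv P i := by
  classical
  have huniq : ∀ k (c c' : ι →₀ ℤ), (↑c.support ⊆ Δ ∧ ((∀ j, 0 ≤ c j) ∨ (∀ j, c j ≤ 0)) ∧
      Finsupp.linearCombination ℤ P.root c = P.root k) → (↑c'.support ⊆ Δ ∧ ((∀ j, 0 ≤ c' j) ∨ (∀ j, c' j ≤ 0)) ∧
      Finsupp.linearCombination ℤ P.root c' = P.root k) → c = c' :=
    fun k c c' h1 h2 => (h k).unique h1 h2
  have hsingle : ∀ i ∈ Δ, (↑(Finsupp.single i (1 : ℤ)).support ⊆ Δ ∧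
      ((∀ j, 0 ≤ Finsupp.single i (1 : ℤ) j) ∨ (∀ j, Finsupp.single i (1 : ℤ) j ≤ 0)) ∧
      Finsupp.linearCombination ℤ P.root (Finsupp.single i (1 : ℤ)) = P.root i) := by
    intro i hi
    refine ⟨fun a ha => ?_, Or.inl fun j => ?_, by simp⟩
    · have := Finsupp.support_single_subset ha
      simp only [Finset.mem_singleton] at this
      exact this ▸ hi
    · rw [Finsupp.single_apply]; split <;> omega
  have hsupp : ∀ (c : ι →₀ ℤ) i, i ∈ Δ → ↑c.support ⊆ Δ →
      ↑(c + Finsupp.single i 1).support ⊆ Δ := by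
    intro c i hi hc a ha
    rcases Finset.mem_union.mp (Finsupp.support_add ha) with h1 | h1
    · exact hc h1
    · exact (hsingle i hi).1 h1
  have hnn : ∀ (c : ι →₀ ℤ) i, (∀ j, 0 ≤ c j) → ∀ j, 0 ≤ (c + Finsupp.single i (1 : ℤ) : ι →₀ ℤ) j := by
    intro c i hc j
    have := hc j
    rw [Finsupp.add_apply, Finsupp.single_apply]; split <;> omega
  have hpair : ∀ i ∈ Δ, ∀ j ∈ Δ, i ≠ j → P.pairing i j ≤ 0 := by
    intro i hi j hj hij
    by_contra hlt
    obtain ⟨k, hk⟩ := Groth.Agent.RootDat.sub_mem P (not_le.mp hlt) hij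
    obtain ⟨c, ⟨hc, hsign, hck⟩, -⟩ := h k
    rcases hsign with hpos | hneg
    · have he := huniq i _ _ ⟨hsupp c j hj hc, Or.inl (hnn c j hpos),
        by rw [map_add, hck, Finsupp.linearCombination_single, one_smul, hk, sub_add_cancel]⟩
        (hsingle i hi)
      have := congrArg (fun z : ι →₀ ℤ => z j) he
      simp only [Finsupp.add_apply, Finsupp.single_eq_same, Finsupp.single_eq_of_ne (Ne.symm hij)] at this
      have := hpos j
      omega
    · have he := huniq j _ _ ⟨hsupp (-c) i hi (by rwa [Finsupp.support_neg]),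
        Or.inl (hnn (-c) i fun a => by have := hneg a; rw [Finsupp.neg_apply]; omega),
        by rw [map_add, map_neg, hck, Finsupp.linearCombination_single, one_smul, hk]; abel⟩
        (hsingle j hj)
      have := congrArg (fun z : ι →₀ ℤ => z i) he
      simp only [Finsupp.add_apply, Finsupp.neg_apply, Finsupp.single_eq_same, Finsupp.single_eq_of_ne hij] at this
      have := hneg i
      omega
  have hli : LinearIndepOn ℤ P.root Δ := by
    refine Groth.Agent.RootDat.linearIndepOn_of_nonpos P hpair fun c hc hc0 h0 => ?_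
    by_contra hne
    obtain ⟨i, hi⟩ := Finsupp.support_nonempty_iff.mpr hne
    have he := huniq i _ _ ⟨hsupp c i (hc hi) hc, Or.inl (hnn c i hc0),
      by rw [map_add, h0, zero_add, Finsupp.linearCombination_single, one_smul]⟩ (hsingle i (hc hi))
    exact hne (by simpa using he)
  have hΔ : RootD.IsSimpleSys P Δ := ⟨hli, fun k => by
    obtain ⟨c, ⟨hc, hsign, hck⟩, -⟩ := h k
    rcases hsign with hpos | hneg
    · exact Or.inl ((Groth.Agent.RootDat.mem_natSpan_iff_coeff P).mpr ⟨c, hc, hpos, hck⟩)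
    · exact Or.inr ((Groth.Agent.RootDat.mem_natSpan_iff_coeff P).mpr
        ⟨-c, by rwa [Finsupp.support_neg], fun a => by have := hneg a; rw [Finsupp.neg_apply]; omega,
          by rw [map_neg, hck]⟩)⟩
  exact ⟨hΔ, fun i hi => Groth.Agent.RootDat.isIndiv_simple hΔ hi⟩

end Groth.Agent.S5447
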