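import Groth.Statements.S5451
import Groth.Agent.RootDat.PosSys

set_option autoImplicit false
set_option linter.unusedVariables false
open RootD

namespace Groth.Agent.S5451

/-- If a root is a positive integer combination of roots α_i, then it can be reached from 0 by
successively adding roots taken among the α_i in such a way that every partial sum is a root. -/
theorem result {ι M N : Type*} [AddCommGroup M] [AddCommGroup N]
    (P : RootPairing ι ℤ M N) [Finite ι] {n : ℕ} (a : Fin n → ι) (m : Fin n → ℕ)
    (hm : ∀ i, 0 < m i) (k : ι) (hk : P.root k = ∑ i, m i • P.root (a i)) :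
    ∃ (l : ℕ) (b : Fin l → Fin n), 0 < l ∧
      (∀ p : Fin l, ∃ j : ι, P.root j = ∑ q ∈ Finset.univ.filter (fun q : Fin l => q.val ≤ p.val), P.root (a (b q))) ∧
      P.root k = ∑ q, P.root (a (b q)) := by
  classical
  have hk' : P.root k ∈ RootD.natSpan P (Set.range a) := by
    rw [hk]
    exact AddSubmonoid.sum_mem _ fun i _ =>
      (RootD.natSpan P _).nsmul_mem (Groth.Agent.RootDat.root_mem_natSpan P (Set.mem_range_self i)) _
  refine Groth.Agent.RootDat.natSpan_root_induction P (fun k => ∃ (l : ℕ) (b : Fin l → Fin n), 0 < l ∧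
      (∀ p : Fin l, ∃ j : ι, P.root j =
        ∑ q ∈ Finset.univ.filter (fun q : Fin l => q.val ≤ p.val), P.root (a (b q))) ∧
      P.root k = ∑ q, P.root (a (b q))) ?_ ?_ hk'
  · rintro _ ⟨x, rfl⟩
    refine ⟨1, fun _ => x, one_pos, fun p => ⟨a x, ?_⟩, by simp⟩
    have : Finset.univ.filter (fun q : Fin 1 => q.val ≤ p.val) = {0} := by
      ext q; simp [Fin.eq_zero q]
    rw [this, Finset.sum_singleton]
  · rintro _ ⟨x, rfl⟩ j k ⟨l, b, hl, hpre, hj⟩ - hkj
    refine ⟨l + 1, Fin.snoc b x, Nat.succ_pos l, fun p => ?_, ?_⟩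
    · cases p using Fin.lastCases with
      | last =>
        refine ⟨k, ?_⟩
        rw [Finset.filter_true_of_mem (fun q _ => by simpa using Nat.le_of_lt_succ q.2),
          Fin.sum_univ_castSucc, hkj, hj]
        simp
      | cast p =>
        obtain ⟨j', hj'⟩ := hpre p
        refine ⟨j', ?_⟩
        rw [Finset.sum_filter, Fin.sum_univ_castSucc]
        rw [Finset.sum_filter] at hj'
        have hlt : ¬ l ≤ p.val := not_le.mpr p.2
        simp [hj', hlt]
    · rw [Fin.sum_univ_castSucc, hkj, hj]
      simp

end Groth.Agent.S5451
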