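import Groth.Statements.S5458
import Groth.Agent.RootDat.Weyl

set_option autoImplicit false
open RootD

namespace Groth.Agent.S5458

/-- Let S be a system of positive roots with simple system Δ ⊆ S and let P' ⊇ S be a closed set of
roots; with Δ' the set of simple roots whose opposite lies in P', the set P' is the union of S and
of the roots that are non-positive integer combinations of Δ'. -/
theorem result {ι M N : Type*} [AddCommGroup M] [AddCommGroup N]
    (P : RootPairing ι ℤ M N) [Finite ι] (S : Set ι) (hS : RootD.IsPosSys P S) (Δ : Set ι)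
    (hΔ : RootD.IsSimpleSys P Δ) (hΔS : Δ ⊆ S) (P' : Set ι) (hcl : RootD.IsClosedSub P P')
    (hSP : S ⊆ P') :
    P' = S ∪ {k : ι | -P.root k ∈ RootD.natSpan P {i : ι | i ∈ Δ ∧ P.reflectionPerm i i ∈ P'}} := by
  have hSeq := Groth.Agent.RootDat.posSys_eq_posOf hΔ hS hΔS
  refine Set.Subset.antisymm ?_ (Set.union_subset hSP fun k hk => ?_)
  · suffices h : ∀ k ∈ RootD.posOf P Δ, P.reflectionPerm k k ∈ P' →
        P.root k ∈ RootD.natSpan P {i : ι | i ∈ Δ ∧ P.reflectionPerm i i ∈ P'} by
      intro k hk
      rcases hS.cover k with hkS | hkS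
      · exact Or.inl hkS
      · right
        rw [hSeq] at hkS
        have := h _ hkS (by
          show Groth.Agent.RootDat.opp P (Groth.Agent.RootDat.opp P k) ∈ P'
          rw [Groth.Agent.RootDat.opp_opp]
          exact hk)
        rw [Groth.Agent.RootDat.root_opp] at this
        exact this
    intro k hk
    refine Groth.Agent.RootDat.posOf_induction (fun k => P.reflectionPerm k k ∈ P' →
      P.root k ∈ RootD.natSpan P {i : ι | i ∈ Δ ∧ P.reflectionPerm i i ∈ P'}) ?_ ?_ hk
    · exact fun i hi hi' => Groth.Agent.RootDat.root_mem_natSpan P ⟨hi, hi'⟩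
    · intro i hi j k ihj hjpos hkj hk'
      have hjS : j ∈ P' := hSP (hSeq ▸ hjpos)
      have hj' : P.reflectionPerm j j ∈ P' :=
        hcl hk' (hSP (hΔS hi)) (by rw [Groth.Agent.RootDat.root_opp, Groth.Agent.RootDat.root_opp, hkj]; abel)
      have hi' : P.reflectionPerm i i ∈ P' :=
        hcl hk' hjS (by rw [Groth.Agent.RootDat.root_opp, Groth.Agent.RootDat.root_opp, hkj]; abel)
      rw [hkj]
      exact AddSubmonoid.add_mem _ (ihj hj') (Groth.Agent.RootDat.root_mem_natSpan P ⟨hi, hi'⟩)
  · have hgen : ∀ x ∈ RootD.natSpan P {i : ι | i ∈ Δ ∧ P.reflectionPerm i i ∈ P'},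
        -x ∈ RootD.natSpan P P' := fun x hx => by
      induction hx using AddSubmonoid.closure_induction with
      | mem y hy =>
        obtain ⟨i, hi, rfl⟩ := hy
        rw [← Groth.Agent.RootDat.root_opp]
        exact Groth.Agent.RootDat.root_mem_natSpan P hi.2
      | zero => rw [neg_zero]; exact zero_mem _
      | add y z _ _ hy hz => rw [neg_add]; exact AddSubmonoid.add_mem _ hy hz
    have := hgen _ hk
    rw [neg_neg] at this
    exact Groth.Agent.RootDat.closed_natSpan P hcl this

end Groth.Agent.S5458
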