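import Groth.Statements.S5459
import Groth.Agent.RootDat.Weyl

set_option autoImplicit false
open RootD

namespace Groth.Agent.S5459

/-- A closed set of roots containing each root or its opposite is, for a suitable system of simple roots
Δ and a subset Δ' ⊆ Δ, the set of roots lying in ℕΔ ∪ (-ℕΔ'). -/
theorem result {ι M N : Type*} [AddCommGroup M] [AddCommGroup N]
    (P : RootPairing ι ℤ M N) [Finite ι] (P' : Set ι)
    (hP2 : ∀ i : ι, i ∈ P' ∨ P.reflectionPerm i i ∈ P') (hcl : RootD.IsClosedSub P P') :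
    ∃ Δ Δ' : Set ι, RootD.IsSimpleSys P Δ ∧ Δ' ⊆ Δ ∧
      P' = RootD.posOf P Δ ∪ {k : ι | -P.root k ∈ RootD.natSpan P Δ'} := by
  obtain ⟨S₀, hS₀⟩ := Groth.Agent.RootDat.exists_isPosSys P
  obtain ⟨g, -, hgS⟩ := Groth.Agent.RootDat.exists_weyl_subset P hS₀ hP2 hcl
  have hS := Groth.Agent.RootDat.isPosSys_image P hS₀ g
  generalize (fun i : ι => g • i) '' S₀ = S at hS hgS
  have hΔ := Groth.Agent.RootDat.isSimpleSys_simpleOf P hS
  have hSeq := Groth.Agent.RootDat.posSys_eq_posOf hΔ hS (Groth.Agent.RootDat.simpleOf_subset P S)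
  refine ⟨Groth.Agent.RootDat.simpleOf P S, {i | i ∈ Groth.Agent.RootDat.simpleOf P S ∧ P.reflectionPerm i i ∈ P'}, hΔ, fun i h => h.1, ?_⟩
  rw [← hSeq]
  refine Set.Subset.antisymm ?_ (Set.union_subset hgS fun k hk => ?_)
  · suffices h : ∀ k ∈ RootD.posOf P (Groth.Agent.RootDat.simpleOf P S), P.reflectionPerm k k ∈ P' →
        P.root k ∈ RootD.natSpan P {i : ι | i ∈ Groth.Agent.RootDat.simpleOf P S ∧ P.reflectionPerm i i ∈ P'} by
      intro k hk
      rcases hS.cover k with hkS | hkS
      · exact Or.inl hkS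
      · right
        rw [hSeq] at hkS
        have := h _ hkS (by
          show Groth.Agent.RootDat.opp P (Groth.Agent.RootDat.opp P k) ∈ P'
          rw [Groth.Agent.RootDat.opp_opp]
          exact hk)
        rw [Groth.Agent.RootDat.root_opp] at this
        exact this
    intro k hk
    refine Groth.Agent.RootDat.posOf_induction (fun k => P.reflectionPerm k k ∈ P' →
      P.root k ∈ RootD.natSpan P {i : ι | i ∈ Groth.Agent.RootDat.simpleOf P S ∧ P.reflectionPerm i i ∈ P'}) ?_ ?_ hk
    · exact fun i hi hi' => Groth.Agent.RootDat.root_mem_natSpan P ⟨hi, hi'⟩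
    · intro i hi j k ihj hjpos hkj hk'
      have hjS : j ∈ P' := hgS (hSeq ▸ hjpos)
      have hj' : P.reflectionPerm j j ∈ P' :=
        hcl hk' (hgS hi.1) (by rw [Groth.Agent.RootDat.root_opp, Groth.Agent.RootDat.root_opp, hkj]; abel)
      have hi' : P.reflectionPerm i i ∈ P' :=
        hcl hk' hjS (by rw [Groth.Agent.RootDat.root_opp, Groth.Agent.RootDat.root_opp, hkj]; abel)
      rw [hkj]
      exact AddSubmonoid.add_mem _ (ihj hj') (Groth.Agent.RootDat.root_mem_natSpan P ⟨hi, hi'⟩)
  · have hgen : ∀ x ∈ RootD.natSpan P {i : ι | i ∈ Groth.Agent.RootDat.simpleOf P S ∧ P.reflectionPerm i i ∈ P'},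
        -x ∈ RootD.natSpan P P' := fun x hx => by
      induction hx using AddSubmonoid.closure_induction with
      | mem y hy =>
        obtain ⟨i, hi, rfl⟩ := hy
        rw [← Groth.Agent.RootDat.root_opp]
        exact Groth.Agent.RootDat.root_mem_natSpan P hi.2
      | zero => rw [neg_zero]; exact zero_mem _
      | add y z _ _ hy hz => rw [neg_add]; exact AddSubmonoid.add_mem _ hy hz
    have := hgen _ hk
    rw [neg_neg] at this
    exact Groth.Agent.RootDat.closed_natSpan P hcl this

end Groth.Agent.S5459
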