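import Groth.Statements.S5460
import Groth.Agent.RootDat.Ext

set_option autoImplicit false
open RootD

namespace Groth.Agent.S5460

/-- A set of roots R' is the trace on R of a vector subspace (every root with a positive multiple in the
span of R' lies in R') if and only if R' is the set of roots in the span of a subset Δ' of some
system of simple roots Δ. -/
theorem result {ι M N : Type*} [AddCommGroup M] [AddCommGroup N]
    (P : RootPairing ι ℤ M N) [Finite ι] (R' : Set ι) :
    (∀ k : ι, (∃ n : ℕ, 0 < n ∧ n • P.root k ∈ Submodule.span ℤ (P.root '' R')) → k ∈ R') ↔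
      ∃ Δ Δ' : Set ι, RootD.IsSimpleSys P Δ ∧ Δ' ⊆ Δ ∧ R' = RootD.inSpan P Δ' := by
  classical
  constructor
  · intro hsat
    obtain ⟨φ, h0, h1⟩ := Groth.Agent.RootDat.exists_sep P R'
    have hR : ∀ k, φ (P.root k) = 0 ↔ k ∈ R' := fun k =>
      ⟨fun hk => hsat k (by_contra fun h => h1 k h hk), fun hk => h0 k (Groth.Agent.RootDat.subset_satSet P R' hk)⟩
    obtain ⟨S₀, hS₀⟩ := Groth.Agent.RootDat.exists_isPosSys P
    have hH : Groth.Agent.RootDat.IsHalf P (S₀ ∩ R') := ⟨fun i hi hi' => hS₀.disjoint hi.1 hi'.1,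
      fun i j k hi hj hk => ⟨Groth.Agent.RootDat.isClosed_of_isPosSys P hS₀ hi.1 hj.1 hk,
        (hR k).mp (by rw [hk, map_add, (hR i).mpr hi.2, (hR j).mpr hj.2, add_zero])⟩,
      fun i j k hi hj hk => by
        have h0k : φ (P.root k) = 0 := by rw [hk, map_sub, (hR i).mpr hi.2, (hR j).mpr hj.2, sub_zero]
        refine (hS₀.cover k).imp (fun h => ⟨h, (hR k).mp h0k⟩)
          (fun h => ⟨h, (hR _).mp (by rw [Groth.Agent.RootDat.root_opp, map_neg, h0k, neg_zero])⟩)⟩
    obtain ⟨Δ, hΔ, hsub, hiff⟩ := Groth.Agent.RootDat.exists_simpleSys_ext P φ (Δ' := Groth.Agent.RootDat.simpleOf P (S₀ ∩ R'))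
      (fun i hi => (hR i).mpr hi.1.2) (Groth.Agent.RootDat.linearIndepOn_simpleOf P hH) (fun k hk => by
        rcases hS₀.cover k with h | h
        · exact Or.inl (Groth.Agent.RootDat.mem_natSpan_simpleOf P hH ⟨h, (hR k).mp hk⟩)
        · right
          rw [← Groth.Agent.RootDat.root_opp]
          exact Groth.Agent.RootDat.mem_natSpan_simpleOf P hH
            ⟨h, (hR _).mp (by rw [Groth.Agent.RootDat.root_opp, map_neg, hk, neg_zero])⟩)
    exact ⟨Δ, _, hΔ, hsub, Set.ext fun k => (hR k).symm.trans (hiff k)⟩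
  · rintro ⟨Δ, Δ', hΔ, hsub, rfl⟩ k ⟨n, hn, hmem⟩
    have hle : Submodule.span ℤ (P.root '' RootD.inSpan P Δ') ≤ Submodule.span ℤ (P.root '' Δ') :=
      Submodule.span_le.mpr (by rintro _ ⟨a, ha, rfl⟩; exact ha)
    obtain ⟨c, hc, hck⟩ := (Finsupp.mem_span_image_iff_linearCombination ℤ).mp (hle hmem)
    rw [Finsupp.mem_supported] at hc
    have he : c = (n : ℤ) • Groth.Agent.RootDat.coeff hΔ k := by
      refine Groth.Agent.RootDat.comb_inj hΔ.linInd (hc.trans hsub)
        (fun a ha => Groth.Agent.RootDat.coeff_support hΔ k (Finsupp.support_smul ha)) ?_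
      rw [hck, map_smul, Groth.Agent.RootDat.coeff_spec, natCast_zsmul]
    rw [Groth.Agent.RootDat.mem_inSpan_iff hΔ hsub]
    intro a ha
    refine hc (Finsupp.mem_support_iff.mpr ?_)
    rw [he, Finsupp.smul_apply, smul_eq_mul]
    exact mul_ne_zero (by omega) (Finsupp.mem_support_iff.mp ha)

end Groth.Agent.S5460
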