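import Groth.Statements.S5461
import Groth.Agent.RootDat.Ext

set_option autoImplicit false
open RootD

namespace Groth.Agent.S5461

/-- If R' is the trace of a vector subspace on the roots, every system of simple roots Δ' of the root
datum with roots R' is contained in a system of simple roots Δ of the whole datum, and R' is the set
of roots in the span of Δ'. -/
theorem result {ι M N : Type*} [AddCommGroup M] [AddCommGroup N]
    (P : RootPairing ι ℤ M N) [Finite ι] (R' : Set ι)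
    (hsat : ∀ k : ι, (∃ n : ℕ, 0 < n ∧ n • P.root k ∈ Submodule.span ℤ (P.root '' R')) → k ∈ R')
    (Δ' : Set ι) (hΔ'R : Δ' ⊆ R') (hli : LinearIndepOn ℤ P.root Δ')
    (hgen : ∀ k ∈ R', P.root k ∈ RootD.natSpan P Δ' ∨ -P.root k ∈ RootD.natSpan P Δ') :
    ∃ Δ : Set ι, RootD.IsSimpleSys P Δ ∧ Δ' ⊆ Δ ∧ R' = RootD.inSpan P Δ' := by
  obtain ⟨φ, h0, h1⟩ := Groth.Agent.RootDat.exists_sep P R'
  have hR : ∀ k, φ (P.root k) = 0 ↔ k ∈ R' := fun k =>
    ⟨fun hk => hsat k (by_contra fun h => h1 k h hk), fun hk => h0 k (Groth.Agent.RootDat.subset_satSet P R' hk)⟩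
  obtain ⟨Δ, hΔ, hsub, hiff⟩ := Groth.Agent.RootDat.exists_simpleSys_ext P φ (fun i hi => (hR i).mpr (hΔ'R hi)) hli
    (fun k hk => hgen k ((hR k).mp hk))
  exact ⟨Δ, hΔ, hsub, Set.ext fun k => (hR k).symm.trans (hiff k)⟩

end Groth.Agent.S5461
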