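import Groth.Statements.S5462
import Groth.Agent.RootDat.Weyl

set_option autoImplicit false
open RootPairing
open scoped Pointwise
open RootD

namespace Groth.Agent.S5462

/-- For Δ' contained in a system of simple roots Δ, the subgroup of the Weyl group generated by the
reflections in Δ' preserves the set of positive roots not lying in the span of Δ'. -/
theorem result {ι M N : Type*} [AddCommGroup M] [AddCommGroup N]
    (P : RootPairing ι ℤ M N) [Finite ι] (Δ Δ' : Set ι) (hΔ : RootD.IsSimpleSys P Δ) (hsub : Δ' ⊆ Δ)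
    (g : P.Aut) (hg : g ∈ Subgroup.closure ((fun i : ι => Equiv.reflection P i) '' Δ'))
    (k : ι) (hk : k ∈ RootD.posOf P Δ) (hk' : k ∉ RootD.inSpan P Δ') :
    g • k ∈ RootD.posOf P Δ ∧ g • k ∉ RootD.inSpan P Δ' := by
  obtain ⟨l, hl, rfl⟩ := Groth.Agent.RootDat.exists_word P hg
  clear hg
  induction l with
  | nil => simp [hk, hk']
  | cons a l ih =>
    simp only [List.mem_cons, forall_eq_or_imp] at hl
    obtain ⟨h1, h2⟩ := ih hl.2
    rw [List.map_cons, List.prod_cons, mul_smul, Groth.Agent.RootDat.refl_smul_index]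
    rw [Groth.Agent.RootDat.mem_inSpan_iff hΔ hsub, Set.not_subset] at h2
    obtain ⟨j, hj, hjΔ'⟩ := h2
    have hja : j ≠ a := fun h => hjΔ' (h ▸ hl.1)
    have hpos : 0 < Groth.Agent.RootDat.coeff hΔ ((l.map (Groth.Agent.RootDat.refl P)).prod • k) j :=
      ((Groth.Agent.RootDat.mem_posOf_iff hΔ _).mp h1 j).lt_of_ne (Ne.symm (Finsupp.mem_support_iff.mp hj))
    refine ⟨Groth.Agent.RootDat.refl_posOf hΔ (hsub hl.1) hja hpos, ?_⟩
    rw [Groth.Agent.RootDat.mem_inSpan_iff hΔ hsub, Set.not_subset]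
    refine ⟨j, Finsupp.mem_support_iff.mpr ?_, hjΔ'⟩
    rw [Groth.Agent.RootDat.coeff_reflectionPerm hΔ (hsub hl.1), Finsupp.sub_apply, Finsupp.smul_apply,
      Finsupp.single_eq_of_ne hja, smul_zero, sub_zero]
    exact hpos.ne'

end Groth.Agent.S5462
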