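import Groth.Statements.S5463
import Groth.Agent.RootDat.Weyl

set_option autoImplicit false
open RootPairing
open scoped Pointwise
open RootD

namespace Groth.Agent.S5463

/-- An element w of the Weyl group belongs to the subgroup generated by the reflections in Δ' ⊆ Δ (Δ a
system of simple roots) if and only if w(α) - α lies in the rational span of Δ' for every root α. -/
theorem result {ι M N : Type*} [AddCommGroup M] [AddCommGroup N]
    (P : RootPairing ι ℤ M N) [Finite ι] (Δ Δ' : Set ι) (hΔ : RootD.IsSimpleSys P Δ)
    (hsub : Δ' ⊆ Δ) (g : P.Aut) (hg : g ∈ P.weylGroup) :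
    g ∈ Subgroup.closure ((fun i : ι => Equiv.reflection P i) '' Δ') ↔
      ∀ k : ι, ∃ n : ℕ, 0 < n ∧ n • (P.root (g • k) - P.root k) ∈ Submodule.span ℤ (P.root '' Δ') := by
  constructor
  · exact fun h k => ⟨1, one_pos, by
      rw [one_nsmul, Groth.Agent.RootDat.root_smul]; exact Groth.Agent.RootDat.smul_sub_mem_span P h _⟩
  · intro h
    rw [← Groth.Agent.RootDat.weylGroup_eq_closure P hΔ] at hg
    obtain ⟨l, hl, rfl⟩ := Groth.Agent.RootDat.exists_word P hg
    clear hg
    classical
    induction hn : l.length using Nat.strong_induction_on generalizing l with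
    | _ n ih =>
      by_cases hone : (l.map (Groth.Agent.RootDat.refl P)).prod = 1
      · show (l.map (Groth.Agent.RootDat.refl P)).prod ∈ _
        rw [hone]
        exact one_mem _
      obtain ⟨i, hi, hneg⟩ := Groth.Agent.RootDat.exists_neg_of_ne_one hΔ subset_rfl (Groth.Agent.RootDat.word_mem P hl) hone
      have hi' : i ∈ Δ' := by
        by_contra hi'
        obtain ⟨m, hm, hmem⟩ := h i
        obtain ⟨c, hc, hcx⟩ := (Finsupp.mem_span_image_iff_linearCombination ℤ).mp hmem
        rw [Finsupp.mem_supported] at hc
        have hw := Groth.Agent.RootDat.coeff_spec hΔ ((l.map (Groth.Agent.RootDat.refl P)).prod • i)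
        have heq : c = (m : ℤ) • (Groth.Agent.RootDat.coeff hΔ ((l.map (Groth.Agent.RootDat.refl P)).prod • i) - Finsupp.single i 1) := by
          refine Groth.Agent.RootDat.comb_inj hΔ.linInd (hc.trans hsub) (fun a ha => ?_) ?_
          · rcases Finset.mem_union.mp (Finsupp.support_sub (Finsupp.support_smul ha)) with h1 | h1
            · exact Groth.Agent.RootDat.coeff_support hΔ _ h1
            · have := Finsupp.support_single_subset h1
              simp only [Finset.mem_singleton] at this
              exact this ▸ hi
          · rw [hcx, LinearMap.map_smul, LinearMap.map_sub, hw, Finsupp.linearCombination_single,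
              one_smul, natCast_zsmul]
        have hci : c i = 0 := Finsupp.notMem_support_iff.mp fun h1 => hi' (hc h1)
        rw [heq, Finsupp.smul_apply, Finsupp.sub_apply, Finsupp.single_eq_same, smul_eq_mul,
          mul_eq_zero, sub_eq_zero] at hci
        exact hneg (Groth.Agent.RootDat.mem_posOf_of_coeff_pos hΔ (i := i)
          (by rw [hci.resolve_left (by omega)]; exact one_pos))
      obtain ⟨l', hsub', hlen, hprod⟩ := Groth.Agent.RootDat.exists_shorter hΔ hl hi hneg
      have hmem := ih l'.length (by omega) l' (fun a ha => hl a (hsub' a ha)) (fun k => ?_) rfl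
      · have hsplit : (l.map (Groth.Agent.RootDat.refl P)).prod = (l'.map (Groth.Agent.RootDat.refl P)).prod * Groth.Agent.RootDat.refl P i := by
          rw [hprod, mul_assoc, Groth.Agent.RootDat.refl_mul_self, mul_one]
        show (l.map (Groth.Agent.RootDat.refl P)).prod ∈ _
        rw [hsplit]
        exact mul_mem hmem (Subgroup.subset_closure ⟨i, hi', rfl⟩)
      · obtain ⟨m, hm, hmem⟩ := h (Groth.Agent.RootDat.refl P i • k)
        refine ⟨m, hm, ?_⟩
        change m • (P.root ((l'.map (Groth.Agent.RootDat.refl P)).prod • k) - P.root k) ∈ _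
        rw [hprod, mul_smul, show ∀ x y z : M, x - z = (x - y) + (y - z) from
          fun x y z => (sub_add_sub_cancel x y z).symm, smul_add]
        refine Submodule.add_mem _ hmem (Submodule.smul_of_tower_mem _ m ?_)
        rw [Groth.Agent.RootDat.root_smul, Groth.Agent.RootDat.refl_smul, sub_sub_cancel_left]
        exact Submodule.neg_mem _ (Submodule.smul_mem _ _ (Submodule.subset_span ⟨i, hi', rfl⟩))

end Groth.Agent.S5463
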