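import Groth.Statements.S5464
import Groth.Agent.RootDat.Ext

set_option autoImplicit false
open RootD

namespace Groth.Agent.S5464

/-- Given an indivisible root α and a root γ not proportional to it, there is a system of simple roots
containing α and a simple root β of it with γ = aα + bβ, a, b ∈ ℕ. -/
theorem result {ι M N : Type*} [AddCommGroup M] [AddCommGroup N]
    (P : RootPairing ι ℤ M N) [Finite ι] (i k : ι) (hα : RootD.IsIndiv P i)
    (hli : LinearIndependent ℤ ![P.root i, P.root k]) :
    ∃ Δ : Set ι, RootD.IsSimpleSys P Δ ∧ i ∈ Δ ∧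
      ∃ j ∈ Δ, ∃ a b : ℕ, P.root k = a • P.root i + b • P.root j := by
  classical
  obtain ⟨φ₁, h10, h11⟩ := Groth.Agent.RootDat.exists_sep P ({i} : Set ι)
  obtain ⟨φ, h0, h1⟩ := Groth.Agent.RootDat.exists_sep P ({i, k} : Set ι)
  have hline : ∀ a, φ₁ (P.root a) = 0 →
      P.root a ∈ RootD.natSpan P {i} ∨ -P.root a ∈ RootD.natSpan P {i} := by
    intro a ha
    obtain ⟨n, hn, hmem⟩ := by_contra fun h => h11 a h ha
    rw [Set.image_singleton, Submodule.mem_span_singleton] at hmem
    obtain ⟨b, hb⟩ := hmem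
    rw [← natCast_zsmul] at hb
    obtain ⟨e, he⟩ := Groth.Agent.RootDat.dvd_of_smul_eq_smul P hα (show (n : ℤ) ≠ 0 by omega) hb.symm
    have hroot : P.root a = e • P.root i :=
      Groth.Agent.RootDat.smul_right_cancel P (show (n : ℤ) ≠ 0 by omega) (by rw [smul_smul, ← he, hb])
    have hi' : P.root i ∈ RootD.natSpan P {i} := Groth.Agent.RootDat.root_mem_natSpan P rfl
    rcases Int.natAbs_eq e with h | h
    · left
      rw [hroot, h, natCast_zsmul]
      exact AddSubmonoid.nsmul_mem _ hi' _
    · right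
      rw [hroot, h, neg_smul, neg_neg, natCast_zsmul]
      exact AddSubmonoid.nsmul_mem _ hi' _
  have hk1 : φ₁ (P.root k) ≠ 0 := by
    intro hk
    obtain ⟨n, hn, hmem⟩ := by_contra fun h => h11 k h hk
    rw [Set.image_singleton, Submodule.mem_span_singleton] at hmem
    obtain ⟨b, hb⟩ := hmem
    rw [← natCast_zsmul] at hb
    have := (LinearIndependent.pair_iff.mp hli) (-b) n (by rw [neg_smul, hb, neg_add_cancel])
    omega
  wlog hpos : 0 < φ₁ (P.root k) generalizing φ₁
  · exact this (-φ₁) (fun a ha => by simp [h10 a ha]) (fun a ha => by simpa using h11 a ha)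
      (fun a ha => hline a (by simpa using ha)) (by simpa using hk1)
      (by rw [LinearMap.neg_apply]; omega)
  let Tl : Set ι := {a | φ₁ (P.root a) = 0 ∧ P.root a ∈ RootD.natSpan P {i}}
  have hi0 : φ₁ (P.root i) = 0 := h10 i (Groth.Agent.RootDat.subset_satSet P _ rfl)
  have hli1 : LinearIndepOn ℤ P.root ({i} : Set ι) := by
    refine linearIndepOn_iff.mpr fun c hc hc0 => ?_
    rw [Finsupp.mem_supported] at hc
    have hcs : c = Finsupp.single i (c i) := Finsupp.ext fun a => by
      by_cases ha : a = i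
      · rw [ha, Finsupp.single_eq_same]
      · rw [Finsupp.single_eq_of_ne ha, Finsupp.notMem_support_iff.mp fun h => ha (hc h)]
    rw [hcs, Finsupp.linearCombination_single] at hc0
    have := (LinearIndependent.pair_iff.mp hli) (c i) 0 (by rw [hc0, zero_smul, add_zero])
    rw [hcs, this.1, Finsupp.single_zero]
  have hS := Groth.Agent.RootDat.isPosSys_lex P φ₁ (T := Tl) (fun a ha => ha.1) (fun a ha ha' => by
      have h2 := ha'.2
      rw [Groth.Agent.RootDat.root_opp] at h2
      exact P.ne_zero a (Groth.Agent.RootDat.natSpan_pointed' hli1 ha.2 h2))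
    (fun a ha => by
      rcases hline a ha with h | h
      · exact Or.inl ⟨ha, h⟩
      · exact Or.inr ⟨by rw [Groth.Agent.RootDat.root_opp, map_neg, ha, neg_zero], by rw [Groth.Agent.RootDat.root_opp]; exact h⟩)
    (fun a b c ha hb hc => ⟨by rw [hc, map_add, ha.1, hb.1, add_zero],
      by rw [hc]; exact AddSubmonoid.add_mem _ ha.2 hb.2⟩)
  generalize hSdef : {a | 0 < φ₁ (P.root a)} ∪ Tl = S at hS
  have hkS : k ∈ S := hSdef ▸ Or.inl hpos
  have hiS : i ∈ S := hSdef ▸ Or.inr ⟨hi0, Groth.Agent.RootDat.root_mem_natSpan P rfl⟩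
  have hSnn : ∀ a ∈ S, 0 ≤ φ₁ (P.root a) := by
    intro a ha
    rw [← hSdef] at ha
    rcases ha with ha | ha
    · exact le_of_lt ha
    · exact ha.1.ge
  have hS0 : ∀ a ∈ S, φ₁ (P.root a) = 0 → P.root a ∈ RootD.natSpan P {i} := by
    intro a ha h
    rw [← hSdef] at ha
    rcases ha with ha | ha
    · simp only [Set.mem_ofPred_eq] at ha; omega
    · exact ha.2
  let T : Set ι := {a | a ∈ S ∧ φ (P.root a) = 0}
  have hH : Groth.Agent.RootDat.IsHalf P T := ⟨fun a ha ha' => hS.disjoint ha.1 ha'.1,
    fun a b c ha hb hc => ⟨Groth.Agent.RootDat.isClosed_of_isPosSys P hS ha.1 hb.1 hc,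
      by rw [hc, map_add, ha.2, hb.2, add_zero]⟩,
    fun a b c ha hb hc => (hS.cover c).imp (fun h => ⟨h, by rw [hc, map_sub, ha.2, hb.2, sub_zero]⟩)
      (fun h => ⟨h, by rw [Groth.Agent.RootDat.root_opp, map_neg, hc, map_sub, ha.2, hb.2, sub_zero, neg_zero]⟩)⟩
  have hkφ : φ (P.root k) = 0 := h0 k (Groth.Agent.RootDat.subset_satSet P _ (Or.inr rfl))
  have hiφ : φ (P.root i) = 0 := h0 i (Groth.Agent.RootDat.subset_satSet P _ (Or.inl rfl))
  have hi : i ∈ Groth.Agent.RootDat.simpleOf P T := by
    refine ⟨⟨hiS, hiφ⟩, fun a ha b hb hab => ?_⟩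
    have hsum : φ₁ (P.root i) = φ₁ (P.root a) + φ₁ (P.root b) := by rw [hab, map_add]
    have ha0 := hSnn a ha.1
    have hb0 := hSnn b hb.1
    obtain ⟨c, hc, hc0, hca⟩ := (Groth.Agent.RootDat.mem_natSpan_iff_coeff P).mp (hS0 a ha.1 (by omega))
    obtain ⟨d, hd, hd0, hdb⟩ := (Groth.Agent.RootDat.mem_natSpan_iff_coeff P).mp (hS0 b hb.1 (by omega))
    have hcs : ∀ c : ι →₀ ℤ, ↑c.support ⊆ ({i} : Set ι) → c = Finsupp.single i (c i) := fun c hc =>
      Finsupp.ext fun x => by
        by_cases hx : x = i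
        · rw [hx, Finsupp.single_eq_same]
        · rw [Finsupp.single_eq_of_ne hx, Finsupp.notMem_support_iff.mp fun h => hx (hc h)]
    rw [hcs c hc, Finsupp.linearCombination_single] at hca
    rw [hcs d hd, Finsupp.linearCombination_single] at hdb
    have := (LinearIndependent.pair_iff.mp hli) (c i + d i - 1) 0
      (by rw [sub_smul, add_smul, hca, hdb, ← hab, one_smul, sub_self, zero_smul, add_zero])
    rcases (show c i = 0 ∨ d i = 0 by have := hc0 i; have := hd0 i; omega) with h | h
    · exact P.ne_zero a (by rw [← hca, h, zero_smul])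
    · exact P.ne_zero b (by rw [← hdb, h, zero_smul])
  have hliT := Groth.Agent.RootDat.linearIndepOn_simpleOf P hH
  obtain ⟨Δ, hΔ, hsub, -⟩ := Groth.Agent.RootDat.exists_simpleSys_ext P φ (Δ' := Groth.Agent.RootDat.simpleOf P T)
    (fun a ha => ha.1.2) hliT (fun a ha => by
      rcases hS.cover a with h | h
      · exact Or.inl (Groth.Agent.RootDat.mem_natSpan_simpleOf P hH ⟨h, ha⟩)
      · right
        rw [← Groth.Agent.RootDat.root_opp]
        exact Groth.Agent.RootDat.mem_natSpan_simpleOf P hH ⟨h, by rw [Groth.Agent.RootDat.root_opp, map_neg, ha, neg_zero]⟩)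
  obtain ⟨c, hc, hc0, hck⟩ :=
    (Groth.Agent.RootDat.mem_natSpan_iff_coeff P).mp (Groth.Agent.RootDat.mem_natSpan_simpleOf P hH ⟨hkS, hkφ⟩)
  obtain ⟨j, hj, hji⟩ : ∃ j ∈ c.support, j ≠ i := by
    by_contra hcon
    simp only [not_exists, not_and, not_not] at hcon
    have hcs : c = Finsupp.single i (c i) := Finsupp.ext fun x => by
      by_cases hx : x = i
      · rw [hx, Finsupp.single_eq_same]
      · rw [Finsupp.single_eq_of_ne hx, Finsupp.notMem_support_iff.mp fun h => hx (hcon x h)]
    rw [hcs, Finsupp.linearCombination_single] at hck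
    have := (LinearIndependent.pair_iff.mp hli) (c i) (-1) (by rw [hck, neg_one_smul, add_neg_cancel])
    omega
  have honly : ∀ a ∈ Groth.Agent.RootDat.simpleOf P T, a ≠ i → a = j := by
    intro a ha hai
    by_contra haj
    obtain ⟨n, hn, hna⟩ := by_contra fun h => h1 a h ha.1.2
    obtain ⟨m, hm, hmj⟩ := by_contra fun h => h1 j h (hc hj).1.2
    rw [Set.image_pair, Submodule.mem_span_pair] at hna hmj
    obtain ⟨x, y, hxy⟩ := hna
    obtain ⟨x', y', hxy'⟩ := hmj
    rw [← natCast_zsmul] at hxy hxy'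
    have hsub3 : ({a, j, i} : Set ι) ⊆ Groth.Agent.RootDat.simpleOf P T := by
      rintro z (rfl | rfl | rfl) <;> [exact ha; exact hc hj; exact hi]
    have hsupp : ∀ p q r : ℤ,
        ↑(Finsupp.single a p + Finsupp.single j q + Finsupp.single i r).support ⊆ Groth.Agent.RootDat.simpleOf P T := by
      intro p q r z hz
      refine hsub3 ?_
      rcases Finset.mem_union.mp (Finsupp.support_add hz) with h | h
      · rcases Finset.mem_union.mp (Finsupp.support_add h) with h | h <;>
          have := Finsupp.support_single_subset h <;> simp only [Finset.mem_singleton] at this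
        · exact Or.inl this
        · exact Or.inr (Or.inl this)
      · have := Finsupp.support_single_subset h
        simp only [Finset.mem_singleton] at this
        exact Or.inr (Or.inr this)
    have hL : ∀ p q r : ℤ, p • P.root a + q • P.root j + r • P.root i = 0 → p = 0 ∧ q = 0 := by
      intro p q r h
      have h2 := linearIndepOn_iff.mp hliT _ ((Finsupp.mem_supported ℤ _).mpr (hsupp p q r))
        (by rw [map_add, map_add]; simpa using h)
      have hp := congrArg (fun z : ι →₀ ℤ => z a) h2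
      have hq := congrArg (fun z : ι →₀ ℤ => z j) h2
      simp only [Finsupp.add_apply, Finsupp.single_eq_same, Finsupp.zero_apply,
        Finsupp.single_eq_of_ne haj, Finsupp.single_eq_of_ne hai, Finsupp.single_eq_of_ne (Ne.symm haj),
        Finsupp.single_eq_of_ne hji, add_zero, zero_add] at hp hq
      exact ⟨hp, hq⟩
    have h' := hL (y' * n) (-(y * m)) (-(y' * x - y * x')) (by
      rw [mul_smul, neg_smul, mul_smul, ← hxy, ← hxy']
      module)
    have hy' : y' = 0 := by
      rcases mul_eq_zero.mp h'.1 with h | h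
      · exact h
      · omega
    rw [hy', zero_smul, add_zero] at hxy'
    have := (hL 0 (m : ℤ) (-x') (by rw [zero_smul, zero_add, neg_smul, hxy', add_neg_cancel])).2
    omega
  refine ⟨Δ, hΔ, hsub hi, j, hsub (hc hj), (c i).toNat, (c j).toNat, ?_⟩
  have hcs : c = Finsupp.single i (c i) + Finsupp.single j (c j) := Finsupp.ext fun x => by
    rw [Finsupp.add_apply]
    by_cases hx : x = i
    · rw [hx, Finsupp.single_eq_same, Finsupp.single_eq_of_ne (Ne.symm hji), add_zero]
    · rw [Finsupp.single_eq_of_ne hx, zero_add]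
      by_cases hxc : x ∈ c.support
      · rw [honly x (hc hxc) hx, Finsupp.single_eq_same]
      · rw [Finsupp.notMem_support_iff.mp hxc]
        by_cases hxj : x = j
        · exact absurd (hxj ▸ hj) hxc
        · rw [Finsupp.single_eq_of_ne hxj]
  rw [← natCast_zsmul, ← natCast_zsmul, Int.toNat_of_nonneg (hc0 i), Int.toNat_of_nonneg (hc0 j)]
  conv_lhs => rw [← hck, hcs, map_add, Finsupp.linearCombination_single, Finsupp.linearCombination_single]

end Groth.Agent.S5464
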