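import Groth.Statements.S5465
import Groth.Agent.RootDat.PosSys

set_option autoImplicit false
open RootD

namespace Groth.Agent.S5465

/-- A map from the roots to an abelian group that is odd and additive on pairs of roots whose sum is a
root extends uniquely to a homomorphism on the lattice generated by the roots. -/
theorem result {ι M N : Type*} [AddCommGroup M] [AddCommGroup N]
    (P : RootPairing ι ℤ M N) [Finite ι] {G : Type*} [AddCommGroup G] (f : ι → G)
    (hneg : ∀ i : ι, f (P.reflectionPerm i i) = -f i)
    (hadd : ∀ i j k : ι, P.root k = P.root i + P.root j → f k = f i + f j) :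
    ∃! φ : Submodule.span ℤ (Set.range P.root) →+ G,
      ∀ i : ι, φ ⟨P.root i, Submodule.subset_span (Set.mem_range_self i)⟩ = f i := by
  classical
  obtain ⟨Δ, hΔ⟩ := Groth.Agent.RootDat.exists_isSimpleSys P
  have hmem : ∀ x ∈ Submodule.span ℤ (Set.range P.root), x ∈ Submodule.span ℤ (P.root '' Δ) := by
    refine fun x hx => Submodule.span_le.mpr ?_ hx
    rintro _ ⟨k, rfl⟩
    exact (Finsupp.mem_span_image_iff_linearCombination ℤ).mpr
      ⟨_, (Finsupp.mem_supported ℤ _).mpr (Groth.Agent.RootDat.coeff_support hΔ k), Groth.Agent.RootDat.coeff_spec hΔ k⟩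
  have hli : LinearIndependent ℤ (fun i : Δ => P.root i) := hΔ.linInd
  let b := Module.Basis.span hli
  have hrange : Submodule.span ℤ (Set.range fun i : Δ => P.root i) =
      Submodule.span ℤ (P.root '' Δ) := by rw [Set.image_eq_range]
  let incl : Submodule.span ℤ (Set.range P.root) →ₗ[ℤ]
      Submodule.span ℤ (Set.range fun i : Δ => P.root i) :=
    Submodule.inclusion (fun x hx => hrange ▸ hmem x hx)
  let φ := ((b.constr ℤ fun i : Δ => f i).comp incl).toAddMonoidHom
  have hφ : ∀ i ∈ Δ, φ ⟨P.root i, Submodule.subset_span (Set.mem_range_self i)⟩ = f i := by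
    intro i hi
    have : incl ⟨P.root i, Submodule.subset_span (Set.mem_range_self i)⟩ = b ⟨i, hi⟩ := by
      ext; simp [incl, b, Submodule.inclusion, Module.Basis.span_apply]
    simp [φ, this]
  refine ⟨φ, ?_, fun ψ hψ => ?_⟩
  · have hpos : ∀ k ∈ RootD.posOf P Δ,
        φ ⟨P.root k, Submodule.subset_span (Set.mem_range_self k)⟩ = f k := by
      intro k hk
      refine Groth.Agent.RootDat.posOf_induction
        (fun k => φ ⟨P.root k, Submodule.subset_span (Set.mem_range_self k)⟩ = f k) hφ ?_ hk
      intro i hi j k hj _ hkj
      rw [hadd j i k hkj, ← hj, ← hφ i hi, ← map_add]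
      congr 1
      exact Subtype.ext hkj
    intro k
    rcases Groth.Agent.RootDat.mem_posOf_or hΔ k with h | h
    · exact hpos k h
    · have h' := hpos _ h
      rw [hneg] at h'
      rw [← neg_inj, ← h', ← map_neg]
      congr 1
      exact Subtype.ext (Groth.Agent.RootDat.root_opp P k).symm
  · refine AddMonoidHom.ext fun ⟨x, hx⟩ => ?_
    have hpos : ∀ k, φ ⟨P.root k, Submodule.subset_span (Set.mem_range_self k)⟩ = f k := by
      have hp : ∀ k ∈ RootD.posOf P Δ,
          φ ⟨P.root k, Submodule.subset_span (Set.mem_range_self k)⟩ = f k := by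
        intro k hk
        refine Groth.Agent.RootDat.posOf_induction
          (fun k => φ ⟨P.root k, Submodule.subset_span (Set.mem_range_self k)⟩ = f k) hφ ?_ hk
        intro i hi j k hj _ hkj
        rw [hadd j i k hkj, ← hj, ← hφ i hi, ← map_add]
        congr 1
        exact Subtype.ext hkj
      intro k
      rcases Groth.Agent.RootDat.mem_posOf_or hΔ k with h | h
      · exact hp k h
      · have h' := hp _ h
        rw [hneg] at h'
        rw [← neg_inj, ← h', ← map_neg]
        congr 1
        exact Subtype.ext (Groth.Agent.RootDat.root_opp P k).symm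
    have hker : ∀ y : Submodule.span ℤ (Set.range P.root),
        y ∈ Submodule.span ℤ (Set.range fun k : ι =>
          (⟨P.root k, Submodule.subset_span (Set.mem_range_self k)⟩ : Submodule.span ℤ (Set.range P.root))) := by
      intro y
      have hy : (y : M) ∈ Submodule.map (Submodule.subtype _)
          (Submodule.span ℤ (Set.range fun k : ι =>
            (⟨P.root k, Submodule.subset_span (Set.mem_range_self k)⟩ : Submodule.span ℤ (Set.range P.root)))) := by
        rw [Submodule.map_span, ← Set.range_comp]
        exact y.2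
      obtain ⟨z, hz, hzy⟩ := Submodule.mem_map.mp hy
      exact Subtype.ext hzy ▸ hz
    exact DFunLike.congr_fun (LinearMap.ext_on_range
      (f := ψ.toIntLinearMap) (g := φ.toIntLinearMap)
      (eq_top_iff.mpr fun y _ => hker y) (fun k => (hψ k).trans (hpos k).symm)) ⟨x, hx⟩

end Groth.Agent.S5465
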