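import Groth.Statements.S5466
import Groth.Agent.RootDat.Weyl

set_option autoImplicit false
open RootD

namespace Groth.Agent.S5466

/-- The reflection in a simple root β maps every positive root not proportional to β to a positive root. -/
theorem result {ι M N : Type*} [AddCommGroup M] [AddCommGroup N]
    (P : RootPairing ι ℤ M N) [Finite ι] (Δ : Set ι) (hΔ : RootD.IsSimpleSys P Δ)
    (k i : ι) (hk : k ∈ RootD.posOf P Δ) (hi : i ∈ Δ)
    (hli : LinearIndependent ℤ ![P.root k, P.root i]) :
    P.reflectionPerm i k ∈ RootD.posOf P Δ := by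
  by_contra h
  have hroot := Groth.Agent.RootDat.root_eq_of_refl_neg hΔ hi hk h
  have := (LinearIndependent.pair_iff.mp hli) 1 (-(Groth.Agent.RootDat.coeff hΔ k i))
    (by rw [one_smul, neg_smul, ← hroot, add_neg_cancel])
  exact one_ne_zero this.1

end Groth.Agent.S5466
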