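import Groth.Statements.S5468
import Groth.Agent.RootDat.Weyl

set_option autoImplicit false
open RootD

namespace Groth.Agent.S5468

/-- Two roots whose reflections are distinct and commute are orthogonal. -/
theorem result {ι M N : Type*} [AddCommGroup M] [AddCommGroup N]
    (P : RootPairing ι ℤ M N) [Finite ι] (i j : ι)
    (hne : P.reflection i ≠ P.reflection j) (hc : Commute (P.reflection i) (P.reflection j)) :
    P.IsOrthogonal i j := by
  have h := LinearEquiv.congr_fun hc.eq (P.root j)
  change P.reflection i (P.reflection j (P.root j)) = P.reflection j (P.reflection i (P.root j)) at h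
  rw [P.reflection_apply_self, map_neg, P.reflection_apply_root, map_sub, map_smul,
    P.reflection_apply_self, P.reflection_apply_root] at h
  by_cases ha : P.pairing j i = 0
  · exact (Groth.Agent.RootDat.isOrtho_iff P i j).mpr (Groth.Agent.RootDat.pairing_zero_symm P ha)
  exfalso
  have h2 : (P.pairing j i * P.pairing i j) • P.root j = (2 * P.pairing j i) • P.root i := by
    rw [smul_sub, ← sub_eq_zero] at h
    rw [eq_comm, ← sub_eq_zero, ← h]
    simp only [mul_smul, two_smul]
    abel
  have hne' : P.pairing j i * P.pairing i j ≠ 0 :=
    mul_ne_zero ha fun h0 => ha (Groth.Agent.RootDat.pairing_zero_symm P h0)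
  have hr := Groth.Agent.RootDat.refl_eq_of_smul_eq P hne' h2
  exact hne (LinearEquiv.ext fun x => (congrArg (fun g : P.Aut => g • x) hr).symm)

end Groth.Agent.S5468
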