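import Groth.Statements.S5471
import Groth.Agent.RootDat.Lengths

set_option autoImplicit false
open RootPairing
open scoped Pointwise
open RootD

namespace Groth.Agent.S5471

/-- In a reduced irreducible root datum the ratios of squared root lengths to the minimal one form one
of the sets {1}, {1, 2}, {1, 3}. -/
theorem result {ι M N : Type*} [AddCommGroup M] [AddCommGroup N]
    (P : RootPairing ι ℤ M N) [Finite ι] [Fintype ι] [Nonempty ι] [P.IsReduced]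
    (hirr : ∀ R' : Set ι, RootD.IsClosedSub P R' → RootD.IsSymmSub P R' → RootD.IsClosedSub P R'ᶜ →
      RootD.IsSymmSub P R'ᶜ → R' = ∅ ∨ R' = Set.univ)
    (i₀ : ι) (hmin : ∀ i : ι, P.RootForm (P.root i₀) (P.root i₀) ≤ P.RootForm (P.root i) (P.root i)) :
    (∀ i : ι, P.RootForm (P.root i) (P.root i) = P.RootForm (P.root i₀) (P.root i₀) ∨
        P.RootForm (P.root i) (P.root i) = 2 * P.RootForm (P.root i₀) (P.root i₀) ∨
        P.RootForm (P.root i) (P.root i) = 3 * P.RootForm (P.root i₀) (P.root i₀)) ∧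
      ¬ ((∃ i : ι, P.RootForm (P.root i) (P.root i) = 2 * P.RootForm (P.root i₀) (P.root i₀)) ∧
          ∃ j : ι, P.RootForm (P.root j) (P.root j) = 3 * P.RootForm (P.root i₀) (P.root i₀)) := by
  simp only [← Groth.Agent.RootDat.B_eq] at hmin ⊢
  change ∀ i, Groth.Agent.RootDat.len P i₀ ≤ Groth.Agent.RootDat.len P i at hmin
  change (∀ i, Groth.Agent.RootDat.len P i = Groth.Agent.RootDat.len P i₀ ∨ Groth.Agent.RootDat.len P i = 2 * Groth.Agent.RootDat.len P i₀ ∨ Groth.Agent.RootDat.len P i = 3 * Groth.Agent.RootDat.len P i₀) ∧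
    ¬ ((∃ i, Groth.Agent.RootDat.len P i = 2 * Groth.Agent.RootDat.len P i₀) ∧ ∃ j, Groth.Agent.RootDat.len P j = 3 * Groth.Agent.RootDat.len P i₀)
  have key : ∀ i j : ι, Groth.Agent.RootDat.len P i ≤ Groth.Agent.RootDat.len P j → ∃ a b : ℤ,
      ((a, b) ∈ ({(1, 1), (1, 2), (1, 3), (2, 2), (-1, -1), (-1, -2), (-1, -3), (-2, -2), (2, 1), (3, 1), (-2, -1), (-3, -1)} : Set (ℤ × ℤ))) ∧
        a * Groth.Agent.RootDat.len P j = b * Groth.Agent.RootDat.len P i := by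
    intro i j hle
    obtain ⟨g, hg, hlink⟩ := Groth.Agent.RootDat.IsIrred.exists_linked_conj (P := P) hirr i j
    rw [Groth.Agent.RootDat.Linked, Groth.Agent.RootDat.isOrtho_iff] at hlink
    rw [← Groth.Agent.RootDat.len_smul P hg i]
    refine ⟨_, _, ?_, Groth.Agent.RootDat.pairing_len P (g • i) j⟩
    have h := P.pairingIn_pairingIn_mem_set_of_isCrystal_of_isRed (g • i) j
    rw [Groth.Agent.RootDat.pairingIn_eq, Groth.Agent.RootDat.pairingIn_eq] at h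
    simp only [Set.mem_insert_iff, Set.mem_singleton_iff, Prod.mk.injEq] at h ⊢
    rcases h with ⟨ha, hb⟩ | ⟨ha, hb⟩ | ⟨ha, hb⟩ | ⟨ha, hb⟩ | ⟨ha, hb⟩ | ⟨ha, hb⟩ | ⟨ha, hb⟩ |
      ⟨ha, hb⟩ | ⟨ha, hb⟩ | ⟨ha, hb⟩ | ⟨ha, hb⟩ | ⟨ha, hb⟩ | ⟨ha, hb⟩ <;>
    first
      | exact absurd ha hlink
      | (rw [ha, hb]; norm_num)
  have h3 : ∀ i, Groth.Agent.RootDat.len P i = Groth.Agent.RootDat.len P i₀ ∨ Groth.Agent.RootDat.len P i = 2 * Groth.Agent.RootDat.len P i₀ ∨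
      Groth.Agent.RootDat.len P i = 3 * Groth.Agent.RootDat.len P i₀ := by
    intro i
    obtain ⟨a, b, hab, h⟩ := key i₀ i (hmin i)
    have := hmin i
    have := Groth.Agent.RootDat.len_pos P i₀
    simp only [Set.mem_insert_iff, Set.mem_singleton_iff, Prod.mk.injEq] at hab
    rcases hab with ⟨rfl, rfl⟩ | ⟨rfl, rfl⟩ | ⟨rfl, rfl⟩ | ⟨rfl, rfl⟩ | ⟨rfl, rfl⟩ | ⟨rfl, rfl⟩ |
      ⟨rfl, rfl⟩ | ⟨rfl, rfl⟩ | ⟨rfl, rfl⟩ | ⟨rfl, rfl⟩ | ⟨rfl, rfl⟩ | ⟨rfl, rfl⟩ <;> omega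
  refine ⟨h3, ?_⟩
  rintro ⟨⟨i, hi⟩, ⟨j, hj⟩⟩
  have := Groth.Agent.RootDat.len_pos P i₀
  obtain ⟨a, b, hab, h⟩ := key i j (by omega)
  simp only [Set.mem_insert_iff, Set.mem_singleton_iff, Prod.mk.injEq] at hab
  rw [hi, hj] at h
  rcases hab with ⟨rfl, rfl⟩ | ⟨rfl, rfl⟩ | ⟨rfl, rfl⟩ | ⟨rfl, rfl⟩ | ⟨rfl, rfl⟩ | ⟨rfl, rfl⟩ |
      ⟨rfl, rfl⟩ | ⟨rfl, rfl⟩ | ⟨rfl, rfl⟩ | ⟨rfl, rfl⟩ | ⟨rfl, rfl⟩ | ⟨rfl, rfl⟩ <;> omega

end Groth.Agent.S5471
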