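import Groth.Statements.S5472
import Groth.Agent.RootDat.Weyl

set_option autoImplicit false
open RootPairing
open scoped Pointwise
open RootD

namespace Groth.Agent.S5472

/-- Let Δ be a system of simple roots (root-only sense), γ a positive root and α, β simple roots with
(γ, α^v) > 0 and (γ, β^v) ≥ 0 (equivalently: the order of s_α(γ) along Δ is smaller than that of γ,
and the order of s_β(γ) is at most that of γ). Then for every w in the group generated by s_α and
s_β the order of w(γ) along Δ is at most that of γ, and strictly smaller unless w ∈ {1, s_β}. The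
order is the sum of the coefficients along Δ; the conclusion is stated for the coefficient vector c
of γ - w(γ) along Δ: its coefficient sum is ≥ 0, and > 0 unless w = 1 or w = s_β. -/
theorem result {ι M N : Type*} [AddCommGroup M] [AddCommGroup N]
    (P : RootPairing ι ℤ M N) [Finite ι] (Δ : Set ι) (hΔ : RootD.IsSimpleSys P Δ)
    (k i j : ι) (hk : k ∈ RootD.posOf P Δ) (hi : i ∈ Δ) (hj : j ∈ Δ)
    (hα : 0 < P.pairing k i) (hβ : 0 ≤ P.pairing k j)
    (g : P.Aut) (hg : g ∈ Subgroup.closure {Equiv.reflection P i, Equiv.reflection P j})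
    (c : ι →₀ ℤ) (hc : ↑c.support ⊆ Δ)
    (hck : Finsupp.linearCombination ℤ P.root c = P.root k - P.root (g • k)) :
    0 ≤ c.sum (fun _ a => a) ∧ (g ≠ 1 → g ≠ Equiv.reflection P j → 0 < c.sum (fun _ a => a)) := by
  open Groth.Agent.RootDat in
  classical
  have hT : ({i, j} : Set ι) ⊆ Δ := by
    rintro a (rfl | rfl)
    · exact hi
    · exact hj
  rw [← Set.image_pair (refl P)] at hg
  obtain ⟨l, hl, rfl⟩ := exists_word P hg
  clear hg
  obtain ⟨hmem, hzero⟩ :
      P.root k - (l.map (refl P)).prod • P.root k ∈ RootD.natSpan P {i, j} ∧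
      (P.root k - (l.map (refl P)).prod • P.root k = 0 →
        (l.map (refl P)).prod = 1 ∨ (l.map (refl P)).prod = refl P j) := by
    clear hc hck c
    induction hn : l.length using Nat.strong_induction_on generalizing l with
    | _ n ih =>
      set g := (l.map (refl P)).prod with hgdef
      by_cases hone : g = 1
      · rw [hone, one_smul, sub_self]
        exact ⟨zero_mem _, fun _ => .inl rfl⟩
      obtain ⟨a, ha, hneg⟩ := exists_neg_of_ne_one hΔ hT (word_mem P hl) hone
      obtain ⟨l', hsub, hlen, hprod⟩ := exists_shorter hΔ (fun b hb => hT (hl b hb)) (hT ha) hneg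
      obtain ⟨hm', hz'⟩ := ih l'.length (by omega) l' (fun b hb => hl b (hsub b hb)) rfl
      set g' := (l'.map (refl P)).prod with hg'def
      have hsplit : g = g' * refl P a := by rw [hprod, mul_assoc, refl_mul_self, mul_one]
      have hpos : g' • a ∈ RootD.posOf P Δ := by
        have h1 := (mem_posOf_or hΔ (g • a)).resolve_left hneg
        rwa [hsplit, mul_smul, refl_smul_index, show P.reflectionPerm a a = opp P a from rfl,
          smul_opp, opp_opp] at h1
      have hspan : P.root (g' • a) ∈ RootD.natSpan P {i, j} := by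
        have h1 : P.root (g' • a) ∈ Submodule.span ℤ (P.root '' {i, j}) := by
          have := smul_sub_mem_span P (word_mem P (T := {i, j}) fun b hb => hl b (hsub b hb)) (P.root a)
          rw [← root_smul] at this
          have h2 := Submodule.add_mem _ this (Submodule.subset_span ⟨a, ha, rfl⟩)
          rwa [sub_add_cancel] at h2
        obtain ⟨d, hd, hd'⟩ := (Finsupp.mem_span_image_iff_linearCombination ℤ).mp h1
        have hdT : ↑d.support ⊆ ({i, j} : Set ι) := (Finsupp.mem_supported ℤ d).mp hd
        have hd0 := (mem_posOf_iff hΔ _).mp hpos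
        rw [coeff_unique hΔ (hdT.trans hT) hd'] at hd0
        exact (mem_natSpan_iff_coeff P).mpr ⟨d, hdT, hd0, hd'⟩
      have hnn : 0 ≤ P.pairing k a := by
        rcases ha with rfl | rfl
        · exact hα.le
        · exact hβ
      have hsum : P.root k - g • P.root k =
          (P.root k - g' • P.root k) + (P.pairing k a).toNat • P.root (g' • a) := by
        rw [← natCast_zsmul, Int.toNat_of_nonneg hnn, hsplit, mul_smul, refl_smul,
          P.root_coroot'_eq_pairing, smul_sub, smul_comm, ← sub_add, ← root_smul, ← root_smul]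
      have hs2 := AddSubmonoid.nsmul_mem _ hspan (P.pairing k a).toNat
      refine ⟨hsum ▸ AddMemClass.add_mem hm' hs2, fun h0 => ?_⟩
      rw [hsum] at h0
      have hz2 : (P.pairing k a).toNat • P.root (g' • a) = 0 := natSpan_pointed' hΔ.linInd
        (natSpan_mono P hT hs2) (by rw [← eq_neg_of_add_eq_zero_left h0]; exact natSpan_mono P hT hm')
      rw [hz2, add_zero] at h0
      have hp0 : P.pairing k a = 0 := by
        by_contra hne
        rw [← natCast_zsmul, Int.toNat_of_nonneg hnn] at hz2
        exact P.ne_zero _ (eq_zero_of_smul P hne hz2)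
      have haj : a = j := ha.resolve_left fun h => hα.ne' (h ▸ hp0)
      rcases hz' h0 with h | h
      · exact .inr (by rw [hsplit, h, one_mul, haj])
      · exact absurd (by rw [hsplit, h, haj, refl_mul_self]) hone
  rw [root_smul] at hck
  obtain ⟨d, hd, hd0, hd'⟩ := (mem_natSpan_iff_coeff P).mp hmem
  obtain rfl : c = d := comb_inj hΔ.linInd hc (hd.trans hT) (hck.trans hd'.symm)
  refine ⟨Finset.sum_nonneg fun a _ => hd0 a, fun h1 h2 => ?_⟩
  refine (Finset.sum_nonneg fun a _ => hd0 a).lt_of_ne fun h0 => ?_
  have : c = 0 := Finsupp.ext fun a => by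
    by_cases ha : a ∈ c.support
    · exact (Finset.sum_eq_zero_iff_of_nonneg fun a _ => hd0 a).mp h0.symm a ha
    · exact Finsupp.notMem_support_iff.mp ha
  rw [this, map_zero] at hd'
  exact (hzero hd'.symm).elim h1 h2

end Groth.Agent.S5472
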