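import Groth.Statements.S5473
import Groth.Agent.RootDat.Basic

set_option autoImplicit false
open RootD

namespace Groth.Agent.S5473

/-- If a linear map f and its transpose g induce bijections from the roots of R' onto the roots of R and
from the coroots of R onto the coroots of R' respectively (a morphism of root data in the
two-bijection sense), then the two bijections correspond: the coroot of α' is g applied to the
coroot of f(α'). -/
theorem result {ι M N ι' M' N' : Type*} [AddCommGroup M] [AddCommGroup N] [AddCommGroup M'] [AddCommGroup N']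
    (P : RootPairing ι ℤ M N) (P' : RootPairing ι' ℤ M' N') [Finite ι] [Finite ι']
    (f : M' →ₗ[ℤ] M) (g : N →ₗ[ℤ] N') (hfg : ∀ (m' : M') (n : N), P.toLinearMap (f m') n = P'.toLinearMap m' (g n))
    (e : ι' ≃ ι) (he : ∀ i' : ι', f (P'.root i') = P.root (e i'))
    (e' : ι ≃ ι') (he' : ∀ i : ι, g (P.coroot i) = P'.coroot (e' i)) :
    ∀ i' : ι', g (P.coroot (e i')) = P'.coroot i' := by
  open Groth.Agent.RootDat in
  classical
  intro i'
  set α := e i' with hα
  set β' := e' α with hβ'
  have key : ∀ γ', P.pairing (e γ') α = P'.pairing γ' β' := fun γ' => by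
    have h := hfg (P'.root γ') (P.coroot α)
    rw [he, he'] at h
    simpa using h
  suffices h : e β' = α by
    rw [he', ← hβ', e.injective h]
  set d := P.root α - P.root (e β') with hd
  have hd2 : P.pairing (e β') α = 2 := by rw [key, P'.pairing_same]
  have hex : ∀ m : ℕ, ∃ k, P.root k = P.root α + (2 * (m : ℤ)) • d ∧ P.pairing k α = 2 := by
    intro m
    induction m with
    | zero => exact ⟨α, by simp, P.pairing_same α⟩
    | succ m ih =>
      obtain ⟨k, hk, hk2⟩ := ih
      set γ := e (P'.reflectionPerm β' (e.symm k)) with hγ
      have hroot : P.root γ = P.root k - (2 : ℤ) • P.root (e β') := by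
        rw [hγ, ← he, root_reflectionPerm', map_sub, map_smul, he, he, ← key, e.apply_symm_apply, hk2]
      have hγ2 : P.pairing γ α = -2 := by
        rw [← P.root_coroot'_eq_pairing, hroot, map_sub, map_smul, P.root_coroot'_eq_pairing,
          P.root_coroot'_eq_pairing, hd2, hk2]
        rfl
      refine ⟨P.reflectionPerm α γ, ?_, ?_⟩
      · rw [root_reflectionPerm', hγ2, hroot, hk, hd]
        push_cast
        module
      · rw [← P.pairing_reflectionPerm, show P.reflectionPerm α α = opp P α from rfl,
          pairing_opp_right, hγ2]
        rfl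
  choose h hh _ using hex
  obtain ⟨a, b, hab, heq⟩ := Finite.exists_ne_map_eq_of_infinite h
  have h0 : ((2 * (a : ℤ)) - 2 * b) • d = 0 := by
    rw [sub_smul, sub_eq_zero]
    exact add_left_cancel ((hh a).symm.trans ((congrArg P.root heq).trans (hh b)))
  exact (root_inj P (sub_eq_zero.mp (eq_zero_of_smul P (by omega) h0))).symm

end Groth.Agent.S5473
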