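import Groth.Statements.S5474
import Groth.Agent.RootDat.Semisimple

set_option autoImplicit false
open RootD

namespace Groth.Agent.S5474

/-- Every morphism between semisimple root data is an isogeny (injective on weight lattices with finite
cokernel). -/
theorem result {ι M N ι' M' N' : Type*} [AddCommGroup M] [AddCommGroup N] [AddCommGroup M'] [AddCommGroup N']
    (P : RootPairing ι ℤ M N) (P' : RootPairing ι' ℤ M' N') [Finite ι] [Finite ι']
    [Module.Finite ℤ M] [Module.Finite ℤ N] [Module.Finite ℤ M'] [Module.Finite ℤ N']
    (hss : Module.finrank ℤ (Submodule.span ℤ (Set.range P.root)) = Module.finrank ℤ M)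
    (hss' : Module.finrank ℤ (Submodule.span ℤ (Set.range P'.root)) = Module.finrank ℤ M')
    (f : RootPairing.Hom P' P) :
    Function.Injective f.weightMap ∧ Finite (M ⧸ LinearMap.range f.weightMap) := by
  open Groth.Agent.RootDat in
  have hroot : ∀ i, f.weightMap (P'.root i) = P.root (f.indexEquiv i) := fun i =>
    RootPairing.Hom.root_weightMap_apply _ _ i f
  refine ⟨(injective_iff_map_eq_zero _).mpr fun x hx => ?_,
    finite_quotient_of_root_le P hss fun i => ⟨P'.root (f.indexEquiv.symm i), ?_⟩⟩
  · have h : x ∈ corad P' := (mem_corad P').mpr fun i' => by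
      have h1 := LinearMap.congr_fun
        (RootPairing.Hom.weight_coweight_transpose_apply P' P (P.coroot (f.indexEquiv i')) f) x
      rw [RootPairing.Hom.coroot_coweightMap_apply, Equiv.symm_apply_apply, LinearMap.dualMap_apply,
        hx, map_zero] at h1
      exact h1.symm
    rwa [corad_eq_bot P' hss', Submodule.mem_bot] at h
  · rw [hroot, Equiv.apply_symm_apply]

end Groth.Agent.S5474
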