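import Groth.Statements.S5475
import Groth.Agent.RootDat.Weyl

set_option autoImplicit false
open RootD

namespace Groth.Agent.S5475

/-- In an adjoint root datum every indivisible root is an indivisible element of the weight lattice. -/
theorem result {ι M N : Type*} [AddCommGroup M] [AddCommGroup N]
    (P : RootPairing ι ℤ M N) [Finite ι] (had : Submodule.span ℤ (Set.range P.root) = ⊤)
    (i : ι) (hind : RootD.IsIndiv P i) (m : M) (n : ℤ) (h : n • m = P.root i) : n = 1 ∨ n = -1 := by
  classical
  obtain ⟨Δ, hΔ⟩ := Groth.Agent.RootDat.exists_isSimpleSys P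
  obtain ⟨g, -, j, hj, hgj⟩ := Groth.Agent.RootDat.indiv_conj_simple hΔ hind
  have htop : Submodule.span ℤ (P.root '' Δ) = ⊤ := by
    rw [eq_top_iff, ← had, Submodule.span_le]
    rintro _ ⟨k, rfl⟩
    exact (Finsupp.mem_span_image_iff_linearCombination ℤ).mpr
      ⟨_, (Finsupp.mem_supported ℤ _).mpr (Groth.Agent.RootDat.coeff_support hΔ k), Groth.Agent.RootDat.coeff_spec hΔ k⟩
  have hmem : g⁻¹ • m ∈ Submodule.span ℤ (P.root '' Δ) := htop ▸ Submodule.mem_top
  obtain ⟨c, hc, hcx⟩ := (Finsupp.mem_span_image_iff_linearCombination ℤ).mp hmem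
  rw [Finsupp.mem_supported] at hc
  have heq : n • c = Finsupp.single j 1 := by
    refine Groth.Agent.RootDat.comb_inj hΔ.linInd (fun a ha => hc (Finsupp.support_smul ha)) (fun a ha => ?_) ?_
    · have := Finsupp.support_single_subset ha
      simp only [Finset.mem_singleton] at this
      exact this ▸ hj
    · rw [map_smul, hcx, Finsupp.linearCombination_single, one_smul, smul_comm, h, ← hgj,
        Groth.Agent.RootDat.root_smul, inv_smul_smul]
  have := congrArg (fun d : ι →₀ ℤ => d j) heq
  simp only [Finsupp.smul_apply, Finsupp.single_eq_same, smul_eq_mul] at this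
  exact Int.eq_one_or_neg_one_of_mul_eq_one this

end Groth.Agent.S5475
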