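import Groth.Statements.S5478
import Groth.Agent.RootDat.Weyl

set_option autoImplicit false
open RootPairing
open scoped Pointwise
open RootD

namespace Groth.Agent.S5478

/-- The group of automorphisms of a root datum that act trivially on the radical is finite. -/
theorem result {ι M N : Type*} [AddCommGroup M] [AddCommGroup N]
    (P : RootPairing ι ℤ M N) [Finite ι] :
    Set.Finite {u : P.Aut | ∀ m : M, ∃ n : ℕ, 0 < n ∧ n • (u • m - m) ∈ Submodule.span ℤ (Set.range P.root)} := by
  have hspan : ∀ (v : P.Aut) (x : M), x ∈ Submodule.span ℤ (Set.range P.root) →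
      v • x ∈ Submodule.span ℤ (Set.range P.root) := by
    intro v x hx
    induction hx using Submodule.span_induction with
    | mem y hy => obtain ⟨k, rfl⟩ := hy; rw [← Groth.Agent.RootDat.root_smul]; exact Groth.Agent.RootDat.root_mem_span P _
    | zero => rw [smul_zero]; exact zero_mem _
    | add y z _ _ hy hz => rw [smul_add]; exact Submodule.add_mem _ hy hz
    | smul r y _ hy => rw [smul_comm]; exact Submodule.smul_mem _ _ hy
  refine Set.Finite.of_finite_image (f := fun (u : P.Aut) (i : ι) => u • i) (Set.toFinite _) ?_
  intro u hu v hv huv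
  have h : v⁻¹ * u = 1 := by
    refine Groth.Agent.RootDat.eq_one_of_fix P (fun i => ?_) fun m => ?_
    · have hi : u • i = v • i := congrFun huv i
      rw [mul_smul, hi, inv_smul_smul]
    · obtain ⟨a, ha, hua⟩ := hu m
      obtain ⟨b, hb, hvb⟩ := hv m
      refine ⟨a * b, mul_pos ha hb, ?_⟩
      have : (v⁻¹ * u) • m - m = v⁻¹ • ((u • m - m) - (v • m - m)) := by
        rw [mul_smul, sub_sub_sub_cancel_right, smul_sub, inv_smul_smul]
      rw [this, smul_comm (a * b)]
      refine hspan _ _ ?_
      rw [smul_sub]
      refine Submodule.sub_mem _ ?_ ?_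
      · rw [mul_comm, mul_smul]
        exact Submodule.smul_of_tower_mem _ b hua
      · rw [mul_smul]
        exact Submodule.smul_of_tower_mem _ a hvb
  exact (inv_mul_eq_one.mp h).symm

end Groth.Agent.S5478
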