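import Groth.Statements.S5479
import Groth.Agent.RootDat.Weyl

set_option autoImplicit false
open RootPairing
open scoped Pointwise
open RootD

namespace Groth.Agent.S5479

/-- Aut(R) is the semidirect product of the Weyl group by the stabiliser E_Δ of a system of simple
roots: every automorphism is uniquely w · e with w ∈ W and e(Δ) = Δ. -/
theorem result {ι M N : Type*} [AddCommGroup M] [AddCommGroup N]
    (P : RootPairing ι ℤ M N) [Finite ι] (Δ : Set ι) (hΔ : RootD.IsSimpleSys P Δ) (u : P.Aut) :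
    ∃! w : P.weylGroup, (fun i : ι => ((w : P.Aut)⁻¹ * u) • i) '' Δ = Δ := by
  obtain ⟨g, hg, hgΔ⟩ := Groth.Agent.RootDat.exists_weyl_simpleSys P hΔ (Groth.Agent.RootDat.isSimpleSys_image P hΔ u)
  refine ⟨⟨g, hg⟩, ?_, fun w hw => ?_⟩
  · change (fun i : ι => (g⁻¹ * u) • i) '' Δ = Δ
    conv_rhs => rw [show Δ = (fun i : ι => g⁻¹ • i) '' ((fun i : ι => g • i) '' Δ) by
      rw [Set.image_image]; simp]
    rw [hgΔ, Set.image_image]
    simp only [mul_smul]
  · have hone : (w : P.Aut)⁻¹ * g = 1 := by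
      refine Groth.Agent.RootDat.weyl_eq_one_of_pos P hΔ (mul_mem (inv_mem w.2) hg) fun i hi => ?_
      obtain ⟨j, hj, hji⟩ : g • i ∈ (fun k : ι => u • k) '' Δ := hgΔ ▸ Set.mem_image_of_mem _ hi
      have : ((w : P.Aut)⁻¹ * u) • j ∈ Δ := hw ▸ Set.mem_image_of_mem _ hj
      rw [mul_smul] at this ⊢
      rw [← hji]
      exact Groth.Agent.RootDat.subset_posOf this
    exact Subtype.ext (inv_mul_eq_one.mp hone)

end Groth.Agent.S5479
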