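import Groth.Statements.S5480
import Groth.Agent.RootDat.Morph

set_option autoImplicit false
open RootD

namespace Groth.Agent.S5480

/-- For a p-morphism of reduced root data with root bijection u and radicial exponents q: (a) for all
roots α, β one has q(s_α(β)) = q(β) and u(s_α(β)) = s_{u(α)}(u(β)); (b) the exponents are invariant
under the Weyl group, q(w(α)) = q(α); (c) there is an isomorphism ū from the Weyl group of the first
datum to that of the second with ū(s_α) = s_{u(α)} and u(w(α)) = ū(w)(u(α)) for every Weyl group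
element w and every root α. -/
theorem result {ι M N ι' M' N' : Type*} [AddCommGroup M] [AddCommGroup N] [AddCommGroup M'] [AddCommGroup N']
    (P : RootPairing ι ℤ M N) (P' : RootPairing ι' ℤ M' N') [Finite ι] [Finite ι'] [P.IsReduced] [P'.IsReduced]
    (p : ℕ) (hp : 0 < p) (f : M' →ₗ[ℤ] M) (g : N →ₗ[ℤ] N')
    (hfg : ∀ (m' : M') (n : N), P.toLinearMap (f m') n = P'.toLinearMap m' (g n))
    (u : ι ≃ ι') (q : ι → ℕ) (hq : ∀ i, ∃ e : ℕ, q i = p ^ e)
    (hroot : ∀ i : ι, f (P'.root (u i)) = (q i : ℤ) • P.root i)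
    (hcoroot : ∀ i : ι, g (P.coroot i) = (q i : ℤ) • P'.coroot (u i)) :
    (∀ i j : ι, q (P.reflectionPerm i j) = q j ∧ u (P.reflectionPerm i j) = P'.reflectionPerm (u i) (u j)) ∧
      (∀ w ∈ P.weylGroup, ∀ i : ι, q (w • i) = q i) ∧
      ∃ ubar : P.weylGroup ≃* P'.weylGroup,
        (∀ i : ι, ubar (RootPairing.weylGroup.ofIdx P i) = RootPairing.weylGroup.ofIdx P' (u i)) ∧
        ∀ (w : P.weylGroup) (i : ι), u ((w : P.Aut) • i) = ((ubar w : P'.weylGroup) : P'.Aut) • u i := by
  open Groth.Agent.RootDat in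
  classical
  have h := isPMor_mk hp hfg hq hroot hcoroot
  refine ⟨fun i j => h.perm_eq i j, fun w hw => ?_, ?_⟩
  · induction hw using RootPairing.weylGroup.induction with
    | mem j => exact fun i => (h.perm_eq j i).1
    | one => exact fun i => by rw [one_smul]
    | mul a b _ _ ha hb => exact fun i => by rw [mul_smul, ha, hb]
  have hconj : ∀ i, u.permCongrHom (P.reflectionPerm i) = P'.reflectionPerm (u i) := fun i => by
    ext j
    rw [Equiv.permCongrHom_coe, Equiv.permCongr_apply, (h.perm_eq i (u.symm j)).2, u.apply_symm_apply]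
  have heq : P.weylGroupToPerm.range.map u.permCongrHom.toMonoidHom = P'.weylGroupToPerm.range := by
    rw [RootPairing.range_weylGroupToPerm, RootPairing.range_weylGroupToPerm, MonoidHom.map_closure,
      ← Set.range_comp]
    congr 1
    rw [← u.surjective.range_comp P'.reflectionPerm]
    exact congrArg Set.range (funext hconj)
  have key : ∀ w : P.weylGroup, ∃ w' : P'.weylGroup,
      P'.weylGroupToPerm w' = u.permCongrHom (P.weylGroupToPerm w) := fun w =>
    MonoidHom.mem_range.mp (heq ▸ ⟨_, ⟨w, rfl⟩, rfl⟩)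
  have key' : ∀ w' : P'.weylGroup, ∃ w : P.weylGroup,
      P'.weylGroupToPerm w' = u.permCongrHom (P.weylGroupToPerm w) := fun w' => by
    obtain ⟨x, ⟨w, rfl⟩, hx⟩ : P'.weylGroupToPerm w' ∈ P.weylGroupToPerm.range.map
        u.permCongrHom.toMonoidHom := heq.symm ▸ ⟨w', rfl⟩
    exact ⟨w, hx.symm⟩
  choose φ hφ using key
  have hinj := weylGroupToPerm_injective P'
  let Φ : P.weylGroup →* P'.weylGroup :=
    MonoidHom.mk' φ fun a b => hinj (by rw [map_mul, hφ, hφ, hφ, map_mul, map_mul])
  have hbij : Function.Bijective Φ := by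
    refine ⟨fun a b hab => weylGroupToPerm_injective P (u.permCongrHom.injective ?_), fun w' => ?_⟩
    · rw [← hφ, ← hφ]
      exact congrArg _ hab
    · obtain ⟨w, hw⟩ := key' w'
      exact ⟨w, hinj ((hφ w).trans hw.symm)⟩
  refine ⟨MulEquiv.ofBijective Φ hbij, fun i => hinj ((hφ _).trans (hconj i)), fun w i => ?_⟩
  have := congrArg (fun e : Equiv.Perm ι' => e (u i)) (hφ w)
  rw [Equiv.permCongrHom_coe, Equiv.permCongr_apply, u.symm_apply_apply] at this
  exact this.symm

end Groth.Agent.S5480
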