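import Groth.Statements.S5483
import Groth.Agent.RootDat.Components

set_option autoImplicit false
open RootD

namespace Groth.Agent.S5483

/-- If a system of simple roots Δ is the disjoint union of two mutually orthogonal subsets Δ', Δ'', then
R_{Δ'} and R_{Δ''} partition the set of roots. -/
theorem result {ι M N : Type*} [AddCommGroup M] [AddCommGroup N]
    (P : RootPairing ι ℤ M N) [Finite ι] (Δ Δ' : Set ι) (hΔ : RootD.IsSimpleSys P Δ)
    (hsub : Δ' ⊆ Δ) (horth : ∀ i ∈ Δ', ∀ j ∈ Δ \ Δ', P.IsOrthogonal i j) (k : ι) :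
    (k ∈ RootD.inSpan P Δ' ∨ k ∈ RootD.inSpan P (Δ \ Δ')) ∧
      ¬ (k ∈ RootD.inSpan P Δ' ∧ k ∈ RootD.inSpan P (Δ \ Δ')) := by
  classical
  have key : ∀ k ∈ RootD.posOf P Δ,
      k ∈ RootD.inSpan P Δ' ∨ k ∈ RootD.inSpan P (Δ \ Δ') := by
    intro k hk
    refine Groth.Agent.RootDat.posOf_induction (fun k => k ∈ RootD.inSpan P Δ' ∨ k ∈ RootD.inSpan P (Δ \ Δ')) ?_ ?_ hk
    · intro i hi
      by_cases h : i ∈ Δ'
      · exact Or.inl (Submodule.subset_span ⟨i, h, rfl⟩)
      · exact Or.inr (Submodule.subset_span ⟨i, ⟨hi, h⟩, rfl⟩)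
    · intro i hi j k ihj hj hkj
      have cross : ∀ A B : Set ι, A ⊆ Δ → B ⊆ Δ → Disjoint A B →
          (∀ a ∈ A, ∀ b ∈ B, P.IsOrthogonal a b) → j ∈ RootD.inSpan P A → i ∈ B → False := by
        intro A B hA hB hAB horth hjA hiB
        have hji : P.pairing j i = 0 := by
          have hker : Submodule.span ℤ (P.root '' A) ≤ LinearMap.ker (P.coroot' i) := by
            rw [Submodule.span_le]
            rintro _ ⟨a, ha, rfl⟩
            simpa using (horth a ha i hiB).1
          simpa using hker hjA
        obtain ⟨l, hl⟩ : P.root j - P.root i ∈ Set.range P.root :=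
          ⟨P.reflectionPerm i k, by
            rw [Groth.Agent.RootDat.root_reflectionPerm', Groth.Agent.RootDat.pairing_add P hkj, hji, P.pairing_same, hkj, zero_add,
              two_smul]; abel⟩
        have hco := Groth.Agent.RootDat.coeff_add hΔ (show P.root j = P.root l + P.root i by rw [hl]; abel)
        rw [Groth.Agent.RootDat.coeff_simple hΔ hi] at hco
        have hji0 : Groth.Agent.RootDat.coeff hΔ j i = 0 := by
          by_contra hne
          exact Set.disjoint_left.mp hAB
            ((Groth.Agent.RootDat.mem_inSpan_iff hΔ hA j).mp hjA (Finsupp.mem_support_iff.mpr hne)) hiB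
        have hli : Groth.Agent.RootDat.coeff hΔ l i < 0 := by
          have := congrArg (fun c : ι →₀ ℤ => c i) hco
          simp only [Finsupp.add_apply, Finsupp.single_eq_same, hji0] at this
          omega
        obtain ⟨a, ha⟩ := Finsupp.support_nonempty_iff.mpr (Groth.Agent.RootDat.coeff_ne_zero hΔ j)
        have hai : a ≠ i := fun h => (Finsupp.mem_support_iff.mp ha) (h ▸ hji0)
        have hla : 0 < Groth.Agent.RootDat.coeff hΔ l a := by
          have := congrArg (fun c : ι →₀ ℤ => c a) hco
          simp only [Finsupp.add_apply, Finsupp.single_eq_of_ne hai] at this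
          have h1 := (Groth.Agent.RootDat.mem_posOf_iff hΔ j).mp hj a
          have h2 := Finsupp.mem_support_iff.mp ha
          omega
        rcases Groth.Agent.RootDat.coeff_sign hΔ l with h1 | h1
        · have := h1 i; omega
        · have := h1 a; omega
      rcases ihj with hjA | hjA
      · by_cases hi' : i ∈ Δ'
        · exact Or.inl (show P.root k ∈ Submodule.span ℤ (P.root '' _) by
            rw [hkj]; exact Submodule.add_mem _ hjA (Submodule.subset_span ⟨i, hi', rfl⟩))
        · exact (cross Δ' (Δ \ Δ') hsub Set.sdiff_subset Set.disjoint_sdiff_right horth hjA (show i ∈ Δ \ Δ' from ⟨hi, hi'⟩)).elim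
      · by_cases hi' : i ∈ Δ'
        · exact (cross (Δ \ Δ') Δ' Set.sdiff_subset hsub Set.disjoint_sdiff_left
            (fun a ha b hb => (horth b hb a ha).symm) hjA hi').elim
        · exact Or.inr (show P.root k ∈ Submodule.span ℤ (P.root '' _) by
            rw [hkj]; exact Submodule.add_mem _ hjA (Submodule.subset_span ⟨i, ⟨hi, hi'⟩, rfl⟩))
  refine ⟨?_, fun ⟨h1, h2⟩ => ?_⟩
  · rcases Groth.Agent.RootDat.mem_posOf_or hΔ k with h | h
    · exact key k h
    · rcases key _ h with h' | h' <;>
        [left; right] <;>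
        · change P.root (Groth.Agent.RootDat.opp P k) ∈ Submodule.span ℤ _ at h'
          rw [Groth.Agent.RootDat.root_opp, Submodule.neg_mem_iff] at h'
          show P.root k ∈ Submodule.span ℤ _
          exact h'
  · obtain ⟨a, ha⟩ := Finsupp.support_nonempty_iff.mpr (Groth.Agent.RootDat.coeff_ne_zero hΔ k)
    exact ((Groth.Agent.RootDat.mem_inSpan_iff hΔ Set.sdiff_subset k).mp h2 ha).2
      ((Groth.Agent.RootDat.mem_inSpan_iff hΔ hsub k).mp h1 ha)

end Groth.Agent.S5483
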