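import Groth.Statements.S5484
import Groth.Agent.RootDat.Lengths

set_option autoImplicit false
open RootD

namespace Groth.Agent.S5484

open Classical in
/-- Every principal minor of the Cartan matrix (a_{α,β} = (α^v, β), α, β simple) is strictly positive. -/
theorem result {ι M N : Type*} [AddCommGroup M] [AddCommGroup N]
    (P : RootPairing ι ℤ M N) [Finite ι] (Δ : Finset ι) (hΔ : RootD.IsSimpleSys P (↑Δ : Set ι))
    (Δ' : Finset ι) (hsub : Δ' ⊆ Δ) :
    0 < Matrix.det (Matrix.of fun (a b : ↥Δ') => P.pairing (b : ι) (a : ι)) := by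
  classical
  let G : Matrix ↥Δ' ↥Δ' ℝ := Matrix.of fun a b => ((Groth.Agent.RootDat.len P a * P.pairing (b : ι) (a : ι) : ℤ) : ℝ)
  let Q : Matrix ↥Δ' ↥Δ' ℤ := Matrix.of fun (a b : ↥Δ') => P.pairing (b : ι) (a : ι)
  have hG : G = Matrix.diagonal (fun a : ↥Δ' => (Groth.Agent.RootDat.len P a : ℝ)) * Q.map (Int.castRingHom ℝ) := by
    ext a b
    simp [G, Q, Matrix.diagonal_mul]
  obtain hli : LinearIndependent ℤ (fun a : ↥Δ' => P.root (a : ι)) := hΔ.linInd.mono hsub
  have hGpos : 0 < G.det := by
    have hsymm : ∀ a b : ↥Δ', Groth.Agent.RootDat.len P a * P.pairing (b : ι) (a : ι) = Groth.Agent.RootDat.len P b * P.pairing (a : ι) (b : ι) :=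
      fun a b => by linarith [Groth.Agent.RootDat.pairing_len P (a : ι) (b : ι)]
    have hGherm : G.IsHermitian := Matrix.IsHermitian.ext fun a b => by
      simp only [G, Matrix.of_apply, star_trivial, hsymm a b]
    have hsemi : G.PosSemidef := by

      let _ := Fintype.ofFinite ι
      let C : Matrix ι ↥Δ' ℝ := Matrix.of fun k a => (P.coroot' k (P.root (a : ι)) : ℝ)
      have hC : G = (2 : ℝ) • (C.conjTranspose * C) := by
        ext a b
        have h2 := Groth.Agent.RootDat.two_B_root P (b : ι) (a : ι)
        rw [Groth.Agent.RootDat.B_eq] at h2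
        simp only [P.rootForm_apply_apply] at h2
        simp only [G, C, Matrix.of_apply, Matrix.smul_apply, Matrix.mul_apply, Matrix.conjTranspose_apply,
          star_trivial, smul_eq_mul]
        rw [mul_comm (Groth.Agent.RootDat.len P a)]
        rw [Groth.Agent.RootDat.len, Groth.Agent.RootDat.B_eq, P.rootForm_apply_apply, ← h2]
        push_cast
        congr 1
        exact Finset.sum_congr rfl fun k _ => mul_comm _ _
      rw [hC]
      exact (Matrix.posSemidef_conjTranspose_mul_self C).smul (by norm_num)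
    have hdet : G.det ≠ 0 := by
      have hZ : (Matrix.of fun (a b : ↥Δ') => Groth.Agent.RootDat.len P a * P.pairing (b : ι) (a : ι)).det ≠ 0 := by
        intro h0
        obtain ⟨x, hx0, hx⟩ := Matrix.exists_mulVec_eq_zero_iff.mpr h0
        apply hx0
        refine funext (Fintype.linearIndependent_iff.mp hli x ?_)
        refine Groth.Agent.RootDat.eq_zero_of_mem_span_image P (s := (↑Δ' : Set ι)) ?_ ?_
        · exact Submodule.sum_mem _ fun a _ =>
            Submodule.smul_mem _ _ (Submodule.subset_span ⟨a, a.2, rfl⟩)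
        · intro i hi
          have h1 := congrFun hx ⟨i, hi⟩
          simp only [Matrix.mulVec, dotProduct, Matrix.of_apply, Pi.zero_apply, mul_assoc,
            ← Finset.mul_sum] at h1
          simp only [map_sum, map_smul, RootPairing.root_coroot'_eq_pairing, smul_eq_mul]
          rw [← (mul_eq_zero.mp h1).resolve_left (Groth.Agent.RootDat.len_pos P i).ne']
          exact Finset.sum_congr rfl fun b _ => mul_comm _ _
      have : G = (Matrix.of fun (a b : ↥Δ') => Groth.Agent.RootDat.len P a * P.pairing (b : ι) (a : ι)).map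
          (Int.castRingHom ℝ) := by ext a b; simp [G]
      rw [this, ← RingHom.mapMatrix_apply, ← RingHom.map_det]
      exact (map_ne_zero_iff _ (Int.cast_injective)).mpr hZ
    exact lt_of_le_of_ne hsemi.det_nonneg (Ne.symm hdet)
  rw [hG, Matrix.det_mul, Matrix.det_diagonal, ← RingHom.mapMatrix_apply, ← RingHom.map_det] at hGpos
  have hprod : (0 : ℝ) < ∏ a : ↥Δ', (Groth.Agent.RootDat.len P a : ℝ) :=
    Finset.prod_pos fun a _ => by exact_mod_cast Groth.Agent.RootDat.len_pos P (a : ι)
  have := (pos_iff_pos_of_mul_pos hGpos).mp hprod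
  simpa [Q] using this

end Groth.Agent.S5484
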