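import Groth.Statements.S5489
import Groth.Agent.RootDat.PosSys

set_option autoImplicit false
open RootD

namespace Groth.Agent.S5489

/-- If a root α, distinct from roots α_1, ..., α_n, is a non-negative rational combination of them, then
some α_l with non-zero coefficient has (α^v, α_l) > 0 and α - α_l a root. -/
theorem result {ι M N : Type*} [AddCommGroup M] [AddCommGroup N]
    (P : RootPairing ι ℤ M N) [Finite ι] {n : ℕ} (a : Fin n → ι) (m : Fin n → ℕ)
    (k : ι) (hne : ∀ l, a l ≠ k) (c : ℕ) (hc : 0 < c) (hk : c • P.root k = ∑ l, m l • P.root (a l)) :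
    ∃ l : Fin n, m l ≠ 0 ∧ 0 < P.pairing (a l) k ∧ P.root k - P.root (a l) ∈ Set.range P.root := by
  classical
  by_contra! hcon
  have h1 : 0 < Groth.Agent.RootDat.B P (c • P.root k) (P.root k) := by
    rw [map_nsmul, LinearMap.smul_apply, nsmul_eq_mul]
    exact mul_pos (by exact_mod_cast hc) (Groth.Agent.RootDat.B_root_pos P k)
  rw [hk, map_sum, LinearMap.sum_apply] at h1
  refine absurd h1 (not_lt.mpr (Finset.sum_nonpos fun l _ => ?_))
  rw [map_nsmul, LinearMap.smul_apply, nsmul_eq_mul]
  by_cases hl : m l = 0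
  · simp [hl]
  refine mul_nonpos_of_nonneg_of_nonpos (Nat.cast_nonneg _) ((Groth.Agent.RootDat.B_root_nonpos_iff P (a l) k).mpr ?_)
  by_contra! hpos
  obtain ⟨j, hj⟩ := Groth.Agent.RootDat.sub_mem P (Groth.Agent.RootDat.pairing_pos_symm P hpos) (fun h => hne l h.symm)
  exact hcon l hl hpos ⟨j, hj⟩

end Groth.Agent.S5489
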