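import Groth.Statements.S5491
import Groth.Agent.RootDat.Base

set_option autoImplicit false
open RootD

namespace Groth.Agent.S5491

open Classical in
/-- With ρ^v the half-sum of the positive coroots, the order (height) of any root α relative to the
simple system equals (ρ^v, α); equivalently 2·height(α) = Σ_{β > 0} (β^v, α). -/
theorem result {ι M N : Type*} [AddCommGroup M] [AddCommGroup N]
    (P : RootPairing ι ℤ M N) [Finite ι] [Fintype ι] [P.IsReduced] (b : P.Base) (i : ι) :
    2 * b.height i = ∑ j, if b.IsPos j then P.pairing i j else 0 := by
  open Groth.Agent.RootDat in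
  rw [← sumPos_root_base b i, sumPos, LinearMap.sum_apply, ← Finset.sum_filter]
  refine Finset.sum_congr ?_ fun j _ => P.root_coroot'_eq_pairing j i
  ext j
  rw [Set.Finite.mem_toFinset, Finset.mem_filter, isPos_iff_posOf b]
  simp

end Groth.Agent.S5491
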