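import Groth.Statements.S5492
import Groth.Agent.RootDat.PosSys

set_option autoImplicit false
open RootD

namespace Groth.Agent.S5492

/-- Off-diagonal entries of the Cartan matrix of a system of simple roots are non-positive: (α^v, β) ≤ 0
for distinct simple roots α, β. -/
theorem result {ι M N : Type*} [AddCommGroup M] [AddCommGroup N]
    (P : RootPairing ι ℤ M N) [Finite ι] (Δ : Set ι) (hΔ : RootD.IsSimpleSys P Δ) (i j : ι)
    (hi : i ∈ Δ) (hj : j ∈ Δ) (hij : i ≠ j) : P.pairing j i ≤ 0 := by
  have heq := Groth.Agent.RootDat.eq_simpleOf hΔ (Groth.Agent.RootDat.isPosSys_posOf hΔ) Groth.Agent.RootDat.subset_posOf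
  rw [heq] at hi hj
  exact Groth.Agent.RootDat.pairing_simpleOf_nonpos P (Groth.Agent.RootDat.isHalf_of_isPosSys P (Groth.Agent.RootDat.isPosSys_posOf hΔ)) hj hi
    (Ne.symm hij)

end Groth.Agent.S5492
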