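import Groth.Statements.S5493
import Groth.Agent.RootDat.Base
import Groth.Agent.RootDat.Semisimple

set_option autoImplicit false
open RootD

namespace Groth.Agent.S5493

/-- Adjoint case; the simply connected case is dual: two reduced adjoint root data with systems of
simple roots Δ, Δ' and a bijection u : Δ → Δ' respecting the Cartan matrices are isomorphic through
a unique isomorphism inducing u on Δ. -/
theorem result {ι M N ι' M' N' : Type*} [AddCommGroup M] [AddCommGroup N] [AddCommGroup M'] [AddCommGroup N']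
    (P : RootPairing ι ℤ M N) (P' : RootPairing ι' ℤ M' N') [Finite ι] [Finite ι'] [P.IsReduced] [P'.IsReduced]
    (had : Submodule.span ℤ (Set.range P.root) = ⊤) (had' : Submodule.span ℤ (Set.range P'.root) = ⊤)
    (b : P.Base) (b' : P'.Base) (u : ↥b.support ≃ ↥b'.support)
    (hu : ∀ i j : ↥b.support, P.pairing (i : ι) (j : ι) = P'.pairing (u i : ι') (u j : ι')) :
    ∃! e : RootPairing.Equiv P P', ∀ i : ↥b.support, e.indexEquiv (i : ι) = (u i : ι') := by
  open Groth.Agent.RootDat in
  classical
  have hΔ := isSimpleSys_base b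
  have hΔ' := isSimpleSys_base b'
  have hsp : ⊤ ≤ Submodule.span ℤ (Set.range fun i : ↥b.support => P.root (i : ι)) := by
    rw [← had, Submodule.span_le]
    rintro _ ⟨k, rfl⟩
    rw [SetLike.mem_coe, ← coeff_spec hΔ k, Set.range_comp' P.root, Subtype.range_coe_subtype]
    exact (Finsupp.mem_span_image_iff_linearCombination ℤ).mpr
      ⟨_, (Finsupp.mem_supported ℤ _).mpr (coeff_support hΔ k), rfl⟩
  have hsp' : ⊤ ≤ Submodule.span ℤ (Set.range fun i : ↥b'.support => P'.root (i : ι')) := by
    rw [← had', Submodule.span_le]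
    rintro _ ⟨k, rfl⟩
    rw [SetLike.mem_coe, ← coeff_spec hΔ' k, Set.range_comp' P'.root, Subtype.range_coe_subtype]
    exact (Finsupp.mem_span_image_iff_linearCombination ℤ).mpr
      ⟨_, (Finsupp.mem_supported ℤ _).mpr (coeff_support hΔ' k), rfl⟩
  let B₁ := Module.Basis.mk (show LinearIndependent ℤ fun i : ↥b.support => P.root (i : ι) from
    b.linearIndepOn_root) hsp
  let B₂ := Module.Basis.mk (show LinearIndependent ℤ fun i : ↥b'.support => P'.root (i : ι') from
    b'.linearIndepOn_root) hsp'
  let f : M ≃ₗ[ℤ] M' := B₁.equiv B₂ u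
  have hf : ∀ i : ↥b.support, f (P.root i) = P'.root (u i) := fun i => by
    have := B₁.equiv_apply (b' := B₂) (e := u) i
    simpa [B₁, B₂] using this
  have hcomm : ∀ (a : ↥b.support) (x : M),
      f (P.reflection a x) = P'.reflection (u a) (f x) := fun a => by
    refine LinearMap.congr_fun (B₁.ext (f₁ := f.toLinearMap ∘ₗ (P.reflection a).toLinearMap)
      (f₂ := (P'.reflection (u a)).toLinearMap ∘ₗ f.toLinearMap) fun c => ?_)
    simp only [LinearMap.comp_apply, LinearEquiv.coe_coe, B₁, Module.Basis.mk_apply]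
    rw [P.reflection_apply_root, map_sub, map_smul, hf, hf, P'.reflection_apply_root, hu]
  have hmem : ∀ g ∈ Subgroup.closure (refl P '' (b.support : Set ι)), ∀ k,
      (∃ k', f (P.root k) = P'.root k') → ∃ k', f (P.root (g • k)) = P'.root k' := by
    intro g hg
    induction hg using Subgroup.closure_induction_left with
    | one => exact fun k hk => by rwa [one_smul]
    | mul_left x hx y _ ih =>
      obtain ⟨a, ha, rfl⟩ := hx
      intro k hk
      obtain ⟨k', hk'⟩ := ih k hk
      refine ⟨P'.reflectionPerm (u ⟨a, ha⟩) k', ?_⟩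
      rw [mul_smul, root_smul, RootPairing.Equiv.reflection_smul, hcomm ⟨a, ha⟩, hk',
        P'.root_reflectionPerm]
    | inv_mul_cancel x hx y _ ih =>
      obtain ⟨a, ha, rfl⟩ := hx
      intro k hk
      obtain ⟨k', hk'⟩ := ih k hk
      refine ⟨P'.reflectionPerm (u ⟨a, ha⟩) k', ?_⟩
      rw [RootPairing.Equiv.reflection_inv, mul_smul, root_smul, RootPairing.Equiv.reflection_smul,
        hcomm ⟨a, ha⟩, hk', P'.root_reflectionPerm]
  have hcomm' : ∀ (a' : ↥b'.support) (x : M'),
      f.symm (P'.reflection a' x) = P.reflection (u.symm a') (f.symm x) := fun a' x => by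
    rw [LinearEquiv.symm_apply_eq, hcomm, u.apply_symm_apply, f.apply_symm_apply]
  have hmem' : ∀ g ∈ Subgroup.closure (refl P' '' (b'.support : Set ι')), ∀ k',
      (∃ k, f (P.root k) = P'.root k') → ∃ k, f (P.root k) = P'.root (g • k') := by
    intro g hg
    induction hg using Subgroup.closure_induction_left with
    | one => exact fun k hk => by rwa [one_smul]
    | mul_left x hx y _ ih =>
      obtain ⟨a, ha, rfl⟩ := hx
      intro k hk
      obtain ⟨k', hk'⟩ := ih k hk
      refine ⟨P.reflectionPerm (u.symm ⟨a, ha⟩) k', ?_⟩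
      rw [mul_smul, refl_smul_index, P.root_reflectionPerm, hcomm, hk', u.apply_symm_apply,
        P'.root_reflectionPerm]
    | inv_mul_cancel x hx y _ ih =>
      obtain ⟨a, ha, rfl⟩ := hx
      intro k hk
      obtain ⟨k', hk'⟩ := ih k hk
      refine ⟨P.reflectionPerm (u.symm ⟨a, ha⟩) k', ?_⟩
      rw [RootPairing.Equiv.reflection_inv, mul_smul, refl_smul_index, P.root_reflectionPerm, hcomm,
        hk', u.apply_symm_apply, P'.root_reflectionPerm]
  have hfwd : ∀ k, ∃ k', f (P.root k) = P'.root k' := fun k => by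
    obtain ⟨g, hg, a, ha, rfl⟩ := indiv_conj_simple hΔ (isIndiv_of_isReduced k)
    exact hmem g hg a ⟨_, hf ⟨a, ha⟩⟩
  have hbwd : ∀ k', ∃ k, f (P.root k) = P'.root k' := fun k' => by
    obtain ⟨g, hg, a, ha, rfl⟩ := indiv_conj_simple hΔ' (isIndiv_of_isReduced k')
    exact hmem' g hg a ⟨_, (hf (u.symm ⟨a, ha⟩)).trans (by rw [u.apply_symm_apply])⟩
  choose φ hφ using hfwd
  have φbij : Function.Bijective φ := by
    refine ⟨fun i j hij => P.root.injective (f.injective (by rw [hφ, hφ, hij])), fun k' => ?_⟩
    obtain ⟨k, hk⟩ := hbwd k'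
    exact ⟨k, P'.root.injective ((hφ k).symm.trans hk)⟩
  let e := Equiv.ofBijective φ φbij
  let := Fintype.ofFinite ι'
  have := torsionFree_left P
  have hco : ∀ k, (P'.coroot' (φ k)) ∘ₗ f.toLinearMap = P.coroot' k := fun k => by
    refine Module.Dual.eq_of_preReflection_mapsTo (R := ℤ) (x := P.root k)
      (Φ := Set.range P.root) (Set.finite_range _) had ?_ ?_ ?_ ?_
    · show P'.coroot' (φ k) (f (P.root k)) = 2
      rw [hφ, P'.root_coroot'_eq_pairing, P'.pairing_same]
    · rintro _ ⟨j, rfl⟩
      obtain ⟨j', hj'⟩ := hbwd (P'.reflectionPerm (φ k) (φ j))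
      refine ⟨j', f.injective ?_⟩
      rw [hj', root_reflectionPerm', Module.preReflection_apply, map_sub, map_smul, hφ, hφ]
      simp only [LinearMap.comp_apply, LinearEquiv.coe_coe, hφ, P'.root_coroot'_eq_pairing]
    · exact P.root_coroot'_eq_pairing k k ▸ P.pairing_same k
    · rintro _ ⟨j, rfl⟩
      exact ⟨P.reflectionPerm k j, (P.root_reflectionPerm k j).trans (P.reflection_apply k _)⟩
  let cw : N' ≃ₗ[ℤ] N := P'.flip.toPerfPair ≪≫ₗ f.dualMap ≪≫ₗ P.flip.toPerfPair.symm
  let E : RootPairing.Equiv P P' :=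
    { weightMap := f
      coweightMap := cw
      indexEquiv := e
      weight_coweight_transpose := LinearMap.ext fun y => (P.flip.toPerfPair.apply_symm_apply _).symm
      root_weightMap := funext hφ
      coroot_coweightMap := funext fun k' => by
        obtain ⟨k, rfl⟩ := e.surjective k'
        show cw (P'.coroot (e k)) = P.coroot (e.symm (e k))
        rw [e.symm_apply_apply]
        refine P.flip.toPerfPair.injective ((P.flip.toPerfPair.apply_symm_apply _).trans ?_)
        exact hco k
      bijective_weightMap := f.bijective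
      bijective_coweightMap := cw.bijective }
  refine ⟨E, fun i => P'.root.injective ((hφ i).symm.trans (hf i)), fun E' hE' => ?_⟩
  have hw : E'.toHom.weightMap = E.toHom.weightMap := B₁.ext fun i => by
    simp only [B₁, Module.Basis.mk_apply]
    rw [RootPairing.Hom.root_weightMap_apply, hE']
    exact (hf i).symm
  obtain ⟨⟨w, c, ix, t1, t2, t3⟩, bw, bc⟩ := E'
  obtain rfl : w = f.toLinearMap := hw
  obtain rfl : c = cw.toLinearMap := LinearMap.ext fun y => P.flip.toPerfPair.injective
    ((LinearMap.congr_fun t1 y).symm.trans (P.flip.toPerfPair.apply_symm_apply _).symm)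
  obtain rfl : ix = e := Equiv.ext fun k => P'.root.injective ((congrFun t2 k).symm.trans (hφ k))
  rfl

end Groth.Agent.S5493
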