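import Groth.Statements.S5494
import Groth.Agent.RootDat.Components

set_option autoImplicit false
open RootD

namespace Groth.Agent.S5494

/-- If a system of simple roots has no partition into two non-empty orthogonal subsets, then any two
roots are linked by a chain of roots with consecutive members non-orthogonal. -/
theorem result {ι M N : Type*} [AddCommGroup M] [AddCommGroup N]
    (P : RootPairing ι ℤ M N) [Finite ι] (Δ : Set ι) (hΔ : RootD.IsSimpleSys P Δ)
    (hconn : ∀ Δ' : Set ι, Δ' ⊆ Δ → (∀ i ∈ Δ', ∀ j ∈ Δ \ Δ', P.IsOrthogonal i j) → Δ' = ∅ ∨ Δ' = Δ)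
    (i j : ι) : Relation.ReflTransGen (fun a b : ι => ¬ P.IsOrthogonal a b) i j := by
  classical
  obtain ⟨a, ha, hia⟩ := Groth.Agent.RootDat.exists_linked_simple hΔ i
  obtain ⟨b, hb, hjb⟩ := Groth.Agent.RootDat.exists_linked_simple hΔ j
  have hab : Relation.ReflTransGen (fun a b : ι => ¬ P.IsOrthogonal a b) a b := by
    rcases hconn {x | x ∈ Δ ∧ Relation.ReflTransGen (fun a b : ι => ¬ P.IsOrthogonal a b) a x}
      (fun x hx => hx.1) (fun x hx y hy => by_contra fun h => hy.2 ⟨hy.1, hx.2.tail h⟩) with h | h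
    · have haC : a ∈ {x | x ∈ Δ ∧ Relation.ReflTransGen (fun a b : ι => ¬ P.IsOrthogonal a b) a x} :=
        ⟨ha, Relation.ReflTransGen.refl⟩
      rw [h] at haC
      exact haC.elim
    · have : b ∈ {x | x ∈ Δ ∧ Relation.ReflTransGen (fun a b : ι => ¬ P.IsOrthogonal a b) a x} := by
        rw [h]; exact hb
      exact this.2
  exact ((Relation.ReflTransGen.single hia).trans hab).tail (Groth.Agent.RootDat.linked_symm P hjb)

end Groth.Agent.S5494
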