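import Groth.Statements.S5496
import Groth.Agent.RootDat.Weyl

set_option autoImplicit false
open RootPairing
open scoped Pointwise
open RootD

namespace Groth.Agent.S5496

/-- For non-proportional roots α, β let n be the least integer n > 0 with (s_α s_β)^n(α) = α and (s_α
s_β)^n(β) = β. Then the subgroup W_{α,β} generated by s_α and s_β is presented by s_α² = s_β² = (s_α
s_β)^n = 1; equivalently it has exactly 2n elements. -/
theorem result {ι M N : Type*} [AddCommGroup M] [AddCommGroup N]
    (P : RootPairing ι ℤ M N) [Finite ι] (i j : ι) (hli : LinearIndependent ℤ ![P.root i, P.root j])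
    (n : ℕ) (hn : IsLeast {m : ℕ | 0 < m ∧ ((Equiv.reflection P i * Equiv.reflection P j) ^ m) • i = i ∧
      ((Equiv.reflection P i * Equiv.reflection P j) ^ m) • j = j} n) :
    Nat.card (Subgroup.closure ({Equiv.reflection P i, Equiv.reflection P j} : Set P.Aut)) = 2 * n := by
  open Groth.Agent.RootDat in
  classical
  show Nat.card (Subgroup.closure ({refl P i, refl P j} : Set P.Aut)) = 2 * n
  set r : P.Aut := refl P i * refl P j with hr
  set s : P.Aut := refl P i with hsdef
  obtain ⟨⟨hn0, hni, hnj⟩, hleast⟩ := hn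
  set H := Subgroup.closure ({refl P i, refl P j} : Set P.Aut) with hH
  have hsH : s ∈ H := Subgroup.subset_closure (.inl rfl)
  have hrH : r ∈ H := mul_mem hsH (Subgroup.subset_closure (.inr rfl))
  have hfix : ∀ g ∈ H, g • i = i → g • j = j → g = 1 := by
    intro g hg h1 h2
    rw [hH, ← Set.image_pair (refl P)] at hg
    refine aut_ext P fun m => ?_
    rw [one_smul, ← sub_eq_zero]
    refine eq_zero_of_mem_span_image P (smul_sub_mem_span P hg m) fun a ha => ?_
    have hga : g • a = a := by
      rcases ha with rfl | rfl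
      · exact h1
      · exact h2
    rw [map_sub, sub_eq_zero]
    conv_lhs => rw [← hga]
    exact coroot'_smul P g a m
  have hrn : r ^ n = 1 := hfix _ (pow_mem hrH n) hni hnj
  have hord : orderOf r = n := (orderOf_eq_iff hn0).mpr
    ⟨hrn, fun m hm hm0 h1 => absurd (hleast ⟨hm0, by
      show (r ^ m) • i = i ∧ (r ^ m) • j = j
      rw [h1]
      exact ⟨one_smul _ i, one_smul _ j⟩⟩) (by omega)⟩
  have hss : s * s = 1 := refl_mul_self P i
  have hsj : refl P j = s * r := by rw [hr, ← mul_assoc, hss, one_mul]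
  have hsr : s * r = r⁻¹ * s := by
    rw [eq_inv_mul_iff_mul_eq, ← hsj]
    show s * refl P j * refl P j = s
    rw [mul_assoc, refl_mul_self, mul_one]
  have hinv : r⁻¹ = r ^ (n - 1) :=
    (eq_inv_of_mul_eq_one_left (by rw [← pow_succ, Nat.sub_add_cancel hn0, hrn])).symm
  have hmem : ∀ g ∈ H, ∃ k : ℕ, g = r ^ k ∨ g = r ^ k * s := by
    have step : ∀ x : P.Aut, (∃ k : ℕ, x = r ^ k ∨ x = r ^ k * s) →
        ∀ y ∈ ({refl P i, refl P j} : Set P.Aut), ∃ k : ℕ, x * y = r ^ k ∨ x * y = r ^ k * s := by
      rintro x ⟨k, rfl | rfl⟩ y (rfl | rfl)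
      · exact ⟨k, .inr rfl⟩
      · exact ⟨k + (n - 1), .inr (by rw [hsj, hsr, hinv, pow_add, mul_assoc])⟩
      · exact ⟨k, .inl (by rw [mul_assoc, hss, mul_one])⟩
      · exact ⟨k + 1, .inl (by rw [hsj, mul_assoc, ← mul_assoc s, hss, one_mul, pow_succ])⟩
    intro g hg
    induction hg using Subgroup.closure_induction_right with
    | one => exact ⟨0, .inl (pow_zero r).symm⟩
    | mul_right x _ y hy ih => exact step x ih y hy
    | mul_inv_cancel x _ y hy ih =>
      have : y⁻¹ = y := by
        rcases hy with rfl | rfl <;> exact RootPairing.Equiv.reflection_inv P _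
      rw [this]
      exact step x ih y hy
  have hne : s • P.root i = -P.root i := by
    rw [hsdef, RootPairing.Equiv.reflection_smul, P.reflection_apply_self]
  have hsn : s ∉ Subgroup.zpowers r := by
    rintro ⟨z, hz⟩
    have hc : s * r = r * s := by rw [← hz]; exact (Commute.zpow_self r z).eq
    have hr2 : r * r = 1 := by
      have hrr : r⁻¹ = r := mul_right_cancel (hsr.symm.trans hc)
      calc r * r = r⁻¹ * r := by rw [hrr]
        _ = 1 := inv_mul_cancel r
    have hz' : s = 1 ∨ s = r := by
      rcases Int.even_or_odd' z with ⟨w, rfl | rfl⟩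
      · exact .inl (by rw [← hz]; show r ^ (2 * w) = 1; rw [zpow_mul, zpow_two, hr2, one_zpow])
      · exact .inr (by
          rw [← hz]
          show r ^ (2 * w + 1) = r
          rw [zpow_add, zpow_mul, zpow_two, hr2, one_zpow, one_mul, zpow_one])
    rcases hz' with h | h
    · rw [h, one_smul, eq_neg_iff_add_eq_zero, ← two_smul ℤ] at hne
      exact P.ne_zero i (eq_zero_of_smul P two_ne_zero hne)
    · have hj1 : refl P j = 1 := by rw [hsj, h, hr2]
      have := congrArg (fun g : P.Aut => g • P.root j) hj1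
      simp only [one_smul, RootPairing.Equiv.reflection_smul, P.reflection_apply_self] at this
      rw [neg_eq_iff_add_eq_zero, ← two_smul ℤ] at this
      exact P.ne_zero j (eq_zero_of_smul P two_ne_zero this)
  let φ : Fin n × Bool → H := fun p =>
    ⟨r ^ (p.1 : ℕ) * cond p.2 s 1, mul_mem (pow_mem hrH _) (by cases p.2 <;> simp [hsH, one_mem])⟩
  have hinj : Function.Injective φ := by
    have key : ∀ (k k' : ℕ), r ^ k * s ≠ r ^ k' := fun k k' h => hsn ⟨(k' : ℤ) - k, by
      show r ^ ((k' : ℤ) - k) = s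
      rw [zpow_sub, zpow_natCast, zpow_natCast, ← h, mul_assoc]
      have : Commute (r ^ k) s → True := fun _ => trivial
      rw [← inv_mul_eq_iff_eq_mul.mpr h.symm]
      group⟩
    rintro ⟨k, x⟩ ⟨k', x'⟩ h
    replace h := congrArg Subtype.val h
    cases x <;> cases x' <;> simp only [φ, cond_true, cond_false, mul_one] at h
    · exact Prod.ext (Fin.ext (pow_injOn_Iio_orderOf (by simp [hord, k.2]) (by simp [hord, k'.2]) h)) rfl
    · exact absurd h.symm (key _ _)
    · exact absurd h (key _ _)
    · exact Prod.ext (Fin.ext (pow_injOn_Iio_orderOf (by simp [hord, k.2]) (by simp [hord, k'.2])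
        (mul_right_cancel h))) rfl
  have hsurj : Function.Surjective φ := by
    rintro ⟨g, hg⟩
    obtain ⟨k, hk | hk⟩ := hmem g hg
    · exact ⟨⟨⟨k % n, Nat.mod_lt _ hn0⟩, false⟩, Subtype.ext (by
        simp only [φ, cond_false, mul_one, hk, ← hord, pow_mod_orderOf])⟩
    · exact ⟨⟨⟨k % n, Nat.mod_lt _ hn0⟩, true⟩, Subtype.ext (by
        simp only [φ, cond_true, hk, ← hord, pow_mod_orderOf])⟩
  rw [← Nat.card_eq_of_bijective φ ⟨hinj, hsurj⟩, Nat.card_prod, Nat.card_fin,
    Nat.card_eq_fintype_card, Fintype.card_bool, mul_comm]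

end Groth.Agent.S5496
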