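import Groth.Statements.S5497
import Groth.Agent.RootDat.PosSys

set_option autoImplicit false
open RootD

namespace Groth.Agent.S5497

/-- For a partition of the roots into two closed symmetric subsets, whenever α, β, α + β are roots they
lie in the same part. -/
theorem result {ι M N : Type*} [AddCommGroup M] [AddCommGroup N]
    (P : RootPairing ι ℤ M N) [Finite ι] (R' : Set ι) (hc : RootD.IsClosedSub P R')
    (hs : RootD.IsSymmSub P R') (hc' : RootD.IsClosedSub P R'ᶜ) (hs' : RootD.IsSymmSub P R'ᶜ)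
    (i j k : ι) (h : P.root k = P.root i + P.root j) :
    (i ∈ R' ∧ j ∈ R' ∧ k ∈ R') ∨ (i ∉ R' ∧ j ∉ R' ∧ k ∉ R') := by
  by_cases hk : k ∈ R'
  · by_cases hi : i ∈ R'
    · refine .inl ⟨hi, ?_, hk⟩
      exact hc hk (hs hi) (by rw [Groth.Agent.RootDat.root_opp, h]; abel)
    · by_cases hj : j ∈ R'
      · exact absurd (hc hk (hs hj) (show P.root i = _ by rw [Groth.Agent.RootDat.root_opp, h]; abel)) hi
      · exact absurd hk (hc' hi hj h)
  · by_cases hi : i ∈ R'
    · by_cases hj : j ∈ R'
      · exact absurd (hc hi hj h) hk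
      · exact absurd hi (hc' hk (hs' hj) (by rw [Groth.Agent.RootDat.root_opp, h]; abel))
    · refine .inr ⟨hi, fun hj => ?_, hk⟩
      exact absurd hj (hc' hk (hs' hi) (by rw [Groth.Agent.RootDat.root_opp, h]; abel))

end Groth.Agent.S5497
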