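import Groth.Statements.S5498
import Groth.Agent.RootDat.Lengths

set_option autoImplicit false
open RootD

namespace Groth.Agent.S5498

/-- If R is irreducible then so is the dual datum R^v, and long(α)·long(α^v) (equivalently ℓ(α) ℓ(α^v))
is constant on the roots. -/
theorem result {ι M N : Type*} [AddCommGroup M] [AddCommGroup N]
    (P : RootPairing ι ℤ M N) [Finite ι] [Fintype ι] [Nonempty ι]
    (hirr : ∀ R' : Set ι, RootD.IsClosedSub P R' → RootD.IsSymmSub P R' → RootD.IsClosedSub P R'ᶜ →
      RootD.IsSymmSub P R'ᶜ → R' = ∅ ∨ R' = Set.univ) :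
    (∀ R' : Set ι, RootD.IsClosedSub P.flip R' → RootD.IsSymmSub P.flip R' → RootD.IsClosedSub P.flip R'ᶜ →
      RootD.IsSymmSub P.flip R'ᶜ → R' = ∅ ∨ R' = Set.univ) ∧
    ∀ i j : ι, P.RootForm (P.root i) (P.root i) * P.CorootForm (P.coroot i) (P.coroot i) =
      P.RootForm (P.root j) (P.root j) * P.CorootForm (P.coroot j) (P.coroot j) := by
  have h1 : P.CorootForm = Groth.Agent.RootDat.B P.flip := (Groth.Agent.RootDat.B_eq P.flip).symm
  refine ⟨fun R' hc hs hc' hs' => ?_, fun i j => ?_⟩
  · have hp : Groth.Agent.RootDat.IsPart P.flip R' := ⟨hc, hs, hc', hs'⟩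
    have hq : Groth.Agent.RootDat.IsPart P R' := Groth.Agent.RootDat.isPart_of_linked fun a ha b hab =>
      hp.mem_of_linked ha fun h => hab ⟨h.2, h.1⟩
    exact hirr R' hq.closed hq.symm hq.closed' hq.symm'
  · rw [h1, ← Groth.Agent.RootDat.B_eq]
    have hchain := Groth.Agent.RootDat.IsIrred.reach (P := P) hirr i j
    induction hchain with
    | refl => rfl
    | tail _ hbc ih => exact ih.trans (Groth.Agent.RootDat.len_mul_len_flip P hbc)

end Groth.Agent.S5498
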