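import Groth.Statements.S5499
import Groth.Agent.RootDat.Lengths
import Groth.Agent.RootDat.PosSys
import Groth.Agent.S5465

set_option autoImplicit false
open RootD

namespace Groth.Agent.S5499

/-- For an irreducible datum, where long(α) = ℓ(α)/ℓ(α₀) with ℓ(α₀) minimal: there is a unique
homomorphism u : Γ_0(R) → M^v with u(α) = long(α) α^v for every root α. -/
theorem result {ι M N : Type*} [AddCommGroup M] [AddCommGroup N]
    (P : RootPairing ι ℤ M N) [Finite ι] [Fintype ι]
    (hirr : ∀ R' : Set ι, RootD.IsClosedSub P R' → RootD.IsSymmSub P R' → RootD.IsClosedSub P R'ᶜ →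
      RootD.IsSymmSub P R'ᶜ → R' = ∅ ∨ R' = Set.univ)
    (i₀ : ι) (hmin : ∀ i : ι, P.RootForm (P.root i₀) (P.root i₀) ≤ P.RootForm (P.root i) (P.root i)) :
    ∃! u : Submodule.span ℤ (Set.range P.root) →+ N, ∀ i : ι,
      u ⟨P.root i, Submodule.subset_span (Set.mem_range_self i)⟩ =
        (P.RootForm (P.root i) (P.root i) / P.RootForm (P.root i₀) (P.root i₀)) • P.coroot i := by
  simp only [← Groth.Agent.RootDat.B_eq] at hmin ⊢
  change ∃! u : Submodule.span ℤ (Set.range P.root) →+ N, ∀ i : ι,
      u ⟨P.root i, Submodule.subset_span (Set.mem_range_self i)⟩ =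
        (Groth.Agent.RootDat.len P i / Groth.Agent.RootDat.len P i₀) • P.coroot i
  have htf := Groth.Agent.RootDat.torsionFree_right P
  have hl0 := Groth.Agent.RootDat.len_pos P i₀
  have hc : ∀ i, (Groth.Agent.RootDat.len P i / Groth.Agent.RootDat.len P i₀) * Groth.Agent.RootDat.len P i₀ = Groth.Agent.RootDat.len P i := fun i => by
    obtain ⟨c, -, hc⟩ := Groth.Agent.RootDat.IsIrred.exists_len_eq_mul (P := P) hirr hmin i
    exact Int.ediv_mul_cancel ⟨c, hc.trans (mul_comm _ _)⟩
  obtain ⟨u, hu, huniq⟩ := Groth.Agent.S5465.result P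
    (fun i => (Groth.Agent.RootDat.len P i / Groth.Agent.RootDat.len P i₀) • P.coroot i) (fun i => by
      show (Groth.Agent.RootDat.len P (Groth.Agent.RootDat.opp P i) / Groth.Agent.RootDat.len P i₀) • P.coroot (Groth.Agent.RootDat.opp P i) = _
      rw [Groth.Agent.RootDat.len_opp, Groth.Agent.RootDat.coroot_opp, smul_neg])
    (fun i j k h => by
      apply zsmul_right_injective hl0.ne'
      show _ • _ = _ • (_ + _)
      simp only [smul_add, smul_smul, mul_comm (Groth.Agent.RootDat.len P i₀), hc]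
      exact Groth.Agent.RootDat.len_coroot_add P h)
  exact ⟨u, hu, huniq⟩

end Groth.Agent.S5499
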