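import Groth.Statements.S5500
import Groth.Agent.RootDat.Morph
import Groth.Agent.RootDat.Lengths

set_option autoImplicit false
open RootD

namespace Groth.Agent.S5500

/-- For a p-morphism between irreducible reduced root data there is a rational constant k with k ·
long(u(α)) = q(α)² · long(α) for every root α; stated as the proportionality q(α)² ℓ(α) ℓ'(u β) =
q(β)² ℓ(β) ℓ'(u α) of the canonical quadratic forms. -/
theorem result {ι M N ι' M' N' : Type*} [AddCommGroup M] [AddCommGroup N] [AddCommGroup M'] [AddCommGroup N']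
    (P : RootPairing ι ℤ M N) (P' : RootPairing ι' ℤ M' N') [Finite ι] [Finite ι'] [Fintype ι] [Fintype ι'] [P.IsReduced] [P'.IsReduced]
    (hirr : ∀ R₁ : Set ι, RootD.IsClosedSub P R₁ → RootD.IsSymmSub P R₁ → RootD.IsClosedSub P R₁ᶜ →
      RootD.IsSymmSub P R₁ᶜ → R₁ = ∅ ∨ R₁ = Set.univ)
    (hirr' : ∀ R₁ : Set ι', RootD.IsClosedSub P' R₁ → RootD.IsSymmSub P' R₁ → RootD.IsClosedSub P' R₁ᶜ →
      RootD.IsSymmSub P' R₁ᶜ → R₁ = ∅ ∨ R₁ = Set.univ)
    (p : ℕ) (hp : 0 < p) (f : M' →ₗ[ℤ] M) (g : N →ₗ[ℤ] N')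
    (hfg : ∀ (m' : M') (n : N), P.toLinearMap (f m') n = P'.toLinearMap m' (g n))
    (u : ι ≃ ι') (q : ι → ℕ) (hq : ∀ i, ∃ e : ℕ, q i = p ^ e)
    (hroot : ∀ i : ι, f (P'.root (u i)) = (q i : ℤ) • P.root i)
    (hcoroot : ∀ i : ι, g (P.coroot i) = (q i : ℤ) • P'.coroot (u i)) (i j : ι) :
    ((q i : ℤ) ^ 2 * P.RootForm (P.root i) (P.root i)) * P'.RootForm (P'.root (u j)) (P'.root (u j)) =
      ((q j : ℤ) ^ 2 * P.RootForm (P.root j) (P.root j)) * P'.RootForm (P'.root (u i)) (P'.root (u i)) := by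
  open Groth.Agent.RootDat in
  classical
  have h := isPMor_mk hp hfg hq hroot hcoroot
  suffices key : ((q i : ℤ) ^ 2 * len P i) * len P' (u j) = ((q j : ℤ) ^ 2 * len P j) * len P' (u i) by
    simpa only [len, B_eq] using key
  induction (IsIrred.reach (P := P) hirr i j) with
  | refl => rfl
  | @tail b c _ hbc ih =>
    have hr : P.pairing c b ≠ 0 := by
      intro h0
      exact hbc ((isOrtho_iff P b c).mpr (pairing_zero_symm P h0))
    have step : ((q b : ℤ) ^ 2 * len P b) * len P' (u c) = ((q c : ℤ) ^ 2 * len P c) * len P' (u b) := by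
      have e1 := h.pairing_eq b c
      have e2 := h.pairing_eq c b
      have l1 := pairing_len P b c
      have l2 := pairing_len P' (u b) (u c)
      have hpos1 : (q c : ℤ) ≠ 0 := by have := h.pos c; omega
      have hpos2 : (q b : ℤ) ≠ 0 := by have := h.pos b; omega
      have hr' : P'.pairing (u c) (u b) ≠ 0 := fun h0 => by
        rw [h0, mul_zero, mul_eq_zero] at e1
        exact e1.elim hpos1 hr
      refine mul_left_cancel₀ (mul_ne_zero hr' hr) ?_
      linear_combination (-((q b : ℤ) * P.pairing c b * len P b * len P' (u c))) * e1 -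
        ((q c : ℤ) * q b * P.pairing c b * len P' (u c)) * l1 +
        (P.pairing c b * q c * len P c * len P' (u c)) * e2 + (P.pairing c b * q c ^ 2 * len P c) * l2
    refine mul_left_cancel₀ (mul_ne_zero (pow_ne_zero 2 (show (q b : ℤ) ≠ 0 by
      have := h.pos b; omega)) (len_pos P b).ne') ?_
    linear_combination ((q i : ℤ) ^ 2 * len P i) * step + ((q c : ℤ) ^ 2 * len P c) * ih

end Groth.Agent.S5500
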