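import Groth.Statements.S5501
import Groth.Agent.RootDat.Semisimple

set_option autoImplicit false
universe u v w
open RootD

namespace Groth.Agent.S5501

/-- Adjoint case; the simply connected case is dual: a semisimple root datum R is adjoint if and only if
every isogeny R' → R is an isomorphism. -/
theorem result {ι : Type u} {M : Type v} {N : Type w} [AddCommGroup M] [AddCommGroup N]
    (P : RootPairing ι ℤ M N) [Finite ι] [Module.Finite ℤ M] [Module.Finite ℤ N]
    (hss : Module.finrank ℤ (Submodule.span ℤ (Set.range P.root)) = Module.finrank ℤ M) :
    Submodule.span ℤ (Set.range P.root) = ⊤ ↔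
      ∀ (ι' : Type u) (M' N' : Type v) [AddCommGroup M'] [AddCommGroup N'] [Finite ι']
        [Module.Finite ℤ M'] [Module.Finite ℤ N'] (P' : RootPairing ι' ℤ M' N') (f : RootPairing.Hom P' P),
        Function.Injective f.weightMap → Finite (M ⧸ LinearMap.range f.weightMap) →
          Function.Bijective f.weightMap := by
  open Groth.Agent.RootDat in
  constructor
  · intro had ι' M' N' _ _ _ _ _ P' f hinj _
    refine ⟨hinj, LinearMap.range_eq_top.mp (top_le_iff.mp (had ▸ Submodule.span_le.mpr ?_))⟩
    rintro _ ⟨i, rfl⟩
    exact ⟨P'.root (f.indexEquiv.symm i), by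
      rw [RootPairing.Hom.root_weightMap_apply, Equiv.apply_symm_apply]⟩
  · intro h
    have := free_left P
    have := free_right P
    set L := Submodule.span ℤ (Set.range P.root) with hL
    let r : ι → L := fun i => ⟨P.root i, Submodule.subset_span (Set.mem_range_self i)⟩
    let res : N →ₗ[ℤ] Module.Dual ℤ L := (L.subtype.dualMap).comp P.toLinearMap.flip
    have hres : Function.Injective res := (injective_iff_map_eq_zero _).mpr fun y hy => by
      have h1 : y ∈ corad P.flip := (mem_corad P.flip).mpr fun i => LinearMap.congr_fun hy (r i)
      have h3 := finrank_rad_add P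
      rw [← hL] at h3
      have h4 : corad P.flip = ⊥ := Submodule.finrank_eq_zero.mp (by omega)
      rwa [h4, Submodule.mem_bot] at h1
    let P₀ : RootPairing ι ℤ L (Module.Dual ℤ L) :=
      { toLinearMap := (LinearMap.id : Module.Dual ℤ L →ₗ[ℤ] Module.Dual ℤ L).flip
        root := ⟨r, fun i j hij => P.root.injective (congrArg Subtype.val hij)⟩
        coroot := ⟨fun i => res (P.coroot i), fun i j hij => P.coroot.injective (hres hij)⟩
        root_coroot_two := P.root_coroot_two
        reflectionPerm := P.reflectionPerm
        reflectionPerm_root := fun i j => Subtype.ext (P.reflectionPerm_root i j)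
        reflectionPerm_coroot := fun i j => by
          show res (P.coroot j) - _ • res (P.coroot i) = res (P.coroot (P.reflectionPerm i j))
          rw [← map_smul, ← map_sub]
          exact congrArg res (P.reflectionPerm_coroot i j) }
    let f₀ : RootPairing.Hom P₀ P :=
      { weightMap := L.subtype
        coweightMap := res
        indexEquiv := Equiv.refl ι
        weight_coweight_transpose := LinearMap.ext fun _ => LinearMap.ext fun _ => rfl
        root_weightMap := rfl
        coroot_coweightMap := rfl }
    have hfin : Finite (M ⧸ LinearMap.range f₀.weightMap) :=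
      finite_quotient_of_root_le P hss fun i => ⟨r i, rfl⟩
    obtain ⟨-, hsurj⟩ := h ι L (Module.Dual ℤ L) P₀ f₀ Subtype.val_injective hfin
    exact eq_top_iff.mpr fun x _ => by
      obtain ⟨y, rfl⟩ := hsurj x
      exact y.2

end Groth.Agent.S5501
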