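import Groth.Statements.S5502
import Groth.Agent.RootDat.Ext

set_option autoImplicit false
open RootD

namespace Groth.Agent.S5502

/-- If β = Σ_{α ∈ Δ} a_α α along a system of simple roots Δ, then ℓ(β) divides 2 a_α ℓ(α), and 2ℓ(β)
divides it when α^v is indivisible (ℓ the canonical quadratic form). -/
theorem result {ι M N : Type*} [AddCommGroup M] [AddCommGroup N]
    (P : RootPairing ι ℤ M N) [Finite ι] [Fintype ι] (Δ : Set ι) (hΔ : RootD.IsSimpleSys P Δ)
    (k : ι) (c : ι →₀ ℤ) (hc : ↑c.support ⊆ Δ) (hck : Finsupp.linearCombination ℤ P.root c = P.root k)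
    (i : ι) (hi : i ∈ Δ) :
    P.RootForm (P.root k) (P.root k) ∣ 2 * c i * P.RootForm (P.root i) (P.root i) ∧
      (RootD.IsIndiv P.flip i → 2 * P.RootForm (P.root k) (P.root k) ∣ 2 * c i * P.RootForm (P.root i) (P.root i)) := by
  classical
  rw [← Groth.Agent.RootDat.B_eq]
  change Groth.Agent.RootDat.len P k ∣ 2 * c i * Groth.Agent.RootDat.len P i ∧
      (RootD.IsIndiv P.flip i → 2 * Groth.Agent.RootDat.len P k ∣ 2 * c i * Groth.Agent.RootDat.len P i)
  have hU := Groth.Agent.RootDat.isSimpleSys_indCoroots P hΔ
  obtain ⟨u, hu, a, ha, hau, -, hind⟩ := Groth.Agent.RootDat.exists_indCoroot P hi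
  obtain ⟨e, he, hek⟩ : ∃ e : ι →₀ ℤ, ↑e.support ⊆ Groth.Agent.RootDat.indCoroots P Δ ∧
      Finsupp.linearCombination ℤ P.coroot e = P.coroot k :=
    ⟨_, Groth.Agent.RootDat.coeff_support hU k, Groth.Agent.RootDat.coeff_spec hU k⟩
  have hex : ∀ s ∈ c.support, ∃ us ∈ Groth.Agent.RootDat.indCoroots P Δ, ∃ as : ℤ, (as = 1 ∨ as = 2) ∧
      as • P.coroot us = P.coroot s ∧ P.root us = as • P.root s := fun s hs => by
    obtain ⟨us, hus, as, has, h1, h2, -⟩ := Groth.Agent.RootDat.exists_indCoroot P (hc hs)
    exact ⟨us, hus, as, has, h1, h2⟩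
  choose! v hv b hb hbv hbr using hex
  have hkey : Groth.Agent.RootDat.len P k • e = ∑ s ∈ c.support, Finsupp.single (v s) (c s * Groth.Agent.RootDat.len P s * b s) := by
    refine Groth.Agent.RootDat.comb_inj hU.linInd (fun x hx => he (Finsupp.support_smul hx)) (fun x hx => ?_) ?_
    · obtain ⟨s, hs, h⟩ := Finset.mem_biUnion.mp (Finsupp.support_finsetSum hx)
      have := Finsupp.support_single_subset h
      simp only [Finset.mem_singleton] at this
      exact this ▸ hv s hs
    · rw [map_smul, map_sum]
      show Groth.Agent.RootDat.len P k • Finsupp.linearCombination ℤ P.coroot e =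
        ∑ s ∈ c.support, Finsupp.linearCombination ℤ P.coroot _
      rw [hek, Groth.Agent.RootDat.len_smul_coroot, ← hck, Finsupp.linearCombination_apply, Finsupp.sum, map_sum,
        Finset.smul_sum]
      refine Finset.sum_congr rfl fun s hs => ?_
      rw [map_smul, smul_comm, ← Groth.Agent.RootDat.len_smul_coroot, Finsupp.linearCombination_single, ← hbv s hs,
        smul_smul, smul_smul, mul_assoc]
  have hci : Groth.Agent.RootDat.len P k ∣ c i * Groth.Agent.RootDat.len P i * a := by
    by_cases his : i ∈ c.support
    · have hval : Groth.Agent.RootDat.len P k * e (v i) = c i * Groth.Agent.RootDat.len P i * b i := by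
        have h := congrArg (fun z : ι →₀ ℤ => z (v i)) hkey
        simp only [Finsupp.smul_apply, smul_eq_mul, Finsupp.finsetSum_apply] at h
        rw [Finset.sum_eq_single i] at h
        · rw [h, Finsupp.single_eq_same]
        · intro s hs hsi
          refine Finsupp.single_eq_of_ne fun hvv => hsi ?_
          have hr : (b s) • P.root s = (b i) • P.root i := by rw [← hbr s hs, ← hvv, ← hbr i his]
          have hsum : Finsupp.single s (b s) = Finsupp.single i (b i) := by
            refine Groth.Agent.RootDat.comb_inj hΔ.linInd (fun x hx => ?_) (fun x hx => ?_)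
              (by rw [Finsupp.linearCombination_single, Finsupp.linearCombination_single, hr]) <;>
            · have := Finsupp.support_single_subset hx
              simp only [Finset.mem_singleton] at this
              subst this
              first | exact hc hs | exact hi
          have hbs : b s ≠ 0 := by rcases hb s hs with h | h <;> omega
          exact ((Finsupp.single_eq_single_iff _ _ _ _).mp hsum).elim (fun h => h.1)
            (fun h => absurd h.1 hbs)
        · exact fun h => absurd his h
      have hua : b i = a := by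
        have h1 := hbv i his
        rcases hb i his with hb1 | hb1 <;> rcases ha with ha1 | ha1 <;> rw [hb1] at h1 ⊢ <;>
          rw [ha1] at hau ⊢
        · obtain ⟨-, hind'⟩ := (show True ∧ RootD.IsIndiv P.flip (v i) from ⟨trivial, by
            obtain ⟨_, _, _, _, _, _, h⟩ := Groth.Agent.RootDat.of_mem_indCoroots P (hv i his); exact h⟩)
          exact absurd (hau.trans (h1.symm.trans (one_smul ℤ _))) (hind' u)
        · obtain ⟨-, hind'⟩ := (show True ∧ RootD.IsIndiv P.flip u from ⟨trivial, by
            obtain ⟨_, _, _, _, _, _, h⟩ := Groth.Agent.RootDat.of_mem_indCoroots P hu; exact h⟩)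
          exact absurd (h1.trans (hau.symm.trans (one_smul ℤ _))) (hind' (v i))
      exact ⟨e (v i), by rw [hval, hua]⟩
    · rw [Finsupp.notMem_support_iff.mp his, zero_mul, zero_mul]
      exact dvd_zero _
  refine ⟨?_, fun h => ?_⟩
  · rcases ha with rfl | rfl
    · rw [mul_one] at hci
      rw [mul_assoc]
      exact hci.mul_left 2
    · rw [mul_comm 2 (c i), mul_right_comm]
      exact hci
  · rw [hind h, mul_one] at hci
    rw [mul_assoc]
    exact mul_dvd_mul_left 2 hci

end Groth.Agent.S5502
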