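import Groth.Statements.S5507
import Groth.Agent.RootDat.Lengths

set_option autoImplicit false
open RootD

namespace Groth.Agent.S5507

/-- For a system of simple roots Δ there are positive integers m_α (the lengths) such that the matrix
(m_α a_{α,β}) with a_{α,β} = (α^v, β) is symmetric and positive definite. -/
theorem result {ι M N : Type*} [AddCommGroup M] [AddCommGroup N]
    (P : RootPairing ι ℤ M N) [Finite ι] (Δ : Finset ι) (hΔ : RootD.IsSimpleSys P (↑Δ : Set ι)) :
    ∃ m : ↥Δ → ℤ, (∀ a, 0 < m a) ∧
      (Matrix.of fun (a b : ↥Δ) => m a * P.pairing (b : ι) (a : ι)).IsSymm ∧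
      (Matrix.of fun (a b : ↥Δ) => m a * P.pairing (b : ι) (a : ι)).PosDef := by
  classical
  refine ⟨fun a => Groth.Agent.RootDat.len P a, fun a => Groth.Agent.RootDat.len_pos P a, ?_, ?_⟩
  · refine Matrix.IsSymm.ext fun a b => ?_
    simp only [Matrix.of_apply]
    linarith [Groth.Agent.RootDat.pairing_len P (a : ι) (b : ι)]
  · refine Matrix.PosDef.of_dotProduct_mulVec_pos ?_ fun x hx => ?_
    · refine Matrix.IsHermitian.ext fun a b => ?_
      simp only [Matrix.of_apply, star_trivial]
      linarith [Groth.Agent.RootDat.pairing_len P (a : ι) (b : ι)]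
    · set v : M := ∑ a, x a • P.root (a : ι) with hv
      have hvmem : v ∈ Submodule.span ℤ (Set.range P.root) :=
        Submodule.sum_mem _ fun a _ => Submodule.smul_mem _ _ (Groth.Agent.RootDat.root_mem_span P _)
      have hv0 : v ≠ 0 := by
        intro h
        apply hx
        have hli : LinearIndependent ℤ (fun a : ↥Δ => P.root (a : ι)) := hΔ.linInd
        exact funext (Fintype.linearIndependent_iff.mp hli x h)
      have hpos := Groth.Agent.RootDat.B_self_pos P hvmem hv0
      have heq : star x ⬝ᵥ (Matrix.of fun (a b : ↥Δ) => Groth.Agent.RootDat.len P a * P.pairing (b : ι) (a : ι)).mulVec x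
          = 2 * Groth.Agent.RootDat.B P v v := by
        simp only [hv, map_sum, map_smul, LinearMap.sum_apply, LinearMap.smul_apply, smul_eq_mul,
          dotProduct, Matrix.mulVec, Matrix.of_apply, star_trivial, Finset.mul_sum]
        refine Finset.sum_congr rfl fun a _ => Finset.sum_congr rfl fun b _ => ?_
        have h2 := Groth.Agent.RootDat.two_B_root P (b : ι) (a : ι)
        have h3 := Groth.Agent.RootDat.B_symm P (P.root (a : ι)) (P.root (b : ι))
        simp only [Groth.Agent.RootDat.len]
        linear_combination -(x a * x b) * h2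
      rw [heq]
      linarith

end Groth.Agent.S5507
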