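import Groth.Statements.S5592
import Groth.Agent.S3055

set_option autoImplicit false
open CategoryTheory CategoryTheory.Limits AlgebraicGeometry Opposite
universe u
open EtDesc

namespace Groth.Agent.S5592

/-- Let k' be a separably closed extension field of a separably closed field k and u : Spec k' -> Spec k
the canonical morphism. Then the inverse image functor u^* from etale sheaves of sets on Spec k to
etale sheaves of sets on Spec k' is an equivalence of categories. -/
theorem result (k k' : Type u) [Field k] [IsSepClosed k]
    [Field k'] [IsSepClosed k'] [Algebra k k'] :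
    (EtDesc.pullSh (Spec.map (CommRingCat.ofHom (algebraMap k k')))).IsEquivalence := by
  let f := Spec.map (CommRingCat.ofHom (algebraMap k k'))
  show (EtDesc.pullSh f).IsEquivalence
  have hk := Groth.Agent.S3055.result k
  have hk' := Groth.Agent.S3055.result k'
  let T := EtCoh.top (Spec (CommRingCat.of k))
  have hT : IsTerminal ((EtCoh.bc f).obj T) :=
    IsTerminal.isTerminalObj (EtCoh.bc f) _
      (IsTerminal.isTerminalOfObj (Scheme.Etale.forget _) T Over.mkIdTerminal)
  let c : (EtCoh.bc f).obj T ≅ EtCoh.top (Spec (CommRingCat.of k')) :=
    hT.uniqueUpToIso (IsTerminal.isTerminalOfObj (Scheme.Etale.forget _) _ Over.mkIdTerminal)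
  let e : (sheafSections (Spec (CommRingCat.of k')).smallEtaleTopology (Type (u + 1))).obj
        (op (EtCoh.top (Spec (CommRingCat.of k')))) ≅
      EtDesc.pushSh f ⋙ (sheafSections (Spec (CommRingCat.of k)).smallEtaleTopology (Type (u + 1))).obj (op T) :=
    NatIso.ofComponents (fun F => F.obj.mapIso c.op) (fun a => (a.hom.naturality c.hom.op).symm)
  have : (EtDesc.pushSh f ⋙ (sheafSections (Spec (CommRingCat.of k)).smallEtaleTopology (Type (u + 1))).obj (op T)).IsEquivalence :=
    Functor.isEquivalence_of_iso e
  have : (EtDesc.pushSh f).IsEquivalence := Functor.isEquivalence_of_comp_right _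
    ((sheafSections (Spec (CommRingCat.of k)).smallEtaleTopology (Type (u + 1))).obj (op T))
  exact Functor.isEquivalence_of_iso
    ((EtDesc.pushSh f).asEquivalence.symm.toAdjunction.leftAdjointUniq (EtDesc.adjSh f))

end Groth.Agent.S5592
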