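import Groth.Statements.S5612
import Groth.Agent.DRingPC.TorAmpOps
import Mathlib.Data.Int.Interval
-- import your own Groth.Agent.* helpers here

set_option autoImplicit false
universe u
open CategoryTheory CategoryTheory.Limits
attribute [local instance] HasDerivedCategory.standard
open DRing

namespace Groth.Agent.S5612

/-- Let A be a commutative ring all of whose modules have finite tor dimension (for instance A of finite
global dimension) and K ∈ D(A). (i) K has finite tor dimension if and only if K has bounded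
cohomology. (ii) K is perfect if and only if K has bounded cohomology and is pseudo-coherent. -/
theorem result {A : Type u} [CommRing A]
    (hA : ∀ (M : Type u) [AddCommGroup M] [Module A M], DRing.HasFiniteTorDim A M) (K : Dual.D A) :
    (DRing.HasFiniteTorDimCx A K ↔ ∃ a b : ℤ, ∀ i : ℤ, i < a ∨ b < i → Subsingleton (Dual.HD A K i)) ∧
      (DRing.IsPerfect A K ↔
        (∃ a b : ℤ, ∀ i : ℤ, i < a ∨ b < i → Subsingleton (Dual.HD A K i)) ∧ DRing.IsPseudoCoherent' A K) := by
  have hbd : DRing.HasFiniteTorDimCx A K →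
      ∃ a b : ℤ, ∀ i : ℤ, i < a ∨ b < i → Subsingleton (Dual.HD A K i) := by
    rintro ⟨a, b, E, hz, -, ⟨e⟩⟩
    exact ⟨a, b, fun i hi => (DRingPC.subsingleton_iff_isZero _).2
      (((HomologicalComplex.exactAt_iff_isZero_homology _ _).1
        (ShortComplex.exact_of_isZero_X₂ (E.sc i) (hz i hi))).of_iso
        ((DerivedCategory.homologyFunctor _ i).mapIso e.symm ≪≫ PCohLib.homologyQIso E i))⟩
  have hft : (∃ a b : ℤ, ∀ i : ℤ, i < a ∨ b < i → Subsingleton (Dual.HD A K i)) →
      DRing.HasFiniteTorDimCx A K := by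
    rintro ⟨a, b, hK⟩
    choose n hn using fun i : ℤ => hA (Dual.HD A K i)
    obtain ⟨N, hN⟩ : ∃ N : ℕ, ∀ i ∈ Finset.Icc a b, n i ≤ N :=
      ⟨(Finset.Icc a b).sup n, fun i hi => Finset.le_sup hi⟩
    refine ⟨a - N, b, DRingPC.torAmp_of_homology _ _ K a b
      (fun i hi => (DRingPC.subsingleton_iff_isZero _).1 (hK i hi)) fun i hia hib => ?_⟩
    exact DRingPC.torAmp_mono ((DRingPC.hasTorDimLE_iff_amplitude N _).1
      (fun X _ _ p hp => hn i X p (lt_of_le_of_lt (hN i (Finset.mem_Icc.2 ⟨hia, hib⟩)) hp)))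
      (by lia) (by lia)
  refine ⟨⟨hbd, hft⟩, ?_, ?_⟩
  · rintro ⟨E, a, b, hz, hE, ⟨e⟩⟩
    obtain ⟨h1, h2⟩ := DRingPC.amplitude_rep_conv hz hE e
    exact ⟨hbd ⟨a, b, h2⟩, (DRingPC.isPC'_iff_isPC A K).2 h1⟩
  · rintro ⟨hb, hK⟩
    obtain ⟨a, b, h⟩ := hft hb
    obtain ⟨E, hz, hE, e⟩ := DRingPC.exists_amplitude_rep (le_max_left a b)
      ((DRingPC.isPC'_iff_isPC A K).1 hK (a - 1)) (DRingPC.torAmp_mono h le_rfl (le_max_right a b))
    exact ⟨E, a, max a b, hz, hE, e⟩

end Groth.Agent.S5612
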