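import Groth.Statements.S5613
import Groth.Agent.KGrp.Tri
import Mathlib.CategoryTheory.Limits.Preserves.Shapes.Products

set_option autoImplicit false
universe v u
open CategoryTheory CategoryTheory.Limits CategoryTheory.Pretriangulated
open KZero

namespace Groth.Agent.S5613

open Groth.Agent.KGrp

/-- Let C be a pretriangulated category, L an object of C and n an integer such that the coproduct ∐_{i
≥ 0} L⟦2ni⟧ exists in C. Then cl(L) = 0 in K₀(C). -/
theorem result {C : Type u} [Category.{v} C] [Preadditive C] [HasZeroObject C]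
    [HasShift C ℤ] [∀ n : ℤ, (shiftFunctor C n).Additive] [Pretriangulated C]
    (L : C) (n : ℤ) [HasCoproduct (fun i : ℕ => (shiftFunctor C (2 * n * (i : ℤ))).obj L)] :
    KZero.clTri L = 0 := by
  let f : ℕ → C := fun i => (shiftFunctor C (2 * n * (i : ℤ))).obj L
  let M : C := ∐ f
  let F := shiftFunctor C (2 * n)
  have e : ∀ i : ℕ, F.obj (f i) ≅ f (i + 1) := fun i =>
    ((shiftFunctorAdd' C (2 * n * (i : ℤ)) (2 * n) (2 * n * ((i + 1 : ℕ) : ℤ))
      (by simp [mul_add])).app L).symm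
  have e₀ : f 0 ≅ L := (shiftFunctorZero' C (2 * n * ((0 : ℕ) : ℤ)) (by simp)).app L
  let hc : IsColimit (Cofan.mk (F.obj M) fun i => F.map (Sigma.ι f i)) :=
    isColimitCofanMkObjOfIsColimit F _ _ (coproductIsCoproduct f)
  let a : M ⟶ L ⊞ F.obj M := Sigma.desc fun i =>
    match i with
    | 0 => e₀.hom ≫ biprod.inl
    | i + 1 => (e i).inv ≫ F.map (Sigma.ι f i) ≫ biprod.inr
  let b₂ : F.obj M ⟶ M := Cofan.IsColimit.desc hc fun i => (e i).hom ≫ Sigma.ι f (i + 1)
  have hb₂ : ∀ i, F.map (Sigma.ι f i) ≫ b₂ = (e i).hom ≫ Sigma.ι f (i + 1) := fun i =>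
    Cofan.IsColimit.fac hc _ i
  let b : L ⊞ F.obj M ⟶ M := biprod.desc (e₀.inv ≫ Sigma.ι f 0) b₂
  have hab : a ≫ b = 𝟙 M := Sigma.hom_ext _ _ fun i => by
    cases i with
    | zero => simp [a, b, M]
    | succ i => simp [a, b, M, hb₂]
  have hba : b ≫ a = 𝟙 _ := by
    refine biprod.hom_ext' _ _ (by simp [a, b]) (Cofan.IsColimit.hom_ext hc _ _ fun i => ?_)
    simp [a, b, M, reassoc_of% (hb₂ i)] <;> rfl
  have h₁ : KZero.clTri M = KZero.clTri L + KZero.clTri (F.obj M) :=
    (clTri_congr ⟨a, b, hab, hba⟩).trans (clTri_add (binaryBiproductTriangle_distinguished L (F.obj M)))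
  have h₂ : KZero.clTri (F.obj M) = KZero.clTri M := by
    rw [clTri_shift, Int.negOnePow_two_mul]
    simp
  rw [h₂] at h₁
  simpa using h₁

end Groth.Agent.S5613
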