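import Groth.Statements.S5614
import Groth.Agent.KGrp.Tri

set_option autoImplicit false
universe v u
open CategoryTheory CategoryTheory.Limits CategoryTheory.Pretriangulated
open KZero

namespace Groth.Agent.S5614

open Groth.Agent.KGrp

/-- Let C be a pretriangulated category and S a dense set of objects, meaning that every set of objects
which contains S and which contains the third vertex of a distinguished triangle as soon as it
contains the other two is all of C. Then K₀(C) is generated by the classes of the objects of S. -/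
theorem result {C : Type u} [Category.{v} C] [Preadditive C] [HasZeroObject C]
    [HasShift C ℤ] [∀ n : ℤ, (shiftFunctor C n).Additive] [Pretriangulated C]
    (S : Set C)
    (hdense : ∀ T : Set C, S ⊆ T →
      (∀ tr : Triangle C, tr ∈ distinguishedTriangles →
        (tr.obj₁ ∈ T → tr.obj₂ ∈ T → tr.obj₃ ∈ T) ∧ (tr.obj₁ ∈ T → tr.obj₃ ∈ T → tr.obj₂ ∈ T) ∧
          (tr.obj₂ ∈ T → tr.obj₃ ∈ T → tr.obj₁ ∈ T)) → T = Set.univ) :
    AddSubgroup.closure (KZero.clTri '' S) = (⊤ : AddSubgroup (KZero.K0tri C)) := by
  have hT : {X : C | KZero.clTri X ∈ AddSubgroup.closure (KZero.clTri '' S)} = Set.univ := by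
    refine hdense _ (fun X hX => AddSubgroup.subset_closure ⟨X, hX, rfl⟩) fun X hX => ?_
    simp only [Set.mem_ofPred_eq, clTri_add hX]
    exact ⟨fun h₁ h₂ => by simpa using sub_mem h₂ h₁, fun h₁ h₃ => add_mem h₁ h₃,
      fun h₂ h₃ => by simpa using sub_mem h₂ h₃⟩
  refine eq_top_iff.2 fun x _ => ?_
  refine induction_tr (motive := fun x => x ∈ AddSubgroup.closure (KZero.clTri '' S)) x (zero_mem _)
    (fun X _ => ?_) (fun _ h => neg_mem h) (fun _ _ h h' => add_mem h h')
  rw [← clTri_eq_clTr]
  exact Set.eq_univ_iff_forall.1 hT X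

end Groth.Agent.S5614
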