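import Groth.Statements.S5615
import Groth.Agent.KGrp.Sub

set_option autoImplicit false
universe v u
open CategoryTheory CategoryTheory.Limits
open KZero

namespace Groth.Agent.S5615

open Groth.Agent.KGrp

/-- Let A be an abelian category and S a dense set of objects, meaning that every set of objects which
contains S and which contains the third term of a short exact sequence as soon as it contains the
other two is all of A. Then K₀(A) is generated by the classes of the objects of S. -/
theorem result {A : Type u} [Category.{v} A] [Abelian A] (S : Set A)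
    (hdense : ∀ T : Set A, S ⊆ T →
      (∀ X : ShortComplex A, X.ShortExact →
        (X.X₁ ∈ T → X.X₂ ∈ T → X.X₃ ∈ T) ∧ (X.X₁ ∈ T → X.X₃ ∈ T → X.X₂ ∈ T) ∧
          (X.X₂ ∈ T → X.X₃ ∈ T → X.X₁ ∈ T)) → T = Set.univ) :
    AddSubgroup.closure (KZero.cl '' S) = (⊤ : AddSubgroup (KZero.K0 A)) := by
  have hT : {X : A | KZero.cl X ∈ AddSubgroup.closure (KZero.cl '' S)} = Set.univ := by
    refine hdense _ (fun X hX => AddSubgroup.subset_closure ⟨X, hX, rfl⟩) fun X hX => ?_
    simp only [Set.mem_ofPred_eq, cl_add hX]
    exact ⟨fun h₁ h₂ => by simpa using sub_mem h₂ h₁, fun h₁ h₃ => add_mem h₁ h₃,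
      fun h₂ h₃ => by simpa using sub_mem h₂ h₃⟩
  refine eq_top_iff.2 fun x _ => ?_
  induction x using QuotientAddGroup.induction_on with
  | _ z =>
    induction z using FreeAbelianGroup.induction_on with
    | zero => exact zero_mem _
    | of X => exact Set.eq_univ_iff_forall.1 hT X
    | neg X hX => rw [QuotientAddGroup.mk_neg]; exact neg_mem (hX trivial)
    | add a b ha hb => rw [QuotientAddGroup.mk_add]; exact add_mem (ha trivial) (hb trivial)

end Groth.Agent.S5615
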