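import Groth.Statements.S5625
import Groth.Agent.QCohLib.Pullback
import Groth.Agent.QCohLib.Criterion
-- import your own Groth.Agent.* helpers here

set_option autoImplicit false
universe u
open CategoryTheory AlgebraicGeometry
open QCohCat

namespace Groth.Agent.S5625

/-- Let f : X ⟶ Y be a morphism of quasi-compact quasi-separated schemes and Q_X, Q_Y coherators (right
adjoints of the inclusions QCoh ⥤ Mod) on X and Y. Then Q_Y ∘ f_* and f_* ∘ Q_X agree: the two
composite functors Mod(O_X) ⥤ Mod(O_Y) are naturally isomorphic (existence of a natural isomorphism;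
the source's isomorphism is the canonical one between two right adjoints of the same functor). -/
theorem result {X Y : Scheme.{u}} [CompactSpace X] [QuasiSeparatedSpace X]
    [CompactSpace Y] [QuasiSeparatedSpace Y] (f : X ⟶ Y)
    (QX : X.Modules ⥤ QCohCat.QCoh X) (adjX : (QCohCat.isQCoh X).ι ⊣ QX)
    (QY : Y.Modules ⥤ QCohCat.QCoh Y) (adjY : (QCohCat.isQCoh Y).ι ⊣ QY) :
    Nonempty ((QX ⋙ (QCohCat.isQCoh X).ι ⋙ Scheme.Modules.pushforward f) ≅
      (Scheme.Modules.pushforward f ⋙ QY ⋙ (QCohCat.isQCoh Y).ι)) := by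
  have : QuasiCompact f := inferInstance
  have : QuasiSeparated f := QuasiSeparated.of_quasiSeparatedSpace f
  let pbQ : QCohCat.QCoh Y ⥤ QCohCat.QCoh X :=
    ObjectProperty.lift _ ((QCohCat.isQCoh Y).ι ⋙ Scheme.Modules.pullback f) (fun M => by
      have : M.obj.IsQuasicoherent := M.property
      exact Groth.Agent.QCohLib.isQuasicoherent_pullback f M.obj)
  let pfQ : QCohCat.QCoh X ⥤ QCohCat.QCoh Y :=
    ObjectProperty.lift _ ((QCohCat.isQCoh X).ι ⋙ Scheme.Modules.pushforward f) (fun M => by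
      have : M.obj.IsQuasicoherent := M.property
      exact Groth.Agent.QCohLib.isQuasicoherent_pushforward (M := M.obj) f)
  let adjQ : pbQ ⊣ pfQ :=
    (Scheme.Modules.pullbackPushforwardAdjunction f).restrictFullyFaithful
      (ObjectProperty.fullyFaithfulι _) (ObjectProperty.fullyFaithfulι _)
      (ObjectProperty.liftCompιIso _ _ _).symm (ObjectProperty.liftCompιIso _ _ _).symm
  let a₁ := (adjQ.comp adjX).ofNatIsoLeft (ObjectProperty.liftCompιIso _ _ _)
  let a₂ := adjY.comp (Scheme.Modules.pullbackPushforwardAdjunction f)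
  let e : QX ⋙ pfQ ≅ Scheme.Modules.pushforward f ⋙ QY := a₁.rightAdjointUniq a₂
  exact ⟨(Functor.isoWhiskerLeft QX (ObjectProperty.liftCompιIso _ _ _).symm :
      QX ⋙ (QCohCat.isQCoh X).ι ⋙ Scheme.Modules.pushforward f ≅ QX ⋙ pfQ ⋙ (QCohCat.isQCoh Y).ι) ≪≫
    (Functor.associator QX pfQ _).symm ≪≫ Functor.isoWhiskerRight e _ ≪≫ Functor.associator _ _ _⟩

end Groth.Agent.S5625
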