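import Groth.Statements.S5632
import Groth.Agent.PicTwist.Basic
import Groth.Agent.HilbPoly.AsympRR
import Groth.Agent.IntTh.Surface

set_option autoImplicit false
set_option backward.isDefEq.respectTransparency false
set_option linter.style.haveILetI false
set_option backward.isDefEq.respectTransparency false
universe u
open CategoryTheory CategoryTheory.Limits AlgebraicGeometry
open Pic13
open Groth.Agent Groth.Agent.InvBasic Groth.Agent.ProjUniv Groth.Agent.InvPow Groth.Agent.QCohLib Groth.Agent.HilbPoly Groth.Agent.CurveDeg Groth.Agent.CohFinite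

namespace Groth.Agent.S5632

/-- Let k be an algebraically closed field, X ⊆ P^n_k an integral closed subscheme of dimension r = s +
1 ≥ 1, with O_X(1) and O_X(-1) the restrictions of O(1) and O(-1). Let L be an invertible O_X-module
with inverse L' (L ⊗ L' ≅ O_X) whose degree (c₁(L)·c₁(O_X(1))^{r-1}) is ≤ 0 and with H^0(X, L) ≠ 0.
Then L ≅ O_X (so that its degree is 0 and h^0(L) = 1). Intersection numbers are those of FGA.intNum,
which takes the inverse modules L', O_X(-1) as arguments. -/
theorem result (k : Type u) [Field k] [IsAlgClosed k] (n : ℕ) (X : Scheme.{u}) [X.Over (Spec (CommRingCat.of k))]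
    (i : X ⟶ CohB1.ProjSpace n k) [IsClosedImmersion i] (hi : i ≫ CohB1.ProjSpace.toSpec n k = X ↘ Spec (CommRingCat.of k))
    [IsIntegral X] (s : ℕ) (hdim : topologicalKrullDim X = (s + 1 : ℕ))
    (L L' : X.Modules) (hL : PicF.IsInvertible L) (hLL' : Nonempty (CohB1.tensorMod L L' ≅ Coh.structureModule X))
    (hdeg : FGA.intNum k X (s + 1)
      (Matrix.vecCons L' (fun _ : Fin s => (Scheme.Modules.pullback i).obj (Twist.twistProjSpace n k (-1))))
      (Coh.structureModule X) ≤ 0)
    (hsec : Nontrivial (Coh.HH X L 0)) :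
    Nonempty (L ≅ Coh.structureModule X) := by
  haveI : IsProper (X ↘ Spec (CommRingCat.of k)) := by
    rw [← hi]
    haveI := InvPow.isProper_toSpec n k
    infer_instance
  haveI := Groth.Agent.CurveDeg.isNoetherian_of_proper (X := X) k
  let B := PicTwist.tw i 1
  let B' := PicTwist.tw i (-1)
  have hB : CohB1.IsAmple B := PicTwist.isAmple_tw i
  have hBB' : ClSub.IsInverseOf B B' := PicTwist.isInverseOf_tw i
  have hB'i := NegVanish.isInvertible_of_inverse hB.1 hBB'
  have hL'i := NegVanish.isInvertible_of_inverse hL (show ClSub.IsInverseOf L L' from hLL')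
  have hO : Coh.IsCoh (Coh.structureModule X) := isCoh_of_isInvertible (HilbPoly.isInvertible_structureModule X)
  obtain ⟨σ, hσ⟩ := IntTh.nonzero_section_of_HH hsec
  have hne := genOpen_nonempty_of_ne_zero hL hσ
  by_cases htop : genOpen hL σ = ⊤
  · have hb : IsBasis L σ := isBasis_of_cover fun x _ => by
      obtain ⟨V, hxV, hV'⟩ := exists_nhd_of_gen hL (htop.ge trivial : x ∈ genOpen _ σ)
      exact ⟨V, le_top, hxV, hV'⟩
    obtain ⟨t⟩ := ProjTwist.nonempty_structureModule_iso L σ fun W => hb W le_top
    exact ⟨t.symm⟩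
  exfalso
  let l := List.replicate s B
  have hl : IntTh.Inv l := IntTh.Inv.replicate hB.1 s
  obtain ⟨hQ, hQd, -, hcut⟩ := IntTh.inum_cut k hL σ hσ hl (by rw [hdim, List.length_replicate])
  rw [List.length_replicate] at hQd
  obtain ⟨y, hy⟩ : ∃ y, y ∉ genOpen hL σ := by
    by_contra hc
    exact htop (top_unique fun x _ => not_not.mp fun hx => hc ⟨x, hx⟩)
  haveI : Mono (mulSection (Coh.structureModule X) σ) :=
    mono_mulSection_invertible (HilbPoly.isInvertible_structureModule X) hL σ hne
  obtain ⟨x₀, hx₀⟩ := hne
  have hgen : genericPoint X ∈ genOpen hL σ :=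
    (genericPoint_specializes x₀).mem_open (genOpen hL σ).2 hx₀
  have hcl : topologicalKrullDim (closure ({genericPoint X} : Set X)) = ((s + 1 : ℕ) : WithBot ℕ∞) := by
    rw [show closure ({genericPoint X} : Set X) = Set.univ from genericPoint_closure X, ← hdim]
    exact (FibreDim.dim_homeo (Homeomorph.Set.univ X))
  obtain ⟨w, -, hw, hwd⟩ := exists_drop k hL σ hgen (genericPoint_specializes y) hy hcl
  have hwQ : w ∈ CohB1.support (cokernel (mulSection (Coh.structureModule X) σ)) :=
    mem_support_cokernel_mulSection hO hL σ (by rw [HilbPoly.support_structureModule]; trivial) hw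
  have hQdim : topologicalKrullDim (CohB1.support (cokernel (mulSection (Coh.structureModule X) σ))) =
      (s : WithBot ℕ∞) := le_antisymm hQd (hwd.symm.trans_le
        (HilbPoly.dim_mono (closure_minimal (Set.singleton_subset_iff.mpr hwQ) (QCohLib.isClosed_support hQ.2))))
  have hpos := IntTh.inum_pos_of_ample_module k (l := l) (fun A hA => List.eq_of_mem_replicate hA ▸ hB) hQ
    (by rw [hQdim, List.length_replicate])
  rw [← hcut] at hpos
  have hM : ∀ j, PicF.IsInvertible (Matrix.vecCons L' (fun _ : Fin s => B') j) := fun j => by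
    refine Fin.cases ?_ (fun j => ?_) j
    exacts [hL'i, hB'i]
  rw [IntTh.intNum_eq k hdim.le hM hO, show List.ofFn (Matrix.vecCons L' fun _ : Fin s => B') =
    L' :: List.replicate s B' by rw [List.ofFn_succ]; simp [List.ofFn_const]] at hdeg
  have hflip := IntTh.inum_inverses k hO (lL := L :: List.replicate s B) (lM := L' :: List.replicate s B') (p := [])
    (List.Forall₂.cons ⟨hL, hLL'⟩ (by
      clear * - hB hBB'
      induction s with
      | zero => exact List.Forall₂.nil
      | succ s ih => exact List.Forall₂.cons ⟨hB.1, hBB'⟩ ih))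
    (fun _ h => absurd h List.not_mem_nil) (by
      simpa using (topologicalKrullDim_subspace_le X _).trans hdim.le)
  rw [List.append_nil, List.append_nil, List.length_cons, List.length_replicate] at hflip
  rw [hflip, ← mul_assoc, ← pow_add, ← two_mul, pow_mul, neg_one_sq, one_pow, one_mul] at hdeg
  exact absurd hdeg (not_le.mpr hpos)
end Groth.Agent.S5632
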