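import Groth.Statements.S5638
import Groth.Agent.PencilH0.Basic
import Groth.Agent.HilbPoly.Family

set_option autoImplicit false
set_option linter.style.haveILetI false
set_option backward.isDefEq.respectTransparency false
universe u
open CategoryTheory CategoryTheory.Limits AlgebraicGeometry
open Pic13

namespace Groth.Agent.S5638

/-- Let k be an algebraically closed field, P = P^N_k and F a coherent O_P-module none of whose
associated points is a closed point of P. If H^0(P, F) ≠ 0 then h^0(F(-1)) ≤ h^0(F) - 1, where F(d)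
= F ⊗ O(d) and h^0 is the dimension over k. -/
theorem result (k : Type u) [Field k] [IsAlgClosed k] (N : ℕ) (F : (CohB1.ProjSpace N k).Modules) (hF : Coh.IsCoh F)
    (hass : ∀ x : ↥(CohB1.ProjSpace N k), Curv2.IsAssPoint F x → ¬ IsClosed ({x} : Set ↥(CohB1.ProjSpace N k)))
    (h0 : 1 ≤ Module.finrank k (Coh.HH (CohB1.ProjSpace N k) F 0)) :
    Module.finrank k (Coh.HH (CohB1.ProjSpace N k) (CohB1.tensorMod F (Twist.twistProjSpace N k (-1))) 0) + 1 ≤
      Module.finrank k (Coh.HH (CohB1.ProjSpace N k) F 0) := by
  obtain ⟨e₀⟩ := Groth.Agent.ProjTwist.nonempty_structureModule_iso_twist_zero (CohB1.polyGrading N k)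
  have hO : PicF.IsInvertible (Coh.structureModule (CohB1.ProjSpace N k)) :=
    Groth.Agent.HilbPoly.isInvertible_structureModule (CohB1.ProjSpace N k)
  have h := (Groth.Agent.PencilH0.h0_neg_one_lt F hF hass _ hO).2
  have e1 := Groth.Agent.PencilH0.hdim_congr (SecTwist.unitorR F)
  have e2 := Groth.Agent.PencilH0.hdim_congr ((Groth.Agent.ProjTwist.nonempty_tensorMod_iso
    (SecTwist.unitorR F) (Iso.refl (Twist.twistProjSpace N k (-1)))).some)
  simp only [Groth.Agent.HilbPoly.hdim, Nat.cast_inj] at e1 e2
  rw [e1, e2] at h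
  exact h h0
end Groth.Agent.S5638
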