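import Groth.Statements.S5644
import Groth.Agent.PicTwist.Basic
import Groth.Agent.PicTwist.Binom
import Groth.Agent.IntTh.H0
import Groth.Agent.HilbPoly.DimVanish

set_option autoImplicit false
set_option backward.isDefEq.respectTransparency false
set_option linter.style.haveILetI false
set_option backward.isDefEq.respectTransparency false
universe u
open CategoryTheory CategoryTheory.Limits AlgebraicGeometry
open Pic13
open Groth.Agent Groth.Agent.InvBasic Groth.Agent.ProjUniv Groth.Agent.InvPow Groth.Agent.QCohLib Groth.Agent.HilbPoly Groth.Agent.CurveDeg Groth.Agent.CohFinite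

namespace Groth.Agent.S5644

/-- Let k be an algebraically closed field, X ⊆ P^n_k an integral closed subscheme of dimension r = s +
1, O_X(1) and O_X(-1) the restrictions of O(1) and O(-1), and L an invertible O_X-module with
inverse L'. Write the Hilbert polynomials in the binomial basis, χ(L(m)) = Σ_{j ≤ r} a_j C(m+j, j)
and χ(O_X(m)) = Σ_{j ≤ r} e_j C(m+j, j) for m ≥ 0 (Euler characteristics in degrees ≤ r). Then (i)
a_r = e_r = (c₁(O_X(1))^r), the degree of X, and (ii) a_{r-1} - e_{r-1} = (c₁(L)·c₁(O_X(1))^{r-1}),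
the degree of L. Intersection numbers are those of FGA.intNum, which takes the inverse modules L',
O_X(-1) as arguments. -/
theorem result (k : Type u) [Field k] [IsAlgClosed k] (n : ℕ) (X : Scheme.{u}) [X.Over (Spec (CommRingCat.of k))]
    (i : X ⟶ CohB1.ProjSpace n k) [IsClosedImmersion i] (hi : i ≫ CohB1.ProjSpace.toSpec n k = X ↘ Spec (CommRingCat.of k))
    [IsIntegral X] (s : ℕ) (hdim : topologicalKrullDim X = (s + 1 : ℕ))
    (L L' : X.Modules) (hL : PicF.IsInvertible L) (hLL' : Nonempty (CohB1.tensorMod L L' ≅ Coh.structureModule X))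
    (a e : Fin (s + 2) → ℤ)
    (ha : ∀ m : ℕ, FGA.eulerCharLE k X (Pic13.twistOn k i L m) (s + 1) = ∑ j : Fin (s + 2), a j * ((m + j).choose j : ℤ))
    (he : ∀ m : ℕ, FGA.eulerCharLE k X (Pic13.twistOn k i (Coh.structureModule X) m) (s + 1) =
      ∑ j : Fin (s + 2), e j * ((m + j).choose j : ℤ)) :
    a (Fin.last (s + 1)) = e (Fin.last (s + 1)) ∧
      a (Fin.last (s + 1)) = FGA.intNum k X (s + 1)
        (fun _ : Fin (s + 1) => (Scheme.Modules.pullback i).obj (Twist.twistProjSpace n k (-1))) (Coh.structureModule X) ∧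
      a (Fin.castSucc (Fin.last s)) - e (Fin.castSucc (Fin.last s)) = FGA.intNum k X (s + 1)
        (Matrix.vecCons L' (fun _ : Fin s => (Scheme.Modules.pullback i).obj (Twist.twistProjSpace n k (-1))))
        (Coh.structureModule X) := by
  haveI : IsProper (X ↘ Spec (CommRingCat.of k)) := by
    rw [← hi]
    haveI := InvPow.isProper_toSpec n k
    infer_instance
  haveI := Groth.Agent.CurveDeg.isNoetherian_of_proper (X := X) k
  let B := PicTwist.tw i 1
  let B' := PicTwist.tw i (-1)
  have hB : CohB1.IsAmple B := PicTwist.isAmple_tw i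
  have hBB' : ClSub.IsInverseOf B B' := PicTwist.isInverseOf_tw i
  have hB'i := NegVanish.isInvertible_of_inverse hB.1 hBB'
  have hL'i := NegVanish.isInvertible_of_inverse hL (show ClSub.IsInverseOf L L' from hLL')
  have hO : Coh.IsCoh (Coh.structureModule X) := isCoh_of_isInvertible (HilbPoly.isInvertible_structureModule X)
  have hLc : Coh.IsCoh L := isCoh_of_isInvertible hL
  have hd : ∀ G : X.Modules, topologicalKrullDim (CohB1.support G) ≤ ((s + 1 : ℕ) : WithBot ℕ∞) := fun G =>
    (topologicalKrullDim_subspace_le X _).trans hdim.le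
  -- compare the two binomial expansions
  have expand : ∀ (G : X.Modules), Coh.IsCoh G → ∀ c : Fin (s + 2) → ℤ,
      (∀ m : ℕ, FGA.eulerCharLE k X (Pic13.twistOn k i G m) (s + 1) = ∑ j : Fin (s + 2), c j * ((m + j).choose j : ℤ)) →
      c (Fin.last (s + 1)) = IntTh.inum k (List.replicate (s + 1) B) G ∧
        c (Fin.castSucc (Fin.last s)) + c (Fin.last (s + 1)) * ((s + 1 : ℕ) : ℤ) =
          IntTh.inum k (List.replicate s B) G := by
    intro G hG c hc
    have h1 : ∀ m : ℕ, ∑ q ∈ Finset.range (s + 2), (m.choose q : ℤ) * IntTh.inum k (List.replicate q B) G =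
        ∑ q ∈ Finset.range (s + 2), (m.choose q : ℤ) * ∑ j : Fin (s + 2), c j * ((j : ℕ).choose q : ℤ) := by
      intro m
      obtain ⟨e⟩ := PicTwist.nonempty_twistOn_iso i G m
      rw [← IntTh.euler_pow_eq_sum k hB.1 (s + 1) m hG (hd G), ← euler_congr (k := k) e,
        ← HilbPoly.eulerCharLE_eq_euler (k := k) (QCohLib.isCoh_of_iso e.symm
          (HilbPoly.isCoh_tensorMod hG (InvPow.isInvertible_tensorPow hB.1 m))) (hd _), hc m]
      simp_rw [Finset.mul_sum]
      rw [Finset.sum_comm]
      refine Finset.sum_congr rfl fun j _ => ?_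
      have hv : ((m + (j : ℕ)).choose (j : ℕ) : ℤ) =
          ∑ q ∈ Finset.range (s + 2), (m.choose q : ℤ) * ((j : ℕ).choose q : ℤ) := by
        have h := Nat.add_choose_eq m (j : ℕ) (j : ℕ)
        rw [Finset.Nat.sum_antidiagonal_eq_sum_range_succ (fun a b => m.choose a * (j : ℕ).choose b)] at h
        have h' : (m + (j : ℕ)).choose (j : ℕ) = ∑ q ∈ Finset.range ((j : ℕ) + 1), m.choose q * (j : ℕ).choose q :=
          h.trans (Finset.sum_congr rfl fun q hq => by
            rw [Nat.choose_symm (by simpa [Nat.lt_succ_iff] using hq)])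
        rw [h', Nat.cast_sum]
        refine (Finset.sum_subset (f := fun q => ((m.choose q * (j : ℕ).choose q : ℕ) : ℤ))
          (Finset.range_mono (show (j : ℕ) + 1 ≤ s + 2 by omega)) ?_).trans ?_
        · intro q _ hq
          rw [Nat.choose_eq_zero_of_lt (show (j : ℕ) < q by rw [Finset.mem_range] at hq; omega)]
          simp
        · simp
      rw [hv, Finset.mul_sum]
      exact Finset.sum_congr rfl fun q _ => by ring
    have hcoef := Groth.Agent.PicTwist.eq_of_binom_sum_eq (s + 1) _ _ h1
    constructor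
    · rw [hcoef (s + 1) le_rfl, Fin.sum_univ_castSucc]
      rw [Finset.sum_eq_zero fun j _ => by rw [Nat.choose_eq_zero_of_lt (by simp [j.isLt])]; simp]
      simp
    · rw [hcoef s (Nat.le_succ s), Fin.sum_univ_castSucc, Fin.sum_univ_castSucc]
      rw [Finset.sum_eq_zero fun j _ => by rw [Nat.choose_eq_zero_of_lt (by simp [j.isLt])]; simp]
      simp [Nat.choose_succ_self_right]
  obtain ⟨a1, a2⟩ := expand L hLc a ha
  obtain ⟨e1, e2⟩ := expand _ hO e he
  obtain ⟨c⟩ := ProjTwist.nonempty_tensorMod_comm (Coh.structureModule X) L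
  have hL1 : IntTh.inum k (L :: List.replicate s B) (Coh.structureModule X) =
      IntTh.inum k (List.replicate s B) L - IntTh.inum k (List.replicate s B) (Coh.structureModule X) := by
    rw [IntTh.inum, IntTh.inum_congr k _ (c ≪≫ SecTwist.unitorR L)]
  have hsame : IntTh.inum k (List.replicate (s + 1) B) L = IntTh.inum k (List.replicate (s + 1) B) (Coh.structureModule X) := by
    have h0 : IntTh.inum k (L :: List.replicate (s + 1) B) (Coh.structureModule X) = 0 :=
      IntTh.inum_eq_zero_of_dim k ((IntTh.Inv.replicate hB.1 _).cons hL) hO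
        ((hd _).trans_lt (by simp only [List.length_cons, List.length_replicate]; exact_mod_cast Nat.lt_succ_self _))
    rw [IntTh.inum, IntTh.inum_congr k _ (c ≪≫ SecTwist.unitorR L)] at h0
    exact sub_eq_zero.mp h0
  have flip : ∀ (M M' : X.Modules), PicF.IsInvertible M → ClSub.IsInverseOf M M' →
      FGA.intNum k X (s + 1) (Matrix.vecCons M' (fun _ : Fin s => B')) (Coh.structureModule X) =
        IntTh.inum k (M :: List.replicate s B) (Coh.structureModule X) := fun M M' hM hMM' => by
    have hM'i := NegVanish.isInvertible_of_inverse hM hMM'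
    have hv : ∀ j, PicF.IsInvertible (Matrix.vecCons M' (fun _ : Fin s => B') j) := fun j => by
      refine Fin.cases ?_ (fun j => ?_) j
      exacts [hM'i, hB'i]
    rw [IntTh.intNum_eq k hdim.le hv hO, show List.ofFn (Matrix.vecCons M' fun _ : Fin s => B') =
      M' :: List.replicate s B' by rw [List.ofFn_succ]; simp [List.ofFn_const]]
    have hflip := IntTh.inum_inverses k hO (lL := M :: List.replicate s B) (lM := M' :: List.replicate s B') (p := [])
      (List.Forall₂.cons ⟨hM, hMM'⟩ (by
        clear * - hB hBB'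
        induction s with
        | zero => exact List.Forall₂.nil
        | succ s ih => exact List.Forall₂.cons ⟨hB.1, hBB'⟩ ih))
      (fun _ h => absurd h List.not_mem_nil) (by simpa using hd (Coh.structureModule X))
    rw [List.append_nil, List.append_nil, List.length_cons, List.length_replicate] at hflip
    rw [hflip, ← mul_assoc, ← pow_add, ← two_mul, pow_mul, neg_one_sq, one_pow, one_mul]
  refine ⟨by rw [a1, e1, hsame], ?_, ?_⟩
  · rw [a1, hsame, show (fun _ : Fin (s + 1) => (Scheme.Modules.pullback i).obj (Twist.twistProjSpace n k (-1))) =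
      Matrix.vecCons B' (fun _ : Fin s => B') from funext fun j => by refine Fin.cases ?_ (fun j => ?_) j <;> rfl,
      flip B B' hB.1 hBB', ← List.replicate_succ]
  · rw [flip L L' hL hLL', hL1, ← a2, ← e2]
    have : a (Fin.last (s + 1)) = e (Fin.last (s + 1)) := by rw [a1, e1, hsame]
    rw [this]
    ring
end Groth.Agent.S5644
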