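import Groth.Statements.S5656
import Mathlib.Tactic
import Mathlib.RingTheory.Polynomial.Pochhammer
import Mathlib.Algebra.Group.ForwardDiff
import Mathlib.Algebra.Polynomial.Roots
-- import your own Groth.Agent.* helpers here

set_option autoImplicit false
universe u
open W4sga6xxiii

namespace Groth.Agent.S5656

open Polynomial in
lemma exists_poly {G : Type u} [AddCommGroup G] (f : G → ℚ) (hf : W4sga6xxiii.IsPolyMap f) (x : G) :
    ∃ g : ℚ[X], ∀ n : ℕ, f (n • x) = g.eval (n : ℚ) := by
  obtain ⟨m, y, -, hy⟩ := hf 1 (fun _ => x)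
  refine ⟨∑ k : Fin 1 → Fin (m + 1),
    C (y k / ((k 0 : ℕ).factorial : ℚ)) * descPochhammer ℚ (k 0 : ℕ), fun n => ?_⟩
  have h := hy (fun _ => (n : ℤ))
  simp only [Finset.univ_unique, Finset.sum_singleton, Finset.prod_singleton, natCast_zsmul,
    Fin.default_eq_zero] at h
  rw [h, eval_finsetSum]
  refine Finset.sum_congr rfl fun k _ => ?_
  rw [Ring.choose_natCast, natCast_zsmul, nsmul_eq_mul, Nat.cast_choose_eq_descPochhammer_div,
    eval_mul, eval_C]
  ring

open Polynomial in
lemma intPoly_lc (g : ℚ[X]) (hg : ∀ n : ℕ, ∃ z : ℤ, g.eval (n : ℚ) = z) :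
    ∃ z : ℤ, g.leadingCoeff * (g.natDegree.factorial : ℚ) = z := by
  have h := congrFun (Polynomial.fwdDiff_iter_degree_eq_factorial g) 0
  rw [fwdDiff_iter_eq_sum_shift] at h
  simp only [zero_add, nsmul_eq_mul, mul_one, Pi.smul_apply, Pi.natCast_apply, smul_eq_mul] at h
  rw [← h]
  choose z hz using hg
  refine ⟨∑ k ∈ Finset.range (g.natDegree + 1), ((-1 : ℤ) ^ (g.natDegree - k) * g.natDegree.choose k) * z k, ?_⟩
  rw [Int.cast_sum]
  refine Finset.sum_congr rfl fun k _ => ?_
  rw [hz, zsmul_eq_mul]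
  push_cast
  ring

/-- Let G be an abelian group and G' ⊆ G a subgroup which is divisible by some prime number p (every
element of G' is p times an element of G') and such that G/G' is a torsion group. Then every
polynomial map f : G → ℚ (admitting binomial expansions f(Σ n_i x_i) = Σ_k Π_i C(n_i, k_i) y_k along
every finite sequence x) which takes only integer values is constant. -/
theorem result {G : Type u} [AddCommGroup G] (G' : AddSubgroup G)
    (p : ℕ) (hp : p.Prime) (hdiv : ∀ x ∈ G', ∃ y ∈ G', p • y = x) (htor : ∀ x : G, ∃ n : ℤ, n ≠ 0 ∧ n • x ∈ G')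
    (f : G → ℚ) (hf : W4sga6xxiii.IsPolyMap f) (hint : ∀ x, ∃ z : ℤ, f x = z) (x : G) : f x = f 0 := by
  have hG' : ∀ z ∈ G', f z = f 0 := by
    intro z hz
    have chain : ∀ k : ℕ, ∃ w ∈ G', (p ^ k) • w = z := by
      intro k
      induction k with
      | zero => exact ⟨z, hz, by simp⟩
      | succ k ih =>
        obtain ⟨w, hw, hwk⟩ := ih
        obtain ⟨v, hv, hvw⟩ := hdiv w hw
        exact ⟨v, hv, by rw [pow_succ, mul_smul, hvw, hwk]⟩
    obtain ⟨g, hg⟩ := exists_poly f hf z
    have hD : g.natDegree = 0 := by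
      by_contra hD
      have key : ∀ k : ℕ, ∃ a : ℤ, g.leadingCoeff * (g.natDegree.factorial : ℚ)
          = ((p : ℚ) ^ k) ^ g.natDegree * a := by
        intro k
        obtain ⟨w, -, hwk⟩ := chain k
        obtain ⟨q, hq⟩ := exists_poly f hf w
        have e : g = q.comp (Polynomial.C ((p : ℚ) ^ k) * Polynomial.X) := by
          apply Polynomial.eq_of_infinite_eval_eq
          apply Set.Infinite.mono (s := Set.range fun n : ℕ => (n : ℚ))
          · rintro _ ⟨n, rfl⟩
            simp only [Set.mem_setOf_eq, Polynomial.eval_comp, Polynomial.eval_mul, Polynomial.eval_C,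
              Polynomial.eval_X]
            rw [← hg, ← hwk, smul_smul, hq]
            push_cast
            ring_nf
          · exact Set.infinite_range_of_injective Nat.cast_injective
        have hpk : ((p : ℚ) ^ k) ≠ 0 := pow_ne_zero _ (by exact_mod_cast hp.ne_zero)
        have hdeg : g.natDegree = q.natDegree := by
          rw [e, Polynomial.natDegree_comp, Polynomial.natDegree_C_mul_X _ hpk, mul_one]
        have hlc : g.leadingCoeff = q.leadingCoeff * ((p : ℚ) ^ k) ^ q.natDegree := by
          rw [e, Polynomial.leadingCoeff_comp (by rw [Polynomial.natDegree_C_mul_X _ hpk]; exact one_ne_zero),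
            Polynomial.leadingCoeff_mul, Polynomial.leadingCoeff_C, Polynomial.leadingCoeff_X, mul_one]
        obtain ⟨a, ha⟩ := intPoly_lc q (fun n => by rw [← hq]; exact hint _)
        refine ⟨a, ?_⟩
        rw [hlc, hdeg, ← ha]
        ring
      obtain ⟨a₀, ha₀⟩ := intPoly_lc g (fun n => by rw [← hg]; exact hint _)
      obtain ⟨a, ha⟩ := key a₀.natAbs
      rw [ha₀] at ha
      have ha' : a₀ = ((p : ℤ) ^ a₀.natAbs) ^ g.natDegree * a := by exact_mod_cast ha
      have hne : a₀ ≠ 0 := by
        intro h0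
        rw [h0, Int.cast_zero, mul_eq_zero] at ha₀
        rcases ha₀ with h | h
        · exact hD (by rw [Polynomial.leadingCoeff_eq_zero.mp h]; simp)
        · exact (Nat.factorial_ne_zero _) (by exact_mod_cast h)
      have h1 := congrArg Int.natAbs ha'
      rw [Int.natAbs_mul, Int.natAbs_pow, Int.natAbs_pow, Int.natAbs_natCast] at h1
      have h2 : a.natAbs ≠ 0 := by
        intro h0
        rw [h0, mul_zero] at h1
        exact hne (Int.natAbs_eq_zero.mp h1)
      have h3 : (p ^ a₀.natAbs) ^ g.natDegree ≤ a₀.natAbs := by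
        conv_rhs => rw [h1]
        exact Nat.le_mul_of_pos_right _ (Nat.pos_of_ne_zero h2)
      have h4 : p ^ a₀.natAbs ≤ (p ^ a₀.natAbs) ^ g.natDegree := Nat.le_self_pow hD _
      have h5 : a₀.natAbs < p ^ a₀.natAbs := Nat.lt_pow_self hp.one_lt
      omega
    obtain ⟨c, hc⟩ : ∃ c, g = Polynomial.C c := ⟨_, Polynomial.eq_C_of_natDegree_eq_zero hD⟩
    have h0 := hg 0
    have h1 := hg 1
    simp [hc] at h0 h1
    rw [h1, h0]
  obtain ⟨n, hn0, hn⟩ := htor x
  have hn' : n.natAbs • x ∈ G' := by
    rcases Int.natAbs_eq n with h | h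
    · rw [← natCast_zsmul, ← h]; exact hn
    · rw [h, neg_smul, natCast_zsmul] at hn; simpa using G'.neg_mem hn
  obtain ⟨g, hg⟩ := exists_poly f hf x
  have e : g = Polynomial.C (f 0) := by
    apply Polynomial.eq_of_infinite_eval_eq
    apply Set.Infinite.mono (s := Set.range fun j : ℕ => ((j * n.natAbs : ℕ) : ℚ))
    · rintro _ ⟨j, rfl⟩
      simp only [Set.mem_setOf_eq, Polynomial.eval_C]
      rw [← hg, mul_smul]
      exact hG' _ (G'.nsmul_mem hn' j)
    · refine Set.infinite_range_of_injective fun a b h => ?_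
      have h' : a * n.natAbs = b * n.natAbs := Nat.cast_injective h
      exact Nat.eq_of_mul_eq_mul_right (Int.natAbs_pos.mpr hn0) h'
  have h1 := hg 1
  simpa [e] using h1

end Groth.Agent.S5656
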