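import Groth.Statements.S5657
import Mathlib.RingTheory.Ideal.Operations
import Mathlib.Algebra.BigOperators.Ring.Finset
-- import your own Groth.Agent.* helpers here

set_option autoImplicit false
universe u
open TensorProduct
open W4sga6xxiii

namespace Groth.Agent.S5657

/-- Let A be a commutative ring, I an ideal of A with I^{m+1} = 0, and P ⊆ Aˣ the subgroup of units of
the form 1 + y with y ∈ I. Then the map P → A ⊗_ℤ ℚ, x ↦ x ⊗ 1, is a polynomial map of degree ≤ m on
the abelian group P (written additively): along every finite sequence x_1, …, x_r in P one has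
x_1^{n_1}⋯x_r^{n_r} ⊗ 1 = Σ_k Π_i C(n_i, k_i) y_k with y_k = 0 whenever k_1 + ⋯ + k_r > m. -/
theorem result (A : Type u) [CommRing A] (I : Ideal A) (m : ℕ) (hI : I ^ (m + 1) = ⊥)
    (P : Subgroup Aˣ) (hP : ∀ u : Aˣ, u ∈ P ↔ (u : A) - 1 ∈ I) :
    W4sga6xxiii.IsPolyMapLE (fun u : Additive P => (((Additive.toMul u : P) : Aˣ) : A) ⊗ₜ[ℤ] (1 : ℚ)) m := by
  intro r x
  let u : Fin r → Aˣ := fun i => ((Additive.toMul (x i) : P) : Aˣ)
  let z : Fin r → A := fun i => (u i : A) - 1
  have hz : ∀ i, z i ∈ I := fun i => (hP (u i)).1 (Additive.toMul (x i) : P).2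
  have hnil : ∀ i, z i ^ (m + 1) = 0 := fun i => by
    have h := Ideal.pow_mem_pow (hz i) (m + 1)
    rwa [hI, Ideal.mem_bot] at h
  have hsucc : ∀ (i : Fin r) (n : ℤ), (∑ j ∈ Finset.range (m + 1), Ring.choose n j • z i ^ j) * (u i : A) =
      ∑ j ∈ Finset.range (m + 1), Ring.choose (n + 1) j • z i ^ j := fun i n => by
    rw [show (u i : A) = 1 + z i by simp [z], mul_add, mul_one, Finset.sum_mul]
    conv_lhs => enter [2]; rw [Finset.sum_range_succ]
    conv_rhs => rw [Finset.sum_range_succ']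
    conv_lhs => enter [1]; rw [Finset.sum_range_succ']
    simp only [smul_mul_assoc, ← pow_succ, hnil, smul_zero, add_zero, Ring.choose_succ_succ, add_smul,
      Finset.sum_add_distrib, Ring.choose_zero_right]
    abel
  have hone : ∀ i, ∑ j ∈ Finset.range (m + 1), Ring.choose (0 : ℤ) j • z i ^ j = (1 : A) := fun i => by
    rw [Finset.sum_range_succ']
    simp [Ring.choose_zero_succ]
  have hpow : ∀ (i : Fin r) (n : ℤ), ((u i ^ n : Aˣ) : A) = ∑ j ∈ Finset.range (m + 1), Ring.choose n j • z i ^ j := by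
    intro i n
    induction n using Int.induction_on with
    | zero => rw [hone]; simp
    | succ k ih => rw [zpow_add_one, Units.val_mul, ih, hsucc]
    | pred k ih =>
      refine (Units.isUnit (u i)).mul_right_cancel ?_
      rw [hsucc, sub_add_cancel, ← ih, ← Units.val_mul, ← zpow_add_one, sub_add_cancel]
  refine ⟨fun k => (∏ i, z i ^ (k i : ℕ)) ⊗ₜ[ℤ] (1 : ℚ), fun k hk => ?_, fun n => ?_⟩
  · have h : ∏ i, z i ^ (k i : ℕ) ∈ I ^ (m + 1) := by
      refine Ideal.pow_le_pow_right hk ?_
      rw [← Finset.prod_pow_eq_pow_sum]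
      exact Ideal.prod_mem_prod fun i _ => Ideal.pow_mem_pow (hz i) _
    rw [hI, Ideal.mem_bot] at h
    simp only [h, TensorProduct.zero_tmul]
  · have hsum : (((Additive.toMul (∑ i, n i • x i) : P) : Aˣ) : A) = ∏ i, ((u i ^ n i : Aˣ) : A) := by
      rw [toMul_sum, SubmonoidClass.coe_finsetProd, Units.coe_prod]
      exact Finset.prod_congr rfl fun i _ => by simp [u]
    simp only [hsum]
    simp only [hpow, Finset.sum_range]
    rw [Fintype.prod_sum, TensorProduct.sum_tmul]
    refine Finset.sum_congr rfl fun k _ => ?_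
    rw [TensorProduct.smul_tmul']
    congr 1
    simp only [zsmul_eq_mul, Finset.prod_mul_distrib, Int.cast_prod]

end Groth.Agent.S5657
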