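import Groth.Statements.S5665
import Mathlib
import Groth.Agent.RegTop.Basic
-- import your own Groth.Agent.* helpers here

set_option autoImplicit false
universe u
open CategoryTheory
open Dual

namespace Groth.Agent.S5665

open CategoryTheory CategoryTheory.Limits Abelian
open Groth.Agent.S16238 (mulSC mulSC_shortExact)

section
variable {A : Type u} [CommRing A]

lemma mk₀_comp_mulSC (I I' : Ideal A) (r : A) (h : I' = I ⊔ Ideal.span {r}) (M : ModuleCat.{u} A) (n : ℕ)
    (x : Ext (mulSC I I' r h).X₂ M n) :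
    (Ext.mk₀ (mulSC I I' r h).f).comp x (zero_add n) = r • (x : Ext (ModuleCat.of A (A ⧸ I)) M n) := by
  have : (mulSC I I' r h).f = r • 𝟙 (ModuleCat.of A (A ⧸ I)) := rfl
  change (Ext.mk₀ (mulSC I I' r h).f : Ext (ModuleCat.of A (A ⧸ I)) (ModuleCat.of A (A ⧸ I)) 0).comp x _ = _
  rw [this, Ext.mk₀_smul, Ext.smul_comp, Ext.mk₀_id_comp]
  rfl

theorem core : ∀ (xs : List A), RingTheory.Sequence.IsWeaklyRegular A xs →
    (∀ (M : ModuleCat.{u} A) (m : ℕ), xs.length < m →
        Subsingleton (Ext (ModuleCat.of A (A ⧸ Ideal.ofList xs)) M m)) ∧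
      ∀ (M : Type u) [AddCommGroup M] [Module A M],
        Nonempty (Ext (ModuleCat.of A (A ⧸ Ideal.ofList xs)) (ModuleCat.of A M) xs.length ≃ₗ[A]
          (M ⧸ (Ideal.ofList xs • (⊤ : Submodule A M)))) := by
  intro xs
  induction xs using List.reverseRecOn with
  | nil =>
    intro _
    let e : (A ⧸ Ideal.ofList ([] : List A)) ≃ₗ[A] A := Submodule.quotEquivOfEqBot _ Ideal.ofList_nil
    haveI : Module.Projective A (A ⧸ Ideal.ofList ([] : List A)) := Module.Projective.of_equiv e.symm
    haveI : Projective (ModuleCat.of A (A ⧸ Ideal.ofList ([] : List A))) :=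
      (IsProjective.iff_projective (R := A) (A ⧸ Ideal.ofList ([] : List A))).1 inferInstance
    refine ⟨fun M m hm => ?_, fun M _ _ => ⟨?_⟩⟩
    · obtain ⟨m, rfl⟩ : ∃ k, m = k + 1 := ⟨m - 1, by simp at hm; omega⟩
      exact Ext.subsingleton_of_projective _ _ _
    · let e₀ : Ext (ModuleCat.of A (A ⧸ Ideal.ofList ([] : List A))) (ModuleCat.of A M) 0 ≃ₗ[A]
          ((A ⧸ Ideal.ofList ([] : List A)) →ₗ[A] M) :=
        (Ext.linearEquiv₀ (R := A) (X := ModuleCat.of A (A ⧸ Ideal.ofList ([] : List A)))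
          (Y := ModuleCat.of A M)).trans ModuleCat.homLinearEquiv
      exact e₀.trans (((LinearEquiv.arrowCongr e (LinearEquiv.refl A M)).trans (LinearMap.ringLmapEquivSelf A A M)).trans
        (Submodule.quotEquivOfEqBot _ (by rw [Ideal.ofList_nil, Submodule.bot_smul])).symm)
  | append_singleton rs r ih =>
    intro hA
    obtain ⟨hrs, hr⟩ := Groth.Agent.RegTop.regular_of_append hA
    obtain ⟨hv, he⟩ := ih hrs
    have hI := Groth.Agent.RegTop.ofList_append_singleton rs r
    have hS := mulSC_shortExact _ _ r hI hr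
    rw [List.length_append, List.length_singleton]
    refine ⟨fun M m hm => ⟨fun a b => sub_eq_zero.1 ?_⟩, fun M _ _ => ?_⟩
    · obtain ⟨k, rfl⟩ : ∃ k, m = k + 1 := ⟨m - 1, by omega⟩
      haveI := hv M (k + 1) (by omega)
      haveI := hv M k (by omega)
      obtain ⟨x, hx⟩ := Ext.contravariant_sequence_exact₃ hS M (a - b)
        (@Subsingleton.elim (Ext (ModuleCat.of A (A ⧸ Ideal.ofList rs)) M (k + 1)) _ _ _) (add_comm 1 k)
      rw [← hx, show x = 0 from @Subsingleton.elim (Ext (ModuleCat.of A (A ⧸ Ideal.ofList rs)) M k) _ _ _,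
        Ext.comp_zero]
      rfl
    · obtain ⟨e⟩ := he M
      haveI := hv (ModuleCat.of A M) (rs.length + 1) (by omega)
      let δ : Ext (ModuleCat.of A (A ⧸ Ideal.ofList rs)) (ModuleCat.of A M) rs.length →ₗ[A]
          Ext (ModuleCat.of A (A ⧸ Ideal.ofList (rs ++ [r]))) (ModuleCat.of A M) (rs.length + 1) :=
        { toFun := fun x => hS.extClass.comp x (add_comm 1 rs.length)
          map_add' := fun x y => Ext.comp_add _ _ _ _
          map_smul' := fun c x => Ext.comp_smul _ _ _ _ }
      refine Groth.Agent.RegTop.quot_step _ _ r hI e δ (fun y => ?_) fun q => ⟨fun hq => ?_, ?_⟩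
      · exact Ext.contravariant_sequence_exact₃ hS _ y
          (@Subsingleton.elim (Ext (ModuleCat.of A (A ⧸ Ideal.ofList rs)) (ModuleCat.of A M) (rs.length + 1)) _ _ _) (add_comm 1 rs.length)
      · obtain ⟨x, hx⟩ := Ext.contravariant_sequence_exact₁ hS _ q (add_comm 1 rs.length) hq
        exact ⟨x, (mk₀_comp_mulSC _ _ r hI _ _ x).symm.trans hx⟩
      · rintro ⟨q', rfl⟩
        change hS.extClass.comp _ (add_comm 1 rs.length) = 0
        refine (congrArg (fun z => hS.extClass.comp z (add_comm 1 rs.length))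
          (mk₀_comp_mulSC _ _ r hI _ _ q').symm).trans ?_
        rw [← Ext.comp_assoc_of_second_deg_zero, ShortComplex.ShortExact.extClass_comp, Ext.zero_comp]

end


/-- Let `A` be a commutative ring, `xs = (x_1, …, x_p)` a sequence in `A` such that each `x_i` is a
non-zero-divisor on `A/(x_1, …, x_{i-1})`, `J` the ideal generated by the `x_i` and `M` any
`A`-module. Then `Ext^p_A(A/J, M)` is isomorphic, as an `A`-module, to `M/JM`. (Existence of an
`A`-linear isomorphism only; the published isomorphism is the one induced by the Koszul complex of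
`xs`.) -/
theorem result (A : Type u) [CommRing A] (xs : List A) (hreg : RingTheory.Sequence.IsWeaklyRegular A xs) (M : Type u) [AddCommGroup M] [Module A M] : Nonempty (Abelian.Ext (ModuleCat.of A (A ⧸ Ideal.ofList xs)) (ModuleCat.of A M) xs.length ≃ₗ[A] (M ⧸ (Ideal.ofList xs • (⊤ : Submodule A M)))) := by
  exact (core xs hreg).2 M

end Groth.Agent.S5665
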