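import Groth.Statements.S5666
import Mathlib
import Groth.Agent.S5665
-- import your own Groth.Agent.* helpers here

set_option autoImplicit false
universe u
open CategoryTheory
open Dual

namespace Groth.Agent.S5666

open CategoryTheory CategoryTheory.Limits Abelian
open Groth.Agent.S16238 (mulSC mulSC_shortExact)
open Groth.Agent.S5665 (mk₀_comp_mulSC)

section
variable {A : Type u} [CommRing A] (J : Ideal A)

/-- `A/J ⟶ M`, `1 ↦ y`. -/
noncomputable def φ (M : ModuleCat.{u} A) (hM : ∀ a ∈ J, ∀ y : M, a • y = 0) (y : M) :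
    ModuleCat.of A (A ⧸ J) ⟶ M :=
  ModuleCat.ofHom (J.liftQ (LinearMap.toSpanSingleton A M y) fun a ha => hM a ha y)

lemma φ_one (M : ModuleCat.{u} A) (hM : ∀ a ∈ J, ∀ y : M, a • y = 0) (y : M) :
    (φ J M hM y).hom (Submodule.Quotient.mk 1) = y := one_smul A y

lemma φ_add (M : ModuleCat.{u} A) (hM : ∀ a ∈ J, ∀ y : M, a • y = 0) (y z : M) :
    φ J M hM (y + z) = φ J M hM y + φ J M hM z :=
  ModuleCat.hom_ext (Submodule.linearMap_qext _ (LinearMap.ext_ring
    ((φ_one J M hM (y + z)).trans (congrArg₂ (· + ·) (φ_one J M hM y) (φ_one J M hM z)).symm)))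

lemma φ_smul (M : ModuleCat.{u} A) (hM : ∀ a ∈ J, ∀ y : M, a • y = 0) (c : A) (y : M) :
    φ J M hM (c • y) = c • φ J M hM y :=
  ModuleCat.hom_ext (Submodule.linearMap_qext _ (LinearMap.ext_ring
    ((φ_one J M hM (c • y)).trans (congrArg (c • ·) (φ_one J M hM y)).symm)))

/-- the evaluation map of a family of classes -/
noncomputable def Φ {ι : Type} [Fintype ι] {P : ModuleCat.{u} A} {n : ℕ}
    (e : ι → Ext P (ModuleCat.of A (A ⧸ J)) n) (M : ModuleCat.{u} A)
    (hM : ∀ a ∈ J, ∀ y : M, a • y = 0) : (ι → M) →ₗ[A] Ext P M n where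
  toFun m := ∑ s, (e s).comp (Ext.mk₀ (φ J M hM (m s))) (add_zero n)
  map_add' a b := by simp [φ_add, Ext.mk₀_add, Ext.comp_add, Finset.sum_add_distrib]
  map_smul' c a := by simp [φ_smul, Ext.mk₀_smul, Ext.comp_smul, Finset.smul_sum]

/-- good families -/
def Good (N : ℕ) (P : ModuleCat.{u} A) (n : ℕ) : Prop :=
  ∃ e : Fin N → Ext P (ModuleCat.of A (A ⧸ J)) n, ∀ (M : ModuleCat.{u} A)
    (hM : ∀ a ∈ J, ∀ y : M, a • y = 0), Function.Bijective (Φ J e M hM)

lemma good_of_fintype {ι : Type} [Fintype ι] {N : ℕ} (hN : Fintype.card ι = N) {P : ModuleCat.{u} A} {n : ℕ}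
    (e : ι → Ext P (ModuleCat.of A (A ⧸ J)) n)
    (h : ∀ (M : ModuleCat.{u} A) (hM : ∀ a ∈ J, ∀ y : M, a • y = 0), Function.Bijective (Φ J e M hM)) :
    Good J N P n := by
  let eq : ι ≃ Fin N := Fintype.equivFinOfCardEq hN
  refine ⟨fun i => e (eq.symm i), fun M hM => ?_⟩
  have : ⇑(Φ J (fun i => e (eq.symm i)) M hM) = Φ J e M hM ∘ fun m s => m (eq s) := by
    funext m
    simp only [Φ, LinearMap.coe_mk, AddHom.coe_mk, Function.comp_apply]
    exact (Fintype.sum_equiv eq _ _ fun s => by simp).symm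
  rw [this]
  exact (h M hM).comp ((eq.arrowCongr (Equiv.refl M)).symm.bijective)

lemma smul_ext_eq_zero {r : A} {P M : ModuleCat.{u} A} (hr : ∀ y : M, r • y = 0) {n : ℕ} (x : Ext P M n) :
    r • x = 0 := by
  have h : r • 𝟙 M = 0 := ModuleCat.hom_ext (LinearMap.ext fun y => hr y)
  rw [← Ext.comp_mk₀_id x, ← Ext.comp_smul, ← Ext.mk₀_smul, h, Ext.mk₀_zero, Ext.comp_zero]

lemma good_of_subsingleton {N : ℕ} (hN : N = 0) {P : ModuleCat.{u} A} {n : ℕ}
    (h : ∀ M : ModuleCat.{u} A, Subsingleton (Ext P M n)) : Good J N P n := by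
  subst hN
  exact ⟨Fin.elim0, fun M hM => ⟨Function.injective_of_subsingleton _,
    fun y => ⟨0, @Subsingleton.elim _ (h M) _ _⟩⟩⟩

section step
variable {P P' : ModuleCat.{u} A} (g : P ⟶ P')
variable (h₂ : ∀ (M : ModuleCat.{u} A), (∀ a ∈ J, ∀ y : M, a • y = 0) → ∀ (n : ℕ) (x : Ext P M n),
  ∃ x' : Ext P' M n, (Ext.mk₀ g).comp x' (zero_add n) = x)

include h₂ in
lemma step_zero [Epi g] {N : ℕ} (hb : Good J N P 0) (hB : ∀ a ∈ J, ∀ y : (ModuleCat.of A (A ⧸ J)), a • y = 0) :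
    Good J N P' 0 := by
  obtain ⟨eb, heb⟩ := hb
  choose lift hlift using fun s => h₂ _ hB 0 (eb s)
  refine ⟨lift, fun M hM => ?_⟩
  have hgΦ : ∀ m, (Ext.mk₀ g).comp (Φ J lift M hM m) (zero_add 0) = Φ J eb M hM m := fun m => by
    simp only [Φ, LinearMap.coe_mk, AddHom.coe_mk, Ext.comp_sum]
    refine Finset.sum_congr rfl fun s _ => ?_
    rw [← Ext.comp_assoc_of_third_deg_zero, hlift]
  refine ⟨fun a b hab => (heb M hM).1 ?_, fun x => ?_⟩
  · rw [← hgΦ, ← hgΦ, hab]
  · obtain ⟨m, hm⟩ := (heb M hM).2 ((Ext.mk₀ g).comp x (zero_add 0))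
    exact ⟨m, Ext.precomp_mk₀_injective_of_epi M g ((hgΦ m).trans hm)⟩

variable (δ : Ext P' P 1) (hgδ : (Ext.mk₀ g).comp δ (zero_add 1) = 0)
variable (h₁ : ∀ (M : ModuleCat.{u} A), (∀ a ∈ J, ∀ y : M, a • y = 0) → ∀ (n : ℕ) (x : Ext P M n),
  δ.comp x (add_comm 1 n) = 0 → x = 0)
variable (h₃ : ∀ (M : ModuleCat.{u} A) (n : ℕ) (y : Ext P' M (n + 1)),
  (Ext.mk₀ g).comp y (zero_add (n + 1)) = 0 → ∃ x : Ext P M n, δ.comp x (add_comm 1 n) = y)

include h₂ hgδ h₁ h₃ in
lemma step_succ {Na Nb j : ℕ} (ha : Good J Na P j) (hb : Good J Nb P (j + 1))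
    (hB : ∀ a ∈ J, ∀ y : (ModuleCat.of A (A ⧸ J)), a • y = 0) : Good J (Na + Nb) P' (j + 1) := by
  obtain ⟨ea, hea⟩ := ha
  obtain ⟨eb, heb⟩ := hb
  choose lift hlift using fun s => h₂ _ hB (j + 1) (eb s)
  refine good_of_fintype J (ι := Fin Na ⊕ Fin Nb) (by simp)
    (Sum.elim (fun s => δ.comp (ea s) (add_comm 1 j)) lift) fun M hM => ?_
  have hgΦ : ∀ m, (Ext.mk₀ g).comp (Φ J lift M hM m) (zero_add (j + 1)) = Φ J eb M hM m := fun m => by
    simp only [Φ, LinearMap.coe_mk, AddHom.coe_mk, Ext.comp_sum]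
    refine Finset.sum_congr rfl fun s _ => ?_
    rw [← Ext.comp_assoc_of_third_deg_zero, hlift]
  have hsplit : ∀ m, Φ J (Sum.elim (fun s => δ.comp (ea s) (add_comm 1 j)) lift) M hM m =
      δ.comp (Φ J ea M hM fun s => m (Sum.inl s)) (add_comm 1 j) + Φ J lift M hM fun s => m (Sum.inr s) := by
    intro m
    simp only [Φ, LinearMap.coe_mk, AddHom.coe_mk, Fintype.sum_sum_type, Sum.elim_inl, Sum.elim_inr,
      Ext.comp_sum]
    congr 1
    exact Finset.sum_congr rfl fun s _ => Ext.comp_assoc_of_third_deg_zero _ _ _ _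
  have hgδ' : ∀ x : Ext P M j, (Ext.mk₀ g).comp (δ.comp x (add_comm 1 j)) (zero_add (j + 1)) = 0 := by
    intro x
    rw [← Ext.comp_assoc (a₁₂ := 1) _ _ _ (zero_add 1) (add_comm 1 j) (by omega), hgδ, Ext.zero_comp]
  refine ⟨(injective_iff_map_eq_zero _).2 fun m hm => ?_, fun y => ?_⟩
  · rw [hsplit] at hm
    have e1 : (fun s => m (Sum.inr s)) = 0 := by
      refine (injective_iff_map_eq_zero _).1 (heb M hM).1 _ ?_
      rw [← hgΦ]
      have := congrArg (fun z => (Ext.mk₀ g).comp z (zero_add (j + 1))) hm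
      simpa [Ext.comp_add, hgδ'] using this
    rw [e1, map_zero, add_zero] at hm
    have e2 : (fun s => m (Sum.inl s)) = 0 :=
      (injective_iff_map_eq_zero _).1 (hea M hM).1 _ (h₁ M hM j _ hm)
    funext s
    rcases s with s | s
    · exact congrFun e2 s
    · exact congrFun e1 s
  · obtain ⟨mb, hmb⟩ := (heb M hM).2 ((Ext.mk₀ g).comp y (zero_add (j + 1)))
    obtain ⟨x, hx⟩ := h₃ M j (y - Φ J lift M hM mb) (by
      rw [sub_eq_add_neg, Ext.comp_add, Ext.comp_neg, hgΦ, hmb, add_neg_cancel])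
    obtain ⟨ma, rfl⟩ := (hea M hM).2 x
    refine ⟨Sum.elim ma mb, ?_⟩
    rw [hsplit]
    simp only [Sum.elim_inl, Sum.elim_inr]
    rw [hx, sub_add_cancel]

end step

theorem core : ∀ (rs : List A), RingTheory.Sequence.IsWeaklyRegular A rs → Ideal.ofList rs ≤ J →
    ∀ i : ℕ, Good J (rs.length.choose i) (ModuleCat.of A (A ⧸ Ideal.ofList rs)) i := by
  intro rs
  induction rs using List.reverseRecOn with
  | nil =>
    intro _ _ i
    let e₀ : (A ⧸ Ideal.ofList ([] : List A)) ≃ₗ[A] A := Submodule.quotEquivOfEqBot _ Ideal.ofList_nil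
    haveI : Module.Projective A (A ⧸ Ideal.ofList ([] : List A)) := Module.Projective.of_equiv e₀.symm
    haveI : Projective (ModuleCat.of A (A ⧸ Ideal.ofList ([] : List A))) :=
      (IsProjective.iff_projective (R := A) (A ⧸ Ideal.ofList ([] : List A))).1 inferInstance
    cases i with
    | succ i => exact good_of_subsingleton J rfl fun M => Ext.subsingleton_of_projective _ _ _
    | zero =>
      let π : ModuleCat.of A (A ⧸ Ideal.ofList ([] : List A)) ⟶ ModuleCat.of A (A ⧸ J) :=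
        ModuleCat.ofHom (Submodule.factor (by simp : Ideal.ofList ([] : List A) ≤ J))
      refine good_of_fintype J (ι := Unit) rfl (fun _ => Ext.mk₀ π) fun M hM => ?_
      have hΦ : ∀ m, Φ J (fun _ : Unit => Ext.mk₀ π) M hM m = Ext.mk₀ (π ≫ φ J M hM (m ())) := fun m => by
        simp [Φ]
      refine ⟨fun a b hab => funext fun _ => ?_, fun x => ?_⟩
      · rw [hΦ, hΦ] at hab
        have := congrArg (fun f => f.hom (Submodule.Quotient.mk 1)) ((Ext.mk₀_bijective _ _).1 hab)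
        exact (φ_one J M hM _).symm.trans (this.trans (φ_one J M hM _))
      · obtain ⟨f, rfl⟩ := (Ext.mk₀_bijective _ _).2 x
        refine ⟨fun _ => f.hom (Submodule.Quotient.mk 1), ?_⟩
        rw [hΦ]
        congr 1
        exact ModuleCat.hom_ext (Submodule.linearMap_qext _ (LinearMap.ext_ring (φ_one J M hM _)))
  | append_singleton rs r ih =>
    intro hA hle i
    obtain ⟨hrs, hr⟩ := Groth.Agent.RegTop.regular_of_append hA
    have hI := Groth.Agent.RegTop.ofList_append_singleton rs r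
    have hS := mulSC_shortExact _ _ r hI hr
    rw [hI, sup_le_iff, Ideal.span_singleton_le_iff_mem] at hle
    have ih' := ih hrs hle.1
    have hzero : ∀ (M : ModuleCat.{u} A), (∀ a ∈ J, ∀ y : M, a • y = 0) → ∀ (n : ℕ)
        (x : Ext (mulSC _ _ r hI).X₂ M n), (Ext.mk₀ (mulSC _ _ r hI).f).comp x (zero_add n) = 0 :=
      fun M hM n x => (mk₀_comp_mulSC _ _ r hI M n x).trans (smul_ext_eq_zero (hM r hle.2) x)
    have hB : ∀ a ∈ J, ∀ y : (ModuleCat.of A (A ⧸ J)), a • y = 0 := fun a ha y => by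
      obtain ⟨b, rfl⟩ := Submodule.Quotient.mk_surjective J y
      rw [← Submodule.Quotient.mk_smul, Submodule.Quotient.mk_eq_zero, smul_eq_mul]
      exact J.mul_mem_right _ ha
    rw [List.length_append, List.length_singleton]
    let g : ModuleCat.of A (A ⧸ Ideal.ofList rs) ⟶ ModuleCat.of A (A ⧸ Ideal.ofList (rs ++ [r])) :=
      (mulSC _ _ r hI).g
    have h₂ := fun (M : ModuleCat.{u} A) (hM : ∀ a ∈ J, ∀ y : M, a • y = 0) (n : ℕ)
        (x : Ext (ModuleCat.of A (A ⧸ Ideal.ofList rs)) M n) =>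
      (show ∃ x' : Ext (ModuleCat.of A (A ⧸ Ideal.ofList (rs ++ [r]))) M n, (Ext.mk₀ g).comp x' (zero_add n) = x
        from Ext.contravariant_sequence_exact₂ hS M x (hzero M hM n x))
    cases i with
    | zero =>
      haveI : Epi g := hS.epi_g
      simpa using step_zero J g h₂ (ih' 0) hB
    | succ j =>
      rw [Nat.choose_succ_succ']
      refine step_succ J g h₂ hS.extClass hS.comp_extClass (fun M hM n x hx => ?_)
        (fun M n y hy => Ext.contravariant_sequence_exact₃ hS M y hy (add_comm 1 n)) (ih' j) (ih' (j + 1)) hB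
      obtain ⟨x', hx'⟩ := Ext.contravariant_sequence_exact₁ hS M x (add_comm 1 n) hx
      exact hx'.symm.trans (hzero M hM n x')

end


/-- All degrees, for a module killed by `J`: let `A` be a commutative ring, `xs = (x_1, …, x_p)` a
sequence in `A` such that each `x_i` is a non-zero-divisor on `A/(x_1, …, x_{i-1})`, `J` the ideal
generated by the `x_i`, and `M` an `A`-module with `JM = 0`. Then for every `i`, `Ext^i_A(A/J, M)`
is isomorphic as an `A`-module to `M^(p choose i)` (so it vanishes for `i > p`). (Existence of an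
`A`-linear isomorphism only; the published one is `Ext^i_A(A/J, M) ≅ Hom_A(Λ^i(J/J^2), M)` with
`J/J^2` free of rank `p` over `A/J`.) -/
theorem result (A : Type u) [CommRing A] (xs : List A) (hreg : RingTheory.Sequence.IsWeaklyRegular A xs) (M : Type u) [AddCommGroup M] [Module A M] (hJM : Ideal.ofList xs • (⊤ : Submodule A M) = ⊥) (i : ℕ) : Nonempty (Abelian.Ext (ModuleCat.of A (A ⧸ Ideal.ofList xs)) (ModuleCat.of A M) i ≃ₗ[A] (Fin (xs.length.choose i) → M)) := by
  have hM : ∀ a ∈ Ideal.ofList xs, ∀ y : M, a • y = 0 := fun a ha y =>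
    (Submodule.mem_bot A).1 (hJM ▸ Submodule.smul_mem_smul ha Submodule.mem_top)
  obtain ⟨e, he⟩ := core (Ideal.ofList xs) xs hreg le_rfl i
  exact ⟨(LinearEquiv.ofBijective _ (he (ModuleCat.of A M) hM)).symm⟩

end Groth.Agent.S5666
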