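import Groth.Statements.S5667
-- import your own Groth.Agent.* helpers here
import Groth.Agent.AdjForm.SmoothDual
import Groth.Agent.S11907
import Groth.Agent.SmoothWeil.Geom
import Groth.Agent.InvPow.Resolution

set_option autoImplicit false
universe u
open CategoryTheory CategoryTheory.Limits AlgebraicGeometry
open ProjDual

namespace Groth.Agent.S5667

/-- Let `k` be an algebraically closed field and `X` a connected nonsingular projective variety of
dimension `n` over `k` — here: a connected `k`-scheme, smooth of relative dimension `n` over `k`,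
with a closed immersion into some projective space `P^r_k` over `k` — and let `L` be an `n`-th
exterior power of the sheaf of differentials of `X` over `k` (the sheaf of `n`-forms). Then `H^n(X,
L)` is a `k`-vector space of dimension `1`. (The source says more: the fundamental class of a point
is a basis; only the dimension is stated here.) -/
theorem result (k : Type u) [Field k] [IsAlgClosed k] (n r : ℕ) (X : Scheme.{u}) [X.Over (Spec (CommRingCat.of k))] [SmoothOfRelativeDimension n (X ↘ Spec (CommRingCat.of k))] [ConnectedSpace X] (ι : X ⟶ CohB1.ProjSpace r k) [IsClosedImmersion ι] (hι : ι ≫ CohB1.ProjSpace.toSpec r k = X ↘ Spec (CommRingCat.of k)) (L : X.Modules) (hL : ExtPow.IsExtPow n (Omega.sheaf (X ↘ Spec (CommRingCat.of k))) L) : Module.finrank k (Coh.HH X L n) = 1 := by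
  obtain ⟨t, ht⟩ := Groth.Agent.AdjForm.exists_dualizing_smooth ι hι L hL
  haveI : Smooth (X ↘ Spec (CommRingCat.of k)) := SmoothOfRelativeDimension.smooth n _
  haveI : IsProper (CohB1.ProjSpace.toSpec r k) := Groth.Agent.InvPow.isProper_toSpec r k
  haveI : IsProper (X ↘ Spec (CommRingCat.of k)) := hι ▸ inferInstance
  haveI : IsIntegral X := Groth.Agent.SmoothWeil.isIntegral_of_smooth_connected (X ↘ Spec (CommRingCat.of k))
  haveI : IsLocallyNoetherian X := LocallyOfFiniteType.isLocallyNoetherian (X ↘ Spec (CommRingCat.of k))
  have hdim : topologicalKrullDim ↥X = (n : WithBot ℕ∞) := by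
    rw [← Groth.Agent.AdjForm.dim_component (X ↘ Spec (CommRingCat.of k)) n Set.univ
      (by rw [irreducibleComponents_eq_singleton]; rfl)]
    exact (Homeomorph.Set.univ X).isHomeomorph.topologicalKrullDim_eq.symm
  have hLcoh : Coh.IsCoh L := by
    obtain ⟨φ, hφ⟩ := hL
    refine Groth.Agent.InvPow.isCoh_of_isInvertible ?_
    exact Groth.Agent.AdjForm.isInvertible_omegaP φ hφ
  have hbij := Groth.Agent.S11907.result k r n X ι hι hdim (fun a ha => by
    let kK := (X.presheaf.germ ⊤ (genericPoint X) trivial).hom.comp (Coh.toGlobal (X ↘ Spec (CommRingCat.of k)))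
    letI := kK.toAlgebra
    have hint : _root_.IsIntegral k a := ha
    exact minpoly.degree_eq_one_iff.1 (IsAlgClosed.degree_eq_one_of_irreducible k (minpoly.irreducible hint))) L hLcoh t ht
  rw [(LinearEquiv.ofBijective t hbij).finrank_eq, Module.finrank_self]

end Groth.Agent.S5667
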