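import Groth.Statements.S5670
import Groth.Agent.FullyFaithBC.Main

set_option autoImplicit false
universe u
open Pi1

namespace Groth.Agent.S5670

open CategoryTheory CategoryTheory.Limits AlgebraicGeometry in
/-- Let `f : X → Y` be a proper morphism of Noetherian schemes such that `O_Y → f_* O_X` is an
isomorphism (bijective on sections over every open of `Y`). Then for every connected finite étale
`Y'` over `Y`, the base change `X ×_Y Y'` is connected; equivalently, `f` induces a surjection on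
étale fundamental groups. -/
theorem result {X Y Y' : Scheme.{u}} (f : X ⟶ Y) [IsProper f] [IsNoetherian X] [IsNoetherian Y] (hf : ∀ U : Y.Opens, Function.Bijective (f.app U)) (g : Y' ⟶ Y) [IsFinite g] [Etale g] [ConnectedSpace Y'] : ConnectedSpace ↥(pullback f g) := by
  haveI : Groth.Agent.TrivSec.TrivPush f := ⟨hf⟩
  let p₂ : pullback f g ⟶ Y' := pullback.snd f g
  let b : Y' ⨿ Y' ⟶ Y := coprod.desc g g
  have hdesc : ∀ q : pullback f g ⟶ Y' ⨿ Y', q ≫ b = p₂ ≫ g →
      ∃! k : Y' ⟶ Y' ⨿ Y', k ≫ b = g ∧ p₂ ≫ k = q := fun q hq =>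
    Groth.Agent.FullyFaithBC.existsUnique_desc (IsPullback.of_hasPullback f g) q hq
  have hdisj : ∀ x y : Y', (coprod.inl : Y' ⟶ Y' ⨿ Y') x ≠ (coprod.inr : Y' ⟶ Y' ⨿ Y') y := fun x y hxy =>
    Set.disjoint_iff.mp (isCompl_range_inl_inr Y' Y').disjoint ⟨⟨x, rfl⟩, ⟨y, hxy.symm⟩⟩
  haveI : Nonempty ↥(pullback f g) := by
    by_contra hne
    haveI : IsEmpty ↥(pullback f g) := not_nonempty_iff.mp hne
    obtain ⟨y⟩ := ‹ConnectedSpace Y'›.toNonempty
    have := (hdesc (p₂ ≫ coprod.inl) ((Category.assoc _ _ _).trans (congrArg (p₂ ≫ ·) (coprod.inl_desc g g)))).unique (y₁ := coprod.inl) (y₂ := coprod.inr)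
      ⟨coprod.inl_desc g g, rfl⟩ ⟨coprod.inr_desc g g, isInitialOfIsEmpty.hom_ext _ _⟩
    exact hdisj y y (by rw [this])
  refine { toPreconnectedSpace := preconnectedSpace_iff_clopen.mpr fun C hC => ?_, toNonempty := inferInstance }
  let U : Bool → (pullback f g).Opens := fun t => cond t ⟨C, hC.isOpen⟩ ⟨Cᶜ, hC.compl.isOpen⟩
  have hU : TopologicalSpace.IsOpenCover U := TopologicalSpace.Opens.ext (Set.eq_univ_of_forall fun x => by
    rw [TopologicalSpace.Opens.coe_iSup, Set.mem_iUnion]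
    by_cases hx : x ∈ C
    · exact ⟨true, hx⟩
    · exact ⟨false, hx⟩)
  let c : Bool → (Y' ⟶ Y' ⨿ Y') := fun t => cond t coprod.inl coprod.inr
  have hc : ∀ t, c t ≫ b = g := fun t => by cases t; exacts [coprod.inr_desc g g, coprod.inl_desc g g]
  let 𝒰 := (pullback f g).openCoverOfIsOpenCover U hU
  have hglue : ∀ s t : Bool, pullback.fst (U s).ι (U t).ι ≫ (U s).ι ≫ p₂ ≫ c s =
      pullback.snd (U s).ι (U t).ι ≫ (U t).ι ≫ p₂ ≫ c t := fun s t => by
    have hcond : pullback.fst (U s).ι (U t).ι ≫ (U s).ι = pullback.snd (U s).ι (U t).ι ≫ (U t).ι := pullback.condition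
    by_cases hst : s = t
    · subst hst
      simpa only [Category.assoc] using congrArg (· ≫ p₂ ≫ c s) hcond
    · haveI : IsEmpty ↥(pullback (U s).ι (U t).ι) := ⟨fun z => by
        have h1 : ((U s).ι ((pullback.fst (U s).ι (U t).ι) z)) ∈ U s := (pullback.fst (U s).ι (U t).ι z).2
        have h2 : ((U t).ι ((pullback.snd (U s).ι (U t).ι) z)) ∈ U t := (pullback.snd (U s).ι (U t).ι z).2
        rw [← Scheme.Hom.comp_apply, hcond, Scheme.Hom.comp_apply] at h1
        cases s <;> cases t <;> first | exact hst rfl | exact h2 h1 | exact h1 h2⟩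
      exact isInitialOfIsEmpty.hom_ext _ _
  let q := Scheme.Cover.glueMorphisms 𝒰 (fun s => (U s).ι ≫ p₂ ≫ c s) hglue
  have hq : ∀ t : Bool, (U t).ι ≫ q = (U t).ι ≫ p₂ ≫ c t :=
    fun t => Scheme.Cover.ι_glueMorphisms 𝒰 _ hglue t
  obtain ⟨k, ⟨-, hk⟩, -⟩ := hdesc q (Scheme.Cover.hom_ext 𝒰 _ _ fun (t : Bool) => by
    show (U t).ι ≫ q ≫ b = _
    rw [reassoc_of% hq t, hc]
    rfl)
  have hclop : IsClopen (k ⁻¹' Set.range (coprod.inl : Y' ⟶ Y' ⨿ Y')) := by
    refine IsClopen.preimage ⟨?_, (coprod.inl : Y' ⟶ Y' ⨿ Y').isOpenEmbedding.isOpen_range⟩ k.continuous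
    rw [← isOpen_compl_iff, (isCompl_range_inl_inr Y' Y').compl_eq]
    exact (coprod.inr : Y' ⟶ Y' ⨿ Y').isOpenEmbedding.isOpen_range
  have hmem : ∀ x, x ∈ C ↔ p₂ x ∈ k ⁻¹' Set.range (coprod.inl : Y' ⟶ Y' ⨿ Y') := fun x => by
    rw [Set.mem_preimage, ← Scheme.Hom.comp_apply, hk]
    constructor
    · intro hx
      refine ⟨p₂ x, ?_⟩
      have := congr($(hq true) ⟨x, hx⟩)
      exact this.symm
    · rintro ⟨y, hy⟩
      by_contra hx
      have := congr($(hq false) ⟨x, hx⟩)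
      exact hdisj y (p₂ x) (hy.trans this)
  rcases isClopen_iff.mp hclop with h | h
  · left
    ext x
    simp [hmem, h]
  · right
    ext x
    simp [hmem, h]

end Groth.Agent.S5670
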