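import Groth.Statements.S5671
import Groth.Agent.DepthLib.Ext
import Groth.Agent.DepthLib.CMModule
import Groth.Agent.DepthLib.RegularLocal

set_option autoImplicit false
universe u
open CategoryTheory
open Dual

namespace Groth.Agent.S5671

/-- First assertion, in the local-algebra form to which its proof reduces it: let `A` be a regular local
ring of dimension `n`, `p ≥ 0`, and `M` a finite `A`-module whose support has dimension at most `n -
p`. Then `Ext^i_A(M, A) = 0` for every `i < p`. (The geometric statement: on a nonsingular
`n`-dimensional variety the sheaves `Ext^i(F, L)` vanish for `i < p` when `F` is coherent with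
support of dimension `≤ n - p` and `L` is locally free.) -/
theorem result (A : Type u) [CommRing A] [IsRegularLocalRing A] (M : Type u) [AddCommGroup M] [Module A M] [Module.Finite A M] (p : ℕ) (hdim : Module.supportDim A M + p ≤ ringKrullDim A) (i : ℕ) (hi : i < p) : Subsingleton (Abelian.Ext (ModuleCat.of A M) (ModuleCat.of A A) i) := by
  haveI := Groth.Agent.DepthLib.isCohenMacaulayLocalRing_of_isRegularLocalRing A
  have hsupp : Module.support A M ⊆ PrimeSpectrum.zeroLocus (Module.annihilator A M : Set A) :=
    (Module.support_eq_zeroLocus).le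
  refine Groth.Agent.DepthLib.subsingleton_ext_of_lt_idealDepth (R := A) (I := Module.annihilator A M) hsupp ?_
  by_cases htop : Module.annihilator A M = ⊤
  · rw [Groth.Agent.DepthLib.idealDepth_of_smul_top_eq (show Module.annihilator A M • (⊤ : Submodule A A) = ⊤ by rw [htop, Submodule.top_smul])]
    exact ENat.coe_lt_top i
  have h := Groth.Agent.DepthLib.supportDim_quotient_add_idealDepth
    (Groth.Agent.DepthLib.isCohenMacaulayModule_self (R := A)) htop
  rw [Module.supportDim_eq_of_equiv (Submodule.quotEquivOfEq _ (Module.annihilator A M) (by rw [smul_eq_mul, Ideal.mul_top])),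
    Module.supportDim_quotient_eq_ringKrullDim, Module.supportDim_self_eq_ringKrullDim, ringKrullDim_quotient,
    ← Module.support_eq_zeroLocus] at h
  change Module.supportDim A M + _ = _ at h
  rw [← h] at hdim
  by_contra hlt
  rw [not_lt] at hlt
  haveI : Nontrivial M := by
    by_contra hc
    rw [not_nontrivial_iff_subsingleton] at hc
    exact htop (Module.annihilator_eq_top_iff.mpr hc)
  obtain ⟨d, hd⟩ := Groth.Agent.DepthLib.exists_nat_supportDim (R := A) M
  rw [hd] at hdim
  have h2 : (d : WithBot ℕ∞) + p ≤ (d : WithBot ℕ∞) + ((i : ℕ∞) : WithBot ℕ∞) :=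
    hdim.trans (add_le_add le_rfl (WithBot.coe_le_coe.mpr hlt))
  have : d + p ≤ d + i := by exact_mod_cast h2
  omega

end Groth.Agent.S5671
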