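import Groth.Statements.S5673
import Mathlib
import Groth.Agent.RegTop.Basic
import Groth.Agent.FTorColim.Balance
-- import your own Groth.Agent.* helpers here

set_option autoImplicit false
universe u
open CategoryTheory
open Dual

namespace Groth.Agent.S5673

open CategoryTheory CategoryTheory.Limits MonoidalCategory
open Groth.Agent.DRingPC (tensorRes torIso tensorResSC tensorResSC_shortExact)
open Groth.Agent.FTorColim (T)
open Groth.Agent.S16238 (mulSC mulSC_shortExact homologyMap_mulSC)

section
variable {A : Type u} [CommRing A]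

theorem core : ∀ (xs : List A), RingTheory.Sequence.IsWeaklyRegular A xs →
    (∀ (M : ModuleCat.{u} A) (m : ℕ), xs.length < m →
        IsZero (T m (ModuleCat.of A (A ⧸ Ideal.ofList xs)) M)) ∧
      ∀ (M : Type u) [AddCommGroup M] [Module A M],
        Nonempty (T xs.length (ModuleCat.of A (A ⧸ Ideal.ofList xs)) (ModuleCat.of A M) ≃ₗ[A]
          ((A ⧸ Ideal.ofList xs) →ₗ[A] M)) := by
  intro xs
  induction xs using List.reverseRecOn with
  | nil =>
    intro _
    let e : (A ⧸ Ideal.ofList ([] : List A)) ≃ₗ[A] A := Submodule.quotEquivOfEqBot _ Ideal.ofList_nil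
    refine ⟨fun M m hm => ?_, fun M _ _ => ⟨?_⟩⟩
    · obtain ⟨m, rfl⟩ : ∃ k, m = k + 1 := ⟨m - 1, by simp at hm; omega⟩
      haveI : Module.Flat A (ModuleCat.of A (A ⧸ Ideal.ofList ([] : List A))) := Module.Flat.of_linearEquiv e
      exact Groth.Agent.FTorColim.isZero_tor_succ_of_flat _ _ _
    · let X := ModuleCat.of A (A ⧸ Ideal.ofList ([] : List A))
      haveI : PreservesFiniteColimits ((tensoringLeft (ModuleCat.{u} A)).obj X) :=
        inferInstanceAs (PreservesFiniteColimits (tensorLeft X))
      let e₀ : T 0 X (ModuleCat.of A M) ≃ₗ[A] TensorProduct A (A ⧸ Ideal.ofList ([] : List A)) M :=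
        (((tensoringLeft (ModuleCat.{u} A)).obj X).leftDerivedZeroIsoSelf.app (ModuleCat.of A M)).toLinearEquiv
      exact e₀.trans (((TensorProduct.congr e (LinearEquiv.refl A M)).trans (TensorProduct.lid A M)).trans
        ((LinearEquiv.arrowCongr e (LinearEquiv.refl A M)).trans (LinearMap.ringLmapEquivSelf A A M)).symm)
  | append_singleton rs r ih =>
    intro hA
    obtain ⟨hrs, hr⟩ := Groth.Agent.RegTop.regular_of_append hA
    obtain ⟨hv, he⟩ := ih hrs
    have hI := Groth.Agent.RegTop.ofList_append_singleton rs r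
    have hS := mulSC_shortExact _ _ r hI hr
    rw [List.length_append, List.length_singleton]
    refine ⟨fun M m hm => ?_, fun M _ _ => ?_⟩
    · obtain ⟨k, rfl⟩ : ∃ k, m = k + 1 := ⟨m - 1, by omega⟩
      let P := projectiveResolution M
      have hT := tensorResSC_shortExact hS P
      refine IsZero.of_iso ?_ (torIso _ P (k + 1))
      refine (hT.homology_exact₃ (k + 1) k (by simp)).isZero_of_both_zeros ?_ ?_
      · exact ((hv M (k + 1) (by omega)).of_iso (torIso _ P (k + 1)).symm).eq_of_src _ _
      · exact ((hv M k (by omega)).of_iso (torIso _ P k).symm).eq_of_tgt _ _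
    · obtain ⟨e⟩ := he M
      let n := rs.length
      let P := projectiveResolution (ModuleCat.of A M)
      have hT := tensorResSC_shortExact hS P
      let M₁ := ModuleCat.of A (A ⧸ Ideal.ofList rs)
      haveI hmono : Mono (hT.δ (n + 1) n (by simp)) :=
        (hT.homology_exact₃ (n + 1) n (by simp)).mono_g
          (((hv (ModuleCat.of A M) (n + 1) (by omega)).of_iso (torIso M₁ P (n + 1)).symm).eq_of_src _ _)
      let δ : (tensorRes (mulSC _ _ r hI).X₃ P).homology (n + 1) →ₗ[A] (tensorRes M₁ P).homology n :=
        (hT.δ (n + 1) n (by simp)).hom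
      have hk : ∀ q : (tensorRes M₁ P).homology n, r • q = 0 ↔ ∃ q', δ q' = q := by
        intro q
        have hex := (ShortComplex.ShortExact.moduleCat_exact_iff_function_exact _).1
          (hT.homology_exact₁ (n + 1) n (by simp))
        have h1 := hex q
        have h2 := ConcreteCategory.congr_hom (homologyMap_mulSC P _ _ r hI n) q
        exact ⟨fun h => h1.1 (h2.trans h), fun h => h2.symm.trans (h1.2 h)⟩
      obtain ⟨e'⟩ := Groth.Agent.RegTop.hom_step _ _ r hI
        ((torIso M₁ P n).symm.toLinearEquiv.trans e) δ ((ModuleCat.mono_iff_injective _).1 hmono) hk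
      exact ⟨(torIso _ P (n + 1)).toLinearEquiv.trans e'⟩

end


/-- Let `A` be a commutative ring, `xs = (x_1, …, x_p)` a sequence in `A` such that each `x_i` is a
non-zero-divisor on `A/(x_1, …, x_{i-1})`, `J` the ideal generated by the `x_i` and `M` any
`A`-module. Then `Tor_p^A(A/J, M)` (Mathlib's `Tor'`, the left derived functors of `- ⊗ M` evaluated
at `A/J`, i.e. computed from a resolution of `A/J`) is isomorphic as an `A`-module to `Hom_A(A/J,
M)`, i.e. to the elements of `M` killed by `J`. (Existence of an `A`-linear isomorphism only; the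
published one is induced by the Koszul complex of `xs`.) -/
theorem result (A : Type u) [CommRing A] (xs : List A) (hreg : RingTheory.Sequence.IsWeaklyRegular A xs) (M : Type u) [AddCommGroup M] [Module A M] : Nonempty (↑(((Tor' (ModuleCat.{u} A) xs.length).obj (ModuleCat.of A (A ⧸ Ideal.ofList xs))).obj (ModuleCat.of A M)) ≃ₗ[A] ((A ⧸ Ideal.ofList xs) →ₗ[A] M)) := by
  obtain ⟨e⟩ := (core xs hreg).2 M
  let P := projectiveResolution (ModuleCat.of A (A ⧸ Ideal.ofList xs))
  obtain ⟨ι⟩ := Groth.Agent.FTorColim.nonempty_tor_iso xs.length _ (ModuleCat.of A M) P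
  exact ⟨((ι ≪≫ (P.isoLeftDerivedObj (MonoidalCategory.tensorRight (ModuleCat.of A M)) xs.length).symm).toLinearEquiv).symm.trans e⟩

end Groth.Agent.S5673
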