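import Groth.Statements.S5674
-- import your own Groth.Agent.* helpers here
import Groth.Agent.CohDual.CodimApps
import Groth.Agent.CohDual.SmoothEquidim
import Groth.Agent.CohDual.ExtH0
import Groth.Agent.CohVanish.Sections

set_option autoImplicit false
universe u
open CategoryTheory CategoryTheory.Limits AlgebraicGeometry
open ProjDual

namespace Groth.Agent.S5674

/-- Let `k` be an algebraically closed field, `X` a nonsingular algebraic set of dimension `n` over `k`
— here: a quasi-compact `k`-scheme smooth of relative dimension `n` over `k` — `F` a coherent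
`O_X`-module whose support has dimension at most `n - p`, and `L` a finite locally free
`O_X`-module. Then the (global) groups `Ext^i_{O_X}(F, L)` vanish for `i < p`. (All components of
`X` have dimension `n`; for a nonsingular algebraic set with a component of smaller dimension the
conclusion fails. The Ext instance on the category of `O_X`-modules is taken as a hypothesis; it
holds since that category is Grothendieck abelian.) -/
theorem result (k : Type u) [Field k] [IsAlgClosed k] (n : ℕ) (X : Scheme.{u}) [X.Over (Spec (CommRingCat.of k))] [SmoothOfRelativeDimension n (X ↘ Spec (CommRingCat.of k))] [CompactSpace X] [HasExt.{u} X.Modules] (F : X.Modules) (hF : Coh.IsCoh F) (L : X.Modules) (hL : FlatMod.IsFinLocFree L) (p : ℕ) (hsupp : topologicalKrullDim ↥(CohB1.support F) + p ≤ n) (i : ℕ) (hi : i < p) : Subsingleton (Abelian.Ext F L i) := by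
  let f := X ↘ Spec (CommRingCat.of k)
  haveI : Smooth f := SmoothOfRelativeDimension.smooth n f
  haveI : IsLocallyNoetherian X := LocallyOfFiniteType.isLocallyNoetherian f
  haveI : IsGrothendieckAbelian.{u} (ModSite.Mod X.sheaf) :=
    Groth.Agent.ModGroth.sheaf_isGrothendieckAbelian _
  haveI : HasInjectiveResolutions (ModSite.Mod X.sheaf) := inferInstance
  haveI : ModSite.HasSheafHom (O := X.sheaf) F := Groth.Agent.ModGroth.hasSheafHom (O := X.sheaf) F
  have hz : ∀ l, l < p → IsZero ((Groth.Agent.CohDual.extX F l).obj L) := fun l hl =>
    (Groth.Agent.CohDual.StalkExtVanish.isZero_extX_iff F L hF l).2 fun x =>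
      Groth.Agent.CohDual.StalkExtVanish.subsingleton_ext_of_codim F L hF hL x p
        (fun y _ _ => Groth.Agent.CohDual.SmoothEquidim.isRegularLocalRing_stalk f y)
        (fun y _ hy => Groth.Agent.CohDual.SmoothEquidim.natCast_le_ringKrullDim_smooth f n y p
          ((add_le_add (Groth.Agent.CohDual.CodimApps.dim_closure_le hF hy) le_rfl).trans hsupp)) hl
  obtain ⟨e⟩ := Groth.Agent.CohDual.nonempty_ext_H0 (A := k) F L i fun l hl q _ =>
    Groth.Agent.CohVanish.subsingleton_HH_of_isZero (hz l (hl.trans hi)) q
  haveI := Groth.Agent.CohVanish.subsingleton_HH_of_isZero (hz i hi) 0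
  exact e.injective.subsingleton

end Groth.Agent.S5674
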