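import Groth.Statements.S5683
import Groth.Agent.InvPow.Locus
import Groth.Agent.InvPow.Transfer
import Groth.Agent.InvPow.DualBasis
import Groth.Agent.InvPow.PullBasisLocal
import Groth.Agent.InvGlue.Components
-- import your own Groth.Agent.* helpers here

set_option autoImplicit false
universe u
open CategoryTheory CategoryTheory.Limits AlgebraicGeometry
open FGA

namespace Groth.Agent.S5683

/-- Let f : X ⟶ S be a morphism of schemes such that for every open U of S the induced map from sections
of the structure sheaf of S over U to sections of the structure sheaf of X over the inverse image of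
U is bijective. If L is an invertible module on S whose pullback to X is isomorphic to the structure
sheaf of X, then L is isomorphic to the structure sheaf of S: pullback of invertible modules along f
is injective on isomorphism classes. This is exactness at Pic(S). -/
theorem result {X S : Scheme.{u}} (f : X ⟶ S)
    (hf : ∀ U : S.Opens, Function.Bijective (f.app U)) (L : S.Modules) (hL : PicF.IsInvertible L)
    (htriv : Nonempty ((Scheme.Modules.pullback f).obj L ≅ Coh.structureModule X)) :
    Nonempty (L ≅ Coh.structureModule S) := by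
  obtain ⟨τ⟩ := htriv
  let P := (Scheme.Modules.pullback f).obj L
  let β : Γ(P, ⊤) := τ.inv.app ⊤ (Groth.Agent.InvPow.oneSec X ⊤)
  have hβ : Groth.Agent.InvBasic.IsBasis P β :=
    Groth.Agent.InvPow.isBasis_of_iso τ.symm (Groth.Agent.InvPow.isBasis_oneSec ⊤)
  choose V hxV ℓ hℓ using Groth.Agent.InvBasic.exists_isBasis hL
  have hp : ∀ (W : S.Opens) (l : Γ(L, W)), Groth.Agent.InvBasic.IsBasis L l →
      Function.Injective fun c : Γ(S, W) => Groth.Agent.InvPow.pullLoc f L (c • l) := by
    intro W l hl a b hab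
    simp only [Groth.Agent.InvPow.pullLoc_smul] at hab
    exact (hf W).1 (Groth.Agent.InvPow.coef_unique (Groth.Agent.InvPow.isBasis_pullLoc f hL hl) hab)
  choose c' hc' using fun x => Groth.Agent.InvPow.exists_coef
    (Groth.Agent.InvPow.isBasis_pullLoc f hL (hℓ x)) (P.presheaf.map (homOfLE (le_top : f ⁻¹ᵁ V x ≤ ⊤)).op β)
  choose c hc using fun x => (hf (V x)).2 (c' x)
  have hqi : ∀ x, Groth.Agent.InvPow.pullLoc f L (c x • ℓ x) =
      P.presheaf.map (homOfLE (le_top : f ⁻¹ᵁ V x ≤ ⊤)).op β := fun x => by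
    rw [Groth.Agent.InvPow.pullLoc_smul, hc, hc']
  obtain ⟨σ, hσ⟩ := Groth.Agent.InvPow.exists_glue_sections L V (fun x => ⟨x, hxV x⟩) (fun x => c x • ℓ x) (by
    intro x y
    obtain ⟨a, ha⟩ := Groth.Agent.InvPow.exists_coef ((hℓ x).restrict (inf_le_left : V x ⊓ V y ≤ V x))
      (Groth.Agent.ProjUniv.res L (inf_le_left : V x ⊓ V y ≤ V x) (c x • ℓ x))
    obtain ⟨b, hb⟩ := Groth.Agent.InvPow.exists_coef ((hℓ x).restrict (inf_le_left : V x ⊓ V y ≤ V x))
      (Groth.Agent.ProjUniv.res L (inf_le_right : V x ⊓ V y ≤ V y) (c y • ℓ y))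
    rw [ha, hb, show a = b from hp _ _ ((hℓ x).restrict inf_le_left) (by
      show Groth.Agent.InvPow.pullLoc f L _ = Groth.Agent.InvPow.pullLoc f L _
      rw [← ha, ← hb, ← Groth.Agent.InvPow.res_pullLoc, ← Groth.Agent.InvPow.res_pullLoc, hqi, hqi]
      exact (Groth.Agent.QCohLib.map_map P _ _ β).trans (Groth.Agent.QCohLib.map_map P _ _ β).symm)])
  have hcu : ∀ x, IsUnit (c x) := by
    intro x
    obtain ⟨a, ha⟩ := Groth.Agent.InvPow.exists_coef (hβ.restrict (le_top : f ⁻¹ᵁ V x ≤ ⊤))
      (Groth.Agent.InvPow.pullLoc f L (ℓ x))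
    have h1 : c' x * a = 1 := Groth.Agent.InvPow.coef_unique (hβ.restrict (le_top : f ⁻¹ᵁ V x ≤ ⊤))
      (by rw [mul_smul, ← ha, ← hc', one_smul])
    obtain ⟨a', ha'⟩ := (hf (V x)).2 a
    exact IsUnit.of_mul_eq_one a' ((hf (V x)).1 (by rw [map_mul, hc, ha', h1, map_one]))
  have hσb : ∀ x, Groth.Agent.InvBasic.IsBasis L (L.presheaf.map (homOfLE (le_top : V x ≤ ⊤)).op σ) := by
    intro x W hW
    have e : (fun r : Γ(S, W) => r • (L.presheaf.map (homOfLE hW).op (L.presheaf.map (homOfLE (le_top : V x ≤ ⊤)).op σ) : Γ(L, W))) =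
        (fun r => r • L.presheaf.map (homOfLE hW).op (ℓ x)) ∘ fun r => r * S.presheaf.map (homOfLE hW).op (c x) := by
      funext r
      show r • L.presheaf.map (homOfLE hW).op _ = _
      rw [show L.presheaf.map (homOfLE (le_top : V x ≤ ⊤)).op σ = c x • ℓ x from hσ x, Scheme.Modules.map_smul, smul_smul]
      rfl
    rw [e]
    exact ((hℓ x) W hW).comp ((hcu x).map (S.presheaf.map (homOfLE hW).op).hom).unit.mulRight.bijective
  haveI : IsIso (Groth.Agent.ProjTwist.globalHom L σ) := by
    refine Groth.Agent.InvGlue.isIso_of_basis _ V (fun x => ⟨x, hxV x⟩) (fun x => Groth.Agent.InvPow.oneSec S (V x))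
      (fun x => Groth.Agent.InvPow.isBasis_oneSec (V x)) fun x => ?_
    convert hσb x using 1
    rw [Groth.Agent.ProjTwist.globalHom_app]
    exact one_smul _ _
  exact ⟨(asIso (Groth.Agent.ProjTwist.globalHom L σ)).symm⟩

end Groth.Agent.S5683
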