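import Groth.Statements.S5690
import Mathlib
import Groth.Agent.GrpdBasic.QuotGlue
-- import your own Groth.Agent.* helpers here

set_option autoImplicit false
universe u
open CategoryTheory CategoryTheory.Limits AlgebraicGeometry
open FGA

namespace Groth.Agent.S5690

section Aux
open Groth.Agent.GrpdBasic

set_option linter.style.haveILetI false
set_option backward.isDefEq.respectTransparency false

section Free

variable {S : Scheme.{u}} {G : Grpd.GroupoidScheme S} [IsFinite G.s] [Flat G.s]
  [LocallyOfFinitePresentation G.s] [Mono G.j]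

theorem chart_finLocFree (W : InvAffine G) :
    IsFinite (resA G W).toQuot ∧ Flat (resA G W).toQuot ∧ LocallyOfFinitePresentation (resA G W).toQuot ∧
      ∀ {T : Scheme.{u}} (f g : T ⟶ W.1.toScheme), f ≫ (resA G W).toQuot = g ≫ (resA G W).toQuot →
        ∃ r : T ⟶ G.R, r ≫ G.t = f ≫ W.1.ι ∧ r ≫ G.s = g ≫ W.1.ι := by
  obtain ⟨_, _, _⟩ := finLocFree_t (resA G W)
  haveI := mono_res_j G W.1 W.2.2
  obtain ⟨⟨h1, h2, h3⟩, φ, hφt, hφs⟩ := Groth.Agent.S1877.result S (resA G W)
  refine ⟨h1, h2, h3, fun f g h => ⟨pullback.lift f g h ≫ φ.inv ≫ (G.s ⁻¹ᵁ W.1).ι, ?_, ?_⟩⟩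
  · rw [Category.assoc, Category.assoc, ← resA_t_ι]
    have : φ.inv ≫ (resA G W).t = pullback.fst (resA G W).toQuot (resA G W).toQuot := by
      rw [← hφt, Iso.inv_hom_id_assoc]
    rw [reassoc_of% this, pullback.lift_fst_assoc]
  · rw [Category.assoc, Category.assoc, ← resA_s_ι]
    have : φ.inv ≫ (resA G W).s = pullback.snd (resA G W).toQuot (resA G W).toQuot := by
      rw [← hφs, Iso.inv_hom_id_assoc]
    rw [reassoc_of% this, pullback.lift_snd_assoc]

variable {Y : Scheme.{u}} {q : G.U ⟶ Y}
  (hch : ∀ y : Y, ∃ (W : InvAffine G) (j : qObj G W ⟶ Y) (_ : IsOpenImmersion j),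
    y ∈ j.opensRange ∧ IsPullback W.1.ι (resA G W).toQuot q j)

include hch in
theorem of_charts (P : MorphismProperty Scheme.{u}) [IsZariskiLocalAtTarget P] [P.RespectsIso]
    (h : ∀ W : InvAffine G, P (resA G W).toQuot) : P q := by
  choose W j hj hy hpb using hch
  let 𝒰 : Y.OpenCover :=
    { I₀ := Y
      X := fun y => qObj G (W y)
      f := j
      mem₀ := by
        rw [Scheme.presieve₀_mem_precoverage_iff]
        exact ⟨fun y => ⟨y, hy y⟩, hj⟩ }
  refine IsZariskiLocalAtTarget.of_openCover (P := P) 𝒰 fun y => ?_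
  show P (pullback.snd q (j y))
  rw [← (hpb y).isoPullback_inv_snd, MorphismProperty.cancel_left_of_respectsIso P]
  exact h (W y)

include hch in
theorem isPullback_t_s (hq : IsQ G.s G.t q) : IsPullback G.t G.s q q := by
  have key : ∀ {T : Scheme.{u}} (f g : T ⟶ G.U), f ≫ q = g ≫ q →
      ∃ r : T ⟶ G.R, r ≫ G.t = f ∧ r ≫ G.s = g := by
    intro T f g h
    choose W j hj hy hpb using fun z : T => hch (q.base (f.base z))
    have hrange : ∀ z, q ⁻¹ᵁ (j z).opensRange ≤ (W z).1 := fun z x hx => by
      obtain ⟨a, ha⟩ := hx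
      obtain ⟨b, hb, -⟩ := Scheme.Pullback.exists_preimage_pullback x a ha.symm
      have : (W z).1.ι ((hpb z).isoPullback.inv b) = x := by
        rw [← Scheme.Hom.comp_apply, (hpb z).isoPullback_inv_fst, hb]
      rw [← this]
      exact ((hpb z).isoPullback.inv b).2
    let O : T → T.Opens := fun z => (f ≫ q) ⁻¹ᵁ (j z).opensRange
    let 𝒰 : T.OpenCover := T.openCoverOfIsOpenCover O
      (.mk (eq_top_iff.2 fun z _ => TopologicalSpace.Opens.mem_iSup.2 ⟨z, hy z⟩))
    have hf : ∀ z, Set.range ((O z).ι ≫ f) ⊆ Set.range (W z).1.ι := fun z => by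
      rw [Scheme.Opens.range_ι]
      rintro _ ⟨x, rfl⟩
      exact hrange z x.2
    have hg : ∀ z, Set.range ((O z).ι ≫ g) ⊆ Set.range (W z).1.ι := fun z => by
      rw [Scheme.Opens.range_ι]
      rintro _ ⟨x, rfl⟩
      refine hrange z ?_
      show q.base (g.base x.1) ∈ (j z).opensRange
      rw [← Scheme.Hom.comp_apply, ← h]
      exact x.2
    have hr : ∀ z, ∃ r : (O z).toScheme ⟶ G.R, r ≫ G.t = (O z).ι ≫ f ∧ r ≫ G.s = (O z).ι ≫ g := fun z => by
      haveI := hj z
      have e1 := IsOpenImmersion.lift_fac (W z).1.ι _ (hf z)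
      have e2 := IsOpenImmersion.lift_fac (W z).1.ι _ (hg z)
      obtain ⟨r, h1, h2⟩ := (chart_finLocFree (W z)).2.2.2 (IsOpenImmersion.lift _ _ (hf z))
        (IsOpenImmersion.lift _ _ (hg z)) (by
          rw [← cancel_mono (j z), Category.assoc, Category.assoc, ← (hpb z).w, reassoc_of% e1,
            reassoc_of% e2, h])
      exact ⟨r, h1.trans e1, h2.trans e2⟩
    choose r hrt hrs using hr
    refine ⟨𝒰.glueMorphisms r fun a b => ?_, 𝒰.hom_ext _ _ fun z => ?_, 𝒰.hom_ext _ _ fun z => ?_⟩
    · refine t_s_ext G ?_ ?_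
      · rw [Category.assoc, Category.assoc, hrt, hrt]
        exact pullback.condition_assoc f
      · rw [Category.assoc, Category.assoc, hrs, hrs]
        exact pullback.condition_assoc g
    · rw [𝒰.ι_glueMorphisms_assoc]; exact hrt z
    · rw [𝒰.ι_glueMorphisms_assoc]; exact hrs z
  choose r hrt hrs using @key
  exact ⟨⟨hq.inv.symm⟩, ⟨PullbackCone.IsLimit.mk hq.inv.symm (fun c => r c.fst c.snd c.condition)
    (fun c => hrt c.fst c.snd c.condition) (fun c => hrs c.fst c.snd c.condition)
    (fun c m h1 h2 => t_s_ext G (h1.trans (hrt c.fst c.snd c.condition).symm)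
      (h2.trans (hrs c.fst c.snd c.condition).symm))⟩⟩

end Free

end Aux

/-- Let (U, R, s, t, c) be a groupoid scheme over a scheme S whose source morphism s : R ⟶ U is finite
locally free (finite, flat and locally of finite presentation), and suppose every equivalence class
t(s⁻¹(x)), x a point of U, is contained in some affine open of U. Then there are a scheme Y and a
morphism q : U ⟶ Y with s ≫ q = t ≫ q which is a coequalizer of s and t in the category of schemes,
affine, integral and surjective, whose fibres are the equivalence classes; and if (t, s) : R ⟶ U ×_S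
U is a monomorphism then q is moreover finite, flat and locally of finite presentation and (t, s) :
R ⟶ U ×_Y U is an isomorphism. Only the sufficiency of the affine-class condition is stated (the
published statement is an equivalence: the quotient with these properties exists if and only if
every class lies in an affine open). -/
theorem result {S : Scheme.{u}} (G : Grpd.GroupoidScheme S)
    [IsFinite G.s] [Flat G.s] [LocallyOfFinitePresentation G.s]
    (haff : ∀ x : ↥G.U, ∃ V : G.U.Opens, IsAffineOpen V ∧ G.t.base '' (G.s.base ⁻¹' {x}) ⊆ (V : Set ↥G.U)) :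
    ∃ (Y : Scheme.{u}) (q : G.U ⟶ Y) (w : G.s ≫ q = G.t ≫ q),
      Nonempty (IsColimit (Cofork.ofπ q w)) ∧ IsAffineHom q ∧ IsIntegralHom q ∧ Surjective q ∧
      (∀ x x' : ↥G.U, q.base x = q.base x' ↔ ∃ r : ↥G.R, G.s.base r = x ∧ G.t.base r = x') ∧
      (Mono G.j → IsFinite q ∧ Flat q ∧ LocallyOfFinitePresentation q ∧
        IsIso (pullback.lift G.t G.s w.symm : G.R ⟶ pullback q q)) := by
  obtain ⟨Y, q, hq, hch⟩ := Groth.Agent.GrpdBasic.exists_isQ haff
  refine ⟨Y, q, hq.inv, hq.nonempty_isColimit, ?_, hq.integral, ⟨hq.surj⟩, fun x x' => ⟨fun h => ?_, ?_⟩, fun hm => ?_⟩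
  · have := hq.integral
    infer_instance
  · obtain ⟨r, hr, hr'⟩ := hq.orbit x' x h.symm
    exact ⟨r, hr', hr⟩
  · rintro ⟨r, rfl, rfl⟩
    exact congrArg (fun f => f.base r) hq.inv
  · refine ⟨of_charts hch @IsFinite fun W => (chart_finLocFree W).1,
      of_charts hch @Flat fun W => (chart_finLocFree W).2.1,
      of_charts hch @LocallyOfFinitePresentation fun W => (chart_finLocFree W).2.2.1, ?_⟩
    have hpb := isPullback_t_s hch hq
    have : pullback.lift G.t G.s hq.inv.symm = hpb.isoPullback.hom := by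
      apply pullback.hom_ext
      · rw [hpb.isoPullback_hom_fst]; exact pullback.lift_fst _ _ _
      · rw [hpb.isoPullback_hom_snd]; exact pullback.lift_snd _ _ _
    rw [this]
    infer_instance

end Groth.Agent.S5690
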