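import Groth.Statements.S5692
import Groth.Agent.FittSheaf.Omega
import Groth.Agent.FittSheaf.LocFree
import Groth.Agent.FittRank.Basic
import Groth.Agent.FittSheaf.Generated
-- import your own Groth.Agent.* helpers here

set_option autoImplicit false
universe u
open CategoryTheory CategoryTheory.Limits AlgebraicGeometry TopologicalSpace
open CategoryTheory CategoryTheory.Limits AlgebraicGeometry
open FGA

namespace Groth.Agent.S5692

theorem sheafIdeal_mono {X : Scheme.{u}} (F : X.Modules) [F.IsQuasicoherent] (hF : CohB1.IsFT F) {r s : ℕ} (h : r ≤ s) :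
    Fitt.sheafIdeal F r ≤ Fitt.sheafIdeal F s := fun U => by
  rw [Groth.Agent.FittSheaf.sheafIdeal_ideal F hF, Groth.Agent.FittSheaf.sheafIdeal_ideal F hF]
  haveI := Groth.Agent.FittSheaf.finite_sections F hF U
  exact Groth.Agent.FittRank.ideal_mono h

/-- Let S be a locally Noetherian scheme, M a coherent module on S and r a natural number. Then there is
an immersion e : Z ⟶ S with the following universal property: for every scheme T and every morphism
g : T ⟶ S, the pullback of M along g is locally free of rank r if and only if g factors through e.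
If moreover M is generated by r sections on a neighbourhood of every point of S (equivalently all
fibres of M have rank at most r), then e is a closed immersion. -/
theorem result (S : Scheme.{u}) [IsLocallyNoetherian S]
    (M : S.Modules) (hM : Coh.IsCoh M) (r : ℕ) :
    ∃ (Z : Scheme.{u}) (e : Z ⟶ S), IsImmersion e ∧
      (∀ (T : Scheme.{u}) (g : T ⟶ S),
        FlatMod.IsFinLocFreeOfRank r ((Scheme.Modules.pullback g).obj M) ↔ ∃ g' : T ⟶ Z, g' ≫ e = g) ∧
      ((∀ s : ↥S, ∃ U : S.Opens, s ∈ U ∧ ∃ p : FlatMod.freeMod (↑U) r ⟶ M.restrict U.ι, Epi p) →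
        IsClosedImmersion e) := by
  haveI : M.IsQuasicoherent := hM.1
  have hF : CohB1.IsFT M := hM.2
  let U : S.Opens := (Fitt.sheafIdeal M r).support.compl
  let J : (U : Scheme.{u}).IdealSheafData := ⨆ k : Fin r, (Fitt.sheafIdeal M k.1).comap U.ι
  refine ⟨J.subscheme, J.subschemeι ≫ U.ι, inferInstance, fun T f => Iff.symm ?_, fun hgen => ?_⟩
  rotate_left
  · have hU : U = ⊤ := top_le_iff.mp fun s _ hs =>
      (Groth.Agent.FittSheaf.generated_by_le_iff M hF s r).mp (hgen s) hs
    haveI : IsClosedImmersion U.ι := by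
      rw [hU]
      exact inferInstanceAs (IsClosedImmersion S.topIso.hom)
    infer_instance
  haveI hqc : ((Scheme.Modules.pullback f).obj M).IsQuasicoherent := Groth.Agent.QCohLib.isQuasicoherent_pullback _ _
  have hft' : CohB1.IsFT ((Scheme.Modules.pullback f).obj M) := Groth.Agent.QCohLib.isFiniteType_pullback _ _ hF
  rw [Groth.Agent.FittSheaf.isFinLocFreeOfRank_iff _ hft' r]
  simp only [← Groth.Agent.FittSheaf.fitt_comap f M hF]
  constructor
  · rintro ⟨g, hg⟩
    have hfac : f = (g ≫ J.subschemeι) ≫ U.ι := by rw [Category.assoc, hg]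
    refine ⟨fun k hk => ?_, fun k hk => ?_⟩
    · rw [hfac, Scheme.IdealSheafData.comap_comp, eq_bot_iff]
      refine le_trans (Scheme.IdealSheafData.comap_mono _ (le_iSup (fun k : Fin r => (Fitt.sheafIdeal M k.1).comap U.ι) ⟨k, hk⟩)) ?_
      show J.comap (g ≫ J.subschemeι) ≤ ⊥
      rw [Scheme.IdealSheafData.comap_comp]
      refine le_trans (Scheme.IdealSheafData.comap_mono _ (?_ : J.comap J.subschemeι ≤ ⊥)) (le_of_eq (Scheme.IdealSheafData.comap_bot ..))
      rw [← Scheme.IdealSheafData.le_map_iff_comap_le, Scheme.IdealSheafData.map_bot, Scheme.IdealSheafData.ker_subschemeι]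
    · rw [← Scheme.IdealSheafData.support_eq_bot_iff]
      ext x
      simp only [Scheme.IdealSheafData.support_comap, TopologicalSpace.Closeds.coe_bot, Set.mem_empty_iff_false, iff_false]
      intro hx
      have hxU : f x ∈ U := by
        rw [hfac, Scheme.Hom.comp_apply]
        exact ((g ≫ J.subschemeι) x).2
      exact hxU (Scheme.IdealSheafData.support_antitone (sheafIdeal_mono M hF hk) hx)
  · rintro ⟨hlt, hge⟩
    have hrange : Set.range f ⊆ Set.range U.ι := by
      rintro _ ⟨x, rfl⟩
      rw [Scheme.Opens.range_ι]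
      intro hx
      have h1 := hge r le_rfl
      rw [← Scheme.IdealSheafData.support_eq_bot_iff] at h1
      have h2 : x ∈ ((Fitt.sheafIdeal M r).comap f).support := by
        rw [Scheme.IdealSheafData.support_comap]
        exact hx
      rw [h1] at h2
      exact h2
    let f₀ := IsOpenImmersion.lift U.ι f hrange
    have hf₀ : f₀ ≫ U.ι = f := IsOpenImmersion.lift_fac _ _ _
    have hJ : J.subschemeι.ker ≤ f₀.ker := by
      rw [Scheme.IdealSheafData.ker_subschemeι]
      refine iSup_le fun k => ?_
      rw [← Scheme.IdealSheafData.map_bot, Scheme.IdealSheafData.le_map_iff_comap_le,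
        ← Scheme.IdealSheafData.comap_comp, hf₀, hlt k.1 k.2]
    exact ⟨IsClosedImmersion.lift J.subschemeι f₀ hJ, by rw [IsClosedImmersion.lift_fac_assoc, hf₀]⟩

end Groth.Agent.S5692
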