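import Groth.Statements.S5710
import Groth.Agent.CSA.AzumayaLocal

set_option autoImplicit false
universe u v
open TensorProduct
open Dix

namespace Groth.Agent.S5710

/-- Over a local base where the open neighbourhood is the whole scheme. Let R be a local ring with
residue field k and A an Azumaya algebra over R whose rank as a (free) R-module is r². Then A has a
maximal étale subalgebra: there are a commutative R-algebra E, finite étale and free of rank r over
R, and an R-algebra homomorphism u : E → A which is injective on the special fibre, k ⊗_R E → k ⊗_R
A. -/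
theorem result (R : Type u) [CommRing R] [IsLocalRing R] (A : Type u) [Ring A] [Algebra R A] [IsAzumaya R A] (r : ℕ) (hA : Module.finrank R A = r ^ 2) : ∃ (E : Type u) (_ : CommRing E) (_ : Algebra R E), Algebra.Etale R E ∧ Module.Finite R E ∧ Module.Free R E ∧ Module.finrank R E = r ∧ ∃ u : E →ₐ[R] A, Function.Injective (u.toLinearMap.lTensor (IsLocalRing.ResidueField R)) := by
  obtain ⟨ξ, F, hF, hdeg, hev, hsep, hind⟩ := Groth.Agent.CSA.Azu.exists_regular_section R A hA
  obtain ⟨u, hu⟩ := Groth.Agent.CSA.Azu.exists_rootHom F ξ hev
  let pb := AdjoinRoot.powerBasis' hF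
  refine ⟨AdjoinRoot F, inferInstance, inferInstance, Groth.Agent.HenselLib.etale_adjoinRoot hF hsep,
    hF.finite_adjoinRoot, Module.Free.of_basis pb.basis, ?_, u, ?_⟩
  · haveI : Nontrivial R := inferInstance
    rw [pb.finrank, AdjoinRoot.powerBasis'_dim, hdeg]
  · set k := IsLocalRing.ResidueField R
    let bk := pb.basis.baseChange k
    have key : LinearIndependent k ((u.toLinearMap.baseChange k) ∘ bk) := by
      have he : (u.toLinearMap.baseChange k) ∘ bk =
          (fun i : Fin r => ((1 : k) ⊗ₜ[R] ξ) ^ (i : ℕ)) ∘ Fin.cast (hdeg ▸ AdjoinRoot.powerBasis'_dim hF) := by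
        funext i
        simp only [bk, Function.comp_apply, Module.Basis.baseChange_apply, LinearMap.baseChange_tmul,
          PowerBasis.basis_eq_pow, AlgHom.toLinearMap_apply, map_pow, Fin.val_cast,
          Algebra.TensorProduct.tmul_pow, one_pow]
        rw [AdjoinRoot.powerBasis'_gen, AdjoinRoot.root, hu, Polynomial.aeval_X]
      rw [he]
      exact hind.comp _ (Fin.cast_injective _)
    have hinj : Function.Injective (u.toLinearMap.baseChange k) := by
      rw [← LinearMap.ker_eq_bot]
      exact LinearMap.ker_eq_bot_of_injective fun a b hab => by
        apply bk.repr.injective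
        rw [LinearIndependent] at key
        apply key
        rw [← LinearMap.map_finsupp_linearCombination, ← LinearMap.map_finsupp_linearCombination,
          bk.linearCombination_repr, bk.linearCombination_repr]
        exact hab
    exact hinj

end Groth.Agent.S5710
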