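import Groth.Statements.S5713
import Groth.Agent.CSA.AzumayaLocal

set_option autoImplicit false
universe u v
open TensorProduct
open Dix

namespace Groth.Agent.S5713

/-- Over a local base. Let R be a local ring with residue field k, A an Azumaya algebra over R of rank
r², and ξ ∈ A an element whose image ξ̄ = 1 ⊗ ξ in k ⊗_R A is regular, i.e. generates a commutative
subalgebra k[ξ̄] which is étale over k (all elements separable) of dimension r. Then the powers 1,
ξ, …, ξ^{r-1} are linearly independent over R and ξ^r lies in their R-linear span; thus R[ξ] is a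
free R-module of rank r closed under multiplication, and ξ is a regular section over all of Spec R. -/
theorem result (R : Type u) [CommRing R] [IsLocalRing R] (A : Type u) [Ring A] [Algebra R A] [IsAzumaya R A] (r : ℕ) (hA : Module.finrank R A = r ^ 2) (ξ : A) (hsep : Algebra.IsSeparable (IsLocalRing.ResidueField R) (Algebra.adjoin (IsLocalRing.ResidueField R) ({(1 : IsLocalRing.ResidueField R) ⊗ₜ[R] ξ} : Set (IsLocalRing.ResidueField R ⊗[R] A)))) (hrk : Module.finrank (IsLocalRing.ResidueField R) (Algebra.adjoin (IsLocalRing.ResidueField R) ({(1 : IsLocalRing.ResidueField R) ⊗ₜ[R] ξ} : Set (IsLocalRing.ResidueField R ⊗[R] A))) = r) : LinearIndependent R (fun i : Fin r => ξ ^ (i : ℕ)) ∧ ξ ^ r ∈ Submodule.span R (Set.range (fun i : Fin r => ξ ^ (i : ℕ))) := by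
  set k := IsLocalRing.ResidueField R
  set x := (1 : k) ⊗ₜ[R] ξ
  have hx : x ∈ Algebra.adjoin k ({x} : Set (k ⊗[R] A)) := Algebra.self_mem_adjoin_singleton k x
  have hmin : minpoly k x = minpoly k (⟨x, hx⟩ : Algebra.adjoin k ({x} : Set (k ⊗[R] A))) :=
    minpoly.algHom_eq (Algebra.adjoin k ({x} : Set (k ⊗[R] A))).val Subtype.val_injective ⟨x, hx⟩
  have hi : IsIntegral k x := Algebra.IsIntegral.isIntegral x
  refine Groth.Agent.CSA.Azu.regular_lift R A hA ξ (hmin ▸ hsep.isSeparable' _) ?_
  obtain ⟨u, hu⟩ := Groth.Agent.CSA.Azu.exists_rootHom (minpoly k x) x (minpoly.aeval k x)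
  have hinj : Function.Injective u := (injective_iff_map_eq_zero u).2 fun e he => by
    obtain ⟨p, rfl⟩ := AdjoinRoot.mk_surjective e
    rw [hu] at he
    exact AdjoinRoot.mk_eq_zero.2 (minpoly.dvd k x he)
  have hrange : u.range = Algebra.adjoin k ({x} : Set (k ⊗[R] A)) := by
    rw [Algebra.adjoin_singleton_eq_range_aeval]
    ext a
    simp only [AlgHom.mem_range]
    constructor
    · rintro ⟨e, rfl⟩
      obtain ⟨p, rfl⟩ := AdjoinRoot.mk_surjective e
      exact ⟨p, (hu p).symm⟩
    · rintro ⟨p, rfl⟩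
      exact ⟨_, hu p⟩
  rw [← hrk, ← hrange, ← (AlgEquiv.ofInjective u hinj).toLinearEquiv.finrank_eq,
    (AdjoinRoot.powerBasis' (minpoly.monic hi)).finrank, AdjoinRoot.powerBasis'_dim]

end Groth.Agent.S5713
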