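import Groth.Statements.S5720
import Groth.Agent.CSA.AzumayaSpread

set_option autoImplicit false
universe u v
open TensorProduct
open Dix

namespace Groth.Agent.S5720

/-- (ii) ⇒ (iii), over an affine base X = Spec R. Let A be an Azumaya algebra over the commutative ring
R and p a prime ideal of R. Then there exist f ∈ R with f ∉ p, a finite étale and faithfully flat
R_f-algebra R' (a finite étale surjective cover of the neighbourhood D(f) of p) and an integer r ≥ 1
such that R' ⊗_R A is isomorphic as an R'-algebra to the matrix algebra M_r(R'). (Existence of the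
isomorphism only.) -/
theorem result (R : Type u) [CommRing R] (A : Type u) [Ring A] [Algebra R A] [IsAzumaya R A] (p : Ideal R) [p.IsPrime] : ∃ f : R, f ∉ p ∧ ∃ (R' : Type u) (_ : CommRing R') (_ : Algebra R R') (_ : Algebra (Localization.Away f) R') (_ : IsScalarTower R (Localization.Away f) R'), Module.Finite (Localization.Away f) R' ∧ Algebra.Etale (Localization.Away f) R' ∧ Module.FaithfullyFlat (Localization.Away f) R' ∧ ∃ r : ℕ, 1 ≤ r ∧ Nonempty ((R' ⊗[R] A) ≃ₐ[R'] Matrix (Fin r) (Fin r) R') := by
  obtain ⟨f, hf, F, r, hr, hF, hdeg, ⟨a, b, hab⟩, ⟨e⟩⟩ := Groth.Agent.CSA.Azu.exists_split_near R A p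
  have hnt : Nontrivial (Localization.Away f) := by
    refine nontrivial_of_ne (0 : Localization.Away f) 1 fun h => hf ?_
    have h0 : algebraMap R (Localization.Away f) 1 = 0 := by rw [map_one, h]
    obtain ⟨⟨_, n, rfl⟩, hn⟩ :=
      (IsLocalization.map_eq_zero_iff (Submonoid.powers f) (Localization.Away f) 1).1 h0
    simp only [mul_one] at hn
    exact Ideal.IsPrime.mem_of_pow_mem ‹_› n (hn ▸ p.zero_mem)
  let P : StandardEtalePair (Localization.Away f) :=
    { f := F, monic_f := hF, g := 1, cond := ⟨b, a, 1, by rw [pow_one, ← hab]; ring⟩ }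
  haveI hloc : IsLocalization.Away (1 : AdjoinRoot F) (Localization.Away (AdjoinRoot.mk P.f P.g)) := by
    have h1 : AdjoinRoot.mk P.f P.g = (1 : AdjoinRoot F) := map_one (AdjoinRoot.mk F)
    rw [← h1]
    infer_instance
  have het : Algebra.Etale (Localization.Away f) (AdjoinRoot F) :=
    Algebra.Etale.of_equiv (P.equivAwayAdjoinRoot.trans
      ((IsLocalization.atOne (AdjoinRoot F) (Localization.Away (AdjoinRoot.mk P.f P.g))).restrictScalars
        (Localization.Away f)).symm)
  let pb := AdjoinRoot.powerBasis' hF
  haveI : Module.Free (Localization.Away f) (AdjoinRoot F) := Module.Free.of_basis pb.basis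
  haveI : Nontrivial (AdjoinRoot F) := Module.nontrivial_of_finrank_pos (R := Localization.Away f)
    (by rw [pb.finrank, AdjoinRoot.powerBasis'_dim, hdeg]; exact hr)
  refine ⟨f, hf, AdjoinRoot F, inferInstance, inferInstance, inferInstance, inferInstance,
    hF.finite_adjoinRoot, het, inferInstance, r, hr, ⟨?_⟩⟩
  refine (AlgEquiv.ofLinearEquiv
    (TensorProduct.AlgebraTensorModule.cancelBaseChange R (Localization.Away f) (AdjoinRoot F)
      (AdjoinRoot F) A).symm (by simp [Algebra.TensorProduct.one_def])
    (LinearMap.map_mul_of_map_mul_tmul (fun _ _ _ _ ↦ by simp))).trans e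

end Groth.Agent.S5720
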