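import Groth.Statements.S5737
import Groth.Agent.ThickAffine.Main
import Groth.Agent.IdealComap.Basic
-- import your own Groth.Agent.* helpers here

set_option autoImplicit false
universe u
open FCompl

namespace Groth.Agent.S5737

open AlgebraicGeometry CategoryTheory CategoryTheory.Limits in
/-- Closed immersions can be detected modulo a nilpotent closed subscheme of the target. -/
theorem isClosedImmersion_of_thickening {X₀ X Y₀ Y : Scheme.{u}} [IsLocallyNoetherian Y] (iX : X₀ ⟶ X) (a : X₀ ⟶ Y₀)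
    (F : X ⟶ Y) (iY : Y₀ ⟶ Y) [IsClosedImmersion iY] [IsClosedImmersion iX] [IsClosedImmersion a]
    (hX : Function.Surjective iX) (hY : Function.Surjective iY) (hP : IsPullback iX a F iY) : IsClosedImmersion F := by
  have hker : iX.ker = iY.ker.comap F := by
    rw [← Scheme.IdealSheafData.ker_fst_of_isClosedImmersion, ← hP.isoPullback_hom_fst,
      Scheme.Hom.ker_comp_of_isIso]
  haveI : IsAffineHom F := ⟨fun V hV => by
    haveI : IsAffine ((iX ⁻¹ᵁ (F ⁻¹ᵁ V)) : Scheme.{u}) := by
      rw [← Scheme.Hom.comp_preimage, hP.w, Scheme.Hom.comp_preimage]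
      exact (hV.preimage iY).preimage a
    exact ThickAffine.isAffine_of_surjective (iX ∣_ (F ⁻¹ᵁ V))
      (IsZariskiLocalAtTarget.restrict (P := @Surjective) ⟨hX⟩ (F ⁻¹ᵁ V)).surj⟩
  refine isClosedImmersion_iff_isAffineHom.2 ⟨inferInstance, fun V hV => ?_⟩
  haveI : IsNoetherianRing Γ(Y, V) := IsLocallyNoetherian.component_noetherian ⟨V, hV⟩
  let U : X.Opens := F ⁻¹ᵁ V
  let I : Ideal Γ(Y, V) := iY.ker.ideal ⟨V, hV⟩
  let φ := (F.app V).hom
  obtain ⟨n, hn⟩ : IsNilpotent I := by
    refine (Ideal.FG.isNilpotent_iff_le_nilradical (IsNoetherian.noetherian _)).2 fun r hr => ?_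
    exact ThickAffine.isNilpotent_of_mem_K iY hY hV ((iY.ideal_ker_le ⟨V, hV⟩) hr)
  have h0 : ∀ b : Γ(X, U), ∃ r, b - φ r ∈ I.map φ := by
    intro b
    have hs : Function.Surjective (((iX ≫ F).app V).hom) := by
      rw [Scheme.Hom.congr_app hP.w V, Scheme.Hom.comp_app, CommRingCat.hom_comp, RingHom.coe_comp]
      exact (ConcreteCategory.bijective_of_isIso _).2.comp
        ((a.app_surjective _ (hV.preimage iY)).comp (iY.app_surjective V hV))
    obtain ⟨r, hr⟩ := hs ((iX.app U).hom b)
    refine ⟨r, ?_⟩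
    have hmem : b - φ r ∈ iX.ker.ideal ⟨U, hV.preimage F⟩ := by
      rw [Scheme.Hom.ker_apply, RingHom.mem_ker, map_sub, sub_eq_zero, ← hr, Scheme.Hom.comp_app]
      rfl
    rw [hker, IdealComap.ideal_comap iY.ker F ⟨U, hV.preimage F⟩ ⟨V, hV⟩ le_rfl, ← Scheme.Hom.app_eq_appLE] at hmem
    exact hmem
  have hk : ∀ k : ℕ, ∀ b : Γ(X, U), ∃ r, b - φ r ∈ (I ^ k).map φ := by
    intro k
    induction k with
    | zero => exact fun b => ⟨0, by rw [pow_zero, Ideal.one_eq_top, Ideal.map_top]; exact Submodule.mem_top⟩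
    | succ k ih =>
      intro b
      obtain ⟨r, hr⟩ := h0 b
      suffices ∀ z ∈ I.map φ, ∃ t, z - φ t ∈ (I ^ (k + 1)).map φ by
        obtain ⟨t, ht⟩ := this _ hr
        exact ⟨r + t, by rwa [map_add, ← sub_sub]⟩
      intro z hz
      rw [Ideal.map] at hz
      induction hz using Submodule.span_induction with
      | mem z hz =>
        obtain ⟨t, -, rfl⟩ := hz
        exact ⟨t, by rw [sub_self]; exact zero_mem _⟩
      | zero => exact ⟨0, by rw [map_zero, sub_self]; exact zero_mem _⟩
      | add z w _ _ hz hw =>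
        obtain ⟨t, ht⟩ := hz
        obtain ⟨t', ht'⟩ := hw
        exact ⟨t + t', by rw [map_add, add_sub_add_comm]; exact add_mem ht ht'⟩
      | smul c z hz' hz =>
        obtain ⟨t, ht⟩ := hz
        obtain ⟨c', hc⟩ := ih c
        refine ⟨c' * t, ?_⟩
        rw [smul_eq_mul, map_mul, show c * z - φ c' * φ t = (c - φ c') * z + φ c' * (z - φ t) by ring]
        refine add_mem ?_ (Ideal.mul_mem_left _ _ ht)
        rw [pow_succ, Ideal.map_mul]
        exact Ideal.mul_mem_mul hc hz'
  intro b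
  obtain ⟨r, hr⟩ := hk n b
  rw [hn, Ideal.zero_eq_bot, Ideal.map_bot, Ideal.mem_bot, sub_eq_zero] at hr
  exact ⟨r, hr.symm⟩


open AlgebraicGeometry CategoryTheory in
/-- For formal schemes presented as adic systems of thickenings: a closed immersion of locally
Noetherian formal schemes is then an adic morphism all of whose levels are closed immersions, and
the content is that this is detected at the smallest level. Let (X_n) and (Y_n) be locally
Noetherian adic formal systems and f : (X_n) → (Y_n) a morphism of systems all of whose squares X_n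
→ X_(n+1), Y_n → Y_(n+1) are cartesian. If X_0 → Y_0 is a closed immersion, then X_n → Y_n is a
closed immersion for every n. -/
theorem result {𝔛 𝔜 : FSch.Sys.{u}} (f : 𝔛 ⟶ 𝔜)
    (h𝔛 : 𝔛.IsLocNoethFormal) (h𝔜 : 𝔜.IsLocNoethFormal) (hf : FSch.IsAdicHom f)
    [IsClosedImmersion ((f : FSch.Hom 𝔛 𝔜).app 0)] (n : ℕ) :
    IsClosedImmersion ((f : FSch.Hom 𝔛 𝔜).app n) := by
  induction n with
  | zero => infer_instance
  | succ n ih =>
    haveI := ih
    haveI := h𝔜.2.2 (n + 1)
    haveI := (h𝔜.1 n).1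
    haveI := (h𝔛.1 n).1
    exact isClosedImmersion_of_thickening _ _ _ _ (h𝔛.1 n).2 (h𝔜.1 n).2 (hf n)

end Groth.Agent.S5737
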