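import Groth.Statements.S5739
import Groth.Agent.ClosedImmNhd.CompletionIso
import Groth.Agent.BlowUpLib.Basic
-- import your own Groth.Agent.* helpers here

set_option autoImplicit false
universe u
open FCompl

namespace Groth.Agent.S5739

open CategoryTheory CategoryTheory.Limits AlgebraicGeometry in
theorem isIso_level {X Y : Scheme.{u}} (f : X ⟶ Y) (O : Y.Opens) [IsIso (f ∣_ O)]
    (I : X.IdealSheafData) (K : Y.IdealSheafData) (hI : I = K.comap f) (H : K ≤ I.map f)
    (hK : (K.support : Set Y) ⊆ O) : IsIso (Scheme.IdealSheafData.subschemeMap I K f H) := by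
  subst hI
  rw [← Scheme.IdealSheafData.comapIso_hom_snd]
  have hr : Set.range K.subschemeι ⊆ Set.range O.ι := by
    rw [Scheme.IdealSheafData.range_subschemeι, Scheme.Opens.range_ι]; exact hK
  set l := IsOpenImmersion.lift O.ι K.subschemeι hr
  have hl : l ≫ O.ι = K.subschemeι := IsOpenImmersion.lift_fac _ _ _
  have h1 : IsIso (pullback.snd f (l ≫ O.ι)) := by
    have hsq : IsPullback (f ⁻¹ᵁ O).ι (f ∣_ O) f O.ι := (isPullback_morphismRestrict f O).flip
    have e : pullback.snd f O.ι = hsq.isoPullback.inv ≫ (f ∣_ O) := (hsq.isoPullback_inv_snd).symm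
    haveI : IsIso (pullback.snd f O.ι) := by rw [e]; infer_instance
    rw [← pullbackLeftPullbackSndIso_inv_snd_snd f O.ι l]
    infer_instance
  rw [hl] at h1
  infer_instance

open AlgebraicGeometry CategoryTheory in
/-- Isomorphism case (completions presented by the closed subschemes of the powers of an ideal sheaf on
the base and of its inverse image ideals; the compatibility hypothesis hc always holds and is
carried as data for the completed morphism). Let Z be a locally Noetherian scheme, g : X → Z and h :
Y → Z proper morphisms, f : X → Y a morphism with f ≫ h = g, and 𝓙 an ideal sheaf on Z. Then every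
level of the completed morphism X̂ → Ŷ between the completions along the inverse image ideals of 𝓙
is an isomorphism if and only if there is an open subset U of Z containing the support of 𝓙 such
that the restriction g⁻¹(U) → h⁻¹(U) of f is an isomorphism. -/
theorem result {X Y Z : Scheme.{u}} [IsLocallyNoetherian Z]
    (g : X ⟶ Z) (h : Y ⟶ Z) [IsProper g] [IsProper h] (f : X ⟶ Y) (w : f ≫ h = g)
    (𝓙 : Z.IdealSheafData) (hc : FSch.PowCompat f (𝓙.comap g) (𝓙.comap h)) :
    (∀ n : ℕ, IsIso ((FSch.completionMap f (𝓙.comap g) (𝓙.comap h) hc : FSch.Hom _ _).app n)) ↔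
      ∃ U : Z.Opens, (𝓙.support : Set Z) ⊆ U ∧ IsIso (f ∣_ h ⁻¹ᵁ U) := by
  haveI : IsProper (f ≫ h) := by rw [w]; infer_instance
  haveI : IsProper f := IsProper.of_comp f h
  constructor
  · intro H
    have key : IsClosedImmersion (Limits.pullback.snd f ((𝓙.comap h) ^ (0 + 1)).subschemeι) := by
      haveI := H 0
      refine ClosedImmNhd.snd_of_subschemeMap f ((𝓙.comap g) ^ (0 + 1)) ((𝓙.comap h) ^ (0 + 1)) ?_
        (Scheme.IdealSheafData.le_map_iff_comap_le.mpr (hc 0))
        (show IsClosedImmersion ((FSch.completionMap f (𝓙.comap g) (𝓙.comap h) hc : FSch.Hom _ _).app 0) from inferInstance)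
      rw [zero_add, pow_one, pow_one, ← w, Scheme.IdealSheafData.comap_comp]
    rw [zero_add, pow_one] at key
    obtain ⟨U₀, hU₀, hcl⟩ := ClosedImmNhd.exists_nhd_of_subscheme g h f w 𝓙 key
    exact ClosedImmNhd.exists_iso_nhd g h f w 𝓙 (fun n => ⟨_, H n, Scheme.IdealSheafData.subschemeMap_subschemeι _ _ f (Scheme.IdealSheafData.le_map_iff_comap_le.mpr (hc n))⟩) U₀ hU₀ hcl
  · rintro ⟨U, hU, hiso⟩ n
    haveI := hiso
    have hI : (𝓙.comap g) ^ (n + 1) = ((𝓙.comap h) ^ (n + 1)).comap f := by
      have hp : ∀ (K : Y.IdealSheafData) (m : ℕ), (K ^ (m + 1)).comap f = (K.comap f) ^ (m + 1) := by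
        intro K m
        induction m with
        | zero => rw [zero_add, pow_one, pow_one]
        | succ m ih => rw [pow_succ K, pow_succ (K.comap f), BlowUpLib.comap_mul, ih]
      rw [hp, ← w, Scheme.IdealSheafData.comap_comp]
    exact isIso_level f (h ⁻¹ᵁ U) _ _ hI (Scheme.IdealSheafData.le_map_iff_comap_le.mpr (hc n)) (by
      rw [Scheme.IdealSheafData.support_pow_succ, Scheme.IdealSheafData.support_comap]
      exact fun y hy => hU hy)

end Groth.Agent.S5739
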