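import Groth.Statements.S5740
import Groth.Agent.ClosedImmNhd.Completion
-- import your own Groth.Agent.* helpers here

set_option autoImplicit false
universe u
open FCompl

namespace Groth.Agent.S5740

open AlgebraicGeometry CategoryTheory in
/-- Closed-immersion case (completions presented by the closed subschemes of the powers of an ideal
sheaf on the base and of its inverse image ideals, so that a closed immersion of completions is read
as a completed morphism all of whose levels are closed immersions; the compatibility hypothesis hc
always holds and is carried as data). Let Z be a locally Noetherian scheme, g : X → Z and h : Y → Z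
proper morphisms, f : X → Y a morphism with f ≫ h = g, and 𝓙 an ideal sheaf on Z. Then every level
of the completed morphism X̂ → Ŷ is a closed immersion if and only if there is an open subset U of Z
containing the support of 𝓙 such that the restriction g⁻¹(U) → h⁻¹(U) of f is a closed immersion. -/
theorem result {X Y Z : Scheme.{u}} [IsLocallyNoetherian Z]
    (g : X ⟶ Z) (h : Y ⟶ Z) [IsProper g] [IsProper h] (f : X ⟶ Y) (w : f ≫ h = g)
    (𝓙 : Z.IdealSheafData) (hc : FSch.PowCompat f (𝓙.comap g) (𝓙.comap h)) :
    (∀ n : ℕ, IsClosedImmersion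
        ((FSch.completionMap f (𝓙.comap g) (𝓙.comap h) hc : FSch.Hom _ _).app n)) ↔
      ∃ U : Z.Opens, (𝓙.support : Set Z) ⊆ U ∧ IsClosedImmersion (f ∣_ h ⁻¹ᵁ U) := by
  haveI : IsProper (f ≫ h) := by rw [w]; infer_instance
  haveI : IsProper f := IsProper.of_comp f h
  constructor
  · intro H
    refine ClosedImmNhd.exists_nhd_of_subscheme g h f w 𝓙 ?_
    have key : IsClosedImmersion (Limits.pullback.snd f ((𝓙.comap h) ^ (0 + 1)).subschemeι) := by
      refine ClosedImmNhd.snd_of_subschemeMap f ((𝓙.comap g) ^ (0 + 1)) ((𝓙.comap h) ^ (0 + 1)) ?_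
        (Scheme.IdealSheafData.le_map_iff_comap_le.mpr (hc 0)) (H 0)
      rw [zero_add, pow_one, pow_one, ← w, Scheme.IdealSheafData.comap_comp]
    rw [zero_add, pow_one] at key
    exact key
  · rintro ⟨U, hU, hcl⟩ n
    haveI := hcl
    refine ClosedImmNhd.subschemeMap_of_nhd f (h ⁻¹ᵁ U) _ _ (Scheme.IdealSheafData.le_map_iff_comap_le.mpr (hc n)) ?_
    rw [Scheme.IdealSheafData.support_pow_succ, Scheme.IdealSheafData.support_comap, ← Scheme.Hom.comp_preimage, w]
    exact fun x hx => hU hx

end Groth.Agent.S5740
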