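import Groth.Statements.S5744
-- import your own Groth.Agent.* helpers here
import Groth.Agent.CohVanish.Sections
import Groth.Agent.QCohLib.Criterion

set_option autoImplicit false
universe u
open Coherent

open CategoryTheory CategoryTheory.Limits

namespace Groth.Agent.S5744

open AlgebraicGeometry CategoryTheory in
/-- For the Čech complex of sheaves indexed by all ordered tuples with products as terms; over a finite
index type these terms are finite direct sums. Let X be a separated scheme, (U_i)_{i ∈ ι} a finite
family of affine opens covering X, and F a quasi-coherent O_X-module. Then for every p the degree-p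
term of the Čech complex of sheaves 𝔠(𝒰, F), the product over ordered (p+1)-tuples of the direct
images (j_{i_0…i_p})_*(F|_{U_{i_0…i_p}}), is a quasi-coherent O_X-module. -/
theorem result {X : Scheme.{u}} [X.IsSeparated] {ι : Type u}
    [Finite ι] (𝒰 : ι → X.Opens) (h𝒰 : ∀ i, IsAffineOpen (𝒰 i)) (hcov : ⨆ i, 𝒰 i = ⊤)
    (F : X.Modules) [Coh.IsQCoh F] (p : ℕ) :
    Coh.IsQCoh (((CechOX.cechSh 𝒰).obj F).X p) := by
  classical
  haveI := Abelian.hasFiniteBiproducts (C := X.Modules)
  haveI : F.IsQuasicoherent := ‹Coh.IsQCoh F›
  haveI : IsAffineHom (Limits.pullback.diagonal (Limits.terminal.from X)) := inferInstance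
  haveI := Fintype.ofFinite (Fin (p + 1) → ι)
  let W : (Fin (p + 1) → ι) → X.Opens := fun i => ∏ᶜ (𝒰 ∘ i)
  have hW : ∀ i, IsAffineOpen (W i) := fun i => by
    have e : W i = ⨅ a, 𝒰 (i a) := le_antisymm (le_iInf fun a => leOfHom (Limits.Pi.π (𝒰 ∘ i) a))
      (leOfHom (Limits.Pi.lift fun a => homOfLE (iInf_le (fun a => 𝒰 (i a)) a)))
    rw [e]
    exact IsAffineOpen.iInf fun a => h𝒰 _
  let T : (Fin (p + 1) → ι) → X.Modules := fun i => (CechOX.pushRestr (W i)).obj F
  have hT : ∀ i, (T i).IsQuasicoherent := fun i => by
    haveI : IsAffine (W i : Scheme.{u}) := hW i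
    haveI : IsAffineHom ((W i).ι ≫ Limits.terminal.from X) := isAffineHom_of_isAffine _
    haveI : IsAffineHom (W i).ι := IsAffineHom.of_comp (W i).ι (Limits.terminal.from X)
    haveI : (F.restrict (W i).ι).IsQuasicoherent := inferInstance
    exact Groth.Agent.QCohLib.isQuasicoherent_pushforward (M := F.restrict (W i).ι) (W i).ι
  suffices h : (∏ᶜ T).IsQuasicoherent by exact h
  have key : ∀ (c : ℕ) (B : Fin c → X.Modules), (∀ j, (B j).IsQuasicoherent) → (⨁ B).IsQuasicoherent := by
    intro c
    induction c with
    | zero =>
      intro B _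
      exact Groth.Agent.CohVanish.isQuasicoherent_of_isZero (by
        rw [Limits.IsZero.iff_id_eq_zero]
        exact Limits.biproduct.hom_ext _ _ fun j => j.elim0)
    | succ c ih =>
      intro B hq
      have := ih (fun j => B j.succ) (fun j => hq _)
      have := hq 0
      let e : (⨁ B) ≅ B 0 ⊞ ⨁ fun j : Fin c => B j.succ :=
        { hom := Limits.biprod.lift (Limits.biproduct.π B 0) (Limits.biproduct.lift fun j => Limits.biproduct.π B j.succ)
          inv := Limits.biprod.desc (Limits.biproduct.ι B 0) (Limits.biproduct.desc fun j => Limits.biproduct.ι B j.succ)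
          hom_inv_id := by
            rw [Limits.biprod.lift_desc, Limits.biproduct.lift_desc, ← Limits.biproduct.total, Fin.sum_univ_succ]
          inv_hom_id := by
            refine Limits.biprod.hom_ext' _ _ (Limits.biprod.hom_ext _ _ ?_ (Limits.biproduct.hom_ext _ _ fun j => ?_))
              (Limits.biproduct.hom_ext' _ _ fun j => Limits.biprod.hom_ext _ _ ?_ (Limits.biproduct.hom_ext _ _ fun k => ?_))
            · simp
            · simp [Limits.biproduct.ι_π, (Fin.succ_ne_zero j).symm]
            · simp [Limits.biproduct.ι_π, Fin.succ_ne_zero j]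
            · by_cases h : j = k
              · subst h; simp
              · simp [Limits.biproduct.ι_π, h] }
      have := Groth.Agent.CohVanish.isQuasicoherent_biprod (B 0) (⨁ fun j : Fin c => B j.succ)
      exact Groth.Agent.QCohLib.isQuasicoherent_of_iso e.symm
  let en := Fintype.equivFin (Fin (p + 1) → ι)
  have := key _ (fun j => T (en.symm j)) fun j => hT _
  exact @Groth.Agent.QCohLib.isQuasicoherent_of_iso _ _ _
    ((Limits.biproduct.isoProduct fun j => T (en.symm j)) ≪≫ Limits.Pi.reindex en.symm T) this

end Groth.Agent.S5744
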