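import Groth.Statements.S8285
import Groth.Agent.GrModFrac.QCoh
import Groth.Agent.GrModFrac.RelTilde
-- import your own Groth.Agent.* helpers here

set_option autoImplicit false
universe u
open CategoryTheory CategoryTheory.Limits AlgebraicGeometry Opposite TopologicalSpace
open scoped HomogeneousIdeal
noncomputable section
open EGA2

namespace Groth.Agent.S8285

open Groth.Agent

/-- The twisting sheaf O_P(n) on the relative homogeneous spectrum P = Proj(𝒮), given through its
chartwise identifications with the O(n) of the Proj 𝒮(U), is a quasi-coherent O_P-module. -/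
theorem result {Y P : Scheme.{u}} (𝒮 : RelProj.QCGrAlg Y) (p : P ⟶ Y)
    (chart : ∀ (U : Y.Opens) (hU : IsAffineOpen U), (((p ⁻¹ᵁ U : P.Opens) : Scheme.{u}) ≅ Proj (𝒮.deg U hU)))
    (hP : RelProj.IsRelProj 𝒮 p chart) (n : ℤ) (L : P.Modules)
    (lam : ∀ (U : Y.Opens) (hU : IsAffineOpen U),
      L ⟶ (Scheme.Modules.pushforward (RelProj.emb p chart U hU)).obj (GrTwist.twist (𝒮.deg U hU) n))
    (hL : RelProj.IsRelTwist 𝒮 p chart n L lam) : Coh.IsQCoh L := by
  refine GrModFrac.isQuasicoherent_of_charts (ι := Y.affineOpens) (fun U => RelProj.emb p chart U.1 U.2) (fun x => ?_)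
    (fun U => GrTwist.twist (𝒮.deg U.1 U.2) n) (fun U => GrModFrac.isQuasicoherent_tilde (𝒮.deg U.1 U.2) (𝒮.deg U.1 U.2) n)
    (fun U => lam U.1 U.2) (fun U V => hL.bijective U.1 U.2 _ (GrModFrac.le_preimage_of_image chart U.1 U.2 V))
  obtain ⟨U, hU, hxU, -⟩ := exists_isAffineOpen_mem_and_subset (X := Y) (x := p x) (U := ⊤) trivial
  refine ⟨⟨U, hU⟩, (chart U hU).hom ⟨x, hxU⟩, ?_⟩
  show (p ⁻¹ᵁ U).ι ((chart U hU).inv ((chart U hU).hom ⟨x, hxU⟩)) = x
  rw [← Scheme.Hom.comp_apply, ← Scheme.Hom.comp_apply, Iso.hom_inv_id_assoc]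
  rfl

end Groth.Agent.S8285
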