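import Groth.Statements.S5747
import Groth.Agent.GrModFrac.Twist
import Groth.Agent.GrModFrac.QCoh
import Groth.Agent.S8285
import Groth.Agent.QCohLib.FiniteType
-- import your own Groth.Agent.* helpers here

set_option autoImplicit false
universe u
open CategoryTheory CategoryTheory.Limits AlgebraicGeometry Opposite TopologicalSpace
open scoped HomogeneousIdeal
noncomputable section
open Coherent

namespace Groth.Agent.S5747

open Groth.Agent

section

variable {A σ : Type u} [CommRing A] [SetLike σ A] [AddSubgroupClass σ A] {𝒜 : ℕ → σ} [GradedRing 𝒜]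

/-- Over `D₊(f)` of a noetherian graded ring, the sections of `O(n)` are finitely generated. -/
theorem exists_finset_span_sections [IsNoetherianRing A] (n : ℤ) {d : ℕ} (hd : 0 < d) {f : A} (hf : f ∈ 𝒜 d) :
    ∃ s : Finset (GrMod.sect 𝒜 𝒜 n (op (ProjectiveSpectrum.basicOpen 𝒜 f))),
      ∀ q, q ∈ Submodule.span (GrTwist.O (𝒜 := 𝒜) (op (ProjectiveSpectrum.basicOpen 𝒜 f)))
        (s : Set (GrMod.sect 𝒜 𝒜 n (op (ProjectiveSpectrum.basicOpen 𝒜 f)))) := by
  classical
  let T : Set A := {a | ∃ i j : ℕ, a ∈ 𝒜 i ∧ (i : ℤ) = j * d + n}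
  obtain ⟨G, hG, hGspan⟩ := (Submodule.fg_span_iff_fg_span_finset_subset (R := A) T).mp (IsNoetherian.noetherian _)
  choose di ji hmem hdj using fun e : G => hG e.2
  have hp : ∀ j : ℕ, f ^ j ∈ 𝒜 (j * d) := fun j => by simpa using SetLike.pow_mem_graded j hf
  have hn : ∀ (j : ℕ) (x : ProjectiveSpectrum.basicOpen 𝒜 f), f ^ j ∉ x.1.asHomogeneousIdeal :=
    fun j x h => x.2 (x.1.isPrime.mem_of_pow_mem j h)
  let sec : G → GrMod.sect 𝒜 𝒜 n (op (ProjectiveSpectrum.basicOpen 𝒜 f)) := fun e =>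
    ⟨fun x => ⟨LocalizedModule.mk (e.1 : A) ⟨f ^ ji e, hn _ x⟩,
        Submodule.subset_span ⟨di e, ji e * d, ⟨e.1, hmem e⟩, ⟨_, hp _⟩, hn _ x, by rw [hdj e]; push_cast; ring, rfl⟩⟩,
      fun x => ⟨_, x.2, 𝟙 _, di e, ji e * d, ⟨e.1, hmem e⟩, ⟨_, hp _⟩, hn _, Or.inl (by rw [hdj e]; push_cast; ring), fun _ => rfl⟩⟩
  let fn : ∀ j : ℕ, 𝒜 (j * d) → GrTwist.O (𝒜 := 𝒜) (op (ProjectiveSpectrum.basicOpen 𝒜 f)) := fun j c =>
    ⟨fun x => HomogeneousLocalization.mk ⟨j * d, c, ⟨_, hp j⟩, hn j x⟩,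
      fun x => ⟨_, x.2, 𝟙 _, j * d, c, ⟨_, hp j⟩, hn j, fun _ => rfl⟩⟩
  refine ⟨Finset.univ.image sec, fun q => ?_⟩
  obtain ⟨k, i, a, ha, hi, hq⟩ := GrModFrac.exists_frac_basicOpen 𝒜 𝒜 n hd hf q
  have hspan : a ∈ Submodule.span A (Set.range fun e : G => (e.1 : A)) := by
    rw [show (Set.range fun e : G => (e.1 : A)) = (G : Set A) from Subtype.range_coe, ← hGspan]
    exact Submodule.subset_span ⟨i, k, ha, hi⟩
  obtain ⟨c, hc⟩ := (Submodule.mem_span_range_iff_exists_fun A).mp hspan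
  let coef : G → GrTwist.O (𝒜 := 𝒜) (op (ProjectiveSpectrum.basicOpen 𝒜 f)) := fun e =>
    if di e ≤ i then fn (k - ji e) ⟨_, (DirectSum.decompose 𝒜 (c e) ((k - ji e) * d)).2⟩ else 0
  have hle : ∀ e : G, di e ≤ i → ji e ≤ k ∧ i - di e = (k - ji e) * d := by
    intro e h
    have h' : (di e : ℤ) ≤ i := by exact_mod_cast h
    rw [hdj e, hi] at h'
    have h2 : ji e ≤ k := by
      by_contra hc
      have : (k * d : ℕ) < ji e * d := Nat.mul_lt_mul_of_pos_right (not_le.mp hc) hd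
      have : ((k * d : ℕ) : ℤ) < (ji e * d : ℕ) := by exact_mod_cast this
      push_cast at this
      omega
    refine ⟨h2, ?_⟩
    have h3 : ((i - di e : ℕ) : ℤ) = (((k - ji e) * d : ℕ) : ℤ) := by
      rw [Nat.cast_sub h, Nat.cast_mul, Nat.cast_sub h2, hdj e, hi]; ring
    exact_mod_cast h3
  have hsum : a = ∑ e : G, if di e ≤ i then (DirectSum.decompose 𝒜 (c e) ((k - ji e) * d) : A) * (e.1 : A) else 0 := by
    refine (DirectSum.decompose_of_mem_same 𝒜 ha).symm.trans ?_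
    rw [← hc, DirectSum.decompose_sum, DFinsupp.finsetSum_apply, AddSubmonoidClass.coe_finsetSum]
    refine Finset.sum_congr rfl fun e _ => ?_
    rw [smul_eq_mul]
    by_cases h : di e ≤ i
    · rw [if_pos h, DirectSum.coe_decompose_mul_of_right_mem_of_le 𝒜 (hmem e) h, (hle e h).2]
    · rw [if_neg h, DirectSum.coe_decompose_mul_of_right_mem_of_not_le 𝒜 (hmem e) h]
  have hq' : q = ∑ e : G, coef e • sec e := by
    refine GrModFrac.sect_ext' fun x => ?_
    rw [AddSubmonoidClass.coe_finsetSum, Finset.sum_apply, AddSubmonoidClass.coe_finsetSum]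
    refine (hq x.1 x.2).trans ?_
    let μ : A →+ GrMod.LocMod 𝒜 (M := A) x.1 := AddMonoidHom.mk' (fun m' => LocalizedModule.mk m'
        (⟨f ^ k, hn _ x⟩ : x.1.asHomogeneousIdeal.toIdeal.primeCompl)) (fun a b => by
      rw [LocalizedModule.mk_add_mk, LocalizedModule.mk_eq]
      exact ⟨1, by simp [Submonoid.smul_def, smul_add, smul_smul]; ring⟩)
    refine (congrArg μ hsum).trans ?_
    rw [map_sum]
    refine Finset.sum_congr rfl fun e _ => ?_
    refine Eq.trans ?_ (GrModFrac.sect_smul_val _ _ x).symm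
    by_cases h : di e ≤ i
    · simp only [coef, if_pos h]
      show LocalizedModule.mk _ _ = (HomogeneousLocalization.mk _).val • LocalizedModule.mk _ _
      rw [HomogeneousLocalization.val_mk, LocalizedModule.mk_smul_mk, LocalizedModule.mk_eq]
      refine ⟨1, ?_⟩
      simp only [one_smul, Submonoid.smul_def, smul_eq_mul, Submonoid.coe_mul, ← pow_add]
      rw [Nat.sub_add_cancel (hle e h).1]
    · simp only [coef, if_neg h]
      show μ 0 = (0 : GrTwist.A0 𝒜 x.1).val • _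
      rw [HomogeneousLocalization.val_zero, zero_smul, map_zero]
  rw [hq']
  exact Submodule.sum_mem _ fun e _ => Submodule.smul_mem _ _
    (Submodule.subset_span (Finset.mem_coe.mpr (Finset.mem_image_of_mem _ (Finset.mem_univ e))))

end

/-- Let Y be a Noetherian scheme, 𝒮 a quasi-coherent positively graded O_Y-algebra of finite type
(generators of any positive degrees), p : X = Proj(𝒮) → Y its relative homogeneous spectrum with its
charts over the affine opens, and n any integer. Then the homogeneous component O_X(n), given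
through its chartwise identifications with the twisting modules O(n) on the Proj 𝒮(U), is a coherent
O_X-module (quasi-coherent of finite type; X is locally Noetherian). -/
theorem result {Y X : Scheme.{u}} [AlgebraicGeometry.IsNoetherian Y]
    (𝒮 : RelProj.QCGrAlg Y)
    (hft : ∀ (U : Y.Opens) (hU : IsAffineOpen U), (𝒮.str.app (op U)).hom.FiniteType)
    (p : X ⟶ Y)
    (chart : ∀ (U : Y.Opens) (hU : IsAffineOpen U), (((p ⁻¹ᵁ U : X.Opens) : Scheme.{u}) ≅ Proj (𝒮.deg U hU)))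
    (hP : RelProj.IsRelProj 𝒮 p chart) (n : ℤ) (L : X.Modules)
    (lam : ∀ (U : Y.Opens) (hU : IsAffineOpen U),
      L ⟶ (Scheme.Modules.pushforward (RelProj.emb p chart U hU)).obj (GrTwist.twist (𝒮.deg U hU) n))
    (hL : RelProj.IsRelTwist 𝒮 p chart n L lam) : Coh.IsCoh L := by
  have hQ : Coh.IsQCoh L := Groth.Agent.S8285.result 𝒮 p chart hP n L lam hL
  haveI : L.IsQuasicoherent := hQ
  refine ⟨hQ, ?_⟩
  let ι := Σ U : Y.affineOpens, { q : (_ : ℕ) × 𝒮.presheaf.obj (op U.1) // 0 < q.1 ∧ q.2 ∈ 𝒮.deg U.1 U.2 q.1 }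
  let W : ι → X.affineOpens := fun a => ⟨RelProj.emb p chart a.1.1 a.1.2 ''ᵁ
      Proj.basicOpen (𝒮.deg a.1.1 a.1.2) a.2.1.2,
    (Proj.isAffineOpen_basicOpen (𝒮.deg a.1.1 a.1.2) _ a.2.2.2 a.2.2.1).image_of_isOpenImmersion _⟩
  refine QCohLib.isFiniteType_of_affine_cover L W (fun x => ?_) fun a => ?_
  · obtain ⟨U, hU, hxU, -⟩ := exists_isAffineOpen_mem_and_subset (X := Y) (x := p x) (U := ⊤) trivial
    obtain ⟨y, rfl⟩ := GrModFrac.mem_range_emb (chart := chart) U hU hxU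
    obtain ⟨i, hi⟩ := (Proj.affineOpenCover (𝒮.deg U hU)).openCover.exists_eq y |>.imp fun i h => h
    obtain ⟨⟨⟨e, he⟩, ⟨g, hg⟩⟩, hgy⟩ : ∃ q : (Σ e : ℕ+, 𝒮.deg U hU e), y ∈ Proj.basicOpen (𝒮.deg U hU) (q.2 : 𝒮.presheaf.obj (op U)) := by
      obtain ⟨z, hz⟩ := hi
      refine ⟨i, ?_⟩
      have := (Proj.opensRange_awayι (𝒮.deg U hU) _ i.2.2 i.1.2).le ⟨z, hz⟩
      exact this
    exact ⟨⟨⟨U, hU⟩, ⟨⟨e, g⟩, he, hg⟩⟩, y, hgy, rfl⟩
  · obtain ⟨⟨U, hU⟩, ⟨⟨d, l⟩, hd, hl⟩⟩ := a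
    let f := RelProj.emb p chart U hU
    let V : X.Opens := f ''ᵁ Proj.basicOpen (𝒮.deg U hU) l
    have hV : V ≤ p ⁻¹ᵁ U := GrModFrac.le_preimage_of_image chart U hU _
    have : IsIso (f.app V) := f.isIso_app V (GrModFrac.le_opensRange_emb U hU hV)
    have hN : IsNoetherianRing (𝒮.presheaf.obj (op U)) := by
      have h0 : IsNoetherianRing Γ(Y, U) := IsLocallyNoetherian.component_noetherian ⟨U, hU⟩
      letI := (𝒮.str.app (op U)).hom.toAlgebra
      haveI : Algebra.FiniteType Γ(Y, U) (𝒮.presheaf.obj (op U)) := hft U hU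
      exact Algebra.FiniteType.isNoetherianRing Γ(Y, U) _
    have hfin : ∀ D : (Proj (𝒮.deg U hU)).Opens, D = Proj.basicOpen (𝒮.deg U hU) l →
        Module.Finite Γ(Proj (𝒮.deg U hU), D) Γ(GrMod.tilde (𝒮.deg U hU) (𝒮.deg U hU) n, D) := by
      rintro D rfl
      obtain ⟨s, hs⟩ := exists_finset_span_sections (𝒜 := 𝒮.deg U hU) n hd hl
      exact ⟨⟨s, eq_top_iff.mpr fun q _ => hs q⟩⟩
    obtain ⟨⟨s, hs⟩⟩ := hfin (f ⁻¹ᵁ V) (Scheme.Hom.preimage_image_eq f _)
    classical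
    choose pre hpre using fun q : Γ(GrMod.tilde (𝒮.deg U hU) (𝒮.deg U hU) n, f ⁻¹ᵁ V) =>
      (hL.bijective U hU V hV).2 q
    choose co hco using fun c : Γ(Proj (𝒮.deg U hU), f ⁻¹ᵁ V) =>
      (ConcreteCategory.bijective_of_isIso (f.app V)).2 c
    refine ⟨⟨s.image pre, eq_top_iff.mpr fun t _ => ?_⟩⟩
    have key : ∀ q, q ∈ Submodule.span Γ(Proj (𝒮.deg U hU), f ⁻¹ᵁ V)
        (s : Set Γ(GrMod.tilde (𝒮.deg U hU) (𝒮.deg U hU) n, f ⁻¹ᵁ V)) →
        ∀ t : Γ(L, V), (lam U hU).app V t = q → t ∈ Submodule.span Γ(X, V) ((s.image pre : Finset _) : Set Γ(L, V)) := by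
      intro q hq
      induction hq using Submodule.span_induction with
      | mem q hq =>
        intro t ht
        obtain rfl := (hL.bijective U hU V hV).1 (ht.trans (hpre q).symm)
        exact Submodule.subset_span (Finset.mem_coe.mpr (Finset.mem_image_of_mem _ hq))
      | zero =>
        intro t ht
        obtain rfl := (hL.bijective U hU V hV).1 (ht.trans (map_zero ((lam U hU).app V).hom).symm)
        exact zero_mem _
      | add a b _ _ ha hb =>
        intro t ht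
        obtain rfl : t = pre a + pre b := (hL.bijective U hU V hV).1 (ht.trans
          ((map_add ((lam U hU).app V).hom _ _).trans (congrArg₂ (· + ·) (hpre a) (hpre b))).symm)
        exact add_mem (ha _ (hpre a)) (hb _ (hpre b))
      | smul c a _ ha =>
        intro t ht
        obtain rfl : t = co c • pre a := (hL.bijective U hU V hV).1 (ht.trans
          ((Scheme.Modules.Hom.app_smul (lam U hU) (co c) (pre a)).trans
            (congrArg₂ (fun (z : Γ(Proj (𝒮.deg U hU), f ⁻¹ᵁ V)) (w : Γ(GrMod.tilde (𝒮.deg U hU) (𝒮.deg U hU) n, f ⁻¹ᵁ V)) => z • w)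
              (hco c) (hpre a))).symm)
        exact Submodule.smul_mem _ _ (ha _ (hpre a))
    exact key _ (hs ▸ Submodule.mem_top) t rfl

end Groth.Agent.S5747
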