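import Mathlib
import Groth.Statements.S5753
-- import your own Groth.Agent.* helpers here

set_option autoImplicit false
universe u
open EGA41

namespace Groth.Agent.S5753

/-- Let A be a Noetherian local ring with maximal ideal m and residue field k, and N a finitely
generated A-module. Then no element of m is N-regular (multiplication by it injective) if and only
if Hom_A(k, N) is nonzero. Applied to N = M/(x_1 M + ... + x_n M) for an M-regular sequence (x_i) in
m, this says that the sequence cannot be extended by an element of m if and only if Hom_A(k, M/(x_1
M + ... + x_n M)) ≠ 0. (The published statement allows an arbitrary module; for the direct sum N of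
the quotients of a two-dimensional regular local ring by all its height-one primes no element of m
is N-regular while Hom_A(k, N) = 0, and the published proof uses finiteness of the set of associated
primes, so N is taken finitely generated here.) -/
theorem result (A : Type u) [CommRing A]
    [IsLocalRing A] [IsNoetherianRing A] (N : Type u) [AddCommGroup N] [Module A N] [Module.Finite A N] :
    (∀ x ∈ IsLocalRing.maximalIdeal A, ¬ IsSMulRegular N x) ↔
      Nontrivial (IsLocalRing.ResidueField A →ₗ[A] N) := by
  classical
  constructor
  · intro h
    have hsub : (IsLocalRing.maximalIdeal A : Set A) ⊆ ⋃ p ∈ associatedPrimes A N, (p : Set A) := by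
      intro x hx
      rw [biUnion_associatedPrimes_eq_compl_regular]
      exact h x hx
    have hfin := associatedPrimes.finite A N
    obtain ⟨p, hp, hle⟩ := (Ideal.subset_union_prime_finite hfin ⊥ ⊥ (fun i hi _ _ => (hi : IsAssociatedPrime i N).isPrime)).1 hsub
    have hpm : p = IsLocalRing.maximalIdeal A := le_antisymm (IsLocalRing.le_maximalIdeal (hp : IsAssociatedPrime p N).isPrime.ne_top) hle
    obtain ⟨-, f, hf⟩ := (isAssociatedPrime_iff_exists_injective_linearMap _ _).1 (hpm ▸ hp : IsAssociatedPrime (IsLocalRing.maximalIdeal A) N)
    refine ⟨⟨f, 0, fun h0 => ?_⟩⟩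
    have h1 : (1 : A ⧸ IsLocalRing.maximalIdeal A) = 0 := hf (by rw [show f = 0 from h0]; simp)
    haveI : Nontrivial (A ⧸ IsLocalRing.maximalIdeal A) := Ideal.Quotient.nontrivial_iff.2 (Ideal.IsMaximal.ne_top inferInstance)
    exact one_ne_zero h1
  · intro h x hx hreg
    obtain ⟨f, hf⟩ := exists_ne (0 : IsLocalRing.ResidueField A →ₗ[A] N)
    apply hf
    refine LinearMap.ext fun z => ?_
    apply hreg
    show x • f z = x • 0
    rw [smul_zero, ← map_smul, Algebra.smul_def, show algebraMap A (IsLocalRing.ResidueField A) x = 0 from (IsLocalRing.residue_eq_zero_iff x).2 hx, zero_mul, map_zero]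

end Groth.Agent.S5753
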