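import Mathlib
import Groth.Statements.S5754
-- import your own Groth.Agent.* helpers here

set_option autoImplicit false
universe u
open EGA41

namespace Groth.Agent.S5754

/-- Let A be a Noetherian ring, M a finitely generated A-module and t an element of A which is
M-regular. For every associated prime p of M, every prime ideal minimal among those containing p +
tA is an associated prime of M/tM. -/
theorem result (A : Type u) [CommRing A]
    [IsNoetherianRing A] (M : Type u) [AddCommGroup M] [Module A M] [Module.Finite A M] (t : A)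
    (ht : IsSMulRegular M t) (p : Ideal A) (hp : p ∈ associatedPrimes A M) (q : Ideal A)
    (hq : q ∈ (p ⊔ Ideal.span {t}).minimalPrimes) : q ∈ associatedPrimes A (QuotSMulTop t M) := by
  classical
  obtain ⟨hpp, x, hx⟩ := isAssociatedPrime_iff.mp hp
  let N : Submodule A M := Submodule.torsionBySet A M (p : Set A)
  have hkill : ∀ a ∈ p, ∀ y : N, a • y = 0 := fun a ha y =>
    Subtype.ext ((Submodule.mem_torsionBySet_iff _ _).mp y.2 ⟨a, ha⟩)
  have hxN : x ∈ N := (Submodule.mem_torsionBySet_iff _ _).mpr fun a => by
    obtain ⟨a, ha⟩ := a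
    have h : a ∈ p := ha
    change a • x = 0
    rw [hx, Submodule.mem_colon_singleton, Submodule.mem_bot] at h
    exact h
  have hann : ∀ a : A, (∀ y : N, a • y = 0) → a ∈ p := fun a ha => by
    rw [hx, Submodule.mem_colon_singleton, Submodule.mem_bot]
    exact congrArg Subtype.val (ha ⟨x, hxN⟩)
  haveI : Module.Finite A N := Module.Finite.iff_fg.mpr (IsNoetherian.noetherian N)
  have hK : q ∈ (Module.annihilator A (QuotSMulTop t N)).minimalPrimes := by
    have hle : p ⊔ Ideal.span {t} ≤ Module.annihilator A (QuotSMulTop t N) := by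
      refine sup_le (fun a ha => Module.mem_annihilator.mpr fun y => ?_)
        ((Ideal.span_singleton_le_iff_mem _).mpr (QuotSMulTop.mem_annihilator _ t))
      obtain ⟨y, rfl⟩ := Submodule.Quotient.mk_surjective _ y
      rw [← Submodule.Quotient.mk_smul, hkill a ha y, Submodule.Quotient.mk_zero]
    refine ⟨⟨hq.1.1, fun a ha => ?_⟩, fun r hr hrq => hq.2 ⟨hr.1, hle.trans hr.2⟩ hrq⟩
    have hrange : LinearMap.range (algebraMap A (Module.End A N) a) ≤ Ideal.span {t} • (⊤ : Submodule A N) := by
      rintro _ ⟨y, rfl⟩
      have h := Module.mem_annihilator.mp ha (Submodule.Quotient.mk y)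
      rw [← Submodule.Quotient.mk_smul, Submodule.Quotient.mk_eq_zero] at h
      rw [Submodule.ideal_span_singleton_smul]
      exact h
    obtain ⟨F, hF, -, hFc, hFe⟩ :=
      LinearMap.exists_monic_and_natDegree_eq_and_coeff_mem_pow_and_aeval_eq_zero
        A (algebraMap A (Module.End A N) a) (Ideal.span {t}) hrange
    have hev : F.eval a ∈ p := hann _ fun y => by
      rw [Polynomial.aeval_algebraMap_apply, Polynomial.coe_aeval_eq_eval] at hFe
      simpa [Module.algebraMap_end_apply] using LinearMap.congr_fun hFe y
    have hlow : F.eval a - a ^ F.natDegree ∈ Ideal.span {t} := by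
      rw [Polynomial.eval_eq_sum_range, Finset.sum_range_succ, hF.coeff_natDegree, one_mul, add_sub_cancel_right]
      refine Ideal.sum_mem _ fun i hi => Ideal.mul_mem_right _ _ ?_
      exact Ideal.pow_le_self (by have := Finset.mem_range.mp hi; omega) (hFc i)
    refine hq.1.1.mem_of_pow_mem F.natDegree ?_
    have := q.sub_mem (hq.1.2 (Ideal.mem_sup_left hev)) (hq.1.2 (Ideal.mem_sup_right hlow))
    rwa [sub_sub_cancel] at this
  have h1 : q ∈ associatedPrimes A (QuotSMulTop t N) :=
    Module.associatedPrimes.minimalPrimes_annihilator_subset_associatedPrimes A (QuotSMulTop t N) hK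
  refine associatedPrimes.subset_of_injective (f := QuotSMulTop.map t N.subtype) ?_ h1
  rw [injective_iff_map_eq_zero]
  intro y hy
  obtain ⟨y, rfl⟩ := Submodule.Quotient.mk_surjective _ y
  rw [QuotSMulTop.map_apply_mk, Submodule.Quotient.mk_eq_zero, Submodule.mem_smul_pointwise_iff_exists] at hy
  obtain ⟨z, -, hz⟩ := hy
  change t • z = (y : M) at hz
  have hzN : z ∈ N := (Submodule.mem_torsionBySet_iff _ _).mpr fun a => ht (by
    change t • (a : A) • z = t • (0 : M)
    rw [smul_comm, hz, smul_zero]
    exact congrArg Subtype.val (hkill a a.2 y))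
  rw [Submodule.Quotient.mk_eq_zero, Submodule.mem_smul_pointwise_iff_exists]
  exact ⟨⟨z, hzN⟩, trivial, Subtype.ext hz⟩

end Groth.Agent.S5754
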