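import Groth.Statements.S5755
import Groth.Agent.DepthLib.Localization

set_option autoImplicit false
universe u
open EGA41

namespace Groth.Agent.S5755

/-- A reduced Noetherian local ring A has depth 0 if and only if A is a field. -/
theorem result (A : Type u) [CommRing A] [IsLocalRing A]
    [IsNoetherianRing A] [IsReduced A] : LocCoh.depth A A = 0 ↔ IsField A := by
  rw [DepthLib.depth_eq_zero_iff, AssociatedPrimes.mem_iff, isAssociatedPrime_iff,
    IsLocalRing.isField_iff_maximalIdeal_eq]
  constructor
  · rintro ⟨hprime, x, hx⟩
    by_cases hxm : x ∈ IsLocalRing.maximalIdeal A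
    · exfalso
      have h1 : x * x = 0 := by
        rw [hx, Submodule.mem_colon_singleton, Submodule.mem_bot] at hxm
        exact hxm
      have h2 : x = 0 := IsReduced.eq_zero x ⟨2, by rw [pow_two, h1]⟩
      refine hprime.ne_top (hx.trans (eq_top_iff.mpr fun a _ => ?_))
      simp [Submodule.mem_colon_singleton, h2]
    · rw [IsLocalRing.notMem_maximalIdeal] at hxm
      refine eq_bot_iff.mpr fun a ha => ?_
      rw [hx, Submodule.mem_colon_singleton, Submodule.mem_bot, smul_eq_mul] at ha
      exact (hxm.mul_left_eq_zero).mp ha
  · intro h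
    refine ⟨(IsLocalRing.maximalIdeal.isMaximal A).isPrime, 1, ?_⟩
    rw [h]
    ext a
    simp [Submodule.mem_colon_singleton]

end Groth.Agent.S5755
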