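import Groth.Statements.S5759
import Groth.Agent.DepthLib.CMModule

set_option autoImplicit false
universe u
open EGA41

namespace Groth.Agent.S5759

/-- Let A be a Noetherian local ring and M a nonzero finitely generated A-module. Suppose that for every
sequence x_1, ..., x_r of elements of the maximal ideal which is part of a system of parameters for
M (i.e. dim(M/(x_1 M + ... + x_r M)) = dim(M) - r), every associated prime p of N = M/(x_1 M + ... +
x_r M) satisfies dim(A/p) = dim(N). Then M is a Cohen-Macaulay module. (The published convention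
also counts the zero module as Cohen-Macaulay; this row assumes M nonzero.) -/
theorem result (A : Type u) [CommRing A]
    [IsLocalRing A] [IsNoetherianRing A] (M : Type u) [AddCommGroup M] [Module A M] [Module.Finite A M]
    [Nontrivial M]
    (h : ∀ xs : List A, (∀ x ∈ xs, x ∈ IsLocalRing.maximalIdeal A) →
      Module.supportDim A (M ⧸ (Ideal.ofList xs • (⊤ : Submodule A M))) + xs.length = Module.supportDim A M →
        ∀ p ∈ associatedPrimes A (M ⧸ (Ideal.ofList xs • (⊤ : Submodule A M))),
          ringKrullDim (A ⧸ p) = Module.supportDim A (M ⧸ (Ideal.ofList xs • (⊤ : Submodule A M)))) :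
    LocCoh.IsCohenMacaulayModule A M := by
  obtain ⟨n, hn⟩ := DepthLib.exists_nat_supportDim (R := A) M
  induction n generalizing M with
  | zero => exact DepthLib.isCohenMacaulayModule_of_supportDim_eq_zero hn
  | succ n ih =>
    have e0 : (M ⧸ (Ideal.ofList ([] : List A) • (⊤ : Submodule A M))) ≃ₗ[A] M :=
      Submodule.quotEquivOfEqBot _ (by rw [Ideal.ofList_nil, Submodule.bot_smul])
    obtain ⟨x, hx, hreg⟩ := (DepthLib.one_le_idealDepth_iff (I := IsLocalRing.maximalIdeal A) (M := M)).mp (by
      rw [DepthLib.one_le_idealDepth_iff_forall_associatedPrimes]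
      intro q hq hle
      have hqm : q = IsLocalRing.maximalIdeal A :=
        le_antisymm (IsLocalRing.le_maximalIdeal (IsAssociatedPrime.isPrime hq).ne_top) hle
      have h1 := h [] (by simp) (by rw [Module.supportDim_eq_of_equiv e0]; simp) q
        (by rwa [LinearEquiv.AssociatedPrimes.eq e0])
      rw [Module.supportDim_eq_of_equiv e0, hn, hqm,
        ringKrullDim_eq_zero_of_isField ((Ideal.Quotient.maximal_ideal_iff_isField_quotient _).mp
          (IsLocalRing.maximalIdeal.isMaximal A))] at h1
      have h2 : ((0 : ℕ) : WithBot ℕ∞) = ((n + 1 : ℕ) : WithBot ℕ∞) := by exact_mod_cast h1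
      exact absurd (Nat.cast_injective (R := WithBot ℕ∞) h2) (by omega))
    haveI : Nontrivial (QuotSMulTop x M) := by
      rw [← Module.supportDim_ne_bot_iff_nontrivial A]
      intro hb
      have := Module.supportDim_quotSMulTop_succ_eq_supportDim hreg hx
      rw [hb, hn, WithBot.bot_add] at this
      exact WithBot.bot_ne_coe this
    refine (DepthLib.isCohenMacaulayModule_quotSMulTop_iff hx hreg).mp (ih (QuotSMulTop x M) ?_ ?_)
    · intro xs hxs hdim p hp
      have e := Submodule.quotOfListConsSMulTopEquivQuotSMulTopInner M x xs
      rw [← Module.supportDim_eq_of_equiv e] at hdim ⊢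
      refine h (x :: xs) (List.forall_mem_cons.mpr ⟨hx, hxs⟩) ?_ p (by rwa [LinearEquiv.AssociatedPrimes.eq e])
      rw [List.length_cons, Nat.cast_add, Nat.cast_one, ← add_assoc, hdim]
      exact Module.supportDim_quotSMulTop_succ_eq_supportDim hreg hx
    · have := Module.supportDim_quotSMulTop_succ_eq_supportDim hreg hx
      rw [hn] at this
      exact DepthLib.withBot_add_one_cancel (this.trans (by push_cast; rfl))

end Groth.Agent.S5759
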