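import Groth.Statements.S5760
import Groth.Agent.DepthLib.CMModule

set_option autoImplicit false
universe u
open EGA41

namespace Groth.Agent.S5760

/-- Let A be a Noetherian local ring, M a nonzero finitely generated Cohen-Macaulay A-module, p a prime
ideal in the support of M and r the integer dim(M) - dim(M/pM). Then there exists an M-regular
sequence x_1, ..., x_r of elements of p; for every such sequence, dim(M/(x_1 M + ... + x_r M)) =
dim(M/pM) = dim(A/p), and p is a minimal element of the set of associated primes of M/(x_1 M + ... +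
x_r M). -/
theorem result (A : Type u) [CommRing A]
    [IsLocalRing A] [IsNoetherianRing A] (M : Type u) [AddCommGroup M] [Module A M] [Module.Finite A M]
    (hM : LocCoh.IsCohenMacaulayModule A M) (p : PrimeSpectrum A) (hp : p ∈ Module.support A M) (r : ℕ)
    (hr : Module.supportDim A (M ⧸ (p.asIdeal • (⊤ : Submodule A M))) + r = Module.supportDim A M) :
    (∃ xs : List A, xs.length = r ∧ (∀ x ∈ xs, x ∈ p.asIdeal) ∧ RingTheory.Sequence.IsWeaklyRegular M xs) ∧
      ∀ xs : List A, xs.length = r → (∀ x ∈ xs, x ∈ p.asIdeal) → RingTheory.Sequence.IsWeaklyRegular M xs →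
        Module.supportDim A (M ⧸ (Ideal.ofList xs • (⊤ : Submodule A M))) =
            Module.supportDim A (M ⧸ (p.asIdeal • (⊤ : Submodule A M))) ∧
          Module.supportDim A (M ⧸ (p.asIdeal • (⊤ : Submodule A M))) = ringKrullDim (A ⧸ p.asIdeal) ∧
          p.asIdeal ∈ associatedPrimes A (M ⧸ (Ideal.ofList xs • (⊤ : Submodule A M))) ∧
          ∀ q ∈ associatedPrimes A (M ⧸ (Ideal.ofList xs • (⊤ : Submodule A M))), q ≤ p.asIdeal → q = p.asIdeal := by
  haveI := DepthLib.nontrivial_of_isCohenMacaulayModule hM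
  have hd := DepthLib.supportDim_quotient_smul_top_of_mem_support p hp
  obtain ⟨f, hf⟩ := DepthLib.exists_nat_ringKrullDim_quotient p.asIdeal
  obtain ⟨D, hD⟩ := DepthLib.exists_nat_supportDim (R := A) M
  rw [hd, hf, hD] at hr
  have hr' : f + r = D := by exact_mod_cast hr
  refine ⟨?_, fun xs hlen hmem hreg => ?_⟩
  · have hk := DepthLib.supportDim_quotient_add_idealDepth hM (Ideal.IsPrime.ne_top p.isPrime)
    rw [hd, hf, hD] at hk
    have hk' : (r : ℕ∞) ≤ LocCoh.idealDepth p.asIdeal M := by
      cases hd' : LocCoh.idealDepth p.asIdeal M with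
      | top => exact le_top
      | coe d =>
        rw [hd'] at hk
        change (f : WithBot ℕ∞) + (d : WithBot ℕ∞) = (D : WithBot ℕ∞) at hk
        have : f + d = D := by exact_mod_cast hk
        exact Nat.cast_le.mpr (by omega)
    obtain ⟨xs, h1, h2, h3⟩ := DepthLib.natCast_le_idealDepth_iff.mp hk'
    exact ⟨xs, h1, h3, h2⟩
  · have hmax : ∀ x ∈ xs, x ∈ IsLocalRing.maximalIdeal A := fun x hx =>
      IsLocalRing.le_maximalIdeal p.isPrime.ne_top (hmem x hx)
    have hN := DepthLib.supportDim_quot_ofList_add_length hmax hreg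
    haveI := DepthLib.nontrivial_of_isCohenMacaulayModule
      (DepthLib.isCohenMacaulayModule_quot_ofList xs M hM hmax hreg)
    obtain ⟨g, hg⟩ := DepthLib.exists_nat_supportDim (R := A) (M ⧸ (Ideal.ofList xs • (⊤ : Submodule A M)))
    rw [hg, hD, hlen] at hN
    have hN' : g + r = D := by exact_mod_cast hN
    have hgf : g = f := by omega
    have hpN : p ∈ Module.support A (M ⧸ (Ideal.ofList xs • (⊤ : Submodule A M))) := by
      rw [Module.support_quotient]
      exact ⟨hp, show Ideal.ofList xs ≤ p.asIdeal from Ideal.span_le.mpr hmem⟩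
    have hCM := DepthLib.isCohenMacaulayModule_quot_ofList xs M hM hmax hreg
    have key : ∀ q ∈ associatedPrimes A (M ⧸ (Ideal.ofList xs • (⊤ : Submodule A M))),
        q ≤ p.asIdeal → q = p.asIdeal := by
      intro q hq hle
      haveI := IsAssociatedPrime.isPrime hq
      by_contra hne
      obtain ⟨y, hyp, hyq⟩ := SetLike.exists_of_lt (lt_of_le_of_ne hle hne)
      have h1 := DepthLib.ringKrullDim_quotient_succ_le hle hyq hyp
      rw [DepthLib.ringKrullDim_quotient_eq_of_mem_associatedPrimes hCM hq, hg, hf, hgf] at h1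
      have h2 : ((f + 1 : ℕ) : WithBot ℕ∞) ≤ (f : WithBot ℕ∞) := by exact_mod_cast h1
      exact absurd (Nat.cast_le.mp h2) (by omega)
    refine ⟨by rw [hg, hd, hf, hgf], hd, ?_, key⟩
    obtain ⟨q, hq, hle⟩ := DepthLib.exists_associatedPrime_le_of_mem_support hpN
    exact key q hq hle ▸ hq

end Groth.Agent.S5760
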