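import Mathlib
import Groth.Agent.GeomUnib.Normal
import Groth.Statements.S5764
-- import your own Groth.Agent.* helpers here

set_option autoImplicit false
universe u
open EGA41

namespace Groth.Agent.S5764

/-- Let B be an integral domain, A a local subring of B which is integrally closed (in its field of
fractions), and suppose B is integral over A. Then dim(B_n) = dim(A) for every maximal ideal n of B. -/
theorem result (A B : Type u) [CommRing A]
    [CommRing B] [IsDomain B] [Algebra A B] (hinj : Function.Injective (algebraMap A B)) [IsDomain A]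
    [IsLocalRing A] [IsIntegrallyClosed A] [Algebra.IsIntegral A B] (n : Ideal B) [n.IsMaximal] :
    ringKrullDim (Localization.AtPrime n) = ringKrullDim A := by
  haveI : FaithfulSMul A B := (faithfulSMul_iff_algebraMap_injective A B).mpr hinj
  have hopen := GeomUnib.isOpenMap_comap (A := A) (E := B)
  haveI : Algebra.HasGoingDown A B := by
    refine ⟨fun {p} hp Q hQ hlt => ?_⟩
    let S : Submonoid B := Q.primeCompl ⊔ Algebra.algebraMapSubmonoid B p.primeCompl
    have hd : Disjoint ((p.map (algebraMap A B) : Ideal B) : Set B) (S : Set B) := by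
      rw [Set.disjoint_left]
      intro x hx hxS
      obtain ⟨s, hs, t, ⟨a, ha, rfl⟩, rfl⟩ := Submonoid.mem_sup.mp hxS
      have h1 : PrimeSpectrum.comap (algebraMap A B) ⟨Q, hQ⟩ ∈
          PrimeSpectrum.comap (algebraMap A B) '' (PrimeSpectrum.basicOpen s : Set (PrimeSpectrum B)) :=
        ⟨⟨Q, hQ⟩, hs, rfl⟩
      have h2 : (⟨p, hp⟩ : PrimeSpectrum A) ∈
          PrimeSpectrum.comap (algebraMap A B) '' (PrimeSpectrum.basicOpen s : Set (PrimeSpectrum B)) :=
        ((PrimeSpectrum.le_iff_specializes _ _).mp (show (⟨p, hp⟩ : PrimeSpectrum A) ≤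
          PrimeSpectrum.comap (algebraMap A B) ⟨Q, hQ⟩ from hlt.le)).mem_open
            (hopen _ (PrimeSpectrum.basicOpen s).2) h1
      obtain ⟨q, hq, hqp⟩ := h2
      have hqp' : q.asIdeal.comap (algebraMap A B) = p := congrArg PrimeSpectrum.asIdeal hqp
      have h3 : s * algebraMap A B a ∈ q.asIdeal := (Ideal.map_le_iff_le_comap.mpr hqp'.ge) hx
      rcases q.2.mem_or_mem h3 with h4 | h4
      · exact hq h4
      · exact ha (hqp' ▸ h4)
    obtain ⟨P, hP, hle, hPd⟩ := Ideal.exists_le_prime_disjoint _ S hd
    refine ⟨P, ?_, hP, ⟨le_antisymm (fun a ha => ?_) ?_⟩⟩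
    · intro x hx
      by_contra hxQ
      exact Set.disjoint_left.mp hPd hx (Submonoid.mem_sup_left hxQ)
    · exact hle (Ideal.mem_map_of_mem _ ha)
    · intro a ha
      by_contra hap
      exact Set.disjoint_left.mp hPd ha (Submonoid.mem_sup_right ⟨a, hap, rfl⟩)
  haveI hm : (n.comap (algebraMap A B)).IsMaximal := Ideal.isMaximal_comap_of_isIntegral_of_isMaximal n
  rw [IsLocalization.AtPrime.ringKrullDim_eq_height n (Localization.AtPrime n),
    ← IsLocalRing.maximalIdeal_height_eq_ringKrullDim, ← IsLocalRing.eq_maximalIdeal hm]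
  congr 1
  refine le_antisymm ?_ ?_
  · have h := Order.height_le_height_apply_of_strictMono (PrimeSpectrum.comap (algebraMap A B))
      (fun I J h => Ideal.IsIntegral.comap_lt_comap h) ⟨n, inferInstance⟩
    rwa [← PrimeSpectrum.height_eq_orderHeight, ← PrimeSpectrum.height_eq_orderHeight] at h
  · rw [(⟨n.comap (algebraMap A B), hm.isPrime⟩ : PrimeSpectrum A).height_eq_orderHeight,
      (⟨n, inferInstance⟩ : PrimeSpectrum B).height_eq_orderHeight, Order.height_le_iff']
    intro l hl
    haveI : n.LiesOver l.last.asIdeal := ⟨by rw [hl]⟩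
    obtain ⟨L, hlen, hlast, -⟩ := Ideal.exists_ltSeries_of_hasGoingDown l n
    rw [← hlen]
    exact Order.length_le_height hlast.le

end Groth.Agent.S5764
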