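import Groth.Statements.S5765
import Mathlib
-- import your own Groth.Agent.* helpers here

set_option autoImplicit false
universe u
open EGA41

namespace Groth.Agent.S5765

/-- Let A be a ring, M a finitely generated A-module and p a prime ideal of A. Then dim_{A_p}(M_p) +
dim_A(M/pM) ≤ dim_A(M). -/
theorem result (A : Type u) [CommRing A] (M : Type u)
    [AddCommGroup M] [Module A M] [Module.Finite A M] (p : Ideal A) [p.IsPrime] :
    Module.supportDim (Localization.AtPrime p) (LocalizedModule p.primeCompl M) +
        Module.supportDim A (M ⧸ (p • (⊤ : Submodule A M))) ≤ Module.supportDim A M := by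
  classical
  have hsupp : ∀ q : PrimeSpectrum A, q ∈ Module.support A M ↔ Module.annihilator A M ≤ q.asIdeal := fun q => by
    rw [Module.support_eq_zeroLocus]; rfl
  let P : PrimeSpectrum A := ⟨p, inferInstance⟩
  by_cases hp : P ∈ Module.support A M
  swap
  · have : Subsingleton (LocalizedModule p.primeCompl M) := Module.notMem_support_iff.mp hp
    rw [Module.supportDim_eq_bot_of_subsingleton, WithBot.bot_add]
    exact bot_le
  let a : Module.support A M := ⟨P, hp⟩
  have hann : (Module.annihilator A M).map (algebraMap A (Localization.AtPrime p)) ≤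
      Module.annihilator (Localization.AtPrime p) (LocalizedModule p.primeCompl M) := by
    refine Ideal.map_le_iff_le_comap.mpr fun r hr => Module.mem_annihilator.mpr fun z => ?_
    induction z using LocalizedModule.induction_on with
    | h m s =>
      rw [algebraMap_smul, LocalizedModule.smul'_mk, Module.mem_annihilator.mp hr m, LocalizedModule.zero_mk]
  have h1 : Module.supportDim (Localization.AtPrime p) (LocalizedModule p.primeCompl M) ≤ Order.height a := by
    rw [Order.height_eq_krullDim_Iic]
    have hmem : ∀ q ∈ Module.support (Localization.AtPrime p) (LocalizedModule p.primeCompl M),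
        (⟨q.asIdeal.comap (algebraMap A (Localization.AtPrime p)), inferInstance⟩ : PrimeSpectrum A)
          ∈ Module.support A M := by
      intro q hq
      rw [hsupp]
      exact Ideal.map_le_iff_le_comap.mp (hann.trans (Module.annihilator_le_of_mem_support hq))
    refine Order.krullDim_le_of_strictMono (fun q => ⟨⟨_, hmem q.1 q.2⟩, ?_⟩) ?_
    · exact (Ideal.comap_mono (IsLocalRing.le_maximalIdeal q.1.isPrime.ne_top)).trans
        Localization.AtPrime.under_maximalIdeal.le
    · intro q₁ q₂ hlt
      change q₁.1.asIdeal.comap _ < q₂.1.asIdeal.comap _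
      exact (IsLocalization.orderEmbedding p.primeCompl (Localization.AtPrime p)).strictMono
        (show q₁.1.asIdeal < q₂.1.asIdeal from hlt)
  have hq : ∀ q ∈ Module.support A (M ⧸ (p • (⊤ : Submodule A M))), q ∈ Module.support A M ∧ p ≤ q.asIdeal := by
    intro q hq
    rw [Module.support_quotient] at hq
    exact ⟨hq.1, hq.2⟩
  have h2 : Module.supportDim A (M ⧸ (p • (⊤ : Submodule A M))) ≤ Order.coheight a := by
    rw [Order.coheight_eq_krullDim_Ici]
    exact Order.krullDim_le_of_strictMono
      (fun q => (⟨⟨q.1, (hq q.1 q.2).1⟩, show a ≤ _ from (hq q.1 q.2).2⟩ : Set.Ici a)) (fun _ _ hlt => hlt)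
  refine (add_le_add h1 h2).trans ?_
  haveI : Nonempty (Module.support A M) := ⟨a⟩
  rw [Module.supportDim, Order.krullDim_eq_iSup_height_add_coheight_of_nonempty, ← WithBot.coe_add,
    WithBot.coe_le_coe]
  exact le_iSup (fun a : Module.support A M => Order.height a + Order.coheight a) a

end Groth.Agent.S5765
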