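import Groth.Statements.S5766
import Groth.Agent.DimTrdeg.Basic
-- import your own Groth.Agent.* helpers here

set_option autoImplicit false
universe u
open EGA41

namespace Groth.Agent.S5766

/-- Let A be a Noetherian ring, ρ : A → B a ring homomorphism and M a B-module which is finitely
generated as an A-module via ρ. Then the dimension of M as an A-module equals its dimension as a
B-module. -/
theorem result (A B : Type u) [CommRing A] [CommRing B] [IsNoetherianRing A]
    [Algebra A B] (M : Type u) [AddCommGroup M] [Module B M] [Module A M] [IsScalarTower A B M]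
    [Module.Finite A M] : Module.supportDim A M = Module.supportDim B M := by
  haveI : Module.Finite B M := Module.Finite.of_restrictScalars_finite A B M
  rw [Module.supportDim_eq_ringKrullDim_quotient_annihilator, Module.supportDim_eq_ringKrullDim_quotient_annihilator]
  let I := Module.annihilator A M
  let J := Module.annihilator B M
  have hIJ : J.comap (algebraMap A B) = I := by
    ext a
    simp only [Ideal.mem_comap, I, J, Module.mem_annihilator, algebraMap_smul]
  letI : Algebra (A ⧸ I) (B ⧸ J) := (Ideal.quotientMap J (algebraMap A B) hIJ.ge).toAlgebra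
  have hinj : Function.Injective (algebraMap (A ⧸ I) (B ⧸ J)) := Ideal.quotientMap_injective' hIJ.le
  haveI : IsScalarTower A (A ⧸ I) (B ⧸ J) := .of_algebraMap_eq fun x => rfl
  haveI : Module.Finite A (B ⧸ J) := by
    let φ : (B ⧸ J) →ₗ[A] Module.End A M := Submodule.liftQ (J.restrictScalars A)
      (Algebra.lsmul A A M (A := B)).toLinearMap (fun b hb => by
        ext m; exact Module.mem_annihilator.mp hb m) ∘ₗ
      (Submodule.Quotient.restrictScalarsEquiv A J).symm.toLinearMap
    refine Module.Finite.of_injective φ fun x y hxy => ?_
    obtain ⟨x, rfl⟩ := Ideal.Quotient.mk_surjective x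
    obtain ⟨y, rfl⟩ := Ideal.Quotient.mk_surjective y
    rw [Ideal.Quotient.eq, Module.mem_annihilator]
    intro m
    rw [sub_smul, sub_eq_zero]
    exact LinearMap.congr_fun hxy m
  haveI : Module.Finite (A ⧸ I) (B ⧸ J) := Module.Finite.of_restrictScalars_finite A _ _
  haveI : Algebra.IsIntegral (A ⧸ I) (B ⧸ J) := Algebra.IsIntegral.of_finite _ _
  exact (Groth.Agent.DimTrdeg.ringKrullDim_eq_of_isIntegral (A ⧸ I) (B ⧸ J) hinj).symm

end Groth.Agent.S5766
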