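import Groth.Statements.S5767
import Mathlib
-- import your own Groth.Agent.* helpers here

set_option autoImplicit false
universe u
open EGA41

namespace Groth.Agent.S5767

/-- Let A be a semi-local Noetherian ring, M a finitely generated A-module and x an element of the
Jacobson radical of A. One always has dim(M/xM) ≥ dim(M) - 1; equality dim(M/xM) = dim(M) - 1 holds
if and only if x belongs to none of the prime ideals p of Supp(M) with dim(A/p) = dim(M). Stated as:
dim(M/xM) + 1 = dim(M) iff x avoids those primes. -/
theorem result (A : Type u) [CommRing A] [IsNoetherianRing A]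
    [Finite (MaximalSpectrum A)] (M : Type u) [AddCommGroup M] [Module A M] [Module.Finite A M] (x : A)
    (hx : x ∈ Ring.jacobson A) :
    Module.supportDim A (QuotSMulTop x M) + 1 = Module.supportDim A M ↔
      ∀ p : PrimeSpectrum A, p ∈ Module.support A M →
        ringKrullDim (A ⧸ p.asIdeal) = Module.supportDim A M → x ∉ p.asIdeal := by
  classical
  have hxann : x ∈ (Module.annihilator A M).jacobson :=
    Ideal.jacobson_mono bot_le (show x ∈ (⊥ : Ideal A).jacobson by rwa [Ideal.jacobson_bot])
  haveI := Fintype.ofFinite (MaximalSpectrum A)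
  have hfinh : ∀ m : MaximalSpectrum A, ∃ n : ℕ, m.asIdeal.height = n := fun m => by
    haveI := m.isMaximal
    obtain ⟨n, hn⟩ := WithTop.ne_top_iff_exists.mp
      (Ideal.height_ne_top (I := m.asIdeal) (m.isMaximal.ne_top))
    exact ⟨n, hn.symm⟩
  choose n hn using hfinh
  let N := Finset.univ.sup n
  have hbound : ∀ l : LTSeries (PrimeSpectrum A), l.length ≤ N := fun l => by
    obtain ⟨m, hm, hle⟩ := Ideal.exists_le_maximal _ l.last.isPrime.ne_top
    have h1 : (l.length : ℕ∞) ≤ Order.height (⟨m, hm.isPrime⟩ : PrimeSpectrum A) :=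
      Order.length_le_height (show l.last ≤ (⟨m, hm.isPrime⟩ : PrimeSpectrum A) from hle)
    haveI := hm.isPrime
    rw [← PrimeSpectrum.height_eq_orderHeight (⟨m, hm.isPrime⟩ : PrimeSpectrum A), hn ⟨m, hm⟩, Nat.cast_le] at h1
    exact h1.trans (Finset.le_sup (f := n) (Finset.mem_univ _))
  rcases subsingleton_or_nontrivial M with hM | hM
  · haveI : Subsingleton (QuotSMulTop x M) := (Submodule.mkQ_surjective _).subsingleton
    rw [Module.supportDim_eq_bot_of_subsingleton, Module.supportDim_eq_bot_of_subsingleton, WithBot.bot_add]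
    exact ⟨fun _ p hp => absurd hp (by simp [Module.support_eq_empty]), fun _ => rfl⟩
  have hqle : ∀ p : PrimeSpectrum A, p ∈ Module.support A (QuotSMulTop x M) → p ∈ Module.support A M ∧ x ∈ p.asIdeal := by
    intro p hp
    rw [Module.support_quotSMulTop] at hp
    exact ⟨hp.1, by simpa [PrimeSpectrum.mem_zeroLocus] using hp.2⟩
  have hge : Module.supportDim A M ≤ Module.supportDim A (QuotSMulTop x M) + 1 :=
    Module.supportDim_le_supportDim_quotSMulTop_succ_of_mem_jacobson hxann
  obtain ⟨D, hD⟩ : ∃ D : ℕ, Module.supportDim A M = D := by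
    have h2 : Module.supportDim A M ≤ N := iSup_le fun l => by
      exact_mod_cast hbound (l.map Subtype.val fun _ _ h => h)
    obtain ⟨e, he⟩ := WithBot.ne_bot_iff_exists.mp
      ((Module.supportDim_ne_bot_iff_nontrivial A M).mpr hM)
    have : e ≤ (N : ℕ∞) := WithBot.coe_le_coe.mp (he ▸ h2)
    obtain ⟨D, rfl⟩ := WithTop.ne_top_iff_exists.mp (ne_top_of_le_ne_top (ENat.coe_ne_top N) this)
    exact ⟨D, he.symm⟩
  constructor
  · intro heq p hp hpD hxp
    have h1 : Module.supportDim A M ≤ Module.supportDim A (QuotSMulTop x M) := by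
      rw [← hpD, ringKrullDim_quotient]
      refine Order.krullDim_le_of_strictMono (fun q => (⟨q.1, ?_⟩ : Module.support A (QuotSMulTop x M)))
        (fun _ _ h => h)
      rw [Module.support_quotSMulTop]
      exact ⟨Module.mem_support_mono (p := p) q.2 hp, by simpa [PrimeSpectrum.mem_zeroLocus] using q.2 hxp⟩
    have h3 : Module.supportDim A M + 1 ≤ Module.supportDim A M := (add_le_add h1 le_rfl).trans heq.le
    rw [hD] at h3
    have : ((D + 1 : ℕ) : WithBot ℕ∞) ≤ (D : WithBot ℕ∞) := by exact_mod_cast h3
    exact absurd (Nat.cast_le.mp this) (by omega)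
  · intro h
    refine le_antisymm ?_ hge
    have key : ∀ l : LTSeries (Module.support A (QuotSMulTop x M)),
        ((l.length + 1 : ℕ) : WithBot ℕ∞) ≤ Module.supportDim A M := by
      intro l
      obtain ⟨hsup, hxh⟩ := hqle _ l.head.2
      let l' : LTSeries (Module.support A M) :=
        l.map (fun q => ⟨q.1, (hqle _ q.2).1⟩) (fun _ _ hlt => hlt)
      by_cases hmin : ∀ q : Module.support A M, q ≤ l'.head → q = l'.head
      · have h1 : ((l.length : ℕ) : WithBot ℕ∞) ≤ ringKrullDim (A ⧸ l.head.1.asIdeal) := by
          rw [ringKrullDim_quotient]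
          exact Order.LTSeries.length_le_krullDim (LTSeries.mk l.length
            (fun i => (⟨(l i).1, show l.head.1.asIdeal ≤ _ from l.head_le i⟩ :
              PrimeSpectrum.zeroLocus (l.head.1.asIdeal : Set A))) (fun i j hij => l.strictMono hij))
        have h2 : ringKrullDim (A ⧸ l.head.1.asIdeal) ≤ Module.supportDim A M := by
          rw [ringKrullDim_quotient]
          exact Order.krullDim_le_of_strictMono (fun q => (⟨q.1, Module.mem_support_mono (p := l.head.1) q.2 hsup⟩ :
            Module.support A M)) (fun _ _ h => h)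
        have h3 := lt_of_le_of_ne h2 fun he => h _ hsup he hxh
        have h4 := h1.trans_lt h3
        rw [hD, Nat.cast_lt] at h4
        rw [hD, Nat.cast_le]
        omega
      · push Not at hmin
        obtain ⟨q, hq, hne⟩ := hmin
        have h5 : ((l'.cons q (lt_of_le_of_ne hq hne)).length) = l.length + 1 := by
          simp only [RelSeries.cons_length]; rfl
        exact h5 ▸ Order.LTSeries.length_le_krullDim (l'.cons q (lt_of_le_of_ne hq hne))
    by_cases hne : IsEmpty (Module.support A (QuotSMulTop x M))
    · rw [Module.supportDim, Order.krullDim_eq_bot, WithBot.bot_add]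
      exact bot_le
    · rw [not_isEmpty_iff] at hne
      rw [Module.supportDim, Order.krullDim_eq_iSup_length]
      haveI := hne
      have hb : ∀ l : LTSeries (Module.support A (QuotSMulTop x M)), l.length ≤ N :=
        fun l => hbound (l.map Subtype.val fun _ _ h => h)
      obtain ⟨l, hl⟩ := Set.Nonempty.csSup_mem (Set.range_nonempty fun l : LTSeries (Module.support A (QuotSMulTop x M)) => l.length)
        (Set.Finite.subset (Set.finite_Iic N) (by rintro _ ⟨l, rfl⟩; exact hb l))
      refine le_trans ?_ (key l)
      rw [Nat.cast_add, Nat.cast_one]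
      refine add_le_add ?_ le_rfl
      refine WithBot.coe_le_coe.mpr (iSup_le fun l₁ => ?_)
      have hle := le_csSup (⟨N, by rintro _ ⟨a, rfl⟩; exact hb a⟩) (Set.mem_range_self
        (f := fun l : LTSeries (Module.support A (QuotSMulTop x M)) => l.length) l₁)
      exact Nat.cast_le.mpr (hle.trans_eq hl.symm)

end Groth.Agent.S5767
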