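import Groth.Statements.S5771
import Groth.Agent.Miracle.Basic
-- import your own Groth.Agent.* helpers here

set_option autoImplicit false
universe u
open EGA41

namespace Groth.Agent.S5771

/-- Let φ : A → B be a local homomorphism of Noetherian local rings, m the maximal ideal of A, and
suppose mB is an ideal of definition of B (equivalently dim(B/mB) = 0). Then dim(B) ≤ dim(A); if
moreover A is an integral domain and dim(A) = dim(B), then φ is injective. -/
theorem result (A B : Type u) [CommRing A] [CommRing B]
    [IsLocalRing A] [IsLocalRing B] [IsNoetherianRing A] [IsNoetherianRing B] [Algebra A B]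
    [IsLocalHom (algebraMap A B)]
    (hdef : ringKrullDim (B ⧸ (IsLocalRing.maximalIdeal A).map (algebraMap A B)) = 0) :
    ringKrullDim B ≤ ringKrullDim A ∧
      (IsDomain A → ringKrullDim A = ringKrullDim B → Function.Injective (algebraMap A B)) := by
  have hle : ringKrullDim B ≤ ringKrullDim A := by
    have := Groth.Agent.Miracle.ringKrullDim_le_add (R := A) (S := B)
    rwa [hdef, add_zero] at this
  refine ⟨hle, fun hA heq => ?_⟩
  haveI := hA
  rw [RingHom.injective_iff_ker_eq_bot]
  by_contra hne
  obtain ⟨a, ha, ha0⟩ := Submodule.exists_mem_ne_zero_of_ne_bot hne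
  have hnu : ¬ IsUnit a := fun hu => by
    have := hu.map (algebraMap A B)
    rw [RingHom.mem_ker.mp ha] at this
    exact not_isUnit_zero this
  let A' := A ⧸ Ideal.span {a}
  haveI : Nontrivial A' := Ideal.Quotient.nontrivial_iff.mpr fun h => hnu (Ideal.span_singleton_eq_top.mp h)
  haveI : IsLocalRing A' := .of_surjective' (Ideal.Quotient.mk _) Ideal.Quotient.mk_surjective
  have hspan : ∀ x ∈ Ideal.span {a}, algebraMap A B x = 0 := by
    intro x hx
    obtain ⟨c, rfl⟩ := Ideal.mem_span_singleton'.mp hx
    rw [map_mul, RingHom.mem_ker.mp ha, mul_zero]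
  letI : Algebra A' B := (Ideal.Quotient.lift _ (algebraMap A B) hspan).toAlgebra
  haveI : IsLocalHom (algebraMap A' B) := ⟨fun x hx => by
    obtain ⟨x, rfl⟩ := Ideal.Quotient.mk_surjective x
    exact (isUnit_of_map_unit (algebraMap A B) x hx).map _⟩
  have hmap : (IsLocalRing.maximalIdeal A').map (algebraMap A' B) =
      (IsLocalRing.maximalIdeal A).map (algebraMap A B) := by
    rw [← IsLocalRing.map_maximalIdeal_of_surjective (Ideal.Quotient.mk (Ideal.span {a})) Ideal.Quotient.mk_surjective,
      Ideal.map_map]
    congr 1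
  have h1 := Groth.Agent.Miracle.ringKrullDim_le_add (R := A') (S := B)
  rw [hmap, hdef, add_zero, ← heq] at h1
  have h2 : ringKrullDim A' + 1 ≤ ringKrullDim A :=
    ringKrullDim_quotient_succ_le_of_nonZeroDivisor (mem_nonZeroDivisors_of_ne_zero ha0)
  obtain ⟨d, hd⟩ : ∃ d : ℕ, ringKrullDim A = d := by
    haveI : FiniteRingKrullDim A := inferInstance
    have ht := ringKrullDim_ne_top (R := A)
    have hb : ringKrullDim A ≠ ⊥ := ringKrullDim_ne_bot
    cases h : ringKrullDim A with
    | bot => exact absurd h hb
    | coe e =>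
      cases e with
      | top => exact absurd h ht
      | coe d => exact ⟨d, rfl⟩
  have h3 := ((add_le_add h1 (le_refl (1 : WithBot ℕ∞))).trans h2)
  rw [hd] at h3
  exact absurd (by exact_mod_cast h3 : d + 1 ≤ d) (by omega)

end Groth.Agent.S5771
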