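import Mathlib
import Groth.Statements.S5772
-- import your own Groth.Agent.* helpers here

set_option autoImplicit false
universe u
open scoped Pointwise
open EGA41

namespace Groth.Agent.S5772

/-- Let A be a Noetherian ring, M a finitely generated A-module and f an element of A. Then f is
M-regular (multiplication by f on M is injective) if and only if f is M-quasi-regular, i.e. the
canonical surjection (M/fM)[T] → gr(M) for the (f)-adic filtration is bijective, which amounts to:
for every k ≥ 0 and x ∈ M, f^k x ∈ f^(k+1) M implies x ∈ fM. -/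
theorem result (A : Type u) [CommRing A] [IsNoetherianRing A] (M : Type u)
    [AddCommGroup M] [Module A M] [Module.Finite A M] (f : A) :
    IsSMulRegular M f ↔
      ∀ (k : ℕ) (x : M), f ^ k • x ∈ f ^ (k + 1) • (⊤ : Submodule A M) → x ∈ f • (⊤ : Submodule A M) := by
  constructor
  · intro h k x hx
    obtain ⟨y, -, hy⟩ := Submodule.mem_smul_pointwise_iff_exists _ _ _ |>.1 hx
    refine Submodule.mem_smul_pointwise_iff_exists _ _ _ |>.2 ⟨y, trivial, h.pow k ?_⟩
    simp only [← mul_smul, ← pow_succ]
    exact hy
  · intro h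
    rw [isSMulRegular_iff_right_eq_zero_of_smul]
    intro x hx
    have hk : ∀ k : ℕ, ∃ y, x = f ^ k • y := by
      intro k
      induction k with
      | zero => exact ⟨x, by simp⟩
      | succ k ih =>
        obtain ⟨y, rfl⟩ := ih
        rw [← mul_smul, ← pow_succ'] at hx
        obtain ⟨w, -, hw⟩ := Submodule.mem_smul_pointwise_iff_exists _ _ _ |>.1 (h (k + 1) y (by rw [hx]; exact zero_mem _))
        exact ⟨w, by rw [← hw, ← mul_smul, ← pow_succ]⟩
    obtain ⟨⟨r, hr⟩, hrx⟩ := ((Ideal.span {f}).mem_iInf_smul_pow_eq_bot_iff x).1 (Submodule.mem_iInf _ |>.2 fun k => by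
      obtain ⟨y, hy⟩ := hk k
      rw [hy]
      exact Submodule.smul_mem_smul (Ideal.pow_mem_pow (Ideal.mem_span_singleton_self f) k) trivial)
    obtain ⟨s, rfl⟩ := Ideal.mem_span_singleton'.1 hr
    rw [← hrx]
    show (s * f) • x = 0
    rw [mul_smul, hx, smul_zero]

end Groth.Agent.S5772
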