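import Groth.Statements.S5775
import Groth.Agent.FlatDepthFormula.Apps
-- import your own Groth.Agent.* helpers here

set_option autoImplicit false
universe u
open EGA41

namespace Groth.Agent.S5775
open Groth.Agent.FlatDepthFormula
open TensorProduct

/-- Let A → B be a local homomorphism of Noetherian local rings, m the maximal ideal of A, M a finitely
generated B-module flat over A and R a B-submodule of M such that M/R is flat over A. Let f_1, ...,
f_n be elements of the maximal ideal of B such that (i) f_i M ⊆ R for all i, (ii) the images of the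
f_i form an (M/mM)-regular sequence, and (iii) the submodule f_1 (M/mM) + ... + f_n (M/mM) is the
image of R in M/mM. Then (f_i) is an M-regular sequence and R = f_1 M + ... + f_n M. -/
theorem result (A B : Type u) [CommRing A] [CommRing B] [IsLocalRing A]
    [IsLocalRing B] [IsNoetherianRing A] [IsNoetherianRing B] [Algebra A B] [IsLocalHom (algebraMap A B)]
    (M : Type u) [AddCommGroup M] [Module B M] [Module A M] [IsScalarTower A B M] [Module.Finite B M]
    [Module.Flat A M] (R : Submodule B M) (hR : Module.Flat A (M ⧸ R)) (fs : List B)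
    (hfs : ∀ f ∈ fs, f ∈ IsLocalRing.maximalIdeal B) (h1 : Ideal.ofList fs • (⊤ : Submodule B M) ≤ R)
    (h2 : RingTheory.Sequence.IsWeaklyRegular
      (M ⧸ ((IsLocalRing.maximalIdeal A).map (algebraMap A B) • (⊤ : Submodule B M))) fs)
    (h3 : Ideal.ofList fs • (⊤ : Submodule B
        (M ⧸ ((IsLocalRing.maximalIdeal A).map (algebraMap A B) • (⊤ : Submodule B M)))) =
      R.map ((IsLocalRing.maximalIdeal A).map (algebraMap A B) • (⊤ : Submodule B M)).mkQ) :
    RingTheory.Sequence.IsWeaklyRegular M fs ∧ R = Ideal.ofList fs • (⊤ : Submodule B M) := by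
  have h := (isWeaklyRegular_fibre_iff (A := A) (B := B) M fs).mpr h2
  refine ⟨isWeaklyRegular_self fs h, le_antisymm ?_ h1⟩
  let mB := (IsLocalRing.maximalIdeal A).map (algebraMap A B)
  refine Submodule.le_of_le_smul_of_le_jacobson_bot (I := mB) (IsNoetherian.noetherian R)
    (map_maximalIdeal_le.trans (IsLocalRing.maximalIdeal_le_jacobson _)) ?_
  intro x hx
  have hx' : (mB • (⊤ : Submodule B M)).mkQ x ∈ (Ideal.ofList fs • (⊤ : Submodule B M)).map (mB • (⊤ : Submodule B M)).mkQ := by
    rw [Submodule.map_smul'', Submodule.map_top, Submodule.range_mkQ, h3]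
    exact Submodule.mem_map_of_mem hx
  obtain ⟨y, hy, hxy⟩ := hx'
  have hmem : x - y ∈ mB • (⊤ : Submodule B M) := (Submodule.Quotient.eq _).mp hxy.symm
  have hRy : x - y ∈ R := sub_mem hx (h1 hy)
  -- `R ∩ 𝔪 M = 𝔪 R` by flatness of `M / R`
  have hinj := LinearMap.lTensor_injective_of_exact_of_flat (R := A) (R.mkQ.restrictScalars A) R.mkQ_surjective
    (R.subtype.restrictScalars A) Subtype.val_injective (LinearMap.exact_subtype_mkQ R) (A ⧸ IsLocalRing.maximalIdeal A)
  let t : (A ⧸ IsLocalRing.maximalIdeal A) ⊗[A] R := (1 : A ⧸ IsLocalRing.maximalIdeal A) ⊗ₜ ⟨x - y, hRy⟩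
  have ht : (R.subtype.restrictScalars A).lTensor (A ⧸ IsLocalRing.maximalIdeal A) t = 0 := by
    show (1 : A ⧸ IsLocalRing.maximalIdeal A) ⊗ₜ[A] (x - y) = 0
    refine (TensorProduct.comm A _ M).injective ?_
    rw [map_zero, TensorProduct.comm_tmul]
    refine (tensorQuot (B := B) M (IsLocalRing.maximalIdeal A)).injective ?_
    rw [map_zero]
    show (1 : A) • (Submodule.Quotient.mk (x - y) : M ⧸ (mB • (⊤ : Submodule B M))) = 0
    rw [one_smul]
    exact (Submodule.Quotient.mk_eq_zero _).mpr hmem
  rw [← map_zero ((R.subtype.restrictScalars A).lTensor (A ⧸ IsLocalRing.maximalIdeal A))] at ht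
  have ht' : tensorQuot (B := B) R (IsLocalRing.maximalIdeal A) (TensorProduct.comm A _ R t) = 0 := by
    rw [hinj ht, map_zero, map_zero]
  rw [TensorProduct.comm_tmul] at ht'
  change (1 : A) • (Submodule.Quotient.mk (⟨x - y, hRy⟩ : R) : R ⧸ (mB • (⊤ : Submodule B R))) = 0 at ht'
  rw [one_smul, Submodule.Quotient.mk_eq_zero] at ht'
  have h4 : x - y ∈ mB • R := by
    have := Submodule.mem_map_of_mem (f := R.subtype) ht'
    rwa [Submodule.map_smul'', Submodule.map_top, Submodule.range_subtype] at this
  rw [← sub_add_cancel x y]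
  exact add_mem (Submodule.mem_sup_right h4) (Submodule.mem_sup_left hy)

end Groth.Agent.S5775
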