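import Mathlib
import Groth.Statements.S5776
-- import your own Groth.Agent.* helpers here

set_option autoImplicit false
universe u
open EGA41

namespace Groth.Agent.S5776

/-- Let A be a ring, M an A-module and (f_i)_{1 ≤ i ≤ n} an M-regular sequence of elements of A. Then
for any exponents v_i ≥ 1 the sequence (f_i ^ v_i) is again M-regular. -/
theorem result (A : Type u) [CommRing A] (M : Type u) [AddCommGroup M]
    [Module A M] (n : ℕ) (f : Fin n → A) (v : Fin n → ℕ) (hv : ∀ i, 1 ≤ v i)
    (hf : RingTheory.Sequence.IsWeaklyRegular M (List.ofFn f)) :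
    RingTheory.Sequence.IsWeaklyRegular M (List.ofFn fun i => f i ^ v i) := by
  classical
  have ext_lemma : ∀ (rs : List A) {N M' L : Type u} [AddCommGroup N] [Module A N] [AddCommGroup M'] [Module A M']
      [AddCommGroup L] [Module A L] (φ : N →ₗ[A] M') (ψ : M' →ₗ[A] L), Function.Injective φ → Function.Exact φ ψ →
      Function.Surjective ψ → RingTheory.Sequence.IsWeaklyRegular N rs → RingTheory.Sequence.IsWeaklyRegular L rs →
      RingTheory.Sequence.IsWeaklyRegular M' rs := by
    intro rs
    induction rs with
    | nil => intros; exact RingTheory.Sequence.IsWeaklyRegular.nil A _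
    | cons r rs ih =>
      intro N M' L _ _ _ _ _ _ φ ψ hφ hex hψ hN hL
      rw [RingTheory.Sequence.isWeaklyRegular_cons_iff] at hN hL ⊢
      refine ⟨isSMulRegular_of_range_eq_ker hφ hex.linearMap_ker_eq.symm hN.1 hL.1,
        ih (QuotSMulTop.map r φ) (QuotSMulTop.map r ψ) ?_ (QuotSMulTop.map_exact r hex hψ)
          (QuotSMulTop.map_surjective r hψ) hN.2 hL.2⟩
      rw [injective_iff_map_eq_zero]
      intro x hx
      obtain ⟨x, rfl⟩ := Submodule.Quotient.mk_surjective _ x
      rw [QuotSMulTop.map_apply_mk, Submodule.Quotient.mk_eq_zero, Submodule.mem_smul_pointwise_iff_exists] at hx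
      obtain ⟨y, -, hy⟩ := hx
      have h1 : r • ψ y = 0 := by rw [← map_smul, hy, hex.apply_apply_eq_zero]
      obtain ⟨z, rfl⟩ := (hex y).mp (hL.1.right_eq_zero_of_smul h1)
      rw [← map_smul] at hy
      rw [Submodule.Quotient.mk_eq_zero, Submodule.mem_smul_pointwise_iff_exists]
      exact ⟨z, trivial, hφ hy⟩
  have main : ∀ (l : List (A × ℕ)) {N : Type u} [AddCommGroup N] [Module A N], (∀ p ∈ l, 1 ≤ p.2) →
      RingTheory.Sequence.IsWeaklyRegular N (l.map Prod.fst) →
      RingTheory.Sequence.IsWeaklyRegular N (l.map fun p => p.1 ^ p.2) := by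
    intro l
    induction l with
    | nil => intros; exact RingTheory.Sequence.IsWeaklyRegular.nil A _
    | cons p l ih =>
      intro N _ _ hl h
      obtain ⟨r, k⟩ := p
      rw [List.map_cons, RingTheory.Sequence.isWeaklyRegular_cons_iff] at h ⊢
      refine ⟨h.1.pow k, ?_⟩
      have h1 : RingTheory.Sequence.IsWeaklyRegular (QuotSMulTop r N) (l.map fun p => p.1 ^ p.2) :=
        ih (fun q hq => hl q (List.mem_cons_of_mem _ hq)) h.2
      have hk : 1 ≤ k := hl (r, k) (List.mem_cons_self ..)
      have hr : IsSMulRegular N r := h.1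
      clear h hl
      have : RingTheory.Sequence.IsWeaklyRegular (QuotSMulTop (r ^ k) N) (l.map fun p => p.1 ^ p.2) := by
        induction k, hk using Nat.le_induction with
        | base => rw [pow_one]; exact h1
        | succ a ha iha =>
          have hmem : ∀ (s : A) (x : N), (Submodule.Quotient.mk x : QuotSMulTop s N) = 0 ↔ ∃ y, s • y = x := fun s x => by
            rw [Submodule.Quotient.mk_eq_zero, Submodule.mem_smul_pointwise_iff_exists]
            simp
          let φ : QuotSMulTop (r ^ a) N →ₗ[A] QuotSMulTop (r ^ (a + 1)) N :=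
            Submodule.mapQ _ _ (r • LinearMap.id) (fun x hx => by
              obtain ⟨y, -, rfl⟩ := (Submodule.mem_smul_pointwise_iff_exists ..).mp hx
              exact (Submodule.mem_smul_pointwise_iff_exists ..).mpr ⟨y, trivial, by simp [pow_succ', smul_smul, mul_comm]⟩)
          let ψ : QuotSMulTop (r ^ (a + 1)) N →ₗ[A] QuotSMulTop r N :=
            Submodule.mapQ _ _ LinearMap.id (fun x hx => by
              obtain ⟨y, -, rfl⟩ := (Submodule.mem_smul_pointwise_iff_exists ..).mp hx
              exact (Submodule.mem_smul_pointwise_iff_exists ..).mpr ⟨r ^ a • y, trivial, by simp [pow_succ', mul_smul]⟩)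
          refine ext_lemma _ φ ψ ?_ ?_ ?_ iha h1
          · rw [injective_iff_map_eq_zero]
            intro x hx
            obtain ⟨x, rfl⟩ := Submodule.Quotient.mk_surjective _ x
            change (Submodule.Quotient.mk (r • x) : QuotSMulTop (r ^ (a + 1)) N) = 0 at hx
            obtain ⟨y, hy⟩ := (hmem _ _).mp hx
            exact (hmem _ _).mpr ⟨y, hr (show r • r ^ a • y = r • x by rw [smul_smul, ← pow_succ']; exact hy)⟩
          · intro x
            obtain ⟨x, rfl⟩ := Submodule.Quotient.mk_surjective _ x
            change (Submodule.Quotient.mk x : QuotSMulTop r N) = 0 ↔ _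
            constructor
            · intro hx
              obtain ⟨y, rfl⟩ := (hmem _ _).mp hx
              exact ⟨Submodule.Quotient.mk y, rfl⟩
            · rintro ⟨z, hz⟩
              obtain ⟨z, rfl⟩ := Submodule.Quotient.mk_surjective _ z
              change (Submodule.Quotient.mk (r • z) : QuotSMulTop (r ^ (a + 1)) N) = _ at hz
              rw [Submodule.Quotient.eq, Submodule.mem_smul_pointwise_iff_exists] at hz
              obtain ⟨y, -, hy⟩ := hz
              refine (hmem _ _).mpr ⟨z - r ^ a • y, ?_⟩
              rw [smul_sub, ← mul_smul, ← pow_succ', hy, sub_sub_cancel]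
          · intro x
            obtain ⟨x, rfl⟩ := Submodule.Quotient.mk_surjective _ x
            exact ⟨Submodule.Quotient.mk x, rfl⟩
      exact this
  have := main (List.ofFn fun i => (f i, v i)) (N := M) (fun p hp => by
    obtain ⟨i, rfl⟩ := List.mem_ofFn.mp hp
    exact hv i) (by simpa [List.map_ofFn, Function.comp_def] using hf)
  simpa [List.map_ofFn, Function.comp_def] using this

end Groth.Agent.S5776
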