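import Groth.Statements.S5777
import Groth.Agent.FlatDepthFormula.Apps
-- import your own Groth.Agent.* helpers here

set_option autoImplicit false
universe u
open EGA41

namespace Groth.Agent.S5777
open Groth.Agent.FlatDepthFormula
open TensorProduct

/-- Let φ : A → B be a local homomorphism of Noetherian local rings, M a finitely generated B-module and
(f_i)_{1 ≤ i ≤ n} an A-regular sequence of elements of the maximal ideal of A, generating the ideal
J. Then M is flat over A if and only if M/JM is flat over A/J and (f_i) is an M-regular sequence. -/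
theorem result (A B : Type u) [CommRing A] [CommRing B]
    [IsLocalRing A] [IsLocalRing B] [IsNoetherianRing A] [IsNoetherianRing B] [Algebra A B]
    [IsLocalHom (algebraMap A B)] (M : Type u) [AddCommGroup M] [Module B M] [Module A M]
    [IsScalarTower A B M] [Module.Finite B M] (fs : List A) (hfs : ∀ f ∈ fs, f ∈ IsLocalRing.maximalIdeal A)
    (hA : RingTheory.Sequence.IsWeaklyRegular A fs) :
    Module.Flat A M ↔
      Module.Flat (A ⧸ Ideal.ofList fs) (M ⧸ (Ideal.ofList fs • (⊤ : Submodule A M))) ∧
        RingTheory.Sequence.IsWeaklyRegular M fs := by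
  let J := Ideal.ofList fs
  let e0 := TensorProduct.quotTensorEquivQuotSMul M J
  let e : (A ⧸ J) ⊗[A] M ≃ₗ[A ⧸ J] M ⧸ (J • (⊤ : Submodule A M)) :=
    e0.extendScalarsOfSurjective Ideal.Quotient.mk_surjective
  constructor
  · intro hM
    exact ⟨Module.Flat.of_linearEquiv e.symm, ((TensorProduct.lid A M).isWeaklyRegular_congr fs).mp hA.isWeaklyRegular_rTensor⟩
  · rintro ⟨hq, hM⟩
    haveI : Module.Flat (A ⧸ J) ((A ⧸ J) ⊗[A] M) := Module.Flat.of_linearEquiv e
    have hJ : J ≤ IsLocalRing.maximalIdeal A := Ideal.span_le.mpr fun f hf => hfs f hf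
    refine Groth.FlatDescent.flat_of_injective_of_flat_quotient (S := B) J
      (((Ideal.map_mono hJ).trans map_maximalIdeal_le).trans (IsLocalRing.maximalIdeal_le_jacobson _)) ?_
    have h := injective_smul_rTensor_of_regular M fs A hA (((TensorProduct.lid A M).isWeaklyRegular_congr fs).mpr hM)
    rwa [show (Ideal.ofList fs • (⊤ : Submodule A A)) = J by rw [smul_eq_mul, Ideal.mul_top]] at h

end Groth.Agent.S5777
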