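import Mathlib
import Groth.Statements.S5780
-- import your own Groth.Agent.* helpers here

set_option autoImplicit false
universe u
open EGA41

namespace Groth.Agent.S5780

/-- Let A be a Noetherian local ring with maximal ideal m. If every element of m which is not in m² is a
zero divisor in A, then there is a nonzero c in A with c m = 0, i.e. m is an associated prime of A. -/
theorem result (A : Type u) [CommRing A]
    [IsLocalRing A] [IsNoetherianRing A]
    (h : ∀ a ∈ IsLocalRing.maximalIdeal A, a ∉ IsLocalRing.maximalIdeal A ^ 2 → ¬ IsSMulRegular A a) :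
    IsLocalRing.maximalIdeal A ∈ associatedPrimes A A := by
  classical
  set m := IsLocalRing.maximalIdeal A with hmdef
  let s : Finset (Ideal A) := insert (m ^ 2) (associatedPrimes.finite A A).toFinset
  have hsub : (m : Set A) ⊆ ⋃ i ∈ (↑s : Set (Ideal A)), (i : Set A) := by
    intro x hx
    by_cases hx2 : x ∈ m ^ 2
    · exact Set.mem_biUnion (by simp [s]) hx2
    · have hnz : x ∈ (nonZeroDivisors A : Set A)ᶜ := fun hnz => h x hx hx2 fun a b hab => by
        have : (a - b) * x = 0 := by
          simp only [smul_eq_mul] at hab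
          rw [sub_mul, mul_comm a, mul_comm b, hab, sub_self]
        exact sub_eq_zero.1 ((mem_nonZeroDivisors_iff.1 hnz).2 _ this)
      rw [← biUnion_associatedPrimes_eq_compl_nonZeroDivisors] at hnz
      obtain ⟨P, hP, hxP⟩ := Set.mem_iUnion₂.1 hnz
      exact Set.mem_biUnion (by simp [s, hP]) hxP
  obtain ⟨i, hi, hmi⟩ := (Ideal.subset_union_prime (f := fun i : Ideal A => i) (m ^ 2) (m ^ 2) (fun i hi hne _ => by
    simp only [s, Finset.mem_insert, Set.Finite.mem_toFinset] at hi
    exact (hi.resolve_left hne).isPrime)).1 hsub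
  simp only [s, Finset.mem_insert, Set.Finite.mem_toFinset] at hi
  rcases hi with rfl | hi
  · have hm0 : m = ⊥ := Submodule.eq_bot_of_le_smul_of_le_jacobson_bot m m (IsNoetherian.noetherian m)
      (by rw [smul_eq_mul, ← sq]; exact hmi) (IsLocalRing.maximalIdeal_le_jacobson _)
    have hne : (associatedPrimes A A).Nonempty := associatedPrimes.nonempty A A
    obtain ⟨P, hP⟩ := hne
    have hPm : P ≤ m := IsLocalRing.le_maximalIdeal hP.isPrime.ne_top
    rw [hm0, le_bot_iff] at hPm
    rw [hm0, ← hPm]
    exact hP
  · have := (IsLocalRing.le_maximalIdeal hi.isPrime.ne_top).antisymm hmi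
    rwa [this] at hi

end Groth.Agent.S5780
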