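import Mathlib
import Groth.Statements.S5781
-- import your own Groth.Agent.* helpers here

set_option autoImplicit false
universe u
open EGA41

namespace Groth.Agent.S5781

open scoped Pointwise

/-- Suppose A is a Noetherian local ring whose maximal ideal is m, and take a ∈ m with a ∉ m². Then the
quotient m/am contains a direct summand isomorphic to m/Aa: concretely, one can find A-linear maps f
: m/Aa → m/am and g : m/am → m/Aa such that g ∘ f is the identity. -/
theorem result (A : Type u) [CommRing A] [IsLocalRing A]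
    [IsNoetherianRing A] (a : A) (ha : a ∈ IsLocalRing.maximalIdeal A) (ha2 : a ∉ IsLocalRing.maximalIdeal A ^ 2) :
    ∃ (f : (↥(IsLocalRing.maximalIdeal A) ⧸ Submodule.span A {(⟨a, ha⟩ : ↥(IsLocalRing.maximalIdeal A))}) →ₗ[A]
          QuotSMulTop a ↥(IsLocalRing.maximalIdeal A))
      (g : QuotSMulTop a ↥(IsLocalRing.maximalIdeal A) →ₗ[A]
          (↥(IsLocalRing.maximalIdeal A) ⧸ Submodule.span A {(⟨a, ha⟩ : ↥(IsLocalRing.maximalIdeal A))})),
      g.comp f = LinearMap.id := by
  classical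
  set m := IsLocalRing.maximalIdeal A with hm
  let S : Set (Ideal A) := {J | m ^ 2 ≤ J ∧ J ≤ m ∧ a ∉ J}
  obtain ⟨J, ⟨hJ2, hJm, haJ⟩, hmax⟩ := set_has_maximal_iff_noetherian.2 inferInstance S
    ⟨m ^ 2, le_rfl, Ideal.pow_le_self two_ne_zero, ha2⟩
  have hdec : ∀ y ∈ m, ∃ r : A, y - r * a ∈ J := by
    intro y hy
    by_cases hyJ : y ∈ J
    · exact ⟨0, by simpa using hyJ⟩
    have h1 : ¬ (J ⊔ Ideal.span {y}) ∈ S := fun h => hmax _ h (lt_of_le_of_ne le_sup_left (fun e => hyJ (e ▸ Ideal.mem_sup_right (Ideal.mem_span_singleton_self y))))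
    have h2 : a ∈ J ⊔ Ideal.span {y} := by
      by_contra h
      exact h1 ⟨le_trans hJ2 le_sup_left, sup_le hJm ((Ideal.span_singleton_le_iff_mem _).2 hy), h⟩
    obtain ⟨j, hj, z, hz, e⟩ := Submodule.mem_sup.1 h2
    obtain ⟨r, rfl⟩ := Ideal.mem_span_singleton'.1 hz
    by_cases hr : r ∈ m
    · exact absurd (e ▸ add_mem hj (hJ2 (by rw [pow_two]; exact Ideal.mul_mem_mul hr hy))) haJ
    · obtain ⟨u, hu⟩ : IsUnit r := by
        by_contra h
        exact hr ((IsLocalRing.mem_maximalIdeal r).2 h)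
      refine ⟨(↑u⁻¹ : A), ?_⟩
      have : y - ↑u⁻¹ * a = -(↑u⁻¹ * j) := by
        rw [← e, ← hu, mul_add, ← mul_assoc, Units.inv_mul, one_mul]; ring
      rw [this]
      exact neg_mem (Ideal.mul_mem_left _ _ hj)
  let am : Submodule A m := a • ⊤
  let g : QuotSMulTop a m →ₗ[A] (m ⧸ Submodule.span A {(⟨a, ha⟩ : m)}) :=
    Submodule.liftQ _ (Submodule.mkQ _) (by
      rintro x hx
      obtain ⟨z, -, rfl⟩ := Submodule.mem_smul_pointwise_iff_exists _ _ _ |>.1 hx
      rw [LinearMap.mem_ker, Submodule.mkQ_apply, Submodule.Quotient.mk_eq_zero, Submodule.mem_span_singleton]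
      exact ⟨z.1, Subtype.ext (by simp [mul_comm])⟩)
  let J' : Submodule A m := Submodule.comap m.subtype J
  let p : J' →ₗ[A] (m ⧸ Submodule.span A {(⟨a, ha⟩ : m)}) := (Submodule.mkQ _).comp J'.subtype
  have hp : Function.Surjective p := by
    intro q
    obtain ⟨y, rfl⟩ := Submodule.mkQ_surjective _ q
    obtain ⟨r, hr⟩ := hdec y.1 y.2
    refine ⟨⟨y - r • ⟨a, ha⟩, hr⟩, ?_⟩
    rw [LinearMap.comp_apply, Submodule.subtype_apply, Submodule.mkQ_apply, Submodule.mkQ_apply, Submodule.Quotient.eq]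
    exact Submodule.mem_span_singleton.2 ⟨-r, by simp⟩
  have hker : LinearMap.ker p ≤ LinearMap.ker ((Submodule.mkQ (a • (⊤ : Submodule A m))).comp J'.subtype) := by
    intro y hy
    rw [LinearMap.mem_ker, LinearMap.comp_apply, Submodule.subtype_apply, Submodule.mkQ_apply,
      Submodule.Quotient.mk_eq_zero] at hy ⊢
    obtain ⟨r, hr⟩ := Submodule.mem_span_singleton.1 hy
    have hyJ : (y.1 : A) ∈ J := y.2
    have hr' : (y.1 : A) = r * a := by rw [← hr]; rfl
    have hrm : r ∈ m := by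
      by_contra h
      obtain ⟨u, hu⟩ : IsUnit r := by
        by_contra h'
        exact h ((IsLocalRing.mem_maximalIdeal r).2 h')
      apply haJ
      have := Ideal.mul_mem_left J (↑u⁻¹ : A) hyJ
      rwa [hr', ← hu, ← mul_assoc, Units.inv_mul, one_mul] at this
    refine Submodule.mem_smul_pointwise_iff_exists _ _ _ |>.2 ⟨⟨r, hrm⟩, trivial, Subtype.ext ?_⟩
    show a * r = (y.1 : A)
    rw [hr', mul_comm]
  refine ⟨(Submodule.liftQ (LinearMap.ker p) _ hker).comp (LinearMap.quotKerEquivOfSurjective p hp).symm.toLinearMap, g, ?_⟩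
  refine LinearMap.ext fun q => ?_
  obtain ⟨y, rfl⟩ := hp q
  have e : (LinearMap.quotKerEquivOfSurjective p hp).symm (p y) = Submodule.Quotient.mk y :=
    (LinearEquiv.symm_apply_eq _).2 (LinearMap.quotKerEquivOfSurjective_apply_mk p hp y).symm
  simp only [LinearMap.comp_apply, LinearEquiv.coe_coe, e, LinearMap.id_apply]
  rfl

end Groth.Agent.S5781
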