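import Groth.Statements.S5782
import Groth.Agent.ProjDim.Regular
-- import your own Groth.Agent.* helpers here

set_option autoImplicit false
universe u
open CategoryTheory
open EGA41

namespace Groth.Agent.S5782

theorem baseChange_exact {A : Type u} [CommRing A] (Q : Type u) [CommRing Q] [Algebra A Q] {K F M : Type u}
    [AddCommGroup K] [Module A K] [AddCommGroup F] [Module A F] [AddCommGroup M] [Module A M]
    (f : K →ₗ[A] F) (g : F →ₗ[A] M) (hex : Function.Exact f g) (hg : Function.Surjective g) :
    Function.Exact (f.baseChange Q) (g.baseChange Q) ∧ Function.Surjective (g.baseChange Q) := by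
  simp only [LinearMap.baseChange_eq_ltensor]
  exact ⟨lTensor_exact Q hex hg, LinearMap.lTensor_surjective Q hg⟩

theorem ker_baseChange_exact {A : Type u} [CommRing A] (Q : Type u) [CommRing Q] [Algebra A Q] {F M : Type u}
    [AddCommGroup F] [Module A F] [AddCommGroup M] [Module A M]
    (g : F →ₗ[A] M) (hg : Function.Surjective g) :
    Function.Exact ((LinearMap.ker g).subtype.baseChange Q) (g.baseChange Q) ∧
      Function.Surjective (g.baseChange Q) :=
  baseChange_exact (K := LinearMap.ker g) Q _ g (LinearMap.exact_subtype_ker_map g) hg

theorem pd_baseChange {A : Type u} [CommRing A] (a : A) (hA : IsSMulRegular A a) :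
    ∀ (n : ℕ) (E : Type u) [AddCommGroup E] [Module A E], IsSMulRegular E a →
      HasProjectiveDimensionLT (ModuleCat.of A E) (n + 1) →
      HasProjectiveDimensionLT
        (ModuleCat.of (A ⧸ Ideal.span {a}) (TensorProduct A (A ⧸ Ideal.span {a}) E)) (n + 1)
  | 0, E, _, _, _, h => by
    have := (Groth.Agent.ProjDim.projDim_zero_iff E).1 h
    exact (Groth.Agent.ProjDim.projDim_zero_iff _).2 inferInstance
  | n + 1, E, _, _, hE, h => by
    let g : (E →₀ A) →ₗ[A] E := Finsupp.linearCombination A id
    have hg : Function.Surjective g := Finsupp.linearCombination_id_surjective A E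
    have hF : IsSMulRegular (E →₀ A) a := fun x y e => Finsupp.ext fun i => hA (DFunLike.congr_fun e i)
    have hK : IsSMulRegular (LinearMap.ker g) a := fun x y e => Subtype.ext (hF (congrArg Subtype.val e))
    have hex : Function.Exact (LinearMap.ker g).subtype g := LinearMap.exact_subtype_ker_map g
    have h' := pd_baseChange a hA n (LinearMap.ker g) hK
      ((Groth.Agent.ProjDim.shift_iff _ g Subtype.val_injective hex hg n).1 h)
    let Q := A ⧸ Ideal.span {a}
    let f₁ := (LinearMap.ker g).subtype.baseChange Q
    let g₁ := g.baseChange Q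
    have h1 : Function.Injective f₁ := by
      rw [injective_iff_map_eq_zero]
      intro t ht
      obtain ⟨k, rfl⟩ : ∃ k, (1 : Q) ⊗ₜ[A] k = t :=
        TensorProduct.mk_surjective A _ Q Ideal.Quotient.mk_surjective t
      rw [LinearMap.baseChange_tmul] at ht
      have hmem := congrArg (TensorProduct.quotTensorEquivQuotSMul (E →₀ A) (Ideal.span {a})) ht
      rw [TensorProduct.quotTensorEquivQuotSMul_mk_one_tmul, map_zero, Submodule.Quotient.mk_eq_zero,
        Submodule.ideal_span_singleton_smul] at hmem
      obtain ⟨x, -, hx⟩ := hmem
      have hxK : x ∈ LinearMap.ker g := by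
        refine hE ?_
        show a • g x = a • (0 : E)
        rw [← map_smul, show a • x = (LinearMap.ker g).subtype k from hx, smul_zero]
        exact k.2
      have : k = a • (⟨x, hxK⟩ : LinearMap.ker g) := Subtype.ext hx.symm
      rw [this, ← TensorProduct.smul_tmul, Algebra.smul_def, mul_one]
      rw [show algebraMap A Q a = 0 from Ideal.Quotient.eq_zero_iff_mem.2 (Ideal.mem_span_singleton_self a),
        TensorProduct.zero_tmul]
    obtain ⟨h2, h3⟩ := ker_baseChange_exact Q g hg
    exact (Groth.Agent.ProjDim.shift_iff f₁ g₁ h1 h2 h3 n).2 h'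

/-- Let A be a Noetherian local ring with maximal ideal m, E a finitely generated A-module of finite
projective dimension, and a ∈ m an element which is A-regular and E-regular. Then E/aE, as a module
over A/aA, has finite projective dimension at most the projective dimension of E over A. -/
theorem result (A : Type u) [CommRing A] [IsLocalRing A]
    [IsNoetherianRing A] (E : Type u) [AddCommGroup E] [Module A E] [Module.Finite A E]
    (hfin : projectiveDimension (ModuleCat.of A E) ≠ ⊤) (a : A) (ha : a ∈ IsLocalRing.maximalIdeal A)
    (hA : IsSMulRegular A a) (hE : IsSMulRegular E a) :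
    projectiveDimension (ModuleCat.of (A ⧸ Ideal.span {a}) (E ⧸ (Ideal.span {a} • (⊤ : Submodule A E)))) ≤
      projectiveDimension (ModuleCat.of A E) := by
  let e : TensorProduct A (A ⧸ Ideal.span {a}) E ≃ₗ[A ⧸ Ideal.span {a}]
      E ⧸ (Ideal.span {a} • (⊤ : Submodule A E)) :=
    (TensorProduct.quotTensorEquivQuotSMul E (Ideal.span {a})).extendScalarsOfSurjective
      Ideal.Quotient.mk_surjective
  rcases h : projectiveDimension (ModuleCat.of A E) with _ | m
  · have hz := (projectiveDimension_eq_bot_iff _).1 h
    have : Subsingleton E := ModuleCat.subsingleton_of_isZero hz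
    refine le_of_eq ((projectiveDimension_eq_bot_iff _).2 ?_)
    exact ModuleCat.isZero_of_subsingleton _
  · induction m with
    | top => exact absurd h hfin
    | coe m =>
      refine (projectiveDimension_le_iff _ m).2 ?_
      have hm : HasProjectiveDimensionLT (ModuleCat.of A E) (m + 1) :=
        (projectiveDimension_le_iff _ m).1 h.le
      have := pd_baseChange a hA m E hE hm
      exact hasProjectiveDimensionLT_of_iso e.toModuleIso (m + 1)

end Groth.Agent.S5782
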