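import Groth.Statements.S5787
import Mathlib
-- import your own Groth.Agent.* helpers here

set_option autoImplicit false
universe u
open CategoryTheory
open EGA41

namespace Groth.Agent.S5787

section
open CategoryTheory CategoryTheory.Abelian IsLocalRing RingTheory.Sequence
open scoped Pointwise
variable {A : Type u} [CommRing A] [IsLocalRing A]

noncomputable abbrev kk (A : Type u) [CommRing A] [IsLocalRing A] : ModuleCat.{u} A :=
  ModuleCat.of A (ResidueField A)

theorem smul_ext_eq_zero (M : ModuleCat.{u} A) {x : A} (hx : x ∈ maximalIdeal A) {n : ℕ}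
    (a : Ext (kk A) M n) : x • a = 0 := by
  have h : x • 𝟙 (kk A) = 0 := ModuleCat.hom_ext (LinearMap.ext fun y => by
    show x • (y : ResidueField A) = 0
    rw [Algebra.smul_def, show algebraMap A (ResidueField A) x = residue A x from rfl,
      (residue_eq_zero_iff x).2 hx, zero_mul])
  have h2 : (Ext.mk₀ (x • 𝟙 (kk A))).comp a (zero_add n) = x • a := by
    rw [Ext.mk₀_smul, Ext.smul_comp, Ext.mk₀_id_comp]
  rw [← h2, h, Ext.mk₀_zero, Ext.zero_comp]

theorem comp_smul_id (M : ModuleCat.{u} A) (x : A) {n : ℕ} (a : Ext (kk A) M n) :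
    a.comp (Ext.mk₀ (x • 𝟙 M)) (add_zero n) = x • a := by
  rw [Ext.mk₀_smul, Ext.comp_smul, Ext.comp_mk₀_id]

theorem rees : ∀ (xs : List A), (∀ x ∈ xs, x ∈ maximalIdeal A) → ∀ (M : ModuleCat.{u} A),
    IsWeaklyRegular M xs →
    (∀ i < xs.length, Subsingleton (Ext (kk A) M i)) ∧
    Nonempty ((ResidueField A →ₗ[A] (M ⧸ (Ideal.ofList xs • (⊤ : Submodule A M)))) ≃+
      Ext (kk A) M xs.length)
  | [], _, M, _ => by
    refine ⟨fun i hi => absurd hi (Nat.not_lt_zero i), ⟨?_⟩⟩
    let e : (M ⧸ (Ideal.ofList ([] : List A) • (⊤ : Submodule A M))) ≃ₗ[A] M :=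
      Submodule.quotEquivOfEqBot _ (by rw [Ideal.ofList_nil, Submodule.bot_smul])
    exact ((LinearEquiv.congrRight e).toAddEquiv.trans
      (ModuleCat.homAddEquiv (M := kk A) (N := M)).symm).trans Ext.addEquiv₀.symm
  | x :: rest, hmem, M, hreg => by
    obtain ⟨hx, hrest⟩ := (isWeaklyRegular_cons_iff (↥M) x rest).1 hreg
    have hxm : x ∈ maximalIdeal A := hmem x (List.mem_cons_self)
    let S := M.smulShortComplex x
    have hS : S.ShortExact := hx.smulShortComplex_shortExact
    obtain ⟨hvan, ⟨e⟩⟩ := rees rest (fun y hy => hmem y (List.mem_cons_of_mem x hy)) S.X₃ hrest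
    have hsurj : ∀ n (a : Ext (kk A) M (n + 1)), ∃ b : Ext (kk A) S.X₃ n, b.comp hS.extClass rfl = a :=
      fun n a => Ext.covariant_sequence_exact₁ (kk A) hS a
        ((comp_smul_id M x a).trans (smul_ext_eq_zero M hxm a)) rfl
    have hvanM : ∀ i < rest.length + 1, Subsingleton (Ext (kk A) M i) := by
      intro i hi
      match i with
      | 0 =>
        refine ⟨fun a b => ?_⟩
        obtain ⟨f, rfl⟩ := Ext.addEquiv₀.symm.surjective a
        obtain ⟨g, rfl⟩ := Ext.addEquiv₀.symm.surjective b
        congr 1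
        refine ModuleCat.hom_ext (LinearMap.ext fun y => hx ?_)
        show x • f.hom y = x • g.hom y
        have hy : x • y = 0 := by
          show x • (y : ResidueField A) = 0
          rw [Algebra.smul_def, show algebraMap A (ResidueField A) x = residue A x from rfl,
            (residue_eq_zero_iff x).2 hxm, zero_mul]
        rw [← map_smul, ← map_smul, hy, map_zero, map_zero]
      | n + 1 =>
        haveI := hvan n (by omega)
        refine ⟨fun a b => ?_⟩
        obtain ⟨a', rfl⟩ := hsurj n a
        obtain ⟨b', rfl⟩ := hsurj n b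
        rw [Subsingleton.elim a' b']
    refine ⟨hvanM, ?_⟩
    haveI := hvanM rest.length (Nat.lt_succ_self _)
    let δ : Ext (kk A) S.X₃ rest.length →+ Ext (kk A) M (rest.length + 1) :=
      hS.extClass.postcomp (kk A) rfl
    have hδ : Function.Bijective δ := by
      refine ⟨?_, fun a => hsurj _ a⟩
      rw [injective_iff_map_eq_zero]
      intro b hb
      obtain ⟨c, rfl⟩ := Ext.covariant_sequence_exact₃ (kk A) hS b rfl hb
      haveI : Subsingleton (Ext (kk A) S.X₂ rest.length) := hvanM rest.length (Nat.lt_succ_self _)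
      rw [Subsingleton.elim c 0, Ext.zero_comp]
    exact ⟨((LinearEquiv.congrRight (Submodule.quotOfListConsSMulTopEquivQuotSMulTopInner (↥M) x rest)).toAddEquiv.trans e).trans
      (AddEquiv.ofBijective δ hδ)⟩

end

/-- Let A be a Noetherian local ring with maximal ideal m and residue field k, M an A-module and
(x_i)_{1 ≤ i ≤ n} an M-regular sequence of elements of m. Then Hom_A(k, M/(x_1 M + ... + x_n M)) and
Ext^n_A(k, M) are isomorphic (existence of an isomorphism; stated for the underlying abelian
groups). -/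
theorem result (A : Type u) [CommRing A] [IsLocalRing A]
    [IsNoetherianRing A] (M : Type u) [AddCommGroup M] [Module A M] (xs : List A)
    (hxs : ∀ x ∈ xs, x ∈ IsLocalRing.maximalIdeal A) (hreg : RingTheory.Sequence.IsWeaklyRegular M xs) :
    Nonempty ((IsLocalRing.ResidueField A →ₗ[A] (M ⧸ (Ideal.ofList xs • (⊤ : Submodule A M)))) ≃+
      Abelian.Ext (ModuleCat.of A (IsLocalRing.ResidueField A)) (ModuleCat.of A M) xs.length) := by
  exact (rees xs hxs (ModuleCat.of A M) hreg).2

end Groth.Agent.S5787
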