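import Groth.Statements.S5798
import Mathlib
import Groth.Agent.H4KrullOpen.Basic
-- import your own Groth.Agent.* helpers here

set_option autoImplicit false
universe u
open TopDim

namespace Groth.Agent.S5798

/-- If (U_i) is an open covering of a topological space X, then dim(X) = sup_i dim(U_i). -/
theorem result (X : Type u) [TopologicalSpace X] (ι : Type u)
    (U : ι → TopologicalSpace.Opens X) (hcov : ⨆ i, U i = ⊤) :
    topologicalKrullDim X = ⨆ i, topologicalKrullDim (U i) := by
  refine le_antisymm ?_ (iSup_le fun i => topologicalKrullDim_subspace_le _ _)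
  refine iSup_le fun l => ?_
  obtain ⟨x, hx⟩ := (RelSeries.head l).isIrreducible.nonempty
  obtain ⟨i, hi⟩ := TopologicalSpace.Opens.mem_iSup.mp (hcov ▸ TopologicalSpace.Opens.mem_top x)
  exact le_iSup_of_le i
    (H4KrullOpen.length_le_topologicalKrullDim_open (U i) l ⟨x, hx, hi⟩)

end Groth.Agent.S5798
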