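import Groth.Statements.S5799
import Mathlib
-- import your own Groth.Agent.* helpers here

set_option autoImplicit false
universe u
open TopDim

namespace Groth.Agent.S5799

/-- If (X_i) is a locally finite covering of a topological space X by closed subsets, then dim(X) =
sup_i dim(X_i). -/
theorem result (X : Type u) [TopologicalSpace X]
    (ι : Type u) (Y : ι → Set X) (hY : ∀ i, IsClosed (Y i)) (hlf : LocallyFinite Y) (hcov : ⋃ i, Y i = Set.univ) :
    topologicalKrullDim X = ⨆ i, topologicalKrullDim (Y i) := by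
  classical
  refine le_antisymm ?_ (iSup_le fun i => topologicalKrullDim_subspace_le X (Y i))
  refine iSup_le fun l => ?_
  have hsub : ∀ T : TopologicalSpace.IrreducibleCloseds X, ∃ i, (T : Set X) ⊆ Y i := by
    intro T
    obtain ⟨x, hx⟩ := T.isIrreducible.nonempty
    obtain ⟨U, hU, hfin⟩ := hlf x
    obtain ⟨U', hU'U, hU'o, hxU'⟩ := mem_nhds_iff.mp hU
    have hdense : (T : Set X) ⊆ closure ((T : Set X) ∩ U') :=
      subset_closure_inter_of_isPreirreducible_of_isOpen T.isIrreducible.isPreirreducible hU'o ⟨x, hx, hxU'⟩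
    let F : Finset (Set X) := hfin.toFinset.image Y
    have hcl : ∀ z ∈ F, IsClosed z := fun z hz => by
      obtain ⟨i, -, rfl⟩ := Finset.mem_image.mp hz
      exact hY i
    have hcl' : IsClosed (⋃₀ (↑F : Set (Set X))) := by
      rw [Set.sUnion_eq_biUnion]
      exact F.finite_toSet.isClosed_biUnion hcl
    have hTF : (T : Set X) ⊆ ⋃₀ (↑F : Set (Set X)) := by
      refine hdense.trans (hcl'.closure_subset_iff.mpr ?_)
      rintro y ⟨-, hy⟩
      obtain ⟨i, hi⟩ := Set.mem_iUnion.mp (hcov ▸ Set.mem_univ y : y ∈ ⋃ i, Y i)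
      exact ⟨Y i, Finset.mem_image.mpr ⟨i, hfin.mem_toFinset.mpr ⟨y, hi, hU'U hy⟩, rfl⟩, hi⟩
    obtain ⟨z, hz, hTz⟩ := isIrreducible_iff_sUnion_isClosed.mp T.isIrreducible F hcl hTF
    obtain ⟨i, -, rfl⟩ := Finset.mem_image.mp hz
    exact ⟨i, hTz⟩
  obtain ⟨i, hi⟩ := hsub l.last
  have hle : ∀ j, ((l j : TopologicalSpace.IrreducibleCloseds X) : Set X) ⊆ Y i := fun j => by
    refine subset_trans ?_ hi
    exact l.monotone (Fin.le_last j)
  let m : Fin (l.length + 1) → TopologicalSpace.IrreducibleCloseds (Y i) := fun j =>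
    { carrier := Subtype.val ⁻¹' (l j : Set X)
      isIrreducible' := by
        refine ⟨?_, ?_⟩
        · obtain ⟨x, hx⟩ := (l j).isIrreducible.nonempty
          exact ⟨⟨x, hle j hx⟩, hx⟩
        · rintro u v ⟨U, hU, rfl⟩ ⟨V, hV, rfl⟩ ⟨a, ha, haU⟩ ⟨c, hc, hcV⟩
          obtain ⟨z, hz, hzUV⟩ := (l j).isIrreducible.isPreirreducible U V hU hV ⟨a, ha, haU⟩ ⟨c, hc, hcV⟩
          exact ⟨⟨z, hle j hz⟩, hz, hzUV⟩
      isClosed' := (l j).isClosed.preimage continuous_subtype_val }
  have hm : StrictMono m := by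
    intro a c hac
    have h := l.strictMono hac
    refine lt_of_le_not_ge (fun y hy => h.le hy) fun hge => h.not_ge ?_
    intro x hx
    exact hge (show (⟨x, hle c hx⟩ : Y i) ∈ Subtype.val ⁻¹' (l c : Set X) from hx)
  refine le_iSup_of_le i ?_
  exact Order.LTSeries.length_le_krullDim (LTSeries.mk l.length m hm)

end Groth.Agent.S5799
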