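import Mathlib
import Groth.Agent.S5797
import Groth.Statements.S5800
-- import your own Groth.Agent.* helpers here

set_option autoImplicit false
universe u
open TopDim

namespace Groth.Agent.S5800

/-- Let X be a topological space, x a point of X and (Y_i) a finite family of closed subsets each
containing x whose union is X. Then dim_x(X) = sup_i dim_x(Y_i). (The published statement lets the
Y_i be closed subsets of a neighbourhood U of x covering U; this row is the case U = X.) -/
theorem result (X : Type u) [TopologicalSpace X] (x : X)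
    (ι : Type u) [Finite ι] (Y : ι → Set X) (hY : ∀ i, IsClosed (Y i)) (hx : ∀ i, x ∈ Y i)
    (hcov : ⋃ i, Y i = Set.univ) :
    FlatMor.localDim X x = ⨆ i, FlatMor.localDim (Y i) ⟨x, hx i⟩ := by
  classical
  refine le_antisymm ?_ (iSup_le fun i => le_iInf fun U => ?_)
  · have hatt : ∀ i, ∃ V : TopologicalSpace.Opens X, x ∈ V ∧
        topologicalKrullDim ↥((Subtype.val ⁻¹' (V : Set X)) : Set (Y i)) ≤ FlatMor.localDim (Y i) ⟨x, hx i⟩ := by
      intro i
      haveI : Nonempty {W : TopologicalSpace.Opens (Y i) // (⟨x, hx i⟩ : Y i) ∈ W} := ⟨⟨⊤, trivial⟩⟩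
      obtain ⟨⟨W, hxW⟩, hW⟩ := ciInf_mem (fun W : {W : TopologicalSpace.Opens (Y i) // (⟨x, hx i⟩ : Y i) ∈ W} =>
        topologicalKrullDim (W.1 : Set (Y i)))
      obtain ⟨V, hVo, hVW⟩ := isOpen_induced_iff.1 W.isOpen
      refine ⟨⟨V, hVo⟩, (show (⟨x, hx i⟩ : Y i) ∈ Subtype.val ⁻¹' V by rw [hVW]; exact hxW), ?_⟩
      show topologicalKrullDim ↥((Subtype.val ⁻¹' V) : Set (Y i)) ≤ _
      rw [hVW]
      exact le_of_eq hW
    choose V hxV hV using hatt
    let U : TopologicalSpace.Opens X := ⟨⋂ i, (V i : Set X), isOpen_iInter_of_finite fun i => (V i).isOpen⟩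
    refine iInf_le_of_le ⟨U, Set.mem_iInter.2 hxV⟩ ?_
    rw [Groth.Agent.S5797.result (U : Set X) ι (fun i => Subtype.val ⁻¹' Y i) (fun i => (hY i).preimage continuous_subtype_val)
      (by rw [← Set.preimage_iUnion, hcov, Set.preimage_univ])]
    refine iSup_le fun i => le_iSup_of_le i (le_trans ?_ (hV i))
    let g : ((Subtype.val ⁻¹' Y i) : Set (U : Set X)) → ((Subtype.val ⁻¹' (V i : Set X)) : Set (Y i)) :=
      fun z => ⟨⟨z.1.1, z.2⟩, Set.mem_iInter.1 z.1.2 i⟩
    refine Topology.IsInducing.topologicalKrullDim_le (f := g) (Topology.IsInducing.of_comp (g := Subtype.val ∘ Subtype.val) ?_ ?_ ?_)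
    · exact Continuous.subtype_mk (Continuous.subtype_mk (continuous_subtype_val.comp continuous_subtype_val) _) _
    · exact continuous_subtype_val.comp continuous_subtype_val
    · have h : Topology.IsInducing (Subtype.val ∘ Subtype.val : ((Subtype.val ⁻¹' Y i) : Set (U : Set X)) → X) := Topology.IsInducing.subtypeVal.comp Topology.IsInducing.subtypeVal
      exact h
  · refine iInf_le_of_le ⟨⟨Subtype.val ⁻¹' (U.1 : Set X), U.1.isOpen.preimage continuous_subtype_val⟩, U.2⟩ ?_
    let g : ((Subtype.val ⁻¹' (U.1 : Set X)) : Set (Y i)) → (U.1 : Set X) := fun z => ⟨z.1.1, z.2⟩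
    refine Topology.IsInducing.topologicalKrullDim_le (f := g) (Topology.IsInducing.of_comp (g := Subtype.val) ?_ ?_ ?_)
    · exact Continuous.subtype_mk (continuous_subtype_val.comp continuous_subtype_val) _
    · exact continuous_subtype_val
    · have h : Topology.IsInducing (Subtype.val ∘ Subtype.val : ((Subtype.val ⁻¹' (U.1 : Set X)) : Set (Y i)) → X) := Topology.IsInducing.subtypeVal.comp Topology.IsInducing.subtypeVal
      exact h

end Groth.Agent.S5800
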