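import Mathlib
import Groth.Statements.S5801
-- import your own Groth.Agent.* helpers here

set_option autoImplicit false
universe u
open scoped Pointwise
open EGA41

namespace Groth.Agent.S5801

/-- Let A be a ring, M an A-module and f ∈ A, and consider the canonical surjection (M/fM)[T] → gr(M)
for the (f)-adic filtration, whose injectivity says: for all k ≥ 0 and x ∈ M, f^k x ∈ f^(k+1) M
implies x ∈ fM. If f is M-regular this map is bijective; conversely, if it is bijective and M is
separated for the (f)-adic topology (the intersection of the f^k M is zero), then f is M-regular. -/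
theorem result (A : Type u) [CommRing A] (M : Type u)
    [AddCommGroup M] [Module A M] (f : A) :
    (IsSMulRegular M f →
        ∀ (k : ℕ) (x : M), f ^ k • x ∈ f ^ (k + 1) • (⊤ : Submodule A M) → x ∈ f • (⊤ : Submodule A M)) ∧
      ((⨅ k : ℕ, f ^ k • (⊤ : Submodule A M)) = ⊥ →
        (∀ (k : ℕ) (x : M), f ^ k • x ∈ f ^ (k + 1) • (⊤ : Submodule A M) → x ∈ f • (⊤ : Submodule A M)) →
          IsSMulRegular M f) := by
  constructor
  · intro hreg k x hx
    obtain ⟨y, -, hy⟩ := (Submodule.mem_smul_pointwise_iff_exists _ _ _).mp hx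
    refine (Submodule.mem_smul_pointwise_iff_exists _ _ _).mpr ⟨y, Submodule.mem_top, ?_⟩
    exact (hreg.pow k) (by simp only; rw [← mul_smul, ← pow_succ]; exact hy)
  · intro hsep h x y hxy
    rw [← sub_eq_zero]
    have hz : f • (x - y) = 0 := by rw [smul_sub]; exact sub_eq_zero.mpr hxy
    rw [← Submodule.mem_bot A, ← hsep, Submodule.mem_iInf]
    intro k
    induction k with
    | zero => exact (Submodule.mem_smul_pointwise_iff_exists _ _ _).mpr ⟨x - y, Submodule.mem_top, by simp⟩
    | succ k ih =>
      obtain ⟨z, -, hz'⟩ := (Submodule.mem_smul_pointwise_iff_exists _ _ _).mp ih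
      obtain ⟨t, -, ht⟩ := (Submodule.mem_smul_pointwise_iff_exists _ _ _).mp (h (k + 1) z (by
        rw [show f ^ (k + 1) • z = f • f ^ k • z by rw [pow_succ', mul_smul], hz', hz]; exact zero_mem _))
      exact (Submodule.mem_smul_pointwise_iff_exists _ _ _).mpr ⟨t, Submodule.mem_top, by rw [pow_succ, mul_smul, ht, hz']⟩

end Groth.Agent.S5801
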