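import Groth.Statements.S5806
import Groth.Agent.FlatDepthFormula.Apps
-- import your own Groth.Agent.* helpers here

set_option autoImplicit false
universe u
open EGA41

namespace Groth.Agent.S5806
open Groth.Agent.FlatDepthFormula
open TensorProduct

open TensorProduct in
/-- Let A be a ring, B a commutative A-algebra, (f_i)_{1 ≤ i ≤ n} elements of B and M a B-module.
Suppose (f_i) is M-regular and each of the A-modules M/(f_1 M + ... + f_i M), 0 ≤ i ≤ n, is flat.
Then for every ring homomorphism A → A', writing M' = M ⊗_A A' and f'_i = f_i ⊗ 1, the sequence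
(f'_i) is M'-regular and the A'-modules M'/(f'_1 M' + ... + f'_{i-1} M') are flat: concretely,
identifying M'/(f'_1 M' + ... + f'_{i-1} M') with A' ⊗_A (M/(f_1 M + ... + f_{i-1} M)),
multiplication by f_i on the latter is injective and the latter is A'-flat, for 1 ≤ i ≤ n. (The
published hypothesis lists only the flatness of M/(f_1 M + ... + f_{i-1} M) for 1 ≤ i ≤ n, omitting
M/(f_1 M + ... + f_n M); with that omission the case n = 1, A = B = k[t], M = k[t], f_1 = t, A' =
k[t]/(t) fails, since t acts as zero on k ⊗_A M = k, and the published proof uses the flatness of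
M/(f_1 M + ... + f_i M) for every i ≤ n; so flatness of all these quotients is assumed here.) -/
theorem result (A B : Type u) [CommRing A]
    [CommRing B] [Algebra A B] (M : Type u) [AddCommGroup M] [Module B M] [Module A M] [IsScalarTower A B M]
    (fs : List B) (hreg : RingTheory.Sequence.IsWeaklyRegular M fs)
    (hflat : ∀ i : ℕ, i ≤ fs.length → Module.Flat A (M ⧸ (Ideal.ofList (fs.take i) • (⊤ : Submodule B M))))
    (A' : Type u) [CommRing A'] [Algebra A A'] (i : Fin fs.length) :
    Function.Injective (LinearMap.lTensor A'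
        (((LinearMap.lsmul B (M ⧸ (Ideal.ofList (fs.take i) • (⊤ : Submodule B M)))) (fs.get i)).restrictScalars A)) ∧
      Module.Flat A' (A' ⊗[A] (M ⧸ (Ideal.ofList (fs.take i) • (⊤ : Submodule B M)))) := by
  haveI := hflat i i.2.le
  haveI := hflat (i + 1) i.2
  refine ⟨?_, inferInstance⟩
  have hreg' := hreg.regular_mod_prev i i.2
  let P : Submodule B M := Ideal.ofList (fs.take i) • ⊤
  let π : M ⧸ P →ₗ[A] M ⧸ (Ideal.ofList (fs.take (i + 1)) • (⊤ : Submodule B M)) :=
    (Submodule.mapQ _ _ LinearMap.id (show Ideal.ofList (fs.take i) • (⊤ : Submodule B M) ≤ (Ideal.ofList (fs.take (i + 1)) • (⊤ : Submodule B M)).comap LinearMap.id from Submodule.smul_mono_left (show Ideal.ofList (fs.take i) ≤ Ideal.ofList (fs.take (i + 1)) by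
      rw [List.take_add_one, Ideal.ofList_append]; exact le_sup_left))).restrictScalars A
  have hg : Function.Injective (((LinearMap.lsmul B (M ⧸ P)) (fs.get i)).restrictScalars A) :=
    fun a b hab => by
      simp only [LinearMap.restrictScalars_apply, LinearMap.lsmul_apply, List.get_eq_getElem] at hab
      exact hreg' hab
  have hπ : Function.Surjective π := fun y => by
    obtain ⟨m, rfl⟩ := Submodule.Quotient.mk_surjective _ y
    exact ⟨Submodule.Quotient.mk m, by simp only [π, LinearMap.restrictScalars_apply, Submodule.mapQ_apply, LinearMap.id_apply]⟩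
  suffices hex : Function.Exact (((LinearMap.lsmul B (M ⧸ P)) (fs.get i)).restrictScalars A) π by
    exact LinearMap.lTensor_injective_of_exact_of_flat π hπ _ hg hex A'
  intro q
  obtain ⟨m, rfl⟩ := Submodule.Quotient.mk_surjective _ q
  simp only [π, LinearMap.restrictScalars_apply, Submodule.mapQ_apply, LinearMap.id_apply, Set.mem_range, LinearMap.lsmul_apply]
  rw [Submodule.Quotient.mk_eq_zero, List.take_add_one, Ideal.ofList_append, List.getElem?_eq_getElem i.2,
    Option.toList_some, Ideal.ofList_singleton, Submodule.sup_smul, Submodule.ideal_span_singleton_smul, Submodule.mem_sup]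
  constructor
  · rintro ⟨a, ha, b, hb, rfl⟩
    obtain ⟨c, -, rfl⟩ := (Submodule.mem_smul_pointwise_iff_exists _ _ _).mp hb
    refine ⟨Submodule.Quotient.mk c, ?_⟩
    show fs.get i • (Submodule.Quotient.mk c : M ⧸ P) = _
    rw [← Submodule.Quotient.mk_smul, Submodule.Quotient.mk_add, (Submodule.Quotient.mk_eq_zero _).mpr ha, zero_add]
    rfl
  · rintro ⟨c, hc⟩
    obtain ⟨c, rfl⟩ := Submodule.Quotient.mk_surjective _ c
    have h : m - fs.get i • c ∈ P := by
      rw [← Submodule.Quotient.eq, Submodule.Quotient.mk_smul]
      exact hc.symm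
    exact ⟨_, h, _, Submodule.smul_mem_pointwise_smul c (fs.get i) ⊤ Submodule.mem_top, sub_add_cancel _ _⟩

end Groth.Agent.S5806
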