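import Groth.Statements.S5807
import Mathlib
-- import your own Groth.Agent.* helpers here

set_option autoImplicit false
universe u
open EGA41

namespace Groth.Agent.S5807

theorem isRegularRing_loc {T : Type u} [CommRing T] [IsRegularRing T] (M : Submonoid T) :
    IsRegularRing (Localization M) := by
  haveI := IsLocalization.isNoetherianRing M (Localization M) inferInstance
  rw [isRegularRing_iff]
  intro P _
  haveI := IsLocalization.isLocalization_isLocalization_atPrime_isLocalization M (Localization.AtPrime P) P
  exact IsRegularLocalRing.of_ringEquiv
    (IsLocalization.algEquiv (P.comap (algebraMap T (Localization M))).primeCompl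
      (Localization.AtPrime (P.comap (algebraMap T (Localization M))))
      (Localization.AtPrime P)).toRingEquiv

/-- Let A be a Noetherian ring which is a quotient of a regular ring B, and C an A-algebra of finite
type. Then every ring of fractions of C is a quotient of a regular ring. -/
theorem result (B A C : Type u) [CommRing B]
    [IsRegularRing B] [CommRing A] (π : B →+* A) (hπ : Function.Surjective π) [CommRing C] [Algebra A C]
    [Algebra.FiniteType A C] (S : Submonoid C) :
    ∃ (R : Type u) (_ : CommRing R) (_ : IsRegularRing R) (f : R →+* Localization S),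
      Function.Surjective f := by
  classical
  obtain ⟨n, g, hg⟩ := Algebra.FiniteType.iff_quotient_mvPolynomial''.1 (inferInstance : Algebra.FiniteType A C)
  let φ : MvPolynomial (Fin n) B →+* C := g.toRingHom.comp (MvPolynomial.map π)
  have hφ : Function.Surjective φ := hg.comp (MvPolynomial.map_surjective π hπ)
  refine ⟨Localization (S.comap φ), inferInstance, isRegularRing_loc _,
    IsLocalization.map (M := S.comap φ) (T := S) (S := Localization (S.comap φ)) (Localization S) φ (le_refl _), ?_⟩
  intro z
  obtain ⟨⟨c, s⟩, rfl⟩ := IsLocalization.mk'_surjective S z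
  obtain ⟨c', rfl⟩ := hφ c
  obtain ⟨s', hs'⟩ := hφ (s : C)
  have hs : s' ∈ S.comap φ := by
    show φ s' ∈ S
    rw [hs']; exact s.2
  refine ⟨IsLocalization.mk' _ c' ⟨s', hs⟩, ?_⟩
  rw [IsLocalization.map_mk']
  congr 1
  exact Subtype.ext hs'

end Groth.Agent.S5807
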