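import Mathlib
import Groth.Statements.S5813
-- import your own Groth.Agent.* helpers here

set_option autoImplicit false
universe u
open EGA41

namespace Groth.Agent.S5813

/-- Injectivity, commutative form. Let J be an ideal of the commutative ring B, C = B ⧸ J, M a C-module.
Two B-extensions of C by M whose induced linear maps J/J² → M (obtained from the restriction to J of
the structure map B → E) coincide are equivalent. -/
theorem result {B : Type u} [CommRing B] (J : Ideal B)
    {M : Type u} [AddCommGroup M] [Module (B ⧸ J) M] [Module B M] [IsScalarTower B (B ⧸ J) M]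
    (X Y : Exal.Ext B (B ⧸ J) M) (h : X.conormalMap J = Y.conormalMap J) :
    Nonempty (X.Equiv Y) := by
  classical
  have key : ∀ (U V : Exal.Ext B (B ⧸ J) M), U.conormalMap J = V.conormalMap J → ∀ (b b' : B) (m m' : M),
      algebraMap B U.E b + U.incl m = algebraMap B U.E b' + U.incl m' →
      algebraMap B V.E b + V.incl m = algebraMap B V.E b' + V.incl m' := by
    intro U V huv b b' m m' he
    have hp : ∀ z : M, U.proj (U.incl z) = 0 := fun z => (U.isExtension.exact _).2 ⟨z, rfl⟩
    have hbJ : b - b' ∈ J := by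
      have := congrArg U.proj he
      rw [map_add, map_add, hp, hp, add_zero, add_zero, AlgHom.commutes, AlgHom.commutes] at this
      exact Ideal.Quotient.eq.mp this
    have hcU : U.incl (U.idealToKer J ⟨b - b', hbJ⟩) = algebraMap B U.E (b - b') :=
      Exal.Ext.incl_kerLift U (algebraMap B U.E ((⟨b - b', hbJ⟩ : J) : B)) (U.proj_algebraMap_eq_zero J ⟨b - b', hbJ⟩)
    have hcV : V.incl (V.idealToKer J ⟨b - b', hbJ⟩) = algebraMap B V.E (b - b') :=
      Exal.Ext.incl_kerLift V (algebraMap B V.E ((⟨b - b', hbJ⟩ : J) : B)) (V.proj_algebraMap_eq_zero J ⟨b - b', hbJ⟩)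
    have hw : U.idealToKer J ⟨b - b', hbJ⟩ = V.idealToKer J ⟨b - b', hbJ⟩ :=
      LinearMap.congr_fun huv (J.toCotangent ⟨b - b', hbJ⟩)
    have hmm : U.idealToKer J ⟨b - b', hbJ⟩ = m' - m := U.isExtension.incl_injective (by
      rw [hcU, map_sub U.incl, map_sub]; linear_combination he)
    rw [← hw, hmm, map_sub, map_sub] at hcV
    linear_combination -hcV
  have mulf : ∀ (U : Exal.Ext B (B ⧸ J) M) (b b' : B) (m m' : M),
      (algebraMap B U.E b + U.incl m) * (algebraMap B U.E b' + U.incl m') =
      algebraMap B U.E (b * b') + U.incl (b • m' + b' • m) := by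
    intro U b b' m m'
    have h1 : ∀ c z, algebraMap B U.E c * U.incl z = U.incl (c • z) := fun c z => by
      rw [U.isExtension.mul_incl, AlgHom.commutes, algebraMap_smul]
    have h2 : U.incl m * U.incl m' = 0 := by
      rw [U.isExtension.mul_incl, (U.isExtension.exact _).2 ⟨m, rfl⟩, zero_smul, map_zero]
    rw [map_add U.incl, ← h1 b m', ← h1 b' m, map_mul]
    linear_combination h2
  have dec : ∀ (U : Exal.Ext B (B ⧸ J) M) (x : U.E), ∃ (b : B) (m : M), x = algebraMap B U.E b + U.incl m := by
    intro U x
    obtain ⟨b, hb⟩ := Ideal.Quotient.mk_surjective (U.proj x)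
    have h0 : U.proj (x - algebraMap B U.E b) = 0 := by
      rw [map_sub, AlgHom.commutes, Ideal.Quotient.algebraMap_eq, hb, sub_self]
    obtain ⟨m, hm⟩ := (U.isExtension.exact _).1 h0
    exact ⟨b, m, by rw [hm]; ring⟩
  choose bb mm hdec using dec
  let φ : ∀ (U V : Exal.Ext B (B ⧸ J) M), U.E → V.E := fun U V x => algebraMap B V.E (bb U x) + V.incl (mm U x)
  have hφ : ∀ (U V : Exal.Ext B (B ⧸ J) M), U.conormalMap J = V.conormalMap J → ∀ b m,
      φ U V (algebraMap B U.E b + U.incl m) = algebraMap B V.E b + V.incl m := fun U V huv b m =>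
    key U V huv _ _ _ _ (hdec U _).symm
  let e : X.E ≃ₐ[B] Y.E :=
    { toFun := φ X Y
      invFun := φ Y X
      left_inv := fun x => (hφ Y X h.symm _ _).trans (hdec X x).symm
      right_inv := fun y => (hφ X Y h _ _).trans (hdec Y y).symm
      map_mul' := fun x y => by
        conv_lhs => rw [hdec X x, hdec X y, mulf, hφ X Y h]
        rw [← mulf]
      map_add' := fun x y => by
        have e1 : x + y = algebraMap B X.E (bb X x + bb X y) + X.incl (mm X x + mm X y) := by
          conv_lhs => rw [hdec X x, hdec X y]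
          rw [map_add, map_add]; ring
        rw [e1, hφ X Y h, map_add, map_add]
        change _ = (algebraMap B Y.E (bb X x) + Y.incl (mm X x)) + (algebraMap B Y.E (bb X y) + Y.incl (mm X y))
        ring
      commutes' := fun b => by
        have := hφ X Y h b 0
        simpa using this }
  refine ⟨⟨e, fun x => ?_, fun z => ?_⟩⟩
  · change Y.proj (φ X Y x) = X.proj x
    conv_rhs => rw [hdec X x]
    simp only [φ, map_add, AlgHom.commutes, (Y.isExtension.exact _).2 ⟨_, rfl⟩, (X.isExtension.exact _).2 ⟨_, rfl⟩]
  · have := hφ X Y h 0 z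
    simpa [e] using this

end Groth.Agent.S5813
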