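import Mathlib
import Groth.Statements.S5814
-- import your own Groth.Agent.* helpers here

set_option autoImplicit false
universe u
open EGA41

namespace Groth.Agent.S5814

set_option backward.isDefEq.respectTransparency false
set_option backward.isDefEq.respectTransparency.types false

/-- Surjectivity, commutative form. Let J be an ideal of the commutative ring B, C = B ⧸ J, M a
C-module. Every linear map w : J/J² → M arises from a B-extension of C by M: there is an extension
whose induced map J/J² → M is w. Together with the injectivity statement this is the canonical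
bijection between Hom_C(J/J², M) and the classes of B-extensions of C by M. -/
theorem result {B : Type u} [CommRing B] (J : Ideal B)
    {M : Type u} [AddCommGroup M] [Module (B ⧸ J) M] [Module B M] [IsScalarTower B (B ⧸ J) M]
    (w : J.Cotangent →ₗ[B] M) :
    ∃ X : Exal.Ext B (B ⧸ J) M, X.conormalMap J = w := by
  letI : Module Bᵐᵒᵖ M := Exal.opModule B M
  haveI : IsCentralScalar B M := Exal.isCentralScalar_opModule B M
  have hJ : ∀ j ∈ J, ∀ m : M, j • m = 0 := fun j hj m => by
    rw [← IsScalarTower.algebraMap_smul (B ⧸ J) j, Ideal.Quotient.algebraMap_eq, Ideal.Quotient.eq_zero_iff_mem.2 hj, zero_smul]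
  let N : Ideal (TrivSqZeroExt B M) :=
    { carrier := {x | ∃ h : x.fst ∈ J, x.snd = - w (J.toCotangent ⟨x.fst, h⟩)}
      zero_mem' := ⟨(J.zero_mem : (0 : B) ∈ J), show (0 : M) = - w (J.toCotangent (0 : J)) by rw [map_zero, map_zero, neg_zero]⟩
      add_mem' := by
        rintro x y ⟨hx, hx'⟩ ⟨hy, hy'⟩
        refine ⟨by simpa using J.add_mem hx hy, ?_⟩
        rw [TrivSqZeroExt.snd_add, hx', hy', ← neg_add, ← map_add, ← map_add]
        exact congrArg (fun t => - w (J.toCotangent t)) (Subtype.ext (by simp))
      smul_mem' := by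
        rintro c x ⟨hx, hx'⟩
        have hm : (c * x).fst ∈ J := by simpa using J.mul_mem_left c.fst hx
        refine ⟨hm, ?_⟩
        change (c * x).snd = - w (J.toCotangent ⟨(c * x).fst, hm⟩)
        rw [show (⟨(c * x).fst, hm⟩ : J) = c.fst • ⟨x.fst, hx⟩ from Subtype.ext (by simp), map_smul, map_smul,
          TrivSqZeroExt.snd_mul, op_smul_eq_smul, hJ _ hx, add_zero, hx', smul_neg] }
  let p : TrivSqZeroExt B M →ₐ[B] B ⧸ J := (Ideal.Quotient.mkₐ B J).comp (TrivSqZeroExt.fstHom B B M)
  have hmemN : ∀ x : TrivSqZeroExt B M, x ∈ N ↔ ∃ h : x.fst ∈ J, x.snd = - w (J.toCotangent ⟨x.fst, h⟩) := fun x => Iff.rfl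
  let q : (TrivSqZeroExt B M ⧸ N) →ₐ[B] B ⧸ J := Ideal.Quotient.liftₐ N p (fun x hx => Ideal.Quotient.eq_zero_iff_mem.mpr hx.1)
  let X : Exal.Ext B (B ⧸ J) M :=
    { E := TrivSqZeroExt B M ⧸ N
      proj := q
      incl := ((Ideal.Quotient.mk N).toAddMonoidHom).comp (TrivSqZeroExt.inrHom B M).toAddMonoidHom
      isExtension :=
        { proj_surjective := fun c => by
            obtain ⟨b, rfl⟩ := Ideal.Quotient.mk_surjective c
            exact ⟨Ideal.Quotient.mk N (TrivSqZeroExt.inl b), rfl⟩
          incl_injective := by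
            refine (injective_iff_map_eq_zero _).mpr fun m hm => ?_
            change Ideal.Quotient.mk N (TrivSqZeroExt.inr m) = 0 at hm
            obtain ⟨h, hm'⟩ := (hmemN _).mp (Ideal.Quotient.eq_zero_iff_mem.mp hm)
            rw [TrivSqZeroExt.snd_inr, show (⟨(TrivSqZeroExt.inr m : TrivSqZeroExt B M).fst, h⟩ : J) = 0 from
              Subtype.ext (TrivSqZeroExt.fst_inr _ m), map_zero, map_zero, neg_zero] at hm'
            exact hm'
          exact := fun x => by
            obtain ⟨x, rfl⟩ := Ideal.Quotient.mk_surjective x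
            constructor
            · intro hx
              have hx1 : x.fst ∈ J := (Ideal.Quotient.eq_zero_iff_mem (I := J)).mp hx
              refine ⟨x.snd + w (J.toCotangent ⟨x.fst, hx1⟩), ?_⟩
              change Ideal.Quotient.mk N (TrivSqZeroExt.inr _) = Ideal.Quotient.mk N x
              refine (Ideal.Quotient.eq.mpr ?_).symm
              refine (hmemN _).mpr ⟨by simpa using hx1, ?_⟩
              rw [TrivSqZeroExt.snd_sub, TrivSqZeroExt.snd_inr,
                show x.snd - (x.snd + w (J.toCotangent ⟨x.fst, hx1⟩)) = - w (J.toCotangent ⟨x.fst, hx1⟩) by abel]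
              exact congrArg (fun t => - w (J.toCotangent t)) (Subtype.ext (by simp))
            · rintro ⟨m, hm⟩
              rw [← hm]
              exact Ideal.Quotient.eq_zero_iff_mem.mpr (by simp)
          mul_incl := fun x m => by
            obtain ⟨x, rfl⟩ := Ideal.Quotient.mk_surjective x
            change Ideal.Quotient.mk N x * Ideal.Quotient.mk N (TrivSqZeroExt.inr m) =
              Ideal.Quotient.mk N (TrivSqZeroExt.inr (Ideal.Quotient.mk J x.fst • m))
            rw [← map_mul, ← Ideal.Quotient.algebraMap_eq J, algebraMap_smul]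
            congr 1
            exact TrivSqZeroExt.ext (by simp) (by simp) } }
  refine ⟨X, LinearMap.ext fun c => ?_⟩
  obtain ⟨z, rfl⟩ := J.toCotangent_surjective c
  change X.idealToKer J z = w (J.toCotangent z)
  apply X.isExtension.incl_injective
  refine (Exal.Ext.incl_kerLift X (algebraMap B X.E (z : B)) (X.proj_algebraMap_eq_zero J z)).trans ?_
  change Ideal.Quotient.mk N (algebraMap B (TrivSqZeroExt B M) z) = Ideal.Quotient.mk N (TrivSqZeroExt.inr _)
  refine Ideal.Quotient.eq.mpr ?_
  have hfz : (algebraMap B (TrivSqZeroExt B M) z - TrivSqZeroExt.inr (w (J.toCotangent z))).fst = (z : B) := by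
    simp [TrivSqZeroExt.algebraMap_eq_inl]
  refine (hmemN _).mpr ⟨hfz.symm ▸ z.2, ?_⟩
  have hs : (algebraMap B (TrivSqZeroExt B M) z - TrivSqZeroExt.inr (w (J.toCotangent z))).snd = - w (J.toCotangent z) := by
    simp [TrivSqZeroExt.algebraMap_eq_inl]
  exact hs.trans (congrArg (fun t => - w (J.toCotangent t)) (Subtype.ext hfz.symm))

end Groth.Agent.S5814
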