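import Mathlib
import Groth.Statements.S5815
-- import your own Groth.Agent.* helpers here

set_option autoImplicit false
universe u
open EGA41

namespace Groth.Agent.S5815

/-- Discrete case. A commutative A-algebra B is formally smooth if and only if every A-extension of B by
a B-module L is trivial (has an A-algebra section). A and B are taken in one universe and L ranges
over that universe. (The published statement is for topological rings, with direct-limit classes of
extensions; this row is its discrete case.) -/
theorem result (A B : Type u) [CommRing A] [CommRing B] [Algebra A B] :
    Algebra.FormallySmooth A B ↔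
      ∀ (L : Type u) [AddCommGroup L] [Module B L] (X : Exal.Ext A B L), X.IsTrivial := by
  constructor
  · intro hfs L _ _ X
    have hnil : IsNilpotent (RingHom.ker (X.proj : X.E →+* B)) := by
      refine ⟨2, le_bot_iff.mp ?_⟩
      rw [pow_two, Ideal.mul_le]
      intro x hx y hy
      obtain ⟨z, rfl⟩ := (X.isExtension.exact y).mp hy
      rw [Ideal.mem_bot, X.isExtension.mul_incl, show X.proj x = 0 from hx, zero_smul, map_zero]
    refine ⟨Algebra.FormallySmooth.liftOfSurjective (AlgHom.id A B) X.proj X.isExtension.proj_surjective hnil, fun b => ?_⟩
    exact AlgHom.congr_fun (Algebra.FormallySmooth.comp_liftOfSurjective (AlgHom.id A B) X.proj X.isExtension.proj_surjective hnil) b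
  · intro h
    let f : MvPolynomial B A →ₐ[A] B := MvPolynomial.aeval id
    have hf : Function.Surjective f := fun b => ⟨MvPolynomial.X b, by simp [f]⟩
    rw [Algebra.FormallySmooth.iff_split_surjection f hf]
    set I := RingHom.ker f.toRingHom with hI
    let e : (MvPolynomial B A ⧸ I) ≃+* B := RingHom.quotientKerEquivOfSurjective (f := f.toRingHom) hf
    letI : Module B I.Cotangent := Module.compHom I.Cotangent e.symm.toRingHom
    let X : Exal.Ext A B I.Cotangent :=
      { E := MvPolynomial B A ⧸ I ^ 2
        proj := f.kerSquareLift
        incl := I.cotangentToQuotientSquare.toAddMonoidHom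
        isExtension :=
          { proj_surjective := fun b => by
              obtain ⟨x, rfl⟩ := hf b
              exact ⟨Ideal.Quotient.mk _ x, rfl⟩
            incl_injective := I.cotangentToQuotientSquare_injective
            exact := fun x => by
              obtain ⟨x, rfl⟩ := Ideal.Quotient.mk_surjective x
              constructor
              · intro hx
                exact ⟨I.toCotangent ⟨x, hx⟩, I.toCotangent_to_quotient_square _⟩
              · rintro ⟨z, hz⟩
                obtain ⟨z, rfl⟩ := I.toCotangent_surjective z
                rw [LinearMap.toAddMonoidHom_coe, Ideal.toCotangent_to_quotient_square] at hz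
                rw [← hz]
                exact z.2
            mul_incl := fun x z => by
              obtain ⟨x, rfl⟩ := Ideal.Quotient.mk_surjective x
              obtain ⟨z, rfl⟩ := I.toCotangent_surjective z
              have hes : e.symm (f x) = Ideal.Quotient.mk I x := by
                rw [RingEquiv.symm_apply_eq]; rfl
              change (Ideal.Quotient.mk (I ^ 2) x) * (Ideal.Quotient.mk (I ^ 2) (z : MvPolynomial B A)) =
                I.cotangentToQuotientSquare (e.symm (f x) • I.toCotangent z)
              rw [hes, ← Ideal.Quotient.algebraMap_eq I, algebraMap_smul, ← map_smul, Ideal.toCotangent_to_quotient_square]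
              rfl } }
    obtain ⟨s, hs⟩ := h I.Cotangent X
    exact ⟨s, AlgHom.ext hs⟩

end Groth.Agent.S5815
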