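import Groth.Statements.S5819
import Mathlib
-- import your own Groth.Agent.* helpers here

set_option autoImplicit false
universe u v
open EGA41

namespace Groth.Agent.S5819

/-- Commutative rings, exactness at Exalcom_A(C, L) on underlying pointed sets. For ring maps A → B → C
and a C-module L, an A-extension Y of C by L pulls back to a trivial A-extension of B if and only if
Y is equivalent to some B-extension of C by L viewed as an A-extension. -/
theorem result {A : Type u} {B C L : Type v} [CommRing A]
    [CommRing B] [CommRing C] [Algebra A B] [Algebra B C] [Algebra A C] [IsScalarTower A B C]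
    [AddCommGroup L] [Module C L] [Module B L] [IsScalarTower B C L]
    (Y : Exal.Ext A C L) :
    (Y.pullback B).IsTrivial ↔
      ∃ X : Exal.Ext B C L, Nonempty ((X.restrictBase A).Equiv Y) := by
  constructor
  · rintro ⟨σ, hσ⟩
    let s : B →ₐ[A] Y.E := (AlgHom.fst A Y.E B).comp ((Y.fiberProd B).val.comp σ)
    have hs : ∀ b, Y.proj (s b) = algebraMap B C b := fun b => by
      have h1 : Y.proj (σ b).1.1 = algebraMap B C (σ b).1.2 := by
        have h := (σ b).2
        exact h
      have h2 : (σ b).1.2 = b := hσ b
      rw [h2] at h1
      exact h1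
    letI : Algebra B Y.E := s.toRingHom.toAlgebra
    let p : Y.E →ₐ[B] C := { Y.proj.toRingHom with commutes' := hs }
    let X : Exal.Ext B C L :=
      { E := Y.E
        proj := p
        incl := Y.incl
        isExtension := ⟨Y.isExtension.proj_surjective, Y.isExtension.incl_injective, Y.isExtension.exact,
          Y.isExtension.mul_incl⟩ }
    refine ⟨X, ⟨⟨AlgEquiv.ofRingEquiv (f := (RingEquiv.refl Y.E : (X.restrictBase A).E ≃+* Y.E)) (fun a => ?_), fun x => rfl, fun z => rfl⟩⟩⟩
    show s (algebraMap A B a) = algebraMap A Y.E a
    exact s.commutes a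
  · rintro ⟨X, ⟨e⟩⟩
    let ι : B →ₐ[A] (X.restrictBase A).E :=
      { toFun := fun b => (algebraMap B X.E b : X.E)
        map_one' := map_one (algebraMap B X.E)
        map_mul' := map_mul (algebraMap B X.E)
        map_zero' := map_zero (algebraMap B X.E)
        map_add' := map_add (algebraMap B X.E)
        commutes' := fun a => rfl }
    let s : B →ₐ[A] Y.E := e.toAlgEquiv.toAlgHom.comp ι
    have hs : ∀ b, Y.proj (s b) = algebraMap B C b := fun b => by
      show Y.proj (e.toAlgEquiv (ι b)) = _
      rw [e.proj_apply]
      exact X.proj.commutes b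
    refine ⟨(s.prod (AlgHom.id A B)).codRestrict (Y.fiberProd B) fun b => ?_, fun b => rfl⟩
    simpa [Exal.Ext.fiberProd, AlgHom.mem_equalizer] using hs b

end Groth.Agent.S5819
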