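import Groth.Statements.S5825
import Mathlib.Topology.Algebra.Group.Basic
import Mathlib.Topology.Algebra.OpenSubgroup
-- import your own Groth.Agent.* helpers here

set_option autoImplicit false
universe u v w
open EGA41

namespace Groth.Agent.S5825

/-- Let A be a topological ring, M, N topological A-modules with the topologies deduced from that of A,
and u : M → N a continuous linear map with dense image (a formal epimorphism). Then u is a formal
bimorphism (dense image and inducing) if and only if, for every open ideal J of A, the induced map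
M/JM → N/JN is bijective (injectivity and surjectivity are written out elementwise). -/
theorem result {A : Type u} {M : Type v} {N : Type w} [CommRing A]
    [TopologicalSpace A] [AddCommGroup M] [Module A M] [TopologicalSpace M] [AddCommGroup N] [Module A N]
    [TopologicalSpace N] (hM : TopMod.IsDeduced A M) (hN : TopMod.IsDeduced A N) (u : M →L[A] N)
    (hu : DenseRange u) :
    IsDenseInducing u ↔
      ∀ J : Ideal A, IsOpen (J : Set A) →
        (∀ x : M, u x ∈ (J • ⊤ : Submodule A N) → x ∈ (J • ⊤ : Submodule A M)) ∧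
          ∀ y : N, ∃ x : M, y - u x ∈ (J • ⊤ : Submodule A N) := by
  haveI := hM.1
  haveI := hN.1
  have hsurj : ∀ (J : Ideal A), IsOpen (J : Set A) → ∀ y : N, ∃ x : M, y - u x ∈ (J • ⊤ : Submodule A N) := by
    intro J hJ y
    have h : (fun z => y - z) ⁻¹' ((J • ⊤ : Submodule A N) : Set N) ∈ nhds y :=
      (continuous_const.sub continuous_id).continuousAt.preimage_mem_nhds
        (by simpa using hN.2.mem_of_mem hJ)
    obtain ⟨z, hz, x, rfl⟩ := mem_closure_iff_nhds.1 (hu y) _ h
    exact ⟨x, hz⟩
  constructor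
  · intro hi J hJ
    refine ⟨fun x hx => ?_, hsurj J hJ⟩
    have h1 : ((J • ⊤ : Submodule A M) : Set M) ∈ nhds (0 : M) := hM.2.mem_of_mem hJ
    rw [hi.toIsInducing.nhds_eq_comap, Filter.mem_comap, map_zero] at h1
    obtain ⟨t, ht, htJ⟩ := h1
    obtain ⟨J', hJ', hJt⟩ := hN.2.mem_iff.1 ht
    have key : ∀ y ∈ (J • ⊤ : Submodule A N),
        ∃ m ∈ (J • ⊤ : Submodule A M), y - u m ∈ (J' • ⊤ : Submodule A N) := by
      intro y hy
      refine Submodule.smul_induction_on hy (fun a ha n _ => ?_) ?_
      · obtain ⟨m, hm⟩ := hsurj J' hJ' n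
        refine ⟨a • m, Submodule.smul_mem_smul ha trivial, ?_⟩
        rw [map_smul, ← smul_sub]
        exact Submodule.smul_mem _ a hm
      · rintro y z ⟨m, hm, hy⟩ ⟨m', hm', hz⟩
        refine ⟨m + m', add_mem hm hm', ?_⟩
        rw [map_add, add_sub_add_comm]
        exact add_mem hy hz
    obtain ⟨m, hm, hxm⟩ := key _ hx
    rw [← map_sub] at hxm
    exact (Submodule.sub_mem_iff_left _ hm).1 (htJ (hJt hxm))
  · intro h
    refine ⟨IsTopologicalAddGroup.isInducing_iff_nhds_zero.2 (le_antisymm ?_ ?_), hu⟩
    · refine Filter.map_le_iff_le_comap.1 ?_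
      exact u.continuous.tendsto' 0 0 (map_zero u)
    · intro s hs
      obtain ⟨J, hJ, hJs⟩ := hM.2.mem_iff.1 hs
      exact Filter.mem_comap.2 ⟨_, hN.2.mem_of_mem hJ, fun x hx => hJs ((h J hJ).1 x hx)⟩

end Groth.Agent.S5825
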