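import Groth.Statements.S5826
import Mathlib.Topology.Algebra.OpenSubgroup
import Mathlib.LinearAlgebra.Quotient.Basic
-- import your own Groth.Agent.* helpers here

set_option autoImplicit false
universe u v w
open EGA41

namespace Groth.Agent.S5826

/-- Let A be a topological ring, M, N topological A-modules with the topologies deduced from that of A,
u : M → N a continuous linear map. Then u is formally left invertible if and only if, for every open
ideal J of A, the induced map M/JM → N/JN is left invertible, i.e. some linear map N → M/JM composes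
with u to the projection M → M/JM. -/
theorem result {A : Type u} {M : Type v} {N : Type w}
    [CommRing A] [TopologicalSpace A] [AddCommGroup M] [Module A M] [TopologicalSpace M] [AddCommGroup N]
    [Module A N] [TopologicalSpace N] (hM : TopMod.IsDeduced A M) (hN : TopMod.IsDeduced A N)
    (u : M →L[A] N) :
    TopMod.IsFormallyLeftInvertible u ↔
      ∀ J : Ideal A, IsOpen (J : Set A) →
        ∃ w : N →ₗ[A] M ⧸ (J • ⊤ : Submodule A M), ∀ x : M, w (u x) = Submodule.Quotient.mk x := by
  haveI := hM.1
  haveI := hN.1
  constructor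
  · intro h J hJ
    letI : TopologicalSpace (M ⧸ (J • ⊤ : Submodule A M)) := ⊥
    haveI : DiscreteTopology (M ⧸ (J • ⊤ : Submodule A M)) := ⟨rfl⟩
    have hc : Continuous (J • ⊤ : Submodule A M).mkQ := by
      refine continuous_of_continuousAt_zero _ ?_
      rw [ContinuousAt, map_zero, nhds_discrete (M ⧸ (J • ⊤ : Submodule A M)), Filter.tendsto_pure]
      filter_upwards [hM.2.mem_of_mem hJ] with x hx
      exact (Submodule.Quotient.mk_eq_zero _).2 hx
    obtain ⟨w, hw⟩ := h _ ⟨(J • ⊤ : Submodule A M).mkQ, hc⟩
    exact ⟨w.toLinearMap, fun x => hw x⟩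
  · intro h E _ _ _ _ v
    have hv : v ⁻¹' {0} ∈ nhds (0 : M) :=
      v.continuous.continuousAt.preimage_mem_nhds (by rw [map_zero]; simp [nhds_discrete])
    obtain ⟨J, hJ, hJv⟩ := hM.2.mem_iff.1 hv
    obtain ⟨w, hw⟩ := h J hJ
    have hle : (J • ⊤ : Submodule A M) ≤ LinearMap.ker v.toLinearMap := fun x hx => hJv hx
    let w' : N →ₗ[A] E := ((J • ⊤ : Submodule A M).liftQ v.toLinearMap hle).comp w
    have hker : ∀ y ∈ (J • ⊤ : Submodule A N), w' y = 0 := by
      intro y hy
      refine Submodule.smul_induction_on hy (fun a ha n _ => ?_) (fun y z hy hz => by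
        rw [map_add, hy, hz, add_zero])
      simp only [w', LinearMap.comp_apply, map_smul]
      obtain ⟨m, hm⟩ := Submodule.Quotient.mk_surjective _ (w n)
      rw [← hm, Submodule.liftQ_apply, ← map_smul]
      exact hle (Submodule.smul_mem_smul ha trivial)
    have hc : Continuous w' := by
      refine continuous_of_continuousAt_zero w' ?_
      rw [ContinuousAt, map_zero, nhds_discrete E, Filter.tendsto_pure]
      filter_upwards [hN.2.mem_of_mem hJ] with y hy
      exact hker y hy
    refine ⟨⟨w', hc⟩, fun x => ?_⟩
    show w' (u x) = v x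
    simp only [w', LinearMap.comp_apply, hw]
    rfl

end Groth.Agent.S5826
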