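import Mathlib
import Groth.Statements.S5828
-- import your own Groth.Agent.* helpers here

set_option autoImplicit false
universe u v
open EGA41

namespace Groth.Agent.S5828

/-- Commutative case. For an A-extension X of C by a C-module L, with middle ring E, projection p and
inclusion i, the A-derivations D : C → L and the self-equivalences of X correspond under D ↦ (x ↦ x
+ i (D (p x))): every derivation defines a self-equivalence with this formula, and every
self-equivalence is of this form for exactly one derivation. (Bijection of sets; the published
statement also records compatibility with the group laws.) -/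
theorem result {A : Type u} {C L : Type v} [CommRing A] [CommRing C] [Algebra A C]
    [AddCommGroup L] [Module C L] [Module A L] [IsScalarTower A C L] (X : Exal.Ext A C L) :
    (∀ D : Derivation A C L, ∃ e : X.Equiv X, ∀ x : X.E, e.toAlgEquiv x = x + X.incl (D (X.proj x))) ∧
      ∀ e : X.Equiv X, ∃! D : Derivation A C L, ∀ x : X.E, e.toAlgEquiv x = x + X.incl (D (X.proj x)) := by
  have hmul : ∀ (z w : L), X.incl z * X.incl w = 0 := fun z w => by
    rw [X.isExtension.mul_incl, (X.isExtension.exact _).2 ⟨z, rfl⟩, zero_smul, map_zero]
  have hpi : ∀ z, X.proj (X.incl z) = 0 := fun z => (X.isExtension.exact _).2 ⟨z, rfl⟩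
  constructor
  · intro D
    have hD1 : D (1 : C) = 0 := D.map_one_eq_zero
    let mkHom : Derivation A C L → (X.E →ₐ[A] X.E) := fun D =>
      { toFun := fun x => x + X.incl (D (X.proj x))
        map_one' := by simp
        map_mul' := fun x y => by
          rw [map_mul, Derivation.leibniz, map_add, add_mul, mul_add, mul_add, hmul, ← X.isExtension.mul_incl,
            ← X.isExtension.mul_incl, add_zero, mul_comm (X.incl _) y]
          ring
        map_zero' := by simp
        map_add' := fun x y => by simp only [map_add]; abel
        commutes' := fun r => by simp }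
    have hinv : ∀ D x, mkHom (-D) (mkHom D x) = x := by
      intro D x
      show x + X.incl (D (X.proj x)) + X.incl ((-D) (X.proj (x + X.incl (D (X.proj x))))) = x
      rw [map_add X.proj, hpi, add_zero, Derivation.neg_apply, map_neg]
      abel
    let e : X.E ≃ₐ[A] X.E := AlgEquiv.ofAlgHom (mkHom D) (mkHom (-D))
      (AlgHom.ext fun x => by
        have := hinv (-D) x
        rw [neg_neg] at this
        exact this)
      (AlgHom.ext fun x => hinv D x)
    refine ⟨⟨e, fun x => ?_, fun z => ?_⟩, fun x => rfl⟩
    · show X.proj (x + X.incl _) = X.proj x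
      rw [map_add, hpi, add_zero]
    · show X.incl z + X.incl (D (X.proj (X.incl z))) = X.incl z
      rw [hpi, map_zero, map_zero, add_zero]
  · intro e
    have hker : ∀ x, ∃ z, X.incl z = e.toAlgEquiv x - x := fun x => by
      have h0 : X.proj (e.toAlgEquiv x - x) = 0 := by rw [map_sub, e.proj_apply, sub_self]
      exact (X.isExtension.exact _).1 h0
    choose δ hδ using hker
    have hwell : ∀ x y, X.proj x = X.proj y → δ x = δ y := by
      intro x y hxy
      obtain ⟨z, hz⟩ := (X.isExtension.exact (x - y)).1 (by rw [map_sub, hxy, sub_self])
      apply X.isExtension.incl_injective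
      have := e.apply_incl z
      rw [hz, map_sub] at this
      rw [hδ, hδ, sub_eq_sub_iff_sub_eq_sub]
      exact this
    choose σ hσ using X.isExtension.proj_surjective
    have hδadd : ∀ x y, δ (x + y) = δ x + δ y := fun x y => X.isExtension.incl_injective (by
      rw [map_add X.incl, hδ, hδ, hδ, map_add]; abel)
    have hδmul : ∀ x y, δ (x * y) = X.proj x • δ y + X.proj y • δ x := fun x y => X.isExtension.incl_injective (by
      rw [map_add X.incl, ← X.isExtension.mul_incl, ← X.isExtension.mul_incl, hδ, hδ, hδ, map_mul]
      have h0 : (e.toAlgEquiv x - x) * (e.toAlgEquiv y - y) = 0 := by rw [← hδ, ← hδ]; exact hmul _ _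
      linear_combination h0)
    have hδsmul : ∀ (r : A) x, δ (r • x) = r • δ x := fun r x => by
      rw [Algebra.smul_def, hδmul, show δ (algebraMap A X.E r) = 0 from X.isExtension.incl_injective (by
        rw [hδ, map_zero, AlgEquiv.commutes, sub_self]), smul_zero, add_zero, AlgHom.commutes, algebraMap_smul]
    let D : Derivation A C L := Derivation.mk'
      { toFun := fun b => δ (σ b)
        map_add' := fun a b => by rw [← hδadd]; exact hwell _ _ (by simp [hσ])
        map_smul' := fun r b => by rw [RingHom.id_apply, ← hδsmul]; exact hwell _ _ (by simp [hσ]) }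
      (fun a b => by
        show δ (σ (a * b)) = a • δ (σ b) + b • δ (σ a)
        rw [hwell (σ (a * b)) (σ a * σ b) (by simp [hσ]), hδmul, hσ, hσ])
    refine ⟨D, fun x => ?_, fun D' hD' => ?_⟩
    · show e.toAlgEquiv x = x + X.incl (δ (σ (X.proj x)))
      rw [hwell (σ (X.proj x)) x (hσ _), hδ, add_sub_cancel]
    · refine Derivation.ext fun b => ?_
      apply X.isExtension.incl_injective
      show X.incl (D' b) = X.incl (δ (σ b))
      rw [hδ, hD', hσ, add_sub_cancel_left]

end Groth.Agent.S5828
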