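import Groth.Statements.S5829
import Mathlib
-- import your own Groth.Agent.* helpers here

set_option autoImplicit false
universe u v w
open EGA41

namespace Groth.Agent.S5829

/-- Commutative case. Let B be a topological A-algebra in which the square of every open ideal is open,
and L a discrete B-module killed by an open ideal of B. Then every A-derivation B → L is continuous:
the submodule of continuous derivations is everything. (The topology of A is irrelevant and is not
assumed.) -/
theorem result {A : Type u} {B : Type v} {L : Type w} [CommRing A] [CommRing B]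
    [Algebra A B] [AddCommGroup L] [Module A L] [Module B L] [IsScalarTower A B L] [TopologicalSpace B]
    [IsTopologicalRing B] [TopologicalSpace L] [DiscreteTopology L] [ContinuousAdd L] [ContinuousConstSMul B L]
    (hsq : ∀ I : Ideal B, IsOpen (I : Set B) → IsOpen ((I ^ 2 : Ideal B) : Set B))
    (K : Ideal B) (hK : IsOpen (K : Set B)) (hKL : ∀ x ∈ K, ∀ z : L, x • z = 0) :
    TopMod.DerCont A B L = ⊤ := by
  refine eq_top_iff.mpr fun D _ => ?_
  have hD : ∀ y ∈ K ^ 2, D y = 0 := fun y hy => by
    rw [pow_two] at hy
    refine Submodule.mul_induction_on hy (fun a ha b hb => ?_) fun a b ha hb => by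
      rw [map_add, ha, hb, add_zero]
    rw [Derivation.leibniz, hKL a ha, hKL b hb, add_zero]
  show Continuous D
  rw [continuous_def]
  intro s _
  rw [isOpen_iff_forall_mem_open]
  intro x hx
  refine ⟨(fun y => y - x) ⁻¹' ((K ^ 2 : Ideal B) : Set B), fun y hy => ?_,
    (hsq K hK).preimage (continuous_id.sub continuous_const), by simp⟩
  have h0 := hD _ hy
  rw [map_sub, sub_eq_zero] at h0
  show D y ∈ s
  rw [h0]
  exact hx

end Groth.Agent.S5829
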