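import Mathlib
import Groth.Statements.S5830
-- import your own Groth.Agent.* helpers here

set_option autoImplicit false
universe u v
open EGA41

namespace Groth.Agent.S5830

section

variable {A B L : Type*} [CommRing A] [CommRing B] [Algebra A B] [AddCommGroup L] [Module B L] [Module A L]
  [IsScalarTower A B L]

/-- A symmetric cocycle. -/
structure Cocycle (A B L : Type*) [CommRing A] [CommRing B] [Algebra A B] [AddCommGroup L] [Module B L] [Module A L] where
  f : B →ₗ[A] B →ₗ[A] L
  symm : ∀ x y : B, f x y = f y x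
  coc : ∀ x y z : B, f (x * y) z + z • f x y = x • f y z + f x (y * z)

/-- The square-zero extension attached to a cocycle. -/
def Ext (_c : Cocycle A B L) : Type _ := B × L

variable (c : Cocycle A B L)

instance : AddCommGroup (Ext c) := inferInstanceAs (AddCommGroup (B × L))

variable {c} in
lemma Cocycle.one_left (z : B) : c.f 1 z = z • c.f 1 1 := by
  have := c.coc 1 1 z
  simp only [one_mul, one_smul] at this
  exact (add_left_cancel this).symm

instance : CommRing (Ext c) :=
  { (inferInstance : AddCommGroup (Ext c)) with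
    mul := fun p q => ((p.1 * q.1, p.1 • q.2 + q.1 • p.2 + c.f p.1 q.1) : B × L)
    one := ((1, -c.f 1 1) : B × L)
    left_distrib := fun p q r => Prod.ext (mul_add p.1 q.1 r.1) (by
      show p.1 • (q.2 + r.2) + (q.1 + r.1) • p.2 + c.f p.1 (q.1 + r.1) =
        (p.1 • q.2 + q.1 • p.2 + c.f p.1 q.1) + (p.1 • r.2 + r.1 • p.2 + c.f p.1 r.1)
      simp only [smul_add, add_smul, map_add]
      abel)
    right_distrib := fun p q r => Prod.ext (add_mul p.1 q.1 r.1) (by
      show (p.1 + q.1) • r.2 + r.1 • (p.2 + q.2) + c.f (p.1 + q.1) r.1 =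
        (p.1 • r.2 + r.1 • p.2 + c.f p.1 r.1) + (q.1 • r.2 + r.1 • q.2 + c.f q.1 r.1)
      simp only [smul_add, add_smul, map_add, LinearMap.add_apply]
      abel)
    zero_mul := fun p => Prod.ext (zero_mul p.1) (by
      show (0 : B) • p.2 + p.1 • (0 : L) + c.f 0 p.1 = 0
      simp)
    mul_zero := fun p => Prod.ext (mul_zero p.1) (by
      show p.1 • (0 : L) + (0 : B) • p.2 + c.f p.1 0 = 0
      simp)
    one_mul := fun p => Prod.ext (one_mul p.1) (by
      show (1 : B) • p.2 + p.1 • (-c.f 1 1) + c.f 1 p.1 = p.2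
      rw [Cocycle.one_left p.1]; simp)
    mul_one := fun p => Prod.ext (mul_one p.1) (by
      show p.1 • (-c.f 1 1) + (1 : B) • p.2 + c.f p.1 1 = p.2
      rw [c.symm p.1 1, Cocycle.one_left p.1]; simp)
    mul_assoc := fun p q r => Prod.ext (mul_assoc p.1 q.1 r.1) (by
      show (p.1 * q.1) • r.2 + r.1 • (p.1 • q.2 + q.1 • p.2 + c.f p.1 q.1) + c.f (p.1 * q.1) r.1 =
        p.1 • (q.1 • r.2 + r.1 • q.2 + c.f q.1 r.1) + (q.1 * r.1) • p.2 + c.f p.1 (q.1 * r.1)
      have h := c.coc p.1 q.1 r.1
      simp only [smul_add, smul_smul, mul_comm r.1] at h ⊢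
      rw [eq_sub_of_add_eq h]
      abel)
    mul_comm := fun p q => Prod.ext (mul_comm p.1 q.1) (by
      show p.1 • q.2 + q.1 • p.2 + c.f p.1 q.1 = q.1 • p.2 + p.1 • q.2 + c.f q.1 p.1
      rw [c.symm, add_comm (p.1 • q.2)]) }

def iota : A →+* Ext c where
  toFun a := ((algebraMap A B a, -(a • c.f 1 1)) : B × L)
  map_one' := Prod.ext (map_one _) (by simp; rfl)
  map_zero' := Prod.ext (map_zero _) (by simp; rfl)
  map_add' a b := Prod.ext (map_add _ a b) (by
    show -((a + b) • c.f 1 1) = -(a • c.f 1 1) + -(b • c.f 1 1)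
    rw [add_smul, neg_add])
  map_mul' a b := Prod.ext (map_mul _ a b) (by
    show -((a * b) • c.f 1 1) = algebraMap A B a • -(b • c.f 1 1) + algebraMap A B b • -(a • c.f 1 1) +
      c.f (algebraMap A B a) (algebraMap A B b)
    simp only [algebraMap_smul, smul_neg, smul_smul, Algebra.algebraMap_eq_smul_one, map_smul, LinearMap.smul_apply,
      smul_assoc, one_smul, mul_comm b a]
    abel)

instance : Algebra A (Ext c) := (iota c).toAlgebra

def pr : Ext c →ₐ[A] B where
  toFun p := p.1
  map_one' := rfl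
  map_mul' _ _ := rfl
  map_zero' := rfl
  map_add' _ _ := rfl
  commutes' _ := rfl

theorem main [Algebra.FormallySmooth A B] :
    ∃ g : B →ₗ[A] L, ∀ x y : B, c.f x y = x • g y - g (x * y) + y • g x := by
  have hsurj : Function.Surjective (pr c) := fun b => ⟨((b, 0) : B × L), rfl⟩
  have hnil : IsNilpotent (RingHom.ker (pr c).toRingHom) := by
    refine ⟨2, eq_bot_iff.2 ?_⟩
    rw [pow_two, Ideal.mul_le]
    intro p (hp : p.1 = 0) q (hq : q.1 = 0)
    refine (Submodule.mem_bot _).2 (Prod.ext ?_ ?_)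
    · show p.1 * q.1 = 0
      rw [hp, zero_mul]
    · show p.1 • q.2 + q.1 • p.2 + c.f p.1 q.1 = 0
      rw [hp, hq]; simp
  let σ := Algebra.FormallySmooth.liftOfSurjective (AlgHom.id A B) (pr c) hsurj hnil
  have hσ : ∀ b, (σ b).1 = b := fun b => Algebra.FormallySmooth.liftOfSurjective_apply (AlgHom.id A B) (pr c) hsurj hnil b
  have hsmul : ∀ (a : A) (p : Ext c), (a • p).2 = a • p.2 := by
    intro a p
    show algebraMap A B a • p.2 + p.1 • -(a • c.f 1 1) + c.f (algebraMap A B a) p.1 = a • p.2
    rw [algebraMap_smul, Algebra.algebraMap_eq_smul_one, map_smul, LinearMap.smul_apply, Cocycle.one_left p.1,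
      smul_neg, smul_comm p.1 a]
    abel
  refine ⟨-
    { toFun := fun b => (σ b).2
      map_add' := fun x y => by rw [map_add]; rfl
      map_smul' := fun a x => by rw [map_smul, hsmul]; rfl }, fun x y => ?_⟩
  have h : (σ (x * y)).2 = (σ x).1 • (σ y).2 + (σ y).1 • (σ x).2 + c.f (σ x).1 (σ y).1 := by rw [map_mul]; rfl
  rw [hσ, hσ] at h
  simp only [LinearMap.neg_apply, LinearMap.coe_mk, AddHom.coe_mk, smul_neg]
  rw [h]
  abel

end

/-- Discrete case. If B is a formally smooth A-algebra then, for every B-module L, every A-bilinear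
symmetric Hochschild 2-cocycle f : B × B → L (f(xy, z) + z f(x, y) = x f(y, z) + f(x, yz)) is a
Hochschild 2-coboundary: f(x, y) = x g(y) − g(xy) + y g(x) for some A-linear g : B → L. (The
published statement is for topological algebras and open ideals; this row is its discrete case.) -/
theorem result {A : Type u} {B : Type v} [CommRing A] [CommRing B]
    [Algebra A B] [Algebra.FormallySmooth A B] {L : Type v} [AddCommGroup L] [Module B L] [Module A L]
    [IsScalarTower A B L] (f : B →ₗ[A] B →ₗ[A] L) (hsymm : ∀ x y : B, f x y = f y x)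
    (hcoc : ∀ x y z : B, f (x * y) z + z • f x y = x • f y z + f x (y * z)) :
    ∃ g : B →ₗ[A] L, ∀ x y : B, f x y = x • g y - g (x * y) + y • g x := by
  exact main ⟨f, hsymm, hcoc⟩

end Groth.Agent.S5830
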