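import Groth.Statements.S5831
import Mathlib

set_option autoImplicit false
universe u
open EGA41

namespace Groth.Agent.S5831

/-- Discrete case. Let B be an A-algebra which is a projective A-module (A and B in one universe). If
for every B-module L in that universe every A-bilinear symmetric Hochschild 2-cocycle B × B → L is a
coboundary, then B is formally smooth over A. (The published statement assumes B formally projective
as a topological A-module; for discrete rings this is projectivity.) -/
theorem result {A B : Type u} [CommRing A]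
    [CommRing B] [Algebra A B] [Module.Projective A B]
    (h : ∀ (L : Type u) [AddCommGroup L] [Module B L] [Module A L] [IsScalarTower A B L]
      (f : B →ₗ[A] B →ₗ[A] L), (∀ x y : B, f x y = f y x) →
        (∀ x y z : B, f (x * y) z + z • f x y = x • f y z + f x (y * z)) →
          ∃ g : B →ₗ[A] L, ∀ x y : B, f x y = x • g y - g (x * y) + y • g x) :
    Algebra.FormallySmooth A B := by
  classical
  let π : MvPolynomial B A →ₐ[A] B := MvPolynomial.aeval id
  have hπ : Function.Surjective π := fun x => ⟨MvPolynomial.X x, by simp [π]⟩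
  let J := RingHom.ker π.toRingHom
  let Q := MvPolynomial B A ⧸ J ^ 2
  let π₂ : Q →ₐ[A] B := Ideal.Quotient.liftₐ (J ^ 2) π fun x hx => Ideal.pow_le_self two_ne_zero hx
  have hπ₂ : Function.Surjective π₂ := fun x => by
    obtain ⟨y, rfl⟩ := hπ x
    exact ⟨Ideal.Quotient.mk _ y, rfl⟩
  obtain ⟨σ, hσ⟩ := Module.projective_lifting_property π₂.toLinearMap LinearMap.id hπ₂
  have hσ' : ∀ x, π₂ (σ x) = x := fun x => LinearMap.congr_fun hσ x
  let N : Submodule A Q := LinearMap.ker π₂.toLinearMap
  have hN : ∀ a ∈ N, ∀ b ∈ N, a * b = 0 := by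
    intro a ha b hb
    obtain ⟨a, rfl⟩ := Ideal.Quotient.mk_surjective a
    obtain ⟨b, rfl⟩ := Ideal.Quotient.mk_surjective b
    rw [← map_mul, Ideal.Quotient.eq_zero_iff_mem, sq]
    exact Ideal.mul_mem_mul ha hb
  have hNmul : ∀ q, ∀ a ∈ N, q * a ∈ N := fun q a ha => by
    show π₂ (q * a) = 0
    rw [map_mul, show π₂ a = 0 from ha, mul_zero]
  have hσN : ∀ x y, σ (x * y) - σ x * σ y ∈ N := fun x y => by
    show π₂ _ = 0
    rw [map_sub, map_mul π₂, hσ', hσ', hσ', sub_self]
  -- `N` as a `B`-module
  letI : SMul B N := ⟨fun b z => ⟨σ b * z, hNmul _ _ z.2⟩⟩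
  have hsmul : ∀ (b : B) (z : N), ((b • z : N) : Q) = σ b * z := fun _ _ => rfl
  have hdiff : ∀ q r : Q, π₂ q = π₂ r → ∀ z : N, q * z = r * z := fun q r h z => by
    rw [← sub_eq_zero, ← sub_mul]
    exact hN _ (show π₂ (q - r) = 0 by rw [map_sub, h, sub_self]) _ z.2
  letI : Module B N :=
    { one_smul := fun z => Subtype.ext (by rw [hsmul, hdiff (σ 1) 1 (by rw [hσ', map_one]), one_mul])
      mul_smul := fun a b z => Subtype.ext (by rw [hsmul, hsmul, hsmul, ← mul_assoc, hdiff (σ (a * b)) (σ a * σ b) (by rw [map_mul π₂, hσ', hσ', hσ'])])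
      smul_zero := fun a => Subtype.ext (by rw [hsmul, Submodule.coe_zero, mul_zero])
      smul_add := fun a z w => Subtype.ext (by rw [hsmul, Submodule.coe_add, Submodule.coe_add, hsmul, hsmul, mul_add])
      add_smul := fun a b z => Subtype.ext (by rw [hsmul, Submodule.coe_add, hsmul, hsmul, map_add, add_mul])
      zero_smul := fun z => Subtype.ext (by rw [hsmul, map_zero, zero_mul]; rfl) }
  haveI : IsScalarTower A B N := ⟨fun a b z => Subtype.ext (by
    rw [hsmul, map_smul, smul_mul_assoc]
    rfl)⟩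
  let F : B →ₗ[A] B →ₗ[A] N := LinearMap.mk₂ A (fun x y => ⟨σ (x * y) - σ x * σ y, hσN x y⟩)
    (fun a b c => Subtype.ext (by simp [add_mul, map_add]; ring))
    (fun a b c => Subtype.ext (by simp [smul_sub]))
    (fun a b c => Subtype.ext (by simp [mul_add, map_add]; ring))
    (fun a b c => Subtype.ext (by simp [smul_sub]))
  obtain ⟨g, hg⟩ := h N F (fun x y => Subtype.ext (by
      show σ (x * y) - σ x * σ y = σ (y * x) - σ y * σ x
      rw [mul_comm x y, mul_comm (σ x)])) (fun x y z => Subtype.ext (by
      show (σ (x * y * z) - σ (x * y) * σ z) + σ z * (σ (x * y) - σ x * σ y) =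
        σ x * (σ (y * z) - σ y * σ z) + (σ (x * (y * z)) - σ x * σ (y * z))
      rw [mul_assoc x y z]
      ring))
  let s : B →ₗ[A] Q := σ + N.subtype ∘ₗ g
  have hs : ∀ x, π₂ (s x) = x := fun x => by
    show π₂ (σ x + g x) = x
    rw [map_add, hσ', show π₂ (g x : Q) = 0 from (g x).2, add_zero]
  have hmul : ∀ x y, s (x * y) = s x * s y := by
    intro x y
    have h1 : σ (x * y) - σ x * σ y = σ x * g y - (g (x * y) : Q) + σ y * g x := congrArg Subtype.val (hg x y)
    show σ (x * y) + (g (x * y) : Q) = (σ x + g x) * (σ y + g y)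
    linear_combination h1 - hN _ (g x).2 _ (g y).2
  have hone : s 1 = 1 := by
    have h1 : s 1 * s 1 = s 1 := by rw [← hmul, mul_one]
    have h2 := hN (s 1 - 1) (show π₂ (s 1 - 1) = 0 by rw [map_sub, hs, map_one, sub_self]) (s 1 - 1)
      (show π₂ (s 1 - 1) = 0 by rw [map_sub, hs, map_one, sub_self])
    linear_combination h1 - h2
  refine Algebra.FormallySmooth.of_split π (AlgHom.ofLinearMap s hone hmul) ?_
  exact AlgHom.ext hs

end Groth.Agent.S5831
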