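import Groth.Statements.S5861
import Groth.Agent.ZClosDepth.Basic
-- import your own Groth.Agent.* helpers here

set_option autoImplicit false
universe u
open ZClos

namespace Groth.Agent.S5861

open CategoryTheory CategoryTheory.Limits AlgebraicGeometry in
/-- Suppose X is a locally Noetherian scheme and F is a coherent O_X-module whose support is the whole
of X. Assume no associated point of F has a local ring of X of dimension 1, and assume H⁰_{X/Z}(F)
is coherent, where Z = Z^(2)(X) denotes the set of points whose local ring has dimension at least 2.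
Consider the set U of points x where F satisfies (S_2), meaning depth(F_{x'}) ≥ min(2, dim F_{x'})
holds at every generization x' of x. Then U is an open subset, and the points lying outside U form a
set of codimension ≥ 2: the local ring at any such point has dimension at least 2. -/
theorem result (X : Scheme.{u}) [IsLocallyNoetherian X] (F : X.Modules) (hF : Coh.IsCoh F)
    (hsupp : ∀ x : X, Nontrivial (F.presheaf.stalk x))
    (hass : ∀ x ∈ AssSch.Ass F, ringKrullDim (X.presheaf.stalk x) ≠ 1)
    (hH : Coh.IsCoh ((ZClos.H0 (ZClos.dimGe X 2)).obj F)) :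
    IsOpen {x : X | ∀ x' : X, x' ⤳ x →
        min (2 : WithBot ℕ∞) (Module.supportDim (X.presheaf.stalk x') (F.presheaf.stalk x')) ≤
          ((LocCoh.depth (X.presheaf.stalk x') (F.presheaf.stalk x') : ℕ∞) : WithBot ℕ∞)} ∧
      ∀ x : X, (¬ ∀ x' : X, x' ⤳ x →
        min (2 : WithBot ℕ∞) (Module.supportDim (X.presheaf.stalk x') (F.presheaf.stalk x')) ≤
          ((LocCoh.depth (X.presheaf.stalk x') (F.presheaf.stalk x') : ℕ∞) : WithBot ℕ∞)) →
        (2 : WithBot ℕ∞) ≤ ringKrullDim (X.presheaf.stalk x) := by
  haveI := hF.1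
  have hZ := Groth.Agent.ZClosDepth.stableUnderSpecialization_dimGe X 2
  have key : ∀ x : X, (∀ x' : X, x' ⤳ x →
      min (2 : WithBot ℕ∞) (Module.supportDim (X.presheaf.stalk x') (F.presheaf.stalk x')) ≤
        ((LocCoh.depth (X.presheaf.stalk x') (F.presheaf.stalk x') : ℕ∞) : WithBot ℕ∞)) ↔
      ZClos.IsZClosedAt (ZClos.dimGe X 2) F x := fun x => by
    rw [Groth.Agent.DepthSections.isZClosedAt_iff F _ hZ hF x]
    refine forall_congr' fun x' => imp_congr_right fun _ => ?_
    by_cases hx' : x' ∈ ZClos.dimGe X 2
    · exact (Groth.Agent.ZClosDepth.two_le_depth_iff_s2 F hsupp hx').trans ⟨fun h _ => h, fun h => h hx'⟩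
    · exact ⟨fun _ h => absurd h hx', fun _ =>
        Groth.Agent.ZClosDepth.s2_of_dim_le_one F hF hsupp hass x' hx'⟩
  refine ⟨?_, fun x hx => ?_⟩
  · convert Groth.Agent.ZClosDepth.isOpen_setOf_isZClosedAt (Z := ZClos.dimGe X 2) F hF hH using 1
    ext x
    exact key x
  · by_contra hd
    exact hx ((key x).mpr (Groth.Agent.ZClosLib.stalkHom_rho_bijective F hd))

end Groth.Agent.S5861
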