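import Groth.Statements.S5862
import Mathlib
-- import your own Groth.Agent.* helpers here

set_option autoImplicit false
universe u
open RadPt

namespace Groth.Agent.S5862

open CategoryTheory AlgebraicGeometry in
/-- Let f : X → Y and g : Y → Z be morphisms of schemes and y a point of Y. If f is radicial at y (fibre
with at most one point, purely inseparable residue field extension) and g is radicial at g(y), then
g ∘ f is radicial at g(y). Conversely, if f is surjective and g ∘ f is radicial at g(y), then f is
radicial at y and g is radicial at g(y). -/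
theorem result {X Y Z : Scheme.{u}} (f : X ⟶ Y) (g : Y ⟶ Z) (y : Y) :
    (RadPt.IsRadicialAt f y → RadPt.IsRadicialAt g (g y) → RadPt.IsRadicialAt (f ≫ g) (g y)) ∧
      (Surjective f → RadPt.IsRadicialAt (f ≫ g) (g y) →
        RadPt.IsRadicialAt f y ∧ RadPt.IsRadicialAt g (g y)) := by
  constructor
  · rintro ⟨hf1, hf2⟩ ⟨hg1, hg2⟩
    have hfx : ∀ x : X, (f ≫ g) x = g y → f x = y := fun x hx => hg1 _ _ hx rfl
    refine ⟨fun x x' hx hx' => hf1 _ _ (hfx x hx) (hfx x' hx'), fun x hx => ?_⟩
    rw [Scheme.residueFieldMap_comp]
    exact (hg2 _ hx).comp (hf2 _ (hfx x hx))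
  · rintro hf ⟨h1, h2⟩
    refine ⟨⟨fun x x' hx hx' => h1 _ _ (congrArg g hx) (congrArg g hx'), fun x hx => ?_⟩, ?_, ?_⟩
    · have this : ((f.residueFieldMap x).hom.comp (g.residueFieldMap (f x)).hom).IsPurelyInseparable := by
        have := h2 x (congrArg g hx)
        rw [Scheme.residueFieldMap_comp] at this
        exact this
      algebraize [(f.residueFieldMap x).hom, (g.residueFieldMap (f x)).hom,
        (f.residueFieldMap x).hom.comp (g.residueFieldMap (f x)).hom]
      exact IsPurelyInseparable.tower_top (Z.residueField (g (f x))) (Y.residueField (f x)) (X.residueField x)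
    · intro a b ha hb
      obtain ⟨x, rfl⟩ := f.surjective a
      obtain ⟨x', rfl⟩ := f.surjective b
      rw [h1 x x' ha hb]
    · intro a ha
      obtain ⟨x, rfl⟩ := f.surjective a
      have this : ((f.residueFieldMap x).hom.comp (g.residueFieldMap (f x)).hom).IsPurelyInseparable := by
        have := h2 x ha
        rw [Scheme.residueFieldMap_comp] at this
        exact this
      algebraize [(f.residueFieldMap x).hom, (g.residueFieldMap (f x)).hom,
        (f.residueFieldMap x).hom.comp (g.residueFieldMap (f x)).hom]
      exact IsPurelyInseparable.tower_bot (Z.residueField (g (f x))) (Y.residueField (f x)) (X.residueField x)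

end Groth.Agent.S5862
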