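import Groth.Statements.S5866
import Groth.Agent.BiratUnib.Scheme

set_option autoImplicit false
universe u
open RadPt

namespace Groth.Agent.S5866

open CategoryTheory AlgebraicGeometry in
/-- Let f : X → Y be a morphism of schemes which is integral and whose induced morphism of reduced
schemes is birational. Then Y is geometrically unibranch (at every point) if and only if X is
geometrically unibranch and f is radicial (universally injective). -/
theorem result {X Y : Scheme.{u}} (f : X ⟶ Y) [IsIntegralHom f] (hf : RadPt.IsBirational f) :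
    (∀ y : Y, CAlg2.IsGeomUnibranch (Y.presheaf.stalk y)) ↔
      ((∀ x : X, CAlg2.IsGeomUnibranch (X.presheaf.stalk x)) ∧ UniversallyInjective f) := by
  have hui : UniversallyInjective f ↔ ∀ y : Y, RadPt.IsRadicialAt f y := by
    rw [(tfae_universallyInjective f).out 0 2 rfl rfl]
    constructor
    · rintro ⟨hi, hp⟩ y
      exact ⟨fun a b ha hb => hi (ha.trans hb.symm), fun x _ => hp x⟩
    · intro h
      exact ⟨fun a b e => (h (f b)).1 a b e rfl, fun x => (h (f x)).2 x rfl⟩
  constructor
  · intro h
    have hy := fun y => (BiratUnib.isGeomUnibranch_iff_isRadicialAt f hf y).1 (h y)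
    exact ⟨fun x => (hy (f x)).2 x rfl, hui.2 fun y => (hy y).1⟩
  · rintro ⟨hX, hinj⟩ y
    exact (BiratUnib.isGeomUnibranch_iff_isRadicialAt f hf y).2 ⟨hui.1 hinj y, fun x _ => hX x⟩

end Groth.Agent.S5866
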