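import Groth.Statements.S5867
import Groth.Agent.ZClosLib.Main
import Groth.Agent.AssPoints.Basic
import Groth.Agent.QCohLib.Coherent
import Mathlib
-- import your own Groth.Agent.* helpers here

set_option autoImplicit false
universe u
open ZClos

namespace Groth.Agent.S5867

open CategoryTheory CategoryTheory.Limits AlgebraicGeometry in
/-- a) ⇒ d): for a locally Noetherian scheme X, a subset Z of X stable under specialization and a
coherent O_X-module F none of whose associated points lies in Z: if H⁰_{X/Z}(F) is coherent, then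
for every closed subset T of X contained in Z the direct image i_*(F|X∖T) along the inclusion i : X
∖ T → X is coherent. -/
theorem result (X : Scheme.{u}) [IsLocallyNoetherian X] (Z : Set X)
    (hZ : StableUnderSpecialization Z) (F : X.Modules) (hF : Coh.IsCoh F)
    (hass : ∀ x ∈ AssSch.Ass F, x ∉ Z) (hH : Coh.IsCoh ((ZClos.H0 Z).obj F)) (T : ZClos.Cl Z) :
    Coh.IsCoh ((ZClos.resPush T.U).obj F) := by
  haveI := hF.1
  have hq : ((ZClos.resPush T.U).obj F).IsQuasicoherent :=
    Groth.Agent.QCohLib.isQuasicoherent_pushforward T.U.ι (M := F.restrict T.U.ι)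
  have hm : Mono (Groth.Agent.ZClosLib.inc F T) := by
    refine (Groth.Agent.QCohLib.mono_iff_stalk_injective _).mpr fun x => (injective_iff_map_eq_zero _).mpr fun a ha => ?_
    obtain ⟨W, hxW, s, rfl⟩ := ((ZClos.resPush T.U).obj F).presheaf.exists_germ_eq a
    erw [Groth.Agent.QCohLib.stalkHom_germ] at ha
    obtain ⟨T', _hT, W', hW', hxW', he⟩ := Groth.Agent.ZClosLib.exists_res_eq_zero x T W hxW s ha
    have hle : Groth.Agent.ZClosLib.cut T.U W' ≤ Groth.Agent.ZClosLib.cut T.U W := fun z hz =>
      Groth.Agent.ZClosLib.mem_cut.mpr ⟨(Groth.Agent.ZClosLib.mem_cut.mp hz).1,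
        hW' (Groth.Agent.ZClosLib.mem_cut.mp hz).2⟩
    have hzero : Groth.Agent.ZClosLib.res F hle s = 0 := by
      refine Groth.Agent.AssPoints.eq_zero_of_germ_weakAss hF.1 _ fun η hη hw => ?_
      have hηZ : η ∉ Z := hass η (Groth.Agent.AssPoints.isWeakAssPoint_iff_isAssPoint.mp hw)
      have hc : η ∈ Groth.Agent.ZClosLib.cut T'.U W' := Groth.Agent.ZClosLib.mem_cut.mpr
        ⟨fun h => hηZ (T'.2 h), (Groth.Agent.ZClosLib.mem_cut.mp hη).2⟩
      have h2 := congrArg (F.presheaf.germ _ η hc) he
      erw [Groth.Agent.ZClosLib.germ_res, map_zero] at h2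
      erw [Groth.Agent.ZClosLib.germ_res]
      exact h2
    rw [← Groth.Agent.ZClosLib.germ_res ((ZClos.resPush T.U).obj F) hW' x hxW' s]
    exact (congrArg (((ZClos.resPush T.U).obj F).presheaf.germ W' x hxW') hzero).trans (map_zero _)
  haveI := hm
  exact @Groth.Agent.QCohLib.isCoh_of_mono _ _ _ _ (Groth.Agent.ZClosLib.inc F T) hm hH hq

end Groth.Agent.S5867
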