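import Groth.Statements.S5884
import Groth.Agent.FibConstr.ForallFibre
-- import your own Groth.Agent.* helpers here

set_option autoImplicit false
universe u
open CategoryTheory AlgebraicGeometry
open ConsProp

namespace Groth.Agent.S5884

/-- Let P(X, k) be a constructible property of algebraic schemes, and let P'(f, X, Y, k) be the relation
on k-morphisms f : X ⟶ Y of algebraic k-schemes: for every point y of Y, P holds for the fibre
f⁻¹(y) over κ(y). Then P' is a constructible property of morphisms of algebraic schemes. -/
theorem result
    {P : ∀ ⦃Y T : Scheme.{u}⦄, (Y ⟶ T) → Prop} (hP : ConsProp.IsCons P) :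
    ConsProp.IsConsMor
      (fun X Y T f g => ∀ y : ↥Y, P (f.fiberToSpecResidueField y)) := by
  refine ⟨FibConstr.isFieldStableMor_forall_fibre hP.1, fun X Y S f g _ _ _ _ _ _ => ?_⟩
  haveI : IsNoetherian Y :=
    { __ := LocallyOfFiniteType.isLocallyNoetherian g
      __ := QuasiCompact.compactSpace_of_compactSpace g }
  haveI : LocallyOfFiniteType f := locallyOfFiniteType_of_comp f g
  haveI : QuasiCompact f := QuasiCompact.of_comp f g
  haveI : LocallyOfFinitePresentation g := LocallyOfFinitePresentation.iff_locallyOfFiniteType.2 inferInstance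
  have e : ConsProp.locusMor (fun X Y T f g => ∀ y : ↥Y, P (f.fiberToSpecResidueField y)) f g =
      (g '' (ConsProp.locus P f)ᶜ)ᶜ := by
    ext s
    refine (FibConstr.forall_fibre_fiberMap_iff hP.1 f g s).trans ⟨?_, ?_⟩
    · rintro H ⟨y, hy, hys⟩
      exact hy (H y hys)
    · intro H y hys
      by_contra hy
      exact H ⟨y, hy, hys⟩
  rw [e]
  exact FibConstr.interior_or_interior_compl
    (g.isConstructible_image (FibConstr.isConstructible_locus hP f).compl).compl

end Groth.Agent.S5884
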