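import Groth.Statements.S5885
import Groth.Agent.FibConstr.ForallFibre
-- import your own Groth.Agent.* helpers here

set_option autoImplicit false
universe u
open CategoryTheory AlgebraicGeometry
open ConsProp

namespace Groth.Agent.S5885

/-- Let P(X, k) be an ind-constructible property of algebraic schemes, and let P'(f, X, Y, k) be the
relation on k-morphisms f : X ⟶ Y of algebraic k-schemes: for every point y of Y, P holds for the
fibre f⁻¹(y) over κ(y). Then P' is an ind-constructible property of morphisms of algebraic schemes. -/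
theorem result
    {P : ∀ ⦃Y T : Scheme.{u}⦄, (Y ⟶ T) → Prop} (hP : ConsProp.IsIndCons P) :
    ConsProp.IsIndConsMor
      (fun X Y T f g => ∀ y : ↥Y, P (f.fiberToSpecResidueField y)) := by
  refine ⟨FibConstr.isFieldStableMor_forall_fibre hP.1, fun X Y S f g _ _ _ _ _ _ hη => ?_⟩
  haveI : IsNoetherian Y :=
    { __ := LocallyOfFiniteType.isLocallyNoetherian g
      __ := QuasiCompact.compactSpace_of_compactSpace g }
  haveI : LocallyOfFiniteType f := locallyOfFiniteType_of_comp f g
  haveI : QuasiCompact f := QuasiCompact.of_comp f g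
  obtain ⟨V, hV, hV'⟩ := FibConstr.exists_nhd_forall_fibre hP f g
    ((FibConstr.forall_fibre_fiberMap_iff hP.1 f g _).1 hη)
  exact ⟨genericPoint S, interior_maximal (fun s hs => (FibConstr.forall_fibre_fiberMap_iff hP.1 f g s).2
    fun y hy => hV' y (hy ▸ hs)) V.2 hV⟩

end Groth.Agent.S5885
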