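import Groth.Statements.S5887
import Groth.Agent.FibConstr.FibreMap
-- import your own Groth.Agent.* helpers here

set_option autoImplicit false
universe u
open CategoryTheory AlgebraicGeometry
open ConsProp

namespace Groth.Agent.S5887

/-- The property of an algebraic k-scheme X of being radicial over k (structure morphism universally
injective) is a constructible property of algebraic schemes. -/
theorem result :
    ConsProp.IsCons (fun Y T g => AlgebraicGeometry.UniversallyInjective g) := by
  refine ⟨fun Y Y' T T' g g' e h _ _ _ _ _ _ hpb => ?_, fun X S u _ _ _ _ => ?_⟩
  · haveI : Nonempty ↥T' := inferInstance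
    haveI : Surjective h := ⟨fun t => ⟨Classical.arbitrary _, Subsingleton.elim _ _⟩⟩
    exact ⟨fun _ => MorphismProperty.of_isPullback hpb inferInstance,
      fun _ => FibConstr.universallyInjective_of_surjective hpb⟩
  · haveI : IsLocallyNoetherian X := LocallyOfFiniteType.isLocallyNoetherian u
    haveI : QuasiSeparated u := inferInstance
    haveI : LocallyOfFinitePresentation u := LocallyOfFinitePresentation.iff_locallyOfFiniteType.2 inferInstance
    refine FibConstr.interior_or_interior_compl (Topology.IsLocallyConstructible.isConstructible ?_)
    show Topology.IsLocallyConstructible {s | UniversallyInjective (u.fiberToSpecResidueField s)}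
    have e : {s | UniversallyInjective (u.fiberToSpecResidueField s)} =
        ((Limits.pullback.fst u u ≫ u) '' (Set.range (Limits.pullback.diagonal u))ᶜ)ᶜ := by
      ext s
      show UniversallyInjective _ ↔ _
      rw [FibConstr.universallyInjective_iff_of_isPullback (φ := u.fiberToSpecResidueField s) (IsPullback.of_hasPullback u (S.fromSpecResidueField s)),
        S.range_fromSpecResidueField]
      constructor
      · rintro H ⟨z, hz, rfl⟩
        exact hz (H z rfl)
      · intro H z hz
        by_contra hc
        exact H ⟨z, hc, hz⟩
    rw [e]
    haveI : LocallyOfFinitePresentation (Limits.pullback.diagonal u) :=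
      FibrewiseCrit.locallyOfFinitePresentation_of_comp _ (Limits.pullback.fst u u) (by rw [Limits.pullback.diagonal_fst]; infer_instance) inferInstance
    refine FibConstr.isLocallyConstructible_compl ((Limits.pullback.fst u u ≫ u).isLocallyConstructible_image
      (FibConstr.isLocallyConstructible_compl ?_))
    rw [← Set.image_univ]
    exact (Limits.pullback.diagonal u).isLocallyConstructible_image Topology.IsLocallyConstructible.univ

end Groth.Agent.S5887
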