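import Groth.Statements.S5889
import Groth.Agent.S9355
import Groth.Agent.FibConstr.Cons
import Groth.Agent.FibConstr.FibreMap
-- import your own Groth.Agent.* helpers here

set_option autoImplicit false
universe u
open CategoryTheory AlgebraicGeometry
open ConsProp

namespace Groth.Agent.S5889

/-- Being quasi-finite (locally of finite type, quasi-compact, with discrete fibres) is a constructible
property of morphisms of algebraic schemes. -/
theorem result :
    ConsProp.IsConsMor
      (fun X Y T f g => AlgebraicGeometry.LocallyOfFiniteType f ∧ AlgebraicGeometry.QuasiCompact f ∧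
        AlgebraicGeometry.LocallyQuasiFinite f) := by
  refine ⟨fun X X' Y Y' T T' f g f' g' eX eY h _ _ _ _ _ _ _ _ hY hX => ?_, fun X Y S f g _ _ _ _ _ _ => ?_⟩
  · haveI : Nonempty ↥T' := inferInstance
    haveI : Surjective h := ⟨fun t => ⟨Classical.arbitrary _, Subsingleton.elim _ _⟩⟩
    haveI : Surjective eY := MorphismProperty.of_isPullback hY.flip ‹Surjective h›
    haveI : Surjective eX := MorphismProperty.of_isPullback hX.flip ‹Surjective eY›
    haveI : IsLocallyNoetherian T := FibConstr.isLocallyNoetherian_of_point T
    haveI : IsLocallyNoetherian Y := LocallyOfFiniteType.isLocallyNoetherian g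
    haveI : LocallyOfFiniteType f := locallyOfFiniteType_of_comp f g
    haveI : QuasiCompact f := QuasiCompact.of_comp f g
    haveI : LocallyOfFiniteType f' := MorphismProperty.of_isPullback hX inferInstance
    haveI : QuasiCompact f' := MorphismProperty.of_isPullback hX inferInstance
    refine ⟨fun ⟨_, _, hq⟩ => ⟨inferInstance, inferInstance, ?_⟩, fun ⟨_, _, hq⟩ => ⟨inferInstance, inferInstance, ?_⟩⟩
    · exact MorphismProperty.of_isPullback hX hq
    · rw [FibConstr.locallyQuasiFinite_iff_fibreDimAt] at hq ⊢
      intro x
      obtain ⟨x', rfl⟩ := eX.surjective x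
      rw [← FibConstr.fibreDimAt_of_isPullback hX x']
      exact hq x'
  · haveI : IsLocallyNoetherian Y := LocallyOfFiniteType.isLocallyNoetherian g
    haveI : IsLocallyNoetherian X := LocallyOfFiniteType.isLocallyNoetherian (f ≫ g)
    haveI : LocallyOfFinitePresentation g := LocallyOfFinitePresentation.iff_locallyOfFiniteType.2 inferInstance
    haveI : LocallyOfFinitePresentation (f ≫ g) := LocallyOfFinitePresentation.iff_locallyOfFiniteType.2 inferInstance
    haveI : LocallyOfFinitePresentation f := FibrewiseCrit.locallyOfFinitePresentation_of_comp f g inferInstance inferInstance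
    refine FibConstr.interior_or_interior_compl (Topology.IsLocallyConstructible.isConstructible ?_)
    haveI : QuasiCompact f := QuasiCompact.of_comp f g
    have hft : ∀ s, LocallyOfFiniteType (MoreMor.fiberMap f g s) ∧ QuasiCompact (MoreMor.fiberMap f g s) := fun s =>
      ⟨MorphismProperty.of_isPullback (FibConstr.isPullback_fiberMap f g s) inferInstance,
        MorphismProperty.of_isPullback (FibConstr.isPullback_fiberMap f g s) inferInstance⟩
    convert FibConstr.isLocallyConstructible_setOf_lqf f g (fun s => MoreMor.fiberMap f g s)
      (fun s => FibConstr.isPullback_fiberMap f g s) (by simpa using S9355.result f 0) using 1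
    ext s
    exact ⟨fun h => h.2.2, fun h => ⟨(hft s).1, (hft s).2, h⟩⟩

end Groth.Agent.S5889
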