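import Groth.Statements.S5890
import Groth.Agent.FibConstr.FibreMap
-- import your own Groth.Agent.* helpers here

set_option autoImplicit false
universe u
open CategoryTheory AlgebraicGeometry
open ConsProp

namespace Groth.Agent.S5890

/-- Being radicial (universally injective) is a constructible property of morphisms of algebraic
schemes. -/
theorem result :
    ConsProp.IsConsMor (fun X Y T f g => AlgebraicGeometry.UniversallyInjective f) := by
  refine ⟨fun X X' Y Y' T T' f g f' g' eX eY h _ _ _ _ _ _ _ _ hY hX => ?_, fun X Y S f g _ _ _ _ _ _ => ?_⟩
  · haveI : Nonempty ↥T' := inferInstance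
    haveI : Surjective h := ⟨fun t => ⟨Classical.arbitrary _, Subsingleton.elim _ _⟩⟩
    haveI : Surjective eY := MorphismProperty.of_isPullback hY.flip ‹Surjective h›
    exact ⟨fun _ => MorphismProperty.of_isPullback hX inferInstance,
      fun _ => FibConstr.universallyInjective_of_surjective hX⟩
  · haveI : IsLocallyNoetherian Y := LocallyOfFiniteType.isLocallyNoetherian g
    haveI : IsLocallyNoetherian X := LocallyOfFiniteType.isLocallyNoetherian (f ≫ g)
    haveI : LocallyOfFinitePresentation g := LocallyOfFinitePresentation.iff_locallyOfFiniteType.2 inferInstance
    haveI : LocallyOfFinitePresentation (f ≫ g) := LocallyOfFinitePresentation.iff_locallyOfFiniteType.2 inferInstance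
    refine FibConstr.interior_or_interior_compl (Topology.IsLocallyConstructible.isConstructible ?_)
    exact FibConstr.isLocallyConstructible_setOf_universallyInjective f g _ (fun s => FibConstr.isPullback_fiberMap f g s)

end Groth.Agent.S5890
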