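import Groth.Statements.S5925
import Groth.Agent.GeomUnib.HyperplaneFibre
import Groth.Agent.GeomUnib.Crit
import Groth.Agent.GeomUnib.FibreGen
import Groth.Agent.GeomUnib.Irred
-- import your own Groth.Agent.* helpers here

set_option autoImplicit false
open CategoryTheory AlgebraicGeometry
universe u
open EGA43

namespace Groth.Agent.S5925

/-- Let Y be an irreducible locally Noetherian scheme, f : X ⟶ Y a morphism locally of finite type which
is equidimensional at the point x, y = f x and e = dim_x(f⁻¹(y)). Let g be a global section of O_X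
vanishing at x whose zero set X' contains no maximal point of f⁻¹(y). Then X', with its reduced
closed subscheme structure, is equidimensional over Y at x; dim_x(X' ∩ f⁻¹(y)) = e − 1; and every
irreducible component of X' containing x has codimension 1 in X, i.e. the local ring of X at its
generic point has Krull dimension 1. (Stated for a global section; the published statement takes g
on an affine open neighbourhood of x, to which this applies after restriction, and its codimension
assertion codim(X', X) = 1 is read for the components of X' through x: a component of the zero set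
not passing through x can be a whole irreducible component of X disjoint from the fibre, of
codimension 0.) -/
theorem result {X Y : Scheme.{u}} [IrreducibleSpace Y]
    [IsLocallyNoetherian Y] (f : X ⟶ Y) [LocallyOfFiniteType f] (x : X) (hf : EGA43.IsEquidimAt f x)
    (g : Γ(X, ⊤)) (hgx : x ∈ X.zeroLocus ({g} : Set Γ(X, ⊤)))
    (hmax : ∀ z : X, f.base z = f.base x → (∀ z' : X, f.base z' = f.base x → z ∈ closure ({z'} : Set X) → z' = z) →
      z ∉ X.zeroLocus ({g} : Set Γ(X, ⊤))) :
    (∀ w : ↥(Scheme.IdealSheafData.vanishingIdeal ⟨X.zeroLocus ({g} : Set Γ(X, ⊤)), X.zeroLocus_isClosed _⟩).subscheme,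
        (Scheme.IdealSheafData.vanishingIdeal ⟨X.zeroLocus ({g} : Set Γ(X, ⊤)), X.zeroLocus_isClosed _⟩).subschemeι.base w = x →
        EGA43.IsEquidimAt ((Scheme.IdealSheafData.vanishingIdeal ⟨X.zeroLocus ({g} : Set Γ(X, ⊤)), X.zeroLocus_isClosed _⟩).subschemeι ≫ f) w) ∧
      FlatMor.localDim ↥(X.zeroLocus ({g} : Set Γ(X, ⊤)) ∩ f.base ⁻¹' {f.base x}) ⟨x, ⟨hgx, rfl⟩⟩ + 1 = FlatMor.fibreDimAt f x ∧
      ∀ Z ∈ irreducibleComponents ↥(X.zeroLocus ({g} : Set Γ(X, ⊤))), (⟨x, hgx⟩ : ↥(X.zeroLocus ({g} : Set Γ(X, ⊤)))) ∈ Z →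
        ∀ ξ : ↥(X.zeroLocus ({g} : Set Γ(X, ⊤))), closure ({ξ} : Set ↥(X.zeroLocus ({g} : Set Γ(X, ⊤)))) = Z →
          ringKrullDim (X.presheaf.stalk (ξ : X)) = 1 := by
  open Groth.Agent Groth.Agent.FibreDim Groth.Agent.GeomUnib in
  classical
  haveI : IsLocallyNoetherian X := LocallyOfFiniteType.isLocallyNoetherian f
  obtain ⟨e, U, hxU, hfe, hgen, hme⟩ := GeomUnib.exists_equidim_data f hf
  set V := X.zeroLocus ({g} : Set Γ(X, ⊤))
  have hVc : IsClosed V := X.zeroLocus_isClosed _
  let I := Scheme.IdealSheafData.vanishingIdeal (⟨V, hVc⟩ : TopologicalSpace.Closeds X)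
  let ι := I.subschemeι
  have hr : Set.range ι.base = V := by
    rw [Scheme.IdealSheafData.range_subschemeι, Scheme.IdealSheafData.coe_support_vanishingIdeal]; rfl
  have hmaxle : ∀ m : X, (∀ b : X, f b = f m → m ∈ closure {b} → b = m) → f m = f x → m ∉ V :=
    fun m hm hmy => hmax m hmy fun b hb hmb => hm b (hb.trans hmy.symm) hmb
  have hfib : ∀ z ∈ V, f z = f x → z ⤳ x → ∀ a : ℕ, fdim f z = a → a + 1 ≤ e := by
    intro z hzV hzy hzx a ha
    obtain ⟨m, hmz, hmz', -, hmm⟩ := exists_maximal_gen f z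
    exact GeomUnib.fdim_add_one_le f hmz' hmz
      (fun h => hmaxle m hmm (hmz.trans hzy) (h ▸ hzV)) ha (hme m ((hmz'.trans hzx).mem_open U.2 hxU) hmm)
  obtain ⟨w₀, hw₀⟩ : x ∈ Set.range ι.base := hr.ge hgx
  have hcl : ∀ a, fdim (ι ≫ f) a = fdim f (ι.base a) := fdim_comp_closedImmersion f ι
  -- maximal points of `V` inside its fibres
  have hmaxV : ∀ z ∈ V, z ∈ U → (∀ b ∈ V, f b = f z → b ⤳ z → b = z) →
      ∀ a : ℕ, fdim f z = a → (e ≤ a + 1) ∧ (a + 1 ≤ e ∨ a = e) := by
    intro z hzV hzU hz a ha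
    obtain ⟨m, hmz, hmz', -, hmm⟩ := exists_maximal_gen f z
    have hmU : m ∈ U := hmz'.mem_open U.2 hzU
    by_cases hmV : m ∈ V
    · obtain rfl := hz m hmV hmz hmz'
      obtain rfl : a = e := by exact_mod_cast ha.symm.trans (hme m hmU hmm)
      exact ⟨by omega, Or.inr rfl⟩
    · obtain ⟨a', ha', hsum⟩ := GeomUnib.fdim_minimal_zero f g hmz' hmz hmV hzV
        (fun w hw hwz _ hwz' => hz w hw hwz hwz') (hme m hmU hmm)
      obtain rfl : a' = a := by exact_mod_cast ha'.symm.trans ha
      exact ⟨hsum.ge, Or.inl hsum.le⟩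
  -- the local dimension at `x`
  obtain ⟨n, hn, ⟨z₁, hz₁V, hz₁y, hz₁x, hz₁n⟩, hall⟩ := exists_localDim_eq f hVc (f x) x ⟨hgx, rfl⟩
  have hn1 : n + 1 = e := by
    refine le_antisymm (hfib z₁ hz₁V hz₁y hz₁x n hz₁n) ?_
    obtain ⟨m', hm', hm'x, -, hm'm⟩ := exists_maximal_gen (ι ≫ f) w₀
    obtain ⟨a, ha, -⟩ := exists_fdim f (ι.base m')
    have hm'x' : ι.base m' ⤳ x := hw₀ ▸ hm'x.map ι.continuous
    have hfm : f (ι.base m') = f x := by rw [← hw₀]; exact hm'
    have hle := hall (ι.base m') (hr.le ⟨m', rfl⟩) hfm hm'x'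
    rw [ha] at hle
    have hle' : a ≤ n := by exact_mod_cast hle
    have := (hmaxV (ι.base m') (hr.le ⟨m', rfl⟩) (hm'x'.mem_open U.2 hxU) (fun b hb hbm hbm' => by
      obtain ⟨b', rfl⟩ := hr.ge hb
      rw [hm'm b' hbm (ι.isClosedEmbedding.isEmbedding.isInducing.specializes_iff.1 hbm').mem_closure]) a ha).1
    omega
  -- a neighbourhood
  obtain ⟨Wv, hwWv, hWle, hWgen⟩ := GeomUnib.exists_nhds_fdim_le (ι ≫ f) w₀
  obtain ⟨nv, hnv, ⟨wv, hwvy, hwvw, hwvn⟩, -⟩ := exists_fibreDimAt_eq (ι ≫ f) w₀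
  have hnve : nv + 1 ≤ e := by
    rw [hcl] at hwvn
    exact hfib (ι.base wv) (hr.le ⟨wv, rfl⟩) (by rw [← hw₀]; exact hwvy) (hw₀ ▸ hwvw.map ι.continuous) nv hwvn
  let Uv := Wv ⊓ ι ⁻¹ᵁ U
  have hwUv : w₀ ∈ Uv := ⟨hwWv, show ι.base w₀ ∈ U by rw [hw₀]; exact hxU⟩
  -- the maximal points of fibres of `V` near `x`
  have hdimV : ∀ a ∈ Uv, (∀ b, (ι ≫ f) b = (ι ≫ f) a → a ∈ closure {b} → b = a) → fdim f (ι.base a) = n := by
    intro a ha hmaxa
    obtain ⟨k, hk, -⟩ := exists_fdim f (ι.base a)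
    have h1 := hWle a ha.1
    rw [hcl, hnv, hk] at h1
    have h1' : k ≤ nv := by exact_mod_cast h1
    have h2 := (hmaxV (ι.base a) (hr.le ⟨a, rfl⟩) ha.2 (fun b hb hba hba' => by
      obtain ⟨b', rfl⟩ := hr.ge hb
      rw [hmaxa b' hba (ι.isClosedEmbedding.isEmbedding.isInducing.specializes_iff.1 hba').mem_closure]) k hk).1
    rw [hk]
    exact_mod_cast (by omega : k = n)
  have hgenV : ∀ a ∈ Uv, (∀ b, b ⤳ a → a ⤳ b) →
      f (ι.base a) = genericPoint Y ∧ ringKrullDim (X.presheaf.stalk (ι.base a)) = 1 := by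
    intro a ha hamax
    have haV : ι.base a ∈ V := hr.le ⟨a, rfl⟩
    have hminV : ∀ b ∈ V, b ⤳ ι.base a → b = ι.base a := by
      intro b hb hba
      obtain ⟨b', rfl⟩ := hr.ge hb
      have := ι.isClosedEmbedding.isEmbedding.isInducing.specializes_iff.1 hba
      rw [(this.antisymm (hamax b' this)).eq]
    obtain ⟨m, hm, hma, -, hmm⟩ := exists_maximal_gen f (ι.base a)
    have hmU : m ∈ U := hma.mem_open U.2 ha.2
    have hmne : m ∉ V := fun hmV => by
      obtain rfl := hminV m hmV hma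
      have h1 := hme _ hmU hmm
      rw [hdimV a ha (fun b hb hab => (specializes_iff_mem_closure.2 hab |>.antisymm (hamax b (specializes_iff_mem_closure.2 hab))).eq)] at h1
      have : n = e := by exact_mod_cast h1
      omega
    obtain ⟨m₀, hm₀⟩ := QuasiSober.sober (isIrreducible_irreducibleComponent (x := m)) isClosed_irreducibleComponent
    have hm₀m : m₀ ⤳ m := hm₀.specializes mem_irreducibleComponent
    have hm₀max := GeomUnib.maximal_of_component m₀ _ (irreducibleComponent_mem_irreducibleComponents m) hm₀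
    have hbetween : m = m₀ := by
      rcases GeomUnib.no_point_between g hm₀m hma haV (fun b hb _ hba => hminV b hb hba) with h | h
      · exact h
      · exact (hmne (h ▸ haV)).elim
    have hfgen : f m = genericPoint Y := by rw [hbetween]; exact hgen m₀ (hbetween ▸ hmU) hm₀max
    refine ⟨hm ▸ hfgen, ?_⟩
    -- height one
    let R := X.presheaf.stalk (ι.base a)
    have hle : (IsLocalRing.maximalIdeal R).height ≤ 1 := by
      refine Ideal.height_le_one_of_isPrincipal_of_mem_minimalPrimes (Ideal.span {X.presheaf.germ ⊤ (ι.base a) trivial g}) _ ?_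
      refine ⟨⟨(IsLocalRing.maximalIdeal.isMaximal _).isPrime, ?_⟩, fun Q hQ _ => ?_⟩
      · rw [Ideal.span_singleton_le_iff_mem]
        exact fun hu => by
          rw [show V = (↑(X.basicOpen g))ᶜ from X.zeroLocus_singleton g] at haV
          exact haV ((X.mem_basicOpen g _ trivial).2 hu)
      · let Q' : PrimeSpectrum R := ⟨Q, hQ.1⟩
        have hw : X.fromSpecStalk _ Q' ∈ V := by
          rw [← GeomUnib.germ_mem_genPrime g (GeomUnib.fromSpecStalk_specializes Q'), GeomUnib.genPrime_fromSpecStalk]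
          exact hQ.2 (Ideal.mem_span_singleton_self _)
        have h2 : Q' = IsLocalRing.closedPoint R := (X.fromSpecStalk _).isEmbedding.injective
          ((hminV _ hw (GeomUnib.fromSpecStalk_specializes Q')).trans Scheme.fromSpecStalk_closedPoint.symm)
        exact (congrArg PrimeSpectrum.asIdeal h2).ge
    have hne : m ≠ ι.base a := fun h => hmne (h ▸ haV)
    let P := GeomUnib.genPrime hma
    have hlt : P.asIdeal < IsLocalRing.maximalIdeal R := by
      refine lt_of_le_of_ne (IsLocalRing.le_maximalIdeal P.2.ne_top) fun h => hne ?_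
      rw [← GeomUnib.fromSpecStalk_genPrime hma, show GeomUnib.genPrime hma = IsLocalRing.closedPoint R from
        PrimeSpectrum.ext h]
      exact Scheme.fromSpecStalk_closedPoint
    rw [← IsLocalRing.maximalIdeal_height_eq_ringKrullDim]
    refine congrArg _ (le_antisymm hle ?_)
    exact Order.one_le_iff_pos.2 (lt_of_le_of_lt bot_le (Ideal.height_strict_mono_of_isPrime hlt))
  refine ⟨fun w hw => ?_, ?_, ?_⟩
  · obtain rfl : w = w₀ := ι.isClosedEmbedding.injective (hw.trans hw₀.symm)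
    refine ⟨n, Uv, hwUv, fun Z hZ => ?_, fun x' Z hZ => ?_⟩
    · haveI : QuasiSober (↥Uv : Type u) := Uv.2.isOpenEmbedding_subtypeVal.quasiSober
      obtain ⟨c, hc⟩ := QuasiSober.sober hZ.1 (isClosed_of_mem_irreducibleComponents _ hZ)
      have hcmax := GeomUnib.maximal_of_component (Y := (Uv : Scheme.{u})) c Z hZ hc
      have hcmax' : ∀ b, b ⤳ Uv.ι.base c → Uv.ι.base c ⤳ b := fun b hb => by
        have hbU : b ∈ Uv := hb.mem_open Uv.2 c.2
        exact (hcmax ⟨b, hbU⟩ (Uv.ι.isOpenEmbedding.isEmbedding.isInducing.specializes_iff.1 hb)).map Uv.ι.continuous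
      refine ⟨Set.univ, by rw [irreducibleComponents_eq_singleton]; rfl, Set.mem_univ _, ?_⟩
      have h1 := hc.image (Uv.ι ≫ ι ≫ f).continuous
      have h2 := h1.def
      rw [show (Uv.ι ≫ ι ≫ f).base c = genericPoint Y from (hgenV _ c.2 hcmax').1] at h2
      exact h2.symm.trans (genericPoint_spec Y).def
    · obtain ⟨m, hm, -, hdim, hmm⟩ := GeomUnib.exists_maximal_of_component (ι ≫ f) Uv _ hZ
      rw [hdim, hcl, hdimV m hm hmm]
  · rw [hn, hfe]
    exact_mod_cast hn1
  · intro Z hZ hxZ ξ hξ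
    obtain ⟨a, ha⟩ := hr.ge ξ.2
    have hξgen : IsGenericPoint ξ Z := hξ
    have hmaxξ := fun (b : ↥V) (hb : b ⤳ ξ) =>
      hξgen.specializes (hZ.2 isIrreducible_singleton.closure (show Z ⊆ closure {b} from
        hξgen.def.symm.le.trans (closure_minimal (Set.singleton_subset_iff.2 hb.mem_closure) isClosed_closure)) (subset_closure rfl))
    have hax : ι.base a ⤳ x := by
      rw [ha]
      exact (hξgen.specializes hxZ).map continuous_subtype_val
    have haU : a ∈ Uv := by
      refine (ι.isClosedEmbedding.isEmbedding.isInducing.specializes_iff.1 (?_ : ι.base a ⤳ ι.base w₀)).mem_open Uv.2 hwUv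
      rw [hw₀]; exact hax
    have hamax : ∀ b, b ⤳ a → a ⤳ b := fun b hb => by
      refine ι.isClosedEmbedding.isEmbedding.isInducing.specializes_iff.1 ?_
      have hb' : (⟨ι.base b, hr.le ⟨b, rfl⟩⟩ : ↥V) ⤳ ξ := by
        refine Topology.IsInducing.subtypeVal.specializes_iff.1 ?_
        rw [← ha]; exact hb.map ι.continuous
      rw [ha]
      exact (hmaxξ _ hb').map continuous_subtype_val
    rw [← ha]
    exact (hgenV a haU hamax).2

end Groth.Agent.S5925
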