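import Groth.Statements.S5926
import Groth.Agent.GeomUnib.SectionSemi
import Groth.Agent.S2561
-- import your own Groth.Agent.* helpers here

set_option autoImplicit false
open CategoryTheory AlgebraicGeometry
universe u
open EGA43
open Groth.Agent.GeomUnib

namespace Groth.Agent.S5926

/-- Let Y be a reduced locally Noetherian scheme, f : X ⟶ Y a morphism locally of finite type with a
section g : Y ⟶ X, X_y^0 the connected component of f⁻¹(y) containing g y, and suppose every X_y^0
is geometrically irreducible over κ(y) (its preimage in the base change of X_y to any field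
extension K of κ(y) is irreducible). Let x₀ be a point of X lying in X_{y₀}^0, y₀ = f x₀. If y ↦ dim
X_y^0 is constant on a neighbourhood of y₀ and the fibre f⁻¹(y₀) is geometrically reduced at x₀,
then f is flat at x₀. -/
theorem result {X Y : Scheme.{u}} [IsLocallyNoetherian Y]
    [IsReduced Y] (f : X ⟶ Y) [LocallyOfFiniteType f] (g : Y ⟶ X) (hg : g ≫ f = 𝟙 Y)
    (hirr : ∀ y : Y, (∀ (K : Type u) [Field K] [Algebra (IsLocalRing.ResidueField (Y.presheaf.stalk y)) K],
        IsIrreducible ((FBase.bcπ (f.fiberToSpecResidueField y) K ≫ f.fiberι y).base ⁻¹' connectedComponentIn (f.base ⁻¹' {y}) (g.base y))))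
    (x₀ : X) (hx₀ : x₀ ∈ MoreMor.sectionComponents f g)
    (hconst : (∃ V ∈ nhds (f.base x₀), ∀ z ∈ V, topologicalKrullDim ↥(connectedComponentIn (f.base ⁻¹' {z}) (g.base z)) = topologicalKrullDim ↥(connectedComponentIn (f.base ⁻¹' {(f.base x₀)}) (g.base (f.base x₀)))))
    (hred : FBase.IsGeomReducedAt (f.fiberToSpecResidueField (f.base x₀)) (f.asFiber x₀)) :
    (f.stalkMap x₀).hom.Flat := by
  obtain ⟨V, hV, hVc⟩ := hconst
  obtain ⟨W, hWV, hW, hxW⟩ := mem_nhds_iff.1 hV
  refine S2561.result f x₀ (fun z hz hzmax => ?_) hred inferInstance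
  obtain ⟨ξ, hξy, hξ, hspec, -, -⟩ := SectionComp.exists_generic hg hirr (f.base x₀)
  have hio := (f.fiberι (f.base x₀)).isEmbedding
  obtain ⟨g₁, hg₁⟩ : ξ ∈ Set.range (f.fiberι (f.base x₀)) := (f.range_fiberι (f.base x₀)).ge hξy
  rw [← specializes_iff_mem_closure, ← hio.isInducing.specializes_iff, Scheme.Hom.fiberι_asFiber] at hz
  have hzy : f.base ((f.fiberι (f.base x₀)).base z) = f.base x₀ := (f.range_fiberι (f.base x₀)).le ⟨z, rfl⟩
  have h1 : ξ ⤳ (f.fiberι (f.base x₀)).base z := hspec _ (SectionComp.mem_X0_of_specializes hzy hx₀ hz)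
  have h2 : g₁ = z := hzmax g₁ (specializes_iff_mem_closure.1 (hio.isInducing.specializes_iff.1 (hg₁ ▸ h1 :)))
  rw [show (f.fiberι (f.base x₀)).base z = ξ from h2 ▸ hg₁]
  refine SectionComp.isUnivOpenAt_of_d0_const hg hirr (hξy.symm ▸ hξ) fun η hη => ?_
  rw [hξy] at hη ⊢
  exact hVc η (hWV (hη.mem_open hW hxW))

end Groth.Agent.S5926
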