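import Groth.Statements.S5928
import Groth.Agent.GeomUnib.SectionOpenGeneral
import Groth.Agent.GeomUnib.GeomRedFlatFP
import Groth.Agent.GeomRedAt.InsepScheme
-- import your own Groth.Agent.* helpers here

set_option autoImplicit false
open CategoryTheory AlgebraicGeometry
universe u
open EGA43

namespace Groth.Agent.S5928

/-- Let f : X ⟶ Y be a morphism with a section g : Y ⟶ X, and suppose that either Y is locally
Noetherian and f is locally of finite type, or f is of finite presentation. Let X_y^0 be the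
connected component of f⁻¹(y) containing g y and X^0 ⊆ X the union of the X_y^0, and suppose every
X_y^0 is geometrically irreducible over κ(y). Then the set W of points x of X^0 such that y ↦ dim
X_y^0 is constant on a neighbourhood of f x and the fibre f⁻¹(f x) is geometrically reduced at x
over κ(f x) is open in X. (The published statement asks that the whole component X_{f x}^0 be
geometrically reduced rather than geometrically reduced at x; with that reading the set need not be
open: over the affine line Spec k[t] take X = Spec k[t, s, e]/(e², e(ts − 1)) with the section s = e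
= 0, whose fibres are lines carrying an embedded point at s = 1/t for t ≠ 0 and a reduced line at t
= 0, so that the set would be the closed fibre over t = 0; the published proof, through the openness
of the locus where the fibre is geometrically reduced at the point, gives the pointwise form stated
here.) -/
theorem result {X Y : Scheme.{u}} (f : X ⟶ Y) (g : Y ⟶ X)
    (hg : g ≫ f = 𝟙 Y)
    (hfin : (IsLocallyNoetherian Y ∧ LocallyOfFiniteType f) ∨
      (LocallyOfFinitePresentation f ∧ QuasiCompact f ∧ QuasiSeparated f))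
    (hirr : ∀ y : Y, (∀ (K : Type u) [Field K] [Algebra (IsLocalRing.ResidueField (Y.presheaf.stalk y)) K],
        IsIrreducible ((FBase.bcπ (f.fiberToSpecResidueField y) K ≫ f.fiberι y).base ⁻¹' connectedComponentIn (f.base ⁻¹' {y}) (g.base y)))) :
    IsOpen {x : X | x ∈ MoreMor.sectionComponents f g ∧ (∃ V ∈ nhds (f.base x), ∀ z ∈ V, topologicalKrullDim ↥(connectedComponentIn (f.base ⁻¹' {z}) (g.base z)) = topologicalKrullDim ↥(connectedComponentIn (f.base ⁻¹' {(f.base x)}) (g.base (f.base x)))) ∧
      FBase.IsGeomReducedAt (f.fiberToSpecResidueField (f.base x)) (f.asFiber x)} := by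
  haveI : LocallyOfFinitePresentation f := by
    rcases hfin with ⟨hN, hF⟩ | ⟨hP, -, -⟩
    · exact LocallyOfFinitePresentation.iff_locallyOfFiniteType.2 hF
    · exact hP
  refine isOpen_iff_forall_mem_open.2 fun x hx => ?_
  obtain ⟨hxS, ⟨V, hV, hVd⟩, hred⟩ := hx
  obtain ⟨W, hWV, hW, hxW⟩ := mem_nhds_iff.1 hV
  have hcst : ∀ a ∈ W, ∀ b ∈ W, GeomUnib.SectionComp.d0 f g a = GeomUnib.SectionComp.d0 f g b :=
    fun a ha b hb => (hVd a (hWV ha)).trans (hVd b (hWV hb)).symm
  haveI := GeomRedAt.isReduced_nilradical_subscheme Y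
  let i := Y.nilradical.subschemeι
  haveI : Surjective i := by
    refine ⟨Set.range_eq_univ.mp ?_⟩
    rw [Scheme.IdealSheafData.range_subschemeι, Scheme.support_nilradical]
    rfl
  let f' := Limits.pullback.snd f i
  let g' : Y.nilradical.subscheme ⟶ Limits.pullback f i :=
    Limits.pullback.lift (i ≫ g) (𝟙 _) (by rw [Category.assoc, hg, Category.comp_id, Category.id_comp])
  let j := Limits.pullback.fst f i
  have hs : g' ≫ j = i ≫ g := Limits.pullback.lift_fst _ _ _
  have hg' : g' ≫ f' = 𝟙 _ := Limits.pullback.lift_snd _ _ _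
  have hpb : IsPullback j f' f i := IsPullback.of_hasPullback f i
  have hirr' : GeomUnib.SectionComp.GeomIrred f' g' := fun b =>
    (GeomUnib.SectionBC.gik_iff _ _ _).1 ((GeomUnib.SectionBC.gik_iff_of_isPullback hpb hs hg' hg b).2
      ((GeomUnib.SectionBC.gik_iff _ _ _).2 (hirr _)))
  have hd : ∀ b, GeomUnib.SectionComp.d0 f' g' b = GeomUnib.SectionComp.d0 f g (i.base b) := fun b => by
    rw [← GeomUnib.SectionComp.fibreDimAt_section hg' hirr', ← GeomUnib.SectionComp.fibreDimAt_section hg hirr,
      GeomUnib.SectionBC.fibreDimAt_bc, ← Scheme.Hom.comp_apply, hs, Scheme.Hom.comp_apply]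
  have hj : ∀ z, f.base (j.base z) = i.base (f'.base z) := fun z => congr($(Limits.pullback.condition (f := f) (g := i)) z)
  obtain ⟨x', rfl⟩ := j.surjective x
  have hxW' : i.base (f'.base x') ∈ W := hj x' ▸ hxW
  obtain ⟨hflat, O, hxO, hO⟩ := GeomUnib.SectionBC.flat_and_nhds_of_const (W := i ⁻¹ᵁ ⟨W, hW⟩) hg' hirr'
    (fun a ha b hb => by rw [hd, hd]; exact hcst _ ha _ hb) (x := x') hxW'
    (GeomUnib.SectionBC.mem_X0_of_map hpb hs hg' hg rfl
      ((hj x').subst (motive := fun t => j.base x' ∈ GeomUnib.SectionComp.X0 f g t) hxS))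
    ((GeomUnib.SectionBC.grk_iff_of_isPullback hpb x').2 ((GeomUnib.SectionBC.grk_iff f _).2 hred))
  let S := {z | (f'.stalkMap z).hom.Flat ∧ FBase.IsGeomReducedAt (f'.fiberToSpecResidueField (f'.base z)) (f'.asFiber z)}
  have hS : IsOpen S := GeomUnib.isOpen_flat_isGeomReducedAt f'
  have hxS' : x' ∈ S := ⟨hflat, (GeomUnib.SectionBC.grk_iff f' x').1
    ((GeomUnib.SectionBC.grk_iff_of_isPullback hpb x').2 ((GeomUnib.SectionBC.grk_iff f _).2 hred))⟩
  let O' : Set ↑(Limits.pullback f i) := (O : Set _) ∩ S ∩ (i.base ∘ f'.base) ⁻¹' W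
  have hO' : IsOpen O' := (O.2.inter hS).inter (hW.preimage (i.continuous.comp f'.continuous))
  refine ⟨j.base '' O', ?_, ?_, ⟨x', ⟨⟨hxO, hxS'⟩, hxW'⟩, rfl⟩⟩
  · rintro _ ⟨z, ⟨⟨hzO, hzS⟩, hzW⟩, rfl⟩
    refine ⟨?_, ⟨W, hW.mem_nhds (hj z ▸ hzW), fun a ha => hcst a ha _ (hj z ▸ hzW)⟩, ?_⟩
    · exact (hj z).symm.subst (motive := fun t => j.base z ∈ GeomUnib.SectionComp.X0 f g t)
        (GeomUnib.SectionBC.mem_X0_map hpb hs hg' (hO z hzO))
    · exact (GeomUnib.SectionBC.grk_iff f _).1
        ((GeomUnib.SectionBC.grk_iff_of_isPullback hpb z).1 ((GeomUnib.SectionBC.grk_iff f' z).2 hzS.2))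
  · have hb : Function.Bijective j.base := ⟨j.isClosedEmbedding.injective, j.surjective⟩
    have h1 := (j.isClosedEmbedding.isClosedMap _ hO'.isClosed_compl).isOpen_compl
    rwa [Set.image_compl_eq hb, compl_compl] at h1

end Groth.Agent.S5928
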