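import Groth.Statements.S5930
import Groth.Agent.FlatDescent.PdFibre

set_option autoImplicit false
universe u
open TensorProduct CategoryTheory
open EGA43

namespace Groth.Agent.S5930

theorem natCast_ext {a b : WithBot ℕ∞} (h : ∀ n : ℕ, a < n ↔ b < n) : a = b := by
  refine eq_of_forall_gt_iff fun c => ?_
  induction c using WithBot.recBotCoe with
  | bot => simp
  | coe c =>
    induction c using ENat.recTopCoe with
    | coe n => exact h n
    | top =>
      have key : ∀ x : WithBot ℕ∞, x < ((⊤ : ℕ∞) : WithBot ℕ∞) ↔ ∃ n : ℕ, x < n := fun x => by
        induction x using WithBot.recBotCoe with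
        | bot => exact ⟨fun _ => ⟨0, WithBot.bot_lt_coe _⟩, fun _ => WithBot.bot_lt_coe _⟩
        | coe x =>
          induction x using ENat.recTopCoe with
          | top => simp
          | coe m => exact ⟨fun _ => ⟨m + 1, by exact_mod_cast Nat.lt_succ_self m⟩, fun _ => WithBot.coe_lt_coe.2 (ENat.natCast_lt_top m)⟩
      rw [key, key]
      exact exists_congr h


/-- Let A be a commutative ring, B a finitely presented A-algebra which is flat as an A-module, and M a
finitely presented B-module which is flat as an A-module. Then the projective dimension of M as a
B-module equals the supremum, over the prime ideals p of A with residue fields κ(p), of the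
projective dimensions of the modules (B ⊗_A κ(p)) ⊗_B M over the rings B ⊗_A κ(p). (Projective
dimensions are taken in the respective module categories, with values in WithBot ℕ∞ and the zero
module of dimension ⊥. The published formula also equates these with the Tor-dimension of M over B;
that equality is not stated here.) -/
theorem result (A B M : Type u) [CommRing A] [CommRing B] [Algebra A B]
    [Algebra.FinitePresentation A B] [Module.Flat A B] [AddCommGroup M] [Module B M] [Module A M]
    [IsScalarTower A B M] [Module.FinitePresentation B M] [Module.Flat A M] :
    projectiveDimension (ModuleCat.of B M) =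
      ⨆ p : PrimeSpectrum A, projectiveDimension
        (ModuleCat.of (B ⊗[A] p.asIdeal.ResidueField) ((B ⊗[A] p.asIdeal.ResidueField) ⊗[B] M)) := by
  refine natCast_ext fun n => ?_
  rw [projectiveDimension_lt_iff, Groth.FlatDescent.hasProjectiveDimensionLT_iff_fibres (A := A) n M]
  simp only [← projectiveDimension_lt_iff]
  cases n with
  | zero => simp only [Nat.cast_zero, WithBot.lt_zero_iff_eq_bot, iSup_eq_bot]
  | succ n => simp only [Nat.cast_add, Nat.cast_one, ENat.WithBot.lt_add_one_iff, iSup_le_iff]

end Groth.Agent.S5930
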