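import Groth.Statements.S5936
import Groth.Agent.FlatDescent.PdFibre

set_option autoImplicit false
universe u
open TensorProduct CategoryTheory
open EGA43

namespace Groth.Agent.S5936

theorem natCast_ext {a b : WithBot ℕ∞} (h : ∀ n : ℕ, a < n ↔ b < n) : a = b := by
  refine eq_of_forall_gt_iff fun c => ?_
  induction c using WithBot.recBotCoe with
  | bot => simp
  | coe c =>
    induction c using ENat.recTopCoe with
    | coe n => exact h n
    | top =>
      have key : ∀ x : WithBot ℕ∞, x < ((⊤ : ℕ∞) : WithBot ℕ∞) ↔ ∃ n : ℕ, x < n := fun x => by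
        induction x using WithBot.recBotCoe with
        | bot => exact ⟨fun _ => ⟨0, WithBot.bot_lt_coe _⟩, fun _ => WithBot.bot_lt_coe _⟩
        | coe x =>
          induction x using ENat.recTopCoe with
          | top => simp
          | coe m => exact ⟨fun _ => ⟨m + 1, by exact_mod_cast Nat.lt_succ_self m⟩, fun _ => WithBot.coe_lt_coe.2 (ENat.natCast_lt_top m)⟩
      rw [key, key]
      exact exists_congr h


/-- Let A be a commutative ring, B a finitely presented A-algebra which is flat as an A-module, and M a
finitely presented B-module which is flat as an A-module. Then the projective dimension of M as a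
B-module equals its Tor-dimension, the least n such that Tor_i^B(M, N) = 0 for every i > n and every
B-module N. (Both sides are valued in WithBot ℕ∞, with the zero module of dimension ⊥; Tor_i^B(M, −)
is the i-th left derived functor of M ⊗_B −. In general only Tor-dimension ≤ projective dimension
holds.) -/
theorem result (A B M : Type u) [CommRing A] [CommRing B] [Algebra A B]
    [Algebra.FinitePresentation A B] [Module.Flat A B] [AddCommGroup M] [Module B M] [Module A M]
    [IsScalarTower A B M] [Module.FinitePresentation B M] [Module.Flat A M] :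
    projectiveDimension (ModuleCat.of B M) =
      sInf {n : WithBot ℕ∞ | ∀ i : ℕ, n < i → ∀ N : ModuleCat.{u} B,
        Limits.IsZero (((Tor (ModuleCat.{u} B) i).obj (ModuleCat.of B M)).obj N)} := by
  let S : Set (WithBot ℕ∞) := {n | ∀ i : ℕ, n < i → ∀ N : ModuleCat.{u} B,
    Limits.IsZero (((Tor (ModuleCat.{u} B) i).obj (ModuleCat.of B M)).obj N)}
  have hne : S.Nonempty := ⟨⊤, fun i hi => absurd hi (not_lt.2 le_top)⟩
  have hinf : ∀ n : ℕ, sInf S < ((n : ℕ) : WithBot ℕ∞) ↔ ∃ x ∈ S, x < (n : WithBot ℕ∞) := fun n =>
    csInf_lt_iff (OrderBot.bddBelow S) hne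
  show projectiveDimension _ = sInf S
  refine natCast_ext fun n => ?_
  rw [projectiveDimension_lt_iff, hinf]
  have z0 : ∀ N : ModuleCat.{u} B, ((Tor (ModuleCat.{u} B) 0).obj (ModuleCat.of B M)).obj N ≅
      ModuleCat.of B (M ⊗[B] N) := fun N =>
    ((MonoidalCategory.tensoringLeft (ModuleCat.{u} B)).obj (ModuleCat.of B M)).leftDerivedZeroIsoSelf.app N
  cases n with
  | zero =>
    rw [hasProjectiveDimensionLT_zero_iff_isZero]
    constructor
    · intro hM
      haveI := ModuleCat.subsingleton_of_isZero hM
      refine ⟨⊥, fun i _ N => ?_, WithBot.bot_lt_coe _⟩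
      cases i with
      | zero => exact (@ModuleCat.isZero_of_subsingleton _ _ (ModuleCat.of B (M ⊗[B] N)) inferInstance).of_iso (z0 N)
      | succ i =>
        haveI := (Groth.Agent.DRingPC.td_of_flat (M := ModuleCat.of B M) 0 : Groth.Agent.DRingPC.TD 0 (ModuleCat.of B M)) N (i + 1) (by omega)
        exact ModuleCat.isZero_of_subsingleton _
    · rintro ⟨x, hx, hx0⟩
      obtain rfl : x = ⊥ := (WithBot.lt_zero_iff_eq_bot x).1 (by simpa using hx0)
      have h1 := (hx 0 (WithBot.bot_lt_coe _) (ModuleCat.of B B)).of_iso (z0 _).symm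
      exact h1.of_iso (TensorProduct.rid B M).symm.toModuleIso
  | succ n =>
    rw [Groth.FlatDescent.hasProjectiveDimensionLT_iff_td (A := A) n M]
    constructor
    · intro h
      refine ⟨(n : WithBot ℕ∞), fun i hi N => ?_, by exact_mod_cast Nat.lt_succ_self n⟩
      haveI := h N i (by exact_mod_cast hi)
      exact ModuleCat.isZero_of_subsingleton _
    · rintro ⟨x, hx, hxn⟩ N p hp
      exact ModuleCat.subsingleton_of_isZero (hx p (lt_of_lt_of_le hxn (by exact_mod_cast hp)) N)

end Groth.Agent.S5936
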