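import Groth.Statements.S5939
import Groth.Agent.S4596
-- import your own Groth.Agent.* helpers here

set_option autoImplicit false
set_option backward.isDefEq.respectTransparency.types false
universe u
open CategoryTheory AlgebraicGeometry
open Unram17

namespace Groth.Agent.S5939

/-- Let f : X ⟶ Y be faithfully flat, locally of finite presentation and quasi-compact, and let g : Y ⟶
Z be a morphism such that f ≫ g is of finite presentation (locally of finite presentation,
quasi-compact and quasi-separated). Then g is quasi-compact and quasi-separated; together with the
descent of local finite presentation along f this says that g is of finite presentation. This is the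
case f quasi-compact. -/
theorem result {X Y Z : Scheme.{u}} (f : X ⟶ Y) (g : Y ⟶ Z)
    [Surjective f] [Flat f] [LocallyOfFinitePresentation f] [QuasiCompact f]
    [LocallyOfFinitePresentation (f ≫ g)] [QuasiCompact (f ≫ g)] [QuasiSeparated (f ≫ g)] :
    QuasiCompact g ∧ QuasiSeparated g := by
  refine ⟨Groth.Agent.S4596.result f g, ⟨?_⟩⟩
  have : QuasiCompact (f ≫ Limits.pullback.diagonal g) := by
    have e : f ≫ Limits.pullback.diagonal g = Limits.pullback.diagonal (f ≫ g) ≫
        Limits.pullback.map (f ≫ g) (f ≫ g) g g f f (𝟙 Z) (by simp) (by simp) := by
      apply Limits.pullback.hom_ext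
      · rw [Category.assoc, Category.assoc, Limits.pullback.diagonal_fst]
        erw [Limits.pullback.lift_fst]
        rw [Category.comp_id, Limits.pullback.diagonal_fst_assoc]
      · rw [Category.assoc, Category.assoc, Limits.pullback.diagonal_snd]
        erw [Limits.pullback.lift_snd]
        rw [Category.comp_id, Limits.pullback.diagonal_snd_assoc]
    rw [e]
    exact MorphismProperty.comp_mem _ _ _ (inferInstance : QuasiCompact (Limits.pullback.diagonal (f ≫ g)))
      (MorphismProperty.pullbackMap (P := @QuasiCompact) inferInstance inferInstance rfl rfl)
  exact Groth.Agent.S4596.result f (Limits.pullback.diagonal g)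

end Groth.Agent.S5939
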