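import Groth.Statements.S5950
import Groth.Agent.NormUniv.Char2
-- import your own Groth.Agent.* helpers here

set_option autoImplicit false
universe u
open CategoryTheory AlgebraicGeometry
open Unram17

namespace Groth.Agent.S5950

theorem isIso_restrict {A B : Scheme.{u}} (f : A ⟶ B) [IsIso f] (U : B.Opens) : IsIso (f ∣_ U) :=
  IsZariskiLocalAtTarget.restrict (P := MorphismProperty.isomorphisms Scheme) ‹IsIso f› U

theorem isIso_stalkMap_openImm {A B : Scheme.{u}} (g : A ⟶ B) [IsOpenImmersion g] (x : A) :
    IsIso (g.stalkMap x) := inferInstance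

theorem isIso_stalkMap_of_restrict {A B : Scheme.{u}} (f : A ⟶ B) (U : B.Opens) (hiso : IsIso (f ∣_ U))
    (y : A) (h : y ∈ f ⁻¹ᵁ U) : IsIso (f.stalkMap y) :=
  ((MorphismProperty.isomorphisms _).arrow_mk_iso_iff (morphismRestrictStalkMap f U ⟨y, h⟩)).mp
    ((MorphismProperty.isomorphisms.iff _).mpr
      (@isIso_stalkMap_openImm _ _ (f ∣_ U) (@IsOpenImmersion.of_isIso _ _ _ hiso) _))

/-- Let X be an integral scheme which has a nonempty (hence dense) open subset at whose points the local
rings are integrally closed, let X' ⟶ X be its normalization, and let f : Y ⟶ X be a morphism of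
schemes. Then there is an isomorphism Y ≅ X' over X if and only if: every local ring of Y is an
integrally closed domain, f is an integral morphism, and there is a dense open subset U of X whose
preimage is dense in Y and such that the restriction f⁻¹(U) ⟶ U of f is an isomorphism. (The
published statement allows X reduced with locally finitely many irreducible components and a dense
normal open subset; this row states the case of an integral X. The quasi-compactness and
quasi-separatedness binders on the generic point always hold and only serve to form the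
normalization.) -/
theorem result (X : Scheme.{u}) [IsIntegral X]
    [QuasiCompact (X.fromSpecStalk (genericPoint X))] [QuasiSeparated (X.fromSpecStalk (genericPoint X))]
    (hV : ∃ V : X.Opens, (V : Set ↥X).Nonempty ∧ ∀ x ∈ V, IsIntegrallyClosed (X.presheaf.stalk x))
    {Y : Scheme.{u}} (f : Y ⟶ X) :
    (∃ e : Y ≅ Curv2.normalization X, e.hom ≫ Curv2.normalizationι X = f) ↔
      Pi1.IsNormalScheme Y ∧ IsIntegralHom f ∧
        ∃ U : X.Opens, Dense (U : Set ↥X) ∧ Dense ((f ⁻¹ᵁ U : Y.Opens) : Set ↥Y) ∧ IsIso (f ∣_ U) := by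
  constructor
  · rintro ⟨e, he⟩
    obtain ⟨hY, hf, hirr, hfib, -⟩ := NormUniv.props_of_iso X f e he
    obtain ⟨U, hU, hiso⟩ := NormUniv.exists_dense_isIso_of_normal X hV
    haveI := hiso
    refine ⟨hY, hf, U, U.isOpen.dense hU, ?_, ?_⟩
    · haveI := hirr
      have hgen : genericPoint ↥Y ∈ f ⁻¹ᵁ U := by
        have h : genericPoint ↥Y ∈ f.base ⁻¹' {genericPoint ↥X} := by rw [hfib]; rfl
        change f (genericPoint ↥Y) ∈ U
        rw [show f (genericPoint ↥Y) = genericPoint ↥X from h]
        exact ((genericPoint_spec X).mem_open_set_iff U.isOpen).mpr (by simpa using hU)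
      exact (f ⁻¹ᵁ U).isOpen.dense ⟨_, hgen⟩
    · subst he
      rw [morphismRestrict_comp]
      exact @IsIso.comp_isIso _ _ _ _ _ _ _ (isIso_restrict e.hom _) hiso
  · rintro ⟨hY, hf, U, hUd, hU', hiso⟩
    haveI := hf
    haveI := hiso
    haveI : IsReduced Y := NormUniv.isReduced_of_normal hY
    obtain ⟨x0, hx0⟩ := hUd.nonempty
    haveI : Nonempty U.toScheme := ⟨⟨x0, hx0⟩⟩
    haveI : IsIntegral U.toScheme := isIntegral_of_isOpenImmersion U.ι
    haveI : Nonempty (f ⁻¹ᵁ U).toScheme := ⟨inv (f ∣_ U) ⟨x0, hx0⟩⟩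
    haveI : IsIntegral (f ⁻¹ᵁ U).toScheme := isIntegral_of_isOpenImmersion (f ∣_ U)
    have hη : genericPoint X ∈ U := ((genericPoint_spec X).mem_open_set_iff U.isOpen).mpr (by simpa using hUd.nonempty)
    have hξ := genericPoint_spec (f ⁻¹ᵁ U).toScheme
    have hcl : closure {(f ⁻¹ᵁ U).ι (genericPoint (f ⁻¹ᵁ U).toScheme)} = Set.univ := by
      refine Set.eq_univ_of_univ_subset (hU'.closure_eq ▸ closure_minimal ?_ isClosed_closure)
      intro y hy
      have h' : genericPoint (f ⁻¹ᵁ U).toScheme ⤳ (⟨y, hy⟩ : (f ⁻¹ᵁ U).toScheme) := hξ.specializes trivial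
      exact (h'.map (f ⁻¹ᵁ U).ι.base.hom.continuous).mem_closure
    haveI hirr : IrreducibleSpace ↥Y := @IrreducibleSpace.mk _ _
      ⟨(hcl ▸ isIrreducible_singleton.closure : IsIrreducible (Set.univ : Set Y)).2⟩ ⟨(f ⁻¹ᵁ U).ι (genericPoint _)⟩
    have hg : genericPoint Y = (f ⁻¹ᵁ U).ι (genericPoint (f ⁻¹ᵁ U).toScheme) :=
      ((genericPoint_spec Y).eq hcl).trans rfl
    have hfη : f (genericPoint Y) = genericPoint X := by
      rw [hg, ← Scheme.Hom.comp_apply, ← morphismRestrict_ι, Scheme.Hom.comp_apply]
      rw [genericPoint_eq_of_isOpenImmersion (f ∣_ U), genericPoint_eq_of_isOpenImmersion U.ι]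
    refine NormUniv.exists_iso X f hY ?_ ?_
    · ext y
      refine ⟨fun hy => ?_, fun hy => ?_⟩
      · have hyU : y ∈ f ⁻¹ᵁ U := by
          change f y ∈ U
          rw [show f y = genericPoint X from hy]; exact hη
        have hmem : genericPoint Y ∈ f ⁻¹ᵁ U := by
          change f (genericPoint Y) ∈ U
          rw [hfη]; exact hη
        have : (⟨y, hyU⟩ : (f ⁻¹ᵁ U).toScheme) = ⟨genericPoint Y, hmem⟩ :=
          (f ∣_ U).isOpenEmbedding.injective (Subtype.ext (by rw [morphismRestrict_base]; exact (hy : f y = _).trans hfη.symm))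
        exact congrArg Subtype.val this
      · rw [Set.mem_singleton_iff] at hy
        subst hy; exact hfη
    · have hmem : genericPoint Y ∈ f ⁻¹ᵁ U := by
        change f (genericPoint Y) ∈ U
        rw [hfη]; exact hη
      exact isIso_stalkMap_of_restrict f U hiso _ hmem

end Groth.Agent.S5950
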