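import Groth.Statements.S5956
import Mathlib
-- import your own Groth.Agent.* helpers here

set_option autoImplicit false
universe u
open CategoryTheory CategoryTheory.Limits AlgebraicGeometry TopologicalSpace Opposite
open Nrm16

namespace Groth.Agent.S5956

theorem map3 {T : TopCat.{u}} (P : (TopologicalSpace.Opens T)ᵒᵖ ⥤ AddCommGrpCat.{u}) {a b c d : (TopologicalSpace.Opens T)ᵒᵖ}
    (i : a ⟶ b) (j : b ⟶ c) (k : c ⟶ d) (l : a ⟶ d) (x : P.obj a) :
    P.map k (P.map j (P.map i x)) = P.map l x := by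
  rw [show l = i ≫ j ≫ k from Quiver.Hom.unop_inj (Subsingleton.elim _ _), Functor.map_comp, Functor.map_comp]
  rfl

theorem exists_trans {X Z Z' : Scheme.{u}} (g : Z' ⟶ Z) (p : Z ⟶ X) (p' : Z' ⟶ X) (e1 : g ≫ p = p')
    {M : Z.Modules} {N : Z'.Modules} (ψ : M ⟶ (Scheme.Modules.pushforward g).obj N) :
    ∃ π : (Scheme.Modules.pushforward p).obj M ⟶ (Scheme.Modules.pushforward p').obj N,
      ∀ (U : X.Opens) (V : Z.Opens) (V' : Z'.Opens) (hV : p ⁻¹ᵁ U ≤ V) (hV' : p' ⁻¹ᵁ U ≤ V')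
        (hg : g ⁻¹ᵁ V ≤ V') (a : Γ(M, V)) (b : Γ(N, V')),
        ψ.app V a = N.presheaf.map (homOfLE hg).op b →
        π.app U (M.presheaf.map (homOfLE hV).op a) = N.presheaf.map (homOfLE hV').op b := by
  refine ⟨(Scheme.Modules.pushforward p).map ψ ≫ (Scheme.Modules.pushforwardComp g p).hom.app N ≫
      (Scheme.Modules.pushforwardCongr e1).hom.app N, fun U V V' hV hV' hg a b h => ?_⟩
  change ((Scheme.Modules.pushforwardCongr e1).hom.app N).app U
    (ψ.app (p ⁻¹ᵁ U) (M.presheaf.map (homOfLE hV).op a)) = _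
  have h2 := congr($(ψ.mapPresheaf.naturality (homOfLE hV).op) a)
  rw [Scheme.Modules.pushforwardCongr_hom_app_app]
  erw [h2]
  change N.presheaf.map _ (N.presheaf.map _ (ψ.app V a)) = _
  rw [h]
  exact map3 N.presheaf _ _ _ (homOfLE hV').op b

theorem exists_psi {X Z Z' : Scheme.{u}} (g : Z' ⟶ Z) (q : Z ⟶ X) (q' : Z' ⟶ X) (e2 : g ≫ q = q') (F : X.Modules) :
    ∃ ψ : (Scheme.Modules.pullback q).obj F ⟶ (Scheme.Modules.pushforward g).obj ((Scheme.Modules.pullback q').obj F),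
      ∀ (U : X.Opens) (t : Γ(F, U)), ψ.app (q ⁻¹ᵁ U) (OmegaSh.pullSect q F U t) =
        ((Scheme.Modules.pullback q').obj F).presheaf.map (homOfLE (show g ⁻¹ᵁ q ⁻¹ᵁ U ≤ q' ⁻¹ᵁ U by subst e2; rfl)).op
          (OmegaSh.pullSect q' F U t) := by
  subst e2
  let adj := Scheme.Modules.pullbackPushforwardAdjunction q
  let N := (Scheme.Modules.pullback (g ≫ q)).obj F
  let β : F ⟶ (Scheme.Modules.pushforward q).obj ((Scheme.Modules.pushforward g).obj N) :=
    (Scheme.Modules.pullbackPushforwardAdjunction (g ≫ q)).unit.app F ≫ (Scheme.Modules.pushforwardComp g q).inv.app N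
  refine ⟨(adj.homEquiv F ((Scheme.Modules.pushforward g).obj N)).symm β, fun U t => ?_⟩
  have hψ : adj.unit.app F ≫ (Scheme.Modules.pushforward q).map
      ((adj.homEquiv F ((Scheme.Modules.pushforward g).obj N)).symm β) = β :=
    (Adjunction.homEquiv_unit adj _ _ _).symm.trans (Equiv.apply_symm_apply _ _)
  have h1 := congr($(hψ).app U t)
  refine (h1 : _ = _).trans ?_
  exact (ConcreteCategory.congr_hom (N.presheaf.map_id (op ((g ≫ q) ⁻¹ᵁ U))) (OmegaSh.pullSect (g ≫ q) F U t)).symm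

theorem generic {X Z Z' : Scheme.{u}} (g : Z' ⟶ Z) (p q : Z ⟶ X) (p' q' : Z' ⟶ X) (e1 : g ≫ p = p') (e2 : g ≫ q = q')
    (hp : ∀ U : X.Opens, p ⁻¹ᵁ U ≤ q ⁻¹ᵁ U) (hp' : ∀ U : X.Opens, p' ⁻¹ᵁ U ≤ q' ⁻¹ᵁ U) (F G : X.Modules)
    (D : F.presheaf ⟶ G.presheaf)
    (u : (Scheme.Modules.pushforward p').obj ((Scheme.Modules.pullback q').obj F) ⟶ G)
    (hu : ∀ (U : X.Opens) (t : Γ(F, U)), D.app (op U) t =
      u.app U (((Scheme.Modules.pullback q').obj F).presheaf.map (homOfLE (hp' U)).op (OmegaSh.pullSect q' F U t))) :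
    ∃ w : (Scheme.Modules.pushforward p).obj ((Scheme.Modules.pullback q).obj F) ⟶ G,
      ∀ (U : X.Opens) (t : Γ(F, U)), D.app (op U) t =
        w.app U (((Scheme.Modules.pullback q).obj F).presheaf.map (homOfLE (hp U)).op (OmegaSh.pullSect q F U t)) := by
  obtain ⟨ψ, hψ⟩ := exists_psi g q q' e2 F
  obtain ⟨π, hπ⟩ := exists_trans g p p' e1 ψ
  refine ⟨π ≫ u, fun U t => (hu U t).trans ?_⟩
  exact (congrArg (u.app U) (hπ U _ _ (hp U) (hp' U) _ _ _ (hψ U t))).symm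

/-- Let f : X ⟶ S be a morphism of schemes, F and G two O_X-modules and D : F ⟶ G a differential
operator of order at most n relative to S. Then D is a differential operator of order at most m for
every m ≥ n. -/
theorem result {X S : Scheme.{u}} (f : X ⟶ S) (F G : X.Modules) {n m : ℕ} (h : n ≤ m)
    (D : F.presheaf ⟶ G.presheaf) (hD : PrinPart.IsDiffOpLE f F G n D) :
    PrinPart.IsDiffOpLE f F G m D := by
  obtain ⟨u, hu⟩ := hD
  have e0 : PrinPart.infNbhdMap (PrinPart.diagCl f) h ≫ PrinPart.nbhdι f m = PrinPart.nbhdι f n := by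
    simp only [PrinPart.nbhdι, PrinPart.infNbhdMap_ι_assoc]
  have e1 : PrinPart.infNbhdMap (PrinPart.diagCl f) h ≫ PrinPart.pr1 f m = PrinPart.pr1 f n := by
    rw [PrinPart.pr1, PrinPart.pr1, reassoc_of% e0]
  have e2 : PrinPart.infNbhdMap (PrinPart.diagCl f) h ≫ PrinPart.pr2 f m = PrinPart.pr2 f n := by
    rw [PrinPart.pr2, PrinPart.pr2, reassoc_of% e0]
  exact generic (PrinPart.infNbhdMap (PrinPart.diagCl f) h) (PrinPart.pr1 f m) (PrinPart.pr2 f m)
    (PrinPart.pr1 f n) (PrinPart.pr2 f n) e1 e2 (fun U => (PrinPart.preimage_pr1 f m U).le)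
    (fun U => (PrinPart.preimage_pr1 f n U).le) F G D u hu

end Groth.Agent.S5956
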