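import Groth.Statements.S5965
import Mathlib.AlgebraicGeometry.ZariskisMainTheorem


set_option autoImplicit false
universe u
open CategoryTheory CategoryTheory.Limits AlgebraicGeometry TopologicalSpace Opposite
open Nrm16

namespace Groth.Agent.S5965

/-- Let g : X ⟶ Y be a morphism locally of finite type with a section f : Y ⟶ X which is a closed
immersion. Then for every n the n-th infinitesimal neighbourhood of Y in X, mapped to Y through its
inclusion into X followed by g, is finite over Y. (The published statement allows any section f and
says that the structure sheaf of the neighbourhood is a quasi-coherent O_Y-algebra which is an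
O_Y-module of finite type; this row assumes f a closed immersion and states the conclusion as
finiteness of the morphism to Y.) -/
theorem result {X Y : Scheme.{u}} (g : X ⟶ Y) [LocallyOfFiniteType g] (f : Y ⟶ X)
    [IsClosedImmersion f] (hf : f ≫ g = 𝟙 Y) (n : ℕ) :
    IsFinite (PrinPart.infNbhdι f n ≫ g) := by

  set t := PrinPart.toInfNbhd f n with ht'
  set h := PrinPart.infNbhdι f n ≫ g with hh
  have : LocallyOfFiniteType h := by
    rw [hh, PrinPart.infNbhdι]; infer_instance
  have e : t ≫ h = 𝟙 Y := by rw [hh, ← Category.assoc, PrinPart.toInfNbhd_ι, hf]
  have : Surjective t := ⟨PrinPart.toInfNbhd_surjective f n⟩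
  have : UniversallyClosed (t ≫ h) := by rw [e]; infer_instance
  have : UniversallyClosed h := UniversallyClosed.of_comp_surjective t h
  have hd : Surjective (pullback.diagonal h) := by
    let m : pullback (t ≫ h) (t ≫ h) ⟶ pullback h h :=
      pullback.map _ _ _ _ t t (𝟙 Y) (by simp) (by simp)
    have : Surjective m := MorphismProperty.pullbackMap (P := @Surjective) ‹Surjective t› ‹Surjective t› rfl rfl
    have hiso : IsIso (pullback.diagonal (t ≫ h)) := by rw [e]; infer_instance
    have e2 : pullback.diagonal (t ≫ h) ≫ m = t ≫ pullback.diagonal h := by
      apply pullback.hom_ext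
      · simp only [m, pullback.map, Category.assoc]
        erw [pullback.lift_fst, pullback.diagonal_fst, pullback.diagonal_fst_assoc, Category.comp_id]
      · simp only [m, pullback.map, Category.assoc]
        erw [pullback.lift_snd, pullback.diagonal_snd, pullback.diagonal_snd_assoc, Category.comp_id]
    have : Surjective (t ≫ pullback.diagonal h) := by rw [← e2]; infer_instance
    exact Surjective.of_comp t _
  have : IsClosedImmersion (pullback.diagonal h) := by
    refine IsClosedImmersion.of_isPreimmersion _ ?_
    rw [hd.surj.range_eq]; exact isClosed_univ
  have : IsSeparated h := ⟨this⟩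
  have : IsProper h := {}
  have : LocallyQuasiFinite h := LocallyQuasiFinite.of_injective (f := h) (by
    intro a b hab
    obtain ⟨a, rfl⟩ := PrinPart.toInfNbhd_surjective f n a
    obtain ⟨b, rfl⟩ := PrinPart.toInfNbhd_surjective f n b
    rw [← Scheme.Hom.comp_apply, ← Scheme.Hom.comp_apply, e] at hab
    rw [show a = b by simpa using hab])
  exact IsFinite.of_isProper_of_locallyQuasiFinite h

end Groth.Agent.S5965
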