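import Groth.Statements.S5975
import Groth.Agent.OmegaUniv.Deriv

set_option autoImplicit false
universe u
open CategoryTheory CategoryTheory.Limits AlgebraicGeometry TopologicalSpace Opposite
open Nrm16

namespace Groth.Agent.S5975

/-- Let f : X ⟶ Y and g : Y ⟶ Z be morphisms of schemes. Let (Ω_{Y/Z}, d), (Ω_{X/Z}, d') and (Ω_{X/Y},
d'') be sheaves of differentials (universal derivations) and let c₁ : f^*Ω_{Y/Z} ⟶ Ω_{X/Z} and c₂ :
Ω_{X/Z} ⟶ Ω_{X/Y} be the canonical maps compatible with the derivations. Then c₂ is an epimorphism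
and the image of c₁ is the kernel of c₂: the sequence f^*Ω_{Y/Z} ⟶ Ω_{X/Z} ⟶ Ω_{X/Y} ⟶ 0 is exact. -/
theorem result {X Y Z : Scheme.{u}} (f : X ⟶ Y) (g : Y ⟶ Z)
    (ΩY : Y.Modules) (dY : OmegaSh.Der g ΩY) (hY : OmegaSh.IsUniversal dY)
    (ΩX : X.Modules) (dX : OmegaSh.Der (f ≫ g) ΩX) (hX : OmegaSh.IsUniversal dX)
    (ΩXY : X.Modules) (dXY : OmegaSh.Der f ΩXY) (hXY : OmegaSh.IsUniversal dXY)
    (c₁ : (Scheme.Modules.pullback f).obj ΩY ⟶ ΩX) (hc₁ : OmegaSh.IsDiffCompat f dY dX c₁)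
    (c₂ : (Scheme.Modules.pullback (𝟙 X)).obj ΩX ⟶ ΩXY) (hc₂ : OmegaSh.IsDiffCompat (𝟙 X) dX dXY c₂) :
    Epi c₂ ∧
      imageSubobject c₁ = kernelSubobject ((Scheme.Modules.pullbackId X).inv.app ΩX ≫ c₂) := by
  let c : ΩX ⟶ ΩXY := (Scheme.Modules.pullbackId X).inv.app ΩX ≫ c₂
  have hc : ∀ (U : X.Opens) (s : Γ(X, U)), c.app U (dX.app U s) = dXY.app U s := fun U s => by
    show c₂.app U (((Scheme.Modules.pullbackId X).inv.app ΩX).app U (dX.app U s)) = _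
    rw [OmegaUniv.pullId_app]
    exact (hc₂ U s).trans (congrArg (dXY.app U) (by simp; rfl))
  have hcepi : Epi c := ⟨fun {G} α β h => OmegaUniv.hom_ext hXY fun U s => by
    rw [← hc]; exact congr(($h).app U (dX.app U s))⟩
  have hepi : Epi c₂ := epi_of_epi ((Scheme.Modules.pullbackId X).inv.app ΩX) c₂
  have w : c₁ ≫ c = 0 := OmegaUniv.pull_univ_ext f hY fun U s => by
    show c.app (f ⁻¹ᵁ U) (c₁.app (f ⁻¹ᵁ U) _) = _
    rw [hc₁, hc, OmegaUniv.app_app]
    rfl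
  refine ⟨hepi, (ShortComplex.exact_iff_image_eq_kernel (ShortComplex.mk c₁ c w)).1
    (OmegaUniv.exact_of_factors c₁ c w fun G γ hγ => ?_)⟩
  let D : OmegaSh.Der f G := OmegaUniv.mkDer (fun U s => γ.app U (dX.app U s))
    (fun U a b => by rw [map_add, map_add])
    (fun U a b => by rw [OmegaUniv.app_mul, map_add, Scheme.Modules.Hom.app_smul, Scheme.Modules.Hom.app_smul])
    (fun U V e a => by
      rw [OmegaUniv.app_map]
      exact congr(($((Scheme.Modules.Hom.mapPresheaf γ).naturality (homOfLE e).op)) (dX.app U a)))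
    (fun V a => by
      rw [← hc₁ V a]
      exact congr(($hγ).app (f ⁻¹ᵁ V) (OmegaSh.pullSect f ΩY V (dY.app V a))))
  obtain ⟨α, hα⟩ := OmegaUniv.exists_lift hXY D
  refine ⟨α, OmegaUniv.hom_ext hX fun U s => ?_⟩
  show α.app U (c.app U (dX.app U s)) = _
  rw [hc, hα]
  rfl

end Groth.Agent.S5975
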