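import Groth.Statements.S5976
import Groth.Agent.OmegaUniv.LocalLift
import Mathlib.AlgebraicGeometry.Morphisms.Immersion
-- import your own Groth.Agent.* helpers here

set_option autoImplicit false
universe u
open CategoryTheory CategoryTheory.Limits AlgebraicGeometry TopologicalSpace Opposite
open Nrm16

namespace Groth.Agent.S5976
open Groth.Agent.OmegaUniv
open Groth.Agent.ConormalSection (pullRes pullRes_add pullRes_smul)

/-- Let f : Y ⟶ Z be a morphism and j : X ⟶ Y a quasi-compact immersion. Let (Ω_{Y/Z}, d) and (Ω_{X/Z},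
d') be sheaves of differentials (universal derivations), φ : N_{X/Y} ⟶ j^*Ω_{Y/Z} the canonical map
from the conormal sheaf of j (class of a local section s of the ideal ↦ pullback of d s) and c :
j^*Ω_{Y/Z} ⟶ Ω_{X/Z} the canonical map compatible with the derivations. Then c is an epimorphism and
the image of φ is the kernel of c: the sequence N_{X/Y} ⟶ j^*Ω_{Y/Z} ⟶ Ω_{X/Z} ⟶ 0 is exact. (The
published statement allows any immersion j; this row assumes j quasi-compact, the case in which the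
conormal sheaf used here is that of j.) -/
theorem result {X Y Z : Scheme.{u}} (f : Y ⟶ Z) (j : X ⟶ Y)
    [IsImmersion j] [QuasiCompact j]
    (ΩY : Y.Modules) (dY : OmegaSh.Der f ΩY) (hY : OmegaSh.IsUniversal dY)
    (ΩX : X.Modules) (dX : OmegaSh.Der (j ≫ f) ΩX) (hX : OmegaSh.IsUniversal dX)
    (φ : Omega.conormal j ⟶ (Scheme.Modules.pullback j).obj ΩY) (hφ : OmegaSh.IsConormalDiff j dY φ)
    (c : (Scheme.Modules.pullback j).obj ΩY ⟶ ΩX) (hc : OmegaSh.IsDiffCompat j dY dX c) :
    Epi c ∧ imageSubobject φ = kernelSubobject c := by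
  classical
  have w : φ ≫ c = 0 := pull_hom_ext j fun W x => by
    show c.app (j ⁻¹ᵁ W) (φ.app (j ⁻¹ᵁ W) (OmegaSh.pullSect j (ClSub.idealMod j.ker) W x)) = 0
    rw [show φ.app (j ⁻¹ᵁ W) (OmegaSh.pullSect j (ClSub.idealMod j.ker) W x) = _ from hφ W x, hc,
      app_eq_zero_of_idealSect, map_zero]
  have hepi : Epi c := ⟨fun {G} α β h => hom_ext hX fun U t => section_ext_local fun x hx => by
    obtain ⟨⟨W, V, eW, eU, s, hs⟩, hxV⟩ := exists_lift_at j t x hx
    refine ⟨V, eU, hxV, ?_⟩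
    rw [← QCohLib.app_map, ← QCohLib.app_map, ← app_map, ← hs, ← diffCompat_res hc eW]
    exact congr(($h).app V (pullRes j ΩY eW (dY.app W s)))⟩
  refine ⟨hepi, (ShortComplex.exact_iff_image_eq_kernel (ShortComplex.mk φ c w)).1
    (exact_of_factors φ c w fun G γ hγ => ?_)⟩
  let A : ∀ {U : X.Opens} {t : Γ(X, U)} (L : Lift j t), Γ(G, L.V) := fun L =>
    γ.app L.V (pullRes j ΩY L.eW (dY.app L.W L.s))
  have hAres : ∀ {U : X.Opens} {t : Γ(X, U)} (L : Lift j t) {W : Y.Opens} {V : X.Opens} (hW : W ≤ L.W)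
      (hV : V ≤ L.V) (e : V ≤ j ⁻¹ᵁ W), G.presheaf.map (homOfLE hV).op (A L) =
        γ.app V (pullRes j ΩY e (dY.app W (Y.presheaf.map (homOfLE hW).op L.s))) :=
    fun {U t} L {W V} hW hV e => by
      rw [app_map, pullRes_res, ← QCohLib.app_map, res_pullRes]
  have hcompat : ∀ {U : X.Opens} {t : Γ(X, U)} (L L' : Lift j t) (V : X.Opens) (h : V ≤ L.V) (h' : V ≤ L'.V),
      G.presheaf.map (homOfLE h).op (A L) = G.presheaf.map (homOfLE h').op (A L') := fun {U t} L L' V h h' => by
    have e : V ≤ j ⁻¹ᵁ (L.W ⊓ L'.W) := fun x hx => ⟨L.eW (h hx), L'.eW (h' hx)⟩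
    rw [hAres L inf_le_left h e, hAres L' inf_le_right h' e, ← sub_eq_zero, ← map_sub, ← pullRes_sub, ← map_sub]
    obtain ⟨W', hW', e', m, hm⟩ := exists_idealSect_of_appLE j e
      (Y.presheaf.map (homOfLE (inf_le_left : L.W ⊓ L'.W ≤ L.W)).op L.s -
        Y.presheaf.map (homOfLE (inf_le_right : L.W ⊓ L'.W ≤ L'.W)).op L'.s) (by
        rw [map_sub, map_appLE_apply, map_appLE_apply, ← appLE_map_apply j h L.eW, L.hs,
          ← appLE_map_apply j h' L'.eW, L'.hs, fn_res_res, fn_res_res, sub_self])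
    rw [← pullRes_res j ΩY hW' e', ← app_map, ← hm, ← conormalDiff_res hφ e']
    exact congr(($hγ).app V (pullRes j (ClSub.idealMod j.ker) e' m))
  choose D hD using fun (U : X.Opens) (t : Γ(X, U)) => exists_glue_lift j t A hcompat
  let Dd : OmegaSh.Der (j ≫ f) G := mkDer D
    (fun U a b => section_ext_local fun x hx => by
      obtain ⟨L, hL⟩ := exists_lift_at j a x hx
      obtain ⟨L', hL'⟩ := exists_lift_at j b x hx
      have e : L.V ⊓ L'.V ≤ j ⁻¹ᵁ (L.W ⊓ L'.W) := fun y hy => ⟨L.eW hy.1, L'.eW hy.2⟩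
      let L'' : Lift j (a + b) := ⟨L.W ⊓ L'.W, L.V ⊓ L'.V, e, inf_le_left.trans L.eU,
        Y.presheaf.map (homOfLE inf_le_left).op L.s + Y.presheaf.map (homOfLE inf_le_right).op L'.s, by
          rw [map_add, map_add, map_appLE_apply, map_appLE_apply, ← appLE_map_apply j inf_le_left L.eW,
            L.hs, ← appLE_map_apply j inf_le_right L'.eW, L'.hs, fn_res_res, fn_res_res]⟩
      refine ⟨L''.V, L''.eU, ⟨hL, hL'⟩, ?_⟩
      rw [hD U _ L'', map_add, ← res_res L.eU inf_le_left (D U a), hD U a L,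
        ← res_res L'.eU inf_le_right (D U b), hD U b L',
        hAres L inf_le_left inf_le_left e, hAres L' inf_le_right inf_le_right e]
      show γ.app _ (pullRes j ΩY e (dY.app _ (_ + _))) = _
      rw [map_add, pullRes_add, map_add])
    (fun U a b => section_ext_local fun x hx => by
      obtain ⟨L, hL⟩ := exists_lift_at j a x hx
      obtain ⟨L', hL'⟩ := exists_lift_at j b x hx
      have e : L.V ⊓ L'.V ≤ j ⁻¹ᵁ (L.W ⊓ L'.W) := fun y hy => ⟨L.eW hy.1, L'.eW hy.2⟩
      have ea : j.appLE _ _ e (Y.presheaf.map (homOfLE inf_le_left).op L.s) =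
          X.presheaf.map (homOfLE (inf_le_left.trans L.eU)).op a := by
        rw [map_appLE_apply, ← appLE_map_apply j inf_le_left L.eW, L.hs, fn_res_res]
      have eb : j.appLE _ _ e (Y.presheaf.map (homOfLE inf_le_right).op L'.s) =
          X.presheaf.map (homOfLE (inf_le_left.trans L.eU)).op b := by
        rw [map_appLE_apply, ← appLE_map_apply j inf_le_right L'.eW, L'.hs, fn_res_res]
      let L'' : Lift j (a * b) := ⟨L.W ⊓ L'.W, L.V ⊓ L'.V, e, inf_le_left.trans L.eU,
        Y.presheaf.map (homOfLE inf_le_left).op L.s * Y.presheaf.map (homOfLE inf_le_right).op L'.s, by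
          rw [map_mul, map_mul, ea, eb]⟩
      refine ⟨L''.V, L''.eU, ⟨hL, hL'⟩, ?_⟩
      rw [hD U _ L'', map_add, Scheme.Modules.map_smul, Scheme.Modules.map_smul,
        ← res_res L.eU inf_le_left (D U a), hD U a L,
        ← res_res L'.eU inf_le_right (D U b), hD U b L',
        hAres L inf_le_left inf_le_left e, hAres L' inf_le_right inf_le_right e, ← ea, ← eb,
        ← Scheme.Modules.Hom.app_smul, ← Scheme.Modules.Hom.app_smul, ← map_add, ← pullRes_smul, ← pullRes_smul,
        ← pullRes_add, ← app_mul])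
    (fun U U' e t => section_ext_local fun x hx => by
      obtain ⟨L, hL⟩ := exists_lift_at j t x (e hx)
      refine ⟨(L.res e).V, (L.res e).eU, ⟨hL, hx⟩, ?_⟩
      rw [hD U' _ (L.res e), res_res]
      refine Eq.trans ?_ (res_res L.eU (inf_le_left : L.V ⊓ U' ≤ L.V) (D U t))
      rw [hD U t L, hAres L le_rfl inf_le_left (inf_le_left.trans L.eW),
        show Y.presheaf.map (homOfLE le_rfl).op L.s = L.s from
          ConcreteCategory.congr_hom (Y.presheaf.map_id _) L.s]
      rfl)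
    (fun O a => by
      let L : Lift j ((j ≫ f).app O a) := ⟨f ⁻¹ᵁ O, j ⁻¹ᵁ (f ⁻¹ᵁ O), le_rfl, le_of_eq rfl, f.app O a, by
        rw [← Scheme.Hom.app_eq_appLE, Scheme.Hom.comp_app]
        exact (ConcreteCategory.congr_hom (X.presheaf.map_id _) _).symm⟩
      have h1 := hD ((j ≫ f) ⁻¹ᵁ O) _ L
      rw [show A L = 0 by show γ.app _ (pullRes j ΩY _ (dY.app _ (f.app O a))) = 0; rw [app_app, pullRes_zero, map_zero]] at h1
      exact (res_self _ _).symm.trans h1)
  obtain ⟨α, hα⟩ := exists_lift hX Dd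
  refine ⟨α, pull_univ_ext j hY fun W s => ?_⟩
  show α.app (j ⁻¹ᵁ W) (c.app (j ⁻¹ᵁ W) _) = _
  rw [hc, hα]
  let L : Lift j (j.app W s) := ⟨W, j ⁻¹ᵁ W, le_rfl, le_rfl, s, by
    rw [← Scheme.Hom.app_eq_appLE]
    exact (ConcreteCategory.congr_hom (X.presheaf.map_id _) _).symm⟩
  refine (res_self (le_refl _) _).symm.trans ((hD _ _ L).trans ?_)
  show γ.app _ (pullRes j ΩY _ _) = _
  rw [res_pullSect]


end Groth.Agent.S5976
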