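import Mathlib.AlgebraicGeometry.Modules.Sheaf

set_option autoImplicit false
universe u
open CategoryTheory AlgebraicGeometry

namespace Groth.Agent.UnitIsoPush

theorem pushforward_isEquivalence {X Y : Scheme.{u}} (h : X ⟶ Y) [IsIso h] :
    (Scheme.Modules.pushforward h).IsEquivalence :=
  (CategoryTheory.Equivalence.mk (Scheme.Modules.pushforward h) (Scheme.Modules.pushforward (inv h))
    ((Scheme.Modules.pushforwardId X).symm ≪≫ Scheme.Modules.pushforwardCongr (IsIso.hom_inv_id h).symm ≪≫
      (Scheme.Modules.pushforwardComp h (inv h)).symm)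
    (Scheme.Modules.pushforwardComp (inv h) h ≪≫ Scheme.Modules.pushforwardCongr (IsIso.inv_hom_id h) ≪≫
      Scheme.Modules.pushforwardId Y)).isEquivalence_functor

theorem isIso_unit {X Y : Scheme.{u}} (h : X ⟶ Y) [IsIso h] :
    IsIso (Scheme.Modules.pullbackPushforwardAdjunction h).unit := by
  have := pushforward_isEquivalence h
  have := (Scheme.Modules.pullbackPushforwardAdjunction h).isEquivalence_left_of_isEquivalence_right
  infer_instance

end Groth.Agent.UnitIsoPush
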