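import Groth.Statements.S5979
import Groth.Agent.UnitIsoPush


set_option autoImplicit false
universe u
open CategoryTheory CategoryTheory.Limits AlgebraicGeometry TopologicalSpace Opposite
open Nrm16

namespace Groth.Agent.S5979

/-- Let f : X ⟶ S be a morphism of schemes and F an O_X-module. For every open U of X the canonical
operator d^0 : Γ(U, F) ⟶ Γ(U, P^0_{X/S}(F)) is bijective; so P^0_{X/S}(F) is identified with F, and
P^0_{X/S} with O_X, through d^0. -/
theorem result {X S : Scheme.{u}} (f : X ⟶ S) (F : X.Modules) (U : X.Opens) :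
    Function.Bijective (PrinPart.dP f 0 F U) := by
  haveI h0 : IsIso (Scheme.IdealSheafData.inclusion (PrinPart.ker_pow_succ_le (PrinPart.diagCl f) 0)) := by
    have e : (PrinPart.diagCl f).ker ≤ (PrinPart.diagCl f).ker ^ (0 + 1) := by simp
    exact ⟨Scheme.IdealSheafData.inclusion e, by rw [Scheme.IdealSheafData.inclusion_comp]; exact Scheme.IdealSheafData.inclusion_id _,
      by rw [Scheme.IdealSheafData.inclusion_comp]; exact Scheme.IdealSheafData.inclusion_id _⟩
  haveI h1 : IsIso (PrinPart.toNbhd f 0) := by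
    change IsIso ((PrinPart.diagCl f).toImage ≫ _)
    infer_instance
  haveI h2 : IsIso (PrinPart.pr2 f 0) := IsIso.of_isIso_fac_left (PrinPart.toNbhd_pr2 f 0)
  haveI := Groth.Agent.UnitIsoPush.isIso_unit (PrinPart.pr2 f 0)
  haveI : IsIso (OmegaSh.pullSect (PrinPart.pr2 f 0) F U) := by
    haveI : IsIso ((Scheme.Modules.pullbackPushforwardAdjunction (PrinPart.pr2 f 0)).unit.app F) := inferInstance
    exact inferInstanceAs (IsIso (((Scheme.Modules.toPresheaf X).map ((Scheme.Modules.pullbackPushforwardAdjunction (PrinPart.pr2 f 0)).unit.app F)).app (op U)))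
  haveI : IsIso (homOfLE (PrinPart.preimage_pr1 f 0 U).le) := ⟨homOfLE (PrinPart.preimage_pr1 f 0 U).ge, Subsingleton.elim _ _, Subsingleton.elim _ _⟩
  have h3 := ConcreteCategory.bijective_of_isIso (((Scheme.Modules.pullback (PrinPart.pr2 f 0)).obj F).presheaf.map (homOfLE (PrinPart.preimage_pr1 f 0 U).le).op)
  exact h3.comp (ConcreteCategory.bijective_of_isIso (OmegaSh.pullSect (PrinPart.pr2 f 0) F U))

end Groth.Agent.S5979
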