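import Groth.Statements.S5988
import Groth.Agent.ComplDeriv.Idx

set_option autoImplicit false
universe u
open scoped TensorProduct
open EGA418

namespace Groth.Agent.S5988

open IsLocalRing KaehlerDifferential
open TensorProduct (AlgebraTensorModule.cancelBaseChange)

theorem rank_of_exact {L : Type u} [Field L] {Z A B : Type u} [AddCommGroup Z] [Module L Z] [AddCommGroup A]
    [Module L A] [AddCommGroup B] [Module L B] [Module.Finite L A] (i : Z →ₗ[L] A) (g : A →ₗ[L] B)
    (hi : Function.Injective i) (hig : LinearMap.ker g = LinearMap.range i) (hg : Function.Surjective g) :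
    Module.Finite L Z ∧ Module.rank L B + Module.rank L Z = Module.rank L A := by
  refine ⟨Module.Finite.of_injective i hi, ?_⟩
  rw [← (g.quotKerEquivOfSurjective hg).rank_eq, ← rank_range_of_injective i hi, ← hig]
  exact Submodule.rank_quotient_add_rank _

theorem tower (k F L : Type u) [Field k] [Field F] [Field L] [Algebra k F] [Algebra k L] [Algebra F L]
    [IsScalarTower k F L] [FiniteDimensional F L] (hinj : Function.Injective (mapBaseChange ℤ k F)) :
    Module.Finite L (LinearMap.ker (mapBaseChange ℤ k L)) ∧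
      Module.rank L (L ⊗[F] Ω[F⁄k]) + Module.rank L (LinearMap.ker (mapBaseChange ℤ k L)) =
        Module.rank L (Ω[L⁄k]) := by
  classical
  obtain ⟨hu1, hu2, hu3⟩ := EGA41Lib.fieldIdx_of_finite (K := F) (L := L)
  let u₀ := mapBaseChange ℤ F L
  let μ := mapBaseChange k F L
  let ν := KaehlerDifferential.map k F L L
  let π := (KaehlerDifferential.map ℤ k F F).baseChange L
  let κ : L ⊗[k] Ω[k⁄ℤ] →ₗ[L] L ⊗[F] Ω[F⁄ℤ] :=
    ((mapBaseChange ℤ k F).baseChange L) ∘ₗ
      (AlgebraTensorModule.cancelBaseChange k F L L (Ω[k⁄ℤ])).symm.toLinearMap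
  have hκinj : Function.Injective κ :=
    (Module.Flat.lTensor_preserves_injective_linearMap _ hinj).comp (LinearEquiv.injective _)
  have hκπ : LinearMap.ker π = LinearMap.range κ := by
    rw [LinearMap.range_comp, LinearEquiv.range, Submodule.map_top]
    exact SetLike.ext fun z => lTensor_exact L (KaehlerDifferential.exact_mapBaseChange_map ℤ k F)
      (KaehlerDifferential.map_surjective ℤ k F) z
  have hκu : ∀ w, u₀ (κ w) = mapBaseChange ℤ k L w := by
    intro w
    refine LinearMap.congr_fun (f := u₀ ∘ₗ κ) ?_ w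
    refine TensorProduct.AlgebraTensorModule.curry_injective
      (LinearMap.ext_ring (LinearMap.ext_on (KaehlerDifferential.span_range_derivation ℤ k) ?_))
    rintro _ ⟨a, rfl⟩
    simp [u₀, κ, ← IsScalarTower.algebraMap_apply]
  have hsq : ∀ z, μ (π z) = KaehlerDifferential.map ℤ k L L (u₀ z) := by
    intro z
    refine LinearMap.congr_fun (f := μ ∘ₗ π) (g := KaehlerDifferential.map ℤ k L L ∘ₗ u₀) ?_ z
    refine TensorProduct.AlgebraTensorModule.curry_injective
      (LinearMap.ext_ring (LinearMap.ext_on (KaehlerDifferential.span_range_derivation ℤ F) ?_))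
    rintro _ ⟨a, rfl⟩
    simp [π, u₀, μ]
  let g : LinearMap.ker u₀ →ₗ[L] LinearMap.ker μ := π.restrict fun z hz => by
    rw [LinearMap.mem_ker, hsq, LinearMap.mem_ker.1 hz, map_zero]
  have hg : Function.Surjective g := by
    rintro ⟨y, hy⟩
    obtain ⟨z, rfl⟩ := LinearMap.lTensor_surjective L (KaehlerDifferential.map_surjective ℤ k F) y
    have h1 : u₀ z ∈ LinearMap.ker (KaehlerDifferential.map ℤ k L L) := by
      rw [LinearMap.mem_ker, ← hsq]
      exact LinearMap.mem_ker.1 hy
    rw [LinearMap.exact_iff.1 (KaehlerDifferential.exact_mapBaseChange_map ℤ k L)] at h1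
    obtain ⟨w, hw⟩ := h1
    refine ⟨⟨z - κ w, by rw [LinearMap.mem_ker, map_sub, hκu, hw, sub_self]⟩, Subtype.ext ?_⟩
    show π (z - κ w) = π z
    rw [map_sub, LinearMap.mem_ker.mp (hκπ.ge ⟨w, rfl⟩ : κ w ∈ LinearMap.ker π), sub_zero]
  let i : LinearMap.ker (mapBaseChange ℤ k L) →ₗ[L] LinearMap.ker u₀ :=
    (κ.comp (Submodule.subtype _)).codRestrict (LinearMap.ker u₀) fun w => by
      rw [LinearMap.mem_ker, LinearMap.comp_apply, hκu]; exact w.2
  have hi : Function.Injective i := fun a b h => Subtype.ext (hκinj (congrArg Subtype.val h))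
  have hig : LinearMap.ker g = LinearMap.range i := by
    ext c
    constructor
    · intro hc
      obtain ⟨w, hw⟩ := (hκπ.le (LinearMap.mem_ker.mpr (congrArg Subtype.val (LinearMap.mem_ker.mp hc))) :
        c.1 ∈ LinearMap.range κ)
      refine ⟨⟨w, ?_⟩, Subtype.ext hw⟩
      rw [LinearMap.mem_ker, ← hκu, hw]
      exact c.2
    · rintro ⟨w, rfl⟩
      exact Subtype.ext (LinearMap.mem_ker.mp (hκπ.ge ⟨w.1, rfl⟩ : κ w.1 ∈ LinearMap.ker π))
  have := hu1
  obtain ⟨hfinK, h1⟩ := rank_of_exact (L := L) (Z := LinearMap.ker (mapBaseChange ℤ k L)) (A := LinearMap.ker u₀) (B := LinearMap.ker μ) i g hi hig hg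
  refine ⟨hfinK, ?_⟩
  have h2 := μ.rank_range_add_rank_ker
  have h3 := ν.rank_range_add_rank_ker
  rw [LinearMap.range_eq_top.mpr (KaehlerDifferential.map_surjective k F L), rank_top,
    LinearMap.exact_iff.1 (KaehlerDifferential.exact_mapBaseChange_map k F L)] at h3
  have h4 : Module.rank L Ω[L⁄F] = Module.rank L (LinearMap.ker u₀) := by
    rw [← Module.finrank_eq_rank, ← Module.finrank_eq_rank]
    exact_mod_cast (show Module.finrank L Ω[L⁄F] = Module.finrank L (LinearMap.ker u₀) by
      have : (Module.finrank L Ω[L⁄F] : ℤ) = Module.finrank L (LinearMap.ker u₀) := by linarith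
      exact_mod_cast this)
  rw [← h2, ← h3, h4, ← h1]
  abel

theorem fraction_data (p : ℕ) [Fact p.Prime] (k : Type u) [Field k] [CharP k p] (d : ℕ) (F : Type u) [Field F]
    [Algebra (MvPowerSeries (Fin d) k) F] [IsFractionRing (MvPowerSeries (Fin d) k) F] [Algebra k F]
    [IsScalarTower k (MvPowerSeries (Fin d) k) F] :
    Function.Injective (mapBaseChange ℤ k F) ∧ (d : Cardinal.{u}) ≤ Module.rank F Ω[F⁄k] := by
  classical
  let R := MvPowerSeries (Fin d) k
  have : IsDomain R := NoZeroDivisors.to_isDomain _
  have : CharP F p := charP_of_injective_algebraMap (algebraMap k F).injective p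
  refine ⟨(EGA41Lib.frobLI_iff_injective (p := p)).mp
      (EGA41Lib.FrobLI.of_isFractionRing (R := R) (EGA41Lib.frobLI_mvPowerSeries (p := p) (k := k))), ?_⟩
  have hli : LinearIndependent F fun i => KaehlerDifferential.D k F (algebraMap R F (MvPowerSeries.X i)) := by
    let D₀ : Fin d → Derivation k R F := fun i => (Algebra.linearMap R F).compDer (MvPowerSeries.pderiv k i)
    choose D₁ hD₁ using fun i => ComplDeriv.exists_extend_fraction F (D₀ i)
    rw [Fintype.linearIndependent_iff]
    intro g hg i
    have h := congrArg (D₁ i).liftKaehlerDifferential hg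
    simp only [map_sum, map_smul, map_zero, Derivation.liftKaehlerDifferential_comp_D, hD₁] at h
    rw [Finset.sum_eq_single i] at h
    · change g i * algebraMap R F (MvPowerSeries.pderiv k i (MvPowerSeries.X i)) = 0 at h
      rwa [MvPowerSeries.pderiv_X, Pi.single_eq_same, map_one, mul_one] at h
    · intro j _ hj
      change g j * algebraMap R F (MvPowerSeries.pderiv k i (MvPowerSeries.X j)) = 0
      rw [MvPowerSeries.pderiv_X, Pi.single_eq_of_ne hj, map_zero, mul_zero]
    · exact fun h => absurd (Finset.mem_univ _) h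
  simpa using hli.cardinal_lift_le_rank

theorem result (p : ℕ) [Fact p.Prime]
    (k C L : Type u) [Field k] [CharP k p] [CommRing C] [IsDomain C] [IsNoetherianRing C] [IsLocalRing C]
    [Algebra k C] [IsAdicComplete (IsLocalRing.maximalIdeal C) C]
    [Module.Finite k (IsLocalRing.ResidueField C)] (n : ℕ) (hn : ringKrullDim C = n)
    [Field L] [Algebra C L] [IsFractionRing C L] [Algebra k L] [IsScalarTower k C L] :
    Module.Finite L (LinearMap.ker (KaehlerDifferential.mapBaseChange ℤ k L)) ∧
      (n : Cardinal.{u}) + Module.rank L (LinearMap.ker (KaehlerDifferential.mapBaseChange ℤ k L)) ≤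
        Module.rank L (Ω[L⁄k]) := by
  classical
  obtain ⟨d, f, hd, hinj, hfin, hfC⟩ := ComplDeriv.exists_finite_injective_powerSeries k C
  have hdn : d = n := by exact_mod_cast hd.symm.trans hn
  subst hdn
  let R := MvPowerSeries (Fin d) k
  have : IsDomain R := NoZeroDivisors.to_isDomain _
  let _ : Algebra R C := f.toAlgebra
  have : Module.Finite R C := hfin
  have : IsScalarTower k R C := IsScalarTower.of_algebraMap_eq fun c => (hfC c).symm
  let F := FractionRing R
  let _ : Algebra R L := ((algebraMap C L).comp f).toAlgebra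
  have : IsScalarTower R C L := IsScalarTower.of_algebraMap_eq fun x => rfl
  have : FaithfulSMul R L := (faithfulSMul_iff_algebraMap_injective R L).mpr
    ((IsFractionRing.injective C L).comp hinj)
  let _ : Algebra F L := FractionRing.liftAlgebra R L
  have : IsScalarTower R F L := FractionRing.isScalarTower_liftAlgebra R L
  have : IsScalarTower k R L := IsScalarTower.of_algebraMap_eq fun c => by
    rw [IsScalarTower.algebraMap_apply k C L, IsScalarTower.algebraMap_apply R C L,
      ← IsScalarTower.algebraMap_apply k R C]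
  have : IsScalarTower k F L := IsScalarTower.of_algebraMap_eq fun c => by
    rw [IsScalarTower.algebraMap_apply k R F, ← IsScalarTower.algebraMap_apply R F L,
      ← IsScalarTower.algebraMap_apply k R L]
  have hfinFL : FiniteDimensional F L := by
    obtain ⟨G, hG⟩ := (inferInstance : Module.Finite R C).fg_top
    let S : Set L := algebraMap C L '' (G : Set C)
    have hint : ∀ y ∈ S, IsIntegral F y := by
      rintro _ ⟨b, -, rfl⟩
      exact ((Algebra.IsIntegral.isIntegral (R := R) b).map (IsScalarTower.toAlgHom R C L)).tower_top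
    let T := Algebra.adjoin F S
    have hBT : ∀ b : C, algebraMap C L b ∈ T := fun b => by
      have hb : b ∈ Submodule.span R (G : Set C) := by rw [hG]; trivial
      induction hb using Submodule.span_induction with
      | mem b hb => exact Algebra.subset_adjoin ⟨b, hb, rfl⟩
      | zero => rw [map_zero]; exact T.zero_mem
      | add u v _ _ hu hv => rw [map_add]; exact T.add_mem hu hv
      | smul r u _ hu =>
        rw [Algebra.smul_def, map_mul, ← IsScalarTower.algebraMap_apply, IsScalarTower.algebraMap_apply R F L]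
        exact T.mul_mem (T.algebraMap_mem _) hu
    have hT : Module.Finite F T := Module.Finite.iff_fg.mpr (fg_adjoin_of_finite (G.finite_toSet.image _) hint)
    have htop : ∀ y : L, y ∈ T := fun y => by
      obtain ⟨a, b, _, rfl⟩ := IsFractionRing.div_surjective (A := C) y
      rw [div_eq_mul_inv]
      exact T.mul_mem (hBT a) (Subalgebra.inv_mem_of_algebraic T (x := ⟨_, hBT b⟩)
        ((Algebra.IsIntegral.isIntegral (R := R) b).map (IsScalarTower.toAlgHom R C L)).tower_top.isAlgebraic)
    exact Module.Finite.of_surjective T.val.toLinearMap fun y => ⟨⟨y, htop y⟩, rfl⟩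
  obtain ⟨hinjF, hrank⟩ := fraction_data p k d F
  obtain ⟨h1, h2⟩ := tower k F L hinjF
  refine ⟨h1, ?_⟩
  rw [← h2]
  refine add_le_add ?_ le_rfl
  rw [Module.rank_baseChange, Cardinal.lift_id]
  exact hrank

end Groth.Agent.S5988
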