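import Groth.Statements.S6009
import Groth.Agent.FpqcTorsor.Points
-- import your own Groth.Agent.* helpers here

set_option autoImplicit false
set_option linter.style.haveILetI false
set_option backward.isDefEq.respectTransparency false
universe u
open CategoryTheory AlgebraicGeometry MonoidalCategory CartesianMonoidalCategory MonObj GrpObj
open SGA1

namespace Groth.Agent.S6009

theorem _root_.Groth.Agent.FpqcTorsor.exists_of_exact {S : Scheme.{u}} {G G' G'' X : Over S} [GrpObj G] [GrpObj G'] [GrpObj G'']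
    {u : G' ⟶ G} {v : G ⟶ G''} (hex : NonAbH1.IsExactSeq Scheme.fpqcPrecoverage u v) {a : AlgGrp.Action G' X} {i : X ⟶ G}
    (hi : ∀ {T : Over S} (g' : T ⟶ G') (p : T ⟶ X), FpqcTorsor.pt a g' p ≫ i = (p ≫ i) * (g' ≫ u)⁻¹)
    (ha : NonAbH1.IsTorsorFor Scheme.fpqcPrecoverage a) {f : 𝟙_ (Over S) ⟶ G''} (hi0 : i ≫ v = toUnit X ≫ f)
    (hinj : ∀ {T : Over S} (p p' : T ⟶ X), p ≫ i = p' ≫ i → p = p') {T : Over S} (g : T ⟶ G)
    (hg : g ≫ v = toUnit T ≫ f) : ∃ p : T ⟶ X, p ≫ i = g := by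
  haveI := hex.1
  obtain ⟨l, hl1, hl2⟩ := hex.2.2.2.1.exists_lift (snd T X ≫ i) (fst T X ≫ g) (by simp [hi0, hg])
  have e : l ≫ (G ◁ u) ≫ μ[G] = (l ≫ fst G G') * (l ≫ snd G G' ≫ u) := by
    rw [Hom.mul_def, ← Category.assoc]
    congr 1
    apply CartesianMonoidalCategory.hom_ext <;> simp
  rw [e, hl1] at hl2
  let m : T ⊗ X ⟶ X := FpqcTorsor.pt a (l ≫ snd G G')⁻¹ (snd T X)
  have hm : m ≫ i = fst T X ≫ g := by
    rw [hi, GrpObj.inv_comp, _root_.inv_inv, Category.assoc]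
    exact hl2
  obtain ⟨t, ht, -⟩ := FpqcTorsor.existsUnique_desc₂ a ha m (hinj _ _ (by simp [hm]))
  exact ⟨t, FpqcTorsor.cancel_fst a ha (by rw [reassoc_of% ht, hm])⟩

/-- Exactness of the cohomology sequence at H^1(S, G'): let u : G' → G and v : G → G'' be homomorphisms
of affine commutative S-groups forming a sequence 1 → G' → G → G'' → 1 which is exact for the fpqc
topology, and let Q be a principal homogeneous bundle under G' (fpqc torsor). Then the bundle
deduced from Q by extension of the structure group along u is trivial, in the sense that Q admits a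
u-equivariant S-morphism to G acting on itself by left translation, if and only if Q is the boundary
of some section f of G'' over S: there is a morphism i : Q → G making Q the inverse image of f under
v, with G' acting through right translation by inverses. -/
theorem result {S : Scheme.{u}}
    {G G' G'' : Over S} [GrpObj G] [GrpObj G'] [GrpObj G'']
    [IsCommMonObj G] [IsCommMonObj G'] [IsCommMonObj G'']
    [IsAffineHom G.hom] [IsAffineHom G'.hom] [IsAffineHom G''.hom]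
    (u : G' ⟶ G) (v : G ⟶ G'') (hex : NonAbH1.IsExactSeq Scheme.fpqcPrecoverage u v)
    (Q : NonAbH1.TorsorSch G' Scheme.fpqcPrecoverage) :
    NonAbH1.IsPushforwardAlongSch u Q.act (NonAbH1.trivialAction G) ↔
      ∃ (f : 𝟙_ (Over S) ⟶ G'') (i : Q.X ⟶ G), NonAbH1.IsPullbackTorsor u v f i Q.act := by
  haveI := hex.1
  haveI := hex.2.1
  constructor
  · rintro ⟨φ, hφ⟩
    let i : Q.X ⟶ G := φ⁻¹
    have hi : ∀ {T : Over S} (g' : T ⟶ G') (p : T ⟶ Q.X), FpqcTorsor.pt Q.act g' p ≫ i = (p ≫ i) * (g' ≫ u)⁻¹ := by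
      intro T g' p
      have e : FpqcTorsor.pt Q.act g' p ≫ φ = (g' ≫ u) * (p ≫ φ) := by
        rw [FpqcTorsor.pt, Category.assoc, hφ, comp_lift_assoc, lift_fst_assoc, lift_snd_assoc, Hom.mul_def]
        rfl
      simp only [i, GrpObj.comp_inv, e, _root_.mul_inv_rev]
    have hv0 : ∀ {T : Over S} (g' : T ⟶ G'), g' ≫ u ≫ v = 1 := fun g' => by rw [hex.2.2.1, MonObj.comp_one]
    obtain ⟨f, hf, -⟩ := FpqcTorsor.existsUnique_desc₂ Q.act Q.isTorsor (snd (𝟙_ (Over S)) Q.X ≫ i ≫ v) (by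
      have e : (𝟙_ (Over S) ◁ Q.act.act) ≫ snd (𝟙_ (Over S)) Q.X ≫ i =
          FpqcTorsor.pt Q.act (snd (𝟙_ (Over S)) (G' ⊗ Q.X) ≫ fst G' Q.X) (snd (𝟙_ (Over S)) (G' ⊗ Q.X) ≫ snd G' Q.X) ≫ i := by
        rw [FpqcTorsor.pt, whiskerLeft_snd_assoc, Category.assoc, ← comp_lift_assoc, lift_fst_snd, Category.id_comp]
      rw [reassoc_of% e, whiskerLeft_snd_assoc, ← Category.assoc (FpqcTorsor.pt _ _ _), hi, MonObj.mul_comp, GrpObj.inv_comp,
        Category.assoc, Category.assoc (_ ≫ fst G' Q.X), hv0]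
      simp)
    have hi0 : i ≫ v = toUnit Q.X ≫ f := by
      have := congrArg (fun k => lift (toUnit Q.X) (𝟙 Q.X) ≫ k) hf
      simpa using this.symm
    have hinj : ∀ {T : Over S} (p p' : T ⟶ Q.X), p ≫ i = p' ≫ i → p = p' := by
      intro T p p' h
      obtain ⟨g', hg'⟩ := FpqcTorsor.exists_pt Q.act Q.isTorsor.1 p p'
      have h2 := hi g' p
      rw [hg', ← h] at h2
      have h3 : g' ≫ u = 1 := inv_eq_one.1 (mul_eq_left.1 h2.symm)
      have : lift (1 : T ⟶ G) g' = lift (1 : T ⟶ G) (1 : T ⟶ G') := by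
        refine hex.2.2.2.1.hom_ext (by simp) ?_
        rw [lift_whiskerLeft_assoc, lift_whiskerLeft_assoc, ← Hom.mul_def, ← Hom.mul_def, h3, MonObj.one_comp]
      have hg1 : g' = 1 := by simpa using congrArg (fun k => k ≫ snd G G') this
      rw [← hg', hg1, FpqcTorsor.pt_one]
    refine ⟨f, i, inferInstance, inferInstance, ?_, fun T g' p => ?_⟩
    · have hex' : ∀ s : Limits.PullbackCone v f, ∃ p : s.pt ⟶ Q.X, p ≫ i = s.fst := fun s =>
        FpqcTorsor.exists_of_exact hex hi Q.isTorsor hi0 hinj s.fst (by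
          rw [s.condition]; congr 1; exact Subsingleton.elim _ _)
      exact IsPullback.of_isLimit' ⟨hi0⟩ (Limits.PullbackCone.IsLimit.mk _ (fun s => (hex' s).choose)
        (fun s => (hex' s).choose_spec) (fun s => Subsingleton.elim _ _)
        (fun s m h1 _ => hinj _ _ (h1.trans (hex' s).choose_spec.symm)))
    · rw [← hi, FpqcTorsor.pt, Category.assoc]
  · rintro ⟨f, i, -, -, -, hi⟩
    refine ⟨i⁻¹, ?_⟩
    show Q.act.act ≫ i⁻¹ = lift (fst G' Q.X ≫ u) (snd G' Q.X ≫ i⁻¹) ≫ μ[G]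
    have h := hi (G' ⊗ Q.X) (fst G' Q.X) (snd G' Q.X)
    rw [lift_fst_snd, Category.id_comp] at h
    rw [GrpObj.comp_inv, h, ← Hom.mul_def, GrpObj.comp_inv, _root_.mul_inv_rev, _root_.inv_inv]

end Groth.Agent.S6009
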