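import Groth.Statements.S6010
import Groth.Agent.FpqcTorsor.LocalSections
-- import your own Groth.Agent.* helpers here

set_option autoImplicit false
set_option linter.style.haveILetI false
set_option backward.isDefEq.respectTransparency false
universe u
open CategoryTheory AlgebraicGeometry MonoidalCategory CartesianMonoidalCategory MonObj GrpObj
open SGA1

namespace Groth.Agent.S6010

theorem locSections_pullback_snd {S : Scheme.{u}} {A B C : Over S} (v : A ⟶ C) (φ : B ⟶ C)
    (hv : FpqcTorsor.LocSections v) : FpqcTorsor.LocSections (Limits.pullback.snd v φ) := by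
  obtain ⟨R, hR, hsec⟩ := hv
  obtain ⟨𝒰, rfl⟩ := Precoverage.mem_iff_exists_zeroHypercover.1 hR
  refine ⟨_, (𝒰.pullback₁ φ.left).mem₀, ?_⟩
  rintro T f ⟨i⟩
  obtain ⟨σ, hσ⟩ := hsec (𝒰.f i) ⟨i⟩
  let z := Limits.pullback.fst φ.left (𝒰.f i)
  let U : Over.mk (z ≫ B.hom) ⟶ A := Over.homMk (Limits.pullback.snd φ.left (𝒰.f i) ≫ σ) (by
    show (_ ≫ σ) ≫ A.hom = z ≫ B.hom
    rw [Category.assoc, ← Over.w v, reassoc_of% hσ, ← Limits.pullback.condition_assoc, Over.w φ])
  let V : Over.mk (z ≫ B.hom) ⟶ B := Over.homMk z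
  have h : U ≫ v = V ≫ φ := Over.OverMorphism.ext (by
    show (_ ≫ σ) ≫ v.left = z ≫ φ.left
    rw [Category.assoc, hσ, Limits.pullback.condition])
  exact ⟨(Limits.pullback.lift U V h).left, congrArg CommaMorphism.left (Limits.pullback.lift_snd U V h)⟩

/-- Exactness of the cohomology sequence at H^1(S, G): let u : G' → G and v : G → G'' be homomorphisms
of affine commutative S-groups forming a sequence 1 → G' → G → G'' → 1 which is exact for the fpqc
topology, and let P be a principal homogeneous bundle under G (fpqc torsor). Then the bundle deduced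
from P by extension of the structure group along v is trivial, in the sense that P admits a
v-equivariant S-morphism to G'' acting on itself by left translation, if and only if P comes from
G': there is a principal homogeneous bundle Q under G' with a u-equivariant S-morphism Q → P. -/
theorem result {S : Scheme.{u}}
    {G G' G'' : Over S} [GrpObj G] [GrpObj G'] [GrpObj G'']
    [IsCommMonObj G] [IsCommMonObj G'] [IsCommMonObj G'']
    [IsAffineHom G.hom] [IsAffineHom G'.hom] [IsAffineHom G''.hom]
    (u : G' ⟶ G) (v : G ⟶ G'') (hex : NonAbH1.IsExactSeq Scheme.fpqcPrecoverage u v)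
    (P : NonAbH1.TorsorSch G Scheme.fpqcPrecoverage) :
    NonAbH1.IsPushforwardAlongSch v P.act (NonAbH1.trivialAction G'') ↔
      ∃ Q : NonAbH1.TorsorSch G' Scheme.fpqcPrecoverage, NonAbH1.IsPushforwardAlongSch u Q.act P.act := by
  haveI := hex.1
  haveI := hex.2.1
  constructor
  · rintro ⟨φ, hφ⟩
    have hφ' : ∀ {T : Over S} (g : T ⟶ G) (p : T ⟶ P.X), FpqcTorsor.pt P.act g p ≫ φ = (g ≫ v) * (p ≫ φ) := by
      intro T g p
      rw [FpqcTorsor.pt, Category.assoc, hφ, comp_lift_assoc, lift_fst_assoc, lift_snd_assoc, Hom.mul_def]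
      rfl
    have huv : ∀ {T : Over S} (g' : T ⟶ G'), g' ≫ u ≫ v = 1 := fun g' => by rw [hex.2.2.1, MonObj.comp_one]
    have hker : ∀ {T : Over S} (w : T ⟶ G), w ≫ v = 1 → ∃ g : T ⟶ G', g ≫ u = w := by
      intro T w hw
      obtain ⟨l, h1, h2⟩ := hex.2.2.2.1.exists_lift (1 : T ⟶ G) w (by rw [hw, MonObj.one_comp])
      refine ⟨l ≫ snd G G', ?_⟩
      have e : l ≫ (G ◁ u) ≫ μ[G] = (l ≫ fst G G') * (l ≫ snd G G' ≫ u) := by
        rw [Hom.mul_def, ← Category.assoc]
        congr 1
        apply CartesianMonoidalCategory.hom_ext <;> simp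
      rw [e, h1, _root_.one_mul] at h2
      rw [Category.assoc, h2]
    have hinj : ∀ {T : Over S} (g g' : T ⟶ G'), g ≫ u = g' ≫ u → g = g' := by
      intro T g g' h
      have : lift (1 : T ⟶ G) g = lift (1 : T ⟶ G) g' := by
        refine hex.2.2.2.1.hom_ext (by simp) ?_
        have e : ∀ k : T ⟶ G', lift (1 : T ⟶ G) k ≫ (G ◁ u) ≫ μ[G] = k ≫ u := fun k => by
          rw [lift_whiskerLeft_assoc, ← Hom.mul_def, _root_.one_mul]
        rw [e, e, h]
      simpa using congrArg (fun k => k ≫ snd G G') this
    let X : Over S := Limits.pullback φ η[G'']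
    let j : X ⟶ P.X := Limits.pullback.fst φ η[G'']
    have hj : j ≫ φ = 1 := by
      rw [Hom.one_def, Limits.pullback.condition]
      congr 1
      exact Subsingleton.elim _ _
    have hjmono : ∀ {T : Over S} {p q : T ⟶ X}, p ≫ j = q ≫ j → p = q := fun h =>
      Limits.pullback.hom_ext h (Subsingleton.elim _ _)
    let act : G' ⊗ X ⟶ X := Limits.pullback.lift (FpqcTorsor.pt P.act (fst G' X ≫ u) (snd G' X ≫ j)) (toUnit _) (by
      rw [hφ', Category.assoc, Category.assoc, huv, hj, MonObj.comp_one, _root_.one_mul, Hom.one_def])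
    have hact : ∀ {T : Over S} (g : T ⟶ G') (p : T ⟶ X), lift g p ≫ act ≫ j = FpqcTorsor.pt P.act (g ≫ u) (p ≫ j) := by
      intro T g p
      rw [Limits.pullback.lift_fst, FpqcTorsor.comp_pt, lift_fst_assoc, lift_snd_assoc]
    let aQ : AlgGrp.Action G' X := {
      act := act
      one_act := by
        refine hjmono ?_
        have e : η[G'] ▷ X = lift (toUnit _ ≫ η[G']) (snd (𝟙_ (Over S)) X) := by
          apply CartesianMonoidalCategory.hom_ext
          · simp only [whiskerRight_fst, lift_fst]; congr 1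
          · simp
        rw [Category.assoc, e, hact, ← Hom.one_def, MonObj.one_comp, FpqcTorsor.pt_one, leftUnitor_hom]
      mul_act := by
        refine hjmono ?_
        let g₁ := fst (G' ⊗ G') X ≫ fst G' G'
        let g₂ := fst (G' ⊗ G') X ≫ snd G' G'
        let p := snd (G' ⊗ G') X
        have e : μ[G'] ▷ X = lift (g₁ * g₂) p := by
          apply CartesianMonoidalCategory.hom_ext
          · simp [g₁, g₂, Hom.mul_def]
          · simp [p]
        have e' : (α_ G' G' X).hom ≫ (G' ◁ act) = lift g₁ (lift g₂ p ≫ act) := by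
          apply CartesianMonoidalCategory.hom_ext
          · simp [g₁]
          · simp only [Category.assoc, whiskerLeft_snd, lift_snd]
            rw [← Category.assoc]
            congr 1
            apply CartesianMonoidalCategory.hom_ext <;> simp [g₂, p]
        rw [Category.assoc, e, hact, MonObj.mul_comp, FpqcTorsor.pt_mul, Category.assoc, reassoc_of% e']
        simp only [g₁, Category.assoc, hact] }
    have hQp : NonAbH1.IsPseudoTorsorSch aQ := by
      obtain ⟨g, hg⟩ := FpqcTorsor.exists_pt P.act P.isTorsor.1 (snd X X ≫ j) (fst X X ≫ j)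
      have hgv : g ≫ v = 1 := by
        have := congrArg (fun k => k ≫ φ) hg
        simp only [hφ', Category.assoc, hj, MonObj.comp_one, _root_.mul_one] at this
        exact this
      obtain ⟨g', hg'⟩ := hker g hgv
      refine ⟨lift g' (snd X X), ?_, ?_⟩
      · change lift act (snd G' X) ≫ lift g' (snd X X) = _
        apply CartesianMonoidalCategory.hom_ext
        · simp only [Category.assoc, lift_fst, Category.id_comp]
          refine hinj _ _ (FpqcTorsor.pt_cancel P.act P.isTorsor.1 (x := snd G' X ≫ j) ?_)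
          have h2 := congrArg (fun k => lift act (snd G' X) ≫ k) hg
          simp only [FpqcTorsor.comp_pt, lift_snd_assoc, lift_fst_assoc] at h2
          rw [Category.assoc, hg', h2, Limits.pullback.lift_fst]
        · simp
      · change lift g' (snd X X) ≫ lift act (snd G' X) = _
        apply CartesianMonoidalCategory.hom_ext
        · simp only [Category.assoc, lift_fst, Category.id_comp]
          refine hjmono ?_
          rw [Category.assoc, hact, hg', hg]
        · simp
    have hQl : NonAbH1.IsLocallyTrivialFor Scheme.fpqcPrecoverage X := by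
      have h1 : FpqcTorsor.LocSections v := hex.2.2.2.2
      have h2 : FpqcTorsor.LocSections (toUnit P.X) := P.isTorsor.2
      let W := Limits.pullback v φ
      let g := Limits.pullback.fst v φ
      let r : W ⟶ X := Limits.pullback.lift (FpqcTorsor.pt P.act g⁻¹ (Limits.pullback.snd v φ)) (toUnit W) (by
        rw [hφ', GrpObj.inv_comp, Limits.pullback.condition, inv_mul_cancel, Hom.one_def])
      obtain ⟨R, hR, hsec⟩ := (locSections_pullback_snd v φ h1).comp h2
      refine ⟨R, hR, fun T f hf => ?_⟩
      obtain ⟨σ, hσ⟩ := hsec f hf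
      refine ⟨σ ≫ r.left, ?_⟩
      rw [Category.assoc, Over.w r, ← Over.w (Limits.pullback.snd v φ ≫ toUnit P.X)]
      show σ ≫ _ ≫ 𝟙 S = f
      rw [Category.comp_id]
      exact hσ
    refine ⟨⟨X, aQ, hQp, hQl⟩, j, ?_⟩
    show act ≫ j = lift (fst G' X ≫ u) (snd G' X ≫ j) ≫ P.act.act
    rw [Limits.pullback.lift_fst]
    rfl
  · rintro ⟨Q, q, hq⟩
    obtain ⟨r, ⟨hr, -⟩, -⟩ := FpqcTorsor.existsUnique_pushforward_hom u v Q.act P.act (NonAbH1.trivialAction G'')
      Q.isTorsor P.isTorsor.1 q hq (1 : Q.X ⟶ G'') (by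
        show Q.act.act ≫ 1 = lift (fst G' Q.X ≫ u ≫ v) (snd G' Q.X ≫ 1) ≫ μ[G'']
        rw [← Hom.mul_def, hex.2.2.1, MonObj.comp_one, MonObj.comp_one, MonObj.comp_one, _root_.mul_one])
    exact ⟨r, hr⟩

end Groth.Agent.S6010
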