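import Groth.Statements.S6024
import Groth.Agent.KerDerived.Flasque
-- import your own Groth.Agent.* helpers here

set_option autoImplicit false
universe u
open CategoryTheory CategoryTheory.Limits TopologicalSpace
open LocCohZ

namespace Groth.Agent.S6024

open Opposite Abelian in
theorem surj {X : TopCat.{u}} (F : CohTop.Ab X) (U : Opens X) (h : Subsingleton (LocCohZ.HZc F 1 U)) :
    Function.Surjective (F.obj.map (homOfLE (le_top : U ≤ ⊤)).op).hom := fun s => by
  let J := Opens.grothendieckTopology X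
  obtain ⟨x₂, hx₂⟩ := Ext.contravariant_sequence_exact₁ (LocCohZ.zqSeq_shortExact (le_top : U ≤ ⊤)) F
    (Ext.mk₀ (CohFree.ofSect J U F s)) (n₁ := 1) rfl (h.elim _ _)
  obtain ⟨ψ, rfl⟩ := (Ext.mk₀_bijective _ _).2 x₂
  rw [Ext.mk₀_comp_mk₀] at hx₂
  have h2 := congrArg (CohFree.evalGen J U F) ((Ext.mk₀_bijective _ _).1 hx₂)
  rw [CohFree.evalGen_ofSect] at h2
  exact ⟨CohFree.evalGen J ⊤ F ψ, (CohFree.evalGen_freeSheafMap_comp _ _ _ _).symm.trans h2⟩


/-- Consider a topological space X carrying a sheaf of abelian groups F, and assume that H^1_Z(X, F)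
vanishes for each closed subset Z of X (writing Z = X − U with U open). Under this assumption, F is
flasque. -/
theorem result {X : TopCat.{u}} (F : CohTop.Ab X)
    (h : ∀ U : Opens X, Subsingleton (LocCohZ.HZc F 1 U)) : TopCat.Sheaf.IsFlasque F := by
  exact ⟨fun {V W} i => (AddCommGrpCat.epi_iff_surjective _).2 fun s => by
    obtain ⟨t, ht⟩ := surj F W.unop (h W.unop) s
    refine ⟨F.obj.map (homOfLE le_top).op t, ?_⟩
    rw [← ht]
    change (F.obj.map _ ≫ F.obj.map i).hom t = _
    rw [← F.obj.map_comp]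
    rfl⟩

end Groth.Agent.S6024
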