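import Groth.Statements.S6026
import Groth.Agent.KerDerived.Local
import Groth.Agent.KerDerived.ExtComp
-- import your own Groth.Agent.* helpers here

set_option autoImplicit false
universe u
open CategoryTheory CategoryTheory.Limits TopologicalSpace
open LocCohZ

namespace Groth.Agent.S6026

set_option backward.isDefEq.respectTransparency false
set_option backward.isDefEq.respectTransparency.types false

open Opposite Abelian in
theorem exists_e₀ {X : TopCat.{u}} {W V : Opens X} (h : W ≤ V) :
    Nonempty (extFunctorObj (LocCohZ.zq h) 0 ≅ CohTop.restrFunctor V ⋙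
      extFunctorObj (LocCohZ.zq (le_top : (Opens.map (CohCx.incl V)).obj W ≤ ⊤)) 0) := by
  let R := CohTop.restrFunctor V
  let W' := (Opens.map (CohCx.incl V)).obj W
  let img := V.isOpenEmbedding.isOpenMap.functor
  have hV : img.obj ⊤ ≤ V := by rintro _ ⟨y, _, rfl⟩; exact y.2
  have hV' : V ≤ img.obj ⊤ := fun y hy => ⟨⟨y, hy⟩, trivial, rfl⟩
  have hW : img.obj W' ≤ W := by rintro _ ⟨y, hy, rfl⟩; exact hy
  have hW' : W ≤ img.obj W' := fun y hy => ⟨⟨y, h hy⟩, hy, rfl⟩
  have key : ∀ (F : CohTop.Ab X) (x : LocCohZ.HZ F 0 h), (R.obj F).obj.map (homOfLE (le_top : W' ≤ ⊤)).op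
      (F.obj.map (homOfLE hV).op (Groth.Agent.KerDerived.z0 h x)) = 0 := fun F x => by
    have hx : F.obj.map (homOfLE h).op (Groth.Agent.KerDerived.z0 h x) = 0 := (LocCohZ.sect0Equiv F h x).2
    change (F.obj.map _ ≫ F.obj.map (img.map (homOfLE (le_top : W' ≤ ⊤))).op).hom (Groth.Agent.KerDerived.z0 h x) = 0
    rw [← F.obj.map_comp, Subsingleton.elim (_ ≫ _) ((homOfLE h).op ≫ (homOfLE hW).op), F.obj.map_comp]
    exact (congrArg (F.obj.map (homOfLE hW).op) hx).trans (map_zero _)
  let f : ∀ F, LocCohZ.HZ F 0 h →+ LocCohZ.HZc (R.obj F) 0 W' := fun F => AddMonoidHom.mk'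
    (fun x => (LocCohZ.sect0Equiv (R.obj F) le_top).symm ⟨_, key F x⟩) (fun a b => by
      rw [← map_add]
      congr 1
      apply Subtype.ext
      exact (congrArg (F.obj.map (homOfLE hV).op) (congrArg Subtype.val (map_add (LocCohZ.sect0Equiv F h) a b))).trans
        (map_add _ _ _))
  have hf : ∀ F x, Groth.Agent.KerDerived.z0 le_top (f F x) = F.obj.map (homOfLE hV).op (Groth.Agent.KerDerived.z0 h x) :=
    fun F x => congrArg Subtype.val ((LocCohZ.sect0Equiv (R.obj F) le_top).apply_symm_apply _)
  have hb : ∀ F, Function.Bijective (f F) := fun F => by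
    refine ⟨fun a b hab => Groth.Agent.KerDerived.z0_injective _ ?_, fun y => ?_⟩
    · have hh := congrArg (fun z : LocCohZ.HZc (R.obj F) 0 W' => F.obj.map (homOfLE hV').op (Groth.Agent.KerDerived.z0 (F := R.obj F) le_top z)) hab
      simp only [hf] at hh
      simpa [← ConcreteCategory.comp_apply, ← F.obj.map_comp, Subsingleton.elim ((homOfLE hV).op ≫ (homOfLE hV').op) (𝟙 (op V))] using hh
    · let s := Groth.Agent.KerDerived.z0 le_top y
      obtain ⟨x, hx⟩ := Groth.Agent.KerDerived.exists_z0 h (F.obj.map (homOfLE hV').op s) (by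
        have hs : F.obj.map (img.map (homOfLE (le_top : W' ≤ ⊤))).op s = 0 := (LocCohZ.sect0Equiv (R.obj F) le_top y).2
        change (F.obj.map _ ≫ F.obj.map _).hom s = 0
        rw [← F.obj.map_comp, Subsingleton.elim (_ ≫ _) ((img.map (homOfLE (le_top : W' ≤ ⊤))).op ≫ (homOfLE hW').op),
          F.obj.map_comp]
        exact (congrArg (F.obj.map (homOfLE hW').op) hs).trans (map_zero _))
      refine ⟨x, Groth.Agent.KerDerived.z0_injective _ ?_⟩
      rw [hf, hx]
      change (F.obj.map _ ≫ F.obj.map _).hom s = s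
      rw [← F.obj.map_comp, Subsingleton.elim (_ ≫ _) (𝟙 _), F.obj.map_id]
      rfl
  refine ⟨NatIso.ofComponents (fun F => AddEquiv.toAddCommGrpIso (X := (extFunctorObj (LocCohZ.zq h) 0).obj F)
    (Y := (R ⋙ extFunctorObj (LocCohZ.zq (le_top : W' ≤ ⊤)) 0).obj F) (AddEquiv.ofBijective (f F) (hb F))) fun {F G} φ => ?_⟩
  ext x
  change f G (LocCohZ.map φ 0 h x) = LocCohZ.map (R.map φ) 0 le_top (f F x)
  apply Groth.Agent.KerDerived.z0_injective
  rw [hf, Groth.Agent.KerDerived.z0_map, Groth.Agent.KerDerived.z0_map, hf]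
  exact (ConcreteCategory.congr_hom (φ.hom.naturality (homOfLE hV).op) _).symm


/-- Let X be a topological space, W ⊆ V opens of X and Z = V − W. For every i there is an isomorphism
H^i_Z(X, F) ≅ H^i_Z(V, F|_V), natural in the abelian sheaf F on X, between cohomology with supports
in Z computed on X and computed on the open subspace V. (Existence of a natural family of
isomorphisms; the published statement has the canonical maps of cohomological functors.) -/
theorem result {X : TopCat.{u}} {W V : Opens X} (h : W ≤ V) (i : ℕ) :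
    ∃ e : ∀ F : CohTop.Ab X,
        LocCohZ.HZ F i h ≃+ LocCohZ.HZc (CohTop.restr F V) i ((Opens.map (CohCx.incl V)).obj W),
      ∀ (F G : CohTop.Ab X) (φ : F ⟶ G) (x : LocCohZ.HZ F i h),
        e G (LocCohZ.map φ i h x) =
          LocCohZ.map ((CohTop.restrFunctor V).map φ) i
            (le_top : (Opens.map (CohCx.incl V)).obj W ≤ ⊤) (e F x) := by
  haveI : PreservesFiniteLimits (CohTop.restrFunctor V) :=
    inferInstanceAs (PreservesFiniteLimits (Groth.Agent.CohVanish.restrictSh V.isOpenEmbedding))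
  haveI : PreservesFiniteColimits (CohTop.restrFunctor V) := by
    haveI := Groth.Agent.KerDerived.pull_rightExact (CohCx.incl V)
    exact preservesFiniteColimits_of_natIso
      (G := CohTop.restrFunctor V) (Groth.Agent.KerDerived.pullIsoRestr V)
  obtain ⟨e₀⟩ := exists_e₀ h
  exact Groth.Agent.KerDerived.exists_ext_comp_addEquiv (CohTop.restrFunctor V) _ _ (fun I _ n => by
    haveI := Groth.Agent.CohVanish.isFlasque_of_injective I
    haveI : TopCat.Sheaf.IsFlasque ((CohTop.restrFunctor V).obj I) :=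
      Groth.Agent.CohVanish.isFlasque_restrictSh V.isOpenEmbedding I
    exact Groth.Agent.KerDerived.subsingleton_HZ_of_flasque _ le_top n) e₀ i

end Groth.Agent.S6026
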