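import Groth.Statements.S6027
import Groth.Agent.KerDerived.ExtNat
import Groth.Agent.SSExist.LocCoh
-- import your own Groth.Agent.* helpers here

set_option autoImplicit false
universe u
open CategoryTheory CategoryTheory.Limits TopologicalSpace
open LocCohZ

namespace Groth.Agent.S6027

open Opposite Abelian in
/-- `Hom(X, -)` is `Ext⁰(X, -)`. -/
noncomputable def extZeroIso {C : Type*} [Category.{u} C] [Abelian C] [HasExt.{u} C] (X : C) :
    preadditiveCoyoneda.obj (op X) ≅ extFunctorObj X 0 :=
  NatIso.ofComponents (fun Y => AddEquiv.toAddCommGrpIso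
    (X := (preadditiveCoyoneda.obj (op X)).obj Y) (Y := (extFunctorObj X 0).obj Y) Ext.addEquiv₀.symm)
    (fun {Y Z} g => by
      ext x
      change Ext.mk₀ (x ≫ g) = (Ext.mk₀ x).comp (Ext.mk₀ g) (add_zero 0)
      rw [Ext.mk₀_comp_mk₀])


/-- The case of a closed subset. Let X be a topological space and Z a closed subset with open complement
U. For every q the q-th right derived functor of F ↦ Γ_Z(X, F) is isomorphic to the functor F ↦
Ext^q(ℤ_{Z,X}, F), where ℤ_{Z,X} = ℤ_X/ℤ_U. (Existence of an isomorphism of functors for each q;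
compatibility with connecting maps is not asserted.) -/
theorem result {X : TopCat.{u}} (U : Opens X) (q : ℕ) :
    Nonempty (LocCohZ.RHZ U q ≅ ToposFin.HZFunctor (LocCohZ.openSh U) q) := by
  let e : LocCohZ.gammaZF U ≅ Abelian.extFunctorObj (ToposFin.quotZ (LocCohZ.openSh U)) 0 :=
    Groth.Agent.SSExist.sectSuppSecIso U ≪≫ Groth.Agent.SSExist.gammaSubIso U ≪≫
      preadditiveCoyoneda.mapIso (LocCohZ.zqIsoQuotZ U).symm.op ≪≫ extZeroIso _
  haveI : PreservesFiniteLimits (LocCohZ.gammaZF U) :=
    preservesFiniteLimits_of_natIso (Groth.Agent.SSExist.sectSuppSecIso U).symm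
  exact Groth.Agent.KerDerived.nonempty_rightDerived_iso_ext _ _ e q

end Groth.Agent.S6027
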