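import Groth.Statements.S6028
import Mathlib.CategoryTheory.Abelian.DiagramLemmas.KernelCokernelComp
-- import your own Groth.Agent.* helpers here

set_option autoImplicit false
universe u
open CategoryTheory CategoryTheory.Limits TopologicalSpace
open LocCohZ

namespace Groth.Agent.S6028

theorem key {C : Type*} [Category C] [Abelian C] {A B D : C} (a : A ⟶ B) (b : B ⟶ D) [Mono b]
    (c : A ⟶ D) (hc : a ≫ b = c) (i : A ⟶ A) (hi : i = 𝟙 A) (j : D ⟶ D) (hj : j = 𝟙 D)
    (h₁ : a ≫ b = i ≫ c) (h₂ : c ≫ j = a ≫ b) :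
    ∃ w : cokernel.map a c i b h₁ ≫ cokernel.map c b a j h₂ = 0,
      (ShortComplex.mk _ _ w).ShortExact := by
  subst hc hi hj
  let S := kernelCokernelCompSequence a b
  have hS : S.Exact := kernelCokernelCompSequence_exact a b
  have e2 := hS.exact 2
  haveI : Mono (cokernel.map a (a ≫ b) (𝟙 A) b h₁) :=
    e2.mono_g ((IsZero.of_mono_eq_zero (kernel.ι b) (by rw [← cancel_mono b, kernel.condition, zero_comp])).eq_of_src _ _)
  haveI : Epi (cokernel.map (a ≫ b) b a (𝟙 D) h₂) := inferInstanceAs (Epi (S.map' 4 5))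
  exact ⟨hS.zero 3, { exact := hS.exact 3 }⟩

/-- Let X be a topological space and W ⊆ V ⊆ T opens of X; put Z = T − W, Z' = T − V and Z'' = V − W, so
that Z' is closed in Z with complement Z''. Then 0 → ℤ_{Z'',X} → ℤ_{Z,X} → ℤ_{Z',X} → 0 is a short
exact sequence of abelian sheaves on X, where ℤ_{Z,X} = ℤ_T/ℤ_W and the maps are the induced ones. -/
theorem result {X : TopCat.{u}} {W V T : Opens X} (hWV : W ≤ V) (hVT : V ≤ T) :
    ∃ w : LocCohZ.zqMap (hWV.trans hVT) hWV le_rfl hVT ≫ LocCohZ.zqMap hVT (hWV.trans hVT) hWV le_rfl = 0,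
      (ShortComplex.mk _ _ w).ShortExact := by
  haveI : Mono (CohCx.freeSheafMap (Opens.grothendieckTopology X) (homOfLE hVT)) :=
    (LocCohZ.zqSeq_shortExact hVT).mono_f
  exact key _ (CohCx.freeSheafMap (Opens.grothendieckTopology X) (homOfLE hVT)) _
    (by rw [← CohFree.freeSheafMap_comp]; rfl) _ (CohFree.freeSheafMap_id _ _) _ (CohFree.freeSheafMap_id _ _)
    (by rw [← CohFree.freeSheafMap_comp, ← CohFree.freeSheafMap_comp]; rfl) (by rw [← CohFree.freeSheafMap_comp, ← CohFree.freeSheafMap_comp]; rfl)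

end Groth.Agent.S6028
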