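import Groth.Statements.S6029
import Groth.Agent.SSExist.LocCoh
import Groth.Agent.SSExist.Wrap
-- import your own Groth.Agent.* helpers here

set_option autoImplicit false
universe u
open CategoryTheory CategoryTheory.Limits TopologicalSpace
open LocCohZ

namespace Groth.Agent.S6029

/-- For a closed subset Z = X − U of a topological space X and an abelian sheaf F on X: there is an E₂
spectral sequence of abelian groups with E₂^{p,q} ≅ H^p(X, ℋ^q_Z(F)) for p, q ≥ 0 (and 0 otherwise),
bounded, abutting with finite filtrations to H^n_Z(X, F) (n ≥ 0; 0 for n < 0). (Existence only: the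
E₂ identifications and the abutment isomorphisms are some isomorphisms, not the canonical maps of a
construction, so edge maps and low-degree exact sequences are not part of this statement.) -/
theorem result {X : TopCat.{u}} (F : CohTop.Ab X) (U : Opens X) :
    ∃ (E : E₂CohomologicalSpectralSequence AddCommGrpCat.{u})
      (a : SpSeq.Abutment E (fun n : ℤ =>
        if 0 ≤ n then AddCommGrpCat.of (LocCohZ.HZc F n.toNat U) else AddCommGrpCat.of PUnit.{u + 1})),
      (∀ n : ℤ, a.IsFinite n) ∧ SpSeq.IsBounded E ∧
      ∀ p q : ℤ, Nonempty ((E.page 2 le_rfl).X (p, q) ≅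
        (if 0 ≤ p ∧ 0 ≤ q then AddCommGrpCat.of (CohTop.HU ((LocCohZ.HZsh U q.toNat).obj F) p.toNat ⊤)
          else AddCommGrpCat.of PUnit.{u + 1})) := by
  refine Groth.Agent.SSExist.exists_grothendieck' (LocCohZ.sectSuppF U)
    (Groth.Agent.SSExist.secAb (Opens.grothendieckTopology X) (⊤ : Opens X)) (fun Q hQ q hq => ?_) F
    (AddCommGrpCat.of PUnit.{u + 1}) (AddCommGrpCat.isZero_of_subsingleton _)
    (fun n => AddCommGrpCat.of (LocCohZ.HZc F n U))
    (fun n => Groth.Agent.SSExist.nonempty_ext_iso_rightDerived _ _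
      (Groth.Agent.SSExist.sectSuppSecIso U ≪≫ Groth.Agent.SSExist.gammaSubIso U) F n)
    (fun p q => AddCommGrpCat.of (CohTop.HU ((LocCohZ.HZsh U q).obj F) p ⊤))
    (fun p q => Groth.Agent.SSExist.nonempty_HU_iso _ _ p)
  haveI : TopCat.Sheaf.IsFlasque Q := Groth.Agent.CohVanish.isFlasque_of_injective Q
  haveI := Groth.Agent.SSExist.isFlasque_sectSupp U Q
  exact Groth.Agent.SSExist.isZero_rightDerived_secAb_of_flasque _ ⊤ q hq

end Groth.Agent.S6029
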