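import Groth.Statements.S6030
import Groth.Agent.ModPush.QCoh
-- import your own Groth.Agent.* helpers here

set_option autoImplicit false
universe u
open CategoryTheory CategoryTheory.Limits TopologicalSpace AlgebraicGeometry
open LocCohZ

namespace Groth.Agent.S6030

/-- Let Y be a scheme, j : U → Y a quasi-compact open immersion with closed complement Z, and M a
quasi-coherent O_Y-module. Then the local cohomology sheaves ℋ^q_Z(M) (right derived functors of Γ_Z
on O_Y-modules) are quasi-coherent for every q. -/
theorem result {U Y : Scheme.{u}} (j : U ⟶ Y) [IsOpenImmersion j] [QuasiCompact j]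
    [HasInjectiveResolutions Y.Modules] (M : Y.Modules) (hM : Coh.IsQCoh M) (q : ℕ) :
    Coh.IsQCoh ((LocCohZ.HZshM j q).obj M) := by
  open Limits in
  haveI := ModPush.enoughInjectives Y
  haveI := ModPush.enoughInjectives U
  haveI := ModPush.hasInjectiveResolutions U
  haveI : M.IsQuasicoherent := hM
  haveI hlim : PreservesFiniteLimits (Scheme.Modules.restrictFunctor j) := inferInstance
  haveI hcol : PreservesFiniteColimits (Scheme.Modules.restrictFunctor j) := inferInstance
  haveI : PreservesFiniteLimits (Scheme.Modules.restrictFunctor j ⋙ Scheme.Modules.pushforward j) :=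
    comp_preservesFiniteLimits _ _
  haveI : (Scheme.Modules.restrictFunctor j ⋙ Scheme.Modules.pushforward j).Additive := inferInstance
  let η := (Scheme.Modules.restrictAdjunction j).unit
  let ι : DCoh.gammaZ j ⟶ 𝟭 Y.Modules :=
    { app := fun F => kernel.ι _
      naturality := fun F G φ => kernel.lift_ι _ _ _ }
  haveI : (DCoh.gammaZ j).Additive := inferInstance
  have w : ∀ F, ι.app F ≫ η.app F = 0 := fun F => kernel.condition _
  have hk : ∀ F, IsLimit (KernelFork.ofι (ι.app F) (w F)) := fun F => kernelIsKernel _
  have hη : ∀ (I : Y.Modules) [Injective I], Epi (η.app I) := fun I _ => by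
    haveI := ModPush.isFlasque_toAb_of_injective I
    exact ModPush.epi_unit_of_flasque j I
  haveI : (M.restrict j).IsQuasicoherent := inferInstance
  haveI : ((𝟭 Y.Modules).obj M).IsQuasicoherent := hM
  haveI : ((Scheme.Modules.restrictFunctor j ⋙ Scheme.Modules.pushforward j).obj M).IsQuasicoherent :=
    QCohLib.isQuasicoherent_pushforward j (M := M.restrict j)
  match q with
  | 0 =>
    haveI := KerDerived.preservesFiniteLimits_kernel _ _ ι η w hk
    haveI : ((DCoh.gammaZ j).obj M).IsQuasicoherent := QCohLib.isQuasicoherent_kernel (η.app M)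
    exact QCohLib.isQuasicoherent_of_iso ((DCoh.gammaZ j).rightDerivedZeroIsoSelf.app M).symm
  | 1 =>
    obtain ⟨e⟩ := KerDerived.nonempty_rightDerived_one_iso _ _ ι η w hk hη
    haveI := QCohLib.isQuasicoherent_cokernel (η.app M)
    haveI : ((cokernel η).obj M).IsQuasicoherent := QCohLib.isQuasicoherent_of_iso (M := cokernel (η.app M))
      ((cokernelIsCokernel (η.app M)).coconePointUniqueUpToIso
        (KerDerived.cokerAppIsColimit (Scheme.Modules.restrictFunctor j ⋙ Scheme.Modules.pushforward j) η M))
    exact QCohLib.isQuasicoherent_of_iso (e.app M).symm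
  | n + 2 =>
    obtain ⟨e⟩ := KerDerived.nonempty_rightDerived_succ_iso _ _ ι η w hk hη n
    obtain ⟨e'⟩ := KerDerived.nonempty_comp_iso (Scheme.Modules.restrictFunctor j) (Scheme.Modules.pushforward j)
      (fun I _ m => by
        haveI := ModPush.isFlasque_toAb_of_injective I
        haveI := ModPush.isFlasque_restrict j I
        exact ModPush.isZero_rightDerived_pushforward_of_flasque j m _) (n + 1)
    haveI := ModPush.isQuasicoherent_rightDerived j (n + 1) (M.restrict j)
    haveI : ((Scheme.Modules.restrictFunctor j ⋙ (Scheme.Modules.pushforward j).rightDerived (n + 1)).obj M).IsQuasicoherent := ‹_›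
    exact QCohLib.isQuasicoherent_of_iso ((e ≪≫ e').app M).symm

end Groth.Agent.S6030
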