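import Groth.Statements.S6031
import Groth.Agent.CohVanish.Affine
import Groth.Agent.KerDerived.Local
-- import your own Groth.Agent.* helpers here

set_option autoImplicit false
universe u
open CategoryTheory CategoryTheory.Limits TopologicalSpace AlgebraicGeometry
open LocCohZ

namespace Groth.Agent.S6031

open Abelian in
set_option backward.isDefEq.respectTransparency false in
theorem aux (Y : Scheme.{u}) [IsAffine Y] (M : Y.Modules) [M.IsQuasicoherent] (U : Y.Opens) :
    Function.Surjective (LocCohZ.delta (X := Y.carrier) (Coh.toAb M) 0 (le_top : U ≤ ⊤)) ∧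
      ∀ i : ℕ, 1 ≤ i →
        Function.Bijective (LocCohZ.delta (X := Y.carrier) (Coh.toAb M) i (le_top : U ≤ ⊤)) := by
  have h0 := fun n => Groth.Agent.CohVanish.subsingleton_EU_of_isAffineOpen (X := Y) M (isAffineOpen_top Y) n
  have hsurj : ∀ i, Function.Surjective (LocCohZ.delta (X := Y.carrier) (Coh.toAb M) i (le_top : U ≤ ⊤)) := fun i x => by
    obtain ⟨y, hy⟩ := Ext.contravariant_sequence_exact₃ (LocCohZ.zqSeq_shortExact (le_top : U ≤ ⊤)) (Coh.toAb M) x
      ((h0 i).elim _ _) (n₀ := i) (by omega)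
    exact ⟨y, hy⟩
  refine ⟨hsurj 0, fun i hi => ⟨(injective_iff_map_eq_zero _).2 fun x hx => ?_, hsurj i⟩⟩
  obtain ⟨y, hy⟩ := Ext.contravariant_sequence_exact₁ (LocCohZ.zqSeq_shortExact (le_top : U ≤ ⊤)) (Coh.toAb M) x
    (n₁ := i + 1) (by omega) hx
  obtain ⟨j, rfl⟩ : ∃ j, i = j + 1 := ⟨i - 1, by omega⟩
  haveI := h0 j
  rw [← hy, (h0 j).elim y 0]
  exact Ext.comp_zero _ _ _ _ _

/-- Let Y be an affine scheme, U an open subset with closed complement Z and M a quasi-coherent
O_Y-module with underlying abelian sheaf F. Then 0 → H^0_Z(Y, F) → H^0(Y, F) → H^0(U, F) → H^1_Z(Y,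
F) → 0 is exact, i.e. the connecting map H^0(U, F) → H^1_Z(Y, F) is surjective, and the connecting
maps H^i(U, F) → H^{i+1}_Z(Y, F) are bijective for all i ≥ 1. (The published statement assumes U
quasi-compact; the printed proof of these two assertions only uses the vanishing of the higher
cohomology of F on the affine scheme Y, so U is an arbitrary open here.) -/
theorem result (Y : Scheme.{u}) [IsAffine Y] (M : Y.Modules)
    (hM : Coh.IsQCoh M) (U : Y.Opens) :
    Function.Surjective (LocCohZ.delta (X := Y.carrier) (Coh.toAb M) 0 (le_top : U ≤ ⊤)) ∧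
      ∀ i : ℕ, 1 ≤ i →
        Function.Bijective (LocCohZ.delta (X := Y.carrier) (Coh.toAb M) i (le_top : U ≤ ⊤)) := by
  haveI : M.IsQuasicoherent := hM
  exact aux Y M U

end Groth.Agent.S6031
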