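import Groth.Statements.S6033
import Groth.Agent.KoszulHZ.Main
import Groth.Agent.S6023
import Groth.Agent.S6024
-- import your own Groth.Agent.* helpers here

set_option autoImplicit false
universe u
open CategoryTheory CategoryTheory.Limits TopologicalSpace AlgebraicGeometry
open LocCohZ

namespace Groth.Agent.S6033

set_option backward.isDefEq.respectTransparency false in
theorem exists_list (A : Type u) [CommRing A] [NoetherianSpace (PrimeSpectrum A)]
    (U : (Spec (CommRingCat.of A)).Opens) :
    ∃ fs : List A, LocCoh.puncturedOpen A (Ideal.span {a | a ∈ fs}) = U := by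
  let s₀ : Set (PrimeSpectrum A) := U.1
  have hc : IsCompact s₀ := NoetherianSpace.isCompact s₀
  obtain ⟨I, hI, hIU⟩ := PrimeSpectrum.isCompact_isOpen_iff_ideal.mp ⟨hc, U.2⟩
  obtain ⟨s, rfl⟩ := hI
  refine ⟨s.toList, TopologicalSpace.Opens.ext ?_⟩
  change (PrimeSpectrum.zeroLocus ((Ideal.span {a | a ∈ s.toList} : Ideal A) : Set A))ᶜ = U.1
  refine Eq.trans ?_ hIU
  congr 2
  exact congrArg (fun t : Set A => ((Ideal.span t : Ideal A) : Set A)) (Set.ext fun a => Finset.mem_toList)

set_option backward.isDefEq.respectTransparency false in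
theorem aux (A : Type u) [CommRing A] [NoetherianSpace (PrimeSpectrum A)] :
    ((∀ (M : Type u) [AddCommGroup M] [Module A M], Module.Injective A M →
        TopCat.Sheaf.IsFlasque (Coh.toAb (AlgebraicGeometry.tilde (R := CommRingCat.of A) (ModuleCat.of A M)))) ↔
      ∀ (fs : List A) (M : Type u) [AddCommGroup M] [Module A M], Module.Injective A M →
        Subsingleton (CohIII.koszulHLim fs (ModuleCat.of A M) 1)) ∧
    ((∀ (M : Type u) [AddCommGroup M] [Module A M], Module.Injective A M →
        TopCat.Sheaf.IsFlasque (Coh.toAb (AlgebraicGeometry.tilde (R := CommRingCat.of A) (ModuleCat.of A M)))) →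
      ∀ (fs : List A) (M : Type u) [AddCommGroup M] [Module A M], Module.Injective A M →
        ∀ i : ℕ, 0 < i → Subsingleton (CohIII.koszulHLim fs (ModuleCat.of A M) i)) := by
  have h2 : (∀ (M : Type u) [AddCommGroup M] [Module A M], Module.Injective A M →
        TopCat.Sheaf.IsFlasque (Coh.toAb (AlgebraicGeometry.tilde (R := CommRingCat.of A) (ModuleCat.of A M)))) →
      ∀ (fs : List A) (M : Type u) [AddCommGroup M] [Module A M], Module.Injective A M →
        ∀ i : ℕ, 0 < i → Subsingleton (CohIII.koszulHLim fs (ModuleCat.of A M) i) := by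
    intro h fs M _ _ hM i hi
    haveI := h M hM
    obtain ⟨e⟩ := Groth.Agent.KoszulHZ.nonempty_equiv (R := CommRingCat.of A) fs i (ModuleCat.of A M)
    exact e.toEquiv.subsingleton_congr.2
      ((Groth.Agent.S6023.result (Coh.toAb (AlgebraicGeometry.tilde (R := CommRingCat.of A) (ModuleCat.of A M)))).1
        _ _ le_top i hi)
  refine ⟨⟨fun h fs M _ _ hM => h2 h fs M hM 1 one_pos, fun h M _ _ hM => ?_⟩, h2⟩
  refine Groth.Agent.S6024.result _ fun U => ?_
  obtain ⟨fs, rfl⟩ := exists_list A U
  obtain ⟨e⟩ := Groth.Agent.KoszulHZ.nonempty_equiv (R := CommRingCat.of A) fs 1 (ModuleCat.of A M)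
  exact e.toEquiv.subsingleton_congr.1 (h fs M hM)

/-- Let A be a commutative ring such that the underlying space of X = Spec A is Noetherian. Then M~ is
flasque for every injective A-module M if and only if colim_n H^1(f^n, M) = 0 (direct limit of
Koszul cohomology of the powers) for every finite family f of elements of A and every injective
A-module M; and in that case colim_n H^i(f^n, M) = 0 for all i > 0 as well. -/
theorem result (A : Type u) [CommRing A]
    [NoetherianSpace (PrimeSpectrum A)] :
    ((∀ (M : Type u) [AddCommGroup M] [Module A M], Module.Injective A M →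
        TopCat.Sheaf.IsFlasque (Coh.toAb (AlgebraicGeometry.tilde (R := CommRingCat.of A) (ModuleCat.of A M)))) ↔
      ∀ (fs : List A) (M : Type u) [AddCommGroup M] [Module A M], Module.Injective A M →
        Subsingleton (CohIII.koszulHLim fs (ModuleCat.of A M) 1)) ∧
    ((∀ (M : Type u) [AddCommGroup M] [Module A M], Module.Injective A M →
        TopCat.Sheaf.IsFlasque (Coh.toAb (AlgebraicGeometry.tilde (R := CommRingCat.of A) (ModuleCat.of A M)))) →
      ∀ (fs : List A) (M : Type u) [AddCommGroup M] [Module A M], Module.Injective A M →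
        ∀ i : ℕ, 0 < i → Subsingleton (CohIII.koszulHLim fs (ModuleCat.of A M) i)) := by
  exact aux A

end Groth.Agent.S6033
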