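import Groth.Statements.S6037
import Groth.Agent.SSExist.LocCoh
import Groth.Agent.SSExist.PullTop
import Groth.Agent.SSExist.Wrap
-- import your own Groth.Agent.* helpers here

set_option autoImplicit false
universe u
open CategoryTheory CategoryTheory.Limits TopologicalSpace
open LocCohZ

namespace Groth.Agent.S6037


/-- Let f : X → Y be a continuous map of topological spaces, Y' a closed subset of Y with open
complement V, X' = f⁻¹(Y') and F an abelian sheaf on X. There is an E₂ spectral sequence of abelian
groups with E₂^{p,q} ≅ H^p_{Y'}(Y, R^q f_* F) for p, q ≥ 0 (0 otherwise), bounded, abutting with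
finite filtrations to H^n_{X'}(X, F). (The published statement is for a morphism of ringed spaces
and records module structures over the global sections of O_Y; here only abelian groups. Existence
only: the E₂ identifications and abutment isomorphisms are some isomorphisms, not the canonical
ones.) -/
theorem result {X Y : TopCat.{u}} (f : X ⟶ Y)
    (V : Opens Y) (F : CohTop.Ab X) :
    ∃ (E : E₂CohomologicalSpectralSequence AddCommGrpCat.{u})
      (a : SpSeq.Abutment E (fun n : ℤ =>
        if 0 ≤ n then AddCommGrpCat.of (LocCohZ.HZc F n.toNat ((Opens.map f).obj V))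
          else AddCommGrpCat.of PUnit.{u + 1})),
      (∀ n : ℤ, a.IsFinite n) ∧ SpSeq.IsBounded E ∧
      ∀ p q : ℤ, Nonempty ((E.page 2 le_rfl).X (p, q) ≅
        (if 0 ≤ p ∧ 0 ≤ q then AddCommGrpCat.of (LocCohZ.HZc ((CohTop.Rpush f q.toNat).obj F) p.toNat V)
          else AddCommGrpCat.of PUnit.{u + 1})) := by
  haveI := Groth.Agent.SSExist.preservesInjectiveObjects_pushTop f
  let e : CohTop.push f ⋙ Groth.Agent.SSExist.gammaSub V ≅
      Groth.Agent.SSExist.gammaSub ((Opens.map f).obj V) :=
    NatIso.ofComponents (fun _ => Iso.refl _) (fun φ => by ext; rfl)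
  exact Groth.Agent.SSExist.exists_grothendieck_preservesInjective (CohTop.push f)
    (Groth.Agent.SSExist.gammaSub V) F (AddCommGrpCat.of PUnit.{u + 1})
    (AddCommGrpCat.isZero_of_subsingleton _)
    (fun n => AddCommGrpCat.of (LocCohZ.HZc F n ((Opens.map f).obj V)))
    (fun n => Groth.Agent.SSExist.nonempty_ext_iso_rightDerived _ _
      (e ≪≫ Groth.Agent.SSExist.gammaSubIso _) F n)
    (fun p q => AddCommGrpCat.of (LocCohZ.HZc ((CohTop.Rpush f q).obj F) p V))
    (fun p q => Groth.Agent.SSExist.nonempty_HZc_iso V _ p)

end Groth.Agent.S6037
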