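import Groth.Statements.S6039
import Groth.Agent.KoszulHZ.Global
-- import your own Groth.Agent.* helpers here

set_option autoImplicit false
universe u
open CategoryTheory CategoryTheory.Limits TopologicalSpace AlgebraicGeometry Opposite
open LocCohZ

namespace Groth.Agent.S6039

set_option backward.isDefEq.respectTransparency false in
set_option backward.isDefEq.respectTransparency.types false in
theorem aux (X : Scheme.{u}) [IsLocallyNoetherian X] (U : X.Opens)
    (M : X.Modules) (hM : Coh.IsCoh M) :
    (∀ x : X, x ∉ (U : Set X) → (2 : ℕ∞) ≤ LocCoh.depth (X.presheaf.stalk x) (M.presheaf.stalk x)) ↔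
      ∀ V : X.Opens, Function.Bijective (M.val.map (homOfLE (inf_le_left : V ⊓ U ≤ V)).op).hom := by
  refine (Groth.Agent.KoszulHZ.two_le_depth_iff_bijective M hM U).trans (forall_congr' fun V => ?_)
  have e : (fun x => (Coh.toAb M).obj.map (homOfLE (inf_le_left : V ⊓ U ≤ V)).op (Groth.Agent.CohVanish.eu0 V _ x)) =
      fun x => Groth.Agent.CohVanish.eu0 (V ⊓ U) _ (CohTop.res (X := X.carrier) (Coh.toAb M) 0 (inf_le_left : V ⊓ U ≤ V) x) :=
    funext fun x => (Groth.Agent.CohVanish.eu0_eRes (Coh.toAb M) (homOfLE inf_le_left) x).symm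
  constructor
  · intro h
    have h2 := (Groth.Agent.CohVanish.eu0 (V ⊓ U) (Coh.toAb M)).bijective.comp h
    change Function.Bijective (fun x => Groth.Agent.CohVanish.eu0 (V ⊓ U) _
      (CohTop.res (X := X.carrier) (Coh.toAb M) 0 (inf_le_left : V ⊓ U ≤ V) x)) at h2
    rw [← e] at h2
    exact (Function.Bijective.of_comp_iff _ (Groth.Agent.CohVanish.eu0 V (Coh.toAb M)).bijective).1 h2
  · intro h
    have h2 : Function.Bijective (fun x => (Coh.toAb M).obj.map (homOfLE (inf_le_left : V ⊓ U ≤ V)).op
        (Groth.Agent.CohVanish.eu0 V _ x)) :=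
      (Function.Bijective.of_comp_iff _ (Groth.Agent.CohVanish.eu0 V (Coh.toAb M)).bijective).2 h
    rw [e] at h2
    exact (Function.Bijective.of_comp_iff' (Groth.Agent.CohVanish.eu0 (V ⊓ U) (Coh.toAb M)).bijective _).1 h2

/-- Let X be a locally Noetherian scheme, Y a closed subset with open complement U and M a coherent
O_X-module. Then depth M_x ≥ 2 for every x ∈ Y if and only if, for every open V of X, the
restriction map Γ(V, M) → Γ(V ∩ U, M) is bijective. -/
theorem result (X : Scheme.{u}) [IsLocallyNoetherian X] (U : X.Opens)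
    (M : X.Modules) (hM : Coh.IsCoh M) :
    (∀ x : X, x ∉ (U : Set X) → (2 : ℕ∞) ≤ LocCoh.depth (X.presheaf.stalk x) (M.presheaf.stalk x)) ↔
      ∀ V : X.Opens, Function.Bijective (M.val.map (homOfLE (inf_le_left : V ⊓ U ≤ V)).op).hom := by
  exact aux X U M hM

end Groth.Agent.S6039
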