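import Groth.Statements.S6040
import Groth.Agent.KerDerived.LocCohSeq
-- import your own Groth.Agent.* helpers here

set_option autoImplicit false
universe u
open CategoryTheory CategoryTheory.Limits TopologicalSpace
open LocCohZ

namespace Groth.Agent.S6040

set_option backward.isDefEq.respectTransparency false
set_option backward.isDefEq.respectTransparency.types false


/-- Let X be a topological space, U an open subset and j : U → X the inclusion, so that the sheaf of
sections with supports in the open U is Γ_U(F) = j_*(F|_U). For every q the local cohomology sheaf
functor ℋ^q_U, i.e. the q-th right derived functor of F ↦ j_*(F|_U), is isomorphic to F ↦ R^q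
j_*(F|_U). (Existence of an isomorphism of functors for each q.) -/
theorem result {X : TopCat.{u}} (U : Opens X) (q : ℕ) :
    Nonempty (CohCx.RpushOn (𝟙 X) U q ≅ CohTop.restrFunctor U ⋙ CohTop.Rpush (CohCx.incl U) q) := by
  haveI : PreservesFiniteLimits (CohTop.restrFunctor U) :=
    inferInstanceAs (PreservesFiniteLimits (Groth.Agent.CohVanish.restrictSh U.isOpenEmbedding))
  haveI : PreservesFiniteColimits (CohTop.restrFunctor U) := by
    haveI := Groth.Agent.KerDerived.pull_rightExact (CohCx.incl U)
    exact preservesFiniteColimits_of_natIso
      (G := CohTop.restrFunctor U) (Groth.Agent.KerDerived.pullIsoRestr U)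
  haveI := Groth.Agent.KerDerived.push_additive (CohCx.incl U)
  haveI := Groth.Agent.KerDerived.preservesFiniteLimits_push (CohCx.incl U)
  exact Groth.Agent.KerDerived.nonempty_comp_iso (CohTop.restrFunctor U) (CohTop.push (CohCx.incl U))
    (fun I _ m => by
      haveI := Groth.Agent.CohVanish.isFlasque_of_injective I
      haveI : TopCat.Sheaf.IsFlasque ((CohTop.restrFunctor U).obj I) :=
        Groth.Agent.CohVanish.isFlasque_restrictSh U.isOpenEmbedding I
      exact Groth.Agent.KerDerived.isZero_Rpush_of_flasque (CohCx.incl U) m _) q

end Groth.Agent.S6040
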