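import Groth.Statements.S6044
import Groth.Agent.DescMono.Basic
import Groth.Agent.FpqcClosed.Descent
-- import your own Groth.Agent.* helpers here

set_option autoImplicit false
open CategoryTheory CategoryTheory.Limits AlgebraicGeometry
universe u
open GrpQ

namespace Groth.Agent.S6044

/-- Closed immersions descend along the fpqc topology. For an fpqc covering family `f i : X i ⟶ S` of a
scheme `S`, every descent datum for schemes relative to the family all of whose members `Z i ⟶ X i`
are closed immersions is effective. -/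
theorem result {S : Scheme.{u}} {ι : Type u} {X : ι → Scheme.{u}}
    (f : ∀ i, X i ⟶ S) (hf : Presieve.ofArrows X f ∈ Scheme.fpqcPrecoverage S)
    (D : Desc.SchDDFam f) (hD : ∀ i, IsClosedImmersion (D.obj i).hom) :
    D.IsEffective := by
    let I : ∀ i, (X i).IdealSheafData := fun i => (D.obj i).hom.ker
    have hI : ∀ i {T : Scheme.{u}} (z : T ⟶ X i), I i ≤ z.ker ↔ ∃ v, v ≫ (D.obj i).hom = z := by
      intro i T z
      haveI := hD i
      refine ⟨fun h => ⟨IsClosedImmersion.lift _ z h, IsClosedImmersion.lift_fac _ _ h⟩, ?_⟩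
      rintro ⟨v, rfl⟩
      exact Scheme.Hom.le_ker_comp _ _
    have hle : ∀ {i j : ι} {T : Scheme.{u}} (x₀ : T ⟶ X i) (x₁ : T ⟶ X j), x₀ ≫ f i = x₁ ≫ f j →
        (I j).comap x₁ ≤ (I i).comap x₀ := by
      intro i j T x₀ x₁ h
      have h1 : I i ≤ (((I i).comap x₀).subschemeι ≫ x₀).ker := Scheme.IdealSheafData.le_map_comap _ _
      have h2 : I j ≤ (((I i).comap x₀).subschemeι ≫ x₁).ker := (hI j _).mpr
        (Groth.Agent.DescMono.factors_of_factors D _ _ (by rw [Category.assoc, Category.assoc, h]) ((hI i _).mp h1))
      exact Scheme.IdealSheafData.le_map_iff_comap_le.mp h2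
    obtain ⟨J, hJ, -⟩ := Groth.Agent.FpqcClosed.existsUnique_descent (g := f) (I := I)
      (fun i j => le_antisymm (hle _ _ pullback.condition.symm) (hle _ _ pullback.condition)) hf
    haveI := hD
    refine Groth.Agent.DescMono.isEffective_of_mono D (fun i => inferInstance) (Over.mk J.subschemeι) (fun i => ?_)
    haveI : IsClosedImmersion (pullback.fst (f i) J.subschemeι) :=
      MorphismProperty.of_isPullback (P := @IsClosedImmersion) (IsPullback.of_hasPullback (f i) J.subschemeι).flip inferInstance
    have e : (pullback.fst (f i) J.subschemeι).ker = (D.obj i).hom.ker := hJ i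
    let a := IsClosedImmersion.lift (D.obj i).hom (pullback.fst (f i) J.subschemeι) e.ge
    let b := IsClosedImmersion.lift (pullback.fst (f i) J.subschemeι) (D.obj i).hom e.le
    refine Over.isoMk ⟨a, b, ?_, ?_⟩ (IsClosedImmersion.lift_fac _ _ _)
    · rw [← cancel_mono (pullback.fst (f i) J.subschemeι)]
      simp [a, b, IsClosedImmersion.lift_fac]
    · rw [← cancel_mono (D.obj i).hom]
      simp [a, b, IsClosedImmersion.lift_fac]

end Groth.Agent.S6044
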