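import Groth.Statements.S9839
import Mathlib
-- import your own Groth.Agent.* helpers here

set_option autoImplicit false
open CategoryTheory CategoryTheory.Limits AlgebraicGeometry Opposite
universe u
open Desc

namespace Groth.Agent.S9839

open CategoryTheory CategoryTheory.Limits AlgebraicGeometry Topology

set_option backward.isDefEq.respectTransparency.types false in
theorem isOpen_of_flat_family {n : ℕ} {Y : Scheme.{u}} [IsAffine Y] (X : ULift.{u} (Fin n) → Scheme.{u})
    [∀ k, IsAffine (X k)] (g : ∀ k, X k ⟶ Y) (hg : ∀ k, Flat (g k)) (hs : ∀ y : Y, ∃ k x, g k x = y)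
    (S : Set Y) (hS : ∀ k, IsOpen (g k ⁻¹' S)) : IsOpen S := by
  haveI : Flat (Sigma.desc g) := IsZariskiLocalAtSource.sigmaDesc (P := @Flat) hg
  haveI : Surjective (Sigma.desc g) := ⟨fun y => by
    obtain ⟨k, x, rfl⟩ := hs y
    exact ⟨Sigma.ι X k x, by rw [← Scheme.Hom.comp_apply, Sigma.ι_desc]⟩⟩
  refine (Flat.isQuotientMap_of_surjective (Sigma.desc g)).isOpen_preimage.mp ?_
  rw [isOpen_iff_forall_mem_open]
  intro z hz
  obtain ⟨k, x, rfl⟩ : ∃ k x, Sigma.ι X k x = z := by
    obtain ⟨k, x, h⟩ := (sigmaOpenCover X).exists_eq z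
    exact ⟨k, x, h⟩
  refine ⟨Sigma.ι X k '' (g k ⁻¹' S), ?_, (Sigma.ι X k).isOpenEmbedding.isOpenMap _ (hS k), x, ?_, rfl⟩
  · rintro _ ⟨w, hw, rfl⟩
    show Sigma.desc g (Sigma.ι X k w) ∈ S
    rw [← Scheme.Hom.comp_apply, Sigma.ι_desc]
    exact hw
  · show g k x ∈ S
    rw [← Sigma.ι_desc g k, Scheme.Hom.comp_apply]
    exact hz

set_option backward.isDefEq.respectTransparency.types false in
/-- Let f i : T i ⟶ T be an fpqc covering family of a scheme T (a family in the fpqc precoverage) and W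
i ⊆ T i open subsets such that for all i, j the inverse images of W i and W j under the two
projections of T i ×_T T j coincide. Then there is a unique open subset W ⊆ T with (f i)⁻¹(W) = W i
for every i. -/
theorem result {ι : Type u} {T : Scheme.{u}} {Ti : ι → Scheme.{u}}
    (f : ∀ i, Ti i ⟶ T) (hf : Presieve.ofArrows Ti f ∈ Scheme.fpqcPrecoverage T)
    (W : ∀ i, (Ti i).Opens)
    (hW : ∀ i j, (pullback.fst (f i) (f j)) ⁻¹ᵁ (W i) = (pullback.snd (f i) (f j)) ⁻¹ᵁ (W j)) :
    ∃! V : T.Opens, ∀ i, (f i) ⁻¹ᵁ V = W i := by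
    classical
    have hP := (Scheme.ofArrows_mem_precoverage_iff _).mp hf.2
    have hflat : ∀ i, Flat (f i) := hP.2
    have hsurj : ∀ t : T, ∃ i x, f i x = t := hP.1
    haveI hqc : QuasiCompactCover (⟨ι, Ti, f⟩ : PreZeroHypercover T) :=
      Scheme.presieve₀_mem_qcPrecoverage_iff.mp hf.1
    let S : Set T := ⋃ i, f i '' (W i : Set (Ti i))
    have hpre : ∀ i, f i ⁻¹' S = (W i : Set (Ti i)) := fun i => by
      refine subset_antisymm (fun x hx => ?_) (fun x hx => Set.mem_iUnion.mpr ⟨i, x, hx, rfl⟩)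
      obtain ⟨j, y, hy, hxy⟩ := Set.mem_iUnion.mp hx
      obtain ⟨z, rfl, hz⟩ := Scheme.Pullback.exists_preimage_pullback x y hxy.symm
      have hzy : z ∈ (pullback.snd (f i) (f j)) ⁻¹ᵁ (W j) := by
        show pullback.snd (f i) (f j) z ∈ W j
        rw [hz]; exact hy
      rw [← hW i j] at hzy
      exact hzy
    have hopen : IsOpen S := by
      rw [TopologicalSpace.IsOpenCover.isOpen_iff_inter (U := fun U : T.affineOpens => U.1)
        T.isBasis_affineOpens.isOpenCover]
      intro U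
      obtain ⟨n, a, V, hVa, hVU⟩ : ∃ (n : ℕ) (a : Fin n → ι) (V : ∀ k, (Ti (a k)).Opens),
          (∀ k, IsAffineOpen (V k)) ∧ ⋃ k, f (a k) '' (V k : Set (Ti (a k))) = (U.1 : Set T) :=
        QuasiCompactCover.exists_isAffineOpen_of_isCompact (⟨ι, Ti, f⟩ : PreZeroHypercover T) U.2.isCompact
      haveI : IsAffine U.1.toScheme := U.2
      haveI : ∀ k, IsAffine (V k).toScheme := hVa
      have hle : ∀ k, Set.range ((V k).ι ≫ f (a k)) ⊆ Set.range U.1.ι := fun k => by
        rw [Scheme.Opens.range_ι, ← hVU]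
        rintro _ ⟨x, rfl⟩
        exact Set.mem_iUnion.mpr ⟨k, (V k).ι x, x.2, rfl⟩
      rw [Set.inter_comm]
      have hinter : (U.1 : Set T) ∩ S = U.1.ι '' (U.1.ι ⁻¹' S) := by
        rw [Set.image_preimage_eq_range_inter, Scheme.Opens.range_ι]
      rw [hinter]
      refine U.1.ι.isOpenEmbedding.isOpenMap _ ?_
      have hfac : ∀ k, ∃ g : (V k).toScheme ⟶ U.1.toScheme, g ≫ U.1.ι = (V k).ι ≫ f (a k) :=
        fun k => ⟨IsOpenImmersion.lift U.1.ι ((V k).ι ≫ f (a k)) (hle k), IsOpenImmersion.lift_fac _ _ _⟩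
      choose g hg using hfac
      refine isOpen_of_flat_family (fun k : ULift.{u} (Fin n) => (V k.down).toScheme) (fun k => g k.down) ?_ ?_ _ ?_
      · intro k
        haveI := hflat (a k.down)
        refine MorphismProperty.of_postcomp (W := @Flat) (W' := MorphismProperty.monomorphisms Scheme) _ U.1.ι
          (inferInstanceAs (Mono U.1.ι)) ?_
        rw [hg]
        infer_instance
      · intro y
        have hy : U.1.ι y ∈ (U.1 : Set T) := y.2
        rw [← hVU] at hy
        obtain ⟨k, x, hx, hxy⟩ := Set.mem_iUnion.mp hy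
        refine ⟨⟨k⟩, ⟨x, hx⟩, U.1.ι.isOpenEmbedding.injective ?_⟩
        exact (congr($(hg k) ⟨x, hx⟩)).trans hxy
      · intro k
        have e : g k.down ⁻¹' (U.1.ι ⁻¹' S) = (V k.down).ι ⁻¹' (W (a k.down) : Set (Ti (a k.down))) := by
          ext x
          have e1 : U.1.ι (g k.down x) = f (a k.down) ((V k.down).ι x) := congr($(hg k.down) x)
          show U.1.ι (g k.down x) ∈ S ↔ (V k.down).ι x ∈ (W (a k.down) : Set (Ti (a k.down)))
          rw [e1, ← hpre]
          rfl
        rw [e]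
        exact (W (a k.down)).2.preimage (V k.down).ι.continuous
    refine ⟨⟨S, hopen⟩, fun i => SetLike.coe_injective (hpre i), fun V' hV' => ?_⟩
    ext t
    obtain ⟨i, x, rfl⟩ := hsurj t
    change x ∈ f i ⁻¹' (V' : Set T) ↔ x ∈ f i ⁻¹' S
    rw [hpre i, ← hV' i]
    rfl

end Groth.Agent.S9839
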