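import Groth.Statements.S6045
import Groth.Agent.DescMono.Basic
import Groth.Agent.S9839
-- import your own Groth.Agent.* helpers here

set_option autoImplicit false
open CategoryTheory CategoryTheory.Limits AlgebraicGeometry
universe u
open GrpQ

namespace Groth.Agent.S6045

/-- Open immersions descend along the fpqc topology. For an fpqc covering family `f i : X i ⟶ S` of a
scheme `S`, every descent datum for schemes relative to the family all of whose members `Z i ⟶ X i`
are open immersions is effective. -/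
theorem result {S : Scheme.{u}} {ι : Type u} {X : ι → Scheme.{u}}
    (f : ∀ i, X i ⟶ S) (hf : Presieve.ofArrows X f ∈ Scheme.fpqcPrecoverage S)
    (D : Desc.SchDDFam f) (hD : ∀ i, IsOpenImmersion (D.obj i).hom) :
    D.IsEffective := by
    haveI := hD
    have hW : ∀ {i j : ι} {T : Scheme.{u}} (x₀ : T ⟶ X i) (x₁ : T ⟶ X j), x₀ ≫ f i = x₁ ≫ f j →
        x₀ ⁻¹ᵁ (D.obj i).hom.opensRange ≤ x₁ ⁻¹ᵁ (D.obj j).hom.opensRange := by
      intro i j T x₀ x₁ h t ht
      let A := x₀ ⁻¹ᵁ (D.obj i).hom.opensRange
      have hr : Set.range (A.ι ≫ x₀) ⊆ Set.range (D.obj i).hom := by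
        rintro _ ⟨y, rfl⟩
        exact y.2
      obtain ⟨v, hv⟩ := Groth.Agent.DescMono.factors_of_factors D (A.ι ≫ x₀) (A.ι ≫ x₁)
        (by rw [Category.assoc, Category.assoc, h]) ⟨_, IsOpenImmersion.lift_fac _ _ hr⟩
      exact ⟨v ⟨t, ht⟩, congr($hv ⟨t, ht⟩)⟩
    obtain ⟨V, hV, -⟩ := Groth.Agent.S9839.result f hf (fun i => (D.obj i).hom.opensRange)
      (fun i j => le_antisymm (hW _ _ pullback.condition) (hW _ _ pullback.condition.symm))
    refine Groth.Agent.DescMono.isEffective_of_mono D (fun i => inferInstance) (Over.mk V.ι) (fun i => ?_)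
    have e : Set.range (pullback.fst (f i) V.ι) = Set.range (D.obj i).hom := by
      rw [Scheme.Pullback.range_fst, Scheme.Opens.range_ι]
      exact congrArg (fun W : (X i).Opens => (W : Set (X i))) (hV i)
    exact Over.isoMk (IsOpenImmersion.isoOfRangeEq (pullback.fst (f i) V.ι) (D.obj i).hom e)
      (IsOpenImmersion.isoOfRangeEq_hom_fac _ _ _)

end Groth.Agent.S6045
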