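import Groth.Statements.S6056
import Mathlib
import Groth.Agent.FppfEpi.Basic
import Groth.Agent.SourceDescent.Basic
import Groth.Agent.S0114
-- import your own Groth.Agent.* helpers here

set_option autoImplicit false
open CategoryTheory CategoryTheory.Limits AlgebraicGeometry MonoidalCategory
universe u
open RedSub

open MonObj CartesianMonoidalCategory

namespace Groth.Agent.S6056

section Aux
/-- fppf condition -/
def Fp {S : Scheme.{u}} {X Y : Over S} (f : X ⟶ Y) : Prop :=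
  Flat f.left ∧ Surjective f.left ∧ LocallyOfFinitePresentation f.left

theorem Fp.comp {S : Scheme.{u}} {X Y Z : Over S} {f : X ⟶ Y} {g : Y ⟶ Z} (hf : Fp f) (hg : Fp g) :
    Fp (f ≫ g) := by
  obtain ⟨_, _, _⟩ := hf
  obtain ⟨_, _, _⟩ := hg
  simp only [Fp, Over.comp_left]
  exact ⟨inferInstance, inferInstance, inferInstance⟩

theorem Fp.epi {S : Scheme.{u}} {X Y : Over S} {f : X ⟶ Y} (hf : Fp f) : Epi f := by
  obtain ⟨_, _, _⟩ := hf
  exact Groth.Agent.FppfEpi.epi_over f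

theorem exists_lift' {S : Scheme.{u}} {G Q T : Over S} (q : G ⟶ Q) (hq : Fp q) (u : T ⟶ Q) :
    ∃ (T' : Over S) (c : T' ⟶ T) (g : T' ⟶ G), Fp c ∧ g ≫ q = c ≫ u := by
  obtain ⟨_, _, _⟩ := hq
  refine ⟨Over.mk (pullback.fst u.left q.left ≫ T.hom), Over.homMk (pullback.fst u.left q.left) rfl,
    Over.homMk (pullback.snd u.left q.left) ?_, ⟨?_, ?_, ?_⟩, Over.OverMorphism.ext pullback.condition.symm⟩
  · change pullback.snd u.left q.left ≫ G.hom = pullback.fst u.left q.left ≫ T.hom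
    rw [← Over.w q, ← Over.w u, pullback.condition_assoc]
  all_goals
    simp only [Over.homMk_left]
    infer_instance

theorem Fp.tensor {S : Scheme.{u}} {A A' B B' : Over S} {f : A ⟶ A'} {g : B ⟶ B'} (hf : Fp f)
    (hg : Fp g) : Fp (f ⊗ₘ g) := by
  unfold Fp
  rw [CategoryTheory.Over.tensorHom_left]
  exact ⟨MorphismProperty.pullbackMap (P := @Flat) hf.1 hg.1 (Over.w f).symm (Over.w g).symm,
    MorphismProperty.pullbackMap (P := @Surjective) hf.2.1 hg.2.1 (Over.w f).symm (Over.w g).symm,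
    MorphismProperty.pullbackMap (P := @LocallyOfFinitePresentation) hf.2.2 hg.2.2 (Over.w f).symm
      (Over.w g).symm⟩

theorem mulHom {S : Scheme.{u}} {T A B : Over S} [GrpObj A] [GrpObj B] (f : A ⟶ B) [IsMonHom f]
    (a b : T ⟶ A) : (a * b) ≫ f = (a ≫ f) * (b ≫ f) := by
  rw [Hom.mul_def, Category.assoc, IsMonHom.mul_hom, lift_map_assoc, Hom.mul_def]

theorem quot_iff {S : Scheme.{u}} {H G Q : Over S} [GrpObj H] [GrpObj G] {i : H ⟶ G} {q : G ⟶ Q}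
    (hq : RedSub.IsQuotient i q) {T : Over S} (a b : T ⟶ G) :
    a ≫ q = b ≫ q ↔ ∃ η' : T ⟶ H, b = a * (η' ≫ i) := by
  obtain ⟨-, -, -, hpb⟩ := hq
  have hact : ∀ (a : T ⟶ G) (x : T ⟶ H), lift a x ≫ (G ◁ i) ≫ μ[G] = a * (x ≫ i) := by
    intro a x; rw [lift_whiskerLeft_assoc, Hom.mul_def]
  constructor
  · intro e
    refine ⟨hpb.lift a b e ≫ snd G H, ?_⟩
    have hl : lift a (hpb.lift a b e ≫ snd G H) = hpb.lift a b e :=
      CartesianMonoidalCategory.hom_ext _ _ ((lift_fst _ _).trans (hpb.lift_fst _ _ e).symm) (lift_snd _ _)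
    rw [← hact, hl]
    exact (hpb.lift_snd a b e).symm
  · rintro ⟨x, rfl⟩
    have := congrArg (fun f => lift a x ≫ f) hpb.w
    simp only [lift_fst_assoc] at this
    rw [this, ← hact]
    simp only [Category.assoc]

variable {S : Scheme.{u}} {H K G QH Kb : Over S}
  [GrpObj H] [GrpObj K] [GrpObj G] [GrpObj Kb]
  (h : H ⟶ K) (k : K ⟶ G) [Mono k] [IsMonHom h] [IsMonHom k]
  (qH : G ⟶ QH) (qKb : K ⟶ Kb) (act : QH ⊗ Kb ⟶ QH)

theorem act_pt (hact : (qH ⊗ₘ qKb) ≫ act = (G ◁ k) ≫ μ[G] ≫ qH) {T : Over S} (g : T ⟶ G)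
    (x : T ⟶ K) : lift (g ≫ qH) (x ≫ qKb) ≫ act = (g * (x ≫ k)) ≫ qH := by
  rw [← lift_map_assoc, hact, lift_whiskerLeft_assoc, Hom.mul_def, Category.assoc]

theorem act_cancel (hqH : RedSub.IsQuotient (h ≫ k) qH) (hqKb : RedSub.IsQuotient h qKb)
    (hact : (qH ⊗ₘ qKb) ≫ act = (G ◁ k) ≫ μ[G] ≫ qH)
    {T : Over S} (u : T ⟶ QH) (c c' : T ⟶ Kb) (e : lift u c ≫ act = lift u c' ≫ act) : c = c' := by
  have hH : Fp qH := ⟨hqH.2.1, hqH.1, hqH.2.2.1⟩
  have hK : Fp qKb := ⟨hqKb.2.1, hqKb.1, hqKb.2.2.1⟩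
  obtain ⟨T₁, d₁, g, hd₁, hg⟩ := exists_lift' qH hH u
  obtain ⟨T₂, d₂, x, hd₂, hx⟩ := exists_lift' qKb hK (d₁ ≫ c)
  obtain ⟨T₃, d₃, y, hd₃, hy⟩ := exists_lift' qKb hK (d₂ ≫ d₁ ≫ c')
  have e1 := congrArg (fun f => (d₃ ≫ d₂ ≫ d₁) ≫ f) e
  simp only [← Category.assoc, comp_lift] at e1
  simp only [Category.assoc, ← hy, ← hg] at e1
  rw [← hx, ← Category.assoc d₂ g, ← Category.assoc d₃ (d₂ ≫ g), ← Category.assoc d₃ x,
    act_pt k qH qKb act hact, act_pt k qH qKb act hact] at e1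
  obtain ⟨η', he⟩ := (quot_iff hqH _ _).mp e1
  rw [_root_.mul_assoc, mul_right_inj, ← Category.assoc η', ← mulHom k] at he
  have hy' : y = (d₃ ≫ x) * (η' ≫ h) := (cancel_mono k).mp he
  have e2 : (d₃ ≫ x) ≫ qKb = y ≫ qKb := (quot_iff hqKb _ _).mpr ⟨η', hy'⟩
  haveI := (hd₃.comp (hd₂.comp hd₁)).epi
  rw [← cancel_epi (d₃ ≫ d₂ ≫ d₁)]
  simp only [Category.assoc, ← hx, ← hy]
  rw [← Category.assoc, e2]

theorem part_one (hqH : RedSub.IsQuotient (h ≫ k) qH) (hqKb : RedSub.IsQuotient h qKb)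
    (hact : (qH ⊗ₘ qKb) ≫ act = (G ◁ k) ≫ μ[G] ≫ qH)
    (QK : Over S) (qK : G ⟶ QK) (hqK : RedSub.IsQuotient k qK) (qbar : QH ⟶ QK)
    (hbar : qH ≫ qbar = qK) :
    Surjective qbar.left ∧ Flat qbar.left ∧ LocallyOfFinitePresentation qbar.left ∧
      IsPullback (fst QH Kb) act qbar qbar := by
  subst hbar
  have hH : Fp qH := ⟨hqH.2.1, hqH.1, hqH.2.2.1⟩
  have hK : Fp qKb := ⟨hqKb.2.1, hqKb.1, hqKb.2.2.1⟩
  obtain ⟨_, _, _⟩ := id hH
  have h1 : Surjective (qH.left ≫ qbar.left) := hqK.1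
  have h2 : Flat (qH.left ≫ qbar.left) := hqK.2.1
  have h3 : LocallyOfFinitePresentation (qH.left ≫ qbar.left) := hqK.2.2.1
  haveI := (hH.tensor hK).epi
  have hw : fst QH Kb ≫ qbar = act ≫ qbar := by
    rw [← cancel_epi (qH ⊗ₘ qKb), reassoc_of% hact, tensorHom_fst_assoc]
    have := (quot_iff hqK (fst G K) (fst G K * (snd G K ≫ k))).mpr ⟨_, rfl⟩
    rw [this, Hom.mul_def, Category.assoc, ← Category.id_comp ((G ◁ k) ≫ μ[G] ≫ qH ≫ qbar),
      ← lift_fst_snd, lift_whiskerLeft_assoc]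
  refine ⟨Surjective.of_comp qH.left qbar.left,
    Groth.Agent.SourceDescent.flat_of_comp qH.left qbar.left,
    Groth.Agent.S0114.result qH.left qbar.left, ?_⟩
  have key : ∀ {T : Over S} (u v : T ⟶ QH), u ≫ qbar = v ≫ qbar →
      ∃ c : T ⟶ Kb, lift u c ≫ act = v := by
    intro T u v e
    obtain ⟨T₁, d₁, g, hd₁, hg⟩ := exists_lift' qH hH u
    obtain ⟨T₂, d₂, g', hd₂, hg'⟩ := exists_lift' qH hH (d₁ ≫ v)
    have e1 : (d₂ ≫ g) ≫ (qH ≫ qbar) = g' ≫ (qH ≫ qbar) := by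
      rw [reassoc_of% hg', Category.assoc, reassoc_of% hg, e]
    obtain ⟨x, hx⟩ := (quot_iff hqK _ _).mp e1
    have hd := hd₂.comp hd₁
    have hcov : lift ((d₂ ≫ d₁) ≫ u) (x ≫ qKb) ≫ act = (d₂ ≫ d₁) ≫ v := by
      rw [Category.assoc, ← hg, ← Category.assoc d₂ g, act_pt k qH qKb act hact, ← hx, hg',
        Category.assoc]
    obtain ⟨_, _, _⟩ := hd
    obtain ⟨c, hc⟩ := Groth.Agent.FppfEpi.exists_desc_over (d₂ ≫ d₁) (x ≫ qKb) (fun W a b hab => by
      refine act_cancel h k qH qKb act hqH hqKb hact ((a ≫ d₂ ≫ d₁) ≫ u) _ _ ?_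
      have ea := congrArg (a ≫ ·) hcov
      have eb := congrArg (b ≫ ·) hcov
      simp only [← Category.assoc, comp_lift] at ea eb hab ⊢
      rw [ea, hab, eb])
    haveI := (hd₂.comp hd₁).epi
    refine ⟨c, ?_⟩
    rw [← cancel_epi (d₂ ≫ d₁), ← Category.assoc, comp_lift, hc, hcov]
  choose c hc using @key
  refine ⟨⟨hw⟩, ⟨PullbackCone.IsLimit.mk hw (fun s => lift s.fst (c s.fst s.snd s.condition))
    (fun s => lift_fst _ _) (fun s => hc s.fst s.snd s.condition) (fun s m e1 e2 => ?_)⟩⟩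
  have hm : lift s.fst (m ≫ snd QH Kb) = m := by
    rw [← e1, ← comp_lift, lift_fst_snd, Category.comp_id]
  rw [← hm]
  refine congrArg _ (act_cancel h k qH qKb act hqH hqKb hact s.fst _ _ ?_)
  rw [hm, hc, e2]

theorem part_two (hqH : RedSub.IsQuotient (h ≫ k) qH) (hqKb : RedSub.IsQuotient h qKb)
    (hact : (qH ⊗ₘ qKb) ≫ act = (G ◁ k) ≫ μ[G] ≫ qH)
    (Y : Over S) (p : QH ⟶ Y) (h1 : Surjective p.left) (h2 : Flat p.left)
    (h3 : LocallyOfFinitePresentation p.left) (hpb : IsPullback (fst QH Kb) act p p) :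
    RedSub.IsQuotient k (qH ≫ p) := by
  have hH : Fp qH := ⟨hqH.2.1, hqH.1, hqH.2.2.1⟩
  have hK : Fp qKb := ⟨hqKb.2.1, hqKb.1, hqKb.2.2.1⟩
  have hp : Fp (qH ≫ p) := hH.comp ⟨h2, h1, h3⟩
  have hmul : ∀ {T : Over S} (a : T ⟶ G) (x : T ⟶ K),
      lift a x ≫ (G ◁ k) ≫ μ[G] = a * (x ≫ k) := by
    intro T a x; rw [lift_whiskerLeft_assoc, Hom.mul_def]
  have hw : fst G K ≫ qH ≫ p = ((G ◁ k) ≫ μ[G]) ≫ qH ≫ p := by
    simp only [Category.assoc]
    rw [← reassoc_of% hact, ← hpb.w, tensorHom_fst_assoc]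
  have key : ∀ {T : Over S} (a b : T ⟶ G), a ≫ qH ≫ p = b ≫ qH ≫ p → ∃ x : T ⟶ K, a * (x ≫ k) = b := by
    intro T a b e
    let c := hpb.lift (a ≫ qH) (b ≫ qH) (by rw [Category.assoc, Category.assoc, e])
    have hc : lift (a ≫ qH) (c ≫ snd QH Kb) ≫ act = b ≫ qH := by
      have : lift (a ≫ qH) (c ≫ snd QH Kb) = c :=
        CartesianMonoidalCategory.hom_ext _ _ ((lift_fst _ _).trans (hpb.lift_fst _ _ _).symm) (lift_snd _ _)
      rw [this, hpb.lift_snd]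
    obtain ⟨T₁, d, x, hd, hx⟩ := exists_lift' qKb hK (c ≫ snd QH Kb)
    have e1 : ((d ≫ a) * (x ≫ k)) ≫ qH = (d ≫ b) ≫ qH := by
      rw [← act_pt k qH qKb act hact, hx, Category.assoc d a, ← comp_lift, Category.assoc, hc,
        Category.assoc]
    obtain ⟨η', he⟩ := (quot_iff hqH _ _).mp e1
    rw [_root_.mul_assoc, ← Category.assoc η', ← mulHom k] at he
    have hdb : (d ≫ a)⁻¹ * (d ≫ b) = (x * (η' ≫ h)) ≫ k := by rw [he, inv_mul_cancel_left]
    rw [← GrpObj.comp_inv, ← MonObj.comp_mul] at hdb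
    obtain ⟨_, _, _⟩ := hd
    obtain ⟨x₀, hx₀⟩ := Groth.Agent.FppfEpi.exists_desc_over d (x * (η' ≫ h)) (fun W u v huv => by
      rw [← cancel_mono k, Category.assoc, Category.assoc, ← hdb, reassoc_of% huv])
    refine ⟨x₀, ?_⟩
    haveI := Groth.Agent.FppfEpi.epi_over d
    have : x₀ ≫ k = a⁻¹ * b := by rw [← cancel_epi d, reassoc_of% hx₀, hdb]
    rw [this, mul_inv_cancel_left]
  choose x hx using @key
  refine ⟨hp.2.1, hp.1, hp.2.2, ⟨⟨hw⟩, ⟨PullbackCone.IsLimit.mk hw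
    (fun s => lift s.fst (x s.fst s.snd s.condition))
    (fun s => lift_fst _ _) (fun s => (hmul _ _).trans (hx s.fst s.snd s.condition))
    (fun s m e1 e2 => ?_)⟩⟩⟩
  have hm : lift s.fst (m ≫ snd G K) = m := by
    rw [← e1, ← comp_lift, lift_fst_snd, Category.comp_id]
  rw [← hm, hmul] at e2
  rw [← hm]
  refine congrArg _ ((cancel_mono k).mp ?_)
  exact mul_left_cancel (e2.trans (hx s.fst s.snd s.condition).symm)

end Aux

open MonObj CartesianMonoidalCategory SemiCartesianMonoidalCategory in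
/-- For group schemes and fppf quotients: let `K ⊆ G` be a subgroup scheme and `H ⊆ K` a subgroup scheme
normal in `K`; suppose `G/H` is represented by `q_H : G ⟶ Q_H` and `K/H` by a homomorphism `K ⟶ K'`
of group schemes, and let `act : Q_H ×_S K' ⟶ Q_H` be the right action induced by the multiplication
of `G`. Then: (i) if `G/K` is represented by `q_K : G ⟶ Q_K`, the map `Q_H ⟶ Q_K` under `G` is an
fppf covering whose kernel pair is `Q_H ×_S K' ⇉ Q_H` (projection, action), i.e. `Q_K =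
(G/H)/(K/H)`; (ii) conversely, if `p : Q_H ⟶ Y` is an fppf covering with that kernel pair, then `q_H
≫ p` represents `G/K`. -/
theorem result {S : Scheme.{u}} {H K G QH Kb : Over S}
    [hH : GrpObj H] [hK : GrpObj K] [hG : GrpObj G] [hKb : GrpObj Kb]
    (h : H ⟶ K) (k : K ⟶ G) [Mono h] [Mono k] [IsMonHom h] [IsMonHom k]
    (hn : AlgGrp.IsNormalHom h)
    (qH : G ⟶ QH) (hqH : RedSub.IsQuotient (h ≫ k) qH)
    (qKb : K ⟶ Kb) [IsMonHom qKb] (hqKb : RedSub.IsQuotient h qKb)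
    (act : QH ⊗ Kb ⟶ QH) (hact : (qH ⊗ₘ qKb) ≫ act = (G ◁ k) ≫ μ[G] ≫ qH) :
    (∀ (QK : Over S) (qK : G ⟶ QK), RedSub.IsQuotient k qK →
      ∀ qbar : QH ⟶ QK, qH ≫ qbar = qK →
        Surjective qbar.left ∧ Flat qbar.left ∧ LocallyOfFinitePresentation qbar.left ∧
          IsPullback (fst QH Kb) act qbar qbar) ∧
    (∀ (Y : Over S) (p : QH ⟶ Y),
      Surjective p.left → Flat p.left → LocallyOfFinitePresentation p.left →
      IsPullback (fst QH Kb) act p p → RedSub.IsQuotient k (qH ≫ p)) := by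
  exact ⟨part_one h k qH qKb act hqH hqKb hact, part_two h k qH qKb act hqH hqKb hact⟩

end Groth.Agent.S6056
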