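import Groth.Statements.S6060
import Groth.Agent.FactLocus.Nhd

set_option autoImplicit false
open CategoryTheory MonoidalCategory CartesianMonoidalCategory MonObj GrpObj AlgebraicGeometry
universe u
open SGA3x
open Limits Groth.Agent.DiagAction Groth.Agent.FactLocus

set_option backward.isDefEq.respectTransparency false
set_option linter.style.haveILetI false

namespace Groth.Agent.S6060

/-- Let G be an S-group, suppose S locally Noetherian or G of finite presentation over S, and let i₁ :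
H₁ ⟶ G, i₂ : H₂ ⟶ G be two sub-group-schemes (homomorphisms which are immersions) of multiplicative
type and of finite type. Let s ∈ S be a point such that the fibre (H₁)_s is central in G_s (every
point of G_s commutes with every point of (H₁)_s) and (H₁)_s = (H₂)_s as subgroups of G_s (an
isomorphism of the fibres compatible with the inclusions). Then there is an open neighbourhood U of
s such that H₁|_U = H₂|_U as subgroups of G|_U. -/
theorem result {S : Scheme.{u}} (G H₁ H₂ : Over S) [GrpObj G] [GrpObj H₁] [GrpObj H₂]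
    (hG : IsLocallyNoetherian S ∨ (LocallyOfFinitePresentation G.hom ∧ QuasiCompact G.hom ∧ QuasiSeparated G.hom))
    (h₁ : SGA3x.IsMultTypeFT H₁) (h₂ : SGA3x.IsMultTypeFT H₂)
    (i₁ : H₁ ⟶ G) [IsMonHom i₁] [IsImmersion i₁.left] (i₂ : H₂ ⟶ G) [IsMonHom i₂] [IsImmersion i₂.left] (s : S)
    (hc : ∀ (X : Over (Spec (S.residueField s))) (g : X ⟶ Red.bc (S.fromSpecResidueField s) G)
      (h : X ⟶ Red.bc (S.fromSpecResidueField s) H₁),
      g * (h ≫ (Over.pullback (S.fromSpecResidueField s)).map i₁) = (h ≫ (Over.pullback (S.fromSpecResidueField s)).map i₁) * g)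
    (hs : ∃ ψ : Red.bc (S.fromSpecResidueField s) H₁ ≅ Red.bc (S.fromSpecResidueField s) H₂,
      ψ.hom ≫ (Over.pullback (S.fromSpecResidueField s)).map i₂ = (Over.pullback (S.fromSpecResidueField s)).map i₁) :
    ∃ U : S.Opens, s ∈ U ∧ ∃ ψ : Red.bc U.ι H₁ ≅ Red.bc U.ι H₂,
      ψ.hom ≫ (Over.pullback U.ι).map i₂ = (Over.pullback U.ι).map i₁ := by
  have hG' : IsLocallyNoetherian S ∨ LocallyOfFinitePresentation G.hom := hG.imp id And.left
  obtain ⟨hs₁, hs₂⟩ := (exists_iso_iff _ i₁ i₂).mp hs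
  have hc₁ : Cent i₁ (S.fromSpecResidueField s) := cent_of_bc _ hc
  have hc₂ : Cent i₂ (S.fromSpecResidueField s) := fun Y p g h => by
    obtain ⟨x, hx⟩ := hs₁ Y p h
    rw [← hx]
    exact hc₁ Y p g x
  obtain ⟨U₁, hsU₁, hf₁⟩ := exists_nhd_fact h₂ h₁ hG' s hc₁ hs₁
  obtain ⟨U₂, hsU₂, hf₂⟩ := exists_nhd_fact h₁ h₂ hG' s hc₂ hs₂
  refine ⟨U₁ ⊓ U₂, ⟨hsU₁, hsU₂⟩, (exists_iso_iff _ i₁ i₂).mpr ⟨?_, ?_⟩⟩
  · rw [← Scheme.homOfLE_ι S (inf_le_left : U₁ ⊓ U₂ ≤ U₁)]; exact hf₁.comp _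
  · rw [← Scheme.homOfLE_ι S (inf_le_right : U₁ ⊓ U₂ ≤ U₂)]; exact hf₂.comp _

end Groth.Agent.S6060
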