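import Groth.Statements.S6065
import Groth.Agent.DenseFamily.Torsion
-- import your own Groth.Agent.* helpers here

set_option autoImplicit false
open CategoryTheory MonoidalCategory CartesianMonoidalCategory MonObj GrpObj AlgebraicGeometry
universe u
open SGA3x

namespace Groth.Agent.S6065

open CategoryTheory.Limits in
/-- Let S be a locally Noetherian scheme, H a commutative S-group which is of finite type over S, and E
a nonempty set of integers n > 0 stable under multiplication, such that: a) for every n ∈ E the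
kernel ₙH of the n-th power map of H (the pullback of the unit section along that map) is finite and
flat over S; b) for every s ∈ S the family of fibres (ₙH)_s ⟶ H_s, n ∈ E, is schematically dense in
H_s (a section of the structure sheaf of H_s over an open subset whose pullback to every (ₙH)_s
vanishes is zero). Let Y be a closed subscheme of H. Then the functor on S-schemes whose value at S'
⟶ S is a point when H ×_S S' ⟶ H factors through Y and empty otherwise is representable by a closed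
subscheme T of S; and if S is Noetherian there is n ∈ E such that, for every S' ⟶ S, H ×_S S' ⟶ H
factors through Y if and only if ₙH ×_S S' ⟶ H does. -/
theorem result {S : Scheme.{u}} [IsLocallyNoetherian S]
    (H : Over S) [GrpObj H] [IsCommMonObj H] [LocallyOfFiniteType H.hom] [QuasiCompact H.hom]
    (E : Set ℕ) (hE : E.Nonempty) (hE0 : ∀ n ∈ E, 0 < n) (hEmul : ∀ m ∈ E, ∀ n ∈ E, m * n ∈ E)
    (ha : ∀ n ∈ E, IsFinite ((pullback.snd η[H].left (𝟙 H ^ n : H ⟶ H).left) ≫ H.hom) ∧ Flat ((pullback.snd η[H].left (𝟙 H ^ n : H ⟶ H).left) ≫ H.hom))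
    (hb : ∀ (s : S) (V : (H.hom.fiber s).Opens) (t : Γ(H.hom.fiber s, V)),
      (∀ n ∈ E, (MoreMor.fiberMap (pullback.snd η[H].left (𝟙 H ^ n : H ⟶ H).left) H.hom s).app V t = 0) → t = 0)
    (Y : Scheme.{u}) (y : Y ⟶ H.left) [IsClosedImmersion y] :
    (∃ (T : Scheme.{u}) (t : T ⟶ S), IsClosedImmersion t ∧
      ∀ (S' : Scheme.{u}) (g : S' ⟶ S), (∃ g' : S' ⟶ T, g' ≫ t = g) ↔
        ∃ l : pullback H.hom g ⟶ Y, l ≫ y = pullback.fst H.hom g) ∧
    (AlgebraicGeometry.IsNoetherian S → ∃ n ∈ E, ∀ (S' : Scheme.{u}) (g : S' ⟶ S),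
      (∃ l : pullback H.hom g ⟶ Y, l ≫ y = pullback.fst H.hom g) ↔
        ∃ l : pullback ((pullback.snd η[H].left (𝟙 H ^ n : H ⟶ H).left) ≫ H.hom) g ⟶ Y,
          l ≫ y = pullback.fst ((pullback.snd η[H].left (𝟙 H ^ n : H ⟶ H).left) ≫ H.hom) g ≫ (pullback.snd η[H].left (𝟙 H ^ n : H ⟶ H).left)) := by
  let j : ∀ n : E, DenseFamily.tors H n ⟶ H := fun n => DenseFamily.torsι H n
  haveI : ∀ n : E, Flat (DenseFamily.tors H n).hom := fun n => (ha n n.2).2
  have hd : DenseFamily.FibreDense H.hom fun n : E => (j n).left :=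
    fun s V t h => hb s V t fun n hn => h ⟨n, hn⟩
  let Y' : Over S := Over.mk (y ≫ H.hom)
  let y' : Y' ⟶ H := Over.homMk y
  haveI : IsClosedImmersion y'.left := inferInstanceAs (IsClosedImmersion y)
  haveI : IsLocallyNoetherian (𝟙_ (Over S)).left := inferInstanceAs (IsLocallyNoetherian S)
  obtain ⟨⟨T, t, ht, hT⟩, hn⟩ := DenseFamily.exists_closed_factLocus (G := 𝟙_ (Over S)) j hd
    (fun n => DenseFamily.isEssentiallyFree_tors H (ha n n.2)) (fst H (𝟙_ (Over S))) y'
  have hfull : ∀ (S' : Scheme.{u}) (g : S' ⟶ S),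
      (∀ (S'' : Over S) (s : S'' ⟶ Over.mk g) (x : S'' ⟶ H), ∃ x' : S'' ⟶ Y',
        x' ≫ y' = lift x (s ≫ toUnit (Over.mk g)) ≫ fst H (𝟙_ (Over S))) ↔
      ∃ l : pullback H.hom g ⟶ Y, l ≫ y = pullback.fst H.hom g := by
    intro S' g
    have h := DenseFamily.forall_points_iff (𝟙 H) y g
    simp only [Category.comp_id, Over.id_left] at h
    exact h
  refine ⟨⟨T.left, T.hom, ?_, fun S' g => ?_⟩, fun hN => ?_⟩
  · haveI := ht
    rw [← Over.w t]
    exact inferInstanceAs (IsClosedImmersion (t.left ≫ 𝟙 _))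
  · refine (Iff.trans ?_ (hT (Over.mk g) (toUnit _))).trans (hfull S' g)
    exact ⟨fun ⟨g', hg'⟩ => ⟨Over.homMk g' hg', toUnit_unique _ _⟩, fun ⟨z, _⟩ => ⟨z.left, Over.w z⟩⟩
  · haveI : AlgebraicGeometry.IsNoetherian (𝟙_ (Over S)).left := hN
    obtain ⟨n, hn'⟩ := hn inferInstance hE.to_subtype (DenseFamily.directed_tors H E hEmul)
    exact ⟨n, n.2, fun S' g => (hfull S' g).symm.trans
      ((hn' (Over.mk g) (toUnit _)).trans (DenseFamily.forall_points_iff (j n) y g))⟩

end Groth.Agent.S6065
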