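import Groth.Statements.S6080
import Groth.Agent.ComodRing.Dual
-- import your own Groth.Agent.* helpers here

set_option autoImplicit false
universe u
open TensorProduct
open SGA3

namespace Groth.Agent.S6080

/-- Let R be a Noetherian regular ring of Krull dimension at most 2 and A a commutative Hopf algebra
over R which is flat as an R-module, so that G = Spec A is an affine flat R-group scheme, not
necessarily of finite type. Then every finite subset F of A is contained in a finite-type
sub-Hopf-algebra of the following form: there are a natural number d and a d × d matrix (a_ij) of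
elements of A with Δ(a_ij) = Σ_l a_il ⊗ a_lj and ε(a_ij) = δ_ij (a matrix corepresentation, i.e. a
homomorphism G → GL_{d,R}) whose determinant is a unit, such that F lies in the R-subalgebra
generated by the entries a_ij together with the inverse of det(a_ij) (the affine algebra of the
schematic image of G in GL_{d,R}). Consequently A is the directed union of finite-type
sub-Hopf-algebras each of which is a quotient of the Hopf algebra of some GL_{d,R}. (The published
statement asserts that A is a filtered union of sub-Hopf-algebras of finite type which are moreover
flat over R. The published proof produces the sub-Hopf-algebras described here, as coefficient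
algebras of finite projective subcomodules, and does not address their flatness; they need not be
flat: for the additive group over R = k[x, y], so A = R[s] with s primitive, and the subcomodule
spanned by 1, x s and y s, the construction gives the subalgebra R[x s, y s], which as an R-module
is the direct sum of the powers of the ideal (x, y) and is not flat. Flatness of the
sub-Hopf-algebras is therefore not asserted here. The published statement is over a Noetherian
regular scheme of dimension at most 2; this row is the affine case.) -/
theorem result (R : Type u) [CommRing R] [IsRegularRing R]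
    (hdim : ringKrullDim R ≤ 2) (A : Type u) [CommRing A] [HopfAlgebra R A] [Module.Flat R A] (F : Finset A) :
    ∃ (d : ℕ) (a : Matrix (Fin d) (Fin d) A),
      (∀ i j, CoalgebraStruct.comul (R := R) (a i j) = ∑ l, a i l ⊗ₜ[R] a l j) ∧
      (∀ i j, CoalgebraStruct.counit (R := R) (a i j) = if i = j then 1 else 0) ∧
      ∃ u : A, u * a.det = 1 ∧ (↑F : Set A) ⊆ Algebra.adjoin R (Set.range (fun p : Fin d × Fin d => a p.1 p.2) ∪ {u}) := by
  obtain ⟨W, hW, hFW, hWfg⟩ := Groth.Agent.ComodRing.exists_fg_subcomod (C := A) (V := A)
    (Submodule.span R (F : Set A)) ⟨F, rfl⟩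
  haveI : Module.Finite R W := Module.Finite.iff_fg.mpr hWfg
  haveI : Module.FinitePresentation R W := Module.finitePresentation_of_finite R W
  obtain ⟨hDf, hDp⟩ := Groth.Agent.ComodRing.finite_projective_dual R hdim W
  letI := Groth.Agent.ComodRing.subComod hW
  obtain ⟨Θ, hΘ, hkey⟩ := Groth.Agent.ComodRing.exists_dual_coaction
    (Groth.Agent.ComodRing.isCoaction_coact (R := R) (C := A) (V := W))
  obtain ⟨d, b, hb, hbε, hspan⟩ := Groth.Agent.ComodRing.exists_matrix (c₁ := (1 : A))
    (by simp [Bialgebra.comul_one, Algebra.TensorProduct.one_def]) Bialgebra.counit_one hΘ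
  have hΔ : ∀ i j, CoalgebraStruct.comul (R := R) (b.transpose i j) =
      ∑ l, b.transpose i l ⊗ₜ[R] b.transpose l j := by
    intro i j
    apply (TensorProduct.comm R A A).injective
    simp only [Matrix.transpose_apply, map_sum, TensorProduct.comm_tmul]
    exact hb j i
  have hε : ∀ i j, CoalgebraStruct.counit (R := R) (b.transpose i j) = if i = j then 1 else 0 := by
    intro i j
    rw [Matrix.transpose_apply, hbε]
    simp [eq_comm]
  obtain ⟨u, hu⟩ := Groth.Agent.ComodRing.exists_mul_det_eq_one b.transpose hΔ hε
  refine ⟨d, b.transpose, hΔ, hε, u, hu, fun x hx => ?_⟩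
  let w : W := ⟨x, hFW (Submodule.subset_span hx)⟩
  let φ : Module.Dual R W := CoalgebraStruct.counit (R := R) (A := A) ∘ₗ W.subtype
  have h1 := hspan (Module.Dual.eval R W w) φ
  have h2 : Groth.Agent.ComodRing.crd (Module.Dual.eval R W w) (Θ φ) = x := by
    have h3 : ∀ y : Module.Dual R W ⊗[R] A,
        Groth.Agent.ComodRing.crd (Module.Dual.eval R W w) y = dualTensorHom R W A y w := by
      intro y
      induction y using TensorProduct.induction_on with
      | zero => simp
      | tmul a b => simp
      | add a b ha hb => simp [ha, hb]
    rw [h3, hkey, ← Groth.Agent.ComodRing.crd_rTensor]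
    change Groth.Agent.ComodRing.crd _ (W.subtype.rTensor A (Groth.Agent.ComodRing.subCoact hW w)) = x
    rw [Groth.Agent.ComodRing.rTensor_subCoact, Groth.Agent.ComodRing.crd, LinearMap.comp_apply]
    change TensorProduct.lid R A ((CoalgebraStruct.counit (R := R) (A := A)).rTensor A
      (CoalgebraStruct.comul (R := R) x)) = x
    rw [Coalgebra.rTensor_counit_comul]
    simp
  rw [h2] at h1
  refine (Submodule.span_le (p := Subalgebra.toSubmodule (Algebra.adjoin R
    (Set.range (fun p : Fin d × Fin d => b.transpose p.1 p.2) ∪ {u})))).mpr ?_ h1
  rintro _ ⟨q, rfl⟩
  exact Algebra.subset_adjoin (Or.inl ⟨(q.2, q.1), rfl⟩)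

end Groth.Agent.S6080
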