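import Groth.Statements.S6081
import Groth.Agent.ComodRing.Basic
-- import your own Groth.Agent.* helpers here

set_option autoImplicit false
universe u
open TensorProduct
open SGA3

namespace Groth.Agent.S6081

/-- Let R be a Noetherian ring and A a commutative Hopf algebra over R which is flat and of finite type
as an R-algebra, so that G = Spec A is an affine flat R-group scheme of finite type. Suppose that
the pair (G, Spec R) has the equivariant resolution property: for every A-comodule F which is
finitely generated as an R-module there are an A-comodule E which is finitely generated and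
projective as an R-module and a surjective R-linear map E → F compatible with the coactions. Then
there are a natural number d and a d × d matrix (a_ij) of elements of A with Δ(a_ij) = Σ_l a_il ⊗
a_lj and ε(a_ij) = δ_ij (a matrix corepresentation, i.e. a homomorphism G → GL_{d,R}) whose
determinant is a unit, such that A is generated as an R-algebra by the entries a_ij together with
the inverse of det(a_ij): G is a closed subgroup scheme of GL_{d,R}. (The published statement is
over a Noetherian scheme S, with G-equivariant coherent modules; this row is its assertion (ii), the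
case S affine, in Hopf-algebra form.) -/
theorem result (R : Type u) [CommRing R] [IsNoetherianRing R]
    (A : Type u) [CommRing A] [HopfAlgebra R A] [Module.Flat R A] [Algebra.FiniteType R A]
    (hRE : ∀ (F : Type u) [AddCommGroup F] [Module R F] [HopfRep.Comod R A F] [Module.Finite R F],
      ∃ (E : Type u) (_ : AddCommGroup E) (_ : Module R E) (_ : HopfRep.Comod R A E) (π : E →ₗ[R] F),
        Module.Finite R E ∧ Module.Projective R E ∧ Function.Surjective π ∧
        HopfRep.Comod.coact (k := R) (A := A) ∘ₗ π = π.rTensor A ∘ₗ HopfRep.Comod.coact (k := R) (A := A) (V := E)) :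
    ∃ (d : ℕ) (a : Matrix (Fin d) (Fin d) A),
      (∀ i j, CoalgebraStruct.comul (R := R) (a i j) = ∑ l, a i l ⊗ₜ[R] a l j) ∧
      (∀ i j, CoalgebraStruct.counit (R := R) (a i j) = if i = j then 1 else 0) ∧
      ∃ u : A, u * a.det = 1 ∧ Algebra.adjoin R (Set.range (fun p : Fin d × Fin d => a p.1 p.2) ∪ {u}) = ⊤ := by
  obtain ⟨F, hF⟩ := Algebra.FiniteType.out (R := R) (A := A)
  obtain ⟨W, hW, hFW, hWfg⟩ := Groth.Agent.ComodRing.exists_fg_subcomod (C := A) (V := A)
    (Submodule.span R (F : Set A)) ⟨F, rfl⟩
  haveI : Module.Finite R W := Module.Finite.iff_fg.mpr hWfg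
  letI := Groth.Agent.ComodRing.subComod hW
  obtain ⟨E, _, _, _, π, hEf, hEp, hπ, hcomm⟩ := hRE W
  obtain ⟨d, b, hb, hbε, hspan⟩ := Groth.Agent.ComodRing.exists_matrix (c₁ := (1 : A))
    (by simp [Bialgebra.comul_one, Algebra.TensorProduct.one_def]) Bialgebra.counit_one
    (Groth.Agent.ComodRing.isCoaction_coact (R := R) (C := A) (V := E))
  obtain ⟨u, hu⟩ := Groth.Agent.ComodRing.exists_mul_det_eq_one b hb hbε
  refine ⟨d, b, hb, hbε, u, hu, eq_top_iff.mpr ?_⟩
  rw [← hF]
  refine Algebra.adjoin_le fun x hx => ?_
  obtain ⟨y, hy⟩ := hπ ⟨x, hFW (Submodule.subset_span hx)⟩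
  have h1 := hspan (CoalgebraStruct.counit (R := R) (A := A) ∘ₗ W.subtype ∘ₗ π) y
  have h2 : Groth.Agent.ComodRing.crd (CoalgebraStruct.counit (R := R) (A := A) ∘ₗ W.subtype ∘ₗ π)
      (HopfRep.Comod.coact (k := R) (A := A) y) = x := by
    have hc : π.rTensor A (HopfRep.Comod.coact (k := R) (A := A) y) =
        HopfRep.Comod.coact (k := R) (A := A) (π y) := (LinearMap.congr_fun hcomm y).symm
    rw [← LinearMap.comp_assoc, ← Groth.Agent.ComodRing.crd_rTensor, hc, hy,
      ← Groth.Agent.ComodRing.crd_rTensor]
    change Groth.Agent.ComodRing.crd _ (W.subtype.rTensor A (Groth.Agent.ComodRing.subCoact hW _)) = x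
    rw [Groth.Agent.ComodRing.rTensor_subCoact, Groth.Agent.ComodRing.crd, LinearMap.comp_apply]
    change TensorProduct.lid R A ((CoalgebraStruct.counit (R := R) (A := A)).rTensor A
      (CoalgebraStruct.comul (R := R) x)) = x
    rw [Coalgebra.rTensor_counit_comul]
    simp
  rw [h2] at h1
  refine (Submodule.span_le (p := Subalgebra.toSubmodule (Algebra.adjoin R
    (Set.range (fun p : Fin d × Fin d => b p.1 p.2) ∪ {u})))).mpr ?_ h1
  rintro _ ⟨q, rfl⟩
  exact Algebra.subset_adjoin (Or.inl ⟨q, rfl⟩)

end Groth.Agent.S6081
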