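import Groth.Statements.S6083
import Groth.Agent.GeomUnib.QFAffineScheme
-- import your own Groth.Agent.* helpers here

set_option autoImplicit false
universe u
open CategoryTheory CategoryTheory.Limits MonoidalCategory CartesianMonoidalCategory MonObj GrpObj AlgebraicGeometry
open SGA3

namespace Groth.Agent.S6083

/-- Let f : X → S be a morphism locally of finite presentation, s a point of S, x a point of the fibre
X_s = f⁻¹(s), n the local dimension of X_s at x, q : 𝔸^n_S → S the affine n-space over S and u : X →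
𝔸^n_S a locally quasi-finite morphism with u q = f. Suppose that f is universally open at the
generic point z of an irreducible component Z of X_s which contains x and has dimension n. Then u is
universally open at x. -/
theorem result (X S : Scheme.{u}) (f : X ⟶ S) [LocallyOfFinitePresentation f]
    (s : S) (x : X) (hxs : f.base x = s) (n : ℕ)
    (u : X ⟶ 𝔸(ULift.{u} (Fin n); S)) [LocallyQuasiFinite u] (hu : u ≫ (𝔸(ULift.{u} (Fin n); S) ↘ S) = f)
    (Z : Set ↥(f.base ⁻¹' {s})) (hZ : Z ∈ irreducibleComponents ↥(f.base ⁻¹' {s})) (hxZ : x ∈ (Subtype.val '' Z))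
    (z : X) (hz : z ∈ Subtype.val '' Z ∧ Subtype.val '' Z ⊆ closure {z}) (hopen : EGA43.IsUnivOpenAt f z)
    (hdimZ : topologicalKrullDim ↥Z = n) (hdimx : FlatMor.localDim ↥(f.base ⁻¹' {s}) ⟨x, hxs⟩ = n) :
    EGA43.IsUnivOpenAt u x := by
  classical
  obtain ⟨U, hU, V, hV, hVU, hxV, φ, hfac, hqf⟩ := GeomUnib.exists_chart_toAffineSpace f u hu x
  letI algUV := (f.appLE U V hVU).hom.toAlgebra
  -- the generic point
  have hzs : f.base z = s := by
    obtain ⟨⟨w, hw⟩, -, rfl⟩ := hz.1
    exact hw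
  have hzx : z ⤳ x := specializes_iff_mem_closure.2 (hz.2 hxZ)
  have hzV : z ∈ V := hzx.mem_open V.2 hxV
  have hZset : Subtype.val '' Z = closure ({z} : Set X) ∩ f.base ⁻¹' {f.base z} := by
    refine Set.Subset.antisymm (fun w hw => ⟨hz.2 hw, ?_⟩) ?_
    · obtain ⟨⟨w', hw'⟩, -, rfl⟩ := hw
      exact (Set.mem_singleton_iff.1 hw').trans hzs.symm
    · rintro w ⟨hwz, hwy⟩
      obtain ⟨z', hz', rfl⟩ := hz.1
      have hws : w ∈ f.base ⁻¹' {s} := (Set.mem_singleton_iff.1 hwy).trans hzs
      refine ⟨⟨w, hws⟩, ?_, rfl⟩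
      have hcl : IsClosed Z := isClosed_of_mem_irreducibleComponents Z hZ
      refine hcl.closure_subset_iff.2 (Set.singleton_subset_iff.2 hz') ?_
      rw [closure_subtype, Set.image_singleton]
      exact hwz
  have hdz : FibreDim.fdim f z = n := by
    rw [FibreDim.fdim, ← hZset, FibreDim.dim_image Topology.IsEmbedding.subtypeVal, hdimZ]
  -- the algebra
  have hgenz := (GeomUnib.FibreDimChart.injective_iff f hU hV hVU z hzV φ (hqf _)).1 hdz
  let qz := hV.primeIdealOf ⟨z, hzV⟩
  let qx := hV.primeIdealOf ⟨x, hxV⟩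
  have hle : qz.asIdeal ≤ qx.asIdeal := by
    refine (PrimeSpectrum.le_iff_specializes _ _).2 (hV.fromSpec.isOpenEmbedding.toIsInducing.specializes_iff.1 ?_)
    rw [hV.fromSpec_primeIdealOf, hV.fromSpec_primeIdealOf]
    exact hzx
  have hp : qz.asIdeal.comap (algebraMap Γ(S, U) Γ(X, V)) = qx.asIdeal.comap (algebraMap Γ(S, U) Γ(X, V)) :=
    ((FibreDim.primeIdeal_comap f hU hV hVU x hxV z hzV).1 (hzs.trans hxs.symm))
  haveI : Algebra.FiniteType Γ(S, U) Γ(X, V) :=
    RingHom.finiteType_algebraMap.1 (f.finiteType_appLE hU hV hVU)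
  have htor := GeomUnib.QFAffine.torAt_quasiFiniteAt φ qz.asIdeal qx.asIdeal hle hp
    (by rw [← hp]; exact hgenz) (hqf qx)
    (fun W _ _ _ => UnivOpenAt.torAt_of_isUnivOpenAt f hU hV hVU hzV hopen W)
  exact GeomUnib.QFAffine.isUnivOpenAt_toAffineSpace f u hu hU hV hVU hxV φ hfac htor

end Groth.Agent.S6083
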