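import Groth.Statements.S6094
import Mathlib.LinearAlgebra.TensorProduct.Tower
import Mathlib.RingTheory.TensorProduct.Maps
import Mathlib.LinearAlgebra.GeneralLinearGroup.Basic
-- import your own Groth.Agent.* helpers here

set_option autoImplicit false
universe u
open CategoryTheory MonObj GrpObj AlgebraicGeometry
open scoped TensorProduct
open SGA3

namespace Groth.Agent.S6094

section Aux

variable {R A : Type u} [CommRing R] [CommRing A] [HopfAlgebra R A] {E : Type u} [AddCommGroup E] [Module R E]

noncomputable abbrev grp (R A : Type u) [CommRing R] [CommRing A] [HopfAlgebra R A] : Over (Spec (CommRingCat.of R)) :=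
  (Spec (CommRingCat.of A)).asOver (Spec (CommRingCat.of R))

theorem symm_ptMap {B B' : Type u} [CommRing B] [Algebra R B] [CommRing B'] [Algebra R B'] (φ : B →ₐ[R] B')
    (g : VecGrp.pt R B ⟶ grp R A) :
    (Spec.mapMulEquiv.symm (VecGrp.ptMap φ ≫ g) : WithConv (A →ₐ[R] B')).ofConv =
      φ.comp (Spec.mapMulEquiv.symm g : WithConv (A →ₐ[R] B)).ofConv := by
  have key : VecGrp.ptMap φ ≫ g = Spec.mapMulEquiv (WithConv.toConv (φ.comp (Spec.mapMulEquiv.symm g : WithConv (A →ₐ[R] B)).ofConv)) := by
    conv_lhs => rw [← Spec.mapMulEquiv.apply_symm_apply g]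
    refine Over.OverMorphism.ext ?_
    change Spec.map _ ≫ Spec.map _ = Spec.map _
    rw [← Spec.map_comp]
    rfl
  refine (congrArg (fun h => (Spec.mapMulEquiv.symm h).ofConv) key).trans ?_
  exact congrArg WithConv.ofConv (Spec.mapMulEquiv.symm_apply_apply _)

/-- The endomorphism attached to a point. -/
noncomputable def endOf (δ : E →ₗ[R] E ⊗[R] A) {B : Type u} [CommRing B] [Algebra R B] (f : A →ₐ[R] B) :
    B ⊗[R] E →ₗ[B] B ⊗[R] E :=
  LinearMap.liftBaseChange B ((TensorProduct.comm R E B).toLinearMap ∘ₗ f.toLinearMap.lTensor E ∘ₗ δ)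

theorem endOf_tmul (δ : E →ₗ[R] E ⊗[R] A) {B : Type u} [CommRing B] [Algebra R B] (f : A →ₐ[R] B) (b : B) (x : E) :
    endOf δ f (b ⊗ₜ[R] x) = b • (TensorProduct.comm R E B) (f.toLinearMap.lTensor E (δ x)) := by
  simp [endOf]

theorem endOf_mul (δ : E →ₗ[R] E ⊗[R] A)
    (hδ : (TensorProduct.assoc R E A A).toLinearMap ∘ₗ δ.rTensor A ∘ₗ δ =
      (CoalgebraStruct.comul (R := R) (A := A)).lTensor E ∘ₗ δ)
    {B : Type u} [CommRing B] [Algebra R B] (f g : WithConv (A →ₐ[R] B)) :
    endOf δ (f * g).ofConv = endOf δ f.ofConv ∘ₗ endOf δ g.ofConv := by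
  refine TensorProduct.AlgebraTensorModule.ext fun b x => ?_
  rw [LinearMap.comp_apply, endOf_tmul, endOf_tmul, map_smul]
  congr 1
  have h1 : ((f * g).ofConv.toLinearMap : A →ₗ[R] B) =
      (Algebra.TensorProduct.lift f.ofConv g.ofConv fun _ _ => Commute.all _ _).toLinearMap ∘ₗ CoalgebraStruct.comul := by
    refine LinearMap.ext fun a => ?_
    show (f * g).ofConv a = _
    rw [AlgHom.convMul_apply]
    simp only [LinearMap.comp_apply]
    induction CoalgebraStruct.comul (R := R) a using TensorProduct.induction_on with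
    | zero => simp
    | tmul p q => simp
    | add p q hp hq => simp only [map_add, hp, hq]
  rw [h1, LinearMap.lTensor_comp, LinearMap.comp_apply, ← LinearMap.comp_apply (g := δ), ← hδ]
  simp only [LinearMap.comp_apply]
  induction δ x using TensorProduct.induction_on with
  | zero => simp
  | add p q hp hq => simp only [map_add, hp, hq]
  | tmul y a =>
    simp only [LinearMap.rTensor_tmul, LinearMap.lTensor_tmul, TensorProduct.comm_tmul, endOf_tmul]
    induction δ y using TensorProduct.induction_on with
    | zero => simp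
    | add p q hp hq => simp only [TensorProduct.add_tmul, map_add, smul_add, hp, hq]
    | tmul z c => simp [TensorProduct.smul_tmul', mul_comm]

theorem endOf_one (δ : E →ₗ[R] E ⊗[R] A)
    (hδ : (CoalgebraStruct.counit (R := R) (A := A)).lTensor E ∘ₗ δ = (TensorProduct.mk R E R).flip 1)
    {B : Type u} [CommRing B] [Algebra R B] :
    endOf δ (1 : WithConv (A →ₐ[R] B)).ofConv = LinearMap.id := by
  refine TensorProduct.AlgebraTensorModule.ext fun b x => ?_
  rw [endOf_tmul]
  have h1 : ((1 : WithConv (A →ₐ[R] B)).ofConv.toLinearMap : A →ₗ[R] B) =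
      (Algebra.linearMap R B) ∘ₗ CoalgebraStruct.counit := LinearMap.ext fun a => by
    simp
  rw [h1, LinearMap.lTensor_comp, LinearMap.comp_apply, ← LinearMap.comp_apply (g := δ), hδ]
  simp [TensorProduct.smul_tmul']

/-- The G-module of a comodule. -/
noncomputable def gmodOf (δ : E →ₗ[R] E ⊗[R] A)
    (hδ : (TensorProduct.assoc R E A A).toLinearMap ∘ₗ δ.rTensor A ∘ₗ δ =
      (CoalgebraStruct.comul (R := R) (A := A)).lTensor E ∘ₗ δ)
    (hδ1 : (CoalgebraStruct.counit (R := R) (A := A)).lTensor E ∘ₗ δ = (TensorProduct.mk R E R).flip 1) :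
    VecGrp.GMod (grp R A) E where
  ρ B _ _ := (LinearMap.GeneralLinearGroup.generalLinearEquiv B (B ⊗[R] E)).toMonoidHom.comp
    (MonoidHom.toHomUnits
      { toFun := fun g => endOf δ (Spec.mapMulEquiv.symm g : WithConv (A →ₐ[R] B)).ofConv
        map_one' := (congrArg (fun h : WithConv (A →ₐ[R] B) => endOf δ h.ofConv) (map_one Spec.mapMulEquiv.symm)).trans (endOf_one δ hδ1)
        map_mul' := fun g g' => (congrArg (fun h : WithConv (A →ₐ[R] B) => endOf δ h.ofConv) (map_mul Spec.mapMulEquiv.symm g g')).trans (endOf_mul δ hδ _ _) })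
  naturality {B B'} _ _ _ _ φ g x := by
    change VecGrp.Wmap φ (endOf δ (Spec.mapMulEquiv.symm g : WithConv (A →ₐ[R] B)).ofConv x) =
      endOf δ (Spec.mapMulEquiv.symm (VecGrp.ptMap φ ≫ g) : WithConv (A →ₐ[R] B')).ofConv (VecGrp.Wmap φ x)
    rw [symm_ptMap]
    induction x using TensorProduct.induction_on with
    | zero => simp
    | add p q hp hq => simp only [map_add, hp, hq]
    | tmul b y =>
      rw [VecGrp.Wmap_tmul, endOf_tmul, endOf_tmul, VecGrp.Wmap_smul]
      congr 1
      induction δ y using TensorProduct.induction_on with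
      | zero => simp
      | add p q hp hq => simp only [map_add, hp, hq]
      | tmul z c => simp

end Aux

/-- Let R be a commutative ring, A a commutative Hopf algebra over R, G = Spec A the corresponding
affine group scheme over Spec R, and E an R-module. A G-module structure on E (for every R-algebra
B, a natural action of the B-valued points of G on B ⊗_R E by B-linear automorphisms) and a right
A-comodule structure δ : E → E ⊗_R A are said to correspond when, for every R-algebra B, every
B-valued point g of G with associated algebra map f : A → B and every x ∈ E, the point g sends 1 ⊗ x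
to the image of δ(x) under E ⊗_R A → B ⊗_R E, y ⊗ a ↦ f(a) ⊗ y. Then every comodule structure on E
corresponds to exactly one G-module structure, and every G-module structure corresponds to exactly
one R-linear δ : E → E ⊗_R A which is coassociative and counital. -/
theorem result (R : Type u) [CommRing R] (A : Type u) [CommRing A] [HopfAlgebra R A]
    (E : Type u) [AddCommGroup E] [Module R E] :
    (∀ [HopfRep.Comod R A E], ∃! m : VecGrp.GMod ((Spec (CommRingCat.of A)).asOver (Spec (CommRingCat.of R))) E,
        (∀ (B : Type u) [CommRing B] [Algebra R B] (g : VecGrp.pt R B ⟶ ((Spec (CommRingCat.of A)).asOver (Spec (CommRingCat.of R)))) (x : E),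
          m.ρ B g ((1 : B) ⊗ₜ[R] x) =
            (TensorProduct.comm R E B) (LinearMap.lTensor E (Spec.mapMulEquiv.symm g).ofConv.toLinearMap (HopfRep.Comod.coact (k := R) (A := A) x)))) ∧
    (∀ m : VecGrp.GMod ((Spec (CommRingCat.of A)).asOver (Spec (CommRingCat.of R))) E, ∃! δ : E →ₗ[R] E ⊗[R] A,
        ((TensorProduct.assoc R E A A).toLinearMap ∘ₗ δ.rTensor A ∘ₗ δ =
            (CoalgebraStruct.comul (R := R) (A := A)).lTensor E ∘ₗ δ ∧
          (CoalgebraStruct.counit (R := R) (A := A)).lTensor E ∘ₗ δ = (TensorProduct.mk R E R).flip 1) ∧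
        (∀ (B : Type u) [CommRing B] [Algebra R B] (g : VecGrp.pt R B ⟶ ((Spec (CommRingCat.of A)).asOver (Spec (CommRingCat.of R)))) (x : E),
          m.ρ B g ((1 : B) ⊗ₜ[R] x) =
            (TensorProduct.comm R E B) (LinearMap.lTensor E (Spec.mapMulEquiv.symm g).ofConv.toLinearMap (δ x)))) := by
  refine ⟨?_, fun m => ?_⟩
  · intro hc
    refine ⟨gmodOf (HopfRep.Comod.coact (k := R) (A := A) (V := E)) HopfRep.Comod.coassoc HopfRep.Comod.counit_comp,
      fun B _ _ g x => ?_, fun m hm => ?_⟩
    · change endOf _ _ ((1 : B) ⊗ₜ[R] x) = _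
      rw [endOf_tmul, one_smul]
    · obtain ⟨ρ, hnat⟩ := m
      simp only [gmodOf, VecGrp.GMod.mk.injEq]
      funext B _ _
      refine MonoidHom.ext fun g => LinearEquiv.toLinearMap_injective (TensorProduct.AlgebraTensorModule.ext fun b x => ?_)
      change ρ B g (b ⊗ₜ[R] x) = endOf _ _ (b ⊗ₜ[R] x)
      rw [endOf_tmul, ← hm B g x, ← map_smul, TensorProduct.smul_tmul', smul_eq_mul, _root_.mul_one]
  · set e : VecGrp.pt R A ⟶ ((Spec (CommRingCat.of A)).asOver (Spec (CommRingCat.of R))) :=
      Spec.mapMulEquiv (WithConv.toConv (AlgHom.id R A)) with he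
    have he' : (Spec.mapMulEquiv.symm e : WithConv (A →ₐ[R] A)).ofConv = AlgHom.id R A :=
      congrArg WithConv.ofConv (Spec.mapMulEquiv.symm_apply_apply _)
    let δ : E →ₗ[R] E ⊗[R] A := (TensorProduct.comm R A E).toLinearMap ∘ₗ
      ((m.ρ A e).toLinearMap.restrictScalars R) ∘ₗ TensorProduct.mk R A E 1
    have hcorr : ∀ (B : Type u) [CommRing B] [Algebra R B] (g : VecGrp.pt R B ⟶ ((Spec (CommRingCat.of A)).asOver (Spec (CommRingCat.of R)))) (x : E),
          m.ρ B g ((1 : B) ⊗ₜ[R] x) =
            (TensorProduct.comm R E B) (LinearMap.lTensor E (Spec.mapMulEquiv.symm g).ofConv.toLinearMap (δ x)) := by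
      intro B _ _ g x
      set f := (Spec.mapMulEquiv.symm g : WithConv (A →ₐ[R] B)).ofConv with hf
      have hg : VecGrp.ptMap f ≫ e = g := by
        apply Spec.mapMulEquiv.symm.injective
        apply WithConv.ofConv_injective
        refine (symm_ptMap f e).trans ?_
        rw [he', AlgHom.comp_id]
      have h := m.naturality f e ((1 : A) ⊗ₜ[R] x)
      rw [hg, VecGrp.Wmap_tmul, map_one] at h
      rw [← h]
      change f.toLinearMap.rTensor E (m.ρ A e ((1 : A) ⊗ₜ[R] x)) =
        (TensorProduct.comm R E B) (f.toLinearMap.lTensor E ((TensorProduct.comm R A E) (m.ρ A e ((1 : A) ⊗ₜ[R] x))))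
      induction (m.ρ A e) ((1 : A) ⊗ₜ[R] x) using TensorProduct.induction_on with
      | zero => simp
      | add p q hp hq => simp only [map_add, hp, hq]
      | tmul p q => simp
    have hend : ∀ (B : Type u) [CommRing B] [Algebra R B] (f : WithConv (A →ₐ[R] B)) (z : B ⊗[R] E),
        m.ρ B (Spec.mapMulEquiv f) z = endOf δ f.ofConv z := by
      intro B _ _ f z
      induction z using TensorProduct.induction_on with
      | zero => simp
      | add p q hp hq => simp only [map_add, hp, hq]
      | tmul b x =>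
        rw [endOf_tmul, show b ⊗ₜ[R] x = b • ((1 : B) ⊗ₜ[R] x) by rw [TensorProduct.smul_tmul', smul_eq_mul, _root_.mul_one],
          map_smul, hcorr, MulEquiv.symm_apply_apply]
    refine ⟨δ, ⟨⟨?_, ?_⟩, hcorr⟩, fun δ' hδ' => ?_⟩
    · refine LinearMap.ext fun x => ?_
      let f : WithConv (A →ₐ[R] A ⊗[R] A) := WithConv.toConv Algebra.TensorProduct.includeLeft
      let g : WithConv (A →ₐ[R] A ⊗[R] A) := WithConv.toConv Algebra.TensorProduct.includeRight
      have hfg : ∀ a, (f * g).ofConv a = CoalgebraStruct.comul (R := R) a := fun a => by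
        rw [AlgHom.convMul_apply]
        induction CoalgebraStruct.comul (R := R) a using TensorProduct.induction_on with
        | zero => simp
        | tmul p q => simp [f, g]
        | add p q hp hq => simp only [map_add, hp, hq]
      have h1 : m.ρ (A ⊗[R] A) (Spec.mapMulEquiv (f * g)) ((1 : A ⊗[R] A) ⊗ₜ[R] x) =
          m.ρ (A ⊗[R] A) (Spec.mapMulEquiv f) (m.ρ (A ⊗[R] A) (Spec.mapMulEquiv g) ((1 : A ⊗[R] A) ⊗ₜ[R] x)) := by
        refine (congrArg (fun h => m.ρ (A ⊗[R] A) h ((1 : A ⊗[R] A) ⊗ₜ[R] x)) (map_mul Spec.mapMulEquiv f g)).trans ?_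
        exact congrArg (fun l => l ((1 : A ⊗[R] A) ⊗ₜ[R] x)) ((m.ρ (A ⊗[R] A)).map_mul (Spec.mapMulEquiv f) (Spec.mapMulEquiv g))
      rw [hend, hend, hend, endOf_tmul, endOf_tmul, one_smul, one_smul,
        show (f * g).ofConv.toLinearMap = CoalgebraStruct.comul from LinearMap.ext hfg] at h1
      apply (TensorProduct.comm R E (A ⊗[R] A)).injective
      refine Eq.trans ?_ h1.symm
      simp only [LinearMap.comp_apply]
      induction δ x using TensorProduct.induction_on with
      | zero => simp
      | add p q hp hq => simp only [map_add, hp, hq]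
      | tmul y a =>
        simp only [LinearMap.rTensor_tmul, LinearMap.lTensor_tmul, TensorProduct.comm_tmul, endOf_tmul]
        induction δ y using TensorProduct.induction_on with
        | zero => simp
        | add p q hp hq => simp only [TensorProduct.add_tmul, map_add, smul_add, hp, hq]
        | tmul z c => simp [f, g, TensorProduct.smul_tmul']
    · refine LinearMap.ext fun x => ?_
      have h1 : m.ρ R (Spec.mapMulEquiv (1 : WithConv (A →ₐ[R] R))) ((1 : R) ⊗ₜ[R] x) = (1 : R) ⊗ₜ[R] x := by
        refine (congrArg (fun h => m.ρ R h ((1 : R) ⊗ₜ[R] x)) (map_one Spec.mapMulEquiv)).trans ?_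
        exact congrArg (fun l => l ((1 : R) ⊗ₜ[R] x)) ((m.ρ R).map_one)
      rw [hend, endOf_tmul, one_smul] at h1
      apply (TensorProduct.comm R E R).injective
      refine Eq.trans ?_ h1
      simp only [LinearMap.comp_apply]
      congr 2
      try exact LinearMap.ext fun a => by simp
    · refine LinearMap.ext fun x => ?_
      have h1 := hδ'.2 A e x
      rw [hcorr, he'] at h1
      simpa using ((TensorProduct.comm R E A).injective h1).symm

end Groth.Agent.S6094
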