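import Groth.Statements.S6120
-- import your own Groth.Agent.* helpers here

set_option autoImplicit false
open CategoryTheory CategoryTheory.Limits Opposite
universe w v₁ v₂ u₁ u₂
open SGA4

namespace Groth.Agent.S6120

/-- Let `I` be a category with a family of objects `i α` (`α : A`) such that every binary product `i α ⨯
i β` exists in `I` and every object of `I` admits a morphism to some `i α`. Let `F : Iᵒᵖ ⥤ C` be a
functor, and assume that `C` has equalizers and that the products `∏ F (i α)` and `∏ F (i α ⨯ i β)`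
exist in `C`. Then the limit of `F` exists, the canonical map `lim F ⟶ ∏ F (i α)` is a monomorphism,
and a map `t : T ⟶ ∏ F (i α)` factors through `lim F` exactly when its composites with the two maps
`∏ F (i α) ⇉ ∏ F (i α ⨯ i β)` induced by the two projections agree: `lim F` is the equalizer of that
pair. (The published statement assumes that `C` has all limits of the size of `A`; only equalizers
and the two products named are assumed here, which is what the equalizer construction uses.) -/
theorem result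
    {I : Type u₁} [Category.{v₁} I] {C : Type u₂} [Category.{v₂} C] {A : Type w} (i : A → I)
    [∀ α β, HasBinaryProduct (i α) (i β)]
    (hcov : ∀ j : I, ∃ α, Nonempty (j ⟶ i α))
    (F : Iᵒᵖ ⥤ C) [HasEqualizers C]
    [HasProduct (fun α => F.obj (op (i α)))]
    [HasProduct (fun p : A × A => F.obj (op (i p.1 ⨯ i p.2)))] :
    HasLimit F ∧ ∀ [HasLimit F],
      Mono (Pi.lift (fun α => limit.π F (op (i α)))) ∧
      ∀ (T : C) (t : T ⟶ ∏ᶜ (fun α => F.obj (op (i α)))),
        (∃ s : T ⟶ limit F, s ≫ Pi.lift (fun α => limit.π F (op (i α))) = t) ↔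
        t ≫ Pi.lift (fun p : A × A =>
            Pi.π (fun α => F.obj (op (i α))) p.1 ≫ F.map (prod.fst : i p.1 ⨯ i p.2 ⟶ i p.1).op) =
        t ≫ Pi.lift (fun p : A × A =>
            Pi.π (fun α => F.obj (op (i α))) p.2 ≫ F.map (prod.snd : i p.1 ⨯ i p.2 ⟶ i p.2).op) := by
  classical
  let P := fun α => F.obj (op (i α))
  let d₁ : (∏ᶜ P) ⟶ ∏ᶜ (fun p : A × A => F.obj (op (i p.1 ⨯ i p.2))) := Pi.lift (fun p : A × A =>
    Pi.π P p.1 ≫ F.map (prod.fst : i p.1 ⨯ i p.2 ⟶ i p.1).op)
  let d₂ : (∏ᶜ P) ⟶ ∏ᶜ (fun p : A × A => F.obj (op (i p.1 ⨯ i p.2))) := Pi.lift (fun p : A × A =>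
    Pi.π P p.2 ≫ F.map (prod.snd : i p.1 ⨯ i p.2 ⟶ i p.2).op)
  choose α m using hcov
  have indep : ∀ {T : C} (t : T ⟶ ∏ᶜ P), t ≫ d₁ = t ≫ d₂ → ∀ {j : I} {a b : A} (p : j ⟶ i a) (q : j ⟶ i b),
      t ≫ Pi.π P a ≫ F.map p.op = t ≫ Pi.π P b ≫ F.map q.op := by
    intro T t ht j a b p q
    have h := congrArg (fun z => z ≫ Pi.π _ ((a, b) : A × A) ≫ F.map (prod.lift p q).op) ht
    simp only [d₁, d₂, Category.assoc, Pi.lift_π_assoc] at h
    rw [← F.map_comp, ← F.map_comp, ← op_comp, ← op_comp, prod.lift_fst, prod.lift_snd] at h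
    exact h
  let mkCone : ∀ {T : C} (t : T ⟶ ∏ᶜ P), t ≫ d₁ = t ≫ d₂ → Cone F := fun {T} t ht =>
    { pt := T
      π :=
        { app := fun j => t ≫ Pi.π P (α j.unop) ≫ F.map (m j.unop).some.op
          naturality := fun j k f => by
            dsimp
            rw [Category.id_comp, Category.assoc, Category.assoc, ← F.map_comp]
            exact indep t ht (m k.unop).some (f.unop ≫ (m j.unop).some) } }
  have mk_app : ∀ {T : C} (t : T ⟶ ∏ᶜ P) (ht : t ≫ d₁ = t ≫ d₂) (a : A),
      (mkCone t ht).π.app (op (i a)) = t ≫ Pi.π P a := by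
    intro T t ht a
    refine (indep t ht (m (i a)).some (𝟙 (i a))).trans ?_
    rw [op_id, F.map_id]
    exact congrArg (t ≫ ·) (Category.comp_id _)
  have cone_eq : ∀ (s : Cone F), Pi.lift (fun a => s.π.app (op (i a))) ≫ d₁ =
      Pi.lift (fun a => s.π.app (op (i a))) ≫ d₂ := by
    intro s
    apply Pi.hom_ext
    intro p
    simp only [d₁, d₂, P, Category.assoc, Pi.lift_π, Pi.lift_π_assoc]
    rw [s.w, s.w]
  let e := equalizer.ι d₁ d₂
  let c := mkCone e (equalizer.condition d₁ d₂)
  have hc : IsLimit c :=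
    { lift := fun s => equalizer.lift (Pi.lift fun a => s.π.app (op (i a))) (cone_eq s)
      fac := fun s j => by
        show equalizer.lift _ _ ≫ equalizer.ι d₁ d₂ ≫ Pi.π P (α j.unop) ≫ F.map (m j.unop).some.op = _
        rw [equalizer.lift_ι_assoc, Pi.lift_π_assoc]
        exact s.w (m j.unop).some.op
      uniq := fun s r hr => by
        apply equalizer.hom_ext
        apply Pi.hom_ext
        intro a
        rw [equalizer.lift_ι, Pi.lift_π, ← hr, mk_app e (equalizer.condition d₁ d₂) a, Category.assoc] }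
  refine ⟨⟨⟨⟨c, hc⟩⟩⟩, ?_⟩
  intro hl
  refine ⟨⟨fun {T} u v huv => limit.hom_ext fun j => ?_⟩, fun T t => ⟨?_, fun ht => ?_⟩⟩
  · have h := congrArg (fun z => z ≫ Pi.π P (α j.unop) ≫ F.map (m j.unop).some.op) huv
    simp only [P, Category.assoc, Pi.lift_π_assoc, limit.w] at h
    exact h
  · rintro ⟨s, rfl⟩
    have h := cone_eq (limit.cone F)
    simp only [Category.assoc]
    exact congrArg (s ≫ ·) h
  · refine ⟨limit.lift F (mkCone t ht), Pi.hom_ext _ _ fun a => ?_⟩
    rw [Category.assoc, Pi.lift_π, limit.lift_π, mk_app t ht a]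

end Groth.Agent.S6120
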