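import Groth.Statements.S6124
import Mathlib
-- import your own Groth.Agent.* helpers here

set_option autoImplicit false
open CategoryTheory CategoryTheory.Limits Opposite
universe w v₁ v₂ u₁ u₂
open SGA4

namespace Groth.Agent.S6124

/-- Let `E` have pullbacks, let `P` be a detecting family of objects of `E` (a morphism `f` is
invertible as soon as every map out of an object of `P` factors uniquely through `f`), and let `φ i
: E ⥤ E' i` be functors preserving pullbacks. Then the `φ i` jointly reflect isomorphisms if and
only if, for every `X` with `P X` and every subobject `X'` of `X` other than `⊤`, some `φ i` takes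
the inclusion `X' ⟶ X` to a morphism that is not invertible. -/
theorem result
    {E : Type u₁} [Category.{v₁} E] [HasPullbacks E] (P : ObjectProperty E) (hP : P.IsDetecting)
    {κ : Type w} {E' : κ → Type u₂} [∀ k, Category.{v₂} (E' k)] (φ : ∀ k, E ⥤ E' k)
    [∀ k, PreservesLimitsOfShape WalkingCospan (φ k)] :
    (∀ ⦃X Y : E⦄ (f : X ⟶ Y), (∀ k, IsIso ((φ k).map f)) → IsIso f) ↔
      ∀ (X : E), P X → ∀ (X' : Subobject X), X' ≠ ⊤ → ∃ k, ¬ IsIso ((φ k).map X'.arrow) := by
  constructor
  · intro h X _ X' hX'
    by_contra! hall
    exact hX' ((Subobject.isIso_arrow_iff_eq_top X').1 (h X'.arrow hall))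
  · intro h
    have hpb : ∀ ⦃X Y G : E⦄ (f : X ⟶ Y) (g : G ⟶ Y) (k : κ), IsIso ((φ k).map f) → IsIso ((φ k).map (pullback.snd f g)) := by
      intro X Y G f g k hk
      exact ((IsPullback.of_hasPullback f g).map (φ k)).isIso_snd_of_isIso
    have hmono : ∀ ⦃X Y : E⦄ (f : X ⟶ Y), Mono f → (∀ k, IsIso ((φ k).map f)) → IsIso f := by
      intro X Y f hf hk
      refine hP f fun G hG g => ?_
      have hiso : IsIso (pullback.snd f g) := by
        rw [Subobject.isIso_iff_mk_eq_top]
        by_contra hne
        obtain ⟨k, hk'⟩ := h G hG _ hne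
        have h1 : IsIso ((φ k).map (pullback.snd f g)) := hpb f g k (hk k)
        apply hk'
        rw [← Subobject.underlyingIso_hom_comp_eq_mk, Functor.map_comp]
        infer_instance
      refine ⟨inv (pullback.snd f g) ≫ pullback.fst f g, by simp [pullback.condition], fun y hy => ?_⟩
      rw [← cancel_mono f, hy]
      simp [pullback.condition]
    intro X Y f hk
    have : Mono f := by
      rw [← pullback.isIso_diagonal_iff]
      refine hmono _ inferInstance fun k => ?_
      have h1 : IsIso ((φ k).map (pullback.snd f f)) := hpb f f k (hk k)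
      have h2 : (φ k).map (pullback.diagonal f) ≫ (φ k).map (pullback.snd f f) = 𝟙 _ := by
        rw [← Functor.map_comp, pullback.diagonal_snd, CategoryTheory.Functor.map_id]
      have : IsIso ((φ k).map (pullback.diagonal f) ≫ (φ k).map (pullback.snd f f)) := by rw [h2]; infer_instance
      exact IsIso.of_isIso_comp_right _ ((φ k).map (pullback.snd f f))
    exact hmono f this hk

end Groth.Agent.S6124
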