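import Groth.Statements.S6126
import Mathlib

set_option autoImplicit false
open CategoryTheory CategoryTheory.Limits
universe v₁ u₁
open SGA4

namespace Groth.Agent.S6126

/-- Let `E` be a category with `v₁`-small hom-sets admitting a separating family of objects `G t`
indexed by a `v₁`-small type, in which every object admits a monomorphism into an injective object.
Assume that each coproduct `G t ⨿ G t` exists and that every morphism out of `G t ⨿ G t` factors as
an effective epimorphism followed by a monomorphism. Then `E` admits a coseparating family of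
injective objects indexed by a `v₁`-small type. (The published statement moreover bounds the size of
this family in terms of the hom-sets `Hom (G t', G t ⨿ G t)`; only existence is stated here. The
published statement speaks of generating and cogenerating families; its proof uses and produces
joint faithfulness of maps out of, resp. into, the family, which is the sense taken here.) -/
theorem result
    {E : Type u₁} [Category.{v₁} E] {ι : Type v₁} (G : ι → E)
    (hG : (ObjectProperty.ofObj G).IsSeparating)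
    [EnoughInjectives E] [∀ t, HasBinaryCoproduct (G t) (G t)]
    (hfac : ∀ (t : ι) (X : E) (f : G t ⨿ G t ⟶ X),
      ∃ (Y : E) (e : G t ⨿ G t ⟶ Y) (m : Y ⟶ X), EffectiveEpi e ∧ Mono m ∧ e ≫ m = f) :
    ∃ (κ : Type v₁) (H : κ → E),
      (∀ k, Injective (H k)) ∧ (ObjectProperty.ofObj H).IsCoseparating := by
  classical
  let D : ι → E := fun t => G t ⨿ G t
  let R : ∀ {t : ι} {Y : E} (_ : D t ⟶ Y), Set (Σ s : ι, (G s ⟶ D t) × (G s ⟶ D t)) := fun e =>
    {x | x.2.1 ≫ e = x.2.2 ≫ e}
  have hdesc : ∀ {t : ι} {Y Y' : E} (e : D t ⟶ Y) (e' : D t ⟶ Y') [EffectiveEpi e], R e ⊆ R e' →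
      ∃ φ : Y ⟶ Y', e ≫ φ = e' := by
    intro t Y Y' e e' _ hR
    suffices h : ∀ {Z : E} (g₁ g₂ : Z ⟶ D t), g₁ ≫ e = g₂ ≫ e → g₁ ≫ e' = g₂ ≫ e' from
      ⟨EffectiveEpi.desc e e' h, EffectiveEpi.fac e e' h⟩
    intro Z g₁ g₂ hg
    refine hG _ _ fun W hW k => ?_
    obtain ⟨s⟩ := hW
    rw [← Category.assoc, ← Category.assoc]
    exact hR (show (⟨s, (k ≫ g₁, k ≫ g₂)⟩ : Σ s : ι, (G s ⟶ D t) × (G s ⟶ D t)) ∈ R e by
      show (k ≫ g₁) ≫ e = (k ≫ g₂) ≫ e
      simp [hg])
  let κ := {p : Σ t : ι, Set (Σ s : ι, (G s ⟶ D t) × (G s ⟶ D t)) //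
    ∃ (Y : E) (e : D p.1 ⟶ Y), EffectiveEpi e ∧ R e = p.2}
  choose Yk ek hek hRk using fun k : κ => k.2
  refine ⟨κ, fun k => (EnoughInjectives.presentation (Yk k)).some.J,
    fun k => (EnoughInjectives.presentation (Yk k)).some.injective, ?_⟩
  intro X Y f g hfg
  refine hG f g fun W hW k => ?_
  obtain ⟨t⟩ := hW
  obtain ⟨Y', e, m, he, hm, hem⟩ := hfac t Y (coprod.desc (k ≫ f) (k ≫ g))
  let kk : κ := ⟨⟨t, R e⟩, Y', e, he, rfl⟩
  have := hek kk
  obtain ⟨φ, hφ⟩ := hdesc e (ek kk) (hRk kk).ge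
  obtain ⟨ψ, hψ⟩ := hdesc (ek kk) e (hRk kk).le
  let P := (EnoughInjectives.presentation (Yk kk)).some
  have : Injective P.J := P.injective
  have hh := hfg _ (ObjectProperty.ofObj.mk kk) (Injective.factorThru (φ ≫ P.f) m)
  have key : ∀ j : G t ⟶ D t, (j ≫ coprod.desc (k ≫ f) (k ≫ g)) ≫ Injective.factorThru (φ ≫ P.f) m =
      (j ≫ ek kk) ≫ P.f := fun j => by
    rw [← hem, ← hφ]
    simp only [Category.assoc, Injective.comp_factorThru]
  have h1 := key coprod.inl
  have h2 := key coprod.inr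
  rw [coprod.inl_desc, Category.assoc] at h1
  rw [coprod.inr_desc, Category.assoc] at h2
  rw [hh, h2, cancel_mono] at h1
  have h3 : coprod.inl ≫ e = coprod.inr ≫ e := by
    rw [← hψ, ← Category.assoc, ← Category.assoc]
    exact congrArg (· ≫ ψ) h1.symm
  have ef : k ≫ f = (coprod.inl ≫ e) ≫ m := by rw [Category.assoc, hem, coprod.inl_desc]
  have eg : k ≫ g = (coprod.inr ≫ e) ≫ m := by rw [Category.assoc, hem, coprod.inr_desc]
  rw [ef, eg, h3]

end Groth.Agent.S6126
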