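import Mathlib
import Groth.Statements.S6133
-- import your own Groth.Agent.* helpers here

set_option autoImplicit false
open CategoryTheory CategoryTheory.Limits
universe v₁ u₁
open SGA4

namespace Groth.Agent.S6133

/-- Let `C` be a separating family of objects of `E` and let `i' : X' ⟶ X`, `i'' : X'' ⟶ X` be regular
monomorphisms (equalizers of pairs). If for every `T` with `C T` a morphism `T ⟶ X` factors through
`i'` exactly when it factors through `i''`, then `i'` and `i''` define the same subobject of `X`: a
regular subobject is determined by the morphisms from objects of `C` that it contains. (The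
published statement is for strict subobjects, of which regular ones are a special case, and for a
generating family in the sense of jointly reflecting isomorphisms, while the published proof uses
joint faithfulness; the row takes `C` separating.) -/
theorem result
    {E : Type u₁} [Category.{v₁} E] {C : ObjectProperty E} (hC : C.IsSeparating)
    {X X' X'' : E} (i' : X' ⟶ X) (i'' : X'' ⟶ X) [IsRegularMono i'] [IsRegularMono i'']
    (h : ∀ (T : E), C T → ∀ (g : T ⟶ X),
      (∃ g' : T ⟶ X', g' ≫ i' = g) ↔ (∃ g'' : T ⟶ X'', g'' ≫ i'' = g)) :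
    Subobject.mk i' = Subobject.mk i'' := by
  haveI : Mono i' := (IsRegularMono.getStruct i').mono
  haveI : Mono i'' := (IsRegularMono.getStruct i'').mono
  have key : ∀ {Y' Y'' : E} (j' : Y' ⟶ X) (j'' : Y'' ⟶ X) [IsRegularMono j''],
      (∀ (T : E), C T → ∀ (g : T ⟶ X), (∃ g' : T ⟶ Y', g' ≫ j' = g) → ∃ g'' : T ⟶ Y'', g'' ≫ j'' = g) →
      ∃ φ : Y' ⟶ Y'', φ ≫ j'' = j' := by
    intro Y' Y'' j' j'' _ hf
    let S := IsRegularMono.getStruct j''
    have hw : j' ≫ S.left = j' ≫ S.right := by
      apply hC
      intro T hT g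
      obtain ⟨g'', hg''⟩ := hf T hT (g ≫ j') ⟨g, rfl⟩
      rw [← Category.assoc, ← Category.assoc, ← hg'', Category.assoc, Category.assoc, S.w]
    exact ⟨(Fork.IsLimit.lift' S.isLimit j' hw).1, (Fork.IsLimit.lift' S.isLimit j' hw).2⟩
  obtain ⟨φ, hφ⟩ := key i' i'' fun T hT g hg => (h T hT g).1 hg
  obtain ⟨ψ, hψ⟩ := key i'' i' fun T hT g hg => (h T hT g).2 hg
  exact Subobject.mk_eq_mk_of_comm i' i''
    ⟨φ, ψ, by rw [← cancel_mono i', Category.assoc, hψ, hφ, Category.id_comp],
      by rw [← cancel_mono i'', Category.assoc, hφ, hψ, Category.id_comp]⟩ hφ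

end Groth.Agent.S6133
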