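import Groth.Statements.S6134
import Mathlib.CategoryTheory.Sites.Localization
import Mathlib.CategoryTheory.Adjunction.Restrict
set_option linter.unusedVariables false
set_option linter.style.haveILetI false
set_option backward.isDefEq.respectTransparency false

set_option autoImplicit false
open CategoryTheory CategoryTheory.Limits
universe u
open SGA4

namespace Groth.Agent.S6134

/-- Let `C` be a small category with topologies `J ≤ J'` (every `J`-covering sieve is `J'`-covering),
`X` an object and `s i : Y i ⟶ X` a family of morphisms. If the associated `J`-sheaf of the presheaf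
represented by `X`, with the maps induced by the `s i`, is a coproduct of the associated `J`-sheaves
of the `Y i` (in sheaves of sets), then the same holds for `J'`. -/
theorem result
    {C : Type u} [SmallCategory C] {J J' : GrothendieckTopology C} (hJ : J ≤ J')
    {X : C} {ι : Type u} (Y : ι → C) (s : ∀ i, Y i ⟶ X)
    (h : Nonempty (IsColimit (Cofan.mk ((presheafToSheaf J (Type u)).obj (yoneda.obj X))
      (fun i => (presheafToSheaf J (Type u)).map (yoneda.map (s i)))))) :
    Nonempty (IsColimit (Cofan.mk ((presheafToSheaf J' (Type u)).obj (yoneda.obj X))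
      (fun i => (presheafToSheaf J' (Type u)).map (yoneda.map (s i))))) := by
  obtain ⟨h⟩ := h
  have hle : ∀ {P : Cᵒᵖ ⥤ Type u}, Presheaf.IsSheaf J' P → Presheaf.IsSheaf J P := fun {P} hP => by
    rw [isSheaf_iff_isSheaf_of_type] at hP ⊢
    exact Presieve.isSheaf_of_le P hJ hP
  let I : Sheaf J' (Type u) ⥤ Sheaf J (Type u) :=
    { obj := fun F => ⟨F.obj, hle F.property⟩
      map := fun f => ⟨f.hom⟩ }
  let L' : Sheaf J (Type u) ⥤ Sheaf J' (Type u) := sheafToPresheaf J _ ⋙ presheafToSheaf J' _
  let adj : L' ⊣ I := (sheafificationAdjunction J' (Type u)).restrictFullyFaithful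
    (fullyFaithfulSheafToPresheaf J (Type u)) (Functor.FullyFaithful.id _)
    (Iso.refl _) (NatIso.ofComponents (fun F => Iso.refl _))
  have hiso : ∀ P : Cᵒᵖ ⥤ Type u, IsIso ((presheafToSheaf J' (Type u)).map (toSheafify J P)) := fun P => by
    rw [← J'.W_iff]
    exact fun Z hZ => J.W_toSheafify P Z (hle hZ)
  let e : presheafToSheaf J' (Type u) ≅ presheafToSheaf J (Type u) ⋙ L' :=
    NatIso.ofComponents (fun P => haveI := hiso P
      (asIso ((presheafToSheaf J' (Type u)).map (toSheafify J P)))) (fun {P Q} f => by
      change (presheafToSheaf J' (Type u)).map f ≫ (presheafToSheaf J' (Type u)).map (toSheafify J Q) =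
        (presheafToSheaf J' (Type u)).map (toSheafify J P) ≫
          (presheafToSheaf J' (Type u)).map (sheafifyMap J f)
      rw [← Functor.map_comp, ← Functor.map_comp, toSheafify_naturality])
  haveI : PreservesColimitsOfSize.{u, u} L' := adj.leftAdjoint_preservesColimits
  have h' := isColimitCofanMkObjOfIsColimit L' _ _ h
  let α : Discrete.functor (fun i => L'.obj ((presheafToSheaf J (Type u)).obj (yoneda.obj (Y i)))) ≅
      Discrete.functor (fun i => (presheafToSheaf J' (Type u)).obj (yoneda.obj (Y i))) :=
    Discrete.natIso (fun i => (e.app (yoneda.obj (Y i.as))).symm)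
  let c : Cocone (Discrete.functor (fun i => L'.obj ((presheafToSheaf J (Type u)).obj (yoneda.obj (Y i))))) :=
    Cofan.mk (L'.obj ((presheafToSheaf J (Type u)).obj (yoneda.obj X)))
      (fun i => L'.map ((presheafToSheaf J (Type u)).map (yoneda.map (s i))))
  let d : Cocone (Discrete.functor (fun i => (presheafToSheaf J' (Type u)).obj (yoneda.obj (Y i)))) :=
    Cofan.mk ((presheafToSheaf J' (Type u)).obj (yoneda.obj X))
      (fun i => (presheafToSheaf J' (Type u)).map (yoneda.map (s i)))
  have w : (Cocone.precompose α.inv).obj c ≅ d :=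
    Cocone.ext (e.app (yoneda.obj X)).symm (fun i => ?_)
  · exact ⟨IsColimit.equivOfNatIsoOfIso α c d w h'⟩
  have hn := e.hom.naturality (yoneda.map (s i.as))
  simp only [Functor.comp_map] at hn
  change ((e.hom.app (yoneda.obj (Y i.as))) ≫ L'.map ((presheafToSheaf J (Type u)).map (yoneda.map (s i.as)))) ≫
    e.inv.app (yoneda.obj X) = (presheafToSheaf J' (Type u)).map (yoneda.map (s i.as))
  rw [← hn, Category.assoc, Iso.hom_inv_id_app, Category.comp_id]

end Groth.Agent.S6134
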