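import Groth.Statements.S6135
import Mathlib

set_option autoImplicit false
open CategoryTheory CategoryTheory.Limits
universe u
open SGA4

namespace Groth.Agent.S6135

/-- Faithful case. Let `u : C ⥤ C'` be a functor between small categories and `u_!` the left Kan
extension functor on presheaves of sets, whose restriction to ind-objects (presheaves that are small
filtered colimits of representables) is the induced functor `Ind C ⥤ Ind C'`. Then `u` is faithful
if and only if `u_!` is injective on morphisms between ind-representable presheaves. -/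
theorem result
    {C : Type u} [SmallCategory C] {C' : Type u} [SmallCategory C'] (u : C ⥤ C') :
    u.Faithful ↔ ∀ (F G : Cᵒᵖ ⥤ Type u), IsIndObject F → IsIndObject G →
      Function.Injective (fun φ : F ⟶ G => (u.op.lan : (Cᵒᵖ ⥤ Type u) ⥤ (C'ᵒᵖ ⥤ Type u)).map φ) := by
  let adj := u.op.lanAdjunction (Type u)
  let R := (Functor.whiskeringLeft Cᵒᵖ C'ᵒᵖ (Type u)).obj u.op
  constructor
  · intro hu F G _ hG φ ψ h
    obtain ⟨P⟩ := hG.nonempty_presentation
    have huniv : ∀ {F G : Cᵒᵖ ⥤ Type u} (φ : F ⟶ G), φ ≫ adj.unit.app G = adj.unit.app F ≫ R.map (u.op.lan.map φ) :=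
      fun φ => adj.unit.naturality φ
    have he : φ ≫ adj.unit.app G = ψ ≫ adj.unit.app G := by
      rw [huniv, huniv]
      exact congrArg (fun k => adj.unit.app F ≫ R.map k) h
    have hrep : ∀ (d : C) (c : Cᵒᵖ), Function.Injective ((adj.unit.app (yoneda.obj d)).app c) := by
      intro d c x y hxy
      let a : yoneda.obj d ⟶ R.obj (yoneda.obj (u.obj d)) :=
        { app := fun e => TypeCat.ofHom fun f => u.map f
          naturality := fun e e' g => by ext f; exact u.map_comp g.unop f }
      have hfac : adj.unit.app (yoneda.obj d) ≫ R.map ((adj.homEquiv _ _).symm a) = a :=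
        (adj.homEquiv_unit _ _ _).symm.trans ((adj.homEquiv _ _).apply_symm_apply a)
      have h1 := congrArg ((R.map ((adj.homEquiv _ _).symm a)).app c) hxy
      have h2 := fun z => ConcreteCategory.congr_hom (NatTrans.congr_app hfac c) z
      exact u.map_injective ((h2 x).symm.trans (h1.trans (h2 y)))
    haveI := P.hI
    have hinj : ∀ c : Cᵒᵖ, Function.Injective ((adj.unit.app G).app c) := by
      intro c x y hxy
      haveI : PreservesColimitsOfSize.{u, u} (u.op.lan : (Cᵒᵖ ⥤ Type u) ⥤ (C'ᵒᵖ ⥤ Type u)) :=
        adj.leftAdjoint_preservesColimits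
      let ev := (evaluation Cᵒᵖ (Type u)).obj c
      let ev' := u.op.lan ⋙ R ⋙ ev
      haveI : PreservesColimitsOfSize.{u, u} R := inferInstance
      have hc := isColimitOfPreserves ev P.isColimit
      have hc' := isColimitOfPreserves ev' P.isColimit
      obtain ⟨i, x', rfl⟩ := Types.jointly_surjective_of_isColimit hc x
      obtain ⟨j, y', rfl⟩ := Types.jointly_surjective_of_isColimit hc y
      have hn : ∀ i z, (adj.unit.app G).app c ((P.ι.app i).app c z) =
          ((R.map (u.op.lan.map (P.ι.app i))).app c) ((adj.unit.app _).app c z) :=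
        fun i z => ConcreteCategory.congr_hom (NatTrans.congr_app (huniv (P.ι.app i)) c) z
      have hxy' := ((hn i x').symm.trans hxy).trans (hn j y')
      obtain ⟨k, f, g, hk⟩ := (Types.FilteredColimit.isColimit_eq_iff _ hc').1 hxy'
      have hm : ∀ {i k} (f : i ⟶ k) z, (adj.unit.app _).app c (((P.F ⋙ yoneda).map f).app c z) =
          ((R.map (u.op.lan.map ((P.F ⋙ yoneda).map f))).app c) ((adj.unit.app _).app c z) :=
        fun f z => ConcreteCategory.congr_hom (NatTrans.congr_app (huniv ((P.F ⋙ yoneda).map f)) c) z
      have hk' := hrep (P.F.obj k) c ((hm f x').trans (hk.trans (hm g y').symm))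
      exact (Types.FilteredColimit.isColimit_eq_iff _ hc).2 ⟨k, f, g, hk'⟩
    ext c z
    exact hinj c (ConcreteCategory.congr_hom (NatTrans.congr_app he c) z)
  · intro h
    refine ⟨fun {c d} f g hfg => yoneda.map_injective (h _ _ (isIndObject_yoneda _) (isIndObject_yoneda _) ?_)⟩
    apply (adj.homEquiv _ _).injective
    rw [adj.homEquiv_unit, adj.homEquiv_unit]
    refine ((adj.unit.naturality (yoneda.map f)).symm.trans ?_).trans (adj.unit.naturality (yoneda.map g))
    apply yonedaEquiv.injective
    have hz : ∀ w : c ⟶ d, (adj.unit.app (yoneda.obj d)).app (Opposite.op c) (𝟙 c ≫ w) =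
        ((u.op.lan.obj (yoneda.obj d))).map (u.map w).op ((adj.unit.app (yoneda.obj d)).app (Opposite.op d) (𝟙 d)) := by
      intro w
      have := ConcreteCategory.congr_hom ((adj.unit.app (yoneda.obj d)).naturality w.op) (𝟙 d)
      simp only [ConcreteCategory.comp_apply] at this
      rw [Category.id_comp]
      refine Eq.trans ?_ this
      exact congrArg _ (Category.comp_id w).symm
    show (adj.unit.app (yoneda.obj d)).app (Opposite.op c) (𝟙 c ≫ f) = (adj.unit.app (yoneda.obj d)).app (Opposite.op c) (𝟙 c ≫ g)
    rw [hz, hz, hfg]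

end Groth.Agent.S6135
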