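import Groth.Statements.S6136
import Mathlib
import Groth.Agent.S6135

set_option autoImplicit false
open CategoryTheory CategoryTheory.Limits
universe u
open SGA4

namespace Groth.Agent.S6136

/-- Fully faithful case. Let `u : C ⥤ C'` be a functor between small categories and `u_!` the left Kan
extension functor on presheaves of sets, whose restriction to ind-representable presheaves is the
induced functor `Ind C ⥤ Ind C'`. Then `u` is full and faithful if and only if `u_!` is bijective on
morphisms between ind-representable presheaves. -/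
theorem result
    {C : Type u} [SmallCategory C] {C' : Type u} [SmallCategory C'] (u : C ⥤ C') :
    (u.Full ∧ u.Faithful) ↔ ∀ (F G : Cᵒᵖ ⥤ Type u), IsIndObject F → IsIndObject G →
      Function.Bijective (fun φ : F ⟶ G => (u.op.lan : (Cᵒᵖ ⥤ Type u) ⥤ (C'ᵒᵖ ⥤ Type u)).map φ) := by
  let adj := u.op.lanAdjunction (Type u)
  constructor
  · rintro ⟨_, _⟩ F G _ _
    haveI : IsIso adj.unit := by
      haveI : ∀ F : Cᵒᵖ ⥤ Type u, IsIso (adj.unit.app F) := fun F => by
        rw [Functor.lanAdjunction_unit]
        infer_instance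
      exact NatIso.isIso_of_isIso_app _
    exact adj.fullyFaithfulLOfIsIsoUnit.map_bijective F G
  · intro h
    haveI : u.Faithful := (Groth.Agent.S6135.result u).2 fun F G hF hG => (h F G hF hG).1
    refine ⟨⟨fun {c d} k => ?_⟩, inferInstance⟩
    have hI : ∀ x : C, IsIndObject (uliftYoneda.{u}.obj x) := fun x => by
      refine ObjectProperty.prop_of_iso (P := IsIndObject (C := C)) ?_ (isIndObject_yoneda x)
      exact NatIso.ofComponents (fun _ => Equiv.ulift.symm.toIso) (fun _ => rfl)
    let e := Presheaf.compULiftYonedaIsoULiftYonedaCompLan.{u} u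
    obtain ⟨φ, hφ⟩ := (h _ _ (hI c) (hI d)).2 (e.inv.app c ≫ uliftYoneda.{u}.map k ≫ e.hom.app d)
    obtain ⟨f, rfl⟩ := uliftYoneda.{u}.map_surjective φ
    refine ⟨f, uliftYoneda.{u}.map_injective ?_⟩
    have hn : uliftYoneda.{u}.map (u.map f) ≫ e.hom.app d =
        e.hom.app c ≫ u.op.lan.map (uliftYoneda.{u}.map f) := e.hom.naturality f
    have hφ' : u.op.lan.map (uliftYoneda.{u}.map f) = e.inv.app c ≫ uliftYoneda.{u}.map k ≫ e.hom.app d := hφ
    rw [hφ', Iso.hom_inv_id_app_assoc] at hn
    exact (Iso.cancel_iso_hom_right _ _ (e.app d)).1 hn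

end Groth.Agent.S6136
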