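import Groth.Statements.S6137
import Mathlib
-- import your own Groth.Agent.* helpers here

set_option autoImplicit false
open CategoryTheory CategoryTheory.Limits
universe v u
open SGA4

namespace Groth.Agent.S6137

/-- Let `C` be a category with `v`-small hom-sets admitting all `v`-small limits, and `F : C ⥤ Type v` a
functor. Then `F` is corepresentable if and only if it is pro-representable (viewed as a presheaf on
`Cᵒᵖ` it is an ind-object, i.e. a small filtered colimit of corepresentable functors) and preserves
all `v`-small limits. -/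
theorem result
    {C : Type u} [Category.{v} C] [HasLimitsOfSize.{v, v} C] (F : C ⥤ Type v) :
    F.IsCorepresentable ↔
      IsIndObject (unopUnop C ⋙ F) ∧ PreservesLimitsOfSize.{v, v} F := by
  constructor
  · intro h
    obtain ⟨L, ⟨e⟩⟩ := h.has_corepresentation
    let iso : coyoneda.obj (Opposite.op L) ≅ F := e.toIso
    refine ⟨?_, ⟨fun {J} _ => preservesLimitsOfShape_of_natIso iso⟩⟩
    let ψ : yoneda.obj (Opposite.op L) ≅ unopUnop C ⋙ F :=
      NatIso.ofComponents (fun Z => ((opEquiv Z.unop (Opposite.op L)).toIso ≪≫ iso.app Z.unop.unop : _)) (by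
        intro Z W g
        ext f
        exact ((congrArg (fun φ => φ (opEquiv Z.unop (Opposite.op L) f)) (iso.hom.naturality g.unop.unop) :) ))
    exact IsIndObject.map ψ.hom (isIndObject_yoneda _)
  · rintro ⟨⟨⟨P⟩⟩, hpres⟩
    let pt : PUnit.{v + 1} → Type v := fun _ => PUnit
    let u : ∀ i : P.I, F.obj (P.F.obj i).unop :=
      fun i => (P.ι.app i).app (Opposite.op (P.F.obj i)) (𝟙 _)
    let T : P.I → StructuredArrow (PUnit.{v + 1} : Type v) F :=
      fun i => StructuredArrow.mk (Y := (P.F.obj i).unop) (↾fun _ => u i)
    have hw : ∀ X : StructuredArrow (PUnit.{v + 1} : Type v) F, ∃ i, Nonempty (T i ⟶ X) := by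
      intro X
      let y := X.hom PUnit.unit
      obtain ⟨i, g, hg⟩ := Types.jointly_surjective_of_isColimit
        (isColimitOfPreserves ((evaluation _ _).obj (Opposite.op (Opposite.op X.right))) P.isColimit) y
      refine ⟨i, ⟨StructuredArrow.homMk g.unop ?_⟩⟩
      ext x
      have hn := congrArg (fun φ => φ (𝟙 (P.F.obj i))) ((P.ι.app i).naturality g.op)
      refine Eq.trans ?_ hg
      refine Eq.trans hn.symm ?_
      show (P.ι.app i).app _ (g ≫ 𝟙 _) = (P.ι.app i).app _ g
      rw [Category.comp_id]
    haveI : HasLimitsOfSize.{v, v} (StructuredArrow (PUnit.{v + 1} : Type v) F) := inferInstance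
    have hT : ∀ X, Nonempty (piObj T ⟶ X) := fun X => by
      obtain ⟨i, ⟨f⟩⟩ := hw X
      exact ⟨Pi.π T i ≫ f⟩
    haveI := hasInitial_of_weakly_initial_and_hasWideEqualizers hT
    let S : StructuredArrow (PUnit.{v + 1} : Type v) F := ⊥_ _
    refine Functor.CorepresentableBy.isCorepresentable (X := S.right)
      { homEquiv := fun {Y} => Equiv.ofBijective (fun f => F.map f (S.hom PUnit.unit)) ⟨?_, ?_⟩
        homEquiv_comp := fun g f => FunctorToTypes.map_comp_apply F f g _ }
    · intro f g h
      let Y' : StructuredArrow (PUnit.{v + 1} : Type v) F :=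
        StructuredArrow.mk (Y := Y) (↾fun _ => F.map f (S.hom PUnit.unit))
      let a : S ⟶ Y' := StructuredArrow.homMk f (by ext x; rfl)
      let b : S ⟶ Y' := StructuredArrow.homMk g (by ext x; exact h.symm)
      exact congrArg CommaMorphism.right (initialIsInitial.hom_ext a b)
    · intro y
      let Y' : StructuredArrow (PUnit.{v + 1} : Type v) F := StructuredArrow.mk (Y := Y) (↾fun _ => y)
      refine ⟨(initial.to Y').right, ?_⟩
      exact congrArg (fun φ => φ PUnit.unit) (StructuredArrow.w (initial.to Y'))

end Groth.Agent.S6137
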