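import Groth.Statements.S6138
import Mathlib


set_option autoImplicit false
open CategoryTheory CategoryTheory.Limits Opposite
universe v u
open SGA4

namespace Groth.Agent.S6138

/-- Let `C` have coequalizers and pullbacks, let `F` be a presheaf of sets on `C` taking coequalizers of
`C` to equalizers, and let `u ∈ F(X)`, viewed as a morphism `h_X ⟶ F`. Then this morphism is a
monomorphism (the map `v ↦ F(v)(u)` is injective on `Hom(Y, X)` for every `Y`) if and only if `u` is
minimal: whenever `u = F(p)(u')` for an effective epimorphism `p : X ⟶ X'` and some `u' ∈ F(X')`,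
`p` is an isomorphism. (Coequalizers are used for one implication and pullbacks for the other; both
are assumed here.) -/
theorem result
    {C : Type u} [Category.{v} C] [HasCoequalizers C] [HasPullbacks C]
    (F : Cᵒᵖ ⥤ Type v) [PreservesLimitsOfShape WalkingParallelPair F]
    {X : C} (u : F.obj (op X)) :
    (∀ (Y : C) (v v' : Y ⟶ X), F.map v.op u = F.map v'.op u → v = v') ↔
      ∀ (X' : C) (p : X ⟶ X') (u' : F.obj (op X')),
        EffectiveEpi p → F.map p.op u' = u → IsIso p := by
  constructor
  · intro hu X' p u' hp hpu
    have hw : pullback.fst p p ≫ p = pullback.snd p p ≫ p := pullback.condition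
    have heq : pullback.fst p p = pullback.snd p p := hu _ _ _ (by
      rw [← hpu, ← ConcreteCategory.comp_apply, ← ConcreteCategory.comp_apply, ← F.map_comp, ← F.map_comp,
        ← op_comp, ← op_comp, hw])
    haveI : Mono p := ⟨fun a b hab => by
      have h1 : pullback.lift a b hab ≫ pullback.fst p p = a := pullback.lift_fst _ _ _
      have h2 : pullback.lift a b hab ≫ pullback.snd p p = b := pullback.lift_snd _ _ _
      rw [← h1, heq, h2]⟩
    exact isIso_of_mono_of_strongEpi p
  · intro hmin Y v v' hv
    let p := coequalizer.π v v'
    have hlim : IsLimit (Fork.ofι (F.map p.op)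
        (show F.map p.op ≫ F.map v.op = F.map p.op ≫ F.map v'.op by
          rw [← F.map_comp, ← F.map_comp, ← op_comp, ← op_comp, coequalizer.condition])) :=
      isLimitForkMapOfIsLimit F (by rw [← op_comp, ← op_comp, coequalizer.condition])
        (IsLimit.ofIsoLimit ((Cofork.isColimitEquivIsLimitOp _) (coequalizerIsCoequalizer v v')) (Fork.ext (Iso.refl _) (by rw [Iso.refl_hom]; exact (Category.id_comp _).trans (Cofork.op_ι _).symm)))
    obtain ⟨u', hu', -⟩ := ((Types.type_equalizer_iff_unique _ _).1 ⟨hlim⟩) u hv
    haveI : IsIso p := hmin _ p u' inferInstance hu'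
    exact (cancel_mono p).1 (coequalizer.condition v v')

end Groth.Agent.S6138
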