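import Groth.Statements.S6141
import Mathlib


set_option autoImplicit false
open CategoryTheory
universe u
open SGA4

namespace Groth.Agent.S6141

/-- Let `u : C ⥤ C'` be a functor between small sites which is continuous and cocontinuous. If `u` is
full and faithful, then the left adjoint `u_!` of the restriction functor `u^*` on sheaves of sets
is full and faithful. -/
theorem result
    {C : Type u} [SmallCategory C] {C' : Type u} [SmallCategory C']
    (J : GrothendieckTopology C) (K : GrothendieckTopology C') (u : C ⥤ C')
    [u.IsContinuous J K] [u.IsCocontinuous J K] [u.Full] [u.Faithful] :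
    (u.sheafPullback (Type u) J K).Full ∧ (u.sheafPullback (Type u) J K).Faithful := by
  let hran := (u.op.ranAdjunction (Type u)).fullyFaithfulROfIsIsoCounit
  haveI := hran.full
  haveI := hran.faithful
  let e := u.sheafPushforwardCocontinuousCompSheafToPresheafIso (Type u) J K
  haveI : (u.sheafPushforwardCocontinuous (Type u) J K ⋙ sheafToPresheaf K (Type u)).Full := Functor.Full.of_iso e.symm
  haveI : (u.sheafPushforwardCocontinuous (Type u) J K ⋙ sheafToPresheaf K (Type u)).Faithful := Functor.Faithful.of_iso e.symm
  have hH : (u.sheafPushforwardCocontinuous (Type u) J K).FullyFaithful :=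
    { preimage := fun f => (u.sheafPushforwardCocontinuous (Type u) J K ⋙ sheafToPresheaf K (Type u)).preimage ((sheafToPresheaf K (Type u)).map f)
      map_preimage := fun f => (sheafToPresheaf K (Type u)).map_injective
        ((u.sheafPushforwardCocontinuous (Type u) J K ⋙ sheafToPresheaf K (Type u)).map_preimage _)
      preimage_map := fun f => (u.sheafPushforwardCocontinuous (Type u) J K ⋙ sheafToPresheaf K (Type u)).preimage_map f }
  let t : Adjunction.Triple (u.sheafPullback (Type u) J K) (u.sheafPushforwardContinuous (Type u) J K)
      (u.sheafPushforwardCocontinuous (Type u) J K) :=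
    ⟨u.sheafAdjunctionContinuous (Type u) J K, u.sheafAdjunctionCocontinuous (Type u) J K⟩
  let hF := t.fullyFaithfulEquiv.symm hH
  exact ⟨hF.full, hF.faithful⟩

end Groth.Agent.S6141
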