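import Groth.Statements.S6142
import Mathlib


set_option autoImplicit false
open CategoryTheory
universe u
open SGA4

namespace Groth.Agent.S6142

/-- Let `u : C ⥤ C'` be a continuous and cocontinuous functor between small sites whose topologies are
subcanonical. If the left adjoint `u_!` of the restriction functor `u^*` on sheaves of sets is full
and faithful, then `u` is full and faithful. -/
theorem result
    {C : Type u} [SmallCategory C] {C' : Type u} [SmallCategory C']
    (J : GrothendieckTopology C) (K : GrothendieckTopology C') [J.Subcanonical] [K.Subcanonical]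
    (u : C ⥤ C') [u.IsContinuous J K] [u.IsCocontinuous J K]
    (h : (u.sheafPullback (Type u) J K).Full ∧ (u.sheafPullback (Type u) J K).Faithful) :
    u.Full ∧ u.Faithful := by
  haveI := h.1
  haveI := h.2
  let adj := u.sheafAdjunctionContinuous (Type u) J K
  let R := u.sheafPushforwardContinuous (Type u) J K
  have key : ∀ X Y : C, Function.Bijective (fun a : X ⟶ Y => u.map a) := by
    intro X Y
    let θ : J.yoneda.obj Y ⟶ R.obj (K.yoneda.obj (u.obj Y)) :=
      (GrothendieckTopology.yonedaEquiv J).symm (𝟙 (u.obj Y))
    have hθ : ∀ (W : C) (a : W ⟶ Y), θ.hom.app (Opposite.op W) a = u.map a := fun W a => by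
      show u.map a ≫ 𝟙 (u.obj Y) = u.map a
      exact Category.comp_id _
    let e := (adj.homEquiv (J.yoneda.obj Y) (K.yoneda.obj (u.obj Y))).symm θ
    have he : adj.homEquiv _ _ e = θ := Equiv.apply_symm_apply _ _
    haveI : IsIso e := isIso_of_coyoneda_map_bijective e fun G => by
      let Ψ : ((u.sheafPullback (Type u) J K).obj (J.yoneda.obj Y) ⟶ G) ≃ G.obj.obj (Opposite.op (u.obj Y)) :=
        (adj.homEquiv _ _).trans (GrothendieckTopology.yonedaEquiv J)
      have hfac : (fun g => e ≫ g) = Ψ.symm ∘ (GrothendieckTopology.yonedaEquiv K (X := u.obj Y) (F := G)) := by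
        funext g
        apply Ψ.injective
        simp only [Function.comp_apply, Equiv.apply_symm_apply]
        show GrothendieckTopology.yonedaEquiv J (adj.homEquiv _ _ (e ≫ g)) = _
        rw [Adjunction.homEquiv_naturality_right, he]
        show g.hom.app (Opposite.op (u.obj Y)) (θ.hom.app (Opposite.op Y) (𝟙 Y)) = g.hom.app (Opposite.op (u.obj Y)) (𝟙 (u.obj Y))
        rw [hθ, u.map_id]
      rw [hfac]
      exact Ψ.symm.bijective.comp (Equiv.bijective _)
    haveI : IsIso θ := by
      rw [← he, Adjunction.homEquiv_unit]
      infer_instance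
    haveI : IsIso θ.hom := inferInstanceAs (IsIso ((sheafToPresheaf J (Type u)).map θ))
    have hb : Function.Bijective (θ.hom.app (Opposite.op X)) := ((isIso_iff_bijective _).1 inferInstance)
    exact (funext fun a => hθ X a : (θ.hom.app (Opposite.op X) : _ → _) = fun a : X ⟶ Y => u.map a) ▸ hb
  exact ⟨⟨fun {X Y} => (key X Y).2⟩, ⟨fun {X Y} => (key X Y).1⟩⟩

end Groth.Agent.S6142
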