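import Groth.Statements.S6144
import Mathlib


set_option autoImplicit false
open CategoryTheory CategoryTheory.Limits
universe w v u
open SGA4

namespace Groth.Agent.S6144

/-- Let `E` be a category with `v`-small hom-sets and pullbacks, admitting a detecting family of objects
indexed by a `v`-small type (maps out of the family jointly reflect isomorphisms). Then every
detecting family `Y : I → E`, indexed by an arbitrary type, contains a detecting subfamily indexed
by a `v`-small subset of `I`. -/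
theorem result
    {E : Type u} [Category.{v} E] [HasPullbacks E] {κ : Type v} (G : κ → E)
    (hG : (ObjectProperty.ofObj G).IsDetecting) {I : Type w} (Y : I → E)
    (hY : (ObjectProperty.ofObj Y).IsDetecting) :
    ∃ J : Set I, Small.{v} J ∧ (ObjectProperty.ofObj (fun j : J => Y j)).IsDetecting := by
  classical
  let fac : ∀ {X E' B : E} (m : E' ⟶ B) (g : X ⟶ B), Prop := fun {X E' B} m g => ∃ g', g' ≫ m = g
  have hle : ∀ {B E₁ E₂ : E} (m₁ : E₁ ⟶ B) (m₂ : E₂ ⟶ B) [Mono m₂],
      (∀ k (g : G k ⟶ B), fac m₁ g → fac m₂ g) → fac m₂ m₁ := by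
    intro B E₁ E₂ m₁ m₂ _ hh
    haveI : IsIso (pullback.fst m₁ m₂) := hG _ (by
      rintro _ ⟨k⟩ g
      obtain ⟨g', hg'⟩ := hh k (g ≫ m₁) ⟨g, rfl⟩
      exact ⟨pullback.lift g g' hg'.symm, pullback.lift_fst _ _ _,
        fun y hy => (cancel_mono (pullback.fst m₁ m₂)).1 (hy.trans (pullback.lift_fst _ _ _).symm)⟩)
    exact ⟨inv (pullback.fst m₁ m₂) ≫ pullback.snd m₁ m₂, by
      rw [Category.assoc, ← pullback.condition, IsIso.inv_hom_id_assoc]⟩
  let good : (Σ k, Set (Σ k', G k' ⟶ G k)) → I → Prop := fun t i =>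
    ∃ (E' : E) (m : E' ⟶ G t.1) (_ : Mono m), t.2 = {p | fac m p.2} ∧ ∃ h : Y i ⟶ G t.1, ¬ fac m h
  let T := {t : Σ k, Set (Σ k', G k' ⟶ G k) // ∃ i, good t i}
  let J : Set I := Set.range fun t : T => t.2.choose
  haveI : Small.{v} J := small_range _
  refine ⟨J, inferInstance, ?_⟩
  have hfull : ∀ k {E' : E} (m : E' ⟶ G k) [Mono m], (∀ i ∈ J, ∀ h : Y i ⟶ G k, fac m h) → IsIso m := by
    intro k E' m _ hm
    by_contra hiso
    have hex : ∃ i, good ⟨k, {p | fac m p.2}⟩ i := by
      by_contra hno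
      refine hiso (hY m ?_)
      rintro _ ⟨i⟩ h
      obtain ⟨g', hg'⟩ : fac m h := by
        by_contra hh
        exact hno ⟨i, E', m, inferInstance, rfl, h, hh⟩
      exact ⟨g', hg', fun y hy => (cancel_mono m).1 (hy.trans hg'.symm)⟩
    obtain ⟨E₁, m₁, _, heq, h, hh⟩ := hex.choose_spec
    refine hh ?_
    obtain ⟨g', hg'⟩ := hm hex.choose ⟨⟨⟨k, {p | fac m p.2}⟩, hex⟩, rfl⟩ h
    obtain ⟨c, hc⟩ := hle m m₁ fun k' g hg =>
      (Set.ext_iff.1 heq ⟨k', g⟩).1 hg
    exact ⟨g' ≫ c, by rw [Category.assoc, hc, hg']⟩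
  intro A B f hf
  have hf' : ∀ i ∈ J, ∀ h : Y i ⟶ B, ∃! h' : Y i ⟶ A, h' ≫ f = h := fun i hi => hf _ (ObjectProperty.ofObj_apply (fun j : J => Y j) ⟨i, hi⟩)
  have hinj : ∀ k (g₁ g₂ : G k ⟶ A), g₁ ≫ f = g₂ ≫ f → g₁ = g₂ := by
    intro k g₁ g₂ hg
    let q := pullback.lift g₁ g₂ hg
    haveI : IsIso (pullback.fst q (pullback.diagonal f)) := hfull k _ fun i hi h => by
      have he : h ≫ g₁ = h ≫ g₂ := (hf' i hi ((h ≫ g₁) ≫ f)).unique rfl (by rw [Category.assoc, ← hg, Category.assoc])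
      exact ⟨pullback.lift h (h ≫ g₁) (pullback.hom_ext (by simp [q]; erw [pullback.lift_fst]) (by simp [q, he]; erw [pullback.lift_snd])), pullback.lift_fst _ _ _⟩
    have h1 := pullback.condition (f := q) (g := pullback.diagonal f)
    have ha := congrArg (· ≫ pullback.fst f f) h1
    have hb := congrArg (· ≫ pullback.snd f f) h1
    simp only [Category.assoc, q, pullback.lift_fst, pullback.lift_snd, pullback.diagonal_fst, pullback.diagonal_snd, Category.comp_id] at ha hb
    exact (cancel_epi (pullback.fst q (pullback.diagonal f))).1 (ha.trans hb.symm)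
  haveI : IsIso (pullback.diagonal f) := hG _ (by
    rintro _ ⟨k⟩ h
    have e := hinj k (h ≫ pullback.fst f f) (h ≫ pullback.snd f f) (by simp [pullback.condition])
    exact ⟨h ≫ pullback.fst f f, pullback.hom_ext (by simp) (by simp [e]),
      fun y hy => by rw [← hy]; simp⟩)
  haveI : Mono f := (pullback.isIso_diagonal_iff f).1 inferInstance
  refine hG f ?_
  rintro _ ⟨k⟩ h
  haveI : IsIso (pullback.fst h f) := hfull k _ fun i hi g => by
    obtain ⟨g', hg', -⟩ := hf' i hi (g ≫ h)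
    exact ⟨pullback.lift g g' hg'.symm, pullback.lift_fst _ _ _⟩
  exact ⟨inv (pullback.fst h f) ≫ pullback.snd h f,
    by show (inv (pullback.fst h f) ≫ pullback.snd h f) ≫ f = h; rw [Category.assoc, ← pullback.condition, IsIso.inv_hom_id_assoc],
    fun y hy => (cancel_mono f).1 (hy.trans (by rw [Category.assoc, ← pullback.condition, IsIso.inv_hom_id_assoc]))⟩

end Groth.Agent.S6144
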