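import Groth.Statements.S6160
import Groth.Agent.ModGroth.Functors

set_option autoImplicit false
universe u
open CategoryTheory
open ModSite

namespace Groth.Agent.S6160

open CategoryTheory.Limits in
/-- Ringed topos of sheaves on a small site; u : A -> B a morphism of sheaves of rings: the
restriction-of-scalars functor from B-Modules to A-Modules commutes with all u-small limits and
colimits and is conservative. -/
theorem result {C : Type u} [SmallCategory C]
    {J : GrothendieckTopology C} {A B : Sheaf J RingCat.{u}} (φ : A ⟶ B) :
    PreservesLimitsOfSize.{u, u} (SheafOfModules.restrictScalars.{u} φ) ∧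
    PreservesColimitsOfSize.{u, u} (SheafOfModules.restrictScalars.{u} φ) ∧
    (SheafOfModules.restrictScalars.{u} φ).ReflectsIsomorphisms :=
  ⟨Groth.Agent.ModGroth.restrictScalars_preservesLimits φ,
    Groth.Agent.ModGroth.restrictScalars_preservesColimits φ,
    Groth.Agent.ModGroth.restrictScalars_reflectsIsomorphisms φ⟩

end Groth.Agent.S6160
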