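import Groth.Statements.S6167
import Groth.Agent.EqFlat.Main

set_option autoImplicit false
universe u
open CategoryTheory
open ModSite

namespace Groth.Agent.S6167

/-- Ringed site (C, O), small, with commutative structure sheaf: a morphism from an O-module of finite
presentation (Mathlib's notion: over some family of objects covering every object, a cokernel of a
map of finite free modules) to a flat O-module factors, locally on the site, through a finite free
module: for every object X there is a covering family (Y_i -> X) and for each i a factorisation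
F|Y_i -> (O|Y_i)^n -> H|Y_i of the restricted morphism. -/
theorem result {C : Type u} [SmallCategory C] {J : GrothendieckTopology C}
    (O : Sheaf J CommRingCat.{u}) (F H : ModSite.Mod O) [F.IsFinitePresentation] (hH : ModSite.IsFlat H)
    (φ : F ⟶ H) (X : C) :
    ∃ (ι : Type u) (Y : ι → C) (g : ∀ i, Y i ⟶ X), Sieve.ofArrows Y g ∈ J X ∧
      ∀ i, ∃ (n : ℕ) (a : (ModSite.restr O (Y i)).obj F ⟶ SheafOfModules.free (ULift.{u} (Fin n)))
        (b : SheafOfModules.free (ULift.{u} (Fin n)) ⟶ (ModSite.restr O (Y i)).obj H),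
        a ≫ b = (ModSite.restr O (Y i)).map φ := by
  obtain ⟨σ, hσ⟩ := SheafOfModules.IsFinitePresentation.exists_quasicoherentData F
  have key : ∀ ⦃Y : C⦄ (p : Y ⟶ X), Sieve.ofObjects σ.X X p →
      ∃ T ∈ J Y, ∀ ⦃V : C⦄ (f : V ⟶ Y), T f → Groth.Agent.EqFlat.Factors φ V := by
    intro Y p hp
    obtain ⟨i, ⟨q⟩⟩ := (Sieve.mem_ofObjects_iff ..).mp hp
    exact Groth.Agent.EqFlat.exists_local_factors hH φ (σ.presentation i) q
  choose T hT hT' using key
  let S : Sieve X := Sieve.bind (Sieve.ofObjects σ.X X).arrows T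
  have hS : S ∈ J X := J.bind_covering (σ.coversTop X) hT
  refine ⟨Σ Y : C, {g : Y ⟶ X // S g}, fun i => i.1, fun i => i.2.1,
    J.superset_covering (fun Y g hg => Sieve.ofArrows_mk (I := Σ Y : C, {g : Y ⟶ X // S g})
      (fun i => i.1) (fun i => i.2.1) ⟨Y, g, hg⟩) hS, fun ⟨V, g, hg⟩ => ?_⟩
  obtain ⟨Y, f, p, hp, hf, -⟩ := hg
  exact hT' p hp f hf

end Groth.Agent.S6167
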