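import Groth.Statements.S6172
import Mathlib

set_option autoImplicit false
universe u
open CategoryTheory
open SGA4

namespace Groth.Agent.S6172

section aux

open CategoryTheory.Limits MonoidalCategory CartesianMonoidalCategory

variable {E : Type*} [Category E] [CartesianMonoidalCategory E] [HasBinaryProducts E]

/-- `Z ⨯ - ≅ Z ⊗ -`. -/
noncomputable def starForgetIso (Z : E) : Over.star Z ⋙ Over.forget Z ≅ tensorLeft Z :=
  NatIso.ofComponents (fun W =>
    { hom := lift (prod.fst (X := Z) (Y := W)) prod.snd
      inv := prod.lift (fst Z W) (snd Z W)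
      hom_inv_id := by
        change lift (prod.fst (X := Z) (Y := W)) prod.snd ≫ prod.lift (fst Z W) (snd Z W) = 𝟙 (Z ⨯ W)
        apply prod.hom_ext <;> simp
      inv_hom_id := by
        change prod.lift (fst Z W) (snd Z W) ≫ lift (prod.fst (X := Z) (Y := W)) prod.snd = 𝟙 (Z ⊗ W)
        apply CartesianMonoidalCategory.hom_ext <;> simp <;> first | exact prod.lift_fst _ _ | exact prod.lift_snd _ _ }) (fun {W W'} f => by
    change prod.map (𝟙 Z) f ≫ lift (prod.fst (X := Z) (Y := W')) prod.snd =
      lift (prod.fst (X := Z) (Y := W)) prod.snd ≫ Z ◁ f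
    apply CartesianMonoidalCategory.hom_ext <;> simp)

end aux

open CategoryTheory.Limits MonoidalCategory in
/-- Topos E of sheaves of sets on a small site, localised at an object Z: with j_Z : E/Z -> E the
localisation morphism, j_Z^* X = Z x X over Z, and j_{Z*} its right adjoint (taken as an instance
hypothesis, which holds in any topos), j_{Z*} j_Z^* Y is isomorphic to the internal hom Hom(Z, Y)
for every object Y. Existence of an isomorphism only (the source's is canonical). -/
theorem result {C : Type u} [SmallCategory C] (J : GrothendieckTopology C)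
    (Z Y : Sheaf J (Type u)) [(Over.star Z).IsLeftAdjoint] :
    Nonempty (((Over.star Z).rightAdjoint).obj ((Over.star Z).obj Y) ≅ (ihom Z).obj Y) := by
  let adj₁ : Over.star Z ⋙ Over.forget Z ⊣ Over.star Z ⋙ (Over.star Z).rightAdjoint :=
    (Adjunction.ofIsLeftAdjoint (Over.star Z)).comp (Over.forgetAdjStar Z)
  let e := starForgetIso Z
  exact ⟨((adj₁.ofNatIsoLeft e).rightAdjointUniq (ihom.adjunction Z)).app Y⟩

end Groth.Agent.S6172
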