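import Groth.Statements.S6173
import Mathlib.CategoryTheory.Sites.Point.Map
import Mathlib.CategoryTheory.Sites.Point.Conservative
import Mathlib.CategoryTheory.Sites.CoversTop.Basic
import Mathlib.CategoryTheory.Sites.Over
import Mathlib.CategoryTheory.Sites.LocallySurjective
import Mathlib.CategoryTheory.Sites.LocallyInjective
-- import your own Groth.Agent.* helpers here

set_option autoImplicit false
universe u
open CategoryTheory
open SGA4

namespace Groth.Agent.S6173

/-- Second assertion (topos of sheaves on a small site (C, J); E/X_i the induced topoi, modelled by the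
sites (C/X_i, J/X_i); 'enough points' = a small conservative family of points, equivalently all
fibre functors together are conservative): if (X_i) is a family of objects covering the final object
and every E/X_i has enough points, then E has enough points. (The first assertion, that E/X inherits
enough points from E, is Mathlib's instance.) -/
theorem result {C : Type u} [SmallCategory C] (J : GrothendieckTopology C) {ι : Type u}
    (X : ι → C) (hX : J.CoversTop X) (h : ∀ i, GrothendieckTopology.HasEnoughPoints.{u} (J.over (X i))) :
    GrothendieckTopology.HasEnoughPoints.{u} J := by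
  choose P hPs hP using fun i => (h i).exists_objectProperty
  haveI := hPs
  let T : (Σ i, (P i).FullSubcategory) → GrothendieckTopology.Point.{u} J := fun q =>
    q.2.obj.map (Over.forget (X q.1)) J
  refine ⟨ObjectProperty.ofObj T, inferInstance, ⟨⟨fun {F G} f hf => ?_⟩⟩⟩
  have hres : ∀ i, IsIso (((Over.forget (X i)).sheafPushforwardContinuous (Type u) (J.over (X i)) J).map f) := by
    intro i
    rw [(hP i).jointlyReflectIsomorphisms_type.isIso_iff]
    intro Φ
    have h1 : IsIso ((Φ.obj.map (Over.forget (X i)) J).sheafFiber.map f) := hf ⟨T ⟨i, Φ⟩, ObjectProperty.ofObj_apply T ⟨i, Φ⟩⟩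
    exact (NatIso.isIso_map_iff (Φ.obj.sheafFiberMapIso (Over.forget (X i)) J (Type u)) f).1 h1
  have hsec : ∀ {W : C} (i : ι), (W ⟶ X i) → IsIso (f.hom.app (Opposite.op W)) := fun {W} i g => by
    haveI := hres i
    have := (sheafToPresheaf (J.over (X i)) (Type u)).map_isIso
      (((Over.forget (X i)).sheafPushforwardContinuous (Type u) (J.over (X i)) J).map f)
    exact NatIso.isIso_app_of_isIso ((sheafToPresheaf (J.over (X i)) (Type u)).map
      (((Over.forget (X i)).sheafPushforwardContinuous (Type u) (J.over (X i)) J).map f)) (Opposite.op (Over.mk g))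
  haveI : Sheaf.IsLocallyInjective f :=
    ⟨fun {Y} x y hxy => by
      refine J.superset_covering ?_ (hX Y.unop)
      rintro W g ⟨i, ⟨k⟩⟩
      haveI := hsec i k
      refine ((isIso_iff_bijective _).1 this).1 ?_
      have hx := ConcreteCategory.congr_hom (f.hom.naturality g.op) x
      have hy := ConcreteCategory.congr_hom (f.hom.naturality g.op) y
      exact hx.trans ((congrArg _ hxy).trans hy.symm)⟩
  haveI : Sheaf.IsLocallySurjective f :=
    ⟨fun {Y} x => by
      refine J.superset_covering ?_ (hX Y)
      rintro W g ⟨i, ⟨k⟩⟩
      haveI := hsec i k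
      exact ((isIso_iff_bijective _).1 this).2 _⟩
  exact (Sheaf.isLocallyBijective_iff_isIso f).1 ⟨inferInstance, inferInstance⟩

end Groth.Agent.S6173
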