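import Groth.Statements.S6177
import Mathlib
-- import your own Groth.Agent.* helpers here

set_option autoImplicit false
universe u
open CategoryTheory
open SGA4

namespace Groth.Agent.S6177

open CategoryTheory.Limits in
/-- Topos of sheaves of sets on a small site; U an open, i.e. a subobject of the final object; X_CU the
pushout of U <- U x X -> X along the two projections: (ii) <=> (iii): the canonical map X -> X_CU is
an isomorphism if and only if the projection U x X -> U is an isomorphism (X belongs to the closed
complement of U); and (i) => (iii): if X is isomorphic to Y_CU for some Y then X belongs to the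
closed complement of U ((iii) => (i) with Y = X is then immediate from (ii)). -/
theorem result {C : Type u} [SmallCategory C] (J : GrothendieckTopology C)
    (U : Sheaf J (Type u)) (hU : SGA4.IsOpen U) (X : Sheaf J (Type u)) :
    (SGA4.closedCompl U X ↔ IsIso (pushout.inr (prod.fst : U ⨯ X ⟶ U) (prod.snd : U ⨯ X ⟶ X))) ∧
    ((∃ Y : Sheaf J (Type u), Nonempty (X ≅ pushout (prod.fst : U ⨯ Y ⟶ U) (prod.snd : U ⨯ Y ⟶ Y))) →
      SGA4.closedCompl U X) := by
  have key : ∀ (Z : Sheaf J (Type u)) (s : U ⟶ Z), (prod.fst : U ⨯ Z ⟶ U) ≫ s = prod.snd →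
      SGA4.closedCompl U Z := fun Z s hs =>
    ⟨prod.lift (𝟙 U) s, Limits.prod.hom_ext
      (by simp only [Category.assoc, prod.lift_fst, Category.comp_id, Category.id_comp])
      (by simp only [Category.assoc, prod.lift_snd, hs, Category.id_comp]), prod.lift_fst _ _⟩
  refine ⟨⟨fun h => ?_, fun h => ?_⟩, ?_⟩
  · haveI : IsIso (prod.fst : U ⨯ X ⟶ U) := h
    infer_instance
  · haveI := h
    refine key X (pushout.inl _ _ ≫ inv (pushout.inr (prod.fst : U ⨯ X ⟶ U) (prod.snd : U ⨯ X ⟶ X))) ?_
    rw [pushout.condition_assoc, IsIso.hom_inv_id, Category.comp_id]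
  rintro ⟨Y, ⟨e⟩⟩
  let f : U ⨯ Y ⟶ U := prod.fst
  let g : U ⨯ Y ⟶ Y := prod.snd
  refine key X (pushout.inl f g ≫ e.inv) ?_
  have hU : ∀ {W : Sheaf J (Type u)} (a b : W ⟶ U), a = b := fun a b => by
    haveI : Mono (terminal.from U) := hU
    exact (cancel_mono (terminal.from U)).1 (Subsingleton.elim _ _)
  have h0 : CategoryTheory.CartesianMonoidalCategory.fst U (pushout f g) ≫ pushout.inl f g =
      CategoryTheory.CartesianMonoidalCategory.snd U (pushout f g) := by
    apply MonoidalClosed.curry_injective
    refine pushout.hom_ext ?_ ?_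
    · rw [← MonoidalClosed.curry_natural_left, ← MonoidalClosed.curry_natural_left]
      refine congrArg MonoidalClosed.curry ?_
      erw [CartesianMonoidalCategory.whiskerLeft_fst_assoc, CartesianMonoidalCategory.whiskerLeft_snd]
      exact congrArg (· ≫ pushout.inl f g) (hU _ _)
    · rw [← MonoidalClosed.curry_natural_left, ← MonoidalClosed.curry_natural_left]
      refine congrArg MonoidalClosed.curry ?_
      erw [CartesianMonoidalCategory.whiskerLeft_fst_assoc, CartesianMonoidalCategory.whiskerLeft_snd]
      have h1 := congrArg (prod.lift (CategoryTheory.CartesianMonoidalCategory.fst U Y) (CategoryTheory.CartesianMonoidalCategory.snd U Y) ≫ ·)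
        (pushout.condition (f := f) (g := g))
      simpa [f, g, prod.lift_fst_assoc, prod.lift_snd_assoc] using h1
  have h2 := congrArg (CartesianMonoidalCategory.lift (prod.fst : U ⨯ X ⟶ U) (prod.snd ≫ e.hom) ≫ ·) h0
  erw [CartesianMonoidalCategory.lift_fst_assoc, CartesianMonoidalCategory.lift_snd] at h2
  refine (Category.assoc _ _ _).symm.trans ((congrArg (· ≫ e.inv) h2).trans ?_)
  exact (Category.assoc _ _ _).trans ((congrArg (_ ≫ ·) e.hom_inv_id).trans (Category.comp_id _))

end Groth.Agent.S6177
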