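import Groth.Prelude.Def_SGA4b
import Groth.Prelude.Def_EtBase
import Mathlib.RingTheory.Henselian
import Mathlib.FieldTheory.IsSepClosed
import Groth.Agent.EtSite.Henselian
-- import your own Groth.Agent.* helpers here

set_option autoImplicit false
open CategoryTheory CategoryTheory.Limits AlgebraicGeometry Opposite
universe u

namespace Groth.Agent.S6179

/-- Let R be a strictly henselian local ring, X = Spec R and x̄ : Spec κ(R) -> X the closed geometric
point. For every etale sheaf of sets F on X the canonical map Γ(X, F) -> F_x̄ into the stalk (the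
colimit of F(X') over the x̄-pointed etale X-schemes X', taken at X' = X) is bijective; in
particular the global-sections functor is isomorphic to the fibre functor at x̄ and commutes with
all colimits. -/
theorem result (R : Type u) [CommRing R]
    [HenselianLocalRing R] [IsSepClosed (IsLocalRing.ResidueField R)]
    (F : EtDesc.Sh (Spec (CommRingCat.of R))) :
    Function.Bijective ((Scheme.pointSmallEtale
      (Spec.map (CommRingCat.ofHom (IsLocalRing.residue R)))).toPresheafFiber (A := Type (u + 1))
        (EtCoh.top (Spec (CommRingCat.of R)))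
        (Over.homMk (Spec.map (CommRingCat.ofHom (IsLocalRing.residue R))) (Category.comp_id _)) F.obj) := by
  let Φ := Scheme.pointSmallEtale (EtSite.closedGeomPt R)
  refine ⟨fun a b hab => ?_, fun p => ?_⟩
  · obtain ⟨V, g, v, -, hg⟩ := (Φ.toPresheafFiber_eq_iff' _ _ _ _).1 hab
    obtain ⟨s, -⟩ := EtSite.exists_section R V v
    have e : s ≫ g = 𝟙 _ := (EtSite.topTerminal _).hom_ext _ _
    have := congrArg (F.obj.map s.op) hg
    rwa [← Functor.map_comp_apply, ← Functor.map_comp_apply, ← op_comp, e, op_id,
      CategoryTheory.Functor.map_id] at this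
  · obtain ⟨U, t, z, rfl⟩ := Φ.toPresheafFiber_jointly_surjective (P := F.obj) p
    obtain ⟨s, hs⟩ := EtSite.exists_section R U t
    refine ⟨F.obj.map s.op z, ?_⟩
    rw [show (Over.homMk (EtSite.closedGeomPt R) (Category.comp_id _)) = EtSite.topPt R from rfl,
      Φ.toPresheafFiber_w_apply, hs]

end Groth.Agent.S6179
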