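import Groth.Statements.S6213
import Groth.Agent.RelPC.FlatTerms
-- import your own Groth.Agent.* helpers here

set_option autoImplicit false
universe u
open CategoryTheory CategoryTheory.Limits AlgebraicGeometry
attribute [local instance] HasDerivedCategory.standard
open KSix

namespace Groth.Agent.S6213

/-- Let f : X ⟶ Y be locally of finite type and M an O_X-module. Then M placed in degree 0 has perfect
amplitude in [0, 0] relative to f (pseudo-coherent relative to f in chart form and of stalkwise tor
amplitude in [0, 0] over the local rings of Y) if and only if M is flat over Y at every point of X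
and M placed in degree 0 is (-1)-pseudo-coherent relative to f (that is, finitely presented relative
to f). -/
theorem result {X Y : Scheme.{u}} (f : X ⟶ Y)
    [LocallyOfFiniteType f] (M : X.Modules) :
    DerSch.HasPerfAmplitudeRel f 0 0 ((HomologicalComplex.single _ (ComplexShape.up ℤ) 0).obj M) ↔
      (FlatMod.IsFlatOver f M ∧ DerSch.IsPseudoCoherentRel f (-1) (DCoh.toD X ((HomologicalComplex.single _ (ComplexShape.up ℤ) 0).obj M))) := by
  let K := (HomologicalComplex.single X.Modules (ComplexShape.up ℤ) 0).obj M
  let eK : DCoh.toD X K ≅ DCoh.inD X M := ((DerivedCategory.singleFunctorIsoCompQ X.Modules 0).app M).symm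
  have hz : ∀ i : ℤ, i ≠ 0 → IsZero (K.X i) := fun i hi => HomologicalComplex.isZero_single_obj_X _ _ _ _ hi
  let eM : ∀ x : X, ((DerSch.stalkCxOver f x).obj K).X 0 ≅ (DerSch.stalkOver f x).obj M := fun x =>
    (DerSch.stalkOver f x).mapIso (HomologicalComplex.singleObjXSelf (ComplexShape.up ℤ) 0 M)
  constructor
  · rintro ⟨hpc, ht⟩
    refine ⟨fun x => ?_, hpc (-1)⟩
    obtain ⟨E, hE, hfl, ⟨e⟩⟩ := ht x
    let s := (DerSch.stalkOver f x).obj M
    let e' : ((HomologicalComplex.single _ (ComplexShape.up ℤ) 0).obj s) ≅ (DerSch.stalkCxOver f x).obj K :=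
      ((HomologicalComplex.singleMapHomologicalComplex (DerSch.stalkOver f x) (ComplexShape.up ℤ) 0).app M).symm
    obtain ⟨eE⟩ : Nonempty (E ≅ (HomologicalComplex.single _ (ComplexShape.up ℤ) 0).obj (E.X 0)) :=
      ⟨HomologicalComplex.Hom.isoOfComponents (fun i => if h : i = 0 then eqToIso (by subst h; rfl) ≪≫
          (HomologicalComplex.singleObjXIsoOfEq (ComplexShape.up ℤ) 0 (E.X 0) i h).symm
        else (hE i (by omega)).iso (HomologicalComplex.isZero_single_obj_X _ _ _ _ h))
        (fun i j hij => by
          by_cases h : i = 0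
          · exact (HomologicalComplex.isZero_single_obj_X _ _ _ _ (show j ≠ 0 by simp at hij; omega)).eq_of_tgt _ _
          · exact (hE i (by omega)).eq_of_src _ _)⟩
    let i₀ : E.X 0 ≅ s :=
      ((DerivedCategory.singleFunctorCompHomologyFunctorIso _ 0).app (E.X 0)).symm ≪≫
        (DerivedCategory.homologyFunctor _ 0).mapIso ((DerivedCategory.singleFunctorIsoCompQ _ 0).app (E.X 0) ≪≫
          DerivedCategory.Q.mapIso eE.symm ≪≫ e ≪≫ DerivedCategory.Q.mapIso e'.symm ≪≫
          ((DerivedCategory.singleFunctorIsoCompQ _ 0).app s).symm) ≪≫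
        (DerivedCategory.singleFunctorCompHomologyFunctorIso _ 0).app s
    haveI := hfl 0
    show Module.Flat (Y.presheaf.stalk (f.base x)) ((DerSch.stalkOver f x).obj M)
    exact Module.Flat.of_linearEquiv i₀.toLinearEquiv.symm
  · rintro ⟨hfl, hfp⟩
    refine ⟨fun m => RelPC.isRel_of_iso (RelPC.isRel_of_flat f M hfl (RelPC.isRel_of_iso hfp eK) m) eK.symm,
      fun x => ⟨(DerSch.stalkCxOver f x).obj K, fun i hi => show IsZero ((DerSch.stalkOver f x).obj (K.X i)) from
        Functor.map_isZero (DerSch.stalkOver f x) (hz i (by omega)), fun i => ?_, ⟨Iso.refl _⟩⟩⟩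
    by_cases hi : i = 0
    · subst hi
      haveI : Module.Flat (Y.presheaf.stalk (f.base x)) ((DerSch.stalkOver f x).obj M) := hfl x
      exact Module.Flat.of_linearEquiv (eM x).toLinearEquiv
    · haveI : Subsingleton (((DerSch.stalkCxOver f x).obj K).X i) :=
        ModuleCat.subsingleton_of_isZero (Functor.map_isZero (DerSch.stalkOver f x) (hz i hi))
      haveI : Module.Free (Y.presheaf.stalk (f.base x)) (((DerSch.stalkCxOver f x).obj K).X i) :=
        Module.Free.of_subsingleton _ _
      exact Module.Flat.of_free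

end Groth.Agent.S6213
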