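import Groth.Statements.S7175
import Groth.Agent.PerfMor.Surj
import Groth.Agent.DCohPerf.TildePC
import Groth.Agent.InvBasic.QCoh
import Groth.Agent.QCohLib.Criterion
import Groth.Agent.QCohLib.FiniteType
-- import your own Groth.Agent.* helpers here

set_option autoImplicit false
universe u
attribute [local instance] HasDerivedCategory.standard
open FlatMor

namespace Groth.Agent.S7175

open AlgebraicGeometry CategoryTheory Limits in
/-- For a perfect closed immersion i : Z → X, the O_X-module i_* O_Z is a perfect object of D(O_X). -/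
theorem result {Z X : Scheme.{u}} (i : Z ⟶ X) [IsClosedImmersion i]
    (hi : MoreMor.IsPerfectMor i) :
    DCoh.IsPerfect (DCoh.inD X ((Coh.push i).obj (Coh.structureModule Z))) := by
  open Groth.Agent in
  haveI : (Coh.structureModule Z).IsQuasicoherent := InvBasic.isQuasicoherent_structureModule Z
  haveI : ((Coh.push i).obj (Coh.structureModule Z)).IsQuasicoherent := QCohLib.isQuasicoherent_pushforward i
  refine DCohPerf.isPerfect_of_locally fun x => ?_
  obtain ⟨U, hU, hx, -⟩ := TopologicalSpace.Opens.isBasis_iff_nbhd.mp X.isBasis_affineOpens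
    (TopologicalSpace.Opens.mem_top x)
  obtain ⟨w, hw⟩ : ∃ w, hU.fromSpec w = x := hU.range_fromSpec.ge hx
  refine ⟨Spec Γ(X, U), hU.fromSpec, inferInstance, w, hw, ?_⟩
  have hs : Function.Surjective (i.app U).hom := i.app_surjective U hU
  have hp : PerfMor.PerfRing (i.app U).hom := by
    rw [Scheme.Hom.app_eq_appLE]
    exact hi (i ⁻¹ᵁ U) U (hU.preimage i) hU le_rfl
  have hm : PerfMor.PerfModHom (i.app U).hom := by
    let e := (MvPolynomial.isEmptyAlgEquiv Γ(X, U) (Fin 0)).toRingEquiv
    have h0 := hp.perfModHom ((i.app U).hom.comp e.toRingHom) (hs.comp e.surjective)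
      (RingHom.ext fun a => congrArg (i.app U).hom ((MvPolynomial.isEmptyAlgEquiv Γ(X, U) (Fin 0)).commutes a))
    have h1 := (PerfMor.PerfModHom.of_bijective e.symm.toRingHom e.symm.bijective).comp h0
    rwa [RingHom.comp_assoc, show e.toRingHom.comp e.symm.toRingHom = RingHom.id _ from
      RingHom.ext e.apply_symm_apply, RingHom.comp_id] at h1
  let M := (Coh.push i).obj (Coh.structureModule Z)
  let Φ : QCohLib.ΓR (QCohLib.onSpec M hU) ≅
      (ModuleCat.restrictScalars (i.app U).hom).obj (ModuleCat.of Γ(Z, i ⁻¹ᵁ U) Γ(Z, i ⁻¹ᵁ U)) :=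
    (QCohLib.onSpecΓ M hU ≪≫ₗ
      ({ toFun := fun s => s, invFun := fun s => s, left_inv := fun _ => rfl, right_inv := fun _ => rfl,
         map_add' := fun _ _ => rfl, map_smul' := fun _ _ => rfl } : Γ(M, U) ≃ₗ[Γ(X, U)]
        ((ModuleCat.restrictScalars (i.app U).hom).obj (ModuleCat.of Γ(Z, i ⁻¹ᵁ U) Γ(Z, i ⁻¹ᵁ U))))).toModuleIso
  haveI : (QCohLib.onSpec M hU).IsQuasicoherent := inferInstance
  refine DCohPerf.isPerfect_of_iso
    (DCohPerf.isPerfect_tildeD (DRingPC.isPerfect_of_iso hm
      ((DerivedCategory.singleFunctor _ 0).mapIso Φ.symm))) ?_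
  exact ((tilde.functor Γ(X, U)).mapDerivedCategorySingleFunctor 0).app _ ≪≫
    (DerivedCategory.singleFunctor _ 0).mapIso (QCohLib.counitIso (QCohLib.onSpec M hU)) ≪≫
    (DCohPerf.RDsingle hU.fromSpec M).symm

end Groth.Agent.S7175
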