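import Groth.Statements.S6260
import Groth.Agent.RelPC.TorIndep
-- import your own Groth.Agent.* helpers here

set_option autoImplicit false
set_option linter.style.haveILetI false
universe u
open CategoryTheory CategoryTheory.Limits AlgebraicGeometry
attribute [local instance] HasDerivedCategory.standard
open KSix

namespace Groth.Agent.S6260

/-- Let S be a scheme and, for i = 1, 2, f_i : X_i ⟶ Y_i a morphism of S-schemes (structure morphisms
q_i : Y_i ⟶ S), with X₂ and Y₂ flat over S; let X = X₁ ×_S X₂ and Y = Y₁ ×_S Y₂ be given by pullback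
squares, with projections p₁ : X ⟶ X₁, p₂ : X ⟶ X₂, and f : X ⟶ Y the morphism compatible with the
projections. If f₁ and f₂ are locally of finite type and pseudo-coherent (their structure sheaves in
degree 0 are n-pseudo-coherent relative to them for every n, in chart form), then f = f₁ ×_S f₂ is
pseudo-coherent. (The published statement assumes only that X₁, X₂ and Y₁, Y₂ are tor-independent
over S; this row takes X₂ and Y₂ flat over S, which implies both conditions.) -/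
theorem result {S X₁ Y₁ X₂ Y₂ X Y : Scheme.{u}} (f₁ : X₁ ⟶ Y₁) (q₁ : Y₁ ⟶ S)
    (f₂ : X₂ ⟶ Y₂) (q₂ : Y₂ ⟶ S) [Flat q₂] [Flat (f₂ ≫ q₂)]
    (pX₁ : X ⟶ X₁) (pX₂ : X ⟶ X₂) (hX : IsPullback pX₁ pX₂ (f₁ ≫ q₁) (f₂ ≫ q₂))
    (pY₁ : Y ⟶ Y₁) (pY₂ : Y ⟶ Y₂) (hY : IsPullback pY₁ pY₂ q₁ q₂)
    (f : X ⟶ Y) (hf₁ : f ≫ pY₁ = pX₁ ≫ f₁) (hf₂ : f ≫ pY₂ = pX₂ ≫ f₂)
    [LocallyOfFiniteType f₁] [LocallyOfFiniteType f₂]
    (h₁ : ∀ n : ℤ, DerSch.IsNPseudoCoherent f₁ n) (h₂ : ∀ n : ℤ, DerSch.IsNPseudoCoherent f₂ n) (n : ℤ) :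
    DerSch.IsNPseudoCoherent f n := by
  let gX : X ⟶ pullback f₂ pY₂ := pullback.lift pX₂ f hf₂.symm
  let k : pullback f₂ pY₂ ⟶ Y := pullback.snd f₂ pY₂
  have hZ : IsPullback (pullback.fst f₂ pY₂) (k ≫ pY₁) (f₂ ≫ q₂) q₁ :=
    (IsPullback.of_hasPullback f₂ pY₂).paste_vert hY.flip
  have e₁ : gX ≫ pullback.fst f₂ pY₂ = pX₂ := pullback.lift_fst _ _ _
  have e₂ : gX ≫ k = f := pullback.lift_snd _ _ _
  have w : gX ≫ k ≫ pY₁ = pX₁ ≫ f₁ := by rw [← Category.assoc, e₂, hf₁]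
  haveI : Flat (k ≫ pY₁) := MorphismProperty.of_isPullback hZ inferInstance
  have hg : IsPullback gX pX₁ (k ≫ pY₁) f₁ := IsPullback.of_right (by rw [e₁]; exact hX.flip) w hZ
  have hgn : DerSch.IsNPseudoCoherent gX n :=
    RelPC.isNPC_baseChange_of_isPullback hg.flip n (h₁ n)
  have hkn : DerSch.IsNPseudoCoherent k n :=
    RelPC.isNPC_baseChange_torIndep (IsPullback.of_hasPullback f₂ pY₂) q₂ hY.flip h₂ n
  have h := RelPC.isNPC_comp gX k n n hgn hkn
  rwa [e₂, max_self] at h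

end Groth.Agent.S6260
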