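import Mathlib
import Groth.Statements.S6263
-- import your own Groth.Agent.* helpers here

set_option autoImplicit false
universe u
open CAlg

namespace Groth.Agent.S6263

open scoped TensorProduct

/-- For a ring map R → S and a finite S-module N which is flat as an R-module, generalizations lift
along the map from the support of N (a subset of Spec S) to Spec R: if p ≤ p' are primes of R and q'
is a prime of S in the support of N whose inverse image in R is p', then some prime q ≤ q' of S lies
in the support of N and has inverse image p. -/
theorem result {R S : Type u} [CommRing R] [CommRing S] [Algebra R S] (N : Type u) [AddCommGroup N] [Module S N] [Module R N] [IsScalarTower R S N] [Module.Finite S N] [Module.Flat R N] (p p' : Ideal R) [p.IsPrime] [p'.IsPrime] (hle : p ≤ p') (q' : PrimeSpectrum S) (hq' : q' ∈ Module.support S N) (hover : q'.asIdeal.under R = p') : ∃ q : PrimeSpectrum S, q ≤ q' ∧ q ∈ Module.support S N ∧ q.asIdeal.under R = p := by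
  classical
  let J : Ideal S := p.map (algebraMap R S)
  let Q := N ⧸ (J • (⊤ : Submodule S N))
  have hq'Q : q' ∈ Module.support S Q := by
    rw [Module.support_quotient]
    refine ⟨hq', ?_⟩
    rw [PrimeSpectrum.mem_zeroLocus, SetLike.coe_subset_coe, Ideal.map_le_iff_le_comap]
    exact hle.trans (le_of_eq hover.symm)
  have hann : Module.annihilator S Q ≤ q'.asIdeal := by
    rw [Module.support_eq_zeroLocus] at hq'Q
    exact hq'Q
  have := q'.isPrime
  obtain ⟨q, hq, hqle⟩ := Ideal.exists_minimalPrimes_le hann
  have hqp : q.IsPrime := hq.1.1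
  have hsupp : (⟨q, hqp⟩ : PrimeSpectrum S) ∈ Module.support S Q := by
    rw [Module.support_eq_zeroLocus]
    exact hq.1.2
  rw [Module.support_quotient] at hsupp
  refine ⟨⟨q, hqp⟩, hqle, hsupp.1, le_antisymm ?_ ?_⟩
  · intro r hr
    by_contra hrp
    apply IsSMulRegular.notMem_of_mem_minimalPrimes (R := S) (M := Q) (x := algebraMap R S r) ?_ hq hr
    let e : (N ⧸ (p • (⊤ : Submodule R N))) ≃ₗ[R] N ⊗[R] (R ⧸ p) := (TensorProduct.tensorQuotEquivQuotSMul N p).symm
    have hinj : Function.Injective (fun z : N ⧸ (p • (⊤ : Submodule R N)) => r • z) := by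
      have h1 : Function.Injective ((LinearMap.lsmul R (R ⧸ p) r).lTensor N) := by
        refine Module.Flat.lTensor_preserves_injective_linearMap _ ?_
        rw [injective_iff_map_eq_zero]
        intro z hz
        obtain ⟨z, rfl⟩ := Ideal.Quotient.mk_surjective z
        have hz' : Ideal.Quotient.mk p (r * z) = 0 := hz
        rw [Ideal.Quotient.eq_zero_iff_mem] at hz' ⊢
        exact (Ideal.IsPrime.mem_or_mem inferInstance hz').resolve_left hrp
      have h2 : ∀ w, (LinearMap.lsmul R (R ⧸ p) r).lTensor N w = r • w := by
        intro w
        induction w using TensorProduct.induction_on with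
        | zero => simp
        | tmul a b => simp
        | add a b ha hb => simp only [map_add, ha, hb, smul_add]
      intro a b hab
      apply e.injective
      apply h1
      rw [h2, h2, ← map_smul, ← map_smul]
      exact congrArg e hab
    have hset : ∀ n : N, n ∈ (J • (⊤ : Submodule S N)) ↔ n ∈ (p • (⊤ : Submodule R N)) := by
      intro n
      rw [show J • (⊤ : Submodule S N) = (p.map (algebraMap R S)) • (⊤ : Submodule S N) from rfl,
        ← Submodule.restrictScalars_mem R, Ideal.smul_restrictScalars, Submodule.restrictScalars_top]
    intro a b hab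
    obtain ⟨a, rfl⟩ := Submodule.Quotient.mk_surjective _ a
    obtain ⟨b, rfl⟩ := Submodule.Quotient.mk_surjective _ b
    change algebraMap R S r • Submodule.Quotient.mk a = algebraMap R S r • Submodule.Quotient.mk b at hab
    rw [← Submodule.Quotient.mk_smul, ← Submodule.Quotient.mk_smul, Submodule.Quotient.eq, algebraMap_smul, algebraMap_smul, ← smul_sub, hset,
      ← Submodule.Quotient.mk_eq_zero, Submodule.Quotient.mk_smul] at hab
    rw [Submodule.Quotient.eq, hset, ← Submodule.Quotient.mk_eq_zero]
    exact hinj (hab.trans (smul_zero r).symm)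
  · have h := hsupp.2
    rw [PrimeSpectrum.mem_zeroLocus, SetLike.coe_subset_coe, Ideal.map_le_iff_le_comap] at h
    exact h

end Groth.Agent.S6263
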