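import Mathlib
import Groth.Statements.S6264
-- import your own Groth.Agent.* helpers here

set_option autoImplicit false
universe u
open CAlg

namespace Groth.Agent.S6264

/-- Let R → S be a ring map with the going-up property and p a prime of R such that exactly one prime q
of S lies over p. Then the localization S_p of S at the image of R - p is a localization of S at q,
i.e. S_p = S_q. -/
theorem result {R S : Type u} [CommRing R] [CommRing S] [Algebra R S] [Algebra.HasGoingUp R S] (p : Ideal R) [p.IsPrime] (q : Ideal S) [q.IsPrime] [q.LiesOver p] (huniq : ∀ q' : Ideal S, q'.IsPrime → q'.under R = p → q' = q) : IsLocalization.AtPrime (Localization (Algebra.algebraMapSubmonoid S p.primeCompl)) q := by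
  classical
  have hle : Algebra.algebraMapSubmonoid S p.primeCompl ≤ q.primeCompl := by
    rintro _ ⟨r, hr, rfl⟩
    intro h
    exact hr ((Ideal.LiesOver.over (p := p) (P := q)).symm ▸ (h : r ∈ q.under R))
  refine (IsLocalization.iff_of_le_of_exists_dvd (Algebra.algebraMapSubmonoid S p.primeCompl) _ hle fun n hn => ?_).1 inferInstance
  by_contra hcon
  push Not at hcon
  obtain ⟨Q, hQ, hnQ, hQd⟩ := Ideal.exists_le_prime_disjoint (Ideal.span {n}) (Algebra.algebraMapSubmonoid S p.primeCompl)
    (Set.disjoint_left.2 fun z hz hz' => hcon z hz' (Ideal.mem_span_singleton.1 hz))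
  have hn' : n ∈ Q := hnQ (Ideal.mem_span_singleton_self n)
  have hQp : Q.under R ≤ p := fun r hr => by
    by_contra hrp
    exact Set.disjoint_left.1 hQd hr ⟨r, hrp, rfl⟩
  obtain ⟨Q', hQQ', hQ', hQ'o⟩ := Ideal.exists_ideal_ge_liesOver_of_le (p := Q.under R) (q := p) Q hQp
  exact hn (huniq Q' hQ' hQ'o.over.symm ▸ hQQ' hn')

end Groth.Agent.S6264
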