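import Mathlib
import Groth.Statements.S6265
-- import your own Groth.Agent.* helpers here

set_option autoImplicit false
universe u
open CAlg

namespace Groth.Agent.S6265

/-- Let R → S be a ring map with the going-down property such that over every prime of R lies at most
one prime of S, and let p be a prime of R and q a prime of S above it. Then the localization S_p of
S at the image of R - p is a localization of S at q, i.e. S_p = S_q. -/
theorem result {R S : Type u} [CommRing R] [CommRing S] [Algebra R S] [Algebra.HasGoingDown R S] (hinj : ∀ q₁ q₂ : Ideal S, q₁.IsPrime → q₂.IsPrime → q₁.under R = q₂.under R → q₁ = q₂) (p : Ideal R) [p.IsPrime] (q : Ideal S) [q.IsPrime] [q.LiesOver p] : IsLocalization.AtPrime (Localization (Algebra.algebraMapSubmonoid S p.primeCompl)) q := by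
  classical
  have hle : Algebra.algebraMapSubmonoid S p.primeCompl ≤ q.primeCompl := by
    rintro _ ⟨r, hr, rfl⟩
    intro h
    exact hr ((Ideal.LiesOver.over (p := p) (P := q)).symm ▸ (h : r ∈ q.under R))
  refine (IsLocalization.iff_of_le_of_exists_dvd (Algebra.algebraMapSubmonoid S p.primeCompl) _ hle fun n hn => ?_).1 inferInstance
  by_contra hcon
  push Not at hcon
  obtain ⟨Q, hQ, hnQ, hQd⟩ := Ideal.exists_le_prime_disjoint (Ideal.span {n}) (Algebra.algebraMapSubmonoid S p.primeCompl)
    (Set.disjoint_left.2 fun z hz hz' => hcon z hz' (Ideal.mem_span_singleton.1 hz))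
  have hn' : n ∈ Q := hnQ (Ideal.mem_span_singleton_self n)
  have hQp : Q.under R ≤ p := fun r hr => by
    by_contra hrp
    exact Set.disjoint_left.1 hQd hr ⟨r, hrp, rfl⟩
  obtain ⟨Q', hQ'q, hQ', hQ'o⟩ := Ideal.exists_ideal_le_liesOver_of_le (p := Q.under R) (q := p) q hQp
  exact hn (hQ'q (hinj Q Q' hQ hQ' hQ'o.over ▸ hn'))

end Groth.Agent.S6265
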