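import Groth.Statements.S6266
import Mathlib
import Groth.Agent.FittRank.Basic
import Groth.Agent.HopfFF.FitProj
import Groth.Agent.FSmooth.Algebra
-- import your own Groth.Agent.* helpers here

set_option autoImplicit false
universe u
open scoped TensorProduct
open CAlg

namespace Groth.Agent.S6266

/-- Let R be a reduced ring and M an R-module. Then M is a finite projective R-module if and only if M
is finitely generated and the function on Spec R sending a prime p to the dimension of κ(p) ⊗ M over
the residue field κ(p) is locally constant for the Zariski topology. -/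
theorem result (R : Type u) [CommRing R] [IsReduced R] (M : Type u) [AddCommGroup M] [Module R M] : (Module.Finite R M ∧ Module.Projective R M) ↔ (Module.Finite R M ∧ IsLocallyConstant (fun p : PrimeSpectrum R => Module.finrank p.asIdeal.ResidueField (p.asIdeal.ResidueField ⊗[R] M))) := by
  constructor
  · rintro ⟨hfin, hproj⟩
    haveI : Module.FinitePresentation R M := Module.finitePresentation_of_projective R M
    refine ⟨hfin, ?_⟩
    convert Module.isLocallyConstant_rankAtStalk (R := R) (M := M) using 1
    exact funext fun p => Ideal.finrank_fiber_eq_rankAtStalk p.asIdeal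
  · rintro ⟨hfin, hlc⟩
    refine ⟨hfin, ?_⟩
    have hloc : ∀ p : PrimeSpectrum R, ∃ f : R, p ∈ PrimeSpectrum.basicOpen f ∧ ∀ q ∈ PrimeSpectrum.basicOpen f,
        Module.finrank q.asIdeal.ResidueField (q.asIdeal.ResidueField ⊗[R] M) =
          Module.finrank p.asIdeal.ResidueField (p.asIdeal.ResidueField ⊗[R] M) := fun p => by
      obtain ⟨U, hU, hpU, hc⟩ := hlc.exists_open p
      obtain ⟨_, ⟨f, rfl⟩, hpf, hfU⟩ :=
        PrimeSpectrum.isTopologicalBasis_basic_opens.exists_subset_of_mem_open hpU hU
      exact ⟨f, hpf, fun q hq => hc q (hfU hq)⟩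
    choose f hf hr using hloc
    obtain ⟨t, ht⟩ := isCompact_univ.elim_finite_subcover (fun p => (PrimeSpectrum.basicOpen (f p) : Set (PrimeSpectrum R)))
      (fun p => (PrimeSpectrum.basicOpen (f p)).2) (fun p _ => Set.mem_iUnion.mpr ⟨p, hf p⟩)
    refine FSmooth.projective_of_localizations (fun i : t => f i.1) ?_ fun i => ?_
    · by_contra hne
      obtain ⟨m, hm, hle⟩ := Ideal.exists_le_maximal _ hne
      obtain ⟨p, hp, hmp⟩ := Set.mem_iUnion₂.mp (ht (Set.mem_univ (⟨m, hm.isPrime⟩ : PrimeSpectrum R)))
      exact hmp (hle (Ideal.subset_span ⟨⟨p, hp⟩, rfl⟩))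
    · set p := i.1
      set r := Module.finrank p.asIdeal.ResidueField (p.asIdeal.ResidueField ⊗[R] M) with hrdef
      obtain ⟨n, x, hx⟩ := Module.Finite.exists_fin (R := Localization.Away (f p)) (M := Localization.Away (f p) ⊗[R] M)
      have hF : ∀ k, Fitt.ideal (Localization.Away (f p)) (Localization.Away (f p) ⊗[R] M) k =
          (Fitt.ideal R M k).map (algebraMap R (Localization.Away (f p))) := fun k =>
        S6890.result (R := R) (R' := Localization.Away (f p)) M k
      refine HopfFF.projective_of_fitting x hx r ?_ fun s hs => ?_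
      · rw [hF]
        by_contra hne
        rw [← ne_eq, IsLocalization.map_algebraMap_ne_top_iff_disjoint (Submonoid.powers (f p))] at hne
        have hnr : f p ∉ (Fitt.ideal R M r).radical := fun ⟨m, hm⟩ =>
          Set.disjoint_left.mp hne ⟨m, rfl⟩ hm
        rw [Ideal.radical_eq_sInf, Submodule.mem_sInf] at hnr
        push Not at hnr
        obtain ⟨q, ⟨hle, hq⟩, hfq⟩ := hnr
        exact (FittRank.not_le_iff_finrank_le q r).mpr (hr p ⟨q, hq⟩ hfq).le hle
      · rw [hF, Ideal.map_eq_bot_iff_le_ker]
        intro a ha
        have hz : f p * a = 0 := by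
          refine IsReduced.eq_zero _ ?_
          rw [← mem_nilradical, nilradical_eq_sInf, Submodule.mem_sInf]
          intro q hq
          by_cases hfq : f p ∈ q
          · exact Ideal.mul_mem_right _ q hfq
          · refine Ideal.mul_mem_left q _ ?_
            by_contra haq
            haveI : Ideal.IsPrime q := hq
            have h2 := (FittRank.not_le_iff_finrank_le q s).mp (fun hle => haq (hle ha))
            rw [hr p ⟨q, hq⟩ hfq] at h2
            omega
        exact (IsLocalization.map_eq_zero_iff (Submonoid.powers (f p)) _ a).mpr ⟨⟨f p, 1, pow_one _⟩, hz⟩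

end Groth.Agent.S6266
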