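import Groth.Statements.S6267
import Groth.Agent.MLMod.Flat

set_option autoImplicit false
universe u
open CAlg

namespace Groth.Agent.S6267

/-- Let R be a ring and f : M → M' a map of R-modules with M' flat. Then f is universally injective
exactly when, for each finitely generated ideal I of R, the induced map M ⊗ R/I → M' ⊗ R/I (that is,
M/IM → M'/IM') is injective. -/
theorem result {R : Type u} [CommRing R] {M M' : Type u} [AddCommGroup M] [Module R M] [AddCommGroup M'] [Module R M'] [Module.Flat R M'] (f : M →ₗ[R] M') : CAlgX.UniversallyInjective R f ↔ ∀ I : Ideal R, I.FG → Function.Injective (f.rTensor (R ⧸ I)) := by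
  refine ⟨fun h I _ => h (R ⧸ I), fun h => ?_⟩
  have hf : Function.Injective f := by
    intro a b hab
    have h0 := h ⊥ Submodule.fg_bot
    have := h0 (show f.rTensor (R ⧸ (⊥ : Ideal R)) (TensorProduct.tmul R a 1) =
      f.rTensor (R ⧸ (⊥ : Ideal R)) (TensorProduct.tmul R b 1) by simp [hab])
    let e : (R ⧸ (⊥ : Ideal R)) ≃ₗ[R] R := Submodule.quotEquivOfEqBot _ rfl
    have h2 := congrArg (fun z => TensorProduct.rid R M (e.toLinearMap.lTensor M z)) this
    have he1 : e 1 = 1 := Submodule.quotEquivOfEqBot_apply_mk _ rfl 1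
    simpa [he1] using h2
  haveI : Module.Flat R (M' ⧸ LinearMap.range f) :=
    Groth.MLMod.flat_coker f.exact_map_mkQ_range (Submodule.mkQ_surjective _) h
  exact Groth.MLMod.ui_of_flat_coker hf f.exact_map_mkQ_range (Submodule.mkQ_surjective _)

end Groth.Agent.S6267
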