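import Groth.Statements.S6268
import Mathlib

set_option autoImplicit false
universe u
open CAlg

open scoped TensorProduct

namespace Groth.Agent.S6268

/-- Suppose the structure map R → S of an R-algebra S is universally injective as an R-linear map. Then
tensoring with S detects injectivity and surjectivity of R-linear maps (and hence reflects
isomorphisms): for an R-linear g : M → N, if S ⊗ g is injective then so is g, and if S ⊗ g is
surjective then so is g. -/
theorem result {R S : Type u} [CommRing R] [CommRing S] [Algebra R S] (hS : CAlgX.UniversallyInjective R (Algebra.linearMap R S)) {M N : Type u} [AddCommGroup M] [Module R M] [AddCommGroup N] [Module R N] (g : M →ₗ[R] N) : (Function.Injective (g.lTensor S) → Function.Injective g) ∧ (Function.Surjective (g.lTensor S) → Function.Surjective g) := by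
  have hj : ∀ (Q : Type u) [AddCommGroup Q] [Module R Q],
      Function.Injective fun q : Q => (1 : S) ⊗ₜ[R] q := fun Q _ _ x y hxy => by
    refine (TensorProduct.lid R Q).symm.injective (hS Q ?_)
    simpa using hxy
  refine ⟨fun h x y hxy => hj M (h ?_), fun h => ?_⟩
  · simp [hxy]
  · rw [← LinearMap.range_eq_top, ← Submodule.ker_mkQ (LinearMap.range g),
      LinearMap.ker_eq_top]
    refine LinearMap.ext fun n => hj _ ?_
    obtain ⟨z, hz⟩ := h ((1 : S) ⊗ₜ[R] n)
    have h2 : (LinearMap.range g).mkQ.lTensor S ((1 : S) ⊗ₜ[R] n) = 0 := by
      rw [← hz, ← LinearMap.comp_apply, ← LinearMap.lTensor_comp, LinearMap.range_mkQ_comp]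
      simp
    simpa using h2

end Groth.Agent.S6268
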