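import Groth.Statements.S6270
import Groth.Agent.NilpLift.Mod
-- import your own Groth.Agent.* helpers here

set_option autoImplicit false
universe u
open scoped TensorProduct
open CAlg

namespace Groth.Agent.S6270

/-- Let R be a ring, I ⊆ R a nilpotent ideal and M an R-module. If M is flat over R and M/IM (that is,
R/I ⊗ M) is a projective R/I-module, then M is a projective R-module. -/
theorem result {R : Type u} [CommRing R] (I : Ideal R) (hI : IsNilpotent I) (M : Type u) [AddCommGroup M] [Module R M] [Module.Flat R M] (hproj : Module.Projective (R ⧸ I) ((R ⧸ I) ⊗[R] M)) : Module.Projective R M := by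
  obtain ⟨P, _, _, π, hP, hs, hl, hk⟩ := NilpLift.exists_projective_lift hI ((R ⧸ I) ⊗[R] M)
  let π' : P →ₗ[R] (R ⧸ I) ⊗[R] M :=
    { toFun := π, map_add' := map_add π,
      map_smul' := fun a p => (hl a p).trans (algebraMap_smul (R ⧸ I) a (π p)) }
  obtain ⟨u, hu⟩ := Module.projective_lifting_property (TensorProduct.mk R (R ⧸ I) M 1) π'
    (fun z => NilpLift.exists_one_tmul z)
  have hu' : ∀ p, (1 : R ⧸ I) ⊗ₜ[R] u p = π p := fun p => LinearMap.congr_fun hu p
  have hb : Function.Bijective u := NilpLift.bijective_of_mod hI u (fun y => by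
      obtain ⟨x, hx⟩ := hs ((1 : R ⧸ I) ⊗ₜ[R] y)
      refine ⟨x, (NilpLift.one_tmul_eq_zero_iff _).1 ?_⟩
      rw [TensorProduct.tmul_sub, hu', hx, sub_self])
    (fun x hx => hk x (by rw [← hu', (NilpLift.one_tmul_eq_zero_iff _).2 hx]))
  exact Module.Projective.of_equiv (LinearEquiv.ofBijective u hb)

end Groth.Agent.S6270
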