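import Groth.Statements.S6272
import Mathlib.Algebra.Module.Projective
import Mathlib.RingTheory.Ideal.Quotient.Operations
import Mathlib.LinearAlgebra.Finsupp.LinearCombination
import Mathlib.Tactic.Abel
import Mathlib.Algebra.Module.Torsion.Basic
import Mathlib.RingTheory.TensorProduct.Maps
import Mathlib.LinearAlgebra.TensorProduct.Tower
-- import your own Groth.Agent.* helpers here

set_option autoImplicit false
universe u
open scoped TensorProduct
open CAlg

namespace Groth.Agent.S6272

/-- Lifting against `R`-modules killed by `I`, given that `(R ⧸ I) ⊗ P` is projective. -/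
theorem lift_of_killed {R : Type u} [CommRing R] (I : Ideal R) (P : Type u) [AddCommGroup P] [Module R P]
    (hI : Module.Projective (R ⧸ I) ((R ⧸ I) ⊗[R] P)) {M N : Type u} [AddCommGroup M] [Module R M]
    [AddCommGroup N] [Module R N] (hM : Module.IsTorsionBySet R M I) (hN : Module.IsTorsionBySet R N I)
    (g : M →ₗ[R] N) (hg : Function.Surjective g) (h : P →ₗ[R] N) :
    ∃ l : P →ₗ[R] M, ∀ p, g (l p) = h p := by
  letI := hM.module
  letI := hN.module
  haveI : IsScalarTower R (R ⧸ I) M := hM.isScalarTower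
  haveI : IsScalarTower R (R ⧸ I) N := hN.isScalarTower
  have hs : Function.Surjective (algebraMap R (R ⧸ I)) := Ideal.Quotient.mk_surjective
  obtain ⟨l, hl⟩ := Module.projective_lifting_property (g.extendScalarsOfSurjective hs)
    (LinearMap.liftBaseChange (R ⧸ I) h) hg
  refine ⟨(l.restrictScalars R).comp (TensorProduct.mk R (R ⧸ I) P 1), fun p => ?_⟩
  have := LinearMap.congr_fun hl ((1 : R ⧸ I) ⊗ₜ[R] p)
  simpa using this

theorem killed_quotient {R : Type u} [CommRing R] (I : Ideal R) (M : Type u) [AddCommGroup M] [Module R M]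
    (U : Submodule R M) (hU : I • (⊤ : Submodule R M) ≤ U) : Module.IsTorsionBySet R (M ⧸ U) I := by
  rintro x ⟨a, ha⟩
  obtain ⟨m, rfl⟩ := Submodule.mkQ_surjective _ x
  exact (Submodule.Quotient.mk_eq_zero _).2 (hU (Submodule.smul_mem_smul ha Submodule.mem_top))

/-- Over a ring R, take two ideals I and J meeting in zero (I ∩ J = 0) and an R-module P. If the
R/I-module P/IP (that is, R/I ⊗ P) and the R/J-module P/JP (that is, R/J ⊗ P) are both projective,
then P itself is projective over R. -/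
theorem result {R : Type u} [CommRing R] (I J : Ideal R) (hIJ : I ⊓ J = ⊥) (P : Type u) [AddCommGroup P] [Module R P] (hI : Module.Projective (R ⧸ I) ((R ⧸ I) ⊗[R] P)) (hJ : Module.Projective (R ⧸ J) ((R ⧸ J) ⊗[R] P)) : Module.Projective R P := by
  classical
  let F := P →₀ R
  let f : F →ₗ[R] P := Finsupp.linearCombination R id
  have hf : Function.Surjective f := fun p => ⟨Finsupp.single p 1, (Finsupp.linearCombination_single R 1 p).trans (one_smul R p)⟩
  let FI : Submodule R F := I • ⊤
  let FJ : Submodule R F := J • ⊤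
  let PI : Submodule R P := I • ⊤
  let PJ : Submodule R P := J • ⊤
  have hmap : ∀ K : Ideal R, (K • ⊤ : Submodule R F).map f = (K • ⊤ : Submodule R P) := fun K => by
    rw [Submodule.map_smul'', Submodule.map_top, LinearMap.range_eq_top.2 hf]
  have hFI : FI ≤ PI.comap f := Submodule.map_le_iff_le_comap.1 (hmap I).le
  have hFJ : FJ ≤ PJ.comap f := Submodule.map_le_iff_le_comap.1 (hmap J).le
  let fI : F ⧸ FI →ₗ[R] P ⧸ PI := Submodule.mapQ FI PI f hFI
  obtain ⟨s₁, hs₁⟩ := lift_of_killed I P hI (killed_quotient I F FI le_rfl) (killed_quotient I P PI le_rfl)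
    fI (fun x => by
      obtain ⟨p, rfl⟩ := Submodule.mkQ_surjective _ x
      obtain ⟨y, rfl⟩ := hf p
      exact ⟨Submodule.Quotient.mk y, rfl⟩) PI.mkQ
  let S : Submodule R F := FI ⊔ FJ
  let qI : F ⧸ FI →ₗ[R] F ⧸ S := Submodule.mapQ FI S LinearMap.id (fun x hx => Submodule.mem_sup_left hx)
  let qJ : F ⧸ FJ →ₗ[R] F ⧸ S := Submodule.mapQ FJ S LinearMap.id (fun x hx => Submodule.mem_sup_right hx)
  let fJ : F ⧸ FJ →ₗ[R] P ⧸ PJ := Submodule.mapQ FJ PJ f hFJ
  let g : F ⧸ FJ →ₗ[R] (F ⧸ S) × (P ⧸ PJ) := qJ.prod fJ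
  have hh : ∀ p, ((qI.comp s₁).prod PJ.mkQ) p ∈ LinearMap.range g := fun p => by
    obtain ⟨a, ha⟩ := Submodule.mkQ_surjective _ (s₁ p)
    have e : Submodule.Quotient.mk (f a) = (Submodule.Quotient.mk p : P ⧸ PI) := by
      have := hs₁ p
      rwa [← ha] at this
    have e' := (Submodule.Quotient.eq PI).1 e
    rw [show PI = FI.map f from (hmap I).symm] at e'
    obtain ⟨i, hi, hi'⟩ := e'
    refine ⟨Submodule.Quotient.mk (a - i), Prod.ext ?_ ?_⟩
    · show Submodule.Quotient.mk (p := S) (a - i) = qI (s₁ p)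
      rw [← ha]
      refine (Submodule.Quotient.eq S).2 ?_
      simpa using Submodule.mem_sup_left (neg_mem hi)
    · show Submodule.Quotient.mk (p := PJ) (f (a - i)) = Submodule.Quotient.mk p
      rw [map_sub, hi', sub_sub_cancel]
  have hkN : Module.IsTorsionBySet R (LinearMap.range g) J := by
    rintro ⟨_, y, rfl⟩ a
    refine Subtype.ext ?_
    show (a : R) • g y = 0
    rw [← map_smul, show (a : R) • y = 0 from @killed_quotient R _ J F _ _ FJ le_rfl y a, map_zero]
  obtain ⟨s₂, hs₂⟩ := lift_of_killed J P hJ (killed_quotient J F FJ le_rfl) hkN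
    g.rangeRestrict g.surjective_rangeRestrict
    (((qI.comp s₁).prod PJ.mkQ).codRestrict _ hh)
  have hinjd : Function.Injective (FI.mkQ.prod FJ.mkQ) := by
    rw [injective_iff_map_eq_zero]
    intro x hx
    have h1 : x ∈ FI := (Submodule.Quotient.mk_eq_zero _).1 (congrArg Prod.fst hx)
    have h2 : x ∈ FJ := (Submodule.Quotient.mk_eq_zero _).1 (congrArg Prod.snd hx)
    have key : ∀ (K : Ideal R) (z : F), z ∈ (K • ⊤ : Submodule R F) → ∀ q, z q ∈ K := fun K z hz q => by
      refine Submodule.smul_induction_on hz (fun a ha y _ => ?_) (fun y y' h h' => ?_)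
      · rw [Finsupp.smul_apply, smul_eq_mul]; exact Ideal.mul_mem_right _ _ ha
      · rw [Finsupp.add_apply]; exact add_mem h h'
    ext q
    have hq : x q ∈ I ⊓ J := ⟨key I x h1 q, key J x h2 q⟩
    simpa [hIJ] using hq
  have hr : ∀ p, (s₁.prod s₂) p ∈ LinearMap.range (FI.mkQ.prod FJ.mkQ) := fun p => by
    obtain ⟨a, ha⟩ := Submodule.mkQ_surjective _ (s₁ p)
    obtain ⟨b, hb⟩ := Submodule.mkQ_surjective _ (s₂ p)
    have e : qJ (s₂ p) = qI (s₁ p) := congrArg Prod.fst (congrArg Subtype.val (hs₂ p))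
    rw [← ha, ← hb] at e
    obtain ⟨i, hi, j, hj, hij⟩ := Submodule.mem_sup.1 ((Submodule.Quotient.eq S).1 e)
    refine ⟨a + i, Prod.ext ?_ ?_⟩
    · show Submodule.Quotient.mk (p := FI) (a + i) = s₁ p
      rw [← ha]
      exact (Submodule.Quotient.eq FI).2 (by simpa using hi)
    · show Submodule.Quotient.mk (p := FJ) (a + i) = s₂ p
      rw [← hb]
      refine (Submodule.Quotient.eq FJ).2 ?_
      have hij' : i + j = b - a := hij
      have : a + i - b = -j := by
        rw [show a + i - b = i - (b - a) by abel, ← hij']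
        abel
      rw [this]; exact neg_mem hj
  let s : P →ₗ[R] F :=
    (LinearEquiv.ofInjective _ hinjd).symm.toLinearMap.comp ((s₁.prod s₂).codRestrict _ hr)
  have hs : ∀ p, (FI.mkQ (s p), FJ.mkQ (s p)) = (s₁ p, s₂ p) := fun p =>
    congrArg Subtype.val ((LinearEquiv.ofInjective _ hinjd).apply_symm_apply ⟨_, hr p⟩)
  let ε : P →ₗ[R] P := f.comp s - LinearMap.id
  have hεI : ∀ p, ε p ∈ PI := fun p => by
    refine (Submodule.Quotient.eq PI).1 ?_
    have h := hs₁ p
    rw [← show FI.mkQ (s p) = s₁ p from congrArg Prod.fst (hs p)] at h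
    exact h
  have hεJ : ∀ p, ε p ∈ PJ := fun p => by
    refine (Submodule.Quotient.eq PJ).1 ?_
    have h : fJ (s₂ p) = PJ.mkQ p := congrArg Prod.snd (congrArg Subtype.val (hs₂ p))
    rw [← show FJ.mkQ (s p) = s₂ p from congrArg Prod.snd (hs p)] at h
    exact h
  have hεε : ∀ p, ε (ε p) = 0 := fun p => by
    have h2 := Submodule.mem_map_of_mem (f := ε) (hεI p)
    rw [Submodule.map_smul''] at h2
    have h3 : (⊤ : Submodule R P).map ε ≤ PJ := by
      rintro _ ⟨q, _, rfl⟩; exact hεJ q
    have h4 : I * J = ⊥ := le_bot_iff.1 (Ideal.mul_le_inf.trans hIJ.le)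
    have h5 := Submodule.smul_mono le_rfl h3 h2
    rwa [show PJ = J • ⊤ from rfl, ← Submodule.mul_smul, h4, Submodule.bot_smul, Submodule.mem_bot] at h5
  refine Module.Projective.of_split (s.comp (LinearMap.id - ε)) f (LinearMap.ext fun p => ?_)
  show f (s (p - ε p)) = p
  have e : ∀ q, f (s q) = q + ε q := fun q => by simp [ε]
  rw [e, map_sub, hεε]
  abel

end Groth.Agent.S6272
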