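import Mathlib
import Groth.Statements.S6273
-- import your own Groth.Agent.* helpers here

set_option autoImplicit false
universe u
open CAlg

namespace Groth.Agent.S6273

/-- Let R be a ring, S ⊆ R a multiplicative subset and A = S⁻¹R. If the image of Spec(A) → Spec(R) is
closed, then the localization map R → A is surjective; in particular A is isomorphic to R/I for the
ideal I = ker(R → A). -/
theorem result {R : Type u} [CommRing R] (S : Submonoid R) (A : Type u) [CommRing A] [Algebra R A] [IsLocalization S A] (hcl : IsClosed (Set.range (PrimeSpectrum.comap (algebraMap R A)))) : Function.Surjective (algebraMap R A) := by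
  have hrange : Set.range (PrimeSpectrum.comap (algebraMap R A)) = PrimeSpectrum.zeroLocus (RingHom.ker (algebraMap R A) : Set R) := by
    rw [← PrimeSpectrum.closure_range_comap, hcl.closure_eq]
  intro a
  obtain ⟨r, s, rfl⟩ := IsLocalization.exists_mk'_eq S a
  have htop : RingHom.ker (algebraMap R A) ⊔ Ideal.span {(s : R)} = ⊤ := by
    by_contra hne
    obtain ⟨M, hM, hle⟩ := Ideal.exists_le_maximal _ hne
    have : (⟨M, hM.isPrime⟩ : PrimeSpectrum R) ∈ Set.range (PrimeSpectrum.comap (algebraMap R A)) := by
      rw [hrange]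
      exact (PrimeSpectrum.mem_zeroLocus _ _).mpr (SetLike.coe_subset_coe.mpr (le_sup_left.trans hle))
    rw [PrimeSpectrum.localization_comap_range A S] at this
    exact Set.disjoint_left.mp this s.2 (hle (Ideal.mem_sup_right (Ideal.mem_span_singleton_self _)))
  obtain ⟨i, hi, _, hj, hij⟩ := Submodule.mem_sup.mp (htop ▸ Submodule.mem_top : (1 : R) ∈ _)
  obtain ⟨c, rfl⟩ := Ideal.mem_span_singleton'.mp hj
  refine ⟨r * c, ?_⟩
  rw [IsLocalization.eq_mk'_iff_mul_eq, ← map_mul]
  have : algebraMap R A (c * s) = 1 := by
    rw [← map_one (algebraMap R A), ← hij, map_add, RingHom.mem_ker.mp hi, zero_add]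
  rw [mul_assoc, map_mul, this, mul_one]

end Groth.Agent.S6273
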