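import Groth.Statements.S6274
import Mathlib
-- import your own Groth.Agent.* helpers here

set_option autoImplicit false
universe u
open CAlg

namespace Groth.Agent.S6274

/-- Let R be a ring, S ⊆ R a multiplicative subset and A = S⁻¹R, and assume the image of Spec(A) →
Spec(R) is closed. If Spec(R) is a Noetherian topological space (which holds when R is Noetherian)
or S is finitely generated as a monoid, then R is isomorphic to A × R' for some ring R', by an
isomorphism whose first component is the localization map R → A. -/
theorem result {R : Type u} [CommRing R] (S : Submonoid R) (A : Type u) [CommRing A] [Algebra R A] [IsLocalization S A] (hcl : IsClosed (Set.range (PrimeSpectrum.comap (algebraMap R A)))) (h : TopologicalSpace.NoetherianSpace (PrimeSpectrum R) ∨ S.FG) : ∃ (R' : Type u) (_ : CommRing R') (e : R ≃+* A × R'), ∀ x : R, (e x).1 = algebraMap R A x := by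
  classical
  rw [PrimeSpectrum.localization_comap_range A S] at hcl
  set U : Set (PrimeSpectrum R) := { p | Disjoint (S : Set R) p.asIdeal } with hU
  have hgen : StableUnderGeneralization U := by
    intro p q hqp hp
    exact Set.disjoint_of_subset_right ((PrimeSpectrum.le_iff_specializes q p).2 hqp) hp
  have hopen : IsOpen U := by
    rcases h with hN | hfg
    · have : Topology.IsConstructible U := by
        rw [← Topology.isConstructible_compl]
        exact (TopologicalSpace.NoetherianSpace.isCompact _).isConstructible hcl.isOpen_compl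
      exact PrimeSpectrum.isOpen_of_stableUnderGeneralization_of_isConstructible hgen this
    · obtain ⟨T, hT⟩ := hfg
      have : U = PrimeSpectrum.basicOpen (∏ t ∈ T, t) := by
        ext p
        simp only [hU, Set.mem_ofPred_eq, SetLike.mem_coe, PrimeSpectrum.mem_basicOpen]
        constructor
        · intro hd hmem
          exact Set.disjoint_left.1 hd (S.prod_mem fun t ht => hT ▸ Submonoid.subset_closure ht) hmem
        · intro hn
          have h1 : Submonoid.closure (T : Set R) ≤ p.asIdeal.primeCompl := by
            rw [Submonoid.closure_le]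
            intro t ht htp
            obtain ⟨c, hc⟩ := Finset.dvd_prod_of_mem (fun x => x) ht
            exact hn (by rw [hc]; exact Ideal.mul_mem_right _ _ htp)
          rw [hT] at h1
          exact Set.disjoint_left.2 fun x hx => h1 hx
      rw [this]
      exact PrimeSpectrum.isOpen_basicOpen
  obtain ⟨e, he, hUe⟩ := PrimeSpectrum.exists_idempotent_basicOpen_eq_of_isClopen ⟨hcl, hopen⟩
  have hmem : ∀ p : PrimeSpectrum R, Disjoint (S : Set R) p.asIdeal ↔ e ∉ p.asIdeal := fun p => Set.ext_iff.1 hUe p
  have he1 : algebraMap R A e = 1 := by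
    have hu : IsUnit (algebraMap R A e) := by
      by_contra hnu
      obtain ⟨m, hm, hem⟩ := exists_max_ideal_of_mem_nonunits hnu
      have hd := ((IsLocalization.isPrime_iff_isPrime_disjoint S A m).1 hm.isPrime).2
      exact (hmem ⟨m.comap (algebraMap R A), hm.isPrime.comap _⟩).1 hd hem
    exact hu.mul_right_cancel (show algebraMap R A e * algebraMap R A e = 1 * algebraMap R A e by rw [← map_mul, he.eq, one_mul])
  let Q := R ⧸ Ideal.span {1 - e}
  have hQu : ∀ s : S, IsUnit (Ideal.Quotient.mk (Ideal.span {1 - e}) (s : R)) := by
    intro s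
    by_contra hnu
    obtain ⟨m, hm, hsm⟩ := exists_max_ideal_of_mem_nonunits hnu
    have hm' := hm.isPrime.comap (Ideal.Quotient.mk (Ideal.span {1 - e}))
    have h1e : 1 - e ∈ m.comap (Ideal.Quotient.mk (Ideal.span {1 - e})) := by
      rw [Ideal.mem_comap, Ideal.Quotient.eq_zero_iff_mem.2 (Ideal.mem_span_singleton_self _)]
      exact zero_mem _
    have hne : e ∉ m.comap (Ideal.Quotient.mk (Ideal.span {1 - e})) := fun h2 =>
      hm'.ne_top ((Ideal.eq_top_iff_one _).2 (by simpa using add_mem h1e h2))
    exact Set.disjoint_left.1 ((hmem ⟨_, hm'⟩).2 hne) s.2 hsm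
  let φ : A →+* Q := IsLocalization.lift hQu
  let ψ : Q →+* A := Ideal.Quotient.lift _ (algebraMap R A) (fun x hx => by
    obtain ⟨c, rfl⟩ := Ideal.mem_span_singleton.1 hx
    simp [he1])
  let E : Q ≃+* A := RingEquiv.ofRingHom ψ φ
    (IsLocalization.ringHom_ext S (by ext x; simp [ψ, φ, Q]))
    (Ideal.Quotient.ringHom_ext (by ext x; simp [ψ, φ, Q]))
  let P := (AlgEquiv.prodQuotientOfIsIdempotentElem (R := R) he.one_sub he (by ring)
    (by rw [sub_mul, one_mul, he.eq, sub_self])).toRingEquiv
  exact ⟨R ⧸ Ideal.span {e}, inferInstance, P.trans (E.prodCongr (RingEquiv.refl _)), fun x => rfl⟩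

end Groth.Agent.S6274
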