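import Groth.Statements.S6275
import Mathlib

set_option autoImplicit false
universe u
open CAlg

namespace Groth.Agent.S6275

/-- Let R be a Noetherian ring and p ⊆ R a prime. Then there is f ∈ R, f ∉ p, such that R_f → R_p is
injective; equivalently every x ∈ R mapping to zero in R_p maps to zero in R_f. (The cases of a
domain and of a reduced ring with finitely many minimal primes are not included here.) -/
theorem result {R : Type u} [CommRing R] [IsNoetherianRing R] (p : Ideal R) [p.IsPrime] : ∃ f : R, f ∉ p ∧ ∀ x : R, algebraMap R (Localization.AtPrime p) x = 0 → algebraMap R (Localization.Away f) x = 0 := by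
  let K : Ideal R := RingHom.ker (algebraMap R (Localization.AtPrime p))
  haveI : Module.Finite R K := Module.Finite.iff_fg.2 (IsNoetherian.noetherian K)
  haveI : Subsingleton (LocalizedModule p.primeCompl K) := LocalizedModule.subsingleton_iff.2
    fun m => by
      obtain ⟨s, hs⟩ := (IsLocalization.map_eq_zero_iff p.primeCompl _ (m : R)).1 m.2
      exact ⟨s, s.2, Subtype.ext hs⟩
  obtain ⟨f, hf, hs⟩ := LocalizedModule.exists_subsingleton_away (M := K) p
  refine ⟨f, hf, fun x hx => ?_⟩
  obtain ⟨r, hr, hrx⟩ := LocalizedModule.subsingleton_iff.1 hs ⟨x, hx⟩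
  exact (IsLocalization.map_eq_zero_iff (Submonoid.powers f) _ x).2
    ⟨⟨r, hr⟩, congrArg Subtype.val hrx⟩

end Groth.Agent.S6275
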