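import Groth.Statements.S6281
import Mathlib

set_option autoImplicit false
universe u
open CAlg

open scoped TensorProduct

namespace Groth.Agent.S6281

/-- For an R-algebra S and an S-module M, flatness of S over R follows once M is both flat over R and
faithfully flat over S. -/
theorem result {R S : Type u} [CommRing R] [CommRing S] [Algebra R S] (M : Type u) [AddCommGroup M] [Module S M] [Module R M] [IsScalarTower R S M] [Module.Flat R M] [Module.FaithfullyFlat S M] : Module.Flat R S := by
  refine Module.Flat.iff_lTensor_preserves_injective_linearMap.2 fun N N' _ _ _ _ g hg => ?_
  rw [← TensorProduct.AlgebraTensorModule.coe_lTensor (A := S) g,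
    ← Module.FaithfullyFlat.lTensor_injective_iff_injective S M]
  have key : (TensorProduct.AlgebraTensorModule.cancelBaseChange R S S M N').toLinearMap.restrictScalars R ∘ₗ
      (((TensorProduct.AlgebraTensorModule.lTensor S S g).lTensor M).restrictScalars R) =
      (g.lTensor M) ∘ₗ
        (TensorProduct.AlgebraTensorModule.cancelBaseChange R S S M N).toLinearMap.restrictScalars R := by
    refine LinearMap.ext fun z => ?_
    induction z with
    | zero => simp
    | add x y hx hy => simp only [map_add, hx, hy]
    | tmul m w =>
      induction w with
      | zero => simp
      | add x y hx hy => simp only [TensorProduct.tmul_add, map_add, hx, hy]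
      | tmul a n => simp
  intro x y hxy
  refine (TensorProduct.AlgebraTensorModule.cancelBaseChange R S S M N).injective
    (Module.Flat.lTensor_preserves_injective_linearMap (M := M) g hg ?_)
  have hx := LinearMap.congr_fun key x
  have hy := LinearMap.congr_fun key y
  simp only [LinearMap.comp_apply, LinearMap.coe_restrictScalars, LinearEquiv.coe_coe] at hx hy
  rw [← hx, ← hy, hxy]

end Groth.Agent.S6281
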