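import Mathlib
import Groth.Statements.S6282
-- import your own Groth.Agent.* helpers here

set_option autoImplicit false
universe u
open scoped TensorProduct
open CAlg

namespace Groth.Agent.S6282

/-- Let S → S' be a homomorphism of R-algebras, M an S-module, and M' = S' ⊗_S M with its induced
R-module structure. (1) When S' is flat over S, R-flatness of M passes to M'. (2) When S' is
faithfully flat over S, M is R-flat exactly when M' is. -/
theorem result {R S S' : Type u} [CommRing R] [CommRing S] [CommRing S'] [Algebra R S] [Algebra R S'] [Algebra S S'] [IsScalarTower R S S'] (M : Type u) [AddCommGroup M] [Module S M] [Module R M] [IsScalarTower R S M] : ([Module.Flat S S'] → Module.Flat R M → Module.Flat R (S' ⊗[S] M)) ∧ ([Module.FaithfullyFlat S S'] → (Module.Flat R M ↔ Module.Flat R (S' ⊗[S] M))) := by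
  have e : ∀ {N N' : Type u} [AddCommGroup N] [AddCommGroup N'] [Module R N] [Module R N'] (f : N →ₗ[R] N'),
      Function.Injective (f.lTensor (S' ⊗[S] M)) ↔
        Function.Injective ((TensorProduct.AlgebraTensorModule.lTensor S M f).lTensor S') := fun {N N'} _ _ _ _ f => by
    let a := TensorProduct.AlgebraTensorModule.assoc R S S S' M N
    let a' := TensorProduct.AlgebraTensorModule.assoc R S S S' M N'
    have : ∀ z, a' (f.lTensor (S' ⊗[S] M) z) = (TensorProduct.AlgebraTensorModule.lTensor S M f).lTensor S' (a z) := fun z => by
      induction z with
      | zero => simp
      | tmul t n =>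
        induction t with
        | zero => simp
        | tmul s m => simp [a, a']
        | add x y hx hy => simp_all [TensorProduct.add_tmul]
      | add x y hx hy => simp_all
    constructor
    · intro h x y hxy
      apply a.symm.injective
      apply h
      apply a'.injective
      simpa [this] using hxy
    · intro h x y hxy
      apply a.injective
      apply h
      rw [← this, ← this, hxy]
  constructor
  · intro _ hM
    rw [Module.Flat.iff_lTensor_preserves_injective_linearMap]
    intro N N' _ _ _ _ f hf
    exact (e f).mpr (Module.Flat.lTensor_preserves_injective_linearMap _ (Module.Flat.lTensor_preserves_injective_linearMap f hf))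
  · intro _
    rw [Module.Flat.iff_lTensor_preserves_injective_linearMap, Module.Flat.iff_lTensor_preserves_injective_linearMap]
    refine forall_congr' fun N => forall_congr' fun N' => ?_
    constructor <;> intro h _ _ _ _ f hf
    · exact (e f).mpr (Module.Flat.lTensor_preserves_injective_linearMap _ (h f hf))
    · exact (Module.FaithfullyFlat.lTensor_injective_iff_injective S S' _).mp ((e f).mp (h f hf))

end Groth.Agent.S6282
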