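import Mathlib
import Groth.Statements.S6283
-- import your own Groth.Agent.* helpers here

set_option autoImplicit false
universe u
open scoped TensorProduct
open CAlg

namespace Groth.Agent.S6283

/-- Let R → S be a flat ring map, M an R-module and m ∈ M. Then Ann_R(m)S = Ann_S(1 ⊗ m), the
annihilator in S of the element 1 ⊗ m of S ⊗_R M. If moreover M is a finite R-module then Ann_R(M)S
= Ann_S(S ⊗_R M). -/
theorem result {R S : Type u} [CommRing R] [CommRing S] [Algebra R S] [Module.Flat R S] (M : Type u) [AddCommGroup M] [Module R M] : (∀ m : M, ((Submodule.span R {m}).annihilator).map (algebraMap R S) = (Submodule.span S {(1 : S) ⊗ₜ[R] m}).annihilator) ∧ (Module.Finite R M → (Module.annihilator R M).map (algebraMap R S) = Module.annihilator S (S ⊗[R] M)) := by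
  have key : ∀ {N : Type u} [AddCommGroup N] [Module R N] (ev : R →ₗ[R] N) (s : S),
      s ⊗ₜ[R] ev 1 = 0 → s ∈ Ideal.map (algebraMap R S) (LinearMap.ker ev) := fun {N} _ _ ev s hs => by
    obtain ⟨t, ht⟩ := ((Module.Flat.lTensor_exact S (LinearMap.exact_subtype_ker_map ev)) (s ⊗ₜ[R] 1)).mp (by simpa using hs)
    have : ∀ t : TensorProduct R S (LinearMap.ker ev),
        TensorProduct.rid R S ((LinearMap.ker ev).subtype.lTensor S t) ∈ Ideal.map (algebraMap R S) (LinearMap.ker ev) := fun t => by
      induction t with
      | zero => simp
      | tmul a r =>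
        simp only [LinearMap.lTensor_tmul, Submodule.subtype_apply, TensorProduct.rid_tmul, Algebra.smul_def]
        exact Ideal.mul_mem_right _ _ (Ideal.mem_map_of_mem _ r.2)
      | add a b ha hb => simpa using add_mem ha hb
    simpa [ht] using this t
  refine ⟨fun m => le_antisymm (Ideal.map_le_iff_le_comap.mpr fun r hr => ?_) fun s hs => ?_, fun _ => le_antisymm (Ideal.map_le_iff_le_comap.mpr fun r hr => ?_) fun s hs => ?_⟩
  · rw [Ideal.mem_comap, Submodule.mem_annihilator_span_singleton, algebraMap_smul, TensorProduct.smul_tmul',
      TensorProduct.smul_tmul, (Submodule.mem_annihilator_span_singleton _ _).mp hr, TensorProduct.tmul_zero]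
  · have := key (LinearMap.toSpanSingleton R M m) s (by
      rw [Submodule.mem_annihilator_span_singleton, TensorProduct.smul_tmul', smul_eq_mul, mul_one] at hs
      simpa using hs)
    convert this using 2
    ext r
    simp [Submodule.mem_annihilator_span_singleton]
  · rw [Ideal.mem_comap, Module.mem_annihilator]
    intro t
    rw [algebraMap_smul]
    induction t with
    | zero => simp
    | tmul a m => rw [TensorProduct.smul_tmul', TensorProduct.smul_tmul, Module.mem_annihilator.mp hr, TensorProduct.tmul_zero]
    | add a b ha hb => simp [ha, hb]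
  · classical
    obtain ⟨n, v, hv⟩ := Module.Finite.exists_fin (R := R) (M := M)
    have := key (LinearMap.toSpanSingleton R (Fin n → M) v) s (by
      apply (TensorProduct.piRight R R S (fun _ : Fin n => M)).injective
      funext i
      have := Module.mem_annihilator.mp hs ((1 : S) ⊗ₜ[R] v i)
      rw [TensorProduct.smul_tmul', smul_eq_mul, mul_one] at this
      simpa using this)
    convert this using 2
    ext r
    simp only [LinearMap.mem_ker, LinearMap.toSpanSingleton_apply, funext_iff, Pi.smul_apply, Pi.zero_apply]
    rw [← Submodule.annihilator_top, ← hv, Submodule.mem_annihilator_span]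
    simp

end Groth.Agent.S6283
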