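import Mathlib
import Groth.Statements.S6286
-- import your own Groth.Agent.* helpers here

set_option autoImplicit false
universe u
open scoped TensorProduct
open CAlg

namespace Groth.Agent.S6286

open scoped TensorProduct

/-- Let k be a field, R and S k-algebras, S' ⊆ S a k-subalgebra and f ∈ R ⊗ₖ S', with image f again in R
⊗ₖ S. Then the images in Spec(R) of Spec((R ⊗ₖ S)_f) and of Spec((R ⊗ₖ S')_f) coincide: a prime p of
R is the contraction of a prime of R ⊗ₖ S not containing f if and only if it is the contraction of a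
prime of R ⊗ₖ S' not containing f. -/
theorem result (k : Type u) [Field k] (R S : Type u) [CommRing R] [Algebra k R] [CommRing S] [Algebra k S] (S' : Subalgebra k S) (f : R ⊗[k] S') (p : PrimeSpectrum R) : (∃ q : PrimeSpectrum (R ⊗[k] S), Algebra.TensorProduct.map (AlgHom.id k R) S'.val f ∉ q.asIdeal ∧ q.asIdeal.comap (algebraMap R (R ⊗[k] S)) = p.asIdeal) ↔ (∃ q' : PrimeSpectrum (R ⊗[k] S'), f ∉ q'.asIdeal ∧ q'.asIdeal.comap (algebraMap R (R ⊗[k] S')) = p.asIdeal) := by
  classical
  let g := Algebra.TensorProduct.map (AlgHom.id k R) S'.val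
  constructor
  · rintro ⟨q, hfq, hqp⟩
    refine ⟨⟨q.asIdeal.comap g, inferInstance⟩, hfq, ?_⟩
    rw [← hqp]
    ext r
    simp [g, Ideal.mem_comap, Algebra.TensorProduct.algebraMap_apply]
  · rintro ⟨q', hfq, hqp⟩
    let κ := p.asIdeal.ResidueField
    let ρ : R →ₐ[k] κ := IsScalarTower.toAlgHom k R κ
    let gS := Algebra.TensorProduct.map ρ (AlgHom.id k S)
    let gS' := Algebra.TensorProduct.map ρ (AlgHom.id k S')
    let i : κ ⊗[k] S' →ₐ[k] κ ⊗[k] S := Algebra.TensorProduct.map (AlgHom.id k κ) S'.val
    have hi : Function.Injective i := Module.Flat.lTensor_preserves_injective_linearMap (M := κ) S'.val.toLinearMap Subtype.val_injective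
    have hcomm : ∀ z, i (gS' z) = gS (g z) := fun z => by
      induction z using TensorProduct.induction_on with
      | zero => simp
      | tmul a b => simp [i, gS, gS', g]
      | add a b ha hb => simp only [map_add, ha, hb]
    let Q := (R ⊗[k] S') ⧸ q'.asIdeal
    let F := FractionRing Q
    let π : R ⊗[k] S' →ₐ[k] F := (IsScalarTower.toAlgHom k Q F).comp (Ideal.Quotient.mkₐ k q'.asIdeal)
    have hker : ∀ z, π z = 0 ↔ z ∈ q'.asIdeal := fun z => by
      rw [← Ideal.Quotient.eq_zero_iff_mem]
      exact map_eq_zero_iff _ (IsFractionRing.injective Q F)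
    let πR : R →ₐ[k] F := π.comp Algebra.TensorProduct.includeLeft
    have hπR : p.asIdeal ≤ RingHom.ker πR.toRingHom := fun r hr => (hker _).2 (by rw [← hqp] at hr; exact hr)
    have hπR' : ∀ r : p.asIdeal.primeCompl, IsUnit (πR r) := fun r => by
      exact isUnit_iff_ne_zero.2 fun h => r.2 (hqp.le ((hker _).1 h))
    let πκ : κ →+* F := Ideal.ResidueField.lift p.asIdeal πR.toRingHom hπR fun r hr => hπR' ⟨r, hr⟩
    have hπκ : ∀ r, πκ (ρ r) = πR r := fun r => Ideal.ResidueField.lift_algebraMap (I := p.asIdeal) _ _ _ r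
    let πκ' : κ →ₐ[k] F := AlgHom.mk πκ fun c => by
      show πκ (algebraMap k κ c) = _
      rw [IsScalarTower.algebraMap_apply k R κ]
      show πκ (ρ (algebraMap k R c)) = _
      rw [hπκ]
      exact AlgHom.commutes πR c
    let Lκ : κ ⊗[k] S' →ₐ[k] F := Algebra.TensorProduct.lift πκ' (π.comp Algebra.TensorProduct.includeRight) fun _ _ => Commute.all _ _
    have hL : ∀ z, Lκ (gS' z) = π z := fun z => by
      induction z using TensorProduct.induction_on with
      | zero => simp
      | add a b ha hb => simp only [map_add, ha, hb]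
      | tmul a b =>
        simp only [gS', Algebra.TensorProduct.map_tmul, Lκ, Algebra.TensorProduct.lift_tmul, AlgHom.id_apply]
        show πκ (ρ a) * _ = _
        rw [hπκ]
        simp only [πR, AlgHom.comp_apply, Algebra.TensorProduct.includeLeft_apply, Algebra.TensorProduct.includeRight_apply]
        rw [← map_mul, Algebra.TensorProduct.tmul_mul_tmul, mul_one, one_mul]
    have hnil : ¬ IsNilpotent (gS (g f)) := by
      rw [← hcomm, IsNilpotent.map_iff hi]
      intro h
      have := h.map Lκ
      rw [hL, isNilpotent_iff_eq_zero, hker] at this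
      exact hfq this
    rw [nilpotent_iff_mem_prime] at hnil
    push Not at hnil
    obtain ⟨W, hW, hfW⟩ := hnil
    refine ⟨⟨W.comap gS, inferInstance⟩, hfW, ?_⟩
    have h1 : (W.comap (Algebra.TensorProduct.includeLeftRingHom : κ →+* κ ⊗[k] S)) = ⊥ :=
      (Ideal.eq_bot_or_top _).resolve_right (hW.comap _).ne_top
    ext r
    show gS (r ⊗ₜ[k] 1) ∈ W ↔ _
    simp only [gS, Algebra.TensorProduct.map_tmul, map_one]
    show ρ r ∈ W.comap (Algebra.TensorProduct.includeLeftRingHom : κ →+* κ ⊗[k] S) ↔ _
    rw [h1, Ideal.mem_bot]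
    exact Ideal.algebraMap_residueField_eq_zero

end Groth.Agent.S6286
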