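import Mathlib
import Groth.Statements.S6287
-- import your own Groth.Agent.* helpers here

set_option autoImplicit false
universe u
open CAlg

namespace Groth.Agent.S6287

/-- Let (A_i) be a directed system of valuation rings. Then the colimit A = colim A_i is a valuation
ring (in particular a domain). -/
theorem result {ι : Type u} [Preorder ι] [Nonempty ι] [IsDirected ι (· ≤ ·)] (G : ι → Type u) [∀ i, CommRing (G i)] [∀ i, IsDomain (G i)] [∀ i, ValuationRing (G i)] (f : ∀ i j, i ≤ j → G i →+* G j) [DirectedSystem G fun i j h => f i j h] : ∃ _ : IsDomain (Ring.DirectLimit G fun i j h => f i j h), ValuationRing (Ring.DirectLimit G fun i j h => f i j h) := by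
  let L := Ring.DirectLimit G fun i j h => f i j h
  let of := Ring.DirectLimit.of G (fun i j h => f i j h)
  haveI : Nontrivial L := ⟨0, 1, fun h => by
    obtain ⟨i⟩ := ‹Nonempty ι›
    have h1 : of i 1 = 0 := by rw [map_one]; exact h.symm
    obtain ⟨j, hij, hj⟩ := Ring.DirectLimit.of.zero_exact h1
    simp at hj⟩
  have lift2 : ∀ x y : L, ∃ (j : ι) (a b : G j), of j a = x ∧ of j b = y := fun x y => by
    obtain ⟨i, a, rfl⟩ := Ring.DirectLimit.exists_of x
    obtain ⟨i', b, rfl⟩ := Ring.DirectLimit.exists_of y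
    obtain ⟨j, hj, hj'⟩ := directed_of (· ≤ ·) i i'
    exact ⟨j, f i j hj a, f i' j hj' b, Ring.DirectLimit.of_f _ _, Ring.DirectLimit.of_f _ _⟩
  haveI : NoZeroDivisors L := ⟨fun {x y} h => by
    obtain ⟨j, a, b, rfl, rfl⟩ := lift2 x y
    rw [← map_mul] at h
    obtain ⟨k, hjk, hk⟩ := Ring.DirectLimit.of.zero_exact h
    rw [map_mul, mul_eq_zero] at hk
    rcases hk with hk | hk
    · exact Or.inl (by rw [← Ring.DirectLimit.of_f (G := G) (f := fun i j h => f i j h) hjk a, hk, map_zero])
    · exact Or.inr (by rw [← Ring.DirectLimit.of_f (G := G) (f := fun i j h => f i j h) hjk b, hk, map_zero])⟩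
  haveI hD : IsDomain L := NoZeroDivisors.to_isDomain L
  refine ⟨hD, { cond' := fun x y => ?_ }⟩
  obtain ⟨j, a, b, rfl, rfl⟩ := lift2 x y
  obtain ⟨c, hc | hc⟩ := PreValuationRing.cond a b
  · exact ⟨of j c, Or.inl (by rw [← map_mul, hc])⟩
  · exact ⟨of j c, Or.inr (by rw [← map_mul, hc])⟩

end Groth.Agent.S6287
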