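import Groth.Statements.S6288
import Mathlib

set_option autoImplicit false
universe u
open CAlg

namespace Groth.Agent.S6288

/-- Let L/K be an algebraic extension of fields and B ⊆ L a valuation ring with fraction field L which
is not a field. Then A = K ∩ B is a valuation ring of K (automatic) which is again not a field, i.e.
A ≠ K. -/
theorem result (K L : Type u) [Field K] [Field L] [Algebra K L] [Algebra.IsAlgebraic K L] (B : ValuationSubring L) (hB : B ≠ ⊤) : B.comap (algebraMap K L) ≠ ⊤ := by
  intro h
  refine hB (eq_top_iff.2 fun x _ => ?_)
  let ψ : K →+* B := (algebraMap K L).codRestrict B fun k => by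
    have : k ∈ B.comap (algebraMap K L) := by rw [h]; trivial
    exact this
  letI := ψ.toAlgebra
  haveI : IsScalarTower K B L := IsScalarTower.of_algebraMap_eq fun k => rfl
  have hx : IsIntegral B x := (Algebra.IsIntegral.isIntegral (R := K) x).tower_top
  obtain ⟨y, hy⟩ := IsIntegrallyClosed.isIntegral_iff.1 hx
  exact hy ▸ y.2

end Groth.Agent.S6288
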