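import Mathlib
import Groth.Statements.S6289
-- import your own Groth.Agent.* helpers here

set_option autoImplicit false
universe u
open CAlg

namespace Groth.Agent.S6289

/-- Let A' be a valuation ring with residue field K and A ⊆ K a valuation ring with fraction field K.
Then the subring C of A' consisting of the elements whose residue class lies in A is a valuation
ring. -/
theorem result (A' : Type u) [CommRing A'] [IsDomain A'] [ValuationRing A'] (A : ValuationSubring (IsLocalRing.ResidueField A')) : ValuationRing (A.toSubring.comap (IsLocalRing.residue A')) := by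
  set C := A.toSubring.comap (IsLocalRing.residue A')
  have key : ∀ a : A', a ∈ C ∨ ∃ b : A', a * b = 1 ∧ b ∈ C := fun a => by
    by_cases ha : IsUnit a
    · rcases A.mem_or_inv_mem (IsLocalRing.residue A' a) with h | h
      · exact Or.inl h
      · obtain ⟨w, rfl⟩ := ha
        refine Or.inr ⟨↑w⁻¹, w.mul_inv, ?_⟩
        show IsLocalRing.residue A' ↑w⁻¹ ∈ A.toSubring
        rwa [map_units_inv]
    · left
      show IsLocalRing.residue A' a ∈ A.toSubring
      rw [(IsLocalRing.residue_eq_zero_iff a).mpr ha]
      exact A.toSubring.zero_mem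
  refine { cond' := fun x y => ?_ }
  rcases ValuationRing.cond x.1 y.1 with ⟨c, hc | hc⟩
  · rcases key c with h | ⟨b, hb, hbC⟩
    · exact ⟨⟨c, h⟩, Or.inl (Subtype.ext hc)⟩
    · exact ⟨⟨b, hbC⟩, Or.inr (Subtype.ext (by show y.1 * b = x.1; rw [← hc, mul_assoc, hb, mul_one]))⟩
  · rcases key c with h | ⟨b, hb, hbC⟩
    · exact ⟨⟨c, h⟩, Or.inr (Subtype.ext hc)⟩
    · exact ⟨⟨b, hbC⟩, Or.inl (Subtype.ext (by show x.1 * b = y.1; rw [← hc, mul_assoc, hb, mul_one]))⟩

end Groth.Agent.S6289
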