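import Groth.Statements.S6290
import Mathlib

set_option autoImplicit false
universe u
open CAlg

namespace Groth.Agent.S6290

/-- Let R be a Noetherian ring, I ⊆ R an ideal, M a finite R-module and N = ⋂ₙ IⁿM. Then for every prime
p ⊇ I there is f ∈ R, f ∉ p, with N_f = 0, i.e. every element of N is annihilated by some power of
f. -/
theorem result {R : Type u} [CommRing R] [IsNoetherianRing R] (I : Ideal R) (M : Type u) [AddCommGroup M] [Module R M] [Module.Finite R M] (p : Ideal R) [p.IsPrime] (hIp : I ≤ p) : ∃ f : R, f ∉ p ∧ ∀ x ∈ (⨅ n : ℕ, I ^ n • (⊤ : Submodule R M)), ∃ k : ℕ, f ^ k • x = 0 := by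
  let N : Submodule R M := ⨅ n : ℕ, I ^ n • ⊤
  haveI : Module.Finite R N := Module.Finite.iff_fg.2 (IsNoetherian.noetherian N)
  haveI : Subsingleton (LocalizedModule p.primeCompl N) := LocalizedModule.subsingleton_iff.2
    fun m => by
      obtain ⟨r, hr⟩ := (I.mem_iInf_smul_pow_eq_bot_iff (m : M)).1 m.2
      refine ⟨1 - r.1, fun h => (‹p.IsPrime›.ne_top ((Ideal.eq_top_iff_one p).2 ?_)),
        Subtype.ext ?_⟩
      · simpa using Ideal.add_mem _ h (hIp r.2)
      · simp [sub_smul, hr]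
  obtain ⟨f, hf, hs⟩ := LocalizedModule.exists_subsingleton_away (M := N) p
  refine ⟨f, hf, fun x hx => ?_⟩
  obtain ⟨r, ⟨k, rfl⟩, hrx⟩ := LocalizedModule.subsingleton_iff.1 hs ⟨x, hx⟩
  exact ⟨k, congrArg Subtype.val hrx⟩

end Groth.Agent.S6290
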