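import Mathlib
import Groth.Statements.S6292
-- import your own Groth.Agent.* helpers here

set_option autoImplicit false
universe u
open CAlg

namespace Groth.Agent.S6292

/-- Let R be a ring and m ⊆ R a finitely generated maximal ideal (for instance R Noetherian). If M is a
finite R-module with mⁿM = 0 for some n, then M has finite length. -/
theorem result {R : Type u} [CommRing R] (m : Ideal R) [m.IsMaximal] (hm : m.FG) (M : Type u) [AddCommGroup M] [Module R M] [Module.Finite R M] (n : ℕ) (hn : m ^ n • (⊤ : Submodule R M) = ⊥) : IsFiniteLength R M := by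
  by_cases hn0 : n = 0
  · subst hn0
    have : Subsingleton M := by
      rw [pow_zero, Ideal.one_eq_top, Submodule.top_smul] at hn
      exact (Submodule.subsingleton_iff R).mp (subsingleton_of_top_le_bot hn.le)
    exact IsFiniteLength.of_subsingleton
  let Q := R ⧸ m ^ n
  have hprime : ∀ P : Ideal Q, P.IsPrime → P = m.map (Ideal.Quotient.mk _) := fun P hP => by
    have h1 : m ^ n ≤ P.comap (Ideal.Quotient.mk (m ^ n)) := fun x hx => by
      rw [Ideal.mem_comap, Ideal.Quotient.eq_zero_iff_mem.mpr hx]; exact P.zero_mem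
    have h2 := (Ideal.IsMaximal.eq_of_le ‹m.IsMaximal› (hP.comap _).ne_top ((hP.comap _).le_of_pow_le h1))
    exact (Ideal.map_comap_of_surjective _ Ideal.Quotient.mk_surjective P).symm.trans (congrArg (Ideal.map _) h2.symm)
  haveI hNQ : IsNoetherianRing Q := IsNoetherianRing.of_prime fun P hP => hprime P hP ▸ hm.map _
  haveI : Ring.KrullDimLE 0 Q := Ring.KrullDimLE.mk₀ fun P hP => by
    obtain ⟨M', hM', hle⟩ := Ideal.exists_le_maximal P hP.ne_top
    rwa [hprime P hP, ← hprime M' hM'.isPrime]
  haveI hAQ : IsArtinianRing Q := isArtinianRing_iff_isNoetherianRing_krullDimLE_zero.mpr ⟨hNQ, inferInstance⟩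
  let Φ : Submodule R Q → Ideal Q := fun N =>
    { toAddSubmonoid := N.toAddSubmonoid
      smul_mem' := fun c x hx => by
        obtain ⟨r, rfl⟩ := Ideal.Quotient.mk_surjective c
        exact N.smul_mem r hx }
  have hΦ : StrictMono Φ := fun N1 N2 h => h
  haveI : IsNoetherian R Q := isNoetherian_iff'.mpr (StrictMono.wellFoundedGT hΦ)
  haveI : IsArtinian R Q := StrictMono.wellFoundedLT hΦ
  obtain ⟨k, f, hf⟩ := Module.Finite.exists_fin' R M
  have hker : ∀ v, v ∈ m ^ n • (⊤ : Submodule R (Fin k → R)) → f v = 0 := fun v hv => by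
    rw [← Submodule.mem_bot R, ← hn]
    have := Submodule.mem_map_of_mem (f := f) hv
    rw [Submodule.map_smul'', Submodule.map_top, LinearMap.range_eq_top.mpr hf] at this
    exact this
  let π : (Fin k → R) →ₗ[R] (Fin k → Q) := (Algebra.linearMap R Q).compLeft _
  have hπ : Function.Surjective π := fun w => ⟨fun i => (Ideal.Quotient.mk_surjective (w i)).choose, funext fun i => (Ideal.Quotient.mk_surjective (w i)).choose_spec⟩
  have hle : LinearMap.ker π ≤ LinearMap.ker f := fun v hv => hker v (by
    rw [← (Pi.basisFun R (Fin k)).sum_repr v]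
    refine Submodule.sum_mem _ fun i _ => Submodule.smul_mem_smul ?_ Submodule.mem_top
    exact Ideal.Quotient.eq_zero_iff_mem.mp (congrFun hv i))
  let g : (Fin k → Q) →ₗ[R] M := (LinearMap.ker π).liftQ f hle ∘ₗ (π.quotKerEquivOfSurjective hπ).symm.toLinearMap
  have hg : Function.Surjective g := fun y => by
    obtain ⟨v, rfl⟩ := hf y
    exact ⟨π v, by simp [g]⟩
  rw [isFiniteLength_iff_isNoetherian_isArtinian]
  exact ⟨isNoetherian_of_surjective g (LinearMap.range_eq_top.mpr hg), isArtinian_of_surjective _ g hg⟩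

end Groth.Agent.S6292
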