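import Mathlib
import Groth.Statements.S6294
-- import your own Groth.Agent.* helpers here

set_option autoImplicit false
universe u
open CAlg

namespace Groth.Agent.S6294

/-- Let R be a ring with finitely many minimal primes q₁, …, q_t, and assume that the zerodivisors of R
are precisely the elements of q₁ ∪ … ∪ q_t. Then Q(R), the total ring of fractions of R, equals
R_{q₁} × … × R_{q_t}: the diagonal map R → ∏ R_{q_i} is a localization of R at its non-zerodivisors. -/
theorem result {R : Type u} [CommRing R] {ι : Type} [Fintype ι] (q : ι → Ideal R) [∀ i, (q i).IsPrime] (hinj : Function.Injective q) (hmin : ∀ P : Ideal R, P ∈ minimalPrimes R ↔ P ∈ Set.range q) (hzd : ∀ x : R, x ∈ nonZeroDivisors R ↔ ∀ i, x ∉ q i) : IsLocalization (nonZeroDivisors R) (∀ i, Localization.AtPrime (q i)) := by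
  classical
  have hne : ∀ i j, j ≠ i → ∃ e, e ∈ q j ∧ e ∉ q i := by
    intro i j hij
    refine SetLike.not_le_iff_exists.1 fun hle => hij (hinj ?_)
    have hqi : q i ∈ minimalPrimes R := (hmin _).2 ⟨i, rfl⟩
    exact le_antisymm hle (hqi.2 ⟨inferInstance, bot_le⟩ hle)
  choose e he he' using hne
  have hunit : ∀ i (x : R), x ∉ q i → IsUnit (algebraMap R (Localization.AtPrime (q i)) x) :=
    fun i x hx => IsLocalization.map_units _ ⟨x, (show x ∈ (q i).primeCompl from hx)⟩
  have hnil : ∀ i (x : R), x ∈ q i → IsNilpotent (algebraMap R (Localization.AtPrime (q i)) x) := by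
    intro i x hx
    rw [nilpotent_iff_mem_prime]
    intro P hP
    have hqi : q i ∈ minimalPrimes R := (hmin _).2 ⟨i, rfl⟩
    have hPle : P.comap (algebraMap R _) ≤ q i := by
      intro y hy
      by_contra hy'
      exact hP.ne_top (Ideal.eq_top_of_isUnit_mem _ hy (hunit i y hy'))
    exact (hqi.2 ⟨hP.comap _, bot_le⟩ hPle) hx
  let E' : ι → R := fun i => ∏ j ∈ (Finset.univ.erase i).attach, e i j.1 (Finset.ne_of_mem_erase j.2)
  have hE'i : ∀ i, E' i ∉ q i := fun i h => by
    obtain ⟨j, -, hj⟩ := (Ideal.IsPrime.prod_mem_iff).1 h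
    exact he' i j.1 _ hj
  have hE'j : ∀ i j, j ≠ i → E' i ∈ q j := fun i j hij =>
    (Ideal.IsPrime.prod_mem_iff).2 ⟨⟨j, Finset.mem_erase.2 ⟨hij, Finset.mem_univ _⟩⟩, Finset.mem_attach _ _, he i j hij⟩
  choose N hN using fun (i : ι) (j : {j // j ≠ i}) => hnil j.1 (E' i) (hE'j i j.1 j.2)
  let E : ι → R := fun i => E' i ^ ((∑ j, N i j) + 1)
  have hEi : ∀ i, E i ∉ q i := fun i h => hE'i i (Ideal.IsPrime.mem_of_pow_mem inferInstance _ h)
  have hEj : ∀ i j, j ≠ i → algebraMap R (Localization.AtPrime (q j)) (E i) = 0 := by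
    intro i j hij
    rw [map_pow]
    exact pow_eq_zero_of_le ((Finset.single_le_sum (fun _ _ => Nat.zero_le _) (Finset.mem_univ (⟨j, hij⟩ : {j // j ≠ i}))).trans (Nat.le_succ _)) (hN i ⟨j, hij⟩)
  have hsum : ∀ (v : ι → R) i, algebraMap R (Localization.AtPrime (q i)) (∑ j, E j * v j) =
      algebraMap R (Localization.AtPrime (q i)) (E i * v i) := by
    intro v i
    rw [map_sum, Finset.sum_eq_single i]
    · intro j _ hj
      rw [map_mul, hEj j i (Ne.symm hj), zero_mul]
    · simp
  have hnzd : ∀ v : ι → R, (∀ i, v i ∉ q i) → ∑ j, E j * v j ∈ nonZeroDivisors R := by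
    intro v hv
    rw [hzd]
    intro i h
    have hu : IsUnit (algebraMap R (Localization.AtPrime (q i)) (∑ j, E j * v j)) := by
      rw [hsum, map_mul]
      exact (hunit i _ (hEi i)).mul (hunit i _ (hv i))
    exact (hnil i _ h).not_isUnit hu
  rw [isLocalization_iff]
  refine ⟨fun y => ?_, fun z => ?_, fun {x y} hxy => ?_⟩
  · rw [Pi.isUnit_iff]
    exact fun i => hunit i _ ((hzd _).1 y.2 i)
  · choose a ha using fun i => IsLocalization.surj (q i).primeCompl (z i)
    refine ⟨(∑ j, E j * (a j).1, ⟨∑ j, E j * ((a j).2 : R), hnzd _ fun i => (a i).2.2⟩), funext fun i => ?_⟩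
    simp only [Pi.mul_apply, Pi.algebraMap_apply]
    rw [hsum, hsum, map_mul, map_mul, mul_left_comm, ha i]
  · choose c hc using fun i => IsLocalization.exists_of_eq (M := (q i).primeCompl)
      (S := Localization.AtPrime (q i)) (congrFun hxy i)
    refine ⟨⟨∑ j, E j * (c j : R), hnzd _ fun i => (c i).2⟩, ?_⟩
    show (∑ j, E j * (c j : R)) * x = (∑ j, E j * (c j : R)) * y
    rw [Finset.sum_mul, Finset.sum_mul]
    exact Finset.sum_congr rfl fun j _ => by rw [mul_assoc, hc j, mul_assoc]

end Groth.Agent.S6294
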