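import Mathlib
import Groth.Statements.S6295
-- import your own Groth.Agent.* helpers here

set_option autoImplicit false
universe u
open CAlg

namespace Groth.Agent.S6295

/-- Let R be a reduced ring. Then every localization R_p at a minimal prime p is a field and the map R →
∏_{p minimal} R_p is injective (so R is a subring of a product of fields); moreover the set of
zerodivisors of R is the union of the minimal primes. -/
theorem result (R : Type u) [CommRing R] [IsReduced R] : (∀ p : PrimeSpectrum R, p.asIdeal ∈ minimalPrimes R → IsField (Localization.AtPrime p.asIdeal)) ∧ Function.Injective (algebraMap R (∀ p : {p : PrimeSpectrum R // p.asIdeal ∈ minimalPrimes R}, Localization.AtPrime p.1.asIdeal)) ∧ (∀ x : R, x ∉ nonZeroDivisors R ↔ ∃ p ∈ minimalPrimes R, x ∈ p) := by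
  refine ⟨fun p hp => ?_, ?_, fun x => ⟨fun hx => ?_, fun ⟨p, hp, hxp⟩ => notMem_nonZeroDivisors_of_mem_mem_minimalPrimes hxp hp⟩⟩
  · rw [IsLocalRing.isField_iff_maximalIdeal_eq, eq_bot_iff, ← Ideal.zero_eq_bot, ← nilradical_eq_zero (Localization.AtPrime p.asIdeal), nilradical_eq_sInf]
    refine le_sInf fun P (hP : P.IsPrime) => ?_
    have h1 : P.comap (algebraMap R _) ≤ p.asIdeal := by
      exact (Ideal.comap_mono (IsLocalRing.le_maximalIdeal hP.ne_top)).trans
        (IsLocalization.AtPrime.comap_maximalIdeal (Localization.AtPrime p.asIdeal) p.asIdeal).le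
    have h2 := le_antisymm h1 (hp.2 ⟨hP.comap _, bot_le⟩ h1)
    rw [← IsLocalization.map_under p.asIdeal.primeCompl _ P, show P.under R = p.asIdeal from h2,
      IsLocalization.AtPrime.map_eq_maximalIdeal p.asIdeal]
  · rw [injective_iff_map_eq_zero]
    intro x hx
    suffices x ∈ sInf (minimalPrimes R) by
      rw [minimalPrimes, Ideal.sInf_minimalPrimes] at this
      exact IsNilpotent.eq_zero this
    rw [Submodule.mem_sInf]
    intro P hP
    have := congrFun hx ⟨⟨P, hP.1.1⟩, hP⟩
    have hPp : Ideal.IsPrime P := hP.1.1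
    obtain ⟨t, ht⟩ := (IsLocalization.map_eq_zero_iff (Ideal.primeCompl P) (Localization.AtPrime (P := P)) x).mp this
    exact (hP.1.1.mem_or_mem (ht ▸ P.zero_mem : (t : R) * x ∈ P)).resolve_left t.2
  · rw [mem_nonZeroDivisors_iff_right] at hx
    push Not at hx
    obtain ⟨y, hy, hy0⟩ := hx
    by_contra hc
    push Not at hc
    refine hy0 ?_
    suffices y ∈ sInf (minimalPrimes R) by
      rw [minimalPrimes, Ideal.sInf_minimalPrimes] at this
      exact IsNilpotent.eq_zero this
    rw [Submodule.mem_sInf]
    exact fun P hP => (hP.1.1.mem_or_mem (hy ▸ P.zero_mem : y * x ∈ P)).resolve_right (hc P hP)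

end Groth.Agent.S6295
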