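import Mathlib
import Groth.Statements.S6297
-- import your own Groth.Agent.* helpers here

set_option autoImplicit false
universe u
open CAlg

namespace Groth.Agent.S6297

/-- Let R be a ring, m ≤ n, A an n × m matrix over R and J the ideal generated by the m × m minors of A.
(1) For every f ∈ J there is an m × n matrix B with BA = f · 1. (2) If BA = f · 1 for some m × n
matrix B, then f^m ∈ J. -/
theorem result {R : Type u} [CommRing R] {n m : ℕ} (hmn : m ≤ n) (A : Matrix (Fin n) (Fin m) R) : (∀ f ∈ CAlgX.minorIdeal A m, ∃ B : Matrix (Fin m) (Fin n) R, B * A = f • (1 : Matrix (Fin m) (Fin m) R)) ∧ (∀ (f : R) (B : Matrix (Fin m) (Fin n) R), B * A = f • (1 : Matrix (Fin m) (Fin m) R) → f ^ m ∈ CAlgX.minorIdeal A m) := by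
  classical
  constructor
  · intro f hf
    refine Submodule.span_induction ?_ ?_ ?_ ?_ hf
    · rintro _ ⟨⟨g, h⟩, rfl⟩
      let Ag := A.submatrix g id
      let Q := (1 : Matrix (Fin m) (Fin m) R).submatrix id h
      have hQ : A.submatrix g h = Ag * Q := by
        ext i j
        simp [Ag, Q, Matrix.mul_apply, Matrix.one_apply]
      refine ⟨Q.det • (Ag.adjugate * (1 : Matrix (Fin n) (Fin n) R).submatrix g id), ?_⟩
      rw [Matrix.smul_mul, Matrix.mul_assoc]
      have hP : (1 : Matrix (Fin n) (Fin n) R).submatrix g id * A = Ag := by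
        ext i j
        simp [Ag, Matrix.mul_apply, Matrix.one_apply]
      rw [hP, Matrix.adjugate_mul, smul_smul]
      show _ = (A.submatrix g h).det • _
      rw [hQ, Matrix.det_mul, mul_comm]
    · exact ⟨0, by simp⟩
    · rintro x y _ _ ⟨B₁, h₁⟩ ⟨B₂, h₂⟩
      exact ⟨B₁ + B₂, by rw [Matrix.add_mul, h₁, h₂, add_smul]⟩
    · rintro r x _ ⟨B₁, h₁⟩
      exact ⟨r • B₁, by rw [Matrix.smul_mul, h₁, smul_smul, smul_eq_mul]⟩
  · intro f B hB
    have h1 := congrArg Matrix.det hB
    rw [Matrix.det_smul, Matrix.det_one, mul_one, Fintype.card_fin] at h1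
    rw [← h1]
    have hrow : B * A = fun i => ∑ j, B i j • A j := by
      ext i k
      simp [Matrix.mul_apply]
    rw [hrow]
    show Matrix.detRowAlternating.toMultilinearMap (fun i => ∑ j, B i j • A j) ∈ _
    rw [MultilinearMap.map_sum]
    refine Ideal.sum_mem _ fun g _ => ?_
    rw [MultilinearMap.map_smul_univ, smul_eq_mul]
    exact Ideal.mul_mem_left _ _ (Ideal.subset_span ⟨(g, id), rfl⟩)

end Groth.Agent.S6297
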