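import Mathlib
import Groth.Agent.CohenStruct.N2
import Groth.Statements.S6299
-- import your own Groth.Agent.* helpers here

set_option autoImplicit false
universe u
open CAlg

namespace Groth.Agent.S6299

/-- Let R be a Noetherian normal domain. Then the power series ring R[[x]] is a Noetherian normal domain
(here: it is an integrally closed domain and a Noetherian ring). -/
theorem result (R : Type u) [CommRing R] [IsDomain R] [IsNoetherianRing R] [IsIntegrallyClosed R] : IsIntegrallyClosed (PowerSeries R) ∧ IsNoetherianRing (PowerSeries R) := by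
  haveI : IsNoetherianRing (PowerSeries R) := inferInstance
  refine ⟨?_, inferInstance⟩
  haveI : IsDomain (PowerSeries R) := NoZeroDivisors.to_isDomain _
  let e := CohenStruct.quotSpanXEquiv R
  have hd : IsDomain (PowerSeries R ⧸ Ideal.span ({PowerSeries.X} : Set (PowerSeries R))) := MulEquiv.isDomain R e.toMulEquiv
  have hX : Prime (PowerSeries.X : PowerSeries R) :=
    (Ideal.span_singleton_prime PowerSeries.X_ne_zero).mp ((Ideal.Quotient.isDomain_iff_prime _).mp hd)
  have hnorm : IsIntegrallyClosed (PowerSeries R ⧸ Ideal.span ({PowerSeries.X} : Set (PowerSeries R))) :=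
    IsIntegrallyClosed.of_equiv e.symm
  have hjac : (PowerSeries.X : PowerSeries R) ∈ (⊥ : Ideal (PowerSeries R)).jacobson := by
    rw [Ideal.mem_jacobson_bot]
    intro y
    rw [PowerSeries.isUnit_iff_constantCoeff]
    simp
  exact DepthLib.isIntegrallyClosed_iff_isCIC.mpr (DepthLib.isCIC_of_prime hX hjac
    (DepthLib.isIntegrallyClosed_iff_isCIC.mp hnorm))

end Groth.Agent.S6299
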