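import Mathlib
import Groth.Statements.S6301
-- import your own Groth.Agent.* helpers here

set_option autoImplicit false
universe u
open CAlg

namespace Groth.Agent.S6301

/-- An R-module M is flat exactly when, for every finitely presented R-module P and every surjective
R-module map N → M, the induced map Hom_R(P, N) → Hom_R(P, M) is surjective (modules P, N taken in
the same universe). -/
theorem result {R : Type u} [CommRing R] (M : Type u) [AddCommGroup M] [Module R M] : Module.Flat R M ↔ ∀ (P : Type u) [AddCommGroup P] [Module R P], Module.FinitePresentation R P → ∀ (N : Type u) [AddCommGroup N] [Module R N] (g : N →ₗ[R] M), Function.Surjective g → ∀ h : P →ₗ[R] M, ∃ h' : P →ₗ[R] N, g.comp h' = h := by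
  classical
  constructor
  · intro hM P _ _ hP N _ _ g hg h
    obtain ⟨k, a, b, rfl⟩ := Module.Flat.exists_factorization_of_finitePresentation h
    obtain ⟨l, hl⟩ := Module.projective_lifting_property g b hg
    exact ⟨l.comp a, by rw [← LinearMap.comp_assoc, hl]⟩
  · intro h
    refine Module.Flat.of_forall_exists_factorization fun {l f x} hxf => ?_
    let Q := (Fin l →₀ R) ⧸ Submodule.span R ({f} : Set (Fin l →₀ R))
    haveI : Module.FinitePresentation R Q :=
      Module.finitePresentation_of_surjective (Submodule.mkQ _) (Submodule.mkQ_surjective _)
        (by rw [Submodule.ker_mkQ]; exact Submodule.fg_span_singleton f)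
    have hle : Submodule.span R ({f} : Set (Fin l →₀ R)) ≤ LinearMap.ker x := by
      rw [Submodule.span_singleton_le_iff_mem]; exact hxf
    let q : Q →ₗ[R] M := Submodule.liftQ _ x hle
    obtain ⟨h', hh'⟩ := h Q inferInstance (M →₀ R) (Finsupp.linearCombination R id)
      (fun m => ⟨Finsupp.single m 1, (Finsupp.linearCombination_single _ _ _).trans (one_smul _ _)⟩) q
    let a' : (Fin l →₀ R) →ₗ[R] (M →₀ R) := h'.comp (Submodule.mkQ _)
    have hxa : x = (Finsupp.linearCombination R id).comp a' := by
      refine LinearMap.ext fun v => ?_
      have h4 := LinearMap.congr_fun hh' (Submodule.mkQ _ v)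
      show x v = Finsupp.linearCombination R id (h' (Submodule.mkQ _ v))
      exact (h4.trans (Submodule.liftQ_apply _ _ _)).symm
    let s : Finset M := Finset.univ.biUnion fun i => (a' (Finsupp.single i 1)).support
    have hs : ∀ v, a' v ∈ Finsupp.supported R R (s : Set M) := by
      intro v
      induction v using Finsupp.induction_linear with
      | zero => simp
      | add u w hu hw => rw [map_add]; exact add_mem hu hw
      | single i r =>
        rw [← Finsupp.smul_single_one, map_smul]
        refine Submodule.smul_mem _ _ ?_
        rw [Finsupp.mem_supported]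
        exact Finset.coe_subset.2 (Finset.subset_biUnion_of_mem (fun i => (a' (Finsupp.single i 1)).support) (Finset.mem_univ i))
    let e : Finsupp.supported R R (s : Set M) ≃ₗ[R] (Fin s.card →₀ R) :=
      (Finsupp.supportedEquivFinsupp _).trans (Finsupp.domLCongr s.equivFin)
    refine ⟨s.card, e.toLinearMap.comp (a'.codRestrict _ hs),
      (Finsupp.linearCombination R id).comp ((Finsupp.supported R R (s : Set M)).subtype.comp e.symm.toLinearMap), ?_, ?_⟩
    · rw [hxa]
      refine LinearMap.ext fun v => ?_
      simp
    · have h0 : a' f = 0 := by
        have : Submodule.mkQ (Submodule.span R ({f} : Set (Fin l →₀ R))) f = 0 :=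
          (Submodule.Quotient.mk_eq_zero _).2 (Submodule.mem_span_singleton_self f)
        simp only [a', LinearMap.comp_apply, this, map_zero]
      have : a'.codRestrict _ hs f = 0 := Subtype.ext h0
      rw [LinearMap.comp_apply, this, map_zero]

end Groth.Agent.S6301
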