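import Mathlib
import Groth.Statements.S6303
-- import your own Groth.Agent.* helpers here

set_option autoImplicit false
universe u
open CAlg

namespace Groth.Agent.S6303

/-- Let R be a ring, I, J ⊆ R ideals and M a flat R-module. Then IM ∩ JM = (I ∩ J)M. -/
theorem result {R : Type u} [CommRing R] (I J : Ideal R) (M : Type u) [AddCommGroup M] [Module R M] [Module.Flat R M] : (I • (⊤ : Submodule R M)) ⊓ (J • ⊤) = (I ⊓ J) • (⊤ : Submodule R M) := by
  refine le_antisymm ?_ (le_inf (Submodule.smul_mono_left inf_le_left) (Submodule.smul_mono_left inf_le_right))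
  rintro m ⟨hI, hJ⟩
  let f : R →ₗ[R] (R ⧸ I) × (R ⧸ J) := (Submodule.mkQ I).prod (Submodule.mkQ J)
  have hex : Function.Exact (I ⊓ J : Ideal R).subtype f := fun r => by
    simp [f, Ideal.Quotient.eq_zero_iff_mem]
  have z : ∀ (K : Ideal R) (m : M), m ∈ K • (⊤ : Submodule R M) → m ⊗ₜ[R] (Submodule.mkQ K 1) = 0 := fun K m hm => by
    induction hm using Submodule.smul_induction_on' with
    | smul r hr n _ =>
      rw [TensorProduct.smul_tmul, ← map_smul, smul_eq_mul, mul_one, Submodule.mkQ_apply,
        (Submodule.Quotient.mk_eq_zero K).mpr hr, TensorProduct.tmul_zero]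
    | add a _ b _ ha hb => rw [TensorProduct.add_tmul, ha, hb, add_zero]
  obtain ⟨t, ht⟩ := ((Module.Flat.lTensor_exact M hex) (m ⊗ₜ[R] 1)).mp (by
    apply (TensorProduct.prodRight R R M (R ⧸ I) (R ⧸ J)).injective
    rw [LinearMap.lTensor_tmul, TensorProduct.prodRight_tmul, map_zero]
    exact Prod.ext (z I m hI) (z J m hJ))
  have : ∀ t : TensorProduct R M (I ⊓ J : Ideal R), TensorProduct.rid R M ((I ⊓ J : Ideal R).subtype.lTensor M t) ∈ (I ⊓ J) • (⊤ : Submodule R M) := fun t => by
    induction t with
    | zero => simp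
    | tmul a r => simpa using Submodule.smul_mem_smul r.2 Submodule.mem_top
    | add a b ha hb => simpa using add_mem ha hb
  simpa [ht] using this t

end Groth.Agent.S6303
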