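import Groth.Statements.S6304
import Mathlib

set_option autoImplicit false
universe u
open CAlg

open scoped TensorProduct

namespace Groth.Agent.S6304

/-- In a short exact sequence 0 → M' → M → M'' → 0 of R-modules whose right-hand term M'' is flat, the
middle term M is flat when M' is, and M' is flat when M is. -/
theorem result {R : Type u} [CommRing R] {M' M M'' : Type u} [AddCommGroup M'] [Module R M'] [AddCommGroup M] [Module R M] [AddCommGroup M''] [Module R M''] (f : M' →ₗ[R] M) (g : M →ₗ[R] M'') (hf : Function.Injective f) (hexact : Function.Exact f g) (hg : Function.Surjective g) [Module.Flat R M''] : (Module.Flat R M' → Module.Flat R M) ∧ (Module.Flat R M → Module.Flat R M') := by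
  have hinj : ∀ (A : Type u) [AddCommGroup A] [Module R A], Function.Injective (f.lTensor A) :=
    fun A _ _ => LinearMap.lTensor_injective_of_exact_of_flat g hg f hf hexact A
  have comm : ∀ {X N N' : Type u} [AddCommGroup X] [Module R X] [AddCommGroup N] [Module R N]
      [AddCommGroup N'] [Module R N'] (h : N →ₗ[R] N') {Y : Type u} [AddCommGroup Y] [Module R Y]
      (k : X →ₗ[R] Y) (z : N ⊗[R] X),
      h.rTensor Y (k.lTensor N z) = k.lTensor N' (h.rTensor X z) := fun h _ _ _ k z => by
    rw [← LinearMap.comp_apply, ← LinearMap.comp_apply, LinearMap.rTensor_comp_lTensor,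
      LinearMap.lTensor_comp_rTensor]
  refine ⟨fun _ => ?_, fun _ => ?_⟩
  · refine Module.Flat.iff_rTensor_preserves_injective_linearMap.2 fun N N' _ _ _ _ h hh => ?_
    rw [injective_iff_map_eq_zero]
    intro z hz
    have h1 : g.lTensor N z = 0 := by
      refine Module.Flat.rTensor_preserves_injective_linearMap (M := M'') h hh ?_
      rw [comm, hz, map_zero, map_zero]
    obtain ⟨w, rfl⟩ := (lTensor_exact N hexact hg z).1 h1
    rw [comm, ← (f.lTensor N').map_zero] at hz
    rw [← map_zero (h.rTensor M')] at hz
    rw [Module.Flat.rTensor_preserves_injective_linearMap (M := M') h hh (hinj N' hz), map_zero]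
  · refine Module.Flat.iff_rTensor_preserves_injective_linearMap.2 fun N N' _ _ _ _ h hh x y hxy => ?_
    refine hinj N (Module.Flat.rTensor_preserves_injective_linearMap (M := M) h hh ?_)
    rw [comm, comm, hxy]

end Groth.Agent.S6304
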