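import Groth.Statements.S6306
import Mathlib

set_option autoImplicit false
universe u
open CAlg

namespace Groth.Agent.S6306

/-- Let R be a nonzero ring such that every nonzero prime ideal of R contains a non-zerodivisor. Then R
is a domain. -/
theorem result (R : Type u) [CommRing R] [Nontrivial R] (h : ∀ p : Ideal R, p.IsPrime → p ≠ ⊥ → ∃ x ∈ p, x ∈ nonZeroDivisors R) : IsDomain R := by
  refine @NoZeroDivisors.to_isDomain R _ _ ⟨fun {x y} hxy => ?_⟩
  by_contra hh
  rw [not_or] at hh
  have hd : Disjoint ((LinearMap.ker (LinearMap.mulLeft R x) : Ideal R) : Set R)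
      (nonZeroDivisors R : Set R) := by
    rw [Set.disjoint_left]
    intro r (hr : x * r = 0) hr'
    exact hh.1 ((mul_right_mem_nonZeroDivisors_eq_zero_iff hr').1 hr)
  obtain ⟨q, hq, hle, hdis⟩ := Ideal.exists_le_prime_disjoint _ _ hd
  by_cases hq0 : q = ⊥
  · exact hh.2 (by simpa [hq0] using hle (show y ∈ LinearMap.ker (LinearMap.mulLeft R x) from hxy))
  · obtain ⟨z, hz, hz'⟩ := h q hq hq0
    exact Set.disjoint_left.1 hdis hz hz'

end Groth.Agent.S6306
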