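import Groth.Statements.S6307
import Mathlib

set_option autoImplicit false
universe u
open CAlg

namespace Groth.Agent.S6307

/-- Let R be a ring, J ⊆ R a principal ideal and I ⊆ J an ideal. Then I = J · (I : J). -/
theorem result {R : Type u} [CommRing R] (I J : Ideal R) (hJ : J.IsPrincipal) (hIJ : I ≤ J) : I = J * I.colon J := by
  obtain ⟨a, rfl⟩ := hJ
  refine le_antisymm (fun x hx => ?_) (Ideal.mul_le.2 fun r hr s hs => ?_)
  · obtain ⟨r, rfl⟩ := Ideal.mem_span_singleton'.1 (hIJ hx)
    rw [mul_comm r a]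
    refine Ideal.mul_mem_mul (Ideal.subset_span rfl) (Submodule.mem_colon.2 fun j hj => ?_)
    obtain ⟨t, rfl⟩ := Ideal.mem_span_singleton'.1 hj
    rw [smul_eq_mul, show r * (t * a) = t * (r * a) by ring]
    exact I.mul_mem_left _ hx
  · rw [mul_comm]
    exact Submodule.mem_colon.1 hs r hr

end Groth.Agent.S6307
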