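import Groth.Statements.S6309
import Mathlib.RingTheory.LocalRing.Module
import Mathlib.Algebra.Module.LocalizedModule.Exact
import Mathlib.RingTheory.LocalProperties.Projective
import Mathlib.Algebra.Module.FinitePresentation
import Mathlib.RingTheory.LocalRing.ResidueField.Ideal
import Mathlib.RingTheory.Localization.Finiteness

set_option autoImplicit false
universe u
open scoped TensorProduct
open CAlg

namespace Groth.Agent.S6309

open scoped TensorProduct

lemma injective_iff {R : Type u} [CommRing R] {P₁ P₂ : Type u} [AddCommGroup P₁] [Module R P₁] [AddCommGroup P₂]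
    [Module R P₂] [Module.Finite R P₁] [Module.Projective R P₁] [Module.Finite R P₂] [Module.Projective R P₂]
    (φ : P₁ →ₗ[R] P₂) (p : PrimeSpectrum R) :
    Function.Injective (φ.lTensor p.asIdeal.ResidueField) ↔
      ∃ s : R, s ∉ p.asIdeal ∧ ∃ ψ : P₂ →ₗ[R] P₁, ψ ∘ₗ φ = s • LinearMap.id := by
  constructor
  · intro h
    let A := Localization.AtPrime p.asIdeal
    let κ := p.asIdeal.ResidueField
    haveI : Module.Free A (A ⊗[R] P₂) := Module.free_of_flat_of_isLocalRing
    have hinj : Function.Injective ((φ.baseChange A).lTensor (IsLocalRing.ResidueField A)) := by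
      let e₁ := TensorProduct.AlgebraTensorModule.cancelBaseChange R A κ κ P₁
      let e₂ := TensorProduct.AlgebraTensorModule.cancelBaseChange R A κ κ P₂
      have hc : ∀ x, e₂ ((φ.baseChange A).lTensor κ x) = φ.lTensor κ (e₁ x) := by
        intro x
        induction x with
        | zero => simp
        | add a b ha hb => simp only [map_add, ha, hb]
        | tmul k y =>
          induction y with
          | zero => simp
          | add a b ha hb => simp only [TensorProduct.tmul_add, map_add, ha, hb]
          | tmul a m => simp [e₁, e₂]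
      intro a b hab
      exact e₁.injective (h (by rw [← hc, ← hc]; exact congrArg e₂ hab))
    obtain ⟨r, hr⟩ := (IsLocalRing.split_injective_iff_lTensor_residueField_injective (φ.baseChange A)).mpr hinj
    haveI : Module.FinitePresentation R P₂ := Module.finitePresentation_of_projective R P₂
    obtain ⟨ψ, s, hψ⟩ := Module.FinitePresentation.exists_lift_of_isLocalizedModule p.asIdeal.primeCompl
      (TensorProduct.mk R A P₁ 1) ((r.restrictScalars R).comp (TensorProduct.mk R A P₂ 1))
    have hloc : ∀ x : P₁, (1 : A) ⊗ₜ[R] (ψ (φ x)) = (1 : A) ⊗ₜ[R] ((s : R) • x) := by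
      intro x
      have h1 := LinearMap.congr_fun hψ (φ x)
      have h2 := LinearMap.congr_fun hr ((1 : A) ⊗ₜ[R] x)
      simp only [LinearMap.comp_apply, LinearMap.smul_apply, TensorProduct.mk_apply, LinearMap.restrictScalars_apply,
        LinearMap.baseChange_tmul, LinearMap.id_apply] at h1 h2
      rw [h1, h2, TensorProduct.tmul_smul]
      rfl
    obtain ⟨n, g, hg⟩ := Module.Finite.exists_fin (R := R) (M := P₁)
    have hkill : ∀ i, ∃ t : p.asIdeal.primeCompl, (t : R) • ψ (φ (g i)) = (t : R) • (s : R) • g i := fun i =>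
      (IsLocalizedModule.eq_iff_exists p.asIdeal.primeCompl (TensorProduct.mk R A P₁ 1)).mp (hloc (g i))
    choose t ht using hkill
    let T : R := ∏ i, (t i : R)
    refine ⟨T * s, p.asIdeal.primeCompl.mul_mem (prod_mem fun i _ => (t i).2) s.2, T • ψ, ?_⟩
    refine LinearMap.ext_on_range hg fun i => ?_
    obtain ⟨c, hc⟩ : (t i : R) ∣ T := Finset.dvd_prod_of_mem _ (Finset.mem_univ i)
    simp only [LinearMap.comp_apply, LinearMap.smul_apply, LinearMap.id_apply]
    rw [hc, mul_comm, mul_smul, ht i, ← mul_smul, ← mul_smul, mul_assoc]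
  · rintro ⟨s, hs, ψ, hψ⟩
    have hu : IsUnit (algebraMap R p.asIdeal.ResidueField s) := isUnit_iff_ne_zero.mpr (by
      rwa [ne_eq, Ideal.algebraMap_residueField_eq_zero])
    intro a b hab
    have := congrArg (ψ.lTensor p.asIdeal.ResidueField) hab
    rw [← LinearMap.lTensor_comp_apply, ← LinearMap.lTensor_comp_apply, hψ, LinearMap.lTensor_smul,
      LinearMap.lTensor_id] at this
    simp only [LinearMap.smul_apply, LinearMap.id_apply] at this
    rw [← algebraMap_smul p.asIdeal.ResidueField s a, ← algebraMap_smul p.asIdeal.ResidueField s b] at this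
    exact hu.smul_left_cancel.mp this


/-- Let R be a ring and φ : P₁ → P₂ a map of finite projective R-modules. The set U of primes p of R
such that φ ⊗ κ(p) is injective is open, and for every f ∈ R with D(f) ⊆ U the map (P₁)_f → (P₂)_f
is injective and Coker(φ)_f is a finite projective module over R_f. -/
theorem result {R : Type u} [CommRing R] {P₁ P₂ : Type u} [AddCommGroup P₁] [Module R P₁] [AddCommGroup P₂] [Module R P₂] [Module.Finite R P₁] [Module.Projective R P₁] [Module.Finite R P₂] [Module.Projective R P₂] (φ : P₁ →ₗ[R] P₂) : IsOpen {p : PrimeSpectrum R | Function.Injective (φ.lTensor p.asIdeal.ResidueField)} ∧ ∀ f : R, (↑(PrimeSpectrum.basicOpen f) : Set (PrimeSpectrum R)) ⊆ {p : PrimeSpectrum R | Function.Injective (φ.lTensor p.asIdeal.ResidueField)} → Function.Injective (LocalizedModule.map (Submonoid.powers f) φ) ∧ Module.Finite (Localization.Away f) (LocalizedModule (Submonoid.powers f) (P₂ ⧸ LinearMap.range φ)) ∧ Module.Projective (Localization.Away f) (LocalizedModule (Submonoid.powers f) (P₂ ⧸ LinearMap.range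 φ)) := by
  classical
  constructor
  · rw [isOpen_iff_forall_mem_open]
    intro p hp
    obtain ⟨s, hs, ψ, hψ⟩ := (injective_iff φ p).mp hp
    exact ⟨PrimeSpectrum.basicOpen s, fun q hq => (injective_iff φ q).mpr ⟨s, hq, ψ, hψ⟩,
      (PrimeSpectrum.basicOpen s).isOpen, hs⟩
  intro f hf
  let 𝔞 : Ideal R :=
    { carrier := {s | ∃ ψ : P₂ →ₗ[R] P₁, ψ ∘ₗ φ = s • LinearMap.id}
      add_mem' := fun ⟨a, ha⟩ ⟨b, hb⟩ => ⟨a + b, by rw [LinearMap.add_comp, ha, hb, add_smul]⟩
      zero_mem' := ⟨0, by rw [LinearMap.zero_comp, zero_smul]⟩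
      smul_mem' := fun c x ⟨a, ha⟩ => ⟨c • a, by rw [LinearMap.smul_comp, ha, smul_smul, smul_eq_mul]⟩ }
  obtain ⟨N, ψ, hψ⟩ : f ∈ 𝔞.radical := by
    rw [Ideal.radical_eq_sInf, Ideal.mem_sInf]
    rintro J ⟨hJ, hJp⟩
    by_contra hfJ
    obtain ⟨s, hs, hs'⟩ := (injective_iff φ ⟨J, hJp⟩).mp (hf (show (⟨J, hJp⟩ : PrimeSpectrum R) ∈ PrimeSpectrum.basicOpen f from hfJ))
    exact hs (hJ hs')
  let S := Submonoid.powers f
  let φf := LocalizedModule.map S φ
  let g := LocalizedModule.map S (LinearMap.range φ).mkQ
  obtain ⟨u, hu⟩ := IsLocalization.map_units (Localization S) (⟨f ^ N, N, rfl⟩ : S)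
  let r' : LocalizedModule S P₂ →ₗ[Localization S] LocalizedModule S P₁ :=
    ((u⁻¹ : (Localization S)ˣ) : Localization S) • LocalizedModule.map S ψ
  have hr : ∀ x, r' (φf x) = x := by
    intro x
    induction x using LocalizedModule.induction_on with
    | _ m s =>
      have hm : ψ (φ m) = f ^ N • m := by simpa using LinearMap.congr_fun hψ m
      show ((u⁻¹ : (Localization S)ˣ) : Localization S) • LocalizedModule.map S ψ (LocalizedModule.map S φ (LocalizedModule.mk m s)) = _
      rw [LocalizedModule.map_mk, LocalizedModule.map_mk, hm, ← LocalizedModule.smul'_mk,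
        ← algebraMap_smul (Localization S) (f ^ N) (LocalizedModule.mk m s)]
      rw [show algebraMap R (Localization S) (f ^ N) = (u : Localization S) from hu.symm, smul_smul, Units.inv_mul, one_smul]
  refine ⟨Function.LeftInverse.injective hr, Module.Finite.of_isLocalizedModule S
    (LocalizedModule.mkLinearMap S (P₂ ⧸ LinearMap.range φ)), ?_⟩
  haveI : Module.Projective (Localization S) (LocalizedModule S P₂) :=
    Module.projective_of_isLocalizedModule S (LocalizedModule.mkLinearMap S P₂)
  have hg : Function.Surjective g := LocalizedModule.map_surjective _ _ (Submodule.mkQ_surjective _)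
  have hex : Function.Exact φf g := LocalizedModule.map_exact _ _ _ φ.exact_map_mkQ_range
  let h : LocalizedModule S P₂ →ₗ[Localization S] LocalizedModule S P₂ := LinearMap.id - φf ∘ₗ r'
  have hker : LinearMap.ker g ≤ LinearMap.ker h := by
    intro y hy
    obtain ⟨x, rfl⟩ := (hex y).mp hy
    simp [h, hr]
  let i := ((LinearMap.ker g).liftQ h hker) ∘ₗ (g.quotKerEquivOfSurjective hg).symm.toLinearMap
  refine Module.Projective.of_split i g (LinearMap.ext fun z => ?_)
  obtain ⟨y, rfl⟩ := hg z
  have he : (g.quotKerEquivOfSurjective hg).symm (g y) = Submodule.Quotient.mk y := by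
    rw [LinearEquiv.symm_apply_eq]
    rfl
  simp only [i, LinearMap.comp_apply, LinearEquiv.coe_coe, he, Submodule.liftQ_apply, h, LinearMap.sub_apply,
    LinearMap.id_apply, map_sub, hex.apply_apply_eq_zero, sub_zero]

end Groth.Agent.S6309
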