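import Mathlib
import Groth.Statements.S6310
-- import your own Groth.Agent.* helpers here

set_option autoImplicit false
universe u
open CAlg

namespace Groth.Agent.S6310

/-- Let R be a ring, S ⊆ R a multiplicative subset, I ⊆ R an ideal and M a finite R-module. If x₁, …,
x_r ∈ M have images generating S⁻¹(M/IM) as an S⁻¹R-module, then there is f ∈ S + I (f = s + i with
s ∈ S, i ∈ I) such that x₁, …, x_r generate M_f as an R_f-module. -/
theorem result {R : Type u} [CommRing R] (S : Submonoid R) (I : Ideal R) (M : Type u) [AddCommGroup M] [Module R M] [Module.Finite R M] {r : ℕ} (x : Fin r → M) (hx : Submodule.span (Localization S) (Set.range fun j => LocalizedModule.mkLinearMap S (M ⧸ (I • (⊤ : Submodule R M))) (Submodule.Quotient.mk (x j))) = ⊤) : ∃ (s : R) (i : R), s ∈ S ∧ i ∈ I ∧ Submodule.span (Localization.Away (s + i)) (Set.range fun j => LocalizedModule.mkLinearMap (Submonoid.powers (s + i)) M (x j)) = ⊤ := by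
  classical
  set J := Submodule.span R (Set.range x)
  set N' := I • (⊤ : Submodule R M)
  have h1 : ∀ m : M, ∃ s ∈ S, s • m ∈ J ⊔ N' := by
    intro m
    have hm : LocalizedModule.mkLinearMap S (M ⧸ N') (Submodule.Quotient.mk m) ∈ (⊤ : Submodule (Localization S) _) := trivial
    rw [← hx] at hm
    have hm' : LocalizedModule.mkLinearMap S (M ⧸ N') (Submodule.Quotient.mk m) ∈
        (Submodule.span R (Set.range fun j => (Submodule.Quotient.mk (x j) : M ⧸ N'))).localized' (Localization S) S (LocalizedModule.mkLinearMap S (M ⧸ N')) := by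
      rw [Submodule.localized'_span, ← Set.range_comp]; exact hm
    obtain ⟨mq, hmq, d, hd⟩ := hm'
    rw [IsLocalizedModule.mk'_eq_iff, Submonoid.smul_def, ← map_smul, IsLocalizedModule.eq_iff_exists S] at hd
    obtain ⟨u, hu⟩ := hd
    refine ⟨u * d, mul_mem u.2 d.2, ?_⟩
    have ht := Submodule.smul_mem (Submodule.span R (Set.range fun j => (Submodule.Quotient.mk (x j) : M ⧸ N'))) (u : R) hmq
    rw [← Submonoid.smul_def, hu, Submonoid.smul_def, ← mul_smul, ← Submodule.Quotient.mk_smul] at ht
    have : Submodule.span R (Set.range fun j => (Submodule.Quotient.mk (x j) : M ⧸ N')) = J.map N'.mkQ := by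
      rw [Submodule.map_span, ← Set.range_comp]; rfl
    rw [this] at ht
    have := Submodule.comap_map_mkQ N' J
    rw [sup_comm, ← this]
    exact ht
  obtain ⟨G, hG⟩ := (Module.Finite.fg_top : (⊤ : Submodule R M).FG)
  choose t htS ht using h1
  have hs : (∏ m ∈ G, t m) ∈ S := prod_mem fun m _ => htS m
  set s := ∏ m ∈ G, t m
  have hsM : ∀ m : M, s • m ∈ J ⊔ N' := fun m => by
    have hm : m ∈ Submodule.span R (G : Set M) := hG ▸ trivial
    induction hm using Submodule.span_induction with
    | mem m hm =>
      obtain ⟨q, hq⟩ := Finset.dvd_prod_of_mem t hm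
      rw [show s = t m * q from hq, mul_comm, mul_smul]
      exact Submodule.smul_mem _ q (ht m)
    | zero => simp
    | add a b _ _ ha hb => rw [smul_add]; exact add_mem ha hb
    | smul c a _ ha => rw [smul_comm]; exact Submodule.smul_mem _ c ha
  have hrange : LinearMap.range (s • (LinearMap.id : M ⧸ J →ₗ[R] M ⧸ J)) ≤ I • (⊤ : Submodule R (M ⧸ J)) := by
    rintro _ ⟨y, rfl⟩
    obtain ⟨m, rfl⟩ := Submodule.Quotient.mk_surjective J y
    obtain ⟨a, ha, b, hb, hab⟩ := Submodule.mem_sup.1 (hsM m)
    rw [LinearMap.smul_apply, LinearMap.id_apply, ← Submodule.Quotient.mk_smul, ← hab, Submodule.Quotient.mk_add,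
      (Submodule.Quotient.mk_eq_zero J).2 ha, zero_add]
    have := Submodule.mem_map_of_mem (f := J.mkQ) hb
    rw [Submodule.map_smul''] at this
    exact Submodule.smul_mono le_rfl le_top this
  obtain ⟨P, hP, hdeg, hPc, hP0⟩ := LinearMap.exists_monic_and_natDegree_eq_and_coeff_mem_pow_and_aeval_eq_zero R _ _ hrange
  have hev : ∀ y : M ⧸ J, P.eval s • y = 0 := fun y => by
    have e : Polynomial.aeval (s • (LinearMap.id : M ⧸ J →ₗ[R] M ⧸ J)) P = algebraMap R (Module.End R (M ⧸ J)) (P.eval s) := by
      rw [show (s • (LinearMap.id : M ⧸ J →ₗ[R] M ⧸ J)) = algebraMap R (Module.End R (M ⧸ J)) s from (Algebra.algebraMap_eq_smul_one s).symm,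
        Polynomial.aeval_algebraMap_apply_eq_algebraMap_eval]
    rw [e] at hP0
    simpa [Module.algebraMap_end_apply] using LinearMap.congr_fun hP0 y
  have hi : P.eval s - s ^ P.natDegree ∈ I := by
    rw [Polynomial.eval_eq_sum_range, Finset.sum_range_succ, hP.coeff_natDegree, one_mul, add_sub_cancel_right]
    refine sum_mem fun k hk => I.mul_mem_right _ (Ideal.pow_le_self ?_ (hPc k))
    rw [Finset.mem_range] at hk; omega
  refine ⟨s ^ P.natDegree, P.eval s - s ^ P.natDegree, pow_mem hs _, hi, ?_⟩
  rw [add_sub_cancel]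
  set f := P.eval s
  rw [eq_top_iff]
  rintro z -
  induction z using LocalizedModule.induction_on with
  | _ m d =>
    have hfm : f • m ∈ J := (Submodule.Quotient.mk_eq_zero J).1 (by rw [Submodule.Quotient.mk_smul]; exact hev _)
    have hsp : LocalizedModule.mkLinearMap (Submonoid.powers f) M (f • m) ∈
        Submodule.span (Localization.Away f) (Set.range fun j => LocalizedModule.mkLinearMap (Submonoid.powers f) M (x j)) := by
      refine Submodule.span_le_restrictScalars R (Localization.Away f) _ ?_
      have := Submodule.mem_map_of_mem (f := LocalizedModule.mkLinearMap (Submonoid.powers f) M) hfm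
      rwa [Submodule.map_span, ← Set.range_comp] at this
    have hd : LocalizedModule.mk m d = (Localization.mk 1 ⟨f * d, mul_mem (Submonoid.mem_powers f) d.2⟩ : Localization.Away f) • LocalizedModule.mkLinearMap (Submonoid.powers f) M (f • m) := by
      rw [LocalizedModule.mkLinearMap_apply, LocalizedModule.mk_smul_mk, one_smul, mul_one, LocalizedModule.mk_eq]
      exact ⟨1, by simp only [one_smul, Submonoid.smul_def, ← mul_smul]; rw [mul_comm]⟩
    rw [hd]
    exact Submodule.smul_mem _ _ hsp

end Groth.Agent.S6310
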