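import Mathlib
import Groth.Agent.KGrp.Sub
import Groth.Statements.S6311
-- import your own Groth.Agent.* helpers here

set_option autoImplicit false
universe u
open CategoryTheory
open CAlg

namespace Groth.Agent.S6311

/-- Let R be a local ring. Then K₀(R), the Grothendieck group of the category of finite projective
R-modules, is isomorphic to ℤ via the rank; precisely, there is an isomorphism K₀(R) ≅ ℤ of abelian
groups sending the class [R] to 1 (such an isomorphism is then unique, K₀(R) being generated by
[R]). -/
theorem result (R : Type u) [CommRing R] [IsLocalRing R] : ∃ e : KZero.K0sub (fun M : ModuleCat.{u} R => Module.Finite R M ∧ Module.Projective R M) ≃+ ℤ, e (KZero.clSub (fun M : ModuleCat.{u} R => Module.Finite R M ∧ Module.Projective R M) (ModuleCat.of R R)) = 1 := by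
  classical
  set P : ObjectProperty (ModuleCat.{u} R) := fun M => Module.Finite R M ∧ Module.Projective R M
  have hfree : ∀ X, P X → Module.Free R X ∧ Module.Finite R X := fun X h => by
    haveI := h.1; haveI := h.2
    exact ⟨Module.free_of_flat_of_isLocalRing, h.1⟩
  have hadd : ∀ S : ShortComplex (ModuleCat.{u} R), S.ShortExact → P S.X₁ → P S.X₂ → P S.X₃ →
      (Module.finrank R S.X₂ : ℤ) = (Module.finrank R S.X₁ : ℤ) + (Module.finrank R S.X₃ : ℤ) := by
    intro S hS h1 h2 h3
    obtain ⟨i1, j1⟩ := hfree _ h1
    obtain ⟨i3, j3⟩ := hfree _ h3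
    haveI := h3.2
    obtain ⟨sec, hsec⟩ := S.g.hom.exists_rightInverse_of_surjective (LinearMap.range_eq_top.2 hS.moduleCat_surjective_g)
    obtain ⟨e, -, -⟩ := (hS.exact.moduleCat_range_eq_ker |> LinearMap.exact_iff.2 ∘ Eq.symm).splitSurjectiveEquiv hS.moduleCat_injective_f ⟨sec, hsec⟩
    rw [e.finrank_eq, Module.finrank_prod]
    push_cast; rfl
  let d := Groth.Agent.KGrp.liftSub P (fun X => (Module.finrank R X : ℤ)) hadd
  let c := KZero.clSub P (ModuleCat.of R R)
  have hPn : ∀ n, P (ModuleCat.of R (Fin n → R)) := fun n => ⟨Module.Finite.pi, inferInstance⟩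
  have hPR : P (ModuleCat.of R R) := ⟨Module.Finite.self R, inferInstance⟩
  have hd1 : d c = 1 := by
    rw [Groth.Agent.KGrp.liftSub_clSub _ _ hPR]
    simp
  have se : ∀ (M₁ M₂ M₃ : ModuleCat.{u} R) (f : M₁ →ₗ[R] M₂) (g : M₂ →ₗ[R] M₃), P M₁ → P M₂ → P M₃ →
      Function.Injective f → Function.Exact f g → Function.Surjective g → KZero.clSub P M₂ = KZero.clSub P M₁ + KZero.clSub P M₃ := by
    intro M₁ M₂ M₃ f g h₁ h₂ h₃ hi hex hs
    let S := ShortComplex.moduleCatMk f g hex.linearMap_comp_eq_zero
    have hS : S.ShortExact := ModuleCat.shortComplex_shortExact S hex hi hs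
    exact Groth.Agent.KGrp.clSub_add h₁ h₂ h₃ hS
  have key : ∀ (n : ℕ) (X : ModuleCat.{u} R), P X → Module.finrank R X = n → KZero.clSub P X = (n : ℤ) • c := by
    intro n
    induction n with
    | zero =>
      intro X hX hn
      obtain ⟨i, j⟩ := hfree _ hX
      haveI : Subsingleton X := (Module.finrank_eq_zero_iff_of_free R X).1 hn
      have h := se X X X LinearMap.id 0 hX hX hX (fun _ _ h => h)
        (fun y => ⟨fun _ => ⟨y, rfl⟩, fun _ => Subsingleton.elim _ _⟩) (fun y => ⟨0, Subsingleton.elim _ _⟩)
      rw [Nat.cast_zero, zero_smul]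
      exact left_eq_add.1 h
    | succ n ih =>
      intro X hX hn
      obtain ⟨i, j⟩ := hfree _ hX
      let b := (Module.finBasis R X).equivFun ≪≫ₗ LinearEquiv.funCongrLeft R R (finCongr hn.symm)
      let proj : X →ₗ[R] R := LinearMap.proj 0 ∘ₗ b.toLinearMap
      let incl : (Fin n → R) →ₗ[R] X := b.symm.toLinearMap ∘ₗ
        LinearMap.pi (Fin.cases (motive := fun _ => (Fin n → R) →ₗ[R] R) 0 fun k => LinearMap.proj k)
      have hex : Function.Exact incl proj := fun y => by
        constructor
        · intro h
          refine ⟨Fin.tail (b y), b.injective ?_⟩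
          funext k
          refine Fin.cases ?_ (fun k => ?_) k
          · simpa [incl, proj] using h.symm
          · simp [incl, Fin.tail]
        · rintro ⟨v, rfl⟩
          simp [incl, proj]
      have hinj : Function.Injective incl := fun v w h => by
        funext k
        have := congr_fun (congrArg b h) k.succ
        simpa [incl] using this
      have hsurj : Function.Surjective proj := fun r => ⟨b.symm (Function.update 0 0 r), by simp [proj]⟩
      rw [se (ModuleCat.of R (Fin n → R)) X (ModuleCat.of R R) incl proj (hPn n) hX hPR hinj hex hsurj,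
        ih _ (hPn n) (Module.finrank_fin_fun R)]
      push_cast
      rw [add_smul, one_smul]
  refine ⟨AddMonoidHom.toAddEquiv d (zmultiplesHom _ c) ?_ ?_, hd1⟩
  · refine Groth.Agent.KGrp.hom_ext fun X hX => ?_
    show (d (KZero.clSub P X)) • c = KZero.clSub P X
    rw [Groth.Agent.KGrp.liftSub_clSub _ _ hX, key _ X hX rfl]
  · refine AddMonoidHom.ext_int ?_
    show d ((1 : ℤ) • c) = 1
    rw [one_smul, hd1]

end Groth.Agent.S6311
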