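import Mathlib
import Groth.Statements.S6312
-- import your own Groth.Agent.* helpers here

set_option autoImplicit false
universe u
open CAlg

namespace Groth.Agent.S6312

/-- Let R be a ring, M an R-module and S ⊆ R a multiplicative subset. Then length_{S⁻¹R}(S⁻¹M) ≤
length_R(M). -/
theorem result {R : Type u} [CommRing R] (S : Submonoid R) (M : Type u) [AddCommGroup M] [Module R M] : Module.length (Localization S) (LocalizedModule S M) ≤ Module.length R M := by
  rw [← WithBot.coe_le_coe, Module.coe_length, Module.coe_length]
  refine Order.krullDim_le_of_strictMono (fun N => (N.restrictScalars R).comap (LocalizedModule.mkLinearMap S M)) ?_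
  intro N N' hlt
  refine lt_of_le_of_ne (Submodule.comap_mono hlt.le) fun heq => hlt.ne (le_antisymm hlt.le fun z hz => ?_)
  induction z using LocalizedModule.induction_on with
  | h m s =>
    have h1 : LocalizedModule.mk m 1 ∈ N' := by
      have := N'.smul_mem (algebraMap R (Localization S) (s : R)) hz
      rwa [algebraMap_smul, LocalizedModule.smul'_mk, ← Submonoid.smul_def, LocalizedModule.mk_cancel] at this
    have h2 : LocalizedModule.mk m 1 ∈ N := (SetLike.ext_iff.mp heq m).mpr h1
    have h3 := N.smul_mem (Localization.mk 1 s) h2
    rwa [LocalizedModule.mk_smul_mk, one_smul, mul_one] at h3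

end Groth.Agent.S6312
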