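import Groth.Statements.S6320
import Mathlib.RingTheory.Length
import Mathlib.Algebra.Module.LocalizedModule.Exact

set_option autoImplicit false
universe u
open CAlg

namespace Groth.Agent.S6320

variable {B : Type u} [CommRing B]

lemma isUnit_of_notMem (n₀ : Ideal B) [n₀.IsMaximal] {s : B} (hs : s ∉ n₀) :
    IsUnit (algebraMap B (Module.End B (B ⧸ n₀)) s) := by
  rw [Module.End.isUnit_iff]
  letI := Ideal.Quotient.field n₀
  have h : Ideal.Quotient.mk n₀ s ≠ 0 := by rwa [ne_eq, Ideal.Quotient.eq_zero_iff_mem]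
  constructor
  · intro x y hxy
    simp only [Module.algebraMap_end_apply, Algebra.smul_def, Ideal.Quotient.algebraMap_eq] at hxy
    exact mul_left_cancel₀ h hxy
  · intro y
    refine ⟨(Ideal.Quotient.mk n₀ s)⁻¹ * y, ?_⟩
    simp only [Module.algebraMap_end_apply, Algebra.smul_def, Ideal.Quotient.algebraMap_eq]
    exact mul_inv_cancel_left₀ h y

lemma length_localized_quot_self (n : Ideal B) [n.IsMaximal] :
    Module.length (Localization.AtPrime n) (LocalizedModule n.primeCompl (B ⧸ n)) = 1 := by
  haveI : IsLocalizedModule n.primeCompl (LinearMap.id : (B ⧸ n) →ₗ[B] B ⧸ n) :=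
    ⟨fun s => isUnit_of_notMem n s.2, fun y => ⟨⟨y, 1⟩, one_smul _ _⟩, fun h => ⟨1, by simpa using h⟩⟩
  let e : LocalizedModule n.primeCompl (B ⧸ n) ≃ₗ[B] B ⧸ n :=
    (IsLocalizedModule.linearEquiv n.primeCompl (LocalizedModule.mkLinearMap n.primeCompl (B ⧸ n))
      (LinearMap.id : (B ⧸ n) →ₗ[B] B ⧸ n))
  haveI : Nontrivial (B ⧸ n) := Ideal.Quotient.nontrivial_iff.mpr (Ideal.IsMaximal.ne_top ‹_›)
  haveI : Nontrivial (LocalizedModule n.primeCompl (B ⧸ n)) := e.toEquiv.nontrivial
  refine le_antisymm ?_ (Order.one_le_iff_pos.mpr Module.length_pos)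
  have h := Submodule.length_le_length_restrictScalars B (⊤ : Submodule (Localization.AtPrime n) (LocalizedModule n.primeCompl (B ⧸ n)))
  rw [Module.length_top, Submodule.restrictScalars_top, Module.length_top, e.length_eq] at h
  haveI : IsSimpleModule B (B ⧸ n) := isSimpleModule_iff_quot_maximal.mpr ⟨n, inferInstance, ⟨LinearEquiv.refl _ _⟩⟩
  rwa [Module.length_eq_one B] at h

lemma subsingleton_localized_quot {n n₀ : Ideal B} [n.IsMaximal] [n₀.IsMaximal] (h : n₀ ≠ n) :
    Subsingleton (LocalizedModule n.primeCompl (B ⧸ n₀)) := by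
  obtain ⟨s, hs, hsn⟩ := SetLike.not_le_iff_exists.mp (fun hle => h (Ideal.IsMaximal.eq_of_le ‹_› (Ideal.IsMaximal.ne_top ‹_›) hle) : ¬ n₀ ≤ n)
  rw [LocalizedModule.subsingleton_iff]
  intro x
  refine ⟨s, hsn, ?_⟩
  obtain ⟨x, rfl⟩ := Ideal.Quotient.mk_surjective x
  rw [Algebra.smul_def, Ideal.Quotient.algebraMap_eq, ← map_mul, Ideal.Quotient.eq_zero_iff_mem]
  exact Ideal.mul_mem_right _ _ hs


/-- Let A be a local ring with maximal ideal m, B a semi-local ring with maximal ideals m₁, …, mₙ and A
→ B a ring map such that each mᵢ lies over m with [κ(mᵢ) : κ(m)] finite. Then for every B-module M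
of finite length, length_A(M) = Σᵢ [κ(mᵢ) : κ(m)] · length_{B_{mᵢ}}(M_{mᵢ}); in particular
length_A(M) is finite. -/
theorem result {A B : Type u} [CommRing A] [IsLocalRing A] [CommRing B] [Algebra A B] [Finite (MaximalSpectrum B)] (hover : ∀ n : MaximalSpectrum B, n.asIdeal.comap (algebraMap A B) = IsLocalRing.maximalIdeal A) (hfin : ∀ n : MaximalSpectrum B, Module.Finite (A ⧸ n.asIdeal.comap (algebraMap A B)) (B ⧸ n.asIdeal)) (M : Type u) [AddCommGroup M] [Module B M] [Module A M] [IsScalarTower A B M] (hM : IsFiniteLength B M) : Module.length A M = ∑ᶠ n : MaximalSpectrum B, (Module.finrank (A ⧸ n.asIdeal.comap (algebraMap A B)) (B ⧸ n.asIdeal) : ℕ∞) * Module.length (Localization.AtPrime n.asIdeal) (LocalizedModule n.asIdeal.primeCompl M) := by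
  classical
  cases nonempty_fintype (MaximalSpectrum B)
  rw [finsum_eq_sum_of_fintype]
  suffices H : ∀ (M : Type u) [AddCommGroup M] [Module B M], IsFiniteLength B M →
      ∀ [Module A M] [IsScalarTower A B M], Module.length A M = ∑ n : MaximalSpectrum B,
        (Module.finrank (A ⧸ n.asIdeal.comap (algebraMap A B)) (B ⧸ n.asIdeal) : ℕ∞) *
          Module.length (Localization.AtPrime n.asIdeal) (LocalizedModule n.asIdeal.primeCompl M) from H M hM
  intro M _ _ hM
  induction hM with
  | of_subsingleton =>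
    rename_i M' _ _ _
    intro _ _
    rw [Module.length_eq_zero, Finset.sum_eq_zero fun n _ => ?_]
    haveI : Subsingleton (LocalizedModule n.asIdeal.primeCompl M') := by
      rw [LocalizedModule.subsingleton_iff]
      exact fun x => ⟨1, n.asIdeal.primeCompl.one_mem, Subsingleton.elim _ _⟩
    rw [Module.length_eq_zero, mul_zero]
  | of_simple_quotient hN ih =>
    rename_i M' _ _ N hs
    intro _ _
    obtain ⟨n₀, hn₀, ⟨e⟩⟩ := isSimpleModule_iff_quot_maximal.mp hs
    let g : M' →ₗ[B] B ⧸ n₀ := e.toLinearMap.comp N.mkQ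
    have hg : Function.Surjective g := e.surjective.comp (Submodule.mkQ_surjective N)
    have hex : Function.Exact N.subtype g := fun x => by
      simp [g]
    rw [Module.length_eq_add_of_exact (R := A) (N.subtype.restrictScalars A) (g.restrictScalars A)
      N.subtype_injective hg hex, ih]
    have hloc : ∀ n : MaximalSpectrum B, Module.length (Localization.AtPrime n.asIdeal) (LocalizedModule n.asIdeal.primeCompl M') =
        Module.length (Localization.AtPrime n.asIdeal) (LocalizedModule n.asIdeal.primeCompl N) +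
        Module.length (Localization.AtPrime n.asIdeal) (LocalizedModule n.asIdeal.primeCompl (B ⧸ n₀)) := fun n =>
      Module.length_eq_add_of_exact (LocalizedModule.map n.asIdeal.primeCompl N.subtype)
        (LocalizedModule.map n.asIdeal.primeCompl g)
        (LocalizedModule.map_injective _ _ N.subtype_injective) (LocalizedModule.map_surjective _ _ hg)
        (LocalizedModule.map_exact _ _ _ hex)
    simp only [hloc, mul_add, Finset.sum_add_distrib]
    congr 1
    rw [Finset.sum_eq_single (⟨n₀, hn₀⟩ : MaximalSpectrum B)]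
    · rw [length_localized_quot_self n₀, mul_one]
      let m := n₀.comap (algebraMap A B)
      haveI : m.IsMaximal := (show m = IsLocalRing.maximalIdeal A from hover ⟨n₀, hn₀⟩).symm ▸ IsLocalRing.maximalIdeal.isMaximal A
      letI := Ideal.Quotient.field m
      haveI := hfin ⟨n₀, hn₀⟩
      haveI : IsScalarTower A (A ⧸ m) (B ⧸ n₀) := IsScalarTower.of_algebraMap_eq fun _ => rfl
      rw [Module.length_eq_of_surjective (S := A) (R := A ⧸ m) (M := B ⧸ n₀) Ideal.Quotient.mk_surjective,
        Module.length_eq_finrank (A ⧸ m) (B ⧸ n₀)]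
    · intro n _ hne
      haveI := subsingleton_localized_quot (n := n.asIdeal) (n₀ := n₀)
        (fun h => hne (MaximalSpectrum.ext h.symm))
      rw [Module.length_eq_zero, mul_zero]
    · simp

end Groth.Agent.S6320
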