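import Mathlib
import Groth.Statements.S6321
-- import your own Groth.Agent.* helpers here

set_option autoImplicit false
universe u
open CAlg

namespace Groth.Agent.S6321

/-- Let R be a ring and (Sᵢ, φᵢⱼ) a directed system of faithfully flat R-algebras whose transition maps
are R-algebra maps. Then S = colim Sᵢ is a faithfully flat R-algebra: for any index i the composite
R → Sᵢ → S is faithfully flat. -/
theorem result {R : Type u} [CommRing R] {ι : Type u} [Preorder ι] [Nonempty ι] [IsDirected ι (· ≤ ·)] (G : ι → Type u) [∀ i, CommRing (G i)] [∀ i, Algebra R (G i)] (f : ∀ i j, i ≤ j → G i →+* G j) [DirectedSystem G fun i j h => f i j h] (hcompat : ∀ i j (h : i ≤ j), (f i j h).comp (algebraMap R (G i)) = algebraMap R (G j)) (hff : ∀ i, (algebraMap R (G i)).FaithfullyFlat) (i : ι) : ((Ring.DirectLimit.of G (fun i j h => f i j h) i).comp (algebraMap R (G i))).FaithfullyFlat := by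
  classical
  set F := fun (i j : ι) (h : i ≤ j) => ((f i j h : G i →+* G j) : G i → G j) with hF
  let of' : ∀ i, G i →+* Ring.DirectLimit G F := fun i => Ring.DirectLimit.of G F i
  have hof : ∀ {i j} (h : i ≤ j) (x : G i), of' j (f i j h x) = of' i x := fun h x => Ring.DirectLimit.of_f h x
  letI alg : Algebra R (Ring.DirectLimit G F) := ((of' i).comp (algebraMap R (G i))).toAlgebra
  have halg : ∀ (j : ι) (r : R), algebraMap R (Ring.DirectLimit G F) r = of' j (algebraMap R (G j) r) := fun j r => by
    obtain ⟨k, hik, hjk⟩ := exists_ge_ge i j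
    show of' i (algebraMap R (G i) r) = _
    rw [← hof hik, ← hof hjk, ← RingHom.comp_apply (f i k hik), ← RingHom.comp_apply (f j k hjk), hcompat, hcompat]
  have hsm : ∀ (j : ι) (r : R) (x : G j), r • of' j x = of' j (r • x) := fun j r x => by
    rw [Algebra.smul_def, Algebra.smul_def, map_mul, halg j]
  have hfs : ∀ (a b : ι) (h : a ≤ b) (r : R) (z : G a), f a b h (r • z) = r • f a b h z := fun a b h r z => by
    rw [Algebra.smul_def, Algebra.smul_def, map_mul, ← RingHom.comp_apply, hcompat]
  have hfam : ∀ {l : ℕ} (x : Fin l → Ring.DirectLimit G F), ∃ (k : ι) (x' : Fin l → G k), ∀ t, of' k (x' t) = x t := by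
    intro l x
    choose j y hy using fun t => Ring.DirectLimit.exists_of (x t)
    obtain ⟨k, hk⟩ := (Finset.univ.image j).exists_le
    exact ⟨k, fun t => f (j t) k (hk _ (Finset.mem_image_of_mem j (Finset.mem_univ t))) (y t), fun t => by rw [hof]; exact hy t⟩
  have hzero : ∀ (k : ι) (x : G k), of' k x = 0 → ∃ j, ∃ h : k ≤ j, f k j h x = 0 := fun k x hx => Ring.DirectLimit.of.zero_exact hx
  show Module.FaithfullyFlat R (Ring.DirectLimit G F)
  haveI hflat : Module.Flat R (Ring.DirectLimit G F) := by
    refine Module.Flat.iff_forall_isTrivialRelation.2 fun {l c x} hx => ?_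
    obtain ⟨k, x', hx'⟩ := hfam x
    obtain ⟨j, hkj, hj⟩ := hzero k (∑ t, c t • x' t) (by rw [map_sum]; simp only [← hsm, hx']; exact hx)
    haveI : Module.FaithfullyFlat R (G j) := RingHom.faithfullyFlat_algebraMap_iff.1 (hff j)
    obtain ⟨m, a, y, h1, h2⟩ := Module.Flat.iff_forall_isTrivialRelation.1 (inferInstance : Module.Flat R (G j)) (show ∑ t, c t • f k j hkj (x' t) = 0 by rw [map_sum] at hj; simpa only [hfs] using hj)
    refine ⟨m, a, fun u => of' j (y u), fun t => ?_, h2⟩
    simp only [hsm]
    rw [← map_sum, ← h1, hof, hx']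
  refine { submodule_ne_top := fun m hm htop => ?_ }
  have h1 : (1 : Ring.DirectLimit G F) ∈ m • (⊤ : Submodule R (Ring.DirectLimit G F)) := by rw [htop]; trivial
  have hrep : ∀ z ∈ m • (⊤ : Submodule R (Ring.DirectLimit G F)), ∃ (k : ι) (z' : G k), z' ∈ m • (⊤ : Submodule R (G k)) ∧ of' k z' = z := by
    intro z hz
    refine Submodule.smul_induction_on hz (fun r hr x _ => ?_) ?_
    · obtain ⟨k, x', rfl⟩ := Ring.DirectLimit.exists_of x
      exact ⟨k, r • x', Submodule.smul_mem_smul hr trivial, (hsm k r x').symm⟩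
    · rintro _ _ ⟨a, u, hu, rfl⟩ ⟨b, v, hv, rfl⟩
      obtain ⟨k, hak, hbk⟩ := exists_ge_ge a b
      have hmap : ∀ (j : ι) (h : j ≤ k) (w : G j), w ∈ m • (⊤ : Submodule R (G j)) → f j k h w ∈ m • (⊤ : Submodule R (G k)) := fun j h w hw => by
        refine Submodule.smul_induction_on hw (fun r hr x _ => ?_) (fun p q hp hq => by rw [map_add]; exact add_mem hp hq)
        rw [hfs]
        exact Submodule.smul_mem_smul hr trivial
      exact ⟨k, _, add_mem (hmap a hak u hu) (hmap b hbk v hv), by rw [map_add, hof, hof]⟩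
  obtain ⟨k, z, hz, hz1⟩ := hrep 1 h1
  obtain ⟨j, hkj, hj⟩ := hzero k (z - 1) (by rw [map_sub, map_one, hz1, sub_self])
  haveI : Module.FaithfullyFlat R (G j) := RingHom.faithfullyFlat_algebraMap_iff.1 (hff j)
  refine Module.FaithfullyFlat.submodule_ne_top (M := G j) hm (eq_top_iff.2 fun w _ => ?_)
  have h1j : (1 : G j) ∈ m • (⊤ : Submodule R (G j)) := by
    rw [map_sub, map_one, sub_eq_zero] at hj
    rw [← hj]
    clear hj hz1
    refine Submodule.smul_induction_on hz (fun r hr x _ => ?_) (fun p q hp hq => by rw [map_add]; exact add_mem hp hq)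
    rw [hfs]
    exact Submodule.smul_mem_smul hr trivial
  rw [← one_mul w]
  refine Submodule.smul_induction_on h1j (fun r hr x _ => ?_) (fun p q hp hq => by rw [add_mul]; exact add_mem hp hq)
  rw [smul_mul_assoc]
  exact Submodule.smul_mem_smul hr trivial

end Groth.Agent.S6321
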