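import Groth.Statements.S6322
import Mathlib.CategoryTheory.Abelian.Projective.Resolution
import Mathlib.Algebra.Category.ModuleCat.Projective

set_option autoImplicit false
universe u
open CategoryTheory
open CAlg

namespace Groth.Agent.S6322

open Category Limits ChainComplex HomologicalComplex

section
universe v w
variable {C : Type w} [Category.{v} C] [Abelian C] {Y Z : C} {P Q : ChainComplex C ℕ}

lemma exact_succ (π : Q ⟶ (ChainComplex.single₀ C).obj Z) [QuasiIso π] (n : ℕ) :
    (ShortComplex.mk _ _ (Q.d_comp_d (n + 2) (n + 1) n)).Exact := by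
  refine ((HomologicalComplex.exactAt_iff' _ (n + 2) (n + 1) n) (by simp only [prev]; rfl)
    (by simp)).1 ?_
  rw [← quasiIsoAt_iff_exactAt' π (n + 1) (exactAt_succ_single_obj _ _)]
  infer_instance

lemma d_comp_π (π : Q ⟶ (ChainComplex.single₀ C).obj Z) : Q.d 1 0 ≫ π.f 0 = 0 := by
  rw [← π.comm 1 0, single_obj_d, comp_zero]

set_option backward.isDefEq.respectTransparency.types false in
set_option backward.defeqAttrib.useBackward true in
noncomputable def isColimitCofork (π : Q ⟶ (ChainComplex.single₀ C).obj Z) [QuasiIso π] :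
    IsColimit (CokernelCofork.ofπ _ (d_comp_π π)) := by
  refine IsColimit.ofIsoColimit (Q.opcyclesIsCokernel 1 0 (by simp)) ?_
  refine Cofork.ext (Q.isoHomologyι₀.symm ≪≫ isoOfQuasiIsoAt π 0 ≪≫
    singleObjHomologySelfIso _ _ _) ?_
  rw [← cancel_mono (singleObjHomologySelfIso (ComplexShape.down ℕ) 0 _).inv,
    ← cancel_mono (isoHomologyι₀ _).hom]
  dsimp
  simp only [isoHomologyι₀_inv_naturality_assoc, p_opcyclesMap_assoc, single₀_obj_zero, assoc,
    Iso.hom_inv_id, comp_id, isoHomologyι_inv_hom_id, singleObjHomologySelfIso_inv_homologyι,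
    singleObjOpcyclesSelfIso_hom, single₀ObjXSelf, Iso.refl_inv, id_comp]

lemma exact₀ (π : Q ⟶ (ChainComplex.single₀ C).obj Z) [QuasiIso π] :
    (ShortComplex.mk _ _ (d_comp_π π)).Exact :=
  ShortComplex.exact_of_g_is_cokernel _ (isColimitCofork π)

set_option backward.isDefEq.respectTransparency false in
lemma epi_π₀ (π : Q ⟶ (ChainComplex.single₀ C).obj Z) [QuasiIso π] : Epi (π.f 0) :=
  epi_of_isColimit_cofork (isColimitCofork π)

set_option backward.isDefEq.respectTransparency false in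
lemma exists_lift (f : Y ⟶ Z) [∀ n, Projective (P.X n)]
    (ρ : P ⟶ (ChainComplex.single₀ C).obj Y) (π : Q ⟶ (ChainComplex.single₀ C).obj Z) [QuasiIso π] :
    ∃ φ : P ⟶ Q, φ ≫ π = ρ ≫ (ChainComplex.single₀ C).map f := by
  have : Epi (π.f 0) := epi_π₀ π
  let g0 : P.X 0 ⟶ Q.X 0 := Projective.factorThru (ρ.f 0 ≫ f) (π.f 0)
  have hg0 : g0 ≫ π.f 0 = ρ.f 0 ≫ f := Projective.factorThru_comp _ _
  let g1 : P.X 1 ⟶ Q.X 1 := (exact₀ π).liftFromProjective (P.d 1 0 ≫ g0)
    (by rw [assoc, hg0, ← assoc, d_comp_π ρ, zero_comp])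
  have w : g1 ≫ Q.d 1 0 = P.d 1 0 ≫ g0 := (exact₀ π).liftFromProjective_comp _ _
  refine ⟨ChainComplex.mkHom _ _ g0 g1 w fun n ⟨g, g', w⟩ =>
    ⟨(exact_succ π n).liftFromProjective (P.d (n + 2) (n + 1) ≫ g') (by simp [w]),
      (exact_succ π n).liftFromProjective_comp _ _⟩, ?_⟩
  ext
  simpa using hg0

set_option backward.isDefEq.respectTransparency false in
lemma exists_homotopy [∀ n, Projective (P.X n)] (π : Q ⟶ (ChainComplex.single₀ C).obj Z) [QuasiIso π]
    (f : P ⟶ Q) (comm : f ≫ π = 0) : Nonempty (Homotopy f 0) := by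
  let h0 : P.X 0 ⟶ Q.X 1 := (exact₀ π).liftFromProjective (f.f 0)
    (congr_fun (congr_arg HomologicalComplex.Hom.f comm) 0)
  have e0 : h0 ≫ Q.d 1 0 = f.f 0 := (exact₀ π).liftFromProjective_comp _ _
  let h1 : P.X 1 ⟶ Q.X 2 := (exact_succ π 0).liftFromProjective (f.f 1 - P.d 1 0 ≫ h0)
    (by dsimp only; rw [Preadditive.sub_comp, assoc, e0, ← f.comm, sub_self])
  have e1 : h1 ≫ Q.d 2 1 = f.f 1 - P.d 1 0 ≫ h0 := (exact_succ π 0).liftFromProjective_comp _ _
  exact ⟨Homotopy.mkInductive _ h0 (by simp [e0]) h1 (by simp [e1]) fun n ⟨g, g', w⟩ =>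
    ⟨(exact_succ π (n + 1)).liftFromProjective (f.f (n + 2) - P.d _ _ ≫ g') (by simp [w]),
      by
        have := (exact_succ π (n + 1)).liftFromProjective_comp (f.f (n + 2) - P.d (n + 2) (n + 1) ≫ g') (by simp [w])
        dsimp only at this
        rw [this]; abel⟩⟩

end

/-- Let R be a ring, M → N a map of R-modules, N• → N a resolution (a chain complex with a
quasi-isomorphism onto N placed in degree 0) and … → F₁ → F₀ → M a complex with every Fᵢ free (F• a
chain complex with an augmentation to M in degree 0, exactness not required). Then (1) there is a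
map of complexes F• → N• compatible with M → N through the augmentations, and (2) any two such maps
are homotopic. -/
theorem result (R : Type u) [CommRing R] (M N : ModuleCat.{u} R) (g : M ⟶ N) (F Nc : ChainComplex (ModuleCat.{u} R) ℕ) (hF : ∀ i, Module.Free R (F.X i)) (εF : F ⟶ (ChainComplex.single₀ (ModuleCat.{u} R)).obj M) (εN : Nc ⟶ (ChainComplex.single₀ (ModuleCat.{u} R)).obj N) [QuasiIso εN] : (∃ φ : F ⟶ Nc, φ ≫ εN = εF ≫ (ChainComplex.single₀ (ModuleCat.{u} R)).map g) ∧ ∀ α β : F ⟶ Nc, α ≫ εN = εF ≫ (ChainComplex.single₀ (ModuleCat.{u} R)).map g → β ≫ εN = εF ≫ (ChainComplex.single₀ (ModuleCat.{u} R)).map g → Nonempty (Homotopy α β) := by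
  haveI : ∀ i, Projective (F.X i) := fun i => by
    haveI := hF i
    exact (IsProjective.iff_projective (F.X i)).mp inferInstance
  refine ⟨exists_lift g εF εN, fun α β hα hβ => ?_⟩
  obtain ⟨h⟩ := exists_homotopy εN (α - β) (by rw [Preadditive.sub_comp, hα, hβ, sub_self])
  exact ⟨Homotopy.equivSubZero.symm h⟩

end Groth.Agent.S6322
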