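import Groth.Statements.S6323
import Groth.Agent.MLMod.Scalar
import Mathlib.RingTheory.Localization.BaseChange

set_option autoImplicit false
universe u
open CAlg

namespace Groth.Agent.S6323

/-- Let A → B be a ring homomorphism and S ⊆ A, S' ⊆ B multiplicative subsets with S carried into S', so
that there is an induced homomorphism S⁻¹A → (S')⁻¹B. For a linear map f : M → M' between
(S')⁻¹B-modules, f is universally injective over A (scalars restricted along A → (S')⁻¹B) precisely
when it is universally injective over S⁻¹A (scalars restricted along S⁻¹A → (S')⁻¹B). -/
theorem result {A B : Type u} [CommRing A] [CommRing B] [Algebra A B] (S : Submonoid A) (S' : Submonoid B) (hSS' : ∀ s ∈ S, algebraMap A B s ∈ S') (As Bs : Type u) [CommRing As] [CommRing Bs] [Algebra A As] [IsLocalization S As] [Algebra B Bs] [IsLocalization S' Bs] [Algebra As Bs] [Algebra A Bs] [IsScalarTower A B Bs] [IsScalarTower A As Bs] {M M' : Type u} [AddCommGroup M] [AddCommGroup M'] [Module Bs M] [Module Bs M'] [Module As M] [Module As M'] [Module A M] [Module A M'] [IsScalarTower As Bs M] [IsScalarTower As Bs M'] [IsScalarTower A As M] [IsScalarTower A As M'] [IsScalarTower A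 Bs M] [IsScalarTower A Bs M'] (f : M →ₗ[Bs] M') : CAlgX.UniversallyInjective A (f.restrictScalars A) ↔ CAlgX.UniversallyInjective As (f.restrictScalars As) := by
  rw [Groth.MLMod.ui_iff, Groth.MLMod.ui_iff]
  constructor
  · intro h Q _ _ x hx
    letI : Module A Q := Module.compHom Q (algebraMap A As)
    haveI : IsScalarTower A As Q := IsScalarTower.of_compHom A As Q
    let e := IsLocalization.moduleTensorEquiv S As M Q
    let e' := IsLocalization.moduleTensorEquiv S As M' Q
    apply e.injective
    rw [map_zero]
    refine h Q _ ?_
    have hc : ∀ z, (f.restrictScalars A).rTensor Q (e z) = e' ((f.restrictScalars As).rTensor Q z) := by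
      intro z
      induction z with
      | zero => simp
      | tmul a b => rfl
      | add a b ha hb => simp only [map_add, ha, hb]
    rw [hc, hx, map_zero]
  · intro h Q _ _ x hx
    obtain ⟨z, rfl⟩ := (TensorProduct.AlgebraTensorModule.cancelBaseChange A As As M Q).surjective x
    have hc : ∀ w, (f.restrictScalars A).rTensor Q
        (TensorProduct.AlgebraTensorModule.cancelBaseChange A As As M Q w) =
        TensorProduct.AlgebraTensorModule.cancelBaseChange A As As M' Q
          ((f.restrictScalars As).rTensor (TensorProduct A As Q) w) := by
      intro w
      induction w with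
      | zero => simp
      | tmul a b =>
        induction b with
        | zero => simp
        | tmul s q =>
          simp only [TensorProduct.AlgebraTensorModule.cancelBaseChange_tmul, LinearMap.rTensor_tmul,
            LinearMap.restrictScalars_apply]
          exact congrArg (TensorProduct.tmul A · q) ((f.restrictScalars As).map_smul s a)
        | add a b ha hb => simp only [TensorProduct.tmul_add, map_add, ha, hb]
      | add a b ha hb => simp only [map_add, ha, hb]
    rw [hc] at hx
    rw [h _ z ((LinearEquiv.map_eq_zero_iff _).1 hx), map_zero]

end Groth.Agent.S6323
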