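import Mathlib
import Groth.Statements.S6324
-- import your own Groth.Agent.* helpers here

set_option autoImplicit false
universe u
open CAlg

namespace Groth.Agent.S6324

/-- Let R → S be a ring map, I ⊆ R an ideal and A = Σ Iⁿtⁿ ⊆ R[t] the Rees algebra of I. For s ∈ S,
being integral over I is equivalent to s·t ∈ S[t] being integral over A (via A ⊆ R[t] → S[t]). -/
theorem result {R S : Type u} [CommRing R] [CommRing S] [Algebra R S] (I : Ideal R) (s : S) : W4stkalgebra1.IsIntegralOverIdeal I s ↔ ((Polynomial.mapRingHom (algebraMap R S)).comp (reesAlgebra I).val.toRingHom).IsIntegralElem (Polynomial.C s * Polynomial.X) := by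
  classical
  set φ := ((Polynomial.mapRingHom (algebraMap R S)).comp (reesAlgebra I).val.toRingHom) with hφ
  constructor
  · rintro ⟨p, hmon, hcoef, hroot⟩
    set n := p.natDegree
    let c : ℕ → reesAlgebra I := fun j => if hj : j < n then ⟨Polynomial.monomial (n - j) (p.coeff j), reesAlgebra.monomial_mem.2 (hcoef j hj)⟩ else 0
    refine ⟨Polynomial.X ^ n + ∑ j ∈ Finset.range n, Polynomial.monomial j (c j), ?_, ?_⟩
    · refine Polynomial.monic_X_pow_add (lt_of_le_of_lt (Polynomial.degree_sum_le _ _) ?_)
      refine (Finset.sup_lt_iff (WithBot.bot_lt_coe n)).2 fun j hj => ?_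
      exact lt_of_le_of_lt (Polynomial.degree_monomial_le _ _) (WithBot.coe_lt_coe.2 (Finset.mem_range.1 hj))
    · simp only [Polynomial.eval₂_add, Polynomial.eval₂_pow, Polynomial.eval₂_X, Polynomial.eval₂_finsetSum, Polynomial.eval₂_monomial]
      have h1 : ∀ j ∈ Finset.range n, φ (c j) * (Polynomial.C s * Polynomial.X) ^ j =
          Polynomial.C (algebraMap R S (p.coeff j) * s ^ j) * Polynomial.X ^ n := by
        intro j hj
        have hjn := Finset.mem_range.1 hj
        simp only [c, dif_pos hjn, hφ, RingHom.comp_apply, Polynomial.coe_mapRingHom]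
        show (Polynomial.monomial (n - j) (p.coeff j)).map (algebraMap R S) * _ = _
        rw [Polynomial.map_monomial, ← Polynomial.C_mul_X_pow_eq_monomial, mul_pow, ← Polynomial.C_pow, map_mul,
          show Polynomial.X (R := S) ^ n = Polynomial.X ^ (n - j) * Polynomial.X ^ j by rw [← pow_add, Nat.sub_add_cancel hjn.le]]
        ring
      rw [Finset.sum_congr rfl h1, ← Finset.sum_mul, mul_pow, ← Polynomial.C_pow, ← map_sum, ← add_mul, ← map_add]
      have e := hroot
      rw [hmon.as_sum] at e
      simp only [Polynomial.eval₂_add, Polynomial.eval₂_pow, Polynomial.eval₂_X, Polynomial.eval₂_finsetSum, Polynomial.eval₂_mul, Polynomial.eval₂_C] at e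
      rw [e, map_zero, zero_mul]
  · rintro ⟨P, hP, hroot⟩
    set n := P.natDegree
    let q : Polynomial R := Polynomial.X ^ n + ∑ j ∈ Finset.range n, Polynomial.monomial j (((P.coeff j : reesAlgebra I) : Polynomial R).coeff (n - j))
    have hsum : (∑ j ∈ Finset.range n, Polynomial.monomial j (((P.coeff j : reesAlgebra I) : Polynomial R).coeff (n - j))).degree < (n : WithBot ℕ) := by
      refine lt_of_le_of_lt (Polynomial.degree_sum_le _ _) ?_
      refine (Finset.sup_lt_iff (WithBot.bot_lt_coe n)).2 fun j hj => ?_
      exact lt_of_le_of_lt (Polynomial.degree_monomial_le _ _) (WithBot.coe_lt_coe.2 (Finset.mem_range.1 hj))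
    have hq : q.Monic := Polynomial.monic_X_pow_add hsum
    rcases subsingleton_or_nontrivial R with hR | hR
    · haveI : Subsingleton S := by
        refine subsingleton_of_zero_eq_one ?_
        rw [← map_zero (algebraMap R S), ← map_one (algebraMap R S), Subsingleton.elim (0 : R) 1]
      exact ⟨1, Polynomial.monic_one, fun j hj => by simp at hj, Subsingleton.elim _ _⟩
    have hdeg : q.natDegree = n := by
      refine Polynomial.natDegree_eq_of_degree_eq_some ?_
      rw [Polynomial.degree_add_eq_left_of_degree_lt (by rw [Polynomial.degree_X_pow]; exact hsum), Polynomial.degree_X_pow]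
    refine ⟨q, hq, fun j hj => ?_, ?_⟩
    · rw [hdeg] at hj ⊢
      have : q.coeff j = ((P.coeff j : reesAlgebra I) : Polynomial R).coeff (n - j) := by
        simp [q, Polynomial.coeff_X_pow, hj.ne, Polynomial.coeff_monomial, hj]
      rw [this]
      exact (P.coeff j).2 (n - j)
    · have e : Polynomial.coeff (P.eval₂ φ (Polynomial.C s * Polynomial.X)) n = 0 := by rw [hroot, Polynomial.coeff_zero]
      rw [hP.as_sum] at e
      simp only [Polynomial.eval₂_add, Polynomial.eval₂_pow, Polynomial.eval₂_X, Polynomial.eval₂_finsetSum, Polynomial.eval₂_mul, Polynomial.eval₂_C] at e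
      simp only [q, Polynomial.eval₂_add, Polynomial.eval₂_pow, Polynomial.eval₂_X, Polynomial.eval₂_finsetSum, Polynomial.eval₂_monomial]
      rw [← e, Polynomial.coeff_add, Polynomial.finsetSum_coeff, mul_pow, ← Polynomial.C_pow, Polynomial.coeff_C_mul_X_pow, if_pos rfl]
      refine congrArg _ (Finset.sum_congr rfl fun j hj => ?_)
      have hjn := Finset.mem_range.1 hj
      rw [mul_pow, ← Polynomial.C_pow, mul_left_comm, Polynomial.coeff_C_mul, Polynomial.coeff_mul_X_pow', if_pos hjn.le, mul_comm]
      simp [hφ]

end Groth.Agent.S6324
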