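import Groth.Statements.S6325
import Mathlib
-- import your own Groth.Agent.* helpers here

set_option autoImplicit false
universe u
open CAlg

namespace Groth.Agent.S6325

open Polynomial

variable {R S : Type u} [CommRing R] [CommRing S] [Algebra R S] (I : Ideal R)

/-- The map from the Rees algebra to `S[X]`. -/
noncomputable def reesMap : reesAlgebra I →+* S[X] :=
  (Polynomial.mapRingHom (algebraMap R S)).comp (reesAlgebra I).val.toRingHom

theorem isIntegralOverIdeal_iff (g : S) :
    W4stkalgebra1.IsIntegralOverIdeal I g ↔ (reesMap (S := S) I).IsIntegralElem (monomial 1 g) := by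
  constructor
  · rintro ⟨p, hp, hc, he⟩
    let d := p.natDegree
    let a : ℕ → reesAlgebra I := fun j =>
      if h : j < d then ⟨monomial (d - j) (p.coeff j), reesAlgebra.monomial_mem.mpr (hc j h)⟩ else 0
    refine ⟨X ^ d + ∑ j ∈ Finset.range d, C (a j) * X ^ j, monic_X_pow_add ?_, ?_⟩
    · exact (degree_sum_le _ _).trans_lt ((Finset.sup_lt_iff (WithBot.bot_lt_coe d)).mpr fun j hj =>
        (degree_C_mul_X_pow_le j _).trans_lt (WithBot.coe_lt_coe.mpr (Finset.mem_range.mp hj)))
    · rw [eval₂_add, eval₂_X_pow, eval₂_finsetSum]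
      simp only [eval₂_mul, eval₂_C, eval₂_X_pow]
      have e : ∀ j ∈ Finset.range d, reesMap (S := S) I (a j) * monomial 1 g ^ j =
          monomial d (algebraMap R S (p.coeff j) * g ^ j) := fun j hj => by
        rw [Finset.mem_range] at hj
        simp only [a, dif_pos hj, reesMap, RingHom.coe_comp, Function.comp_apply]
        show Polynomial.map (algebraMap R S) (monomial (d - j) (p.coeff j)) * _ = _
        rw [map_monomial, monomial_pow, monomial_mul_monomial, one_mul, Nat.sub_add_cancel hj.le]
      rw [Finset.sum_congr rfl e, monomial_pow, one_mul, ← map_sum, ← map_add]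
      rw [eval₂_eq_sum_range, Finset.sum_range_succ, hp.coeff_natDegree, map_one, one_mul] at he
      rw [add_comm, he, map_zero]
  · rintro ⟨q, hq, he⟩
    let d := q.natDegree
    refine ⟨X ^ d + ∑ j ∈ Finset.range d, C ((q.coeff j : R[X]).coeff (d - j)) * X ^ j,
      monic_X_pow_add ?_, ?_, ?_⟩
    · exact (degree_sum_le _ _).trans_lt ((Finset.sup_lt_iff (WithBot.bot_lt_coe d)).mpr fun j hj =>
        (degree_C_mul_X_pow_le j _).trans_lt (WithBot.coe_lt_coe.mpr (Finset.mem_range.mp hj)))
    · intro j hj
      rcases subsingleton_or_nontrivial R with hR | hR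
      · rw [Subsingleton.elim (Polynomial.coeff _ j) 0]
        exact Ideal.zero_mem _
      have hdeg : (X ^ d + ∑ j ∈ Finset.range d,
          C ((q.coeff j : R[X]).coeff (d - j)) * X ^ j : R[X]).natDegree = d := by
        refine natDegree_eq_of_degree_eq_some ?_
        rw [degree_add_eq_left_of_degree_lt, degree_X_pow]
        rw [degree_X_pow]
        exact (degree_sum_le _ _).trans_lt ((Finset.sup_lt_iff (WithBot.bot_lt_coe d)).mpr fun j hj =>
          (degree_C_mul_X_pow_le j _).trans_lt (WithBot.coe_lt_coe.mpr (Finset.mem_range.mp hj)))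
      rw [hdeg] at hj ⊢
      simp [coeff_X_pow, hj.ne, finsetSum_coeff, hj]
      exact (q.coeff j).2 (d - j)
    · have h1 := congrArg (fun f : S[X] => f.coeff d) he
      simp only [coeff_zero] at h1
      rw [eval₂_eq_sum_range, Finset.sum_range_succ, hq.coeff_natDegree, map_one, one_mul,
        coeff_add, finsetSum_coeff] at h1
      rw [eval₂_add, eval₂_X_pow, eval₂_finsetSum]
      simp only [eval₂_mul, eval₂_C, eval₂_X_pow]
      rw [← h1, add_comm]
      congr 1
      · refine Finset.sum_congr rfl fun j hj => ?_
        rw [Finset.mem_range] at hj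
        rw [monomial_pow, one_mul, ← C_mul_X_pow_eq_monomial, ← mul_assoc, coeff_mul_X_pow',
          if_pos hj.le, coeff_mul_C]
        show _ = (Polynomial.map (algebraMap R S) (q.coeff j : R[X])).coeff (d - j) * _
        rw [coeff_map]
      · rw [monomial_pow, one_mul, coeff_monomial, if_pos rfl]

/-- Let R → S be a ring map and I ⊆ R an ideal. The elements of S integral over I form an R-submodule of
S; moreover, the product s s' is integral over I for any s ∈ S integral over R and any s' ∈ S
integral over I. -/
theorem result {R S : Type u} [CommRing R] [CommRing S] [Algebra R S] (I : Ideal R) : (∃ N : Submodule R S, ∀ s : S, s ∈ N ↔ W4stkalgebra1.IsIntegralOverIdeal I s) ∧ (∀ s s' : S, IsIntegral R s → W4stkalgebra1.IsIntegralOverIdeal I s' → W4stkalgebra1.IsIntegralOverIdeal I (s * s')) := by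
  refine ⟨⟨{ carrier := {s | (reesMap (S := S) I).IsIntegralElem (Polynomial.monomial 1 s)},
             add_mem' := fun {a b} ha hb => ?_,
             zero_mem' := ?_,
             smul_mem' := fun r s hs => ?_ }, fun s => (isIntegralOverIdeal_iff I s).symm⟩, ?_⟩
  · show RingHom.IsIntegralElem _ (Polynomial.monomial 1 (a + b))
    rw [map_add]
    exact ha.add _ hb
  · show RingHom.IsIntegralElem _ (Polynomial.monomial 1 (0 : S))
    rw [map_zero]
    exact RingHom.isIntegralElem_zero _
  · show RingHom.IsIntegralElem _ (Polynomial.monomial 1 (r • s))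
    have e : Polynomial.monomial 1 (r • s) =
        reesMap (S := S) I (algebraMap R (reesAlgebra I) r) * Polynomial.monomial 1 s := by
      rw [show reesMap (S := S) I (algebraMap R (reesAlgebra I) r) = Polynomial.C (algebraMap R S r)
        from Polynomial.map_C _, Polynomial.C_mul_monomial, Algebra.smul_def]
    rw [e]
    exact RingHom.IsIntegralElem.mul _ (RingHom.isIntegralElem_map _) hs
  · intro s s' hs hs'
    rw [isIntegralOverIdeal_iff] at hs' ⊢
    rw [← Polynomial.C_mul_monomial]
    refine RingHom.IsIntegralElem.mul _ ?_ hs'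
    obtain ⟨p, hp, hps⟩ := hs
    refine ⟨p.map (algebraMap R (reesAlgebra I)), hp.map _, ?_⟩
    rw [Polynomial.eval₂_map, show (reesMap (S := S) I).comp (algebraMap R (reesAlgebra I)) =
      Polynomial.C.comp (algebraMap R S) from RingHom.ext fun r => Polynomial.map_C _,
      ← Polynomial.hom_eval₂, hps, map_zero]

end Groth.Agent.S6325
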