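import Groth.Statements.S6326
import Mathlib
-- import your own Groth.Agent.* helpers here

set_option autoImplicit false
universe u
open CategoryTheory CategoryTheory.Limits
open CAlg

namespace Groth.Agent.S6326

variable (R : Type u) [CommRing R] (N : Type u) [AddCommGroup N] [Module R N]

/-- The finitely generated submodules. -/
abbrev FGSub : Type u := {p : Submodule R N // p.FG}

instance : Nonempty (FGSub R N) := ⟨⟨⊥, Submodule.fg_bot⟩⟩

instance : IsDirectedOrder (FGSub R N) :=
  ⟨fun a b => ⟨⟨a.1 ⊔ b.1, a.2.sup b.2⟩, le_sup_left, le_sup_right⟩⟩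

open CategoryTheory in
/-- The diagram of quotients by finitely generated submodules. -/
noncomputable def quot : FGSub R N ⥤ ModuleCat.{u} R where
  obj p := ModuleCat.of R (N ⧸ p.1)
  map f := ModuleCat.ofHom (Submodule.factor (leOfHom f : _ ≤ _))
  map_id p := by
    ext x
    rfl
  map_comp f g := by
    ext x
    rfl

/-- Let R be a ring and N an R-module such that whenever M is the colimit of a filtered diagram (Mᵢ) of
R-modules (indexed by a filtered category in the same universe), the comparison map colim Hom_R(N,
Mᵢ) → Hom_R(N, M) is injective. Then N is finitely generated. (The implication from finite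
generation back to this injectivity also holds; only the characterizing direction is stated here.) -/
theorem result (R : Type u) [CommRing R] (N : Type u) [AddCommGroup N] [Module R N] (h : ∀ (J : Type u) [SmallCategory J] [IsFiltered J] (F : J ⥤ ModuleCat.{u} R), Function.Injective (colimit.post F (coyoneda.obj (Opposite.op (ModuleCat.of R N))))) : Module.Finite R N := by
  classical
  let F := quot R N
  let p₀ : FGSub R N := ⟨⊥, Submodule.fg_bot⟩
  let x : (coyoneda.obj (Opposite.op (ModuleCat.of R N))).obj (F.obj p₀) :=
    ModuleCat.ofHom (p₀.1.mkQ)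
  let z : (coyoneda.obj (Opposite.op (ModuleCat.of R N))).obj (F.obj p₀) := (0 : ModuleCat.of R N ⟶ F.obj p₀)
  have hker : ModuleCat.ofHom p₀.1.mkQ ≫ colimit.ι F p₀ = 0 := by
    ext n
    let q : FGSub R N := ⟨Submodule.span R {n}, Submodule.fg_span_singleton n⟩
    have hle : p₀ ≤ q := Subtype.coe_le_coe.mp (bot_le : (⊥ : Submodule R N) ≤ q.1)
    show (colimit.ι F p₀).hom (Submodule.Quotient.mk n) = 0
    rw [← colimit.w F (homOfLE hle)]
    show (colimit.ι F q).hom (Submodule.Quotient.mk n) = 0
    exact (congrArg _ ((Submodule.Quotient.mk_eq_zero q.1).mpr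
      (Submodule.mem_span_singleton_self n))).trans (map_zero _)
  have heq : colimit.ι (F ⋙ coyoneda.obj (Opposite.op (ModuleCat.of R N))) p₀ x =
      colimit.ι (F ⋙ coyoneda.obj (Opposite.op (ModuleCat.of R N))) p₀ z := by
    apply h (FGSub R N) F
    rw [← CategoryTheory.comp_apply, ← CategoryTheory.comp_apply, colimit.ι_post]
    show x ≫ colimit.ι F p₀ = z ≫ colimit.ι F p₀
    rw [show x ≫ colimit.ι F p₀ = 0 from hker]
    exact zero_comp.symm
  obtain ⟨k, f, g, hfg⟩ := (Types.FilteredColimit.colimit_eq_iff
    (F ⋙ coyoneda.obj (Opposite.op (ModuleCat.of R N)))).mp heq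
  have hz : x ≫ F.map f = z ≫ F.map g := hfg
  rw [show z ≫ F.map g = 0 from zero_comp] at hz
  have htop : k.1 = ⊤ := eq_top_iff.mpr fun n _ => by
    have := congrArg (fun φ => φ.hom n) hz
    exact (Submodule.Quotient.mk_eq_zero k.1).mp this
  exact ⟨htop ▸ k.2⟩

end Groth.Agent.S6326
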