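import Groth.Statements.S6327
import Mathlib
import Groth.Agent.S6326
-- import your own Groth.Agent.* helpers here

set_option autoImplicit false
universe u
open CategoryTheory CategoryTheory.Limits
open CAlg

namespace Groth.Agent.S6327

section Aux
open CategoryTheory CategoryTheory.Limits

variable {R : Type u} [CommRing R] {n : ℕ} (K : Submodule R (Fin n → R))

private abbrev FGLe : Type u := {p : Submodule R (Fin n → R) // p.FG ∧ p ≤ K}

private instance : Nonempty (FGLe K) := ⟨⟨⊥, Submodule.fg_bot, bot_le⟩⟩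

private instance : IsDirectedOrder (FGLe K) :=
  ⟨fun a b => ⟨⟨a.1 ⊔ b.1, a.2.1.sup b.2.1, sup_le a.2.2 b.2.2⟩,
    Subtype.coe_le_coe.mp (le_sup_left : a.1 ≤ a.1 ⊔ b.1),
    Subtype.coe_le_coe.mp (le_sup_right : b.1 ≤ a.1 ⊔ b.1)⟩⟩

private noncomputable def quotD : FGLe K ⥤ ModuleCat.{u} R where
  obj p := ModuleCat.of R ((Fin n → R) ⧸ p.1)
  map f := ModuleCat.ofHom (Submodule.factor (leOfHom f : _ ≤ _))
  map_id p := by
    ext x
    rfl
  map_comp f g := by
    ext x
    rfl

end Aux

/-- Let R be a ring and N an R-module such that whenever M is the colimit of a filtered diagram (Mᵢ) of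
R-modules (indexed by a filtered category in the same universe), the comparison map colim Hom_R(N,
Mᵢ) → Hom_R(N, M) is bijective. Then N is finitely presented. (The implication from finite
presentation back to this bijectivity also holds; only the characterizing direction is stated here.) -/
theorem result (R : Type u) [CommRing R] (N : Type u) [AddCommGroup N] [Module R N] (h : ∀ (J : Type u) [SmallCategory J] [IsFiltered J] (F : J ⥤ ModuleCat.{u} R), Function.Bijective (colimit.post F (coyoneda.obj (Opposite.op (ModuleCat.of R N))))) : Module.FinitePresentation R N := by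
  classical
  haveI : Module.Finite R N := Groth.Agent.S6326.result R N (fun J _ _ F => (h J F).1)
  obtain ⟨n, π, hπ⟩ := Module.Finite.exists_fin' R N
  let K := LinearMap.ker π
  let F := quotD K
  let c : Cocone F :=
    { pt := ModuleCat.of R N
      ι :=
        { app := fun p => ModuleCat.ofHom (p.1.liftQ π p.2.2)
          naturality := fun p q f => by
            apply ModuleCat.hom_ext
            exact Submodule.linearMap_qext _ rfl } }
  let p₀ : FGLe K := ⟨⊥, Submodule.fg_bot, bot_le⟩
  have hvan : ∀ v ∈ K, colimit.ι F p₀ (Submodule.Quotient.mk v) = 0 := by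
    intro v hv
    let q : FGLe K := ⟨Submodule.span R {v}, Submodule.fg_span_singleton v,
      (Submodule.span_singleton_le_iff_mem _ _).mpr hv⟩
    have hle : p₀ ≤ q := Subtype.coe_le_coe.mp (bot_le : (⊥ : Submodule R (Fin n → R)) ≤ q.1)
    rw [← colimit.w F (homOfLE hle)]
    show (colimit.ι F q).hom (Submodule.Quotient.mk v) = 0
    exact (congrArg _ ((Submodule.Quotient.mk_eq_zero q.1).mpr
      (Submodule.mem_span_singleton_self v))).trans (map_zero _)
  let inv : N →ₗ[R] (colimit F : ModuleCat.{u} R) :=
    K.liftQ ((colimit.ι F p₀).hom ∘ₗ p₀.1.mkQ) hvan ∘ₗ (π.quotKerEquivOfSurjective hπ).symm.toLinearMap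
  have hinv : ∀ v, inv (π v) = colimit.ι F p₀ (Submodule.Quotient.mk v) := by
    intro v
    have : (π.quotKerEquivOfSurjective hπ).symm (π v) = Submodule.Quotient.mk v := by
      rw [LinearEquiv.symm_apply_eq]; rfl
    simp only [inv, LinearMap.comp_apply, LinearEquiv.coe_coe, this]
    rfl
  obtain ⟨x, hx⟩ := (h (FGLe K) F).2 (ModuleCat.ofHom inv)
  obtain ⟨p, s, rfl⟩ := Concrete.colimit_exists_rep (F ⋙ coyoneda.obj (Opposite.op (ModuleCat.of R N))) x
  rw [← ConcreteCategory.comp_apply, colimit.ι_post] at hx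
  let s' : ModuleCat.of R N ⟶ F.obj p := s
  have hsec : ∀ m : N, p.1.liftQ π p.2.2 (s'.hom m) = m := by
    intro m
    have h1 : s' ≫ colimit.ι F p = ModuleCat.ofHom inv := hx
    have h2 : (colimit.ι F p ≫ colimit.desc F c).hom (s'.hom m) = colimit.desc F c (inv m) := by
      rw [ModuleCat.hom_comp, LinearMap.comp_apply]
      exact congr_arg _ (LinearMap.congr_fun (congr_arg ModuleCat.Hom.hom h1) m)
    rw [colimit.ι_desc] at h2
    refine h2.trans ?_
    obtain ⟨v, rfl⟩ := hπ m
    rw [hinv, ← ConcreteCategory.comp_apply, colimit.ι_desc]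
    rfl
  haveI : Module.FinitePresentation R ((Fin n → R) ⧸ p.1) :=
    Module.finitePresentation_of_surjective p.1.mkQ p.1.mkQ_surjective (by rw [Submodule.ker_mkQ]; exact p.2.1)
  let q : ((Fin n → R) ⧸ p.1) →ₗ[R] N := p.1.liftQ π p.2.2
  refine Module.finitePresentation_of_surjective q (fun m => ⟨s'.hom m, hsec m⟩) ?_
  let σ : N →ₗ[R] ((Fin n → R) ⧸ p.1) := s'.hom
  have hσ : ∀ m, q (σ m) = m := hsec
  have : LinearMap.ker q = LinearMap.range (LinearMap.id - σ ∘ₗ q) := by
    apply le_antisymm
    · intro z hz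
      rw [LinearMap.mem_ker] at hz
      refine ⟨z, ?_⟩
      simp [hz]
    · intro y hy
      obtain ⟨z, rfl⟩ := hy
      simp [hσ]
  rw [this, ← Submodule.map_top]
  exact Submodule.FG.map _ Module.Finite.fg_top

end Groth.Agent.S6327
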