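import Groth.Statements.S6328
import Mathlib
-- import your own Groth.Agent.* helpers here

set_option autoImplicit false
universe u
open CAlg

namespace Groth.Agent.S6328

section Aux
open Finsupp

variable (R : Type u) [CommRing R] (M : Type u) [AddCommGroup M] [Module R M]

/-- Finite sets of generators with finite sets of relations among them. -/
@[ext] structure Idx where
  gens : Finset M
  rels : Finset (M →₀ R)
  supp : ∀ r ∈ rels, r ∈ Finsupp.supported R R (gens : Set M)
  rel : ∀ r ∈ rels, Finsupp.linearCombination R id r = 0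

variable {R M}

instance : Preorder (Idx R M) where
  le i j := i.gens ⊆ j.gens ∧ i.rels ⊆ j.rels
  le_refl i := ⟨subset_rfl, subset_rfl⟩
  le_trans i j k h h' := ⟨h.1.trans h'.1, h.2.trans h'.2⟩

abbrev Gens (i : Idx R M) : Submodule R (M →₀ R) := Finsupp.supported R R (i.gens : Set M)

noncomputable instance instACG (i : Idx R M) : AddCommGroup (Gens i) := Submodule.addCommGroup _

noncomputable def Rels (i : Idx R M) : Submodule R (Gens i) :=
  (Submodule.span R (i.rels : Set (M →₀ R))).comap (Gens i).subtype

abbrev G (i : Idx R M) : Type u := Gens i ⧸ Rels i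

noncomputable def tr (i j : Idx R M) (h : i ≤ j) : G i →ₗ[R] G j :=
  Submodule.mapQ (Rels i) (Rels j) (Submodule.inclusion (Finsupp.supported_mono (by exact_mod_cast h.1)))
    (fun _ hx => Submodule.span_mono (by exact_mod_cast h.2) hx)

noncomputable def toM (i : Idx R M) : G i →ₗ[R] M :=
  (Rels i).liftQ ((Finsupp.linearCombination R id).comp (Gens i).subtype) (fun x hx =>
    (Submodule.span_le (p := LinearMap.ker (Finsupp.linearCombination R (id : M → M)))).mpr i.rel hx)

theorem fp (i : Idx R M) : Module.FinitePresentation R (G i) := by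
  classical
  haveI : Module.Free R (Gens i) := Module.Free.of_equiv (Finsupp.supportedEquivFinsupp (R := R) (M := R) (i.gens : Set M)).symm
  haveI : Module.Finite R (Gens i) := Module.Finite.equiv (Finsupp.supportedEquivFinsupp (R := R) (M := R) (i.gens : Set M)).symm
  refine Module.finitePresentation_of_free_of_surjective (Rels i).mkQ (Rels i).mkQ_surjective ?_
  rw [Submodule.ker_mkQ, Rels]
  refine Submodule.fg_of_fg_map_injective (Gens i).subtype (Gens i).subtype_injective ?_
  rw [Submodule.map_comap_eq, Submodule.range_subtype, inf_eq_right.mpr (Submodule.span_le.mpr i.supp)]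
  exact Submodule.fg_span i.rels.finite_toSet

theorem dsys : DirectedSystem (fun i : Idx R M => G i) (fun i j h => tr i j h) where
  map_self i x := by
    obtain ⟨x, rfl⟩ := Submodule.mkQ_surjective _ x
    rfl
  map_map i j k hij hjk x := by
    obtain ⟨x, rfl⟩ := Submodule.mkQ_surjective _ x
    rfl

theorem directed [DecidableEq M] [DecidableEq R] : IsDirected (Idx R M) (· ≤ ·) := ⟨fun i j =>
  ⟨⟨i.gens ∪ j.gens, i.rels ∪ j.rels, fun r hr => by
      rcases Finset.mem_union.mp hr with h | h
      · exact Finsupp.supported_mono (by simp) (i.supp r h)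
      · exact Finsupp.supported_mono (by simp) (j.supp r h),
    fun r hr => by
      rcases Finset.mem_union.mp hr with h | h
      · exact i.rel r h
      · exact j.rel r h⟩,
    ⟨Finset.subset_union_left, Finset.subset_union_left⟩,
    ⟨Finset.subset_union_right, Finset.subset_union_right⟩⟩⟩

end Aux

/-- Every module M over a ring R can be written as the direct limit of a directed system (Mᵢ, μᵢⱼ) of
finitely presented R-modules. -/
theorem result (R : Type u) [CommRing R] (M : Type u) [AddCommGroup M] [Module R M] : ∃ (ι : Type u) (_ : Preorder ι) (_ : IsDirected ι (· ≤ ·)) (_ : Nonempty ι) (_ : DecidableEq ι) (G : ι → Type u) (_ : ∀ i, AddCommGroup (G i)) (_ : ∀ i, Module R (G i)) (f : ∀ i j, i ≤ j → G i →ₗ[R] G j) (_ : DirectedSystem G fun i j h => f i j h), (∀ i, Module.FinitePresentation R (G i)) ∧ Nonempty (Module.DirectLimit G f ≃ₗ[R] M) := by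
  classical
  haveI := directed (R := R) (M := M)
  haveI := dsys (R := R) (M := M)
  haveI : Nonempty (Idx R M) := ⟨⟨∅, ∅, by simp, by simp⟩⟩
  let Φ : Module.DirectLimit (fun i : Idx R M => G i) tr →ₗ[R] M :=
    Module.DirectLimit.lift R (Idx R M) (fun i => G i) tr toM (fun i j h x => by
      obtain ⟨x, rfl⟩ := Submodule.mkQ_surjective _ x
      rfl)
  refine ⟨Idx R M, inferInstance, inferInstance, inferInstance, inferInstance, fun i => G i, fun i => inferInstance,
    fun i => inferInstance, tr, dsys, fp, ⟨LinearEquiv.ofBijective Φ ⟨?_, fun m => ?_⟩⟩⟩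
  · intro z z' hzz
    obtain ⟨i, x, y, rfl, rfl⟩ := Module.DirectLimit.exists_of₂ z z'
    obtain ⟨x, rfl⟩ := Submodule.mkQ_surjective _ x
    obtain ⟨y, rfl⟩ := Submodule.mkQ_surjective _ y
    have hx : Finsupp.linearCombination R id ((x - y : Gens i) : M →₀ R) = 0 := by
      rw [Module.DirectLimit.lift_of, Module.DirectLimit.lift_of] at hzz
      show Finsupp.linearCombination R id ((x : M →₀ R) - (y : M →₀ R)) = 0
      rw [map_sub, sub_eq_zero]
      exact hzz
    obtain ⟨j, hij, hr⟩ : ∃ (j : Idx R M) (_ : i ≤ j), ((x - y : Gens i) : M →₀ R) ∈ j.rels :=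
      ⟨⟨i.gens, insert ((x - y : Gens i) : M →₀ R) i.rels, fun r hr => by
        rcases Finset.mem_insert.mp hr with rfl | h
        · exact (x - y).2
        · exact i.supp r h, fun r hr => by
        rcases Finset.mem_insert.mp hr with rfl | h
        · exact hx
        · exact i.rel r h⟩, ⟨subset_rfl, Finset.subset_insert _ _⟩, Finset.mem_insert_self _ _⟩
    rw [← Module.DirectLimit.of_f (R := R) (G := fun i => G i) (f := tr) (hij := hij) (x := (Rels i).mkQ x), ← Module.DirectLimit.of_f (R := R) (G := fun i => G i) (f := tr) (hij := hij) (x := (Rels i).mkQ y)]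
    have : tr i j hij ((Rels i).mkQ x) = tr i j hij ((Rels i).mkQ y) :=
      (Submodule.Quotient.eq _).mpr (Submodule.subset_span hr)
    rw [this]
  · obtain ⟨i, hi⟩ : ∃ i : Idx R M, m ∈ i.gens := ⟨⟨{m}, ∅, fun r hr => absurd hr (by simp), fun r hr => absurd hr (by simp)⟩, Finset.mem_singleton_self m⟩
    have hmem : Finsupp.single m (1 : R) ∈ Gens i := Finsupp.single_mem_supported R (1 : R) hi
    refine ⟨Module.DirectLimit.of R (Idx R M) (fun i => G i) tr i ((Rels i).mkQ ⟨_, hmem⟩), ?_⟩
    rw [Module.DirectLimit.lift_of]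
    show Finsupp.linearCombination R id (Finsupp.single m (1 : R)) = m
    simp

end Groth.Agent.S6328
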