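import Groth.Statements.S6329
import Mathlib
import Groth.Agent.GeomUnib.LengthLocal
-- import your own Groth.Agent.* helpers here

set_option autoImplicit false
universe u
open CAlg

namespace Groth.Agent.S6329

open GeomUnib in
theorem lenAt_simple {R : Type u} [CommRing R] {Q : Type u} [AddCommGroup Q] [Module R Q]
    [IsSimpleModule R Q] (m : Ideal R) [m.IsMaximal] :
    lenAt m Q = if Module.annihilator R Q = m then 1 else 0 := by
  classical
  haveI : Nontrivial Q := IsSimpleModule.nontrivial R Q
  have hmax : (Module.annihilator R Q).IsMaximal := IsSimpleModule.annihilator_isMaximal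
  split_ifs with h
  · rw [lenAt, Module.length_eq_one_iff]
    haveI : Nontrivial (LocalizedModule m.primeCompl Q) := by
      obtain ⟨q, hq⟩ := exists_ne (0 : Q)
      refine nontrivial_of_ne (LocalizedModule.mk q 1) 0 fun h0 => hq ?_
      obtain ⟨⟨c, hc⟩, hcq⟩ := (IsLocalizedModule.eq_zero_iff m.primeCompl
        (LocalizedModule.mkLinearMap m.primeCompl Q)).1 h0
      by_contra hq
      obtain ⟨u, i, hi, hu⟩ := hmax.exists_inv (x := c) (by rwa [h])
      apply hq
      have : (u * c + i) • q = q := by rw [hu, one_smul]
      rw [add_smul, Module.mem_annihilator.1 hi, add_zero, mul_smul, show c • q = 0 from hcq, smul_zero] at this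
      exact this.symm
    refine isSimpleModule_iff _ _ |>.2 ⟨fun N => ?_⟩
    rcases IsSimpleOrder.eq_bot_or_eq_top
      ((N.restrictScalars R).comap (LocalizedModule.mkLinearMap m.primeCompl Q)) with hb | ht
    · refine Or.inl (eq_bot_iff.2 fun x hx => ?_)
      induction x using LocalizedModule.induction_on with
      | h q s =>
        have hq : LocalizedModule.mk q 1 ∈ N := by
          have := (N.restrictScalars R).smul_mem (s : R) hx
          rw [LocalizedModule.smul'_mk] at this
          have e : LocalizedModule.mk ((s : R) • q) s = LocalizedModule.mk q (1 : m.primeCompl) :=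
            LocalizedModule.mk_cancel s q
          rwa [e] at this
        have : q = 0 := by
          have h0 : q ∈ (⊥ : Submodule R Q) := hb ▸ (show q ∈ Submodule.comap _ _ from hq)
          exact (Submodule.mem_bot R).1 h0
        simp [this]
    · refine Or.inr (eq_top_iff.2 fun x _ => ?_)
      induction x using LocalizedModule.induction_on with
      | h q s =>
        have hq : LocalizedModule.mk q 1 ∈ N := (show q ∈ Submodule.comap (LocalizedModule.mkLinearMap m.primeCompl Q) (N.restrictScalars R) from ht ▸ Submodule.mem_top)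
        have := N.smul_mem (Localization.mk 1 s) hq
        rwa [LocalizedModule.mk_smul_mk, one_smul, mul_one] at this
  · refine lenAt_eq_zero m fun x => ?_
    obtain ⟨a, ha, ham⟩ := Set.not_subset.1 fun hle => h (hmax.eq_of_le (Ideal.IsMaximal.ne_top ‹_›) hle)
    exact ⟨a, ham, Module.mem_annihilator.1 ha x⟩


/-- Let R be a ring, M an R-module and 0 = M₀ ⊂ M₁ ⊂ … ⊂ Mₙ = M a maximal chain of submodules (a
composition series; each Mᵢ/Mᵢ₋₁ is simple, of the form R/mᵢ with mᵢ = (Mᵢ₋₁ : Mᵢ) maximal). Then
for every maximal ideal m of R the number of indices i with mᵢ = m equals length_{R_m}(M_m). -/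
theorem result {R : Type u} [CommRing R] (M : Type u) [AddCommGroup M] [Module R M] (s : CompositionSeries (Submodule R M)) (h0 : s.head = ⊥) (h1 : s.last = ⊤) (m : Ideal R) [m.IsMaximal] : ((Finset.univ.filter fun i : Fin s.length => (s i.castSucc).colon (s i.succ : Set M) = m).card : ℕ∞) = Module.length (Localization.AtPrime m) (LocalizedModule m.primeCompl M) := by
  classical
  suffices H : ∀ n : ℕ, ∀ hn : n ≤ s.length, GeomUnib.lenAt m (s ⟨n, Nat.lt_succ_of_le hn⟩) =
      ((Finset.univ.filter fun i : Fin s.length =>
        (i : ℕ) < n ∧ (s i.castSucc).colon (s i.succ : Set M) = m).card : ℕ∞) by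
    have := H s.length le_rfl
    have hl : s ⟨s.length, Nat.lt_succ_of_le le_rfl⟩ = ⊤ := h1
    rw [hl] at this
    have e : GeomUnib.lenAt m (⊤ : Submodule R M) = GeomUnib.lenAt m M :=
      LinearEquiv.length_eq (IsLocalizedModule.mapEquiv m.primeCompl
        (LocalizedModule.mkLinearMap _ _) (LocalizedModule.mkLinearMap _ _) (Localization m.primeCompl)
        (Submodule.topEquiv : (⊤ : Submodule R M) ≃ₗ[R] M))
    show _ = GeomUnib.lenAt m M
    rw [← e]
    refine Eq.trans ?_ this.symm
    congr 2
    ext i
    simp [i.2]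
  intro n
  induction n with
  | zero =>
    intro hn
    have hl : s ⟨0, Nat.lt_succ_of_le hn⟩ = ⊥ := h0
    rw [GeomUnib.lenAt_eq_zero m (fun x => ⟨1, m.primeCompl.one_mem, by
      have hx : (x : M) ∈ (⊥ : Submodule R M) := hl ▸ x.2
      exact (one_smul R x).trans (Subtype.ext ((Submodule.mem_bot R).1 hx))⟩)]
    simp
  | succ n ih =>
    intro hn
    let i : Fin s.length := ⟨n, hn⟩
    have hcov : s i.castSucc ⋖ s i.succ := s.step i
    haveI : IsSimpleModule R (↥(s i.succ) ⧸ Submodule.comap (s i.succ).subtype (s i.castSucc)) :=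
      covBy_iff_quot_is_simple hcov.le |>.1 hcov
    have hadd := GeomUnib.lenAt_add m (Submodule.inclusion hcov.le)
      (Submodule.mkQ (Submodule.comap (s i.succ).subtype (s i.castSucc)))
      (Submodule.inclusion_injective _) (Submodule.mkQ_surjective _) (fun y => by
        rw [Submodule.mkQ_apply, Submodule.Quotient.mk_eq_zero, Submodule.mem_comap]
        exact ⟨fun h => ⟨⟨y, h⟩, rfl⟩, fun ⟨z, hz⟩ => hz ▸ z.2⟩)
    rw [lenAt_simple (Q := ↥(s i.succ) ⧸ Submodule.comap (s i.succ).subtype (s i.castSucc)) m] at hadd
    have hann : Module.annihilator R (↥(s i.succ) ⧸ Submodule.comap (s i.succ).subtype (s i.castSucc)) =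
        (s i.castSucc).colon (s i.succ : Set M) := by
      ext r
      rw [Module.mem_annihilator, Submodule.mem_colon]
      refine ⟨fun h x hx => ?_, fun h x => ?_⟩
      · have h' := h (Submodule.Quotient.mk ⟨x, hx⟩)
        rw [← Submodule.Quotient.mk_smul, Submodule.Quotient.mk_eq_zero] at h'
        exact h'
      · obtain ⟨x, rfl⟩ := Submodule.Quotient.mk_surjective _ x
        rw [← Submodule.Quotient.mk_smul, Submodule.Quotient.mk_eq_zero]
        exact h x x.2
    rw [hann] at hadd
    have ih' := ih (Nat.le_of_succ_le hn)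
    refine hadd.trans ?_
    rw [show GeomUnib.lenAt m (s i.castSucc) = _ from ih']
    split_ifs with hm
    · rw [show (Finset.univ.filter fun j : Fin s.length => (j : ℕ) < n + 1 ∧ (s j.castSucc).colon (s j.succ : Set M) = m) =
          insert i (Finset.univ.filter fun j : Fin s.length => (j : ℕ) < n ∧ (s j.castSucc).colon (s j.succ : Set M) = m) from ?_,
        Finset.card_insert_of_notMem (by simp [i]), Nat.cast_add, Nat.cast_one]
      ext j
      simp only [Finset.mem_filter, Finset.mem_univ, true_and, Finset.mem_insert]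
      constructor
      · rintro ⟨h, h'⟩
        rcases Nat.lt_succ_iff_lt_or_eq.1 h with h | h
        · exact Or.inr ⟨h, h'⟩
        · exact Or.inl (Fin.ext h)
      · rintro (rfl | ⟨h, h'⟩)
        · exact ⟨Nat.lt_succ_self _, hm⟩
        · exact ⟨h.trans (Nat.lt_succ_self _), h'⟩
    · rw [add_zero]
      congr 2
      ext j
      simp only [Finset.mem_filter, Finset.mem_univ, true_and]
      constructor
      · rintro ⟨h, h'⟩; exact ⟨h.trans (Nat.lt_succ_self _), h'⟩
      · rintro ⟨h, h'⟩
        rcases Nat.lt_succ_iff_lt_or_eq.1 h with h | h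
        · exact ⟨h, h'⟩
        · exact absurd ((Fin.ext h : j = i) ▸ h') hm

end Groth.Agent.S6329
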