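import Groth.Statements.S6330
import Groth.Agent.SurjLocus.Basic
-- import your own Groth.Agent.* helpers here

set_option autoImplicit false
universe u
open scoped TensorProduct
open CAlg

namespace Groth.Agent.S6330

/-- Let R be a ring and φ : P₁ → P₂ a map of finite projective R-modules. The set W of primes p of R
such that φ ⊗ κ(p) is surjective is open, and for every f ∈ R with D(f) ⊆ W the map (P₁)_f → (P₂)_f
is surjective and Ker(φ)_f is a finite projective module over R_f. -/
theorem result {R : Type u} [CommRing R] {P₁ P₂ : Type u} [AddCommGroup P₁] [Module R P₁] [AddCommGroup P₂] [Module R P₂] [Module.Finite R P₁] [Module.Projective R P₁] [Module.Finite R P₂] [Module.Projective R P₂] (φ : P₁ →ₗ[R] P₂) : IsOpen {p : PrimeSpectrum R | Function.Surjective (φ.lTensor p.asIdeal.ResidueField)} ∧ ∀ f : R, (↑(PrimeSpectrum.basicOpen f) : Set (PrimeSpectrum R)) ⊆ {p : PrimeSpectrum R | Function.Surjective (φ.lTensor p.asIdeal.ResidueField)} → Function.Surjective (LocalizedModule.map (Submonoid.powers f) φ) ∧ Module.Finite (Localization.Away f) (LocalizedModule (Submonoid.powers f)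 (LinearMap.ker φ)) ∧ Module.Projective (Localization.Away f) (LocalizedModule (Submonoid.powers f) (LinearMap.ker φ)) := by
  refine ⟨?_, fun f hf => ?_⟩
  · convert SurjLocus.isOpen_locus φ using 1
    ext p
    exact (SurjLocus.tensor_iff φ p).trans (SurjLocus.localized_iff φ p).symm
  have hs := SurjLocus.away_surjective φ f fun p hp => (SurjLocus.tensor_iff φ p).mp (hf hp)
  let Rf := Localization.Away f
  let L₂ := LocalizedModule (Submonoid.powers f) P₂
  let ψ := LocalizedModule.map (Submonoid.powers f) φ
  let K := LinearMap.ker ψ
  haveI : Module.Projective Rf L₂ := Module.projective_of_isLocalizedModule (Submonoid.powers f) (LocalizedModule.mkLinearMap _ P₂)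
  haveI : Module.Projective Rf (LocalizedModule (Submonoid.powers f) P₁) :=
    Module.projective_of_isLocalizedModule (Submonoid.powers f) (LocalizedModule.mkLinearMap _ P₁)
  haveI : Module.Finite Rf (LocalizedModule (Submonoid.powers f) P₁) :=
    Module.Finite.of_isLocalizedModule (Submonoid.powers f) (LocalizedModule.mkLinearMap _ P₁)
  obtain ⟨s, hsec⟩ := Module.projective_lifting_property ψ LinearMap.id hs
  let pr : LocalizedModule (Submonoid.powers f) P₁ →ₗ[Rf] K := LinearMap.codRestrict K (LinearMap.id - s ∘ₗ ψ) fun x => by
    have h := LinearMap.congr_fun hsec (ψ x)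
    simp only [LinearMap.comp_apply, LinearMap.id_apply] at h
    simp [K, h]
  have hpr : pr ∘ₗ K.subtype = LinearMap.id := LinearMap.ext fun k => Subtype.ext (by simp [pr, show ψ k.1 = 0 from k.2])
  haveI : Module.Projective Rf K := Module.Projective.of_split K.subtype pr hpr
  haveI : Module.Finite Rf K := Module.Finite.of_surjective pr fun k => ⟨k.1, LinearMap.congr_fun hpr k⟩
  let j := LocalizedModule.map (Submonoid.powers f) (LinearMap.ker φ).subtype
  have hj : Function.Injective j := LocalizedModule.map_injective _ _ (LinearMap.ker φ).injective_subtype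
  have hrange : LinearMap.range j = K := by
    refine le_antisymm ?_ ?_
    · rintro _ ⟨x, rfl⟩
      exact (LocalizedModule.map_exact (Submonoid.powers f) (LinearMap.ker φ).subtype φ φ.exact_subtype_ker_map _).mpr ⟨x, rfl⟩
    · intro y hy
      exact (LocalizedModule.map_exact (Submonoid.powers f) (LinearMap.ker φ).subtype φ φ.exact_subtype_ker_map _).mp hy
  let e := (LinearEquiv.ofInjective j hj).trans (LinearEquiv.ofEq _ _ hrange)
  exact ⟨hs, Module.Finite.equiv e.symm, Module.Projective.of_equiv e.symm⟩

end Groth.Agent.S6330
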