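import Mathlib
import Groth.Statements.S6331
-- import your own Groth.Agent.* helpers here

set_option autoImplicit false
universe u
open CAlg

namespace Groth.Agent.S6331

/-- Let R be a ring, I ⊆ R an ideal all of whose elements are nilpotent, and n ≥ 1 an integer whose
image in R/I is invertible. Then (1) raising to the n-th power is a bijection of the subset 1 + I of
R onto itself: for every y ∈ I there is exactly one x ∈ I with (1 + x)ⁿ = 1 + y; (2) a unit u of R
has an n-th root in R exactly when the residue class of u has an n-th root in R/I. -/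
theorem result {R : Type u} [CommRing R] (I : Ideal R) (hI : ∀ x ∈ I, IsNilpotent x) (n : ℕ) (hn : 1 ≤ n) (hinv : IsUnit ((n : ℕ) : R ⧸ I)) : (∀ y ∈ I, ∃! x : R, x ∈ I ∧ (1 + x) ^ n = 1 + y) ∧ (∀ u : Rˣ, (∃ v : R, v ^ n = (u : R)) ↔ ∃ w : R ⧸ I, w ^ n = Ideal.Quotient.mk I (u : R)) := by
  have hunit : ∀ c : R, IsUnit (Ideal.Quotient.mk I c) → IsUnit c := fun c hc => by
    obtain ⟨d, hd⟩ := hc.exists_right_inv
    obtain ⟨d, rfl⟩ := Ideal.Quotient.mk_surjective d
    rw [← map_mul, ← map_one (Ideal.Quotient.mk I), Ideal.Quotient.eq] at hd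
    have h1 := (hI _ hd).isUnit_one_add
    rw [add_sub_cancel] at h1
    exact isUnit_of_mul_isUnit_left h1
  have hnR : IsUnit (n : R) := hunit _ (by rwa [map_natCast])
  have main : ∀ y ∈ I, ∃! x : R, x ∈ I ∧ (1 + x) ^ n = 1 + y := fun y hy => by
    let P : Polynomial R := (1 + Polynomial.X) ^ n - Polynomial.C (1 + y)
    have h1 : IsNilpotent (Polynomial.aeval (0 : R) P) := by
      simpa [P] using (hI y hy)
    have h2 : IsUnit (Polynomial.aeval (0 : R) P.derivative) := by
      simpa [P, Polynomial.derivative_pow] using hnR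
    obtain ⟨r, ⟨hr, hr'⟩, huniq⟩ := Polynomial.existsUnique_nilpotent_sub_and_aeval_eq_zero h1 h2
    simp [P, sub_eq_zero] at hr hr'
    have hrI : r ∈ I := by
      let Q : Polynomial (R ⧸ I) := (1 + Polynomial.X) ^ n - 1
      have q1 : IsNilpotent (Polynomial.aeval (0 : R ⧸ I) Q) := by simp [Q]
      have q2 : IsUnit (Polynomial.aeval (0 : R ⧸ I) Q.derivative) := by
        simpa [Q, Polynomial.derivative_pow] using hinv
      refine Ideal.Quotient.eq_zero_iff_mem.mp <| (Polynomial.existsUnique_nilpotent_sub_and_aeval_eq_zero q1 q2).unique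
        ⟨by simpa using hr.map (Ideal.Quotient.mk I), ?_⟩ ⟨by simp, by simp [Q]⟩
      have := congrArg (Ideal.Quotient.mk I) hr'
      simp [Ideal.Quotient.eq_zero_iff_mem.mpr hy] at this
      simp [Q, this]
    refine ⟨r, ⟨hrI, hr'⟩, fun x hx => huniq x ⟨?_, ?_⟩⟩
    · simpa using hI x hx.1
    · simp [P, hx.2]
  refine ⟨main, fun u => ⟨fun ⟨v, hv⟩ => ⟨Ideal.Quotient.mk I v, by rw [← map_pow, hv]⟩, fun ⟨w, hw⟩ => ?_⟩⟩
  obtain ⟨v₀, rfl⟩ := Ideal.Quotient.mk_surjective w
  rw [← map_pow, Ideal.Quotient.eq] at hw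
  have hvu : IsUnit (v₀ ^ n) := hunit _ (by
    rw [Ideal.Quotient.eq.mpr hw]; exact u.isUnit.map _)
  obtain ⟨c, hc⟩ := hvu.exists_right_inv
  obtain ⟨x, ⟨-, hx⟩, -⟩ := main (((u : R) - v₀ ^ n) * c) (I.mul_mem_right _ (by simpa using I.neg_mem hw))
  exact ⟨v₀ * (1 + x), by rw [mul_pow, hx]; linear_combination ((u : R) - v₀ ^ n) * hc⟩

end Groth.Agent.S6331
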