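import Mathlib
import Groth.Statements.S6332
-- import your own Groth.Agent.* helpers here

set_option autoImplicit false
universe u
open Fields

namespace Groth.Agent.S6332

open IntermediateField in
/-- Let L/K be a finite Galois extension of fields of characteristic p > 0 whose degree equals the prime
p (equivalently, the Galois group is cyclic of order p). Then there is an element z of L with z ^ p
- z in K which generates L over K. -/
theorem result {K L : Type u} [Field K] [Field L] [Algebra K L] (p : ℕ)
    [Fact p.Prime] [CharP K p] [FiniteDimensional K L] [IsGalois K L]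
    (hdeg : Module.finrank K L = p) :
    ∃ z : L, z ^ p - z ∈ Set.range (algebraMap K L) ∧ K⟮z⟯ = ⊤ := by
  classical
  haveI : CharP L p := charP_of_injective_algebraMap (algebraMap K L).injective p
  haveI : Algebra (ZMod p) L := ZMod.algebra L p
  obtain ⟨θ, hθ⟩ := Algebra.trace_surjective K L 1
  have hcard : Nat.card Gal(L/K) = p := by rw [IsGalois.card_aut_eq_finrank, hdeg]
  haveI : IsCyclic Gal(L/K) := isCyclic_of_prime_card hcard
  let E : Multiplicative (ZMod p) ≃* Gal(L/K) := (mulEquivOfPrimeCardEq (p := p) (by simp) hcard)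
  let σ : ZMod p → Gal(L/K) := fun j => E (Multiplicative.ofAdd j)
  let z : L := ∑ j : ZMod p, (algebraMap (ZMod p) L j) * σ j θ
  have hz : ∀ i : ZMod p, σ i z = z - algebraMap (ZMod p) L i := by
    intro i
    have h1 : ∀ j, σ i (σ j θ) = σ (i + j) θ := fun j => by
      show _ = E (Multiplicative.ofAdd (i + j)) θ
      rw [ofAdd_add, map_mul]; rfl
    have hfix : ∀ c : ZMod p, σ i (algebraMap (ZMod p) L c) = algebraMap (ZMod p) L c := fun c => by
      obtain ⟨n, rfl⟩ := ZMod.natCast_zmod_surjective c
      simp
    have hsum : ∑ j : ZMod p, σ j θ = 1 := by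
      rw [show (∑ j : ZMod p, σ j θ) = ∑ g : Gal(L/K), g θ from
        Fintype.sum_equiv (Multiplicative.ofAdd.trans E.toEquiv) _ _ fun _ => rfl,
        ← trace_eq_sum_automorphisms, hθ, map_one]
    simp only [z, map_sum, map_mul, hfix, h1]
    rw [← Equiv.sum_comp (Equiv.subRight i)]
    simp only [Equiv.subRight_apply, map_sub, sub_mul, Finset.sum_sub_distrib, ← Finset.mul_sum, add_sub_cancel, hsum, mul_one]
  refine ⟨z, ?_, ?_⟩
  · refine (IsGalois.mem_range_algebraMap_iff_fixed _).2 fun g => ?_
    obtain ⟨i, rfl⟩ : ∃ i, σ i = g := ⟨(E.symm g).toAdd, E.apply_symm_apply g⟩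
    rw [map_sub, map_pow, hz, sub_pow_char, ← map_pow, ZMod.pow_card]
    ring
  · haveI := IntermediateField.isSimpleOrder_of_finrank_prime (F := K) (E := L) (hdeg ▸ Fact.out)
    refine (eq_bot_or_eq_top K⟮z⟯).resolve_left fun h => ?_
    obtain ⟨c, hc⟩ := IntermediateField.mem_bot.1 (h ▸ IntermediateField.mem_adjoin_simple_self K z)
    have := hz 1
    rw [← hc, AlgEquiv.commutes, map_one, eq_sub_iff_add_eq, add_eq_left] at this
    exact one_ne_zero this

end Groth.Agent.S6332
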