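import Groth.Statements.S6334
import Mathlib
-- import your own Groth.Agent.* helpers here

set_option autoImplicit false
universe u
open Fields

namespace Groth.Agent.S6334

open IntermediateField Polynomial in
theorem step {F E : Type*} [Field F] [Field E] [Algebra F E] (p : ℕ)
    [Fact p.Prime] [CharP F p] [FiniteDimensional F E] [IsPurelyInseparable F E]
    (S : Set E) (hS : adjoin F S ≠ ⊤) :
    ∃ y : E, y ^ p ∈ adjoin F S ∧ y ∉ adjoin F S ∧
      Module.finrank F (adjoin F (S ∪ {y})) = Module.finrank F (adjoin F S) * p := by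
  haveI : CharP E p := charP_of_injective_algebraMap' F p
  haveI : ExpChar F p := ExpChar.prime Fact.out
  haveI : ExpChar E p := ExpChar.prime Fact.out
  set K := adjoin F S with hK
  obtain ⟨x, -, hx⟩ : ∃ x ∈ (⊤ : IntermediateField F E), x ∉ K :=
    SetLike.exists_of_lt (lt_top_iff_ne_top.mpr hS)
  have hex : ∃ m, x ^ p ^ m ∈ K := by
    obtain ⟨m, c, hc⟩ := IsPurelyInseparable.pow_mem F p x
    exact ⟨m, hc ▸ K.algebraMap_mem c⟩
  classical
  obtain ⟨m, hm⟩ : ∃ m, Nat.find hex = m + 1 :=
    Nat.exists_eq_succ_of_ne_zero fun h0 => hx (by simpa [h0] using Nat.find_spec hex)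
  have hy1 : (x ^ p ^ m) ^ p ∈ K := by
    rw [← pow_mul, ← pow_succ, ← hm]
    exact Nat.find_spec hex
  have hy2 : x ^ p ^ m ∉ K := Nat.find_min hex (by omega)
  refine ⟨x ^ p ^ m, hy1, hy2, ?_⟩
  generalize x ^ p ^ m = y at hy1 hy2
  have hirr : Irreducible (X ^ p - C (⟨y ^ p, hy1⟩ : K)) := by
    refine X_pow_sub_C_irreducible_of_prime Fact.out fun b hb => hy2 ?_
    have hb' : (b : E) ^ p = y ^ p := congrArg Subtype.val hb
    have : frobenius E p (b : E) = frobenius E p y := by simpa [frobenius_def] using hb'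
    exact frobenius_inj E p this ▸ b.2
  have hmin : minpoly K y = X ^ p - C (⟨y ^ p, hy1⟩ : K) :=
    (minpoly.eq_of_irreducible_of_monic hirr (by simp)
      (monic_X_pow_sub_C _ (Fact.out : p.Prime).ne_zero)).symm
  have hfin : Module.finrank K (adjoin K {y}) = p := by
    rw [adjoin.finrank (IsIntegral.of_finite K y), hmin, natDegree_X_pow_sub_C]
  rw [← adjoin_adjoin_left]
  show Module.finrank F (adjoin K {y}) = _
  rw [← Module.finrank_mul_finrank F K (adjoin K {y}), hfin]

open IntermediateField in
theorem build {F E : Type*} [Field F] [Field E] [Algebra F E] (p : ℕ)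
    [Fact p.Prime] [CharP F p] [FiniteDimensional F E] [IsPurelyInseparable F E] :
    ∀ m : ℕ, ∃ (n : ℕ) (a : Fin n → E),
      (∀ i : Fin n, a i ^ p ∈ adjoin F (a '' {j | j < i}) ∧ a i ∉ adjoin F (a '' {j | j < i})) ∧
      Module.finrank F (adjoin F (Set.range a)) = p ^ n ∧
      (adjoin F (Set.range a) = ⊤ ∨ n = m) := by
  intro m
  induction m with
  | zero =>
    refine ⟨0, Fin.elim0, fun i => i.elim0, ?_, Or.inr rfl⟩
    rw [Set.range_eq_empty, adjoin_empty]
    simp
  | succ m ih =>
    obtain ⟨n, a, ha, hfr, h⟩ := ih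
    by_cases htop : adjoin F (Set.range a) = ⊤
    · exact ⟨n, a, ha, hfr, Or.inl htop⟩
    obtain ⟨y, hy1, hy2, hy3⟩ := step p (Set.range a) htop
    have hn : n = m := h.resolve_left htop
    refine ⟨n + 1, Fin.snoc a y, ?_, ?_, Or.inr (by omega)⟩
    · intro i
      induction i using Fin.lastCases with
      | last =>
        have hset : (Fin.snoc a y : Fin (n + 1) → E) '' {j | j < Fin.last n} = Set.range a := by
          ext z
          constructor
          · rintro ⟨j, hj, rfl⟩
            obtain ⟨k, rfl⟩ := Fin.exists_castSucc_eq.mpr (ne_of_lt hj)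
            simp
          · rintro ⟨k, rfl⟩
            exact ⟨k.castSucc, Fin.castSucc_lt_last k, by simp⟩
        rw [hset, Fin.snoc_last]
        exact ⟨hy1, hy2⟩
      | cast i =>
        have hset : (Fin.snoc a y : Fin (n + 1) → E) '' {j | j < i.castSucc} = a '' {j | j < i} := by
          ext z
          constructor
          · rintro ⟨j, hj, rfl⟩
            obtain ⟨k, rfl⟩ := Fin.exists_castSucc_eq.mpr (ne_of_lt (lt_trans hj (Fin.castSucc_lt_last i)))
            exact ⟨k, Fin.castSucc_lt_castSucc_iff.mp hj, by simp⟩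
          · rintro ⟨k, hk, rfl⟩
            exact ⟨k.castSucc, Fin.castSucc_lt_castSucc_iff.mpr hk, by simp⟩
        rw [hset, Fin.snoc_castSucc]
        exact ha i
    · rw [Fin.range_snoc, Set.insert_eq, Set.union_comm, hy3, hfr, pow_succ]

open IntermediateField in
/-- Let E/F be a finite purely inseparable extension of fields of characteristic p > 0. Then there are
elements a_1, ..., a_n of E generating E over F such that for each i the p-th power of a_i lies in
F(a_1, ..., a_{i-1}) while a_i itself does not (so each step adjoins a p-th root and has degree p);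
in particular [E : F] = p ^ n. -/
theorem result {F E : Type u} [Field F] [Field E] [Algebra F E] (p : ℕ)
    [Fact p.Prime] [CharP F p] [FiniteDimensional F E] [IsPurelyInseparable F E] :
    ∃ (n : ℕ) (a : Fin n → E), adjoin F (Set.range a) = ⊤ ∧
      (∀ i : Fin n, a i ^ p ∈ adjoin F (a '' {j | j < i}) ∧ a i ∉ adjoin F (a '' {j | j < i})) ∧
      Module.finrank F E = p ^ n := by
  obtain ⟨n, a, ha, hfr, h⟩ := build p (Module.finrank F E) (F := F) (E := E)
  have hn : p ^ n ≤ Module.finrank F E :=
    hfr ▸ (IntermediateField.adjoin F (Set.range a)).toSubalgebra.toSubmodule.finrank_le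
  have htop : IntermediateField.adjoin F (Set.range a) = ⊤ := h.resolve_right fun hnm => by
    have := Nat.lt_pow_self (Fact.out : p.Prime).one_lt (n := n)
    omega
  exact ⟨n, a, htop, ha, by rw [← hfr, htop, IntermediateField.finrank_top']⟩

end Groth.Agent.S6334
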