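import Groth.Statements.S6335
import Mathlib

set_option autoImplicit false
universe u
open Fields

namespace Groth.Agent.S6335

/-- Let K be a field of characteristic p > 0, L/K a separable algebraic extension and a an element of L.
If a is a root of a polynomial P over K which is separable (pairwise distinct roots in an algebraic
closure) and all of whose coefficients are p-th powers in K, then a is a p-th power in L. (Part (1),
the case where P is the minimal polynomial of a, is a special case.) -/
theorem result {K L : Type u} [Field K] [Field L] [Algebra K L]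
    (p : ℕ) [Fact p.Prime] [CharP K p] [Algebra.IsSeparable K L] (a : L) (P : Polynomial K)
    (hroot : Polynomial.aeval a P = 0) (hsep : P.Separable) (hcoeff : ∀ i : ℕ, ∃ b : K, b ^ p = P.coeff i) :
    ∃ c : L, c ^ p = a := by
  classical
  choose b hb using hcoeff
  let Q : Polynomial K := ∑ i ∈ Finset.range (P.natDegree + 1), Polynomial.monomial i (b i)
  haveI : ExpChar K p := ExpChar.prime Fact.out
  have hQ : Q.map (frobenius K p) = P := by
    simp only [Q, Polynomial.map_sum, Polynomial.map_monomial, frobenius_def, hb]
    exact (P.as_sum_range).symm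
  have hQsep : Q.Separable := (Polynomial.separable_map (frobenius K p)).1 (by rw [hQ]; exact hsep)
  let Ω := AlgebraicClosure L
  haveI : CharP L p := charP_of_injective_algebraMap (algebraMap K L).injective p
  haveI : ExpChar L p := ExpChar.prime Fact.out
  haveI : CharP Ω p := charP_of_injective_algebraMap (algebraMap L Ω).injective p
  haveI : ExpChar Ω p := ExpChar.prime Fact.out
  obtain ⟨c, hc⟩ := IsAlgClosed.exists_pow_nat_eq (algebraMap L Ω a)
    (Fact.out : p.Prime).pos
  have hQc : Polynomial.aeval c Q = 0 := by
    refine (pow_eq_zero_iff (Fact.out : p.Prime).ne_zero).1 ?_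
    rw [← frobenius_def (R := Ω), Polynomial.aeval_def, Polynomial.hom_eval₂,
      ← RingHom.frobenius_comm, ← Polynomial.eval₂_map, hQ, frobenius_def, hc,
      ← Polynomial.aeval_def, Polynomial.aeval_algebraMap_apply, hroot, map_zero]
  have hK : IsSeparable K c := hQsep.of_dvd (minpoly.dvd K c hQc)
  have hL : IsSeparable L c := IsSeparable.tower_top L hK
  have h1 := IntermediateField.adjoin_simple_eq_adjoin_pow_expChar_of_isSeparable L Ω hL p
  have h2 : IntermediateField.adjoin L {c ^ p} = ⊥ :=
    IntermediateField.adjoin_simple_eq_bot_iff.2 (IntermediateField.mem_bot.2 ⟨a, hc.symm⟩)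
  have h3 : c ∈ (⊥ : IntermediateField L Ω) := by
    rw [← h2, ← h1]; exact IntermediateField.mem_adjoin_simple_self L c
  obtain ⟨d, hd⟩ := IntermediateField.mem_bot.1 h3
  exact ⟨d, (algebraMap L Ω).injective (by rw [map_pow, hd, hc])⟩

end Groth.Agent.S6335
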