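import Groth.Statements.S6336
import Mathlib

set_option autoImplicit false
universe u
open Fields

namespace Groth.Agent.S6336

open IntermediateField Polynomial in
/-- With an added hypothesis: let L/K be a finite extension of degree e generated by a single element a
whose e-th power lies in K, and assume that the polynomial X ^ e - 1 splits into linear factors over
K (so every e-th root of unity of any extension of K already lies in K; this holds when K contains a
primitive e-th root of unity, and when e is a power of the characteristic). Then every intermediate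
field of L/K is generated by a ^ d for some divisor d of e. (The published statement has no
hypothesis on roots of unity; for K the rationals and a a primitive 8-th root of unity, e = 4 and a
^ 4 = -1, the intermediate field generated by a + a⁻¹, a square root of 2, is none of K(a), K(a ^
2), K(a ^ 4); the published proof uses that the e-th roots of unity met are fixed by the
automorphisms it constructs, which the splitting hypothesis guarantees.) -/
theorem result {K L : Type u} [Field K] [Field L] [Algebra K L]
    [FiniteDimensional K L] (a : L) (ha : K⟮a⟯ = ⊤)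
    (hpow : a ^ Module.finrank K L ∈ Set.range (algebraMap K L))
    (hroots : (X ^ Module.finrank K L - 1 : K[X]).Splits) (L' : IntermediateField K L) :
    ∃ d : ℕ, d ∣ Module.finrank K L ∧ L' = K⟮a ^ d⟯ := by
  classical
  set e := Module.finrank K L
  have he : 0 < e := Module.finrank_pos
  set d := Module.finrank L' L
  have hde : Module.finrank K L' * d = e := Module.finrank_mul_finrank K L' L
  refine ⟨d, ⟨Module.finrank K L', by rw [mul_comm]; exact hde.symm⟩, ?_⟩
  have htop : (L'⟮a⟯ : IntermediateField L' L) = ⊤ := by
    rw [← restrictScalars_eq_top_iff (K := K), eq_top_iff, ← ha, adjoin_simple_le_iff]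
    exact mem_adjoin_simple_self L' a
  have hint : IsIntegral L' a := IsIntegral.of_finite L' a
  set f := minpoly L' a
  have hdeg : f.natDegree = d := by
    rw [← adjoin.finrank hint, htop, finrank_top']
  obtain ⟨c, hc⟩ := hpow
  have had : a ^ d ∈ L' := by
    rcases eq_or_ne a 0 with rfl | ha0
    · rw [zero_pow (Module.finrank_pos (R := L') (M := L)).ne']; exact zero_mem _
    set g := f.map (algebraMap L' L)
    have hsplit1 : ((X ^ e - 1 : K[X]).map (algebraMap K L)).Splits := hroots.map _
    have hroot : ∀ z : L, z ^ e = 1 → z ∈ (algebraMap K L).range := by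
      intro z hz
      have hne : (X ^ e - 1 : K[X]) ≠ 0 := by simpa using Polynomial.X_pow_sub_C_ne_zero he (1 : K)
      have hmem : z ∈ ((X ^ e - 1 : K[X]).map (algebraMap K L)).roots := by
        rw [Polynomial.mem_roots ((Polynomial.map_ne_zero_iff (algebraMap K L).injective).2 hne)]
        simp [hz]
      rw [hroots.roots_map, Multiset.mem_map] at hmem
      obtain ⟨w, -, rfl⟩ := hmem
      exact ⟨w, rfl⟩
    have hdvd : g ∣ X ^ e - C (a ^ e) := by
      have h1 : f ∣ X ^ e - C (algebraMap K L' c) := minpoly.dvd L' a (by
        simp [← hc, ← IsScalarTower.algebraMap_apply K L' L])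
      have h2 := Polynomial.map_dvd (algebraMap L' L) h1
      rw [Polynomial.map_sub, Polynomial.map_pow, map_X, map_C, ← IsScalarTower.algebraMap_apply K L' L,
        hc] at h2
      exact h2
    have hbig : (X ^ e - C (a ^ e) : L[X]).Splits := by
      have h1 : ((X ^ e - 1 : K[X]).map (algebraMap K L)).comp (C a⁻¹ * X) * C (a ^ e) = X ^ e - C (a ^ e) := by
        simp only [Polynomial.map_sub, Polynomial.map_pow, map_X, Polynomial.map_one, sub_comp, pow_comp,
          X_comp, one_comp, mul_pow, ← C_pow, inv_pow]
        rw [sub_mul, mul_right_comm, ← C_mul, inv_mul_cancel₀ (pow_ne_zero _ ha0), C_1, one_mul, one_mul]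
      rw [← h1]
      refine Polynomial.Splits.mul (Polynomial.Splits.comp_of_natDegree_le_one hsplit1 ?_) (Polynomial.Splits.C _)
      exact natDegree_mul_le.trans (by simp)
    have hne : (X ^ e - C (a ^ e) : L[X]) ≠ 0 := Polynomial.X_pow_sub_C_ne_zero he _
    have hg : g.Splits := hbig.of_dvd hne hdvd
    have hgm : g.Monic := (minpoly.monic hint).map _
    have hprod : g.coeff 0 = (-1) ^ g.natDegree * g.roots.prod := hg.coeff_zero_eq_prod_roots_of_monic hgm
    have hcard : g.roots.card = d := by
      rw [← hg.natDegree_eq_card_roots, Polynomial.natDegree_map, hdeg]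
    have hprodmem : g.roots.prod ∈ L' := by
      have h0 : g.coeff 0 ∈ L' := by rw [Polynomial.coeff_map]; exact (f.coeff 0).2
      have h1 : (-1 : L) ^ g.natDegree * g.coeff 0 ∈ L' := mul_mem (pow_mem (neg_mem (one_mem L')) _) h0
      rwa [hprod, ← mul_assoc, ← mul_pow, neg_mul_neg, mul_one, one_pow, one_mul] at h1
    have hz : (g.roots.map (fun r => r / a)).prod ∈ (algebraMap K L).range := by
      refine multiset_prod_mem _ fun z hz => ?_
      obtain ⟨r, hr, rfl⟩ := Multiset.mem_map.1 hz
      have h2 : r ∈ (X ^ e - C (a ^ e) : L[X]).roots := Multiset.mem_of_le (Polynomial.roots.le_of_dvd hne hdvd) hr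
      rw [Polynomial.mem_roots hne] at h2
      refine hroot _ ?_
      rw [div_pow, div_eq_one_iff_eq (pow_ne_zero _ ha0)]
      simpa [sub_eq_zero] using h2
    obtain ⟨w, hw⟩ := hz
    rw [Multiset.prod_map_div, Multiset.map_id', Multiset.map_const', Multiset.prod_replicate, hcard] at hw
    have hw0 : algebraMap K L w ≠ 0 := by
      rw [hw]
      refine div_ne_zero (Multiset.prod_ne_zero fun h0 => ?_) (pow_ne_zero _ ha0)
      have h2 : (0 : L) ∈ (X ^ e - C (a ^ e) : L[X]).roots := Multiset.mem_of_le (Polynomial.roots.le_of_dvd hne hdvd) h0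
      rw [Polynomial.mem_roots hne] at h2
      simp [zero_pow he.ne', ha0] at h2
    have : a ^ d = g.roots.prod / algebraMap K L w := by
      rw [hw, div_div_cancel₀ ?_]
      intro h0
      exact hw0 (by rw [hw, h0, zero_div])
    rw [this]
    exact div_mem hprodmem (L'.algebraMap_mem w)
  have hle : K⟮a ^ d⟯ ≤ L' := adjoin_simple_le_iff.2 had
  refine (IntermediateField.eq_of_le_of_finrank_le' hle ?_).symm
  set F := K⟮a ^ d⟯
  have htopF : (F⟮a⟯ : IntermediateField F L) = ⊤ := by
    rw [← restrictScalars_eq_top_iff (K := K), eq_top_iff, ← ha, adjoin_simple_le_iff]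
    exact mem_adjoin_simple_self F a
  rw [← IntermediateField.finrank_top' (F := F) (E := L), ← htopF, adjoin.finrank (IsIntegral.of_finite F a)]
  have hd0 : 0 < d := Module.finrank_pos
  refine (Polynomial.natDegree_le_of_dvd (minpoly.dvd F a (p := X ^ d - C ⟨a ^ d, mem_adjoin_simple_self K _⟩)
    (by simp)) (Polynomial.X_pow_sub_C_ne_zero hd0 _)).trans ?_
  rw [Polynomial.natDegree_X_pow_sub_C]

end Groth.Agent.S6336
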