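import Groth.Statements.S6337
import Groth.Agent.MLMod.ML
import Mathlib.LinearAlgebra.DirectSum.TensorProduct

set_option autoImplicit false
universe u
open CAlg

namespace Groth.Agent.S6337

/-- A direct sum of modules is Mittag-Leffler if and only if each summand is Mittag-Leffler. -/
theorem result (R : Type u) [CommRing R] {ι : Type u} (M : ι → Type u)
    [∀ i, AddCommGroup (M i)] [∀ i, Module R (M i)] :
    CAlg.IsMittagLeffler R (DirectSum ι M) ↔ ∀ i, CAlg.IsMittagLeffler R (M i) := by
  classical
  refine ⟨fun h i => Groth.MLMod.ml_of_ui (f := DirectSum.lof R ι M i)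
    (Groth.MLMod.ui_of_leftInverse (DirectSum.component R ι M i)
      (LinearMap.ext fun x => by simp)) h, fun h => ?_⟩
  rw [Groth.MLMod.isML_iff]
  intro α Q _ _ x hx
  apply (TensorProduct.directSumLeft R R M (∀ a, Q a)).injective
  rw [map_zero]
  ext i
  have hcomp : ∀ (X : Type u) (_ : AddCommGroup X) (_ : Module R X) (z : TensorProduct R (DirectSum ι M) X),
      TensorProduct.directSumLeft R R M X z i = (DirectSum.component R ι M i).rTensor X z := by
    intro X _ _ z
    induction z with
    | zero => simp
    | tmul m n => simp [DirectSum.component]; rfl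
    | add a b ha hb => simp only [map_add, DirectSum.add_apply, ha, hb]
  rw [hcomp]
  refine Groth.MLMod.ml_eq_zero (h i) _ fun a => ?_
  rw [Groth.MLMod.lTensor_rTensor, hx a, map_zero]

end Groth.Agent.S6337
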