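import Groth.Statements.S6341
import Groth.Agent.MLMod.ML
import Mathlib.LinearAlgebra.TensorProduct.DirectLimit

set_option autoImplicit false
universe u
open CAlg

namespace Groth.Agent.S6341

/-- The colimit of a directed system of Mittag-Leffler modules with universally injective transition
maps is Mittag-Leffler. -/
theorem result (R : Type u) [CommRing R] {ι : Type u}
    [Preorder ι] [IsDirected ι (· ≤ ·)] [DecidableEq ι] (G : ι → Type u) [∀ i, AddCommGroup (G i)]
    [∀ i, Module R (G i)] (f : ∀ i j, i ≤ j → G i →ₗ[R] G j) [DirectedSystem G fun i j h => f i j h]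
    (hf : ∀ i j (h : i ≤ j), CAlgX.UniversallyInjective R (f i j h))
    (hG : ∀ i, CAlg.IsMittagLeffler R (G i)) :
    CAlg.IsMittagLeffler R (Module.DirectLimit G f) := by
  classical
  rw [Groth.MLMod.isML_iff]
  intro α Q _ _ x hx
  rcases isEmpty_or_nonempty ι with hι | hι
  · haveI : Subsingleton (Module.DirectLimit G f) :=
      ⟨fun a b => by
        have : (LinearMap.id : Module.DirectLimit G f →ₗ[R] Module.DirectLimit G f) = 0 :=
          Module.DirectLimit.hom_ext fun i => isEmptyElim i
        exact ((LinearMap.congr_fun this a).trans (LinearMap.congr_fun this b).symm)⟩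
    exact Subsingleton.elim _ _
  obtain ⟨i, z, hz⟩ := Module.DirectLimit.exists_of (TensorProduct.directLimitLeft f _ x)
  have hx' : x = (Module.DirectLimit.of R ι G f i).rTensor _ z := by
    apply (TensorProduct.directLimitLeft f _).injective
    rw [TensorProduct.directLimitLeft_rTensor_of, hz]
  have hof : CAlgX.UniversallyInjective R (Module.DirectLimit.of R ι G f i) := by
    rw [Groth.MLMod.ui_iff]
    intro X _ _ w hw
    have h0 := congrArg (TensorProduct.directLimitLeft f X) hw
    rw [TensorProduct.directLimitLeft_rTensor_of, map_zero] at h0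
    obtain ⟨j, hij, hj⟩ := Module.DirectLimit.of.zero_exact h0
    exact (injective_iff_map_eq_zero _).1 (hf i j hij X) w hj
  have hz0 : z = 0 := Groth.MLMod.ml_eq_zero (hG i) z fun a => by
    apply (injective_iff_map_eq_zero _).1 (hof _)
    rw [← Groth.MLMod.lTensor_rTensor, ← hx', hx a]
  rw [hx', hz0, map_zero]

end Groth.Agent.S6341
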