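import Groth.Statements.S6343
import Groth.Agent.MLMod.ML

set_option autoImplicit false
universe u
open scoped TensorProduct
open CAlg

namespace Groth.Agent.S6343

/-- The tensor product of two Mittag-Leffler modules over a commutative ring is Mittag-Leffler. -/
theorem result (R : Type u) [CommRing R] (M N : Type u) [AddCommGroup M] [Module R M]
    [AddCommGroup N] [Module R N] (hM : CAlg.IsMittagLeffler R M) (hN : CAlg.IsMittagLeffler R N) :
    CAlg.IsMittagLeffler R (M ⊗[R] N) := by
  refine Groth.MLMod.ml_of_forall_dominate fun X _ _ x => ?_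
  obtain ⟨k, w, q, rfl⟩ := TensorProduct.exists_sum_tmul_eq x
  choose a m n hw using fun i : Fin k => TensorProduct.exists_sum_tmul_eq (w i)
  let idx := Σ i : Fin k, Fin (a i)
  let f : (idx → R) →ₗ[R] M := Fintype.linearCombination R fun p => m p.1 p.2
  let f' : (idx → R) →ₗ[R] N := Fintype.linearCombination R fun p => n p.1 p.2
  obtain ⟨G, _, _, hG, g, h, hfac, hdom⟩ := Groth.MLMod.ml_dominate hM f
  obtain ⟨G', _, _, hG', g', h', hfac', hdom'⟩ := Groth.MLMod.ml_dominate hN f'
  refine ⟨(idx → R) ⊗[R] (idx → R), inferInstance, inferInstance, TensorProduct.map f f',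
    G ⊗[R] G', inferInstance, inferInstance, Groth.MLMod.finitePresentation_tensor G G', TensorProduct.map g g', ?_, ?_⟩
  · classical
    refine ⟨∑ i, (∑ j, Pi.single (⟨i, j⟩ : idx) (1 : R) ⊗ₜ[R] Pi.single (⟨i, j⟩ : idx) (1 : R)) ⊗ₜ[R] q i, ?_⟩
    simp [hw, f, f', Fintype.linearCombination_apply_single, TensorProduct.sum_tmul]
  · intro Z _ _
    refine Groth.MLMod.ker_eq_of_factor (h := TensorProduct.map h h')
      (by rw [hfac, hfac', TensorProduct.map_comp]) Z fun z hz => ?_
    -- move `M`, then `N`, to the targets of `g` and `g'`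
    let P := idx → R
    have key1 : (TensorProduct.map g f').rTensor Z z = 0 := by
      let e := TensorProduct.assoc R P N Z
      have h1 : f.rTensor (N ⊗[R] Z) (e ((f'.lTensor P).rTensor Z z)) = 0 := by
        have hh : (TensorProduct.assoc R M N Z).toLinearMap ∘ₗ (TensorProduct.map f f').rTensor Z =
            f.rTensor (N ⊗[R] Z) ∘ₗ e.toLinearMap ∘ₗ (f'.lTensor P).rTensor Z := by
          refine TensorProduct.ext_threefold fun a b c => ?_
          simp [e]
        have := LinearMap.congr_fun hh z
        simp only [LinearMap.comp_apply, LinearEquiv.coe_coe, hz, map_zero] at this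
        exact this.symm
      have h2 := hdom _ _ h1
      have hh : (TensorProduct.assoc R G N Z).toLinearMap ∘ₗ (TensorProduct.map g f').rTensor Z =
          g.rTensor (N ⊗[R] Z) ∘ₗ e.toLinearMap ∘ₗ (f'.lTensor P).rTensor Z := by
        refine TensorProduct.ext_threefold fun a b c => ?_
        simp [e]
      apply (TensorProduct.assoc R G N Z).injective
      rw [map_zero]
      exact (LinearMap.congr_fun hh z).trans h2
    let φ : ((idx → R) ⊗[R] (idx → R)) ⊗[R] Z →ₗ[R] (idx → R) ⊗[R] (G ⊗[R] Z) :=
      (TensorProduct.leftComm R G P Z).toLinearMap ∘ₗ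
        (TensorProduct.assoc R G P Z).toLinearMap ∘ₗ (g.rTensor P).rTensor Z
    have h3 : f'.rTensor (G ⊗[R] Z) (φ z) = 0 := by
      have hh : (TensorProduct.leftComm R G N Z).toLinearMap ∘ₗ
          (TensorProduct.assoc R G N Z).toLinearMap ∘ₗ (TensorProduct.map g f').rTensor Z =
          f'.rTensor (G ⊗[R] Z) ∘ₗ φ := by
        refine TensorProduct.ext_threefold fun a b c => ?_
        simp [φ, P]
      have := LinearMap.congr_fun hh z
      simp only [LinearMap.comp_apply, key1, map_zero] at this
      exact this.symm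
    have h4 := hdom' _ _ h3
    have hh : (TensorProduct.leftComm R G G' Z).toLinearMap ∘ₗ
        (TensorProduct.assoc R G G' Z).toLinearMap ∘ₗ (TensorProduct.map g g').rTensor Z =
        g'.rTensor (G ⊗[R] Z) ∘ₗ φ := by
      refine TensorProduct.ext_threefold fun a b c => ?_
      simp [φ, P]
    apply (TensorProduct.assoc R G G' Z).injective
    apply (TensorProduct.leftComm R G G' Z).injective
    rw [map_zero, map_zero]
    exact (LinearMap.congr_fun hh z).trans h4

end Groth.Agent.S6343
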