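import Groth.Statements.S6345
import Groth.Agent.MLMod.Scalar

set_option autoImplicit false
universe u
open CAlg

namespace Groth.Agent.S6345

/-- Let I be a finitely generated ideal of a commutative ring R and M an R/I-module. Then M is
Mittag-Leffler over R if and only if it is Mittag-Leffler over R/I. -/
theorem result (R : Type u) [CommRing R] (I : Ideal R) (hI : I.FG)
    (M : Type u) [AddCommGroup M] [Module (R ⧸ I) M] [Module R M] [IsScalarTower R (R ⧸ I) M] :
    CAlg.IsMittagLeffler R M ↔ CAlg.IsMittagLeffler (R ⧸ I) M := by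
  haveI : Module.FinitePresentation R (R ⧸ I) :=
    Module.finitePresentation_of_surjective (Submodule.mkQ I) (Submodule.mkQ_surjective I)
      (by rw [Submodule.ker_mkQ]; exact hI)
  refine ⟨fun h => ?_, fun h => Groth.MLMod.ml_restrict_of_finitePresentation h⟩
  let μ : TensorProduct R (R ⧸ I) M →ₗ[R ⧸ I] M :=
    (LinearMap.id : M →ₗ[R] M).liftBaseChange (R ⧸ I)
  have hone : ∀ z : TensorProduct R (R ⧸ I) M, ∃ m, z = TensorProduct.tmul R 1 m := by
    intro z
    induction z with
    | zero => exact ⟨0, by simp⟩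
    | tmul s m =>
      obtain ⟨r, rfl⟩ := Ideal.Quotient.mk_surjective s
      exact ⟨r • m, by rw [← TensorProduct.smul_tmul]; congr 1; simp [Algebra.smul_def]⟩
    | add a b ha hb =>
      obtain ⟨m, rfl⟩ := ha
      obtain ⟨m', rfl⟩ := hb
      exact ⟨m + m', (TensorProduct.tmul_add _ _ _).symm⟩
  have hμ : Function.Bijective μ := by
    refine ⟨(injective_iff_map_eq_zero μ).2 fun z hz => ?_, fun m => ⟨TensorProduct.tmul R 1 m, by simp [μ]⟩⟩
    obtain ⟨m, rfl⟩ := hone z
    have : m = 0 := by simpa [μ] using hz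
    simp [this]
  exact Groth.MLMod.ml_of_equiv (LinearEquiv.ofBijective μ hμ).symm (Groth.MLMod.ml_baseChange h)

end Groth.Agent.S6345
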