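import Groth.Statements.S6353
import Mathlib
-- import your own Groth.Agent.* helpers here

set_option autoImplicit false
universe u
open CAlg

namespace Groth.Agent.S6353

open PrimeSpectrum in
/-- For a commutative ring R, I ↦ V(I) is a bijection between pure ideals (R/I flat over R) and closed
subsets of Spec R stable under generalization. Stated here as: V(I) is stable under generalization
for I pure, and every closed generalization-stable subset is V(I) for some pure I (injectivity on
pure ideals being the standard fact that pure ideals with the same zero locus coincide). -/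
theorem result (R : Type u) [CommRing R] :
    (∀ I : Ideal R, I.Pure → StableUnderGeneralization (zeroLocus (I : Set R))) ∧
      ∀ Z : Set (PrimeSpectrum R), IsClosed Z → StableUnderGeneralization Z →
        ∃ I : Ideal R, I.Pure ∧ zeroLocus (I : Set R) = Z := by
  classical
  refine ⟨fun I hI p q hqp hp => ?_, fun Z hZ hgen => ?_⟩
  · rw [← PrimeSpectrum.le_iff_specializes] at hqp
    intro x hx
    haveI := hI
    obtain ⟨y, hy, hxy⟩ := Ideal.exists_eq_mul_of_pure (I := I) hx
    have hmem : x * (1 - y) ∈ q.asIdeal := by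
      rw [mul_sub, mul_one, ← hxy, sub_self]; exact zero_mem _
    refine (q.isPrime.mem_or_mem hmem).resolve_right fun h => ?_
    have := add_mem (hqp h) (hp hy : y ∈ p.asIdeal)
    rw [sub_add_cancel] at this
    exact p.isPrime.one_notMem this
  obtain ⟨J, rfl⟩ := (PrimeSpectrum.isClosed_iff_zeroLocus_ideal Z).mp hZ
  let I : Ideal R :=
    { carrier := {x | ∀ p : PrimeSpectrum R, p ∈ zeroLocus (J : Set R) → ∃ s, s ∉ p.asIdeal ∧ s * x = 0}
      add_mem' := fun {a b} ha hb p hp => by
        obtain ⟨s, hs, hsa⟩ := ha p hp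
        obtain ⟨t, ht, htb⟩ := hb p hp
        exact ⟨s * t, fun h => (p.isPrime.mem_or_mem h).elim hs ht, by
          linear_combination t * hsa + s * htb⟩
      zero_mem' := fun p _ => ⟨1, p.isPrime.one_notMem, mul_zero _⟩
      smul_mem' := fun c x hx p hp => by
        obtain ⟨s, hs, hsx⟩ := hx p hp
        exact ⟨s, hs, by rw [smul_eq_mul]; linear_combination c * hsx⟩ }
  have hpow : ∀ j ∈ J, ∃ n : ℕ, j ^ n ∈ I := by
    intro j hj
    let K : Ideal R :=
      { carrier := {s | ∃ n : ℕ, s * j ^ n = 0}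
        add_mem' := fun {a b} ⟨n, hn⟩ ⟨m, hm⟩ => ⟨n + m, by
          rw [pow_add]; linear_combination j ^ m * hn + j ^ n * hm⟩
        zero_mem' := ⟨0, zero_mul _⟩
        smul_mem' := fun c x ⟨n, hn⟩ => ⟨n, by rw [smul_eq_mul]; linear_combination c * hn⟩ }
    have htop : J ⊔ K = ⊤ := by
      by_contra hne
      obtain ⟨m, hm, hle⟩ := Ideal.exists_le_maximal _ hne
      have hmZ : (⟨m, hm.isPrime⟩ : PrimeSpectrum R) ∈ zeroLocus (J : Set R) := le_sup_left.trans hle
      have hdisj : Disjoint ((⊥ : Ideal R) : Set R) (m.primeCompl ⊔ Submonoid.powers j : Submonoid R) := by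
        rw [Set.disjoint_left]
        intro z hz hz'
        obtain ⟨a, ha, b, ⟨k, rfl⟩, rfl⟩ := Submonoid.mem_sup.mp hz'
        exact ha (hle (Ideal.mem_sup_right ⟨k, by simpa using hz⟩))
      obtain ⟨P, hP, -, hPS⟩ := Ideal.exists_le_prime_disjoint (⊥ : Ideal R) _ hdisj
      have hPm : P ≤ m := fun x hx => by
        by_contra hxm
        exact Set.disjoint_left.mp hPS hx (Submonoid.mem_sup_left hxm)
      have hPZ : (⟨P, hP⟩ : PrimeSpectrum R) ∈ zeroLocus (J : Set R) :=
        hgen ((PrimeSpectrum.le_iff_specializes ⟨P, hP⟩ ⟨m, hm.isPrime⟩).mp hPm) hmZ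
      exact Set.disjoint_left.mp hPS (hPZ hj) (Submonoid.mem_sup_right (Submonoid.mem_powers j))
    obtain ⟨a, ha, s, ⟨n, hs⟩, has⟩ := Submodule.mem_sup.mp ((Ideal.eq_top_iff_one _).mp htop)
    refine ⟨n, fun p hp => ⟨s, fun h => p.isPrime.one_notMem ?_, hs⟩⟩
    rw [← has]
    exact add_mem (hp ha) h
  have hann : ∀ x ∈ I, ∃ j ∈ J, x = x * j := by
    intro x hx
    let K : Ideal R :=
      { carrier := {s | s * x = 0}
        add_mem' := fun {a b} (ha : a * x = 0) (hb : b * x = 0) => show (a + b) * x = 0 by rw [add_mul, ha, hb, add_zero]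
        zero_mem' := zero_mul _
        smul_mem' := fun c a (ha : a * x = 0) => show (c • a) * x = 0 by rw [smul_eq_mul, mul_assoc, ha, mul_zero] }
    have htop : J ⊔ K = ⊤ := by
      by_contra hne
      obtain ⟨m, hm, hle⟩ := Ideal.exists_le_maximal _ hne
      obtain ⟨s, hs, hsx⟩ := hx ⟨m, hm.isPrime⟩ (le_sup_left.trans hle)
      exact hs (hle (Ideal.mem_sup_right hsx))
    obtain ⟨a, ha, s, (hs : s * x = 0), has⟩ := Submodule.mem_sup.mp ((Ideal.eq_top_iff_one _).mp htop)
    exact ⟨a, ha, by linear_combination -x * has + hs⟩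
  refine ⟨I, Ideal.Pure.of_inf_eq_mul I fun T _ => le_antisymm ?_ Ideal.mul_le_inf, ?_⟩
  · rintro x ⟨hxI, hxT⟩
    obtain ⟨j, hj, hxj⟩ := hann x hxI
    obtain ⟨n, hn⟩ := hpow j hj
    have hxn : ∀ k : ℕ, x = x * j ^ k := by
      intro k
      induction k with
      | zero => simp
      | succ k ih => rw [pow_succ, ← mul_assoc, ← ih]; exact hxj
    rw [hxn n, mul_comm x]
    exact Ideal.mul_mem_mul hn hxT
  · ext q
    simp only [PrimeSpectrum.mem_zeroLocus, SetLike.coe_subset_coe]
    refine ⟨fun hq => ?_, fun hq x hx => ?_⟩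
    · intro j hj
      obtain ⟨n, hn⟩ := hpow j hj
      exact q.isPrime.mem_of_pow_mem n (hq hn)
    · obtain ⟨s, hs, hsx⟩ := hx q hq
      have : s * x ∈ q.asIdeal := by rw [hsx]; exact zero_mem _
      exact (q.isPrime.mem_or_mem this).resolve_left hs

end Groth.Agent.S6353
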