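import Groth.Statements.S6354
import Mathlib
-- import your own Groth.Agent.* helpers here

set_option autoImplicit false
universe u
open CAlg

namespace Groth.Agent.S6354

open PrimeSpectrum in
/-- For an ideal I of a commutative ring R these four conditions are equivalent: (1) I is finitely
generated and pure; (2) I = (e) for some idempotent e; (3) I is pure with V(I) open in Spec R; (4)
R/I is projective as an R-module. -/
theorem result (R : Type u) [CommRing R] (I : Ideal R) :
    List.TFAE [I.Pure ∧ I.FG, ∃ e : R, IsIdempotentElem e ∧ I = Ideal.span {e},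
      I.Pure ∧ IsOpen (zeroLocus (I : Set R)), Module.Projective R (R ⧸ I)] := by
  tfae_have 1 → 2 := fun ⟨h1, h2⟩ => by
    haveI := h1
    exact (I.isIdempotentElem_iff_of_fg h2).mp I.isIdempotentElem_of_pure
  tfae_have 2 → 3 := by
    rintro ⟨e, he, rfl⟩
    refine ⟨.of_isIdempotentElem (Submodule.fg_span_singleton e) ?_, ?_⟩
    · exact (Ideal.isIdempotentElem_iff_of_fg _ (Submodule.fg_span_singleton e)).mpr ⟨e, he, rfl⟩
    · rw [zeroLocus_span, zeroLocus_eq_basicOpen_of_isIdempotentElem e he]
      exact (basicOpen _).2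
  tfae_have 2 → 4 := by
    rintro ⟨e, he, rfl⟩
    have hker : Ideal.span {e} ≤ LinearMap.ker (LinearMap.mulLeft R (1 - e)) := by
      rw [Ideal.span_le]
      rintro x rfl
      show (1 - x) * x = 0
      rw [sub_mul, one_mul, he.eq, sub_self]
    refine Module.Projective.of_split (Submodule.liftQ _ (LinearMap.mulLeft R (1 - e)) hker)
      (Submodule.mkQ (Ideal.span {e})) ?_
    refine Submodule.linearMap_qext _ (LinearMap.ext fun x => ?_)
    show Ideal.Quotient.mk (Ideal.span {e}) ((1 - e) * x) = Ideal.Quotient.mk _ x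
    rw [Ideal.Quotient.eq, show (1 - e) * x - x = e * -x by ring]
    exact Ideal.mul_mem_right _ _ (Ideal.mem_span_singleton_self e)
  tfae_have 4 → 1 := fun h4 => by
    haveI := h4
    refine ⟨inferInstanceAs (Module.Flat R (R ⧸ I)), ?_⟩
    obtain ⟨s, hs⟩ := Module.projective_lifting_property (Submodule.mkQ I) LinearMap.id
      (Submodule.mkQ_surjective I)
    refine ⟨{1 - s (Submodule.Quotient.mk 1)}, le_antisymm ?_ fun x hx => ?_⟩
    · rw [Submodule.span_le, Finset.coe_singleton, Set.singleton_subset_iff, SetLike.mem_coe,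
        ← Submodule.Quotient.mk_eq_zero, Submodule.Quotient.mk_sub]
      have := LinearMap.congr_fun hs (Submodule.Quotient.mk 1)
      simp only [LinearMap.comp_apply, Submodule.mkQ_apply, LinearMap.id_coe, id_eq] at this
      rw [this, sub_self]
    · rw [Finset.coe_singleton, Submodule.mem_span_singleton]
      refine ⟨x, ?_⟩
      have h0 : s (Submodule.Quotient.mk x) = 0 := by
        rw [(Submodule.Quotient.mk_eq_zero I).mpr hx, map_zero]
      have h1 : x • s (Submodule.Quotient.mk 1) = 0 := by
        rw [← map_smul, ← Submodule.Quotient.mk_smul, smul_eq_mul, mul_one, h0]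
      rw [smul_sub, h1, sub_zero, smul_eq_mul, mul_one]
  tfae_have 3 → 1 := fun ⟨h1, h2⟩ => by
    haveI := h1
    refine ⟨h1, ?_⟩
    obtain ⟨e, he, hz⟩ := isClopen_iff_zeroLocus.mp ⟨isClosed_zeroLocus (I : Set R), h2⟩
    haveI : (Ideal.span {e}).Pure := .of_isIdempotentElem (Submodule.fg_span_singleton e)
      ((Ideal.isIdempotentElem_iff_of_fg _ (Submodule.fg_span_singleton e)).mpr ⟨e, he, rfl⟩)
    rw [Ideal.zeroLocus_inj_of_pure.mp (hz.trans (zeroLocus_span _).symm)]
    exact Submodule.fg_span_singleton e
  tfae_finish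

end Groth.Agent.S6354
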