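import Mathlib
import Groth.Statements.S6355
-- import your own Groth.Agent.* helpers here

set_option autoImplicit false
universe u
open CAlg

namespace Groth.Agent.S6355

open PrimeSpectrum

variable {R : Type u} [CommRing R]

theorem projective_of_isOpen (h : ∀ Z : Set (PrimeSpectrum R), IsClosed Z → StableUnderGeneralization Z → IsOpen Z)
    (M : Type u) [AddCommGroup M] [Module R M] [Module.Finite R M] [Module.Flat R M] : Module.Projective R M := by
  classical
  -- generators and a common denominator around every prime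
  have key : ∀ p : PrimeSpectrum R, ∃ (φ : (Fin (Module.rankAtStalk (R := R) M p) → R) →ₗ[R] M) (a : R), a ∉ p.asIdeal ∧
      (∀ m : M, a • m ∈ LinearMap.range φ) ∧
      ∀ q : PrimeSpectrum R, a ∉ q.asIdeal → Function.Surjective (LocalizedModule.map q.asIdeal.primeCompl φ) := by
    intro p
    have := Module.free_of_flat_of_isLocalRing (R := Localization.AtPrime p.asIdeal)
      (P := LocalizedModule p.asIdeal.primeCompl M)
    let B := Module.finBasis (Localization.AtPrime p.asIdeal) (LocalizedModule p.asIdeal.primeCompl M)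
    choose ms hms using fun i => Quotient.exists_rep (B i)
    let φ : (Fin (Module.rankAtStalk (R := R) M p) → R) →ₗ[R] M := Fintype.linearCombination R (fun i => (ms i).1)
    have hQ : p ∉ Module.support R (M ⧸ LinearMap.range φ) := by
      rw [Module.notMem_support_iff]
      refine subsingleton_of_forall_eq 0 fun z => ?_
      obtain ⟨x, rfl⟩ := LocalizedModule.map_surjective p.asIdeal.primeCompl (LinearMap.range φ).mkQ
        (Submodule.mkQ_surjective _) z
      suffices LocalizedModule.map p.asIdeal.primeCompl (LinearMap.range φ).mkQ = 0 by rw [this]; rfl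
      refine B.ext fun i => ?_
      rw [← hms i]
      show LocalizedModule.map _ _ (LocalizedModule.mk (ms i).1 (ms i).2) = 0
      have hz : (LinearMap.range φ).mkQ (ms i).1 = 0 := (Submodule.Quotient.mk_eq_zero _).mpr
        (LinearMap.mem_range.mpr ⟨Pi.single i 1,
          (Fintype.linearCombination_apply_single R (fun i => (ms i).1) i 1).trans (one_smul _ _)⟩)
      rw [LocalizedModule.map_mk, hz, LocalizedModule.zero_mk]
    rw [Module.mem_support_iff_of_finite, SetLike.not_le_iff_exists] at hQ
    obtain ⟨a, ha, hap⟩ := hQ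
    have hrange : ∀ m : M, a • m ∈ LinearMap.range φ := fun m => by
      rw [← Submodule.Quotient.mk_eq_zero, Submodule.Quotient.mk_smul]
      exact Module.mem_annihilator.mp ha _
    refine ⟨φ, a, hap, hrange, fun q hq z => ?_⟩
    induction z using LocalizedModule.induction_on with
    | h m s =>
      obtain ⟨x, hx⟩ := hrange m
      refine ⟨LocalizedModule.mk x (⟨a, hq⟩ * s), ?_⟩
      rw [LocalizedModule.map_mk, hx]
      exact LocalizedModule.mk_cancel_common_left ⟨a, hq⟩ s m
  choose φ a ha hrange hsurj using key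
  have hrk : ∀ (r : ℕ) (q : PrimeSpectrum R), Module.finrank (Localization.AtPrime q.asIdeal)
      (LocalizedModule q.asIdeal.primeCompl (Fin r → R)) = r := fun r q => by
    have : Nontrivial R := q.nontrivial
    have := congrFun (Module.rankAtStalk_eq_finrank_of_free (R := R) (M := Fin r → R)) q
    simpa [Module.rankAtStalk] using this
  have hle : ∀ p q : PrimeSpectrum R, a p ∉ q.asIdeal → Module.rankAtStalk (R := R) M q ≤ Module.rankAtStalk (R := R) M p :=
    fun p q hq => (LinearMap.finrank_le_finrank_of_surjective (hsurj p q hq)).trans_eq (hrk _ q)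
  have hge : ∀ n, IsOpen {q : PrimeSpectrum R | n ≤ Module.rankAtStalk (R := R) M q} := by
    intro n
    refine h _ ⟨?_⟩ ?_
    · rw [isOpen_iff_forall_mem_open]
      intro p hp
      exact ⟨basicOpen (a p), fun q hq hn => hp (le_trans hn (hle p q hq) : n ≤ _), (basicOpen (a p)).2, ha p⟩
    · intro x y hxy hx
      show n ≤ _
      rw [Module.rankAtStalk_eq_of_le_of_finite_of_flat M ((PrimeSpectrum.le_iff_specializes y x).mpr hxy)]
      exact hx
  have hlev : ∀ p : PrimeSpectrum R, ∃ b ∉ p.asIdeal, (∀ m : M, b • m ∈ LinearMap.range (φ p)) ∧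
      ∀ x ∈ LinearMap.ker (φ p), ∃ k : ℕ, b ^ k • x = 0 := by
    intro p
    set r := Module.rankAtStalk (R := R) M p
    have hop : IsOpen {q : PrimeSpectrum R | r ≤ Module.rankAtStalk (R := R) M q} := hge r
    obtain ⟨_, ⟨_, ⟨c, rfl⟩, rfl⟩, hpc, hc⟩ := isBasis_basic_opens.exists_subset_of_mem_open (show p ∈ _ from le_refl r) hop
    refine ⟨a p * c, p.2.mul_notMem (ha p) hpc, fun m => ?_, fun x hx => ?_⟩
    · rw [mul_comm, mul_smul]; exact Submodule.smul_mem _ _ (hrange p m)
    suffices a p * c ∈ Ideal.radical (LinearMap.ker (LinearMap.toSpanSingleton R _ x)) by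
      obtain ⟨k, hk⟩ := this
      exact ⟨k, by simpa using hk⟩
    rw [Ideal.radical_eq_sInf, Submodule.mem_sInf]
    rintro J ⟨hJ, hJp⟩
    by_contra hac
    let q : PrimeSpectrum R := ⟨J, hJp⟩
    have hq : a p ∉ q.asIdeal := fun h => hac (Ideal.mul_mem_right c J h)
    have hqc : c ∉ q.asIdeal := fun h => hac (Ideal.mul_mem_left J (a p) h)
    have := Module.free_of_flat_of_isLocalRing (R := Localization.AtPrime q.asIdeal)
      (P := LocalizedModule q.asIdeal.primeCompl M)
    have : Module.Free (Localization.AtPrime q.asIdeal) (LocalizedModule q.asIdeal.primeCompl (Fin r → R)) :=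
      Module.free_of_isLocalizedModule q.asIdeal.primeCompl (LocalizedModule.mkLinearMap q.asIdeal.primeCompl (Fin r → R))
    have hbij := OrzechProperty.bijective_of_surjective_of_finrank_le (LocalizedModule.map q.asIdeal.primeCompl (φ p))
      (hsurj p q hq) ((hrk r q).trans_le (hc hqc))
    have h0 : LocalizedModule.mkLinearMap q.asIdeal.primeCompl _ x = 0 := by
      apply hbij.1
      rw [map_zero, LocalizedModule.mkLinearMap_apply, LocalizedModule.map_mk, LinearMap.mem_ker.mp hx, LocalizedModule.zero_mk]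
    obtain ⟨s, hs⟩ := (IsLocalizedModule.eq_zero_iff q.asIdeal.primeCompl _).mp h0
    exact s.2 (hJ (show (LinearMap.toSpanSingleton R _ x) (s : R) = 0 from hs))
  choose b hb hbr hbk using hlev
  -- finite presentation
  obtain ⟨N, π, hπ⟩ := Module.Finite.exists_fin' R M
  let K := LinearMap.ker π
  have hG : ∀ p, ∃ G : Submodule R (Fin N → R), G.FG ∧ G ≤ K ∧ ∀ x ∈ K, ∃ k : ℕ, b p ^ k • x ∈ G := by
    intro p
    obtain ⟨ψ, hψ⟩ := Module.projective_lifting_property π (φ p) hπ
    choose c hc using fun j : Fin N => hbr p (π (Pi.single j 1))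
    refine ⟨Submodule.span R (Set.range fun j => b p • (Pi.single j 1 : Fin N → R) - ψ (c j)),
      Submodule.fg_span (Set.finite_range _), Submodule.span_le.mpr ?_, fun x hx => ?_⟩
    · rintro _ ⟨j, rfl⟩
      simp only [SetLike.mem_coe, K, LinearMap.mem_ker, map_sub, map_smul, ← LinearMap.comp_apply, hψ, hc, sub_self]
    · let w := ∑ j, x j • c j
      have hxe : x = ∑ j, x j • (Pi.single j 1 : Fin N → R) := by
        funext i; simp [Pi.single_apply]
      have hw : φ p w = 0 := by
        rw [map_sum]
        simp only [map_smul, hc, smul_comm (x _) (b p)]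
        rw [← Finset.smul_sum]
        simp only [← map_smul π]
        rw [← map_sum, ← hxe, LinearMap.mem_ker.mp hx, smul_zero]
      obtain ⟨k, hk⟩ := hbk p w hw
      refine ⟨k + 1, ?_⟩
      have he : b p • x - ψ w ∈ Submodule.span R (Set.range fun j => b p • (Pi.single j 1 : Fin N → R) - ψ (c j)) := by
        have : b p • x - ψ w = ∑ j, x j • (b p • (Pi.single j 1 : Fin N → R) - ψ (c j)) := by
          simp only [smul_sub, Finset.sum_sub_distrib, w, map_sum, map_smul, smul_comm (x _) (b p), ← Finset.smul_sum, ← hxe]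
        rw [this]
        exact Submodule.sum_mem _ fun j _ => Submodule.smul_mem _ _ (Submodule.subset_span ⟨j, rfl⟩)
      have := Submodule.smul_mem _ (b p ^ k) he
      rwa [smul_sub, ← map_smul ψ, hk, map_zero, sub_zero, smul_smul, ← pow_succ] at this
  choose G hGfg hGK hGx using hG
  obtain ⟨T, hT⟩ := isCompact_univ.elim_finite_subcover (fun p => (basicOpen (b p) : Set (PrimeSpectrum R)))
    (fun p => (basicOpen (b p)).2) (fun p _ => Set.mem_iUnion.mpr ⟨p, hb p⟩)
  have hK : K = ⨆ p ∈ T, G p := by
    refine le_antisymm (fun x hx => ?_) (iSup₂_le fun p _ => hGK p)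
    let I : Ideal R := Submodule.comap (LinearMap.toSpanSingleton R _ x) (⨆ p ∈ T, G p)
    suffices I = ⊤ by
      have h1 : (1 : R) ∈ I := this ▸ Submodule.mem_top
      simpa [I] using h1
    by_contra hI
    obtain ⟨m, hm, hIm⟩ := Ideal.exists_le_maximal I hI
    obtain ⟨p, hp, hpm⟩ := Set.mem_iUnion₂.mp (hT (Set.mem_univ ⟨m, hm.isPrime⟩))
    obtain ⟨k, hk⟩ := hGx p x hx
    exact hpm (hm.isPrime.mem_of_pow_mem k (hIm (show b p ^ k • x ∈ _ from Submodule.mem_iSup_of_mem p (Submodule.mem_iSup_of_mem hp hk))))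
  have : Module.FinitePresentation R M := Module.finitePresentation_of_surjective π hπ
    (show K.FG by rw [hK]; exact Submodule.fg_biSup _ _ fun p _ => hGfg p)
  exact Module.Flat.projective_of_finitePresentation

theorem isOpen_of_projective (h : ∀ (M : Type u) [AddCommGroup M] [Module R M], Module.Finite R M → Module.Flat R M →
    Module.Projective R M) (Z : Set (PrimeSpectrum R)) (hZ : IsClosed Z) (hg : StableUnderGeneralization Z) : IsOpen Z := by
  classical
  let I : Ideal R :=
    { carrier := {x | ∀ q ∈ Z, ∃ t ∉ q.asIdeal, t * x = 0}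
      zero_mem' := fun q _ => ⟨1, q.2.one_notMem, mul_zero _⟩
      add_mem' := fun {x y} hx hy q hq => by
        obtain ⟨t, ht, htx⟩ := hx q hq
        obtain ⟨s, hs, hsy⟩ := hy q hq
        exact ⟨t * s, q.2.mul_notMem ht hs, by linear_combination s * htx + t * hsy⟩
      smul_mem' := fun r x hx q hq => by
        obtain ⟨t, ht, htx⟩ := hx q hq
        exact ⟨t, ht, by rw [smul_eq_mul]; linear_combination r * htx⟩ }
  have hzero : ∀ p : PrimeSpectrum R, I ≤ p.asIdeal → p ∈ Z := by
    intro p hIp
    by_contra hp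
    have hpair : ∀ q ∈ Z, ∃ s ∉ p.asIdeal, ∃ t ∉ q.asIdeal, t * s = 0 := by
      intro q hq
      by_contra hc
      push Not at hc
      obtain ⟨P, hPp, -, hPd⟩ := Ideal.exists_le_prime_disjoint ⊥ (p.asIdeal.primeCompl ⊔ q.asIdeal.primeCompl) (by
        rw [Set.disjoint_left]
        intro x hx hx'
        obtain ⟨s, hs, t, ht, rfl⟩ := Submonoid.mem_sup.mp hx'
        exact hc s hs t ht (by rw [mul_comm]; exact hx))
      have hle : ∀ r : PrimeSpectrum R, r.asIdeal.primeCompl ≤ p.asIdeal.primeCompl ⊔ q.asIdeal.primeCompl → P ≤ r.asIdeal :=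
        fun r hr z hz => by_contra fun hzr => Set.disjoint_left.mp hPd hz (hr hzr)
      have hPZ : (⟨P, hPp⟩ : PrimeSpectrum R) ∈ Z :=
        hg ((PrimeSpectrum.le_iff_specializes _ _).mp (hle q le_sup_right)) hq
      exact hp (hZ.stableUnderSpecialization ((PrimeSpectrum.le_iff_specializes _ _).mp (hle p le_sup_left)) hPZ)
    choose s hs t ht hts using hpair
    obtain ⟨T, hT⟩ := hZ.isCompact.elim_finite_subcover (fun q : Z => (basicOpen (t q.1 q.2) : Set (PrimeSpectrum R)))
      (fun q => (basicOpen _).2) (fun q hq => Set.mem_iUnion.mpr ⟨⟨q, hq⟩, ht q hq⟩)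
    refine p.2.prod_mem_iff.not.mpr (fun ⟨i, _, hi⟩ => hs i.1 i.2 hi) (hIp (x := ∏ q ∈ T, s q.1 q.2) fun q hq => ?_)
    obtain ⟨i, hi, hqi⟩ := Set.mem_iUnion₂.mp (hT hq)
    refine ⟨t i.1 i.2, hqi, ?_⟩
    rw [← Finset.mul_prod_erase T _ hi, ← mul_assoc, hts, zero_mul]
  have hZI : Z = zeroLocus (I : Set R) := Set.ext fun p => ⟨fun hp x hx => by
    obtain ⟨t, ht, htx⟩ := hx p hp
    exact (p.2.mem_or_mem (htx ▸ p.asIdeal.zero_mem)).resolve_left ht, fun hp => hzero p hp⟩
  have hpure : I.Pure := Ideal.Pure.of_inf_eq_mul I fun J _ => le_antisymm (fun x ⟨hxI, hxJ⟩ => by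
    have htop : I ⊔ LinearMap.ker (LinearMap.toSpanSingleton R R x) = ⊤ := by
      by_contra hne
      obtain ⟨m, hm, hle⟩ := Ideal.exists_le_maximal _ hne
      obtain ⟨t, ht, htx⟩ := hxI ⟨m, hm.isPrime⟩ (hzero ⟨m, hm.isPrime⟩ (le_sup_left.trans hle))
      exact ht (hle (Submodule.mem_sup_right (by simpa using htx)))
    obtain ⟨y, hy, z, hz, hyz⟩ := Submodule.mem_sup.mp ((Ideal.eq_top_iff_one _).mp htop)
    have hzx : z * x = 0 := by simpa using hz
    rw [show x = y * x by linear_combination -x * hyz + hzx]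
    exact Ideal.mul_mem_mul hy hxJ) Ideal.mul_le_inf
  have hproj := h (R ⧸ I) inferInstance hpure
  have hfg : I.FG := by
    have := Module.finitePresentation_of_projective R (R ⧸ I)
    have := Module.FinitePresentation.fg_ker (Submodule.mkQ I) (Submodule.mkQ_surjective I)
    rwa [Submodule.ker_mkQ] at this
  obtain ⟨e, he, hIe⟩ := (Ideal.isIdempotentElem_iff_of_fg I hfg).mp (Ideal.isIdempotentElem_of_pure I)
  rw [hZI, hIe, Ideal.submodule_span_eq, zeroLocus_span, zeroLocus_eq_basicOpen_of_mul_add e (1 - e)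
    (by rw [mul_sub, mul_one, he.eq, sub_self]) (by ring)]
  exact (basicOpen _).2

/-- For a commutative ring R the following are equivalent: (1) every subset of Spec R which is closed
and stable under generalization is open; (2) every finite flat R-module is finite locally free, i.e.
(for finite modules) projective. -/
theorem result (R : Type u) [CommRing R] :
    (∀ Z : Set (PrimeSpectrum R), IsClosed Z → StableUnderGeneralization Z → IsOpen Z) ↔
      ∀ (M : Type u) [AddCommGroup M] [Module R M], Module.Finite R M → Module.Flat R M →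
        Module.Projective R M := by
  exact ⟨fun h M _ _ _ _ => projective_of_isOpen h M, fun h Z hZ hg => isOpen_of_projective h Z hZ hg⟩

end Groth.Agent.S6355
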