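import Mathlib
import Groth.Statements.S6362
-- import your own Groth.Agent.* helpers here

set_option autoImplicit false
universe u
open scoped TensorProduct
open Fields

namespace Groth.Agent.S6362

/-- Let K/F be a finite separable extension and L/F an extension with L algebraically closed. Then the
L-algebra map K ⊗_F L → ∏_σ L, indexed by the F-algebra maps σ : K → L and sending a ⊗ b to (σ(a)
b)_σ, is an isomorphism; stated as bijectivity of that map. -/
theorem result {F K L : Type u} [Field F] [Field K] [Field L]
    [Algebra F K] [Algebra F L] [FiniteDimensional F K] [Algebra.IsSeparable F K] [IsAlgClosed L] :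
    Function.Bijective (fun x : K ⊗[F] L => fun σ : K →ₐ[F] L =>
      Algebra.TensorProduct.lift σ (AlgHom.id F L) (fun a b => Commute.all (σ a) b) x) := by
  let Φ : L ⊗[F] K →ₐ[L] ((K →ₐ[F] L) → L) :=
    Algebra.TensorProduct.lift (Algebra.ofId L _) (Pi.algHom F _ fun σ => σ) (fun _ _ => Commute.all _ _)
  have hΦ : ∀ (l : L) (a : K) σ, Φ (l ⊗ₜ a) σ = l * σ a := fun l a σ => by simp [Φ, Algebra.ofId_apply]
  have hsurj : Function.Surjective Φ.toLinearMap := by
    rw [← LinearMap.range_eq_top]
    by_contra hne
    obtain ⟨f, hf0, hf⟩ := Submodule.exists_le_ker_of_lt_top _ (lt_top_iff_ne_top.2 hne)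
    classical
    refine hf0 (LinearMap.pi_ext' fun σ => LinearMap.ext_ring ?_)
    have hc := Fintype.linearIndependent_iff.1 (linearIndependent_algHom_toLinearMap F K L)
      (fun σ => f (Pi.single σ 1)) (LinearMap.ext fun a => by
        have h1 : f (Φ (1 ⊗ₜ a)) = 0 := hf (LinearMap.mem_range_self _ (1 ⊗ₜ[F] a))
        rw [← Finset.univ_sum_single (Φ (1 ⊗ₜ a)), map_sum] at h1
        rw [LinearMap.zero_apply, ← h1, LinearMap.sum_apply]
        refine Finset.sum_congr rfl fun σ _ => ?_
        rw [hΦ, one_mul, LinearMap.smul_apply, smul_eq_mul, mul_comm]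
        conv_rhs => rw [show (Pi.single σ (σ a) : (K →ₐ[F] L) → L) = σ a • Pi.single σ 1 by rw [← Pi.single_smul', smul_eq_mul, mul_one], map_smul, smul_eq_mul]
        rfl) σ
    simpa using hc
  have hbij : Function.Bijective Φ := ⟨(LinearMap.injective_iff_surjective_of_finrank_eq_finrank (by
      rw [Module.finrank_baseChange, Module.finrank_fintype_fun_eq_card, AlgHom.card])).2 hsurj, hsurj⟩
  convert hbij.comp (Algebra.TensorProduct.comm F K L).bijective using 1
  funext x σ
  induction x using TensorProduct.induction_on with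
  | zero => simp
  | tmul a l =>
    simp only [Function.comp_apply, Algebra.TensorProduct.comm_tmul, hΦ]
    exact (Algebra.TensorProduct.lift_tmul σ (AlgHom.id F L) _ a l).trans (mul_comm _ _)
  | add x y hx hy => simp only [map_add, Function.comp_apply, Pi.add_apply] at hx hy ⊢; rw [hx, hy]

end Groth.Agent.S6362
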