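import Groth.Statements.S6363
import Mathlib
-- import your own Groth.Agent.* helpers here

set_option autoImplicit false
universe u
open scoped TensorProduct
open Fields

namespace Groth.Agent.S6363

/-- For a finite field extension L/K and a normal closure M of L/K, some K-algebra homomorphism from the
n-fold tensor power L ⊗_K ⋯ ⊗_K L to M is surjective, where n = [L : K]_s is the separable degree
(so n ≤ [L : K]). -/
theorem result {K L M : Type u} [Field K] [Field L] [Field M]
    [Algebra K L] [Algebra K M] [Algebra L M] [IsScalarTower K L M] [FiniteDimensional K L]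
    [IsNormalClosure K L M] :
    ∃ f : (⨂[K] _ : Fin (Field.finSepDegree K L), L) →ₐ[K] M, Function.Surjective f := by
  classical
  haveI : Algebra.IsAlgebraic K L := Algebra.IsAlgebraic.of_finite K L
  obtain ⟨hsplit, htop⟩ := Algebra.IsAlgebraic.isNormalClosure_iff.1 (inferInstance : IsNormalClosure K L M)
  haveI : Normal K M := IsNormalClosure.normal (K := L)
  haveI : Fintype (L →ₐ[K] M) := Fintype.ofFinite _
  have hcard : Field.finSepDegree K L = Fintype.card (L →ₐ[K] M) := by
    rw [← Nat.card_eq_fintype_card]
    exact Nat.card_congr (Field.embEquivOfAdjoinSplits K L M (IntermediateField.adjoin_univ K L)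
      fun s _ => ⟨Algebra.IsIntegral.isIntegral s, hsplit s⟩)
  let σ : Fin (Field.finSepDegree K L) ≃ (L →ₐ[K] M) := (finCongr hcard).trans (Fintype.equivFin _).symm
  let f := PiTensorProduct.liftAlgHom
    ((MultilinearMap.mkPiAlgebra K (Fin (Field.finSepDegree K L)) M).compLinearMap fun i => (σ i).toLinearMap)
    (by simp) (fun x y => by simp [Finset.prod_mul_distrib])
  refine ⟨f, fun m => ?_⟩
  let E : IntermediateField K M := Subalgebra.toIntermediateField' f.range (by
    haveI : Algebra.IsAlgebraic K M := Normal.toIsAlgebraic
    exact Subalgebra.isField_of_algebraic _)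
  have : IntermediateField.normalClosure K L M ≤ E := normalClosure_le_iff.2 fun τ => by
    rintro _ ⟨x, rfl⟩
    show τ x ∈ f.range
    refine ⟨PiTensorProduct.tprod K (Pi.mulSingle (σ.symm τ) x), ?_⟩
    show f _ = τ x
    simp only [f, PiTensorProduct.liftAlgHom_apply, PiTensorProduct.lift.tprod,
      MultilinearMap.compLinearMap_apply, MultilinearMap.mkPiAlgebra_apply]
    rw [Finset.prod_eq_single (σ.symm τ)]
    · simp
    · intro b _ hb; simp [hb]
    · simp
  rw [htop] at this
  exact this (show m ∈ (⊤ : IntermediateField K M) from trivial)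

end Groth.Agent.S6363
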