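import Groth.Statements.S6364
import Mathlib

set_option autoImplicit false
universe u
open Fields

namespace Groth.Agent.S6364

open IntermediateField in
/-- Let L/K be a finite extension and a ∈ L with minimal polynomial P over K. Then P ^ e, with e = [L :
K(a)], is the characteristic polynomial of multiplication by a (the K-linear map x ↦ a x on L), and
e · deg P = [L : K]. -/
theorem result {K L : Type u} [Field K] [Field L] [Algebra K L] [FiniteDimensional K L]
    (a : L) :
    (Algebra.lmul K L a).charpoly = minpoly K a ^ Module.finrank K⟮a⟯ L ∧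
      Module.finrank K⟮a⟯ L * (minpoly K a).natDegree = Module.finrank K L := by
  classical
  have ha := IsIntegral.of_finite K a
  let pb := IntermediateField.adjoin.powerBasis ha
  let c := Module.finBasis K⟮a⟯ L
  have hd : (minpoly K a).natDegree = pb.dim := (IntermediateField.adjoin.powerBasis_dim ha).symm
  refine ⟨?_, ?_⟩
  · rw [← LinearMap.charpoly_toMatrix (Algebra.lmul K L a) (pb.basis.smulTower c)]
    have e : LinearMap.toMatrix (pb.basis.smulTower c) (pb.basis.smulTower c) (Algebra.lmul K L a) =
        Matrix.blockDiagonal (fun _ => Algebra.leftMulMatrix pb.basis (IntermediateField.AdjoinSimple.gen K a)) := by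
      rw [← Algebra.smulTower_leftMulMatrix_algebraMap pb.basis c, IntermediateField.AdjoinSimple.algebraMap_gen,
        Algebra.leftMulMatrix_apply]
    rw [e, Matrix.charpoly, Matrix.charmatrix]
    have e2 : Matrix.scalar _ (Polynomial.X : Polynomial K) -
        Polynomial.C.mapMatrix (Matrix.blockDiagonal (fun _ : Fin (Module.finrank K⟮a⟯ L) =>
          Algebra.leftMulMatrix pb.basis (IntermediateField.AdjoinSimple.gen K a))) =
        Matrix.blockDiagonal (fun _ : Fin (Module.finrank K⟮a⟯ L) =>
          Matrix.charmatrix (Algebra.leftMulMatrix pb.basis (IntermediateField.AdjoinSimple.gen K a))) := by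
      ext ⟨i, k⟩ ⟨j, l⟩
      simp only [Matrix.sub_apply, Matrix.scalar_apply, Matrix.diagonal_apply, RingHom.mapMatrix_apply,
        Matrix.map_apply, Matrix.blockDiagonal_apply, Matrix.charmatrix_apply, Prod.mk.injEq]
      by_cases hkl : k = l <;> simp [hkl]
    rw [e2, Matrix.det_blockDiagonal, Finset.prod_const, Finset.card_univ, Fintype.card_fin]
    congr 1
    have h3 : Algebra.leftMulMatrix pb.basis (IntermediateField.AdjoinSimple.gen K a) =
        Algebra.leftMulMatrix pb.basis pb.gen := by rw [IntermediateField.adjoin.powerBasis_gen]
    rw [h3]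
    show Matrix.charpoly _ = _
    rw [charpoly_leftMulMatrix, IntermediateField.adjoin.powerBasis_gen]
    exact IntermediateField.minpoly_gen K a
  · rw [hd, mul_comm, ← pb.finrank, Module.finrank_mul_finrank]

end Groth.Agent.S6364
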