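import Groth.Statements.S6368
import Groth.Agent.MLMod.Scalar

set_option autoImplicit false
universe u
open scoped TensorProduct
open CAlg

namespace Groth.Agent.S6368

/-- Let R → S be faithfully flat and M an R-module. If the S-module S ⊗_R M is countably generated then
M is countably generated. -/
theorem result (R S : Type u) [CommRing R] [CommRing S] [Algebra R S]
    [Module.FaithfullyFlat R S] (M : Type u) [AddCommGroup M] [Module R M]
    (h : CAlg.IsCountablyGenerated S (S ⊗[R] M)) : CAlg.IsCountablyGenerated R M := by
  classical
  obtain ⟨s, hs, hspan⟩ := h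
  choose k a m hw using fun w : TensorProduct R S M => TensorProduct.exists_sum_tmul_eq w
  refine ⟨⋃ w ∈ s, Set.range (m w), hs.biUnion fun w _ => (Set.finite_range _).countable, ?_⟩
  let N := Submodule.span R (⋃ w ∈ s, Set.range (m w))
  have hsurj : Function.Surjective (N.subtype.lTensor S) := by
    intro z
    have : z ∈ LinearMap.range (N.subtype.baseChange S) := by
      have htop : ⊤ ≤ LinearMap.range (N.subtype.baseChange S) := by
        rw [← hspan, Submodule.span_le]
        intro w hwmem
        rw [hw w]
        refine Submodule.sum_mem _ fun j _ => ?_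
        exact ⟨a w j ⊗ₜ[R] ⟨m w j, Submodule.subset_span (Set.mem_biUnion hwmem ⟨j, rfl⟩)⟩, by simp⟩
      exact htop Submodule.mem_top
    exact this
  have hN : Function.Surjective N.subtype :=
    (Module.FaithfullyFlat.lTensor_surjective_iff_surjective R S N.subtype).1 hsurj
  exact Submodule.eq_top_iff'.2 fun x => by
    obtain ⟨y, rfl⟩ := hN x
    exact y.2

end Groth.Agent.S6368
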