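import Groth.Statements.S6369
import Mathlib

set_option autoImplicit false
universe u
open CAlg

namespace Groth.Agent.S6369

/-- Invertible products of primes have a unique factorisation. -/
theorem eq_of_prod_eq {D : Type u} [CommRing D] [IsDomain D] : ∀ (n : ℕ) (s t : Multiset (Ideal D)),
    Multiset.card s = n → (∀ p ∈ s, p.IsPrime) → (∀ p ∈ t, p.IsPrime) → s.prod = t.prod →
    (∃ (L : Ideal D) (c : D), c ≠ 0 ∧ s.prod * L = Ideal.span {c}) → s = t := by
  classical
  intro n
  induction n with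
  | zero =>
    intro s t hn _ ht he _
    obtain rfl := Multiset.card_eq_zero.mp hn
    by_contra hne
    obtain ⟨q, hq⟩ := Multiset.exists_mem_of_ne_zero (Ne.symm hne)
    exact (ht q hq).ne_top (top_le_iff.mp (le_of_eq_of_le (by simpa using he) (Ideal.le_of_dvd (Multiset.dvd_prod hq))))
  | succ n ih =>
    intro s t hn hs ht he ⟨L, c, hc, hL⟩
    have hne : s.toFinset.Nonempty := by
      obtain ⟨q, hq⟩ := (Multiset.card_pos_iff_exists_mem (s := s)).mp (by omega)
      exact ⟨q, Multiset.mem_toFinset.mpr hq⟩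
    obtain ⟨p, hp⟩ := s.toFinset.exists_minimal hne
    have hps : p ∈ s := Multiset.mem_toFinset.mp hp.1
    obtain ⟨q, hqt, hqp⟩ := ((hs p hps).multiset_prod_le).mp (he ▸ Ideal.le_of_dvd (Multiset.dvd_prod hps))
    obtain ⟨p', hps', hpq⟩ := ((ht q hqt).multiset_prod_le).mp (he.symm ▸ Ideal.le_of_dvd (Multiset.dvd_prod hqt))
    have hpp : p ≤ p' := hp.2 (Multiset.mem_toFinset.mpr hps') (hpq.trans hqp)
    obtain rfl : p = q := le_antisymm (hpp.trans hpq) hqp
    obtain ⟨s', rfl⟩ := Multiset.exists_cons_of_mem hps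
    obtain ⟨t', rfl⟩ := Multiset.exists_cons_of_mem hqt
    rw [Multiset.prod_cons, Multiset.prod_cons] at he
    rw [Multiset.prod_cons] at hL
    have he' : s'.prod = t'.prod := Ideal.span_singleton_mul_right_injective hc (by
      show Ideal.span {c} * s'.prod = Ideal.span {c} * t'.prod
      have h3 : p * (s'.prod * L) * s'.prod = p * (s'.prod * L) * t'.prod := by
        rw [show p * (s'.prod * L) * s'.prod = (p * s'.prod) * (s'.prod * L) by ring, he]
        ring
      rwa [← mul_assoc, hL] at h3)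
    rw [ih s' t' (by simpa using hn) (fun r hr => hs r (Multiset.mem_cons_of_mem hr))
      (fun r hr => ht r (Multiset.mem_cons_of_mem hr)) he' ⟨p * L, c, hc, by rw [← hL]; ring⟩]

/-- (1) ⇒ (3): let R be a domain such that every nonzero ideal is a product of nonzero prime ideals,
uniquely up to permutation of the factors. Then R is Noetherian, integrally closed and of dimension
at most one, i.e. a Dedekind domain in the Noetherian sense. (The converse and the description by
discrete valuation rings at maximal ideals are the standard equivalences.) -/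
theorem result (R : Type u) [CommRing R] [IsDomain R]
    (h : ∀ I : Ideal R, I ≠ ⊥ → ∃! s : Multiset (Ideal R), (∀ p ∈ s, p.IsPrime ∧ p ≠ ⊥) ∧ s.prod = I) :
    IsDedekindDomain R := by
  classical
  have hfac : ∀ I : Ideal R, I ≠ ⊥ → ∃ s : Multiset (Ideal R), (∀ p ∈ s, p.IsPrime ∧ p ≠ ⊥) ∧ s.prod = I :=
    fun I hI => (h I hI).exists
  -- invertible primes are maximal
  have hmax : ∀ (P : Ideal R), P.IsPrime → P ≠ ⊥ → (∃ (L : Ideal R) (b : R), b ≠ 0 ∧ P * L = Ideal.span {b}) →
      P.IsMaximal := by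
    intro P hP hP0 ⟨L, b, hb, hL⟩
    refine Ideal.isMaximal_iff.mpr ⟨fun h1 => hP.ne_top ((Ideal.eq_top_iff_one P).mpr h1), fun J a hPJ haP haJ => ?_⟩
    let J₁ := P ⊔ Ideal.span {a}
    let J₂ := P ⊔ Ideal.span {a ^ 2}
    obtain ⟨s, hs, hsp⟩ := hfac J₁ (fun h0 => hP0 (le_bot_iff.mp (le_sup_left.trans h0.le)))
    obtain ⟨t, ht, htp⟩ := hfac J₂ (fun h0 => hP0 (le_bot_iff.mp (le_sup_left.trans h0.le)))
    let π := Ideal.Quotient.mk P
    have hsP : ∀ q ∈ s, P ≤ q := fun q hq => le_sup_left.trans (hsp.ge.trans (Ideal.le_of_dvd (Multiset.dvd_prod hq)))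
    have htP : ∀ q ∈ t, P ≤ q := fun q hq => le_sup_left.trans (htp.ge.trans (Ideal.le_of_dvd (Multiset.dvd_prod hq)))
    have hprime : ∀ q : Ideal R, q.IsPrime → P ≤ q → (q.map π).IsPrime := fun q hq hle =>
      haveI := hq
      Ideal.map_isPrime_of_surjective Ideal.Quotient.mk_surjective (by rwa [Ideal.mk_ker])
    have hprod : ∀ m : Multiset (Ideal R), (m.map (Ideal.map π)).prod = m.prod.map π := fun m =>
      (map_multiset_prod (Ideal.mapHom π) m).symm
    have hJ : ∀ x : R, (P ⊔ Ideal.span {x}).map π = Ideal.span {π x} := fun x => by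
      rw [Ideal.map_sup, Ideal.map_quotient_self, bot_sup_eq, Ideal.map_span, Set.image_singleton]
    have heq : (t.map (Ideal.map π)) = (s + s).map (Ideal.map π) := by
      refine eq_of_prod_eq _ _ _ rfl ?_ ?_ ?_ ⟨⊤, π a ^ 2, pow_ne_zero _ ?_, ?_⟩
      · simp only [Multiset.mem_map]
        rintro _ ⟨q, hq, rfl⟩
        exact hprime q (ht q hq).1 (htP q hq)
      · simp only [Multiset.mem_map, Multiset.mem_add, or_self]
        rintro _ ⟨q, hq, rfl⟩
        exact hprime q (hs q hq).1 (hsP q hq)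
      · rw [hprod, hprod, Multiset.prod_add, htp, hsp, Ideal.map_mul, hJ, hJ, Ideal.span_singleton_mul_span_singleton,
          map_pow, sq]
      · exact fun h0 => haP (Ideal.Quotient.eq_zero_iff_mem.mp h0)
      · rw [hprod, htp, hJ, Ideal.mul_top, map_pow]
    have hts : t = s + s := by
      have hinv : ∀ m : Multiset (Ideal R), (∀ q ∈ m, P ≤ q) → (m.map (Ideal.map π)).map (Ideal.comap π) = m := by
        intro m hm
        rw [Multiset.map_map]
        conv_rhs => rw [← Multiset.map_id m]
        refine Multiset.map_congr rfl fun q hq => ?_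
        show Ideal.comap π (Ideal.map π q) = q
        rw [Ideal.comap_map_of_surjective π Ideal.Quotient.mk_surjective, ← RingHom.ker_eq_comap_bot, Ideal.mk_ker,
          sup_eq_left.mpr (hm q hq)]
      rw [← hinv t htP, heq, hinv _ (fun q hq => hsP q ((Multiset.mem_add.mp hq).elim id id))]
    have hJ2 : J₂ = J₁ * J₁ := by rw [← htp, hts, Multiset.prod_add, hsp]
    have hPJ₁ : P = P * J₁ := by
      refine le_antisymm (fun x hx => ?_) Ideal.mul_le_left
      have hx' : x ∈ J₁ * J₁ := hJ2.le (Ideal.mem_sup_left hx)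
      have hle : J₁ * J₁ ≤ P * J₁ ⊔ Ideal.span {a * a} := by
        rw [Ideal.sup_mul, Ideal.mul_sup (I := Ideal.span {a}), Ideal.span_singleton_mul_span_singleton]
        refine sup_le le_sup_left (sup_le (le_sup_of_le_left ?_) le_sup_right)
        rw [mul_comm]
        exact Ideal.mul_mono le_rfl le_sup_right
      obtain ⟨y, hy, z, hz, rfl⟩ := Submodule.mem_sup.mp (hle hx')
      obtain ⟨w, rfl⟩ := Ideal.mem_span_singleton'.mp hz
      have h5 : w * (a * a) ∈ P := by
        have := P.sub_mem hx (Ideal.mul_le_left hy)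
        rwa [add_sub_cancel_left] at this
      have hw : w ∈ P := (hP.mem_or_mem h5).resolve_right fun h => haP ((hP.mem_or_mem h).elim id id)
      refine add_mem hy ?_
      rw [← mul_assoc]
      exact Ideal.mul_mem_mul (P.mul_mem_right a hw) (Ideal.mem_sup_right (Ideal.mem_span_singleton_self a))
    have h1 : Ideal.span {b} * ⊤ = Ideal.span {b} * J₁ := by
      rw [Ideal.mul_top, ← hL]
      conv_lhs => rw [hPJ₁]
      ring
    have h2 := Ideal.span_singleton_mul_right_injective hb h1
    exact (sup_le hPJ (by rwa [Ideal.span_singleton_le_iff_mem]) : J₁ ≤ J) (show (1 : R) ∈ J₁ from h2.le Submodule.mem_top)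
  have hinvP : ∀ m : Ideal R, m.IsPrime → m ≠ ⊥ → ∃ (L : Ideal R) (b : R), b ≠ 0 ∧ m * L = Ideal.span {b} := by
    intro m hm hm0
    obtain ⟨b, hbm, hb⟩ := Submodule.exists_mem_ne_zero_of_ne_bot hm0
    obtain ⟨s, hs, hsp⟩ := hfac (Ideal.span {b}) (by simpa using hb)
    obtain ⟨P, hPs, hPm⟩ := hm.multiset_prod_le.mp (hsp.le.trans ((Ideal.span_singleton_le_iff_mem m).mpr hbm))
    obtain ⟨s', rfl⟩ := Multiset.exists_cons_of_mem hPs
    have hP : P * s'.prod = Ideal.span {b} := by rw [← hsp, Multiset.prod_cons]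
    rw [← (hmax P (hs P hPs).1 (hs P hPs).2 ⟨_, b, hb, hP⟩).eq_of_le hm.ne_top hPm]
    exact ⟨_, b, hb, hP⟩
  have hinvI : ∀ I : Ideal R, I ≠ ⊥ → ∃ (L : Ideal R) (b : R), b ≠ 0 ∧ I * L = Ideal.span {b} := by
    intro I hI
    obtain ⟨s, hs, rfl⟩ := hfac I hI
    clear hI
    induction s using Multiset.induction with
    | empty => exact ⟨⊤, 1, one_ne_zero, by simp⟩
    | cons p s ih =>
      obtain ⟨L, b, hb, hL⟩ := ih fun q hq => hs q (Multiset.mem_cons_of_mem hq)
      obtain ⟨L', b', hb', hL'⟩ := hinvP p (hs p (Multiset.mem_cons_self _ _)).1 (hs p (Multiset.mem_cons_self _ _)).2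
      refine ⟨L' * L, b' * b, mul_ne_zero hb' hb, ?_⟩
      rw [Multiset.prod_cons, ← Ideal.span_singleton_mul_span_singleton, ← hL, ← hL']
      ring
  rw [isDedekindDomain_iff_mul_inv_cancel (K := FractionRing R)]
  intro I hI
  rw [FractionalIdeal.mul_inv_cancel_iff]
  obtain ⟨a, J, ha, rfl⟩ := FractionalIdeal.exists_eq_spanSingleton_mul I
  obtain ⟨L, b, hb, hL⟩ := hinvI J fun h0 => hI (by simp [h0])
  refine ⟨FractionalIdeal.spanSingleton _ (algebraMap R (FractionRing R) a) * (L : FractionalIdeal (nonZeroDivisors R) (FractionRing R)) *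
    FractionalIdeal.spanSingleton _ (algebraMap R (FractionRing R) b)⁻¹, ?_⟩
  calc _ = (FractionalIdeal.spanSingleton _ (algebraMap R (FractionRing R) a)⁻¹ * FractionalIdeal.spanSingleton _ (algebraMap R (FractionRing R) a)) *
      ((J : FractionalIdeal (nonZeroDivisors R) (FractionRing R)) * (L : FractionalIdeal (nonZeroDivisors R) (FractionRing R))) * FractionalIdeal.spanSingleton _ (algebraMap R (FractionRing R) b)⁻¹ := by ring
    _ = 1 := by
      rw [← FractionalIdeal.coeIdeal_mul, hL, FractionalIdeal.coeIdeal_span_singleton,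
        FractionalIdeal.spanSingleton_mul_spanSingleton, inv_mul_cancel₀ (by simpa using ha),
        FractionalIdeal.spanSingleton_one, one_mul, FractionalIdeal.spanSingleton_mul_spanSingleton,
        mul_inv_cancel₀ (by simpa using hb), FractionalIdeal.spanSingleton_one]

end Groth.Agent.S6369
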