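import Groth.Statements.S6370
import Groth.Agent.KrullAkizuki.Basic

set_option autoImplicit false
universe u
open CAlg

namespace Groth.Agent.S6370

/-- For a one-dimensional Noetherian domain A with fraction field K, a finite field extension L of K
(separable or not) and B the integral closure of A in L: B is a Dedekind domain, Spec B → Spec A is
surjective and has finite fibres, and at every maximal ideal Q of B the residue field B/Q is finite
over A/(Q ∩ A). -/
theorem result (A K L B : Type u) [CommRing A] [IsDomain A]
    [IsNoetherianRing A] (hdim : ringKrullDim A = 1) [Field K] [Algebra A K] [IsFractionRing A K]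
    [Field L] [Algebra K L] [FiniteDimensional K L] [Algebra A L] [IsScalarTower A K L]
    [CommRing B] [IsDomain B] [Algebra A B] [Algebra B L] [IsScalarTower A B L] [IsIntegralClosure B A L] :
    IsDedekindDomain B ∧ Function.Surjective (PrimeSpectrum.comap (algebraMap A B)) ∧
      (∀ p : PrimeSpectrum A, (PrimeSpectrum.comap (algebraMap A B) ⁻¹' {p}).Finite) ∧
      ∀ Q : Ideal B, Q.IsMaximal → Module.Finite (A ⧸ Q.comap (algebraMap A B)) (B ⧸ Q) := by
  haveI : Ring.KrullDimLE 1 A := Ring.krullDimLE_iff.mpr (by exact_mod_cast hdim.le)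
  have hBL : Function.Injective (algebraMap B L) := IsIntegralClosure.algebraMap_injective B A L
  obtain ⟨j, hj⟩ := Groth.Agent.KrullAkizuki.exists_embedding (R := A) (K := K) hBL
  haveI := Groth.Agent.KrullAkizuki.isNoetherianRing_of_injective j hj
  haveI := Groth.Agent.KrullAkizuki.dimensionLEOne_of_injective j hj
  haveI : IsFractionRing B L := IsIntegralClosure.isFractionRing_of_finite_extension A K L B
  haveI : Algebra.IsIntegral A B := IsIntegralClosure.isIntegral_algebra A L
  haveI : IsIntegrallyClosed B := (isIntegrallyClosed_iff L).mpr fun {x} hx => IsIntegralClosure.isIntegral_iff.mp (isIntegral_trans (R := A) x hx)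
  have hAB : Function.Injective (algebraMap A B) := by
    have h := (algebraMap K L).injective.comp (IsFractionRing.injective A K)
    intro a b e
    apply h
    simp only [Function.comp_apply, ← IsScalarTower.algebraMap_apply]
    rw [IsScalarTower.algebraMap_apply A B L, e, ← IsScalarTower.algebraMap_apply]
  refine ⟨{}, ?_, ?_, ?_⟩
  · intro p
    obtain ⟨q, -, hq, hqp⟩ := Ideal.exists_ideal_over_prime_of_isIntegral (S := B) p.asIdeal ⊥ (by
      intro a ha
      rw [Ideal.mem_comap, Ideal.mem_bot] at ha
      rw [hAB (by rw [ha, map_zero] : algebraMap A B a = algebraMap A B 0)]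
      exact p.asIdeal.zero_mem)
    exact ⟨⟨q, hq⟩, PrimeSpectrum.ext hqp⟩
  · intro p
    rcases eq_or_ne p.asIdeal ⊥ with hp | hp
    · refine (Set.finite_singleton (⟨⊥, Ideal.isPrime_bot⟩ : PrimeSpectrum B)).subset fun q hq => ?_
      have h : q.asIdeal.comap (algebraMap A B) = ⊥ := by
        rw [← hp]; exact congrArg PrimeSpectrum.asIdeal hq
      exact PrimeSpectrum.ext (Ideal.eq_bot_of_comap_eq_bot h)
    · obtain ⟨x, hxp, hx⟩ := Submodule.exists_mem_ne_zero_of_ne_bot hp
      refine ((Groth.Agent.KrullAkizuki.finite_primes_containing j hj x hx).preimage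
        (f := PrimeSpectrum.asIdeal) (fun a _ b _ h => PrimeSpectrum.ext h)).subset fun q hq => ?_
      refine ⟨q.isPrime, ?_⟩
      have h : q.asIdeal.comap (algebraMap A B) = p.asIdeal := congrArg PrimeSpectrum.asIdeal hq
      exact Ideal.mem_comap.mp (h.symm ▸ hxp)
  · intro Q hQ
    haveI := hQ
    have hQ0 : Q ≠ ⊥ := by
      intro h
      subst h
      have hB : IsField B := by
        rw [← (Ideal.Quotient.maximal_ideal_iff_isField_quotient (⊥ : Ideal B)).trans
          ⟨fun h => MulEquiv.isField h (RingEquiv.quotientBot B).symm.toMulEquiv,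
           fun h => MulEquiv.isField h (RingEquiv.quotientBot B).toMulEquiv⟩]
        exact hQ
      have hA := isField_of_isIntegral_of_isField hAB hB
      rw [ringKrullDim_eq_zero_of_isField hA] at hdim
      exact absurd hdim (by simp)
    haveI := Groth.Agent.KrullAkizuki.finite_quotient_of_injective j hj Q hQ0
    exact Module.Finite.of_restrictScalars_finite A (A ⧸ Q.comap (algebraMap A B)) (B ⧸ Q)

end Groth.Agent.S6370
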