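import Mathlib
import Groth.Statements.S6371
-- import your own Groth.Agent.* helpers here

set_option autoImplicit false
universe u
open CAlg

namespace Groth.Agent.S6371

open scoped TensorProduct

/-- A ring map R → S is an epimorphism of rings if and only if for every prime p of R the localized map
R_p → S_p is an epimorphism, where S_p is S localized at the image of R ∖ p. -/
theorem result (R S : Type u) [CommRing R] [CommRing S] [Algebra R S] :
    Algebra.IsEpi R S ↔ ∀ (p : Ideal R) [p.IsPrime],
      Algebra.IsEpi (Localization.AtPrime p) (Localization (Algebra.algebraMapSubmonoid S p.primeCompl)) := by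
  classical
  constructor
  · intro h p hp
    set Rp := Localization.AtPrime p
    set Sp := Localization (Algebra.algebraMapSubmonoid S p.primeCompl)
    rw [Algebra.isEpi_iff_forall_one_tmul_eq]
    intro a
    have key : ∀ z : S, (1 : Sp) ⊗ₜ[Rp] algebraMap S Sp z = algebraMap S Sp z ⊗ₜ[Rp] (1 : Sp) := by
      intro z
      let ψ : S →ₐ[R] Sp := IsScalarTower.toAlgHom R S Sp
      let Φ : S ⊗[R] S →ₐ[R] Sp ⊗[Rp] Sp := Algebra.TensorProduct.lift
        (((Algebra.TensorProduct.includeLeft : Sp →ₐ[Rp] Sp ⊗[Rp] Sp).restrictScalars R).comp ψ)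
        (((Algebra.TensorProduct.includeRight : Sp →ₐ[Rp] Sp ⊗[Rp] Sp).restrictScalars R).comp ψ)
        (fun _ _ => Commute.all _ _)
      have := congrArg Φ ((Algebra.isEpi_iff_forall_one_tmul_eq R S).1 h z)
      simpa [Φ, ψ] using this
    let f₁ : Sp →+* Sp ⊗[Rp] Sp := (Algebra.TensorProduct.includeRight : Sp →ₐ[Rp] Sp ⊗[Rp] Sp).toRingHom
    let f₂ : Sp →+* Sp ⊗[Rp] Sp := Algebra.TensorProduct.includeLeftRingHom
    have : f₁ = f₂ := IsLocalization.ringHom_ext (Algebra.algebraMapSubmonoid S p.primeCompl) (RingHom.ext key)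
    exact RingHom.congr_fun this a
  · intro h
    rw [Algebra.isEpi_iff_forall_one_tmul_eq]
    intro a
    rw [← sub_eq_zero]
    set z := (1 : S) ⊗ₜ[R] a - a ⊗ₜ[R] (1 : S) with hz
    let J : Ideal R := LinearMap.ker (LinearMap.toSpanSingleton R (S ⊗[R] S) z)
    suffices hJ : J = ⊤ by
      have : (1 : R) ∈ J := hJ ▸ Submodule.mem_top
      simpa [J] using this
    by_contra hJ
    obtain ⟨p, hp, hJp⟩ := Ideal.exists_le_maximal J hJ
    set Rp := Localization.AtPrime p
    set Sp := Localization (Algebra.algebraMapSubmonoid S p.primeCompl)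
    let M := Algebra.algebraMapSubmonoid (S ⊗[R] S) p.primeCompl
    let T := Localization M
    have hu : ∀ r : p.primeCompl, IsUnit (algebraMap R T r) := fun r => by
      rw [IsScalarTower.algebraMap_apply R (S ⊗[R] S) T]
      exact IsLocalization.map_units T (⟨algebraMap R (S ⊗[R] S) r, r, r.2, rfl⟩ : M)
    letI : Algebra Rp T := (IsLocalization.lift (M := p.primeCompl) (g := algebraMap R T) hu).toAlgebra
    haveI : IsScalarTower R Rp T := IsScalarTower.of_algebraMap_eq' (IsLocalization.lift_comp hu).symm
    let mk (g : S →ₐ[R] S ⊗[R] S) : Sp →ₐ[Rp] T := by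
      have hg : ∀ y : Algebra.algebraMapSubmonoid S p.primeCompl, IsUnit (((algebraMap (S ⊗[R] S) T).comp g.toRingHom) y) := by
        rintro ⟨_, r, hr, rfl⟩
        simp only [RingHom.comp_apply, AlgHom.toRingHom_eq_coe, RingHom.coe_coe, AlgHom.commutes]
        rw [← IsScalarTower.algebraMap_apply]
        exact hu ⟨r, hr⟩
      refine { IsLocalization.lift (S := Sp) hg with commutes' := fun x => ?_ }
      have : (IsLocalization.lift (S := Sp) hg).comp (algebraMap Rp Sp) = algebraMap Rp T := by
        refine IsLocalization.ringHom_ext p.primeCompl (RingHom.ext fun r => ?_)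
        simp only [RingHom.comp_apply]
        rw [← IsScalarTower.algebraMap_apply R Rp Sp, IsScalarTower.algebraMap_apply R S Sp, IsLocalization.lift_eq,
          ← IsScalarTower.algebraMap_apply R Rp T]
        simp only [RingHom.comp_apply, AlgHom.toRingHom_eq_coe, RingHom.coe_coe, AlgHom.commutes]
        rw [← IsScalarTower.algebraMap_apply]
      exact RingHom.congr_fun this x
    let f := mk Algebra.TensorProduct.includeLeft
    let g := mk Algebra.TensorProduct.includeRight
    have hfg := congrArg (Algebra.TensorProduct.lift f g fun _ _ => Commute.all _ _)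
      ((Algebra.isEpi_iff_forall_one_tmul_eq Rp Sp).1 (h p) (algebraMap S Sp a))
    simp only [Algebra.TensorProduct.lift_tmul, map_one, one_mul, mul_one] at hfg
    have e : algebraMap (S ⊗[R] S) T z = 0 := by
      rw [hz, map_sub, sub_eq_zero]
      have e1 : f (algebraMap S Sp a) = algebraMap (S ⊗[R] S) T (a ⊗ₜ[R] 1) := IsLocalization.lift_eq _ a
      have e2 : g (algebraMap S Sp a) = algebraMap (S ⊗[R] S) T (1 ⊗ₜ[R] a) := IsLocalization.lift_eq _ a
      rw [← e1, ← e2, hfg]
    obtain ⟨⟨_, r, hr, rfl⟩, hr'⟩ := (IsLocalization.map_eq_zero_iff M T z).1 e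
    exact hr (hJp (by
      show r • z = 0
      rw [Algebra.smul_def]
      exact hr'))

end Groth.Agent.S6371
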