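import Groth.Statements.S6372
import Mathlib

set_option autoImplicit false
universe u
open CAlg

open scoped TensorProduct

namespace Groth.Agent.S6372

/-- A faithfully flat epimorphism of rings is an isomorphism: if R → S is faithfully flat and an
epimorphism in the category of rings then it is bijective. -/
theorem result (R S : Type u) [CommRing R] [CommRing S] [Algebra R S]
    [Module.FaithfullyFlat R S] [Algebra.IsEpi R S] : Function.Bijective (algebraMap R S) := by
  have hsurj : Function.Surjective (Algebra.linearMap R S) := by
    refine (Module.FaithfullyFlat.lTensor_surjective_iff_surjective R S _).1 fun z => ?_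
    induction z with
    | zero => exact ⟨0, map_zero _⟩
    | add x y hx hy =>
      obtain ⟨a, rfl⟩ := hx
      obtain ⟨b, rfl⟩ := hy
      exact ⟨a + b, map_add _ a b⟩
    | tmul a b =>
      refine ⟨(a * b) ⊗ₜ[R] 1, ?_⟩
      rw [LinearMap.lTensor_tmul, Algebra.linearMap_apply, map_one]
      calc (a * b) ⊗ₜ[R] (1 : S) = a • (b ⊗ₜ[R] (1 : S)) := by
            rw [TensorProduct.smul_tmul', smul_eq_mul]
        _ = a • ((1 : S) ⊗ₜ[R] b) := by rw [Algebra.tmul_comm R b 1]
        _ = a ⊗ₜ[R] b := by rw [TensorProduct.smul_tmul', smul_eq_mul, mul_one]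
  exact ⟨FaithfulSMul.algebraMap_injective R S, hsurj⟩

end Groth.Agent.S6372
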