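import Mathlib
import Groth.Statements.S6374
-- import your own Groth.Agent.* helpers here

set_option autoImplicit false
universe u
open CAlg

namespace Groth.Agent.S6374

open scoped TensorProduct

/-- For an epimorphism of rings R → S, the induced map Spec S → Spec R is injective and induces trivial
residue field extensions; stated in the form the proof gives: for every prime p of R the fibre ring
S ⊗_R κ(p) is either zero or κ(p) → S ⊗_R κ(p) is bijective, together with injectivity of Spec S →
Spec R. -/
theorem result (R S : Type u) [CommRing R] [CommRing S] [Algebra R S]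
    [Algebra.IsEpi R S] :
    Function.Injective (PrimeSpectrum.comap (algebraMap R S)) ∧
      ∀ (p : Ideal R) [p.IsPrime],
        Subsingleton (p.Fiber S) ∨ Function.Bijective (algebraMap p.ResidueField (p.Fiber S)) := by
  have main : ∀ (p : Ideal R) [p.IsPrime],
      Subsingleton (p.Fiber S) ∨ Function.Bijective (algebraMap p.ResidueField (p.Fiber S)) := by
    intro p _
    rcases subsingleton_or_nontrivial (p.Fiber S) with hF | hF
    · exact Or.inl hF
    refine Or.inr ⟨RingHom.injective _, ?_⟩
    let κ := p.ResidueField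
    let F := p.Fiber S
    let ι : S →ₐ[R] F := Algebra.TensorProduct.includeRight
    let mu' : S ⊗[R] S →ₗ[R] F ⊗[κ] F := TensorProduct.lift (LinearMap.mk₂ R
      (fun a b => ι a ⊗ₜ[κ] ι b)
      (fun a₁ a₂ b => by rw [map_add, TensorProduct.add_tmul])
      (fun r a b => by rw [map_smul, TensorProduct.smul_tmul'])
      (fun a b₁ b₂ => by rw [map_add, TensorProduct.tmul_add])
      (fun r a b => by rw [map_smul, TensorProduct.tmul_smul]))
    have h1 : ∀ y : F, (1 : F) ⊗ₜ[κ] y = y ⊗ₜ[κ] (1 : F) := by
      intro y
      induction y using TensorProduct.induction_on with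
      | zero => rw [TensorProduct.tmul_zero, TensorProduct.zero_tmul]
      | tmul c s =>
        have e : (c ⊗ₜ[R] s : F) = c • ι s := by
          show c ⊗ₜ[R] s = c • ((1 : κ) ⊗ₜ[R] s)
          rw [TensorProduct.smul_tmul', smul_eq_mul, mul_one]
        have e2 := congrArg mu' ((Algebra.isEpi_iff_forall_one_tmul_eq R S).1 inferInstance s)
        simp only [mu', TensorProduct.lift.tmul, LinearMap.mk₂_apply, map_one] at e2
        rw [e, TensorProduct.tmul_smul, ← TensorProduct.smul_tmul', e2]
      | add a b ha hb => rw [TensorProduct.tmul_add, TensorProduct.add_tmul, ha, hb]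
    intro y
    by_contra hy
    have hy' : y ∉ Submodule.span κ {(1 : F)} := by
      rw [Submodule.mem_span_singleton]
      rintro ⟨c, hc⟩
      exact hy ⟨c, by rw [← hc, Algebra.smul_def, mul_one]⟩
    obtain ⟨φ, hφy, hφ1⟩ := Submodule.exists_dual_map_eq_bot_of_notMem hy' inferInstance
    have hφ0 : φ 1 = 0 := by
      have : φ 1 ∈ Submodule.map φ (Submodule.span κ {(1 : F)}) :=
        ⟨1, Submodule.mem_span_singleton_self _, rfl⟩
      rwa [hφ1, Submodule.mem_bot] at this
    obtain ⟨χ, hχ⟩ := Module.Projective.exists_dual_ne_zero κ (one_ne_zero : (1 : F) ≠ 0)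
    have e := congrArg (TensorProduct.lift ((LinearMap.mul κ κ).compl₁₂ φ χ)) (h1 y)
    simp only [TensorProduct.lift.tmul, LinearMap.compl₁₂_apply, LinearMap.mul_apply', hφ0, zero_mul] at e
    exact mul_ne_zero hφy hχ e.symm
  refine ⟨fun q₁ q₂ h => ?_, fun p _ => main p⟩
  let p := PrimeSpectrum.comap (algebraMap R S) q₁
  have hsub : Subsingleton (PrimeSpectrum (p.asIdeal.Fiber S)) := by
    rcases main p.asIdeal with hF | hF
    · exact ⟨fun a => absurd (Subsingleton.elim (1 : p.asIdeal.Fiber S) 0) (fun h0 => a.isPrime.ne_top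
        ((Ideal.eq_top_iff_one _).2 (h0 ▸ Submodule.zero_mem _)))⟩
    · exact ⟨fun a b => (PrimeSpectrum.comap_injective_of_surjective _ hF.2) (Subsingleton.elim _ _)⟩
  have : Subsingleton (PrimeSpectrum.comap (algebraMap R S) ⁻¹' {p}) :=
    (PrimeSpectrum.preimageEquivFiber R S p).subsingleton
  exact congrArg Subtype.val (Subsingleton.elim
    (⟨q₁, rfl⟩ : PrimeSpectrum.comap (algebraMap R S) ⁻¹' {p}) ⟨q₂, h.symm⟩)

end Groth.Agent.S6374
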