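import Groth.Statements.S6375
import Mathlib

set_option autoImplicit false
universe u
open CAlg

namespace Groth.Agent.S6375

/-- For an infinite source ring: if R → S is an epimorphism of rings with R infinite, then |S| ≤ |R| as
cardinals. (For finite R the published statement also asserts |S| ≤ |R|, but its proof only gives
that S is countable and omits the rest, so that case is not included.) -/
theorem result (R S : Type u) [CommRing R] [CommRing S] [Algebra R S] [Algebra.IsEpi R S]
    [Infinite R] : Cardinal.mk S ≤ Cardinal.mk R := by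
  classical
  have hdata : ∀ g : S, ∃ d : Σ p : ℕ × ℕ, (Fin p.1 → Fin p.2 → R) × Fin p.1 × Fin p.1,
      ∃ (m : Fin d.1.1 → S) (y : Fin d.1.2 → S), m d.2.2.1 = 1 ∧ m d.2.2.2 = g ∧
        (∀ j, ∑ i, d.2.1 i j • m i = 0) ∧
        ∀ i, ∑ j, d.2.1 i j • y j = (if i = d.2.2.1 then g else 0) - (if i = d.2.2.2 then 1 else 0) := by
    intro g
    let ψ : (S →₀ R) →ₗ[R] S := Finsupp.linearCombination R id
    have hψ : Function.Surjective ψ := Finsupp.linearCombination_id_surjective R S
    have h0 : ψ.rTensor S (Finsupp.single 1 1 ⊗ₜ g - Finsupp.single g 1 ⊗ₜ 1) = 0 := by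
      have hone : ((1 : S) ⊗ₜ[R] g : TensorProduct R S S) = g ⊗ₜ 1 :=
        (Algebra.isEpi_iff_forall_one_tmul_eq R S).mp inferInstance g
      simp [ψ, map_sub, hone]
    have hex : Function.Exact (LinearMap.ker ψ).subtype ψ := LinearMap.exact_subtype_ker_map ψ
    obtain ⟨w, hw⟩ := (rTensor_exact (M := ↥(LinearMap.ker ψ)) S hex hψ _).mp h0
    obtain ⟨k, r, y, rfl⟩ : ∃ (k : ℕ) (r : Fin k → LinearMap.ker ψ) (y : Fin k → S), w = ∑ j, r j ⊗ₜ[R] y j := by
      clear hw
      induction w using TensorProduct.induction_on with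
      | zero => exact ⟨0, Fin.elim0, Fin.elim0, by simp⟩
      | tmul a b => exact ⟨1, fun _ => a, fun _ => b, by simp⟩
      | add a b ha hb =>
        obtain ⟨k, r, y, rfl⟩ := ha
        obtain ⟨k', r', y', rfl⟩ := hb
        exact ⟨k + k', Fin.append r r', Fin.append y y', by simp [Fin.sum_univ_add]⟩
    let U : Finset S := insert 1 (insert g (Finset.univ.biUnion fun j => (r j : S →₀ R).support))
    let e : Fin U.card ≃ U := U.equivFin.symm
    have h1 : (1 : S) ∈ U := Finset.mem_insert_self _ _
    have hg : g ∈ U := Finset.mem_insert_of_mem (Finset.mem_insert_self _ _)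
    refine ⟨⟨(U.card, k), fun i j => (r j : S →₀ R) (e i), e.symm ⟨1, h1⟩, e.symm ⟨g, hg⟩⟩,
      fun i => (e i : S), y, by simp, by simp, fun j => ?_, fun i => ?_⟩
    · have h2 : ψ (r j : S →₀ R) = 0 := LinearMap.mem_ker.mp (r j).2
      rw [Finsupp.linearCombination_apply, Finsupp.sum_of_support_subset _ (s := U) (fun s hs =>
        Finset.mem_insert_of_mem (Finset.mem_insert_of_mem (Finset.mem_biUnion.mpr ⟨j, Finset.mem_univ _, hs⟩)))
        _ (by simp), ← Finset.sum_coe_sort] at h2
      rw [← h2]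
      exact Equiv.sum_comp e (fun s : U => (r j : S →₀ R) s • (s : S))
    · have h2 := DFunLike.congr_fun (congrArg (TensorProduct.finsuppScalarLeft R S S) hw) (e i : S)
      simp only [map_sum, map_sub, LinearMap.rTensor_tmul, Submodule.coe_subtype, Finsupp.coe_finsetSum, Finset.sum_apply,
        Finsupp.coe_sub, Pi.sub_apply, TensorProduct.finsuppScalarLeft_apply_tmul_apply, Finsupp.single_apply, ite_smul,
        one_smul, zero_smul] at h2
      rw [h2]
      simp only [Equiv.eq_symm_apply, Subtype.ext_iff, eq_comm]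
  choose d m y hm1 hmg hrow hcol using hdata
  have hinj : Function.Injective d := by
    intro g g' hgg
    have key : ∀ (p : ℕ × ℕ) (a : Fin p.1 → Fin p.2 → R) (i1 i2 : Fin p.1) (g g' : S) (m : Fin p.1 → S) (y : Fin p.2 → S),
        m i1 = 1 → m i2 = g' → (∀ j, ∑ i, a i j • m i = 0) →
        (∀ i, ∑ j, a i j • y j = (if i = i1 then g else 0) - (if i = i2 then 1 else 0)) → g = g' := by
      intro p a i1 i2 g g' m y h1 h2 hr hc
      have : ∑ i, m i * ∑ j, a i j • y j = 0 := by
        simp only [Finset.mul_sum, mul_smul_comm]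
        rw [Finset.sum_comm]
        simp only [← smul_mul_assoc, ← Finset.sum_mul, hr, zero_mul, Finset.sum_const_zero]
      simp only [hc, mul_sub, Finset.sum_sub_distrib, mul_ite, mul_zero, Finset.sum_ite_eq', Finset.mem_univ, if_true,
        h1, h2, one_mul, mul_one] at this
      exact sub_eq_zero.mp this
    obtain ⟨y', hy'⟩ : ∃ y' : Fin (d g').1.2 → S, ∀ i, ∑ j, (d g').2.1 i j • y' j =
        (if i = (d g').2.2.1 then g else 0) - (if i = (d g').2.2.2 then 1 else 0) := by
      rw [← hgg]
      exact ⟨y g, hcol g⟩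
    exact key _ _ _ _ g g' (m g') y' (hm1 g') (hmg g') (hrow g') hy'
  refine (Cardinal.mk_le_of_injective hinj).trans ?_
  rw [Cardinal.mk_sigma]
  have hR : Cardinal.aleph0 ≤ Cardinal.mk R := Cardinal.infinite_iff.mp ‹_›
  refine (Cardinal.sum_le_sum _ (fun _ => Cardinal.mk R) fun p => ?_).trans ?_
  · simp only [Cardinal.mk_prod, Cardinal.mk_pi, Cardinal.prod_const, Cardinal.lift_id', Cardinal.lift_id,
      Cardinal.mk_fin, Cardinal.lift_natCast]
    rw [← Cardinal.power_mul, ← Nat.cast_mul]
    refine (mul_le_mul' (Cardinal.power_nat_le hR) (le_refl _)).trans ?_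
    rw [← Nat.cast_mul, Cardinal.lift_natCast]
    exact (mul_le_mul' le_rfl ((Cardinal.natCast_lt_aleph0).le.trans hR)).trans (Cardinal.mul_eq_self hR).le
  · rw [Cardinal.sum_const, Cardinal.lift_uzero]
    exact (mul_le_mul' (by simp [hR] : Cardinal.lift.{u} (Cardinal.mk (ℕ × ℕ)) ≤ Cardinal.mk R) le_rfl).trans (Cardinal.mul_eq_self hR).le

end Groth.Agent.S6375
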