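import Groth.Statements.S6383
-- import your own Groth.Agent.* helpers here

set_option autoImplicit false
universe u
open scoped TensorProduct
open CAlg

namespace Groth.Agent.S6383

/-- For a ring map R → S and an R-module M whose base change S ⊗_R M is an internal direct sum of
countably generated S-submodules Q_i (i ∈ I), every countably generated submodule N ≤ M can be
enlarged to a countably generated submodule N' ≤ M, together with a subset I' ⊆ I, so that the
S-span of the image 1 ⊗ N' inside S ⊗_R M equals the sum of the Q_i over i ∈ I'. -/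
theorem result (R S : Type u) [CommRing R] [CommRing S] [Algebra R S]
    (M : Type u) [AddCommGroup M] [Module R M] {I : Type u} [DecidableEq I] (Q : I → Submodule S (S ⊗[R] M))
    (hQ : DirectSum.IsInternal Q) (hQc : ∀ i, ∃ t : Set (S ⊗[R] M), t.Countable ∧ Submodule.span S t = Q i)
    (N : Submodule R M) (hN : ∃ s : Set M, s.Countable ∧ Submodule.span R s = N) :
    ∃ (N' : Submodule R M) (I' : Set I), N ≤ N' ∧ (∃ s : Set M, s.Countable ∧ Submodule.span R s = N') ∧
      Submodule.span S ((TensorProduct.mk R S M 1) '' (N' : Set M)) = ⨆ i ∈ I', Q i := by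
  classical
  obtain ⟨s₀, hs₀, hN⟩ := hN
  choose gen hgenc hgen using hQc
  let mkS : M →ₗ[R] S ⊗[R] M := TensorProduct.mk R S M 1
  -- supports of the images
  have hsupp : ∀ x : M, ∃ J : Finset I, mkS x ∈ ⨆ i ∈ J, Q i := fun x => by
    have h : mkS x ∈ ⨆ i, Q i := by rw [hQ.submodule_iSup_eq_top]; trivial
    rw [Submodule.iSup_eq_span] at h
    obtain ⟨T, hT, hxT⟩ := Submodule.mem_span_finite_of_mem_span h
    choose idx hidx using fun t : T => Set.mem_iUnion.1 (hT t.2)
    refine ⟨T.attach.image idx, ?_⟩
    refine Submodule.span_le.2 (fun t ht => ?_) hxT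
    exact (le_iSup₂ (f := fun i (_ : i ∈ T.attach.image idx) => Q i) (idx ⟨t, ht⟩)
      (Finset.mem_image.2 ⟨_, Finset.mem_attach _ _, rfl⟩)) (hidx ⟨t, ht⟩)
  choose supp hsupp using hsupp
  -- elements of `M` occurring in a tensor
  have helem : ∀ t : S ⊗[R] M, ∃ E : Finset M, t ∈ Submodule.span S (mkS '' (E : Set M)) := fun t => by
    induction t using TensorProduct.induction_on with
    | zero => exact ⟨∅, zero_mem _⟩
    | tmul a x =>
      refine ⟨{x}, ?_⟩
      have h : a ⊗ₜ[R] x = a • mkS x := by simp [mkS, TensorProduct.smul_tmul']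
      rw [h]
      exact Submodule.smul_mem _ a (Submodule.subset_span ⟨x, by simp, rfl⟩)
    | add x y hx hy =>
      obtain ⟨E, hE⟩ := hx
      obtain ⟨E', hE'⟩ := hy
      refine ⟨E ∪ E', add_mem (Submodule.span_mono (Set.image_mono ?_) hE) (Submodule.span_mono (Set.image_mono ?_) hE')⟩
      · exact Finset.coe_subset.2 Finset.subset_union_left
      · exact Finset.coe_subset.2 Finset.subset_union_right
  choose elems helems using helem
  let step : Set M → Set M := fun s =>
    s ∪ ⋃ x ∈ s, ⋃ i ∈ (supp x : Set I), ⋃ t ∈ gen i, (elems t : Set M)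
  have hstep : ∀ s : Set M, s.Countable → (step s).Countable := fun s hs =>
    hs.union (hs.biUnion fun x _ => (supp x).countable_toSet.biUnion fun i _ =>
      (hgenc i).biUnion fun t _ => (elems t).countable_toSet)
  let seq : ℕ → Set M := fun n => step^[n] s₀
  have hseq : ∀ n, (seq n).Countable := fun n => by
    induction n with
    | zero => exact hs₀
    | succ n ih =>
      show (step^[n+1] s₀).Countable
      rw [Function.iterate_succ_apply']
      exact hstep _ ih
  let T : Set M := ⋃ n, seq n
  refine ⟨Submodule.span R T, ⋃ x ∈ T, (supp x : Set I), ?_, ⟨T, Set.countable_iUnion hseq, rfl⟩, ?_⟩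
  · rw [← hN]
    exact Submodule.span_mono (Set.subset_iUnion seq 0)
  · apply le_antisymm
    · rw [Submodule.span_le]
      rintro _ ⟨y, hy, rfl⟩
      show mkS y ∈ ((⨆ i ∈ ⋃ x ∈ T, (supp x : Set I), Q i).restrictScalars R)
      have hle : Submodule.span R T ≤
          ((⨆ i ∈ ⋃ x ∈ T, (supp x : Set I), Q i).restrictScalars R).comap mkS := by
        refine Submodule.span_le.2 fun x hx => ?_
        show mkS x ∈ ⨆ i ∈ ⋃ x ∈ T, (supp x : Set I), Q i
        exact (iSup₂_le fun i hi => le_iSup₂ (f := fun i (_ : i ∈ ⋃ x ∈ T, (supp x : Set I)) => Q i) i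
          (Set.mem_biUnion hx hi)) (hsupp x)
      exact hle hy
    · refine iSup₂_le fun i hi => ?_
      rw [← hgen i, Submodule.span_le]
      intro t ht
      obtain ⟨x, hx, hix⟩ := Set.mem_iUnion₂.1 hi
      obtain ⟨n, hn⟩ := Set.mem_iUnion.1 hx
      refine Submodule.span_mono (Set.image_mono ?_) (helems t)
      intro e he
      refine Submodule.subset_span (Set.mem_iUnion.2 ⟨n + 1, ?_⟩)
      show e ∈ step^[n+1] s₀
      rw [Function.iterate_succ_apply']
      exact Or.inr (Set.mem_biUnion hn (Set.mem_biUnion hix (Set.mem_biUnion ht he)))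

end Groth.Agent.S6383
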