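import Groth.Statements.S6385
import Groth.Agent.FibreDim.Chart
import Groth.Agent.DimTrdeg.Basic
-- import your own Groth.Agent.* helpers here

set_option autoImplicit false
universe u
open CAlg

namespace Groth.Agent.S6385

/-- Let k be a field, S a finite type k-algebra, q a prime of S and x the corresponding point of X =
Spec S. Then there is g ∈ S, g ∉ q, such that dim S_g equals dim_x X — the minimum of dim S_{g'}
over all g' ∉ q — and, writing d for this dimension, a finite injective k-algebra map from the
polynomial ring k[y_1, ..., y_d] to S_g. -/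
theorem result (k S : Type u) [Field k] [CommRing S] [Algebra k S]
    [Algebra.FiniteType k S] (q : Ideal S) [q.IsPrime] :
    ∃ (g : S) (d : ℕ), g ∉ q ∧ ringKrullDim (Localization.Away g) = d ∧
      (∀ g' : S, g' ∉ q → ringKrullDim (Localization.Away g) ≤ ringKrullDim (Localization.Away g')) ∧
      ∃ φ : MvPolynomial (Fin d) k →ₐ[k] Localization.Away g, Function.Injective φ ∧ φ.toRingHom.Finite := by
  obtain ⟨O, hO, hqO, hOdim⟩ := Groth.Agent.FibreDim.exists_localDim (⟨q, inferInstance⟩ : PrimeSpectrum S)
  obtain ⟨_, ⟨g, rfl⟩, hqg, hgO⟩ := PrimeSpectrum.isTopologicalBasis_basic_opens.exists_subset_of_mem_open hqO hO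
  have hdimg : ∀ a : S, ringKrullDim (Localization.Away a) =
      topologicalKrullDim ↥(PrimeSpectrum.basicOpen a : Set (PrimeSpectrum S)) := fun a => by
    rw [← PrimeSpectrum.topologicalKrullDim_eq_ringKrullDim,
      ← PrimeSpectrum.localization_away_comap_range (Localization.Away a) a]
    exact Groth.Agent.FibreDim.dim_homeo
      (PrimeSpectrum.localization_away_isOpenEmbedding (Localization.Away a) a).isEmbedding.toHomeomorph
  haveI : Nontrivial (Localization.Away g) := by
    obtain ⟨w, -⟩ := (PrimeSpectrum.localization_away_comap_range (Localization.Away g) g).ge hqg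
    exact PrimeSpectrum.nonempty_iff_nontrivial.mp ⟨w⟩
  obtain ⟨d, φ, hinj, hfin⟩ := exists_finite_inj_algHom_of_fg k (Localization.Away g)
  refine ⟨g, d, hqg, ?_, fun g' hg' => ?_, φ, hinj, hfin⟩
  · letI := φ.toRingHom.toAlgebra
    haveI : Module.Finite (MvPolynomial (Fin d) k) (Localization.Away g) := hfin
    rw [Groth.Agent.DimTrdeg.ringKrullDim_eq_of_isIntegral (MvPolynomial (Fin d) k) (Localization.Away g) hinj,
      MvPolynomial.ringKrullDim_of_isNoetherianRing, ringKrullDim_eq_zero_of_field]
    simp
  · rw [hdimg, hdimg]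
    refine (Groth.Agent.FibreDim.dim_mono hgO).trans (hOdim.le.trans ?_)
    exact Groth.Agent.FibreDim.localDim_le (PrimeSpectrum.basicOpen g').2 hg'

end Groth.Agent.S6385
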