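import Groth.Statements.S6386
import Mathlib.Algebra.MvPolynomial.Cardinal
import Mathlib.RingTheory.Flat.EquationalCriterion
import Mathlib.RingTheory.Adjoin.FG


set_option autoImplicit false
universe u
open CAlg

namespace Groth.Agent.S6386

/-- The key step of its proof: let A be a ring, κ = max(|A|, ℵ₀), and B a flat A-algebra. Then every
A-subalgebra E ⊆ B with at most κ elements lies inside a flat A-subalgebra B' ⊆ B with at most κ
elements. Consequently B is the filtered colimit (union) of its flat A-subalgebras of cardinality at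
most κ. -/
theorem result (A B : Type u) [CommRing A] [CommRing B] [Algebra A B]
    [Module.Flat A B] (E : Subalgebra A B) (hE : Cardinal.mk E ≤ max (Cardinal.mk A) Cardinal.aleph0) :
    ∃ B' : Subalgebra A B, E ≤ B' ∧ Module.Flat A B' ∧ Cardinal.mk B' ≤ max (Cardinal.mk A) Cardinal.aleph0 := by
  classical
  let κ := max (Cardinal.mk A) Cardinal.aleph0
  have hκ : Cardinal.aleph0 ≤ κ := le_max_right _ _
  have hAκ : Cardinal.mk A ≤ κ := le_max_left _ _
  -- adjoining a small set
  have hadj : ∀ s : Set B, Cardinal.mk s ≤ κ → Cardinal.mk (Algebra.adjoin A s) ≤ κ := fun s hs => by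
    let φ := MvPolynomial.aeval (R := A) (fun x : s => (x : B))
    have hr : Algebra.adjoin A s = φ.range := by
      conv_lhs => rw [← Subtype.range_coe (s := s)]
      exact Algebra.adjoin_range_eq_range_aeval A _
    have hsurj : Function.Surjective φ.rangeRestrict := φ.rangeRestrict_surjective
    calc Cardinal.mk (Algebra.adjoin A s) = Cardinal.mk φ.range := by rw [hr]
      _ ≤ Cardinal.mk (MvPolynomial s A) := Cardinal.mk_le_of_surjective hsurj
      _ ≤ _ := MvPolynomial.cardinalMk_le_max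
      _ ≤ κ := max_le (max_le hAκ hs) hκ
  -- one step
  have hstep : ∀ F : Subalgebra A B, Cardinal.mk F ≤ κ → ∃ F' : Subalgebra A B, F ≤ F' ∧ Cardinal.mk F' ≤ κ ∧
      ∀ (l : ℕ) (f : Fin l → A) (x : Fin l → F), (∑ i, f i • (x i : B)) = 0 →
        ∃ (m : ℕ) (a : Fin l → Fin m → A) (y : Fin m → F'), (∀ i, (x i : B) = ∑ j, a i j • (y j : B)) ∧
          ∀ j, ∑ i, f i * a i j = 0 := by
    intro F hF
    let T := Σ l : ℕ, {w : Fin l → A × F // (∑ i, (w i).1 • ((w i).2 : B)) = 0}
    have hT : Cardinal.mk T ≤ κ := by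
      have h1 : ∀ l : ℕ, Cardinal.mk {w : Fin l → A × F // (∑ i, (w i).1 • ((w i).2 : B)) = 0} ≤ κ := fun l => by
        refine (Cardinal.mk_subtype_le _).trans ?_
        rw [Cardinal.mk_pi]
        simp only [Cardinal.prod_const, Cardinal.lift_id', Cardinal.mk_fin, Cardinal.lift_natCast, Cardinal.mk_prod, Cardinal.lift_id]
        refine (Cardinal.power_le_power_right ((mul_le_mul' hAκ hF).trans_eq (Cardinal.mul_eq_self hκ))).trans ?_
        exact_mod_cast Cardinal.power_nat_le hκ
      refine (Cardinal.mk_sigma _).trans_le ((Cardinal.sum_le_sum _ (fun _ => κ) h1).trans ?_)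
      rw [Cardinal.sum_const, Cardinal.mk_nat, Cardinal.lift_aleph0, Cardinal.lift_id']
      exact (mul_le_mul' hκ le_rfl).trans_eq (Cardinal.mul_eq_self hκ)
    have hflat := fun t : T => Module.Flat.iff_forall_isTrivialRelation.1 ‹Module.Flat A B›
      (f := fun i => (t.2.1 i).1) (x := fun i => ((t.2.1 i).2 : B)) t.2.2
    choose m a y h1 h2 using hflat
    let s : Set B := (F : Set B) ∪ Set.range fun p : Σ t : T, Fin (m t) => y p.1 p.2
    have hs : Cardinal.mk s ≤ κ := by
      refine (Cardinal.mk_union_le _ _).trans ((add_le_add hF ?_).trans_eq (Cardinal.add_eq_self hκ))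
      refine Cardinal.mk_range_le.trans ((Cardinal.mk_sigma _).trans_le ?_)
      refine (Cardinal.sum_le_sum _ (fun _ => Cardinal.aleph0.{0}) fun t => Cardinal.mk_le_aleph0).trans ?_
      rw [Cardinal.sum_const, Cardinal.lift_aleph0, Cardinal.lift_uzero]
      exact (mul_le_mul' hT hκ).trans_eq (Cardinal.mul_eq_self hκ)
    refine ⟨Algebra.adjoin A s, fun b hb => Algebra.subset_adjoin (.inl hb), hadj s hs, fun l f x hx => ?_⟩
    let t : T := ⟨l, fun i => (f i, x i), hx⟩
    exact ⟨m t, a t, fun j => ⟨y t j, Algebra.subset_adjoin (.inr ⟨⟨t, j⟩, rfl⟩)⟩, h1 t, h2 t⟩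
  choose nxt hle hcard hrel using hstep
  let ch : ℕ → {F : Subalgebra A B // Cardinal.mk F ≤ κ} := fun n =>
    Nat.rec ⟨E, hE⟩ (fun _ F => ⟨nxt F.1 F.2, hcard F.1 F.2⟩) n
  have hmono : Monotone fun n => (ch n).1 := monotone_nat_of_le_succ fun n => hle _ _
  let B' : Subalgebra A B := ⨆ n, (ch n).1
  have hdir : Directed (· ≤ ·) fun n => (ch n).1 := hmono.directed_le
  have hcoe : (B' : Set B) = ⋃ n, ((ch n).1 : Set B) := Subalgebra.coe_iSup_of_directed hdir
  refine ⟨B', le_iSup (fun n => (ch n).1) 0, ?_, ?_⟩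
  · rw [Module.Flat.iff_forall_isTrivialRelation]
    intro l f x hx
    have hx' : ∀ i, ∃ n, (x i : B) ∈ (ch n).1 := fun i => by
      have : (x i : B) ∈ (B' : Set B) := (x i).2
      rw [hcoe, Set.mem_iUnion] at this
      exact this
    choose d hd using hx'
    let N := Finset.univ.sup d
    obtain ⟨m, a, y, h1, h2⟩ := hrel (ch N).1 (ch N).2 l f
      (fun i => ⟨x i, hmono (Finset.le_sup (Finset.mem_univ i)) (hd i)⟩)
      (by simpa using congrArg Subtype.val hx)
    exact ⟨m, a, fun j => ⟨y j, le_iSup (fun n => (ch n).1) (N + 1) (y j).2⟩,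
      fun i => Subtype.ext (by simpa using h1 i), h2⟩
  · change Cardinal.mk (B' : Set B) ≤ κ
    rw [hcoe]
    have h := Cardinal.mk_iUnion_le_lift.{u, 0} (fun n => ((ch n).1 : Set B))
    rw [Cardinal.lift_id'] at h
    refine h.trans ?_
    refine (mul_le_mul' (by simpa using hκ) (ciSup_le' fun n => by simpa using (ch n).2)).trans_eq (Cardinal.mul_eq_self hκ)

end Groth.Agent.S6386
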