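import Groth.Statements.S6387
import Groth.Agent.S0393
import Groth.Agent.PP16Lib.ConormalKer
import Mathlib
-- import your own Groth.Agent.* helpers here

set_option autoImplicit false
universe u
open CategoryTheory
open CAlg

namespace Groth.Agent.S6387

open CategoryTheory TensorProduct

theorem aux_step {R S F1 F2 F3 : Type u} [CommRing R] [CommRing S] [IsLocalRing R] [IsLocalRing S] [IsNoetherianRing S]
    [Algebra R S] [IsLocalHom (algebraMap R S)]
    [AddCommGroup F1] [Module S F1] [AddCommGroup F2] [Module R F2] [Module S F2] [IsScalarTower R S F2]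
    [Module.Finite S F2] [AddCommGroup F3] [Module R F3] [Module S F3] [IsScalarTower R S F3] [Module.Flat R F3]
    (f : F1 →ₗ[S] F2) (g : F2 →ₗ[S] F3) (hfg : ∀ y, g (f y) = 0)
    (hex : ∀ x, g x ∈ (IsLocalRing.maximalIdeal R).map (algebraMap R S) • (⊤ : Submodule S F3) →
      ∃ y, x - f y ∈ (IsLocalRing.maximalIdeal R).map (algebraMap R S) • (⊤ : Submodule S F2)) :
    (∀ x, g x = 0 → ∃ y, f y = x) ∧ Module.Flat R (F3 ⧸ (LinearMap.range g).restrictScalars R) := by
  let m := IsLocalRing.maximalIdeal R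
  let mS := m.map (algebraMap R S)
  let K := LinearMap.range f
  let gb : (F2 ⧸ K) →ₗ[S] F3 := K.liftQ g (by rintro _ ⟨y, rfl⟩; exact hfg y)
  have hres : ∀ (F : Type u) [AddCommGroup F] [Module R F] [Module S F] [IsScalarTower R S F] (z : F),
      z ∈ (m • ⊤ : Submodule R F) ↔ z ∈ mS • (⊤ : Submodule S F) := fun F _ _ _ _ z => by
    have h := Ideal.smul_restrictScalars (S := S) m (⊤ : Submodule S F)
    rw [Submodule.restrictScalars_top] at h
    rw [← h, Submodule.restrictScalars_mem]
  have hkey : ∀ y, gb.restrictScalars R y ∈ (m • ⊤ : Submodule R F3) → y ∈ (m • ⊤ : Submodule R (F2 ⧸ K)) := by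
    intro y hy
    obtain ⟨x, rfl⟩ := Submodule.Quotient.mk_surjective K y
    obtain ⟨w, hw⟩ := hex x ((hres F3 _).1 hy)
    refine (hres _ _).2 ?_
    have h2 : K.mkQ (x - f w) ∈ mS • (⊤ : Submodule S (F2 ⧸ K)) :=
      Submodule.smul_mono le_rfl le_top ((Submodule.map_smul'' mS ⊤ K.mkQ).le (Submodule.mem_map_of_mem hw))
    rwa [map_sub, show K.mkQ (f w) = 0 from (Submodule.Quotient.mk_eq_zero K).2 ⟨w, rfl⟩, sub_zero] at h2
  have hinjk : Function.Injective (LinearMap.lTensor (IsLocalRing.ResidueField R) (gb.restrictScalars R)) := by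
    refine (injective_iff_map_eq_zero _).2 fun z hz => ?_
    obtain ⟨y, rfl⟩ := TensorProduct.mk_surjective R (F2 ⧸ K) (IsLocalRing.ResidueField R) IsLocalRing.residue_surjective z
    rw [TensorProduct.mk_apply, LinearMap.lTensor_tmul] at hz
    have h2 := PP16Lib.mem_smul_of_one_tmul_eq_zero (C := IsLocalRing.ResidueField R) IsLocalRing.residue_surjective hz
    rw [show RingHom.ker (algebraMap R (IsLocalRing.ResidueField R)) = m from IsLocalRing.ker_residue] at h2
    rw [TensorProduct.mk_apply]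
    refine Submodule.smul_induction_on (p := fun w => (1 : IsLocalRing.ResidueField R) ⊗ₜ[R] w = 0) (hkey y h2)
      (fun a ha w _ => ?_) fun a b ha hb => by rw [TensorProduct.tmul_add, ha, hb, add_zero]
    rw [TensorProduct.tmul_smul, ← algebraMap_smul (IsLocalRing.ResidueField R),
      show algebraMap R (IsLocalRing.ResidueField R) a = 0 from (IsLocalRing.residue_eq_zero_iff a).mpr ha, zero_smul]
  obtain ⟨hinj, hflat⟩ := S0393.result (S := S) (gb.restrictScalars R) hinjk
  refine ⟨fun x hx => ?_, ?_⟩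
  · exact (Submodule.Quotient.mk_eq_zero K).1 (hinj (hx.trans (map_zero _).symm))
  · haveI := hflat
    refine Module.Flat.of_linearEquiv (Submodule.quotEquivOfEq _ (LinearMap.range (gb.restrictScalars R)) ?_)
    ext z
    constructor
    · rintro ⟨x, rfl⟩; exact ⟨Submodule.Quotient.mk x, rfl⟩
    · rintro ⟨y, rfl⟩
      obtain ⟨x, rfl⟩ := Submodule.Quotient.mk_surjective K y
      exact ⟨x, rfl⟩


/-- Let R and S be Noetherian local rings, R → S a local ring map, and m the maximal ideal of R. Take a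
bounded complex F_e → … → F_1 → F_0 of finitely generated S-modules, zero to the left of F_e (a
chain complex C with C_j = 0 for j > e) such that every F_j is flat over R and the complex 0 →
F_e/mF_e → … → F_0/mF_0 (C tensored over S with S/mS) is exact at F_e, …, F_1. Then 0 → F_e → … →
F_0 is exact at F_e, …, F_1 and the cokernel of F_1 → F_0 (the homology of C in degree 0) is flat
over R. -/
theorem result {R S : Type u} [CommRing R] [CommRing S]
    [IsLocalRing R] [IsLocalRing S] [IsNoetherianRing R] [IsNoetherianRing S] [Algebra R S]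
    [IsLocalHom (algebraMap R S)] (C : ChainComplex (ModuleCat.{u} S) ℕ) (e : ℕ)
    (hzero : ∀ j, e < j → Limits.IsZero (C.X j)) (hfin : ∀ j, Module.Finite S (C.X j))
    (hflat : ∀ j, Module.Flat R ((ModuleCat.restrictScalars (algebraMap R S)).obj (C.X j)))
    (hex : ∀ j, 1 ≤ j → j ≤ e →
      (((MonoidalCategory.tensorLeft
          (ModuleCat.of S (S ⧸ (IsLocalRing.maximalIdeal R).map (algebraMap R S)))).mapHomologicalComplex
          (ComplexShape.down ℕ)).obj C).ExactAt j) :
    (∀ j, 1 ≤ j → j ≤ e → C.ExactAt j) ∧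
      Module.Flat R ((ModuleCat.restrictScalars (algebraMap R S)).obj (C.homology 0)) := by
  classical
  let m := IsLocalRing.maximalIdeal R
  let mS := m.map (algebraMap R S)
  letI instR : ∀ j, Module R (C.X j) := fun j => Module.compHom _ (algebraMap R S)
  haveI instT : ∀ j, IsScalarTower R S (C.X j) := fun j => .of_algebraMap_smul fun r x => rfl
  haveI : ∀ j, Module.Finite S (C.X j) := hfin
  haveI instF : ∀ j, Module.Flat R (C.X j) := fun j => hflat j
  have key : ∀ k, ∀ x : C.X (k + 1), (C.d (k + 1) k).hom x ∈ mS • (⊤ : Submodule S (C.X k)) →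
      ∃ y, x - (C.d (k + 2) (k + 1)).hom y ∈ mS • (⊤ : Submodule S (C.X (k + 1))) := by
    intro k x hx
    by_cases hk : e < k + 1
    · haveI : Subsingleton (C.X (k + 1)) := ModuleCat.subsingleton_of_isZero (hzero _ hk)
      exact ⟨0, by rw [Subsingleton.elim (x - _) 0]; exact zero_mem _⟩
    have h := hex (k + 1) (by omega) (not_lt.1 hk)
    rw [HomologicalComplex.exactAt_iff' _ (k + 2) (k + 1) k (by simp) (by simp), ShortComplex.moduleCat_exact_iff] at h
    have hsurj : Function.Surjective (algebraMap S (S ⧸ mS)) := Ideal.Quotient.mk_surjective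
    have h0 : (1 : S ⧸ mS) ⊗ₜ[S] (C.d (k + 1) k).hom x = 0 := by
      refine Submodule.smul_induction_on (p := fun w => (1 : S ⧸ mS) ⊗ₜ[S] w = 0) hx (fun a ha w _ => ?_)
        fun a b ha hb => by rw [TensorProduct.tmul_add, ha, hb, add_zero]
      rw [TensorProduct.tmul_smul, ← algebraMap_smul (S ⧸ mS), show algebraMap S (S ⧸ mS) a = 0 from
        Ideal.Quotient.eq_zero_iff_mem.2 ha, zero_smul]
    obtain ⟨z, hz⟩ := h ((1 : S ⧸ mS) ⊗ₜ[S] x) h0
    obtain ⟨y, rfl⟩ := TensorProduct.mk_surjective S (C.X (k + 2)) (S ⧸ mS) hsurj z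
    refine ⟨y, ?_⟩
    have h3 : (1 : S ⧸ mS) ⊗ₜ[S] (x - (C.d (k + 2) (k + 1)).hom y) = 0 := by
      rw [TensorProduct.tmul_sub, sub_eq_zero]
      exact hz.symm
    have h4 := PP16Lib.mem_smul_of_one_tmul_eq_zero (C := S ⧸ mS) hsurj h3
    rwa [show RingHom.ker (algebraMap S (S ⧸ mS)) = mS from Ideal.mk_ker] at h4
  have hcomp : ∀ k y, (C.d (k + 1) k).hom ((C.d (k + 2) (k + 1)).hom y) = 0 := fun k y => by
    have := congrArg (fun f => f.hom y) (C.d_comp_d (k + 2) (k + 1) k)
    exact this
  refine ⟨fun j hj hje => ?_, ?_⟩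
  · obtain ⟨k, rfl⟩ : ∃ k, j = k + 1 := ⟨j - 1, by omega⟩
    rw [HomologicalComplex.exactAt_iff' _ (k + 2) (k + 1) k (by simp) (by simp), ShortComplex.moduleCat_exact_iff]
    intro x hx
    exact (aux_step (R := R) (C.d (k + 2) (k + 1)).hom (C.d (k + 1) k).hom (hcomp k) (key k)).1 x hx
  · have h1 := (aux_step (R := R) (C.d (0 + 2) (0 + 1)).hom (C.d (0 + 1) 0).hom (hcomp 0) (key 0)).2
    let i1 : C.homology 0 ≅ ModuleCat.of S (C.X 0 ⧸ LinearMap.range (C.d (0 + 1) 0).hom) :=
      C.isoHomologyι₀ ≪≫ Limits.IsColimit.coconePointUniqueUpToIso (C.opcyclesIsCokernel 1 0 (by simp))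
        (ModuleCat.cokernelIsColimit (C.d 1 0))
    let i2 := ((ModuleCat.restrictScalars (algebraMap R S)).mapIso i1).toLinearEquiv
    let e0 : (C.X 0 ⧸ (LinearMap.range (C.d (0 + 1) 0).hom).restrictScalars R) ≃ₗ[R]
        ((ModuleCat.restrictScalars (algebraMap R S)).obj
          (ModuleCat.of S (C.X 0 ⧸ LinearMap.range (C.d (0 + 1) 0).hom))) :=
      { toFun := id, invFun := id, map_add' := fun _ _ => rfl, map_smul' := fun r q => by
          obtain ⟨q, rfl⟩ := Submodule.Quotient.mk_surjective _ q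
          rfl
        left_inv := fun _ => rfl, right_inv := fun _ => rfl }
    haveI := h1
    exact Module.Flat.of_linearEquiv (i2 ≪≫ₗ e0.symm)

end Groth.Agent.S6387
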