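import Groth.Statements.S6389
import Mathlib
-- import your own Groth.Agent.* helpers here

set_option autoImplicit false
universe u
open CAlg

namespace Groth.Agent.S6389

/-- Let (M_s)_{s ∈ S} be a direct sum dévissage of an R-module M: an increasing family of submodules
indexed by a well-ordered set S with M_s = ⋃_{t<s} M_t at every index s that is not a successor (in
particular the first term is 0), ⋃_s M_s = M, and M_s a direct summand of M_t whenever t is the
successor of s. Then M is isomorphic to the direct sum, over the successor steps s ⋖ t, of the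
quotients M_t/M_s (existence of an isomorphism; the map in the source depends on chosen
complements). -/
theorem result (R : Type u) [CommRing R] (M : Type u)
    [AddCommGroup M] [Module R M] (S : Type u) [LinearOrder S] [WellFoundedLT S] (Mf : S → Submodule R M)
    (hmono : Monotone Mf) :
    (∀ s : S, Order.IsSuccPrelimit s → Mf s = ⨆ t : {t : S // t < s}, Mf t.1) →
      (⨆ s, Mf s) = ⊤ →
      (∀ s t : S, s ⋖ t → ∃ C : Submodule R M, Mf s ⊓ C = ⊥ ∧ Mf s ⊔ C = Mf t) →
      Nonempty (M ≃ₗ[R] DirectSum {p : S × S // p.1 ⋖ p.2}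
        fun p => ↥(Mf p.1.2) ⧸ Submodule.comap (Mf p.1.2).subtype (Mf p.1.1)) := by
  classical
  intro hlim htop hsplit
  let ι := {p : S × S // p.1 ⋖ p.2}
  choose C hC1 hC2 using fun p : ι => hsplit p.1.1 p.1.2 p.2
  have hCle : ∀ p : ι, C p ≤ Mf p.1.2 := fun p => hC2 p ▸ le_sup_right
  have hspan : ∀ t, Mf t ≤ ⨆ p, C p := by
    intro t
    induction t using WellFoundedLT.induction with
    | ind t ih =>
      by_cases h : Order.IsSuccPrelimit t
      · rw [hlim t h]; exact iSup_le fun u => ih u.1 u.2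
      · obtain ⟨b, hb⟩ := Order.not_isSuccPrelimit_iff.1 h
        rw [← hC2 ⟨(b, t), hb⟩]
        exact sup_le (ih b hb.lt) (le_iSup C ⟨(b, t), hb⟩)
  let Φ : DirectSum ι (fun p => C p) →ₗ[R] M := DirectSum.coeLinearMap C
  have hΦ : Function.Bijective Φ := by
    refine ⟨(injective_iff_map_eq_zero _).2 fun x hx => ?_, LinearMap.range_eq_top.1 ?_⟩
    · by_contra hne
      obtain ⟨p, hp, hmax⟩ := Finset.exists_max_image (DFinsupp.support x) (fun p => p.1.2)
        (Finset.nonempty_iff_ne_empty.2 (fun h => hne (DFinsupp.support_eq_empty.1 h)))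
      have hsum : ∑ q ∈ DFinsupp.support x, ((x q : C q) : M) = 0 := (DirectSum.coeLinearMap_eq_dfinsuppSum C x).symm.trans hx
      rw [← Finset.add_sum_erase _ _ hp, add_eq_zero_iff_eq_neg] at hsum
      have hrest : ∑ q ∈ (DFinsupp.support x).erase p, ((x q : C q) : M) ∈ Mf p.1.1 := by
        refine Submodule.sum_mem _ fun q hq => ?_
        obtain ⟨hqp, hqs⟩ := Finset.mem_erase.1 hq
        refine hmono ?_ (hCle q (x q).2)
        rcases (hmax q hqs).lt_or_eq with h | h
        · exact le_of_not_gt fun h' => p.2.2 h' h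
        · refine absurd ?_ hqp
          refine Subtype.ext (Prod.ext ?_ h)
          have hb : q.1.1 ⋖ p.1.2 := h ▸ q.2
          exact hb.unique_left p.2
      have hxp : ((x p : C p) : M) ∈ Mf p.1.1 ⊓ C p := ⟨hsum ▸ Submodule.neg_mem _ hrest, (x p).2⟩
      rw [hC1, Submodule.mem_bot] at hxp
      exact DFinsupp.mem_support_iff.1 hp (Subtype.ext hxp)
    · rw [DirectSum.range_coeLinearMap, eq_top_iff, ← htop]
      exact iSup_le hspan
  have he : ∀ p : ι, Function.Bijective ((Submodule.comap (Mf p.1.2).subtype (Mf p.1.1)).mkQ ∘ₗ Submodule.inclusion (hCle p)) := by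
    intro p
    refine ⟨(injective_iff_map_eq_zero _).2 fun c hc => ?_, fun q => ?_⟩
    · rw [LinearMap.comp_apply, Submodule.mkQ_apply, Submodule.Quotient.mk_eq_zero] at hc
      have : (c : M) ∈ Mf p.1.1 ⊓ C p := ⟨hc, c.2⟩
      rw [hC1, Submodule.mem_bot] at this
      exact Subtype.ext this
    · obtain ⟨⟨m, hm⟩, rfl⟩ := Submodule.mkQ_surjective _ q
      rw [← hC2 p, Submodule.mem_sup] at hm
      obtain ⟨a, ha, c, hc, rfl⟩ := hm
      refine ⟨⟨c, hc⟩, (Submodule.Quotient.eq _).2 ?_⟩
      show c - (a + c) ∈ Mf p.1.1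
      simpa using ha
  exact ⟨(LinearEquiv.ofBijective Φ hΦ).symm.trans (DFinsupp.mapRange.linearEquiv fun p => LinearEquiv.ofBijective _ (he p))⟩

end Groth.Agent.S6389
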