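import Groth.Statements.S6390
import Groth.Agent.MLMod.CG
import Mathlib.Order.WellFounded
import Mathlib.Order.SuccPred.Limit
import Mathlib.SetTheory.Cardinal.Order
import Mathlib.Order.WithBot
import Mathlib.LinearAlgebra.DFinsupp

set_option autoImplicit false
universe u
open scoped Classical
open CAlg

namespace Groth.Agent.S6390

/-- An R-module M is a direct sum of countably generated modules if and only if it admits a Kaplansky
dévissage, i.e. an increasing family of submodules (M_s) indexed by a well-ordered set S with M_s =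
⋃_{t<s} M_t at non-successor indices (so the first term is 0), ⋃_s M_s = M, and, whenever t is the
successor of s, M_s a direct summand of M_t with M_t/M_s countably generated. -/
theorem result (R : Type u) [CommRing R] (M : Type u)
    [AddCommGroup M] [Module R M] :
    (∃ (ι : Type u) (N : ι → Submodule R M), DirectSum.IsInternal N ∧ ∀ i, CAlg.IsCountablyGenerated R (N i)) ↔
      ∃ (S : Type u) (_ : LinearOrder S) (_ : WellFoundedLT S) (Mf : S → Submodule R M), Monotone Mf ∧
        (∀ s : S, Order.IsSuccPrelimit s → Mf s = ⨆ t : {t : S // t < s}, Mf t.1) ∧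
        (⨆ s, Mf s) = ⊤ ∧
        (∀ s t : S, s ⋖ t → ∃ C : Submodule R M, Mf s ⊓ C = ⊥ ∧ Mf s ⊔ C = Mf t ∧
          CAlg.IsCountablyGenerated R (↥(Mf t) ⧸ Submodule.comap (Mf t).subtype (Mf s))) := by
  classical
  constructor
  · rintro ⟨ι, N, hint, hc⟩
    have hind := hint.submodule_iSupIndep
    have hNtop := hint.submodule_iSup_eq_top
    obtain ⟨hlo, hwf⟩ := exists_wellFoundedLT ι
    let Mf : WithTop ι → Submodule R M := fun s => ⨆ i : {i : ι // (i : WithTop ι) < s}, N i.1
    have hmono : Monotone Mf := fun s t hst =>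
      iSup_le fun i => le_iSup_of_le (⟨i.1, i.2.trans_le hst⟩ : {i : ι // (i : WithTop ι) < t}) le_rfl
    refine ⟨WithTop ι, inferInstance, inferInstance, Mf, hmono, fun s hs => ?_, ?_, fun s t hst => ?_⟩
    · refine le_antisymm (iSup_le fun i => ?_) (iSup_le fun t => hmono t.2.le)
      obtain ⟨c, hc1, hc2⟩ := (not_covBy_iff i.2).1 (hs (i.1 : WithTop ι))
      exact le_iSup_of_le (⟨c, hc2⟩ : {t // t < s})
        (le_iSup_of_le (⟨i.1, hc1⟩ : {j : ι // (j : WithTop ι) < c}) le_rfl)
    · rw [eq_top_iff, ← hNtop]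
      exact iSup_le fun i => le_iSup_of_le ⊤
        (le_iSup_of_le (⟨i, WithTop.coe_lt_top i⟩ : {j : ι // (j : WithTop ι) < ⊤}) le_rfl)
    · have hne : s ≠ ⊤ := ne_top_of_lt hst.lt
      obtain ⟨i, rfl⟩ := WithTop.ne_top_iff_exists.1 hne
      have hsplit : Mf t = Mf i ⊔ N i := by
        refine le_antisymm (iSup_le fun j => ?_) (sup_le (hmono hst.le) ?_)
        · rcases lt_trichotomy j.1 i with h | h | h
          · exact le_sup_of_le_left
              (le_iSup_of_le (⟨j.1, WithTop.coe_lt_coe.2 h⟩ : {k : ι // (k : WithTop ι) < i}) le_rfl)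
          · exact le_sup_of_le_right (by rw [h])
          · exact absurd j.2 (hst.2 (WithTop.coe_lt_coe.2 h))
        · exact le_iSup_of_le (⟨i, hst.lt⟩ : {k : ι // (k : WithTop ι) < t}) le_rfl
      refine ⟨N i, ?_, hsplit.symm, ?_⟩
      · rw [inf_comm, ← disjoint_iff]
        refine (hind i).mono_right (iSup_le fun j => ?_)
        exact le_iSup₂_of_le j.1 (fun h => (lt_irrefl (i : WithTop ι)) (by simpa [h] using j.2)) le_rfl
      · have hcgi : Groth.MLMod.SubCG (N i) := Groth.MLMod.subCG_iff.2 (hc i)
        obtain ⟨g, hg, hspan⟩ := hcgi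
        refine ⟨Submodule.mkQ _ '' (Subtype.val ⁻¹' g), (hg.preimage Subtype.val_injective).image _, ?_⟩
        rw [Submodule.span_image, eq_top_iff]
        intro z _
        obtain ⟨⟨x, hx⟩, rfl⟩ := Submodule.Quotient.mk_surjective _ z
        obtain ⟨a, ha, b, hb, rfl⟩ := Submodule.mem_sup.1 (hsplit.le hx)
        have hbt : b ∈ Mf t := hsplit.ge (Submodule.mem_sup_right hb)
        refine ⟨⟨b, hbt⟩, ?_, ?_⟩
        · have hle : N i ≤ (Submodule.span R (Subtype.val ⁻¹' g : Set (Mf t))).map (Mf t).subtype := by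
            rw [← hspan, Submodule.span_le]
            intro y hy
            exact ⟨⟨y, hsplit.ge (Submodule.mem_sup_right (hspan ▸ Submodule.subset_span hy))⟩,
              Submodule.subset_span hy, rfl⟩
          obtain ⟨w, hw, hwb⟩ := hle hb
          have : w = ⟨b, hbt⟩ := Subtype.ext hwb
          exact this ▸ hw
        · refine (Submodule.Quotient.eq _).2 ?_
          show b - (a + b) ∈ Mf i
          simpa using ha
  · rintro ⟨S, hlo, hwf, Mf, hmono, hlim, htop, hsucc⟩
    choose C hCinf hCsup hCcg using fun p : {p : S × S // p.1 ⋖ p.2} => hsucc p.1.1 p.1.2 p.2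
    refine ⟨{p : S × S // p.1 ⋖ p.2}, C, ?_, fun p => ?_⟩
    · convert DirectSum.isInternal_submodule_of_iSupIndep_of_iSup_eq_top (A := C) ?_ ?_
      · rw [iSupIndep_iff_finsetSum_eq_zero_imp_eq_zero]
        intro s v hv hsum
        by_contra hcon
        push Not at hcon
        obtain ⟨i, hi, hvi⟩ := hcon
        obtain ⟨m, hm, hmax⟩ := Finset.exists_max_image (s.filter fun j => v j ≠ 0)
          (fun j => j.1.1) ⟨i, Finset.mem_filter.2 ⟨hi, hvi⟩⟩
        rw [Finset.mem_filter] at hm
        have hrest : ∑ j ∈ s.erase m, v j ∈ Mf m.1.1 := by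
          refine Submodule.sum_mem _ fun j hj => ?_
          rw [Finset.mem_erase] at hj
          by_cases hvj : v j = 0
          · rw [hvj]; exact Submodule.zero_mem _
          have hle := hmax j (Finset.mem_filter.2 ⟨hj.2, hvj⟩)
          have hlt : j.1.1 < m.1.1 := hle.lt_of_ne fun h => hj.1 (Subtype.ext (Prod.ext h
            ((h ▸ j.2 : m.1.1 ⋖ j.1.2).unique_right m.2)))
          have h2 : j.1.2 ≤ m.1.1 := not_lt.1 (fun h => j.2.2 hlt h)
          have hjm : v j ∈ Mf j.1.2 := hCsup j ▸ Submodule.mem_sup_right (hv j hj.2)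
          exact hmono h2 hjm
        have hvm : v m = -∑ j ∈ s.erase m, v j := by
          rw [eq_neg_iff_add_eq_zero, Finset.add_sum_erase _ _ hm.1, hsum]
        have : v m ∈ Mf m.1.1 ⊓ C m := ⟨hvm ▸ Submodule.neg_mem _ hrest, hv m hm.1⟩
        rw [hCinf m] at this
        exact hm.2 this
      · rw [eq_top_iff, ← htop]
        refine iSup_le fun s => ?_
        induction s using WellFoundedLT.induction with
        | ind s ih =>
          by_cases hs : Order.IsSuccPrelimit s
          · rw [hlim s hs]
            exact iSup_le fun t => ih t.1 t.2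
          · obtain ⟨t, ht⟩ := Order.not_isSuccPrelimit_iff.1 hs
            rw [← hCsup ⟨(t, s), ht⟩]
            exact sup_le (ih t ht.lt) (le_iSup C _)
    · have hle : C p ≤ Mf p.1.2 := hCsup p ▸ le_sup_right
      let φ := (Submodule.comap (Mf p.1.2).subtype (Mf p.1.1)).mkQ ∘ₗ Submodule.inclusion hle
      have hφ : Function.Bijective φ := by
        refine ⟨(injective_iff_map_eq_zero φ).2 fun x hx => ?_, fun z => ?_⟩
        · have : (x : M) ∈ Mf p.1.1 ⊓ C p :=
            ⟨((Submodule.Quotient.mk_eq_zero _).1 hx : _), x.2⟩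
          rw [hCinf p] at this
          exact Subtype.ext this
        · obtain ⟨⟨x, hx⟩, rfl⟩ := Submodule.Quotient.mk_surjective _ z
          obtain ⟨a, ha, b, hb, hab⟩ := Submodule.mem_sup.1 ((hCsup p).ge hx)
          refine ⟨⟨b, hb⟩, (Submodule.Quotient.eq _).2 ?_⟩
          show b - x ∈ Mf p.1.1
          rw [← hab]
          simpa using ha
      obtain ⟨g, hg, hspan⟩ := hCcg p
      let e := LinearEquiv.ofBijective φ hφ
      refine ⟨e.symm '' g, hg.image _, ?_⟩
      rw [← LinearEquiv.coe_coe, Submodule.span_image, hspan, Submodule.map_top, LinearMap.range_eq_top]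
      exact e.symm.surjective

end Groth.Agent.S6390
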