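import Groth.Statements.S6391
import Groth.Agent.IndEtaleOps.Lift
-- import your own Groth.Agent.* helpers here

set_option autoImplicit false
universe u
open CAlg

namespace Groth.Agent.S6391

/-- Let R be a ring, S and S' henselian local rings which are filtered colimits of étale R-algebras, and
K a field together with R-algebra maps S → K and S' → K identifying K with the residue field of each
(surjective with kernel the maximal ideal). Then exactly one isomorphism of R-algebras S → S'
commutes with the two maps to K. -/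
theorem result (R S S' K : Type u) [CommRing R]
    [CommRing S] [CommRing S'] [Field K] [HenselianLocalRing S] [HenselianLocalRing S']
    [Algebra R S] [Algebra R S'] [Algebra R K] (hS : EtPBC.IsIndEtale R S) (hS' : EtPBC.IsIndEtale R S')
    (u : S →ₐ[R] K) (u' : S' →ₐ[R] K) (hu : Function.Surjective u) (hu' : Function.Surjective u')
    (hku : RingHom.ker u.toRingHom = IsLocalRing.maximalIdeal S)
    (hku' : RingHom.ker u'.toRingHom = IsLocalRing.maximalIdeal S') :
    ∃! e : S ≃ₐ[R] S', u'.comp (e : S →ₐ[R] S') = u := by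
  have key : ∀ (A B : Type u) [CommRing A] [CommRing B] [HenselianLocalRing B] [Algebra R A] [Algebra R B],
      EtPBC.IsIndEtale R A → ∀ (a : A →ₐ[R] K) (b : B →ₐ[R] K), Function.Surjective b →
      RingHom.ker b.toRingHom = IsLocalRing.maximalIdeal B → ∃! τ : A →ₐ[R] B, b.comp τ = a := by
    intro A B _ _ _ _ _ hA a b hb hk
    let ε : (B ⧸ RingHom.ker b.toRingHom) ≃ₐ[R] K := Ideal.quotientKerAlgEquivOfSurjective hb
    haveI : HenselianRing B (RingHom.ker b.toRingHom) := by rw [hk]; infer_instance
    obtain ⟨τ, hτ, hu⟩ := Groth.Agent.IndEtaleOps.existsUnique_lift_of_isIndEtale hA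
      (RingHom.ker b.toRingHom) (ε.symm.toAlgHom.comp a)
    have hb' : ∀ x, ε (Ideal.Quotient.mk _ x) = b x := fun x => rfl
    refine ⟨τ, ?_, fun τ₂ h₂ => hu τ₂ ?_⟩
    · ext x
      have := congrArg ε (AlgHom.congr_fun hτ x)
      exact (hb' _).symm.trans (this.trans (ε.apply_symm_apply _))
    · ext x
      apply ε.injective
      exact ((hb' _).trans (AlgHom.congr_fun h₂ x)).trans (ε.apply_symm_apply _).symm
  obtain ⟨τ, hτ, hτu⟩ := key S S' hS u u' hu' hku'
  obtain ⟨ρ, hρ, -⟩ := key S' S hS' u' u hu hku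
  obtain ⟨_, -, hid⟩ := key S S hS u u hu hku
  obtain ⟨_, -, hid'⟩ := key S' S' hS' u' u' hu' hku'
  have h1 : τ.comp ρ = AlgHom.id R S' :=
    (hid' _ (by dsimp only; rw [← AlgHom.comp_assoc, hτ, hρ])).trans (hid' _ (AlgHom.comp_id _)).symm
  have h2 : ρ.comp τ = AlgHom.id R S :=
    (hid _ (by dsimp only; rw [← AlgHom.comp_assoc, hρ, hτ])).trans (hid _ (AlgHom.comp_id _)).symm
  refine ⟨AlgEquiv.ofAlgHom τ ρ h1 h2, hτ, fun e he => ?_⟩
  ext x
  exact AlgHom.congr_fun (hτu _ he) x

end Groth.Agent.S6391
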