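import Groth.Statements.S6392
import Groth.Agent.MLMod.Colimit

set_option autoImplicit false
universe u
open CAlg

namespace Groth.Agent.S6392

/-- Suppose M is the colimit of finitely presented R-modules G_i along a directed system over a nonempty
directed index set (transition maps f_ij), and M is both Mittag-Leffler and countably generated.
Then some countable directed subset I' of the indices already computes M: the canonical map from the
colimit of the G_i with i ∈ I' to M is bijective. -/
theorem result (R : Type u) [CommRing R]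
    {ι : Type u} [Preorder ι] [IsDirected ι (· ≤ ·)] [Nonempty ι] [DecidableEq ι] (G : ι → Type u)
    [∀ i, AddCommGroup (G i)] [∀ i, Module R (G i)] [∀ i, Module.FinitePresentation R (G i)]
    (f : ∀ i j, i ≤ j → G i →ₗ[R] G j) [DirectedSystem G fun i j h => f i j h]
    (hML : CAlg.IsMittagLeffler R (Module.DirectLimit G f))
    (hc : CAlg.IsCountablyGenerated R (Module.DirectLimit G f)) :
    ∃ I' : Set ι, I'.Countable ∧ DirectedOn (· ≤ ·) I' ∧
      Function.Bijective (Module.DirectLimit.lift R I' (fun i : I' => G i.1)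
        (fun (i j : I') (h : i ≤ j) => f i.1 j.1 h)
        (fun i : I' => Module.DirectLimit.of R ι G f i.1)
        (fun (i j : I') (h : i ≤ j) (x : G i.1) => Module.DirectLimit.of_f)) := by
  obtain ⟨m, hm⟩ := Groth.MLMod.exists_generating_seq hc
  choose j hij hj using fun i => Groth.MLMod.exists_eventually_factors hML i
  choose s x hx using fun n => Module.DirectLimit.exists_of (m n)
  have hub := fun a b : ι => exists_ge_ge a b
  choose ub hub₁ hub₂ using hub
  let seq : ℕ → ι := fun n => Nat.rec (s 0) (fun n i => ub (j i) (s (n + 1))) n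
  have hjseq : ∀ n, j (seq n) ≤ seq (n + 1) := fun n => hub₁ _ _
  have hs : ∀ n, s n ≤ seq n := fun n => by
    cases n with
    | zero => exact le_rfl
    | succ n => exact hub₂ _ _
  have hmono : Monotone seq := monotone_nat_of_le_succ fun n => (hij _).trans (hjseq n)
  have hdir : DirectedOn (· ≤ ·) (Set.range seq) := by
    rintro _ ⟨a, rfl⟩ _ ⟨b, rfl⟩
    exact ⟨_, ⟨max a b, rfl⟩, hmono (le_max_left a b), hmono (le_max_right a b)⟩
  refine ⟨Set.range seq, Set.countable_range seq, hdir, ?_, ?_⟩
  · haveI : IsDirected (Set.range seq) (· ≤ ·) := ⟨fun a b => by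
      obtain ⟨c, hc, h1, h2⟩ := hdir a.1 a.2 b.1 b.2
      exact ⟨⟨c, hc⟩, h1, h2⟩⟩
    haveI : Nonempty (Set.range seq) := ⟨⟨seq 0, 0, rfl⟩⟩
    haveI : DirectedSystem (fun i : Set.range seq => G i.1) fun i j h => f i.1 j.1 h :=
      ⟨fun i z => DirectedSystem.map_self (f := fun i j h => f i j h) z,
        fun _ _ _ hab hbc z => DirectedSystem.map_map (f := fun i j h => f i j h) hab hbc z⟩
    rw [injective_iff_map_eq_zero]
    intro z hz
    obtain ⟨⟨i, n, rfl⟩, y, rfl⟩ := Module.DirectLimit.exists_of z
    rw [Module.DirectLimit.lift_of] at hz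
    obtain ⟨k, hik, hk⟩ := Module.DirectLimit.of.zero_exact hz
    obtain ⟨h, hh⟩ := hj (seq n) k hik
    have h0 : f (seq n) (seq (n + 1)) (hmono (Nat.le_succ n)) y = 0 := by
      rw [← DirectedSystem.map_map (f := fun i j h => f i j h) (hij (seq n)) (hjseq n) y]
      refine (congrArg (f _ _ (hjseq n)) ?_).trans (map_zero _)
      exact (LinearMap.congr_fun hh y).trans ((congrArg h hk).trans (map_zero h))
    rw [← Module.DirectLimit.of_f (f := fun (a b : Set.range seq) (h : a ≤ b) => f a.1 b.1 h)
      (hij := (show (⟨seq n, n, rfl⟩ : Set.range seq) ≤ ⟨seq (n + 1), n + 1, rfl⟩ from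
        hmono (Nat.le_succ n))), h0, map_zero]
  · rw [← LinearMap.range_eq_top, eq_top_iff, ← hm, Submodule.span_le]
    rintro _ ⟨n, rfl⟩
    refine ⟨Module.DirectLimit.of R (Set.range seq) (fun i => G i.1)
      (fun a b h => f a.1 b.1 h) ⟨seq n, n, rfl⟩ (f _ _ (hs n) (x n)), ?_⟩
    rw [Module.DirectLimit.lift_of, Module.DirectLimit.of_f, hx n]

end Groth.Agent.S6392
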