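import Groth.Statements.S6423
import Mathlib

set_option autoImplicit false
open CategoryTheory CategoryTheory.Limits
universe v u
open CatLim

namespace Groth.Agent.S6423

section
open CategoryTheory CategoryTheory.Limits
variable {C : Type u} [Category.{v} C] [HasEqualizers C] [HasPullbacks C]
  {J : Type} [SmallCategory J] (F : J ⥤ C)

/-- A weak limit candidate on a set of objects. -/
structure Part (S : Finset J) where
  P : C
  π : ∀ s ∈ S, P ⟶ F.obj s
  lift : ∀ c : Cone F, ∃ l : c.pt ⟶ P, ∀ s (hs : s ∈ S), l ≫ π s hs = c.π.app s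
  mono : ∀ {T : C} (f g : T ⟶ P), (∀ s hs, f ≫ π s hs = g ≫ π s hs) → f = g

open Classical in
lemma extend {S : Finset J} (Q : Part F S) {a : J} (ha : a ∉ S) {b : J} (hb : b ∈ S)
    (h : Nonempty (a ⟶ b) ∨ Nonempty (b ⟶ a)) : Nonempty (Part F (insert a S)) := by
  rcases h with ⟨⟨f⟩⟩ | ⟨⟨f⟩⟩
  · refine ⟨{ P := pullback (Q.π b hb) (F.map f)
              π := fun s hs => if e : s = a then pullback.snd _ _ ≫ eqToHom (by rw [e]) else
                pullback.fst _ _ ≫ Q.π s ((Finset.mem_insert.mp hs).resolve_left e)
              lift := fun c => ?_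
              mono := fun {T} u w huw => ?_ }⟩
    · obtain ⟨l, hl⟩ := Q.lift c
      refine ⟨pullback.lift l (c.π.app a) (by rw [hl, c.w]), fun s hs => ?_⟩
      split_ifs with e
      · subst e; simp [pullback.lift_snd]
      · rw [pullback.lift_fst_assoc, hl]
    · apply pullback.hom_ext
      · refine Q.mono _ _ fun s hs => ?_
        have := huw s (Finset.mem_insert_of_mem hs)
        rw [dif_neg (show ¬ s = a from fun e => ha (e ▸ hs))] at this
        simpa using this
      · simpa using huw a (Finset.mem_insert_self a S)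
  · refine ⟨{ P := Q.P
              π := fun s hs => if e : s = a then Q.π b hb ≫ F.map f ≫ eqToHom (by rw [e]) else
                Q.π s ((Finset.mem_insert.mp hs).resolve_left e)
              lift := fun c => ?_
              mono := fun {T} u w huw => ?_ }⟩
    · obtain ⟨l, hl⟩ := Q.lift c
      refine ⟨l, fun s hs => ?_⟩
      split_ifs with e
      · subst e; rw [← Category.assoc, hl]; simp
      · exact hl _ _
    · refine Q.mono _ _ fun s hs => ?_
      have := huw s (Finset.mem_insert_of_mem hs)
      rwa [dif_neg (show ¬ s = a from fun e => ha (e ▸ hs))] at this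

lemma exists_part [Fintype J] [IsConnected J] : Nonempty (Part F (Finset.univ : Finset J)) := by
  classical
  obtain ⟨j⟩ := (inferInstance : Nonempty J)
  have h0 : Nonempty (Part F {j}) := ⟨
    { P := F.obj j
      π := fun s hs => eqToHom (by rw [Finset.mem_singleton.mp hs])
      lift := fun c => ⟨c.π.app j, fun s hs => by cases Finset.mem_singleton.mp hs; simp⟩
      mono := fun {T} u w h => by simpa using h j (Finset.mem_singleton_self j) }⟩
  obtain ⟨S, hS, hmax⟩ := (Finset.univ.filter fun S : Finset J => j ∈ S ∧ Nonempty (Part F S)).exists_max_image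
    Finset.card ⟨{j}, by simp [h0]⟩
  simp only [Finset.mem_filter, Finset.mem_univ, true_and] at hS hmax
  obtain ⟨hjS, ⟨Q⟩⟩ := hS
  suffices S = Finset.univ from this ▸ ⟨Q⟩
  refine Finset.eq_univ_iff_forall.mpr fun k => induct_on_objects {x | x ∈ S} hjS (fun {x y} f => ?_) k
  constructor <;> intro hx <;> by_contra hy
  · have := hmax _ ⟨Finset.mem_insert_of_mem hjS, extend F Q hy hx (Or.inr ⟨f⟩)⟩
    rw [Finset.card_insert_of_notMem hy] at this
    omega
  · have := hmax _ ⟨Finset.mem_insert_of_mem hjS, extend F Q hy hx (Or.inl ⟨f⟩)⟩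
    rw [Finset.card_insert_of_notMem hy] at this
    omega

lemma hasLimit_of_part [FinCategory J] [IsConnected J] : HasLimit F := by
  classical
  obtain ⟨Q⟩ := exists_part F
  have key : ∀ E : Finset (Σ a b : J, (a ⟶ b)), ∃ (P : C) (ι : P ⟶ Q.P), Mono ι ∧
      (∀ e ∈ E, ι ≫ Q.π e.1 (Finset.mem_univ _) ≫ F.map e.2.2 = ι ≫ Q.π e.2.1 (Finset.mem_univ _)) ∧
      ∀ c : Cone F, ∃ l : c.pt ⟶ P, ∀ s, l ≫ ι ≫ Q.π s (Finset.mem_univ _) = c.π.app s := by
    intro E
    induction E using Finset.induction_on with
    | empty =>
      refine ⟨Q.P, 𝟙 _, inferInstance, by simp, fun c => ?_⟩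
      obtain ⟨l, hl⟩ := Q.lift c
      exact ⟨l, fun s => by rw [Category.id_comp]; exact hl s _⟩
    | @insert e E _ ih =>
      obtain ⟨P, ι, hι, hE, hlift⟩ := ih
      let p := ι ≫ Q.π e.1 (Finset.mem_univ _) ≫ F.map e.2.2
      let q := ι ≫ Q.π e.2.1 (Finset.mem_univ _)
      refine ⟨equalizer p q, equalizer.ι p q ≫ ι, mono_comp _ _, fun x hx => ?_, fun c => ?_⟩
      · rcases Finset.mem_insert.mp hx with rfl | hx
        · simp only [Category.assoc]; exact equalizer.condition p q
        · simp only [Category.assoc, hE x hx]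
      · obtain ⟨l, hl⟩ := hlift c
        have hpq : l ≫ p = l ≫ q := by
          have h1 := hl e.1
          have h2 := hl e.2.1
          simp only [p, q]
          rw [h2, ← Category.assoc ι, ← Category.assoc, h1, c.w]
        refine ⟨equalizer.lift l hpq, fun s => ?_⟩
        rw [show equalizer.lift l hpq ≫ (equalizer.ι p q ≫ ι) ≫ Q.π s (Finset.mem_univ s) =
            (equalizer.lift l hpq ≫ equalizer.ι p q) ≫ ι ≫ Q.π s (Finset.mem_univ s) from by
              simp only [Category.assoc], equalizer.lift_ι, hl]
  obtain ⟨P, ι, hι, hE, hlift⟩ := key Finset.univ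
  choose l hl using hlift
  exact HasLimit.mk
    { cone :=
        { pt := P
          π :=
            { app := fun s => ι ≫ Q.π s (Finset.mem_univ _)
              naturality := fun a b f => by simpa using (hE ⟨a, b, f⟩ (Finset.mem_univ _)).symm } }
      isLimit :=
        { lift := l
          fac := hl
          uniq := fun c m hm => by
            rw [← cancel_mono ι]
            refine Q.mono _ _ fun s hs => ?_
            rw [Category.assoc, Category.assoc]
            exact (hm s).trans (hl c s).symm } }

end

/-- (2) ⇒ (1): a category with equalizers and fibre products has all finite connected limits. -/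
theorem result {C : Type u} [Category.{v} C] [HasEqualizers C] [HasPullbacks C]
    (J : Type) [SmallCategory J] [FinCategory J] [IsConnected J] : HasLimitsOfShape J C := by
  exact { has_limit := fun F => hasLimit_of_part F }

end Groth.Agent.S6423
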