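import Mathlib
import Groth.Statements.S6424
-- import your own Groth.Agent.* helpers here

set_option autoImplicit false
open CategoryTheory CategoryTheory.Limits
universe v u
open CatLim

namespace Groth.Agent.S6424

theorem hasProduct_finSucc {C : Type u} [Category.{v} C] [HasBinaryProducts C] :
    ∀ (n : ℕ) (f : Fin (n + 1) → C), HasProduct f
  | 0 => fun (f : Fin 1 → C) => HasLimit.mk (limitConeOfUnique f)
  | n + 1 => fun f =>
    haveI := hasProduct_finSucc n fun i => f i.succ
    HasLimit.mk ⟨_, extendFanIsLimit f (limit.isLimit _) (limit.isLimit _)⟩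

/-- (2) ⇒ (1): a category with products of pairs and equalizers has all finite nonempty limits. -/
theorem result {C : Type u} [Category.{v} C] [HasBinaryProducts C] [HasEqualizers C]
    (J : Type) [SmallCategory J] [FinCategory J] [Nonempty J] : HasLimitsOfShape J C := by
  have : Fintype J := Fintype.ofFinite J
  have hp : ∀ (K : Type) [Finite K] [Nonempty K] (g : K → C), HasProduct g := fun K _ _ g => by
    obtain ⟨n, ⟨e⟩⟩ := Finite.exists_equiv_fin K
    cases n with
    | zero => exact (e (Classical.arbitrary K)).elim0
    | succ n =>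
      haveI := hasProduct_finSucc n (g ∘ e.symm)
      haveI : HasLimit ((Discrete.equivalence e).functor ⋙ Discrete.functor (g ∘ e.symm)) := inferInstance
      exact hasLimit_of_iso (F := (Discrete.equivalence e).functor ⋙ Discrete.functor (g ∘ e.symm)) (Discrete.natIso fun i => eqToIso (by simp))
  refine ⟨fun F => ?_⟩
  haveI := hp J F.obj
  haveI : Nonempty (Σ p : J × J, p.1 ⟶ p.2) := ⟨⟨⟨Classical.arbitrary J, Classical.arbitrary J⟩, 𝟙 _⟩⟩
  haveI := hp (Σ p : J × J, p.1 ⟶ p.2) fun f => F.obj f.1.2
  exact hasLimit_of_equalizer_and_product F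

end Groth.Agent.S6424
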