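import Groth.Statements.S6426
import Mathlib
-- import your own Groth.Agent.* helpers here

set_option autoImplicit false
open CategoryTheory CategoryTheory.Limits
universe v
open CatLim

namespace Groth.Agent.S6426

/-- Over a nonempty index category in which any two objects map to a common object, the set-theoretic
colimit of a diagram of abelian groups surjects onto its colimit in abelian groups. (The published
statement does not require the index category to be nonempty; this row assumes it, because for the
empty index category the colimit of sets is empty while the colimit of abelian groups is the zero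
group.) -/
theorem result {I : Type v} [SmallCategory I] [Nonempty I]
    (hI : ∀ x y : I, ∃ (z : I) (_ : x ⟶ z) (_ : y ⟶ z), True) (M : I ⥤ AddCommGrpCat.{v}) :
    Function.Surjective (colimit.post M (forget AddCommGrpCat.{v})) := by
  let K : AddSubgroup (colimit M : AddCommGrpCat.{v}) :=
    { carrier := {x | ∃ (i : I) (y : M.obj i), colimit.ι M i y = x}
      zero_mem' := ⟨Classical.arbitrary I, 0, map_zero _⟩
      add_mem' := by
        rintro _ _ ⟨i, a, rfl⟩ ⟨j, b, rfl⟩
        obtain ⟨k, f, g, -⟩ := hI i j
        refine ⟨k, M.map f a + M.map g b, ?_⟩
        rw [map_add, ← ConcreteCategory.comp_apply, ← ConcreteCategory.comp_apply, colimit.w, colimit.w]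
      neg_mem' := by rintro _ ⟨i, a, rfl⟩; exact ⟨i, -a, map_neg _ _⟩ }
  have hK : ∀ x, x ∈ K := by
    have h0 : AddCommGrpCat.ofHom (QuotientAddGroup.mk' K) = 0 := colimit.hom_ext fun i => by
      ext y
      simp only [comp_zero]
      exact (QuotientAddGroup.eq_zero_iff _).2 ⟨i, y, rfl⟩
    intro x
    exact (QuotientAddGroup.eq_zero_iff _).1 (ConcreteCategory.congr_hom h0 x)
  intro x
  obtain ⟨i, y, rfl⟩ := hK x
  exact ⟨colimit.ι (M ⋙ forget _) i y, ConcreteCategory.congr_hom (colimit.ι_post M (forget _) i) y⟩

end Groth.Agent.S6426
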