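import Groth.Statements.S6428
import Mathlib
-- import your own Groth.Agent.* helpers here

set_option autoImplicit false
open CategoryTheory CategoryTheory.Limits
universe v₁ u₁ v₂ u₂ v₃ u₃
open CatLim

namespace Groth.Agent.S6428

section Aux
open CategoryTheory CategoryTheory.Limits

variable {I : Type u₁} [Category.{v₁} I] {I' : Type u₂} [Category.{v₂} I'] {C : Type u₃}
  [Category.{v₃} C] {F : I ⥤ I'} {M : I' ⥤ C}

private noncomputable def pick (h1 : ∀ x' : I', IsConnected (F.Fiber x')) (x' : I') : F.Fiber x' :=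
  haveI := h1 x'
  Classical.arbitrary _

private lemma indep (h1 : ∀ x' : I', IsConnected (F.Fiber x')) (c : Cocone (F ⋙ M)) {x' : I'}
    (a b : F.Fiber x') :
    M.map (eqToHom a.2.symm) ≫ c.ι.app a.1 = M.map (eqToHom b.2.symm) ≫ c.ι.app b.1 := by
  haveI := h1 x'
  refine constant_of_preserves_morphisms
    (fun a : F.Fiber x' => M.map (eqToHom a.2.symm) ≫ c.ι.app a.1) ?_ a b
  intro a b φ
  haveI : F.IsHomLift (𝟙 x') φ.1 := φ.2
  have hφ := IsHomLift.fac' F (𝟙 x') φ.1
  rw [← c.w φ.1, ← Category.assoc]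
  congr 1
  rw [Functor.comp_map, ← M.map_comp, hφ]
  simp

private noncomputable def desc' (h1 : ∀ x' : I', IsConnected (F.Fiber x'))
    (h2 : ∀ ⦃x' y' : I'⦄ (α' : x' ⟶ y'), ∃ (x y : I) (hx : F.obj x = x') (hy : F.obj y = y')
      (α : x ⟶ y), F.map α = eqToHom hx ≫ α' ≫ eqToHom hy.symm)
    (c : Cocone (F ⋙ M)) : Cocone M where
  pt := c.pt
  ι :=
    { app := fun x' => M.map (eqToHom (pick h1 x').2.symm) ≫ c.ι.app (pick h1 x').1
      naturality := fun x' y' α' => by
        obtain ⟨x, y, hx, hy, α, hα⟩ := h2 α'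
        refine Eq.trans ?_ (Category.comp_id _).symm
        rw [indep h1 c (pick h1 y') ⟨y, hy⟩, indep h1 c (pick h1 x') ⟨x, hx⟩]
        show M.map α' ≫ M.map (eqToHom hy.symm) ≫ c.ι.app y = M.map (eqToHom hx.symm) ≫ c.ι.app x
        rw [← c.w α, Functor.comp_map, hα, ← Category.assoc, ← M.map_comp, ← Category.assoc,
          ← M.map_comp, eqToHom_trans_assoc, eqToHom_refl, Category.id_comp] }

private lemma desc'_app (h1 : ∀ x' : I', IsConnected (F.Fiber x'))
    (h2 : ∀ ⦃x' y' : I'⦄ (α' : x' ⟶ y'), ∃ (x y : I) (hx : F.obj x = x') (hy : F.obj y = y')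
      (α : x ⟶ y), F.map α = eqToHom hx ≫ α' ≫ eqToHom hy.symm)
    (c : Cocone (F ⋙ M)) (x : I) : (desc' h1 h2 c).ι.app (F.obj x) = c.ι.app x := by
  show M.map (eqToHom (pick h1 (F.obj x)).2.symm) ≫ c.ι.app _ = _
  rw [indep h1 c (pick h1 (F.obj x)) ⟨x, rfl⟩]
  simp

private noncomputable def whiskerIsColimit (h1 : ∀ x' : I', IsConnected (F.Fiber x'))
    (h2 : ∀ ⦃x' y' : I'⦄ (α' : x' ⟶ y'), ∃ (x y : I) (hx : F.obj x = x') (hy : F.obj y = y')
      (α : x ⟶ y), F.map α = eqToHom hx ≫ α' ≫ eqToHom hy.symm)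
    {t : Cocone M} (ht : IsColimit t) : IsColimit (t.whisker F) where
  desc s := ht.desc (desc' h1 h2 s)
  fac s x := by
    exact (ht.fac (desc' h1 h2 s) (F.obj x)).trans (desc'_app h1 h2 s x)
  uniq s m hm := by
    refine ht.hom_ext fun x' => ?_
    obtain ⟨x, hx⟩ := pick h1 x'
    subst hx
    refine (?_ : _ = _).trans (ht.fac (desc' h1 h2 s) (F.obj x)).symm
    exact (hm x).trans (desc'_app h1 h2 s x).symm

end Aux

/-- If `F : I ⥤ I'` has connected fibre categories and is surjective on morphisms, then for every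
diagram `M : I' ⥤ C` the colimit of `F ⋙ M` exists if and only if that of `M` does, and the
canonical comparison between them is then an isomorphism. -/
theorem result {I : Type u₁} [Category.{v₁} I] {I' : Type u₂} [Category.{v₂} I'] {C : Type u₃} [Category.{v₃} C] (F : I ⥤ I')
    (h1 : ∀ x' : I', IsConnected (F.Fiber x'))
    (h2 : ∀ ⦃x' y' : I'⦄ (α' : x' ⟶ y'), ∃ (x y : I) (hx : F.obj x = x') (hy : F.obj y = y') (α : x ⟶ y), F.map α = eqToHom hx ≫ α' ≫ eqToHom hy.symm)
    (M : I' ⥤ C) :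
    (HasColimit (F ⋙ M) ↔ HasColimit M) ∧ ∀ [HasColimit (F ⋙ M)] [HasColimit M], IsIso (colimit.pre M F) := by
  refine ⟨⟨fun h => ?_, fun h => ?_⟩, ?_⟩
  · let c := colimit.cocone (F ⋙ M)
    refine ⟨⟨⟨desc' h1 h2 c, ?_⟩⟩⟩
    refine { desc := fun s => colimit.desc (F ⋙ M) (s.whisker F), fac := ?_, uniq := ?_ }
    · intro s x'
      obtain ⟨x, hx⟩ := pick h1 x'
      subst hx
      rw [desc'_app]
      exact colimit.ι_desc (F := F ⋙ M) (s.whisker F) x
    · intro s m hm
      refine colimit.hom_ext (F := F ⋙ M) fun x => ?_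
      rw [colimit.ι_desc]
      have := hm (F.obj x)
      rw [desc'_app] at this
      exact this
  · exact ⟨⟨⟨_, whiskerIsColimit h1 h2 (colimit.isColimit M)⟩⟩⟩
  · intro _ _
    let e := (colimit.isColimit (F ⋙ M)).coconePointUniqueUpToIso
      (whiskerIsColimit h1 h2 (colimit.isColimit M))
    have : colimit.pre M F = e.hom := by
      refine colimit.hom_ext fun x => ?_
      rw [colimit.ι_pre]
      exact ((colimit.isColimit (F ⋙ M)).comp_coconePointUniqueUpToIso_hom
        (whiskerIsColimit h1 h2 (colimit.isColimit M)) x).symm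
    rw [this]
    infer_instance

end Groth.Agent.S6428
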