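import Groth.Statements.S6434
import Mathlib


set_option autoImplicit false
open CategoryTheory
universe v u v' u'
open CatLoc

namespace Groth.Agent.S6434

/-- The localization functor at a left multiplicative system commutes with finite colimits. -/
theorem result {C : Type u} [Category.{v} C] {D : Type u'} [Category.{v'} D] (W : MorphismProperty C) (L : C ⥤ D) [L.IsLocalization W] [W.HasLeftCalculusOfFractions] :
    Limits.PreservesFiniteColimits L := by
  haveI := Localization.essSurj L W
  haveI hco : RepresentablyCoflat L := ⟨fun d => by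
    let X := L.objPreimage d
    let e : L.obj X ≅ d := L.objObjPreimageIso d
    have hW : ∀ {A B : C} (s : A ⟶ B), W s → IsIso (L.map s) := fun s hs => Localization.inverts L W s hs
    have hsplit : ∀ (a : CostructuredArrow L d), ∃ (Y' : C) (f : a.left ⟶ Y') (s : X ⟶ Y') (_ : W s),
        L.map f = (a.hom ≫ e.inv) ≫ L.map s := fun a => by
      obtain ⟨φ, hφ⟩ := Localization.exists_leftFraction L W (a.hom ≫ e.inv)
      exact ⟨φ.Y', φ.f, φ.s, φ.hs, by rw [hφ, MorphismProperty.LeftFraction.map_comp_map_s]⟩
    let ob : ∀ {Z : C} (s : X ⟶ Z), W s → CostructuredArrow L d := fun {Z} s hs =>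
      CostructuredArrow.mk (Y := Z) (haveI := hW s hs; inv (L.map s) ≫ e.hom)
    have hkey : ∀ {Z : C} (s : X ⟶ Z) (hs : W s) (a : CostructuredArrow L d) (g : a.left ⟶ Z),
        L.map g = (a.hom ≫ e.inv) ≫ L.map s → L.map g ≫ (ob s hs).hom = a.hom := fun {Z} s hs a g hg => by
      haveI := hW s hs
      show L.map g ≫ inv (L.map s) ≫ e.hom = a.hom
      rw [hg]
      simp
    exact
      { cocone_objs := fun a b => by
          obtain ⟨A', f, s, hs, hf⟩ := hsplit a
          obtain ⟨B', g, t, ht, hg⟩ := hsplit b
          obtain ⟨ψ, hψ⟩ := (MorphismProperty.RightFraction.mk s hs t).exists_leftFraction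
          haveI : W.IsMultiplicative := inferInstance
          let u : X ⟶ ψ.Y' := t ≫ ψ.s
          have hu : W u := W.comp_mem _ _ ht ψ.hs
          refine ⟨ob u hu, CostructuredArrow.homMk (f ≫ ψ.f) (hkey u hu a _ ?_),
            CostructuredArrow.homMk (g ≫ ψ.s) (hkey u hu b _ ?_), trivial⟩
          · have hψ' : u = s ≫ ψ.f := hψ
            refine Eq.trans ?_ (congrArg (fun z => (a.hom ≫ e.inv) ≫ L.map z) hψ'.symm)
            rw [L.map_comp, L.map_comp, hf, Category.assoc]
          · rw [L.map_comp, L.map_comp, hg, Category.assoc]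
        cocone_maps := fun a b p q => by
          obtain ⟨B', g, t, ht, hg⟩ := hsplit b
          have h : L.map (p.left ≫ g) = L.map (q.left ≫ g) := by
            rw [L.map_comp, L.map_comp, hg, ← Category.assoc, ← Category.assoc, ← Category.assoc, ← Category.assoc,
              CostructuredArrow.w p, CostructuredArrow.w q]
          obtain ⟨Z, r, hr, hpq⟩ := (MorphismProperty.map_eq_iff_postcomp L W _ _).1 h
          have hu : W (t ≫ r) := W.comp_mem _ _ ht hr
          refine ⟨ob (t ≫ r) hu, CostructuredArrow.homMk (g ≫ r) (hkey _ hu b _ ?_), ?_⟩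
          · rw [L.map_comp, L.map_comp, hg, Category.assoc]
          · ext
            simpa using hpq
        nonempty := ⟨CostructuredArrow.mk e.hom⟩ }⟩
  exact preservesFiniteColimits_of_coflat L

end Groth.Agent.S6434
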