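import Mathlib
import Groth.Statements.S6437
-- import your own Groth.Agent.* helpers here

set_option autoImplicit false
open CategoryTheory CategoryTheory.Limits
universe v
open CatLim

namespace Groth.Agent.S6437

section
variable {I : Type v} [SmallCategory I]
    (h1 : ∀ ⦃w x y : I⦄ (a : w ⟶ x) (b : w ⟶ y), ∃ (z : I) (c : x ⟶ z) (d : y ⟶ z), a ≫ c = b ≫ d)
    (h2 : ∀ ⦃x y : I⦄ (a b : x ⟶ y), ∃ (z : I) (c : y ⟶ z), a ≫ c = b ≫ c)

include h1 in
theorem eq_elim (F : I ⥤ Type v) {a b : I} (x : F.obj a) (y : F.obj b) (h : colimit.ι F a x = colimit.ι F b y) :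
    ∃ (k : I) (f : a ⟶ k) (g : b ⟶ k), F.map f x = F.map g y := by
  suffices ∀ p q : Σ i, F.obj i, Relation.EqvGen F.ColimitTypeRel p q →
      ∃ (k : I) (f : p.1 ⟶ k) (g : q.1 ⟶ k), F.map f p.2 = F.map g q.2 from this ⟨a, x⟩ ⟨b, y⟩ (Types.colimit_eq h)
  intro p q hpq
  induction hpq with
  | rel p q hr =>
    obtain ⟨f, hf⟩ := hr
    exact ⟨q.1, f, 𝟙 _, by rw [F.map_id, hf]; rfl⟩
  | refl p => exact ⟨p.1, 𝟙 _, 𝟙 _, rfl⟩
  | symm p q _ ih => obtain ⟨k, f, g, e⟩ := ih; exact ⟨k, g, f, e.symm⟩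
  | trans p q r _ _ ih1 ih2 =>
    obtain ⟨k, f, g, e⟩ := ih1
    obtain ⟨k', f', g', e'⟩ := ih2
    obtain ⟨z, c, d, hcd⟩ := h1 g f'
    refine ⟨z, f ≫ c, g' ≫ d, ?_⟩
    rw [F.map_comp, F.map_comp, ConcreteCategory.comp_apply, ConcreteCategory.comp_apply, e, ← e',
      ← ConcreteCategory.comp_apply, ← ConcreteCategory.comp_apply, ← F.map_comp, ← F.map_comp, hcd]

include h1 h2 in
theorem eq_elim' (F : I ⥤ Type v) {a : I} (x y : F.obj a) (h : colimit.ι F a x = colimit.ι F a y) :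
    ∃ (k : I) (f : a ⟶ k), F.map f x = F.map f y := by
  obtain ⟨k, f, g, e⟩ := eq_elim h1 F x y h
  obtain ⟨z, c, hc⟩ := h2 f g
  refine ⟨z, f ≫ c, ?_⟩
  rw [F.map_comp, ConcreteCategory.comp_apply, e, ← ConcreteCategory.comp_apply, ← F.map_comp, ← hc, F.map_comp]

include h1 in
theorem common {α : Type*} [Finite α] (a : I) (P : α → ∀ k, (a ⟶ k) → Prop)
    (hmono : ∀ i k (f : a ⟶ k) k' (g : k ⟶ k'), P i k f → P i k' (f ≫ g))
    (h : ∀ i, ∃ k f, P i k f) : ∃ k f, ∀ i, P i k f := by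
  classical
  have : ∀ S : Finset α, ∃ k f, ∀ i ∈ S, P i k f := by
    intro S
    induction S using Finset.induction with
    | empty => exact ⟨a, 𝟙 _, by simp⟩
    | insert i S _ ih =>
      obtain ⟨k, f, hk⟩ := ih
      obtain ⟨k', f', hk'⟩ := h i
      obtain ⟨z, c, d, hcd⟩ := h1 f f'
      refine ⟨z, f ≫ c, fun j hj => ?_⟩
      rcases Finset.mem_insert.mp hj with rfl | hj
      · rw [hcd]; exact hmono _ _ _ _ _ hk'
      · exact hmono _ _ _ _ _ (hk j hj)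
  have _ := Fintype.ofFinite α
  obtain ⟨k, f, hk⟩ := ‹∀ S : Finset α, ∃ k f, ∀ i ∈ S, P i k f› Finset.univ
  exact ⟨k, f, fun i => hk i (Finset.mem_univ i)⟩

include h1 h2 in
theorem preserves {J : Type} [SmallCategory J] [FinCategory J] [IsConnected J] :
    PreservesLimitsOfShape J (colim : (I ⥤ Type v) ⥤ Type v) := by
  refine ⟨fun {K} => ⟨fun {c} hc => ?_⟩⟩
  have hpt : ∀ i, ∀ s : (j : J) → (K.obj j).obj i, (∀ {j j' : J} (φ : j ⟶ j'), (K.map φ).app i (s j) = s j') →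
      ∃! x : c.pt.obj i, ∀ j, (c.π.app j).app i x = s j := fun i s hs =>
    (Types.isLimit_iff _).mp ⟨isLimitOfPreserves ((evaluation I (Type v)).obj i) hc⟩ s hs
  rw [Types.isLimit_iff]
  intro s hs
  have hw : ∀ {j j' : J} (φ : j ⟶ j') (i : I) (x : (K.obj j).obj i),
      colim.map (K.map φ) (colimit.ι (K.obj j) i x) = colimit.ι (K.obj j') i ((K.map φ).app i x) :=
    fun φ i x => ConcreteCategory.congr_hom (colimit.ι_map (K.map φ) i) x
  have hc' : ∀ (j : J) (i : I) (x : c.pt.obj i),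
      (colim.mapCone c).π.app j (colimit.ι c.pt i x) = colimit.ι (K.obj j) i ((c.π.app j).app i x) :=
    fun j i x => ConcreteCategory.congr_hom (colimit.ι_map (c.π.app j) i) x
  have j₀ : J := Classical.arbitrary J
  -- representatives
  choose i x hx using fun j => Types.jointly_surjective' (s j)
  have hconn : ∀ j, ∃ k, Nonempty (i j₀ ⟶ k) ∧ Nonempty (i j ⟶ k) := by
    have hstep : ∀ {j j' : J}, (j ⟶ j') → ∃ k, Nonempty (i j ⟶ k) ∧ Nonempty (i j' ⟶ k) := fun {j j'} φ => by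
      have e : colim.map (K.map φ) (s j) = s j' := hs φ
      rw [← hx j, ← hx j', hw] at e
      obtain ⟨k, f, g, -⟩ := eq_elim h1 _ _ _ e
      exact ⟨k, ⟨f⟩, ⟨g⟩⟩
    have htrans : ∀ a b d : I, (∃ k, Nonempty (a ⟶ k) ∧ Nonempty (b ⟶ k)) → (∃ k, Nonempty (b ⟶ k) ∧ Nonempty (d ⟶ k)) →
        ∃ k, Nonempty (a ⟶ k) ∧ Nonempty (d ⟶ k) := by
      rintro a b d ⟨k, ⟨f⟩, ⟨g⟩⟩ ⟨k', ⟨f'⟩, ⟨g'⟩⟩
      obtain ⟨z, u, w, -⟩ := h1 g f'
      exact ⟨z, ⟨f ≫ u⟩, ⟨g' ≫ w⟩⟩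
    refine fun j => induct_on_objects {j | ∃ k, Nonempty (i j₀ ⟶ k) ∧ Nonempty (i j ⟶ k)} (j₀ := j₀)
      ⟨i j₀, ⟨𝟙 _⟩, ⟨𝟙 _⟩⟩ (fun φ => ?_) j
    obtain ⟨k, p, q⟩ := hstep φ
    exact ⟨fun h => htrans _ _ _ h ⟨k, p, q⟩, fun h => htrans _ _ _ h ⟨k, q, p⟩⟩
  obtain ⟨k, f₀, hk⟩ := common h1 (α := J) (i j₀) (fun j k _ => Nonempty (i j ⟶ k))
    (fun _ _ _ _ g h => h.map (· ≫ g)) (fun j => by obtain ⟨k, ⟨f⟩, h⟩ := hconn j; exact ⟨k, f, h⟩)
  let y : ∀ j, (K.obj j).obj k := fun j => (K.obj j).map (hk j).some (x j)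
  have hy : ∀ j, colimit.ι (K.obj j) k (y j) = s j := fun j =>
    (ConcreteCategory.congr_hom (colimit.w (K.obj j) (hk j).some) (x j)).trans (hx j)
  obtain ⟨z, f, hf⟩ := common h1 (α := Σ (j j' : J), j ⟶ j') k
    (fun φ z f => (K.obj φ.2.1).map f ((K.map φ.2.2).app k (y φ.1)) = (K.obj φ.2.1).map f (y φ.2.1))
    (fun φ _ f _ g h => by simp only [Functor.map_comp, ConcreteCategory.comp_apply, h])
    (fun φ => eq_elim' h1 h2 _ _ _ (by rw [← hw, hy, hy]; exact hs φ.2.2))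
  obtain ⟨X, hX, -⟩ := hpt z (fun j => (K.obj j).map f (y j)) (fun {j j'} φ => by
    rw [NatTrans.naturality_apply]; exact hf ⟨j, j', φ⟩)
  have nat : ∀ (j : J) {a b : I} (u : a ⟶ b) (X : c.pt.obj a),
      colimit.ι (K.obj j) b ((c.π.app j).app b (c.pt.map u X)) = colimit.ι (K.obj j) a ((c.π.app j).app a X) :=
    fun j a b u X => (congrArg (colimit.ι (K.obj j) b) (NatTrans.naturality_apply (c.π.app j) u X)).trans
      (ConcreteCategory.congr_hom (colimit.w (K.obj j) u) _)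
  refine ⟨colimit.ι c.pt z X, fun j => ?_, fun w hww => ?_⟩
  · rw [hc', hX, ← hy j]
    exact ConcreteCategory.congr_hom (colimit.w (K.obj j) f) (y j)
  · obtain ⟨b, Y, rfl⟩ := Types.jointly_surjective' w
    have he : ∀ j, colimit.ι (K.obj j) z ((c.π.app j).app z X) = colimit.ι (K.obj j) b ((c.π.app j).app b Y) := fun j => by
      rw [← hc' j b Y, hww j, hX, ← hy j]
      exact ConcreteCategory.congr_hom (colimit.w (K.obj j) f) (y j)
    obtain ⟨k₀, u, w₀, -⟩ := eq_elim h1 _ _ _ (he j₀)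
    obtain ⟨m, q, hq⟩ := common h1 (α := J) k₀
      (fun j m q => (K.obj j).map q ((c.π.app j).app k₀ (c.pt.map u X)) = (K.obj j).map q ((c.π.app j).app k₀ (c.pt.map w₀ Y)))
      (fun φ _ f _ g h => by simp only [Functor.map_comp, ConcreteCategory.comp_apply, h])
      (fun j => eq_elim' h1 h2 _ _ _ (by
        exact (nat j u X).trans ((he j).trans (nat j w₀ Y).symm)))
    have hXY : c.pt.map q (c.pt.map u X) = c.pt.map q (c.pt.map w₀ Y) := by
      refine ((hpt m (fun j => (c.π.app j).app m (c.pt.map q (c.pt.map u X))) (fun {j j'} φ => ?_)).unique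
        (fun j => rfl) fun j => ?_)
      · exact ConcreteCategory.congr_hom (congr_app (c.w φ) m) _
      · erw [NatTrans.naturality_apply (c.π.app j) q, NatTrans.naturality_apply (c.π.app j) q]
        exact (hq j).symm
    have := congrArg (colimit.ι c.pt m) hXY
    simp only [colimit.w_apply] at this
    exact this.symm
end

/-- Over an index category in which spans can be completed to commutative squares and parallel pairs can
be coequalized (a disjoint union of filtered categories), colimits of sets commute with finite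
connected limits. -/
theorem result {I : Type v} [SmallCategory I]
    (h1 : ∀ ⦃w x y : I⦄ (a : w ⟶ x) (b : w ⟶ y), ∃ (z : I) (c : x ⟶ z) (d : y ⟶ z), a ≫ c = b ≫ d)
    (h2 : ∀ ⦃x y : I⦄ (a b : x ⟶ y), ∃ (z : I) (c : y ⟶ z), a ≫ c = b ≫ c)
    (J : Type) [SmallCategory J] [FinCategory J] [IsConnected J] :
    PreservesLimitsOfShape J (colim : (I ⥤ Type v) ⥤ Type v) := by
  exact preserves h1 h2

end Groth.Agent.S6437
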