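import Groth.Statements.S6438
import Mathlib.CategoryTheory.Limits.Shapes.Multiequalizer
import Mathlib.CategoryTheory.Limits.Final
import Mathlib.CategoryTheory.FinCategory.Basic
import Mathlib.CategoryTheory.IsConnected
import Mathlib.Data.Finite.Sum
import Mathlib.Data.Finite.Prod
import Mathlib.Data.Fintype.Option

set_option autoImplicit false
open CategoryTheory
universe v u
open CatLim

namespace Groth.Agent.S6438

open CategoryTheory CategoryTheory.Limits

variable {I : Type u} [Category.{v} I]

/-- The shape with one right object per object and one left object per generator. -/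
def shape {n m : ℕ} (e : Fin n ≃ I) (g : Fin m → Σ x y : I, x ⟶ y) : MultispanShape.{0, 0} where
  L := Fin m
  R := Fin n
  fst a := e.symm (g a).1
  snd a := e.symm (g a).2.1

/-- The diagram of the generators. -/
def index {n m : ℕ} (e : Fin n ≃ I) (g : Fin m → Σ x y : I, x ⟶ y) : MultispanIndex (shape e g) I where
  left a := (g a).1
  right i := e i
  fst a := eqToHom (e.apply_symm_apply _).symm
  snd a := (g a).2.2 ≫ eqToHom (e.apply_symm_apply _).symm

theorem cancel_right {a b c : I} (k : a ⟶ b) (p : b = c) : (k ≫ eqToHom p) ≫ eqToHom p.symm = k := by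
  subst p; simp

theorem cancel_left {a b c : I} (k : b ⟶ c) (p : a = b) : eqToHom p.symm ≫ eqToHom p ≫ k = k := by
  subst p; simp

theorem cancel_mid {a b c d : I} (h : a ⟶ b) (k : b ⟶ d) (p : b = c) :
    (h ≫ eqToHom p) ≫ eqToHom p.symm ≫ k = h ≫ k := by
  subst p; simp

noncomputable instance fintypeObj (S : MultispanShape.{0, 0}) [Finite S.L] [Finite S.R] :
    Fintype (WalkingMultispan S) :=
  have : Finite (WalkingMultispan S) :=
    Finite.of_surjective (fun x : S.L ⊕ S.R => x.elim WalkingMultispan.left WalkingMultispan.right) fun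
      | .left a => ⟨.inl a, rfl⟩
      | .right b => ⟨.inr b, rfl⟩
  Fintype.ofFinite _

noncomputable instance fintypeHom (S : MultispanShape.{0, 0}) [Finite S.L] [Finite S.R] (j j' : WalkingMultispan S) :
    Fintype (j ⟶ j') :=
  have : Finite (j ⟶ j') := by
    have : Finite (Σ x y : WalkingMultispan S, x ⟶ y) := by
      have : Finite (WalkingMultispan S) := by
        refine Finite.of_surjective (fun x : S.L ⊕ S.R => x.elim WalkingMultispan.left WalkingMultispan.right) fun
          | .left a => ⟨.inl a, rfl⟩
          | .right b => ⟨.inr b, rfl⟩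
      refine Finite.of_surjective
        (fun x : WalkingMultispan S ⊕ (S.L ⊕ S.L) => x.elim (fun z => ⟨z, z, WalkingMultispan.Hom.id z⟩)
          (fun y => y.elim (fun a => ⟨_, _, WalkingMultispan.Hom.fst a⟩)
            (fun a => ⟨_, _, WalkingMultispan.Hom.snd a⟩))) ?_
      rintro ⟨x, y, h⟩
      cases h with
      | id => exact ⟨.inl x, rfl⟩
      | fst a => exact ⟨.inr (.inl a), rfl⟩
      | snd a => exact ⟨.inr (.inr a), rfl⟩
    exact Finite.of_injective (fun h => (⟨j, j', h⟩ : Σ x y : WalkingMultispan S, x ⟶ y)) fun h h' he =>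
      eq_of_heq (Sigma.mk.inj_iff.mp (eq_of_heq (Sigma.mk.inj_iff.mp he).2)).2
  Fintype.ofFinite _

/-- A category with finitely many objects whose morphisms are generated under composition by finitely
many of them receives a functor from a finite category which is both final and initial, the finite
category being connected (resp. nonempty) exactly when the given one is. (The published statement
says that limits and colimits of every diagram are computed after restriction along the functor;
this is expressed here through finality and initiality.) -/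
theorem result {I : Type u} [Category.{v} I] [Finite I]
    (gen : Finset (Σ x y : I, x ⟶ y))
    (hgen : ∀ P : MorphismProperty I, P.IsMultiplicative → (∀ a ∈ gen, P a.2.2) → P = ⊤) :
    ∃ (J : Type) (_ : SmallCategory J) (_ : FinCategory J) (F : J ⥤ I),
      F.Final ∧ F.Initial ∧ (IsConnected J ↔ IsConnected I) ∧ (Nonempty J ↔ Nonempty I) := by
  classical
  obtain ⟨n, ⟨e⟩⟩ := Finite.exists_equiv_fin I
  let m := gen.card
  let g : Fin m → Σ x y : I, x ⟶ y := fun a => (gen.equivFin.symm a).1
  let S := shape e.symm g
  have : Finite S.L := inferInstanceAs (Finite (Fin m))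
  have : Finite S.R := inferInstanceAs (Finite (Fin n))
  let J := WalkingMultispan S
  let F : J ⥤ I := (index e.symm g).multispan
  let r : I → J := fun x => WalkingMultispan.right (e x)
  let ρ : ∀ x, F.obj (r x) ⟶ x := fun x => eqToHom (e.symm_apply_apply x)
  let ρ' : ∀ x, x ⟶ F.obj (r x) := fun x => eqToHom (e.symm_apply_apply x).symm
  -- zigzags in the structured arrows
  have hS : ∀ d x y (h : x ⟶ y) (k : d ⟶ x),
      Zigzag (StructuredArrow.mk (T := F) (k ≫ ρ' x)) (StructuredArrow.mk (T := F) (k ≫ h ≫ ρ' y)) := by
    intro d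
    let P : MorphismProperty I := fun x y h => ∀ k : d ⟶ x,
      Zigzag (StructuredArrow.mk (T := F) (k ≫ ρ' x)) (StructuredArrow.mk (T := F) (k ≫ h ≫ ρ' y))
    have hP : P.IsMultiplicative :=
      { id_mem := fun x k => by rw [Category.id_comp]
        comp_mem := fun f f' hf hf' k => by
          refine (hf k).trans ?_
          have := hf' (k ≫ f)
          simpa only [Category.assoc] using this }
    have htop := hgen P hP fun a ha k => by
      obtain ⟨i, rfl⟩ : ∃ i, g i = a := ⟨gen.equivFin ⟨a, ha⟩, by simp [g]⟩
      refine Zigzag.trans (j₂ := StructuredArrow.mk (T := F) (Y := WalkingMultispan.left i) k) ?_ ?_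
      · refine Zigzag.of_inv (StructuredArrow.homMk (WalkingMultispan.Hom.fst (J := S) i) ?_)
        first
        | (simp [F, index, ρ', r, S, shape, CostructuredArrow.mk, StructuredArrow.mk]; done)
        | (simp [F, index, ρ', r, S, shape, CostructuredArrow.mk, StructuredArrow.mk]; rfl)
      · refine Zigzag.of_hom (StructuredArrow.homMk (WalkingMultispan.Hom.snd (J := S) i) ?_)
        first
        | (simp [F, index, ρ', r, S, shape, CostructuredArrow.mk, StructuredArrow.mk]; done)
        | (simp [F, index, ρ', r, S, shape, CostructuredArrow.mk, StructuredArrow.mk]; rfl)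
    intro x y h
    exact (show P h from htop ▸ trivial)
  have hC : ∀ d x y (h : x ⟶ y) (k : y ⟶ d),
      Zigzag (CostructuredArrow.mk (S := F) (ρ x ≫ h ≫ k)) (CostructuredArrow.mk (S := F) (ρ y ≫ k)) := by
    intro d
    let P : MorphismProperty I := fun x y h => ∀ k : y ⟶ d,
      Zigzag (CostructuredArrow.mk (S := F) (ρ x ≫ h ≫ k)) (CostructuredArrow.mk (S := F) (ρ y ≫ k))
    have hP : P.IsMultiplicative :=
      { id_mem := fun x k => by rw [Category.id_comp]
        comp_mem := fun f f' hf hf' k => by
          refine Zigzag.trans ?_ (hf' k)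
          have := hf (f' ≫ k)
          simpa only [Category.assoc] using this }
    have htop := hgen P hP fun a ha k => by
      obtain ⟨i, rfl⟩ : ∃ i, g i = a := ⟨gen.equivFin ⟨a, ha⟩, by simp [g]⟩
      refine Zigzag.trans (j₂ := CostructuredArrow.mk (S := F) (Y := WalkingMultispan.left i) ((g i).2.2 ≫ k)) ?_ ?_
      · refine Zigzag.of_inv (CostructuredArrow.homMk (WalkingMultispan.Hom.fst (J := S) i) ?_)
        exact cancel_left ((g i).2.2 ≫ k) (e.symm_apply_apply (g i).1)
      · refine Zigzag.of_hom (CostructuredArrow.homMk (WalkingMultispan.Hom.snd (J := S) i) ?_)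
        exact cancel_mid (g i).2.2 k (e.symm_apply_apply (g i).2.1).symm
    intro x y h
    exact (show P h from htop ▸ trivial)
  have hfin : F.Final := ⟨fun d => by
    have : Nonempty (StructuredArrow d F) := ⟨StructuredArrow.mk (ρ' d)⟩
    have key : ∀ o : StructuredArrow d F, Zigzag (StructuredArrow.mk (T := F) (𝟙 d ≫ ρ' d)) o := by
      have hr : ∀ (i : Fin n) (k : d ⟶ F.obj (WalkingMultispan.right i)),
          Zigzag (StructuredArrow.mk (T := F) (𝟙 d ≫ ρ' d))
            (StructuredArrow.mk (T := F) (Y := WalkingMultispan.right i) k) := by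
        intro i k
        obtain ⟨x, rfl⟩ := e.surjective i
        have := hS d d x (k ≫ ρ x) (𝟙 d)
        have h2 : (k ≫ ρ x) ≫ ρ' x = k := by
          exact cancel_right k (e.symm_apply_apply x)
        rw [Category.id_comp] at this
        simpa only [h2, Category.id_comp] using this
      rintro ⟨⟨⟨⟩⟩, (a | i), k⟩
      · exact (hr _ (k ≫ F.map (WalkingMultispan.Hom.fst (J := S) a))).trans
          (Zigzag.of_inv (StructuredArrow.homMk (WalkingMultispan.Hom.fst (J := S) a) rfl))
      · exact hr i k
    exact zigzag_isConnected fun o o' => (key o).symm.trans (key o')⟩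
  have hini : F.Initial := ⟨fun d => by
    have : Nonempty (CostructuredArrow F d) := ⟨CostructuredArrow.mk (ρ d)⟩
    have key : ∀ o : CostructuredArrow F d, Zigzag o (CostructuredArrow.mk (S := F) (ρ d ≫ 𝟙 d)) := by
      have hr : ∀ (i : Fin n) (k : F.obj (WalkingMultispan.right i) ⟶ d),
          Zigzag (CostructuredArrow.mk (S := F) (Y := WalkingMultispan.right i) k)
            (CostructuredArrow.mk (S := F) (ρ d ≫ 𝟙 d)) := by
        intro i k
        obtain ⟨x, rfl⟩ := e.surjective i
        have := hC d x d (ρ' x ≫ k) (𝟙 d)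
        have h2 : ρ x ≫ ρ' x ≫ k = k := by
          exact cancel_left k (e.symm_apply_apply x).symm
        simpa only [Category.comp_id, h2] using this
      rintro ⟨(a | i), ⟨⟨⟩⟩, k⟩
      · refine Zigzag.trans ?_ (hC d (g a).1 d k (𝟙 d))
        refine Zigzag.of_hom (CostructuredArrow.homMk (WalkingMultispan.Hom.fst (J := S) a) ?_)
        exact (cancel_left (k ≫ 𝟙 d) (e.symm_apply_apply (g a).1)).trans (Category.comp_id k)
      · exact hr i k
    exact zigzag_isConnected fun o o' => (key o).trans (key o').symm⟩
  refine ⟨J, inferInstance, ⟨fintypeObj S, fun _ _ => fintypeHom S _ _⟩, F, hfin, hini, ?_, ⟨fun ⟨j⟩ => ⟨F.obj j⟩, fun ⟨x⟩ => ⟨r x⟩⟩⟩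
  constructor
  · intro hJ
    have : Nonempty I := ⟨F.obj (Classical.arbitrary J)⟩
    refine zigzag_isConnected fun x y => ?_
    have h := zigzag_obj_of_zigzag F (isPreconnected_zigzag (r x) (r y))
    exact (Zigzag.of_inv (ρ x)).trans (h.trans (Zigzag.of_hom (ρ y)))
  · intro hI
    have : Nonempty J := ⟨r (Classical.arbitrary I)⟩
    have step : ∀ x y (h : x ⟶ y), Zigzag (r x) (r y) := by
      intro x y h
      exact zigzag_obj_of_zigzag (StructuredArrow.proj x F) (hS x x y h (𝟙 x))
    have key : ∀ x y : I, Zigzag (r x) (r y) := by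
      intro x y
      induction isPreconnected_zigzag x y with
      | refl => exact Relation.ReflTransGen.refl
      | tail _ h ih =>
        rcases h with ⟨⟨f⟩⟩ | ⟨⟨f⟩⟩
        · exact ih.trans (step _ _ f)
        · exact ih.trans (step _ _ f).symm
    refine zigzag_isConnected fun j j' => ?_
    have hj : ∀ j : J, ∃ x, Zigzag j (r x) := by
      rintro (a | i)
      · exact ⟨(g a).1, Zigzag.of_hom (WalkingMultispan.Hom.fst a)⟩
      · obtain ⟨x, rfl⟩ := e.surjective i
        exact ⟨x, Relation.ReflTransGen.refl⟩
    obtain ⟨x, hx⟩ := hj j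
    obtain ⟨x', hx'⟩ := hj j'
    exact hx.trans ((key x x').trans hx'.symm)

end Groth.Agent.S6438
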