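import Groth.Statements.S6442
import Mathlib.CategoryTheory.Sites.LocallySurjective
import Mathlib.CategoryTheory.Sites.LocallyBijective
import Mathlib.CategoryTheory.Sites.EpiMono
-- import your own Groth.Agent.* helpers here

set_option autoImplicit false
open CategoryTheory CategoryTheory.Limits Opposite
universe u
open SiteMisc

namespace Groth.Agent.S6442

/-- An object `U` of a site is weakly contractible, i.e. for every covering sieve `S` the sheafified map
`(∐_{V → U ∈ S} h_V)^# ⟶ h_U^#` has a section, if and only if taking sections over `U` turns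
epimorphisms of sheaves of sets into surjections. (Coverings are taken as covering sieves; the
coproduct is formed in presheaves and then sheafified.) -/
theorem result {C : Type u} [SmallCategory C] (J : GrothendieckTopology C) (U : C) :
    (∀ S : Sieve U, S ∈ J U →
      IsSplitEpi ((presheafToSheaf J (Type u)).map
        (Sigma.desc (fun i : (Σ V : C, {f : V ⟶ U // S f}) => yoneda.map i.2.1) :
          (∐ fun i : (Σ V : C, {f : V ⟶ U // S f}) => yoneda.obj i.1) ⟶ yoneda.obj U))) ↔
    ∀ (F G : Sheaf J (Type u)) (φ : F ⟶ G), Epi φ → Function.Surjective (φ.hom.app (op U)) := by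
  constructor
  · intro h F G φ hφ s
    have hls : Sheaf.IsLocallySurjective φ := (Sheaf.isLocallySurjective_iff_epi φ).2 hφ
    let S := Presheaf.imageSieve φ.hom s
    have hS : S ∈ J U := Presheaf.imageSieve_mem J φ.hom s
    let d : (∐ fun i : (Σ V : C, {f : V ⟶ U // S f}) => yoneda.obj i.1) ⟶ yoneda.obj U :=
      Sigma.desc (fun i => yoneda.map i.2.1)
    let a : (∐ fun i : (Σ V : C, {f : V ⟶ U // S f}) => yoneda.obj i.1) ⟶ F.obj :=
      Sigma.desc (fun i => yonedaEquiv.symm (Presheaf.localPreimage φ.hom s i.2.1 i.2.2))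
    have hcomm : a ≫ φ.hom = d ≫ yonedaEquiv.symm s := by
      refine Sigma.hom_ext _ _ fun i => ?_
      rw [← Category.assoc, ← Category.assoc, Sigma.ι_desc, Sigma.ι_desc]
      apply yonedaEquiv.injective
      rw [yonedaEquiv_comp, Equiv.apply_symm_apply, ← yonedaEquiv_naturality, Equiv.apply_symm_apply]
      exact Presheaf.app_localPreimage φ.hom s i.2.1 i.2.2
    obtain ⟨σ⟩ := (h S hS).exists_splitEpi
    let A := sheafificationAdjunction J (Type u)
    let ã := (A.homEquiv _ F).symm a
    have hc : ã ≫ φ = (presheafToSheaf J (Type u)).map d ≫ (A.homEquiv _ G).symm (yonedaEquiv.symm s) := by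
      rw [← Adjunction.homEquiv_naturality_right_symm, ← Adjunction.homEquiv_naturality_left_symm]
      exact congrArg _ hcomm
    refine ⟨yonedaEquiv (A.homEquiv _ F (σ.section_ ≫ ã)), ?_⟩
    have h2 : A.homEquiv _ F (σ.section_ ≫ ã) ≫ φ.hom = yonedaEquiv.symm s := by
      have := A.homEquiv_naturality_right (σ.section_ ≫ ã) φ
      refine this.symm.trans ?_
      rw [Category.assoc, hc, ← Category.assoc, σ.id, Category.id_comp, Equiv.apply_symm_apply]
    have := congrArg yonedaEquiv h2
    rw [yonedaEquiv_comp, Equiv.apply_symm_apply] at this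
    exact this
  · intro h S hS
    let d : (∐ fun i : (Σ V : C, {f : V ⟶ U // S f}) => yoneda.obj i.1) ⟶ yoneda.obj U :=
      Sigma.desc (fun i => yoneda.map i.2.1)
    have hd : Presheaf.IsLocallySurjective J d := ⟨fun {W} u => by
      refine J.superset_covering ?_ (J.pullback_stable (u : W ⟶ U) hS)
      intro V v hv
      refine ⟨(Sigma.ι (fun i : (Σ V : C, {f : V ⟶ U // S f}) => yoneda.obj i.1)
        ⟨V, v ≫ u, hv⟩).app (op V) (𝟙 V), ?_⟩
      have := ConcreteCategory.congr_hom (NatTrans.congr_app
        (Sigma.ι_desc (fun i : (Σ V : C, {f : V ⟶ U // S f}) => yoneda.map i.2.1)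
          ⟨V, v ≫ u, hv⟩) (op V)) (𝟙 V)
      exact this.trans (Category.id_comp _)⟩
    have he : Epi ((presheafToSheaf J (Type u)).map d) :=
      (Sheaf.isLocallySurjective_iff_epi _).1 ((Presheaf.isLocallySurjective_presheafToSheaf_map_iff J d).2 hd)
    let A := sheafificationAdjunction J (Type u)
    obtain ⟨x, hx⟩ := h _ _ _ he (yonedaEquiv (A.homEquiv _ _ (𝟙 ((presheafToSheaf J (Type u)).obj (yoneda.obj U)))))
    refine ⟨⟨⟨(A.homEquiv _ _).symm (yonedaEquiv.symm x), ?_⟩⟩⟩
    apply (A.homEquiv _ _).injective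
    apply yonedaEquiv.injective
    rw [Adjunction.homEquiv_naturality_right, Equiv.apply_symm_apply]
    refine (yonedaEquiv_comp _ _).trans ?_
    rw [Equiv.apply_symm_apply]
    exact hx

end Groth.Agent.S6442
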