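import Mathlib
import Groth.Statements.S6448
-- import your own Groth.Agent.* helpers here

set_option autoImplicit false
open CategoryTheory
universe v u
open CatLim

namespace Groth.Agent.S6448

/-- In a category where spans complete to commutative squares and parallel pairs are coequalized by a
later arrow, every connected component is filtered (so the category is a disjoint union of filtered
categories). -/
theorem result {I : Type u} [Category.{v} I]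
    (h1 : ∀ ⦃w x y : I⦄ (a : w ⟶ x) (b : w ⟶ y), ∃ (z : I) (c : x ⟶ z) (d : y ⟶ z), a ≫ c = b ≫ d)
    (h2 : ∀ ⦃x y : I⦄ (a b : x ⟶ y), ∃ (z : I) (c : y ⟶ z), a ≫ c = b ≫ c)
    (j : ConnectedComponents I) : IsFiltered j.Component := by
  have htrans : ∀ a b : I, (∃ k, Nonempty (a ⟶ k) ∧ Nonempty (b ⟶ k)) → ∀ d, (∃ k, Nonempty (b ⟶ k) ∧ Nonempty (d ⟶ k)) →
      ∃ k, Nonempty (a ⟶ k) ∧ Nonempty (d ⟶ k) := by
    rintro a b ⟨k, ⟨f⟩, ⟨g⟩⟩ d ⟨k', ⟨f'⟩, ⟨g'⟩⟩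
    obtain ⟨z, p, q, -⟩ := h1 g f'
    exact ⟨z, ⟨f ≫ p⟩, ⟨g' ≫ q⟩⟩
  have hz : ∀ a b : I, Zigzag a b → ∃ k, Nonempty (a ⟶ k) ∧ Nonempty (b ⟶ k) := by
    intro a b h
    induction h with
    | refl => exact ⟨a, ⟨𝟙 _⟩, ⟨𝟙 _⟩⟩
    | tail _ hz ih =>
      refine htrans _ _ ih _ ?_
      rcases hz with ⟨⟨φ⟩⟩ | ⟨⟨φ⟩⟩
      · exact ⟨_, ⟨φ⟩, ⟨𝟙 _⟩⟩
      · exact ⟨_, ⟨𝟙 _⟩, ⟨φ⟩⟩
  have hmem : ∀ (a : j.Component) (k : I), Nonempty (a.obj ⟶ k) → Quotient.mk'' k = j := fun a k ⟨f⟩ =>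
    (Quotient.sound' (Zigzag.of_inv f) : (Quotient.mk'' k : ConnectedComponents I) = Quotient.mk'' a.obj).trans a.property
  obtain ⟨i₀, hi₀⟩ := Quotient.exists_rep j
  refine { cocone_objs := fun X Y => ?_, cocone_maps := fun X Y f g => ?_, nonempty := ⟨⟨i₀, hi₀⟩⟩ }
  · obtain ⟨k, ⟨f⟩, ⟨g⟩⟩ := hz X.obj Y.obj (Quotient.exact' (X.property.trans Y.property.symm))
    exact ⟨⟨k, hmem X k ⟨f⟩⟩, ObjectProperty.homMk f, ObjectProperty.homMk g, trivial⟩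
  · obtain ⟨k, c, hc⟩ := h2 f.hom g.hom
    exact ⟨⟨k, hmem Y k ⟨c⟩⟩, ObjectProperty.homMk c, ObjectProperty.hom_ext _ hc⟩

end Groth.Agent.S6448
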