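import Groth.Statements.S6456
import Groth.Agent.InvBasic.Basic
-- import your own Groth.Agent.* helpers here

set_option autoImplicit false
universe u
open CategoryTheory AlgebraicGeometry
open Cyc

namespace Groth.Agent.S6456

section aux
open Groth.Agent

variable {X : Scheme.{u}}

theorem spec_smul (L : X.Modules) {ξ x : X} (h : ξ ⤳ x) (a : X.presheaf.stalk x) (m : L.presheaf.stalk x) :
    L.presheaf.stalkSpecializes h (a • m) =
      X.presheaf.stalkSpecializes h a • L.presheaf.stalkSpecializes h m := by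
  obtain ⟨U, hxU, a, rfl⟩ := X.presheaf.exists_germ_eq a
  obtain ⟨V, hxV, m, rfl⟩ := L.presheaf.exists_germ_eq m
  rw [← TopCat.Presheaf.germ_res_apply X.presheaf (homOfLE (inf_le_left : U ⊓ V ≤ U)) x ⟨hxU, hxV⟩,
    ← TopCat.Presheaf.germ_res_apply L.presheaf (homOfLE (inf_le_right : U ⊓ V ≤ V)) x ⟨hxU, hxV⟩,
    ← InvBasic.germ_smul, TopCat.Presheaf.germ_stalkSpecializes_apply,
    TopCat.Presheaf.germ_stalkSpecializes_apply, TopCat.Presheaf.germ_stalkSpecializes_apply,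
    InvBasic.germ_smul]

theorem fibre_facts {L : X.Modules} (hL : PicF.IsInvertible L) {ξ x : X} (h : ξ ⤳ x) :
    (∃ t : L.presheaf.stalk x, Submodule.span (X.presheaf.stalk x) {t} = ⊤) ∧
    ∀ t : L.presheaf.stalk x, Submodule.span (X.presheaf.stalk x) {t} = ⊤ →
      (∀ s : Cyc.secFibre L ξ, ∃ φ : X.presheaf.stalk ξ,
        s = φ • (Submodule.Quotient.mk (L.presheaf.stalkSpecializes h t) : Cyc.secFibre L ξ)) ∧
      (∀ φ : X.presheaf.stalk ξ,
        φ • (Submodule.Quotient.mk (L.presheaf.stalkSpecializes h t) : Cyc.secFibre L ξ) = 0 →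
          X.residue ξ φ = 0) := by
  obtain ⟨U, hxU, ℓ, hℓ⟩ := InvBasic.exists_isBasis hL x
  have hξU : ξ ∈ U := h.mem_open U.2 hxU
  have hx := hℓ.stalk_bijective hxU
  have hξ := hℓ.stalk_bijective hξU
  refine ⟨⟨_, Submodule.eq_top_iff'.mpr fun s => Submodule.mem_span_singleton.mpr (hx.2 s)⟩, fun t ht => ?_⟩
  obtain ⟨c, hc⟩ := Submodule.mem_span_singleton.mp
    (ht ▸ Submodule.mem_top : L.presheaf.germ U x hxU ℓ ∈ Submodule.span (X.presheaf.stalk x) {t})
  have hℓξ : L.presheaf.germ U ξ hξU ℓ = X.presheaf.stalkSpecializes h c • L.presheaf.stalkSpecializes h t := by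
    rw [← spec_smul, hc, TopCat.Presheaf.germ_stalkSpecializes_apply]
  constructor
  · intro s
    obtain ⟨s, rfl⟩ := Submodule.Quotient.mk_surjective _ s
    obtain ⟨d, hd⟩ := hξ.2 s
    exact ⟨d * X.presheaf.stalkSpecializes h c, by
      rw [← Submodule.Quotient.mk_smul, mul_smul, ← hℓξ]; exact congrArg _ hd.symm⟩
  · intro φ hφ
    by_contra hne
    have hu : IsUnit φ := by
      by_contra hnu
      exact hne ((IsLocalRing.residue_eq_zero_iff φ).mpr hnu)
    have ht0 : (Submodule.Quotient.mk (L.presheaf.stalkSpecializes h t) : Cyc.secFibre L ξ) = 0 :=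
      hu.smul_eq_zero.mp hφ
    have hℓ0 : L.presheaf.germ U ξ hξU ℓ ∈
        IsLocalRing.maximalIdeal (X.presheaf.stalk ξ) • (⊤ : Submodule (X.presheaf.stalk ξ) (L.presheaf.stalk ξ)) := by
      rw [hℓξ]
      exact Submodule.smul_mem _ _ ((Submodule.Quotient.mk_eq_zero _).mp ht0)
    have hspan : (⊤ : Submodule (X.presheaf.stalk ξ) (L.presheaf.stalk ξ)) =
        Submodule.span _ {L.presheaf.germ U ξ hξU ℓ} :=
      (Submodule.eq_top_iff'.mpr fun s => Submodule.mem_span_singleton.mpr (hξ.2 s)).symm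
    rw [hspan, Submodule.mem_smul_span_singleton] at hℓ0
    obtain ⟨m, hm, hml⟩ := hℓ0
    have : m = 1 := hξ.1 (by simpa using hml)
    exact (IsLocalRing.maximalIdeal.isMaximal _).ne_top ((Ideal.eq_top_iff_one _).mpr (this ▸ hm))

theorem ordAt_mul {x ξ : X} (h : ξ ⤳ x) {f g : X.residueField ξ} (hf : f ≠ 0) (hg : g ≠ 0) :
    Cyc.ordAt x ξ h (f * g) = Cyc.ordAt x ξ h f + Cyc.ordAt x ξ h g := by
  simp only [Cyc.ordAt, CycAlg.ordFrac]
  split_ifs with hh
  · have := hh.1; have := hh.2.1; have := hh.2.2.1; have := hh.2.2.2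
    haveI : IsDomain (Cyc.LocQuot x ξ h) :=
      (IsFractionRing.injective (Cyc.LocQuot x ξ h) (X.residueField ξ)).isDomain
    have hf' := (map_ne_zero (Ring.ordFrac (K := X.residueField ξ) (Cyc.LocQuot x ξ h))).mpr hf
    have hg' := (map_ne_zero (Ring.ordFrac (K := X.residueField ξ) (Cyc.LocQuot x ξ h))).mpr hg
    obtain ⟨a, ha⟩ := WithZero.ne_zero_iff_exists.mp hf'
    obtain ⟨b, hb⟩ := WithZero.ne_zero_iff_exists.mp hg'
    rw [map_mul, ← ha, ← hb, ← WithZero.coe_mul]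
    rfl
  · simp

theorem ordAt_zpow {x ξ : X} (h : ξ ⤳ x) {f : X.residueField ξ} (hf : f ≠ 0) (n : ℤ) :
    Cyc.ordAt x ξ h (f ^ n) = n * Cyc.ordAt x ξ h f := by
  induction n using Int.induction_on with
  | zero =>
    have := ordAt_mul h (one_ne_zero (α := X.residueField ξ)) one_ne_zero
    rw [one_mul] at this
    rw [zpow_zero, zero_mul]
    omega
  | succ i ih => rw [zpow_add_one₀ hf, ordAt_mul h (zpow_ne_zero _ hf) hf, ih, add_mul, one_mul]
  | pred i ih =>
    have h2 := ordAt_mul h (zpow_ne_zero (-(i : ℤ) - 1) hf) hf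
    rw [← zpow_add_one₀ hf, sub_add_cancel, ih] at h2
    rw [sub_mul, one_mul]
    omega

theorem secOrdAt_smul {L : X.Modules} (hL : PicF.IsInvertible L) {ξ x : X} (h : ξ ⤳ x)
    (g : X.presheaf.stalk ξ) (hg : X.residue ξ g ≠ 0) {s : Cyc.secFibre L ξ} (hs : s ≠ 0) :
    Cyc.secOrdAt L ξ x h (g • s) = Cyc.ordAt x ξ h (X.residue ξ g) + Cyc.secOrdAt L ξ x h s := by
  obtain ⟨ht, hfac⟩ := fibre_facts hL h
  obtain ⟨hex, huniq⟩ := hfac _ (Classical.choose_spec ht)
  simp only [Cyc.secOrdAt, dif_pos ht, dif_pos (hex _)]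
  have e1 := Classical.choose_spec (hex (g • s))
  have e2 := Classical.choose_spec (hex s)
  generalize Classical.choose (hex (g • s)) = φ at e1 ⊢
  generalize Classical.choose (hex s) = ψ at e2 ⊢
  have h0 : X.residue ξ (φ - g * ψ) = 0 := huniq _ (by rw [sub_smul, mul_smul, ← e1, ← e2, sub_self])
  rw [map_sub, sub_eq_zero, map_mul] at h0
  rw [h0]
  refine ordAt_mul h hg fun hψ => hs ?_
  rw [e2, ← Submodule.Quotient.mk_smul, Submodule.Quotient.mk_eq_zero]
  exact Submodule.smul_mem_smul ((IsLocalRing.residue_eq_zero_iff _).mp hψ) Submodule.mem_top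

theorem exists_ratio {L : X.Modules} (hL : PicF.IsInvertible L) {ξ : X} {w t : Cyc.secFibre L ξ}
    (hw : w ≠ 0) (ht : t ≠ 0) : ∃ g : X.presheaf.stalk ξ, X.residue ξ g ≠ 0 ∧ w = g • t := by
  obtain ⟨⟨g₀, hg₀⟩, hfac⟩ := fibre_facts hL (specializes_refl ξ)
  obtain ⟨hex, huniq⟩ := hfac g₀ hg₀
  obtain ⟨a, ha⟩ := hex w
  obtain ⟨b, hb⟩ := hex t
  have hu : IsUnit b := by
    by_contra hnu
    refine ht ?_
    rw [hb, ← Submodule.Quotient.mk_smul, Submodule.Quotient.mk_eq_zero]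
    exact Submodule.smul_mem_smul (show b ∈ IsLocalRing.maximalIdeal _ from hnu) Submodule.mem_top
  obtain ⟨b', rfl⟩ := hu
  refine ⟨a * ↑b'⁻¹, fun h0 => hw ?_, by rw [ha, hb, smul_smul, mul_assoc, Units.inv_mul, mul_one]⟩
  have hau : ¬ IsUnit a := fun h1 =>
    ((h1.mul b'⁻¹.isUnit).map (X.residue ξ).hom).ne_zero h0
  rw [ha, ← Submodule.Quotient.mk_smul, Submodule.Quotient.mk_eq_zero]
  exact Submodule.smul_mem_smul (show a ∈ IsLocalRing.maximalIdeal _ from hau) Submodule.mem_top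

end aux

/-- Let (L, s, i : D → X) be a triple defining a Gysin map (L invertible, s a global section, i the
closed immersion of its zero scheme) and α a (k + 1)-cycle on X. Then i_* i^* α = c_1(L) ∩ α in
CH_k(X). Here i_* i^* α is the k-cycle on X computed as c_1(L) ∩ α with the rational sections s
where s is nonzero in L(ξ) and a nonzero fallback w elsewhere (Cyc.gysinChoice), and c_1(L) ∩ α on
the right is computed with any nonzero rational sections t. Here L(ξ) = L_ξ/𝔪_ξ L_ξ is the space of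
rational sections of L on the closure of ξ, div_{L|W}(s) and c_1(L) ∩ α are computed as coefficient
functions from chosen nonzero rational sections (Cyc.secDivFun, Cyc.c1CapFun), and results are
compared up to rational equivalence for any cycles with those coefficients. A pair (X, δ) with
Cyc.IsSetup plays the role of a scheme locally of finite type over the base (S, δ) (X locally
Noetherian with universally catenary local rings, δ a dimension function). -/
theorem result (X D : Scheme.{u}) (δ : X → ℤ) (hX : Cyc.IsSetup X δ) (L : X.Modules) (hL : PicF.IsInvertible L) (s : L.presheaf.obj (Opposite.op ⊤)) (i : D ⟶ X) [IsClosedImmersion i] (hD : Cyc.IsZeroSchemeOf i L s) (k : ℤ) (α : AlgebraicCycle X ℤ) (hα : α ∈ Cyc.Zk X δ (k + 1)) (w : (ξ : X) → Cyc.secFibre L ξ) (hw : ∀ ξ, w ξ ≠ 0) (t : (ξ : X) → Cyc.secFibre L ξ) (ht : ∀ ξ, t ξ ≠ 0) (γ₁ γ₂ : AlgebraicCycle X ℤ) (h₁ : ⇑γ₁ = Cyc.c1CapFun δ L ⇑α (Cyc.gysinChoice L s w)) (h₂ : ⇑γ₂ = Cyc.c1CapFun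 δ L ⇑α t) : Cyc.RatEquiv δ k γ₁ γ₂ := by
  classical
  have hwt : ∀ ξ, Cyc.gysinChoice L s w ξ ≠ 0 := fun ξ => by
    rw [Cyc.gysinChoice]
    split_ifs with h
    · exact h
    · exact hw ξ
  choose g hg hgw using fun ξ => exists_ratio hL (hwt ξ) (ht ξ)
  have key : ∀ ξ x, Cyc.secDivFun δ L ξ (Cyc.gysinChoice L s w ξ) x - Cyc.secDivFun δ L ξ (t ξ) x =
      Cyc.divFun δ ξ (X.residue ξ (g ξ)) x := by
    intro ξ x
    simp only [Cyc.secDivFun, Cyc.divFun]
    split_ifs with h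
    · rw [hgw, secOrdAt_smul hL h.1 _ (hg ξ) (ht ξ), add_sub_cancel_right]
    · exact sub_zero 0
  have hpow : ∀ ξ x, Cyc.divFun δ ξ (X.residue ξ (g ξ) ^ α ξ) x =
      α ξ * Cyc.divFun δ ξ (X.residue ξ (g ξ)) x := by
    intro ξ x
    simp only [Cyc.divFun]
    split_ifs with h
    · exact ordAt_zpow h.1 (hg ξ) _
    · exact (mul_zero _).symm
  have hfin : ∀ x : X, {ξ | α ξ ≠ 0 ∧ ξ ⤳ x}.Finite := by
    intro x
    obtain ⟨T, hT, hTfin⟩ := α.supportLocallyFiniteWithinDomain' x trivial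
    obtain ⟨W, hWT, hW, hxW⟩ := mem_nhds_iff.mp hT
    exact hTfin.subset fun ξ ⟨hξ, hsp⟩ => ⟨hWT (hsp.mem_open hW hxW), hξ⟩
  refine ⟨{ξ // α ξ ≠ 0}, Subtype.val, fun i => X.residue i.1 (g i.1) ^ α i.1,
    fun i => by_contra fun hne => i.2 (hα i.1 hne), fun i => zpow_ne_zero _ (hg i.1), fun x => ?_, fun x => ?_⟩
  · obtain ⟨T, hT, hTfin⟩ := α.supportLocallyFiniteWithinDomain' x trivial
    obtain ⟨W, hWT, hW, hxW⟩ := mem_nhds_iff.mp hT
    refine ⟨W, hW, hxW, (hTfin.preimage (f := Subtype.val) Subtype.val_injective.injOn).subset ?_⟩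
    rintro i ⟨y, hy, hyW⟩
    exact ⟨hWT ((specializes_iff_mem_closure.mpr hy).mem_open hW hyW), i.2⟩
  · have hsupp : ∀ u : (ξ : X) → Cyc.secFibre L ξ,
        (Function.support fun ξ => α ξ * Cyc.secDivFun δ L ξ (u ξ) x).Finite := fun u =>
      (hfin x).subset fun ξ hξ => ⟨left_ne_zero_of_mul hξ, by
        have h2 := right_ne_zero_of_mul hξ
        simp only [Cyc.secDivFun] at h2
        split_ifs at h2 with h
        · exact h.1
        · exact absurd rfl h2⟩
    show γ₁ x - γ₂ x = _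
    rw [h₁, h₂, Cyc.c1CapFun, Cyc.c1CapFun, ← finsum_sub_distrib (hsupp _) (hsupp t)]
    simp only [← mul_sub, key, hpow]
    rw [finsum_subtype_eq_finsum_cond (p := fun ξ => α ξ ≠ 0)
      (f := fun ξ => α ξ * Cyc.divFun δ ξ (X.residue ξ (g ξ)) x)]
    refine finsum_congr fun ξ => ?_
    by_cases hξ : α ξ = 0
    · simp [hξ]
    · exact (finsum_eq_if (p := α ξ ≠ 0)).trans (if_pos hξ) |>.symm


end Groth.Agent.S6456
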