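import Groth.Statements.S6455
import Groth.Agent.S6456
import Groth.Agent.InvGlue.Main
import Groth.Agent.CycDiv.Basic
-- import your own Groth.Agent.* helpers here

set_option autoImplicit false
universe u
open CategoryTheory AlgebraicGeometry
open Cyc

namespace Groth.Agent.S6455

/-- The unit section is a basis of the structure module. -/
theorem isBasis_one (X : Scheme.{u}) :
    InvBasic.IsBasis (Coh.structureModule X) (U := ⊤) (show Γ(Coh.structureModule X, ⊤) from (1 : Γ(X, ⊤))) := by
  intro W h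
  have h1 : (X.presheaf.map (homOfLE h).op (1 : Γ(X, ⊤)) : Γ(X, W)) = 1 := map_one _
  refine ⟨fun a b hab => ?_, fun b => ⟨b, ?_⟩⟩
  · have : a * X.presheaf.map (homOfLE h).op (1 : Γ(X, ⊤)) = b * X.presheaf.map (homOfLE h).op (1 : Γ(X, ⊤)) := hab
    rwa [h1, mul_one, mul_one] at this
  · show (show Γ(X, W) from b) * X.presheaf.map (homOfLE h).op (1 : Γ(X, ⊤)) = b
    rw [h1, mul_one]

/-- c_1(O_X) ∩ α = 0 in CH_k(X) for every (k + 1)-cycle α: computed with any nonzero rational sections
of the structure sheaf, the k-cycle c_1(O_X) ∩ α is rationally equivalent to zero. Here L(ξ) =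
L_ξ/𝔪_ξ L_ξ is the space of rational sections of L on the closure of ξ, div_{L|W}(s) and c_1(L) ∩ α
are computed as coefficient functions from chosen nonzero rational sections (Cyc.secDivFun,
Cyc.c1CapFun), and results are compared up to rational equivalence for any cycles with those
coefficients. A pair (X, δ) with Cyc.IsSetup plays the role of a scheme locally of finite type over
the base (S, δ) (X locally Noetherian with universally catenary local rings, δ a dimension
function). -/
theorem result (X : Scheme.{u}) (δ : X → ℤ) (hX : Cyc.IsSetup X δ) (k : ℤ) (α : AlgebraicCycle X ℤ) (hα : α ∈ Cyc.Zk X δ (k + 1)) (s : (ξ : X) → Cyc.secFibre (Coh.structureModule X) ξ) (hs : ∀ ξ, s ξ ≠ 0) (γ : AlgebraicCycle X ℤ) (hγ : ⇑γ = Cyc.c1CapFun δ (Coh.structureModule X) ⇑α s) : Cyc.RatEquivZero δ k γ := by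
  classical
  let L := Coh.structureModule X
  let one' : Γ(L, ⊤) := (1 : Γ(X, ⊤))
  have hL : PicF.IsInvertible L := Groth.Agent.InvGlue.isInvertible_unit X
  let e : (ξ : X) → Cyc.secFibre L ξ := fun ξ => Submodule.Quotient.mk (L.presheaf.germ ⊤ ξ trivial one')
  have hb := isBasis_one X
  have he : ∀ ξ, e ξ ≠ 0 := by
    intro ξ h0
    refine hs ξ ?_
    obtain ⟨m, hm⟩ := Submodule.Quotient.mk_surjective _ (s ξ)
    obtain ⟨c, hc⟩ := (hb.stalk_bijective (x := ξ) trivial).2 m
    rw [← hm, ← hc, Submodule.Quotient.mk_smul]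
    exact (congrArg (c • ·) h0).trans (smul_zero c)
  have hzero : ∀ ξ x, Cyc.secDivFun δ L ξ (e ξ) x = 0 := by
    intro ξ x
    simp only [Cyc.secDivFun]
    split_ifs with h
    · obtain ⟨ht, hfac⟩ := S6456.fibre_facts hL h.1
      obtain ⟨hex, huniq⟩ := hfac _ (Classical.choose_spec ht)
      simp only [Cyc.secOrdAt, dif_pos ht, dif_pos (hex _)]
      have e1 := Classical.choose_spec (hex (e ξ))
      generalize Classical.choose (hex (e ξ)) = φ at e1 ⊢
      -- the chosen generator is a unit multiple of one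
      have hspan := Classical.choose_spec ht
      generalize Classical.choose ht = t at e1 hspan huniq ⊢
      obtain ⟨a, ha⟩ := Submodule.mem_span_singleton.mp
        (hspan ▸ Submodule.mem_top : L.presheaf.germ ⊤ x trivial one' ∈ Submodule.span (X.presheaf.stalk x) {t})
      obtain ⟨b, hb'⟩ := (hb.stalk_bijective (x := x) trivial).2 t
      have hab : a * b = 1 := (hb.stalk_bijective (x := x) trivial).1 (by
        show (a * b) • L.presheaf.germ ⊤ x trivial one' = (1 : X.presheaf.stalk x) • L.presheaf.germ ⊤ x trivial one'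
        rw [mul_smul, one_smul]
        exact (congrArg (a • ·) hb').trans ha)
      have e2 : e ξ = X.presheaf.stalkSpecializes h.1 a •
          (Submodule.Quotient.mk (L.presheaf.stalkSpecializes h.1 t) : Cyc.secFibre L ξ) := by
        rw [← Submodule.Quotient.mk_smul, ← S6456.spec_smul, ha, TopCat.Presheaf.germ_stalkSpecializes_apply]
      have h0 := huniq (φ - X.presheaf.stalkSpecializes h.1 a) (by rw [sub_smul, ← e1, ← e2, sub_self])
      rw [map_sub, sub_eq_zero] at h0
      rw [h0, show X.residue ξ (X.presheaf.stalkSpecializes h.1 a) = Cyc.specMap x ξ h.1 a from rfl,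
        ← div_one (Cyc.specMap x ξ h.1 a), ← map_one (Cyc.specMap x ξ h.1),
        CycDiv.ordAt_div_eq_zero h.1 (isUnit_of_dvd_one ⟨b, hab.symm⟩) isUnit_one]
    · rfl
  choose g hg hgw using fun ξ => S6456.exists_ratio hL (hs ξ) (he ξ)
  have key : ∀ ξ x, Cyc.secDivFun δ L ξ (s ξ) x = Cyc.divFun δ ξ (X.residue ξ (g ξ)) x := by
    intro ξ x
    have h2 := hzero ξ x
    simp only [Cyc.secDivFun, Cyc.divFun] at h2 ⊢
    split_ifs at h2 ⊢ with h
    · rw [hgw, S6456.secOrdAt_smul hL h.1 _ (hg ξ) (he ξ), h2, add_zero]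
    · rfl
  have hpow : ∀ ξ x, Cyc.divFun δ ξ (X.residue ξ (g ξ) ^ α ξ) x =
      α ξ * Cyc.divFun δ ξ (X.residue ξ (g ξ)) x := by
    intro ξ x
    simp only [Cyc.divFun]
    split_ifs with h
    · exact S6456.ordAt_zpow h.1 (hg ξ) _
    · exact (mul_zero _).symm
  refine ⟨{ξ // α ξ ≠ 0}, Subtype.val, fun i => X.residue i.1 (g i.1) ^ α i.1,
    fun i => by_contra fun hne => i.2 (hα i.1 hne), fun i => zpow_ne_zero _ (hg i.1), fun x => ?_, fun x => ?_⟩
  · obtain ⟨T, hT, hTfin⟩ := α.supportLocallyFiniteWithinDomain' x trivial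
    obtain ⟨W, hWT, hW, hxW⟩ := mem_nhds_iff.mp hT
    refine ⟨W, hW, hxW, (hTfin.preimage (f := Subtype.val) Subtype.val_injective.injOn).subset ?_⟩
    rintro i ⟨y, hy, hyW⟩
    exact ⟨hWT ((specializes_iff_mem_closure.mpr hy).mem_open hW hyW), i.2⟩
  · rw [hγ, Cyc.c1CapFun]
    simp only [L] at key
    simp only [key, hpow]
    rw [finsum_subtype_eq_finsum_cond (p := fun ξ => α ξ ≠ 0)
      (f := fun ξ => α ξ * Cyc.divFun δ ξ (X.residue ξ (g ξ)) x)]
    refine finsum_congr fun ξ => ?_
    by_cases hξ : α ξ = 0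
    · simp [hξ]
    · exact (finsum_eq_if (p := α ξ ≠ 0)).trans (if_pos hξ) |>.symm


end Groth.Agent.S6455
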