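import Groth.Statements.S6459
import Groth.Agent.DimFunDim.Basic

set_option autoImplicit false
universe u
open CategoryTheory AlgebraicGeometry
open Cyc

namespace Groth.Agent.S6459

/-- (b) ⇔ (c): let X be integral with generic point η and Z ⊂ X an integral closed subscheme with
generic point ξ. Then Z has codimension 1 in X (the local ring O_{X,ξ} is one-dimensional; Z is a
prime divisor) if and only if dim_δ(Z) = dim_δ(X) − 1. Here a pair (X, δ) with Cyc.IsSetup plays the
role of a scheme locally of finite type over the base (S, δ) (X locally Noetherian with universally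
catenary local rings, δ a dimension function). -/
theorem result (X : Scheme.{u}) [IsIntegral X] (δ : X → ℤ) (hX : Cyc.IsSetup X δ) (ξ : X) : ringKrullDim ↑(X.presheaf.stalk ξ) = 1 ↔ δ ξ = δ (genericPoint X) - 1 := by
  have h : genericPoint X ⤳ ξ := (genericPoint_spec X).specializes (Set.mem_univ _)
  have hinj : Function.Injective (Cyc.specMap ξ (genericPoint X) h) := by
    show Function.Injective ((X.presheaf.stalkSpecializes h ≫ X.residue (genericPoint X)).hom)
    rw [CommRingCat.hom_comp, RingHom.coe_comp]
    exact (RingHom.injective ((X.residue (genericPoint X)).hom : X.functionField →+* _)).comp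
      (IsFractionRing.injective (X.presheaf.stalk ξ) X.functionField)
  have e : ↑(X.presheaf.stalk ξ) ≃+* Cyc.LocQuot ξ (genericPoint X) h :=
    (RingEquiv.quotientBot _).symm.trans
      (Ideal.quotEquivOfEq ((RingHom.injective_iff_ker_eq_bot _).1 hinj).symm)
  have hd := Groth.Agent.DimFunDim.ringKrullDim_locQuot hX.2.2 h
  rw [← ringKrullDim_eq_of_ringEquiv e] at hd
  have hle := Groth.Agent.DimFunDim.le_of hX.2.2 h
  rw [hd]
  constructor
  · intro h1
    have : (δ (genericPoint X) - δ ξ).toNat = 1 := by exact_mod_cast h1
    omega
  · intro h1
    rw [h1, show (δ (genericPoint X) - (δ (genericPoint X) - 1)).toNat = 1 by omega]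
    norm_num

end Groth.Agent.S6459
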