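import Groth.Statements.S6460
import Mathlib

set_option autoImplicit false
universe u
open CategoryTheory AlgebraicGeometry
open Cyc

namespace Groth.Agent.S6460

/-- (3) ⇒ (1): suppose that for every x ∈ X there is an integer n_x with δ(ξ) = n_x for every generic
point ξ of an irreducible component of X containing x. Then X decomposes into open and closed
subschemes X_n (n ∈ ℤ) such that every irreducible component of X_n has δ-dimension n; stated as the
existence of a locally constant c : X → ℤ with δ(ξ) = c(ξ) for every point ξ that is maximal under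
specialization. (The converse implications are immediate and not stated.) Here a pair (X, δ) with
Cyc.IsSetup plays the role of a scheme locally of finite type over the base (S, δ) (X locally
Noetherian with universally catenary local rings, δ a dimension function). -/
theorem result (X : Scheme.{u}) (δ : X → ℤ) (hX : Cyc.IsSetup X δ) (h3 : ∀ x : X, ∃ n : ℤ, ∀ ξ : X, (∀ ξ' : X, ξ' ⤳ ξ → ξ' = ξ) → ξ ⤳ x → δ ξ = n) : ∃ c : X → ℤ, IsLocallyConstant c ∧ ∀ ξ : X, (∀ ξ' : X, ξ' ⤳ ξ → ξ' = ξ) → δ ξ = c ξ := by
  classical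
  haveI := hX.1
  choose c hc using h3
  have hexg : ∀ y : X, ∃ ξ : X, (∀ ξ' : X, ξ' ⤳ ξ → ξ' = ξ) ∧ ξ ⤳ y := fun y => by
    obtain ⟨g, hg⟩ := QuasiSober.sober (isIrreducible_irreducibleComponent (x := y)) isClosed_irreducibleComponent
    refine ⟨g, fun ξ' h => ?_, hg.specializes mem_irreducibleComponent⟩
    have hle : irreducibleComponent y ⊆ closure {ξ'} := by
      rw [← hg.def]
      exact h.closure_subset
    have he : closure {ξ'} = irreducibleComponent y :=
      Set.Subset.antisymm (irreducibleComponent_mem_irreducibleComponents y |>.2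
        (isIrreducible_singleton.closure) hle) hle
    exact IsGenericPoint.eq he hg
  refine ⟨c, ?_, fun ξ hξ => hc ξ ξ hξ specializes_rfl⟩
  rw [IsLocallyConstant.iff_exists_open]
  intro x
  obtain ⟨_, ⟨U, hU, rfl⟩, hxU, -⟩ := X.isBasis_affineOpens.exists_subset_of_mem_open (Set.mem_univ x) isOpen_univ
  haveI : IsNoetherianRing Γ(X, U) := IsLocallyNoetherian.component_noetherian ⟨U, hU⟩
  haveI : TopologicalSpace.NoetherianSpace U := noetherianSpace_of_isAffineOpen U hU
  haveI hqs : QuasiSober U := U.2.isOpenEmbedding_subtypeVal.quasiSober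
  let T : Set X := {ξ | ξ ∈ U ∧ ∀ ξ' : X, ξ' ⤳ ξ → ξ' = ξ}
  have hT : T.Finite := by
    let gen : irreducibleComponents U → X := fun C =>
      ((QuasiSober.sober (self := hqs) C.2.1 (isClosed_of_mem_irreducibleComponents _ C.2)).choose : U).1
    haveI := (TopologicalSpace.NoetherianSpace.finite_irreducibleComponents (α := U)).to_subtype
    refine (Set.finite_range gen).subset fun ξ hξ => ?_
    refine ⟨⟨irreducibleComponent (⟨ξ, hξ.1⟩ : U), irreducibleComponent_mem_irreducibleComponents _⟩, hξ.2 _ ?_⟩
    exact ((QuasiSober.sober (self := hqs) isIrreducible_irreducibleComponent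
      isClosed_irreducibleComponent).choose_spec.specializes mem_irreducibleComponent).map continuous_subtype_val
  refine ⟨(U : Set X) ∩ (⋃ ξ ∈ {ξ ∈ T | ¬ ξ ⤳ x}, closure {ξ})ᶜ, U.2.inter
    ((hT.subset fun ξ h => h.1).isClosed_biUnion fun ξ _ => isClosed_closure).isOpen_compl, ⟨hxU, ?_⟩, ?_⟩
  · simp only [Set.mem_compl_iff, Set.mem_iUnion, not_exists]
    exact fun ξ hξ h => hξ.2 (specializes_iff_mem_closure.2 h)
  · rintro y ⟨hyU, hyZ⟩
    obtain ⟨g, hg, hgy⟩ := hexg y
    have hgx : g ⤳ x := by
      by_contra h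
      exact hyZ (Set.mem_biUnion (show g ∈ {ξ ∈ T | ¬ ξ ⤳ x} from ⟨⟨hgy.mem_open U.2 hyU, hg⟩, h⟩)
        (specializes_iff_mem_closure.1 hgy))
    rw [← hc y g hg hgy, hc x g hg hgx]

end Groth.Agent.S6460
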