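import Groth.Statements.S6461
import Groth.Agent.CompLocFin.Basic
import Groth.Agent.DimFunDim.Basic
import Groth.Agent.GeomUnib.StalkLength
import Groth.Agent.Catenary.CM
-- import your own Groth.Agent.* helpers here

set_option autoImplicit false
universe u
open CategoryTheory AlgebraicGeometry
open Cyc

namespace Groth.Agent.S6461

/-- If all local rings of X are Cohen–Macaulay then every x ∈ X has an open neighbourhood U and an
integer n with δ(ξ) = n for every generic point ξ of an irreducible component of U (every point of U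
maximal under specialization). Here a pair (X, δ) with Cyc.IsSetup plays the role of a scheme
locally of finite type over the base (S, δ) (X locally Noetherian with universally catenary local
rings, δ a dimension function). -/
theorem result (X : Scheme.{u}) (δ : X → ℤ) (hX : Cyc.IsSetup X δ) (hCM : ∀ x : X, LocCoh.IsCohenMacaulayLocalRing ↑(X.presheaf.stalk x)) (x : X) : ∃ (U : X.Opens) (n : ℤ), x ∈ U ∧ ∀ ξ : X, ξ ∈ U → (∀ ξ' : X, ξ' ⤳ ξ → ξ' = ξ) → δ ξ = n := by
    haveI := hX.1
    have key : ∀ (ξ : X) (h : ξ ⤳ x), (∀ ξ' : X, ξ' ⤳ ξ → ξ' = ξ) → δ ξ = δ x + ((ringKrullDim (X.presheaf.stalk x)).unbotD 0).toNat := by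
      intro ξ h hmax
      haveI := hCM x
      have hprime : (RingHom.ker (Cyc.specMap x ξ h)).IsPrime := RingHom.ker_isPrime _
      have hmin : RingHom.ker (Cyc.specMap x ξ h) ∈ minimalPrimes (X.presheaf.stalk x) := by
        refine ⟨⟨hprime, bot_le⟩, fun J hJ hle => ?_⟩
        have hg : (GeomUnib.genPrime h).asIdeal = RingHom.ker (Cyc.specMap x ξ h) := by
          show Ideal.comap _ (IsLocalRing.maximalIdeal _) = _
          rw [← IsLocalRing.ker_residue, RingHom.comap_ker]
          rfl
        have hs : X.fromSpecStalk x ⟨J, hJ.1⟩ ⤳ X.fromSpecStalk x (GeomUnib.genPrime h) :=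
          GeomUnib.specializes_of_prime_le (show J ≤ (GeomUnib.genPrime h).asIdeal from hg.symm ▸ hle)
        rw [GeomUnib.fromSpecStalk_genPrime] at hs
        have e := (X.fromSpecStalk x).isEmbedding.injective ((hmax _ hs).trans (GeomUnib.fromSpecStalk_genPrime h).symm)
        rw [← hg, ← congrArg PrimeSpectrum.asIdeal e]
      have h1 := DimFunDim.ringKrullDim_locQuot hX.2.2 h
      rw [show ringKrullDim (Cyc.LocQuot x ξ h) = ringKrullDim (X.presheaf.stalk x) from
        (Catenary.heightCat_of_cm_local _).equidim _ hmin] at h1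
      rw [h1]
      have := DimFunDim.le_of hX.2.2 h
      simp
      omega
    obtain ⟨t, ht, hfin⟩ := CompLocFin.locallyFinite_irreducibleComponents X Set.univ x
    let bad : Set (irreducibleComponents (Set.univ : Set X)) :=
      {T | ((((↑) '' (T.1 : Set (Set.univ : Set X))) : Set X) ∩ t).Nonempty ∧ x ∉ (((↑) '' (T.1 : Set (Set.univ : Set X))) : Set X)}
    have hbad : IsClosed (⋃ T ∈ bad, (((↑) '' (T.1 : Set (Set.univ : Set X))) : Set X)) :=
      Set.Finite.isClosed_biUnion (hfin.subset fun T hT => hT.1)
        fun T _ => isClosed_univ.isClosedEmbedding_subtypeVal.isClosedMap _ (isClosed_of_mem_irreducibleComponents _ T.2)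
    refine ⟨⟨interior t \ ⋃ T ∈ bad, (((↑) '' (T.1 : Set (Set.univ : Set X))) : Set X), isOpen_interior.sdiff hbad⟩,
      δ x + ((ringKrullDim (X.presheaf.stalk x)).unbotD 0).toNat, ⟨mem_interior_iff_mem_nhds.2 ht, ?_⟩, fun ξ hξ hmax => ?_⟩
    · simp only [Set.mem_iUnion, not_exists]
      exact fun T hT => hT.2
    · refine key ξ ?_ hmax
      let ξ' : (Set.univ : Set X) := ⟨ξ, trivial⟩
      have hT : irreducibleComponent ξ' ∈ irreducibleComponents (Set.univ : Set X) := irreducibleComponent_mem_irreducibleComponents ξ'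
      have hx : x ∈ (((↑) '' irreducibleComponent ξ') : Set X) := by
        by_contra hx
        refine hξ.2 (Set.mem_biUnion (x := ⟨_, hT⟩) ⟨⟨ξ, ⟨ξ', mem_irreducibleComponent, rfl⟩, interior_subset hξ.1⟩, hx⟩ ?_)
        exact ⟨ξ', mem_irreducibleComponent, rfl⟩
      have hirr : IsIrreducible (((↑) '' irreducibleComponent ξ') : Set X) :=
        isIrreducible_irreducibleComponent.image _ continuous_subtype_val.continuousOn
      have hcl : IsClosed (((↑) '' irreducibleComponent ξ') : Set X) :=
        isClosed_univ.isClosedEmbedding_subtypeVal.isClosedMap _ isClosed_irreducibleComponent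
      obtain ⟨η, hη⟩ := QuasiSober.sober hirr hcl
      have e : η = ξ := hmax η (hη.specializes ⟨ξ', mem_irreducibleComponent, rfl⟩)
      exact e ▸ hη.specializes hx

end Groth.Agent.S6461
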