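import Groth.Statements.S6464
import Mathlib.RingTheory.Length

set_option autoImplicit false
universe u v
open CycAlg

namespace Groth.Agent.S6464

/-- Let (M, N, φ, ψ) be a 2-periodic complex over a ring R with M and N of finite length. Then its
cohomology modules have finite length and e_R(M, N, φ, ψ) = length_R(M) − length_R(N). (The case M =
N, where the conclusion reads e_R(M, φ, ψ) = 0, is the special case and is not restated.) -/
theorem result {R : Type u} [CommRing R] {M N : Type v} [AddCommGroup M] [Module R M] [AddCommGroup N] [Module R N] (φ : M →ₗ[R] N) (ψ : N →ₗ[R] M) (h : CycAlg.IsPeriodic φ ψ) (hM : Module.length R M < ⊤) (hN : Module.length R N < ⊤) : CycAlg.FinCoh R φ ψ ∧ CycAlg.herbrand R φ ψ = ((Module.length R M).toNat : ℤ) - ((Module.length R N).toNat : ℤ) := by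
  have hφ : LinearMap.range ψ ≤ LinearMap.ker φ := LinearMap.range_le_ker_iff.mpr h.1
  have hψ : LinearMap.range φ ≤ LinearMap.ker ψ := LinearMap.range_le_ker_iff.mpr h.2
  have split : ∀ {X Y : Type v} [AddCommGroup X] [Module R X] [AddCommGroup Y] [Module R Y]
      (f : X →ₗ[R] Y) (P : Submodule R X), P ≤ LinearMap.ker f →
      Module.length R X = Module.length R P +
        Module.length R (↥(LinearMap.ker f) ⧸ P.submoduleOf (LinearMap.ker f)) +
          Module.length R (LinearMap.range f) := by
    intro X Y _ _ _ _ f P hP
    rw [Module.length_eq_add_of_exact (LinearMap.ker f).subtype f.rangeRestrict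
      (Submodule.injective_subtype _) f.surjective_rangeRestrict
      (by rw [LinearMap.exact_iff, LinearMap.ker_rangeRestrict, Submodule.range_subtype]),
      Module.length_eq_add_of_exact (P.submoduleOf (LinearMap.ker f)).subtype
        (P.submoduleOf (LinearMap.ker f)).mkQ (Submodule.injective_subtype _)
        (Submodule.mkQ_surjective _) (LinearMap.exact_subtype_mkQ _),
      (Submodule.submoduleOfEquivOfLe hP).length_eq]
  have eM := split φ _ hφ
  have eN := split ψ _ hψ
  obtain ⟨m, em⟩ := ENat.ne_top_iff_exists.mp hM.ne
  obtain ⟨n, en⟩ := ENat.ne_top_iff_exists.mp hN.ne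
  rw [← em] at eM
  rw [← en] at eN
  unfold CycAlg.FinCoh CycAlg.herbrand
  rw [← em, ← en]
  generalize Module.length R (LinearMap.range ψ) = a at *
  generalize Module.length R (LinearMap.range φ) = b at *
  generalize Module.length R (CycAlg.perH φ ψ) = c at *
  generalize Module.length R (CycAlg.perH ψ φ) = d at *
  cases a with
  | top => simp at eM
  | coe a =>
  cases b with
  | top => simp at eM
  | coe b =>
  cases c with
  | top => simp at eM
  | coe c =>
  cases d with
  | top => simp at eN
  | coe d =>
  norm_cast at eM eN
  refine ⟨⟨ENat.natCast_lt_top _, ENat.natCast_lt_top _⟩, ?_⟩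
  simp only [ENat.toNat_coe]
  push_cast [eM, eN]
  ring

end Groth.Agent.S6464
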