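import Groth.Statements.S6472
-- import your own Groth.Agent.* helpers here
import Groth.Agent.AdjForm.Apps
import Groth.Agent.AdjForm.SmoothDim

set_option autoImplicit false
universe u
open CategoryTheory CategoryTheory.Limits AlgebraicGeometry
open IntMult

namespace Groth.Agent.S6472

/-- Let X be a nonsingular variety of dimension n over the algebraically closed field K. Then Δ : X → X
×_K X, the diagonal, is regular of codimension n as an immersion (RegImm.IsRegularImmersionOfCodim
of kind regular: an immersion which, around every point, in an affine open where it is closed, is
cut out by a regular sequence of length n). Nonsingular variety: X → Spec K smooth, separated,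
quasi-compact, X integral; n = Krull dimension of X. -/
theorem result (K : Type u) [Field K] [IsAlgClosed K] (X : Scheme.{u}) (f : X ⟶ Spec (CommRingCat.of K)) [Smooth f] [IsSeparated f] [QuasiCompact f] [IsIntegral X] (n : ℕ) (hn : topologicalKrullDim X = n) : RegImm.IsRegularImmersionOfCodim RegImm.Kind.regular n (pullback.diagonal f) := by
  haveI := AdjForm.smoothOfRelativeDimension_of_irreducible f n hn
  haveI : IsLocallyNoetherian X := LocallyOfFiniteType.isLocallyNoetherian f
  haveI : SmoothOfRelativeDimension n (pullback.fst f f) :=
    MorphismProperty.IsStableUnderBaseChange.of_isPullback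
      (self := smoothOfRelativeDimension_isStableUnderBaseChange n) (IsPullback.of_hasPullback f f).flip ‹_›
  haveI : SmoothOfRelativeDimension (n + n) (pullback.fst f f ≫ f) := inferInstance
  haveI : Smooth (pullback.fst f f ≫ f) := inferInstance
  haveI : IsLocallyNoetherian (pullback f f) := LocallyOfFiniteType.isLocallyNoetherian (pullback.fst f f ≫ f)
  haveI : IsClosedImmersion (pullback.diagonal f) := IsSeparated.isClosedImmersion_diagonal
  have hι : pullback.diagonal f ≫ (pullback.fst f f ≫ f) = f := by rw [pullback.diagonal_fst_assoc]
  have hr := AdjForm.isRegularImmersionOfCodim_sub (pullback.fst f f ≫ f) f (pullback.diagonal f) hι (n + n) n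
    (AdjForm.isRegularImmersion_regular (pullback.fst f f ≫ f) f (pullback.diagonal f) hι)
  rwa [Nat.add_sub_cancel_left] at hr

end Groth.Agent.S6472
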