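import Groth.Statements.S6473
import Groth.Agent.RegSeq.Imm
import Groth.Agent.PerfMor.Surj
import Groth.Agent.DimTrdeg.OverField
import Groth.Agent.GeomUnib.DimFormula
import Mathlib.RingTheory.Ideal.KrullsHeightTheorem

set_option autoImplicit false
universe u
open CategoryTheory CategoryTheory.Limits AlgebraicGeometry
open IntMult

namespace Groth.Agent.S6473

open Groth.Agent.RegSeq

/-- Let f : X → Y be a morphism of varieties over K which is a regular immersion of codimension c, and Z
⊂ Y a closed subvariety of dimension d. Then each irreducible component T of f⁻¹(Z) = X ×_Y Z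
satisfies dim T ≥ d − c; stated as d ≤ dim T + c. Varieties: integral, separated, of finite type
over the algebraically closed field K. (The published statement takes f to be a closed immersion,
regular immersions being closed there; this row allows any immersion cut out, locally on Y where it
is closed, by a regular sequence of length c, the bound being local on Y. The published statement
also has a second part, for local complete intersection morphisms of a given relative dimension,
which this row does not state.) -/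
theorem result (K : Type u) [Field K] [IsAlgClosed K] (X Y Z : Scheme.{u}) (gX : X ⟶ Spec (CommRingCat.of K)) (gY : Y ⟶ Spec (CommRingCat.of K)) [IsSeparated gX] [LocallyOfFiniteType gX] [QuasiCompact gX] [IsIntegral X] [IsSeparated gY] [LocallyOfFiniteType gY] [QuasiCompact gY] [IsIntegral Y] (f : X ⟶ Y) (hf : f ≫ gY = gX) (c : ℕ) (hreg : RegImm.IsRegularImmersionOfCodim RegImm.Kind.regular c f) (ι : Z ⟶ Y) [IsClosedImmersion ι] [IsIntegral Z] (d : ℕ) (hd : topologicalKrullDim Z = d) (T : Set ↥(pullback f ι)) (hT : T ∈ irreducibleComponents ↥(pullback f ι)) : ((d : ℕ) : WithBot ℕ∞) ≤ topologicalKrullDim ↥T + c := by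
  classical
  obtain ⟨t, ht⟩ := hT.1.nonempty
  obtain ⟨U, hU, hcl, rs, hlen, -, hker⟩ := hreg.2 (pullback.fst f ι t)
  haveI := hcl
  have hsq : IsPullback (pullback.fst f ι) (pullback.snd f ι) f ι := IsPullback.of_hasPullback f ι
  let W : Z.Opens := ι ⁻¹ᵁ U.1
  have hW : IsAffineOpen W := U.2.preimage ι
  have htW : pullback.snd f ι t ∈ W := by
    show ι (pullback.snd f ι t) ∈ U.1
    rw [show ι (pullback.snd f ι t) = f (pullback.fst f ι t) from congr($(hsq.w) t).symm]
    exact hU
  obtain ⟨hcl', hker'⟩ := restrict_baseChange hsq U.2 hW (le_refl W)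
  haveI := hcl'
  obtain ⟨hV, hs⟩ := Groth.Agent.PerfMor.surjective_app_of_restrict (pullback.snd f ι) hW
  let φ := ((pullback.snd f ι).app W).hom
  rw [hker, Ideal.map_ofList] at hker'
  let g : List Γ(Z, W) := rs.map (ι.appLE U.1 W le_rfl).hom
  -- the component in the affine chart
  have hne : (T ∩ Set.range hV.fromSpec).Nonempty := ⟨t, ht, by rw [hV.range_fromSpec]; exact htW⟩
  have hT' := preimage_mem_irreducibleComponents hT hV.fromSpec.isOpenEmbedding hne
  replace hT' : hV.fromSpec ⁻¹' T ∈ PrimeSpectrum.zeroLocus ∘ (↑) '' minimalPrimes Γ(pullback f ι, pullback.snd f ι ⁻¹ᵁ W) :=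
    (PrimeSpectrum.zeroLocus_minimalPrimes (R := Γ(pullback f ι, pullback.snd f ι ⁻¹ᵁ W))).ge hT'
  obtain ⟨q', hq', hq'T⟩ := hT'
  haveI : q'.IsPrime := hq'.1.1
  let q := q'.comap φ
  have hq : q ∈ (Ideal.ofList g).minimalPrimes := by
    rw [← hker']
    have h := Ideal.comap_minimalPrimes_eq_of_surjective hs (⊥ : Ideal Γ(pullback f ι, pullback.snd f ι ⁻¹ᵁ W))
    rw [← RingHom.ker_eq_comap_bot] at h
    exact h.ge ⟨q', hq', rfl⟩
  have hht : q.height ≤ c := by
    haveI : IsNoetherianRing Γ(Z, W) := by
      haveI : IsLocallyNoetherian Z := LocallyOfFiniteType.isLocallyNoetherian (ι ≫ gY)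
      exact IsLocallyNoetherian.component_noetherian ⟨W, hW⟩
    have hset : Ideal.ofList g = Ideal.span (g.toFinset : Set Γ(Z, W)) := by
      rw [List.coe_toFinset]
    rw [hset] at hq
    refine le_trans (Ideal.height_le_card_of_mem_minimalPrimes_span_finset hq) ?_
    exact_mod_cast le_trans (List.toFinset_card_le g) (by simp [g, hlen])
  -- the affine domain
  letI : Z.Over (Spec (CommRingCat.of K)) := ⟨ι ≫ gY⟩
  haveI : LocallyOfFiniteType (Z ↘ Spec (CommRingCat.of K)) := inferInstanceAs (LocallyOfFiniteType (ι ≫ gY))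
  haveI : Nonempty W := ⟨⟨_, htW⟩⟩
  let α : K →+* Γ(Z, W) :=
    ((ι ≫ gY).appLE ⊤ W le_top).hom.comp (Scheme.ΓSpecIso (CommRingCat.of K)).inv.hom
  have hα : α.FiniteType := RingHom.FiniteType.comp
    (HasRingHomProperty.appLE @LocallyOfFiniteType (ι ≫ gY) inferInstance ⟨⊤, isAffineOpen_top _⟩ ⟨W, hW⟩ le_top)
    (RingHom.FiniteType.of_surjective _ (ConcreteCategory.bijective_of_isIso (Scheme.ΓSpecIso (CommRingCat.of K)).inv).2)
  letI := α.toAlgebra
  haveI : Algebra.FiniteType K Γ(Z, W) := hα
  have hdimW : ringKrullDim Γ(Z, W) = d := by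
    rw [← hd, ← Groth.Agent.DimTrdeg.dim_open_eq K Z W ⟨_, htW⟩, ← PrimeSpectrum.topologicalKrullDim_eq_ringKrullDim]
    exact hW.isoSpec.hom.homeomorph.isHomeomorph.topologicalKrullDim_eq.symm
  obtain ⟨s, r, hs', hr, l, hl, hsl⟩ := Groth.Agent.GeomUnib.exists_series_of_domain K Γ(Z, W) q
  have hlq : (l.length : ℕ∞) ≤ q.height := by
    haveI : l.last.asIdeal.IsPrime := l.last.2
    rw [← hl, PrimeSpectrum.height_eq_orderHeight]
    exact Order.length_le_height_last (p := l)
  have hlc : l.length ≤ c := by exact_mod_cast hlq.trans hht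
  have hdim : ringKrullDim (Γ(Z, W) ⧸ q) ≤ topologicalKrullDim T := by
    let e : (Γ(Z, W) ⧸ q) ≃+* Γ(pullback f ι, pullback.snd f ι ⁻¹ᵁ W) ⧸ q' :=
      (Ideal.quotEquivOfEq (by rw [← RingHom.comap_ker, Ideal.mk_ker])).trans
        (RingHom.quotientKerEquivOfSurjective (f := (Ideal.Quotient.mk q').comp φ)
          (Ideal.Quotient.mk_surjective.comp hs))
    rw [ringKrullDim_eq_of_ringEquiv e, ← PrimeSpectrum.topologicalKrullDim_eq_ringKrullDim]
    have hmem : ∀ x, hV.fromSpec (PrimeSpectrum.comap (Ideal.Quotient.mk q') x) ∈ T := fun x => by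
      have h1 : PrimeSpectrum.comap (Ideal.Quotient.mk q') x ∈ PrimeSpectrum.zeroLocus (q' : Set _) := by
        intro a ha
        show Ideal.Quotient.mk q' a ∈ x.asIdeal
        rw [Ideal.Quotient.eq_zero_iff_mem.2 ha]
        exact zero_mem _
      exact hq'T.le h1
    refine Topology.IsInducing.topologicalKrullDim_le (f := fun x => (⟨_, hmem x⟩ : T)) ?_
    refine Topology.IsInducing.of_comp ?_ continuous_subtype_val ?_
    · exact Continuous.subtype_mk (hV.fromSpec.isOpenEmbedding.continuous.comp (PrimeSpectrum.continuous_comap _)) _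
    · exact hV.fromSpec.isOpenEmbedding.isInducing.comp
        (PrimeSpectrum.isClosedEmbedding_comap_of_surjective _ _ Ideal.Quotient.mk_surjective).isInducing
  have hds : d = s := by exact_mod_cast hdimW.symm.trans hs'
  calc ((d : ℕ) : WithBot ℕ∞) ≤ ((r + c : ℕ) : WithBot ℕ∞) := by exact_mod_cast (show d ≤ r + c by omega)
    _ = (r : WithBot ℕ∞) + c := by push_cast; rfl
    _ ≤ topologicalKrullDim T + c := add_le_add_left (hr ▸ hdim) _

end Groth.Agent.S6473
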