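import Groth.Statements.S6476
import Mathlib.RingTheory.Length
import Mathlib.RingTheory.KrullDimension.Module
import Mathlib.RingTheory.HopkinsLevitzki
import Mathlib.RingTheory.Ideal.Quotient.Noetherian
import Mathlib.RingTheory.Localization.Submodule
import Mathlib.RingTheory.Spectrum.Prime.Module

set_option autoImplicit false
universe u v
open CycAlg

namespace Groth.Agent.S6476

theorem isArtinian_of_forall_isMaximal {R : Type u} [CommRing R] [IsNoetherianRing R] {N : Type v}
    [AddCommGroup N] [Module R N] [Module.Finite R N]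
    (h : ∀ q : Ideal R, q.IsPrime → Module.annihilator R N ≤ q → q.IsMaximal) : IsArtinian R N := by
  haveI : Ring.KrullDimLE 0 (R ⧸ Module.annihilator R N) := by
    refine Ring.krullDimLE_zero_iff.mpr fun q hq => ?_
    haveI := hq
    haveI := h (q.comap (Ideal.Quotient.mk _)) inferInstance (by
      intro x hx
      rw [Ideal.mem_comap, Ideal.Quotient.eq_zero_iff_mem.mpr hx]
      exact q.zero_mem)
    rw [← Ideal.map_comap_of_surjective _ Ideal.Quotient.mk_surjective q]
    exact Ideal.IsMaximal.map_of_surjective_of_ker_le Ideal.Quotient.mk_surjective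
      (by rw [Ideal.mk_ker]; intro x hx; rw [Ideal.mem_comap, Ideal.Quotient.eq_zero_iff_mem.mpr hx]; exact q.zero_mem)
  haveI : IsArtinianRing (R ⧸ Module.annihilator R N) :=
    isArtinianRing_iff_krullDimLE_zero.mpr inferInstance
  letI := Module.quotientAnnihilator (R := R) (M := N)
  haveI : IsScalarTower R (R ⧸ Module.annihilator R N) N :=
    ⟨fun r s x => by
      obtain ⟨s, rfl⟩ := Ideal.Quotient.mk_surjective s
      exact mul_smul r s x⟩
  haveI : Module.Finite (R ⧸ Module.annihilator R N) N := Module.Finite.of_restrictScalars_finite R _ N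
  exact isArtinian_of_surjective_algebraMap (R := R ⧸ Module.annihilator R N) (M := N)
    Ideal.Quotient.mk_surjective

theorem length_lt_top {A : Type u} [CommRing A] [IsNoetherianRing A] [IsLocalRing A] {M : Type v}
    [AddCommGroup M] [Module A M] [Module.Finite A M] (hdim : Module.supportDim A M = 1)
    (φ ψ : M →ₗ[A] M) (hφ : Function.Injective φ) (hψ : Function.Injective ψ) :
    Module.length A (M ⧸ LinearMap.range (φ ∘ₗ ψ)) < ⊤ := by
  set χ := φ ∘ₗ ψ with hχ
  have hχi : Function.Injective χ := by simpa [hχ] using hφ.comp hψ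
  haveI : IsArtinian A (M ⧸ LinearMap.range χ) := by
    refine isArtinian_of_forall_isMaximal fun q hq hle => ?_
    by_contra hmax
    have hqQ : (⟨q, hq⟩ : PrimeSpectrum A) ∈ Module.support A (M ⧸ LinearMap.range χ) :=
      Module.mem_support_iff_of_finite.mpr hle
    haveI : IsArtinian (Localization.AtPrime q) (LocalizedModule q.primeCompl M) := by
      refine isArtinian_of_forall_isMaximal fun P hP hPle => ?_
      let r := P.comap (algebraMap A (Localization.AtPrime q))
      haveI hr' : r.IsPrime := Ideal.IsPrime.comap _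
      have hrq : r ≤ q := by
        intro x hx
        by_contra hxq
        exact hP.ne_top (P.eq_top_of_isUnit_mem hx
          (IsLocalization.map_units (Localization.AtPrime q) (⟨x, hxq⟩ : q.primeCompl)))
      have hr : Module.annihilator A M ≤ r := fun x hx => hPle (Module.mem_annihilator.mpr fun y => by
        induction y using LocalizedModule.induction_on with
        | _ m s =>
          rw [algebraMap_smul, LocalizedModule.smul'_mk, Module.mem_annihilator.mp hx,
            LocalizedModule.zero_mk])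
      rcases hrq.eq_or_lt with hrq | hrq
      · have : P = IsLocalRing.maximalIdeal (Localization.AtPrime q) := by
          rw [← Localization.AtPrime.map_eq_maximalIdeal,
            ← congrArg (Ideal.map (algebraMap A (Localization.AtPrime q))) hrq]
          exact (IsLocalization.map_comap q.primeCompl _ P).symm
        rw [this]
        exact IsLocalRing.maximalIdeal.isMaximal _
      · exfalso
        have hqm : q < IsLocalRing.maximalIdeal A :=
          lt_of_le_of_ne (IsLocalRing.le_maximalIdeal hq.ne_top) fun e =>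
            hmax (e ▸ IsLocalRing.maximalIdeal.isMaximal A)
        have mem : ∀ (p : Ideal A) (hp : p.IsPrime), r ≤ p → (⟨p, hp⟩ : PrimeSpectrum A) ∈ Module.support A M :=
          fun p hp h => Module.mem_support_iff_of_finite.mpr (hr.trans h)
        let s : LTSeries (Module.support A M) :=
          (((RelSeries.singleton _ (⟨⟨r, hr'⟩, mem r hr' le_rfl⟩ : Module.support A M)).snoc
            ⟨⟨q, hq⟩, mem q hq hrq.le⟩ hrq).snoc
            ⟨⟨IsLocalRing.maximalIdeal A, inferInstance⟩,
              mem _ inferInstance (hrq.le.trans hqm.le)⟩ (by simp; exact hqm))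
        have : (s.length : WithBot ℕ∞) ≤ 1 := hdim ▸ Order.LTSeries.length_le_krullDim s
        simp [s] at this
    have hinj : Function.Injective (LocalizedModule.map q.primeCompl χ) :=
      LocalizedModule.map_injective _ _ hχi
    have hsurj := IsArtinian.surjective_of_injective_endomorphism _ hinj
    rw [Module.mem_support_iff'] at hqQ
    obtain ⟨z, hz⟩ := hqQ
    obtain ⟨y, rfl⟩ := Submodule.mkQ_surjective _ z
    obtain ⟨w, hw⟩ := hsurj (LocalizedModule.mk y 1)
    induction w using LocalizedModule.induction_on with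
    | _ m s =>
      rw [LocalizedModule.map_mk, LocalizedModule.mk_eq] at hw
      obtain ⟨u, hu⟩ := hw
      refine hz ((u : A) * s) (q.primeCompl.mul_mem u.2 s.2) ?_
      rw [Submodule.mkQ_apply, ← Submodule.Quotient.mk_smul, Submodule.Quotient.mk_eq_zero, mul_smul]
      refine ⟨(u : A) • m, ?_⟩
      rw [map_smul]
      simpa [Submonoid.smul_def] using hu
  exact lt_top_iff_ne_top.mpr Module.length_ne_top


/-- Let A be a Noetherian local ring, M a finite A-module of dimension 1, and φ, ψ : M → M injective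
with φ(ψ(M)) = ψ(φ(M)) (e.g. φ, ψ commute). Then length_A(M/φψM) is finite and (M/φψM, φ, ψ) is an
exact (2, 1)-periodic complex; here φ', ψ' denote the endomorphisms of M/φψM induced by φ and ψ, and
exactness says both cohomology modules (CycAlg.perH) are trivial. -/
theorem result {A : Type u} [CommRing A] [IsNoetherianRing A] [IsLocalRing A] {M : Type v} [AddCommGroup M] [Module A M] [Module.Finite A M] (hdim : Module.supportDim A M = 1) (φ ψ : M →ₗ[A] M) (hφ : Function.Injective φ) (hψ : Function.Injective ψ) (hcomm : Submodule.map φ (LinearMap.range ψ) = Submodule.map ψ (LinearMap.range φ)) (φ' ψ' : (M ⧸ LinearMap.range (φ ∘ₗ ψ)) →ₗ[A] (M ⧸ LinearMap.range (φ ∘ₗ ψ))) (hφ' : φ' ∘ₗ (LinearMap.range (φ ∘ₗ ψ)).mkQ = (LinearMap.range (φ ∘ₗ ψ)).mkQ ∘ₗ φ) (hψ' : ψ' ∘ₗ (LinearMap.range (φ ∘ₗ ψ)).mkQ = (LinearMap.range (φ ∘ₗ ψ)).mkQ ∘ₗ ψ) : Module.length A (M ⧸ LinearMap.range (φ ∘ₗ ψ)) < ⊤ ∧ CycAlg.IsPeriodic φ' ψ' ∧ Subsingleton (CycAlg.perH φ' ψ') ∧ Subsingleton (CycAlg.perH ψ' φ') := by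
  have e1 : ∀ x, φ' ((LinearMap.range (φ ∘ₗ ψ)).mkQ x) = (LinearMap.range (φ ∘ₗ ψ)).mkQ (φ x) :=
    LinearMap.congr_fun hφ'
  have e2 : ∀ x, ψ' ((LinearMap.range (φ ∘ₗ ψ)).mkQ x) = (LinearMap.range (φ ∘ₗ ψ)).mkQ (ψ x) :=
    LinearMap.congr_fun hψ'
  have hr : LinearMap.range (φ ∘ₗ ψ) = LinearMap.range (ψ ∘ₗ φ) := by
    rw [LinearMap.range_comp, LinearMap.range_comp, hcomm]
  have h0 : ∀ y, (LinearMap.range (φ ∘ₗ ψ)).mkQ y = 0 ↔ y ∈ LinearMap.range (φ ∘ₗ ψ) :=
    fun y => Submodule.Quotient.mk_eq_zero _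
  refine ⟨length_lt_top hdim φ ψ hφ hψ, ⟨?_, ?_⟩, ?_, ?_⟩
  · refine Submodule.linearMap_qext _ (LinearMap.ext fun x => ?_)
    show φ' (ψ' _) = 0
    rw [e2, e1, h0]
    exact ⟨x, rfl⟩
  · refine Submodule.linearMap_qext _ (LinearMap.ext fun x => ?_)
    show ψ' (φ' _) = 0
    rw [e1, e2, h0, hr]
    exact ⟨x, rfl⟩
  · refine Submodule.Quotient.subsingleton_iff.mpr (eq_top_iff.mpr ?_)
    rintro ⟨z, hz⟩ -
    obtain ⟨x, rfl⟩ := Submodule.mkQ_surjective _ z
    rw [LinearMap.mem_ker, e1, h0] at hz
    obtain ⟨w, hw⟩ := hz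
    exact ⟨(LinearMap.range (φ ∘ₗ ψ)).mkQ w, by rw [e2, hφ hw]; rfl⟩
  · refine Submodule.Quotient.subsingleton_iff.mpr (eq_top_iff.mpr ?_)
    rintro ⟨z, hz⟩ -
    obtain ⟨x, rfl⟩ := Submodule.mkQ_surjective _ z
    rw [LinearMap.mem_ker, e2, h0, hr] at hz
    obtain ⟨w, hw⟩ := hz
    exact ⟨(LinearMap.range (φ ∘ₗ ψ)).mkQ w, by rw [e1, hψ hw]; rfl⟩

end Groth.Agent.S6476
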