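import Groth.Statements.S6482
-- import your own Groth.Agent.* helpers here

set_option autoImplicit false
universe u
open CategoryTheory AlgebraicGeometry
open CategoryTheory.Limits
open Cyc

namespace Groth.Agent.S6482

section Aux
open AlgebraicGeometry

theorem residue_trivial {X Y : Scheme.{u}} (f : Y ⟶ X) (y : Y) (h : Function.Surjective (f.residueFieldMap y).hom) :
    (letI := (f.residueFieldMap y).hom.toAlgebra
     Algebra.trdeg (X.residueField (f y)) (Y.residueField y)) = 0 ∧ f.residueDegree y = 1 := by
  letI := (f.residueFieldMap y).hom.toAlgebra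
  have hb : Function.Bijective (algebraMap (X.residueField (f y)) (Y.residueField y)) :=
    ⟨RingHom.injective _, h⟩
  let e := LinearEquiv.ofBijective (Algebra.linearMap (X.residueField (f y)) (Y.residueField y)) hb
  refine ⟨?_, ?_⟩
  · haveI : Algebra.IsAlgebraic (X.residueField (f y)) (Y.residueField y) :=
      ⟨fun a => by obtain ⟨b, rfl⟩ := h a; exact isAlgebraic_algebraMap b⟩
    exact trdeg_eq_zero
  · show Module.finrank (X.residueField (f y)) (Y.residueField y) = 1
    rw [← e.finrank_eq, Module.finrank_self]

end Aux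

/-- Let f : Y → X be an envelope. Then f_* : Z_k(Y) → Z_k(X) is surjective, hence so is f_* : CH_k(Y) →
CH_k(X). An envelope is a proper, completely decomposed morphism (every point of the target has a
point over it with trivial residue field extension; this prelude's Cyc.IsCompletelyDecomposed). Here
a pair (X, δ) with Cyc.IsSetup plays the role of a scheme locally of finite type over the base (S,
δ) (X locally Noetherian with universally catenary local rings, δ a dimension function), and
Cyc.DeltaCompat records that the dimension function upstairs is the induced one. -/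
theorem result (X Y : Scheme.{u}) (δ : X → ℤ) (δY : Y → ℤ) (hX : Cyc.IsSetup X δ) (hY : Cyc.IsSetup Y δY) (f : Y ⟶ X) [IsProper f] (hcd : Cyc.IsCompletelyDecomposed f) (hδ : Cyc.DeltaCompat f δY δ) (k : ℤ) (α : AlgebraicCycle X ℤ) (hα : α ∈ Cyc.Zk X δ k) : ∃ β : AlgebraicCycle Y ℤ, β ∈ Cyc.Zk Y δY k ∧ AlgebraicCycle.map f δY δ β = α := by
  classical
  choose σ hσ hres using hcd
  have hfin : ∀ z : Y, ∃ t ∈ nhds z, Set.Finite (t ∩ Function.support fun y => if σ (f y) = y then α (f y) else 0) := by
    intro z
    obtain ⟨t, ht, hfin⟩ := α.locallyFiniteSupport (f z)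
    refine ⟨f ⁻¹' t, f.continuous.continuousAt.preimage_mem_nhds ht, (hfin.image σ).subset ?_⟩
    rintro y ⟨hy, hne⟩
    simp only [Function.mem_support, ne_eq, ite_eq_right_iff, Classical.not_imp] at hne
    exact ⟨f y, ⟨hy, hne.2⟩, hne.1⟩
  let β : AlgebraicCycle Y ℤ :=
    ⟨fun y => if σ (f y) = y then α (f y) else 0, Set.subset_univ _, fun z _ => hfin z⟩
  have hβ : ∀ y, β y = if σ (f y) = y then α (f y) else 0 := fun _ => rfl
  have hd : ∀ y, σ (f y) = y → δY y = δ (f y) ∧ f.residueDegree y = 1 := by
    intro y hy
    have hs : Function.Surjective (f.residueFieldMap y).hom := by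
      have := hres (f y)
      rwa [hy] at this
    obtain ⟨h0, h1⟩ := residue_trivial f y hs
    obtain ⟨n, hn, hδy⟩ := hδ y
    rw [h0] at hn
    have : n = 0 := by exact_mod_cast hn.symm
    exact ⟨by simp [hδy, this], h1⟩
  refine ⟨β, fun y hy => ?_, DFunLike.ext _ _ fun x => ?_⟩
  · rw [hβ]
    split_ifs with h
    · exact hα _ (fun he => hy ((hd y h).1.trans he))
    · rfl
  · rw [AlgebraicCycle.map, Function.locallyFinsupp.map_apply,
      finsum_eq_single _ (σ x) fun y hy => ?_]
    · have hy : σ (f (σ x)) = σ x := by rw [hσ]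
      have := hd _ hy
      rw [finsum_eq_if, if_pos (show σ x ∈ f ⁻¹' {x} from hσ x), hβ, if_pos hy, hσ, AlgebraicCycle.mapCoeff, if_pos this.1, this.2]
      simp
    · rw [finsum_eq_if]
      split_ifs with hm
      · rw [hβ, if_neg, zero_mul]
        intro he
        exact hy (by rw [← he, show f y = x from hm])
      · rfl

end Groth.Agent.S6482
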