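import Mathlib
import Groth.Statements.S6484
-- import your own Groth.Agent.* helpers here

set_option autoImplicit false
universe u
open CategoryTheory AlgebraicGeometry
open CategoryTheory.Limits
open Cyc

namespace Groth.Agent.S6484

set_option backward.isDefEq.respectTransparency false
set_option backward.isDefEq.respectTransparency.types false

/-- If f : Y → X is completely decomposed (this prelude's Cyc.IsCompletelyDecomposed: over every point
of X lies a point of Y with trivial residue field extension) and g : X' → X is any morphism of
schemes, then the base change Y ×_X X' → X' is completely decomposed. Consequently the base change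
of an envelope (a proper completely decomposed morphism) is an envelope, properness being preserved
by base change. (The published envelope statement takes X′ → X between schemes locally of finite
type over a base; this row allows any g.) -/
theorem result (X X' Y : Scheme.{u}) (f : Y ⟶ X) (g : X' ⟶ X) (hcd : Cyc.IsCompletelyDecomposed f) : Cyc.IsCompletelyDecomposed (pullback.snd f g) := by
  intro x'
  obtain ⟨y, hy, hsurj⟩ := hcd (g x')
  haveI : IsIso (f.residueFieldMap y) := (ConcreteCategory.isIso_iff_bijective _).2 ⟨(f.residueFieldMap y).hom.injective, hsurj⟩
  let φ : Y.residueField y ⟶ X'.residueField x' :=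
    inv (f.residueFieldMap y) ≫ (X.residueFieldCongr hy).hom ≫ g.residueFieldMap x'
  let a := Spec.map φ ≫ Y.fromSpecResidueField y
  have hw : a ≫ f = X'.fromSpecResidueField x' ≫ g := by
    have e1 : Spec.map φ ≫ Spec.map (f.residueFieldMap y) = Spec.map (g.residueFieldMap x') ≫ Spec.map (X.residueFieldCongr hy).hom := by
      rw [← Spec.map_comp, ← Spec.map_comp]
      congr 1
      simp [φ]
    simp only [a, Category.assoc]
    rw [← Scheme.Hom.SpecMap_residueFieldMap_fromSpecResidueField, reassoc_of% e1, Scheme.residueFieldCongr_fromSpecResidueField,
      Scheme.Hom.SpecMap_residueFieldMap_fromSpecResidueField]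
  let s : Spec (X'.residueField x') ⟶ pullback f g := pullback.lift a (X'.fromSpecResidueField x') hw
  have hs : s ≫ pullback.snd f g = X'.fromSpecResidueField x' := pullback.lift_snd _ _ _
  let pt : Spec (X'.residueField x') := IsLocalRing.closedPoint _
  refine ⟨s pt, ?_, ?_⟩
  · show (s ≫ pullback.snd f g) pt = x'
    rw [hs, Scheme.fromSpecResidueField_apply]
  · have h2 : Function.Surjective ((s ≫ pullback.snd f g).residueFieldMap pt).hom := by
      suffices ∀ (h : Spec (X'.residueField x') ⟶ X'), h = X'.fromSpecResidueField x' → Function.Surjective (h.residueFieldMap pt).hom from this _ hs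
      rintro _ rfl
      intro z
      obtain ⟨z', rfl⟩ := Scheme.residue_surjective _ _ z
      obtain ⟨w, rfl⟩ := (X'.fromSpecResidueField x').stalkMap_surjective pt z'
      exact ⟨X'.residue _ w, congrArg (fun q => q.hom w) (Scheme.residue_residueFieldMap (X'.fromSpecResidueField x') pt)⟩
    rw [Scheme.residueFieldMap_comp] at h2
    intro z
    obtain ⟨w, hw'⟩ := h2 ((s.residueFieldMap pt).hom z)
    exact ⟨w, (s.residueFieldMap pt).hom.injective hw'⟩

end Groth.Agent.S6484
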