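import Groth.Statements.S6495
import Groth.Agent.CycLimit.Basic

set_option autoImplicit false
universe u
open CategoryTheory AlgebraicGeometry
open Cyc

namespace Groth.Agent.S6495

/-- Surjectivity of colim Z_k(X_i) → Z_k(X'): every k-cycle α' on the limit X' is g_i^*α for some i and
some k-cycle α on X_i, where g_i : X' → X_i is the projection and g_i^* the shift-0 base-change
pullback on coefficient functions. Setting: a directed inverse system (X_i) of quasi-compact schemes
with affine flat transition morphisms and limit X' (a limit cone), each X_i and X' carrying a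
dimension function with Cyc.IsSetup, and every transition map and every projection X' → X_i shifting
the dimension functions by c = 0 at generic points of fibres, so that the base-change pullbacks g^*
are Cyc.pullFun with shift 0. (The published statement takes X_i and X′ to be the base changes of
one quasi-compact scheme of finite type over a base S along S_i → S and lim S_i → S; this row allows
any such inverse system.) -/
theorem result (I : Type u) [Preorder I] [IsDirected I (fun a b => a ≤ b)] [Nonempty I] (D : Iᵒᵖ ⥤ Scheme.{u}) (c : Limits.Cone D) (hc : Limits.IsLimit c) (haff : ∀ (i j : Iᵒᵖ) (f : i ⟶ j), IsAffineHom (D.map f)) (hflat : ∀ (i j : Iᵒᵖ) (f : i ⟶ j), Flat (D.map f)) (hqc : ∀ i, CompactSpace ↥(D.obj i)) (δ : (i : Iᵒᵖ) → ↥(D.obj i) → ℤ) (δ' : ↥c.pt → ℤ) (hset : ∀ i, Cyc.IsSetup (D.obj i) (δ i)) (hset' : Cyc.IsSetup c.pt δ') (hshift : ∀ (i j : Iᵒᵖ) (f : i ⟶ j) (x : ↥(D.obj i)), (∀ y, D.map f y = D.map f x → y ⤳ x → y = x) → δ i x = δ j (D.map f x)) (hflat' : ∀ i, Flat (c.π.app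 i)) (hshift' : ∀ (i : Iᵒᵖ) (x : ↥c.pt), (∀ y, c.π.app i y = c.π.app i x → y ⤳ x → y = x) → δ' x = δ i (c.π.app i x)) (k : ℤ) (α' : AlgebraicCycle c.pt ℤ) (hα' : α' ∈ Cyc.Zk c.pt δ' k) : ∃ (i : Iᵒᵖ) (α : AlgebraicCycle (D.obj i) ℤ), α ∈ Cyc.Zk (D.obj i) (δ i) k ∧ Cyc.pullFun (c.π.app i) δ' (δ i) 0 ⇑α = ⇑α' := by
  classical
  have : Nonempty Iᵒᵖ := ⟨Opposite.op (Classical.arbitrary I)⟩
  have : IsCofiltered Iᵒᵖ := inferInstance
  have : ∀ {i j : Iᵒᵖ} (f : i ⟶ j), IsAffineHom (D.map f) := fun f => haff _ _ f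
  have := hqc
  have : CompactSpace c.pt := Scheme.compactSpace_of_isLimit D c hc
  have hfin : (Function.support (⇑α' : c.pt → ℤ)).Finite := by
    simpa using α'.locallyFiniteSupport.finite_inter_support_of_isCompact (isCompact_univ (X := c.pt))
  have hstage : ∀ t : Finset c.pt, ∃ i : Iᵒᵖ, ∀ x ∈ t, CycLimit.Cuts (c.π.app i) x := by
    intro t
    induction t using Finset.induction_on with
    | empty => exact ⟨Classical.arbitrary _, by simp⟩
    | @insert a t _ ih =>
      obtain ⟨i₁, h₁⟩ := ih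
      obtain ⟨i₂, h₂⟩ := CycLimit.exists_cuts hc hset'.1 a
      let k := IsCofiltered.min i₁ i₂
      refine ⟨k, fun x hx => ?_⟩
      rcases Finset.mem_insert.mp hx with rfl | hx
      · exact CycLimit.cuts_of_comp _ _ (c.w (IsCofiltered.minToRight i₁ i₂)).symm h₂
      · exact CycLimit.cuts_of_comp _ _ (c.w (IsCofiltered.minToLeft i₁ i₂)).symm (h₁ x hx)
  obtain ⟨i, hi⟩ := hstage hfin.toFinset
  have hcut : ∀ x, α' x ≠ 0 → CycLimit.Cuts (c.π.app i) x := fun x hx => hi x (hfin.mem_toFinset.mpr hx)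
  have hinj : ∀ x y, α' x ≠ 0 → α' y ≠ 0 → c.π.app i x = c.π.app i y → x = y := fun x y hx hy h =>
    (((hcut x hx).1 y h.symm).antisymm ((hcut y hy).1 x h)).eq
  have hdim : ∀ x, α' x ≠ 0 → δ' x = δ i (c.π.app i x) := fun x hx => hshift' i x fun y hy hyx =>
    (hyx.antisymm ((hcut x hx).1 y hy)).eq
  let a : D.obj i → ℤ := fun z => if h : ∃ x, α' x ≠ 0 ∧ c.π.app i x = z then α' h.choose else 0
  have ha : ∀ x, α' x ≠ 0 → a (c.π.app i x) = α' x := fun x hx => by
    have h : ∃ x', α' x' ≠ 0 ∧ c.π.app i x' = c.π.app i x := ⟨x, hx, rfl⟩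
    simp only [a, dif_pos h]
    rw [hinj _ x h.choose_spec.1 hx h.choose_spec.2]
  have hsupp : Function.support a ⊆ c.π.app i '' Function.support (⇑α' : c.pt → ℤ) := by
    intro z hz
    by_cases h : ∃ x, α' x ≠ 0 ∧ c.π.app i x = z
    · exact ⟨_, h.choose_spec.1, h.choose_spec.2⟩
    · exact absurd (by simp only [a, dif_neg h]) hz
  let α : AlgebraicCycle (D.obj i) ℤ :=
    Function.locallyFinsuppWithin.mk a (Set.subset_univ _)
      (fun z _ => ⟨Set.univ, Filter.univ_mem, by simpa using (hfin.image _).subset hsupp⟩)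
  refine ⟨i, α, fun z hz => ?_, funext fun y => ?_⟩
  · by_contra h
    obtain ⟨x, hx, rfl⟩ := hsupp (show z ∈ Function.support a from h)
    exact hx (hα' x (by rw [hdim x hx]; exact hz))
  · show (if δ' y = δ i (c.π.app i y) + 0 then _ else 0) = α' y
    rw [add_zero]
    by_cases hy : α' y = 0
    · rw [hy]
      split_ifs with hd
      · suffices a (c.π.app i y) = 0 by
          show a (c.π.app i y) * _ = 0
          rw [this, zero_mul]
        by_contra h
        obtain ⟨x, hx, hxy⟩ := hsupp (show c.π.app i y ∈ Function.support a from h)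
        have hne : x ≠ y := fun e => hx (e ▸ hy)
        have := (hset'.2.2 x y ((hcut x hx).1 y hxy.symm) hne).1
        rw [hdim x hx, hxy, ← hd] at this
        exact lt_irrefl _ this
      · rfl
    · rw [if_pos (hdim y hy)]
      show a (c.π.app i y) * _ = α' y
      rw [ha y hy, (hcut y hy).2]
      have hl : Module.length (c.pt.presheaf.stalk y)
          (c.pt.presheaf.stalk y ⧸ IsLocalRing.maximalIdeal (c.pt.presheaf.stalk y)) = 1 :=
        Module.length_eq_one_iff.mpr (isSimpleModule_iff_isCoatom.mpr (IsLocalRing.maximalIdeal.isMaximal _).out)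
      erw [hl]
      simp

end Groth.Agent.S6495
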