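import Groth.Statements.S6496
import Groth.Agent.LimLib.Space
-- import your own Groth.Agent.* helpers here

set_option autoImplicit false
universe u
open CategoryTheory AlgebraicGeometry
open Cyc

namespace Groth.Agent.S6496

open CategoryTheory AlgebraicGeometry IsLocalRing in
/-- The primes of a local ring lying in the fibre. -/
lemma fibre_iff {X Y : Scheme.{u}} (f : X ⟶ Y) (x : X) (P : PrimeSpectrum (X.presheaf.stalk x)) :
    f (X.fromSpecStalk x P) = f x ↔
      Ideal.map (f.stalkMap x).hom (maximalIdeal (Y.presheaf.stalk (f x))) ≤ P.asIdeal := by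
  have e : f (X.fromSpecStalk x P) = Y.fromSpecStalk (f x) (Spec.map (f.stalkMap x) P) :=
    congrArg (fun g : Spec (X.presheaf.stalk x) ⟶ Y => g P)
      (Scheme.SpecMap_stalkMap_fromSpecStalk (f := f) (x := x)).symm
  rw [e]
  constructor
  · intro h
    have hc : Spec.map (f.stalkMap x) P = closedPoint (Y.presheaf.stalk (f x)) :=
      (Y.fromSpecStalk (f x)).isEmbedding.injective (h.trans (Scheme.fromSpecStalk_closedPoint).symm)
    exact Ideal.map_le_iff_le_comap.mpr (le_of_eq (congrArg PrimeSpectrum.asIdeal hc).symm)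
  · intro h
    have hc : Spec.map (f.stalkMap x) P = closedPoint (Y.presheaf.stalk (f x)) :=
      PrimeSpectrum.ext (le_antisymm (le_maximalIdeal (P.2.comap _).ne_top)
        (Ideal.map_le_iff_le_comap.mp h))
    rw [hc]
    exact Scheme.fromSpecStalk_closedPoint

open CategoryTheory AlgebraicGeometry IsLocalRing in
/-- The quotient ring at a generic point of a fibre has finite nonzero length. -/
lemma length_fibre_toNat_ne_zero {X Y : Scheme.{u}} [IsLocallyNoetherian X] (f : X ⟶ Y) (x : X)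
    (hx : ∀ y, f y = f x → y ⤳ x → y = x) :
    (Module.length (X.presheaf.stalk x) (X.presheaf.stalk x ⧸ Ideal.map (f.stalkMap x).hom
      (maximalIdeal (Y.presheaf.stalk (f x))))).toNat ≠ 0 := by
  let A := X.presheaf.stalk x
  let J : Ideal A := Ideal.map (f.stalkMap x).hom (maximalIdeal (Y.presheaf.stalk (f x)))
  have hJ : J ≤ maximalIdeal A :=
    Ideal.map_le_iff_le_comap.mpr fun a ha => map_nonunit (f.stalkMap x).hom a ha
  have hprime : ∀ P : PrimeSpectrum A, J ≤ P.asIdeal → P = closedPoint A := by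
    intro P hP
    apply (X.fromSpecStalk x).isEmbedding.injective
    rw [Scheme.fromSpecStalk_closedPoint]
    have hspec : X.fromSpecStalk x P ⤳ x := by
      have h : X.fromSpecStalk x P ∈ Set.range (X.fromSpecStalk x) := ⟨P, rfl⟩
      rwa [Scheme.range_fromSpecStalk] at h
    exact hx _ ((fibre_iff f x P).mpr hP) hspec
  have hdim : Ring.KrullDimLE 0 (A ⧸ J) := Ring.krullDimLE_zero_iff.mpr fun Q hQ => by
    have h := hprime ⟨Q.comap (Ideal.Quotient.mk J), hQ.comap _⟩
      (fun a ha => by simp [Ideal.mem_comap, Ideal.Quotient.eq_zero_iff_mem.mpr ha])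
    have hmax : (Q.comap (Ideal.Quotient.mk J)).IsMaximal := by
      rw [show Q.comap (Ideal.Quotient.mk J) = maximalIdeal A from congrArg PrimeSpectrum.asIdeal h]
      infer_instance
    rcases Ideal.map_eq_top_or_isMaximal_of_surjective (Ideal.Quotient.mk J) Ideal.Quotient.mk_surjective hmax
        with h' | h'
    · rw [Ideal.map_comap_of_surjective _ Ideal.Quotient.mk_surjective] at h'
      exact absurd h' hQ.ne_top
    · rwa [Ideal.map_comap_of_surjective _ Ideal.Quotient.mk_surjective] at h'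
  have : IsArtinianRing (A ⧸ J) := isArtinianRing_iff_krullDimLE_zero.mpr hdim
  have : IsArtinian A (A ⧸ J) := isArtinian_of_surjective_algebraMap (Ideal.Quotient.mk_surjective (I := J))
  have : Nontrivial (A ⧸ J) := Ideal.Quotient.nontrivial_iff.mpr fun h =>
    (maximalIdeal.isMaximal A).ne_top (eq_top_iff.mpr (h ▸ hJ))
  rw [Ne, ENat.toNat_eq_zero, not_or]
  exact ⟨fun h => not_subsingleton (A ⧸ J) (Module.length_eq_zero_iff.mp h), Module.length_ne_top⟩

open CategoryTheory AlgebraicGeometry in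
/-- A nonempty fibre has a generic point. -/
lemma exists_generic_point {X Y : Scheme.{u}} (f : X ⟶ Y) (x : X) :
    ∃ z : X, f z = f x ∧ ∀ w, f w = f z → w ⤳ z → w = z := by
  obtain ⟨Q₀, hQ₀, hmin⟩ : ∃ Q : PrimeSpectrum (X.presheaf.stalk x),
      Ideal.map (f.stalkMap x).hom (IsLocalRing.maximalIdeal (Y.presheaf.stalk (f x))) ≤ Q.asIdeal ∧
        ∀ Q' : PrimeSpectrum (X.presheaf.stalk x), Ideal.map (f.stalkMap x).hom (IsLocalRing.maximalIdeal (Y.presheaf.stalk (f x))) ≤ Q'.asIdeal →
          Q'.asIdeal ≤ Q.asIdeal → Q.asIdeal ≤ Q'.asIdeal := by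
    obtain ⟨Q, hQ, -⟩ := Ideal.exists_minimalPrimes_le
      (J := IsLocalRing.maximalIdeal (X.presheaf.stalk x))
      (Ideal.map_le_iff_le_comap.mpr fun a ha => map_nonunit (f.stalkMap x).hom a ha)
    exact ⟨⟨Q, hQ.1.1⟩, hQ.1.2, fun Q' h h' => hQ.2 ⟨Q'.2, h⟩ h'⟩
  refine ⟨X.fromSpecStalk x Q₀, (fibre_iff f x Q₀).mpr hQ₀, fun w hw hwz => ?_⟩
  have hwx : w ∈ Set.range (X.fromSpecStalk x) := by
    rw [Scheme.range_fromSpecStalk]
    exact hwz.trans (by
      have h : X.fromSpecStalk x Q₀ ∈ Set.range (X.fromSpecStalk x) := ⟨Q₀, rfl⟩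
      rwa [Scheme.range_fromSpecStalk] at h)
  obtain ⟨Q, rfl⟩ := hwx
  let Q' : PrimeSpectrum (X.presheaf.stalk x) := Q
  have hle : Q'.asIdeal ≤ Q₀.asIdeal := (PrimeSpectrum.le_iff_specializes Q' Q₀).mpr
    ((X.fromSpecStalk x).isEmbedding.isInducing.specializes_iff.mp hwz)
  exact congrArg (X.fromSpecStalk x) (PrimeSpectrum.ext (le_antisymm hle
    (hmin Q' ((fibre_iff f x Q').mp (hw.trans ((fibre_iff f x Q₀).mpr hQ₀))) hle)) : Q' = Q₀)

/-- Injectivity of colim Z_k(X_i) → Z_k(X'): if a k-cycle α on X_i pulls back to the zero cycle on X',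
then it pulls back to zero on some stage X_j above X_i. Setting: a directed inverse system (X_i) of
quasi-compact schemes with affine flat transition morphisms and limit X' (a limit cone), each X_i
and X' carrying a dimension function with Cyc.IsSetup, and every transition map and every projection
X' → X_i shifting the dimension functions by c = 0 at generic points of fibres, so that the
base-change pullbacks g^* are Cyc.pullFun with shift 0. (The published statement takes X_i and X′ to
be the base changes of one quasi-compact scheme of finite type over a base S along S_i → S and lim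
S_i → S; this row allows any such inverse system.) -/
theorem result (I : Type u) [Preorder I] [IsDirected I (fun a b => a ≤ b)] [Nonempty I] (D : Iᵒᵖ ⥤ Scheme.{u}) (c : Limits.Cone D) (hc : Limits.IsLimit c) (haff : ∀ (i j : Iᵒᵖ) (f : i ⟶ j), IsAffineHom (D.map f)) (hflat : ∀ (i j : Iᵒᵖ) (f : i ⟶ j), Flat (D.map f)) (hqc : ∀ i, CompactSpace ↥(D.obj i)) (δ : (i : Iᵒᵖ) → ↥(D.obj i) → ℤ) (δ' : ↥c.pt → ℤ) (hset : ∀ i, Cyc.IsSetup (D.obj i) (δ i)) (hset' : Cyc.IsSetup c.pt δ') (hshift : ∀ (i j : Iᵒᵖ) (f : i ⟶ j) (x : ↥(D.obj i)), (∀ y, D.map f y = D.map f x → y ⤳ x → y = x) → δ i x = δ j (D.map f x)) (hflat' : ∀ i, Flat (c.π.app i)) (hshift' : ∀ (i : Iᵒᵖ) (x : ↥c.pt), (∀ y, c.π.app i y = c.π.app i x → y ⤳ x → y = x) → δ' x = δ i (c.π.app i x)) (k : ℤ) (i : Iᵒᵖ) (α : AlgebraicCycle (D.obj i) ℤ) (hα : α ∈ Cyc.Zk (D.obj i) (δ i) k) (h0 : Cyc.pullFun (c.π.app i) δ' (δ i) 0 ⇑α = 0) : ∃ (j : Iᵒᵖ) (f : j ⟶ i), Cyc.pullFun (D.map f) (δ j) (δ i) 0 ⇑α = 0 := by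
  classical
  have hN : IsLocallyNoetherian c.pt := hset'.1
  have := fun (i j : Iᵒᵖ) (f : i ⟶ j) => haff i j f
  have : IsCofiltered Iᵒᵖ := inferInstance
  have hfin : (Function.support ⇑α).Finite := by
    have hcpt : IsCompact (Set.univ : Set ↥(D.obj i)) := @isCompact_univ _ _ (hqc i)
    choose t ht htfin using fun z => α.supportLocallyFiniteWithinDomain' z (Set.mem_univ _)
    obtain ⟨F, -, hF⟩ := hcpt.elim_nhds_subcover t fun z _ => ht z
    refine (Set.Finite.biUnion F.finite_toSet fun z _ => htfin z).subset fun y hy => ?_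
    obtain ⟨z, hz, hyz⟩ := Set.mem_iUnion₂.mp (hF (Set.mem_univ y))
    exact Set.mem_iUnion₂.mpr ⟨z, hz, hyz, hy⟩
  have hmiss : ∀ y, α y ≠ 0 → ∀ x, c.π.app i x ≠ y := by
    intro y hy x hx
    obtain ⟨z, hz, hzmin⟩ := exists_generic_point (c.π.app i) x
    have h := congrFun h0 z
    rw [Pi.zero_apply, Cyc.pullFun, if_pos (by rw [hshift' i z hzmin, add_zero])] at h
    rcases mul_eq_zero.mp h with h | h
    · exact hy (by rw [← hx, ← hz]; exact h)
    · exact length_fibre_toNat_ne_zero (X := c.pt) (c.π.app i) z hzmin (Int.natCast_eq_zero.mp h)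
  have hstage : ∀ y, α y ≠ 0 → ∃ (j : Iᵒᵖ) (f : j ⟶ i), ∀ x, D.map f x ≠ y := by
    intro y hy
    have he : IsEmpty ↥(Limits.pullback ((D.obj i).fromSpecResidueField y) (c.π.app i)) := by
      refine ⟨fun p => hmiss y hy (Limits.pullback.snd _ (c.π.app i) p) ?_⟩
      rw [← Scheme.Hom.comp_apply, ← Limits.pullback.condition, Scheme.Hom.comp_apply]
      exact Scheme.fromSpecResidueField_apply _ _
    obtain ⟨j, f, hj⟩ := LimLib.exists_isEmpty_pullback hc ((D.obj i).fromSpecResidueField y) he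
    refine ⟨j, f, fun x hx => hj.false ?_⟩
    exact (Scheme.Pullback.exists_preimage_pullback
      (IsLocalRing.closedPoint ((D.obj i).residueField y)) x
      ((Scheme.fromSpecResidueField_apply _ _).trans hx.symm)).choose
  choose J fJ hJ using hstage
  let S := hfin.toFinset.attach.image fun y => J y.1 (hfin.mem_toFinset.mp y.2)
  obtain ⟨j, hj⟩ := IsCofiltered.inf_objs_exists (insert i S)
  obtain ⟨f⟩ := hj (Finset.mem_insert_self i S)
  refine ⟨j, f, funext fun x => ?_⟩
  rw [Pi.zero_apply, Cyc.pullFun]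
  split_ifs
  · by_cases hy : α (D.map f x) = 0
    · rw [hy, zero_mul]
    · exfalso
      obtain ⟨g⟩ := hj (Finset.mem_insert_of_mem (a := J _ hy) (Finset.mem_image.mpr
        ⟨⟨_, hfin.mem_toFinset.mpr hy⟩, Finset.mem_attach _ _, rfl⟩))
      refine hJ _ hy (D.map g x) ?_
      rw [← Scheme.Hom.comp_apply, ← D.map_comp, Subsingleton.elim (g ≫ fJ _ hy) f]
  · rfl

end Groth.Agent.S6496
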