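import Groth.Statements.S6499
import Groth.Agent.QCohLib.Coherent
import Groth.Agent.QCohLib.StalkLoc
import Groth.Agent.Weighting.Geom
-- import your own Groth.Agent.* helpers here

set_option autoImplicit false
universe u
open CategoryTheory AlgebraicGeometry
open Cyc

namespace Groth.Agent.S6499

/-- Suppose X and Y are schemes locally of finite type over the base, and π : X → Y is a morphism
between them that is finite. Then π_* sends Coh_{≤k}(X) into Coh_{≤k}(Y): for F coherent on X with
dim_δ Supp(F) ≤ k, the direct image π_*F is coherent with dim_δ Supp(π_*F) ≤ k (Cyc.CohLe).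
(Exactness of π_* and the commutative diagram with the cycle maps are not restated; the latter is
the existing compatibility of [−]_k with π_*.) Here a pair (X, δ) with Cyc.IsSetup plays the role of
a scheme locally of finite type over the base (S, δ) (X locally Noetherian with universally catenary
local rings, δ a dimension function), and Cyc.DeltaCompat records that the dimension function
upstairs is the induced one. -/
theorem result (X Y : Scheme.{u}) (δX : X → ℤ) (δY : Y → ℤ) (hX : Cyc.IsSetup X δX) (hY : Cyc.IsSetup Y δY) (π : X ⟶ Y) [IsFinite π] (hδ : Cyc.DeltaCompat π δX δY) (k : ℤ) (F : X.Modules) (hF : Cyc.CohLe δX k F) : Cyc.CohLe δY k ((Coh.push π).obj F) := by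
    refine ⟨QCohLib.isCoh_pushforward π hF.1, fun y hy => ?_⟩
    let C : TopologicalSpace.Closeds Y :=
      ⟨π '' CohB1.support F, π.isClosedMap _ (QCohLib.isClosed_support hF.1.2)⟩
    have hyC : y ∈ C := by
      by_contra hc
      refine not_subsingleton_iff_nontrivial.mpr hy (subsingleton_of_forall_eq 0 fun z => ?_)
      let P := (Coh.push π).obj F
      obtain ⟨V, hxV, s, rfl⟩ := P.presheaf.exists_germ_eq z
      let V' : Y.Opens := V ⊓ ⟨(C : Set Y)ᶜ, C.isClosed.isOpen_compl⟩
      have hxV' : y ∈ V' := ⟨hxV, hc⟩
      rw [← TopCat.Presheaf.germ_res_apply P.presheaf (homOfLE (inf_le_left : V' ≤ V)) y hxV' s]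
      have h0 : P.presheaf.map (homOfLE (inf_le_left : V' ≤ V)).op s = 0 := by
        refine QCohLib.section_ext (M := F) (U := π ⁻¹ᵁ V') _ _ fun w hw => ?_
        have hs : Subsingleton (F.presheaf.stalk w) := by
          by_contra hns
          exact hw.2 ⟨w, hns, rfl⟩
        exact hs.elim _ _
      exact (congrArg _ h0).trans (map_zero _)
    obtain ⟨x, hx, rfl⟩ := hyC
    obtain ⟨n, hn, hδx⟩ := hδ x
    have hk := hF.2 x (not_subsingleton_iff_nontrivial.mp hx)
    letI := (π.residueFieldMap x).hom.toAlgebra
    haveI : Module.Finite (Y.residueField (π x)) (X.residueField x) :=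
      RingHom.finite_algebraMap.1 (Weighting.residueFieldMap_finite π x)
    have h0 : n = 0 := by
      have := hn.symm.trans (trdeg_eq_zero (R := Y.residueField (π x)) (A := X.residueField x))
      exact_mod_cast this
    omega

end Groth.Agent.S6499
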